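import Groth.Statements.S1878
import Groth.Agent.GrpdLib.Scheme
import Groth.Agent.GrpdLib.Points
-- import your own Groth.Agent.* helpers here

set_option autoImplicit false
universe u
open CategoryTheory CategoryTheory.Limits AlgebraicGeometry
open Grpd

namespace Groth.Agent.S1878


/-- Let (U, R, s, t, c) be a groupoid scheme over S with U, R affine and s, t finite locally free, and M
= Spec C. (1) U → M is surjective and two points of U have the same image iff some point of R has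
them as target and source. (2) For every algebraically closed field k, M(k) = U(k)/R(k): every
k-point of M lifts to U, and two k-points of U agree in M iff they are the target and source of a
k-point of R. (A groupoid scheme carries U, R, s, t, c, e, i over S with the groupoid axioms on
T-points; 'finite locally free' is finite, flat and locally of finite presentation; C ⊂ Γ(U) is the
ring of functions a with s♯(a) = t♯(a) and M = Spec C.) -/
theorem result (S : Scheme.{u}) (G : Grpd.GroupoidScheme S) [IsAffine G.U] [IsAffine G.R] [IsFinite G.s] [Flat G.s] [LocallyOfFinitePresentation G.s] [IsFinite G.t] [Flat G.t] [LocallyOfFinitePresentation G.t] : (Function.Surjective G.toQuot ∧ ∀ u₀ u₁ : G.U, G.toQuot u₀ = G.toQuot u₁ ↔ ∃ r : G.R, G.t r = u₀ ∧ G.s r = u₁) ∧ ∀ (k : Type u) [Field k] [IsAlgClosed k], (∀ m : Spec (CommRingCat.of k) ⟶ Spec (CommRingCat.of G.invariants), ∃ x : Spec (CommRingCat.of k) ⟶ G.U, x ≫ G.toQuot = m) ∧ ∀ x₀ x₁ : Spec (CommRingCat.of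 k) ⟶ G.U, x₀ ≫ G.toQuot = x₁ ≫ G.toQuot ↔ ∃ r : Spec (CommRingCat.of k) ⟶ G.R, r ≫ G.t = x₀ ∧ r ≫ G.s = x₁ := by
  let _ := G.s.appTop.hom.toAlgebra
  obtain ⟨_, _⟩ := GrpdLib.finite_projective G
  obtain ⟨E, hE⟩ := GrpdLib.exists_grd G
  have hinv : E.inv = G.invariants := by
    show RingHom.eqLocus G.s.appTop.hom E.t = _
    rw [hE]
    rfl
  have hQ : G.toQuot = G.U.isoSpec.hom ≫ Spec.map (CommRingCat.ofHom G.invariants.subtype) := rfl
  have hQu : ∀ u : G.U, (G.toQuot u).asIdeal =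
      (G.U.isoSpec.hom u).asIdeal.comap G.invariants.subtype := fun u => rfl
  have hst : ∀ (f : G.R ⟶ G.U) (r : G.R), (G.U.isoSpec.hom (f r)).asIdeal =
      (G.R.isoSpec.hom r).asIdeal.comap f.appTop.hom := by
    intro f r
    have := congrArg (fun φ => φ r) (Scheme.isoSpec_hom_naturality f)
    simp only [Scheme.Hom.comp_apply] at this
    rw [← this]
    rfl
  have hUbij := G.U.isoSpec.hom.homeomorph.bijective
  have hRbij := G.R.isoSpec.hom.homeomorph.bijective
  cases subsingleton_or_nontrivial Γ(G.U, ⊤) with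
  | inl h =>
    have hemp : IsEmpty G.U := ⟨fun u => (G.U.isoSpec.hom u).isPrime.ne_top (Subsingleton.elim _ _)⟩
    refine ⟨⟨fun m => ?_, fun u => isEmptyElim u⟩, fun k _ _ => ⟨fun m => ?_, fun x => ?_⟩⟩
    · exact absurd (Subsingleton.elim (1 : G.invariants) 0)
        fun h => m.isPrime.ne_top (Ideal.eq_top_of_isUnit_mem _ (h ▸ m.asIdeal.zero_mem) isUnit_one)
    · have : Subsingleton G.invariants := Subtype.val_injective.subsingleton
      have h1 := (Spec.preimage m).hom.map_one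
      rw [Subsingleton.elim (1 : G.invariants) 0, map_zero] at h1
      exact absurd h1 zero_ne_one
    · exact isEmptyElim (x (IsLocalRing.closedPoint k))
  | inr h =>
  refine ⟨⟨fun m => ?_, fun u₀ u₁ => ⟨fun hu => ?_, ?_⟩⟩, fun k _ _ => ?_⟩
  · have : Algebra.IsIntegral E.inv Γ(G.U, ⊤) := ⟨E.isIntegral⟩
    obtain ⟨P, -, hP, hPm⟩ := Ideal.exists_ideal_over_prime_of_isIntegral
      (m.asIdeal.comap (Subring.inclusion hinv.le)) (⊥ : Ideal Γ(G.U, ⊤)) (by
        rw [Ideal.comap_bot_of_injective _ Subtype.val_injective]; exact bot_le)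
    obtain ⟨u, hu⟩ := hUbij.2 ⟨P, hP⟩
    refine ⟨u, PrimeSpectrum.ext ?_⟩
    have hu' : (G.U.isoSpec.hom u).asIdeal = P := congrArg PrimeSpectrum.asIdeal hu
    rw [hQu, hu']
    ext x
    exact Ideal.ext_iff.mp hPm ⟨x.1, hinv.ge x.2⟩
  · have hu' := congrArg PrimeSpectrum.asIdeal hu
    rw [hQu, hQu, ← hinv] at hu'
    obtain ⟨Q, ⟨hQp, hQs⟩, hQt⟩ := E.mem_orbit_of_comap_eq _ _ hu'
    obtain ⟨r, hr⟩ := hRbij.2 ⟨Q, hQp⟩
    have hr' : (G.R.isoSpec.hom r).asIdeal = Q := congrArg PrimeSpectrum.asIdeal hr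
    refine ⟨r, hUbij.1 (PrimeSpectrum.ext ?_), hUbij.1 (PrimeSpectrum.ext ?_)⟩
    · show (G.U.isoSpec.hom (G.t r)).asIdeal = (G.U.isoSpec.hom u₀).asIdeal
      rw [hst, hr', ← hE]; exact hQt
    · show (G.U.isoSpec.hom (G.s r)).asIdeal = (G.U.isoSpec.hom u₁).asIdeal
      rw [hst, hr']; exact hQs.over.symm
  · rintro ⟨r, rfl, rfl⟩
    refine PrimeSpectrum.ext ?_
    rw [hQu, hQu, hst, hst]
    ext x
    simp only [Ideal.mem_comap, Subring.coe_subtype]
    rw [show G.t.appTop.hom x.1 = G.s.appTop.hom x.1 from x.2.symm]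
  · have hΓ : ∀ (x : Spec (CommRingCat.of k) ⟶ G.U),
        x ≫ G.toQuot = Spec.map (CommRingCat.ofHom G.invariants.subtype ≫ GrpdLib.toΓ x) := by
      intro x
      conv_lhs => rw [← GrpdLib.ofΓ_toΓ x]
      rw [hQ, GrpdLib.ofΓ, Category.assoc, Iso.inv_hom_id_assoc, Spec.map_comp]
    refine ⟨fun m => ?_, fun x₀ x₁ => ⟨fun hx => ?_, ?_⟩⟩
    · obtain ⟨x, hx⟩ := E.exists_point_lift ((Spec.preimage m).hom.comp (Subring.inclusion hinv.le))
      refine ⟨GrpdLib.ofΓ (CommRingCat.ofHom x), ?_⟩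
      rw [hΓ, GrpdLib.toΓ_ofΓ]
      conv_rhs => rw [← Spec.map_preimage m]
      congr 1
      ext b
      exact RingHom.congr_fun hx ⟨b.1, hinv.ge b.2⟩
    · rw [hΓ, hΓ] at hx
      have h' := Spec.map_injective hx
      obtain ⟨r, hr₀, hr₁⟩ := E.exists_point_of_agree (GrpdLib.toΓ x₀).hom (GrpdLib.toΓ x₁).hom
        fun b hb => congrArg (fun φ => φ.hom (⟨b, hinv.le hb⟩ : G.invariants)) h'
      refine ⟨GrpdLib.ofΓ (CommRingCat.ofHom r), ?_, ?_⟩
      · rw [GrpdLib.ofΓ_comp, ← GrpdLib.ofΓ_toΓ x₀]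
        congr 1
        ext a
        show r (G.t.appTop.hom a) = _
        rw [← hE]
        exact RingHom.congr_fun hr₀ a
      · rw [GrpdLib.ofΓ_comp, ← GrpdLib.ofΓ_toΓ x₁]
        congr 1
        ext a
        exact RingHom.congr_fun hr₁ a
    · rintro ⟨r, rfl, rfl⟩
      rw [hΓ, hΓ, GrpdLib.toΓ_comp, GrpdLib.toΓ_comp, ← Category.assoc, ← Category.assoc]
      congr 2
      ext a
      exact a.2.symm

end Groth.Agent.S1878
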