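import Groth.Statements.S1877
import Groth.Agent.GrpdLib.Scheme
-- import your own Groth.Agent.* helpers here

set_option autoImplicit false
universe u
open CategoryTheory CategoryTheory.Limits AlgebraicGeometry
open Grpd

namespace Groth.Agent.S1877

/-- Let (U, R, s, t, c) be a groupoid scheme over S with U and R affine, s and t finite locally free,
and j = (t, s) : R → U ×_S U a monomorphism (so an equivalence relation). Then U → M = Spec C is
finite locally free and (t, s) identifies R with U ×_M U. (The source's final clause, that M is the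
fppf quotient sheaf U/R, is not restated.) (A groupoid scheme carries U, R, s, t, c, e, i over S
with the groupoid axioms on T-points; 'finite locally free' is finite, flat and locally of finite
presentation; C ⊂ Γ(U) is the ring of functions a with s♯(a) = t♯(a) and M = Spec C.) -/
theorem result (S : Scheme.{u}) (G : Grpd.GroupoidScheme S) [IsAffine G.U] [IsAffine G.R] [IsFinite G.s] [Flat G.s] [LocallyOfFinitePresentation G.s] [IsFinite G.t] [Flat G.t] [LocallyOfFinitePresentation G.t] [Mono G.j] : (IsFinite G.toQuot ∧ Flat G.toQuot ∧ LocallyOfFinitePresentation G.toQuot) ∧ ∃ φ : G.R ≅ pullback G.toQuot G.toQuot, φ.hom ≫ pullback.fst G.toQuot G.toQuot = G.t ∧ φ.hom ≫ pullback.snd G.toQuot G.toQuot = G.s := by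
  let _ := G.s.appTop.hom.toAlgebra
  obtain ⟨hfin, hproj, E, hE⟩ := GrpdLib.exists_eqvRel G
  have hinv : E.inv = G.invariants := by
    show RingHom.eqLocus G.s.appTop.hom E.t = _
    rw [hE]
    rfl
  have hQ : G.toQuot = G.U.isoSpec.hom ≫ Spec.map (CommRingCat.ofHom G.invariants.subtype) := rfl
  -- transport the ring statements to the invariants of the groupoid
  obtain ⟨hflat, hf, hfp, hcomp⟩ : G.invariants.subtype.Flat ∧ G.invariants.subtype.Finite ∧
      G.invariants.subtype.FinitePresentation ∧
      ∀ _ : Unit, IsPushout (CommRingCat.ofHom G.invariants.subtype)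
        (CommRingCat.ofHom G.invariants.subtype) G.s.appTop G.t.appTop := by
    rw [← hinv]
    refine ⟨RingHom.flat_algebraMap_iff.mpr E.flat_inv,
      RingHom.finite_algebraMap.mpr E.finite_inv,
      RingHom.finitePresentation_algebraMap.mpr E.finitePresentation_inv, fun _ => ?_⟩
    have h := CommRingCat.isPushout_tensorProduct E.inv Γ(G.U, ⊤) Γ(G.U, ⊤)
    refine h.of_iso (Iso.refl _) (Iso.refl _) (Iso.refl _) E.compEquiv.toRingEquiv.toCommRingCatIso
      ?_ ?_ ?_ ?_
    · rfl
    · rfl
    · ext a
      show E.comp (a ⊗ₜ 1) = algebraMap Γ(G.U, ⊤) Γ(G.R, ⊤) a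
      rw [E.comp_tmul, map_one, mul_one]
    · ext a
      show E.comp (1 ⊗ₜ a) = G.t.appTop.hom a
      rw [E.comp_tmul, map_one, one_mul, hE]
  refine ⟨⟨?_, ?_, ?_⟩, ?_⟩
  · rw [hQ]
    have := (IsFinite.SpecMap_iff (CommRingCat.ofHom G.invariants.subtype)).mpr hf
    infer_instance
  · rw [hQ]
    have := (Flat.SpecMap_iff (f := CommRingCat.ofHom G.invariants.subtype)).mpr hflat
    infer_instance
  · rw [hQ]
    have := (LocallyOfFinitePresentation.SpecMap_iff
      (CommRingCat.ofHom G.invariants.subtype)).mpr hfp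
    infer_instance
  have hpb : IsPullback G.t G.s G.toQuot G.toQuot :=
    (isPullback_SpecMap_of_isPushout _ _ _ _ (hcomp ()).flip).of_iso G.R.isoSpec.symm G.U.isoSpec.symm
      G.U.isoSpec.symm (Iso.refl _) (Scheme.isoSpec_inv_naturality G.t)
      (Scheme.isoSpec_inv_naturality G.s) (by simp [hQ]) (by simp [hQ])
  exact ⟨hpb.isoPullback, hpb.isoPullback_hom_fst, hpb.isoPullback_hom_snd⟩

end Groth.Agent.S1877
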