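import Groth.Statements.S0112
import Mathlib
import Groth.Agent.FlatLib.DescendFP
-- import your own Groth.Agent.* helpers here

set_option autoImplicit false
universe u
open EtBase

namespace Groth.Agent.S0112

/-- Finite presentation of an R-algebra A can be tested after passing to an A-algebra B that is
faithfully flat and finitely presented over A: if B is finitely presented over R, then so is A. -/
theorem result {R A B : Type u} [CommRing R] [CommRing A] [CommRing B] [Algebra R A] [Algebra A B]
    [Algebra R B] [IsScalarTower R A B] [Algebra.FinitePresentation R B]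
    [Module.FaithfullyFlat A B] [Algebra.FinitePresentation A B] : Algebra.FinitePresentation R A := by
  obtain ⟨A₁, B₁, _, _, _, _, _, _, hA₁, hB₁, hff, hsurj, ⟨e⟩⟩ := FlatLib.exists_surjective_model R A B
  haveI := hA₁; haveI := hB₁; haveI := hff
  refine Algebra.FinitePresentation.of_surjective (f := IsScalarTower.toAlgHom R A₁ A) hsurj ?_
  show (RingHom.ker (algebraMap A₁ A)).FG
  letI : Algebra R B₁ := ((algebraMap A₁ B₁).comp (algebraMap R A₁)).toAlgebra
  haveI : IsScalarTower R A₁ B₁ := IsScalarTower.of_algebraMap_eq fun _ => rfl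
  haveI : Algebra.FinitePresentation R B₁ := Algebra.FinitePresentation.trans R A₁ B₁
  let φ : B₁ →ₐ[R] B := ((e.symm.restrictScalars R).toAlgHom).comp
    ((Algebra.TensorProduct.includeRight (R := A₁) (A := A) (B := B₁)).restrictScalars R)
  have hφ : Function.Surjective φ := fun x => by
    obtain ⟨w, hw⟩ : ∃ w, (Algebra.TensorProduct.includeRight (R := A₁) (A := A) (B := B₁)) w = e x :=
      Algebra.TensorProduct.includeRight_surjective (R := A₁) (S := A) B₁ hsurj (e x)
    refine ⟨w, ?_⟩
    show e.symm _ = x
    exact (congrArg e.symm hw).trans (e.symm_apply_apply x)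
  have hker := Algebra.FinitePresentation.ker_fG_of_surjective φ hφ
  refine Ideal.FG.of_FG_map_of_faithfullyFlat (S := B₁) ?_
  convert hker using 1
  have h1 : RingHom.ker φ.toRingHom =
      RingHom.ker (Algebra.TensorProduct.includeRight (R := A₁) (A := A) (B := B₁)).toRingHom := by
    ext b
    simp only [RingHom.mem_ker]
    exact map_eq_zero_iff _ e.symm.injective
  rw [h1]
  ext b
  let L := Algebra.TensorProduct.lid A₁ B₁
  have h2 : (Algebra.TensorProduct.includeRight (R := A₁) (A := A) (B := B₁)) b =
      Algebra.TensorProduct.map (Algebra.ofId A₁ A) (AlgHom.id A₁ B₁) (L.symm b) := by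
    rw [Algebra.TensorProduct.lid_symm_apply, Algebra.TensorProduct.map_tmul, map_one]
    rfl
  rw [RingHom.mem_ker, AlgHom.toRingHom_eq_coe, RingHom.coe_coe, h2, ← RingHom.mem_ker,
    Algebra.TensorProduct.rTensor_ker _ hsurj]
  have h3 : (RingHom.ker (algebraMap A₁ A)).map (algebraMap A₁ B₁) =
      ((RingHom.ker (Algebra.ofId A₁ A)).map
        (Algebra.TensorProduct.includeLeft : A₁ →ₐ[A₁] TensorProduct A₁ A₁ B₁)).map L.toRingHom := by
    refine Eq.trans ?_ (Ideal.map_map _ _).symm
    refine congrArg₂ Ideal.map (RingHom.ext fun r => ?_) rfl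
    show algebraMap A₁ B₁ r = L (r ⊗ₜ[A₁] (1 : B₁))
    rw [Algebra.TensorProduct.lid_tmul, ← Algebra.algebraMap_eq_smul_one]
  rw [h3]
  constructor
  · intro hb
    obtain ⟨y, hy, hyb⟩ := (Ideal.mem_map_iff_of_surjective L.toRingHom L.surjective).mp hb
    rw [← hyb]
    show L.symm (L y) ∈ _
    rw [AlgEquiv.symm_apply_apply]
    exact hy
  · intro hb
    rw [← L.apply_symm_apply b]
    exact Ideal.mem_map_of_mem L.toRingHom hb

end Groth.Agent.S0112
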