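import Groth.Statements.S0114
import Mathlib
import Groth.Agent.FlatLib.FppfSource
import Groth.Agent.S0112
-- import your own Groth.Agent.* helpers here

set_option autoImplicit false
open CategoryTheory CategoryTheory.Limits AlgebraicGeometry Opposite
universe u
open EtBase

namespace Groth.Agent.S0114

/-- Local finite presentation descends along an fppf cover of the source: if f is surjective, flat and
locally of finite presentation and f ≫ q is locally of finite presentation, then so is q. -/
theorem result {X Y S : Scheme.{u}} (f : X ⟶ Y) (q : Y ⟶ S) [Surjective f] [Flat f]
    [LocallyOfFinitePresentation f] [LocallyOfFinitePresentation (f ≫ q)] :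
    LocallyOfFinitePresentation q := by
  refine FlatLib.of_fppf_comp (P := @LocallyOfFinitePresentation) ?_ f q inferInstance
  intro R A B _ _ _ φ ψ h1 h2 h3
  algebraize [φ, ψ, ψ.comp φ]
  haveI : Algebra.FinitePresentation R B := h3
  haveI : Algebra.FinitePresentation A B := h1
  haveI : Module.FaithfullyFlat A B := h2
  exact Groth.Agent.S0112.result (R := R) (A := A) (B := B)

end Groth.Agent.S0114
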