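import Groth.Statements.S5939
import Mathlib
import Mathlib
-- import your own Groth.Agent.* helpers here

set_option autoImplicit false
universe u
open CategoryTheory AlgebraicGeometry
open Unram17

namespace Groth.Agent.S5939

/-- Let f : X ⟶ Y be faithfully flat, locally of finite presentation and quasi-compact, and let g : Y ⟶
Z be a morphism such that f ≫ g is of finite presentation (locally of finite presentation,
quasi-compact and quasi-separated). Then g is quasi-compact and quasi-separated; together with the
descent of local finite presentation along f this says that g is of finite presentation. This is the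
case f quasi-compact. -/
theorem result {X Y Z : Scheme.{u}} (f : X ⟶ Y) (g : Y ⟶ Z)
    [Surjective f] [Flat f] [LocallyOfFinitePresentation f] [QuasiCompact f]
    [LocallyOfFinitePresentation (f ≫ g)] [QuasiCompact (f ≫ g)] [QuasiSeparated (f ≫ g)] :
    QuasiCompact g ∧ QuasiSeparated g := by
  have key : ∀ {A B C : Scheme.{u}} (a : A ⟶ B) (b : B ⟶ C) [Surjective a] [QuasiCompact (a ≫ b)], QuasiCompact b ∧ True := by
    intro A B C a b _ _
    refine ⟨⟨fun U hU hUc => ?_⟩, trivial⟩
    have h1 : IsCompact (a '' ((a ≫ b) ⁻¹' U)) := (QuasiCompact.isCompact_preimage U hU hUc).image a.continuous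
    have h2 : a '' ((a ≫ b) ⁻¹' U) = b ⁻¹' U := by
      rw [Scheme.Hom.comp_base, TopCat.coe_comp, Set.preimage_comp]
      exact Set.image_preimage_eq _ a.surjective
    rwa [h2] at h1
  have hc : QuasiCompact g := (key f g).1
  refine ⟨hc, ⟨?_⟩⟩
  have hmap : QuasiCompact (Limits.pullback.map (f ≫ g) (f ≫ g) g g f f (𝟙 _) (by simp) (by simp)) :=
    MorphismProperty.pullbackMap (P := @QuasiCompact) inferInstance inferInstance rfl rfl
  have e : f ≫ Limits.pullback.diagonal g =
      Limits.pullback.diagonal (f ≫ g) ≫ Limits.pullback.map (f ≫ g) (f ≫ g) g g f f (𝟙 _) (by simp) (by simp) := by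
    apply Limits.pullback.hom_ext <;>
      simp only [Limits.pullback.map, Category.assoc, Limits.pullback.diagonal, Limits.pullback.lift_fst, Limits.pullback.lift_snd,
        Limits.pullback.lift_fst_assoc, Limits.pullback.lift_snd_assoc, Category.comp_id, Category.id_comp]
  haveI : QuasiCompact (f ≫ Limits.pullback.diagonal g) := by
    rw [e]; infer_instance
  exact (key f (Limits.pullback.diagonal g)).1

end Groth.Agent.S5939
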