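import Groth.Statements.S3404
import Groth.Agent.ProConsLib.Sch

set_option autoImplicit false
open CategoryTheory AlgebraicGeometry
universe u
open EGA41

namespace Groth.Agent.S3404

lemma isIndConstructible_of_isOpen {X : Scheme.{u}} {U : Set X} (hU : IsOpen U) :
    ProCons.IsIndConstructible U := by
  rw [ProConsLib.isIndConstructible_iff_affine]
  intro V hV
  have : IsAffine V.toScheme := hV
  refine (@isOpen_iff_forall_mem_open V.toScheme (constructibleTopology V.toScheme) _).mpr fun x hx => ?_
  obtain ⟨W, ⟨hWo, hWc⟩, hxW, hWU⟩ :=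
    PrespectralSpace.isTopologicalBasis.exists_subset_of_mem_open hx (hU.preimage V.ι.continuous)
  exact ⟨W, hWU, hWc.isOpen_constructibleTopology_of_isOpen hWo, hxW⟩


/-- Let f : X ⟶ Y be a morphism of schemes, x a point of X and y = f x. If f is open at x then every
generization of y is the image of a generization of x; when f is locally of finite presentation the
converse holds. -/
theorem result {X Y : Scheme.{u}} (f : X ⟶ Y) (x : X) :
    (EGA43.IsOpenAt f.base x → ∀ y' : Y, y' ⤳ f.base x → ∃ x' : X, x' ⤳ x ∧ f.base x' = y') ∧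
    (LocallyOfFinitePresentation f →
      ((EGA43.IsOpenAt f.base x) ↔ ∀ y' : Y, y' ⤳ f.base x → ∃ x' : X, x' ⤳ x ∧ f.base x' = y')) := by
  have h1 : EGA43.IsOpenAt f.base x → ∀ y' : Y, y' ⤳ f.base x → ∃ x' : X, x' ⤳ x ∧ f.base x' = y' := by
    intro hopen y' hy'
    have hcl : x ∈ closure (f.base ⁻¹' {y'}) := by
      refine mem_closure_iff.mpr fun O hO hxO => ?_
      obtain ⟨z, hz, hzy⟩ := mem_of_mem_nhds (x := y') (mem_interior_iff_mem_nhds.mp
        (hy'.mem_open isOpen_interior (mem_interior_iff_mem_nhds.mpr (hopen O (hO.mem_nhds hxO)))))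
      exact ⟨z, hz, hzy⟩
    obtain ⟨x', hx', hspec⟩ := ProConsLib.exists_specializes_of_mem_closure_sch
      (ProConsLib.isProConstructible_preimage f (ProConsLib.singleton_isProConstructible y')) hcl
    exact ⟨x', hspec, hx'⟩
  refine ⟨h1, fun hfp => ⟨h1, fun h N hN => ?_⟩⟩
  obtain ⟨O, hON, hO, hxO⟩ := mem_nhds_iff.mp hN
  refine Filter.mem_of_superset ?_ (Set.image_mono hON)
  rw [← mem_interior_iff_mem_nhds, ProConsLib.mem_interior_iff_forall_specializes
    (ProConsLib.isIndConstructible_image f (isIndConstructible_of_isOpen hO))]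
  intro y' hy'
  obtain ⟨x', hx', hxy⟩ := h y' hy'
  exact ⟨x', hx'.mem_open hO hxO, hxy⟩

end Groth.Agent.S3404
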