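import Groth.Prelude.Def_AlgGrp
import Mathlib.AlgebraicGeometry.Morphisms.Separated
import Mathlib.AlgebraicGeometry.Morphisms.Smooth
import Mathlib.AlgebraicGeometry.Morphisms.Finite
import Mathlib.AlgebraicGeometry.Morphisms.Proper
import Mathlib.AlgebraicGeometry.Morphisms.Flat

/-!
Shear maps of group scheme actions.
-/

universe u

open CategoryTheory MonoidalCategory CartesianMonoidalCategory Limits AlgebraicGeometry
open scoped MonObj

namespace GrpShear

variable {S : Scheme.{u}} {G X : Over S} [GrpObj G]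

section Points

variable (a : AlgGrp.Action G X) {T : Over S}

theorem lift_one_act (x : T ⟶ X) : lift (1 : T ⟶ G) x ≫ a.act = x := by
  have h := congrArg (lift (toUnit T) x ≫ ·) a.one_act
  simp only [lift_whiskerRight_assoc, lift_leftUnitor_hom] at h
  rw [MonObj.one_eq_one] at h
  simpa using h

theorem lift_mul_act (g h : T ⟶ G) (x : T ⟶ X) :
    lift (g * h) x ≫ a.act = lift g (lift h x ≫ a.act) ≫ a.act := by
  have e := congrArg (lift (lift g h) x ≫ ·) a.mul_act
  simp only [lift_whiskerRight_assoc, lift_lift_associator_hom_assoc, lift_whiskerLeft_assoc] at e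
  exact e

/-- `(t, x) ↦ (t, ψ t · x)`. -/
noncomputable def shear (ψ : T ⟶ G) : T ⊗ X ≅ T ⊗ X where
  hom := lift (fst T X) (lift (fst T X ≫ ψ) (snd T X) ≫ a.act)
  inv := lift (fst T X) (lift (fst T X ≫ ψ)⁻¹ (snd T X) ≫ a.act)
  hom_inv_id := by
    refine hom_ext _ _ (by simp) ?_
    rw [Category.assoc, lift_snd, comp_lift_assoc, GrpObj.comp_inv, ← Category.assoc (lift _ _) (fst T X) ψ, lift_fst,
      lift_snd, ← lift_mul_act, inv_mul_cancel, lift_one_act, Category.id_comp]
  inv_hom_id := by
    refine hom_ext _ _ (by simp) ?_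
    rw [Category.assoc, lift_snd, comp_lift_assoc, ← Category.assoc (lift _ _) (fst T X) ψ, lift_fst,
      lift_snd, ← lift_mul_act, mul_inv_cancel, lift_one_act, Category.id_comp]

theorem shear_hom_snd (ψ : T ⟶ G) : (shear a ψ).hom ≫ snd T X = (ψ ▷ X) ≫ a.act := by
  rw [shear, lift_snd]
  congr 1

theorem act_left_prop (P : MorphismProperty Scheme.{u}) [P.IsStableUnderBaseChange] [P.RespectsIso]
    (ψ : T ⟶ G) (h : P T.hom) : P ((ψ ▷ X) ≫ a.act).left := by
  rw [← shear_hom_snd, Over.comp_left]
  refine (P.cancel_left_of_respectsIso ((Over.forget S).mapIso (shear a ψ)).hom _).mpr ?_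
  rw [CategoryTheory.Over.snd_left]
  exact P.pullback_snd _ _ h

theorem act_prop (P : MorphismProperty Scheme.{u}) [P.IsStableUnderBaseChange] [P.RespectsIso]
    (h : P G.hom) : P a.act.left := by
  simpa using act_left_prop a P (𝟙 G) h

end Points

/-- Left translation. -/
def mulAction (G : Over S) [GrpObj G] : AlgGrp.Action G G where
  act := μ[G]
  one_act := MonObj.one_mul G
  mul_act := MonObj.mul_assoc G

end GrpShear
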