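import Groth.Statements.S9406
import Groth.Agent.S0565
import Mathlib.RingTheory.RingHom.Flat

set_option autoImplicit false
universe u
open CAlg

namespace Groth.Agent.S9406

/-- Regularity descends along faithfully flat ring maps: whenever S is a faithfully flat R-algebra whose
underlying ring is regular, the base ring R is regular as well. -/
theorem result (R : Type u) [CommRing R] (S : Type u) [CommRing S]
    [Algebra R S] [Module.FaithfullyFlat R S] [IsRegularRing S] : IsRegularRing R := by
  haveI : IsNoetherianRing R := by
    rw [isNoetherianRing_iff, isNoetherian_iff']
    exact (OrderEmbedding.ofMapLEIff (fun I : Ideal R => I.map (algebraMap R S)) fun a b =>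
      ⟨fun h => by
        simpa [Ideal.comap_map_eq_self_of_faithfullyFlat] using Ideal.comap_mono (f := algebraMap R S) h,
        Ideal.map_mono⟩).wellFoundedGT
  rw [isRegularRing_iff]
  intro p _
  obtain ⟨P, _, hP⟩ := Ideal.exists_isPrime_liesOver_of_faithfullyFlat (B := S) p
  haveI : IsRegularLocalRing (Localization.AtPrime P) := IsRegularRing.isRegularLocalRing_localization P
  let φ := Localization.localRingHom p P (algebraMap R S) hP.over
  letI := φ.toAlgebra
  haveI : IsLocalHom (algebraMap (Localization.AtPrime p) (Localization.AtPrime P)) :=
    Localization.isLocalHom_localRingHom p P (algebraMap R S) hP.over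
  haveI : Module.Flat (Localization.AtPrime p) (Localization.AtPrime P) :=
    RingHom.Flat.localRingHom (f := algebraMap R S) (RingHom.flat_algebraMap_iff.mpr inferInstance) P p hP.over
  exact Groth.Agent.S0565.result (Localization.AtPrime p) (Localization.AtPrime P)

end Groth.Agent.S9406
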