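import Groth.Statements.S12442
import Mathlib
-- import your own Groth.Agent.* helpers here

set_option autoImplicit false
universe u
open Mor

namespace Groth.Agent.S12442

open CategoryTheory CategoryTheory.Limits AlgebraicGeometry

theorem lfp_of_comp_lft {A B C : Scheme.{u}} (f : A ⟶ B) (g : B ⟶ C) [LocallyOfFiniteType g]
    [LocallyOfFinitePresentation (f ≫ g)] : LocallyOfFinitePresentation f := by
  rw [HasRingHomProperty.iff_exists_appLE (P := @LocallyOfFinitePresentation)
    ((RingHom.finitePresentation_stableUnderComposition.stableUnderCompositionWithLocalizationAway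
      RingHom.finitePresentation_holdsForLocalizationAway).1)]
  intro x
  obtain ⟨W, hW, hxW, -⟩ := exists_isAffineOpen_mem_and_subset (U := ⊤) (x := g (f x)) trivial
  obtain ⟨V, hV, hxV, hVW⟩ := exists_isAffineOpen_mem_and_subset (U := g ⁻¹ᵁ W) (x := f x) hxW
  obtain ⟨U, hU, hxU, hUV⟩ := exists_isAffineOpen_mem_and_subset (U := f ⁻¹ᵁ V) (x := x) hxV
  refine ⟨⟨V, hV⟩, ⟨U, hU⟩, hxU, hUV, ?_⟩
  have h1 := HasRingHomProperty.appLE (P := @LocallyOfFinitePresentation) (f ≫ g) ‹_› ⟨W, hW⟩ ⟨U, hU⟩
    (fun _ hy => hVW (hUV hy))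
  rw [← Scheme.Hom.appLE_comp_appLE f g W V U hVW hUV, CommRingCat.hom_comp] at h1
  exact RingHom.FinitePresentation.of_comp_finiteType _ h1
    (HasRingHomProperty.appLE (P := @LocallyOfFiniteType) g ‹_› ⟨W, hW⟩ ⟨V, hV⟩ hVW)

open AlgebraicGeometry CategoryTheory in
/-- Let f : X → Y and g : Y → S be morphisms of schemes. If the composite X → S is locally of finite
presentation and g is locally of finite type, then f is locally of finite presentation. -/
theorem result {X Y S : Scheme.{u}} (f : X ⟶ Y) (g : Y ⟶ S)
    [LocallyOfFinitePresentation (f ≫ g)] [LocallyOfFiniteType g] :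
    LocallyOfFinitePresentation f := by
  have hd : LocallyOfFinitePresentation (pullback.diagonal g) := by
    haveI : LocallyOfFinitePresentation (pullback.diagonal g ≫ pullback.fst g g) := by
      rw [pullback.diagonal_fst]; infer_instance
    exact lfp_of_comp_lft _ (pullback.fst g g)
  let Γf : X ⟶ pullback (f ≫ g) g := pullback.lift (𝟙 X) f (by simp)
  haveI : LocallyOfFinitePresentation Γf :=
    MorphismProperty.of_isPullback (pullback_lift_diagonal_isPullback f g) hd
  rw [show f = Γf ≫ pullback.snd _ _ from (pullback.lift_snd _ _ _).symm]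
  infer_instance

end Groth.Agent.S12442
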