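import Groth.Statements.S9696
import Groth.Agent.RichLib.UnramifiedLocus
import Mathlib

set_option autoImplicit false
universe u
open CategoryTheory CategoryTheory.Limits AlgebraicGeometry
open Mor

namespace Groth.Agent.S9696

open RichLib.UnrLocus TensorProduct in
theorem mem_locus_fst {X Y T : Scheme.{u}} (f : X ⟶ Y) [LocallyOfFiniteType f] (g : T ⟶ Y)
    (z : ↑(pullback f g)) (hz : z ∈ locus (pullback.snd f g)) : (pullback.fst f g).base z ∈ locus f := by
  have hfg : f.base ((pullback.fst f g).base z) = g.base ((pullback.snd f g).base z) := by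
    rw [← Scheme.Hom.comp_apply, pullback.condition, Scheme.Hom.comp_apply]
  obtain ⟨_, ⟨U : Y.Opens, hU, rfl⟩, hxU, -⟩ := Y.isBasis_affineOpens.exists_subset_of_mem_open
    (Set.mem_univ (f.base ((pullback.fst f g).base z))) isOpen_univ
  obtain ⟨_, ⟨V : X.Opens, hV, rfl⟩, hxV, hVU⟩ := X.isBasis_affineOpens.exists_subset_of_mem_open
    hxU (f ⁻¹ᵁ U).2
  obtain ⟨_, ⟨W : T.Opens, hW, rfl⟩, hzW, hWU⟩ := T.isBasis_affineOpens.exists_subset_of_mem_open
    (show (pullback.snd f g).base z ∈ g ⁻¹ᵁ U by show g.base _ ∈ U; rw [← hfg]; exact hxU) (g ⁻¹ᵁ U).2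
  letI := (f.appLE U V hVU).hom.toAlgebra
  letI := (g.appLE U W hWU).hom.toAlgebra
  haveI : Algebra.FiniteType Γ(Y, U) Γ(X, V) :=
    HasRingHomProperty.appLE (P := @LocallyOfFiniteType) f ‹_› ⟨U, hU⟩ ⟨V, hV⟩ hVU
  have hφ := hU.SpecMap_appLE_fromSpec f hV hVU
  have hψ := hU.SpecMap_appLE_fromSpec g hW hWU
  let α := Spec.map (CommRingCat.ofHom (algebraMap Γ(Y, U) Γ(X, V)))
  let β := Spec.map (CommRingCat.ofHom (algebraMap Γ(Y, U) Γ(T, W)))
  let m : pullback α β ⟶ pullback f g :=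
    pullback.map α β f g hV.fromSpec hW.fromSpec hU.fromSpec hφ hψ
  obtain ⟨q, hq⟩ : z ∈ Set.range m := by
    rw [Scheme.Pullback.range_map]
    exact ⟨by rw [Set.mem_preimage, hV.range_fromSpec]; exact hxV, by rw [Set.mem_preimage, hW.range_fromSpec]; exact hzW⟩
  subst hq
  have h1 : q ∈ locus (pullback.snd α β) := by
    rw [← mem_locus_comp_right_iff _ hW.fromSpec]
    have e : pullback.snd α β ≫ hW.fromSpec = m ≫ pullback.snd f g := (pullback.lift_snd _ _ _).symm
    rw [e, mem_locus_comp_left_iff]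
    exact hz
  let e := pullbackSymmetry α β ≪≫ pullbackSpecIso Γ(Y, U) Γ(T, W) Γ(X, V)
  have he1 : e.hom ≫ Spec.map (CommRingCat.ofHom (algebraMap Γ(T, W) (Γ(T, W) ⊗[Γ(Y, U)] Γ(X, V)))) =
      pullback.snd α β := by
    show (_ ≫ (pullbackSpecIso Γ(Y, U) Γ(T, W) Γ(X, V)).hom) ≫ _ = _
    rw [Category.assoc]
    erw [pullbackSpecIso_hom_fst]
    exact pullbackSymmetry_hom_comp_fst _ _
  have he2 : e.hom ≫ Spec.map (CommRingCat.ofHom (Algebra.TensorProduct.includeRight.toRingHom :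
      Γ(X, V) →+* Γ(T, W) ⊗[Γ(Y, U)] Γ(X, V))) = pullback.fst α β := by
    show (_ ≫ (pullbackSpecIso Γ(Y, U) Γ(T, W) Γ(X, V)).hom) ≫ _ = _
    rw [Category.assoc]
    erw [pullbackSpecIso_hom_snd]
    exact pullbackSymmetry_hom_comp_snd _ _
  rw [← he1, mem_locus_comp_left_iff] at h1
  have h1' := (mem_locus_spec_iff (e.hom.base q)).mp h1
  rw [mem_unramifiedLocus_tensor_iff, ← mem_locus_spec_iff] at h1'
  have h2 : (pullback.fst α β).base q ∈ locus α := by rw [← he2]; exact h1'
  have h3 : (pullback.fst f g).base (m.base q) = hV.fromSpec.base ((pullback.fst α β).base q) := by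
    rw [← Scheme.Hom.comp_apply, ← Scheme.Hom.comp_apply]
    exact congrArg (fun φ : pullback α β ⟶ X => φ.base q) (pullback.lift_fst _ _ _)
  rw [h3, ← mem_locus_comp_left_iff]
  erw [← hφ, mem_locus_comp_right_iff]
  exact h2


/-- Let f : X ⟶ S be flat and locally of finite presentation and g : S' ⟶ S any morphism, with base
change f' : X ×_S S' ⟶ S' and projection g' : X ×_S S' ⟶ X. Then the open set of points where f' is
etale is the inverse image under g' of the open set of points where f is etale. -/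
theorem result {X S S' : Scheme.{u}} (f : X ⟶ S) [Flat f]
    [LocallyOfFinitePresentation f] (g : S' ⟶ S) (x' : ↑(pullback f g)) :
    (∃ U' : (pullback f g).Opens, x' ∈ U' ∧ Etale (U'.ι ≫ pullback.snd f g)) ↔
      (∃ U : X.Opens, (pullback.fst f g).base x' ∈ U ∧ Etale (U.ι ≫ f)) := by
  constructor
  · rintro ⟨U', hx, hU'⟩
    haveI := hU'
    obtain ⟨U, hxU, hU⟩ := mem_locus_fst f g x' ⟨U', hx, inferInstance⟩
    haveI := hU
    exact ⟨U, hxU, Etale.of_formallyUnramified_of_flat _⟩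
  · rintro ⟨U, hxU, hU⟩
    refine ⟨(pullback.fst f g) ⁻¹ᵁ U, hxU, ?_⟩
    exact MorphismProperty.of_isPullback
      ((isPullback_morphismRestrict (pullback.fst f g) U).flip.paste_horiz
        (IsPullback.of_hasPullback f g).flip).flip hU
end Groth.Agent.S9696
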