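import Groth.Statements.S5223
import Groth.Agent.S2758
-- import your own Groth.Agent.* helpers here

set_option autoImplicit false
open CategoryTheory CategoryTheory.Limits AlgebraicGeometry
universe u
open GrpQ

namespace Groth.Agent.S5223

/-- In a cartesian square of schemes `F₂ = F₁ ×_{X₀} X₁` whose bottom map `u : X₁ ⟶ X₀` is flat, the
base-changed map `d' : F₂ ⟶ X₁` is flat at a point `x` if and only if `d : F₁ ⟶ X₀` is flat at the
image of `x` in `F₁`. -/
theorem result {F₂ F₁ X₁ X₀ : Scheme.{u}}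
    {v : F₂ ⟶ F₁} {d' : F₂ ⟶ X₁} {d : F₁ ⟶ X₀} {u : X₁ ⟶ X₀}
    (h : IsPullback v d' d u) [Flat u] (x : F₂) :
    (d'.stalkMap x).hom.Flat ↔ (d.stalkMap (v.base x)).hom.Flat := by
  haveI : Flat v := MorphismProperty.of_isPullback h.flip ‹Flat u›
  constructor
  · intro hd'
    have hc : ((v ≫ d).stalkMap x).hom.Flat := by
      rw [Scheme.Hom.stalkMap_congr_hom _ _ h.w x, Scheme.Hom.stalkMap_comp]
      refine Groth.Agent.S2758.flat_comp _ _ (RingHom.Flat.of_bijective
        ((ConcreteCategory.isIso_iff_bijective _).mp inferInstance)) ?_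
      exact Groth.Agent.S2758.flat_comp _ _ (Flat.stalkMap u _) hd'
    rw [Scheme.Hom.stalkMap_comp] at hc
    have hv := Flat.stalkMap v x
    algebraize [(d.stalkMap (v.base x)).hom, (v.stalkMap x).hom,
      (v.stalkMap x).hom.comp (d.stalkMap (v.base x)).hom]
    haveI : Module.FaithfullyFlat (F₁.presheaf.stalk (v.base x)) (F₂.presheaf.stalk x) :=
      @Module.FaithfullyFlat.of_flat_of_isLocalHom _ _ _ _ _ _ _ hv (v.toLRSHom.prop x)
    haveI : Module.Flat (X₀.presheaf.stalk (d (v.base x))) (F₂.presheaf.stalk x) := hc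
    exact AlgSpLib.flat_of_faithfullyFlat_comp _ _ (F₂.presheaf.stalk x)
  · intro hd
    let e := h.flip.isoPullback
    have h1 : e.hom ≫ pullback.fst u d = d' := h.flip.isoPullback_hom_fst
    have h2 : e.hom ≫ pullback.snd u d = v := h.flip.isoPullback_hom_snd
    have hd2 : (d.stalkMap ((pullback.snd u d).base (e.hom.base x))).hom.Flat := by
      have key : ∀ z, z = v.base x → (d.stalkMap z).hom.Flat := fun z hz => by
        subst hz
        exact hd
      exact key _ (congrArg (fun φ : F₂ ⟶ F₁ => φ.base x) h2)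
    have h3 := Groth.Agent.S2758.flat_fst_stalkMap u d (e.hom.base x) hd2
    have h4 : ((e.hom ≫ pullback.fst u d).stalkMap x).hom.Flat := by
      rw [Scheme.Hom.stalkMap_comp]
      exact Groth.Agent.S2758.flat_comp _ _ h3 (RingHom.Flat.of_bijective
        ((ConcreteCategory.isIso_iff_bijective (e.hom.stalkMap x)).mp inferInstance))
    rwa [h1] at h4

end Groth.Agent.S5223
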