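import Groth.Statements.S1302
import Groth.Agent.ChevLib.Main
-- import your own Groth.Agent.* helpers here

set_option autoImplicit false
universe u
open FlatMor

namespace Groth.Agent.S1302

open AlgebraicGeometry CategoryTheory Limits in
/-- For a morphism of thickenings, that is a commutative square whose horizontal maps are thickenings
(closed immersions that are surjective on points), the morphism between the thin schemes is affine
if and only if the morphism between the thick ones is. -/
theorem result {X X' S S' : Scheme.{u}} (iX : X ⟶ X') (iS : S ⟶ S') (f : X ⟶ S) (f' : X' ⟶ S')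
    (hX : MoreMor.IsThickening iX) (hS : MoreMor.IsThickening iS) (w : iX ≫ f' = f ≫ iS) :
    IsAffineHom f ↔ IsAffineHom f' := by
  obtain ⟨_, _⟩ := hX
  obtain ⟨_, _⟩ := hS
  constructor
  · intro h
    refine ⟨fun V hV => ?_⟩
    have hW : IsAffineOpen (iX ⁻¹ᵁ (f' ⁻¹ᵁ V)) := by
      rw [← Scheme.Hom.comp_preimage, w, Scheme.Hom.comp_preimage]
      exact (hV.preimage iS).preimage f
    have : IsAffine ↑(iX ⁻¹ᵁ (f' ⁻¹ᵁ V)) := hW
    have : Surjective (iX ∣_ (f' ⁻¹ᵁ V)) :=
      IsZariskiLocalAtTarget.restrict ‹Surjective iX› _
    exact ChevLib.isAffine_of_surjective_universallyClosed (iX ∣_ (f' ⁻¹ᵁ V))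
  · intro h
    have : IsAffineHom (f ≫ iS) := by rw [← w]; infer_instance
    exact MorphismProperty.of_postcomp (W := @IsAffineHom) (W' := @IsSeparated) f iS
      inferInstance this

end Groth.Agent.S1302
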