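import Groth.Statements.S2080
import Groth.Agent.MiscFlat6.GenericFibre
-- import your own Groth.Agent.* helpers here

set_option autoImplicit false
universe u
open CategoryTheory AlgebraicGeometry
open Mor

namespace Groth.Agent.S2080

/-- Let `f : X → Y` be locally of finite type, quasi-compact and quasi-separated, and `η` a generic
point of an irreducible component of `Y`. Then `f⁻¹{η}` is finite if and only if there is an affine
open `V ∋ η` such that `f⁻¹(V) → V` is finite. -/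
theorem result {X Y : Scheme.{u}} (f : X ⟶ Y) [LocallyOfFiniteType f]
    [QuasiCompact f] [QuasiSeparated f] (η : Y) (hη : closure {η} ∈ irreducibleComponents (Y : Type u)) :
    (f.base ⁻¹' {η}).Finite ↔ ∃ V : Y.Opens, IsAffineOpen V ∧ η ∈ V ∧ IsFinite (f ∣_ V) := by
  constructor
  · intro hfib
    have hmin : ∀ x, x ⤳ η → x = η := fun x hx => by
      have hsub : closure {η} ⊆ closure ({x} : Set Y) :=
        closure_minimal (Set.singleton_subset_iff.mpr hx.mem_closure) isClosed_closure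
      exact ((hη.2 isIrreducible_singleton.closure hsub).antisymm hsub |>.trans rfl |> fun h =>
        (inseparable_iff_closure_eq.mpr h).eq)
    obtain ⟨_, ⟨U₀, hU₀, rfl⟩, hηU₀, -⟩ := Y.isBasis_affineOpens.exists_subset_of_mem_open (Set.mem_univ η) isOpen_univ
    haveI : IsAffine (U₀ : Scheme.{u}) := hU₀
    haveI : LocallyOfFiniteType (f ∣_ U₀) := IsZariskiLocalAtTarget.restrict ‹_› U₀
    haveI : QuasiCompact (f ∣_ U₀) := IsZariskiLocalAtTarget.restrict ‹_› U₀
    haveI : QuasiSeparated (f ∣_ U₀) := IsZariskiLocalAtTarget.restrict ‹_› U₀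
    let η₀ : (U₀ : Scheme.{u}) := ⟨η, hηU₀⟩
    have hmin₀ : ∀ x, x ⤳ η₀ → x = η₀ := fun x hx => Subtype.ext (hmin _ ((subtype_specializes_iff _ _).mp hx))
    have hfib₀ : ((f ∣_ U₀).base ⁻¹' {η₀}).Finite := by
      refine Set.Finite.subset (hfib.preimage (f ⁻¹ᵁ U₀).ι.isOpenEmbedding.injective.injOn) fun z hz => ?_
      show f.base z.1 = η
      rw [← morphismRestrict_base_coe f U₀ z, show (f ∣_ U₀).base z = η₀ from hz]
    obtain ⟨h, hηh, n, V, hcov, hfin⟩ := MiscFlat6.exists_pieces (f ∣_ U₀) η₀ hmin₀ hfib₀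
    let U₁ := (U₀ : Scheme.{u}).basicOpen h
    haveI : IsAffine (U₁ : Scheme.{u}) := (isAffineOpen_top (U₀ : Scheme.{u})).basicOpen h
    haveI : QuasiSeparated ((f ∣_ U₀) ∣_ U₁) := IsZariskiLocalAtTarget.restrict ‹_› U₁
    let g := (f ∣_ U₀) ∣_ U₁
    let η₁ : (U₁ : Scheme.{u}) := ⟨η₀, hηh⟩
    have hopen : IsOpen (⋂ i, ⋂ j, (MiscFlat6.badSet g V i j)ᶜ) :=
      isOpen_iInter_of_finite fun i => isOpen_iInter_of_finite fun j =>
        (MiscFlat6.isClosed_badSet g V hfin i j).isOpen_compl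
    have hmem : η₁ ∈ ⋂ i, ⋂ j, (MiscFlat6.badSet g V i j)ᶜ := Set.mem_iInter₂.mpr fun i j =>
      MiscFlat6.notMem_badSet g V hfin η₁ (fun x hx => Subtype.ext (hmin₀ _ ((subtype_specializes_iff _ _).mp hx))) i j
    obtain ⟨_, ⟨U₂, hU₂, rfl⟩, hηU₂, hU₂le⟩ :=
      (U₁ : Scheme.{u}).isBasis_affineOpens.exists_subset_of_mem_open hmem hopen
    have hfinU : IsFinite (g ∣_ U₂) := MiscFlat6.isFinite_restrict_of_avoid g V hcov hfin U₂ hU₂ fun i j w hw =>
      Set.mem_iInter₂.mp (hU₂le hw) i j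
    refine ⟨Scheme.Opens.ι U₀ ''ᵁ (Scheme.Opens.ι U₁ ''ᵁ U₂), ?_, ⟨η₀, ⟨η₁, hηU₂, rfl⟩, rfl⟩, ?_⟩
    · exact (Scheme.Hom.isAffineOpen_iff_of_isOpenImmersion _).mpr
        ((Scheme.Hom.isAffineOpen_iff_of_isOpenImmersion _).mpr hU₂)
    · rw [← MorphismProperty.arrow_mk_iso_iff @IsFinite (morphismRestrictRestrict f U₀ (Scheme.Opens.ι U₁ ''ᵁ U₂)),
        ← MorphismProperty.arrow_mk_iso_iff @IsFinite (morphismRestrictRestrict (f ∣_ U₀) U₁ U₂)]
      exact hfinU
  · rintro ⟨V, -, hηV, hfin⟩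
    refine Set.Finite.subset (((f ∣_ V).finite_preimage_singleton ⟨η, hηV⟩).image (f ⁻¹ᵁ V).ι.base) ?_
    intro x hx
    refine ⟨⟨x, show f.base x ∈ V from (show f.base x = η from hx).symm ▸ hηV⟩, Subtype.ext ?_, rfl⟩
    rw [morphismRestrict_base_coe]
    exact hx

end Groth.Agent.S2080
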