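import Groth.Statements.S0542
import Groth.Agent.CompleteLib.Noetherian

set_option autoImplicit false
universe u
open CAlg

namespace Groth.Agent.S0542

/-- If `I` is a finitely generated ideal of a ring `R` and `R/I` is Noetherian, then the `I`-adic
completion of `R` is a Noetherian ring. (The source also states completeness of the completion along
the extended ideal, which Mathlib already has; only Noetherianity is stated here.) -/
theorem result (R : Type u) [CommRing R] (I : Ideal R)
    (hI : I.FG) [IsNoetherianRing (R ⧸ I)] : IsNoetherianRing (AdicCompletion I R) := by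
  have : IsAdicComplete (I.map (algebraMap R (AdicCompletion I R))) (AdicCompletion I R) :=
    (IsAdicComplete.map_algebraMap_iff _ _).mpr (AdicCompletion.isAdicComplete hI)
  let φ : R →+* AdicCompletion I R ⧸ I.map (algebraMap R (AdicCompletion I R)) :=
    (Ideal.Quotient.mk _).comp (algebraMap R _)
  have hφ : ∀ a ∈ I, φ a = 0 := fun a ha =>
    Ideal.Quotient.eq_zero_iff_mem.mpr (Ideal.mem_map_of_mem _ ha)
  have : IsNoetherianRing (AdicCompletion I R ⧸ I.map (algebraMap R (AdicCompletion I R))) := by
    refine isNoetherianRing_of_surjective (R ⧸ I) _ (Ideal.Quotient.lift I φ hφ) fun z => ?_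
    obtain ⟨x, rfl⟩ := Ideal.Quotient.mk_surjective z
    obtain ⟨c, hc⟩ := Submodule.Quotient.mk_surjective (I ^ 1 • ⊤ : Submodule R R) (x.val 1)
    refine ⟨Ideal.Quotient.mk I c, ?_⟩
    rw [Ideal.Quotient.lift_mk, RingHom.comp_apply, eq_comm, Ideal.Quotient.mk_eq_mk_iff_sub_mem]
    have hmem : x - algebraMap R _ c ∈ (I ^ 1 • ⊤ : Submodule R (AdicCompletion I R)) := by
      rw [AdicCompletion.pow_smul_top_eq_ker_eval hI, LinearMap.mem_ker, map_sub, sub_eq_zero,
        AdicCompletion.eval_apply, AdicCompletion.eval_apply, ← hc]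
      rfl
    rw [pow_one, Ideal.smul_top_eq_map] at hmem
    exact hmem
  exact CompleteLib.isNoetherianRing_of_isAdicComplete (I.map (algebraMap R (AdicCompletion I R))) (hI.map _)

end Groth.Agent.S0542
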