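import Groth.Statements.S17754
import Mathlib.RingTheory.AdicCompletion.Basic
import Mathlib.RingTheory.AdicCompletion.Noetherian
import Mathlib.RingTheory.Filtration
import Mathlib.RingTheory.Artinian.Module
import Mathlib.RingTheory.HopkinsLevitzki
import Mathlib.RingTheory.KrullDimension.Zero

set_option autoImplicit false
universe u
open CAlg

namespace Groth.Agent.S17754

/-- Let R be a complete Noetherian local ring with maximal ideal m, and let I_0 ⊇ I_1 ⊇ I_2 ⊇ ⋯ be a
descending sequence of ideals of R whose intersection is zero. Then for every natural number n there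
is an index s with I_s contained in m^n; that is, the filtration by the I_s is at least as fine as
the m-adic one. -/
theorem result (R : Type u) [CommRing R] [IsNoetherianRing R] [IsLocalRing R] [IsAdicComplete (IsLocalRing.maximalIdeal R) R] (I : ℕ → Ideal R) (hI : Antitone I) (hinf : ⨅ s, I s = ⊥) (n : ℕ) : ∃ s : ℕ, I s ≤ IsLocalRing.maximalIdeal R ^ n := by
  classical
  set m := IsLocalRing.maximalIdeal R
  have hart : ∀ j, IsArtinianRing (R ⧸ m ^ j) := fun j => by
    refine isArtinianRing_iff_isNoetherianRing_krullDimLE_zero.2 ⟨inferInstance, ?_⟩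
    refine Ring.KrullDimLE.mk₀ fun P hP => ?_
    have h2 : P.comap (Ideal.Quotient.mk (m ^ j)) = m := by
      refine ((IsLocalRing.maximalIdeal.isMaximal R).eq_of_le (Ideal.IsPrime.ne_top (hP.comap _))
        fun z hz => (hP.comap _).mem_of_pow_mem j ?_).symm
      rw [Ideal.mem_comap, Ideal.Quotient.eq_zero_iff_mem.2 (Ideal.pow_mem_pow hz j)]
      exact zero_mem _
    rw [← Ideal.map_comap_of_surjective (Ideal.Quotient.mk (m ^ j)) Ideal.Quotient.mk_surjective P, h2]
    refine Ideal.IsMaximal.map_of_surjective_of_ker_le Ideal.Quotient.mk_surjective ?_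
    rw [Ideal.mk_ker]
    intro z hz
    refine h2.le ?_
    rw [Ideal.mem_comap, Ideal.Quotient.eq_zero_iff_mem.2 hz]
    exact zero_mem _
  have hstab : ∀ j, ∃ s₀, ∀ s, s₀ ≤ s → I s ⊔ m ^ j = I s₀ ⊔ m ^ j := fun j => by
    have := hart j
    obtain ⟨s₀, hs₀⟩ := IsArtinian.monotone_stabilizes (R := R ⧸ m ^ j) (M := R ⧸ m ^ j)
      ⟨fun s => OrderDual.toDual ((I s).map (Ideal.Quotient.mk (m ^ j))), fun s t hst =>
        OrderDual.toDual_le_toDual.2 (Ideal.map_mono (hI hst))⟩
    refine ⟨s₀, fun s hs => ?_⟩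
    have h := congrArg (Ideal.comap (Ideal.Quotient.mk (m ^ j))) (OrderDual.toDual_inj.1 (hs₀ s hs))
    rw [Ideal.comap_map_of_surjective _ Ideal.Quotient.mk_surjective,
      Ideal.comap_map_of_surjective _ Ideal.Quotient.mk_surjective, ← RingHom.ker_eq_comap_bot,
      Ideal.mk_ker] at h
    exact h.symm
  choose S hS using hstab
  let T : ℕ → ℕ := fun j => (Finset.range (j + 1)).sup S
  have hST : ∀ j, S j ≤ T j := fun j => Finset.le_sup (f := S) (Finset.mem_range.2 (Nat.lt_succ_self j))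
  have hT : ∀ j, T j ≤ T (j + 1) := fun j => Finset.sup_mono (Finset.range_subset_range.2 (by omega))
  by_contra hcon
  push Not at hcon
  obtain ⟨x₀, hx₀, hx₀n⟩ := SetLike.not_le_iff_exists.1 (hcon (T n))
  have step : ∀ (j : ℕ) (x : R), x ∈ I (T (n + j)) →
      ∃ y ∈ I (T (n + (j + 1))), y - x ∈ m ^ (n + j) := by
    intro j x hx
    have h1 : x ∈ I (T (n + (j + 1))) ⊔ m ^ (n + j) := by
      show x ∈ I (T (n + j + 1)) ⊔ m ^ (n + j)
      rw [hS (n + j) _ ((hST _).trans (hT (n + j))), ← hS (n + j) _ (hST (n + j))]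
      exact Ideal.mem_sup_left hx
    obtain ⟨y, hy, z, hz, hyz⟩ := Submodule.mem_sup.1 h1
    exact ⟨y, hy, by rw [← hyz, sub_add_cancel_left]; exact neg_mem hz⟩
  choose next hnext hdiff using step
  let seq : ∀ j : ℕ, {x : R // x ∈ I (T (n + j))} :=
    fun j => Nat.rec ⟨x₀, hx₀⟩ (fun j p => ⟨next j p.1 p.2, hnext j p.1 p.2⟩) j
  let f : ℕ → R := fun j => (seq j).1
  have hf : ∀ j, f (j + 1) - f j ∈ m ^ (n + j) := fun j => hdiff j _ _
  have hcauchy : ∀ j l, j ≤ l → f l - f j ∈ m ^ (n + j) := by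
    intro j l hjl
    induction l, hjl using Nat.le_induction with
    | base => rw [sub_self]; exact zero_mem _
    | succ l hjl ih =>
      rw [← sub_add_sub_cancel (f (l + 1)) (f l) (f j)]
      exact add_mem (Ideal.pow_le_pow_right (by omega) (hf l)) ih
  obtain ⟨L, hL⟩ := IsPrecomplete.prec (I := m) inferInstance (f := f) fun {a b} hab => by
    rw [SModEq.sub_mem, smul_eq_mul, Ideal.mul_top, ← neg_sub]
    exact neg_mem (Ideal.pow_le_pow_right (by omega) (hcauchy a b hab))
  have hLf : ∀ l, L - f l ∈ m ^ l := fun l => by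
    have h := hL l
    rw [SModEq.sub_mem, smul_eq_mul, Ideal.mul_top, ← neg_sub] at h
    exact neg_mem_iff.1 h
  have hLI : ∀ s, L ∈ I s := fun s => by
    have hmem : ∀ l, L ∈ I s ⊔ m ^ l := fun l => by
      have h3 : f l ∈ I s ⊔ m ^ l := by
        rcases le_total s (T (n + l)) with h' | h'
        · exact Ideal.mem_sup_left (hI h' (seq l).2)
        · have h4 : f l ∈ I (T (n + l)) ⊔ m ^ (n + l) := Ideal.mem_sup_left (seq l).2
          rw [hS (n + l) _ (hST _), ← hS (n + l) s ((hST _).trans h')] at h4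
          exact (sup_le_sup_left (Ideal.pow_le_pow_right (by omega)) _ :
            I s ⊔ m ^ (n + l) ≤ I s ⊔ m ^ l) h4
      rw [← sub_add_cancel L (f l)]
      exact add_mem (Ideal.mem_sup_right (hLf l)) h3
    have : IsHausdorff m (R ⧸ I s) := IsHausdorff.of_le_jacobson m (R ⧸ I s)
      (IsLocalRing.jacobson_eq_maximalIdeal (⊥ : Ideal R) bot_ne_top).ge
    rw [← Ideal.Quotient.eq_zero_iff_mem]
    refine IsHausdorff.haus' (I := m) (M := R ⧸ I s) _ fun l => ?_
    rw [SModEq.zero]
    obtain ⟨a, ha, b, hb, hab⟩ := Submodule.mem_sup.1 (hmem l)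
    rw [← hab, map_add, Ideal.Quotient.eq_zero_iff_mem.2 ha, zero_add,
      show Ideal.Quotient.mk (I s) b = b • (1 : R ⧸ I s) by rw [Algebra.smul_def, mul_one]; rfl]
    exact Submodule.smul_mem_smul hb trivial
  have hL0 : L = 0 := by
    have : L ∈ ⨅ s, I s := Submodule.mem_iInf _ |>.2 hLI
    rwa [hinf] at this
  refine hx₀n ?_
  have h1 := hcauchy 0 n (Nat.zero_le n)
  have h2 := hLf n
  rw [hL0, zero_sub, neg_mem_iff] at h2
  rw [Nat.add_zero] at h1
  have := sub_mem h2 h1
  rw [sub_sub_cancel] at this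
  exact this

end Groth.Agent.S17754
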