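import Groth.Statements.S2574
import Mathlib
import Groth.Agent.FlatCrit.Basic

set_option autoImplicit false
open TensorProduct
universe u
open EGA43

namespace Groth.Agent.S2574

/-- tensoring with a module that is flat modulo `J` preserves injectivity between modules killed by `J` -/
theorem lTensor_injective_of_killed {A : Type u} [CommRing A] (J : Ideal A) (M : Type u) [AddCommGroup M] [Module A M]
    [Module.Flat (A ⧸ J) ((A ⧸ J) ⊗[A] M)] {N N' : Type u} [AddCommGroup N] [Module A N] [AddCommGroup N'] [Module A N']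
    (hN : ∀ a ∈ J, ∀ x : N, a • x = 0) (hN' : ∀ a ∈ J, ∀ x : N', a • x = 0)
    (f : N →ₗ[A] N') (hf : Function.Injective f) : Function.Injective (f.lTensor M) := by
  let hNt : Module.IsTorsionBySet A N J := fun x a => hN a.1 a.2 x
  let hNt' : Module.IsTorsionBySet A N' J := fun x a => hN' a.1 a.2 x
  letI : Module (A ⧸ J) N := hNt.module
  letI : Module (A ⧸ J) N' := hNt'.module
  haveI : IsScalarTower A (A ⧸ J) N := hNt.isScalarTower
  haveI : IsScalarTower A (A ⧸ J) N' := hNt'.isScalarTower
  let f' : N →ₗ[A ⧸ J] N' := f.extendScalarsOfSurjective Ideal.Quotient.mk_surjective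
  let e := AlgebraTensorModule.cancelBaseChange A (A ⧸ J) (A ⧸ J) N M
  let e' := AlgebraTensorModule.cancelBaseChange A (A ⧸ J) (A ⧸ J) N' M
  have h1 : Function.Injective (f'.rTensor ((A ⧸ J) ⊗[A] M)) :=
    Module.Flat.rTensor_preserves_injective_linearMap f' hf
  have hsq : ∀ z, f.lTensor M (TensorProduct.comm A N M (e z)) =
      TensorProduct.comm A N' M (e' (f'.rTensor _ z)) := fun z => by
    induction z using TensorProduct.induction_on with
    | zero => simp
    | add a b ha hb => simp only [map_add, ha, hb]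
    | tmul n t =>
      induction t using TensorProduct.induction_on with
      | zero => simp
      | add a b ha hb => simp only [tmul_add, map_add, ha, hb]
      | tmul c m =>
        simp only [e, e', LinearMap.rTensor_tmul, AlgebraTensorModule.cancelBaseChange_tmul,
          TensorProduct.comm_tmul, LinearMap.lTensor_tmul]
        exact congrArg (m ⊗ₜ[A] ·) (f'.map_smul c n)
  intro x y hxy
  obtain ⟨x, rfl⟩ := (TensorProduct.comm A N M).surjective x
  obtain ⟨y, rfl⟩ := (TensorProduct.comm A N M).surjective y
  obtain ⟨x, rfl⟩ := e.surjective x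
  obtain ⟨y, rfl⟩ := e.surjective y
  rw [hsq, hsq] at hxy
  rw [h1 (e'.injective ((TensorProduct.comm A N' M).injective hxy))]

/-- an element killed by an element outside `p` vanishes in the tensor product with the localization -/
theorem lTensor_mk_eq_zero {A : Type u} [CommRing A] (p : Ideal A) [p.IsPrime] {M N : Type u} [AddCommGroup M]
    [Module A M] [AddCommGroup N] [Module A N] (s : p.primeCompl) (z : M ⊗[A] N) (hz : s • z = 0) :
    (LocalizedModule.mkLinearMap p.primeCompl N).lTensor M z = 0 := by
  let g := LocalizedModule.mkLinearMap p.primeCompl N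
  have hu := IsLocalizedModule.map_units g s
  obtain ⟨u, hu⟩ := hu
  let μ : LocalizedModule p.primeCompl N →ₗ[A] LocalizedModule p.primeCompl N := u.inv
  have hμ : ∀ w, μ ((s : A) • w) = w := fun w => by
    have h2 : (u.inv * u.val) w = w := by rw [u.inv_val]; rfl
    rw [hu] at h2
    exact h2
  have h3 : g.lTensor M z = μ.lTensor M ((s : A) • g.lTensor M z) := by
    rw [map_smul, ← LinearMap.comp_apply, ← LinearMap.smul_apply, ← LinearMap.lTensor_comp, ← LinearMap.lTensor_smul]
    congr 2
    refine LinearMap.ext fun n => ?_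
    show g n = (s : A) • μ (g n)
    rw [← map_smul, hμ]
  rw [h3, ← map_smul]
  rw [Submonoid.smul_def] at hz
  rw [hz, map_zero, map_zero]

/-- elements of `I_k` for the filtration saturated at the associated primes -/
def fil {A : Type u} [CommRing A] (J : Ideal A) (k : ℕ) : Ideal A :=
  ⨅ p : associatedPrimes A A,
    haveI : p.1.IsPrime := IsAssociatedPrime.isPrime p.2
    ((J ^ k).map (algebraMap A (Localization.AtPrime p.1))).comap (algebraMap A (Localization.AtPrime p.1))

theorem mem_fil {A : Type u} [CommRing A] {J : Ideal A} {k : ℕ} {a : A} :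
    a ∈ fil J k ↔ ∀ p : associatedPrimes A A,
      haveI : p.1.IsPrime := IsAssociatedPrime.isPrime p.2
      algebraMap A (Localization.AtPrime p.1) a ∈ (J ^ k).map (algebraMap A (Localization.AtPrime p.1)) := by
  simp [fil, Submodule.mem_iInf, Ideal.mem_comap]

theorem pow_le_fil {A : Type u} [CommRing A] (J : Ideal A) (k : ℕ) : J ^ k ≤ fil J k :=
  fun a ha => mem_fil.mpr fun _ => Ideal.mem_map_of_mem _ ha

theorem fil_mul_le {A : Type u} [CommRing A] (J : Ideal A) (i k : ℕ) : fil J i * fil J k ≤ fil J (i + k) := by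
  refine Ideal.mul_le.mpr fun a ha b hb => mem_fil.mpr fun p => ?_
  rw [map_mul, pow_add, Ideal.map_mul]
  exact Ideal.mul_mem_mul (mem_fil.mp ha p) (mem_fil.mp hb p)

theorem fil_anti {A : Type u} [CommRing A] (J : Ideal A) {i k : ℕ} (h : i ≤ k) : fil J k ≤ fil J i :=
  fun a ha => mem_fil.mpr fun p => Ideal.map_mono (Ideal.pow_le_pow_right h) (mem_fil.mp ha p)

theorem fil_eq_bot {A : Type u} [CommRing A] [IsNoetherianRing A] {J : Ideal A} {n : ℕ} (hn : J ^ n = ⊥) :
    fil J n = ⊥ := by
  refine eq_bot_iff.mpr fun a ha => ?_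
  by_contra h0
  obtain ⟨P, hP, hle⟩ := exists_le_isAssociatedPrime_of_isNoetherianRing (R := A) (M := A) a h0
  haveI : P.IsPrime := hP.isPrime
  have h1 := mem_fil.mp ha ⟨P, hP⟩
  rw [hn, Ideal.map_bot, Submodule.mem_bot] at h1
  obtain ⟨s, hs⟩ := (IsLocalization.map_eq_zero_iff P.primeCompl _ _).mp h1
  exact s.2 (hle (by simpa [Submodule.mem_colon_singleton, LinearMap.mem_ker, mul_comm] using hs))

theorem hom_loc_smul_eq_zero {A : Type u} [CommRing A] (J : Ideal A) (p : Ideal A) [p.IsPrime] {N : Type u}
    [AddCommGroup N] [Module A N] (hN : ∀ a ∈ J, ∀ x : N, a • x = 0) (a : A) (ha : a ∈ J)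
    (z : LocalizedModule p.primeCompl N) : a • z = 0 := by
  obtain ⟨⟨w, s⟩, hw⟩ := IsLocalizedModule.mk'_surjective p.primeCompl
    (LocalizedModule.mkLinearMap p.primeCompl N) z
  rw [← hw, Function.uncurry_apply_pair, ← IsLocalizedModule.mk'_smul, hN a ha, IsLocalizedModule.mk'_zero]

/-- an element of `M ⊗ N`, `N` killed by `J`, vanishes if it vanishes in all the localizations -/
theorem eq_zero_of_forall_loc {A : Type u} [CommRing A] (J : Ideal A) (M : Type u) [AddCommGroup M] [Module A M]
    [Module.Flat (A ⧸ J) ((A ⧸ J) ⊗[A] M)] {N : Type u} [AddCommGroup N] [Module A N]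
    (hN : ∀ a ∈ J, ∀ x : N, a • x = 0) {ι : Type u} [Fintype ι] (p : ι → Ideal A) [∀ i, (p i).IsPrime]
    (hg : ∀ z : N, (∀ i, LocalizedModule.mkLinearMap (p i).primeCompl N z = 0) → z = 0) (w : M ⊗[A] N)
    (hw : ∀ i, (LocalizedModule.mkLinearMap (p i).primeCompl N).lTensor M w = 0) : w = 0 := by
  classical
  let g : N →ₗ[A] ((i : ι) → LocalizedModule (p i).primeCompl N) :=
    LinearMap.pi fun i => LocalizedModule.mkLinearMap (p i).primeCompl N
  have hgi : Function.Injective g := (injective_iff_map_eq_zero g).mpr fun z hz => hg z fun i => congrFun hz i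
  have hN' : ∀ a ∈ J, ∀ z : ((i : ι) → LocalizedModule (p i).primeCompl N), a • z = 0 :=
    fun a ha z => funext fun i => hom_loc_smul_eq_zero J (p i) hN a ha (z i)
  have hinj := lTensor_injective_of_killed J M hN hN' g hgi
  refine hinj (((TensorProduct.piRight A A M fun i => LocalizedModule (p i).primeCompl N).injective ?_))
  refine funext fun i => ?_
  rw [map_zero, map_zero, Pi.zero_apply, ← hw i]
  clear hw
  induction w using TensorProduct.induction_on with
  | zero => simp
  | add a b ha hb => simp only [map_add, Pi.add_apply, ha, hb]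
  | tmul m z => simp [g]

/-- a relation which dies after localization at a point where the module is flat is killed outside it -/
theorem exists_smul_eq_zero {A : Type u} [CommRing A] (p : Ideal A) [p.IsPrime] (I : Ideal A)
    (M : Type u) [AddCommGroup M] [Module A M]
    [Module.Flat (Localization.AtPrime p) (LocalizedModule p.primeCompl M)]
    (x : M ⊗[A] I) (hx : I.subtype.lTensor M x = 0) : ∃ s : p.primeCompl, s • x = 0 := by
  haveI : Module.Flat A (LocalizedModule p.primeCompl M) :=
    Module.Flat.trans A (Localization.AtPrime p) _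
  let ψ := AlgebraTensorModule.rTensor A I (LocalizedModule.mkLinearMap p.primeCompl M)
  haveI : IsLocalizedModule p.primeCompl ψ := inferInstance
  have hψ : ψ x = 0 := by
    refine Module.Flat.lTensor_preserves_injective_linearMap (M := LocalizedModule p.primeCompl M)
      I.subtype Subtype.val_injective ?_
    rw [map_zero]
    have h5 : ∀ w, I.subtype.lTensor (LocalizedModule p.primeCompl M) (ψ w) =
        (LocalizedModule.mkLinearMap p.primeCompl M).rTensor A (I.subtype.lTensor M w) := fun w => by
      induction w using TensorProduct.induction_on with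
      | zero => simp
      | add a b ha hb => simp only [map_add, ha, hb]
      | tmul m z => simp [ψ]
    rw [h5, hx, map_zero]
  exact (IsLocalizedModule.eq_zero_iff p.primeCompl ψ).mp hψ

theorem mem_fil_of_loc {A : Type u} [CommRing A] (J : Ideal A) (k : ℕ) (z : fil J k)
    (hz : ∀ p : associatedPrimes A A,
      haveI : p.1.IsPrime := IsAssociatedPrime.isPrime p.2
      ∃ s : p.1.primeCompl, (s : A) * (z : A) ∈ fil J (k + 1)) : (z : A) ∈ fil J (k + 1) := by
  refine mem_fil.mpr fun p => ?_
  haveI : p.1.IsPrime := IsAssociatedPrime.isPrime p.2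
  obtain ⟨s, hs⟩ := hz p
  have h4 := mem_fil.mp hs p
  rw [map_mul, Ideal.unit_mul_mem_iff_mem _ (IsLocalization.map_units _ s)] at h4
  exact h4

theorem injective_step_inclusion {A : Type u} [CommRing A] (M : Type u) [AddCommGroup M] [Module A M]
    {I I' : Ideal A} (hle : I' ≤ I) (hI' : Function.Injective (I'.subtype.lTensor M))
    (x : M ⊗[A] I) (hx : I.subtype.lTensor M x = 0) (y : M ⊗[A] I')
    (hy : (Submodule.inclusion hle).lTensor M y = x) : x = 0 := by
  have h : I'.subtype.lTensor M y = 0 := by
    rw [← hx, ← hy, ← LinearMap.comp_apply, ← LinearMap.lTensor_comp, Submodule.subtype_comp_inclusion]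
  rw [← hy, hI' (h.trans (map_zero _).symm), map_zero]

theorem injective_step {A : Type u} [CommRing A] [IsNoetherianRing A] (J I I' : Ideal A) (hle : I' ≤ I)
    (hJI : J * I ≤ I') (M : Type u) [AddCommGroup M] [Module A M] [Module.Flat (A ⧸ J) ((A ⧸ J) ⊗[A] M)]
    (hp : ∀ p : associatedPrimes A A,
        haveI : p.1.IsPrime := IsAssociatedPrime.isPrime p.2
        Module.Flat (Localization.AtPrime p.1) (LocalizedModule p.1.primeCompl M))
    (hsep : ∀ z : I, (∀ p : associatedPrimes A A,
      haveI : p.1.IsPrime := IsAssociatedPrime.isPrime p.2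
      ∃ s : p.1.primeCompl, (s : A) * (z : A) ∈ I') → (z : A) ∈ I')
    (hI' : Function.Injective (I'.subtype.lTensor M)) : Function.Injective (I.subtype.lTensor M) := by
  refine (injective_iff_map_eq_zero _).mpr fun x hx => ?_
  let inc : I' →ₗ[A] I := Submodule.inclusion hle
  have hN : ∀ a ∈ J, ∀ z : I ⧸ LinearMap.range inc, a • z = 0 := by
    intro a ha z
    obtain ⟨z, rfl⟩ := (LinearMap.range inc).mkQ_surjective z
    rw [← map_smul, Submodule.mkQ_apply, Submodule.Quotient.mk_eq_zero]
    exact ⟨⟨a * (z : A), hJI (Ideal.mul_mem_mul ha z.2)⟩, Subtype.ext rfl⟩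
  haveI : Fintype (associatedPrimes A A) := (associatedPrimes.finite A A).fintype
  haveI hpr : ∀ p : associatedPrimes A A, p.1.IsPrime := fun p => IsAssociatedPrime.isPrime p.2
  have hg : ∀ z : I ⧸ LinearMap.range inc, (∀ p : associatedPrimes A A,
      LocalizedModule.mkLinearMap p.1.primeCompl (I ⧸ LinearMap.range inc) z = 0) → z = 0 := by
    intro z hz
    obtain ⟨z, rfl⟩ := (LinearMap.range inc).mkQ_surjective z
    rw [Submodule.mkQ_apply, Submodule.Quotient.mk_eq_zero]
    refine ⟨⟨z.1, hsep z fun p => ?_⟩, Subtype.ext rfl⟩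
    obtain ⟨s, hs⟩ := (IsLocalizedModule.eq_zero_iff p.1.primeCompl
      (LocalizedModule.mkLinearMap p.1.primeCompl (I ⧸ LinearMap.range inc))).mp (hz p)
    rw [Submonoid.smul_def, ← map_smul, Submodule.mkQ_apply, Submodule.Quotient.mk_eq_zero] at hs
    obtain ⟨w, hw⟩ := hs
    refine ⟨s, ?_⟩
    have hw' : (w : A) = (s : A) * (z : A) := congrArg Subtype.val hw
    rw [← hw']
    exact w.2
  have hbar : (LinearMap.range inc).mkQ.lTensor M x = 0 := by
    refine eq_zero_of_forall_loc J M hN (fun p : associatedPrimes A A => p.1) hg _ fun p => ?_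
    haveI := hp p
    obtain ⟨s, hs⟩ := exists_smul_eq_zero p.1 I M x hx
    exact lTensor_mk_eq_zero p.1 s _ (by rw [Submonoid.smul_def, ← map_smul, ← Submonoid.smul_def, hs, map_zero])
  have hex : Function.Exact inc (LinearMap.range inc).mkQ := LinearMap.exact_map_mkQ_range inc
  obtain ⟨y, hy⟩ := (lTensor_exact M hex (Submodule.mkQ_surjective _) x).mp hbar
  exact injective_step_inclusion M hle hI' x hx y hy

theorem injective_lTensor_fil {A : Type u} [CommRing A] [IsNoetherianRing A] (J : Ideal A) {n : ℕ} (hn : J ^ n = ⊥)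
    (M : Type u) [AddCommGroup M] [Module A M] [Module.Flat (A ⧸ J) ((A ⧸ J) ⊗[A] M)]
    (hp : ∀ p : associatedPrimes A A,
        haveI : p.1.IsPrime := IsAssociatedPrime.isPrime p.2
        Module.Flat (Localization.AtPrime p.1) (LocalizedModule p.1.primeCompl M)) :
    ∀ d k : ℕ, k + d = n → Function.Injective ((fil J k).subtype.lTensor M) := by
  intro d
  induction d with
  | zero =>
    intro k hk
    obtain rfl : k = n := hk
    haveI : Subsingleton (fil J k) := by rw [fil_eq_bot hn]; infer_instance
    exact Function.injective_of_subsingleton _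
  | succ d ih =>
    intro k hk
    refine injective_step J (fil J k) (fil J (k + 1)) (fil_anti J k.le_succ) ?_ M hp
      (fun z hz => mem_fil_of_loc J k z hz) (ih (k + 1) (by omega))
    have h1 : J ≤ fil J 1 := le_of_eq_of_le (pow_one J).symm (pow_le_fil J 1)
    rw [add_comm k 1]
    exact le_trans (Ideal.mul_mono h1 le_rfl) (fil_mul_le J 1 k)

/-- Let A be a Noetherian ring, J a nilpotent ideal of A and M an A-module. Then M is flat over A if and
only if (A/J) ⊗_A M is flat over A/J and, for every associated prime p of A, the localization M_p is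
flat over A_p. -/
theorem result {A : Type u} [CommRing A] [IsNoetherianRing A]
    (J : Ideal A) (hJ : IsNilpotent J) (M : Type u) [AddCommGroup M] [Module A M] :
    Module.Flat A M ↔
      Module.Flat (A ⧸ J) ((A ⧸ J) ⊗[A] M) ∧
        ∀ p : associatedPrimes A A,
          haveI : p.1.IsPrime := IsAssociatedPrime.isPrime p.2
          Module.Flat (Localization.AtPrime p.1) (LocalizedModule p.1.primeCompl M) := by
  constructor
  · intro h
    exact ⟨inferInstance, fun p =>
      haveI : p.1.IsPrime := IsAssociatedPrime.isPrime p.2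
      Module.Flat.of_linearEquiv
        ((LocalizedModule.equivTensorProduct p.1.primeCompl M))⟩
  · rintro ⟨h1, h2⟩
    obtain ⟨n, hn⟩ := hJ
    haveI := h1
    rcases Nat.eq_zero_or_pos n with rfl | hpos
    · rw [pow_zero, Ideal.one_eq_top] at hn
      haveI : Subsingleton A := ⟨fun a b => by
        have h0 : ∀ c : A, c = 0 := fun c => by
          have hc : c ∈ (⊤ : Ideal A) := Submodule.mem_top
          rw [hn] at hc
          exact (Submodule.mem_bot A).mp hc
        rw [h0 a, h0 b]⟩
      haveI : Subsingleton M := Module.subsingleton A M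
      infer_instance
    have hinj := injective_lTensor_fil J hn M h2
    let I := fil J 1
    have hJI : J ≤ I := by simpa using pow_le_fil J 1
    have hI : ∀ m, I ^ m ≤ fil J m := fun m => by
      induction m with
      | zero =>
        rw [pow_zero]
        exact le_of_eq_of_le (pow_zero J).symm (pow_le_fil J 0)
      | succ m ih => rw [pow_succ]; exact le_trans (Ideal.mul_mono ih le_rfl) (fil_mul_le J m 1)
    letI : Algebra (A ⧸ J) (A ⧸ I) := (Ideal.Quotient.factor hJI).toAlgebra
    haveI : IsScalarTower A (A ⧸ J) (A ⧸ I) := IsScalarTower.of_algebraMap_eq fun _ => rfl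
    haveI : Module.Flat (A ⧸ I) ((A ⧸ I) ⊗[A] M) :=
      Module.Flat.of_linearEquiv (AlgebraTensorModule.cancelBaseChange A (A ⧸ J) (A ⧸ I) (A ⧸ I) M).symm
    refine Module.Flat.iff_lTensor_injective'.mpr fun a => ?_
    exact FlatCrit.injective_of_pow_smul_le (hinj (n - 1) 1 (by omega)) inferInstance n (F := A) a
      (by
        refine le_trans (le_of_eq ?_) bot_le (b := (⊥ : Submodule A A))
        rw [eq_bot_iff.mpr (le_trans (hI n) (le_of_eq (fil_eq_bot hn))), Submodule.bot_smul])

end Groth.Agent.S2574
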