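import Groth.Statements.S9501
import Mathlib

set_option autoImplicit false
universe u
open SchMor

namespace Groth.Agent.S9501

open AlgebraicGeometry in
open CategoryTheory in
/-- Let f : X → S be a morphism of schemes, s a point of S and y a point of the fibre X_s = X ×_S Spec
κ(s), mapping to the point x of X (so that f(x) = s). Then the homomorphism of local rings O_{X,x} →
O_{X_s,y} induced by the projection X_s → X is surjective, with kernel the ideal generated by the
image of the maximal ideal of O_{S,f(x)}; in other words O_{X_s,y} is identified with O_{X,x}/m_s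
O_{X,x} = O_{X,x} ⊗_{O_{S,s}} κ(s). -/
theorem result
    {X S : Scheme.{u}} (f : X ⟶ S) (s : S) (y : ↥(f.fiber s)) :
    Function.Surjective ((f.fiberι s).stalkMap y).hom ∧
      RingHom.ker ((f.fiberι s).stalkMap y).hom =
        Ideal.map (f.stalkMap ((f.fiberι s).base y)).hom
          (IsLocalRing.maximalIdeal (S.presheaf.stalk (f.base ((f.fiberι s).base y)))) := by
  obtain ⟨hsurj⟩ : Nonempty (Function.Surjective ((f.fiberι s).stalkMap y).hom) :=
    ⟨(f.fiberι s).stalkMap_surjective y⟩
  refine ⟨hsurj, ?_⟩
  set x := (f.fiberι s) y with hx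
  have hys : f x = s := by
    have : x ∈ Set.range (f.fiberι s) := ⟨y, rfl⟩
    rw [f.range_fiberι] at this
    exact this
  let A := X.presheaf.stalk x
  apply le_antisymm
  · intro a ha
    let I : Ideal A := Ideal.map (f.stalkMap x).hom (IsLocalRing.maximalIdeal _)
    have hI : I ≠ ⊤ := fun h => (IsLocalRing.maximalIdeal.isMaximal A).ne_top
      (top_le_iff.1 (h.ge.trans (Ideal.map_le_iff_le_comap.2 fun b hb h => hb (isUnit_of_map_unit (f.stalkMap x).hom b h))))
    have : Nontrivial (A ⧸ I) := Ideal.Quotient.nontrivial_iff.2 hI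
    have : IsLocalRing (A ⧸ I) := .of_surjective' _ Ideal.Quotient.mk_surjective
    have : IsLocalHom (Ideal.Quotient.mk I) := .of_surjective _ Ideal.Quotient.mk_surjective
    let q : Spec (CommRingCat.of (A ⧸ I)) ⟶ X :=
      Spec.map (CommRingCat.ofHom (Ideal.Quotient.mk I)) ≫ X.fromSpecStalk x
    let φ : (S.residueField (f x)) →+* A ⧸ I :=
      Ideal.Quotient.lift _ ((Ideal.Quotient.mk I).comp (f.stalkMap x).hom) fun b hb =>
        Ideal.Quotient.eq_zero_iff_mem.2 (Ideal.mem_map_of_mem _ hb)
    have hq : q ≫ f = Spec.map (CommRingCat.ofHom φ) ≫ S.fromSpecResidueField (f x) := by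
      rw [Scheme.fromSpecResidueField, ← Spec.map_comp_assoc, Category.assoc,
        ← Scheme.SpecMap_stalkMap_fromSpecStalk, ← Spec.map_comp_assoc]
      rfl
    have hcast : ∀ s' : S, s' = s → ∀ (ψ : S.residueField s' ⟶ CommRingCat.of (A ⧸ I)),
        ∃ c : Spec (CommRingCat.of (A ⧸ I)) ⟶ Spec (S.residueField s),
          c ≫ S.fromSpecResidueField s = Spec.map ψ ≫ S.fromSpecResidueField s' := by
      rintro _ rfl ψ; exact ⟨Spec.map ψ, rfl⟩
    obtain ⟨c, hc⟩ := hcast (f x) hys (CommRingCat.ofHom φ)
    let l : Spec (CommRingCat.of (A ⧸ I)) ⟶ f.fiber s := Limits.pullback.lift q c (hq.trans hc.symm)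
    have hl : l ≫ f.fiberι s = q := Limits.pullback.lift_fst _ _ _
    have hzy : l (IsLocalRing.closedPoint _) = y := by
      apply (f.fiberι s).isEmbedding.injective
      rw [← Scheme.Hom.comp_apply, hl, Scheme.Hom.comp_apply, Spec_closedPoint (f := CommRingCat.ofHom (Ideal.Quotient.mk I)), Scheme.fromSpecStalk_closedPoint]
    obtain ⟨z, cl, rfl, hcl⟩ : ∃ (z : f.fiber s) (cl : (f.fiber s).presheaf.stalk z ⟶ CommRingCat.of (A ⧸ I)),
        z = y ∧ l = Spec.map cl ≫ (f.fiber s).fromSpecStalk z :=
      ⟨_, Scheme.stalkClosedPointTo l, hzy, (Scheme.Spec_stalkClosedPointTo_fromSpecStalk l).symm⟩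
    have hmk : CommRingCat.ofHom (Ideal.Quotient.mk I) = (f.fiberι s).stalkMap z ≫ cl := by
      apply Spec.map_injective
      rw [← cancel_mono (X.fromSpecStalk x), Spec.map_comp, Category.assoc,
        Scheme.SpecMap_stalkMap_fromSpecStalk, ← Category.assoc, ← hcl, hl]
    have := ConcreteCategory.congr_hom hmk a
    rw [CategoryTheory.comp_apply, show (f.fiberι s).stalkMap z a = 0 from ha, map_zero] at this
    exact Ideal.Quotient.eq_zero_iff_mem.1 this
  · rw [Ideal.map_le_iff_le_comap]
    intro b hb
    rw [Ideal.mem_comap, RingHom.mem_ker]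
    change (f.stalkMap x ≫ (f.fiberι s).stalkMap y) b = 0
    rw [← Scheme.Hom.stalkMap_comp (f.fiberι s) f y]
    have e : f.fiberι s ≫ f = Limits.pullback.snd f (S.fromSpecResidueField s) ≫ S.fromSpecResidueField s :=
      Limits.pullback.condition
    have key : ∀ (g g' : f.fiber s ⟶ S) (_ : g = g') (b : S.presheaf.stalk (g y)),
        (∀ b' ∈ IsLocalRing.maximalIdeal (S.presheaf.stalk (g' y)), g'.stalkMap y b' = 0) →
        b ∈ IsLocalRing.maximalIdeal (S.presheaf.stalk (g y)) → g.stalkMap y b = 0 := by
      rintro g g' rfl b h hb; exact h b hb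
    refine key _ _ e b (fun b' hb' => ?_) hb
    refine (ConcreteCategory.congr_hom (Scheme.Hom.stalkMap_comp (Limits.pullback.snd f (S.fromSpecResidueField s)) (S.fromSpecResidueField s) y) b').trans ?_
    have hz : ∀ (w : Spec (S.residueField s)) (b' : S.presheaf.stalk (S.fromSpecResidueField s w)),
        b' ∈ IsLocalRing.maximalIdeal _ → (S.fromSpecResidueField s).stalkMap w b' = 0 := by
      intro w b' hb'
      obtain rfl : w = IsLocalRing.closedPoint (S.residueField s) :=
        Subsingleton.elim (α := PrimeSpectrum _) _ _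
      have h1 : (stalkClosedPointIso (S.residueField s)).hom
          ((S.fromSpecResidueField s).stalkMap _ b') = 0 := by
        have h2 : ¬ IsUnit b' := hb'
        by_contra h
        exact h2 (isUnit_of_map_unit (Scheme.stalkClosedPointTo (S.fromSpecResidueField s)).hom b'
          (IsUnit.mk0 _ h))
      exact (ConcreteCategory.bijective_of_isIso (stalkClosedPointIso (S.residueField s)).hom).1
        (h1.trans (map_zero _).symm)
    exact (CategoryTheory.comp_apply _ _ b').trans
      ((congrArg ((Limits.pullback.snd f (S.fromSpecResidueField s)).stalkMap y) (hz _ b' hb')).trans (map_zero _))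

end Groth.Agent.S9501
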