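import Groth.Statements.S2562
import Mathlib
import Groth.Agent.DvrFlatLib.Chart
import Groth.Agent.FlatLib.FlatLocusScheme

set_option autoImplicit false
open CategoryTheory AlgebraicGeometry
universe u
open EGA43

namespace Groth.Agent.S2562

open CategoryTheory.Limits in
/-- Let f : X ⟶ Y be locally of finite presentation, x a point of X, y = f x, and suppose the local ring
O_{Y,y} is reduced and Noetherian. Then O_{Y,y} ⟶ O_{X,x} is flat if and only if, for every discrete
valuation ring A' and every local homomorphism O_{Y,y} ⟶ A', the base change X' = X ×_Y Spec A' ⟶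
Spec A' is flat at every point of X' lying over x and over the closed point of Spec A'. -/
theorem result {X Y : Scheme.{u}} (f : X ⟶ Y) [LocallyOfFinitePresentation f]
    (x : X) [IsNoetherianRing (Y.presheaf.stalk (f.base x))] [_root_.IsReduced (Y.presheaf.stalk (f.base x))] :
    (f.stalkMap x).hom.Flat ↔
      ∀ (A' : Type u) [CommRing A'] [IsDomain A'] [IsDiscreteValuationRing A']
        (φ : (Y.presheaf.stalk (f.base x) : Type u) →+* A') [IsLocalHom φ],
        ∀ x' : ↥(pullback f (Spec.map (CommRingCat.ofHom φ) ≫ Y.fromSpecStalk (f.base x))),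
          (pullback.fst f _).base x' = x →
          (pullback.snd f _).base x' = IsLocalRing.closedPoint A' →
          ((pullback.snd f (Spec.map (CommRingCat.ofHom φ) ≫ Y.fromSpecStalk (f.base x))).stalkMap x').hom.Flat := by
  classical
  constructor
  · intro h A' _ _ _ φ _ x' hx' _
    exact FlatLib.flatAt_baseChange (f' := pullback.snd f _) (IsPullback.of_hasPullback f _) (hx'.symm ▸ h)
  · intro h
    obtain ⟨U, hU, hxU, -⟩ := exists_isAffineOpen_mem_and_subset (x := f x) (U := ⊤) trivial
    obtain ⟨V, hV, hxV, hVU⟩ := exists_isAffineOpen_mem_and_subset (x := x) (U := f ⁻¹ᵁ U) hxU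
    have hVU' : V ≤ f ⁻¹ᵁ U := hVU
    letI := (f.appLE U V hVU').hom.toAlgebra
    haveI : Algebra.FinitePresentation Γ(Y, U) Γ(X, V) :=
      LocallyOfFinitePresentation.finitePresentation_appLE f hU hV hVU'
    refine (FlatLib.flat_stalkMap_iff U hU V hV hVU' hxV).mpr ?_
    letI : Algebra Γ(Y, U) (Y.presheaf.stalk (f x)) := (Y.presheaf.germ U (f x) hxU).hom.toAlgebra
    have hq : (hV.primeIdealOf ⟨x, hxV⟩).asIdeal.comap (algebraMap Γ(Y, U) Γ(X, V)) =
        (hU.primeIdealOf ⟨f x, hxU⟩).asIdeal :=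
      congrArg PrimeSpectrum.asIdeal (IsAffineOpen.comap_primeIdealOf_appLE U hU V hV hVU' hxV)
    haveI : IsLocalization.AtPrime (Y.presheaf.stalk (f x))
        ((hV.primeIdealOf ⟨x, hxV⟩).asIdeal.comap (algebraMap Γ(Y, U) Γ(X, V))) := by
      rw! [hq]
      exact hU.isLocalization_stalk ⟨f x, hxU⟩
    refine DvrFlatLib.mem_flatLocus_of_dvr (Rq := Y.presheaf.stalk (f x)) _ fun A' _ _ _ _ hm => ?_
    have hu : ∀ s : ((hV.primeIdealOf ⟨x, hxV⟩).asIdeal.comap (algebraMap Γ(Y, U) Γ(X, V))).primeCompl,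
        IsUnit (algebraMap Γ(Y, U) A' s) := fun s => IsLocalRing.notMem_maximalIdeal.mp
      fun hs => s.2 (hm.le hs)
    let φ : (Y.presheaf.stalk (f x) : Type u) →+* A' := IsLocalization.lift hu
    haveI : IsLocalHom φ := DvrFlatLib.isLocalHom_of_comap_eq
      ((hV.primeIdealOf ⟨x, hxV⟩).asIdeal.comap (algebraMap Γ(Y, U) Γ(X, V))) φ
      (by rw [IsLocalization.lift_comp]; exact hm)
    refine DvrFlatLib.flatFibre_structure f hU hV hVU' hxV A' ?_
    have e : Spec.map (CommRingCat.ofHom φ) ≫ Y.fromSpecStalk (f x) =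
        DvrFlatLib.chartMap hU A' (algebraMap Γ(Y, U) A') := by
      rw [DvrFlatLib.chartMap_eq hU A' hxU φ]
      exact congrArg (DvrFlatLib.chartMap hU A') (IsLocalization.lift_comp hu)
    have h' := h A' φ
    rw [e] at h'
    exact h'

end Groth.Agent.S2562
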