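import Groth.Statements.S4928
import Mathlib
import Groth.Agent.UOpenLib.Criterion

set_option autoImplicit false
open CategoryTheory AlgebraicGeometry
universe u v w
open EGA43

namespace Groth.Agent.S4928

open CategoryTheory.Limits in
/-- Let f : X ⟶ Y be locally of finite presentation, x a point of X, y = f x, and f₁ : X ×_Y Spec
O_{Y,y} ⟶ Spec O_{Y,y} the base change of f to the local scheme of Y at y. Then for every point x₁
of X ×_Y Spec O_{Y,y} projecting to x, f is universally open at x if and only if f₁ is universally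
open at x₁. -/
theorem result {X Y : Scheme.{u}} (f : X ⟶ Y) [LocallyOfFinitePresentation f]
    (x : X) (x₁ : ↥(pullback f (Y.fromSpecStalk (f.base x))))
    (hx₁ : (pullback.fst f (Y.fromSpecStalk (f.base x))).base x₁ = x) :
    EGA43.IsUnivOpenAt f x ↔ EGA43.IsUnivOpenAt (pullback.snd f (Y.fromSpecStalk (f.base x))) x₁ := by
  refine ⟨fun h => UOpenLib.IsUnivOpenAt.of_isPullback h (IsPullback.of_hasPullback f _) x₁ hx₁, fun h => ?_⟩
  refine (UOpenLib.isUnivOpenAt_iff_genLift f x).mpr fun Y' g x' hx' y₁ hy₁ => ?_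
  let y' := (pullback.snd f g).base x'
  have hgy : f.base x = g.base y' := by
    rw [← hx', ← Scheme.Hom.comp_apply, pullback.condition, Scheme.Hom.comp_apply]
  let f₁ := pullback.snd f (Y.fromSpecStalk (f.base x))
  let k : Spec (Y'.presheaf.stalk y') ⟶ Spec (Y.presheaf.stalk (f.base x)) :=
    Spec.map (Y.presheaf.stalkSpecializes (Inseparable.of_eq hgy.symm).specializes ≫ g.stalkMap y')
  have hk : k ≫ Y.fromSpecStalk (f.base x) = Y'.fromSpecStalk y' ≫ g := by
    simp only [k, Spec.map_comp, Category.assoc, Scheme.SpecMap_stalkSpecializes_fromSpecStalk,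
      Scheme.SpecMap_stalkMap_fromSpecStalk]
  have hkc : k.base (IsLocalRing.closedPoint (Y'.presheaf.stalk y')) =
      IsLocalRing.closedPoint (Y.presheaf.stalk (f.base x)) := by
    apply (Y.fromSpecStalk (f.base x)).isEmbedding.injective
    rw [← Scheme.Hom.comp_apply, hk, Scheme.Hom.comp_apply, Scheme.fromSpecStalk_closedPoint,
      Scheme.fromSpecStalk_closedPoint]
    exact hgy.symm
  have hf₁ : f₁.base x₁ = IsLocalRing.closedPoint (Y.presheaf.stalk (f.base x)) := by
    apply (Y.fromSpecStalk (f.base x)).isEmbedding.injective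
    rw [← Scheme.Hom.comp_apply, ← pullback.condition, Scheme.Hom.comp_apply, hx₁,
      Scheme.fromSpecStalk_closedPoint]
  have sq : IsPullback (pullback.fst f₁ k ≫ pullback.fst f _) (pullback.snd f₁ k) f
      (Y'.fromSpecStalk y' ≫ g) := by
    rw [← hk]
    exact (IsPullback.of_hasPullback f₁ k).paste_horiz (IsPullback.of_hasPullback f _)
  let j := pullback.lift (f := f) (g := g) (pullback.fst f₁ k ≫ pullback.fst f _)
    (pullback.snd f₁ k ≫ Y'.fromSpecStalk y') (by rw [Category.assoc]; exact sq.w)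
  have sq' : IsPullback j (pullback.snd f₁ k) (pullback.snd f g) (Y'.fromSpecStalk y') :=
    IsPullback.of_right (by rw [pullback.lift_fst]; exact sq) (pullback.lift_snd _ _ _)
      (IsPullback.of_hasPullback f g)
  obtain ⟨q, hq1, hq2⟩ := UOpenLib.image_fst_snd sq' x' (IsLocalRing.closedPoint _)
    (Scheme.fromSpecStalk_closedPoint).symm
  have hq : (pullback.fst f₁ k).base q = x₁ := by
    apply (pullback.fst f (Y.fromSpecStalk (f.base x))).isEmbedding.injective
    rw [hx₁, ← Scheme.Hom.comp_apply,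
      show pullback.fst f₁ k ≫ pullback.fst f _ = j ≫ pullback.fst f g from (pullback.lift_fst _ _ _).symm,
      Scheme.Hom.comp_apply, hq1, hx']
  obtain ⟨y₂, hy₂⟩ : y₁ ∈ Set.range (Y'.fromSpecStalk y').base := by
    rw [Scheme.range_fromSpecStalk]; exact hy₁
  obtain ⟨z, hz, hzy⟩ := UOpenLib.genLift_of_isUnivOpenAt h k q hq y₂
    (by rw [hq2]; exact IsLocalRing.specializes_closedPoint y₂)
  refine ⟨j.base z, hq1 ▸ hz.map j.continuous, ?_⟩
  rw [← Scheme.Hom.comp_apply, sq'.w, Scheme.Hom.comp_apply, hzy, hy₂]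

end Groth.Agent.S4928
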