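import Groth.Statements.S3409
import Mathlib
import Groth.Agent.EquidimLib.GeomReduced

set_option autoImplicit false
open CategoryTheory AlgebraicGeometry
universe u
open EGA43

namespace Groth.Agent.S3409

/-- Let Y be locally Noetherian, f : X ⟶ Y locally of finite type, x a point of X and y = f x. Suppose f
is universally open at the generic point of every irreducible component of X_y through x, X_y is
geometrically reduced at x, and all irreducible components of X_y passing through x have the same
dimension. Then f is equidimensional at x. -/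
theorem result {X Y : Scheme.{u}} [IsLocallyNoetherian Y] (f : X ⟶ Y)
    [LocallyOfFiniteType f] (x : X)
    (hopen : ∀ z : ↥(f.fiber (f.base x)), f.asFiber x ∈ closure {z} →
      (∀ z' : ↥(f.fiber (f.base x)), z ∈ closure {z'} → z' = z) →
      EGA43.IsUnivOpenAt f ((f.fiberι (f.base x)).base z))
    (hred : FBase.IsGeomReducedAt (f.fiberToSpecResidueField (f.base x)) (f.asFiber x))
    (heq : ∃ e : ℕ, ∀ Z ∈ irreducibleComponents (↥(f.fiber (f.base x)) : Type u), f.asFiber x ∈ Z →
      topologicalKrullDim (↥Z : Type u) = e) :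
    EGA43.IsEquidimAt f x := by
  obtain ⟨e, he⟩ := heq
  have : IsLocallyNoetherian X := LocallyOfFiniteType.isLocallyNoetherian f
  have haux : ∀ (z : X) (hz : f.base z = f.base x), z ⤳ x → EquidimLib.IsFibreMax f z →
      ∃ w : ↥(f.fiber (f.base x)), (f.fiberι (f.base x)).base w = z ∧ f.asFiber x ∈ closure {w} ∧
        (∀ w', w ∈ closure {w'} → w' = w) := by
    intro z hz hzx hzmax
    refine ⟨(f.fiberHomeo (f.base x)).symm ⟨z, hz⟩, f.fiberι_fiberHomeo_symm _ _, ?_, fun w' hw' ↦ ?_⟩
    · refine ((f.fiberι (f.base x)).isEmbedding.isInducing.specializes_iff.mp ?_).mem_closure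
      rw [f.fiberι_fiberHomeo_symm, f.fiberι_asFiber]
      exact hzx
    · refine (f.fiberι (f.base x)).isEmbedding.injective ?_
      rw [f.fiberι_fiberHomeo_symm]
      refine hzmax _ ?_ ?_
      · have h := Set.mem_range_self (f := (f.fiberι (f.base x)).base) w'
        rw [f.range_fiberι] at h
        exact h.trans hz.symm
      · have := (specializes_iff_mem_closure.mpr hw').map (f.fiberι (f.base x)).continuous
        rw [f.fiberι_fiberHomeo_symm] at this
        exact this.mem_closure
  have hopen' : ∀ z : X, f.base z = f.base x → z ⤳ x → EquidimLib.IsFibreMax f z →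
      EGA43.IsUnivOpenAt f z := fun z hz hzx hzmax ↦ by
    obtain ⟨w, hw, h1, h2⟩ := haux z hz hzx hzmax
    exact hw ▸ hopen w h1 h2
  have hfib : ∀ z : X, f.base z = f.base x → z ⤳ x → EquidimLib.IsFibreMax f z →
      UOpenLib.fibreClosureDim f z = e := fun z hz hzx hzmax ↦ by
    obtain ⟨w, rfl, h1, h2⟩ := haux z hz hzx hzmax
    rw [UOpenLib.fibreClosureDim_fiberι]
    exact he _ (FibDimLib.closure_mem_irreducibleComponents_of_max fun v hv ↦ h2 v hv.mem_closure) h1
  obtain ⟨z, hz, hzx, hzmax, hzd⟩ := UOpenLib.exists_max_fibreDimAt f x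
  have hd : FlatMor.fibreDimAt f x = e :=
    hzd.symm.trans (hfib z hz hzx fun z' hz' h ↦ hzmax z' hz' h)
  obtain ⟨U₁, hxU₁, hle⟩ := EquidimLib.exists_nhd_fibreClosureDim_le f x hd
  obtain ⟨U, hxU, hU₁, hUx⟩ := EquidimLib.exists_open_max_through x U₁ hxU₁
  refine EquidimLib.isEquidimAt_of_bounds f x e U hxU (fun v hv ↦ hle v (hU₁ hv)) fun ζ hζU hζ ↦ ?_
  have hζx := hUx ζ hζU hζ
  refine ⟨EquidimLib.max_image_of_univOpen_geomReduced f x hopen' hred hζ hζx,
    EquidimLib.le_fibreClosureDim_of_dvr f x e hfib ?_ hζ hζx⟩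
  intro A _ _ _ P p b g sq x' hpx' hbx'
  haveI : LocallyOfFiniteType b := MorphismProperty.of_isPullback sq inferInstance
  haveI := DvrFlatLib.isReduced_fiber_baseChange f x hred sq x' hpx'
  haveI : IsLocallyNoetherian P := LocallyOfFiniteType.isLocallyNoetherian b
  haveI := DvrFlatLib.isReduced_stalk_quotient b x'
  exact ⟨DvrFlatLib.flat_stalkMap_baseChange_dvr f x hopen hred sq x' hpx' hbx',
    EquidimLib.noEmbeddedPrimes_of_isReduced _⟩

end Groth.Agent.S3409
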