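import Groth.Statements.S0658
import Mathlib

set_option autoImplicit false
open CategoryTheory CategoryTheory.Limits AlgebraicGeometry Opposite
universe u
open EtCore

namespace Groth.Agent.S0658

/-- Let k be a field and φ : U → Spec k a morphism of schemes. Then φ is étale if and only if U is
isomorphic over k to a disjoint union ∐ Spec K_i with each K_i a finite separable field extension of
k. -/
theorem result (k : Type u) [Field k] (U : Scheme.{u}) (φ : U ⟶ Spec (CommRingCat.of k)) :
    AlgebraicGeometry.Etale φ ↔
      ∃ (ι : Type u) (K : ι → Type u) (_ : ∀ i, Field (K i)) (_ : ∀ i, Algebra k (K i))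
        (_ : ∀ i, FiniteDimensional k (K i)) (_ : ∀ i, Algebra.IsSeparable k (K i))
        (e : (∐ fun i => Spec (CommRingCat.of (K i))) ≅ U),
        ∀ i, Sigma.ι (fun i => Spec (CommRingCat.of (K i))) i ≫ e.hom ≫ φ =
          Spec.map (CommRingCat.ofHom (algebraMap k (K i))) := by
  constructor
  · intro hE
    haveI : IsLocallyArtinian U := by
      rw [isLocallyArtinian_iff_of_isOpenCover (U := fun W : U.affineOpens => (W : U.Opens))
        (iSup_affineOpens_eq_top U) fun W => W.2]
      intro W
      let r : CommRingCat.of k ⟶ Γ(U, W.1) := Spec.preimage (W.2.fromSpec ≫ φ)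
      letI : Algebra k Γ(U, W.1) := r.hom.toAlgebra
      have h1 : AlgebraicGeometry.Etale (Spec.map r) := by rw [Spec.map_preimage]; infer_instance
      rw [HasRingHomProperty.Spec_iff (P := @AlgebraicGeometry.Etale), RingHom.Etale] at h1
      haveI : Algebra.Etale k Γ(U, W.1) := h1
      haveI : Module.Finite k Γ(U, W.1) := Algebra.FormallyUnramified.finite_of_free k _
      exact isArtinian_of_tower k inferInstance
    have haff : ∀ x : U, IsAffineOpen (⟨{x}, isOpen_discrete _⟩ : U.Opens) := by
      intro x
      obtain ⟨W, hW, hxW, hWle⟩ := exists_isAffineOpen_mem_and_subset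
        (show x ∈ (⟨{x}, isOpen_discrete _⟩ : U.Opens) from rfl)
      rwa [show (⟨{x}, isOpen_discrete _⟩ : U.Opens) = W from
        le_antisymm (fun y (hy : y = x) => hy ▸ hxW) hWle]
    let V : U → U.Opens := fun x => ⟨{x}, isOpen_discrete _⟩
    let ρ : ∀ x, CommRingCat.of k ⟶ Γ(U, V x) := fun x => Spec.preimage ((haff x).fromSpec ≫ φ)
    have hρ : ∀ x, Spec.map (ρ x) = (haff x).fromSpec ≫ φ := fun x => Spec.map_preimage _
    letI alg : ∀ x, Algebra k Γ(U, V x) := fun x => (ρ x).hom.toAlgebra
    haveI het : ∀ x, Algebra.Etale k Γ(U, V x) := by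
      intro x
      have h1 : AlgebraicGeometry.Etale (Spec.map (ρ x)) := by rw [hρ]; infer_instance
      rw [HasRingHomProperty.Spec_iff (P := @AlgebraicGeometry.Etale), RingHom.Etale] at h1
      exact h1
    have hfin : ∀ x, Module.Finite k Γ(U, V x) := fun x =>
      Algebra.FormallyUnramified.finite_of_free k _
    have hfield : ∀ x, IsField Γ(U, V x) := by
      intro x
      haveI := hfin x
      haveI : IsArtinianRing Γ(U, V x) := isArtinian_of_tower k inferInstance
      haveI : _root_.IsReduced Γ(U, V x) := Algebra.FormallyUnramified.isReduced_of_field k _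
      haveI : Subsingleton (PrimeSpectrum Γ(U, V x)) := by
        haveI : Subsingleton (V x).toScheme :=
          ⟨fun a b => Subtype.ext ((show a.1 = x from a.2).trans (show b.1 = x from b.2).symm)⟩
        exact ((haff x).isoSpec.inv.homeomorph.toEquiv).subsingleton
      haveI : Nontrivial Γ(U, V x) := by
        rw [← not_subsingleton_iff_nontrivial]
        intro h
        haveI : IsEmpty (Spec Γ(U, V x)) := inferInstanceAs (IsEmpty (PrimeSpectrum _))
        exact isEmptyElim ((haff x).isoSpec.hom.base ⟨x, rfl⟩)
      haveI : IsLocalRing Γ(U, V x) := IsLocalRing.of_unique_max_ideal (by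
        obtain ⟨m, hm⟩ := Ideal.exists_maximal Γ(U, V x)
        refine ⟨m, hm, fun n hn => ?_⟩
        exact congrArg PrimeSpectrum.asIdeal
          (Subsingleton.elim (⟨n, hn.isPrime⟩ : PrimeSpectrum Γ(U, V x)) ⟨m, hm.isPrime⟩))
      exact IsArtinianRing.isField_of_isReduced_of_isLocalRing _
    letI fld : ∀ x, Field Γ(U, V x) := fun x => (hfield x).toField
    let f : ∀ x, Spec (CommRingCat.of Γ(U, V x)) ⟶ U := fun x => (haff x).fromSpec
    have hr : ∀ x, (f x).opensRange = V x := fun x => (haff x).opensRange_fromSpec
    obtain ⟨hcol⟩ := nonempty_isColimit_cofanMk_of f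
      (by
        rw [eq_top_iff]
        intro y _
        exact TopologicalSpace.Opens.mem_iSup.mpr ⟨y, by rw [hr]; rfl⟩)
      (by
        intro a b hab
        rw [Function.onFun, hr, hr, disjoint_iff, eq_bot_iff]
        rintro y ⟨(h1 : y = a), (h2 : y = b)⟩
        exact absurd (h1.symm.trans h2) hab)
    refine ⟨(U : Type u), fun x => Γ(U, V x), fld, alg, hfin, fun x => ?_,
      (coproductIsCoproduct _).coconePointUniqueUpToIso hcol, fun x => ?_⟩
    · haveI := hfin x
      exact (Algebra.FormallyEtale.iff_isSeparable k Γ(U, V x)).mp inferInstance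
    · rw [← Category.assoc]
      erw [IsColimit.comp_coconePointUniqueUpToIso_hom _ hcol ⟨x⟩]
      exact (hρ x).symm
  · rintro ⟨ι, K, _, _, _, _, e, he⟩
    have h : AlgebraicGeometry.Etale (e.hom ≫ φ) := by
      rw [IsZariskiLocalAtSource.iff_of_openCover (P := @AlgebraicGeometry.Etale) (sigmaOpenCover _)]
      intro i
      show AlgebraicGeometry.Etale (Sigma.ι (fun i => Spec (CommRingCat.of (K i))) i ≫ e.hom ≫ φ)
      rw [he i, HasRingHomProperty.Spec_iff (P := @AlgebraicGeometry.Etale)]
      show RingHom.Etale (algebraMap k (K i))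
      rw [RingHom.etale_algebraMap]
      haveI : Algebra.FormallyEtale k (K i) := Algebra.FormallyEtale.of_isSeparable k (K i)
      haveI : Algebra.FinitePresentation k (K i) := Algebra.FinitePresentation.of_finiteType.mp inferInstance
      exact ⟨‹_›, ‹_›⟩
    exact (MorphismProperty.cancel_left_of_respectsIso @AlgebraicGeometry.Etale e.hom φ).mp h

end Groth.Agent.S0658
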