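import Groth.Statements.S0495
import Mathlib
-- import your own Groth.Agent.* helpers here

set_option autoImplicit false
universe u
open Hensel

namespace Groth.Agent.S0495

/-- A local ring whose Krull dimension is zero is henselian. -/
theorem result (R : Type u) [CommRing R] [IsLocalRing R]
    (h : ringKrullDim R = 0) : HenselianLocalRing R := by
  haveI : Ring.KrullDimLE 0 R := Ring.krullDimLE_iff.2 (by simp [h])
  refine { toIsLocalRing := ‹_›, is_henselian := fun f _ a₀ h₁ h₂ => ?_ }
  have hnil : IsNilpotent (Polynomial.aeval a₀ f) := by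
    rw [Polynomial.coe_aeval_eq_eval, ← mem_nilradical, Ring.KrullDimLE.nilradical_eq_maximalIdeal R]
    exact h₁
  have hu : IsUnit (Polynomial.aeval a₀ (Polynomial.derivative f)) := by
    rw [Polynomial.coe_aeval_eq_eval]; exact h₂
  obtain ⟨r, ⟨hr, hr0⟩, -⟩ := Polynomial.existsUnique_nilpotent_sub_and_aeval_eq_zero hnil hu
  rw [Polynomial.coe_aeval_eq_eval] at hr0
  refine ⟨r, hr0, ?_⟩
  rw [← neg_sub, neg_mem_iff]
  exact fun hu' => hr.not_isUnit hu'

end Groth.Agent.S0495
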