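import Groth.Statements.S1324
import Groth.Agent.SweepSix.GeomConn
-- import your own Groth.Agent.* helpers here

set_option autoImplicit false
universe u
open FlatMor

namespace Groth.Agent.S1324

open AlgebraicGeometry CategoryTheory Limits in
open ConnBC in
theorem key {k : Type u} [Field k] {Z : Scheme.{u}} (f₀ : Z ⟶ Spec (CommRingCat.of k)) (K : Type u) [Field K]
    [Algebra k K] (σ : Spec (CommRingCat.of k) ⟶ Z) (hσ : σ ≫ f₀ = 𝟙 _) (w a : BC f₀ K)
    (hw : pr f₀ K a ∈ connectedComponent (pr f₀ K w)) (ha : pr f₀ K a = σ (IsLocalRing.closedPoint k)) :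
    w ∈ connectedComponent a := by
  haveI : GeometricallyConnected (𝟙 (Spec (CommRingCat.of k))) := by
    have := SweepSix.GeomConn.gc_specMap_of_purelyInseparable (k := k) k
    simpa using! this
  obtain ⟨v, hv, hva⟩ : pr f₀ K a ∈ pr f₀ K '' connectedComponent w :=
    (image_connectedComponent f₀ K w).ge hw
  have hc := SweepSix.GeomConn.isConnected_preimage_range f₀ K σ _ hσ
  have h1 : v ∈ connectedComponent a :=
    hc.isPreconnected.subset_connectedComponent ⟨_, ha.symm⟩ (show pr f₀ K v ∈ Set.range σ from ⟨_, (hva.trans ha).symm⟩)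
  rw [connectedComponent_eq h1, ← connectedComponent_eq hv]
  exact mem_connectedComponent

open AlgebraicGeometry CategoryTheory Limits in
/-- Let f have a section s and form, for every point of the target, the connected component of the fibre
containing the value of the section; call the union of these the section components of (f, s). For
any base change of f with the induced section, the section components upstairs are exactly the
preimage of the section components downstairs. -/
theorem result {X Y X' Y' : Scheme.{u}} (f : X ⟶ Y) (s : Y ⟶ X) (hs : s ≫ f = 𝟙 Y)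
    (f' : X' ⟶ Y') (g' : X' ⟶ X) (g : Y' ⟶ Y) (hc : IsPullback g' f' f g)
    (s' : Y' ⟶ X') (hs' : s' ≫ f' = 𝟙 Y') (hs'g : s' ≫ g' = g ≫ s) :
    MoreMor.sectionComponents f' s' = g' ⁻¹' MoreMor.sectionComponents f s := by
  ext x'
  let y' := f' x'
  have hsf : ∀ y, f (s y) = y := fun y => by rw [← Scheme.Hom.comp_apply, hs]; rfl
  have hsf' : ∀ y, f' (s' y) = y := fun y => by rw [← Scheme.Hom.comp_apply, hs']; rfl
  have hy : f (g' x') = g y' := by rw [← Scheme.Hom.comp_apply, hc.w]; rfl
  have hg : g' (s' y') = s (g y') := by rw [← Scheme.Hom.comp_apply, hs'g]; rfl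
  simp only [MoreMor.sectionComponents, Set.mem_setOf_eq, Set.mem_preimage, hy]
  refine ⟨fun h => ?_, fun h => ?_⟩
  · rw [← hg]
    refine (isPreconnected_connectedComponentIn.image g' g'.continuous.continuousOn).subset_connectedComponentIn
      ⟨_, mem_connectedComponentIn (hsf' y'), rfl⟩ ?_ ⟨x', h, rfl⟩
    rintro _ ⟨z, hz, rfl⟩
    have := connectedComponentIn_subset _ _ hz
    change f (g' z) = g y'
    rw [← Scheme.Hom.comp_apply, hc.w]
    exact congrArg g this
  · have hP := isPullback_fiberToSpecResidueField_of_isPullback hc y'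
    let := (g.residueFieldMap y').hom.toAlgebra
    let f₀ : f.fiber (g y') ⟶ Spec (CommRingCat.of (Y.residueField (g y'))) := f.fiberToSpecResidueField (g y')
    let e : f'.fiber y' ≅ ConnBC.BC f₀ (Y'.residueField y') := hP.isoPullback
    have he : e.hom ≫ ConnBC.pr f₀ (Y'.residueField y') ≫ f.fiberι (g y') = f'.fiberι y' ≫ g' := by
      rw [← Category.assoc, show e.hom ≫ ConnBC.pr f₀ (Y'.residueField y') = _ from hP.isoPullback_hom_fst]
      exact CategoryTheory.Limits.pullback.lift_fst _ _ _
    obtain ⟨z, hz⟩ : x' ∈ Set.range (f'.fiberι y') := (f'.range_fiberι y').ge rfl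
    obtain ⟨a, ha⟩ : s' y' ∈ Set.range (f'.fiberι y') := (f'.range_fiberι y').ge (hsf' y')
    let σ : Spec (CommRingCat.of (Y.residueField (g y'))) ⟶ f.fiber (g y') :=
      CategoryTheory.Limits.pullback.lift (Y.fromSpecResidueField (g y') ≫ s) (𝟙 _)
        (by rw [Category.assoc, hs, Category.comp_id, Category.id_comp])
    have hinj : Function.Injective (f.fiberι (g y')) := (f.fiberι (g y')).isEmbedding.injective
    have hm : ∀ v, f.fiberι (g y') (ConnBC.pr f₀ (Y'.residueField y') (e.hom v)) = g' (f'.fiberι y' v) :=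
      fun v => congr($he v)
    have hw : ConnBC.pr f₀ (Y'.residueField y') (e.hom a) ∈
        connectedComponent (ConnBC.pr f₀ (Y'.residueField y') (e.hom z)) := by
      have h' := h
      rw [connectedComponentIn_eq_image (show s (g y') ∈ f ⁻¹' {g y'} from hsf _)] at h'
      obtain ⟨p, hp, hp'⟩ := h'
      let H := f.fiberHomeo (g y')
      have e1 : H (ConnBC.pr f₀ (Y'.residueField y') (e.hom z)) = p :=
        Subtype.ext ((hm z).trans ((congrArg g' hz).trans hp'.symm))
      have e2 : H (ConnBC.pr f₀ (Y'.residueField y') (e.hom a)) = ⟨s (g y'), hsf _⟩ :=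
        Subtype.ext ((hm a).trans ((congrArg g' ha).trans hg))
      have h3 := H.symm.continuous.image_connectedComponent_subset ⟨s (g y'), hsf _⟩ ⟨p, hp, rfl⟩
      rw [← e1, ← e2, Homeomorph.symm_apply_apply, Homeomorph.symm_apply_apply] at h3
      rw [← connectedComponent_eq h3]
      exact mem_connectedComponent
    have hσ : ConnBC.pr f₀ (Y'.residueField y') (e.hom a) = σ (IsLocalRing.closedPoint _) := by
      apply hinj
      rw [hm, ha, hg]
      have hσι : σ ≫ f.fiberι (g y') = Y.fromSpecResidueField (g y') ≫ s :=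
        CategoryTheory.Limits.pullback.lift_fst _ _ _
      refine Eq.trans ?_ (congr($hσι (IsLocalRing.closedPoint _))).symm
      exact (congrArg s (Scheme.fromSpecResidueField_apply (g y') (IsLocalRing.closedPoint _))).symm
    have hk := key f₀ (Y'.residueField y') σ (CategoryTheory.Limits.pullback.lift_snd _ _ _) _ _ hw hσ
    have h4 := e.inv.continuous.image_connectedComponent_subset (e.hom a) ⟨_, hk, rfl⟩
    rw [show e.inv (e.hom z) = z from congr($(e.hom_inv_id) z),
      show e.inv (e.hom a) = a from congr($(e.hom_inv_id) a)] at h4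
    refine (isPreconnected_connectedComponent.image _ (f'.fiberι y').continuous.continuousOn).subset_connectedComponentIn
      ⟨a, mem_connectedComponent, ha⟩ ?_ ⟨z, h4, hz⟩
    rintro _ ⟨v, -, rfl⟩
    exact (f'.range_fiberι y').le ⟨v, rfl⟩

end Groth.Agent.S1324
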