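import Groth.Statements.S3401
import Groth.Agent.ProConsLib.Sch

set_option autoImplicit false
open CategoryTheory AlgebraicGeometry
universe u
open EGA41

namespace Groth.Agent.S3401

lemma exists_open_inter_closure_subset {X : Type*} [TopologicalSpace X] {C : Set X}
    (hC : Topology.IsConstructible C) :
    (∀ x ∈ C, ∃ O : Set X, IsOpen O ∧ x ∈ O ∧ O ∩ closure {x} ⊆ C) ∧
      (∀ x ∈ Cᶜ, ∃ O : Set X, IsOpen O ∧ x ∈ O ∧ O ∩ closure {x} ⊆ Cᶜ) := by
  induction hC using Topology.IsConstructible.empty_union_induction with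
  | open_retrocompact U hU _ =>
    refine ⟨fun x hx => ⟨U, hU, hx, Set.inter_subset_left⟩, fun x hx => ⟨Set.univ, isOpen_univ, trivial, ?_⟩⟩
    rintro y ⟨-, hy⟩ hyU
    exact hx ((specializes_iff_mem_closure.mpr hy).mem_open hU hyU)
  | union s _ t _ hs ht =>
    refine ⟨fun x hx => ?_, fun x hx => ?_⟩
    · rcases hx with hx | hx
      · obtain ⟨O, hO, hxO, h⟩ := hs.1 x hx
        exact ⟨O, hO, hxO, h.trans Set.subset_union_left⟩
      · obtain ⟨O, hO, hxO, h⟩ := ht.1 x hx
        exact ⟨O, hO, hxO, h.trans Set.subset_union_right⟩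
    · rw [Set.compl_union] at hx ⊢
      obtain ⟨O, hO, hxO, h⟩ := hs.2 x hx.1
      obtain ⟨O', hO', hxO', h'⟩ := ht.2 x hx.2
      exact ⟨O ∩ O', hO.inter hO', ⟨hxO, hxO'⟩, fun y hy => ⟨h ⟨hy.1.1, hy.2⟩, h' ⟨hy.1.2, hy.2⟩⟩⟩
  | compl s _ hs => exact ⟨hs.2, by rw [compl_compl]; exact hs.1⟩


/-- Let X be a scheme and E a subset of X. If E is ind-constructible then for every point x of E the set
E ∩ cl{x} is a neighbourhood of x in cl{x}; when X is locally Noetherian the converse holds. (As
published, the necessity clause quantifies over all points x of X; for x outside E the condition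
cannot hold, and the argument uses x ∈ E, so it is stated here for x ∈ E.) Stated as an equivalence
for X locally Noetherian. -/
theorem result (X : Scheme.{u}) [IsLocallyNoetherian X]
    (E : Set X) :
    ProCons.IsIndConstructible E ↔
      ∀ x ∈ E, (Subtype.val ⁻¹' E : Set ↥(closure ({x} : Set X))) ∈ nhds (⟨x, subset_closure rfl⟩ : ↥(closure ({x} : Set X))) := by
  constructor
  · intro hE x hx
    obtain ⟨U, hU, hxU, -⟩ := exists_isAffineOpen_mem_and_subset (X := X) (x := x) (U := ⊤) trivial
    have : IsAffine U.toScheme := hU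
    obtain ⟨C, hC, hxC, hCE⟩ := ProConsLib.exists_isConstructible_subset
      (ProConsLib.isIndConstructible_iff_affine.mp hE U hU)
      (show (⟨x, hxU⟩ : U.toScheme) ∈ U.ι ⁻¹' E from hx)
    obtain ⟨O, hO, hxO, hOC⟩ := (exists_open_inter_closure_subset hC).1 _ hxC
    refine mem_nhds_iff.mpr ⟨Subtype.val ⁻¹' (U.ι '' O), ?_,
      (U.ι.isOpenEmbedding.isOpenMap _ hO).preimage continuous_subtype_val, ⟨_, hxO, rfl⟩⟩
    rintro ⟨y, hy⟩ ⟨z, hz, rfl⟩
    refine hCE (hOC ⟨hz, ?_⟩)
    rw [U.ι.isOpenEmbedding.isEmbedding.closure_eq_preimage_closure_image, Set.image_singleton]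
    exact hy
  · intro h
    rw [ProConsLib.isIndConstructible_iff_affine]
    intro U hU
    have : IsAffine U.toScheme := hU
    have : IsLocallyNoetherian U.toScheme := isLocallyNoetherian_of_isOpenImmersion U.ι
    have : AlgebraicGeometry.IsNoetherian U.toScheme := {}
    have : TopologicalSpace.NoetherianSpace U.toScheme := inferInstance
    have hcons : ∀ W : Set U.toScheme, IsOpen W → Topology.IsConstructible W := fun W hW =>
      (TopologicalSpace.NoetherianSpace.isCompact W).isConstructible hW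
    refine (@isOpen_iff_forall_mem_open U.toScheme (constructibleTopology U.toScheme) _).mpr fun z hz => ?_
    obtain ⟨t, ht, hts⟩ := (mem_nhds_induced Subtype.val _ _).mp (h (U.ι z) hz)
    obtain ⟨O, hOt, hO, hzO⟩ := mem_nhds_iff.mp ht
    refine ⟨U.ι ⁻¹' O ∩ closure {z}, ?_, (ProConsLib.isClopen_cons_of_isConstructible
      ((hcons _ (hO.preimage U.ι.continuous)).inter
        (Topology.isConstructible_compl.mp (hcons _ isClosed_closure.isOpen_compl)))).2,
      hzO, subset_closure rfl⟩
    rintro w ⟨hwO, hw⟩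
    have hw' : U.ι w ∈ closure ({U.ι z} : Set X) := by
      rw [U.ι.isOpenEmbedding.isEmbedding.closure_eq_preimage_closure_image, Set.image_singleton] at hw
      exact hw
    exact hts (show (⟨U.ι w, hw'⟩ : ↥(closure ({U.ι z} : Set X))) ∈ Subtype.val ⁻¹' t from hOt hwO)

end Groth.Agent.S3401
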