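import Groth.Statements.S0549
import Groth.Agent.CatLib.Completion
import Mathlib.RingTheory.DiscreteValuationRing.TFAE
import Mathlib.RingTheory.Filtration
import Mathlib.RingTheory.Flat.FaithfullyFlat.Algebra
-- import your own Groth.Agent.* helpers here

set_option autoImplicit false
universe u
open CAlg

namespace Groth.Agent.S0549

/-- A Noetherian local ring is a discrete valuation ring exactly when its completion at the maximal
ideal is a discrete valuation ring. -/
theorem result (A : Type u) [CommRing A] [IsLocalRing A]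
    [IsNoetherianRing A] :
    (∃ _ : IsDomain A, IsDiscreteValuationRing A) ↔
      ∃ _ : IsDomain (AdicCompletion (IsLocalRing.maximalIdeal A) A),
        IsDiscreteValuationRing (AdicCompletion (IsLocalRing.maximalIdeal A) A) := by
  classical
  let m := IsLocalRing.maximalIdeal A
  let B := AdicCompletion m A
  haveI : IsNoetherianRing B := CatLib.isNoetherianRing_cpl A
  have hmap : IsLocalRing.maximalIdeal B = m.map (algebraMap A B) := AdicCompletion.maximalIdeal_eq_map
  haveI : IsLocalHom (algebraMap A B) := ((IsLocalRing.local_hom_TFAE (algebraMap A B)).out 2 0).mp hmap.symm.le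
  haveI : Module.FaithfullyFlat A B := Module.FaithfullyFlat.of_flat_of_isLocalHom
  have hinj : Function.Injective (algebraMap A B) := FaithfulSMul.algebraMap_injective A B
  constructor
  · rintro ⟨_, hA⟩
    obtain ⟨ϖ, hϖ⟩ := IsDiscreteValuationRing.exists_irreducible A
    let π := algebraMap A B ϖ
    have hπm : IsLocalRing.maximalIdeal B = Ideal.span {π} := by
      exact hmap.trans ((congrArg (Ideal.map (algebraMap A B)) hϖ.maximalIdeal_eq).trans (by rw [Ideal.map_span, Set.image_singleton]))
    have hπn : ∀ n : ℕ, π ^ n ≠ 0 := fun n h => pow_ne_zero n hϖ.ne_zero (hinj (by rw [map_pow, map_zero]; exact h))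
    have hdec : ∀ x : B, x ≠ 0 → ∃ (n : ℕ) (u : Bˣ), π ^ n * u = x := by
      intro x hx
      have hex : ∃ n, x ∉ IsLocalRing.maximalIdeal B ^ n := by
        by_contra hc
        push Not at hc
        have := (Submodule.mem_iInf _).mpr hc
        rw [Ideal.iInf_pow_eq_bot_of_isLocalRing _ (IsLocalRing.maximalIdeal.isMaximal B).ne_top, Ideal.mem_bot] at this
        exact hx this
      have h0 : Nat.find hex ≠ 0 := fun h => by
        have := Nat.find_spec hex
        rw [h, pow_zero, Ideal.one_eq_top] at this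
        exact this trivial
      obtain ⟨n, hn⟩ := Nat.exists_eq_succ_of_ne_zero h0
      have hn1 : x ∈ IsLocalRing.maximalIdeal B ^ n := of_not_not (Nat.find_min hex (by omega))
      have hn2 : x ∉ IsLocalRing.maximalIdeal B ^ (n + 1) := by
        have := Nat.find_spec hex
        rwa [hn] at this
      rw [hπm, Ideal.span_singleton_pow, Ideal.mem_span_singleton'] at hn1 hn2
      obtain ⟨c, rfl⟩ := hn1
      have hc : IsUnit c := by
        by_contra hc
        obtain ⟨d, rfl⟩ := Ideal.mem_span_singleton'.mp (hπm ▸ hc : c ∈ Ideal.span {π})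
        exact hn2 ⟨d, by ring⟩
      exact ⟨n, hc.unit, by rw [mul_comm, hc.unit_spec]⟩
    haveI : NoZeroDivisors B := ⟨fun {x y} hxy => by
      by_contra hc
      push Not at hc
      obtain ⟨n, u, rfl⟩ := hdec x hc.1
      obtain ⟨k, v, rfl⟩ := hdec y hc.2
      rw [mul_mul_mul_comm, ← pow_add, ← Units.val_mul, Units.mul_left_eq_zero] at hxy
      exact hπn _ hxy⟩
    haveI : IsDomain B := NoZeroDivisors.to_isDomain B
    refine ⟨inferInstance, IsDiscreteValuationRing.ofHasUnitMulPowIrreducibleFactorization ⟨π, ?_, fun {x} hx => ?_⟩⟩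
    · have hnu : ¬ IsUnit π := fun h => by
        have : π ∈ IsLocalRing.maximalIdeal B := by rw [hπm]; exact Ideal.mem_span_singleton_self π
        exact this h
      refine ⟨hnu, fun a b hab => ?_⟩
      by_contra hc
      push Not at hc
      obtain ⟨a', rfl⟩ := Ideal.mem_span_singleton'.mp (hπm ▸ hc.1 : a ∈ Ideal.span {π})
      obtain ⟨b', rfl⟩ := Ideal.mem_span_singleton'.mp (hπm ▸ hc.2 : b ∈ Ideal.span {π})
      have h1 : π * (1 - a' * b' * π) = 0 := by
        rw [mul_sub, mul_one, sub_eq_zero]; linear_combination hab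
      rcases mul_eq_zero.mp h1 with h | h
      · exact hπn 1 (by rw [pow_one, h])
      · exact hnu (IsUnit.of_mul_eq_one_right (a' * b') (sub_eq_zero.mp h).symm)
    · obtain ⟨n, u, hu⟩ := hdec x hx
      exact ⟨n, ⟨u, hu⟩⟩
  · rintro ⟨hd, hB⟩
    haveI := hd
    haveI := hB
    haveI : IsDomain A := hinj.isDomain (algebraMap A B)
    refine ⟨inferInstance, ?_⟩
    obtain ⟨π, hπ⟩ := IsDiscreteValuationRing.exists_irreducible B
    have hnm : ¬ m.map (algebraMap A B) ≤ IsLocalRing.maximalIdeal B ^ 2 := by
      rw [← hmap, hπ.maximalIdeal_eq, Ideal.span_singleton_pow, Ideal.span_singleton_le_span_singleton]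
      rintro ⟨c, hc⟩
      exact hπ.not_isUnit (IsUnit.of_mul_eq_one c (mul_left_cancel₀ hπ.ne_zero (by rw [mul_one]; linear_combination -hc)))
    rw [Ideal.map_le_iff_le_comap] at hnm
    obtain ⟨a, ha, ha2⟩ := SetLike.not_le_iff_exists.mp hnm
    rw [Ideal.mem_comap, hπ.maximalIdeal_eq, Ideal.span_singleton_pow] at ha2
    have hb : algebraMap A B a ∈ IsLocalRing.maximalIdeal B := hmap ▸ Ideal.mem_map_of_mem _ ha
    rw [hπ.maximalIdeal_eq] at hb
    obtain ⟨c, hc⟩ := Ideal.mem_span_singleton'.mp hb
    have hcu : IsUnit c := by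
      by_contra hn
      obtain ⟨d, rfl⟩ := Ideal.mem_span_singleton'.mp (hπ.maximalIdeal_eq ▸ hn : c ∈ Ideal.span {π})
      exact ha2 (Ideal.mem_span_singleton'.mpr ⟨d, by rw [← hc]; ring⟩)
    have hspan : Ideal.span {algebraMap A B a} = IsLocalRing.maximalIdeal B := by
      rw [hπ.maximalIdeal_eq, ← hc, Ideal.span_singleton_mul_left_unit hcu]
    have hm : m = Ideal.span {a} := by
      rw [← Ideal.comap_map_eq_self_of_faithfullyFlat (B := B) m, ← hmap, ← hspan, ← Set.image_singleton,
        ← Ideal.map_span, Ideal.comap_map_eq_self_of_faithfullyFlat]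
    have hnf : ¬ IsField A := fun hF => by
      have h0 : m = ⊥ := IsLocalRing.isField_iff_maximalIdeal_eq.mp hF
      exact IsDiscreteValuationRing.not_isField B (IsLocalRing.isField_iff_maximalIdeal_eq.mpr
        (hmap.trans ((congrArg (Ideal.map (algebraMap A B)) h0).trans Ideal.map_bot)))
    exact ((IsDiscreteValuationRing.TFAE A hnf).out 4 0).mp (⟨⟨a, hm⟩⟩ : m.IsPrincipal)

end Groth.Agent.S0549
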