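import Groth.Statements.S6284
import Mathlib.RingTheory.LocalRing.Module
import Mathlib.RingTheory.Support
import Mathlib.RingTheory.Flat.FaithfullyFlat.Basic

set_option autoImplicit false
universe u
open scoped TensorProduct
open CAlg

namespace Groth.Agent.S6284

/-- Let R → R' be a ring map and M a finite R-module. Then the support of R' ⊗_R M is the inverse image
of the support of M under Spec(R') → Spec(R). -/
theorem result {R R' : Type u} [CommRing R] [CommRing R'] [Algebra R R'] (M : Type u) [AddCommGroup M] [Module R M] [Module.Finite R M] : Module.support R' (R' ⊗[R] M) = PrimeSpectrum.comap (algebraMap R R') ⁻¹' Module.support R M := by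
  ext q
  let p := PrimeSpectrum.comap (algebraMap R R') q
  rw [Set.mem_preimage, Module.mem_support_iff_nontrivial_residueField_tensorProduct,
    Module.mem_support_iff_nontrivial_residueField_tensorProduct]
  let κp := p.asIdeal.ResidueField
  let κq := q.asIdeal.ResidueField
  let : Algebra κp κq := (Ideal.ResidueField.map p.asIdeal q.asIdeal (algebraMap R R') rfl).toAlgebra
  have : IsScalarTower R κp κq := IsScalarTower.of_algebraMap_eq fun r => by
    rw [RingHom.algebraMap_toAlgebra, Ideal.ResidueField.map_algebraMap,
      IsScalarTower.algebraMap_apply R R' κq]
  rw [(TensorProduct.AlgebraTensorModule.cancelBaseChange R R' R' κq M).nontrivial_congr,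
    ← (TensorProduct.AlgebraTensorModule.cancelBaseChange R κp κq κq M).nontrivial_congr]
  exact Module.FaithfullyFlat.nontrivial_tensorProduct_iff_right κp κq

end Groth.Agent.S6284
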