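import Groth.Statements.S1276
import Mathlib
import Groth.Agent.S6284
-- import your own Groth.Agent.* helpers here

set_option autoImplicit false
universe u
open FlatMor

namespace Groth.Agent.S1276

/-- Let B be a finite type A-algebra, N a finite B-module and p a prime of A. Then there is a finitely
generated ideal J of B annihilating N (so N is a module on the finitely presented closed subscheme
V(J) of Spec B) such that a point of the fibre Spec(κ(p) ⊗ B) lies in V(J) if and only if it lies in
the support of the fibre module of N. -/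
theorem result {A B : Type u} [CommRing A] [CommRing B] [Algebra A B] [Algebra.FiniteType A B]
    (N : Type u) [AddCommGroup N] [Module B N] [Module A N] [IsScalarTower A B N] [Module.Finite B N] (p : Ideal A) [p.IsPrime] :
    ∃ J : Ideal B, J.FG ∧ J ≤ Module.annihilator B N ∧
      ∀ x : PrimeSpectrum (p.Fiber B), FlatCA.fiberIdeal p J ≤ x.asIdeal ↔ x ∈ Module.support (p.Fiber B) (FlatCA.fiberMod p B N) := by
  classical
  letI : Algebra B (p.Fiber B) := Algebra.TensorProduct.rightAlgebra
  let ι := (Algebra.TensorProduct.includeRight (R := A) (A := p.ResidueField) (B := B)).toRingHom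
  haveI : IsNoetherianRing (p.Fiber B) := Algebra.FiniteType.isNoetherianRing p.ResidueField (p.Fiber B)
  set a := Module.annihilator B N with ha
  have hfi : FlatCA.fiberIdeal p a = Submodule.span (p.Fiber B) (ι '' (a : Set B)) := rfl
  have hfg : Submodule.FG (Submodule.span (p.Fiber B) (ι '' (a : Set B))) := IsNoetherian.noetherian _
  rw [Submodule.fg_span_iff_fg_span_finset_subset] at hfg
  obtain ⟨s, hs, hspan⟩ := hfg
  obtain ⟨t, ht, rfl⟩ := Finset.subset_set_image_iff.mp hs
  refine ⟨Ideal.span (t : Set B), ⟨t, rfl⟩, Ideal.span_le.mpr ht, fun x => ?_⟩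
  have hJ : FlatCA.fiberIdeal p (Ideal.span (t : Set B)) = FlatCA.fiberIdeal p a := by
    rw [hfi, hspan, Finset.coe_image]
    exact Ideal.map_span _ _
  rw [hJ]
  have hsupp : Module.support (p.Fiber B) (FlatCA.fiberMod p B N) =
      PrimeSpectrum.comap (algebraMap B (p.Fiber B)) ⁻¹' Module.support B N :=
    Groth.Agent.S6284.result (R := B) (R' := p.Fiber B) N
  rw [hsupp, Set.mem_preimage, Module.support_eq_zeroLocus, PrimeSpectrum.mem_zeroLocus]
  show Ideal.map _ a ≤ _ ↔ _
  rw [Ideal.map_le_iff_le_comap]
  rfl

end Groth.Agent.S1276
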