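import Groth.Statements.S9436
import Mathlib.RingTheory.Smooth.StandardSmoothOfFree
import Mathlib.RingTheory.Extension.Presentation.Core

set_option autoImplicit false
universe u
open CAlg

namespace Groth.Agent.S9436
open Algebra

open TensorProduct in
/-- Étale algebras lift along surjections: for an ideal I of R and an étale (R/I)-algebra S̄ there is an
étale R-algebra S with (R/I) ⊗_R S ≅ S̄ over R/I. -/
theorem result (R : Type u) [CommRing R] (I : Ideal R) (Sb : Type u)
    [CommRing Sb] [Algebra (R ⧸ I) Sb] [Algebra.Etale (R ⧸ I) Sb] :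
    ∃ (S : Type u) (_ : CommRing S) (_ : Algebra R S), Algebra.Etale R S ∧
      Nonempty (((R ⧸ I) ⊗[R] S) ≃ₐ[R ⧸ I] Sb) := by
  classical
  obtain ⟨ι, σ, _, _, P, hP⟩ := Algebra.IsStandardSmoothOfRelativeDimension.out (n := 0) (R := R ⧸ I) (S := Sb)
    (self := Algebra.Etale.iff_isStandardSmoothOfRelativeDimension_zero.mp inferInstance)
  letI : Algebra R Sb := ((algebraMap (R ⧸ I) Sb).comp (Ideal.Quotient.mk I)).toAlgebra
  haveI : IsScalarTower R (R ⧸ I) Sb := IsScalarTower.of_algebraMap_eq fun _ => rfl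
  haveI : P.toPresentation.HasCoeffs R := ⟨fun x _ => Ideal.Quotient.mk_surjective x⟩
  letI : Fintype σ := Fintype.ofFinite σ
  let P₀ := P.toPreSubmersivePresentation.ofHasCoeffs R
  let g : P.toPresentation.ModelOfHasCoeffs R := P₀.jacobian
  let e₀ := P.toPresentation.tensorModelOfHasCoeffsEquiv R
  let ψ : P.toPresentation.ModelOfHasCoeffs R →ₐ[R] Sb :=
    (e₀.toAlgHom.restrictScalars R).comp Algebra.TensorProduct.includeRight
  have hg : ψ g = P.jacobian := by
    have h1 : g = Ideal.Quotient.mk _ (P₀.jacobiMatrix.det : MvPolynomial ι R) :=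
      P₀.jacobian_eq_jacobiMatrix_det
    have h2 : MvPolynomial.map (algebraMap R (R ⧸ I)) (P₀.jacobiMatrix.det : MvPolynomial ι R) =
        (P.jacobiMatrix.det : MvPolynomial ι (R ⧸ I)) := by
      rw [RingHom.map_det]
      congr 1
      ext1 i j
      rw [RingHom.mapMatrix_apply, Matrix.map_apply, PreSubmersivePresentation.jacobiMatrix_apply,
        PreSubmersivePresentation.jacobiMatrix_apply]
      show MvPolynomial.map _ (MvPolynomial.pderiv (P.map i) (P.toPresentation.relationOfHasCoeffs R j)) = _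
      rw [← MvPolynomial.pderiv_map, Presentation.map_relationOfHasCoeffs]
    show e₀ (1 ⊗ₜ[R] g) = _
    rw [h1]
    refine (P.toPresentation.tensorModelOfHasCoeffsEquiv_tmul R 1 _).trans ?_
    rw [map_one, one_mul, ← MvPolynomial.aeval_map_algebraMap (R ⧸ I), h2,
      P.toPreSubmersivePresentation.jacobian_eq_jacobiMatrix_det, Generators.algebraMap_apply]
  let T := Localization.Away g
  let Q₀ := (Algebra.PreSubmersivePresentation.localizationAway T g).comp P₀
  have hu : IsUnit Q₀.jacobian := by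
    rw [PreSubmersivePresentation.comp_jacobian_eq_jacobian_smul_jacobian, Algebra.smul_def,
      PreSubmersivePresentation.localizationAway_jacobian]
    have hgu : IsUnit (algebraMap (P.toPresentation.ModelOfHasCoeffs R) T g) :=
      IsLocalization.map_units (M := Submonoid.powers g) T ⟨g, Submonoid.mem_powers g⟩
    exact hgu.mul hgu
  have hd : Q₀.dimension = 0 := by
    rw [PreSubmersivePresentation.dimension_comp_eq_dimension_add_dimension]
    have h0 : P₀.dimension = 0 := hP
    rw [h0]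
    simp [Algebra.Presentation.dimension]
  haveI hss : Algebra.IsStandardSmoothOfRelativeDimension 0 R T :=
    ⟨⟨_, _, inferInstance, inferInstance, ⟨Q₀, hu⟩, hd⟩⟩
  let φ : T →ₐ[R] Sb := IsLocalization.liftAlgHom (M := Submonoid.powers g) (f := ψ) fun y => by
    obtain ⟨k, hk⟩ := y.2
    rw [← hk, map_pow, hg]
    exact P.jacobian_isUnit.pow k
  have hφ : ∀ b, φ (algebraMap _ T b) = ψ b := fun b => IsLocalization.lift_eq _ b
  let F : (R ⧸ I) ⊗[R] T →ₐ[R ⧸ I] Sb :=
    Algebra.TensorProduct.lift (Algebra.ofId (R ⧸ I) Sb) φ fun _ _ => Commute.all _ _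
  let i : P.toPresentation.ModelOfHasCoeffs R →ₐ[R] T := IsScalarTower.toAlgHom R _ T
  let G : Sb →ₐ[R ⧸ I] (R ⧸ I) ⊗[R] T :=
    (Algebra.TensorProduct.map (AlgHom.id (R ⧸ I) (R ⧸ I)) i).comp e₀.symm.toAlgHom
  refine ⟨T, inferInstance, inferInstance, inferInstance, ⟨AlgEquiv.ofAlgHom F G ?_ ?_⟩⟩
  · have key : F.comp (Algebra.TensorProduct.map (AlgHom.id (R ⧸ I) (R ⧸ I)) i) = e₀.toAlgHom := by
      refine Algebra.TensorProduct.ext (Subsingleton.elim _ _) (AlgHom.ext fun b => ?_)
      show F ((1 : R ⧸ I) ⊗ₜ[R] i b) = e₀ (1 ⊗ₜ[R] b)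
      rw [Algebra.TensorProduct.lift_tmul, map_one, one_mul]
      exact hφ b
    refine AlgHom.ext fun z => ?_
    exact (DFunLike.congr_fun key (e₀.symm z)).trans (e₀.apply_symm_apply z)
  · refine Algebra.TensorProduct.ext (Subsingleton.elim _ _) ?_
    refine IsLocalization.algHom_ext (Submonoid.powers g) (AlgHom.ext fun b => ?_)
    show G (F (1 ⊗ₜ[R] algebraMap _ T b)) = 1 ⊗ₜ[R] algebraMap _ T b
    rw [Algebra.TensorProduct.lift_tmul, map_one, one_mul, hφ]
    show (Algebra.TensorProduct.map (AlgHom.id (R ⧸ I) (R ⧸ I)) i) (e₀.symm (e₀ (1 ⊗ₜ[R] b))) = _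
    rw [e₀.symm_apply_apply]
    rfl

end Groth.Agent.S9436
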