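import Groth.Statements.S1391
import Groth.Agent.FlatLib.QStalk
import Groth.Agent.DvrFlatLib.Core
import Groth.Agent.KFlatLib.AffinePull
import Groth.Agent.KFlatLib.QCohPull
import Groth.Agent.LCILocusLib.Scheme

-- import your own Groth.Agent.* helpers here

set_option autoImplicit false
universe u
open FlatMor

namespace Groth.Agent.S1391



open AlgebraicGeometry CategoryTheory Limits in
/-- In a cartesian square X' = S' ×_S X with projections g' : X' → X and f' : X' → S', if a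
quasi-coherent O_X-module F is flat over S at the image of a point x' of X', then the pullback of F
to X' is flat over S' at x'. -/
theorem result {X S X' S' : Scheme.{u}} (f : X ⟶ S) (f' : X' ⟶ S') (g' : X' ⟶ X) (g : S' ⟶ S) (hc : IsPullback g' f' f g)
    (F : X.Modules) (hF : Coh.IsQCoh F) (x' : X') (h : FlatMod.IsFlatOverAt f F (g' x')) :
    FlatMod.IsFlatOverAt f' ((Scheme.Modules.pullback g').obj F) x' := by
  haveI : Coh.IsQCoh F := hF
  obtain ⟨V, hV, hxV, -⟩ := exists_isAffineOpen_mem_and_subset (X := S) (x := f (g' x')) (U := ⊤) trivial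
  have hsV : g (f' x') ∈ V := by
    rw [← Scheme.Hom.comp_apply, ← hc.w]
    exact hxV
  obtain ⟨U, hU, hxU, eU⟩ := exists_isAffineOpen_mem_and_subset (X := X) (x := g' x') (U := f ⁻¹ᵁ V) hxV
  obtain ⟨T, hT, hxT, eT⟩ := exists_isAffineOpen_mem_and_subset (X := S') (x := f' x') (U := g ⁻¹ᵁ V) hsV
  have eU : U ≤ f ⁻¹ᵁ V := eU
  have eT : T ≤ g ⁻¹ᵁ V := eT
  obtain ⟨hW, hpo⟩ := LCILocusLib.pullback_chart hc hV hT eT hU eU
  let W : X'.Opens := g' ⁻¹ᵁ U ⊓ f' ⁻¹ᵁ T
  have hxW : x' ∈ W := ⟨hxU, hxT⟩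
  haveI : Coh.IsQCoh ((Scheme.Modules.pullback g').obj F) := KFlatLib.isQCoh_pullback g' F
  letI : Algebra Γ(S, V) Γ(X, U) := (f.appLE V U eU).hom.toAlgebra
  letI : Algebra Γ(S, V) Γ(S', T) := (g.appLE V T eT).hom.toAlgebra
  letI : Algebra Γ(X, U) Γ(X', W) := (g'.appLE U W inf_le_left).hom.toAlgebra
  letI : Algebra Γ(S', T) Γ(X', W) := (f'.appLE T W inf_le_right).hom.toAlgebra
  letI : Algebra Γ(S, V) Γ(X', W) := ((g'.appLE U W inf_le_left).hom.comp (f.appLE V U eU).hom).toAlgebra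
  haveI : IsScalarTower Γ(S, V) Γ(X, U) Γ(X', W) := IsScalarTower.of_algebraMap_eq fun _ => rfl
  haveI : IsScalarTower Γ(S, V) Γ(S', T) Γ(X', W) := IsScalarTower.of_algebraMap_eq fun a =>
    (congrArg (fun φ : Γ(S, V) ⟶ Γ(X', W) => φ.hom a) hpo.w)
  haveI : Algebra.IsPushout Γ(S, V) Γ(S', T) Γ(X, U) Γ(X', W) :=
    CommRingCat.isPushout_iff_isPushout.1 hpo.flip
  letI : Module Γ(S, V) Γ(F, U) := Module.compHom _ (algebraMap Γ(S, V) Γ(X, U))
  haveI : IsScalarTower Γ(S, V) Γ(X, U) Γ(F, U) := IsScalarTower.of_algebraMap_smul fun _ _ => rfl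
  let G := KFlatLib.pb g' F
  letI : Module Γ(X, U) Γ(G, W) := Module.compHom _ (algebraMap Γ(X, U) Γ(X', W))
  haveI : IsScalarTower Γ(X, U) Γ(X', W) Γ(G, W) := IsScalarTower.of_algebraMap_smul fun _ _ => rfl
  letI : Module Γ(S', T) Γ(G, W) := Module.compHom _ (algebraMap Γ(S', T) Γ(X', W))
  haveI : IsScalarTower Γ(S', T) Γ(X', W) Γ(G, W) := IsScalarTower.of_algebraMap_smul fun _ _ => rfl
  letI : Module Γ(S, V) Γ(G, W) := Module.compHom _ (algebraMap Γ(S, V) Γ(X', W))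
  haveI : IsScalarTower Γ(S, V) Γ(X, U) Γ(G, W) := IsScalarTower.of_algebraMap_smul fun _ _ => rfl
  haveI : IsScalarTower Γ(S, V) Γ(S', T) Γ(G, W) := IsScalarTower.of_algebraMap_smul fun a m => by
    show algebraMap Γ(S', T) Γ(X', W) (algebraMap Γ(S, V) Γ(S', T) a) • m = algebraMap Γ(S, V) Γ(X', W) a • m
    rw [← IsScalarTower.algebraMap_apply]
  let ι : Γ(F, U) →ₗ[Γ(X, U)] Γ(G, W) :=
    { toFun := fun m => KFlatLib.puSecLE g' F inf_le_left m
      map_add' := map_add _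
      map_smul' := fun r m => KFlatLib.puSecLE_smul g' F inf_le_left r m }
  have hι : IsBaseChange Γ(X', W) ι :=
    KFlatLib.isBaseChange_puSec g' F hU hW inf_le_left (fun _ => rfl) ι fun _ => rfl
  have hιA : IsBaseChange Γ(S', T) (ι.restrictScalars Γ(S, V)) := DvrFlatLib.isBaseChange_restrict ι hι
  rw [FlatLib.isFlatOverAt_iff f F V hV U hU eU hxU rfl] at h
  rw [FlatLib.isFlatOverAt_iff f' ((Scheme.Modules.pullback g').obj F) T hT W hW inf_le_right hxW rfl]
  refine FlatLib.flat_localized_baseChange (hU.primeIdealOf ⟨g' x', hxU⟩).asIdeal.primeCompl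
    (LocalizedModule.mkLinearMap _ Γ(F, U)) (hW.primeIdealOf ⟨x', hxW⟩).asIdeal.primeCompl
    (LocalizedModule.mkLinearMap _ Γ(G, W)) (algebraMap Γ(X, U) Γ(X', W)) (fun t ht hmem => ht ?_)
    (ι.restrictScalars Γ(S, V)) hιA (fun s m => ι.map_smul s m) h
  rw [← congrArg PrimeSpectrum.asIdeal (IsAffineOpen.comap_primeIdealOf_appLE U hU W hW inf_le_left hxW)]
  exact hmem


end Groth.Agent.S1391
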