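import Groth.Statements.S1392
import Groth.Agent.S1391
import Groth.Agent.DepthLib.SkOpen
import Groth.Agent.KFlatLib.PerfectPull
import Groth.Agent.RichLib.ModFlatGlobal
import Groth.Agent.CohCmpLib.FrameTools

-- import your own Groth.Agent.* helpers here

set_option autoImplicit false
universe u
open FlatMor

namespace Groth.Agent.S1392

open AlgebraicGeometry CategoryTheory TensorProduct

theorem flat_of_tensor {R A B N : Type u} [CommRing R] [CommRing A] [CommRing B] [Algebra R A] [Algebra A B]
    [Algebra R B] [IsScalarTower R A B]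
    [Module.FaithfullyFlat A B] [AddCommGroup N] [Module A N] [Module R N] [IsScalarTower R A N]
    [Module.Flat R (B ⊗[A] N)] : Module.Flat R N := by
  rw [Module.Flat.iff_lTensor_preserves_injective_linearMap]
  intro P Q _ _ _ _ f hf
  let F : N ⊗[R] P →ₗ[A] N ⊗[R] Q := TensorProduct.AlgebraTensorModule.lTensor A N f
  change Function.Injective F
  rw [← Module.FaithfullyFlat.lTensor_injective_iff_injective A B F]
  have h1 := Module.Flat.lTensor_preserves_injective_linearMap (M := B ⊗[A] N) f hf
  let eP := TensorProduct.AlgebraTensorModule.assoc R A A B N P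
  let eQ := TensorProduct.AlgebraTensorModule.assoc R A A B N Q
  have h2 : (LinearMap.lTensor B F : _ → _) = eQ ∘ (f.lTensor (B ⊗[A] N)) ∘ eP.symm := funext fun t => by
    obtain ⟨t, rfl⟩ := eP.surjective t
    rw [Function.comp_apply, Function.comp_apply, eP.symm_apply_apply]
    induction t with
    | zero => simp
    | add a b ha hb => simp only [map_add, ha, hb]
    | tmul c p =>
      induction c with
      | zero => simp
      | add a b ha hb => simp only [TensorProduct.add_tmul, map_add, ha, hb]
      | tmul b n => rfl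
  rw [h2]
  exact eQ.injective.comp (h1.comp eP.symm.injective)

theorem isFlatOverAt_comp {Z T S : Scheme.{u}} (q : Z ⟶ T) (g : T ⟶ S) (G : Z.Modules) (z : Z) (hg : (g.stalkMap (q z)).hom.Flat)
    (h : FlatMod.IsFlatOverAt q G z) : FlatMod.IsFlatOverAt (q ≫ g) G z := by
  letI : Algebra (S.presheaf.stalk (g (q z))) (T.presheaf.stalk (q z)) := (g.stalkMap (q z)).hom.toAlgebra
  haveI : Module.Flat (S.presheaf.stalk (g (q z))) (T.presheaf.stalk (q z)) := hg
  letI := FlatMod.moduleStalkOver q G z
  letI : Module (S.presheaf.stalk (g (q z))) (G.presheaf.stalk z) :=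
    Module.compHom _ (g.stalkMap (q z)).hom
  haveI : IsScalarTower (S.presheaf.stalk (g (q z))) (T.presheaf.stalk (q z)) (G.presheaf.stalk z) :=
    IsScalarTower.of_algebraMap_smul fun _ _ => rfl
  haveI : Module.Flat (T.presheaf.stalk (q z)) (G.presheaf.stalk z) := h
  have h1 := Module.Flat.trans (S.presheaf.stalk (g (q z))) (T.presheaf.stalk (q z)) (G.presheaf.stalk z)
  unfold FlatMod.IsFlatOverAt FlatMod.moduleStalkOver
  rw [Scheme.Hom.stalkMap_comp]
  exact h1

theorem isFlatOverAt_descend {X Y Z : Scheme.{u}} (f : X ⟶ Y) (p : Z ⟶ X) (M : X.Modules) (z : Z) (hp : (p.stalkMap z).hom.Flat)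
    (h : FlatMod.IsFlatOverAt (p ≫ f) ((Scheme.Modules.pullback p).obj M) z) :
    FlatMod.IsFlatOverAt f M (p z) := by
  let R := Y.presheaf.stalk (f (p z))
  let A := X.presheaf.stalk (p z)
  let B := Z.presheaf.stalk z
  letI : Algebra A B := (p.stalkMap z).hom.toAlgebra
  obtain ⟨e, -⟩ := CohCmpLib.exists_stalkPullEquiv p M z
  haveI : Module.Flat A B := hp
  haveI : IsLocalHom (algebraMap A B) := by rw [RingHom.algebraMap_toAlgebra]; infer_instance
  haveI : Module.FaithfullyFlat A B := Module.FaithfullyFlat.of_flat_of_isLocalHom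
  letI : Algebra R A := (f.stalkMap (p z)).hom.toAlgebra
  letI : Algebra R B := ((p.stalkMap z).hom.comp (f.stalkMap (p z)).hom).toAlgebra
  haveI : IsScalarTower R A B := IsScalarTower.of_algebraMap_eq fun _ => rfl
  letI := FlatMod.moduleStalkOver f M (p z)
  letI : Module R (CohCmpLib.stk M (p z)) := FlatMod.moduleStalkOver f M (p z)
  haveI : IsScalarTower R A (CohCmpLib.stk M (p z)) := IsScalarTower.of_algebraMap_smul fun _ _ => rfl
  letI : Module R (CohCmpLib.stk (KFlatLib.pb p M) z) := Module.compHom _ (algebraMap R B)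
  haveI : IsScalarTower R B (CohCmpLib.stk (KFlatLib.pb p M) z) :=
    IsScalarTower.of_algebraMap_smul fun _ _ => rfl
  haveI : Module.Flat R (CohCmpLib.stk (KFlatLib.pb p M) z) := by
    unfold FlatMod.IsFlatOverAt FlatMod.moduleStalkOver at h
    rw [Scheme.Hom.stalkMap_comp] at h
    exact h
  haveI : Module.Flat R (B ⊗[A] CohCmpLib.stk M (p z)) :=
    Module.Flat.of_linearEquiv (e.restrictScalars R)
  exact flat_of_tensor (R := R) (A := A) (B := B) (N := CohCmpLib.stk M (p z))



open AlgebraicGeometry CategoryTheory Limits in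
/-- In a cartesian square X' = S' ×_S X with projections g' : X' → X and f' : X' → S', let F be a
quasi-coherent O_X-module; whenever g : S' → S is flat at f' x' and the pullback of F to X' is
S'-flat at x', F itself is S-flat at g' x'. -/
theorem result {X S X' S' : Scheme.{u}} (f : X ⟶ S) (f' : X' ⟶ S') (g' : X' ⟶ X) (g : S' ⟶ S) (hc : IsPullback g' f' f g)
    (F : X.Modules) (hF : Coh.IsQCoh F) (x' : X') (hg : (g.stalkMap (f' x')).hom.Flat)
    (h : FlatMod.IsFlatOverAt f' ((Scheme.Modules.pullback g').obj F) x') :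
    FlatMod.IsFlatOverAt f F (g' x') := by
  have e : f'.base x' = f'.base x' := rfl
  have h1 : FlatMod.IsFlatOverAt g (Coh.structureModule S') (f' x') :=
    (DepthLib.isFlatOverAt_structureModule_iff g (f' x')).2 hg
  have h2 := Groth.Agent.S1391.result g g' f' f hc.flip (Coh.structureModule S') QCohLib.isQCoh_unit x' h1
  rw [RichLib.ModFlat.isFlatOverAt_iso g' (KFlatLib.pullUnitIso f'), DepthLib.isFlatOverAt_structureModule_iff] at h2
  refine isFlatOverAt_descend f g' F x' h2 ?_
  rw [hc.w]
  exact isFlatOverAt_comp f' g _ x' hg h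


end Groth.Agent.S1392
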