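import Groth.Statements.S9350
import Groth.Agent.S1392

-- import your own Groth.Agent.* helpers here

set_option autoImplicit false
universe u
open FlatMod

namespace Groth.Agent.S9350

open TensorProduct in
theorem flat_tensor {R A B N : Type u} [CommRing R] [CommRing A] [CommRing B] [Algebra R A] [Algebra A B]
    [Algebra R B] [IsScalarTower R A B]
    [Module.Flat A B] [AddCommGroup N] [Module A N] [Module R N] [IsScalarTower R A N]
    [Module.Flat R N] : Module.Flat R (B ⊗[A] N) := by
  rw [Module.Flat.iff_lTensor_preserves_injective_linearMap]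
  intro P Q _ _ _ _ f hf
  let F : N ⊗[R] P →ₗ[A] N ⊗[R] Q := TensorProduct.AlgebraTensorModule.lTensor A N f
  have hF : Function.Injective F := Module.Flat.lTensor_preserves_injective_linearMap (M := N) f hf
  have h1 := Module.Flat.lTensor_preserves_injective_linearMap (R := A) (M := B) F hF
  let eP := TensorProduct.AlgebraTensorModule.assoc R A A B N P
  let eQ := TensorProduct.AlgebraTensorModule.assoc R A A B N Q
  have h2 : (f.lTensor (B ⊗[A] N) : _ → _) = eQ.symm ∘ (LinearMap.lTensor B F) ∘ eP := funext fun t => by
    rw [Function.comp_apply, Function.comp_apply]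
    refine eQ.injective ?_
    rw [eQ.apply_symm_apply]
    induction t with
    | zero => simp
    | add a b ha hb => simp only [map_add, ha, hb]
    | tmul c p =>
      induction c with
      | zero => simp
      | add a b ha hb => simp only [TensorProduct.add_tmul, map_add, ha, hb]
      | tmul b n => rfl
  rw [h2]
  exact eQ.symm.injective.comp (h1.comp eP.injective)



open AlgebraicGeometry CategoryTheory in
/-- Let h : X → Y be a morphism of S-schemes, q : Y → S, G a quasi-coherent O_Y-module and x ∈ X with h
flat at x. Flatness of G over S at h x is equivalent to flatness of h^*G over S at x. -/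
theorem result {X Y S : Scheme.{u}} (h : X ⟶ Y) (q : Y ⟶ S)
    (G : Y.Modules) (hG : Coh.IsQCoh G) (x : X) (hflat : (h.stalkMap x).hom.Flat) :
    FlatMod.IsFlatOverAt q G (h.base x) ↔ FlatMod.IsFlatOverAt (h ≫ q) ((Scheme.Modules.pullback h).obj G) x := by
  refine ⟨fun hG' => ?_, fun hX => Groth.Agent.S1392.isFlatOverAt_descend q h G x hflat hX⟩
  let R := S.presheaf.stalk (q (h x))
  let A := Y.presheaf.stalk (h x)
  let B := X.presheaf.stalk x
  letI : Algebra A B := (h.stalkMap x).hom.toAlgebra
  obtain ⟨e, -⟩ := CohCmpLib.exists_stalkPullEquiv h G x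
  haveI : Module.Flat A B := hflat
  letI : Algebra R A := (q.stalkMap (h x)).hom.toAlgebra
  letI : Algebra R B := ((h.stalkMap x).hom.comp (q.stalkMap (h x)).hom).toAlgebra
  haveI : IsScalarTower R A B := IsScalarTower.of_algebraMap_eq fun _ => rfl
  letI : Module R (CohCmpLib.stk G (h x)) := FlatMod.moduleStalkOver q G (h x)
  haveI : IsScalarTower R A (CohCmpLib.stk G (h x)) := IsScalarTower.of_algebraMap_smul fun _ _ => rfl
  letI : Module R (CohCmpLib.stk (KFlatLib.pb h G) x) := Module.compHom _ (algebraMap R B)
  haveI : IsScalarTower R B (CohCmpLib.stk (KFlatLib.pb h G) x) :=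
    IsScalarTower.of_algebraMap_smul fun _ _ => rfl
  haveI : Module.Flat R (CohCmpLib.stk G (h x)) := hG'
  haveI : Module.Flat R (TensorProduct A B (CohCmpLib.stk G (h x))) := flat_tensor
  have h1 : Module.Flat R (CohCmpLib.stk (KFlatLib.pb h G) x) :=
    Module.Flat.of_linearEquiv (e.restrictScalars R).symm
  unfold FlatMod.IsFlatOverAt FlatMod.moduleStalkOver
  rw [Scheme.Hom.stalkMap_comp]
  exact h1


end Groth.Agent.S9350
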