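import Groth.Statements.S1254
import Groth.Agent.DevissFreeLib.Base

set_option linter.all false
open scoped TensorProduct

set_option autoImplicit false
universe u
open FlatMor

namespace Groth.Agent.S1254

/-- Let S be a finitely presented R-algebra, N a finitely presented S-module which is flat over R, and 𝔯
a prime of R such that N/S/R admits a complete dévissage over 𝔯. Then for some f ∈ R outside 𝔯 the
localization N_f is projective over R_f, and is R_f-isomorphic to a finite product of free modules
B_i^{r_i} over smooth R_f-algebras B_i whose fibres are geometrically irreducible. -/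
theorem result {R S : Type u} [CommRing R] [CommRing S] [Algebra R S] [Algebra.FinitePresentation R S]
    (N : Type u) [AddCommGroup N] [Module S N] [Module R N] [IsScalarTower R S N] [Module.FinitePresentation S N] [Module.Flat R N]
    (rr : Ideal R) [rr.IsPrime] (D : FlatCA.CompleteDevissage R S N rr) :
    ∃ f : R, f ∉ rr ∧
      Module.Projective (Localization.Away f) (LocalizedModule (Submonoid.powers f) N) ∧
      ∃ (k : ℕ) (B : Fin k → Type u) (_ : ∀ i, CommRing (B i)) (_ : ∀ i, Algebra (Localization.Away f) (B i)) (r : Fin k → ℕ),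
        (∀ i, Algebra.Smooth (Localization.Away f) (B i) ∧ FlatCA.GeomIrredFibres (Localization.Away f) (B i)) ∧
        Nonempty (LocalizedModule (Submonoid.powers f) N ≃ₗ[Localization.Away f] (∀ i, Fin (r i) → B i)) := by
  have tRAM : ∀ i, IsScalarTower R (D.A i) (D.M i) := fun i =>
    IsScalarTower.of_algebraMap_smul fun r x => by
      rw [IsScalarTower.algebraMap_apply R (D.B i) (D.A i), algebraMap_smul, algebraMap_smul]
  have tRBM' : ∀ i, IsScalarTower R (D.B i) (D.M (i + 1)) := fun i =>
    IsScalarTower.of_algebraMap_smul fun r x => by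
      haveI := tRAM (i + 1)
      rw [← algebraMap_smul (D.A (i + 1)) (algebraMap R (D.B i) r) x,
        ← IsScalarTower.algebraMap_apply, algebraMap_smul]
  haveI : IsScalarTower R S (D.M 0) := IsScalarTower.of_algebraMap_smul fun r x => by
    haveI := tRAM 0
    rw [← algebraMap_smul (D.A 0) (algebraMap R S r) x, ← IsScalarTower.algebraMap_apply,
      algebraMap_smul]
  let g : ∀ i, i + 1 < D.n → (D.M i →ₗ[D.B i] D.M (i + 1)) := fun i hi =>
    (D.isoCoker i hi).toLinearMap ∘ₗ (LinearMap.range (D.α i)).mkQ
  have hgs : ∀ i hi, Function.Surjective (g i hi) := fun i hi =>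
    (D.isoCoker i hi).surjective.comp (Submodule.mkQ_surjective _)
  have hgx : ∀ i hi, Function.Exact (D.α i) (g i hi) := fun i hi y => by
    simp [g, Submodule.Quotient.mk_eq_zero]
  -- the neighbourhood of each step
  have step : ∀ i, i < D.n → Module.FinitePresentation (D.B i) (D.M i) → ∀ f : R, f ∉ rr →
      Module.Flat R (LocalizedModule (Submonoid.powers f) (D.M i)) →
      ∃ f₀ : R, f₀ ∉ rr ∧ ∀ U : Submonoid R, (∃ c, f₀ * c ∈ U) →
        FlatCA.UnivInj R
          ((LocalizedModule.map (Algebra.algebraMapSubmonoid (D.B i) U) (D.α i)).restrictScalars R) := by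
    intro i hi hfp f hf hflat
    haveI := hfp
    haveI := D.smooth i hi
    refine DevissFreeLib.step_nhd (D.geomIrred i hi) rr (D.α i) (D.fibreIso i hi) ?_
    refine DevissFreeLib.flatAt_of_flat_localized (Submonoid.powers f) _ ?_ hflat
    rintro _ ⟨k, rfl⟩ hk
    exact hf (Ideal.IsPrime.mem_of_pow_mem inferInstance k
      ((DevissFreeLib.comap_map_eq (D.geomIrred i hi) rr).le hk))
  -- finite presentation and flatness along the dévissage
  have key : ∀ i, i < D.n → Module.FinitePresentation (D.B i) (D.M i) ∧ ∃ f : R, f ∉ rr ∧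
      ∀ U : Submonoid R, (∃ c, f * c ∈ U) → Module.Flat R (LocalizedModule U (D.M i)) := by
    intro i
    induction i with
    | zero =>
      intro hi
      haveI := tRAM 0
      haveI := D.finiteBA 0 hi
      haveI := D.fpSA
      haveI := D.smooth 0 hi
      haveI : Module.FinitePresentation S (D.M 0) := Module.FinitePresentation.of_equiv D.isoN
      haveI : Module.Finite S (D.A 0) := Module.Finite.of_surjective (Algebra.linearMap S (D.A 0)) D.surjSA
      haveI := DevissFreeLib.fp_of_restrictScalars S (D.A 0) (D.M 0)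
      haveI : Algebra.FinitePresentation R (D.A 0) := Algebra.FinitePresentation.trans R S (D.A 0)
      refine ⟨DevissFreeLib.fp_of_finite R (D.B 0) (D.A 0) (D.M 0), 1,
        fun h => (inferInstance : rr.IsPrime).ne_top ((Ideal.eq_top_iff_one rr).2 h), fun U _ => ?_⟩
      haveI : Module.Flat R (D.M 0) := Module.Flat.of_linearEquiv (D.isoN.restrictScalars R).symm
      exact FlatInjLib.flat_of_isLocalizedModule U (LocalizedModule.mkLinearMap U (D.M 0))
    | succ i ih =>
      intro hi
      obtain ⟨hfp, f, hf, hflat⟩ := ih (by omega)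
      haveI := hfp
      haveI := tRBM' i
      haveI := tRAM (i + 1)
      haveI := D.finiteBA (i + 1) hi
      haveI := D.fpBA' i hi
      haveI := D.smooth i (by omega)
      haveI := D.smooth (i + 1) hi
      haveI : Module.FinitePresentation (D.B i) (D.M (i + 1)) :=
        Module.finitePresentation_of_surjective (g i hi) (hgs i hi) (by
          rw [(hgx i hi).linearMap_ker_eq, ← Submodule.map_top]
          exact Module.Finite.fg_top.map _)
      haveI : Module.Finite (D.B i) (D.A (i + 1)) :=
        Module.Finite.of_surjective (Algebra.linearMap (D.B i) (D.A (i + 1))) (D.surjBA' i hi)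
      haveI := DevissFreeLib.fp_of_restrictScalars (D.B i) (D.A (i + 1)) (D.M (i + 1))
      haveI : Algebra.FinitePresentation R (D.A (i + 1)) :=
        Algebra.FinitePresentation.trans R (D.B i) (D.A (i + 1))
      refine ⟨DevissFreeLib.fp_of_finite R (D.B (i + 1)) (D.A (i + 1)) (D.M (i + 1)), ?_⟩
      obtain ⟨f₀, hf₀, hinj⟩ := step i (by omega) hfp f hf
        (hflat _ ⟨1, by rw [mul_one]; exact Submonoid.mem_powers f⟩)
      refine ⟨f * f₀, fun h => ((inferInstance : rr.IsPrime).mem_or_mem h).elim hf hf₀, fun U hU => ?_⟩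
      obtain ⟨c, hc⟩ := hU
      haveI := (DevissFreeLib.flat_localized_iff (B := D.B i) (M := D.M i) U).2
        (hflat U ⟨f₀ * c, by rwa [← mul_assoc]⟩)
      exact (DevissFreeLib.flat_localized_iff (B := D.B i) U).1 (DevissFreeLib.flat_cokernel _ (D.α i) (g i hi)
        (hgs i hi) (hgx i hi) (hinj U ⟨f * c, by rwa [← mul_assoc, mul_comm f₀ f]⟩))
  -- one element for all the steps
  have hex : ∀ i : Fin D.n, ∃ f₀ : R, f₀ ∉ rr ∧ ∀ U : Submonoid R, (∃ c, f₀ * c ∈ U) →
      FlatCA.UnivInj R
        ((LocalizedModule.map (Algebra.algebraMapSubmonoid (D.B i) U) (D.α i)).restrictScalars R) := fun i => by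
    obtain ⟨hfp, f, hf, hflat⟩ := key i i.2
    exact step i i.2 hfp f hf (hflat _ ⟨1, by rw [mul_one]; exact Submonoid.mem_powers f⟩)
  choose φ hφ hφU using hex
  let f := ∏ i, φ i
  have hf : f ∉ rr := fun h => by
    obtain ⟨i, -, hi⟩ := (Ideal.IsPrime.prod_mem_iff).1 h
    exact hφ i hi
  let U := Submonoid.powers f
  let A := Localization.Away f
  let L : ℕ → Type u := fun i => LocalizedModule U (D.M i)
  let P : ℕ → Type u := fun i => LocalizedModule U (Fin (D.r i) → D.B i)
  let a : ∀ i, P i →ₗ[A] L i := fun i => LocalizedModule.map U ((D.α i).restrictScalars R)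
  have ha : ∀ i, i < D.n → Function.Injective (a i) := fun i hi => by
    obtain ⟨c, hc⟩ := Finset.dvd_prod_of_mem φ (Finset.mem_univ (⟨i, hi⟩ : Fin D.n))
    exact DevissFreeLib.injective_map_of_univInj U (D.α i)
      (hφU ⟨i, hi⟩ U ⟨c, hc ▸ Submonoid.mem_powers f⟩)
  have hlast : ∀ i, i + 1 = D.n → Function.Bijective (a i) := fun i hi =>
    ⟨ha i (by omega), LocalizedModule.map_surjective U _ (by
      have h := D.cokerLast
      rwa [show D.n - 1 = i by omega] at h)⟩
  have hpb : ∀ i, i < D.n → Nonempty (P i ≃ₗ[A] (Fin (D.r i) → A ⊗[R] D.B i)) := fun i _ =>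
    ⟨(IsLocalizedModule.isBaseChange U A (LocalizedModule.mkLinearMap U (Fin (D.r i) → D.B i))).equiv.symm.trans
      (TensorProduct.piRight R A A (fun _ : Fin (D.r i) => D.B i))⟩
  have hP : ∀ i, i < D.n → Module.Projective A (P i) := fun i hi => by
    haveI := D.smooth i hi
    haveI := DevissFreeLib.projective_pi_of_geomIrred (D.geomIrred i hi) (D.r i)
    exact Module.Projective.of_equiv
      (IsLocalizedModule.isBaseChange U A (LocalizedModule.mkLinearMap U (Fin (D.r i) → D.B i))).equiv
  have hsplit : ∀ i (hi : i + 1 < D.n), Module.Projective A (L (i + 1)) →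
      Nonempty ((P i × L (i + 1)) ≃ₗ[A] L i) := fun i hi h => by
    haveI := tRBM' i
    haveI := h
    exact DevissFreeLib.exists_prod_equiv (a i) (LocalizedModule.map U ((g i hi).restrictScalars R))
      (ha i (by omega)) (LocalizedModule.map_surjective U _ (hgs i hi))
      (LocalizedModule.map_exact U _ _ (hgx i hi))
  have main : ∀ k i, i + k + 1 = D.n → Module.Projective A (L i) := by
    intro k
    induction k with
    | zero =>
      intro i hi
      haveI := hP i (by omega)
      exact Module.Projective.of_equiv (LinearEquiv.ofBijective (a i) (hlast i (by omega)))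
    | succ k ih =>
      intro i hi
      haveI := hP i (by omega)
      haveI := ih (i + 1) (by omega)
      obtain ⟨e⟩ := hsplit i (by omega) inferInstance
      exact Module.Projective.of_equiv e
  let eN : LocalizedModule U N ≃ₗ[A] L 0 :=
    LinearEquiv.ofBijective (LocalizedModule.map U (D.isoN.toLinearMap.restrictScalars R))
      ⟨LocalizedModule.map_injective U _ D.isoN.injective, LocalizedModule.map_surjective U _ D.isoN.surjective⟩
  haveI := main (D.n - 1) 0 (by have := D.pos; omega)
  refine ⟨f, hf, Module.Projective.of_equiv eN.symm, D.n, fun i => A ⊗[R] D.B i,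
    fun i => inferInstance, fun i => inferInstance, fun i => D.r i, fun i => ?_, ?_⟩
  · haveI := D.smooth i i.2
    exact ⟨inferInstance, DevissFreeLib.geomIrred_baseChange A (D.geomIrred i i.2)⟩
  obtain ⟨e⟩ := DevissFreeLib.exists_pi_equiv' (R := A) D.n D.pos L P
    (fun i hi => by
      obtain ⟨e⟩ := hsplit i hi (main (D.n - 1 - (i + 1)) (i + 1) (by omega))
      exact ⟨e.symm⟩)
    ⟨(LinearEquiv.ofBijective (a (D.n - 1)) (hlast _ (by have := D.pos; omega))).symm⟩
  exact ⟨(eN.trans e).trans (LinearEquiv.piCongrRight fun i : Fin D.n => (hpb i i.2).some)⟩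

end Groth.Agent.S1254
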