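import Groth.Statements.S1253
import Groth.Agent.DevissFreeLib.Base
import Groth.Agent.FlatInjLib.FinWeakAssFT
import Groth.Agent.FlatInjLib.EtaleTransfer
import Groth.Agent.S0582

set_option linter.all false

set_option autoImplicit false
universe u
open FlatMor

namespace Groth.Agent.S1253

open IsLocalRing in
/-- Let R be a local ring, S a finitely presented R-algebra, N a finite S-module and q a prime of S over
𝔪_R with N_q flat over R. If N/S/R admits a complete dévissage at q, then N is of finite
presentation over S and free over R; more precisely N is R-isomorphic to the product over the steps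
of the dévissage of the free modules B_i^{r_i}, with B_i and r_i the dévissage's own smooth algebras
and ranks. -/
theorem result {R S : Type u} [CommRing R] [IsLocalRing R] [CommRing S] [Algebra R S] [Algebra.FinitePresentation R S]
    (N : Type u) [AddCommGroup N] [Module S N] [Module R N] [IsScalarTower R S N] [Module.Finite S N]
    (q : Ideal S) [q.IsPrime] [q.LiesOver (maximalIdeal R)] (hflat : FlatCA.FlatAt R q N)
    (D : FlatCA.CompleteDevissage R S N (maximalIdeal R)) (hD : Nonempty (FlatCA.CompleteDevissageAt R S N (maximalIdeal R) q D)) :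
    Module.FinitePresentation S N ∧ Module.Free R N ∧
      Nonempty (N ≃ₗ[R] (∀ i : Fin D.n, Fin (D.r i) → D.B i)) := by
  have tRAM : ∀ i, IsScalarTower R (D.A i) (D.M i) := fun i =>
    IsScalarTower.of_algebraMap_smul fun r x => by
      rw [IsScalarTower.algebraMap_apply R (D.B i) (D.A i), algebraMap_smul, algebraMap_smul]
  have tRBM' : ∀ i, IsScalarTower R (D.B i) (D.M (i + 1)) := fun i =>
    IsScalarTower.of_algebraMap_smul fun r x => by
      haveI := tRAM (i + 1)
      rw [← algebraMap_smul (D.A (i + 1)) (algebraMap R (D.B i) r) x,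
        ← IsScalarTower.algebraMap_apply, algebraMap_smul]
  haveI : IsScalarTower R S (D.M 0) := IsScalarTower.of_algebraMap_smul fun r x => by
    haveI := tRAM 0
    rw [← algebraMap_smul (D.A 0) (algebraMap R S r) x, ← IsScalarTower.algebraMap_apply,
      algebraMap_smul]
  obtain ⟨E⟩ := hD
  haveI := E.hqA
  haveI := E.hqB
  haveI := E.overA
  haveI := E.overB
  let g : ∀ i, i + 1 < D.n → (D.M i →ₗ[D.B i] D.M (i + 1)) := fun i hi =>
    (D.isoCoker i hi).toLinearMap ∘ₗ (LinearMap.range (D.α i)).mkQ
  have hgs : ∀ i hi, Function.Surjective (g i hi) := fun i hi =>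
    (D.isoCoker i hi).surjective.comp (Submodule.mkQ_surjective _)
  have hgx : ∀ i hi, Function.Exact (D.α i) (g i hi) := fun i hi y => by
    simp [g, Submodule.Quotient.mk_eq_zero]
  have hle : ∀ i, (IsLocalRing.maximalIdeal R).map (algebraMap R (D.B i)) ≤ E.qB i := fun i =>
    Ideal.map_le_iff_le_comap.2 (E.overB i).over.le
  have hAB : ∀ i, i < D.n → FlatCA.FlatAt R (E.qA i) (D.M i) → FlatCA.FlatAt R (E.qB i) (D.M i) := by
    intro i hi h
    haveI := tRAM i
    haveI := D.finiteBA i hi
    exact (FlatInjLib.flatAt_iff_of_unique (E.qA i) (E.qB i) fun z _ hz => E.uniq i hi z hz).1 h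
  have hflatAt : ∀ i, i < D.n → FlatCA.FlatAt R (E.qB i) (D.M i) := by
    intro i
    induction i with
    | zero =>
      intro hi
      haveI := tRAM 0
      refine hAB 0 hi ((FlatInjLib.flatAt_comap_iff D.surjSA (E.qA 0)).1 ?_)
      refine DevissFreeLib.flatAt_of_eq E.q0.symm ?_
      exact (FlatInjLib.flatAt_congr_of_surjective D.isoN.toLinearMap D.isoN.surjective q
        fun z hz => ⟨1, fun h => (inferInstance : q.IsPrime).ne_top ((Ideal.eq_top_iff_one q).2 h),
          by rw [one_smul]; exact D.isoN.map_eq_zero_iff.1 hz⟩).1 hflat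
    | succ i ih =>
      intro hi
      haveI := tRBM' i
      haveI := tRAM (i + 1)
      haveI := D.smooth i (by omega)
      have h := (DevissFreeLib.step_local (D.geomIrred i (by omega)) (D.α i)
        (D.fibreIso i (by omega)).1 (E.qB i) (hle i) (ih (by omega))).2 (g i hi) (hgs i hi) (hgx i hi)
      exact hAB (i + 1) hi ((FlatInjLib.flatAt_comap_iff (D.surjBA' i hi) (E.qA (i + 1))).1
        (DevissFreeLib.flatAt_of_eq (E.qStep i hi).symm h))
  have hinj : ∀ i, i < D.n → Function.Injective (D.α i) := fun i hi => by
    haveI := D.smooth i hi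
    exact (DevissFreeLib.step_local (D.geomIrred i hi) (D.α i) (D.fibreIso i hi).1 (E.qB i) (hle i)
      (hflatAt i hi)).1
  have hfree : ∀ i, i < D.n → Module.Free R (Fin (D.r i) → D.B i) := fun i hi => by
    haveI := D.smooth i hi
    haveI := DevissFreeLib.projective_pi_of_geomIrred (D.geomIrred i hi) (D.r i)
    exact Groth.Agent.S0582.result R _
  have hlast : ∀ i, i + 1 = D.n → Function.Bijective (D.α i) := fun i hi =>
    ⟨hinj i (by omega), by
      have h := D.cokerLast
      rwa [show D.n - 1 = i by omega] at h⟩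
  have main : ∀ k i, i + k + 1 = D.n →
      Module.FinitePresentation (D.B i) (D.M i) ∧ Module.Free R (D.M i) := by
    intro k
    induction k with
    | zero =>
      intro i hi
      haveI := hfree i (by omega)
      let e := LinearEquiv.ofBijective (D.α i) (hlast i (by omega))
      exact ⟨Module.FinitePresentation.of_equiv e, Module.Free.of_equiv (e.restrictScalars R)⟩
    | succ k ih =>
      intro i hi
      have hi' : i + 1 < D.n := by omega
      obtain ⟨h1, h2⟩ := ih (i + 1) (by omega)
      haveI := tRAM (i + 1)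
      haveI := tRBM' i
      haveI := D.finiteBA (i + 1) hi'
      haveI := D.fpBA' i hi'
      haveI := DevissFreeLib.fp_of_restrictScalars (D.B (i + 1)) (D.A (i + 1)) (D.M (i + 1))
      haveI := DevissFreeLib.fp_of_surjective (D.B i) (D.A (i + 1)) (D.M (i + 1)) (D.surjBA' i hi')
      haveI : Module.FinitePresentation (D.B i) (LinearMap.ker (g i hi')) :=
        Module.FinitePresentation.of_equiv ((LinearEquiv.ofInjective (D.α i) (hinj i (by omega))).trans
          (LinearEquiv.ofEq _ _ (hgx i hi').linearMap_ker_eq.symm))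
      refine ⟨Module.finitePresentation_of_ker (g i hi') (hgs i hi'), ?_⟩
      haveI := hfree i (by omega)
      obtain ⟨e⟩ := DevissFreeLib.exists_prod_equiv ((D.α i).restrictScalars R)
        ((g i hi').restrictScalars R) (hinj i (by omega)) (hgs i hi') (hgx i hi')
      exact Module.Free.of_equiv e
  obtain ⟨hfp0, hfree0⟩ := main (D.n - 1) 0 (by have := D.pos; omega)
  haveI := D.finiteBA 0 D.pos
  haveI := D.fpSA
  haveI := DevissFreeLib.fp_of_restrictScalars (D.B 0) (D.A 0) (D.M 0)
  haveI := DevissFreeLib.fp_of_surjective S (D.A 0) (D.M 0) D.surjSA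
  refine ⟨Module.FinitePresentation.of_equiv D.isoN.symm,
    Module.Free.of_equiv (D.isoN.restrictScalars R).symm, ?_⟩
  obtain ⟨e⟩ := DevissFreeLib.exists_pi_equiv' D.n D.pos D.M (fun i => Fin (D.r i) → D.B i)
    (fun i hi => by
      haveI := tRBM' i
      haveI := (main (D.n - 1 - (i + 1)) (i + 1) (by omega)).2
      obtain ⟨e⟩ := DevissFreeLib.exists_prod_equiv ((D.α i).restrictScalars R)
        ((g i hi).restrictScalars R) (hinj i (by omega)) (hgs i hi) (hgx i hi)
      exact ⟨e.symm⟩)
    ⟨((LinearEquiv.ofBijective (D.α (D.n - 1)) (hlast _ (by have := D.pos; omega))).restrictScalars R).symm⟩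
  exact ⟨(D.isoN.restrictScalars R).trans e⟩

end Groth.Agent.S1253
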