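import Groth.Statements.S1215
import Groth.Agent.PureCritLib.HenselML

set_option autoImplicit false
set_option maxHeartbeats 1600000
universe u
open FlatMor

namespace Groth.Agent.S1215

/-- Let A → B be a local homomorphism of local rings which is essentially of finite type, with A
henselian, and N a finite B-module flat over A. Then N is a Mittag-Leffler A-module. (The source
moreover writes N as a filtered colimit of free A-modules with transition maps injective modulo 𝔪_A;
only the Mittag-Leffler conclusion is stated here.) -/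
theorem result {A B : Type u} [CommRing A] [HenselianLocalRing A] [CommRing B] [IsLocalRing B] [Algebra A B]
    [IsLocalHom (algebraMap A B)] [Algebra.EssFiniteType A B]
    (N : Type u) [AddCommGroup N] [Module B N] [Module A N] [IsScalarTower A B N] [Module.Finite B N] [Module.Flat A N] :
    CAlg.IsMittagLeffler A N := by
  classical
  let S := Algebra.EssFiniteType.subalgebra A B
  haveI hloc : IsLocalization (Algebra.EssFiniteType.submonoid A B) B := inferInstance
  let q : Ideal S := (IsLocalRing.maximalIdeal B).comap (algebraMap S B)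
  haveI : q.IsPrime := Ideal.IsPrime.comap _
  haveI : q.LiesOver (IsLocalRing.maximalIdeal A) := ⟨by
    show IsLocalRing.maximalIdeal A = ((IsLocalRing.maximalIdeal B).comap (algebraMap S B)).comap (algebraMap A S)
    rw [Ideal.comap_comap, ← IsScalarTower.algebraMap_eq]
    exact (IsLocalRing.maximalIdeal_comap (algebraMap A B)).symm⟩
  have hunit : ∀ s : S, IsUnit (algebraMap S B s) ↔ s ∉ q := fun s => IsLocalRing.notMem_maximalIdeal.symm
  have hTq : Algebra.EssFiniteType.submonoid A B = q.primeCompl := Submonoid.ext fun s => hunit s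
  haveI : IsLocalization q.primeCompl B := hTq ▸ hloc
  haveI : IsScalarTower S B N := IsScalarTower.of_algebraMap_smul fun _ _ => rfl
  haveI : IsScalarTower A S N := IsScalarTower.of_algebraMap_smul fun a x => by
    show algebraMap A B a • x = a • x
    rw [algebraMap_smul]
  obtain ⟨G, hG⟩ := (inferInstance : Module.Finite B N).fg_top
  let N₀ : Submodule S N := Submodule.span S (G : Set N)
  haveI : Module.Finite S N₀ := Module.Finite.span_of_finite S G.finite_toSet
  have hbij : ∀ s : S, s ∉ q → Function.Bijective fun x : N => s • x := fun s hs => by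
    have h := (Module.End.isUnit_iff _).1 (((hunit s).2 hs).map (Algebra.lsmul B B N))
    have he : (fun x : N => s • x) = fun x : N => algebraMap S B s • x := funext fun x => (algebraMap_smul B s x).symm
    rw [he]
    exact h
  let ν : N₀ →ₗ[S] N := N₀.subtype
  haveI : IsLocalizedModule q.primeCompl ν :=
    { map_units := fun x => (Module.End.isUnit_iff _).2 (hbij x.1 x.2)
      surj := fun n => by
        have hn : n ∈ Submodule.span B (G : Set N) := hG ▸ trivial
        induction hn using Submodule.span_induction with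
        | mem x hx => exact ⟨⟨⟨x, Submodule.subset_span hx⟩, 1⟩, one_smul _ _⟩
        | zero => exact ⟨⟨0, 1⟩, by simp⟩
        | add x y _ _ hx hy =>
          obtain ⟨⟨a, c⟩, hc⟩ := hx
          obtain ⟨⟨b, d⟩, hd⟩ := hy
          refine ⟨⟨(d : S) • a + (c : S) • b, c * d⟩, ?_⟩
          simp only [Submonoid.smul_def, Submonoid.coe_mul] at hc hd ⊢
          rw [map_add, map_smul, map_smul, ← hc, ← hd, smul_add, smul_smul, smul_smul, mul_comm (c : S) (d : S)]
        | smul b x _ hx =>
          obtain ⟨⟨a, c⟩, hc⟩ := hx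
          obtain ⟨⟨r, d⟩, hd⟩ := IsLocalization.surj q.primeCompl b
          refine ⟨⟨r • a, c * d⟩, ?_⟩
          simp only [Submonoid.smul_def, Submonoid.coe_mul] at hc ⊢
          rw [map_smul, ← hc, ← algebraMap_smul B ((c : S) * (d : S)) (b • x), smul_smul, map_mul, mul_assoc,
            mul_comm _ b, show b * algebraMap S B (d : S) = algebraMap S B r from hd, ← map_mul, algebraMap_smul, smul_smul,
            mul_comm r (c : S)]
      exists_of_eq := fun {a b} hab => ⟨1, by rw [Subtype.ext hab]⟩ }
  obtain ⟨h, hhq, hh⟩ := PureCritLib.exists_avoiding (A := A) N₀ q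
  let S₁ := Localization.Away h
  letI : Algebra S₁ B := (IsLocalization.Away.lift h (g := algebraMap S B) ((hunit h).2 hhq)).toAlgebra
  haveI : IsScalarTower S S₁ B := IsScalarTower.of_algebraMap_eq fun s => (IsLocalization.Away.lift_eq h _ s).symm
  haveI : IsScalarTower A S₁ B := IsScalarTower.of_algebraMap_eq (R := A) (S := S₁) (A := B) fun a => by
    rw [IsScalarTower.algebraMap_apply A S S₁, ← IsScalarTower.algebraMap_apply S S₁ B, ← IsScalarTower.algebraMap_apply A S B]
  letI : Module S₁ N := Module.compHom N (algebraMap S₁ B)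
  haveI : IsScalarTower S₁ B N := IsScalarTower.of_algebraMap_smul fun _ _ => rfl
  haveI : IsScalarTower S S₁ N := IsScalarTower.of_algebraMap_smul fun s x => by
    show algebraMap S₁ B (algebraMap S S₁ s) • x = algebraMap S B s • x
    rw [← IsScalarTower.algebraMap_apply]
  haveI : IsScalarTower A S₁ N := IsScalarTower.of_algebraMap_smul fun a x => by
    show algebraMap S₁ B (algebraMap A S₁ a) • x = a • x
    rw [← IsScalarTower.algebraMap_apply, algebraMap_smul]
  haveI : Algebra.FiniteType A S₁ := Algebra.FiniteType.trans (R := A) (S := S) inferInstance inferInstance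
  let N₁ := LocalizedModule (Submonoid.powers h) N₀
  let q₁ : Ideal S₁ := (IsLocalRing.maximalIdeal B).comap (algebraMap S₁ B)
  haveI : q₁.IsPrime := Ideal.IsPrime.comap _
  haveI : q₁.LiesOver (IsLocalRing.maximalIdeal A) := ⟨by
    show IsLocalRing.maximalIdeal A = ((IsLocalRing.maximalIdeal B).comap (algebraMap S₁ B)).comap (algebraMap A S₁)
    rw [Ideal.comap_comap, ← IsScalarTower.algebraMap_eq]
    exact (IsLocalRing.maximalIdeal_comap (algebraMap A B)).symm⟩
  have hcomap : ∀ s : S, algebraMap S S₁ s ∈ q₁ ↔ s ∈ q := fun s => by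
    show algebraMap S₁ B (algebraMap S S₁ s) ∈ IsLocalRing.maximalIdeal B ↔ _
    rw [← IsScalarTower.algebraMap_apply]
    rfl
  have hbij₁ : ∀ s : S₁, s ∉ q₁ → Function.Bijective fun x : N => s • x := fun s hs =>
    (Module.End.isUnit_iff _).1 ((IsLocalRing.notMem_maximalIdeal.1 hs).map (Algebra.lsmul B B N))
  let l : N₀ →ₗ[S] N₁ := LocalizedModule.mkLinearMap (Submonoid.powers h) N₀
  have hhn : ∀ x : Submonoid.powers h, (x : S) ∈ q.primeCompl := fun x => by
    obtain ⟨_, n, rfl⟩ := x
    exact fun hm => hhq (Ideal.IsPrime.mem_of_pow_mem inferInstance n hm)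
  have hu : ∀ x : Submonoid.powers h, IsUnit ((algebraMap S (Module.End S N)) x) := fun x =>
    IsLocalizedModule.map_units (S := q.primeCompl) ν (⟨(x : S), hhn x⟩ : q.primeCompl)
  let ν₁ : N₁ →ₗ[S] N := IsLocalizedModule.lift (Submonoid.powers h) l ν hu
  have hν₁ : ∀ x : N₀, ν₁ (l x) = ν x := fun x => LinearMap.congr_fun (IsLocalizedModule.lift_comp (Submonoid.powers h) l ν hu) x
  let ν₂ : N₁ →ₗ[S₁] N := LinearMap.extendScalarsOfIsLocalization (Submonoid.powers h) S₁ ν₁
  haveI : IsLocalizedModule q₁.primeCompl ν₂ :=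
    { map_units := fun x => (Module.End.isUnit_iff _).2 (hbij₁ x.1 x.2)
      surj := fun n => by
        obtain ⟨⟨x, c⟩, hc⟩ := IsLocalizedModule.surj q.primeCompl ν n
        refine ⟨⟨l x, ⟨algebraMap S S₁ c, fun hm => c.2 ((hcomap c).1 hm)⟩⟩, ?_⟩
        show algebraMap S S₁ (c : S) • n = ν₁ (l x)
        rw [algebraMap_smul, hν₁]
        exact hc
      exists_of_eq := fun {a b} hab => by
        obtain ⟨⟨x, k⟩, hk⟩ := IsLocalizedModule.surj (Submonoid.powers h) l (a - b)
        have h0 : ν x = 0 := by
          rw [← hν₁, ← show (k : S) • (a - b) = l x from hk, map_smul, map_sub, show ν₁ a = ν₁ b from hab, sub_self, smul_zero]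
        obtain ⟨c, hc⟩ := (IsLocalizedModule.eq_zero_iff q.primeCompl ν).1 h0
        refine ⟨⟨algebraMap S S₁ ((c : S) * (k : S)), fun hm => (mul_mem c.2 (hhn k) : (c : S) * (k : S) ∈ q.primeCompl) ((hcomap ((c : S) * (k : S))).1 hm)⟩, ?_⟩
        show algebraMap S S₁ ((c : S) * (k : S)) • a = algebraMap S S₁ ((c : S) * (k : S)) • b
        rw [algebraMap_smul, algebraMap_smul, mul_smul, mul_smul, ← sub_eq_zero]
        refine Eq.trans (smul_sub (A := N₁) (c : S) ((k : S) • a) ((k : S) • b)).symm ?_
        refine Eq.trans (congrArg ((c : S) • ·) ((smul_sub (k : S) a b).symm.trans hk)) ?_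
        refine Eq.trans (map_smul l (c : S) x).symm ?_
        rw [show (c : S) • x = 0 from hc, map_zero] }
  let e := (IsLocalizedModule.iso q₁.primeCompl ν₂).restrictScalars A
  have hflat : FlatCA.FlatAt A q₁ N₁ := Module.Flat.of_linearEquiv e
  haveI : IsScalarTower A S N₁ := inferInstance
  haveI : IsScalarTower A S₁ N₁ := IsScalarTower.of_algebraMap_smul fun a x => by
    rw [IsScalarTower.algebraMap_apply A S S₁, algebraMap_smul, algebraMap_smul]
  haveI : Module.Finite S₁ N₁ := Module.Finite.of_isLocalizedModule (Submonoid.powers h) l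
  refine ProjLib.IsMittagLeffler.of_retract
    (PureCritLib.isMittagLeffler_of_reg (A := A) N₁ q₁ hflat fun s hs y hy => ?_)
    e.symm.toLinearMap e.toLinearMap (LinearMap.ext fun x => e.apply_symm_apply x)
  obtain ⟨⟨s₀, k⟩, hk⟩ := IsLocalization.surj (Submonoid.powers h) s
  have hs₀ : s₀ ∉ q := fun hm => ((inferInstance : q₁.IsPrime).mem_or_mem
    (show s * algebraMap S S₁ (k : S) ∈ q₁ from hk ▸ (hcomap s₀).2 hm)).elim hs fun h' => hhn k ((hcomap _).1 h')
  have hsy : s₀ • y ∈ IsLocalRing.maximalIdeal A • (⊤ : Submodule A N₁) := by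
    rw [← algebraMap_smul S₁ s₀ y, ← show s * algebraMap S S₁ (k : S) = algebraMap S S₁ s₀ from hk, mul_comm, mul_smul,
      algebraMap_smul]
    exact Submodule.smul_induction_on hy
      (fun a ha m _ => by rw [smul_comm]; exact Submodule.smul_mem_smul ha trivial)
      fun y z hy hz => by rw [smul_add]; exact add_mem hy hz
  exact PureCritLib.reg_localized (Submonoid.powers h) l _ s₀ (fun x hx => by
    obtain ⟨n, hn⟩ := hh s₀ hs₀ x hx
    exact ⟨h ^ n, ⟨n, rfl⟩, hn⟩) y hsy

end Groth.Agent.S1215
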