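import Groth.Statements.S0508
import Groth.Agent.HenselLib.HenselizationExists

set_option autoImplicit false
universe u
open Hensel

namespace Groth.Agent.S0508

/-- The henselization of a local ring induces an isomorphism on residue fields. -/
theorem result (R : Type u) [CommRing R] [IsLocalRing R] (S : Type u) [CommRing S] [IsLocalRing S]
    [Algebra R S] [IsLocalHom (algebraMap R S)] [Hensel.IsHenselization R S] :
    Function.Bijective (IsLocalRing.ResidueField.map (algebraMap R S)) := by
  obtain ⟨e⟩ := HenselLib.nonempty_algEquiv_HR (R := R) S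
  refine ⟨RingHom.injective _, fun x => ?_⟩
  obtain ⟨z, rfl⟩ := IsLocalRing.residue_surjective x
  obtain ⟨r, hr⟩ := HenselLib.exists_sub_mem_max R (e.symm z)
  refine ⟨IsLocalRing.residue R r, ?_⟩
  rw [IsLocalRing.ResidueField.map_residue]
  refine (HenselLib.residue_comp_eq R (HenselLib.map_maximalIdeal_hens _) (HenselLib.exists_sub_mem_max R)
    (algebraMap R S) (e : HenselLib.HR R →+* S) (RingHom.ext fun r => e.commutes r) _ r hr).symm.trans ?_
  exact congrArg (IsLocalRing.residue S) (e.apply_symm_apply z)

end Groth.Agent.S0508
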