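import Groth.Statements.S1216
import Groth.Agent.FlatInjLib.InjEss
import Groth.Agent.S0506
import Groth.Agent.S0507
import Groth.Agent.S0508
import Groth.Agent.S0509
import Groth.Agent.S1975
import Groth.Agent.S1215

set_option autoImplicit false
universe u
open FlatMor

namespace Groth.Agent.S1216

/-- Let A → B be a local homomorphism of local rings which is essentially of finite type, with A a
valuation ring, and N a finite B-module flat over A. Then every element x of N has a content ideal,
that is a smallest ideal I of A with x ∈ IN, and this ideal is principal. -/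
theorem result {A B : Type u} [CommRing A] [IsDomain A] [ValuationRing A] [CommRing B] [IsLocalRing B] [Algebra A B]
    [IsLocalHom (algebraMap A B)] [Algebra.EssFiniteType A B]
    (N : Type u) [AddCommGroup N] [Module B N] [Module A N] [IsScalarTower A B N] [Module.Finite B N] [Module.Flat A N] (x : N) :
    ∃ I : Ideal A, I.IsPrincipal ∧ x ∈ I • (⊤ : Submodule A N) ∧ ∀ J : Ideal A, x ∈ J • (⊤ : Submodule A N) → I ≤ J := by
  classical
  obtain ⟨Ah, _, _, _, _, hH⟩ := Groth.Agent.S0506.result A
  haveI : HenselianLocalRing Ah := Hensel.IsHenselization.henselian A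
  haveI := Groth.Agent.S0509.result A Ah
  haveI : Module.Flat A Ah := inferInstance
  obtain ⟨-, -, -, hunit⟩ := Groth.Agent.S1975.result A Ah (Or.inl hH)
  have hres : ∀ a' : Ah, ∃ a : A, a' - algebraMap A Ah a ∈ IsLocalRing.maximalIdeal Ah := fun a' => by
    obtain ⟨r, hr⟩ := (Groth.Agent.S0508.result A Ah).2 (IsLocalRing.residue Ah a')
    obtain ⟨a, rfl⟩ := IsLocalRing.residue_surjective r
    refine ⟨a, (IsLocalRing.residue_eq_zero_iff _).1 ?_⟩
    rw [map_sub, sub_eq_zero, ← hr, IsLocalRing.ResidueField.map_residue]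
  obtain ⟨B', _, _, _, _, _, _, _, _, hloc, hff, hess, hflat⟩ :=
    FlatInjLib.exists_local_extension_ess (B := B) (Groth.Agent.S0507.result A Ah).symm hres
  haveI := hloc
  haveI := hff
  haveI := hess
  let W := TensorProduct B B' N
  haveI : Module.Flat Ah W := hflat N
  haveI : IsScalarTower Ah B' W := TensorProduct.isScalarTower_left
  haveI : Module.Finite B' W := inferInstance
  have hML : CAlg.IsMittagLeffler Ah W := Groth.Agent.S1215.result (A := Ah) (B := B') W
  -- the intersection of all ideals containing the content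
  let ι := {J : Ideal A // x ∈ J • (⊤ : Submodule A N)}
  let I : Ideal A := ⨅ J : ι, J.1
  let w : W := (1 : B') ⊗ₜ[B] x
  have hw : ∀ J : ι, w ∈ J.1.map (algebraMap A Ah) • (⊤ : Submodule Ah W) := fun J => by
    have key : ∀ y ∈ J.1 • (⊤ : Submodule A N), (1 : B') ⊗ₜ[B] y ∈ J.1.map (algebraMap A Ah) • (⊤ : Submodule Ah W) := by
      intro y hy
      refine Submodule.smul_induction_on hy (fun a ha n _ => ?_) fun y z hy hz => ?_
      · have : (1 : B') ⊗ₜ[B] (a • n) = algebraMap A Ah a • ((1 : B') ⊗ₜ[B] n : W) := by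
          rw [← algebraMap_smul B a n, TensorProduct.tmul_smul, TensorProduct.smul_tmul', TensorProduct.smul_tmul',
            algebraMap_smul, algebraMap_smul]
        rw [this]
        exact Submodule.smul_mem_smul (Ideal.mem_map_of_mem _ ha) trivial
      · rw [TensorProduct.tmul_add]
        exact add_mem hy hz
    exact key x J.2
  let φ : Ah →ₗ[Ah] (∀ J : ι, Ah ⧸ J.1.map (algebraMap A Ah)) :=
    LinearMap.pi fun J => (J.1.map (algebraMap A Ah)).mkQ
  let K : Ideal Ah := LinearMap.ker φ
  let φ' : Ah ⧸ K →ₗ[Ah] (∀ J : ι, Ah ⧸ J.1.map (algebraMap A Ah)) := Submodule.liftQ K φ le_rfl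
  have hφ' : Function.Injective φ' := LinearMap.ker_eq_bot.1 (Submodule.ker_liftQ_eq_bot _ _ _ le_rfl)
  have hwK : w ∈ K • (⊤ : Submodule Ah W) := by
    have h1 : φ'.lTensor W (w ⊗ₜ[Ah] Submodule.Quotient.mk 1) = 0 := by
      refine hML ι (fun J => Ah ⧸ J.1.map (algebraMap A Ah)) ?_
      rw [map_zero, LinearMap.lTensor_tmul]
      funext J
      rw [TensorProduct.piRightHom_tmul, Pi.zero_apply]
      show w ⊗ₜ[Ah] φ' (Submodule.Quotient.mk 1) J = 0
      apply (TensorProduct.tensorQuotEquivQuotSMul W (J.1.map (algebraMap A Ah))).injective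
      rw [map_zero, show φ' (Submodule.Quotient.mk 1) J = Ideal.Quotient.mk _ 1 from rfl,
        TensorProduct.tensorQuotEquivQuotSMul_tmul_mk, one_smul, Submodule.Quotient.mk_eq_zero]
      exact hw J
    have h2 : w ⊗ₜ[Ah] (Ideal.Quotient.mk K 1) = (0 : TensorProduct Ah W (Ah ⧸ K)) :=
      Module.Flat.lTensor_preserves_injective_linearMap φ' hφ' (h1.trans (map_zero _).symm)
    have h3 := congrArg (TensorProduct.tensorQuotEquivQuotSMul W K) h2
    rwa [map_zero, TensorProduct.tensorQuotEquivQuotSMul_tmul_mk, one_smul, Submodule.Quotient.mk_eq_zero] at h3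
  have hK : K ≤ I.map (algebraMap A Ah) := fun h hh => by
    rcases eq_or_ne h 0 with rfl | h0
    · exact zero_mem _
    obtain ⟨a, u, rfl⟩ := hunit h h0
    refine Ideal.mul_mem_left _ _ (Ideal.mem_map_of_mem _ ?_)
    rw [Submodule.mem_iInf]
    intro J
    have hJ : (u : Ah) * algebraMap A Ah a ∈ J.1.map (algebraMap A Ah) :=
      (Submodule.Quotient.mk_eq_zero _).1 (congrFun (LinearMap.mem_ker.1 hh) J)
    have ha : a ∈ (J.1.map (algebraMap A Ah)).comap (algebraMap A Ah) :=
      Ideal.mem_comap.2 ((Ideal.unit_mul_mem_iff_mem _ u.isUnit).1 hJ)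
    rwa [Ideal.comap_map_eq_self_of_faithfullyFlat] at ha
  -- descend to `N`
  have hxI : x ∈ I • (⊤ : Submodule A N) := by
    rw [FlatInjLib.mem_smul_top_iff_map (B := B), ← Submodule.Quotient.mk_eq_zero]
    let Q := N ⧸ (I.map (algebraMap A B) • (⊤ : Submodule B N))
    let g : W →ₗ[B'] TensorProduct B B' Q := ((I.map (algebraMap A B) • (⊤ : Submodule B N)).mkQ).baseChange B'
    apply Module.FaithfullyFlat.tensorProduct_mk_injective (A := B) (B := B') Q
    rw [map_zero]
    show g w = 0
    refine Submodule.smul_induction_on (Submodule.smul_mono hK le_rfl hwK) (fun c hc v _ => ?_)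
      fun y z hy hz => by rw [map_add, hy, hz, add_zero]
    refine Submodule.span_induction (fun c hc => ?_) (by rw [zero_smul, map_zero])
      (fun c d _ _ hc hd => by rw [add_smul, map_add, hc, hd, add_zero])
      (fun d c _ hc => by
        rw [← algebraMap_smul B' (d • c) v, smul_eq_mul, map_mul, mul_smul, map_smul, algebraMap_smul B' c v, hc, smul_zero]) hc
    obtain ⟨a, ha, rfl⟩ := hc
    rw [← algebraMap_smul B' (algebraMap A Ah a) v, map_smul, ← IsScalarTower.algebraMap_apply A Ah B',
      IsScalarTower.algebraMap_apply A B B', algebraMap_smul]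
    induction g v using TensorProduct.induction_on with
    | zero => rw [smul_zero]
    | tmul b' n =>
      obtain ⟨m, rfl⟩ := Submodule.Quotient.mk_surjective _ n
      rw [TensorProduct.smul_tmul', TensorProduct.smul_tmul, ← Submodule.Quotient.mk_smul,
        (Submodule.Quotient.mk_eq_zero _).2 (Submodule.smul_mem_smul (Ideal.mem_map_of_mem (algebraMap A B) ha) (Submodule.mem_top (R := B) (x := m))),
        TensorProduct.tmul_zero]
    | add y z hy hz => rw [smul_add, hy, hz, add_zero]
  -- principality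
  have hprin : ∀ y ∈ I • (⊤ : Submodule A N), ∃ c ∈ I, ∃ n : N, y = c • n := fun y hy => by
    refine Submodule.smul_induction_on hy (fun a ha n _ => ⟨a, ha, n, rfl⟩) fun y z hy hz => ?_
    obtain ⟨c, hc, n, rfl⟩ := hy
    obtain ⟨d, hd, m, rfl⟩ := hz
    rcases ValuationRing.dvd_total c d with ⟨e, rfl⟩ | ⟨e, rfl⟩
    · exact ⟨c, hc, n + e • m, by rw [smul_add, mul_smul]⟩
    · exact ⟨d, hd, e • n + m, by rw [smul_add, mul_smul]⟩
  obtain ⟨c, hc, n, hn⟩ := hprin x hxI
  have hI : I = Ideal.span {c} := le_antisymm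
    (iInf_le (fun J : ι => J.1) ⟨Ideal.span {c}, by
      rw [hn]; exact Submodule.smul_mem_smul (Ideal.mem_span_singleton_self c) trivial⟩)
    ((Ideal.span_singleton_le_iff_mem _).2 hc)
  exact ⟨I, ⟨⟨c, hI⟩⟩, hxI, fun J hJ => iInf_le (fun J : ι => J.1) ⟨J, hJ⟩⟩

end Groth.Agent.S1216
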