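import Groth.Statements.S12236
import Groth.Agent.HenselBranchLib.IndEtLocal
-- import your own Groth.Agent.* helpers here

set_option autoImplicit false
set_option linter.style.haveILetI false
universe u
open Hensel

namespace Groth.Agent.S12236

/-- Let R be a local ring and R^h a henselization of R, characterised by its universal property
(henselian local, local structure map, initial among local homomorphisms from R to henselian local
rings). Then R^h is ind-étale over R: the R-algebra R^h is a filtered colimit, in the category of
R-algebras, of étale R-algebras. -/
theorem result (R : Type u) [CommRing R] [IsLocalRing R]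
    (Rh : Type u) [CommRing Rh] [IsLocalRing Rh] [Algebra R Rh] [IsLocalHom (algebraMap R Rh)]
    [Hensel.IsHenselization R Rh] : EtPBC.IsIndEtale R Rh := by
  obtain ⟨e⟩ := HenselLib.nonempty_algEquiv_HR (R := R) Rh
  haveI : Module.Flat R (HenselLib.HR R) := HenselLib.flat_hens IsLocalRing.ker_residue
  haveI : Module.Flat R Rh := Module.Flat.of_linearEquiv e.symm.toLinearEquiv
  refine HenselBranchLib.isIndEtale_of_etCov fun x => ?_
  have h := (HenselLib.etCov_hens (R := R) IsLocalRing.ker_residue (e.symm x)).map e.toAlgHom
  rwa [show e.toAlgHom (e.symm x) = x from e.apply_symm_apply x] at h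

end Groth.Agent.S12236
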