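import Groth.Statements.S1233
import Groth.Agent.WeakBCLib.Main

-- import your own Groth.Agent.* helpers here

set_option autoImplicit false
universe u
open FlatMor

namespace Groth.Agent.S1233



open TensorProduct in
/-- Let A → B be an étale ring map, M an A-module and u a prime of B lying over the prime p of A. Then u
is a weakly associated prime of the B-module B ⊗_A M if and only if p is a weakly associated prime
of M. -/
theorem result {A B : Type u} [CommRing A] [CommRing B] [Algebra A B] [Algebra.Etale A B]
    (M : Type u) [AddCommGroup M] [Module A M] (p : Ideal A) [p.IsPrime] (u : Ideal B) [u.IsPrime] [u.LiesOver p] :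
    u ∈ FlatCA.weakAss B (B ⊗[A] M) ↔ p ∈ FlatCA.weakAss A M := by
  haveI : Algebra.QuasiFinite A B := inferInstance
  constructor
  · intro h
    obtain ⟨f, hf, hstd⟩ := Algebra.IsEtaleAt.exists_isStandardEtale (R := A) u
    let L := Localization.Away f
    haveI : Algebra.IsStandardEtale A L := hstd
    obtain ⟨P⟩ := (inferInstance : Nonempty (StandardEtalePresentation A L))
    let C := AdjoinRoot P.f
    let L' := Localization.Away (AdjoinRoot.mk P.f P.g)
    let e : L ≃ₐ[A] L' := P.equivRing.trans P.P.equivAwayAdjoinRoot
    letI : Algebra C L := (e.symm.toAlgHom.comp (IsScalarTower.toAlgHom A C L')).toRingHom.toAlgebra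
    haveI : IsScalarTower A C L := IsScalarTower.of_algebraMap_eq fun a =>
      ((e.symm.toAlgHom.comp (IsScalarTower.toAlgHom A C L')).commutes a).symm
    haveI : IsLocalization (Submonoid.powers (AdjoinRoot.mk P.f P.g)) L :=
      IsLocalization.isLocalization_of_algEquiv _ (AlgEquiv.ofRingEquiv (f := e.symm.toRingEquiv) fun _ => rfl : L' ≃ₐ[C] L)
    haveI : Module.Finite A C := P.monic_f.finite_adjoinRoot
    haveI : Module.Free A C := P.monic_f.free_adjoinRoot
    have hd : Disjoint (Submonoid.powers f : Set B) (u : Set B) := Set.disjoint_left.2 fun _ ⟨k, hk⟩ hmem =>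
      hf (‹u.IsPrime›.mem_of_pow_mem k (show f ^ k ∈ u by rw [show f ^ k = _ from hk]; exact hmem))
    haveI := IsLocalization.isPrime_of_isPrime_disjoint (Submonoid.powers f) L u inferInstance hd
    have hQ : (u.map (algebraMap B L)).comap (algebraMap B L) = u :=
      IsLocalization.under_map_of_isPrime_disjoint _ L inferInstance hd
    rw [← hQ, ← WeakBCLib.weakAss_localization_iff M (Submonoid.powers f),
      WeakBCLib.weakAss_localization_iff M (Submonoid.powers (AdjoinRoot.mk P.f P.g))] at h
    haveI : ((u.map (algebraMap B L)).comap (algebraMap C L)).LiesOver p := ⟨by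
      rw [Ideal.LiesOver.over (P := u) (p := p), Ideal.under_def, Ideal.under_def, Ideal.comap_comap,
        ← IsScalarTower.algebraMap_eq]
      conv_lhs => rw [← hQ, Ideal.comap_comap, ← IsScalarTower.algebraMap_eq]⟩
    exact WeakBCLib.weakAss_of_baseChange M p _ h
  · exact WeakBCLib.baseChange_of_weakAss M p u fun Q hQ hQt hQp =>
      Algebra.QuasiFinite.eq_of_le_of_under_eq (R := A) Q u hQt (hQp.trans (Ideal.LiesOver.over (P := u) (p := p)))


end Groth.Agent.S1233
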