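import Groth.Statements.S7127
import Groth.Agent.AbsFlat.Basic

set_option autoImplicit false
universe u
open EtAlg

namespace Groth.Agent.S7127

/-- Let A be a ring and B → C an A-algebra homomorphism between weakly étale A-algebras. Then C is
weakly étale over B. -/
theorem result (A B C : Type u) [CommRing A] [CommRing B] [CommRing C]
    [Algebra A B] [Algebra A C] [Algebra B C] [IsScalarTower A B C] [Algebra.WeaklyEtale A B]
    [Algebra.WeaklyEtale A C] : Algebra.WeaklyEtale B C := by
  refine ⟨AbsFlat.flat_of_flat_mul (Algebra.WeaklyEtale.flat_lmul' A B) C, ?_⟩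
  have h := Algebra.WeaklyEtale.flat_lmul' A C
  refine AbsFlat.flat_of_comp_surjective
    (Algebra.TensorProduct.mapOfCompatibleSMul B A A C C).toRingHom _
    (Algebra.TensorProduct.mapOfCompatibleSMul_surjective B A A C C) (fun c => ⟨c ⊗ₜ 1, by simp⟩) ?_
  have e : (Algebra.TensorProduct.lmul' B (S := C)).toRingHom.comp
      (Algebra.TensorProduct.mapOfCompatibleSMul B A A C C).toRingHom =
      (Algebra.TensorProduct.lmul' A (S := C)).toRingHom := by
    refine RingHom.ext fun z => ?_
    induction z using TensorProduct.induction_on with
    | zero => simp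
    | add a b ha hb => simp only [map_add, ha, hb]
    | tmul a b => simp
  exact e ▸ h

end Groth.Agent.S7127
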