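import Groth.Statements.S9589
import Groth.Agent.WeakAssLib.Basic
-- import your own Groth.Agent.* helpers here

set_option autoImplicit false
set_option linter.style.haveILetI false
universe u
open CAlg

namespace Groth.Agent.S9589

/-- For a ring R, an R-module M, a multiplicative subset S of R and a prime p of R not meeting S, p is
weakly associated to M if and only if the extended prime p S⁻¹R is weakly associated to the
S⁻¹R-module S⁻¹M. -/
theorem result {R : Type u} [CommRing R] (S : Submonoid R) (M : Type u) [AddCommGroup M] [Module R M] (p : Ideal R) [p.IsPrime] (hS : Disjoint (S : Set R) (p : Set R)) :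
    p ∈ FlatCA.weakAss R M ↔ Ideal.map (algebraMap R (Localization S)) p ∈ FlatCA.weakAss (Localization S) (LocalizedModule S M) := by
  rw [← Groth.Agent.WeakAssLib.weakAss_localized_iff S p hS,
    Groth.Agent.WeakAssLib.weakAss_isLocalization (A := Localization S) S]
  have hpc : (Ideal.map (algebraMap R (Localization S)) p).comap (algebraMap R (Localization S)) = p :=
    IsLocalization.under_map_of_isPrime_disjoint S (Localization S) inferInstance hS
  constructor
  · rintro ⟨Q, hQ, hQp⟩
    have : Ideal.map (algebraMap R (Localization S)) p = Q := by
      rw [← hQp]
      exact IsLocalization.map_under S (Localization S) Q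
    rwa [this]
  · exact fun h => ⟨_, h, hpc⟩

end Groth.Agent.S9589
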