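import Groth.Statements.S12237
import Groth.Agent.HenselBranchLib.IndEtLocal
-- import your own Groth.Agent.* helpers here

set_option autoImplicit false
set_option linter.style.haveILetI false
universe u
open Hensel

namespace Groth.Agent.S12237

/-- Let R be a local ring and R^sh a strict henselization of R, characterised by its universal property
(henselian local, residue field a separable closure of that of R, local structure map, unique
factorization of local homomorphisms into henselian local rings along a prescribed compatible map of
residue fields). Then R^sh is ind-étale over R: the R-algebra R^sh is a filtered colimit, in the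
category of R-algebras, of étale R-algebras. -/
theorem result (R : Type u) [CommRing R] [IsLocalRing R]
    (Rsh : Type u) [CommRing Rsh] [IsLocalRing Rsh] [Algebra R Rsh] [IsLocalHom (algebraMap R Rsh)]
    [Hensel.IsStrictHenselization R Rsh] : EtPBC.IsIndEtale R Rsh := by
  obtain ⟨e⟩ := HenselLib.nonempty_algEquiv_SH (R := R) Rsh
  haveI : Module.Flat R (HenselLib.SH R) := HenselLib.flat_hens (HenselLib.ker_scθ R)
  haveI : Module.Flat R Rsh := Module.Flat.of_linearEquiv e.symm.toLinearEquiv
  refine HenselBranchLib.isIndEtale_of_etCov fun x => ?_
  have h := (HenselLib.etCov_hens (R := R) (HenselLib.ker_scθ R) (e.symm x)).map e.toAlgHom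
  rwa [show e.toAlgHom (e.symm x) = x from e.apply_symm_apply x] at h

end Groth.Agent.S12237
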