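import Groth.Statements.S1235
import Mathlib
import Groth.Agent.WEtAmpLib.Basic
import Groth.Agent.S7127
-- import your own Groth.Agent.* helpers here

set_option autoImplicit false
universe u
open FlatMor

namespace Groth.Agent.S1235

open IsLocalRing in
/-- Let p be a prime of a ring A, Ah a henselization and Ash a strict henselization of A_p, with Ash an
Ah-algebra compatibly with the maps from A_p. For a module Msh over Ash the following are
equivalent: Msh is flat over A_p; Msh is flat over Ah; Msh is flat over Ash. For a module Mh over
Ah: Mh is flat over A_p if and only if it is flat over Ah. (This is the ring form, over the base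
Spec A, of a statement about stalks on a scheme; the published statement also relates the two groups
of equivalences when Msh = Ash ⊗_{Ah} Mh and has one further item, neither of which is stated here.) -/
theorem result {A : Type u} [CommRing A] (p : Ideal A) [p.IsPrime]
    (Ah Ash : Type u) [CommRing Ah] [IsLocalRing Ah] [CommRing Ash] [IsLocalRing Ash]
    [Algebra (Localization.AtPrime p) Ah] [IsLocalHom (algebraMap (Localization.AtPrime p) Ah)] [Hensel.IsHenselization (Localization.AtPrime p) Ah]
    [Algebra (Localization.AtPrime p) Ash] [IsLocalHom (algebraMap (Localization.AtPrime p) Ash)] [Hensel.IsStrictHenselization (Localization.AtPrime p) Ash]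
    [Algebra Ah Ash] [IsScalarTower (Localization.AtPrime p) Ah Ash]
    (Msh : Type u) [AddCommGroup Msh] [Module Ash Msh] [Module Ah Msh] [Module (Localization.AtPrime p) Msh]
    [IsScalarTower Ah Ash Msh] [IsScalarTower (Localization.AtPrime p) Ash Msh] [IsScalarTower (Localization.AtPrime p) Ah Msh]
    (Mh : Type u) [AddCommGroup Mh] [Module Ah Mh] [Module (Localization.AtPrime p) Mh] [IsScalarTower (Localization.AtPrime p) Ah Mh] :
    [Module.Flat (Localization.AtPrime p) Msh, Module.Flat Ah Msh, Module.Flat Ash Msh].TFAE ∧
    (Module.Flat (Localization.AtPrime p) Mh ↔ Module.Flat Ah Mh) := by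
  haveI := WEtAmpLib.weaklyEtale_hens (Localization.AtPrime p) (B := Ah)
  haveI := WEtAmpLib.weaklyEtale_sh (Localization.AtPrime p) (B := Ash)
  haveI := S7127.result (Localization.AtPrime p) Ah Ash
  haveI : Module.Flat (Localization.AtPrime p) Ah := Algebra.WeaklyEtale.flat
  haveI : Module.Flat (Localization.AtPrime p) Ash := Algebra.WeaklyEtale.flat
  haveI : Module.Flat Ah Ash := Algebra.WeaklyEtale.flat
  refine ⟨?_, fun h => AbsFlat.flat_of_flat_mul
      (Algebra.WeaklyEtale.flat_lmul' (Localization.AtPrime p) Ah) Mh,
    fun h => Module.Flat.trans (Localization.AtPrime p) Ah Mh⟩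
  tfae_have 1 → 3 := fun h =>
    AbsFlat.flat_of_flat_mul (Algebra.WeaklyEtale.flat_lmul' (Localization.AtPrime p) Ash) Msh
  tfae_have 2 → 3 := fun h => AbsFlat.flat_of_flat_mul (Algebra.WeaklyEtale.flat_lmul' Ah Ash) Msh
  tfae_have 3 → 1 := fun h => Module.Flat.trans (Localization.AtPrime p) Ash Msh
  tfae_have 3 → 2 := fun h => Module.Flat.trans Ah Ash Msh
  tfae_finish

end Groth.Agent.S1235
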