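import Groth.Statements.S4666
import Groth.Agent.ChevLib.Basic
-- import your own Groth.Agent.* helpers here

set_option autoImplicit false
open CategoryTheory AlgebraicGeometry
universe u
open FDesc

namespace Groth.Agent.S4666

open CategoryTheory CategoryTheory.Limits AlgebraicGeometry

theorem one_mem_map_colon {R A : Type u} [CommRing R] [CommRing A] [Algebra R A] [Module.Flat R A]
    (J : Ideal R) (a : R) (ha : algebraMap R A a ∈ J.map (algebraMap R A)) :
    1 ∈ (J.colon ((Ideal.span {a} : Ideal R) : Set R)).map (algebraMap R A) := by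
  let K := J.colon ((Ideal.span {a} : Ideal R) : Set R)
  have hK : K ≤ LinearMap.ker (J.mkQ ∘ₗ LinearMap.toSpanSingleton R R a) := fun r hr => by
    have := Submodule.mem_colon.1 hr a (Ideal.mem_span_singleton_self a)
    rw [LinearMap.mem_ker, LinearMap.comp_apply, Submodule.mkQ_apply,
      Submodule.Quotient.mk_eq_zero, LinearMap.toSpanSingleton_apply]
    exact this
  let g : (R ⧸ K) →ₗ[R] R ⧸ J := Submodule.liftQ K _ hK
  have hg : Function.Injective g := by
    rw [← LinearMap.ker_eq_bot, eq_bot_iff]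
    intro r hr
    obtain ⟨r, rfl⟩ := Submodule.Quotient.mk_surjective K r
    have hr' : r * a ∈ J := by
      have hr2 : (J.mkQ ∘ₗ LinearMap.toSpanSingleton R R a) r = 0 :=
        (Submodule.liftQ_apply K _ r).symm.trans hr
      rwa [LinearMap.comp_apply, Submodule.mkQ_apply, Submodule.Quotient.mk_eq_zero,
        LinearMap.toSpanSingleton_apply, smul_eq_mul] at hr2
    rw [Submodule.mem_bot, Submodule.Quotient.mk_eq_zero]
    refine Submodule.mem_colon.2 fun z hz => ?_
    obtain ⟨c, rfl⟩ := Ideal.mem_span_singleton'.1 hz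
    rw [smul_eq_mul, show r * (c * a) = c * (r * a) by ring]
    exact J.mul_mem_left c hr'
  have hgA : Function.Injective (g.lTensor A) := Module.Flat.lTensor_preserves_injective_linearMap g hg
  let eK := TensorProduct.tensorQuotEquivQuotSMul A K
  let eJ := TensorProduct.tensorQuotEquivQuotSMul A J
  have h0 : g.lTensor A ((1 : A) ⊗ₜ[R] Submodule.Quotient.mk (1 : R)) = 0 := by
    rw [LinearMap.lTensor_tmul]
    apply eJ.injective
    have : g (Submodule.Quotient.mk (1 : R)) = Ideal.Quotient.mk J a :=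
      (Submodule.liftQ_apply K _ (1 : R)).trans (congrArg (Ideal.Quotient.mk J) (one_smul R a))
    rw [this, map_zero]
    erw [TensorProduct.tensorQuotEquivQuotSMul_tmul_mk]
    rw [Submodule.Quotient.mk_eq_zero, Ideal.smul_top_eq_map, Submodule.restrictScalars_mem,
      Algebra.smul_def, mul_one]
    exact ha
  have h1 := congrArg eK (hgA (h0.trans (map_zero _).symm))
  erw [TensorProduct.tensorQuotEquivQuotSMul_tmul_mk] at h1
  rwa [map_zero, Submodule.Quotient.mk_eq_zero, Ideal.smul_top_eq_map,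
    Submodule.restrictScalars_mem, one_smul] at h1

theorem ideal_comap_eq {X Y : Scheme.{u}} (I : Y.IdealSheafData) (f : X ⟶ Y)
    (U : Y.affineOpens) (W : X.affineOpens) (e : W.1 ≤ f ⁻¹ᵁ U.1) :
    (I.comap f).ideal W = (I.ideal U).map (f.appLE U.1 W.1 e).hom := by
  have : IsAffine (W.1 : Scheme) := W.2
  have : IsAffine (U.1 : Scheme) := U.2
  let a := W.1.ι.appLE W.1 ⊤ (by simp)
  have hbij : Function.Bijective a.hom := by
    have : IsIso a := by
      have h0 := W.1.ι_image_top
      have : (homOfLE (X := X.Opens) (show W.1.ι ''ᵁ ⊤ ≤ W.1 from h0.le)) = eqToHom h0 :=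
        Subsingleton.elim _ _
      simp only [a, Scheme.Opens.ι_appLE, this, eqToHom_op, eqToHom_map]
      exact ⟨eqToHom (by show Γ(X, W.1.ι ''ᵁ ⊤) = _; rw [h0]), eqToHom_trans _ _, eqToHom_trans _ _⟩
    exact ConcreteCategory.bijective_of_isIso _
  have key : ((I.comap f).ideal W).map a.hom = ((I.ideal U).map (f.appLE U.1 W.1 e).hom).map a.hom := by
    rw [← ChevLib.ideal_comap_openImmersion_top (I.comap f) W.1.ι W (by simp),
      ← Scheme.IdealSheafData.comap_comp, show W.1.ι ≫ f = f.resLE U.1 W.1 e ≫ U.1.ι from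
        (Scheme.Hom.resLE_comp_ι f e).symm, Scheme.IdealSheafData.comap_comp,
      ChevLib.ideal_comap_top_of_isAffine,
      ChevLib.ideal_comap_openImmersion_top I U.1.ι U (by simp),
      Ideal.map_map, Ideal.map_map, ← CommRingCat.hom_comp, ← CommRingCat.hom_comp]
    congr 2
    simp only [a, Scheme.Hom.appTop, Scheme.Hom.app_eq_appLE]
    erw [Scheme.Hom.appLE_comp_appLE, Scheme.Hom.appLE_comp_appLE]
    simp only [Scheme.Hom.resLE_comp_ι]
    rfl
  have h2 := congrArg (Ideal.comap a.hom) key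
  rwa [Ideal.comap_map_of_bijective a.hom hbij, Ideal.comap_map_of_bijective a.hom hbij] at h2

/-- Let f : X → Y be a flat and surjective morphism of schemes. Then the map sending a quasi-coherent
sheaf of ideals of O_Y (a closed subscheme of Y) to its inverse image in X is injective. -/
theorem result {X Y : Scheme.{u}} (f : X ⟶ Y) [Flat f] [Surjective f] :
    Function.Injective fun J : Y.IdealSheafData => J.comap f := by
  intro J J' h
  have key : ∀ I I' : Y.IdealSheafData, I.comap f = I'.comap f → I ≤ I' := by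
    intro I I' h U a ha
    by_contra hna
    let K : Ideal Γ(Y, U.1) := (I'.ideal U).colon ((Ideal.span {a} : Ideal Γ(Y, U.1)) : Set _)
    have hK : K ≠ ⊤ := fun hK => hna (by
      have h1 : (1 : Γ(Y, U.1)) ∈ K := hK ▸ Submodule.mem_top
      simpa using Submodule.mem_colon.1 h1 a (Ideal.mem_span_singleton_self a))
    obtain ⟨M, hM, hKM⟩ := Ideal.exists_le_maximal K hK
    let y : Spec Γ(Y, U.1) := ⟨M, hM.isPrime⟩
    obtain ⟨x, hx⟩ := f.surjective (U.2.fromSpec y)
    have hyU : U.2.fromSpec y ∈ U.1 := U.2.range_fromSpec.subset ⟨y, rfl⟩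
    obtain ⟨V, hV, hxV, hVU⟩ := exists_isAffineOpen_mem_and_subset (x := x) (U := f ⁻¹ᵁ U.1)
      (show f x ∈ U.1 from hx ▸ hyU)
    let φ : Γ(Y, U.1) →+* Γ(X, V) := (f.appLE U.1 V hVU).hom
    have hflat : φ.Flat := HasRingHomProperty.appLE @Flat f ‹_› U ⟨V, hV⟩ hVU
    have hI : (I.comap f).ideal ⟨V, hV⟩ = (I.ideal U).map φ :=
      ideal_comap_eq I f U ⟨V, hV⟩ hVU
    have hI' : (I'.comap f).ideal ⟨V, hV⟩ = (I'.ideal U).map φ :=
      ideal_comap_eq I' f U ⟨V, hV⟩ hVU
    have haI : φ a ∈ (I'.ideal U).map φ := by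
      rw [← hI', ← h, hI]; exact Ideal.mem_map_of_mem φ ha
    algebraize [φ]
    have : Module.Flat Γ(Y, U.1) Γ(X, V) := hflat
    have hKtop : K.map φ = ⊤ := by
      rw [Ideal.eq_top_iff_one]
      exact one_mem_map_colon _ a haI
    let z := hV.primeIdealOf ⟨x, hxV⟩
    have hz : Spec.map (f.appLE U.1 V hVU) z = y := by
      apply U.2.fromSpec.isOpenEmbedding.injective
      rw [← Scheme.Hom.comp_apply, IsAffineOpen.SpecMap_appLE_fromSpec f U.2 hV hVU,
        Scheme.Hom.comp_apply, IsAffineOpen.fromSpec_primeIdealOf]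
      exact hx
    have hKz : K.map φ ≤ z.asIdeal := by
      rw [Ideal.map_le_iff_le_comap]
      have : z.asIdeal.comap φ = M := congrArg PrimeSpectrum.asIdeal hz
      rw [this]; exact hKM
    exact z.2.ne_top (top_le_iff.1 (hKtop ▸ hKz))
  exact le_antisymm (key J J' h) (key J' J h.symm)

end Groth.Agent.S4666
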