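import Groth.Statements.S3861
import Mathlib
import Groth.Agent.S4666
-- helpers

set_option autoImplicit false
universe u
open FCompl

namespace Groth.Agent.S3861

open AlgebraicGeometry in
/-- For a morphism of schemes f : X -> Y and quasi-coherent ideal sheaves K₁, K₂ on Y, the inverse image
ideal sheaf of K₁K₂ is the product of the inverse image ideal sheaves of K₁ and K₂. -/
theorem result {X Y : Scheme.{u}} (f : X ⟶ Y) (K₁ K₂ : Y.IdealSheafData) :
    (K₁ * K₂).comap f = K₁.comap f * K₂.comap f := by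
  let ι := {W : X.affineOpens // ∃ U : Y.affineOpens, W.1 ≤ f ⁻¹ᵁ U.1}
  refine Scheme.IdealSheafData.ext_of_iSup_eq_top (fun W : ι => W.1) ?_ fun W => ?_
  · refine top_le_iff.mp fun x _ => ?_
    obtain ⟨U, hU, hxU, -⟩ := exists_isAffineOpen_mem_and_subset (U := ⊤) (x := f.base x) trivial
    obtain ⟨W, hW, hxW, hWU⟩ := exists_isAffineOpen_mem_and_subset (U := f ⁻¹ᵁ U) (x := x) hxU
    exact TopologicalSpace.Opens.mem_iSup.mpr ⟨⟨⟨W, hW⟩, ⟨U, hU⟩, hWU⟩, hxW⟩
  · obtain ⟨U, e⟩ := W.2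
    simp only [Scheme.IdealSheafData.ideal_mul, Pi.mul_apply]
    rw [Groth.Agent.S4666.ideal_comap_eq _ f U W.1 e, Groth.Agent.S4666.ideal_comap_eq _ f U W.1 e,
      Groth.Agent.S4666.ideal_comap_eq _ f U W.1 e, Scheme.IdealSheafData.ideal_mul, Pi.mul_apply, Ideal.map_mul]

end Groth.Agent.S3861
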