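import Groth.Statements.S8302
import Groth.Agent.KFlatLib.AffinePull
import Groth.Agent.QCohLib.SerreCrit
import Groth.Agent.QCohLib.Push
import Groth.Agent.QCohLib.AffineFinite

-- import your own Groth.Agent.* helpers here

set_option autoImplicit false
universe u
open CategoryTheory CategoryTheory.Limits AlgebraicGeometry Opposite TopologicalSpace
noncomputable section
open EGA2

namespace Groth.Agent.S8302

open CategoryTheory CategoryTheory.Limits AlgebraicGeometry Opposite TopologicalSpace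

variable {X S : Scheme.{u}} (f : X ⟶ S)

theorem nat_res {M N : X.Modules} (a : M ⟶ N) {V W : X.Opens} (h : W ≤ V) (s : Γ(M, V)) :
    a.app W (M.presheaf.map (homOfLE h).op s) = N.presheaf.map (homOfLE h).op (a.app V s) :=
  congr($(a.mapPresheaf.naturality (homOfLE h).op) s)

theorem exists_local_extend [IsAffineHom f] {K : X.Modules} [Coh.IsQCoh K] {W : X.Opens} (s : Γ(K, W)) {x : X}
    (hx : x ∈ W) : ∃ (U : S.Opens) (_ : IsAffineOpen U) (r : Γ(X, f ⁻¹ᵁ U)) (hle : X.basicOpen r ≤ W)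
      (_ : x ∈ X.basicOpen r) (n : ℕ) (t : Γ(K, f ⁻¹ᵁ U)),
      K.presheaf.map (homOfLE (X.basicOpen_le r)).op t =
        (X.presheaf.map (homOfLE (X.basicOpen_le r)).op r) ^ n • K.presheaf.map (homOfLE hle).op s := by
  obtain ⟨U, hU, hxU⟩ := QCohLib.exists_affine_nhd (f x)
  obtain ⟨r, hle, hxr⟩ := QCohLib.exists_basicOpen_nhd (hU.preimage f) hx (show x ∈ f ⁻¹ᵁ U from hxU)
  obtain ⟨n, t, ht⟩ := (QCohLib.localizingAt_of_isQCoh (hU.preimage f) K r).exists_extend (K.presheaf.map (homOfLE hle).op s)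
  exact ⟨U, hU, r, hle, hxr, n, t, ht⟩

theorem isUnit_res' {U : X.Opens} (r : Γ(X, U)) (n : ℕ) :
    IsUnit ((X.presheaf.map (homOfLE (X.basicOpen_le r)).op r) ^ n) :=
  (RingedSpace.isUnit_res_basicOpen X.toRingedSpace r).pow n

theorem ext_of_preimage [IsAffineHom f] {K L : X.Modules} [Coh.IsQCoh K] (a b : K ⟶ L)
    (h : ∀ U : S.Opens, IsAffineOpen U → ∀ t : Γ(K, f ⁻¹ᵁ U), a.app (f ⁻¹ᵁ U) t = b.app (f ⁻¹ᵁ U) t) : a = b := by
  refine Scheme.Modules.hom_ext a b fun W => ?_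
  ext s
  refine TopCat.Presheaf.section_ext (F := ⟨L.presheaf, L.isSheaf⟩) W _ _ fun x hx => ?_
  obtain ⟨U, hU, r, hle, hxr, n, t, ht⟩ := exists_local_extend f s hx
  obtain ⟨u, hu⟩ := isUnit_res' r n
  have key : ∀ c : K ⟶ L, L.presheaf.map (homOfLE (X.basicOpen_le r)).op (c.app (f ⁻¹ᵁ U) t) =
      (u : Γ(X, X.basicOpen r)) • L.presheaf.map (homOfLE hle).op (c.app W s) := fun c => by
    rw [← nat_res, ht, ← hu, ← nat_res]
    exact c.app_smul _ _
  have h1 : L.presheaf.map (homOfLE hle).op (a.app W s) = L.presheaf.map (homOfLE hle).op (b.app W s) := by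
    have h2 := (key a).symm.trans ((congrArg _ (h U hU t)).trans (key b))
    exact (u.isUnit.smul_left_cancel).1 h2
  have h3 := congrArg (L.presheaf.germ (X.basicOpen r) x hxr) h1
  exact ((TopCat.Presheaf.germ_res_apply L.presheaf (homOfLE hle) x hxr _).symm.trans h3).trans
    (TopCat.Presheaf.germ_res_apply L.presheaf (homOfLE hle) x hxr _)

theorem counit_puSec (F : X.Modules) {U : S.Opens} (m : Γ((Scheme.Modules.pushforward f).obj F, U)) :
    ((Scheme.Modules.pullbackPushforwardAdjunction f).counit.app F).app (f ⁻¹ᵁ U) (KFlatLib.puSec f m) =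
      (show Γ(F, f ⁻¹ᵁ U) from m) :=
  congr(($((Scheme.Modules.pullbackPushforwardAdjunction f).right_triangle_components F)).app U m)

theorem span_puSec [IsAffineHom f] (M : S.Modules) [Coh.IsQCoh M] {U : S.Opens} (hU : IsAffineOpen U)
    (P : Γ(KFlatLib.pb f M, f ⁻¹ᵁ U) → Prop) (h0 : P 0)
    (hadd : ∀ a b, P a → P b → P (a + b)) (hsmul : ∀ (c : Γ(X, f ⁻¹ᵁ U)) a, P a → P (c • a))
    (hpu : ∀ m : Γ(M, U), P (KFlatLib.puSec f m)) (z : Γ(KFlatLib.pb f M, f ⁻¹ᵁ U)) : P z := by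
  let := (f.appLE U (f ⁻¹ᵁ U) le_rfl).hom.toAlgebra
  let := Module.compHom Γ(KFlatLib.pb f M, f ⁻¹ᵁ U) (f.appLE U (f ⁻¹ᵁ U) le_rfl).hom
  haveI : IsScalarTower Γ(S, U) Γ(X, f ⁻¹ᵁ U) Γ(KFlatLib.pb f M, f ⁻¹ᵁ U) :=
    IsScalarTower.of_algebraMap_smul fun _ _ => rfl
  let ψ : Γ(M, U) →ₗ[Γ(S, U)] Γ(KFlatLib.pb f M, f ⁻¹ᵁ U) :=
    { toFun := KFlatLib.puSecLE f M (le_refl (f ⁻¹ᵁ U))
      map_add' := map_add _
      map_smul' := fun r m => KFlatLib.puSecLE_smul f M le_rfl r m }
  have hbc := KFlatLib.isBaseChange_puSec f M hU (hU.preimage f) (le_refl (f ⁻¹ᵁ U)) (fun _ => rfl) ψ fun _ => rfl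
  refine hbc.inductionOn z P h0 (fun m => ?_) (fun c a ha => hsmul c a ha) (fun a b ha hb => hadd a b ha hb)
  have e : ψ m = KFlatLib.puSec f m := by
    change KFlatLib.puSecLE f M (le_refl _) m = _
    rw [KFlatLib.puSecLE_apply, show homOfLE (le_refl (f ⁻¹ᵁ U)) = 𝟙 _ from rfl, op_id,
      CategoryTheory.Functor.map_id]
    rfl
  rw [e]
  exact hpu m

theorem epi_counit [IsAffineHom f] (F : X.Modules) [Coh.IsQCoh F] :
    Epi ((Scheme.Modules.pullbackPushforwardAdjunction f).counit.app F) := by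
  refine QCohLib.epi_of_surjective_on_affines _ fun W s x hx => ?_
  obtain ⟨U, hU, r, hle, hxr, n, t, ht⟩ := exists_local_extend f (K := F) s hx
  obtain ⟨u, hu⟩ := isUnit_res' r n
  refine ⟨X.basicOpen r, hle, hxr, ((u⁻¹ : (Γ(X, X.basicOpen r))ˣ) : Γ(X, X.basicOpen r)) •
    (KFlatLib.pb f ((Scheme.Modules.pushforward f).obj F)).presheaf.map (homOfLE (X.basicOpen_le r)).op
      (KFlatLib.puSec f (show Γ((Scheme.Modules.pushforward f).obj F, U) from t)), ?_⟩
  refine (Scheme.Modules.Hom.app_smul _ _ _).trans ?_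
  erw [nat_res, counit_puSec, ht, ← hu]
  exact inv_smul_smul u _


/-- The case of a single scheme X affine over S and the identity morphism of X: let f : X → S be an
affine morphism and F, G quasi-coherent O_X-modules. Then the direct image u ↦ f_*(u) is a bijection
from the set of O_X-module homomorphisms F → G onto the set of homomorphisms f_*F → f_*G of modules
over the direct-image algebra f_*O_X. -/
theorem result {X S : Scheme.{u}} (f : X ⟶ S) [IsAffineHom f]
    (F G : X.Modules) (hF : Coh.IsQCoh F) (hG : Coh.IsQCoh G) :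
    Function.Bijective
      ((AMod.dirImg f).map : (F ⟶ G) → ((AMod.dirImg f).obj F ⟶ (AMod.dirImg f).obj G)) := by
  haveI := hF; haveI := hG
  haveI : Coh.IsQCoh ((Scheme.Modules.pushforward f).obj F) := QCohLib.isQCoh_pushforward f F
  let R := RelSpec.QCAlg.directImage f
  constructor
  · intro a b hab
    refine ext_of_preimage f a b fun U _ t => ?_
    exact congrArg (fun ω : (AMod.dirImg f).obj F ⟶ (AMod.dirImg f).obj G => ω.val.app (op U) t) hab
  · intro ω
    let ω' : (Scheme.Modules.pushforward f).obj F ⟶ (Scheme.Modules.pushforward f).obj G := (AMod.toOS R).map ω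
    let εF := (Scheme.Modules.pullbackPushforwardAdjunction f).counit.app F
    let εG := (Scheme.Modules.pullbackPushforwardAdjunction f).counit.app G
    let ψ : KFlatLib.pb f ((Scheme.Modules.pushforward f).obj F) ⟶ G := (Scheme.Modules.pullback f).map ω' ≫ εG
    have key : ∀ (U : S.Opens), IsAffineOpen U → ∀ z,
        ψ.app (f ⁻¹ᵁ U) z = (show Γ(G, f ⁻¹ᵁ U) from ω.val.app (op U) (εF.app (f ⁻¹ᵁ U) z)) := by
      intro U hU z
      refine span_puSec f _ hU (fun z => ψ.app (f ⁻¹ᵁ U) z =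
        (show Γ(G, f ⁻¹ᵁ U) from ω.val.app (op U) (εF.app (f ⁻¹ᵁ U) z))) ?_ ?_ ?_ ?_ z
      · simp only [map_zero]
        exact (map_zero (ω.val.app (op U)).hom).symm
      · intro a b ha hb
        simp only [map_add, ha, hb]
        exact (map_add (ω.val.app (op U)).hom _ _).symm
      · intro c a ha
        rw [ψ.app_smul, εF.app_smul, ha]
        exact ((ω.val.app (op U)).hom.map_smul c (εF.app (f ⁻¹ᵁ U) a)).symm
      · intro m
        rw [show εF.app (f ⁻¹ᵁ U) (KFlatLib.puSec f m) = (show Γ(F, f ⁻¹ᵁ U) from m) from counit_puSec f F m]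
        refine Eq.trans ?_ (counit_puSec f G (ω'.app U m))
        change εG.app (f ⁻¹ᵁ U) (((Scheme.Modules.pullback f).map ω').app (f ⁻¹ᵁ U) (KFlatLib.puSec f m)) = _
        rw [KFlatLib.puSec_natural]
    haveI : Coh.IsQCoh (KFlatLib.pb f ((Scheme.Modules.pushforward f).obj F)) := KFlatLib.isQCoh_pullback f _
    haveI := epi_counit f F
    haveI : Coh.IsQCoh (kernel εF) := @QCohLib.isQCoh_kernel _ _ _ εF (KFlatLib.isQCoh_pullback f _) (show Coh.IsQCoh F from hF)
    have h0 : kernel.ι εF ≫ ψ = 0 := ext_of_preimage f _ _ fun U hU t => by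
      change ψ.app (f ⁻¹ᵁ U) ((kernel.ι εF).app (f ⁻¹ᵁ U) t) = 0
      rw [key U hU, show εF.app (f ⁻¹ᵁ U) ((kernel.ι εF).app (f ⁻¹ᵁ U) t) = 0 from
        congr(($(kernel.condition εF)).app (f ⁻¹ᵁ U) t)]
      exact map_zero (ω.val.app (op U)).hom
    let hcok := Abelian.epiIsCokernelOfKernel _ (kernelIsKernel εF)
    let φ : F ⟶ G := hcok.desc (CokernelCofork.ofπ ψ h0)
    have hφ : εF ≫ φ = ψ := hcok.fac (CokernelCofork.ofπ ψ h0) WalkingParallelPair.one
    have haff : ∀ (U : S.Opens), IsAffineOpen U → ∀ m : Γ((Scheme.Modules.pushforward f).obj F, U),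
        φ.app (f ⁻¹ᵁ U) (show Γ(F, f ⁻¹ᵁ U) from m) = (show Γ(G, f ⁻¹ᵁ U) from ω.val.app (op U) m) := by
      intro U hU m
      have h1 := key U hU (KFlatLib.puSec f m)
      rw [← hφ, show εF.app (f ⁻¹ᵁ U) (KFlatLib.puSec f m) = (show Γ(F, f ⁻¹ᵁ U) from m) from counit_puSec f F m] at h1
      refine Eq.trans ?_ h1
      exact congrArg (φ.app (f ⁻¹ᵁ U)) (counit_puSec f F m).symm
    refine ⟨φ, ?_⟩
    apply SheafOfModules.hom_ext
    apply PresheafOfModules.hom_ext
    intro O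
    ext s
    refine TopCat.Sheaf.eq_of_locally_eq' (⟨((Scheme.Modules.pushforward f).obj G).presheaf,
      ((Scheme.Modules.pushforward f).obj G).isSheaf⟩ : TopCat.Sheaf Ab S.carrier)
      (fun U : {U : S.affineOpens // U.1 ≤ O.unop} => U.1.1) O.unop (fun U => homOfLE U.2) ?_ _ _ fun U => ?_
    · intro p hp
      obtain ⟨U, hU, hpU, hle⟩ := exists_isAffineOpen_mem_and_subset (x := p) (U := O.unop) hp
      exact Opens.mem_iSup.2 ⟨⟨⟨U, hU⟩, fun y hy => hle hy⟩, hpU⟩
    · have n1 := nat_res (((Scheme.Modules.pushforward f)).map φ) U.2 (show Γ((Scheme.Modules.pushforward f).obj F, O.unop) from s)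
      have n2 := nat_res ω' U.2 (show Γ((Scheme.Modules.pushforward f).obj F, O.unop) from s)
      exact n1.symm.trans ((haff U.1.1 U.1.2 _).trans n2)


end Groth.Agent.S8302
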