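import Groth.Statements.S5132
import Mathlib.AlgebraicGeometry.Morphisms.QuasiCompact
import Mathlib.AlgebraicGeometry.PullbackCarrier

set_option autoImplicit false
open CategoryTheory AlgebraicGeometry
universe u
open SGA1

namespace Groth.Agent.S5132

/-- Quasi-compactness of a morphism descends along a surjective and quasi-compact base change; flatness
of the base change is not needed for this property. -/
theorem result :
    MorphismProperty.DescendsAlong @QuasiCompact (@Surjective ⊓ @QuasiCompact : MorphismProperty Scheme.{u}) := by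
  refine ⟨fun {A X Y Z fst snd f g} h hf hfst => ?_⟩
  obtain ⟨hs, hq⟩ := hf
  rw [quasiCompact_iff]
  intro U hU hUc
  have h1 : IsCompact (f ⁻¹' U) := hq.1 U hU hUc
  have h2 : IsCompact (fst ⁻¹' (f ⁻¹' U)) := hfst.1 _ (hU.preimage f.continuous) h1
  have h3 : g ⁻¹' U = snd '' (fst ⁻¹' (f ⁻¹' U)) := by
    ext y
    constructor
    · intro hy
      obtain ⟨x, hx⟩ := hs.surj (g y)
      obtain ⟨z, hz1, hz2⟩ := Scheme.Pullback.exists_preimage_pullback x y hx
      refine ⟨h.isoPullback.inv z, ?_, ?_⟩
      · show f (fst (h.isoPullback.inv z)) ∈ U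
        rw [← Scheme.Hom.comp_apply h.isoPullback.inv fst, h.isoPullback_inv_fst, hz1, hx]
        exact hy
      · rw [← Scheme.Hom.comp_apply h.isoPullback.inv snd, h.isoPullback_inv_snd, hz2]
    · rintro ⟨z, hz, rfl⟩
      show g (snd z) ∈ U
      rw [← Scheme.Hom.comp_apply, ← h.w, Scheme.Hom.comp_apply]
      exact hz
  rw [h3]
  exact h2.image snd.continuous

end Groth.Agent.S5132
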