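import Groth.Statements.S4374
import Groth.Agent.AmpleThLib.Ample

set_option autoImplicit false
universe u
open CategoryTheory CategoryTheory.Limits AlgebraicGeometry
open EGA2

namespace Groth.Agent.S4374

/-- Let X be a quasi-compact scheme and L, L' two O_X-modules with L ⊗ L' ≅ O_X (so L' is an inverse of
L). If L and L' are both ample, then X is quasi-affine. -/
theorem result (X : Scheme.{u}) [CompactSpace X] (L L' : X.Modules)
    (hinv : ClSub.IsInverseOf L L') (hL : CohB1.IsAmple L) (hL' : CohB1.IsAmple L') : X.IsQuasiAffine := by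
  refine Scheme.IsQuasiAffine.of_forall_exists_mem_basicOpen X fun x => ?_
  obtain ⟨φ⟩ := hinv
  have h1 := hL.1
  have h2 := hL'.1
  have hM := AmpleThLib.shT_isInvertible h1 h2
  have hg : AmpleLib.GenOn (CohB1.tensorMod L L') (φ.inv.app ⊤ (1 : Γ(X, ⊤))) :=
    TwistLib.genOn_of_genAt fun y hy =>
      (TwistLib.genAt_app_iso φ.symm _ _).mpr ((AmpleLib.one_genOn ⊤).genAt hy)
  obtain ⟨m, V, hm, hV, hxV, haff⟩ := ((AmpleThLib.isAmple_iff (hL := h1)).mp hL).2 x
  obtain ⟨n, V', hn, hV', hxV', -⟩ := ((AmpleThLib.isAmple_iff (hL := h2)).mp hL').2 x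
  obtain ⟨σ, hσ⟩ := hV.mul_right hn
  obtain ⟨τ, hτ⟩ := (mul_comm n m) ▸ hV'.mul_right hm
  obtain ⟨ψ⟩ := AmpleThLib.exists_tensorPowIso h1 h2 (m * n)
  have hl : AmpleThLib.IsLocus hM (m * n) (V ⊓ V') := by
    refine ⟨ψ.hom.app ⊤ (AmpleLib.shT σ τ), ?_⟩
    rw [AmpleThLib.genSet_iso (AmpleThLib.shT_isInvertible (AmpleThLib.tensorPow_isInvertible h1 _)
      (AmpleThLib.tensorPow_isInvertible h2 _)) _ ψ,
      AmpleThLib.genSet_shT (AmpleThLib.tensorPow_isInvertible h1 _) (AmpleThLib.tensorPow_isInvertible h2 _),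
      hσ, hτ]
  obtain ⟨f, hf⟩ := hl.exists_basicOpen hg
  refine ⟨f, ?_, hf ▸ ⟨hxV, hxV'⟩⟩
  have hfV : X.basicOpen (X.presheaf.map (homOfLE (le_top : V ≤ ⊤)).op f) = X.basicOpen f := by
    rw [Scheme.basicOpen_res, inf_eq_right, hf]
    exact inf_le_left
  exact hfV ▸ haff.basicOpen _

end Groth.Agent.S4374
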