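import Groth.Statements.S9815
import Groth.Agent.MiscFlat6.RelAmpleLocal
-- import your own Groth.Agent.* helpers here

set_option autoImplicit false
universe u
open CategoryTheory CategoryTheory.Limits AlgebraicGeometry TopologicalSpace
open Props

namespace Groth.Agent.S9815

/-- Case (4) (which implies the other cases): let L be an ample invertible module on a scheme X and let
i : X' → X be a morphism from a quasi-compact scheme which is a homeomorphism onto its image. Then
i^*L is ample. -/
theorem result {X X' : Scheme.{u}} (i : X' ⟶ X) [CompactSpace X']
    (hi : Topology.IsEmbedding i) (L : X.Modules) (hL : CohB1.IsAmple L) :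
    CohB1.IsAmple ((Scheme.Modules.pullback i).obj L) := by
  haveI : QuasiSeparatedSpace X := AmpleThLib.quasiSeparatedSpace_of_isAmple hL
  haveI : QuasiCompact i := quasiCompact_of_compactSpace i
  exact MiscFlat6.isAmple_pb_of_isQuasiAffine i (RichLib.QA.of_isEmbedding i hi) hL

end Groth.Agent.S9815
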