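import Groth.Statements.S1700
import Groth.Agent.SDivLib.Divisor
import Groth.Agent.EffCartLib.Basic
import Mathlib.RingTheory.Ideal.AssociatedPrime.Basic

set_option autoImplicit false
universe u
open CategoryTheory CategoryTheory.Limits AlgebraicGeometry TopologicalSpace
open SDiv

namespace Groth.Agent.S1700

/-- Let X be a Noetherian scheme and 𝓘 a quasi-coherent ideal sheaf with closed subscheme Z such that
(1) Z has no embedded points: every point of Z whose local ring has its maximal ideal associated is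
a maximal point of Z; (2) every maximal point of Z has codimension 1 in X (the local ring of X there
has dimension 1); (3) the local ring of X at every point of Z is a unique factorisation domain. Then
𝓘 is the ideal sheaf of an effective Cartier divisor. -/
theorem result (X : Scheme.{u}) [IsNoetherian X] (𝓘 : X.IdealSheafData)
    (h1 : ∀ z : ↥𝓘.subscheme, IsAssociatedPrime (IsLocalRing.maximalIdeal ↑(𝓘.subscheme.presheaf.stalk z)) ↑(𝓘.subscheme.presheaf.stalk z) → ∀ z' : ↥𝓘.subscheme, z' ⤳ z → z' = z)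
    (h2 : ∀ z : ↥𝓘.subscheme, (∀ z' : ↥𝓘.subscheme, z' ⤳ z → z' = z) →
      ringKrullDim (X.presheaf.stalk (𝓘.subschemeι z)) = 1)
    (h3 : ∀ x : ↥X, x ∈ 𝓘.support → IsDomain (X.presheaf.stalk x) ∧ UniqueFactorizationMonoid (X.presheaf.stalk x)) :
    BlowUp.IsEffCartierIdeal 𝓘 := by
  refine EffCartLib.isEffCartier_of_stalk 𝓘 fun x hx U hxU => ?_
  obtain ⟨hdom, hufd⟩ := h3 x hx
  rw [← SDivLib.stalkIdeal_eq 𝓘 U hxU]
  set J := IntMult.stalkIdeal 𝓘 x with hJdef
  have hassoc : ∀ Q : Ideal (X.presheaf.stalk x),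
      IsAssociatedPrime Q (X.presheaf.stalk x ⧸ J) → Q.height = 1 := by
    intro Q hQ
    rw [isAssociatedPrime_iff] at hQ
    obtain ⟨hQp, y, hy⟩ := hQ
    obtain ⟨y, rfl⟩ := Ideal.Quotient.mk_surjective y
    have hQiff : ∀ a, a ∈ Q ↔ a * y ∈ J := fun a => by
      rw [hy, Submodule.mem_colon_singleton, Submodule.mem_bot, ← Ideal.Quotient.eq_zero_iff_mem]
      rfl
    letI := X.presheaf.algebra_section_stalk (⟨x, hxU⟩ : U.1)
    haveI : IsLocalization.AtPrime (X.presheaf.stalk x) (SDivLib.prm U hxU) := U.2.isLocalization_stalk ⟨x, hxU⟩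
    obtain ⟨w, hwU, hw⟩ := SDivLib.exists_point U (Q.comap (algebraMap Γ(X, U.1) (X.presheaf.stalk x)))
    have hwx : SDivLib.prm U hwU ≤ SDivLib.prm U hxU := by
      rw [hw]
      exact fun a ha => (IsLocalization.AtPrime.to_map_mem_maximal_iff _ (SDivLib.prm U hxU) a).1
        (IsLocalRing.le_maximalIdeal hQp.ne_top ha)
    have hJQ : J ≤ Q := fun a ha => (hQiff a).2 (J.mul_mem_right _ ha)
    have hwI : w ∈ 𝓘.support := by
      rw [SDivLib.mem_support_iff_le 𝓘 U hwU, hw]
      intro a ha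
      exact hJQ (by rw [hJdef, SDivLib.stalkIdeal_eq 𝓘 U hxU]; exact Ideal.mem_map_of_mem _ ha)
    obtain ⟨z, rfl⟩ : w ∈ Set.range 𝓘.subschemeι := by rw [Scheme.IdealSheafData.range_subschemeι]; exact hwI
    obtain ⟨⟨c, s⟩, hcs⟩ := IsLocalization.surj (SDivLib.prm U hxU).primeCompl y
    change y * algebraMap _ _ (s : Γ(X, U.1)) = algebraMap _ _ c at hcs
    have hsQ : algebraMap Γ(X, U.1) (X.presheaf.stalk x) s ∉ Q := fun h =>
      hQp.ne_top (Ideal.eq_top_of_isUnit_mem _ h (IsLocalization.map_units _ s))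
    have hQc : ∀ a : Γ(X, U.1), a ∈ SDivLib.prm U hwU ↔
        algebraMap Γ(X, U.1) (X.presheaf.stalk x) (a * c) ∈ J := by
      intro a
      rw [hw, Ideal.mem_comap, map_mul, ← hcs, ← mul_assoc,
        Ideal.mul_unit_mem_iff_mem J (IsLocalization.map_units _ s), hQiff]
    have hmax : IsAssociatedPrime (IsLocalRing.maximalIdeal ↑(𝓘.subscheme.presheaf.stalk z))
        ↑(𝓘.subscheme.presheaf.stalk z) := by
      let φ : Γ(X, U.1) →+* 𝓘.subscheme.presheaf.stalk z :=
        (𝓘.subschemeι.stalkMap z).hom.comp (X.presheaf.germ U.1 (𝓘.subschemeι z) hwU).hom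
      have hφ : ∀ a, φ a = (𝓘.subscheme.presheaf.germ (𝓘.subschemeι ⁻¹ᵁ U.1) z hwU).hom ((𝓘.subschemeι.app U.1).hom a) :=
        fun a => AlgebraicGeometry.Scheme.Hom.germ_stalkMap_apply 𝓘.subschemeι U.1 z hwU a
      let W : 𝓘.subscheme.affineOpens := ⟨𝓘.subschemeι ⁻¹ᵁ U.1, U.2.preimage 𝓘.subschemeι⟩
      have hzW : z ∈ W.1 := hwU
      haveI : (SDivLib.prm W hzW).IsPrime := SDivLib.prm_isPrime W hzW
      letI := 𝓘.subscheme.presheaf.algebra_section_stalk (⟨z, hzW⟩ : W.1)
      haveI : IsLocalization.AtPrime (𝓘.subscheme.presheaf.stalk z) (SDivLib.prm W hzW) :=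
        W.2.isLocalization_stalk ⟨z, hzW⟩
      have hunit : ∀ a, IsUnit (φ a) ↔ a ∉ SDivLib.prm U hwU := fun a => by
        rw [SDivLib.mem_prm_iff, not_not]
        exact (isUnit_map_iff (𝓘.subschemeι.stalkMap z).hom _)
      have hker : ∀ a, φ a = 0 ↔ ∃ t, t ∉ SDivLib.prm U hwU ∧ t * a ∈ 𝓘.ideal U := by
        intro a
        constructor
        · intro h
          rw [hφ] at h
          obtain ⟨⟨t', ht'⟩, htt⟩ := (IsLocalization.map_eq_zero_iff (SDivLib.prm W hzW).primeCompl
            (𝓘.subscheme.presheaf.stalk z) ((𝓘.subschemeι.app U.1).hom a)).1 h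
          obtain ⟨t, rfl⟩ := 𝓘.subschemeι_app_surjective U t'
          refine ⟨t, (hunit t).1 ?_, ?_⟩
          · rw [hφ]
            exact IsLocalization.map_units (𝓘.subscheme.presheaf.stalk z)
              (⟨_, ht'⟩ : (SDivLib.prm W hzW).primeCompl)
          · rw [← Scheme.IdealSheafData.ker_subschemeι_app 𝓘 U, RingHom.mem_ker, map_mul]
            exact htt
        · rintro ⟨t, ht, hta⟩
          refine ((hunit t).2 ht).mul_right_eq_zero.1 ?_
          rw [← map_mul, hφ]
          rw [← Scheme.IdealSheafData.ker_subschemeι_app 𝓘 U, RingHom.mem_ker] at hta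
          rw [hta, map_zero]
      have hc : φ c ≠ 0 := fun h => by
        obtain ⟨t, ht, htc⟩ := (hker c).1 h
        exact ht ((hQc t).2 (by rw [hJdef, SDivLib.stalkIdeal_eq 𝓘 U hxU]; exact Ideal.mem_map_of_mem _ htc))
      haveI : IsNoetherianRing (𝓘.subscheme.presheaf.stalk z) :=
        isNoetherianRing_of_surjective _ _ (𝓘.subschemeι.stalkMap z).hom (𝓘.subschemeι.stalkMap_surjective z)
      refine isAssociatedPrime_iff.2 ⟨(IsLocalRing.maximalIdeal.isMaximal _).isPrime, φ c, ?_⟩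
      refine le_antisymm (fun m hm => ?_) (IsLocalRing.le_maximalIdeal fun h => hc ?_)
      · rw [Submodule.mem_colon_singleton, Submodule.mem_bot, smul_eq_mul]
        obtain ⟨m, rfl⟩ := 𝓘.subschemeι.stalkMap_surjective z m
        letI := X.presheaf.algebra_section_stalk (⟨𝓘.subschemeι z, hwU⟩ : U.1)
        haveI : IsLocalization.AtPrime (X.presheaf.stalk (𝓘.subschemeι z)) (SDivLib.prm U hwU) :=
          U.2.isLocalization_stalk ⟨_, hwU⟩
        obtain ⟨⟨a, t⟩, hat⟩ := IsLocalization.surj (SDivLib.prm U hwU).primeCompl m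
        have hat' : (𝓘.subschemeι.stalkMap z).hom m * φ (t : Γ(X, U.1)) = φ a := by
          exact ((map_mul (𝓘.subschemeι.stalkMap z).hom _ _).symm.trans (congrArg _ hat))
        have hat'' : a ∈ SDivLib.prm U hwU := by
          by_contra hn
          have h2 := (hunit a).2 hn
          rw [← hat'] at h2
          exact (IsLocalRing.mem_maximalIdeal _).1 hm (isUnit_of_mul_isUnit_left h2)
        have h3 : φ (a * c) = 0 := by
          have h4 := (hQc a).1 hat''
          rw [hJdef, SDivLib.stalkIdeal_eq 𝓘 U hxU] at h4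
          obtain ⟨e, he, hea⟩ := (IsLocalization.algebraMap_mem_map_algebraMap_iff
            (SDivLib.prm U hxU).primeCompl _ _ _).1 h4
          exact (hker _).2 ⟨e, fun h => he (hwx h), hea⟩
        rw [map_mul, ← hat', mul_right_comm] at h3
        exact ((hunit _).2 t.2).mul_left_eq_zero.1 h3
      · have h1 : (1 : 𝓘.subscheme.presheaf.stalk z) ∈ (⊥ : Submodule _ (𝓘.subscheme.presheaf.stalk z)).colon {φ c} := by
          rw [h]; trivial
        simpa [Submodule.mem_colon_singleton] using h1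
    have h4 := h2 z (h1 z hmax)
    rw [SDivLib.ringKrullDim_stalk U hwU, hw] at h4
    have h5 : (Q.comap (algebraMap Γ(X, U.1) (X.presheaf.stalk x))).height = Q.height :=
      IsLocalization.height_under (SDivLib.prm U hxU).primeCompl Q
    exact h5 ▸ (WithBot.coe_eq_coe.1 h4 : (Q.comap (algebraMap Γ(X, U.1) (X.presheaf.stalk x))).height = 1)
  have hJtop : J ≠ ⊤ := (SDivLib.mem_support_iff_stalk 𝓘 x).1 hx
  have hJbot : J ≠ ⊥ := by
    intro hbot
    haveI : Nontrivial (X.presheaf.stalk x ⧸ J) := Ideal.Quotient.nontrivial_iff.2 hJtop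
    obtain ⟨Q, hQ, -⟩ := exists_le_isAssociatedPrime_of_isNoetherianRing (X.presheaf.stalk x) (1 : X.presheaf.stalk x ⧸ J) one_ne_zero
    have hh := hassoc Q hQ
    obtain ⟨hQp, y, hy⟩ := isAssociatedPrime_iff.1 hQ
    obtain ⟨y, rfl⟩ := Ideal.Quotient.mk_surjective y
    have hQbot : Q = ⊥ := by
      refine le_bot_iff.1 fun a ha => ?_
      rw [hy, Submodule.mem_colon_singleton, Submodule.mem_bot] at ha
      have h' : a * y ∈ J := Ideal.Quotient.eq_zero_iff_mem.1 ha
      rw [hbot, Submodule.mem_bot, mul_eq_zero] at h'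
      rcases h' with h' | h'
      · exact h'
      · refine absurd ((Ideal.eq_top_iff_one Q).2 ?_) hQp.ne_top
        rw [hy, Submodule.mem_colon_singleton, Submodule.mem_bot, h', map_zero, smul_zero]
    rw [hQbot, Ideal.height_bot] at hh
    exact zero_ne_one hh
  obtain ⟨J', ⟨g, hg, hgJ⟩, hmax⟩ := set_has_maximal_iff_noetherian.2
    (inferInstance : IsNoetherianRing (X.presheaf.stalk x))
    {J' : Ideal (X.presheaf.stalk x) | ∃ g : X.presheaf.stalk x, g ≠ 0 ∧ J = Ideal.span {g} * J'}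
    ⟨J, 1, one_ne_zero, by rw [Ideal.span_singleton_one, Ideal.top_mul]⟩
  refine ⟨g, mem_nonZeroDivisors_of_ne_zero hg, ?_⟩
  suffices h : J' = ⊤ by rw [hgJ, h, Ideal.mul_top]
  by_contra hne
  have hgJ' : (Ideal.Quotient.mk J g) ≠ 0 := fun h => by
    rw [Ideal.Quotient.eq_zero_iff_mem, hgJ, Ideal.mem_span_singleton_mul] at h
    obtain ⟨j, hj, hj'⟩ := h
    have : j = 1 := mul_left_cancel₀ hg (by rw [hj', mul_one])
    exact hne ((Ideal.eq_top_iff_one J').2 (this ▸ hj))
  obtain ⟨Q, hQ, hle⟩ := exists_le_isAssociatedPrime_of_isNoetherianRing (X.presheaf.stalk x) _ hgJ'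
  have hJ'Q : J' ≤ Q := fun j hj => hle (by
    rw [Submodule.mem_colon_singleton, Submodule.mem_bot]
    refine Ideal.Quotient.eq_zero_iff_mem.2 ?_
    rw [hgJ]; show j * g ∈ _; rw [mul_comm j g]
    exact Ideal.mul_mem_mul (Ideal.mem_span_singleton_self g) hj)
  have hQp : Q.IsPrime := (isAssociatedPrime_iff.1 hQ).1
  have hh := hassoc Q hQ
  obtain ⟨p, hp, hpp⟩ := Ideal.IsPrime.exists_mem_prime_of_ne_bot hQp (fun h => by
    rw [h, Ideal.height_bot] at hh; exact zero_ne_one hh)
  have hspan : (Ideal.span {p}).IsPrime := (Ideal.span_singleton_prime hpp.ne_zero).2 hpp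
  have hQeq : Ideal.span {p} = Q := by
    refine eq_of_le_of_not_lt ((Ideal.span_singleton_le_iff_mem _).2 hp) fun hlt => ?_
    have h' := Ideal.height_strict_mono_of_isPrime hlt
    rw [hh, ENat.lt_one_iff_eq_zero] at h'
    exact Set.disjoint_left.1 (Ideal.disjoint_nonZeroDivisors_of_mem_minimalPrimes (Ideal.height_eq_zero_iff.1 h'))
      (Ideal.mem_span_singleton_self p) (mem_nonZeroDivisors_of_ne_zero hpp.ne_zero)
  let J'' := Submodule.colon J' {p}
  have heq : J' = Ideal.span {p} * J'' := by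
    refine le_antisymm (fun j hj => ?_) (Ideal.mul_le.2 fun a ha b hb => ?_)
    · obtain ⟨j', rfl⟩ := Ideal.mem_span_singleton'.1 (hQeq.symm ▸ hJ'Q hj : j ∈ Ideal.span {p})
      rw [mul_comm j' p]
      exact Ideal.mul_mem_mul (Ideal.mem_span_singleton_self p) (Submodule.mem_colon_singleton.2 hj)
    · obtain ⟨a, rfl⟩ := Ideal.mem_span_singleton'.1 ha
      rw [show a * p * b = a * (b * p) by ring]
      exact Ideal.mul_mem_left J' a (Submodule.mem_colon_singleton.1 hb)
  refine hmax J'' ⟨g * p, mul_ne_zero hg hpp.ne_zero, by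
    rw [hgJ, heq, ← mul_assoc, Ideal.span_singleton_mul_span_singleton]⟩ (lt_of_le_of_ne
      (fun j hj => Submodule.mem_colon_singleton.2 (Ideal.mul_mem_right p J' hj)) fun he => ?_)
  have h0 : J' = ⊥ := by
    refine Submodule.eq_bot_of_le_smul_of_le_jacobson_bot (Ideal.span {p}) J' (IsNoetherian.noetherian _)
      ?_ ?_
    · rw [smul_eq_mul]
      conv_lhs => rw [heq, ← he]
    · rw [IsLocalRing.jacobson_eq_maximalIdeal _ bot_ne_top]
      exact IsLocalRing.le_maximalIdeal hspan.ne_top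
  exact hJbot (by rw [hgJ, h0, Ideal.mul_bot])

end Groth.Agent.S1700
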