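import Groth.Statements.S1535
import Groth.Agent.GeomRedFieldLib.Scheme
import Groth.Agent.CohenLib.RegularField
-- import your own Groth.Agent.* helpers here

set_option autoImplicit false
universe u
open CategoryTheory CategoryTheory.Limits AlgebraicGeometry
open Variety

namespace Groth.Agent.S1535

/-- If X is smooth over a field then every local ring of X is a regular local ring. -/
theorem result (k : Type u) [Field k] (X : Scheme.{u}) [X.Over (Spec (CommRingCat.of k))] [Smooth (X ↘ (Spec (CommRingCat.of k)))] (x : X) :
    IsRegularLocalRing (X.presheaf.stalk x) := by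
  let f := X ↘ Spec (CommRingCat.of k)
  obtain ⟨_, ⟨U : X.Opens, hU, rfl⟩, hxU, -⟩ :=
    X.isBasis_affineOpens.exists_subset_of_mem_open (Set.mem_univ x) isOpen_univ
  obtain ⟨T, _, _, j, hjo, hr, hj⟩ := GeomRedFieldLib.exists_algebra f hU
  haveI := hjo
  haveI := GeomRedFieldLib.finiteType_of_chart f j hj
  obtain ⟨q₀, rfl⟩ : x ∈ Set.range j := by rw [hr]; exact hxU
  let q : PrimeSpectrum T := q₀
  have hq : j q ∈ f.smoothLocus := by rw [f.smoothLocus_eq_top]; trivial
  rw [GeomRedFieldLib.mem_smoothLocus_chart f j hj q] at hq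
  haveI := hq
  haveI : IsNoetherianRing T := Algebra.FiniteType.isNoetherianRing k T
  haveI : IsRegularLocalRing (Localization.AtPrime q.asIdeal) :=
    haveI : IsNoetherianRing (Localization.AtPrime q.asIdeal) := IsLocalization.isNoetherianRing q.asIdeal.primeCompl _ inferInstance
    CohenLib.isRegularLocalRing_of_formallySmooth (k := k)
  exact IsRegularLocalRing.of_ringEquiv ((asIso (j.stalkMap q₀)).commRingCatIsoToRingEquiv.trans
    (Spec.stalkIso (CommRingCat.of T) q₀).commRingCatIsoToRingEquiv).symm

end Groth.Agent.S1535
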