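import Groth.Statements.S19476
import Groth.Agent.SeesawLib.Main
import Groth.Agent.CubeLib.Clopen
import Groth.Agent.MiscFlat6.InvDual

set_option autoImplicit false
universe u
open CategoryTheory CategoryTheory.Limits AlgebraicGeometry
open PicF

namespace Groth.Agent.S19476

/-- Let S be a locally Noetherian scheme, f : X → S flat and proper with integral geometric fibres, and
L a line bundle on X (a locally free module of rank 1). Then there is a closed subscheme Z ⊆ S with
the following universal property among locally Noetherian S-schemes: a morphism u : T → S with T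
locally Noetherian factors through Z if and only if the pullback of L to X ×_S T is isomorphic to
the pullback along the projection X ×_S T → T of some line bundle on T, i.e. is trivial relative to
T. (Only the existence of such a closed subscheme is asserted.) -/
theorem result {X S : Scheme.{u}} (f : X ⟶ S)
    [IsProper f] [Flat f] [GeometricallyIntegral f] [IsLocallyNoetherian S]
    (L : X.Modules) (hL : FlatMod.IsFinLocFreeOfRank 1 L) :
    ∃ (Z : Scheme.{u}) (ι : Z ⟶ S), IsClosedImmersion ι ∧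
      ∀ (T : Scheme.{u}) (u : T ⟶ S), IsLocallyNoetherian T →
        ((∃ u' : T ⟶ Z, u' ≫ ι = u) ↔
          ∃ M : T.Modules, FlatMod.IsFinLocFreeOfRank 1 M ∧
            Nonempty ((Scheme.Modules.pullback (pullback.fst f u)).obj L ≅
              (Scheme.Modules.pullback (pullback.snd f u)).obj M)) := by
  have : LocallyOfFinitePresentation f := LocallyOfFinitePresentation.iff_locallyOfFiniteType.2 inferInstance
  obtain ⟨Z, ι, hι, -, -, hiff, hrange⟩ := SeesawLib.exists_seesaw (CubeLib.univO_of_geometricallyIntegral f)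
    (fun s => inferInstance) (SeesawLib.isFinLocFree_of_rank hL)
  have hL' := (CohCmpLib.invertible_iff_rank_one L).2 hL
  let M := MiscFlat6.dual L
  have hM : PicF.IsInvertible M := MiscFlat6.dual_isInvertible hL'
  obtain ⟨e⟩ := MiscFlat6.nonempty_dualIso hL'
  obtain ⟨_, hfpL, hflL⟩ := CohCmpLib.rank_one_hyps f hL
  obtain ⟨_, hfpM, hflM⟩ := CohCmpLib.rank_one_hyps f ((CohCmpLib.invertible_iff_rank_one M).1 hM)
  have hset : Set.range ι = {s | Nontrivial (CohIII.fiberH f L s 0)} ∩ {s | Nontrivial (CohIII.fiberH f M s 0)} := by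
    rw [hrange]
    refine Set.ext fun s => ⟨fun ⟨n, ⟨a⟩⟩ => ?_, fun h => ?_⟩
    · obtain ⟨x⟩ : Nonempty (f.fiber s) := inferInstance
      have h1 : n = 1 := SeesawLib.rankSet_unique (SeesawLib.rankSet_of_iso a.symm (SeesawLib.rankSet_freeMod _ n x))
        (SeesawLib.rankSet_of_rank (SeesawLib.isFinLocFreeOfRank_pullback (f.fiberι s) hL) x)
      subst h1
      let t : CohIII.fiberMod f L s ≅ Coh.structureModule (f.fiber s) :=
        a ≪≫ Limits.coproductUniqueIso fun _ : Fin 1 => Coh.structureModule (f.fiber s)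
      obtain ⟨e'⟩ := CohCmpLib.nonempty_pullback_inverse (f.fiberι s) e
      exact ⟨CohCmpLib.nontrivial_of_trivial f ⟨t⟩, CohCmpLib.nontrivial_of_trivial f
        ⟨(HilbPolyLib.unitLeft _).symm ≪≫ HilbPolyLib.congrLeft t.symm _ ≪≫ e'⟩⟩
    · obtain ⟨t⟩ := CohCmpLib.trivial_of_sections f hL' e s h.1 h.2
      exact ⟨1, ⟨t ≪≫ (Limits.coproductUniqueIso fun _ : Fin 1 => Coh.structureModule (f.fiber s)).symm⟩⟩
  have hcl : IsClosed (Set.range ι) := hset ▸ (CohCmpLib.isClosed_nontrivial_fiberH f hfpL hflL 0).inter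
    (CohCmpLib.isClosed_nontrivial_fiberH f hfpM hflM 0)
  refine ⟨Z, ι, IsClosedImmersion.of_isPreimmersion ι hcl, fun T u _ => (hiff T u).trans
    ⟨?_, fun ⟨M, hM, h⟩ => ⟨M, SeesawLib.isFinLocFree_of_rank hM, h⟩⟩⟩
  rintro ⟨M, hM, ⟨a⟩⟩
  refine ⟨M, (CohCmpLib.invertible_iff_rank_one M).1 fun t => ?_, ⟨a⟩⟩
  obtain ⟨U, n, htU, ⟨b⟩⟩ := hM t
  obtain ⟨z, hz⟩ := (pullback.snd f u).surjective t
  have ht : t ∈ SeesawLib.RankSet M n := by
    refine (SeesawLib.mem_rankSet_pullback_iff hM U.ι ⟨t, htU⟩ n).1 ?_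
    exact SeesawLib.rankSet_of_iso (b.symm ≪≫ (Scheme.Modules.restrictFunctorIsoPullback U.ι).app M)
      (SeesawLib.rankSet_freeMod _ _ _)
  have h1 : z ∈ SeesawLib.RankSet ((Scheme.Modules.pullback (pullback.snd f u)).obj M) n :=
    (SeesawLib.mem_rankSet_pullback_iff hM _ z n).2 (hz.symm ▸ ht)
  obtain rfl := SeesawLib.rankSet_unique (SeesawLib.rankSet_of_iso a.symm h1)
    (SeesawLib.rankSet_of_rank (SeesawLib.isFinLocFreeOfRank_pullback (pullback.fst f u) hL) z)
  exact ⟨U, htU, ⟨b ≪≫ Limits.coproductUniqueIso fun _ : Fin 1 => Coh.structureModule U.toScheme⟩⟩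

end Groth.Agent.S19476
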