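import Groth.Statements.S8709
import Groth.Agent.UnitRigidLib.Core
import Groth.Prelude.Def_GmPts

set_option autoImplicit false
universe u
open CategoryTheory CategoryTheory.Limits MonoidalCategory CartesianMonoidalCategory MonObj AlgebraicGeometry
open SGA7

namespace Groth.Agent.S8709

/-- Let k be a field and X, Y two k-schemes of finite type which are geometrically reduced and
geometrically connected, with rational points e_X and e_Y. Then every k-morphism u from X ×_k Y to
the multiplicative group whose restrictions to X × e_Y and to e_X × Y are trivial is trivial.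
(Morphisms to the multiplicative group over k form a group; trivial means equal to its unit
element.) -/
theorem result (k : Type u) [Field k]
    (X Y : Over (Spec (CommRingCat.of k)))
    [LocallyOfFiniteType X.hom] [QuasiCompact X.hom] [GeometricallyReduced X.hom] [GeometricallyConnected X.hom]
    [LocallyOfFiniteType Y.hom] [QuasiCompact Y.hom] [GeometricallyReduced Y.hom] [GeometricallyConnected Y.hom]
    (eX : 𝟙_ (Over (Spec (CommRingCat.of k))) ⟶ X) (eY : 𝟙_ (Over (Spec (CommRingCat.of k))) ⟶ Y)
    (u : X ⊗ Y ⟶ Red.Gm (Spec (CommRingCat.of k)))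
    (huX : lift (𝟙 X) (toUnit X ≫ eY) ≫ u = 1) (huY : lift (toUnit Y ≫ eX) (𝟙 Y) ≫ u = 1) :
    u = 1 := by
  let K := AlgebraicClosure k
  let f : Spec (CommRingCat.of K) ⟶ Spec (CommRingCat.of k) := Spec.map (CommRingCat.ofHom (algebraMap k K))
  have : Flat f := by
    rw [HasRingHomProperty.Spec_iff (P := @Flat)]
    exact RingHom.flat_algebraMap_iff.2 inferInstance
  have : Surjective f := ⟨fun z => ⟨⟨⊥, Ideal.isPrime_bot⟩, Subsingleton.elim _ _⟩⟩
  let pX := pullback.snd X.hom f
  let pY := pullback.fst f Y.hom
  have : IsReduced (pullback X.hom f) :=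
    GeometricallyReduced.geometrically_isReduced _ _ _ (IsPullback.of_hasPullback _ _)
  have : IsReduced (pullback f Y.hom) :=
    GeometricallyReduced.geometrically_isReduced _ _ _ (IsPullback.of_hasPullback _ _).flip
  have : ConnectedSpace (pullback X.hom f : Scheme.{u}) :=
    GeometricallyConnected.geometrically_connectedSpace _ _ _ (IsPullback.of_hasPullback _ _)
  have : ConnectedSpace (pullback f Y.hom : Scheme.{u}) :=
    GeometricallyConnected.geometrically_connectedSpace _ _ _ (IsPullback.of_hasPullback _ _).flip
  have : LocallyOfFiniteType pX := inferInstance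
  have : LocallyOfFiniteType pY := inferInstance
  have : Flat (pullback.fst X.hom f) := inferInstance
  have : Surjective (pullback.fst X.hom f) := inferInstance
  let π : pullback pX pY ⟶ pullback X.hom Y.hom :=
    (pullbackRightPullbackFstIso f Y.hom pX).hom ≫
      (pullback.congrHom pullback.condition.symm rfl).hom ≫
      (pullbackRightPullbackFstIso X.hom Y.hom (pullback.fst X.hom f)).inv ≫
      pullback.snd (pullback.fst X.hom f) (pullback.fst X.hom Y.hom)
  have hπ₁ : π ≫ pullback.fst _ _ = pullback.fst pX pY ≫ pullback.fst X.hom f := by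
    simp [π, ← pullback.condition, pullback.map]
    erw [pullback.lift_fst_assoc, pullbackRightPullbackFstIso_hom_fst_assoc]
  have hπ₂ : π ≫ pullback.snd _ _ = pullback.snd pX pY ≫ pullback.snd f Y.hom := by
    simp [π, pY, pullback.map]
    erw [pullback.lift_snd, pullbackRightPullbackFstIso_hom_snd]
  have : Flat (pullback.snd (pullback.fst X.hom f) (pullback.fst X.hom Y.hom)) := inferInstance
  have : Surjective (pullback.snd (pullback.fst X.hom f) (pullback.fst X.hom Y.hom)) := inferInstance
  have : Flat π := inferInstance
  have : Surjective π := inferInstance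
  have : Epi π := Flat.epi_of_flat_of_surjective π
  have hX : eX.left ≫ X.hom = 𝟙 _ := Over.w eX
  have hY : eY.left ≫ Y.hom = 𝟙 _ := Over.w eY
  let eXK : Spec (CommRingCat.of K) ⟶ pullback X.hom f :=
    pullback.lift (f ≫ eX.left) (𝟙 _) (by
      rw [Category.assoc, Category.id_comp]; exact (congrArg (f ≫ ·) hX).trans (Category.comp_id f))
  let eYK : Spec (CommRingCat.of K) ⟶ pullback f Y.hom :=
    pullback.lift (𝟙 _) (f ≫ eY.left) (by
      rw [Category.assoc, Category.id_comp]; exact ((congrArg (f ≫ ·) hY).trans (Category.comp_id f)).symm)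
  have hXK : eXK ≫ pX = 𝟙 _ := pullback.lift_snd _ _ _
  have hYK : eYK ≫ pY = 𝟙 _ := pullback.lift_fst _ _ _
  have g₁ : (lift (𝟙 X) (toUnit X ≫ eY)).left.appTop (Red.gmFn u) = 1 := by
    rw [← GmPts.gmFn_comp, huX, GmPts.gmFn_one]
  have g₂ : (lift (toUnit Y ≫ eX) (𝟙 Y)).left.appTop (Red.gmFn u) = 1 := by
    rw [← GmPts.gmFn_comp, huY, GmPts.gmFn_one]
  have key : π.appTop (Red.gmFn u) = 1 := by
    refine UnitRigidLib.eq_one_of_axes (pX := pX) (pY := pY) hXK hYK
      ((GmPts.isUnit_gmFn u).map π.appTop.hom) ?_ ?_
    · rw [← ConcreteCategory.comp_apply, ← Scheme.Hom.comp_appTop]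
      have e : pullback.lift (𝟙 _) (pX ≫ eYK) (by rw [Category.id_comp, Category.assoc, hYK, Category.comp_id]) ≫ π =
          pullback.fst X.hom f ≫ (lift (𝟙 X) (toUnit X ≫ eY)).left := by
        apply pullback.hom_ext
        · rw [Category.assoc, hπ₁, pullback.lift_fst_assoc, Category.id_comp, Category.assoc]
          rw [Over.lift_left]
          erw [pullback.lift_fst]
          exact (Category.comp_id _).symm
        · rw [Category.assoc, hπ₂, pullback.lift_snd_assoc, Category.assoc, pullback.lift_snd, Category.assoc]
          rw [Over.lift_left]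
          erw [pullback.lift_snd]
          exact ((Category.assoc _ _ _).symm.trans
            (congrArg (· ≫ eY.left) pullback.condition.symm)).trans (Category.assoc _ _ _)
      rw [e, Scheme.Hom.comp_appTop, ConcreteCategory.comp_apply]
      erw [g₁]
      exact map_one _
    · rw [← ConcreteCategory.comp_apply, ← Scheme.Hom.comp_appTop]
      have e : pullback.lift (pY ≫ eXK) (𝟙 _) (by rw [Category.id_comp, Category.assoc, hXK, Category.comp_id]) ≫ π =
          pullback.snd f Y.hom ≫ (lift (toUnit Y ≫ eX) (𝟙 Y)).left := by
        apply pullback.hom_ext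
        · rw [Category.assoc, hπ₁, pullback.lift_fst_assoc, Category.assoc, pullback.lift_fst, Category.assoc]
          rw [Over.lift_left]
          erw [pullback.lift_fst]
          exact ((Category.assoc _ _ _).symm.trans
            (congrArg (· ≫ eX.left) pullback.condition)).trans (Category.assoc _ _ _)
        · rw [Category.assoc, hπ₂, pullback.lift_snd_assoc, Category.id_comp, Category.assoc]
          rw [Over.lift_left]
          erw [pullback.lift_snd]
          exact (Category.comp_id _).symm
      rw [e, Scheme.Hom.comp_appTop, ConcreteCategory.comp_apply]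
      erw [g₂]
      exact map_one _
  let g : Over.mk (π ≫ (X ⊗ Y).hom) ⟶ X ⊗ Y := Over.homMk π rfl
  have hg : g ≫ u = g ≫ 1 := GmPts.gmFn_injective (by
    show Red.gmFn (g ≫ u) = Red.gmFn (g ≫ 1)
    rw [GmPts.gmFn_comp, GmPts.gmFn_comp, GmPts.gmFn_one, map_one]
    exact key)
  refine Over.OverMorphism.ext ?_
  exact (cancel_epi π).1 (congrArg CommaMorphism.left hg)

end Groth.Agent.S8709
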