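import Groth.Statements.S7640
import Groth.Agent.DegPullLib.H0
import Groth.Agent.DegPullLib.Rank
import Groth.Agent.CurveAmpLib.Main
import Groth.Agent.SerreVanLib.Main
import Groth.Agent.SerreVanLib.CurveAmple
import Groth.Agent.ProjFormLib.Proj
import Groth.Agent.QCohLib.Push
import Groth.Agent.S0012

set_option autoImplicit false
universe u
open CategoryTheory CategoryTheory.Limits AlgebraicGeometry
open Variety

namespace Groth.Agent.S7640
theorem isFinLocFreeOfRank_pb {X Y : Scheme.{u}} (f : X ⟶ Y) {n : ℕ} {E : Y.Modules}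
    (hE : FlatMod.IsFinLocFreeOfRank n E) :
    FlatMod.IsFinLocFreeOfRank n ((Scheme.Modules.pullback f).obj E) := by
  intro x
  obtain ⟨U, hx, ⟨φ⟩⟩ := hE (f x)
  let V : X.Opens := f ⁻¹ᵁ U
  let W : V.toScheme ⟶ U.toScheme := f ∣_ U
  refine ⟨V, hx, ⟨?_ ≪≫ (Scheme.Modules.pullback W).mapIso
    (((Scheme.Modules.restrictFunctorIsoPullback U.ι).app E).symm ≪≫ φ) ≪≫ KFlatLib.pullFreeIso W n⟩⟩
  exact (Scheme.Modules.restrictFunctorIsoPullback V.ι).app _ ≪≫ (Scheme.Modules.pullbackComp V.ι f).app E ≪≫
    (Scheme.Modules.pullbackCongr (morphismRestrict_ι f U)).symm.app E ≪≫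
    ((Scheme.Modules.pullbackComp W U.ι).app E).symm

/-- Let k be a field, let X and Y be proper curves over k (integral, proper over k, of dimension one)
and let f : X → Y be a morphism over k that is not constant, i.e. sends the generic point of X to
that of Y. For a finite locally free module E of rank n on Y, the degree of f^*E is deg(X/Y) ·
deg(E), where deg(X/Y) is the degree of the function field of X over that of Y. -/
theorem result (k : Type u) [Field k] (X Y : Scheme.{u})
    [X.Over (Spec (CommRingCat.of k))] [Y.Over (Spec (CommRingCat.of k))] [IsIntegral X] [IsIntegral Y]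
    [IsProper (X ↘ (Spec (CommRingCat.of k)))] [IsProper (Y ↘ (Spec (CommRingCat.of k)))]
    (hX : topologicalKrullDim X = 1) (hY : topologicalKrullDim Y = 1)
    (f : X ⟶ Y) (hf : f ≫ (Y ↘ (Spec (CommRingCat.of k))) = X ↘ (Spec (CommRingCat.of k)))
    (hξ : f.base (genericPoint X) = genericPoint Y)
    (n : ℕ) (E : Y.Modules) (hE : FlatMod.IsFinLocFreeOfRank n E) :
    Curv2.deg k X ((Scheme.Modules.pullback f).obj E) n =
      (f.residueDegree (genericPoint X) : ℤ) * Curv2.deg k Y E n := by
  let qX := X ↘ (Spec (CommRingCat.of k))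
  let qY := Y ↘ (Spec (CommRingCat.of k))
  haveI : IsNoetherian X := CurvLib.isNoetherian k (X := X)
  haveI : IsNoetherian Y := CurvLib.isNoetherian k (X := Y)
  haveI : IsProper (f ≫ qY) := by rw [hf]; infer_instance
  haveI : IsProper f := IsProper.of_comp f qY
  haveI : X.IsSeparated := ⟨by rw [← terminal.comp_from qX]; infer_instance⟩
  let ξ := genericPoint X
  let η := genericPoint Y
  have hcl : ∀ {Z : Scheme.{u}} [Z.Over (Spec (CommRingCat.of k))] [IsIntegral Z] [IsProper (Z ↘ (Spec (CommRingCat.of k)))]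
      (hd : topologicalKrullDim Z = 1) (z : Z), z ≠ genericPoint Z → IsClosed ({z} : Set Z) := by
    intro Z _ _ _ hd z hz
    exact (SerreVanLib.proper_closed_finite k hd isClosed_closure
      (fun h => hz (IsGenericPoint.eq h (genericPoint_spec Z)))).2 z (subset_closure rfl)
  have hηnc : ¬ IsClosed ({η} : Set Y) := fun hη => by
    haveI : Subsingleton Y := ⟨fun a b => by
      have hall : ∀ c : Y, c = η := fun c =>
        Set.mem_singleton_iff.mp (((genericPoint_spec Y).specializes trivial).mem_closed hη (Set.mem_singleton η))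
      rw [hall a, hall b]⟩
    have h0 := topologicalKrullDim_zero_of_discreteTopology Y
    rw [hY] at h0
    exact absurd h0 (by simp)
  have hfib : ∀ z, f z = η → z = ξ := fun z hz => by
    by_contra hne
    have h := f.isClosedMap _ (hcl hX z hne)
    rw [Set.image_singleton, hz] at h
    exact hηnc h
  haveI : LocallyQuasiFinite f := LocallyQuasiFinite.of_finite_preimage_singleton f fun y => by
    by_cases hy : y = η
    · exact (Set.finite_singleton ξ).subset fun z hz => hfib z ((show f z = y from hz).trans hy)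
    · exact (SerreVanLib.proper_closed_finite k hX ((hcl hY y hy).preimage f.continuous)
        fun h => hy ((h.ge (Set.mem_univ ξ) : f ξ = y).symm.trans hξ)).1
  haveI : IsFinite f := IsFinite.of_isProper_of_locallyQuasiFinite f
  let E' := (Scheme.Modules.pullback f).obj E
  have hE' : FlatMod.IsFinLocFreeOfRank n E' := isFinLocFreeOfRank_pb f hE
  have hE0 : FlatMod.IsFinLocFree E := fun y => by
    obtain ⟨U, hy, h⟩ := hE y
    exact ⟨U, n, hy, h⟩
  obtain ⟨A, hA⟩ := CurveAmpLib.exists_ample (X := X) hX.le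
  obtain ⟨n₁, h₁⟩ := SerreVanLib.exists_vanishing qX hA.1 hA (Coh.structureModule X) (DevissLib.isCoh_structureModule X)
  obtain ⟨n₂, h₂⟩ := SerreVanLib.exists_vanishing qX hA.1 hA E' (CurvLib.isCoh_of_locFree hE')
  let G := CohB1.tensorPow A (n₁ + n₂)
  have hG : PicF.IsInvertible G := AmpleThLib.tensorPow_isInvertible hA.1 _
  have hGc : Coh.IsCoh G := CurvLib.isCoh_of_isInvertible hG
  haveI vG : Subsingleton (Coh.HH X G 1) := by
    refine SerreVanLib.subsingleton_HH_of_iso ?_ 1 (h₁ (n₁ + n₂) (Nat.le_add_right _ _) 1 Nat.one_pos)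
    exact (KFlatLib.tensUnitIso G).symm
  haveI vEG : Subsingleton (Coh.HH X (CohB1.tensorMod E' G) 1) := h₂ (n₁ + n₂) (Nat.le_add_left _ _) 1 Nat.one_pos
  let F := (Coh.push f).obj G
  have hFc : Coh.IsCoh F := QCohLib.isCoh_push_finite f G hGc
  haveI : Coh.IsQCoh G := hGc.1
  haveI vF : Subsingleton (Coh.HH Y F 1) :=
    (Groth.Agent.S0012.result f G 1).some.symm.injective.subsingleton
  let P : CohB1.tensorMod E F ≅ (Coh.push f).obj (CohB1.tensorMod E' G) :=
    @asIso _ _ _ _ (ProjFormLib.projApp f E G) (ProjFormLib.isIso_projApp f hE0 G)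
  haveI : Coh.IsQCoh (CohB1.tensorMod E' G) := (SerreVanLib.isCoh_tensor (CurvLib.isCoh_of_locFree hE') hG).1
  haveI vEF : Subsingleton (Coh.HH Y (CohB1.tensorMod E F) 1) := by
    haveI : Subsingleton (Coh.HH Y ((Coh.push f).obj (CohB1.tensorMod E' G)) 1) :=
      (Groth.Agent.S0012.result f (CohB1.tensorMod E' G) 1).some.symm.injective.subsingleton
    exact (CurvLib.hIso (k := k) P 1).injective.subsingleton
  have rG : CurvLib.genRank G = 1 := by
    obtain ⟨U, e, hU, he⟩ := TwistLib.exists_genOn hG (genericPoint X)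
    have h := (LinearEquiv.ofBijective (LinearMap.toSpanSingleton (X.presheaf.stalk (genericPoint X))
      (G.presheaf.stalk (genericPoint X)) (G.presheaf.germ U _ hU e)) (he.genAt hU)).finrank_eq
    rw [CurvLib.genRank, ← h, Module.finrank_self]
  have rF : CurvLib.genRank F = f.residueDegree (genericPoint X) :=
    DegPullLib.finrank_stalk_push f f.isClosedMap hG (fun z hz => hfib z (hz.trans hξ)) _ hξ rfl
  have eX : Curv2.euler k X (CohB1.tensorMod E' G) =
      (CurvLib.genRank G : ℤ) * Curv2.deg k X E' n + n * Curv2.euler k X G :=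
    (CurvLib.eulerTensorFormula_of_isCoh (k := k) hX hE' G hGc).2
  have eY : Curv2.euler k Y (CohB1.tensorMod E F) =
      (CurvLib.genRank F : ℤ) * Curv2.deg k Y E n + n * Curv2.euler k Y F :=
    (CurvLib.eulerTensorFormula_of_isCoh (k := k) hY hE F hFc).2
  have e1 : Curv2.euler k X G = Curv2.euler k Y F := by
    rw [CurvLib.euler_curve hX, CurvLib.euler_curve hY, Module.finrank_zero_of_subsingleton (R := k) (M := Coh.HH X G 1),
      Module.finrank_zero_of_subsingleton (R := k) (M := Coh.HH Y F 1), DegPullLib.finrank_H0_push k f hf G]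
  have e2 : Curv2.euler k X (CohB1.tensorMod E' G) = Curv2.euler k Y (CohB1.tensorMod E F) := by
    rw [CurvLib.euler_curve hX, CurvLib.euler_curve hY,
      Module.finrank_zero_of_subsingleton (R := k) (M := Coh.HH X (CohB1.tensorMod E' G) 1),
      Module.finrank_zero_of_subsingleton (R := k) (M := Coh.HH Y (CohB1.tensorMod E F) 1),
      DegPullLib.finrank_H0_push k f hf (CohB1.tensorMod E' G),
      (CurvLib.hIso (k := k) P 0).finrank_eq]
  rw [e1, e2, rG, eY, rF] at eX
  push_cast at eX
  show Curv2.deg k X E' n = _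
  linarith

end Groth.Agent.S7640
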