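import Groth.Statements.S2157
import Groth.Agent.SweepSix.ConormalSpec

set_option autoImplicit false
universe u
open CategoryTheory AlgebraicGeometry
open Mor CategoryTheory.Limits

open TensorProduct

namespace Groth.Agent.S2157

variable (R A : Type u) [CommRing R] [CommRing A] [Algebra R A]

/-- Multiplication `A ⊗ A → A`. -/
noncomputable def mu : CommRingCat.of (A ⊗[R] A) ⟶ CommRingCat.of A :=
  CommRingCat.ofHom (Algebra.TensorProduct.lmul' R : A ⊗[R] A →ₐ[R] A).toRingHom

theorem diag_eq : pullback.diagonal (Spec.map (CommRingCat.ofHom (algebraMap R A))) =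
    Spec.map (mu R A) ≫ (pullbackSpecIso R A A).inv := by
  refine pullback.hom_ext ?_ ?_
  · rw [pullback.diagonal_fst, Category.assoc, pullbackSpecIso_inv_fst, ← Spec.map_comp,
      ← Spec.map_id]
    congr 1
    ext a
    simp [mu]
  · rw [pullback.diagonal_snd, Category.assoc, pullbackSpecIso_inv_snd, ← Spec.map_comp,
      ← Spec.map_id]
    congr 1
    ext a
    simp [mu]

theorem mu_smul (b : A ⊗[R] A) (w : Ω[A⁄R]) : b • w = (mu R A) b • w := by
  have h : b - (mu R A) b ⊗ₜ[R] (1 : A) ∈ KaehlerDifferential.ideal R A := by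
    simp [KaehlerDifferential.ideal, RingHom.mem_ker, mu]
  obtain ⟨x, rfl⟩ := KaehlerDifferential.fromIdeal_surjective R A w
  have h2 : (b - (mu R A) b ⊗ₜ[R] (1 : A)) • KaehlerDifferential.fromIdeal R A x = 0 :=
    Ideal.Cotangent.smul_eq_zero_of_mem h _
  rw [sub_smul, sub_eq_zero] at h2
  rw [h2]
  exact IsScalarTower.algebraMap_smul (A ⊗[R] A) ((mu R A) b) (KaehlerDifferential.fromIdeal R A x)

/-- The Kähler differentials as an object of `ModuleCat`. -/
noncomputable def omegaMod : ModuleCat.{u} (CommRingCat.of A) := ModuleCat.of A (Ω[A⁄R])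

/-- The kernel of multiplication maps to the differentials. -/
noncomputable def fromKer : SweepSix.ConormalSpec.kerMod (mu R A) ⟶
    (ModuleCat.restrictScalars (mu R A).hom).obj (omegaMod R A) :=
  ModuleCat.ofHom (Y := (ModuleCat.restrictScalars (mu R A).hom).obj (omegaMod R A))
    { toFun := fun x => KaehlerDifferential.fromIdeal R A ⟨x.1, x.2⟩
      map_add' := fun x y => map_add (KaehlerDifferential.fromIdeal R A) ⟨x.1, x.2⟩ ⟨y.1, y.2⟩
      map_smul' := fun b x =>
        (map_smul (KaehlerDifferential.fromIdeal R A) b ⟨x.1, x.2⟩).trans (mu_smul R A b _) }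

theorem fromKer_surjective : Function.Surjective (fromKer R A).hom := fun w =>
  let ⟨x, hx⟩ := KaehlerDifferential.fromIdeal_surjective R A w
  ⟨⟨x.1, x.2⟩, hx⟩

theorem nonempty_extend_iso : Nonempty ((ModuleCat.extendScalars (mu R A).hom).obj
    (SweepSix.ConormalSpec.kerMod (mu R A)) ≅ omegaMod R A) := by
  let adj := ModuleCat.extendRestrictScalarsAdj (mu R A).hom
  let K := SweepSix.ConormalSpec.kerMod (mu R A)
  let f := (adj.homEquiv K (omegaMod R A)).symm (fromKer R A)
  let η := adj.unit.app K
  have hη : ∀ x, f.hom (η.hom x) = (fromKer R A).hom x := fun x =>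
    congr($((adj.homEquiv_unit K (omegaMod R A) f).symm.trans (Equiv.apply_symm_apply _ _)) x)
  let g₀ : Ω[A⁄R] →+ (ModuleCat.extendScalars (mu R A).hom).obj K :=
    QuotientAddGroup.lift _ (η.hom.toAddMonoidHom : (KaehlerDifferential.ideal R A) →+ _) (by
      intro x hx
      change x ∈ ((KaehlerDifferential.ideal R A) • ⊤ :
        Submodule (A ⊗[R] A) (KaehlerDifferential.ideal R A)) at hx
      refine Submodule.smul_induction_on hx (fun j hj y _ => ?_) (fun a b ha hb => ?_)
      · change η.hom (j • (⟨y.1, y.2⟩ : K)) = 0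
        refine (map_smul η.hom j (⟨y.1, y.2⟩ : K)).trans ?_
        change (mu R A) j • (show (ModuleCat.extendScalars (mu R A).hom).obj K from η.hom _) = 0
        rw [show (mu R A) j = 0 from RingHom.mem_ker.mp hj, zero_smul]
      · rw [AddMonoidHom.mem_ker] at ha hb ⊢
        rw [map_add, ha, hb, add_zero])
  have hg₀ : ∀ x, g₀ ((fromKer R A).hom x) = η.hom x := fun x => rfl
  let E : ModuleCat.{u} (CommRingCat.of A) := (ModuleCat.extendScalars (mu R A).hom).obj K
  let gl : omegaMod R A →ₗ[(CommRingCat.of A : CommRingCat.{u})] E :=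
    { toFun := g₀
      map_add' := map_add g₀
      map_smul' := fun a w => by
        obtain ⟨x, rfl⟩ := fromKer_surjective R A w
        let b : A ⊗[R] A := a ⊗ₜ[R] (1 : A)
        have hb : (mu R A) b = a := by simp [mu, b]
        rw [← hb]
        change g₀ (b • ((fromKer R A).hom x)) = _
        rw [← map_smul, hg₀, map_smul, hg₀]
        rfl }
  refine ⟨⟨f, (ModuleCat.ofHom (X := omegaMod R A) (Y := E) gl : omegaMod R A ⟶ E), ?_, ?_⟩⟩
  · apply (adj.homEquiv _ _).injective
    ext x
    rw [adj.homEquiv_unit, adj.homEquiv_unit]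
    change g₀ (f.hom (η.hom x)) = η.hom x
    rw [hη, hg₀]
  · ext w
    obtain ⟨x, rfl⟩ := fromKer_surjective R A w
    change f.hom (g₀ ((fromKer R A).hom x)) = _
    rw [hg₀, hη]
    rfl

end Groth.Agent.S2157

namespace Groth.Agent.S2157

/-- For a ring map `R → A`, the sheaf of differentials of `Spec A → Spec R`, defined as the conormal
sheaf of the diagonal, is isomorphic as an `O_{Spec A}`-module to the sheaf associated with the
module of Kähler differentials `Ω_{A/R}` (the source also pins the isomorphism down by compatibility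
with the universal derivations, which is not restated here). -/
theorem result (R A : Type u) [CommRing R] [CommRing A] [Algebra R A] :
    Nonempty (Omega.sheaf (Spec.map (CommRingCat.ofHom (algebraMap R A))) ≅
      tilde (R := CommRingCat.of A) (ModuleCat.of A (Ω[A⁄R]))) := by
  obtain ⟨i⟩ := SweepSix.ConormalSpec.nonempty_conormal_iso (pullbackSpecIso R A A).inv (mu R A)
  obtain ⟨j⟩ := nonempty_extend_iso R A
  refine ⟨eqToIso ?_ ≪≫ i ≪≫ (tilde.functor _).mapIso j⟩
  exact congrArg Omega.conormal (diag_eq R A)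

end Groth.Agent.S2157
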