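import Groth.Statements.S6558
import Groth.Agent.CurveFFLib.Main
import Groth.Agent.HilbPolyLib.BaseField
import Groth.Agent.KFlatLib.PerfectPull
import Groth.Agent.CurvLib.Euler

set_option autoImplicit false
universe u
open CategoryTheory CategoryTheory.Limits AlgebraicGeometry
open Curves

namespace Groth.Agent.S6558

/-- Cohomology of the structure sheaf under an endomorphism of the base field. -/
theorem finrank_HH_twist (k K : Type u) [Field k] [Field K] [Algebra k K] {X Y : Scheme.{u}} [X.Over (Spec (CommRingCat.of k))]
    [Y.Over (Spec (CommRingCat.of K))] [IsProper (X ↘ Spec (CommRingCat.of k))] (g : Y ⟶ X)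
    (H : IsPullback g (Y ↘ Spec (CommRingCat.of K)) (X ↘ Spec (CommRingCat.of k))
      (Spec.map (CommRingCat.ofHom (algebraMap k K)))) (n : ℕ) :
    Module.finrank K (Coh.HH Y (Coh.structureModule Y) n) =
      Module.finrank k (Coh.HH X (Coh.structureModule X) n) := by
  haveI := CurvLib.isNoetherian k (X := X)
  haveI : Coh.IsQCoh (Coh.structureModule X) := QCohLib.isQCoh_unit
  obtain ⟨l⟩ := RpushLib.nonempty_affBase_bc (A := k) (B := K) (g' := g) (f' := Y ↘ Spec (CommRingCat.of K))
    (f := X ↘ Spec (CommRingCat.of k)) H (Coh.structureModule X) n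
  rw [← (CurvLib.hIso (k := K) (KFlatLib.pullUnitIso g) n).finrank_eq]
  exact l.finrank_eq.symm.trans
    (Module.finrank_baseChange (R := K) (S := k) (M' := Coh.HH X (Coh.structureModule X) n))

/-- Let p be a prime number, k a field of characteristic p, and f : X → Y a nonconstant morphism over k
of proper nonsingular curves over k (proper, integral, of dimension one, all local rings regular),
nonconstant meaning f(ξ_X) = ξ_Y for the generic points (hypothesis e), so that k(Y) maps into k(X).
Assume X is smooth over k with H^0(X, O_X) = k and k(X)/k(Y) purely inseparable. Then Y is smooth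
over k, its global functions are the constants k, and Y and X have the same genus. -/
theorem result (k : Type u) [Field k] (p : ℕ) [Fact p.Prime] [CharP k p]
    (X Y : Scheme.{u}) [X.Over (Spec (CommRingCat.of k))] [Y.Over (Spec (CommRingCat.of k))]
    [IsIntegral X] [IsProper (X ↘ (Spec (CommRingCat.of k)))] (hdX : topologicalKrullDim X = 1) (hregX : ∀ x : X, IsRegularLocalRing (X.presheaf.stalk x))
    [IsIntegral Y] [IsProper (Y ↘ (Spec (CommRingCat.of k)))] (hdY : topologicalKrullDim Y = 1) (hregY : ∀ y : Y, IsRegularLocalRing (Y.presheaf.stalk y))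
    (f : X ⟶ Y) (hf : f ≫ (Y ↘ (Spec (CommRingCat.of k))) = X ↘ (Spec (CommRingCat.of k))) (e : f (genericPoint X) = genericPoint Y)
    [Smooth (X ↘ (Spec (CommRingCat.of k)))] (h0 : Module.finrank k (Coh.HH X (Coh.structureModule X) 0) = 1)
    (hpi : letI := ((Y.presheaf.stalkSpecializes (specializes_of_eq e) ≫ f.stalkMap (genericPoint X)).hom).toAlgebra
      IsPurelyInseparable Y.functionField X.functionField) :
    Smooth (Y ↘ (Spec (CommRingCat.of k))) ∧ Module.finrank k (Coh.HH Y (Coh.structureModule Y) 0) = 1 ∧
      Curv2.genus k Y = Curv2.genus k X := by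
  haveI : ExpChar k p := ExpChar.prime Fact.out
  have hnY : Pi1.IsNormalScheme Y := fun z => by
    haveI := hregY z
    exact ⟨inferInstance, NormalLib.isIntegrallyClosed_of_isRegularLocalRing _⟩
  obtain ⟨r, i, hi⟩ := CurveFFLib.exists_iso_twist p hdX hdY.le hnY f hf e hpi
  haveI : Smooth (CurveFFLib.twistHom k p X r) := MorphismProperty.pullback_snd _ _ ‹_›
  have key : ∀ n, Module.finrank k (Coh.HH Y (Coh.structureModule Y) n) =
      Module.finrank k (Coh.HH X (Coh.structureModule X) n) := fun n =>
    @finrank_HH_twist k k _ _ (iterateFrobenius k p r).toAlgebra X Y _ _ _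
      (i.hom ≫ pullback.fst (X ↘ Spec (CommRingCat.of k)) (Spec.map (CommRingCat.ofHom (iterateFrobenius k p r))))
      (IsPullback.of_iso (IsPullback.of_hasPullback _ _) i.symm (Iso.refl _) (Iso.refl _) (Iso.refl _)
        (by simp) (by simp [← hi]) (by simp) (by simp)) n
  exact ⟨by rw [← hi]; infer_instance, (key 0).trans h0, key 1⟩

end Groth.Agent.S6558
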