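import Groth.Statements.S0578
import Groth.Agent.GonfLib.Residue
import Mathlib.NumberTheory.Padics.RingHoms

set_option autoImplicit false
universe u
open CAlg

namespace Groth.Agent.S0578

/-- For every prime `p` and every field `k` of characteristic `p` there is a Cohen ring (a complete
discrete valuation ring with uniformizer `p`) whose residue field is isomorphic to `k`. -/
theorem result (p : ℕ) [Fact p.Prime] (k : Type u) [Field k] [CharP k p] :
    ∃ (Λ : Type u) (_ : CommRing Λ) (_ : IsLocalRing Λ), CAlg.IsCohenRing Λ ∧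
      Nonempty (IsLocalRing.ResidueField Λ ≃+* k) := by
  obtain ⟨A, _, _, _, π, hπ, hπ0, hp, φ, hφ⟩ : ∃ (A : Type u) (_ : CommRing A) (_ : IsLocalRing A)
      (_ : IsNoetherianRing A) (π : A), IsLocalRing.maximalIdeal A = Ideal.span {π} ∧
      π ∈ nonZeroDivisors A ∧ π = (p : A) ∧ ∃ φ : A →+* k, RingHom.ker φ = IsLocalRing.maximalIdeal A := by
    let e : ULift.{u} ℤ_[p] ≃+* ℤ_[p] := ULift.ringEquiv
    have : IsLocalRing (ULift.{u} ℤ_[p]) := e.symm.isLocalRing
    have : IsNoetherianRing (ULift.{u} ℤ_[p]) := isNoetherianRing_of_ringEquiv ℤ_[p] e.symm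
    have : IsDomain (ULift.{u} ℤ_[p]) := e.toMulEquiv.isDomain
    have hm : IsLocalRing.maximalIdeal (ULift.{u} ℤ_[p]) =
        Ideal.span {(p : ULift.{u} ℤ_[p])} := by
      ext x
      rw [IsLocalRing.mem_maximalIdeal, mem_nonunits_iff, ← isUnit_map_iff e, ← mem_nonunits_iff,
        ← IsLocalRing.mem_maximalIdeal, PadicInt.maximalIdeal_eq_span_p,
        Ideal.mem_span_singleton, Ideal.mem_span_singleton, ← map_dvd_iff e, map_natCast]
    refine ⟨ULift.{u} ℤ_[p], inferInstance, inferInstance, inferInstance, p, hm,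
      mem_nonZeroDivisors_of_ne_zero (fun h => ?_), rfl,
      ((ZMod.castHom dvd_rfl k).comp (PadicInt.toZMod (p := p))).comp e.toRingHom, ?_⟩
    · have := congrArg e h
      rw [map_natCast, map_zero] at this
      exact (Fact.out : p.Prime).ne_zero (Nat.cast_eq_zero.1 this)
    · ext x
      rw [RingHom.mem_ker, RingHom.comp_apply, RingHom.comp_apply,
        map_eq_zero_iff _ (RingHom.injective _), ← RingHom.mem_ker, PadicInt.ker_toZMod,
        IsLocalRing.mem_maximalIdeal, IsLocalRing.mem_maximalIdeal, mem_nonunits_iff,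
        mem_nonunits_iff]
      exact not_congr (isUnit_map_iff e x)
  let _ : Algebra A k := φ.toAlgebra
  obtain ⟨Λ, _, _, _, _, hc, hmax, ⟨e⟩⟩ := GonfLib.exists_complete_dvr π hπ hπ0 k hφ
  refine ⟨Λ, inferInstance, inferInstance, ⟨inferInstance, inferInstance, hc, p, Fact.out, ?_⟩, ⟨e⟩⟩
  rw [hmax, hp, map_natCast]

end Groth.Agent.S0578
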