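import Groth.Statements.S0579
import Mathlib.RingTheory.Smooth.Field
import Mathlib.RingTheory.Smooth.AdicCompletion
import Mathlib.RingTheory.LocalRing.ResidueField.Basic

set_option autoImplicit false
universe u
open CAlg

namespace Groth.Agent.S0579

/-- A local ring which is complete with respect to its maximal ideal and whose residue field has
characteristic zero admits a coefficient field: there is a ring homomorphism from the residue field
to the ring which is a section of the residue map. -/
theorem result (R : Type u) [CommRing R] [IsLocalRing R]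
    [IsAdicComplete (IsLocalRing.maximalIdeal R) R] [CharZero (IsLocalRing.ResidueField R)] :
    ∃ s : IsLocalRing.ResidueField R →+* R, (IsLocalRing.residue R).comp s = RingHom.id _ := by
  set L := IsLocalRing.ResidueField R
  have hunit : ∀ y : nonZeroDivisors ℤ, IsUnit (Int.castRingHom R (y : ℤ)) := by
    intro y
    by_contra h
    have h0 : IsLocalRing.residue R ((y : ℤ) : R) = 0 :=
      (IsLocalRing.residue_eq_zero_iff _).mpr h
    rw [map_intCast, Int.cast_eq_zero] at h0
    exact nonZeroDivisors.coe_ne_zero y h0
  letI : Algebra ℚ R := (IsLocalization.lift (M := nonZeroDivisors ℤ) hunit).toAlgebra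
  have : Algebra.FormallySmooth ℚ L := by
    obtain ⟨s, hs⟩ := exists_isTranscendenceBasis ℚ L
    have : Algebra.IsAlgebraic (IntermediateField.adjoin ℚ (Set.range ((↑) : s → L))) L :=
      hs.isAlgebraic_field
    have : Algebra.IsSeparable (IntermediateField.adjoin ℚ (Set.range ((↑) : s → L))) L :=
      Algebra.IsAlgebraic.isSeparable_of_perfectField
    exact Algebra.FormallySmooth.of_algebraicIndependent_of_isSeparable hs.1
  let g : L →+* R ⧸ IsLocalRing.maximalIdeal R := RingHom.id _
  let g' : L →ₐ[ℚ] R ⧸ IsLocalRing.maximalIdeal R :=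
    { g with commutes' := fun q => (RingHom.congr_fun (RingHom.ext_rat (g.comp (algebraMap ℚ L)) (algebraMap ℚ (R ⧸ IsLocalRing.maximalIdeal R))) q :) }
  obtain ⟨φ, hφ⟩ := Algebra.FormallySmooth.exists_mkₐ_comp_eq_of_isAdicComplete g'
  exact ⟨φ.toRingHom, RingHom.ext fun x => AlgHom.congr_fun hφ x⟩

end Groth.Agent.S0579
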