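import Groth.Statements.S10837
import Mathlib
-- import your own Groth.Agent.* helpers here

set_option autoImplicit false
universe u
open CategoryTheory AlgebraicGeometry Topology
open Mor

namespace Groth.Agent.S10837

open CategoryTheory CategoryTheory.Limits AlgebraicGeometry

/-- For a morphism of schemes f : X → Y which is open as a map of topological spaces, generalizations
lift along f: every generalization of f(x) is the image of a generalization of x. -/
theorem result {X Y : Scheme.{u}} (f : X ⟶ Y) (hf : IsOpenMap f.base) :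
    GeneralizingMap f.base := by
  intro x y hy
  obtain ⟨V, hV, hxV, -⟩ := exists_isAffineOpen_mem_and_subset (U := ⊤) (x := f x) trivial
  obtain ⟨U, hU, hxU, hUV⟩ := exists_isAffineOpen_mem_and_subset (U := f ⁻¹ᵁ V) (x := x) hxV
  let φ : Γ(Y, V) →+* Γ(X, U) := (f.appLE V U hUV).hom
  have hfs : ∀ r, hV.fromSpec (Spec.map (f.appLE V U hUV) r) = f (hU.fromSpec r) := fun r => by
    rw [← Scheme.Hom.comp_apply, IsAffineOpen.SpecMap_appLE_fromSpec f hV hU hUV,
      Scheme.Hom.comp_apply]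
  let q := hU.primeIdealOf ⟨x, hxU⟩
  have hqx : hU.fromSpec q = x := hU.fromSpec_primeIdealOf _
  have hyV : y ∈ V := hy.mem_open V.2 hxV
  let p := hV.primeIdealOf ⟨y, hyV⟩
  have hpy : hV.fromSpec p = y := hV.fromSpec_primeIdealOf _
  let T : Submonoid Γ(X, U) := (p.asIdeal.primeCompl.map φ.toMonoidHom) ⊔ q.asIdeal.primeCompl
  have hdisj : Disjoint ((p.asIdeal.map φ : Ideal Γ(X, U)) : Set Γ(X, U)) T := by
    rw [Set.disjoint_left]
    intro t ht htT
    obtain ⟨_, ⟨a, ha, rfl⟩, g, hg, rfl⟩ := Submonoid.mem_sup.1 htT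
    have ho : IsOpen (f '' (hU.fromSpec '' (PrimeSpectrum.basicOpen g : Set (PrimeSpectrum Γ(X, U))))) :=
      hf _ (hU.fromSpec.isOpenEmbedding.isOpenMap _ (PrimeSpectrum.basicOpen g).2)
    obtain ⟨_, ⟨r, hr, rfl⟩, hry⟩ := hy.mem_open ho ⟨x, ⟨q, hg, hqx⟩, rfl⟩
    have hrp : r.asIdeal.comap φ = p.asIdeal := by
      have h : Spec.map (f.appLE V U hUV) r = p :=
        hV.fromSpec.isOpenEmbedding.injective (by rw [hfs, hpy]; exact hry)
      exact congrArg PrimeSpectrum.asIdeal h
    have h1 : φ a * g ∈ r.asIdeal := Ideal.map_le_iff_le_comap.2 hrp.ge ht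
    rcases r.2.mem_or_mem h1 with h | h
    · exact ha (hrp.le h)
    · exact hr h
  obtain ⟨r, hr, hle, hrT⟩ := Ideal.exists_le_prime_disjoint _ _ hdisj
  refine ⟨hU.fromSpec ⟨r, hr⟩, ?_, ?_⟩
  · rw [← hqx]
    refine Specializes.map ((PrimeSpectrum.le_iff_specializes (⟨r, hr⟩ : PrimeSpectrum _) q).1
      fun g hgr => ?_) hU.fromSpec.continuous
    by_contra hgq
    exact Set.disjoint_left.1 hrT hgr (Submonoid.mem_sup_right hgq)
  · show f (hU.fromSpec ⟨r, hr⟩) = y
    rw [← hfs, ← hpy]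
    congr 1
    refine PrimeSpectrum.ext (le_antisymm (fun a ha => ?_) (Ideal.map_le_iff_le_comap.1 hle))
    by_contra hap
    exact Set.disjoint_left.1 hrT ha (Submonoid.mem_sup_left ⟨a, hap, rfl⟩)

end Groth.Agent.S10837
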