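import Groth.Statements.S0415
-- import your own Groth.Agent.* helpers here

set_option autoImplicit false
universe u
open FlatMor

namespace Groth.Agent.S0415

open AlgebraicGeometry CategoryTheory Limits in
/-- A morphism of schemes is a universal homeomorphism if and only if it is integral, universally
injective and surjective. -/
theorem result {X Y : Scheme.{u}} (f : X ⟶ Y) :
    FlatMor.IsUnivHomeo f ↔ IsIntegralHom f ∧ UniversallyInjective f ∧ Surjective f := by
  constructor
  · intro hu
    have h1 : ∀ {A B : Scheme.{u}} (g : A ⟶ B),
        topologically (fun f => IsHomeomorph f) g → IsHomeomorph g.base := fun _ h => h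
    have hc : UniversallyClosed f := ⟨fun A B i j g hsq => (h1 g (hu i j g hsq)).isClosedMap⟩
    have hi : UniversallyInjective f := ⟨fun A B i j g hsq => (h1 g (hu i j g hsq)).injective⟩
    have hh : IsHomeomorph f.base := MorphismProperty.universally_le _ _ hu
    have : IsAffineHom f := isAffineHom_of_isInducing f hh.isEmbedding.1
      (hh.isClosedMap.isClosed_range)
    exact ⟨IsIntegralHom.iff_universallyClosed_and_isAffineHom.mpr ⟨hc, inferInstance⟩, hi,
      ⟨hh.surjective⟩⟩
  · rintro ⟨_, _, _⟩ X' Y' i j f' hsq
    have : IsIntegralHom f' := MorphismProperty.of_isPullback hsq.flip ‹_›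
    have : UniversallyInjective f' := MorphismProperty.of_isPullback hsq.flip ‹_›
    have : Surjective f' := MorphismProperty.of_isPullback hsq.flip ‹_›
    exact isHomeomorph_iff_continuous_isClosedMap_bijective.mpr
      ⟨f'.continuous, f'.isClosedMap, f'.injective, f'.surjective⟩

end Groth.Agent.S0415
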