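import Groth.Statements.S0416
import Groth.Agent.S0415
import Mathlib
-- import your own Groth.Agent.* helpers here

set_option autoImplicit false
universe u
open FlatMor

namespace Groth.Agent.S0416

open AlgebraicGeometry CategoryTheory

theorem uinj_of_comp {X Y Z : Scheme.{u}} (g : X ⟶ Y) (h : Y ⟶ Z) [UniversallyInjective (g ≫ h)] :
    UniversallyInjective g := by
  refine (UniversallyInjective.iff_diagonal g).2 ⟨fun z => ?_⟩
  have : Surjective (Limits.pullback.diagonal (g ≫ h)) :=
    (UniversallyInjective.iff_diagonal _).1 inferInstance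
  let m : Limits.pullback g g ⟶ Limits.pullback (g ≫ h) (g ≫ h) :=
    Limits.pullback.lift (Limits.pullback.fst g g) (Limits.pullback.snd g g)
      (by rw [Limits.pullback.condition_assoc])
  have m1 : m ≫ Limits.pullback.fst _ _ = Limits.pullback.fst g g := Limits.pullback.lift_fst _ _ _
  have m2 : m ≫ Limits.pullback.snd _ _ = Limits.pullback.snd g g := Limits.pullback.lift_snd _ _ _
  have he : Limits.pullback.diagonal g ≫ m = Limits.pullback.diagonal (g ≫ h) := by
    apply Limits.pullback.hom_ext
    · rw [Category.assoc, m1, Limits.pullback.diagonal_fst, Limits.pullback.diagonal_fst]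
    · rw [Category.assoc, m2, Limits.pullback.diagonal_snd, Limits.pullback.diagonal_snd]
  have : Mono m := by
    constructor
    intro T a b hab
    ext
    · rw [← m1, ← Category.assoc, ← Category.assoc, hab]
    · rw [← m2, ← Category.assoc, ← Category.assoc, hab]
  obtain ⟨x, hx⟩ := (Limits.pullback.diagonal (g ≫ h)).surjective (m z)
  exact ⟨x, m.injective (by rw [← hx, ← he]; rfl)⟩

open AlgebraicGeometry CategoryTheory Limits in
/-- When a composite of two morphisms is a universal homeomorphism and so is either factor, the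
remaining factor is a universal homeomorphism as well. -/
theorem result {X Y Z : Scheme.{u}} (g : X ⟶ Y) (h : Y ⟶ Z) :
    (FlatMor.IsUnivHomeo (g ≫ h) → FlatMor.IsUnivHomeo g → FlatMor.IsUnivHomeo h) ∧
    (FlatMor.IsUnivHomeo (g ≫ h) → FlatMor.IsUnivHomeo h → FlatMor.IsUnivHomeo g) := by
  constructor
  · intro hgh hg Y' Z' i j h' sq
    have top := IsPullback.of_hasPullback g i
    have h1 : IsHomeomorph (Limits.pullback.snd g i ≫ h').base := hgh _ _ _ (top.paste_vert sq.flip).flip
    have h2 : IsHomeomorph (Limits.pullback.snd g i).base := hg _ _ _ top.flip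
    refine ⟨h'.continuous, fun U hU => ?_, fun a b hab => ?_, fun z => ?_⟩
    · have := h1.isOpenMap _ (hU.preimage (Limits.pullback.snd g i).continuous)
      convert this using 1
      ext z
      constructor
      · rintro ⟨y, hy, rfl⟩
        obtain ⟨x, rfl⟩ := h2.surjective y
        exact ⟨x, hy, rfl⟩
      · rintro ⟨x, hx, rfl⟩
        exact ⟨_, hx, rfl⟩
    · obtain ⟨x, rfl⟩ := h2.surjective a
      obtain ⟨y, rfl⟩ := h2.surjective b
      exact congrArg _ (h1.injective hab)
    · obtain ⟨x, hx⟩ := h1.surjective z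
      exact ⟨_, hx⟩
  · intro hgh hh
    obtain ⟨i1, u1, s1⟩ := (Groth.Agent.S0415.result _).1 hgh
    obtain ⟨i2, u2, s2⟩ := (Groth.Agent.S0415.result _).1 hh
    refine (Groth.Agent.S0415.result g).2 ⟨IsIntegralHom.of_comp g h, uinj_of_comp g h, ⟨fun y => ?_⟩⟩
    obtain ⟨x, hx⟩ := (g ≫ h).surjective (h y)
    exact ⟨x, h.injective (by simpa using hx)⟩

end Groth.Agent.S0416
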