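import Mathlib.FieldTheory.IsAlgClosed.Basic
import Mathlib.RingTheory.Ideal.GoingUp

/-! Extending maps to an algebraically closed field along integral extensions. -/

namespace WeakNormLib

universe u

theorem exists_lift {E B Ω : Type u} [CommRing E] [CommRing B] [Field Ω] [IsAlgClosed Ω] (φ : E →+* Ω)
    (i : E →+* B) (hi : Function.Injective i) (hint : i.IsIntegral) :
    ∃ ψ : B →+* Ω, ∀ e, ψ (i e) = φ e := by
  algebraize [i]
  haveI : Algebra.IsIntegral E B := ⟨hint⟩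
  haveI : (RingHom.ker φ).IsPrime := RingHom.ker_isPrime φ
  obtain ⟨Q, -, hQ, hQq⟩ := Ideal.exists_ideal_over_prime_of_isIntegral (RingHom.ker φ) (⊥ : Ideal B)
    (fun x hx => by
      have : x = 0 := hi ((Ideal.mem_bot.mp (Ideal.mem_comap.mp hx) : i x = 0).trans (map_zero i).symm)
      simp [this])
  let f : E →+* B ⧸ Q := (Ideal.Quotient.mk Q).comp i
  letI : Algebra (E ⧸ RingHom.ker φ) Ω := (RingHom.kerLift φ).toAlgebra
  have hker : ∀ x ∈ RingHom.ker φ, f x = 0 := fun x hx => by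
    rw [← hQq] at hx
    exact Ideal.Quotient.eq_zero_iff_mem.mpr hx
  letI : Algebra (E ⧸ RingHom.ker φ) (B ⧸ Q) := (Ideal.Quotient.lift _ f hker).toAlgebra
  have hinj : Function.Injective (algebraMap (E ⧸ RingHom.ker φ) (B ⧸ Q)) := by
    refine (injective_iff_map_eq_zero _).mpr fun x hx => ?_
    obtain ⟨e, rfl⟩ := Ideal.Quotient.mk_surjective x
    rw [Ideal.Quotient.eq_zero_iff_mem, ← hQq]
    have hx' : Ideal.Quotient.mk Q (i e) = 0 := hx
    exact (Ideal.Quotient.eq_zero_iff_mem (I := Q)).mp hx'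
  haveI : Algebra.IsIntegral (E ⧸ RingHom.ker φ) (B ⧸ Q) := ⟨fun y => by
    obtain ⟨b, rfl⟩ := Ideal.Quotient.mk_surjective y
    obtain ⟨p, hp, hpb⟩ := hint b
    refine ⟨p.map (Ideal.Quotient.mk _), hp.map _, ?_⟩
    rw [Polynomial.eval₂_map,
      show (algebraMap (E ⧸ RingHom.ker φ) (B ⧸ Q)).comp (Ideal.Quotient.mk _) = (Ideal.Quotient.mk Q).comp i from rfl,
      ← Polynomial.hom_eval₂, hpb, map_zero]⟩
  haveI : Module.IsTorsionFree (E ⧸ RingHom.ker φ) (B ⧸ Q) :=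
    Module.isTorsionFree_iff_algebraMap_injective.mpr hinj
  haveI : Module.IsTorsionFree (E ⧸ RingHom.ker φ) Ω :=
    Module.isTorsionFree_iff_algebraMap_injective.mpr (RingHom.kerLift_injective φ)
  haveI : Algebra.IsAlgebraic (E ⧸ RingHom.ker φ) (B ⧸ Q) := Algebra.IsIntegral.isAlgebraic
  let g : (B ⧸ Q) →ₐ[E ⧸ RingHom.ker φ] Ω := IsAlgClosed.lift
  refine ⟨g.toRingHom.comp (Ideal.Quotient.mk Q), fun e => ?_⟩
  exact g.commutes (Ideal.Quotient.mk _ e)

end WeakNormLib
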