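import Groth.Statements.S5165
import Groth.Agent.CommAlgDim.LocPD

set_option autoImplicit false
universe u
open CategoryTheory
open LocCoh

namespace Groth.Agent.S5165

/-- Suppose A is a regular Noetherian ring and consider a finitely generated A-module M. Then some
natural number d bounds the projective dimension of M (equivalently, p ↦ proj.dim M_p stays bounded
as p ranges over Spec A, and this holds even if the Krull dimension of A is infinite). -/
theorem result (A : Type u) [CommRing A] [IsRegularRing A] (M : Type u) [AddCommGroup M] [Module A M] [Module.Finite A M] : ∃ d : ℕ, HasProjectiveDimensionLE (ModuleCat.of A M) d := by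
  have hmono : Monotone fun n : ℕ => {p : PrimeSpectrum A | CommAlgDim.PDLTAt A M p (n + 1)} :=
    fun a b hab p hp => hp.mono (Nat.add_le_add_right hab 1)
  obtain ⟨d, hd⟩ := (isCompact_univ (X := PrimeSpectrum A)).elim_directed_cover _
    (fun n => CommAlgDim.isOpen_setOf_pdltAt n M) (fun p _ => by
      haveI := IsRegularRing.isRegularLocalRing_localization p.asIdeal
      exact Set.mem_iUnion.2 ⟨_, CommAlgDim.pdlt_of_isRegularLocalRing (Localization.AtPrime p.asIdeal) _⟩)
    hmono.directed_le
  refine ⟨d, (ModuleCat.hasProjectiveDimensionLE_iff_forall_maximalSpectrum d _).2 fun m => ?_⟩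
  let S := m.asIdeal.primeCompl
  haveI : IsLocalizedModule S ((ModuleCat.of A M).localizedModuleMkLinearMap S) :=
    ModuleCat.localizedModule_isLocalizedModule (ModuleCat.of A M) S
  exact CommAlgDim.PDLT.of_equiv (LinearEquiv.extendScalarsOfIsLocalization S (Localization S)
    (IsLocalizedModule.linearEquiv S (LocalizedModule.mkLinearMap S M)
      ((ModuleCat.of A M).localizedModuleMkLinearMap S))) (hd (Set.mem_univ m.toPrimeSpectrum))

end Groth.Agent.S5165
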