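import Groth.Statements.S9412
import Mathlib.RingTheory.Localization.BaseChange
import Mathlib.RingTheory.Localization.LocalizationLocalization
-- import your own Groth.Agent.* helpers here

set_option autoImplicit false
universe u
open EGA4

namespace Groth.Agent.S9412

/-- A localization of a geometrically normal algebra over a field k is geometrically normal over k. -/
theorem result (k : Type u) [Field k] (A : Type u) [CommRing A]
    [Algebra k A] (M : Submonoid A) (B : Type u) [CommRing B] [Algebra A B] [IsLocalization M B]
    [Algebra k B] [IsScalarTower k A B] (h : EGA4.IsGeomNormal k A) :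
    EGA4.IsGeomNormal k B := by
  intro k' _ _ hk q _
  letI : Algebra (TensorProduct k k' A) (TensorProduct k k' B) :=
    (Algebra.TensorProduct.map (AlgHom.id k k') (IsScalarTower.toAlgHom k A B)).toRingHom.toAlgebra
  haveI : IsScalarTower k' (TensorProduct k k' A) (TensorProduct k k' B) :=
    .of_algebraMap_eq fun c ↦ by simp [RingHom.algebraMap_toAlgebra]
  haveI := IsLocalization.tensorProduct_tensorProduct_right k k' M B
    (by ext a; simp [RingHom.algebraMap_toAlgebra])
  let M' := M.map (Algebra.TensorProduct.includeRight (R := k) (A := k') (B := A))
  haveI := IsLocalization.isLocalization_isLocalization_atPrime_isLocalization M'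
    (Localization.AtPrime q) q
  let e := (IsLocalization.algEquiv (q.comap (algebraMap (TensorProduct k k' A) (TensorProduct k k' B))).primeCompl
    (Localization.AtPrime (q.comap (algebraMap (TensorProduct k k' A) (TensorProduct k k' B))))
    (Localization.AtPrime q)).toRingEquiv
  obtain ⟨h1, h2⟩ := h k' hk (q.comap (algebraMap (TensorProduct k k' A) (TensorProduct k k' B)))
  exact ⟨e.symm.toMulEquiv.isDomain _, IsIntegrallyClosed.of_equiv e⟩

end Groth.Agent.S9412
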