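import Groth.Statements.S2352
import Groth.Agent.GrTildeLib.MulTwist
-- import your own Groth.Agent.* helpers here

set_option autoImplicit false
universe u
open CategoryTheory CategoryTheory.Limits AlgebraicGeometry
open EGA2

namespace Groth.Agent.S2352

/-- Let A be a graded ring whose irrelevant ideal is generated by the elements of degree one. Then on
Proj A every twisting sheaf O(n), n ∈ ℤ, is invertible; O(m) ⊗ O(n) ≅ O(m + n) for all integers m
and n; and O(n) ≅ O(1)^{⊗ n} for every natural number n. -/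
theorem result {R A : Type u} [CommRing R] [CommRing A] [Algebra R A] (𝒜 : ℕ → Submodule R A) [GradedAlgebra 𝒜] (hgen : (HomogeneousIdeal.irrelevant 𝒜).toIdeal = Ideal.span (𝒜 1 : Set A)) :
    (∀ n : ℤ, PicF.IsInvertible (Twist.twist 𝒜 n)) ∧
      (∀ m n : ℤ, Nonempty (CohB1.tensorMod (Twist.twist 𝒜 m) (Twist.twist 𝒜 n) ≅ Twist.twist 𝒜 (m + n))) ∧
      ∀ n : ℕ, Nonempty (Twist.twist 𝒜 (n : ℤ) ≅ CohB1.tensorPow (Twist.twist 𝒜 1) n) := by
  have hcov := GrTildeLib.cover_of_gen 𝒜 hgen.le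
  have hinv : ∀ n : ℤ, PicF.IsInvertible (Twist.twist 𝒜 n) := TwistLib.twist_isInvertible 𝒜
    (eq_top_iff.mpr fun x _ => by
      obtain ⟨g, hg, hgx⟩ := hcov x
      exact TopologicalSpace.Opens.mem_iSup.mpr ⟨⟨g, hg⟩, hgx⟩)
  refine ⟨hinv, GrTildeLib.twist_tensor_twist hcov, fun n => ?_⟩
  induction n with
  | zero =>
    let u : TwistLib.Unit' 𝒜 ((0 : ℕ) : ℤ) (⊤ : (Proj 𝒜).Opens) := ⟨0, 0, 1, 1, SetLike.GradedOne.one_mem,
      SetLike.GradedOne.one_mem, by simp, fun x h => x.1.isPrime.ne_top ((Ideal.eq_top_iff_one _).mpr h),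
      fun x h => x.1.isPrime.ne_top ((Ideal.eq_top_iff_one _).mpr h)⟩
    have := AmpleLib.isIso_unitHom u.sec u.genOn
    exact ⟨(asIso (QCohLib.unitHom _ u.sec)).symm⟩
  | succ n ih =>
    obtain ⟨e⟩ := GrTildeLib.twist_tensor_twist (𝒜 := 𝒜) hcov (n : ℤ) 1
    obtain ⟨i⟩ := ih
    exact ⟨eqToIso (congrArg (Twist.twist 𝒜) (by push_cast; ring)) ≪≫ e.symm ≪≫
      PicGrp.tensorModIso i (Iso.refl _)⟩

end Groth.Agent.S2352
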