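import Groth.Statements.S12453
import Groth.Agent.S2352

set_option autoImplicit false
universe u
open CategoryTheory CategoryTheory.Limits AlgebraicGeometry
open Constr

namespace Groth.Agent.S12453

/-- Let S be a graded ring such that X = Proj S is covered by the standard opens D_+(f) with f
homogeneous of degree one (for instance S generated by S_1 over S_0). Then every O_X(n) is
invertible, O_X(m) ⊗ O_X(n) ≅ O_X(m+n), and O_X(n) ≅ O_X(1)^{⊗n} for n ≥ 0. (Existence of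
isomorphisms only; the published isomorphisms are the multiplication maps.) -/
theorem result {R A : Type u} [CommRing R] [CommRing A] [Algebra R A] (𝒜 : ℕ → Submodule R A) [GradedAlgebra 𝒜]
    (hcov : (⨆ f : 𝒜 1, Proj.basicOpen 𝒜 (f : A)) = ⊤) :
    (∀ n : ℤ, PicF.IsInvertible (Twist.twist 𝒜 n)) ∧
      (∀ m n : ℤ, Nonempty (CohB1.tensorMod (Twist.twist 𝒜 m) (Twist.twist 𝒜 n) ≅ Twist.twist 𝒜 (m + n))) ∧
      ∀ n : ℕ, Nonempty (Twist.twist 𝒜 (n : ℤ) ≅ CohB1.tensorPow (Twist.twist 𝒜 1) n) := by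
  have hc : ∀ x : Proj 𝒜, ∃ g ∈ 𝒜 1, g ∉ x.asHomogeneousIdeal := fun x => by
    obtain ⟨g, hg⟩ := TopologicalSpace.Opens.mem_iSup.mp
      (show x ∈ ⨆ f : 𝒜 1, Proj.basicOpen 𝒜 (f : A) from hcov ▸ trivial)
    exact ⟨g, g.2, hg⟩
  refine ⟨TwistLib.twist_isInvertible 𝒜 hcov, GrTildeLib.twist_tensor_twist hc, fun n => ?_⟩
  induction n with
  | zero =>
    let u : TwistLib.Unit' 𝒜 ((0 : ℕ) : ℤ) (⊤ : (Proj 𝒜).Opens) := ⟨0, 0, 1, 1, SetLike.GradedOne.one_mem,
      SetLike.GradedOne.one_mem, by simp, fun x h => x.1.isPrime.ne_top ((Ideal.eq_top_iff_one _).mpr h),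
      fun x h => x.1.isPrime.ne_top ((Ideal.eq_top_iff_one _).mpr h)⟩
    have := AmpleLib.isIso_unitHom u.sec u.genOn
    exact ⟨(asIso (QCohLib.unitHom _ u.sec)).symm⟩
  | succ n ih =>
    obtain ⟨e⟩ := GrTildeLib.twist_tensor_twist (𝒜 := 𝒜) hc (n : ℤ) 1
    obtain ⟨i⟩ := ih
    exact ⟨eqToIso (congrArg (Twist.twist 𝒜) (by push_cast; ring)) ≪≫ e.symm ≪≫
      PicGrp.tensorModIso i (Iso.refl _)⟩

end Groth.Agent.S12453
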