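import Groth.Statements.S4357
import Groth.Agent.DevissLib.Induction
import Groth.Agent.KFlatLib.StalkPull
import Mathlib.RingTheory.LocalRing.Module
import Mathlib.RingTheory.Flat.FaithfullyFlat.Basic
-- import your own Groth.Agent.* helpers here

set_option autoImplicit false
universe u
open QCohSup

namespace Groth.Agent.S4357

open AlgebraicGeometry in
open CategoryTheory in
/-- Consider a scheme morphism f : Y -> X together with an O_X-module F that is quasi-coherent and of
finite type. The support of the pullback of F along f (those points of Y at which its stalk does not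
vanish) coincides with the inverse image under f of the support of F. (When applied to the closed
immersions cut out by the powers of an ideal sheaf on a locally Noetherian scheme, this describes
the support of each level of a completed coherent module.) -/
theorem result
    {X Y : Scheme.{u}} (f : Y ⟶ X) (F : X.Modules) [Coh.IsQCoh F] (hF : CohB1.IsFT F) :
    CohB1.support ((Scheme.Modules.pullback f).obj F) = f.base ⁻¹' CohB1.support F := by
  classical
  ext y
  refine not_iff_not.mp ?_
  rw [DevissLib.notMem_support_iff, Set.mem_preimage]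
  refine Iff.trans ((KFlatLib.stalkPullIso f y).app F).isZero_iff ?_
  rw [ModuleCat.isZero_iff_subsingleton]
  refine Iff.trans ?_ ((ModuleCat.isZero_iff_subsingleton).symm.trans (DevissLib.notMem_support_iff F (f.base y)).symm)
  obtain ⟨U, hU, hx⟩ := QCohLib.exists_affine_nhd (f.base y)
  obtain ⟨I, _, s, hs⟩ := QCohLib.exists_genOn_affine hF hU
  have hfin : Module.Finite (X.presheaf.stalk (f y)) ((DevissLib.St (f y)).obj F) := by
    refine ⟨⟨Finset.univ.image fun i => DevissLib.gm F (f y) hx (s i), eq_top_iff.mpr fun a _ => ?_⟩⟩
    obtain ⟨W, hxW, z, rfl⟩ := DevissLib.exists_gm_eq F (f y) a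
    obtain ⟨O, hO, hOU, hxO, c, hc⟩ := hs (W ⊓ U) inf_le_right
      (F.presheaf.map (homOfLE inf_le_left).op z) (f y) ⟨hxW, hx⟩
    rw [← DevissLib.gm_map F (inf_le_left : W ⊓ U ≤ W) (f y) ⟨hxW, hx⟩, ← DevissLib.gm_map F hO (f y) hxO, hc]
    have hsum : DevissLib.gm F (f y) hxO (∑ i, c i • F.presheaf.map (homOfLE hOU).op (s i)) =
        ∑ i, DevissLib.gm F (f y) hxO (c i • F.presheaf.map (homOfLE hOU).op (s i)) :=
      map_sum (F.presheaf.germ O (f y) hxO).hom _ _
    rw [hsum]
    refine Submodule.sum_mem _ fun i _ => ?_
    rw [DevissLib.gm_smul, DevissLib.gm_map F hOU (f y) hxO]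
    exact Submodule.smul_mem _ _ (Submodule.subset_span (by simp))
  haveI := hfin
  letI : Algebra (X.presheaf.stalk (f y)) (Y.presheaf.stalk y) := (f.stalkMap y).hom.toAlgebra
  haveI : IsLocalHom (algebraMap (X.presheaf.stalk (f y)) (Y.presheaf.stalk y)) :=
    inferInstanceAs (IsLocalHom (f.stalkMap y).hom)
  let R := X.presheaf.stalk (f y)
  let S := Y.presheaf.stalk y
  let kR := IsLocalRing.ResidueField R
  let kS := IsLocalRing.ResidueField S
  let N := (DevissLib.St (f y)).obj F
  change Subsingleton (TensorProduct R S N) ↔ Subsingleton N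
  refine ⟨fun h => ?_, fun h => inferInstance⟩
  have h1 : Subsingleton (TensorProduct R kS N) := by
    have hs : Function.Surjective (TensorProduct.map (IsScalarTower.toAlgHom R S kS).toLinearMap (LinearMap.id (R := R) (M := N))) :=
      TensorProduct.map_surjective Ideal.Quotient.mk_surjective Function.surjective_id
    exact hs.subsingleton
  rw [← IsLocalRing.subsingleton_tensorProduct (R := R)]
  haveI := (TensorProduct.AlgebraTensorModule.cancelBaseChange R kR kR kS N).toEquiv.subsingleton
  exact Module.FaithfullyFlat.lTensor_reflects_triviality kR kS (TensorProduct R kR N)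

end Groth.Agent.S4357
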