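import Groth.Statements.S0560
import Groth.Agent.CommAlgDim.CM

set_option autoImplicit false
universe u
open CAlg

namespace Groth.Agent.S0560

/-- Regularity of a Noetherian local ring can be checked after dividing out one nonzerodivisor lying in
the maximal ideal: if that quotient is a regular local ring, so is the original ring. -/
theorem result (R : Type u) [CommRing R] [IsLocalRing R]
    [IsNoetherianRing R] (x : R) (hx : x ∈ IsLocalRing.maximalIdeal R) (hreg : x ∈ nonZeroDivisors R)
    [IsRegularLocalRing (R ⧸ Ideal.span ({x} : Set R))] : IsRegularLocalRing R := by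
  haveI : IsRegularLocalRing (R ⧸ Ideal.ofList [x]) :=
    IsRegularLocalRing.of_ringEquiv (Ideal.quotEquivOfEq (Ideal.ofList_singleton x).symm)
  refine CommAlgDim.isRegularLocalRing_of_quotient R (rs := [x]) ((CommAlgDim.isRegular_cons_ring (rs := [])).2 ⟨?_, ?_⟩)
  · exact isSMulRegular_iff_right_eq_zero_of_smul.2 fun y hy => (mem_nonZeroDivisorsLeft_iff R).1 hreg.1 y (by simpa using hy)
  · have : Nontrivial (R ⧸ Ideal.span {x}) :=
      Ideal.Quotient.nontrivial_iff.2 fun h => (IsLocalRing.maximalIdeal.isMaximal R).ne_top
        (top_le_iff.1 (h ▸ (Ideal.span_singleton_le_iff_mem _).2 hx))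
    exact RingTheory.Sequence.IsRegular.nil _ _

end Groth.Agent.S0560
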