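import Groth.Statements.S3844
import Groth.Agent.MeroLib.RegExists

-- import your own Groth.Agent.* helpers here

set_option autoImplicit false
universe u
open CategoryTheory CategoryTheory.Limits AlgebraicGeometry TopologicalSpace
open Rat20

namespace Groth.Agent.S3844



/-- For the open subset U = X: let f : X' → X be flat with X locally Noetherian. Then for every
schematically dense open subset V of X, the preimage f⁻¹(V) is schematically dense in X'. -/
theorem result {X X' : Scheme.{u}} (f : X' ⟶ X) [Flat f]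
    [IsLocallyNoetherian X] (V : X.Opens) (hV : CInt.IsSchematicallyDense V) :
    CInt.IsSchematicallyDense (f ⁻¹ᵁ V) := by
  have hF : MeroLib.FiniteWeak X := MeroLib.finiteWeak_of_locallyNoetherian
  intro W a b hab
  refine TopCat.Presheaf.section_ext X'.sheaf W a b fun x hx => ?_
  obtain ⟨U, hU, hyU, -⟩ := exists_isAffineOpen_mem_and_subset (x := f x) (U := ⊤) trivial
  obtain ⟨t, ht, htV⟩ := MeroLib.exists_regSub_basicOpen hF hU V
    fun y _ hw => MeroLib.weak_mem_of_dense hF (U := ⊤) (fun W _ => hV W) trivial hw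
  obtain ⟨W', hW', hxW', hle'⟩ := exists_isAffineOpen_mem_and_subset (x := x) (U := W ⊓ f ⁻¹ᵁ U) ⟨hx, hyU⟩
  have hWW : W' ≤ W := fun y hy => (hle' hy).1
  have hWU : W' ≤ f ⁻¹ᵁ U := fun y hy => (hle' hy).2
  let t' : Γ(X', W') := f.appLE U W' hWU t
  have hg : ∀ (y : X') (hy : y ∈ W'), X'.presheaf.germ W' y hy t' =
      f.stalkMap y (X.presheaf.germ U (f y) (hWU hy) t) := fun y hy => by
    rw [f.germ_stalkMap_apply U y (hWU hy)]
    exact TopCat.Presheaf.germ_res_apply X'.presheaf _ y hy _
  have hreg : ∀ (y : X') (hy : y ∈ W'), X'.presheaf.germ W' y hy t' ∈ nonZeroDivisors (X'.presheaf.stalk y) := by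
    intro y hy
    algebraize [(f.stalkMap y).hom]
    haveI : Module.Flat (X.presheaf.stalk (f y)) (X'.presheaf.stalk y) := (Flat.iff_flat_stalkMap f).1 inferInstance y
    rw [hg]
    have h := Module.Flat.isSMulRegular_of_nonZeroDivisors (M := X'.presheaf.stalk y) (ht ⟨f y, hWU hy⟩)
    refine mem_nonZeroDivisors_iff_left.2 fun z hz => h ?_
    show _ • z = _ • (0 : X'.presheaf.stalk y)
    rw [smul_zero, Algebra.smul_def]
    exact hz
  haveI := hW'.isLocalization_basicOpen t'
  have hle : X'.basicOpen t' ≤ W ⊓ f ⁻¹ᵁ V := fun y hy => by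
    have hyW := X'.basicOpen_le t' hy
    refine ⟨hWW hyW, htV ?_⟩
    have h2 := (X'.mem_basicOpen t' y hyW).1 hy
    rw [hg y hyW] at h2
    exact (X.mem_basicOpen t (f y) (hWU hyW)).2 ((isUnit_map_iff (f.stalkMap y).hom _).1 h2)
  have h1 : algebraMap Γ(X', W') Γ(X', X'.basicOpen t') (X'.presheaf.map (homOfLE hWW).op a) =
      algebraMap Γ(X', W') Γ(X', X'.basicOpen t') (X'.presheaf.map (homOfLE hWW).op b) := by
    have h := congrArg (X'.presheaf.map (homOfLE hle).op) hab
    refine TopCat.Presheaf.section_ext X'.sheaf _ _ _ fun y hy => ?_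
    have h2 := congrArg (X'.presheaf.germ (X'.basicOpen t') y hy) h
    simp only [TopCat.Presheaf.germ_res_apply] at h2
    change X'.presheaf.germ (X'.basicOpen t') y hy (X'.presheaf.map (homOfLE (X'.basicOpen_le t')).op _) =
      X'.presheaf.germ (X'.basicOpen t') y hy (X'.presheaf.map (homOfLE (X'.basicOpen_le t')).op _)
    simp only [TopCat.Presheaf.germ_res_apply]
    exact h2
  obtain ⟨⟨_, n, rfl⟩, hn⟩ := IsLocalization.exists_of_eq (M := Submonoid.powers t') h1
  have h3 := congrArg (X'.presheaf.germ W' x hxW') hn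
  rw [map_mul, map_mul, map_pow] at h3
  simp only [TopCat.Presheaf.germ_res_apply] at h3
  exact (mul_cancel_left_mem_nonZeroDivisors (pow_mem (hreg x hxW') n)).1 h3


end Groth.Agent.S3844
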