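import Groth.Statements.S5062
import Groth.Agent.S0536
import Groth.Agent.HenselLib.Basic
import Groth.Agent.AzInvLib.Local
import Mathlib.RingTheory.Unramified.LocalRing
import Mathlib.RingTheory.Etale.StandardEtale
-- import your own Groth.Agent.* helpers here

set_option autoImplicit false
open CategoryTheory AlgebraicGeometry
set_option linter.style.haveILetI false
universe u
open Hensel

namespace Groth.Agent.S5062

/-- a) iff c): a local ring A is henselian with separably closed residue field if and only if, for every
étale morphism f : X ⟶ Spec A and every point x of X lying over the closed point s, there is a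
section u of f with u s = x. -/
theorem result (A : Type u) [CommRing A] [IsLocalRing A] :
    (HenselianLocalRing A ∧ IsSepClosed (IsLocalRing.ResidueField A)) ↔
      ∀ (X : Scheme.{u}) (f : X ⟶ Spec (CommRingCat.of A)), Etale f →
        ∀ x : X, f.base x = IsLocalRing.closedPoint A →
          ∃ u : Spec (CommRingCat.of A) ⟶ X, u ≫ f = 𝟙 _ ∧ u.base (IsLocalRing.closedPoint A) = x := by
  classical
  constructor
  · rintro ⟨hH, hk⟩ X f hf x hx
    haveI := hH
    haveI := hk
    haveI := hf
    obtain ⟨i, y, hy⟩ := X.affineCover.exists_eq x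
    obtain ⟨B, hB⟩ : ∃ B : CommRingCat.{u}, X.affineCover.X i = Spec B := ⟨_, rfl⟩
    let j : Spec B ⟶ X := eqToHom hB.symm ≫ X.affineCover.f i
    haveI : IsOpenImmersion j := inferInstance
    obtain ⟨z, hz⟩ : ∃ z : Spec B, j.base z = x := by
      refine ⟨(eqToHom hB).base y, ?_⟩
      rw [← Scheme.Hom.comp_apply, ← Category.assoc, eqToHom_trans, eqToHom_refl, Category.id_comp]
      exact hy
    obtain ⟨φ, hφ⟩ : ∃ φ, Spec.map φ = j ≫ f := ⟨Spec.preimage (j ≫ f), Spec.map_preimage _⟩
    have het : φ.hom.Etale := (HasRingHomProperty.Spec_iff (P := @Etale)).1 (hφ ▸ inferInstanceAs (Etale (j ≫ f)))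
    letI algB : Algebra A B := φ.hom.toAlgebra
    haveI : Algebra.Etale A B := het
    let m := IsLocalRing.maximalIdeal A
    let q : Ideal B := z.asIdeal
    haveI hqp : q.IsPrime := z.isPrime
    have hqm : q.comap (algebraMap A B) = m := by
      have h1 : (Spec.map φ).base z = IsLocalRing.closedPoint A := by
        rw [hφ, Scheme.Hom.comp_apply, hz, hx]
      exact congrArg PrimeSpectrum.asIdeal h1
    haveI : q.LiesOver m := ⟨hqm.symm⟩
    letI := Localization.AtPrime.algebraOfLiesOver m q
    haveI : Localization.AtPrime.IsLiesOverAlgebra m q := inferInstance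
    haveI : Algebra.IsUnramifiedAt A q := inferInstance
    haveI : Algebra.IsSeparable m.ResidueField q.ResidueField := inferInstance
    have hψ : Function.Bijective (algebraMap (A ⧸ m) m.ResidueField) := Ideal.bijective_algebraMap_quotient_residueField m
    let e : IsLocalRing.ResidueField A ≃+* m.ResidueField :=
      RingEquiv.ofBijective (algebraMap (A ⧸ m) m.ResidueField) hψ
    haveI : IsSepClosed m.ResidueField := AzInvLib.isSepClosed_of_ringEquiv e
    have hbij : Function.Bijective (algebraMap m.ResidueField q.ResidueField) :=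
      ⟨RingHom.injective _, IsSepClosed.algebraMap_surjective _ _⟩
    let π : (A ⧸ m) ≃+* q.ResidueField :=
      (RingEquiv.ofBijective _ hψ).trans (RingEquiv.ofBijective _ hbij)
    have hπ : ∀ a : A, π (Ideal.Quotient.mk m a) = algebraMap B q.ResidueField (algebraMap A B a) := fun a => by
      show algebraMap m.ResidueField q.ResidueField (algebraMap (A ⧸ m) m.ResidueField (Ideal.Quotient.mk m a)) = _
      rw [← IsScalarTower.algebraMap_apply A B q.ResidueField, IsScalarTower.algebraMap_apply A m.ResidueField q.ResidueField]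
      rfl
    let σ : B →ₐ[A] A ⧸ m :=
      { π.symm.toRingHom.comp (algebraMap B q.ResidueField) with
        commutes' := fun a => by
          show π.symm (algebraMap B q.ResidueField (algebraMap A B a)) = _
          rw [← hπ, RingEquiv.symm_apply_apply]
          rfl }
    obtain ⟨τ, hτ⟩ := Groth.Agent.S0536.result A B A m σ
    refine ⟨Spec.map (CommRingCat.ofHom τ.toRingHom) ≫ j, ?_, ?_⟩
    · rw [Category.assoc, ← hφ, ← Spec.map_comp, ← Spec.map_id]
      congr 1
      ext a
      exact τ.commutes a
    · show j.base ((Spec.map (CommRingCat.ofHom τ.toRingHom)).base (IsLocalRing.closedPoint A)) = x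
      rw [← hz]
      congr 1
      refine PrimeSpectrum.ext (Ideal.ext fun b => ?_)
      show τ b ∈ m ↔ b ∈ q
      rw [← Ideal.Quotient.eq_zero_iff_mem, show Ideal.Quotient.mk m (τ b) = σ b from AlgHom.congr_fun hτ b,
        ← Ideal.algebraMap_residueField_eq_zero (I := q)]
      exact EmbeddingLike.map_eq_zero_iff (f := π.symm)
  · intro h
    have key : ∀ (K : Type u) [Field K] [Algebra A K] (P : Polynomial A) (hP : P.Monic) (t : K)
        (_ : Polynomial.aeval t P = 0) (_ : IsUnit (Polynomial.aeval t P.derivative))
        (_ : ∀ a ∈ IsLocalRing.maximalIdeal A, algebraMap A K a = 0),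
        ∃ (a : A), P.eval a = 0 ∧ ∀ c : A, algebraMap A K c = t → a - c ∈ IsLocalRing.maximalIdeal A := by
      intro K _ _ P hP t ht ht' hmK
      let Q : StandardEtalePair A := ⟨P, hP, P.derivative, 1, 0, 1, by ring⟩
      let μ : Q.Ring →ₐ[A] K := Q.lift t ⟨ht, ht'⟩
      let x : Spec (CommRingCat.of Q.Ring) := (⟨RingHom.ker μ.toRingHom, RingHom.ker_isPrime _⟩ : PrimeSpectrum Q.Ring)
      let g : Spec (CommRingCat.of Q.Ring) ⟶ Spec (CommRingCat.of A) := Spec.map (CommRingCat.ofHom (algebraMap A Q.Ring))
      haveI hget : Etale g := (HasRingHomProperty.Spec_iff (P := @Etale)).2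
        (by show (algebraMap A Q.Ring).Etale; exact RingHom.etale_algebraMap.2 inferInstance)
      have hgx : g.base x = IsLocalRing.closedPoint A := by
        refine PrimeSpectrum.ext ?_
        show (RingHom.ker μ.toRingHom).comap (algebraMap A Q.Ring) = IsLocalRing.maximalIdeal A
        refine le_antisymm (IsLocalRing.le_maximalIdeal
          (Ideal.IsPrime.comap (hK := RingHom.ker_isPrime μ.toRingHom) _).ne_top) fun a ha => ?_
        rw [Ideal.mem_comap, RingHom.mem_ker]
        show μ (algebraMap A Q.Ring a) = 0
        rw [AlgHom.commutes]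
        exact hmK a ha
      obtain ⟨u, hu, hux⟩ := h _ g hget x hgx
      obtain ⟨τ, rfl⟩ : ∃ τ, Spec.map τ = u := ⟨Spec.preimage u, Spec.map_preimage _⟩
      have hu' : CommRingCat.ofHom (algebraMap A Q.Ring) ≫ τ = 𝟙 (CommRingCat.of A) := by
        apply Spec.map_injective
        rw [Spec.map_comp, Spec.map_id]
        exact hu
      let τ' : Q.Ring →ₐ[A] A :=
        { τ.hom with commutes' := fun a => congrArg (fun φ => φ.hom a) hu' }
      refine ⟨τ' Q.X, ?_, fun c hc => ?_⟩
      · have := ((StandardEtalePair.hasMap_X (P := Q)).map τ').1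
        rwa [Polynomial.coe_aeval_eq_eval] at this
      · have hker : Ideal.comap τ.hom (IsLocalRing.maximalIdeal A) = RingHom.ker μ.toRingHom :=
          congrArg PrimeSpectrum.asIdeal hux
        have h1 : Q.X - algebraMap A Q.Ring c ∈ RingHom.ker μ.toRingHom := by
          rw [RingHom.mem_ker]
          show μ (Q.X - algebraMap A Q.Ring c) = 0
          rw [map_sub, AlgHom.commutes, show μ Q.X = t from StandardEtalePair.lift_X .., hc, sub_self]
        rw [← hker, Ideal.mem_comap] at h1
        have h2 : τ' (Q.X - algebraMap A Q.Ring c) ∈ IsLocalRing.maximalIdeal A := h1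
        rw [map_sub, AlgHom.commutes] at h2
        exact h2
    have hres : ∀ a ∈ IsLocalRing.maximalIdeal A, algebraMap A (IsLocalRing.ResidueField A) a = 0 :=
      fun a ha => Ideal.Quotient.eq_zero_iff_mem.2 ha
    refine ⟨⟨fun P hP a₀ ha₀ hd => ?_⟩, IsSepClosed.of_exists_root _ fun p hpm hpi hps => ?_⟩
    · obtain ⟨a, ha, ha'⟩ := key (IsLocalRing.ResidueField A) P hP (algebraMap A _ a₀)
        (by rw [Polynomial.aeval_algebraMap_apply_eq_algebraMap_eval]; exact hres _ ha₀)
        (by rw [Polynomial.aeval_algebraMap_apply_eq_algebraMap_eval]; exact hd.map _) hres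
      exact ⟨a, ha, ha' a₀ rfl⟩
    · obtain ⟨P, hPp, -, hPm⟩ := Polynomial.lifts_and_degree_eq_and_monic
        (Polynomial.mem_lifts_of_surjective (f := algebraMap A (IsLocalRing.ResidueField A)) IsLocalRing.residue_surjective p) hpm
      haveI := Fact.mk hpi
      let K := AdjoinRoot p
      have hmap : ∀ (F : Polynomial A) (t : K), Polynomial.aeval t F =
          Polynomial.aeval t (F.map (algebraMap A (IsLocalRing.ResidueField A))) :=
        fun F t => (Polynomial.aeval_map_algebraMap _ t F).symm
      have hroot : Polynomial.aeval (AdjoinRoot.root p) p = 0 := by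
        rw [AdjoinRoot.aeval_eq, AdjoinRoot.mk_self]
      obtain ⟨a, ha, -⟩ := key K P hPm (AdjoinRoot.root p)
        (by rw [hmap, hPp]; exact hroot)
        (by rw [hmap, ← Polynomial.derivative_map, hPp]; exact isUnit_iff_ne_zero.2 (hps.aeval_derivative_ne_zero hroot))
        (fun a ha => by
          rw [IsScalarTower.algebraMap_apply A (IsLocalRing.ResidueField A) K]
          rw [hres a ha, map_zero])
      exact ⟨algebraMap A _ a, by rw [← hPp, Polynomial.eval_map, Polynomial.eval₂_at_apply, ha, map_zero]⟩

end Groth.Agent.S5062
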