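import Groth.Statements.S2150
import Mathlib
import Groth.Agent.SweepSix.GeomConn
import Groth.Agent.S2500

set_option autoImplicit false
universe u
open CAlg

namespace Groth.Agent.S2150

section
open AlgebraicGeometry CategoryTheory CategoryTheory.Limits TensorProduct

theorem eq_zero_or_one_of_connected {A : Type u} [CommRing A] [ConnectedSpace (PrimeSpectrum A)] {e : A}
    (he : IsIdempotentElem e) : e = 0 ∨ e = 1 := by
  rcases isClopen_iff.mp (PrimeSpectrum.isClopen_iff.mpr ⟨e, he, rfl⟩ :
      IsClopen (PrimeSpectrum.basicOpen e : Set (PrimeSpectrum A))) with h | h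
  · left
    have hb : PrimeSpectrum.basicOpen e = ⊥ := TopologicalSpace.Opens.ext (by simpa using h)
    exact he.eq_zero_of_isNilpotent ((PrimeSpectrum.basicOpen_eq_bot_iff e).mp hb)
  · right
    have hu : IsUnit e := by
      by_contra hu
      obtain ⟨m, hm, hme⟩ := exists_max_ideal_of_mem_nonunits hu
      have : (⟨m, hm.isPrime⟩ : PrimeSpectrum A) ∈ (PrimeSpectrum.basicOpen e : Set (PrimeSpectrum A)) := by
        rw [h]; trivial
      exact this hme
    exact hu.mul_left_cancel (he.eq.trans (mul_one e).symm)

theorem irreducibleSpace_of_isIntegral (K : Type u) [Field K] (A : Type u) [CommRing A] [Algebra K A]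
    [Algebra.IsIntegral K A] [ConnectedSpace (PrimeSpectrum A)] : IrreducibleSpace (PrimeSpectrum A) := by
  have hx : ∀ x : A, IsNilpotent x ∨ IsUnit x := by
    intro x
    obtain ⟨p, hp, hpx⟩ := Algebra.IsIntegral.isIntegral (R := K) x
    obtain ⟨q, hq, hq0⟩ := p.exists_eq_pow_rootMultiplicity_mul_and_not_dvd hp.ne_zero 0
    let m := p.rootMultiplicity 0
    have hc : q.coeff 0 ≠ 0 := fun h => hq0 (by rw [map_zero, sub_zero]; exact Polynomial.X_dvd_iff.mpr h)
    have h1 : x ^ m * Polynomial.aeval x q = 0 := by
      have : Polynomial.aeval x p = 0 := hpx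
      rw [hq, map_mul, map_pow, map_zero, sub_zero, Polynomial.aeval_X] at this
      exact this
    let r : A := Polynomial.aeval x q.divX
    have h2 : Polynomial.aeval x q = x * r + algebraMap K A (q.coeff 0) := by
      conv_lhs => rw [← q.X_mul_divX_add]
      rw [map_add, map_mul, Polynomial.aeval_X, Polynomial.aeval_C]
    let s : A := -(r * algebraMap K A (q.coeff 0)⁻¹)
    have h3 : x ^ m = x ^ (m + 1) * s := by
      have h4 : x ^ m * (x * r + algebraMap K A (q.coeff 0)) * algebraMap K A (q.coeff 0)⁻¹ = 0 := by
        rw [← h2, h1, zero_mul]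
      have h5 : algebraMap K A (q.coeff 0) * algebraMap K A (q.coeff 0)⁻¹ = 1 := by
        rw [← map_mul, mul_inv_cancel₀ hc, map_one]
      have h6 : x ^ m * (x * r + algebraMap K A (q.coeff 0)) * algebraMap K A (q.coeff 0)⁻¹ =
          x ^ m - x ^ (m + 1) * s := by
        calc x ^ m * (x * r + algebraMap K A (q.coeff 0)) * algebraMap K A (q.coeff 0)⁻¹
            = x ^ m * (algebraMap K A (q.coeff 0) * algebraMap K A (q.coeff 0)⁻¹) +
              x ^ (m + 1) * (r * algebraMap K A (q.coeff 0)⁻¹) := by ring
          _ = x ^ m - x ^ (m + 1) * s := by rw [h5]; simp only [s]; ring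
      rw [h6] at h4
      exact sub_eq_zero.mp h4
    have h7 : ∀ j, x ^ m = x ^ (m + j) * s ^ j := by
      intro j
      induction j with
      | zero => simp
      | succ j ih =>
        calc x ^ m = x ^ (m + j) * s ^ j := ih
          _ = x ^ j * x ^ m * s ^ j := by ring
          _ = x ^ j * (x ^ (m + 1) * s) * s ^ j := by rw [← h3]
          _ = x ^ (m + (j + 1)) * s ^ (j + 1) := by ring
    have he : IsIdempotentElem (x ^ m * s ^ m) := by
      change x ^ m * s ^ m * (x ^ m * s ^ m) = x ^ m * s ^ m
      calc x ^ m * s ^ m * (x ^ m * s ^ m) = x ^ (m + m) * s ^ m * s ^ m := by ring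
        _ = x ^ m * s ^ m := by rw [← h7 m]
    rcases eq_zero_or_one_of_connected he with h | h
    · left
      refine ⟨m, ?_⟩
      rw [h7 m, pow_add, mul_assoc, h, mul_zero]
    · rcases Nat.eq_zero_or_pos m with hm | hm
      · right
        rw [hm, pow_zero, zero_add, pow_one] at h3
        exact IsUnit.of_mul_eq_one s h3.symm
      · right
        refine IsUnit.of_mul_eq_one (x ^ (m - 1) * s ^ m) ?_
        rw [← mul_assoc, ← pow_succ', show m - 1 + 1 = m by omega, h]
  haveI : Subsingleton (PrimeSpectrum A) := ⟨fun p q => PrimeSpectrum.ext (by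
    ext x
    rcases hx x with h | h
    · exact ⟨fun _ => nilpotent_iff_mem_prime.mp h _ q.2, fun _ => nilpotent_iff_mem_prime.mp h _ p.2⟩
    · exact ⟨fun hp => absurd (Ideal.eq_top_of_isUnit_mem _ hp h) p.2.ne_top,
        fun hq => absurd (Ideal.eq_top_of_isUnit_mem _ hq h) q.2.ne_top⟩)⟩
  haveI : PreirreducibleSpace (PrimeSpectrum A) := ⟨Set.subsingleton_univ.isPreirreducible⟩
  exact ⟨inferInstance⟩

end

open AlgebraicGeometry CategoryTheory CategoryTheory.Limits

open TensorProduct in
/-- For a field extension `K/k`, the spectrum of `k' ⊗_k K` is irreducible for every field extension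
`k'/k` (geometric irreducibility, extensions in the same universe) if and only if every element of
`K` which is separable algebraic over `k` lies in `k`. -/
theorem result {k K : Type u} [Field k] [Field K] [Algebra k K] :
    (∀ (k' : Type u) [Field k'] [Algebra k k'], IrreducibleSpace (PrimeSpectrum (k' ⊗[k] K))) ↔
      ∀ α : K, IsSeparable k α → α ∈ Set.range (algebraMap k K) := by
  constructor
  · intro h α hα
    let L := IntermediateField.adjoin k ({α} : Set K)
    haveI : Algebra.IsSeparable k L := IntermediateField.isSeparable_adjoin_simple_iff_isSeparable k K |>.mpr hα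
    haveI : FiniteDimensional k L := IntermediateField.adjoin.finiteDimensional hα.isIntegral
    let kb := AlgebraicClosure k
    let ι := Algebra.TensorProduct.map (AlgHom.id kb kb) L.val
    have hι : Function.Injective ι :=
      Module.Flat.lTensor_preserves_injective_linearMap L.val.toLinearMap Subtype.val_injective
    haveI : IrreducibleSpace (PrimeSpectrum (kb ⊗[k] K)) := h kb
    have hirr : IrreducibleSpace (PrimeSpectrum (kb ⊗[k] L)) := by
      rw [irreducibleSpace_def]
      have hd := (PrimeSpectrum.denseRange_comap_iff_ker_le_nilRadical ι.toRingHom).mpr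
        (by rw [(RingHom.injective_iff_ker_eq_bot ι.toRingHom).mp hι]; exact bot_le)
      have := ((IrreducibleSpace.isIrreducible_univ (PrimeSpectrum (kb ⊗[k] K))).image _
        (PrimeSpectrum.continuous_comap ι.toRingHom).continuousOn).closure
      rwa [Set.image_univ, hd.closure_range] at this
    have hsub : Subsingleton (L →ₐ[k] kb) := ⟨fun σ τ => by
      haveI : DiscreteTopology (PrimeSpectrum (kb ⊗[k] L)) := Algebra.QuasiFinite.discreteTopology_primeSpectrum kb (kb ⊗[k] L)
      let ev : (L →ₐ[k] kb) → (kb ⊗[k] L →ₐ[kb] kb) := fun φ =>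
        Algebra.TensorProduct.lift (AlgHom.id kb kb) φ (fun _ _ => Commute.all _ _)
      have hev : ∀ (φ : L →ₐ[k] kb) (l : L), ev φ ((1 : kb) ⊗ₜ[k] l) = φ l := fun φ l => by simp [ev]
      haveI hsub : Subsingleton (PrimeSpectrum (kb ⊗[k] L)) := by
        haveI : PreconnectedSpace (PrimeSpectrum (kb ⊗[k] L)) := ⟨(PreirreducibleSpace.isPreirreducible_univ).isPreconnected⟩
        exact PreconnectedSpace.trivial_of_discrete
      have hk : RingHom.ker (ev σ) = RingHom.ker (ev τ) := congrArg PrimeSpectrum.asIdeal
        (Subsingleton.elim (⟨RingHom.ker (ev σ), RingHom.ker_isPrime _⟩ : PrimeSpectrum (kb ⊗[k] L))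
          ⟨RingHom.ker (ev τ), RingHom.ker_isPrime _⟩)
      refine AlgHom.ext fun l => ?_
      have hev' : ∀ (φ : L →ₐ[k] kb) (c : kb), ev φ (c ⊗ₜ[k] (1 : L)) = c := fun φ c => by simp [ev]
      have : ((1 : kb) ⊗ₜ[k] l - σ l ⊗ₜ[k] (1 : L)) ∈ RingHom.ker (ev σ) := by
        rw [RingHom.mem_ker, map_sub, hev, hev', sub_self]
      rw [hk, RingHom.mem_ker, map_sub, hev, hev', sub_eq_zero] at this
      exact this.symm⟩
    have hcard := AlgHom.card k L kb
    have h1 : Module.finrank k L = 1 := by
      refine le_antisymm ?_ Module.finrank_pos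
      rw [← hcard]
      exact Fintype.card_le_one_iff_subsingleton.mpr hsub
    have hbot : L = ⊥ := IntermediateField.finrank_eq_one_iff.mp h1
    have : α ∈ (⊥ : IntermediateField k K) := hbot ▸ IntermediateField.mem_adjoin_simple_self k α
    exact IntermediateField.mem_bot.mp this
  · intro h k' _ _
    have hk : separableClosure k K = ⊥ := eq_bot_iff.mpr fun a ha =>
      IntermediateField.mem_bot.mpr (h a (mem_separableClosure_iff.mp ha))
    haveI := SweepSix.GeomConn.gc_specMap (k := k) K hk
    let kb := AlgebraicClosure k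
    let f := Spec.map (CommRingCat.ofHom (algebraMap k K))
    let g := Spec.map (CommRingCat.ofHom (algebraMap k kb))
    have hc : ConnectedSpace ↥(pullback f g) := pullback_of_geometrically GeometricallyConnected.geometrically_connectedSpace kb g
    haveI : ConnectedSpace (PrimeSpectrum (K ⊗[k] kb)) :=
      ((pullbackSpecIso k K kb).hom.homeomorph.connectedSpace_iff).mp hc
    have hirr := irreducibleSpace_of_isIntegral K (K ⊗[k] kb)
    haveI : IrreducibleSpace ↥(pullback f g) :=
      ((pullbackSpecIso k K kb).hom.homeomorph.irreducibleSpace_iff).mpr hirr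
    haveI := Groth.Agent.S2500.result (k := kb) (pullback.snd f g)
    haveI := SweepSix.GeomConn.gi_of_bc f kb
    have h1 : IrreducibleSpace ↥(pullback f (Spec.map (CommRingCat.ofHom (algebraMap k k')))) :=
      pullback_of_geometrically GeometricallyIrreducible.geometrically_irreducibleSpace k' _
    exact (Scheme.homeoOfIso (pullbackSymmetry _ _ ≪≫ pullbackSpecIso k k' K)).irreducibleSpace_iff.mp
      ((Scheme.homeoOfIso (Iso.refl _)).irreducibleSpace_iff.mp h1)

end Groth.Agent.S2150
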