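import Groth.Statements.S9833
import Groth.Agent.NagataFG.Japanese

set_option autoImplicit false
universe u
open CategoryTheory AlgebraicGeometry TopologicalSpace
open Props

namespace Groth.Agent.S9833

/-- If a scheme has an affine open covering by spectra of Nagata rings, then the coordinate ring of
every affine open is Nagata. -/
theorem result (X : Scheme.{u}) {ι : Type u} (U : ι → X.Opens)
    (hU : iSup U = ⊤) (haff : ∀ i, IsAffineOpen (U i)) (hN : ∀ i, CAlg.IsNagata Γ(X, U i))
    (V : X.Opens) (hV : IsAffineOpen V) : CAlg.IsNagata Γ(X, V) := by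
  refine of_affine_open_cover (P := fun V : X.affineOpens => CAlg.IsNagata Γ(X, V)) (fun i => (⟨U i, haff i⟩ : X.affineOpens))
    hU ⟨V, hV⟩ (fun W f hW => ?_) (fun W s hs h => ?_) hN
  · have := W.2.isLocalization_basicOpen f
    show CAlg.IsNagata Γ(X, X.basicOpen f)
    exact NagataFG.isNagata_of_isLocalization (Submonoid.powers f) _ hW
  · refine NagataFG.isNagata_of_cover Γ(X, W) (fun f : s => (f : Γ(X, W))) (by rw [← hs]; congr 1; ext; simp) fun f => ?_
    have := W.2.isLocalization_basicOpen (f : Γ(X, W))
    have hf : CAlg.IsNagata Γ(X, X.basicOpen (f : Γ(X, W))) := h f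
    exact NagataFG.isNagata_of_surjective
      (IsLocalization.algEquiv (Submonoid.powers (f : Γ(X, W))) Γ(X, X.basicOpen (f : Γ(X, W)))
        (Localization.Away (f : Γ(X, W)))).toRingEquiv.toRingHom
      (AlgEquiv.surjective _) hf

end Groth.Agent.S9833
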