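import Groth.Statements.S0032
import Groth.Agent.RpushLib.Sections
import Groth.Agent.RpushLib.Ab
-- import your own Groth.Agent.* helpers here

set_option autoImplicit false
universe u
open Coherent

namespace Groth.Agent.S0032

open AlgebraicGeometry CategoryTheory Opposite in
/-- Let f : X → S be quasi-compact and quasi-separated with S affine, and F quasi-coherent on X. Then
H^q(X, F) is isomorphic to the global sections of R^q f_* F (higher direct image of the underlying
abelian sheaf), for every q. -/
theorem result {X S : Scheme.{u}} (f : X ⟶ S)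
    [QuasiCompact f] [QuasiSeparated f] [IsAffine S] (M : X.Modules) [Coh.IsQCoh M] (q : ℕ) :
    Nonempty (Coh.HH X M q ≃+ ↑(((Coh.RpushAb f q).obj (Coh.toAb M)).obj.obj (op ⊤))) := by
  obtain ⟨e⟩ := RpushLib.nonempty_toAb_rpush_iso f M q
  let I := injectiveResolution M
  let F := RpushLib.FlRes.ofInjective I
  have hT := RpushLib.toHom_bijective (RpushLib.localizes_pushCx f F q) (isAffineOpen_top S)
  let e1 : Coh.HH X M q ≃+ RpushLib.PH (RpushLib.pushCx f F.K) q ⊤ :=
    (F.hhEquiv (f.app ⊤).hom q).symm.trans
      (AddEquiv.ofBijective (RpushLib.phPush f F.K q ⊤).toAddMonoidHom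
        (RpushLib.phPush_bijective f F.K q ⊤)).symm
  let e2 := AddEquiv.ofBijective (RpushLib.toHom (RpushLib.pushCx f F.K) q ⊤).toAddMonoidHom hT
  let e3 := ((sheafToPresheaf _ _).mapIso ((QCohLib.toAbF S).mapIso (RpushLib.rpushIso f I q).symm ≪≫ e)).app (Opposite.op ⊤)
  exact ⟨(e1.trans e2).trans e3.addCommGroupIsoToAddEquiv⟩

end Groth.Agent.S0032
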