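import Groth.Statements.S9247
import Groth.Agent.RegUFDLib.Basic
import Mathlib.RingTheory.UniqueFactorizationDomain.Kaplansky
import Mathlib.RingTheory.PicardGroup
import Mathlib.RingTheory.UniqueFactorizationDomain.GCDMonoid

set_option autoImplicit false
universe u
open CAlg

namespace Groth.Agent.S9247
theorem ufd_localization {A : Type u} [CommRing A] [IsDomain A] [UniqueFactorizationMonoid A] (M : Submonoid A)
    (B : Type u) [CommRing B] [IsDomain B] [Algebra A B] [IsLocalization M B] :
    UniqueFactorizationMonoid B := by
  rw [UniqueFactorizationMonoid.iff_exists_prime_mem_of_isPrime]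
  intro Q hQ hQp
  have hP : (Q.comap (algebraMap A B)).IsPrime := hQp.comap _
  have hd : Disjoint (M : Set A) ↑(Q.comap (algebraMap A B)) := by
    rw [Set.disjoint_left]
    exact fun a ha haQ => hQp.ne_top (Q.eq_top_of_isUnit_mem haQ (IsLocalization.map_units B ⟨a, ha⟩))
  have hne : Q.comap (algebraMap A B) ≠ ⊥ := fun h => hQ (by
    rw [← IsLocalization.map_comap M B Q]
    exact (congrArg _ h).trans Ideal.map_bot)
  obtain ⟨π, hπ, hπp⟩ := UniqueFactorizationMonoid.iff_exists_prime_mem_of_isPrime.mp inferInstance _ hne hP
  have hsp : (Ideal.span {π}).IsPrime := (Ideal.span_singleton_prime hπp.ne_zero).mpr hπp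
  have hd' : Disjoint (M : Set A) ↑(Ideal.span {π}) :=
    Set.disjoint_of_subset_right ((Ideal.span_singleton_le_iff_mem _).mpr hπ) hd
  have h' := IsLocalization.isPrime_of_isPrime_disjoint M B _ hsp hd'
  rw [Ideal.map_span, Set.image_singleton] at h'
  have hπ0 : algebraMap A B π ≠ 0 := by
    intro h0
    obtain ⟨m, hm⟩ := (IsLocalization.map_eq_zero_iff M B π).mp h0
    rcases mul_eq_zero.mp hm with h | h
    · exact hQp.ne_top (Q.eq_top_of_isUnit_mem (by simp [h]) (IsLocalization.map_units B m))
    · exact hπp.ne_zero h
  exact ⟨_, hπ, (Ideal.span_singleton_prime hπ0).mp h'⟩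

/-- For a regular local ring R and an element f of R, the Picard group of R_f is trivial. -/
theorem result (R : Type u) [CommRing R]
    [IsRegularLocalRing R] (f : R) : Subsingleton (CommRing.Pic (Localization.Away f)) := by
  haveI : IsDomain R := CommAlgDim.isDomain_of_isRegularLocalRing R
  haveI := RegUFDLib.uniqueFactorizationMonoid R
  by_cases hf : f = 0
  · haveI : Subsingleton (Localization.Away f) :=
      IsLocalization.subsingleton (M := Submonoid.powers f) ⟨1, by simp [hf]⟩
    haveI : Finite (MaximalSpectrum (Localization.Away f)) :=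
      haveI : IsEmpty (MaximalSpectrum (Localization.Away f)) :=
        ⟨fun m => m.isMaximal.ne_top (Subsingleton.elim _ _)⟩
      inferInstance
    infer_instance
  · have hle : Submonoid.powers f ≤ nonZeroDivisors R :=
      powers_le_nonZeroDivisors_of_noZeroDivisors hf
    haveI : IsDomain (Localization.Away f) := IsLocalization.isDomain_localization hle
    haveI := ufd_localization (Submonoid.powers f) (Localization.Away f)
    infer_instance

end Groth.Agent.S9247
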