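import Groth.Statements.S1622
import Groth.Agent.RegCentreLib.Basic
import Groth.Agent.BlowUpLib.Strict

set_option autoImplicit false
universe u
open CategoryTheory CategoryTheory.Limits AlgebraicGeometry
open Resolve

namespace Groth.Agent.S1622

/-- Let A be a regular local ring of dimension two and b : X → Spec A a blowing up of Spec A in the
maximal ideal (characterised by its universal property). Then X is irreducible and all of its local
rings are regular. -/
theorem result (A : Type u) [CommRing A] [IsRegularLocalRing A] (hA : ringKrullDim A = 2)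
    (X : Scheme.{u}) (b : X ⟶ Spec (CommRingCat.of A)) (hb : BlowUp.IsBlowUp b (Curv2.idealSheaf A (IsLocalRing.maximalIdeal A))) :
    IrreducibleSpace X ∧ ∀ x : X, IsRegularLocalRing (X.presheaf.stalk x) := by
  haveI : IsDomain A := CommAlgDim.isDomain_of_isRegularLocalRing A
  let m := IsLocalRing.maximalIdeal A
  have hb' : BlowUp.IsBlowUp b (BlowUpLib.specIdeal m) := hb
  constructor
  · obtain ⟨hI, -⟩ := BlowUpLib.isIntegral_of_isBlowUp hb' fun h => by
      have hm : m = ⊥ := BlowUpLib.specIdeal_injective (h.trans (by
        refine Scheme.IdealSheafData.ext_of_isAffine ?_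
        simp [BlowUpLib.specIdeal_top]))
      have h0 := ringKrullDim_eq_zero_of_isField (IsLocalRing.isField_iff_maximalIdeal_eq.mpr hm)
      rw [hA] at h0
      exact absurd h0 (by norm_num)
    exact inferInstance
  · intro x
    let i : Spec (CommRingCat.of (A ⧸ m)) ⟶ Spec (CommRingCat.of A) :=
      Spec.map (CommRingCat.ofHom (Ideal.Quotient.mk m))
    haveI : IsClosedImmersion i := IsClosedImmersion.spec_of_surjective _ Ideal.Quotient.mk_surjective
    have hX : ∀ p : Spec (CommRingCat.of A),
        IsRegularLocalRing ((Spec (CommRingCat.of A)).presheaf.stalk p) := fun p => by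
      haveI := CommAlgDim.isRegularLocalRing_localization A p.asIdeal
      exact IsRegularLocalRing.of_ringEquiv
        (AlgebraicGeometry.StructureSheaf.stalkIso A p).toRingEquiv
    have hY : ∀ y : Spec (CommRingCat.of (A ⧸ m)),
        IsRegularLocalRing ((Spec (CommRingCat.of (A ⧸ m))).presheaf.stalk y) := fun y => by
      letI : Field (A ⧸ m) := Ideal.Quotient.field m
      haveI : IsRegularLocalRing (A ⧸ m) := inferInstance
      haveI := CommAlgDim.isRegularLocalRing_localization (A ⧸ m) y.asIdeal
      exact IsRegularLocalRing.of_ringEquiv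
        (AlgebraicGeometry.StructureSheaf.stalkIso (A ⧸ m) y).toRingEquiv
    exact RegCentreLib.isRegularLocalRing_stalk_blowUp hX i hY b
      ((BlowUpLib.ker_SpecMap_mk m).symm ▸ hb') x

end Groth.Agent.S1622
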