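import Groth.Statements.S1623
import Groth.Agent.BlowUpLib.RegSmooth
import Groth.Agent.QCohLib.Vanishing

set_option autoImplicit false
universe u
open CategoryTheory CategoryTheory.Limits AlgebraicGeometry
open Resolve

namespace Groth.Agent.S1623

/-- A blow-up of an affine scheme in an ideal with two generators has no cohomology in degrees `≥ 2`. -/
theorem subsingleton_of_two {A : Type u} [CommRing A] [IsNoetherianRing A] (I : Ideal A) (a₁ a₂ : A) (hI : Ideal.span {a₁, a₂} = I)
    {X : Scheme.{u}} (b : X ⟶ Spec (CommRingCat.of A)) (hb : BlowUp.IsBlowUp b (BlowUpLib.specIdeal I))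
    (F : X.Modules) [Coh.IsQCoh F] (p : ℕ) :
    Subsingleton (Coh.HH X F (p + 2)) := by
  obtain ⟨e, he⟩ := BlowUpLib.exists_iso hb (BlowUpLib.isBlowUp_proj I)
  have h₁ : a₁ ∈ I := hI ▸ Ideal.subset_span (Set.mem_insert _ _)
  have h₂ : a₂ ∈ I := hI ▸ Ideal.subset_span (Set.mem_insert_of_mem _ rfl)
  let O : ∀ a ∈ I, X.Opens := fun a ha =>
    e.inv ⁻¹ᵁ Proj.basicOpen (Rees.deg (reesAlgebra I)) (BlowUpLib.degOne I a ha)
  have haff : ∀ a ha, IsAffineOpen (O a ha) := fun a ha =>
    (Proj.isAffineOpen_basicOpen _ _ (BlowUpLib.degOne_mem I a ha) one_pos).preimage_of_isIso e.inv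
  have hsup : O a₁ h₁ ⊔ O a₂ h₂ = ⊤ := by
    refine top_le_iff.1 fun x _ => ?_
    obtain ⟨⟨a, ha⟩, haS, hx⟩ := BlowUpLib.exists_degOne_notMem_of_span I {a₁, a₂} hI (e.inv x)
    rcases haS with rfl | rfl
    · exact Or.inl hx
    · exact Or.inr hx
  haveI : IsSeparated b :=
    (BlowUpLib.isProper_of_isBlowUp hb (fun U => ?_)).toIsSeparated
  swap
  · haveI : IsLocallyNoetherian (Spec (CommRingCat.of A)) := inferInstance
    haveI := IsLocallyNoetherian.component_noetherian (X := Spec (CommRingCat.of A)) U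
    exact IsNoetherian.noetherian _
  haveI : X.IsSeparated :=
    ⟨by rw [Limits.terminal.hom_ext (terminal.from X) (b ≫ terminal.from _)]; infer_instance⟩
  haveI h₁' := QCohLib.subsingleton_HU_affine F (p + 1) (haff a₁ h₁)
  haveI h₂' := QCohLib.subsingleton_HU_affine F (p + 1) (haff a₂ h₂)
  haveI h₁₂ := QCohLib.subsingleton_HU_affine F p ((haff a₁ h₁).inf (haff a₂ h₂))
  have h := QCohLib.subsingleton_sup' (F := (QCohLib.toAbF X).obj F) (n := p + 1) (U := O a₁ h₁) (V := O a₂ h₂)
  rw [hsup] at h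
  exact (QCohLib.subsingleton_H_iff _ _).2 h

/-- Let A be a regular local ring of dimension two and b : X → Spec A a blowing up in the maximal ideal.
For every quasi-coherent O_X-module F and every p ≥ 2, H^p(X, F) = 0. -/
theorem result (A : Type u) [CommRing A] [IsRegularLocalRing A] (hA : ringKrullDim A = 2)
    (X : Scheme.{u}) (b : X ⟶ Spec (CommRingCat.of A)) (hb : BlowUp.IsBlowUp b (Curv2.idealSheaf A (IsLocalRing.maximalIdeal A)))
    (F : X.Modules) (hF : Coh.IsQCoh F) (p : ℕ) (hp : 2 ≤ p) : Subsingleton (Coh.HH X F p) := by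
  haveI : Coh.IsQCoh F := hF
  obtain ⟨s, hs, hspan⟩ := Submodule.FG.exists_span_finset_card_eq_spanFinrank
    (IsNoetherian.noetherian (IsLocalRing.maximalIdeal A))
  have hc : s.card = 2 := by
    have h := IsRegularLocalRing.spanFinrank_maximalIdeal (R := A)
    rw [hA] at h
    rw [hs]
    exact_mod_cast h
  classical
  obtain ⟨a₁, a₂, -, rfl⟩ := Finset.card_eq_two.1 hc
  obtain ⟨q, rfl⟩ := Nat.exists_eq_add_of_le hp
  rw [Nat.add_comm]
  exact subsingleton_of_two _ a₁ a₂ (by simpa using hspan) b hb F q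

end Groth.Agent.S1623
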