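import Groth.Statements.S1274
import Groth.Agent.RGFlatLib.Setup

set_option autoImplicit false
universe u
open FlatMor

namespace Groth.Agent.S1274

open AlgebraicGeometry CategoryTheory Limits in
/-- Let φ : X → S be proper with S quasi-compact and quasi-separated, and U ⊆ S a quasi-compact open
over which φ is an isomorphism. Then there is a U-admissible blow-up b : S' → S which dominates X,
i.e. b factors as S' → X → S. -/
theorem result {X S : Scheme.{u}} [CompactSpace S] [QuasiSeparatedSpace S]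
    (φ : X ⟶ S) [IsProper φ] (U : S.Opens) (hU : IsCompact (U : Set S)) [IsIso (φ ∣_ U)] :
    ∃ (𝓘 : S.IdealSheafData) (S' : Scheme.{u}) (b : S' ⟶ S), BlowUp.IsBlowUp b 𝓘 ∧ BlowUp.IsAdmissibleFor U 𝓘 ∧
      ∃ h : S' ⟶ X, h ≫ φ = b := by
  obtain ⟨𝓚, S', b, hb, hadm, hprop, hiso, hint, hflat⟩ := RGFlatLib.exists_flattening_blowUp φ U hU
  refine ⟨𝓚, S', b, hb, hadm, ?_⟩
  have hpb := IsPullback.of_hasPullback φ b
  obtain ⟨𝒥, h𝒥⟩ := RGFlatLib.exists_strictIdeal hb.1 (pullback.snd φ b)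
  rw [← RGFlatLib.exceptional_eq hpb] at h𝒥
  obtain ⟨hF, hP, hQ, hι, -⟩ := hflat _ _ _ hpb 𝒥 h𝒥
  haveI : IsProper (pullback.snd φ b) := inferInstance
  have h1 : IsIso ((𝒥.subschemeι ≫ pullback.snd φ b) ∣_ (b ⁻¹ᵁ U)) :=
    RGFlatLib.strict_restrict hpb (MorphismProperty.isomorphisms Scheme.{u}) ‹IsIso (φ ∣_ U)› hι
  haveI : IsIso ((𝒥.subschemeι ≫ pullback.snd φ b) ∣_ ModPair.interior (𝓚.comap b)) := by rw [hint]; exact h1
  haveI := RGFlatLib.mono_of_flat_of_interior (𝒥.subschemeι ≫ pullback.snd φ b) hb.1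
  haveI : IsOpenImmersion (𝒥.subschemeι ≫ pullback.snd φ b) := IsOpenImmersion.of_flat_of_mono _
  haveI := RGFlatLib.isIso_of_proper_of_interior (𝒥.subschemeι ≫ pullback.snd φ b) hb.1
  refine ⟨inv (𝒥.subschemeι ≫ pullback.snd φ b) ≫ 𝒥.subschemeι ≫ pullback.fst φ b, ?_⟩
  rw [Category.assoc, Category.assoc, pullback.condition]
  rw [← Category.assoc 𝒥.subschemeι, IsIso.inv_hom_id_assoc]

end Groth.Agent.S1274
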