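import Groth.Statements.S6881
import Groth.Agent.ReflexLib.Ops

set_option autoImplicit false
set_option linter.style.haveILetI false
universe u
open CAlg

namespace Groth.Agent.S6881

/-- For `A` a Noetherian integrally closed domain with fraction field `K` and `L/K` a finite field
extension, if the integral closure of `A` in `L` is a finitely generated `A`-module then it is a
reflexive `A`-module. -/
theorem result (A K L : Type u) [CommRing A] [IsDomain A] [IsNoetherianRing A]
    [IsIntegrallyClosed A] [Field K] [Algebra A K] [IsFractionRing A K] [Field L] [Algebra K L] [FiniteDimensional K L]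
    [Algebra A L] [IsScalarTower A K L] [Module.Finite A ↥(integralClosure A L)] :
    Module.IsReflexive A ↥(integralClosure A L) := by
  let B := integralClosure A L
  have hinjL : Function.Injective (algebraMap A L) := by
    rw [IsScalarTower.algebraMap_eq A K L]
    exact (algebraMap K L).injective.comp (IsFractionRing.injective A K)
  haveI : Module.IsTorsionFree A L := ⟨fun r hr x y (h : r • x = r • y) => by
    rw [Algebra.smul_def, Algebra.smul_def] at h
    exact mul_left_cancel₀ ((map_ne_zero_iff _ hinjL).2 hr.ne_zero) h⟩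
  haveI : Module.IsTorsionFree A B := Subtype.val_injective.moduleIsTorsionFree _ fun _ _ => rfl
  let ev := Module.Dual.eval A B
  refine ⟨⟨ReflexLib.eval_injective _, fun z => ?_⟩⟩
  obtain ⟨c, hc, b, hb⟩ := ReflexLib.exists_smul_eq_eval (M := B) z
  let Φ : Module.Dual A B →ₗ[A] Module.Dual A B :=
    { toFun := fun φ =>
        { toFun := fun x => z (φ ∘ₗ LinearMap.mulLeft A x)
          map_add' := fun x y => by rw [← map_add]; congr 1; ext t; simp [add_mul]
          map_smul' := fun r x => by rw [RingHom.id_apply, ← map_smul]; congr 1; ext t; simp }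
      map_add' := fun φ ψ => LinearMap.ext fun x => by simp [LinearMap.add_comp]
      map_smul' := fun r φ => LinearMap.ext fun x => by simp [LinearMap.smul_comp] }
  let T := Φ.dualMap
  have hT : ∀ x, c • T (ev x) = ev (x * b) := fun x => LinearMap.ext fun φ => by
    have h1 := LinearMap.congr_fun hb (φ ∘ₗ LinearMap.mulLeft A x)
    exact h1.symm
  have hTn : ∀ k : ℕ, c ^ k • (T ^ k) (ev 1) = ev (b ^ k) := fun k => by
    induction k with
    | zero => simp
    | succ k ih =>
      rw [pow_succ', pow_succ' T, Module.End.mul_apply, mul_smul, ← map_smul, ih, hT, pow_succ]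
  obtain ⟨P, hPm, hP⟩ := LinearMap.exists_monic_and_aeval_eq_zero A T
  have h2 : ∑ i ∈ Finset.range (P.natDegree + 1), (P.coeff i * c ^ (P.natDegree - i)) • b ^ i = 0 := by
    apply ReflexLib.eval_injective (A := A) B
    rw [map_sum, map_zero]
    have h3 : (Polynomial.aeval T P) (ev 1) = 0 := LinearMap.congr_fun hP (ev 1)
    rw [Polynomial.aeval_eq_sum_range, LinearMap.sum_apply] at h3
    have h4 := congrArg (fun y => c ^ P.natDegree • y) h3
    simp only [Finset.smul_sum, smul_zero] at h4
    refine Eq.trans (Finset.sum_congr rfl fun i hi => ?_) h4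
    rw [LinearMap.smul_apply, map_smul, ← hTn i, smul_smul, smul_smul]
    congr 1
    rw [mul_assoc, ← pow_add, Nat.sub_add_cancel (Nat.lt_succ_iff.1 (Finset.mem_range.1 hi)), mul_comm]
  have hc0 : algebraMap A L c ≠ 0 := (map_ne_zero_iff _ hinjL).2 hc
  let w : L := (b : L) / algebraMap A L c
  have hw : IsIntegral A w := by
    refine ⟨P, hPm, ?_⟩
    have h5 := congrArg (fun t : B => (t : L) / algebraMap A L c ^ P.natDegree) h2
    rw [← Polynomial.aeval_def, Polynomial.aeval_eq_sum_range]
    simp only [AddSubmonoidClass.coe_finsetSum, div_eq_mul_inv, Finset.sum_mul, ZeroMemClass.coe_zero, zero_mul] at h5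
    refine Eq.trans (Finset.sum_congr rfl fun i hi => ?_) h5
    have hle : i ≤ P.natDegree := Nat.lt_succ_iff.1 (Finset.mem_range.1 hi)
    obtain ⟨j, hj⟩ := Nat.exists_eq_add_of_le hle
    simp only [Algebra.smul_def, Subalgebra.coe_mul, Subalgebra.coe_algebraMap, SubmonoidClass.coe_pow, map_mul, map_pow, w,
      div_eq_mul_inv, mul_pow, inv_pow, hj, Nat.add_sub_cancel_left]
    field_simp
    ring
  refine ⟨⟨w, hw⟩, ?_⟩
  have h6 : c • ev ⟨w, hw⟩ = c • z := by
    rw [← hb, ← map_smul]
    congr 1
    exact Subtype.ext (show c • w = (b : L) by rw [Algebra.smul_def]; exact mul_div_cancel₀ _ hc0)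
  exact smul_right_injective _ hc h6

end Groth.Agent.S6881
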