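import Groth.Statements.S9246
import Mathlib
import Groth.Agent.EtStalkLib.Basic
-- import your own Groth.Agent.* helpers here

set_option autoImplicit false
universe u
open CAlg

namespace Groth.Agent.S9246

/-- Let A → B be an étale ring map and q a prime of B lying over the prime p of A. Then A_p is a regular
local ring if and only if B_q is a regular local ring. -/
theorem result (A B : Type u) [CommRing A] [CommRing B]
    [Algebra A B] [Algebra.Etale A B] (q : Ideal B) [q.IsPrime] :
    IsRegularLocalRing (Localization.AtPrime (Ideal.comap (algebraMap A B) q)) ↔
      IsRegularLocalRing (Localization.AtPrime q) := by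
  set p := Ideal.comap (algebraMap A B) q
  haveI : q.LiesOver p := ⟨rfl⟩
  letI := Localization.AtPrime.algebraOfLiesOver p q
  haveI : Module.Flat A B := inferInstance
  haveI : Module.Flat (Localization.AtPrime p) (Localization.AtPrime q) := by
    haveI : Module.Flat A (Localization.AtPrime q) := Module.Flat.trans A B _
    exact (Module.flat_iff_of_isLocalization (Localization.AtPrime p) p.primeCompl _).2 inferInstance
  haveI : IsLocalHom (algebraMap (Localization.AtPrime p) (Localization.AtPrime q)) :=
    Localization.isLocalHom_localRingHom p q (algebraMap A B) rfl
  haveI : Module.FaithfullyFlat (Localization.AtPrime p) (Localization.AtPrime q) :=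
    Module.FaithfullyFlat.of_flat_of_isLocalHom
  haveI : Algebra.FormallyUnramified A (Localization.AtPrime q) := Algebra.FormallyUnramified.comp A B _
  haveI : Algebra.FormallyUnramified (Localization.AtPrime p) (Localization.AtPrime q) :=
    Algebra.FormallyUnramified.of_restrictScalars A _ _
  haveI : Algebra.EssFiniteType A (Localization.AtPrime q) := Algebra.EssFiniteType.comp A B _
  haveI : Algebra.EssFiniteType (Localization.AtPrime p) (Localization.AtPrime q) :=
    Algebra.EssFiniteType.of_comp A _ _
  have hm := Algebra.FormallyUnramified.map_maximalIdeal (R := Localization.AtPrime p) (S := Localization.AtPrime q)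
  constructor
  · intro h
    haveI : IsNoetherianRing (Localization.AtPrime q) := Algebra.EssFiniteType.isNoetherianRing (Localization.AtPrime p) _
    exact (HenselDesc.isRegularLocalRing_iff_of_flat_unramified' _ _ hm).2 h
  · intro h
    haveI : IsNoetherianRing (Localization.AtPrime p) :=
      HenselLib.isNoetherianRing_of_faithfullyFlat' (B := Localization.AtPrime q)
    exact (HenselDesc.isRegularLocalRing_iff_of_flat_unramified' _ _ hm).1 h

end Groth.Agent.S9246
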