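import Groth.Statements.S4360
import Mathlib

set_option autoImplicit false
universe u
open FinCond

namespace Groth.Agent.S4360

open AlgebraicGeometry in
open CategoryTheory in
/-- Let f : X -> Y be an immersion and suppose that the underlying space of Y is locally Noetherian,
i.e. every point of Y has an open neighbourhood which is a Noetherian topological space. Then f is
quasi-compact (and hence of finite type, an immersion being locally of finite type). -/
theorem result
    {X Y : Scheme.{u}} (f : X ⟶ Y) [IsImmersion f]
    (hY : ∀ y : Y, ∃ U : Y.Opens, y ∈ U ∧ TopologicalSpace.NoetherianSpace U) :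
    QuasiCompact f := by
  refine ⟨fun W hW hWc => ?_⟩
  rw [f.isEmbedding.isInducing.isCompact_iff, Set.image_preimage_eq_inter_range]
  choose N hN hNn using hY
  obtain ⟨t, ht⟩ := hWc.elim_finite_subcover (fun y => (N y : Set Y)) (fun y => (N y).isOpen)
    (fun y _ => Set.mem_iUnion.2 ⟨y, hN y⟩)
  have : W ∩ Set.range f = ⋃ y ∈ t, (W ∩ Set.range f) ∩ (N y : Set Y) := by
    ext z
    simp only [Set.mem_iUnion, Set.mem_inter_iff]
    exact ⟨fun h => by
      obtain ⟨y, hy, hz⟩ := Set.mem_iUnion₂.1 (ht h.1)
      exact ⟨y, hy, h, hz⟩, fun ⟨_, _, h, _⟩ => h⟩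
  rw [this]
  refine t.finite_toSet.isCompact_biUnion fun y _ => ?_
  have : TopologicalSpace.NoetherianSpace (N y : Set Y) := hNn y
  have h2 := (TopologicalSpace.NoetherianSpace.isCompact
    (Subtype.val ⁻¹' (W ∩ Set.range f) : Set (N y : Set Y))).image continuous_subtype_val
  rwa [Subtype.image_preimage_coe, Set.inter_comm] at h2

end Groth.Agent.S4360
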