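import Groth.Statements.S4460
import Groth.Agent.FormalProLib.Main
import Groth.Agent.FormalProLib.Proper

set_option autoImplicit false
universe u
open Formal

namespace Groth.Agent.S4460

open AlgebraicGeometry CategoryTheory in
/-- In the inverse-limit form. Let A be a Noetherian ring separated and complete for the I-adic
topology, X a scheme of finite type over Spec A and M a coherent O_X-module whose support is proper
over Spec A. Then for every p the canonical map from H^p(X, M) to the inverse limit of the groups
H^p(X, M/I^(n+1)M) is bijective. -/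
theorem result (A : Type u) [CommRing A] [IsNoetherianRing A] (I : Ideal A)
    [IsAdicComplete I A] (X : Scheme.{u}) [X.Over (Spec (CommRingCat.of A))]
    [LocallyOfFiniteType (X ↘ Spec (CommRingCat.of A))] [QuasiCompact (X ↘ Spec (CommRingCat.of A))]
    (M : X.Modules) (hM : Coh.IsCoh M)
    (hs : ClSub.IsProperOver (X ↘ Spec (CommRingCat.of A)) (CohB1.support M)) (p : ℕ) :
    Function.Bijective (Formal.toHHlim I M p) := by
  have : IsLocallyNoetherian X := LocallyOfFiniteType.isLocallyNoetherian (X ↘ Spec (CommRingCat.of A))
  have : CompactSpace X := QuasiCompact.compactSpace_of_compactSpace (X ↘ Spec (CommRingCat.of A))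
  have : AlgebraicGeometry.IsNoetherian X := {}
  have hfin : ∀ q : ℕ, Module.Finite A (Coh.HH X M q) := fun q =>
    FormalProLib.finiteCoh_of_properSupport (X ↘ Spec (CommRingCat.of A)) M hM hs q
  have := hfin p
  have hinj : Function.Injective (AdicCompletion.of I (Coh.HH X M p)) := by
    have : IsHausdorff I (Coh.HH X M p) := ⟨fun x hx => by
      have h := Ideal.iInf_pow_smul_eq_bot_of_le_jacobson (M := Coh.HH X M p) I (IsAdicComplete.le_jacobson_bot I)
      rw [← Submodule.mem_bot (R := A), ← h, Submodule.mem_iInf]
      exact fun i => by simpa [SModEq.zero] using hx i⟩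
    exact AdicCompletion.of_injective I _
  have hsurj : Function.Surjective (AdicCompletion.of I (Coh.HH X M p)) := fun h => by
    obtain ⟨t, rfl⟩ := AdicCompletion.ofTensorProduct_surjective_of_finite I (Coh.HH X M p) h
    induction t using TensorProduct.induction_on with
    | zero => exact ⟨0, by rw [map_zero, map_zero]⟩
    | tmul r x =>
      obtain ⟨a, rfl⟩ := AdicCompletion.of_surjective I A r
      refine ⟨a • x, ?_⟩
      rw [AdicCompletion.ofTensorProduct_tmul, map_smul]
      exact AdicCompletion.ext fun i => rfl
    | add a b ha hb =>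
      obtain ⟨u, hu⟩ := ha
      obtain ⟨v, hv⟩ := hb
      exact ⟨u + v, by rw [map_add, map_add, hu, hv]⟩
  have : Formal.toHHlim I M p = (FormalLib.toLim I p).comp (AdicCompletion.of I (Coh.HH X M p)).toAddMonoidHom :=
    AddMonoidHom.ext fun x => Subtype.ext (funext fun n => rfl)
  rw [this]
  exact (FormalProLib.toLim_bijective I hM hfin p).comp ⟨hinj, hsurj⟩

end Groth.Agent.S4460
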