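import Mathlib.RingTheory.Regular.RegularSequence
import Mathlib.LinearAlgebra.Quotient.Pi

/-!
Acyclicity lemma: a complex in degrees `≥ 0` whose terms admit a common regular sequence of length
`g` and whose homology is `𝔪`-power torsion below degree `g` is exact below degree `g`.
-/

universe u

open RingTheory.Sequence Pointwise

namespace AcyclicTorLib

variable {R : Type u} [CommRing R]

/-- The image in degree `i`. -/
def img {X : ℕ → Type u} [∀ i, AddCommGroup (X i)] [∀ i, Module R (X i)]
    (d : ∀ i, X i →ₗ[R] X (i + 1)) : ∀ i, Submodule R (X i)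
  | 0 => ⊥
  | i + 1 => LinearMap.range (d i)

lemma isWeaklyRegular_pi {ι : Type} [Fintype ι] [DecidableEq ι] : ∀ (rs : List R) (M : Type u) [AddCommGroup M]
    [Module R M], IsWeaklyRegular M rs → IsWeaklyRegular (ι → M) rs
  | [], _, _, _, _ => IsWeaklyRegular.nil R _
  | x :: rs, M, _, _, h => by
    rw [isWeaklyRegular_cons_iff] at h ⊢
    refine ⟨fun a b hab => funext fun i => h.1 (congrFun hab i), ?_⟩
    have e : (x • (⊤ : Submodule R (ι → M))) =
        Submodule.pi Set.univ (fun _ : ι => x • (⊤ : Submodule R M)) := by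
      ext v
      simp only [Submodule.mem_smul_pointwise_iff_exists, Submodule.mem_top, true_and, Submodule.mem_pi,
        Set.mem_univ, forall_const]
      exact ⟨fun ⟨w, hw⟩ i => ⟨w i, congrFun hw i⟩, fun hv => ⟨fun i => (hv i).choose,
        funext fun i => (hv i).choose_spec⟩⟩
    exact (((Submodule.quotEquivOfEq _ _ e).trans
      (Submodule.quotientPi (fun _ : ι => x • (⊤ : Submodule R M)))).isWeaklyRegular_congr rs).2
      (isWeaklyRegular_pi rs _ h.2)

theorem mem_img_of_torsion : ∀ (rs : List R) (m : Ideal R), m ≤ Ideal.jacobson ⊥ → (∀ r ∈ rs, r ∈ m) →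
    ∀ (X : ℕ → Type u) [∀ i, AddCommGroup (X i)] [∀ i, Module R (X i)]
      (d : ∀ i, X i →ₗ[R] X (i + 1)), (∀ i x, d (i + 1) (d i x) = 0) →
      (∀ i, IsWeaklyRegular (X i) rs) →
      (∀ i, i < rs.length → ∀ y, d i y = 0 → ∀ a ∈ m, ∃ N : ℕ, a ^ N • y ∈ img d i) →
      ∀ i, i < rs.length → ∀ y, d i y = 0 → y ∈ img d i
  | [], _, _, _, _, _, _, _, _, _, _, _, hi, _, _ => absurd hi (Nat.not_lt_zero _)
  | x :: rs, m, hm, hrs, X, _, _, d, hdd, hreg, htor, i, hi, y, hy => by
    have hx : ∀ i, IsSMulRegular (X i) x := fun i => ((isWeaklyRegular_cons_iff _ _ _).1 (hreg i)).1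
    have hxm : x ∈ m := hrs x List.mem_cons_self
    let Y : ℕ → Type u := fun i => QuotSMulTop x (X i)
    let q : ∀ i, X i →ₗ[R] Y i := fun i => Submodule.mkQ _
    have hq : ∀ i v, q i v = 0 ↔ ∃ w, x • w = v := fun i v => by
      show Submodule.mkQ (x • (⊤ : Submodule R (X i))) v = 0 ↔ _
      rw [Submodule.mkQ_apply, Submodule.Quotient.mk_eq_zero, Submodule.mem_smul_pointwise_iff_exists]
      simp
    let e : ∀ i, Y i →ₗ[R] Y (i + 1) := fun i => Submodule.mapQ _ _ (d i) (by
      intro v hv
      obtain ⟨w, -, rfl⟩ := (Submodule.mem_smul_pointwise_iff_exists _ _ _).1 hv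
      exact (Submodule.mem_smul_pointwise_iff_exists _ _ _).2 ⟨d i w, Submodule.mem_top, (map_smul _ _ _).symm⟩)
    have he : ∀ i v, e i (q i v) = q (i + 1) (d i v) := fun i v => rfl
    have hY : ∀ i, i < rs.length → ∀ z, e i z = 0 → z ∈ img e i := by
      refine mem_img_of_torsion rs m hm (fun r hr => hrs r (List.mem_cons_of_mem _ hr)) Y e
        (fun i z => by
          obtain ⟨v, rfl⟩ := Submodule.mkQ_surjective _ z
          show q (i + 2) (d (i + 1) (d i v)) = 0
          rw [hdd, map_zero])
        (fun i => ((isWeaklyRegular_cons_iff _ _ _).1 (hreg i)).2) ?_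
      intro i hi z hz a ha
      obtain ⟨v, rfl⟩ := Submodule.mkQ_surjective _ z
      obtain ⟨w, hw⟩ := (hq _ _).1 ((he i v).symm.trans hz)
      have hdw : d (i + 1) w = 0 := hx (i + 2) (by
        show x • _ = x • _
        rw [← map_smul, hw, hdd, smul_zero])
      obtain ⟨N, hN⟩ := htor (i + 1) (by simp only [List.length_cons]; omega) w hdw a ha
      obtain ⟨t, ht⟩ := hN
      have hker : d i (a ^ N • v - x • t) = 0 := by
        rw [map_sub, map_smul, map_smul, ← hw, ht, smul_comm, sub_self]
      obtain ⟨N', hN'⟩ := htor i (by simp only [List.length_cons]; omega) _ hker a ha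
      refine ⟨N' + N, ?_⟩
      have h1 : a ^ (N' + N) • v = a ^ N' • (a ^ N • v - x • t) + x • (a ^ N' • t) := by
        rw [smul_sub, smul_comm x, sub_add_cancel, pow_add, mul_smul]
      show a ^ (N' + N) • q i v ∈ img e i
      rw [← map_smul, h1, map_add, (hq i (x • (a ^ N' • t))).2 ⟨_, rfl⟩, add_zero]
      cases i with
      | zero =>
        rw [show a ^ N' • (a ^ N • v - x • t) = 0 from hN', map_zero]
        exact zero_mem _
      | succ j =>
        obtain ⟨s, hs⟩ := hN'
        exact ⟨q j s, by rw [he, hs]⟩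
    -- multiplication by `x` is injective on the homology in degree `i`
    have hinj : ∀ v, d i v = 0 → x • v ∈ img d i → v ∈ img d i := by
      intro v hv hxv
      cases i with
      | zero =>
        have h0 : x • v = 0 := hxv
        rw [show v = 0 from hx 0 (by show x • v = x • 0; rw [h0, smul_zero])]
        exact zero_mem _
      | succ j =>
        obtain ⟨w, hw⟩ := hxv
        have hz : e j (q j w) = 0 := by rw [he, hw]; exact (hq _ _).2 ⟨v, rfl⟩
        have := hY j (by simp only [List.length_cons] at hi; omega) _ hz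
        cases j with
        | zero =>
          obtain ⟨w', rfl⟩ := (hq _ _).1 (show q 0 w = 0 from this)
          exact ⟨w', hx 1 (by show x • _ = x • _; rw [← map_smul, hw])⟩
        | succ l =>
          obtain ⟨u, hu⟩ := this
          obtain ⟨u, rfl⟩ := Submodule.mkQ_surjective _ u
          obtain ⟨w', hw'⟩ := (hq _ _).1 (show q (l + 1) (w - d l u) = 0 by
            rw [map_sub, ← hu]; exact sub_self _)
          refine ⟨w', hx (l + 2) ?_⟩
          show x • _ = x • _
          rw [← map_smul, hw', map_sub, hdd, sub_zero, hw]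
    obtain ⟨N, hN⟩ := htor i hi y hy x hxm
    clear hY
    induction N with
    | zero => simpa using hN
    | succ N ih =>
      rw [pow_succ', mul_smul] at hN
      exact ih (hinj _ (by rw [map_smul, hy, smul_zero]) hN)

end AcyclicTorLib
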