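import Groth.Statements.S2461
import Groth.Agent.CohenLib.FSAdic

set_option autoImplicit false
universe u
open EGA41

namespace Groth.Agent.S2461

/-- Let A carry the 𝔞-adic topology and let B be a Noetherian A-algebra with the 𝔟-adic topology. Then B
is formally smooth over A if and only if the 𝔟-adic completion of B, with the adic topology of the
extended ideal, is formally smooth over A. -/
theorem result {A B : Type u} [CommRing A] (𝔞 : Ideal A) [CommRing B] [IsNoetherianRing B] [Algebra A B] (𝔟 : Ideal B) :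
    EGA41.IsFormallySmoothAdic A 𝔞 B 𝔟 ↔
      EGA41.IsFormallySmoothAdic A 𝔞 (AdicCompletion 𝔟 B) (𝔟.map (algebraMap B (AdicCompletion 𝔟 B))) := by
  have hker : ∀ k : ℕ, RingHom.ker (AdicCompletion.evalₐ 𝔟 k).toRingHom =
      (𝔟.map (algebraMap B (AdicCompletion 𝔟 B))) ^ k := fun k => by
    rw [← Ideal.map_pow]
    exact CohenLib.ker_evalₐ_eq_map 𝔟 k (IsNoetherian.noetherian _)
  constructor
  · intro h C _ _ J hJ hk u hu
    obtain ⟨k, hu⟩ := hu
    obtain ⟨v, hv⟩ := h C J hJ hk (u.comp (IsScalarTower.toAlgHom A B (AdicCompletion 𝔟 B)))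
      ⟨k, fun x hx => hu _ (by rw [← Ideal.map_pow]; exact Ideal.mem_map_of_mem _ hx)⟩
    obtain ⟨N, hN⟩ := hJ
    have hvk : ∀ x ∈ 𝔟 ^ (k * N), v x = 0 := fun x hx => by
      have h1 : (𝔟 ^ k).map v ≤ J := Ideal.map_le_iff_le_comap.2 fun y hy => by
        have h2 := AlgHom.congr_fun hv y
        rw [show (u.comp (IsScalarTower.toAlgHom A B (AdicCompletion 𝔟 B))) y = 0 from
          hu _ (by rw [← Ideal.map_pow]; exact Ideal.mem_map_of_mem _ hy)] at h2
        exact (Ideal.Quotient.eq_zero_iff_mem (I := J)).1 h2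
      have h2 := Ideal.pow_right_mono h1 N
      rw [← Ideal.map_pow, ← pow_mul, hN, Ideal.zero_eq_bot] at h2
      exact h2 (Ideal.mem_map_of_mem v hx)
    let w : AdicCompletion 𝔟 B →+* C :=
      (Ideal.Quotient.lift _ v.toRingHom hvk).comp (AdicCompletion.evalₐ 𝔟 (k * N)).toRingHom
    have hw : ∀ b, w (algebraMap B (AdicCompletion 𝔟 B) b) = v b := fun b => by
      show Ideal.Quotient.lift _ v.toRingHom hvk (AdicCompletion.evalₐ 𝔟 _ (algebraMap B _ b)) = _
      rw [AlgHom.commutes]
      rfl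
    refine ⟨{ w with commutes' := fun a => ?_ }, AlgHom.ext fun z => ?_⟩
    · show w (algebraMap A _ a) = _
      rw [IsScalarTower.algebraMap_apply A B (AdicCompletion 𝔟 B), hw, AlgHom.commutes]
    · show Ideal.Quotient.mk J (w z) = u z
      obtain ⟨b, hb⟩ := Ideal.Quotient.mk_surjective (AdicCompletion.evalₐ 𝔟 (k * N + k) z)
      have hz : z - algebraMap B _ b ∈ (𝔟.map (algebraMap B (AdicCompletion 𝔟 B))) ^ (k * N + k) := by
        rw [← hker, RingHom.mem_ker, map_sub]
        show AdicCompletion.evalₐ 𝔟 _ z - AdicCompletion.evalₐ 𝔟 _ (algebraMap B _ b) = 0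
        rw [AlgHom.commutes, ← hb]
        exact sub_self _
      have h1 : z - algebraMap B _ b ∈ RingHom.ker (AdicCompletion.evalₐ 𝔟 (k * N)).toRingHom := by
        rw [hker]
        exact Ideal.pow_le_pow_right (Nat.le_add_right _ _) hz
      have h2 : w (z - algebraMap B _ b) = 0 := by
        show Ideal.Quotient.lift _ v.toRingHom hvk _ = 0
        rw [show (AdicCompletion.evalₐ 𝔟 (k * N)).toRingHom (z - algebraMap B _ b) = 0 from h1, map_zero]
      have h3 := hu _ (Ideal.pow_le_pow_right (Nat.le_add_left _ _) hz)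
      rw [map_sub, sub_eq_zero] at h2 h3
      rw [h2, hw, h3]
      exact AlgHom.congr_fun hv b
  · intro h C _ _ J hJ hk u hu
    obtain ⟨k, hu⟩ := hu
    let ub : AdicCompletion 𝔟 B →ₐ[A] C ⧸ J :=
      { (Ideal.Quotient.lift _ u.toRingHom hu).comp (AdicCompletion.evalₐ 𝔟 k).toRingHom with
        commutes' := fun a => by
          show Ideal.Quotient.lift _ u.toRingHom hu (AdicCompletion.evalₐ 𝔟 k (algebraMap A _ a)) = _
          rw [IsScalarTower.algebraMap_apply A B (AdicCompletion 𝔟 B), AlgHom.commutes]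
          exact u.commutes a }
    obtain ⟨v, hv⟩ := h C J hJ hk ub ⟨k, fun x hx => by
      rw [← hker, RingHom.mem_ker] at hx
      show Ideal.Quotient.lift _ u.toRingHom hu _ = 0
      rw [hx, map_zero]⟩
    refine ⟨v.comp (IsScalarTower.toAlgHom A B (AdicCompletion 𝔟 B)), AlgHom.ext fun b => ?_⟩
    refine (AlgHom.congr_fun hv (algebraMap B _ b)).trans ?_
    show Ideal.Quotient.lift _ u.toRingHom hu (AdicCompletion.evalₐ 𝔟 k (algebraMap B _ b)) = _
    rw [AlgHom.commutes]
    rfl

end Groth.Agent.S2461
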