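import Groth.Statements.S2462
import Groth.Agent.CohenLib.FSAdic
import Mathlib.RingTheory.Filtration

set_option autoImplicit false
universe u
open EGA41

namespace Groth.Agent.S2462

open IsLocalRing in
/-- Let A carry the 𝔞-adic and B the 𝔟-adic topology with B formally smooth over A; let C be a complete
Noetherian local A-algebra with 𝔞C inside the maximal ideal (continuity of A → C) and J ≠ C an
ideal. Then every A-algebra homomorphism u : B → C/J sending 𝔟 into the maximal ideal of C/J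
(continuity) is induced by an A-algebra homomorphism v : B → C sending 𝔟 into the maximal ideal of
C. -/
theorem result {A B C : Type u} [CommRing A] (𝔞 : Ideal A) [CommRing B] [Algebra A B] (𝔟 : Ideal B)
    (hB : EGA41.IsFormallySmoothAdic A 𝔞 B 𝔟)
    [CommRing C] [IsLocalRing C] [IsNoetherianRing C] [IsAdicComplete (maximalIdeal C) C] [Algebra A C]
    (hA : 𝔞.map (algebraMap A C) ≤ maximalIdeal C) (J : Ideal C) (hJ : J ≠ ⊤)
    (u : B →ₐ[A] C ⧸ J) (hu : 𝔟.map u.toRingHom ≤ (maximalIdeal C).map (Ideal.Quotient.mk J)) :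
    ∃ v : B →ₐ[A] C, 𝔟.map v.toRingHom ≤ maximalIdeal C ∧ (Ideal.Quotient.mkₐ A J).comp v = u := by
  have : Nontrivial (C ⧸ J) := Ideal.Quotient.nontrivial_iff.2 hJ
  have : IsLocalRing (C ⧸ J) := IsLocalRing.of_surjective' _ Ideal.Quotient.mk_surjective
  have : IsHausdorff ((maximalIdeal C).map (Ideal.Quotient.mk J)) (C ⧸ J) := by
    rw [IsLocalRing.map_maximalIdeal_of_surjective _ Ideal.Quotient.mk_surjective]
    exact inferInstance
  obtain ⟨v, ⟨k, hk⟩, hv⟩ := CohenLib.exists_lift_adicComplete 𝔞 𝔟 (maximalIdeal C) hB ⟨1, by rwa [pow_one]⟩ J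
    ⟨1, by rw [pow_one]; exact IsLocalRing.le_maximalIdeal hJ⟩ u ⟨1, by rwa [pow_one]⟩
  refine ⟨v, ?_, hv⟩
  rw [Ideal.map_le_iff_le_comap]
  intro x hx
  refine (IsLocalRing.maximalIdeal.isMaximal C).isPrime.mem_of_pow_mem k ?_
  show v x ^ k ∈ _
  rw [← map_pow]
  exact hk (Ideal.mem_map_of_mem v.toRingHom (Ideal.pow_mem_pow hx k))

end Groth.Agent.S2462
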