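import Groth.Statements.S4512
import Groth.Agent.CohenLib.GeomRegField
import Groth.Agent.CohenLib.DerExt

set_option autoImplicit false
universe u
open EGA41

namespace Groth.Agent.S4512

open IsLocalRing in
/-- Let k be a field and A a Noetherian local k-algebra with residue field K, and suppose A is formally
smooth over k for the adic topology of its maximal ideal (k discrete). Then A is geometrically
regular over k, i.e. A ⊗_k k' is a regular ring for every finite extension k' of k; and the adic
completion of A is isomorphic, as a ring, to a power series ring K[[T_1, …, T_n]] (existence of a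
ring isomorphism; no compatibility with k is asserted, and none holds in general when K is
inseparable over k). -/
theorem result {k A : Type u} [Field k] [CommRing A]
    [IsLocalRing A] [IsNoetherianRing A] [Algebra k A] (h : CAlgX.IsAdicFormallySmooth k A (maximalIdeal A)) :
    CAlg.IsGeometricallyRegular k A ∧
      ∃ n : ℕ, Nonempty (AdicCompletion (maximalIdeal A) A ≃+* MvPowerSeries (Fin n) (ResidueField A)) := by
  refine ⟨fun k' _ _ _ => CohenLib.LiftsAdic.isRegularRing_baseChange h k', ?_⟩
  obtain ⟨P, hP, -⟩ := CohenLib.exists_perfect_subfield k
  have hreg : IsRegularLocalRing A := CohenLib.isRegularLocalRing_of_liftsAdic' h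
  have : Algebra.FormallySmooth P (IsLocalRing.ResidueField A) :=
    Groth.Agent.PerfectFieldLib.formallySmooth_of_perfectField P (IsLocalRing.ResidueField A)
  obtain ⟨n, e, -⟩ := CohenLib.exists_equiv_of_liftsAdic (CohenLib.liftsAdic_of_regular P A)
  exact ⟨n, ⟨e⟩⟩

end Groth.Agent.S4512
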