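import Groth.Statements.S0422
import Groth.Agent.FlatLib.FibMaster

set_option autoImplicit false
universe u
open FlatMor

namespace Groth.Agent.S0422

open TensorProduct in
/-- Fibrewise criterion of flatness modulo a locally nilpotent ideal: let R → S be of finite type, S' an
S-algebra which is of finite presentation over R, I an ideal of R all of whose elements are
nilpotent, and M a finitely presented S'-module which is flat over R and such that M/IM is flat over
S/IS. Then M is flat over S. (The published statement also asserts flatness over R of suitable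
localizations of S; that part is not stated here.) -/
theorem result {R S S' M : Type u} [CommRing R] [CommRing S] [CommRing S'] [Algebra R S] [Algebra S S'] [Algebra R S'] [IsScalarTower R S S']
    [Algebra.FiniteType R S] [Algebra.FinitePresentation R S'] (I : Ideal R) (hI : ∀ a ∈ I, IsNilpotent a)
    [AddCommGroup M] [Module S' M] [Module S M] [Module R M] [IsScalarTower S S' M] [IsScalarTower R S M]
    [Module.FinitePresentation S' M] [Module.Flat R M]
    (h : Module.Flat (S ⧸ I.map (algebraMap R S)) ((S ⧸ I.map (algebraMap R S)) ⊗[S] M)) : Module.Flat S M := by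
  haveI : IsScalarTower R S' M := IsScalarTower.of_algebraMap_smul fun r m ↦ by
    rw [IsScalarTower.algebraMap_apply R S S', algebraMap_smul, algebraMap_smul]
  refine Module.flat_of_isLocalized_maximal S' M (fun P ↦ LocalizedModule P.primeCompl M)
    (fun P ↦ LocalizedModule.mkLinearMap _ M) fun P hP ↦ ?_
  haveI := hP.isPrime
  let q : PrimeSpectrum S' := ⟨P, inferInstance⟩
  rcases subsingleton_or_nontrivial (LocalizedModule P.primeCompl M) with h0 | hnt
  · exact Module.Flat.of_free
  have hq : q ∈ FlatLib.flatLocus R S' M :=
    FlatLib.flat_localized P.primeCompl (LocalizedModule.mkLinearMap _ M)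
  have hle : I.map (algebraMap R S) ≤ (q.asIdeal.comap (algebraMap R S')).map (algebraMap R S) :=
    Ideal.map_mono fun a ha ↦ by
      obtain ⟨n, hn⟩ := hI a ha
      refine (Ideal.IsPrime.comap (algebraMap R S')).mem_of_pow_mem n ?_
      rw [hn]; exact zero_mem _
  have hfib : FlatLib.FibFlat S S' M ((q.asIdeal.comap (algebraMap R S')).map (algebraMap R S))
      q.asIdeal := fun N _ _ hN K x hx ↦ by
    refine ⟨1, P.primeCompl.one_mem, ?_⟩
    have hN' : Module.IsTorsionBySet S N (I.map (algebraMap R S) : Set S) := fun y c ↦
      hN (x := y) (a := ⟨c.1, hle c.2⟩)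
    letI := hN'.module
    haveI : IsScalarTower S (S ⧸ I.map (algebraMap R S)) N := hN'.isScalarTower
    let K' : Submodule (S ⧸ I.map (algebraMap R S)) N :=
      { K.toAddSubmonoid with
        smul_mem' := fun c y hy ↦ by
          obtain ⟨c, rfl⟩ := Ideal.Quotient.mk_surjective c
          rw [← Ideal.Quotient.algebraMap_eq, algebraMap_smul]
          exact K.smul_mem c hy }
    let eK : K ≃ₗ[S] K' :=
      { toFun := fun y ↦ ⟨y.1, y.2⟩
        invFun := fun y ↦ ⟨y.1, y.2⟩
        map_add' := fun _ _ ↦ rfl
        map_smul' := fun _ _ ↦ rfl }
    have hinj : Function.Injective (K.subtype.lTensor M) := by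
      rw [show K.subtype = (K'.subtype.restrictScalars S) ∘ₗ eK.toLinearMap from rfl,
        LinearMap.lTensor_comp]
      exact ((FlatLib.injective_lTensor_quotient_iff K'.subtype).mp
        (Module.Flat.lTensor_preserves_injective_linearMap
          (M := (S ⧸ I.map (algebraMap R S)) ⊗[S] M) K'.subtype Subtype.val_injective)).comp
        (LinearEquiv.lTensor M eK).injective
    rw [one_smul]
    exact hinj (hx.trans (map_zero _).symm)
  obtain ⟨U, -, hqU, hU⟩ := FlatLib.exists_open_of_fibFlat q hq hfib hnt
  exact (hU q hqU).1

end Groth.Agent.S0422
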