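import Groth.Statements.S16234
import Mathlib.RingTheory.HopkinsLevitzki
import Mathlib.RingTheory.Spectrum.Prime.Module
import Mathlib.RingTheory.Support
import Mathlib.RingTheory.Ideal.Quotient.Noetherian
import Mathlib.RingTheory.Ideal.Quotient.Operations
-- import your own Groth.Agent.* helpers here

set_option autoImplicit false
universe u v
open CAlg

namespace Groth.Agent.S16234

/-- For a finitely generated module M over a Noetherian commutative ring A, every prime ideal in the
support of M is a maximal ideal if and only if M has finite length. -/
theorem result (A : Type u) [CommRing A] [IsNoetherianRing A]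
    (M : Type v) [AddCommGroup M] [Module A M] [Module.Finite A M] :
    (∀ p ∈ Module.support A M, p.asIdeal.IsMaximal) ↔ IsFiniteLength A M := by
  constructor
  · intro h
    set J := Module.annihilator A M with hJ
    have hdim : ∀ P : Ideal (A ⧸ J), P.IsPrime → P.IsMaximal := by
      intro P hP
      have hmem : (⟨P.comap (Ideal.Quotient.mk J), Ideal.comap_isPrime _ _⟩ : PrimeSpectrum A) ∈ Module.support A M := by
        rw [Module.mem_support_iff_of_finite]
        intro x hx
        rw [← hJ] at hx
        rw [Ideal.mem_comap, Ideal.Quotient.eq_zero_iff_mem.mpr hx]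
        exact zero_mem P
      have hmax := h _ hmem
      rcases Ideal.map_eq_top_or_isMaximal_of_surjective (Ideal.Quotient.mk J)
        Ideal.Quotient.mk_surjective hmax with h1 | h1
      all_goals rw [Ideal.map_comap_of_surjective _ Ideal.Quotient.mk_surjective] at h1
      · exact absurd h1 hP.ne_top
      · exact h1
    have : IsArtinianRing (A ⧸ J) := by
      rw [isArtinianRing_iff_krullDimLE_zero]
      exact Ring.krullDimLE_zero_iff.mpr hdim
    rw [isFiniteLength_iff_isNoetherian_isArtinian]
    refine ⟨inferInstance, ?_⟩
    letI : Module (A ⧸ J) M := Module.IsTorsionBySet.module (I := J) (M := M)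
      (fun m a => Module.mem_annihilator.mp a.2 m)
    have : IsScalarTower A (A ⧸ J) M := Module.IsTorsionBySet.isScalarTower _
    have : Module.Finite (A ⧸ J) M := Module.Finite.of_restrictScalars_finite A _ _
    have : IsArtinian (A ⧸ J) M := inferInstance
    exact isArtinian_of_surjective_algebraMap (R := A ⧸ J) (S := A) Ideal.Quotient.mk_surjective
  · intro h p hp
    obtain ⟨-, hA⟩ := isFiniteLength_iff_isNoetherian_isArtinian.mp h
    obtain ⟨s, hs⟩ := (Module.Finite.fg_top : (⊤ : Submodule A M).FG)
    let f : A →ₗ[A] (s → M) := LinearMap.pi fun m : s => LinearMap.toSpanSingleton A M m.1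
    have hker : LinearMap.ker f = (Module.annihilator A M : Submodule A A) := by
      ext a
      rw [LinearMap.mem_ker]
      constructor
      · intro ha
        rw [← Submodule.annihilator_top, Submodule.mem_annihilator]
        intro m _
        have hle : Submodule.span A (s : Set M) ≤ LinearMap.ker (LinearMap.lsmul A M a) :=
          Submodule.span_le.mpr fun x hx => congr_fun ha ⟨x, hx⟩
        exact hle (hs ▸ Submodule.mem_top)
      · intro ha
        funext x
        exact Module.mem_annihilator.mp ha x.1
    have : IsArtinian A (A ⧸ LinearMap.ker f) := isArtinian_of_linearEquiv f.quotKerEquivRange.symm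
    rw [hker] at this
    have : IsArtinianRing (A ⧸ Module.annihilator A M) := isArtinian_of_tower A this
    have hle : Module.annihilator A M ≤ p.asIdeal := Module.mem_support_iff_of_finite.mp hp
    have hP : (p.asIdeal.map (Ideal.Quotient.mk (Module.annihilator A M))).IsPrime :=
      Ideal.map_isPrime_of_surjective Ideal.Quotient.mk_surjective (by rwa [Ideal.mk_ker])
    have := IsArtinianRing.isMaximal_of_isPrime (p.asIdeal.map (Ideal.Quotient.mk (Module.annihilator A M)))
    have h2 := Ideal.comap_isMaximal_of_surjective (Ideal.Quotient.mk (Module.annihilator A M))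
      Ideal.Quotient.mk_surjective (K := p.asIdeal.map (Ideal.Quotient.mk (Module.annihilator A M)))
    rwa [Ideal.comap_map_of_surjective _ Ideal.Quotient.mk_surjective, ← RingHom.ker_eq_comap_bot,
      Ideal.mk_ker, sup_eq_left.mpr hle] at h2

end Groth.Agent.S16234
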