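import Groth.Statements.S1833
import Mathlib
import Groth.Agent.TLenLib.Core
import Groth.Agent.CycAlgLib.EndoQuot
-- import your own Groth.Agent.* helpers here

set_option autoImplicit false
universe u v
open Pointwise
open CycAlg

namespace Groth.Agent.S1833

/-- Let R be Noetherian local, M a finite R-module whose support has dimension at most 1, and x an
element with M/xM supported in dimension ≤ 0. Then length(M/xM) = length(ker(x : M → M)) + Σ_q
ord_{R/q}(x) · length_{R_q}(M_q), the sum running over the primes q of the support other than the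
maximal ideal (stated in ℕ∞; all terms are finite under the hypotheses). -/
theorem result (R : Type u) [CommRing R] [IsNoetherianRing R] [IsLocalRing R] (M : Type u) [AddCommGroup M] [Module R M] [Module.Finite R M] (x : R) (h1 : Module.supportDim R M ≤ 1) (h0 : Module.supportDim R (M ⧸ x • (⊤ : Submodule R M)) ≤ 0) : Module.length R (M ⧸ x • (⊤ : Submodule R M)) = Module.length R (LinearMap.ker (LinearMap.lsmul R M x)) + ∑ᶠ (p : PrimeSpectrum R) (_ : p ∈ Module.support R M ∧ p.asIdeal ≠ IsLocalRing.maximalIdeal R), Ring.ord (R ⧸ p.asIdeal) (Ideal.Quotient.mk p.asIdeal x) * Module.length (Localization.AtPrime p.asIdeal) (LocalizedModule p.asIdeal.primeCompl M) := by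
  classical
  have hspan : Ideal.span {x} • (⊤ : Submodule R M) = x • ⊤ := Submodule.ideal_span_singleton_smul _ _
  have hT : LinearMap.ker (LinearMap.lsmul R M x) = Submodule.torsionBy R M x := rfl
  by_cases hu : IsUnit x
  · have hq : x • (⊤ : Submodule R M) = ⊤ := eq_top_iff.2 fun m _ => by
      obtain ⟨y, hy⟩ := hu.exists_left_inv
      exact Submodule.mem_smul_pointwise_iff_exists _ _ _ |>.2 ⟨y • m, trivial, by rw [smul_smul, mul_comm, hy, one_smul]⟩
    haveI : Subsingleton (M ⧸ x • (⊤ : Submodule R M)) := Submodule.Quotient.subsingleton_iff.2 hq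
    haveI : Subsingleton (LinearMap.ker (LinearMap.lsmul R M x)) := Submodule.subsingleton_iff_eq_bot.2 (by
      rw [hT, eq_bot_iff]
      intro m hm
      rw [Submodule.mem_bot]
      exact hu.smul_eq_zero.1 hm)
    rw [Module.length_eq_zero, Module.length_eq_zero, zero_add]
    refine (finsum_eq_zero_of_forall_eq_zero ?_).symm
    intro p
    rw [finsum_eq_if]
    refine ite_eq_right_iff.2 fun _ => ?_
    rw [Ring.ord_of_isUnit (hu.map (Ideal.Quotient.mk p.asIdeal)), zero_mul]
  have htm : x ∈ IsLocalRing.maximalIdeal R := hu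
  let I := Module.annihilator R M
  let MM := IsLocalRing.maximalIdeal R
  have hOnly : TLenLib.Only I x := by
    intro P hP hIP hxP
    have hmem : (⟨P, hP⟩ : PrimeSpectrum R) ∈ Module.support R (QuotSMulTop x M) := by
      rw [Module.support_quotSMulTop, Module.support_eq_zeroLocus]
      exact ⟨hIP, Set.singleton_subset_iff.2 hxP⟩
    have hmax : (⟨MM, inferInstance⟩ : PrimeSpectrum R) ∈ Module.support R (QuotSMulTop x M) :=
      Module.mem_support_mono (IsLocalRing.le_maximalIdeal hP.ne_top) hmem
    by_contra hne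
    have hlt : (⟨⟨P, hP⟩, hmem⟩ : Module.support R (QuotSMulTop x M)) < ⟨⟨MM, inferInstance⟩, hmax⟩ :=
      lt_of_le_of_ne (IsLocalRing.le_maximalIdeal hP.ne_top) fun e => hne (congrArg (fun q => q.1.asIdeal) e)
    exact (Order.krullDim_nonpos_iff_forall_isMax.1 h0 ⟨⟨P, hP⟩, hmem⟩).not_lt hlt
  -- the primes of the support other than the maximal ideal
  have hsupp : ∀ p : PrimeSpectrum R, p ∈ Module.support R M ↔ I ≤ p.asIdeal := fun p =>
    Module.mem_support_iff_of_finite
  by_cases hm : IsLocalRing.maximalIdeal R ∈ I.minimalPrimes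
  · have hS : ∀ p : PrimeSpectrum R, p ∈ Module.support R M → p.asIdeal = IsLocalRing.maximalIdeal R := fun p hp =>
      le_antisymm (IsLocalRing.le_maximalIdeal p.2.ne_top)
        (hm.2 ⟨p.2, (hsupp p).1 hp⟩ (IsLocalRing.le_maximalIdeal p.2.ne_top))
    have hfin : Module.length R M < ⊤ := by
      refine CycAlgLib.length_lt_top_of_supportDim_nonpos ?_
      rw [Module.supportDim, Order.krullDim_nonpos_iff_forall_isMax]
      rintro ⟨a, ha⟩ ⟨b, hb⟩ -
      exact le_of_eq (Subtype.ext (PrimeSpectrum.ext ((hS b hb).trans (hS a ha).symm)))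
    have hzero : (∑ᶠ (p : PrimeSpectrum R) (_ : p ∈ Module.support R M ∧ p.asIdeal ≠ IsLocalRing.maximalIdeal R),
        Ring.ord (R ⧸ p.asIdeal) (Ideal.Quotient.mk p.asIdeal x) *
          Module.length (Localization.AtPrime p.asIdeal) (LocalizedModule p.asIdeal.primeCompl M)) = 0 := by
      refine finsum_eq_zero_of_forall_eq_zero ?_
      intro p
      rw [finsum_eq_if]
      refine ite_eq_right_iff.2 fun hp => ?_
      exact absurd (hS p hp.1) hp.2
    rw [hzero, add_zero]
    let μ := LinearMap.lsmul R M x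
    have hr : LinearMap.range μ = x • (⊤ : Submodule R M) := by
      ext m
      rw [Submodule.mem_smul_pointwise_iff_exists]
      simp [μ, LinearMap.mem_range]
    have e1 := Module.length_eq_add_of_exact (LinearMap.ker μ).subtype μ.rangeRestrict
      (Submodule.injective_subtype _) μ.surjective_rangeRestrict
      (LinearMap.exact_iff.mpr (by rw [LinearMap.ker_rangeRestrict, Submodule.range_subtype]))
    have e2 := Module.length_eq_add_of_exact (LinearMap.range μ).subtype (LinearMap.range μ).mkQ
      (Submodule.injective_subtype _) (Submodule.mkQ_surjective _) (LinearMap.exact_subtype_mkQ _)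
    rw [e2] at e1 hfin
    rw [← (Submodule.quotEquivOfEq _ _ hr).length_eq]
    refine ENat.add_right_injective_of_ne_top (ENat.add_lt_top.1 hfin).1.ne ?_
    exact e1.trans (add_comm _ _)
  haveI : Fintype I.minimalPrimes := (I.finite_minimalPrimes_of_isNoetherianRing R).fintype
  have hiff : ∀ p : PrimeSpectrum R, (p ∈ Module.support R M ∧ p.asIdeal ≠ MM) ↔
      p.asIdeal ∈ I.minimalPrimes := by
    intro p
    constructor
    · rintro ⟨hp, hne⟩
      refine hOnly.mem_minimalPrimes htm ((hsupp p).1 hp) fun hxp => hne ?_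
      exact hOnly p.asIdeal p.2 ((hsupp p).1 hp) hxp
    · intro hp
      exact ⟨(hsupp p).2 hp.1.2, fun e => hm ((show MM = IsLocalRing.maximalIdeal R from rfl) ▸ e ▸ hp)⟩
  have key := TLenLib.length_quot_eq hOnly htm hm M le_rfl
  simp only [TLenLib.Quot, TLenLib.Tors] at key
  rw [(Submodule.quotEquivOfEq _ _ hspan).length_eq] at key
  rw [key, hT]
  congr 1
  unfold TLenLib.wsum
  symm
  have hinj : Function.Injective (fun p : I.minimalPrimes => (⟨p.1, p.2.1.1⟩ : PrimeSpectrum R)) :=
    fun a b h => Subtype.ext (congrArg PrimeSpectrum.asIdeal h)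
  rw [finsum_cond_eq_sum_of_cond_iff (t := Finset.univ.map ⟨_, hinj⟩) _ (fun {p} _ => by
    rw [hiff p]
    constructor
    · intro h
      exact Finset.mem_map.2 ⟨⟨p.asIdeal, h⟩, Finset.mem_univ _, rfl⟩
    · intro h
      obtain ⟨q, -, rfl⟩ := Finset.mem_map.1 h
      exact q.2), Finset.sum_map]
  refine Finset.sum_congr rfl fun p _ => ?_
  haveI : p.1.IsPrime := p.2.1.1
  dsimp only [Function.Embedding.coeFn_mk]
  rw [mul_comm]
  congr 1
  unfold Ring.ord
  rw [← Module.length_eq_of_surjective (R := R ⧸ p.1) (S := R) Ideal.Quotient.mk_surjective]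
  refine LinearEquiv.length_eq ?_
  exact ((Ideal.quotientEquivAlgOfEq R (show Ideal.span {Ideal.Quotient.mk p.1 x} = (Ideal.span {x}).map (Ideal.Quotient.mkₐ R p.1) by
    rw [Ideal.map_span, Set.image_singleton]; rfl)).trans
    (DoubleQuot.quotQuotEquivQuotSupₐ R p.1 (Ideal.span {x}))).toLinearEquiv

end Groth.Agent.S1833
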