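import Groth.Statements.S1862
import Mathlib.AlgebraicGeometry.Morphisms.FiniteType
import Mathlib.AlgebraicGeometry.ResidueField
import Mathlib.FieldTheory.IntermediateField.Adjoin.Algebra
import Mathlib.RingTheory.AlgebraicIndependent.Transcendental
import Mathlib.AlgebraicGeometry.Properties
-- import your own Groth.Agent.* helpers here

set_option autoImplicit false
universe u
open CategoryTheory AlgebraicGeometry
open Cyc

namespace Groth.Agent.S1862

/-- Let f : X → Y be a morphism locally of finite type of integral schemes with δX(η_X) = δY(η_Y). Then
either the image of f is not dense, or f maps the generic point to the generic point and the induced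
extension of residue fields there (the function fields) is finite. Here a pair (X, δ) with
Cyc.IsSetup plays the role of a scheme locally of finite type over a fixed base with a dimension
function (X locally Noetherian with universally catenary local rings, δ a dimension function), and
Cyc.DeltaCompat records that the dimension function upstairs is the induced one. -/
theorem result (X Y : Scheme.{u}) [IsIntegral X] [IsIntegral Y] (δX : X → ℤ) (δY : Y → ℤ) (hX : Cyc.IsSetup X δX) (hY : Cyc.IsSetup Y δY) (f : X ⟶ Y) [LocallyOfFiniteType f] (hδ : Cyc.DeltaCompat f δX δY) (heq : δX (genericPoint X) = δY (genericPoint Y)) : ¬ Dense (Set.range f) ∨ (f (genericPoint X) = genericPoint Y ∧ (f.residueFieldMap (genericPoint X)).hom.Finite) := by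
  classical
  by_cases hd : Dense (Set.range f)
  · right
    have hgen : f (genericPoint X) = genericPoint Y := by
      have h1 : closure ({f (genericPoint X)} : Set Y) = Set.univ := by
        apply Set.eq_univ_of_univ_subset
        rw [← hd.closure_eq]
        refine closure_minimal ?_ isClosed_closure
        rintro _ ⟨x, rfl⟩
        exact specializes_iff_mem_closure.mp ((genericPoint_specializes x).map f.continuous)
      exact ((show IsGenericPoint (f (genericPoint X)) Set.univ from h1).eq (genericPoint_spec Y))
    refine ⟨hgen, ?_⟩
    obtain ⟨n, hn, hn'⟩ := hδ (genericPoint X)
    letI := (f.residueFieldMap (genericPoint X)).hom.toAlgebra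
    have hn0 : n = 0 := by rw [heq, hgen] at hn'; omega
    haveI : Algebra.IsAlgebraic (Y.residueField (f (genericPoint X))) (X.residueField (genericPoint X)) :=
      (trdeg_eq_zero_iff).mp (by simpa [hn0] using hn)
    have hres : (X.residue (genericPoint X)).hom.EssFiniteType :=
      RingHom.FiniteType.essFiniteType (RingHom.FiniteType.of_surjective _ (X.residue_surjective _))
    have h2 : ((f.residueFieldMap (genericPoint X)).hom.comp (Y.residue (f (genericPoint X))).hom).EssFiniteType := by
      have h := congrArg CommRingCat.Hom.hom ((Scheme.residue_residueFieldMap f (genericPoint X)))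
      rw [CommRingCat.hom_comp, CommRingCat.hom_comp] at h
      rw [h]
      exact RingHom.EssFiniteType.stableUnderComposition _ _ (LocallyOfFiniteType.stalkMap f _) hres
    haveI : Algebra.EssFiniteType (Y.residueField (f (genericPoint X))) (X.residueField (genericPoint X)) :=
      RingHom.EssFiniteType.of_comp _ h2
    exact Algebra.finite_of_essFiniteType_of_isAlgebraic
  · exact Or.inl hd

end Groth.Agent.S1862
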