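import Groth.Statements.S10860
import Mathlib.AlgebraicGeometry.ZariskisMainTheorem
-- import your own Groth.Agent.* helpers here

set_option autoImplicit false
universe u
open Mor

namespace Groth.Agent.S10860

open CategoryTheory AlgebraicGeometry in
/-- For a proper morphism f : X → Y, the set V of points of Y with finite fibre is open, and f
restricted over V is finite (stated as the existence of an open subscheme of Y whose underlying set
is exactly V and over which f is finite). -/
theorem result {X Y : Scheme.{u}} (f : X ⟶ Y) [IsProper f] :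
    ∃ U : Y.Opens, (U : Set Y) = {y : Y | (f.base ⁻¹' {y}).Finite} ∧ IsFinite (f ∣_ U) := by
  let T : Set Y := {y : Y | (f.base ⁻¹' {y}).Finite}
  have hT : IsOpen T := isOpen_iff_forall_mem_open.2 fun y hy => by
    obtain ⟨V, hyV, hV⟩ := exists_isFinite_morphismRestrict_of_finite_preimage_singleton f y hy
    refine ⟨V, fun y' hy' => ?_, V.isOpen, hyV⟩
    have h := Scheme.Hom.finite_preimage_singleton (f ∣_ V) ⟨y', hy'⟩
    refine (h.image (f ⁻¹ᵁ V).ι).subset fun x hx => ?_
    have hxV : x ∈ f ⁻¹ᵁ V := by
      show f x ∈ V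
      rw [show f x = y' from hx]; exact hy'
    refine ⟨⟨x, hxV⟩, V.ι.injective ?_, rfl⟩
    rw [← Scheme.Hom.comp_apply, morphismRestrict_ι]
    exact hx
  refine ⟨⟨T, hT⟩, rfl, ?_⟩
  haveI : LocallyQuasiFinite (f ∣_ (⟨T, hT⟩ : Y.Opens)) := by
    refine .of_finite_preimage_singleton _ fun z => ?_
    refine (z.2.preimage Subtype.val_injective.injOn).subset fun x hx => ?_
    show f x.1 = z.1
    rw [← show (f ∣_ (⟨T, hT⟩ : Y.Opens)) x = z from hx]
    exact (congr($(morphismRestrict_ι f ⟨T, hT⟩) x)).symm
  exact IsFinite.of_isProper_of_locallyQuasiFinite _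


end Groth.Agent.S10860
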