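import Groth.Statements.S1867
import Mathlib
import Groth.Agent.S10860
import Groth.Agent.CurvLib.Finite0
import Groth.Agent.EquidimLib.DimFormula
import Groth.Agent.EquidimLib.OpenComponent
import Groth.Agent.AlgSpLib.FibrePts
import Groth.Agent.CycLimLib.Dim
import Groth.Agent.FibDimLib.Comps
-- import your own Groth.Agent.* helpers here

set_option autoImplicit false
universe u
open CategoryTheory AlgebraicGeometry
open Cyc

namespace Groth.Agent.S1867

/-- Let f : X → Y be a proper morphism of integral schemes with Y locally Noetherian, mapping the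
generic point to the generic point with finite extension of function fields, and let ξ be a point of
Y whose local ring has dimension 1. Then f is finite over some open neighbourhood of ξ. -/
theorem result (X Y : Scheme.{u}) [IsIntegral X] [IsIntegral Y] [IsLocallyNoetherian Y] (f : X ⟶ Y) [IsProper f] (hgen : f (genericPoint X) = genericPoint Y) (hfin : (f.residueFieldMap (genericPoint X)).hom.Finite) (ξ : Y) (hξ : ringKrullDim (Y.presheaf.stalk ξ) = 1) : ∃ V : Y.Opens, ξ ∈ V ∧ IsFinite (f ∣_ V) := by
  haveI : IsLocallyNoetherian X := LocallyOfFiniteType.isLocallyNoetherian f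
  have h0 : UOpenLib.fibreClosureDim f (genericPoint X) = 0 := by
    rw [AlgSpLib.fibreClosureDim_eq_resTrdeg, Dual3.resTrdeg]
    letI := (f.residueFieldMap (genericPoint X)).hom.toAlgebra
    haveI : Module.Finite (Y.residueField (f (genericPoint X))) (X.residueField (genericPoint X)) :=
      RingHom.finite_algebraMap.mp hfin
    rw [trdeg_eq_zero, map_zero]
    rfl
  have hcl : ∀ x : X, f x = ξ → UOpenLib.fibreClosureDim f x = 0 := by
    intro x hx
    have h := EquidimLib.dimBetween_add_fibreClosureDim_le f (genericPoint_specializes x)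
    rw [h0, add_zero, show f.base (genericPoint X) = genericPoint Y from hgen, show f.base x = ξ from hx,
      CycLimLib.dimBetween_eq_stalk (fun w _ => genericPoint_specializes w) (X := Y), hξ] at h
    have hne : genericPoint X ≠ x := fun he => by
      rw [← he, hgen] at hx
      rw [← hx] at hξ
      rw [ringKrullDim_eq_zero_of_isField (Field.toIsField Y.functionField)] at hξ
      exact zero_ne_one hξ
    have h1 := EquidimLib.one_le_dimBetween (genericPoint_specializes x) hne
    obtain ⟨n, hn⟩ := EquidimLib.exists_dimBetween_eq_nat (genericPoint_specializes x)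
    obtain ⟨c, hc⟩ := UOpenLib.exists_fibreClosureDim_eq_nat f x
    rw [hn] at h1
    rw [hn, hc] at h
    have h1' : 1 ≤ n := by exact_mod_cast h1
    have h' : n + c ≤ 1 := by exact_mod_cast h
    rw [hc, show c = 0 by omega]
    rfl
  obtain ⟨U, hU, hfinU⟩ := Groth.Agent.S10860.result f
  refine ⟨U, ?_, hfinU⟩
  show ξ ∈ (U : Set Y)
  rw [hU]
  haveI : LocallyOfFiniteType (f.fiberToSpecResidueField ξ) := UOpenLib.lft_fiberToSpec f _
  haveI : IsLocallyNoetherian (f.fiber ξ) := LocallyOfFiniteType.isLocallyNoetherian (f.fiberToSpecResidueField ξ)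
  haveI : CompactSpace (f.fiber ξ) := QuasiCompact.compactSpace_of_compactSpace (f.fiberToSpecResidueField ξ)
  haveI : IsNoetherian (f.fiber ξ) := {}
  have hd : topologicalKrullDim (f.fiber ξ) ≤ 0 := by
    refine EquidimLib.topologicalKrullDim_le_of_components fun T hT => ?_
    obtain ⟨w, hw, hwd⟩ := @FibDimLib.exists_generic_of_component (Y.residueField ξ) _ _
      (f.fiberToSpecResidueField ξ) (UOpenLib.lft_fiberToSpec f ξ) _ hT
    have hmax := UOpenLib.max_of_closure_mem f (z := w) (hw ▸ hT)
    rw [← hwd, ← FibDimLib.fibreDimAt_fiberι, UOpenLib.fibreDimAt_eq_of_max f hmax, hcl]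
    have h : (f.fiberι ξ) w ∈ Set.range (f.fiberι ξ) := ⟨w, rfl⟩
    rwa [f.range_fiberι] at h
  haveI := (CurvLib.finite_of_dim_le_zero hd).1
  show (f.base ⁻¹' {ξ}).Finite
  rw [← f.range_fiberι]
  exact Set.finite_range _

end Groth.Agent.S1867
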