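import Groth.Statements.S1850
import Mathlib
import Groth.Agent.TameLib.FlatSym
-- import your own Groth.Agent.* helpers here

set_option autoImplicit false
universe u
open CycAlg

namespace Groth.Agent.S1850

/-- Let A → A' be a flat local homomorphism of Noetherian local rings of dimension 1 and m =
length_{A'}(A'/𝔪_A A'). For nonzerodivisors a₁, a₂ of A the image of ∂_A(a₁, a₂)^m in the residue
field of A' equals ∂_{A'}(a₁, a₂). -/
theorem result (A A' : Type u) [CommRing A] [CommRing A'] [IsNoetherianRing A] [IsNoetherianRing A'] [IsLocalRing A] [IsLocalRing A'] [Algebra A A'] [IsLocalHom (algebraMap A A')] [Module.Flat A A'] (hA : ringKrullDim A = 1) (hA' : ringKrullDim A' = 1) (a₁ a₂ : A) (h₁ : a₁ ∈ nonZeroDivisors A) (h₂ : a₂ ∈ nonZeroDivisors A) : IsLocalRing.ResidueField.map (algebraMap A A') (CycAlg.tameSymbol A a₁ a₂) ^ (Module.length A' (A' ⧸ Ideal.map (algebraMap A A') (IsLocalRing.maximalIdeal A))).toNat = CycAlg.tameSymbol A' (algebraMap A A' a₁) (algebraMap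 A A' a₂) := by
  haveI : Ring.KrullDimLE 1 A := Ring.krullDimLE_iff.2 (le_of_eq (by rw [hA]; rfl))
  haveI : Ring.KrullDimLE 1 A' := Ring.krullDimLE_iff.2 (le_of_eq (by rw [hA']; rfl))
  classical
  by_cases hmem : a₁ * a₂ ∈ IsLocalRing.maximalIdeal A
  · obtain ⟨C, hC, hsep⟩ := TameLib.exists_separating {a₁, a₂} (by simp [h₁, h₂])
    choose π hπ hfac using hsep
    choose u₁ e₁ f₁ using fun l => hfac l a₁ (by simp)
    choose u₂ e₂ f₂ using fun l => hfac l a₂ (by simp)
    exact TameLib.tameSymbol_flat_of_data C.val Subtype.val_injective a₁ a₂ h₁ h₂ hmem π hπ u₁ u₂ e₁ e₂ f₁ f₂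
  · obtain ⟨hu1, hu2⟩ := IsUnit.mul_iff.1 (not_not.1 hmem)
    obtain ⟨u, hu⟩ := hu1
    subst hu
    have hu2' := hu2.map (algebraMap A A')
    obtain ⟨u', hu'⟩ := u.isUnit.map (algebraMap A A')
    rw [← hu', TameLib.tameSymbol_unit u a₂ h₂, TameLib.tameSymbol_unit u' _ hu2'.mem_nonZeroDivisors,
      show Module.length A (A ⧸ Ideal.span {a₂}) = 0 from Ring.ord_of_isUnit hu2,
      show Module.length A' (A' ⧸ Ideal.span {algebraMap A A' a₂}) = 0 from Ring.ord_of_isUnit hu2',
      ENat.toNat_zero, pow_zero, pow_zero, map_one, one_pow]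

end Groth.Agent.S1850
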