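import Groth.Statements.S1851
import Mathlib
import Groth.Agent.TameLib.GapLocal
import Groth.Agent.TameLib.GapGlobal
-- import your own Groth.Agent.* helpers here

set_option autoImplicit false
universe u
open CycAlg

namespace Groth.Agent.S1851

/-- The key lemma for nonzerodivisors; a low-degree case of the Gersten complex for Milnor K-theory: let
A be a Noetherian local ring of dimension 2 and a, b nonzerodivisors. Then the sum over the
height-one primes 𝔮 of A of ord_{A/𝔮}(∂_{A_𝔮}(a, b)) is zero, where ∂_{A_𝔮} is the tame symbol of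
the one-dimensional local ring A_𝔮 with values in κ(𝔮) = Frac(A/𝔮) (only finitely many terms are
nonzero). -/
theorem result (A : Type u) [CommRing A] [IsNoetherianRing A] [IsLocalRing A] (hA : ringKrullDim A = 2) (a b : A) (ha : a ∈ nonZeroDivisors A) (hb : b ∈ nonZeroDivisors A) : ∑ᶠ (q : PrimeSpectrum A) (_ : q.asIdeal.height = 1), CycAlg.ordFrac (A ⧸ q.asIdeal) q.asIdeal.ResidueField (CycAlg.tameSymbol (Localization.AtPrime q.asIdeal) (algebraMap A (Localization.AtPrime q.asIdeal) a) (algebraMap A (Localization.AtPrime q.asIdeal) b)) = 0 := by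
  classical
  open TameLib TameLib.Gap in
  let t := a * b
  have ht : t ∈ nonZeroDivisors A := mul_mem ha hb
  -- dimension facts
  have hmax : (IsLocalRing.maximalIdeal A).height = 2 := by
    have h := IsLocalRing.maximalIdeal_height_eq_ringKrullDim (R := A)
    rw [hA] at h
    exact WithBot.coe_injective h
  have hnm : ∀ p : Ideal A, p.IsPrime → p ≠ IsLocalRing.maximalIdeal A → p.height ≤ 1 := by
    intro p hp hne
    haveI := hp
    have h := Ideal.height_add_one_le_of_lt_of_isPrime (lt_of_le_of_ne (IsLocalRing.le_maximalIdeal hp.ne_top) hne)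
    rw [hmax, show (2 : ℕ∞) = 1 + 1 from one_add_one_eq_two.symm] at h
    exact (WithTop.add_le_add_iff_right ENat.one_ne_top).1 h
  have hone : ∀ p : Ideal A, p.IsPrime → t ∈ p → 1 ≤ p.height := by
    intro p hp htp
    haveI := hp
    by_contra h
    rw [not_le, ENat.lt_one_iff_eq_zero, Ideal.height_eq_zero_iff] at h
    exact Set.disjoint_left.1 (Ideal.disjoint_nonZeroDivisors_of_mem_minimalPrimes h) htp ht
  have hdimloc : ∀ p : PrimeSpectrum A, p.asIdeal.height = 1 →
      Ring.KrullDimLE 1 (Localization.AtPrime p.asIdeal) := by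
    intro p hp
    rw [Ring.krullDimLE_iff, IsLocalization.AtPrime.ringKrullDim_eq_height p.asIdeal, hp]
    rfl
  have hdimquot : ∀ p : PrimeSpectrum A, p.asIdeal.height = 1 → Ring.KrullDimLE 1 (A ⧸ p.asIdeal) := by
    intro p hp
    haveI : IsLocalRing (A ⧸ p.asIdeal) := haveI : Nontrivial (A ⧸ p.asIdeal) := Ideal.Quotient.nontrivial_iff.2 p.2.ne_top
      IsLocalRing.of_surjective' (Ideal.Quotient.mk _) Ideal.Quotient.mk_surjective
    rw [Ring.krullDimLE_one_iff]
    intro P hP
    haveI := hP
    by_cases heq : P.comap (Ideal.Quotient.mk p.asIdeal) = p.asIdeal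
    · refine Or.inl ⟨⟨hP, bot_le⟩, fun J ⟨hJ, _⟩ hJP => ?_⟩
      rw [← Ideal.map_comap_of_surjective _ Ideal.Quotient.mk_surjective P, heq, Ideal.map_quotient_self]
      exact bot_le
    · refine Or.inr ?_
      have hle : p.asIdeal ≤ P.comap (Ideal.Quotient.mk p.asIdeal) := by
        conv_lhs => rw [← Ideal.mk_ker (I := p.asIdeal)]
        exact Ideal.comap_mono bot_le
      have hlt := Ideal.height_add_one_le_of_lt_of_isPrime (lt_of_le_of_ne hle (Ne.symm heq))
      rw [hp] at hlt
      have hm : P.comap (Ideal.Quotient.mk p.asIdeal) = IsLocalRing.maximalIdeal A := by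
        by_contra hne
        exact absurd (hlt.trans (hnm _ inferInstance hne)) (by decide)
      haveI : (P.comap (Ideal.Quotient.mk p.asIdeal)).IsMaximal := hm ▸ IsLocalRing.maximalIdeal.isMaximal A
      rw [← Ideal.map_comap_of_surjective _ Ideal.Quotient.mk_surjective P]
      exact (Ideal.map_eq_top_or_isMaximal_of_surjective _ Ideal.Quotient.mk_surjective ‹_›).resolve_left (by
        rw [Ideal.map_comap_of_surjective _ Ideal.Quotient.mk_surjective P]; exact hP.ne_top)
  -- the relevant primes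
  let S : Set (PrimeSpectrum A) := {p | p.asIdeal.height = 1 ∧ t ∈ p.asIdeal}
  have hSfin : S.Finite := by
    refine Set.Finite.of_finite_image ((Ideal.finite_minimalPrimes_of_isNoetherianRing A (Ideal.span {t})).subset ?_)
      (f := PrimeSpectrum.asIdeal) (fun x _ y _ h => PrimeSpectrum.ext h)
    rintro _ ⟨p, ⟨hp, htp⟩, rfl⟩
    refine ⟨⟨p.2, (Ideal.span_singleton_le_iff_mem _).2 htp⟩, fun q ⟨hq, hqle⟩ hle => ?_⟩
    haveI := hq
    by_contra hne
    have h1 := Ideal.height_add_one_le_of_lt_of_isPrime (lt_of_le_not_ge hle hne)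
    rw [hp] at h1
    exact absurd ((add_le_add (hone q hq ((Ideal.span_singleton_le_iff_mem _).1 hqle)) le_rfl).trans h1) (by decide)
  haveI : Fintype S := hSfin.fintype
  -- the local data
  have hW : ∀ p : S, _ := fun p : S =>
    haveI := hdimloc p.1 p.2.1
    haveI := hdimquot p.1 p.2.1
    TameLib.Gap.exists_local_data p.1.asIdeal ha hb p.2.2
  choose W hWint hWdata using hW
  let U : Finset (TameLib.Tot A) := Finset.univ.biUnion W
  have hU : ∀ w ∈ U, IsIntegral A w := fun w hw => by
    obtain ⟨p, -, hp⟩ := Finset.mem_biUnion.1 hw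
    exact hWint p w hp
  let C := Algebra.adjoin A (U : Set (TameLib.Tot A))
  haveI : Module.Finite A C :=
    Module.Finite.iff_fg.2 (fg_adjoin_of_finite U.finite_toSet hU)
  haveI : Algebra.IsIntegral A C := Algebra.IsIntegral.of_finite A C
  have hCnzd : ∀ x ∈ nonZeroDivisors A, algebraMap A C x ∈ nonZeroDivisors C := by
    intro x hx
    have hu : IsUnit (algebraMap A (TameLib.Tot A) x) :=
      IsLocalization.map_units (TameLib.Tot A) (⟨x, hx⟩ : nonZeroDivisors A)
    rw [mem_nonZeroDivisors_iff_right]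
    exact fun y hy => Subtype.ext (hu.mul_left_eq_zero.1 (congrArg Subtype.val hy))
  choose ι hι Q hQp ρ e e' sa ra sb rb hQinj hQq hall hmem hea heb hρ hout hord using fun p : S =>
    hWdata p C C.val Subtype.val_injective (fun w hw =>
      ⟨⟨w, Algebra.subset_adjoin (Finset.mem_biUnion.2 ⟨p, Finset.mem_univ _, hw⟩)⟩, rfl⟩)
  haveI : ∀ i : (Σ p : S, ι p), (Q i.1 i.2).IsPrime := fun i => hQp i.1 i.2
  have hinj : Function.Injective (fun i : (Σ p : S, ι p) => Q i.1 i.2) := by
    rintro ⟨p, i⟩ ⟨p', i'⟩ h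
    have hp : p = p' := Subtype.ext (PrimeSpectrum.ext (by
      rw [← hQq p i, ← hQq p' i']
      exact congrArg (Ideal.comap (algebraMap A C)) h))
    subst hp
    obtain rfl : i = i' := hQinj p h
    rfl
  have hnon : ∀ P : Ideal C, P.IsPrime → ¬ P.IsMaximal → (∀ i : (Σ p : S, ι p), P ≠ Q i.1 i.2) →
      algebraMap A C a ∉ P ∧ algebraMap A C b ∉ P := by
    intro P hP hne hout'
    have key : algebraMap A C t ∉ P := by
      intro h
      have hpp : (P.comap (algebraMap A C)).IsPrime := inferInstance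
      have hne' : P.comap (algebraMap A C) ≠ IsLocalRing.maximalIdeal A := fun h' =>
        hne (Ideal.isMaximal_of_isIntegral_of_isMaximal_comap (R := A) P (h' ▸ IsLocalRing.maximalIdeal.isMaximal A))
      let p : S := ⟨⟨P.comap (algebraMap A C), hpp⟩, le_antisymm (hnm _ hpp hne') (hone _ hpp h), h⟩
      obtain ⟨i, hi⟩ := hall p P hP rfl
      exact hout' ⟨p, i⟩ hi.symm
    rw [map_mul] at key
    exact ⟨fun h => key (P.mul_mem_right _ h), fun h => key (P.mul_mem_left _ h)⟩
  have hglob := TameLib.Gap.global_identity (A := A) (Q := fun i : (Σ p : S, ι p) => Q i.1 i.2)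
    (ρ := fun i => ρ i.1 i.2) (a := algebraMap A C a) (b := algebraMap A C b) (e := fun i => e i.1 i.2)
    (f := fun i => e' i.1 i.2) (hout := fun i => hout i.1 i.2) (hinj := hinj) (hρ := fun i => hρ i.1 i.2)
    (hCnzd a ha) (hCnzd b hb)
    (fun i => ⟨sa i.1 i.2, (hmem i.1 i.2).1, ra i.1 i.2, (hmem i.1 i.2).2.1, hea i.1 i.2⟩)
    (fun i => ⟨sb i.1 i.2, (hmem i.1 i.2).2.2.1, rb i.1 i.2, (hmem i.1 i.2).2.2.2, heb i.1 i.2⟩) hnon
  rw [Finset.sum_congr rfl fun i _ => TameLib.Gap.local_identity A (hρ i.1 i.2) (hout i.1 i.2) (hmem i.1 i.2).1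
    (hmem i.1 i.2).2.1 (hea i.1 i.2) (hmem i.1 i.2).2.2.1 (hmem i.1 i.2).2.2.2 (heb i.1 i.2)] at hglob
  rw [Fintype.sum_sigma] at hglob
  dsimp only at hglob
  replace hglob := (Fintype.sum_congr _ _ fun p => hord p).trans hglob
  rw [← hglob, ← finsum_eq_sum_of_fintype, finsum_set_coe_eq_finsum_mem (s := S) (f := fun q : PrimeSpectrum A =>
    CycAlg.ordFrac (A ⧸ q.asIdeal) q.asIdeal.ResidueField (CycAlg.tameSymbol (Localization.AtPrime q.asIdeal)
      (algebraMap A (Localization.AtPrime q.asIdeal) a) (algebraMap A (Localization.AtPrime q.asIdeal) b)))]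
  refine finsum_congr fun q => ?_
  by_cases hq : q.asIdeal.height = 1
  · rw [finsum_eq_if, if_pos hq, finsum_eq_if]
    split_ifs with hqS
    · rfl
    · have htq : t ∉ q.asIdeal := fun h => hqS ⟨hq, h⟩
      haveI := hdimloc q hq
      haveI := hdimquot q hq
      haveI : Nontrivial (A ⧸ q.asIdeal) := Ideal.Quotient.nontrivial_iff.2 q.2.ne_top
      have hua : IsUnit (algebraMap A (Localization.AtPrime q.asIdeal) a) :=
        IsLocalization.map_units _ (⟨a, fun h => htq (q.asIdeal.mul_mem_right _ h)⟩ : q.asIdeal.primeCompl)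
      have hub : IsUnit (algebraMap A (Localization.AtPrime q.asIdeal) b) :=
        IsLocalization.map_units _ (⟨b, fun h => htq (q.asIdeal.mul_mem_left _ h)⟩ : q.asIdeal.primeCompl)
      obtain ⟨ua, hua⟩ := hua
      rw [← hua, TameLib.tameSymbol_unit ua _ hub.mem_nonZeroDivisors]
      have h0 : Module.length (Localization.AtPrime q.asIdeal)
          (Localization.AtPrime q.asIdeal ⧸ Ideal.span {algebraMap A (Localization.AtPrime q.asIdeal) b}) = 0 :=
        Ring.ord_of_isUnit hub
      rw [h0, ENat.toNat_zero, pow_zero, TameLib.ordFrac_one]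
  · rw [finsum_eq_if, if_neg hq, finsum_eq_if, if_neg fun h => hq h.1]

end Groth.Agent.S1851
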