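import Groth.Statements.S1856
import Mathlib
import Groth.Agent.CycDivLib.Pull
import Groth.Agent.EquidimLib.DimBetween
-- import your own Groth.Agent.* helpers here

set_option autoImplicit false
universe u
open CategoryTheory AlgebraicGeometry
open Cyc

namespace Groth.Agent.S1856

/-- Let f : X → Y be flat, locally of finite type, of relative dimension r, and α, β rationally
equivalent k-cycles on Y. Then the flat pullbacks f^*α, f^*β (any cycles on X whose coefficients are
given by the flat-pullback formula) are rationally equivalent (k + r)-cycles on X. Here a pair (X,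
δ) with Cyc.IsSetup plays the role of a scheme locally of finite type over a fixed base with a
dimension function (X locally Noetherian with universally catenary local rings, δ a dimension
function), and Cyc.DeltaCompat records that the dimension function upstairs is the induced one. -/
theorem result (X Y : Scheme.{u}) (δX : X → ℤ) (δY : Y → ℤ) (hX : Cyc.IsSetup X δX) (hY : Cyc.IsSetup Y δY) (f : X ⟶ Y) [Flat f] [LocallyOfFiniteType f] (r : ℕ) (hr : Cyc.HasRelDim f r) (hδ : Cyc.DeltaCompat f δX δY) (k : ℤ) (α β : AlgebraicCycle Y ℤ) (hα : α ∈ Cyc.Zk Y δY k) (hβ : β ∈ Cyc.Zk Y δY k) (h : Cyc.RatEquiv δY k α β) (α' β' : AlgebraicCycle X ℤ) (hα' : ⇑α' = Cyc.pullFun f δX δY r ⇑α) (hβ' : ⇑β' = Cyc.pullFun f δX δY r ⇑β) : Cyc.RatEquiv δX (k + r) α' β' := by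
  classical
  haveI := hX.1
  haveI := hY.1
  obtain ⟨ι, ξ, g, hξk, hg, hlf, hsum⟩ := h
  let I' := Σ i, {ζ : X // CycLimLib.IsGen f ζ ∧ f ζ = ξ i}
  let mult : I' → ℕ := fun s =>
    (Module.length (X.presheaf.stalk s.2.1) (X.presheaf.stalk s.2.1 ⧸ CycLimLib.fibIdeal f s.2.1)).toNat
  have hloc : ∀ x : X, ∃ U : Set X, IsOpen U ∧ x ∈ U ∧ {s : I' | (closure {s.2.1} ∩ U).Nonempty}.Finite := by
    intro x
    obtain ⟨U, hU, hxU, hfin⟩ := hlf (f x)
    obtain ⟨V, hV, hxV, -⟩ := exists_isAffineOpen_mem_and_subset (X := X) (x := x) (U := ⊤) trivial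
    haveI : IsNoetherianRing Γ(X, V) := IsLocallyNoetherian.component_noetherian ⟨V, hV⟩
    refine ⟨f ⁻¹' U ∩ (V : Set X), (hU.preimage f.continuous).inter V.isOpen, ⟨hxU, hxV⟩, ?_⟩
    have hper : ∀ i, {ζ : {ζ : X // CycLimLib.IsGen f ζ ∧ f ζ = ξ i} | ζ.1 ∈ V}.Finite := by
      intro i
      let Z : Set X := f ⁻¹' closure {ξ i}
      let J := PrimeSpectrum.vanishingIdeal (hV.fromSpec ⁻¹' Z)
      refine Set.Finite.of_injOn (f := fun ζ => if h : ζ.1 ∈ V then (hV.primeIdealOf ⟨ζ.1, h⟩).asIdeal else ⊤)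
        (t := J.minimalPrimes) ?_ ?_ (Ideal.finite_minimalPrimes_of_isNoetherianRing _ J)
      · intro ζ hζ
        simp only [dif_pos (show ζ.1 ∈ V from hζ)]
        have hmem : hV.primeIdealOf ⟨ζ.1, hζ⟩ ∈ hV.fromSpec ⁻¹' Z := by
          show f (hV.fromSpec (hV.primeIdealOf ⟨ζ.1, hζ⟩)) ∈ closure {ξ i}
          rw [hV.fromSpec_primeIdealOf, ζ.2.2]
          exact subset_closure rfl
        refine ⟨⟨(hV.primeIdealOf ⟨ζ.1, hζ⟩).2, (PrimeSpectrum.subset_zeroLocus_vanishingIdeal _) hmem⟩,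
          fun Q hQ hle => ?_⟩
        let q : PrimeSpectrum Γ(X, V) := ⟨Q, hQ.1⟩
        have hq : q ∈ hV.fromSpec ⁻¹' Z := by
          have : q ∈ PrimeSpectrum.zeroLocus (J : Set Γ(X, V)) := hQ.2
          rw [PrimeSpectrum.zeroLocus_vanishingIdeal_eq_closure] at this
          exact closure_minimal (Set.Subset.refl _) ((isClosed_closure.preimage f.continuous).preimage hV.fromSpec.continuous) this
        have hs : hV.fromSpec q ⤳ ζ.1 := by
          have h := ((PrimeSpectrum.le_iff_specializes q (hV.primeIdealOf ⟨ζ.1, hζ⟩)).mp hle).map hV.fromSpec.continuous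
          rwa [hV.fromSpec_primeIdealOf ⟨ζ.1, hζ⟩] at h
        have heq : f (hV.fromSpec q) = f ζ.1 :=
          ((hs.map f.continuous).antisymm ((specializes_of_eq ζ.2.2).trans (specializes_iff_mem_closure.2 hq))).eq
        have hqe : q = hV.primeIdealOf ⟨ζ.1, hζ⟩ := hV.fromSpec.isOpenEmbedding.injective
          ((ζ.2.1 _ heq hs).trans (hV.fromSpec_primeIdealOf ⟨ζ.1, hζ⟩).symm)
        exact (congrArg PrimeSpectrum.asIdeal hqe).ge
      · intro a ha b hb hab
        simp only [dif_pos (show a.1 ∈ V from ha), dif_pos (show b.1 ∈ V from hb)] at hab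
        have := congrArg hV.fromSpec.base (PrimeSpectrum.ext hab :
          hV.primeIdealOf ⟨a.1, ha⟩ = hV.primeIdealOf ⟨b.1, hb⟩)
        exact Subtype.ext (by simpa only [hV.fromSpec_primeIdealOf] using this)
    refine (hfin.toFinset.sigma fun i => (hper i).toFinset).finite_toSet.subset ?_
    rintro ⟨i, ζ⟩ ⟨z, hz, hzU, hzV⟩
    have hs : ζ.1 ⤳ z := specializes_iff_mem_closure.2 hz
    rw [Finset.mem_coe, Finset.mem_sigma, Set.Finite.mem_toFinset, Set.Finite.mem_toFinset]
    exact ⟨⟨f z, specializes_iff_mem_closure.1 ((specializes_of_eq ζ.2.2.symm).trans (hs.map f.continuous)), hzU⟩,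
      hs.mem_open V.isOpen hzV⟩
  refine ⟨I', fun s => s.2.1, fun s => (CycDivLib.gpull f s.2.2.2 (g s.1)) ^ mult s, fun s => ?_, fun s => ?_, hloc,
    fun x => ?_⟩
  · rw [CycLimLib.delta_eq_of_gen f hδ hr s.2.2.1, s.2.2.2, hξk]
    ring
  · exact pow_ne_zero _ ((_root_.map_ne_zero (CycDivLib.gpull f s.2.2.2).hom).2 (hg s.1))
  have hpow : ∀ s : I', Cyc.divFun δX s.2.1 ((CycDivLib.gpull f s.2.2.2 (g s.1)) ^ mult s) x =
      (mult s : ℤ) * Cyc.divFun δX s.2.1 (CycDivLib.gpull f s.2.2.2 (g s.1)) x := by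
    intro s
    simp only [Cyc.divFun]
    split_ifs with h1
    · obtain ⟨n, hn⟩ := EquidimLib.exists_dimBetween_eq_nat h1.1
      have := CycLimLib.delta_eq_add hX h1.1 hn
      have := h1.2
      haveI : Ring.KrullDimLE 1 (Cyc.LocQuot x s.2.1 h1.1) := Ring.krullDimLE_iff.2
        ((CycDivLib.dim_locQuot h1.1).le.trans (by rw [hn]; exact_mod_cast (show n ≤ 1 by omega)))
      exact TameLib.ordFrac_pow ((_root_.map_ne_zero (CycDivLib.gpull f s.2.2.2).hom).2 (hg s.1)) (mult s)
    · rw [mul_zero]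
  obtain ⟨U, -, hxU, hfinI⟩ := hloc x
  obtain ⟨W, -, hyW, hfinJ⟩ := hlf (f x)
  let S := hfinI.toFinset
  let J := hfinJ.toFinset
  have hI : ∀ i, i ∉ J → Cyc.divFun δY (ξ i) (g i) (f x) = 0 := fun i hi => by
    simp only [Cyc.divFun]
    rw [dif_neg fun hh => hi (hfinJ.mem_toFinset.2 ⟨f x, specializes_iff_mem_closure.1 hh.1, hyW⟩)]
  have hS : ∀ s : I', s ∉ S → Cyc.divFun δX s.2.1 (CycDivLib.gpull f s.2.2.2 (g s.1)) x = 0 := fun s hs => by
    simp only [Cyc.divFun]
    rw [dif_neg fun hh => hs (hfinI.mem_toFinset.2 ⟨x, specializes_iff_mem_closure.1 hh.1, hxU⟩)]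
  have hy : (α - β) (f x) = ∑ i ∈ J, Cyc.divFun δY (ξ i) (g i) (f x) := by
    rw [hsum (f x)]
    exact finsum_eq_sum_of_support_subset _ fun i hi => by
      by_contra h
      exact hi (hI i h)
  calc (α' - β') x = Cyc.pullFun f δX δY r (fun y => (α - β) y) x := by
        show α' x - β' x = _
        rw [hα', hβ']
        simp only [Cyc.pullFun]
        split_ifs
        · show _ = (α (f x) - β (f x)) * _
          ring
        · ring
    _ = ∑ i ∈ J, Cyc.pullFun f δX δY r (Cyc.divFun δY (ξ i) (g i)) x := by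
        simp only [Cyc.pullFun]
        split_ifs
        · rw [← Finset.sum_mul, hy]
        · rw [Finset.sum_const_zero]
    _ = ∑ i ∈ J, ∑ᶠ ζ : {ζ : X // CycLimLib.IsGen f ζ ∧ f ζ = ξ i},
          (mult ⟨i, ζ⟩ : ℤ) * Cyc.divFun δX ζ.1 (CycDivLib.gpull f ζ.2.2 (g i)) x :=
        Finset.sum_congr rfl fun i _ => CycDivLib.pullFun_divFun f hX hY hr hδ (ξ i) (hg i) x
    _ = ∑ i ∈ J, ∑ ζ ∈ S.preimage (Sigma.mk i) (sigma_mk_injective.injOn),
          (mult ⟨i, ζ⟩ : ℤ) * Cyc.divFun δX ζ.1 (CycDivLib.gpull f ζ.2.2 (g i)) x :=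
        Finset.sum_congr rfl fun i _ => finsum_eq_sum_of_support_subset _ fun ζ hζ => by
          by_contra h
          refine hζ ?_
          show _ * _ = 0
          rw [hS ⟨i, ζ⟩ fun h' => h (Finset.mem_coe.2 (Finset.mem_preimage.2 h')), mul_zero]
    _ = ∑ s ∈ J.sigma (fun i => S.preimage (Sigma.mk i) (sigma_mk_injective.injOn)),
          (mult s : ℤ) * Cyc.divFun δX s.2.1 (CycDivLib.gpull f s.2.2.2 (g s.1)) x := (Finset.sum_sigma J (fun i => S.preimage (Sigma.mk i) (sigma_mk_injective.injOn))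
          (fun s : I' => (mult s : ℤ) * Cyc.divFun δX s.2.1 (CycDivLib.gpull f s.2.2.2 (g s.1)) x)).symm
    _ = ∑ᶠ s : I', Cyc.divFun δX s.2.1 ((CycDivLib.gpull f s.2.2.2 (g s.1)) ^ mult s) x := by
        rw [finsum_congr hpow]
        refine (finsum_eq_sum_of_support_subset _ fun s hs => ?_).symm
        have hs' : Cyc.divFun δX s.2.1 (CycDivLib.gpull f s.2.2.2 (g s.1)) x ≠ 0 := fun h0 => hs (by
          show _ * _ = 0
          rw [h0, mul_zero])
        rw [Finset.mem_coe, Finset.mem_sigma, Finset.mem_preimage]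
        refine ⟨hfinJ.mem_toFinset.2 ⟨f x, ?_, hyW⟩, by_contra fun h => hs' (hS s h)⟩
        simp only [Cyc.divFun] at hs'
        split_ifs at hs' with hh
        · exact specializes_iff_mem_closure.1 ((specializes_of_eq s.2.2.2.symm).trans (hh.1.map f.continuous))
        · exact absurd rfl hs' 

end Groth.Agent.S1856
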