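import Groth.Statements.S6454
import Mathlib
import Groth.Agent.CycC1Lib.Cap
import Groth.Agent.AmpleThLib.Ample
-- import your own Groth.Agent.* helpers here

set_option autoImplicit false
universe u
open CategoryTheory AlgebraicGeometry
open Cyc

namespace Groth.Agent.S6454

/-- Let L, N be invertible O_X-modules and α a (k + 1)-cycle on X. Then c_1(L) ∩ α + c_1(N) ∩ α = c_1(L
⊗ N) ∩ α in CH_k(X): for any nonzero rational sections used to compute the three caps (the tensor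
product is CohB1.tensorMod), the sum of the first two k-cycles is rationally equivalent to the
third. Here L(ξ) = L_ξ/𝔪_ξ L_ξ is the space of rational sections of L on the closure of ξ,
div_{L|W}(s) and c_1(L) ∩ α are computed as coefficient functions from chosen nonzero rational
sections (Cyc.secDivFun, Cyc.c1CapFun), and results are compared up to rational equivalence for any
cycles with those coefficients. A pair (X, δ) with Cyc.IsSetup plays the role of a scheme locally of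
finite type over the base (S, δ) (X locally Noetherian with universally catenary local rings, δ a
dimension function). -/
theorem result (X : Scheme.{u}) (δ : X → ℤ) (hX : Cyc.IsSetup X δ) (L N : X.Modules) (hL : PicF.IsInvertible L) (hN : PicF.IsInvertible N) (k : ℤ) (α : AlgebraicCycle X ℤ) (hα : α ∈ Cyc.Zk X δ (k + 1)) (sL : (ξ : X) → Cyc.secFibre L ξ) (hsL : ∀ ξ, sL ξ ≠ 0) (sN : (ξ : X) → Cyc.secFibre N ξ) (hsN : ∀ ξ, sN ξ ≠ 0) (sT : (ξ : X) → Cyc.secFibre (CohB1.tensorMod L N) ξ) (hsT : ∀ ξ, sT ξ ≠ 0) (γL γN γT : AlgebraicCycle X ℤ) (hγL : ⇑γL = Cyc.c1CapFun δ L ⇑α sL) (hγN : ⇑γN = Cyc.c1CapFun δ N ⇑α sN) (hγT : ⇑γT = Cyc.c1CapFun δ (CohB1.tensorMod L N) ⇑α sT) : Cyc.RatEquiv δ k (γL + γN) γT := by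
      classical
      haveI := hX.1
      let T := CohB1.tensorMod L N
      let pr : ∀ ξ : X, L.presheaf.stalk ξ → N.presheaf.stalk ξ → T.presheaf.stalk ξ :=
        fun ξ v w => KFlatLib.stalkTensorLin L N ξ (v ⊗ₜ[X.presheaf.stalk ξ] w)
      choose v hv using fun ξ => Submodule.Quotient.mk_surjective _ (sL ξ)
      choose w hw using fun ξ => Submodule.Quotient.mk_surjective _ (sN ξ)
      let P : ∀ ξ : X, Cyc.secFibre T ξ := fun ξ => CycC1Lib.fib T (pr ξ (v ξ) (w ξ))
      have key : ∀ {U : X.Opens} {e : Γ(L, U)} {f : Γ(N, U)} (_ : AmpleLib.GenOn L e) (_ : AmpleLib.GenOn N f)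
          {ξ : X} (hξ : ξ ∈ U), ∃ φ ψ : X.presheaf.stalk ξ,
            sL ξ = φ • CycC1Lib.fib L (L.presheaf.germ U ξ hξ e) ∧
            sN ξ = ψ • CycC1Lib.fib N (N.presheaf.germ U ξ hξ f) ∧
            P ξ = (φ * ψ) • CycC1Lib.fib T (T.presheaf.germ U ξ hξ (AmpleLib.shT e f)) := by
        intro U e f he hf ξ hξ
        obtain ⟨φ, hφ⟩ := (he.genAt hξ).2 (v ξ)
        obtain ⟨ψ, hψ⟩ := (hf.genAt hξ).2 (w ξ)
        refine ⟨φ, ψ, ?_, ?_, ?_⟩
        · rw [← hv ξ, CycC1Lib.fib, ← Submodule.Quotient.mk_smul]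
          exact congrArg _ hφ.symm
        · rw [← hw ξ, CycC1Lib.fib, ← Submodule.Quotient.mk_smul]
          exact congrArg _ hψ.symm
        · refine Eq.trans (congrArg (CycC1Lib.fib T) ?_) (Submodule.Quotient.mk_smul _ _ _)
          show pr ξ (v ξ) (w ξ) = _
          rw [← hφ, ← hψ]
          show KFlatLib.stalkTensorLin L N ξ _ = _
          rw [TensorProduct.smul_tmul_smul, map_smul, KFlatLib.stalkTensorLin_germ]
          rfl
      have hT : PicF.IsInvertible T := AmpleThLib.shT_isInvertible hL hN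
      have hP : ∀ ξ, P ξ ≠ 0 := by
        intro ξ h
        obtain ⟨U₁, e, hξ₁, he⟩ := TwistLib.exists_genOn hL ξ
        obtain ⟨U₂, f, hξ₂, hf⟩ := TwistLib.exists_genOn hN ξ
        have he' := he.res (inf_le_left : U₁ ⊓ U₂ ≤ U₁)
        have hf' := hf.res (inf_le_right : U₁ ⊓ U₂ ≤ U₂)
        have hξ : ξ ∈ U₁ ⊓ U₂ := ⟨hξ₁, hξ₂⟩
        obtain ⟨φ, ψ, h1, h2, h3⟩ := key he' hf' hξ
        have h4 := (CycC1Lib.fib_smul_eq_zero_iff ((he'.genAt hξ).tensor (hf'.genAt hξ)) (φ * ψ)).1 (h3.symm.trans h)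
        rw [map_mul] at h4
        rcases mul_eq_zero.1 h4 with h5 | h5
        · exact CycC1Lib.residue_coord_ne_zero (he'.genAt hξ) (hsL ξ) h1 h5
        · exact CycC1Lib.residue_coord_ne_zero (hf'.genAt hξ) (hsN ξ) h2 h5
      have hadd : ∀ ξ x, Cyc.secDivFun δ T ξ (P ξ) x =
          Cyc.secDivFun δ L ξ (sL ξ) x + Cyc.secDivFun δ N ξ (sN ξ) x := by
        intro ξ x
        by_cases h : ξ ⤳ x ∧ δ x + 1 = δ ξ
        swap
        · rw [CycC1Lib.secDivFun_eq_zero_of_not h, CycC1Lib.secDivFun_eq_zero_of_not h,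
            CycC1Lib.secDivFun_eq_zero_of_not h, add_zero]
        obtain ⟨U₁, e, hx₁, he⟩ := TwistLib.exists_genOn hL x
        obtain ⟨U₂, f, hx₂, hf⟩ := TwistLib.exists_genOn hN x
        have he' := he.res (inf_le_left : U₁ ⊓ U₂ ≤ U₁)
        have hf' := hf.res (inf_le_right : U₁ ⊓ U₂ ≤ U₂)
        have hx' : x ∈ U₁ ⊓ U₂ := ⟨hx₁, hx₂⟩
        have hξ : ξ ∈ U₁ ⊓ U₂ := h.1.mem_open (U₁ ⊓ U₂).isOpen hx'
        obtain ⟨φ, ψ, h1, h2, h3⟩ := key he' hf' hξ
        rw [CycC1Lib.secDivFun_eq_divFun hX (AmpleThLib.shT_genOn he' hf') hx' hξ h3,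
          CycC1Lib.secDivFun_eq_divFun hX he' hx' hξ h1, CycC1Lib.secDivFun_eq_divFun hX hf' hx' hξ h2, map_mul]
        simp only [Cyc.divFun, dif_pos h]
        exact CycDivLib.ordAt_mul h.1 (CycPushLib.dimBetween_le_one_of_drop hX h.1 h.2)
          (CycC1Lib.residue_coord_ne_zero (he'.genAt hξ) (hsL ξ) h1)
          (CycC1Lib.residue_coord_ne_zero (hf'.genAt hξ) (hsN ξ) h2)
      refine CycC1Lib.ratEquiv_c1Cap hX hT α hα hP hsT _ _ ?_ hγT
      funext x
      obtain ⟨S, hS⟩ := CycC1Lib.exists_finset_generizations α x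
      show γL x + γN x = _
      rw [hγL, hγN, CycC1Lib.c1CapFun_eq_sum hS, CycC1Lib.c1CapFun_eq_sum hS, CycC1Lib.c1CapFun_eq_sum hS,
        ← Finset.sum_add_distrib]
      refine Finset.sum_congr rfl fun ξ _ => ?_
      rw [hadd, mul_add]

end Groth.Agent.S6454
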