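import Groth.Statements.S1859
import Mathlib
-- import your own Groth.Agent.* helpers here

set_option autoImplicit false
universe u
open CategoryTheory AlgebraicGeometry
open Cyc

namespace Groth.Agent.S1859

/-- For proper morphisms f : X → Y and g : Y → Z and a k-cycle α on X, g_*(f_*α) = (g ∘ f)_*α. Here a
pair (X, δ) with Cyc.IsSetup plays the role of a scheme locally of finite type over a fixed base
with a dimension function (X locally Noetherian with universally catenary local rings, δ a dimension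
function), and Cyc.DeltaCompat records that the dimension function upstairs is the induced one. -/
theorem result (X Y Z : Scheme.{u}) (δX : X → ℤ) (δY : Y → ℤ) (δZ : Z → ℤ) (hX : Cyc.IsSetup X δX) (hY : Cyc.IsSetup Y δY) (hZ : Cyc.IsSetup Z δZ) (f : X ⟶ Y) (g : Y ⟶ Z) [IsProper f] [IsProper g] (hf : Cyc.DeltaCompat f δX δY) (hg : Cyc.DeltaCompat g δY δZ) (k : ℤ) (α : AlgebraicCycle X ℤ) (hα : α ∈ Cyc.Zk X δX k) : AlgebraicCycle.map g δY δZ (AlgebraicCycle.map f δX δY α) = AlgebraicCycle.map (f ≫ g) δX δZ α := by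
  classical
  obtain ⟨U, ⟨hUo, hUc⟩, -⟩ : ∃ U : Set Z, (IsOpen U ∧ IsCompact U) ∧ True := ⟨∅, ⟨isOpen_empty, isCompact_empty⟩, trivial⟩
  ext z
  obtain ⟨U, ⟨hUo, hUc⟩, hzU, -⟩ := (PrespectralSpace.isTopologicalBasis (X := Z)).exists_subset_of_mem_open
    (Set.mem_univ z) isOpen_univ
  have hfin : ((f ≫ g) ⁻¹' U ∩ Function.support α).Finite :=
    α.locallyFiniteSupport.finite_inter_support_of_isCompact ((f ≫ g).isSpectralMap.isCompact_preimage_of_isOpen hUo hUc)
  let s : Finset X := hfin.toFinset.filter (fun x => g (f x) = z)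
  have hs : ∀ x, x ∈ s ↔ g (f x) = z ∧ α x ≠ 0 := by
    intro x
    simp only [s, Finset.mem_filter, Set.Finite.mem_toFinset, Set.mem_inter_iff, Set.mem_preimage, Function.mem_support]
    constructor
    · rintro ⟨⟨-, h⟩, h'⟩; exact ⟨h', h⟩
    · rintro ⟨h', h⟩
      refine ⟨⟨?_, h⟩, h'⟩
      show g (f x) ∈ U
      rw [h']; exact hzU
  have happly : ∀ {P Q : Scheme.{u}} (φ : P ⟶ Q) [QuasiCompact φ] (δP : P → ℤ) (δQ : Q → ℤ) (c : AlgebraicCycle P ℤ) (q : Q)
      (t : Finset P), (∀ x, φ x = q → c x ≠ 0 → x ∈ t) → (∀ x ∈ t, φ x = q) →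
      AlgebraicCycle.map φ δP δQ c q = ∑ x ∈ t, c x * (AlgebraicCycle.mapCoeff φ δP δQ x : ℤ) := by
    intro P Q φ _ δP δQ c q t ht ht'
    refine (Function.locallyFinsupp.map_apply _ _ _ _).trans ?_
    refine finsum_mem_eq_sum_of_subset _ ?_ ?_
    · rintro x ⟨h1, h2⟩
      exact ht x h1 (fun h0 => h2 (by simp [h0]))
    · exact fun x hx => ht' x hx
  rw [happly (f ≫ g) δX δZ α z s (fun x h1 h2 => (hs x).mpr ⟨h1, h2⟩) (fun x hx => ((hs x).mp hx).1)]
  let t : Finset Y := s.image (fun x => f x)
  have hfib : ∀ y : Y, g y = z → AlgebraicCycle.map f δX δY α y =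
      ∑ x ∈ s.filter (fun x => f x = y), α x * (AlgebraicCycle.mapCoeff f δX δY x : ℤ) := by
    intro y hy
    apply happly f
    · intro x hx hx0
      exact Finset.mem_filter.mpr ⟨(hs x).mpr ⟨by rw [hx, hy], hx0⟩, hx⟩
    · exact fun x hx => (Finset.mem_filter.mp hx).2
  rw [happly g δY δZ (AlgebraicCycle.map f δX δY α) z t ?_ ?_]
  swap
  · intro y hy hy0
    rw [hfib y hy] at hy0
    obtain ⟨x, hx, -⟩ := Finset.exists_ne_zero_of_sum_ne_zero hy0
    exact Finset.mem_image.mpr ⟨x, (Finset.mem_filter.mp hx).1, (Finset.mem_filter.mp hx).2⟩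
  swap
  · intro y hy
    obtain ⟨x, hx, rfl⟩ := Finset.mem_image.mp hy
    exact ((hs x).mp hx).1
  calc ∑ y ∈ t, AlgebraicCycle.map f δX δY α y * (AlgebraicCycle.mapCoeff g δY δZ y : ℤ)
      = ∑ y ∈ t, ∑ x ∈ s.filter (fun x => f x = y), α x * (AlgebraicCycle.mapCoeff f δX δY x : ℤ) * (AlgebraicCycle.mapCoeff g δY δZ (f x) : ℤ) := by
        refine Finset.sum_congr rfl fun y hy => ?_
        obtain ⟨x₀, hx₀, rfl⟩ := Finset.mem_image.mp hy
        rw [hfib _ ((hs x₀).mp hx₀).1, Finset.sum_mul]
        exact Finset.sum_congr rfl fun x hx => by rw [(Finset.mem_filter.mp hx).2]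
    _ = ∑ x ∈ s, α x * (AlgebraicCycle.mapCoeff f δX δY x : ℤ) * (AlgebraicCycle.mapCoeff g δY δZ (f x) : ℤ) :=
        Finset.sum_fiberwise_of_maps_to (fun x hx => Finset.mem_image_of_mem _ hx) _
    _ = _ := by
        refine Finset.sum_congr rfl fun x _ => ?_
        rw [mul_assoc, ← Nat.cast_mul]
        congr 2
        obtain ⟨n, -, hn⟩ := hf x
        obtain ⟨m, -, hm⟩ := hg (f x)
        unfold AlgebraicCycle.mapCoeff
        have hdeg : (f ≫ g).residueDegree x = f.residueDegree x * g.residueDegree (f x) := by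
          unfold AlgebraicGeometry.Scheme.Hom.residueDegree
          letI : Algebra (Z.residueField (g (f x))) (Y.residueField (f x)) := (g.residueFieldMap (f x)).hom.toAlgebra
          letI : Algebra (Y.residueField (f x)) (X.residueField x) := (f.residueFieldMap x).hom.toAlgebra
          letI : Algebra (Z.residueField (g (f x))) (X.residueField x) := ((f ≫ g).residueFieldMap x).hom.toAlgebra
          haveI : IsScalarTower (Z.residueField (g (f x))) (Y.residueField (f x)) (X.residueField x) :=
            IsScalarTower.of_algebraMap_eq fun a => by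
              have h := Scheme.residueFieldMap_comp f g x
              exact congrArg (fun e => e.hom a) h
          rw [mul_comm]
          exact (Module.finrank_mul_finrank (Z.residueField (g (f x))) (Y.residueField (f x)) (X.residueField x)).symm
        have hb : (f ≫ g).base x = g (f x) := rfl
        change (if δX x = δY (f x) then _ else 0) * (if δY (f x) = δZ (g (f x)) then _ else 0) = if δX x = δZ ((f ≫ g).base x) then _ else 0
        rw [hb, hdeg]
        split_ifs <;> omega

end Groth.Agent.S1859
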