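import Groth.Statements.S1857
import Mathlib
import Groth.Agent.CycLimLib.Gen
-- import your own Groth.Agent.* helpers here

set_option autoImplicit false
universe u
open CategoryTheory AlgebraicGeometry
open Cyc

namespace Groth.Agent.S1857

/-- For flat morphisms f : X → Y and g : Y → Z locally of finite type of relative dimensions r and s,
the composite has relative dimension r + s and (g ∘ f)^* = f^* ∘ g^* on k-cycles (equality of
coefficient functions). Here a pair (X, δ) with Cyc.IsSetup plays the role of a scheme locally of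
finite type over a fixed base with a dimension function (X locally Noetherian with universally
catenary local rings, δ a dimension function), and Cyc.DeltaCompat records that the dimension
function upstairs is the induced one. -/
theorem result (X Y Z : Scheme.{u}) (δX : X → ℤ) (δY : Y → ℤ) (δZ : Z → ℤ) (hX : Cyc.IsSetup X δX) (hY : Cyc.IsSetup Y δY) (hZ : Cyc.IsSetup Z δZ) (f : X ⟶ Y) (g : Y ⟶ Z) [Flat f] [LocallyOfFiniteType f] [Flat g] [LocallyOfFiniteType g] (r s : ℕ) (hr : Cyc.HasRelDim f r) (hs : Cyc.HasRelDim g s) (hf : Cyc.DeltaCompat f δX δY) (hg : Cyc.DeltaCompat g δY δZ) (k : ℤ) : Cyc.HasRelDim (f ≫ g) (r + s) ∧ ∀ α : AlgebraicCycle Z ℤ, α ∈ Cyc.Zk Z δZ k → Cyc.pullFun f δX δY r (Cyc.pullFun g δY δZ s ⇑α) = Cyc.pullFun (f ≫ g) δX δZ ((r : ℤ) + s) ⇑α := by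
  haveI := hX.1
  refine ⟨CycLimLib.hasRelDim_comp f g hr hs, fun α _ => funext fun x => ?_⟩
  have hsh : ∀ x : X, CycLimLib.IsGen (f ≫ g) x → δX x = δZ ((f ≫ g) x) + ((r : ℤ) + s) := fun x h => by
    obtain ⟨h1, h2⟩ := (CycLimLib.isGen_comp_iff f g x).1 h
    rw [CycLimLib.delta_eq_of_gen f hf hr h1, CycLimLib.delta_eq_of_gen g hg hs h2]
    show _ = δZ (g (f x)) + ((r : ℤ) + s)
    ring
  simp only [Cyc.pullFun]
  by_cases h : δX x = δZ ((f ≫ g) x) + ((r : ℤ) + s)
  · have hgen := (CycLimLib.isGen_comp_iff f g x).1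
      (CycLimLib.isGen_of_delta (f ≫ g) δX (fun z => δZ z + ((r : ℤ) + s)) hX.2.2 hsh h)
    rw [if_pos h, if_pos (CycLimLib.delta_eq_of_gen f hf hr hgen.1), if_pos (CycLimLib.delta_eq_of_gen g hg hs hgen.2)]
    show α (g (f x)) * _ * _ = α (g (f x)) * _
    rw [show Module.length (X.presheaf.stalk x) (X.presheaf.stalk x ⧸ Ideal.map ((f ≫ g).stalkMap x).hom
        (IsLocalRing.maximalIdeal (Z.presheaf.stalk ((f ≫ g) x)))) = _ from CycLimLib.length_fibIdeal_comp f g x,
      ENat.toNat_mul, Nat.cast_mul, mul_assoc]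
  · rw [if_neg h]
    split_ifs with h1 h2
    · exact absurd (by rw [h1, h2]; show _ = δZ (g (f x)) + ((r : ℤ) + s); ring) h
    · rw [zero_mul]
    · rfl

end Groth.Agent.S1857
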