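import Groth.Statements.S1405
import Groth.Agent.AlgSpLib.Noeth

set_option autoImplicit false
universe u
open FlatMor

namespace Groth.Agent.S1405

open AlgebraicGeometry CategoryTheory CategoryTheory.Limits TensorProduct

theorem tensor_noetherian_iff (k K B : Type u) [Field k] [Field K] [CommRing B] [Algebra k K] [Algebra k B]
    [Algebra.EssFiniteType k K] : IsNoetherianRing (B ⊗[k] K) ↔ IsNoetherianRing B := by
  constructor
  · intro h
    haveI : Module.FaithfullyFlat B (B ⊗[k] K) := inferInstance
    exact AlgSpLib.isNoetherianRing_of_faithfullyFlat B (B ⊗[k] K)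
  · intro h
    haveI : Algebra.EssFiniteType B (B ⊗[k] K) := Algebra.EssFiniteType.baseChange (R := k) (S := K) (T := B)
    exact Algebra.EssFiniteType.isNoetherianRing B (B ⊗[k] K)

theorem pullback_noetherian_iff (k K : Type u) [Field k] [Field K] [Algebra k K] [Algebra.EssFiniteType k K]
    {X : Scheme.{u}} (f : X ⟶ Spec (CommRingCat.of k)) :
    IsLocallyNoetherian (pullback f (Spec.map (CommRingCat.ofHom (algebraMap k K)))) ↔ IsLocallyNoetherian X := by
  let s := Spec.map (CommRingCat.ofHom (algebraMap k K))
  let d : (pullback f s).OpenCover := X.affineCover.pullback₁ (pullback.fst f s)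
  have key : ∀ {A : CommRingCat.{u}} (c : Spec A ⟶ X),
      IsLocallyNoetherian (pullback (pullback.fst f s) c) ↔ IsLocallyNoetherian (Spec A) := by
    intro A c
    obtain ⟨φ, hφ⟩ : ∃ φ : CommRingCat.of k ⟶ A, Spec.map φ = c ≫ f := Spec.map_surjective _
    letI := φ.hom.toAlgebra
    have sq := (IsPullback.of_hasPullback (pullback.fst f s) c).flip.paste_vert (IsPullback.of_hasPullback f s)
    rw [← hφ] at sq
    let e : pullback (pullback.fst f s) c ≅ Spec (CommRingCat.of (A ⊗[k] K)) := sq.isoPullback ≪≫ pullbackSpecIso k A K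
    have he : IsLocallyNoetherian (pullback (pullback.fst f s) c) ↔ IsLocallyNoetherian (Spec (CommRingCat.of (A ⊗[k] K))) :=
      ⟨fun _ => isLocallyNoetherian_of_isOpenImmersion e.inv, fun _ => isLocallyNoetherian_of_isOpenImmersion e.hom⟩
    rw [he]
    exact (isLocallyNoetherian_Spec).trans ((tensor_noetherian_iff k K A).trans isLocallyNoetherian_Spec.symm)
  rw [isLocallyNoetherian_iff_openCover X.affineCover, isLocallyNoetherian_iff_openCover d]
  exact forall_congr' fun i => key (X.affineCover.f i)

theorem essFiniteType_residueFieldMap {Y Y' : Scheme.{u}} (g : Y' ⟶ Y) [LocallyOfFiniteType g] (y' : Y') :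
    (g.residueFieldMap y').hom.EssFiniteType := by
  have h1 : ((Y.residue (g y')) ≫ g.residueFieldMap y').hom.EssFiniteType := by
    rw [Scheme.residue_residueFieldMap, CommRingCat.hom_comp]
    exact RingHom.EssFiniteType.stableUnderComposition _ _ (LocallyOfFiniteType.stalkMap g y')
      (RingHom.FiniteType.essFiniteType (RingHom.FiniteType.of_surjective _ (Y'.residue_surjective y')))
  rw [CommRingCat.hom_comp] at h1
  exact RingHom.EssFiniteType.of_comp _ h1

theorem fibre_iff {X Y X' Y' : Scheme.{u}} {f : X ⟶ Y} {f' : X' ⟶ Y'} {g' : X' ⟶ X} {g : Y' ⟶ Y}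
    [LocallyOfFiniteType g] (hc : IsPullback g' f' f g) (y' : Y') :
    IsLocallyNoetherian (f'.fiber y') ↔ IsLocallyNoetherian (f.fiber (g y')) := by
  have h := isPullback_fiberToSpecResidueField_of_isPullback hc y'
  letI := (g.residueFieldMap y').hom.toAlgebra
  haveI : Algebra.EssFiniteType (Y.residueField (g y')) (Y'.residueField y') := essFiniteType_residueFieldMap g y'
  rw [← pullback_noetherian_iff (Y.residueField (g y')) (Y'.residueField y') (f.fiberToSpecResidueField (g y'))]
  exact ⟨fun h0 => @isLocallyNoetherian_of_isOpenImmersion _ _ h.isoPullback.inv inferInstance h0,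
    fun h0 => @isLocallyNoetherian_of_isOpenImmersion _ _ h.isoPullback.hom inferInstance h0⟩

open AlgebraicGeometry CategoryTheory Limits in
/-- Let Y' → Y be flat, locally of finite presentation and surjective and f' the base change of f : X →
Y. Then all fibres of f are locally Noetherian if and only if all fibres of f' are. -/
theorem result {X Y X' Y' : Scheme.{u}} (f : X ⟶ Y) (f' : X' ⟶ Y') (g' : X' ⟶ X) (g : Y' ⟶ Y) [Flat g] [LocallyOfFinitePresentation g] [Surjective g]
    (hc : IsPullback g' f' f g) :
    (∀ y : Y, IsLocallyNoetherian (f.fiber y)) ↔ ∀ y' : Y', IsLocallyNoetherian (f'.fiber y') := by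
  refine ⟨fun h y' => (fibre_iff hc y').mpr (h _), fun h y => ?_⟩
  obtain ⟨y', rfl⟩ := g.surjective y
  exact (fibre_iff hc y').mp (h y')

end Groth.Agent.S1405
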