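import Groth.Statements.S1940
import Mathlib
import Groth.Agent.CycDivLib.Pull
import Groth.Agent.TameLib.OrdFrac
import Groth.Agent.CycLimLib.Dim
-- import your own Groth.Agent.* helpers here

set_option autoImplicit false
universe u
open CategoryTheory AlgebraicGeometry
open Cyc

namespace Groth.Agent.S1940

/-- Base change of cycles preserves rational equivalence to zero. Setting (flat base change rendered
base-free): p : X' → X is a flat morphism (not necessarily of finite type), (X, δ) and (X', δ') are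
schemes with dimension functions in the sense of Cyc.IsSetup (locally Noetherian with universally
catenary local rings, δ a dimension function), and c is an integer such that δ'(x') = δ(p x') + c
whenever x' is a generic point of an irreducible component of its fibre; g^* : Z_k(X) → Z_{k+c}(X')
denotes the coefficientwise flat pullback Cyc.pullFun p δ' δ c. Statement: if a k-cycle α on X is
rationally equivalent to zero, then any cycle α' on X' whose coefficients are those of g^*α is
rationally equivalent to zero as a (k + c)-cycle on X'. (A pair (X, δ) with Cyc.IsSetup plays the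
role of a scheme locally of finite type over a base carrying a dimension function, and the
hypothesis on δ' records that the dimension function upstairs is the induced one.) -/
theorem result (X X' : Scheme.{u}) (δ : X → ℤ) (δ' : X' → ℤ) (hX : Cyc.IsSetup X δ) (hX' : Cyc.IsSetup X' δ') (p : X' ⟶ X) [Flat p] (c : ℤ) (hc : ∀ x' : X', (∀ y, p y = p x' → y ⤳ x' → y = x') → δ' x' = δ (p x') + c) (k : ℤ) (α : AlgebraicCycle X ℤ) (hα : α ∈ Cyc.Zk X δ k) (h0 : Cyc.RatEquivZero δ k α) (α' : AlgebraicCycle X' ℤ) (hα' : ⇑α' = Cyc.pullFun p δ' δ c ⇑α) : Cyc.RatEquivZero δ' (k + c) α' := by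
    classical
    haveI := hX.1
    haveI := hX'.1
    obtain ⟨ι, ξ, g, hξk, hg, hlf, hsum⟩ := h0
    let I' := Σ i, {ζ : X' // CycLimLib.IsGen p ζ ∧ p ζ = ξ i}
    let mult : I' → ℕ := fun s =>
      (Module.length (X'.presheaf.stalk s.2.1) (X'.presheaf.stalk s.2.1 ⧸ CycLimLib.fibIdeal p s.2.1)).toNat
    have hloc : ∀ x : X', ∃ U : Set X', IsOpen U ∧ x ∈ U ∧ {s : I' | (closure {s.2.1} ∩ U).Nonempty}.Finite := by
      intro x
      obtain ⟨U, hU, hxU, hfin⟩ := hlf (p x)
      obtain ⟨V, hV, hxV, -⟩ := exists_isAffineOpen_mem_and_subset (X := X') (x := x) (U := ⊤) trivial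
      haveI : IsNoetherianRing Γ(X', V) := IsLocallyNoetherian.component_noetherian ⟨V, hV⟩
      refine ⟨p ⁻¹' U ∩ (V : Set X'), (hU.preimage p.continuous).inter V.isOpen, ⟨hxU, hxV⟩, ?_⟩
      have hper : ∀ i, {ζ : {ζ : X' // CycLimLib.IsGen p ζ ∧ p ζ = ξ i} | ζ.1 ∈ V}.Finite := by
        intro i
        let Z : Set X' := p ⁻¹' closure {ξ i}
        let J := PrimeSpectrum.vanishingIdeal (hV.fromSpec ⁻¹' Z)
        refine Set.Finite.of_injOn (f := fun ζ => if h : ζ.1 ∈ V then (hV.primeIdealOf ⟨ζ.1, h⟩).asIdeal else ⊤)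
          (t := J.minimalPrimes) ?_ ?_ (Ideal.finite_minimalPrimes_of_isNoetherianRing _ J)
        · intro ζ hζ
          simp only [dif_pos (show ζ.1 ∈ V from hζ)]
          have hmem : hV.primeIdealOf ⟨ζ.1, hζ⟩ ∈ hV.fromSpec ⁻¹' Z := by
            show p (hV.fromSpec (hV.primeIdealOf ⟨ζ.1, hζ⟩)) ∈ closure {ξ i}
            rw [hV.fromSpec_primeIdealOf, ζ.2.2]
            exact subset_closure rfl
          refine ⟨⟨(hV.primeIdealOf ⟨ζ.1, hζ⟩).2, (PrimeSpectrum.subset_zeroLocus_vanishingIdeal _) hmem⟩,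
            fun Q hQ hle => ?_⟩
          let q : PrimeSpectrum Γ(X', V) := ⟨Q, hQ.1⟩
          have hq : q ∈ hV.fromSpec ⁻¹' Z := by
            have : q ∈ PrimeSpectrum.zeroLocus (J : Set Γ(X', V)) := hQ.2
            rw [PrimeSpectrum.zeroLocus_vanishingIdeal_eq_closure] at this
            exact closure_minimal (Set.Subset.refl _) ((isClosed_closure.preimage p.continuous).preimage hV.fromSpec.continuous) this
          have hs : hV.fromSpec q ⤳ ζ.1 := by
            have h := ((PrimeSpectrum.le_iff_specializes q (hV.primeIdealOf ⟨ζ.1, hζ⟩)).mp hle).map hV.fromSpec.continuous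
            rwa [hV.fromSpec_primeIdealOf ⟨ζ.1, hζ⟩] at h
          have heq : p (hV.fromSpec q) = p ζ.1 :=
            ((hs.map p.continuous).antisymm ((specializes_of_eq ζ.2.2).trans (specializes_iff_mem_closure.2 hq))).eq
          have hqe : q = hV.primeIdealOf ⟨ζ.1, hζ⟩ := hV.fromSpec.isOpenEmbedding.injective
            ((ζ.2.1 _ heq hs).trans (hV.fromSpec_primeIdealOf ⟨ζ.1, hζ⟩).symm)
          exact (congrArg PrimeSpectrum.asIdeal hqe).ge
        · intro a ha b hb hab
          simp only [dif_pos (show a.1 ∈ V from ha), dif_pos (show b.1 ∈ V from hb)] at hab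
          have := congrArg hV.fromSpec.base (PrimeSpectrum.ext hab :
            hV.primeIdealOf ⟨a.1, ha⟩ = hV.primeIdealOf ⟨b.1, hb⟩)
          exact Subtype.ext (by simpa only [hV.fromSpec_primeIdealOf] using this)
      refine (hfin.toFinset.sigma fun i => (hper i).toFinset).finite_toSet.subset ?_
      rintro ⟨i, ζ⟩ ⟨z, hz, hzU, hzV⟩
      have hs : ζ.1 ⤳ z := specializes_iff_mem_closure.2 hz
      rw [Finset.mem_coe, Finset.mem_sigma, Set.Finite.mem_toFinset, Set.Finite.mem_toFinset]
      exact ⟨⟨p z, specializes_iff_mem_closure.1 ((specializes_of_eq ζ.2.2.symm).trans (hs.map p.continuous)), hzU⟩,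
        hs.mem_open V.isOpen hzV⟩
    refine ⟨I', fun s => s.2.1, fun s => (CycDivLib.gpull p s.2.2.2 (g s.1)) ^ mult s, fun s => ?_, fun s => ?_, hloc,
      fun x => ?_⟩
    · rw [hc s.2.1 s.2.2.1, s.2.2.2, hξk]
      ring
    · exact pow_ne_zero _ ((_root_.map_ne_zero (CycDivLib.gpull p s.2.2.2).hom).2 (hg s.1))
    have hpow : ∀ s : I', Cyc.divFun δ' s.2.1 ((CycDivLib.gpull p s.2.2.2 (g s.1)) ^ mult s) x =
        (mult s : ℤ) * Cyc.divFun δ' s.2.1 (CycDivLib.gpull p s.2.2.2 (g s.1)) x := by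
      intro s
      simp only [Cyc.divFun]
      split_ifs with h1
      · obtain ⟨n, hn⟩ := EquidimLib.exists_dimBetween_eq_nat h1.1
        have := CycLimLib.delta_eq_add hX' h1.1 hn
        have := h1.2
        haveI : Ring.KrullDimLE 1 (Cyc.LocQuot x s.2.1 h1.1) := Ring.krullDimLE_iff.2
          ((CycDivLib.dim_locQuot h1.1).le.trans (by rw [hn]; exact_mod_cast (show n ≤ 1 by omega)))
        exact TameLib.ordFrac_pow ((_root_.map_ne_zero (CycDivLib.gpull p s.2.2.2).hom).2 (hg s.1)) (mult s)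
      · rw [mul_zero]
    obtain ⟨U, -, hxU, hfinI⟩ := hloc x
    obtain ⟨W, -, hyW, hfinJ⟩ := hlf (p x)
    let S := hfinI.toFinset
    let J := hfinJ.toFinset
    have hI : ∀ i, i ∉ J → Cyc.divFun δ (ξ i) (g i) (p x) = 0 := fun i hi => by
      simp only [Cyc.divFun]
      rw [dif_neg fun hh => hi (hfinJ.mem_toFinset.2 ⟨p x, specializes_iff_mem_closure.1 hh.1, hyW⟩)]
    have hS : ∀ s : I', s ∉ S → Cyc.divFun δ' s.2.1 (CycDivLib.gpull p s.2.2.2 (g s.1)) x = 0 := fun s hs => by
      simp only [Cyc.divFun]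
      rw [dif_neg fun hh => hs (hfinI.mem_toFinset.2 ⟨x, specializes_iff_mem_closure.1 hh.1, hxU⟩)]
    have hy : α (p x) = ∑ i ∈ J, Cyc.divFun δ (ξ i) (g i) (p x) := by
      rw [hsum (p x)]
      exact finsum_eq_sum_of_support_subset _ fun i hi => by
        by_contra h
        exact hi (hI i h)
    calc α' x = Cyc.pullFun p δ' δ c ⇑α x := by rw [hα']
      _ = ∑ i ∈ J, Cyc.pullFun p δ' δ c (Cyc.divFun δ (ξ i) (g i)) x := by
          simp only [Cyc.pullFun]
          split_ifs
          · rw [← Finset.sum_mul, hy]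
          · rw [Finset.sum_const_zero]
      _ = ∑ i ∈ J, ∑ᶠ ζ : {ζ : X' // CycLimLib.IsGen p ζ ∧ p ζ = ξ i},
            (mult ⟨i, ζ⟩ : ℤ) * Cyc.divFun δ' ζ.1 (CycDivLib.gpull p ζ.2.2 (g i)) x :=
          Finset.sum_congr rfl fun i _ => CycDivLib.pullFun_divFun_of_gen p hX' hX hc (ξ i) (hg i) x
      _ = ∑ i ∈ J, ∑ ζ ∈ S.preimage (Sigma.mk i) (sigma_mk_injective.injOn),
            (mult ⟨i, ζ⟩ : ℤ) * Cyc.divFun δ' ζ.1 (CycDivLib.gpull p ζ.2.2 (g i)) x :=
          Finset.sum_congr rfl fun i _ => finsum_eq_sum_of_support_subset _ fun ζ hζ => by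
            by_contra h
            refine hζ ?_
            show _ * _ = 0
            rw [hS ⟨i, ζ⟩ fun h' => h (Finset.mem_coe.2 (Finset.mem_preimage.2 h')), mul_zero]
      _ = ∑ s ∈ J.sigma (fun i => S.preimage (Sigma.mk i) (sigma_mk_injective.injOn)),
            (mult s : ℤ) * Cyc.divFun δ' s.2.1 (CycDivLib.gpull p s.2.2.2 (g s.1)) x := (Finset.sum_sigma J (fun i => S.preimage (Sigma.mk i) (sigma_mk_injective.injOn))
            (fun s : I' => (mult s : ℤ) * Cyc.divFun δ' s.2.1 (CycDivLib.gpull p s.2.2.2 (g s.1)) x)).symm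
      _ = ∑ᶠ s : I', Cyc.divFun δ' s.2.1 ((CycDivLib.gpull p s.2.2.2 (g s.1)) ^ mult s) x := by
          rw [finsum_congr hpow]
          refine (finsum_eq_sum_of_support_subset _ fun s hs => ?_).symm
          have hs' : Cyc.divFun δ' s.2.1 (CycDivLib.gpull p s.2.2.2 (g s.1)) x ≠ 0 := fun h0 => hs (by
            show _ * _ = 0
            rw [h0, mul_zero])
          rw [Finset.mem_coe, Finset.mem_sigma, Finset.mem_preimage]
          refine ⟨hfinJ.mem_toFinset.2 ⟨p x, ?_, hyW⟩, by_contra fun h => hs' (hS s h)⟩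
          simp only [Cyc.divFun] at hs'
          split_ifs at hs' with hh
          · exact specializes_iff_mem_closure.1 ((specializes_of_eq s.2.2.2.symm).trans (hh.1.map p.continuous))
          · exact absurd rfl hs'

end Groth.Agent.S1940
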