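import Groth.Statements.S1688
import Groth.Agent.KFlatLib.PerfectPull
import Groth.Agent.KFlatLib.FPFlatFree
import Groth.Agent.KFlatLib.TorAmpMore
import Groth.Agent.KFlatLib.FlatRes
import Groth.Agent.PerfLib.FiniteType
import Groth.Agent.QCohLib.Coherent
import Groth.Agent.SDivLib.Stalk
import Groth.Agent.CommAlgDim.Regular
import Mathlib.RingTheory.DiscreteValuationRing.TFAE
import Mathlib.RingTheory.Flat.TorsionFree

set_option autoImplicit false
universe u
open CategoryTheory CategoryTheory.Limits AlgebraicGeometry TopologicalSpace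
open SDiv

namespace Groth.Agent.S1688
open KFlatLib

attribute [local instance] HasDerivedCategory.standard

theorem isFinLocFree_of_isFP_of_flat {X : Scheme.{u}} {M : X.Modules} (h : CohB1.IsFP M)
    (hM : FlatMod.IsFlat M) : FlatMod.IsFinLocFree M := by
  refine isFinLocFree_of_freeNear fun x => ?_
  obtain ⟨O, P, hxO, hP⟩ := Groth.Agent.PerfLib.exists_presentation_nhd h x
  let M' := M.restrict O.ι
  haveI := hP.isFiniteType_generators
  haveI := hP.isFiniteType_relations
  haveI : Finite P.generators.I := inferInstance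
  haveI : Finite P.relations.I := inferInstance
  obtain ⟨q, ⟨eq⟩⟩ := Groth.Agent.PerfLib.isFinFree_free (X := (O : Scheme.{u})) P.generators.I
  obtain ⟨p, ⟨ep⟩⟩ := Groth.Agent.PerfLib.isFinFree_free (X := (O : Scheme.{u})) P.relations.I
  let π' : (SheafOfModules.free P.generators.I : (O : Scheme.{u}).Modules) ⟶ M' := P.generators.π
  haveI : Epi π' := P.generators.epi
  let ρ : (SheafOfModules.free P.relations.I : (O : Scheme.{u}).Modules) ⟶ kernel π' := P.relations.π
  haveI : Epi ρ := P.relations.epi
  have hc := isCokernelEpiComp (Abelian.epiIsCokernelOfKernel _ (kernelIsKernel π')) ρ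
    (h := ρ ≫ kernel.ι π') rfl
  have hw : (ρ ≫ kernel.ι π') ≫ π' = 0 := by rw [Category.assoc, kernel.condition, comp_zero]
  have hflat : FlatMod.IsFlat M' :=
    flat_of_iso ((Scheme.Modules.restrictFunctorIsoPullback O.ι).app M).symm (flat_pullback O.ι hM)
  have hfn := freeNear_of_flat hflat _ _ (by
      simp only [Iso.symm_hom, Iso.symm_inv, Category.assoc, Iso.hom_inv_id_assoc]
      erw [← Category.assoc ρ, hw, comp_zero])
    (isColimitConj (w := hw) hc ep.symm eq.symm (by
      simp only [Iso.symm_hom, Iso.symm_inv, Category.assoc, Iso.hom_inv_id_assoc]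
      erw [← Category.assoc ρ, hw, comp_zero]))
    (⟨x, hxO⟩ : (O : Scheme.{u}))
  obtain ⟨W, hW, hfree⟩ := hfn
  exact freeNear_of_pullback (U := O) ⟨x, hxO⟩ ⟨W, hW, isFinFree_of_iso
    ((Scheme.Modules.pullback W.ι).mapIso ((Scheme.Modules.restrictFunctorIsoPullback O.ι).app M)) hfree⟩

/-- Let X be a locally Noetherian integral scheme of dimension at most 1 all of whose local rings are
regular, and F a coherent module on X. Then F is torsion free (every stalk is a torsion-free module
over the local ring) if and only if F is finite locally free. -/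
theorem result (X : Scheme.{u}) [IsIntegral X] [IsLocallyNoetherian X] (hreg : ∀ x : ↥X, IsRegularLocalRing (X.presheaf.stalk x))
    (hdim : topologicalKrullDim ↥X ≤ 1) (F : X.Modules) (hF : Coh.IsCoh F) :
    (∀ x : ↥X, NoZeroSMulDivisors (X.presheaf.stalk x) (F.presheaf.stalk x)) ↔ FlatMod.IsFinLocFree F := by
  constructor
  · intro htf
    refine isFinLocFree_of_isFP_of_flat (QCohLib.isFP_of_isCoh F hF) fun x => ?_
    haveI := hreg x
    obtain ⟨U, hU, hxU, -⟩ := exists_isAffineOpen_mem_and_subset (U := (⊤ : X.Opens)) (x := x) trivial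
    have hd : ringKrullDim (X.presheaf.stalk x) ≤ 1 := by
      rw [SDivLib.ringKrullDim_stalk ⟨U, hU⟩ hxU]
      haveI : (SDivLib.prm ⟨U, hU⟩ hxU).IsPrime := SDivLib.prm_isPrime _ _
      refine (Ideal.height_le_ringKrullDim_of_ne_top (SDivLib.prm_isPrime ⟨U, hU⟩ hxU).ne_top).trans ?_
      rw [← PrimeSpectrum.topologicalKrullDim_eq_ringKrullDim]
      exact hU.fromSpec.isOpenEmbedding.isInducing.topologicalKrullDim_le.trans hdim
    have hsp : (IsLocalRing.maximalIdeal (X.presheaf.stalk x)).spanFinrank ≤ 1 := by
      have h1 := (hreg x).spanFinrank_maximalIdeal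
      rw [← h1] at hd
      exact_mod_cast hd
    have hprin : (IsLocalRing.maximalIdeal (X.presheaf.stalk x)).IsPrincipal := by
      have hfg : (IsLocalRing.maximalIdeal (X.presheaf.stalk x)).FG := IsNoetherian.noetherian _
      have hcard := Submodule.FG.generators_ncard hfg
      have hspan := Submodule.span_generators (IsLocalRing.maximalIdeal (X.presheaf.stalk x))
      rcases Nat.le_one_iff_eq_zero_or_eq_one.mp (hcard.trans_le hsp) with h | h
      · rw [Set.ncard_eq_zero (Submodule.FG.finite_generators hfg)] at h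
        rw [h, Submodule.span_empty] at hspan
        exact hspan ▸ bot_isPrincipal
      · obtain ⟨a, ha⟩ := Set.ncard_eq_one.mp h
        exact ⟨a, by rw [← hspan, ha]⟩
    haveI : IsPrincipalIdealRing (X.presheaf.stalk x) :=
      ((tfae_of_isNoetherianRing_of_isLocalRing_of_isDomain (X.presheaf.stalk x)).out 4 0).mp hprin
    show Module.Flat (X.presheaf.stalk x) (F.presheaf.stalk x)
    rw [Module.Flat.flat_iff_torsion_eq_bot_of_isBezout, eq_bot_iff]
    rintro m ⟨⟨r, hr⟩, hm⟩
    exact ((htf x).eq_zero_or_eq_zero_of_smul_eq_zero hm).resolve_left (nonZeroDivisors.ne_zero hr)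
  · intro hfree x
    haveI : Module.Flat (X.presheaf.stalk x) (F.presheaf.stalk x) := KFlatLib.isFlat_of_isFinLocFree hfree x
    refine ⟨fun {r m} hrm => or_iff_not_imp_left.mpr fun hr => ?_⟩
    exact Module.Flat.isSMulRegular_of_nonZeroDivisors (mem_nonZeroDivisors_of_ne_zero hr)
      (show r • m = r • 0 by rw [hrm, smul_zero])

end Groth.Agent.S1688
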