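import Groth.Statements.S7392
import Groth.Agent.KFlatLib.AffinePull

set_option autoImplicit false
universe u
open CategoryTheory AlgebraicGeometry
open Opposite
open Mor

namespace Groth.Agent.S7392

noncomputable def semiEquiv {R S : Type*} [CommRing R] [CommRing S] (e : R ≃+* S) : RingHomInvPair (e : R →+* S) (e.symm : S →+* R) :=
  RingHomInvPair.of_ringEquiv e

theorem projective_top (A : CommRingCat.{u}) (M : ModuleCat.{u} A) :
    Module.Projective A M ↔ Module.Projective Γ(Spec A, ⊤) Γ(tilde M, ⊤) := by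
  let σ : A ≃+* Γ(Spec A, ⊤) := (Scheme.ΓSpecIso A).symm.commRingCatIsoToRingEquiv
  letI := RingHomInvPair.of_ringEquiv σ
  letI := RingHomInvPair.of_ringEquiv σ.symm
  have he : Function.Bijective (tilde.toOpen M ⊤) := ConcreteCategory.bijective_of_isIso _
  let f : M →ₛₗ[(σ : A →+* Γ(Spec A, ⊤))] Γ(tilde M, ⊤) :=
    { toFun := fun m => (show Γ(tilde M, ⊤) from tilde.toOpen M ⊤ m)
      map_add' := fun a b => map_add (tilde.toOpen M ⊤).hom a b
      map_smul' := fun r m => by
        refine ((tilde.toOpen M ⊤).hom.map_smul r m).trans ?_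
        refine (Scheme.Modules.smul_Spec_def r _).trans ?_
        congr 1 }
  haveI : RingHomInvPair (σ : A →+* Γ(Spec A, ⊤)) (σ.symm : Γ(Spec A, ⊤) →+* A) := RingHomInvPair.of_ringEquiv σ
  haveI : RingHomInvPair (σ.symm : Γ(Spec A, ⊤) →+* A) (σ : A →+* Γ(Spec A, ⊤)) := RingHomInvPair.symm _ _
  let e := LinearEquiv.ofBijective f he
  exact ⟨fun _ => Module.Projective.of_equiv e, fun _ => Module.Projective.of_equiv e.symm⟩

theorem projective_of_top {X : Scheme.{u}} [IsAffine X] (M : X.Modules) [Coh.IsQCoh M]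
    (h : Module.Projective Γ(X, ⊤) Γ(M, ⊤)) {U : X.Opens} (hU : IsAffineOpen U) :
    Module.Projective Γ(X, U) Γ(M, U) := by
  let g : X ⟶ X := 𝟙 X
  have hle : U ≤ g ⁻¹ᵁ ⊤ := le_top
  letI : Algebra Γ(X, ⊤) Γ(X, U) := (g.appLE ⊤ U hle).hom.toAlgebra
  letI : Module Γ(X, ⊤) Γ(KFlatLib.pb g M, U) := Module.compHom _ (g.appLE ⊤ U hle).hom
  haveI : IsScalarTower Γ(X, ⊤) Γ(X, U) Γ(KFlatLib.pb g M, U) :=
    IsScalarTower.of_algebraMap_smul fun _ _ => rfl
  let ψ : Γ(M, (⊤ : X.Opens)) →ₗ[Γ(X, ⊤)] Γ(KFlatLib.pb g M, U) :=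
    { toFun := KFlatLib.puSecLE g M hle
      map_add' := fun a b => map_add (KFlatLib.puSecLE g M hle) a b
      map_smul' := fun r m => KFlatLib.puSecLE_smul g M hle r m }
  have hb := KFlatLib.isBaseChange_puSec g M (isAffineOpen_top X) hU hle (fun _ => rfl) ψ (fun _ => rfl)
  haveI : Module.Projective Γ(X, U) Γ(KFlatLib.pb g M, U) := Module.Projective.of_equiv hb.equiv
  let i := (Scheme.Modules.pullbackId X).app M
  let e : Γ(KFlatLib.pb g M, U) ≃ₗ[Γ(X, U)] Γ(M, U) :=
    LinearEquiv.ofBijective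
      { toFun := fun s => (Scheme.Modules.Hom.app i.hom U).hom s
        map_add' := fun a b => map_add (Scheme.Modules.Hom.app i.hom U).hom a b
        map_smul' := fun r s => Scheme.Modules.Hom.app_smul i.hom r s }
      (ConcreteCategory.bijective_of_isIso (Scheme.Modules.Hom.app i.hom U))
  exact Module.Projective.of_equiv e

/-- For a ring `A` and an `A`-module `M`, the module `M~` on `Spec A` is locally projective (projective
sections over every affine open) if and only if `M` is a projective `A`-module. -/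
theorem result (A : CommRingCat.{u}) (M : ModuleCat.{u} A) :
    (∀ U : (Spec A).Opens, IsAffineOpen U →
      Module.Projective ((Spec A).ringCatSheaf.obj.obj (op U)) ((tilde M).val.obj (op U))) ↔
      Module.Projective A M := by
  haveI : Coh.IsQCoh (tilde M) := inferInstanceAs ((tilde M).IsQuasicoherent)
  exact ⟨fun h => (projective_top A M).mpr (h ⊤ (isAffineOpen_top _)),
    fun h U hU => projective_of_top (tilde M) ((projective_top A M).mp h) hU⟩

end Groth.Agent.S7392
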