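import Groth.Statements.S2159
-- import your own Groth.Agent.* helpers here

set_option autoImplicit false
universe u
open CAlg

namespace Groth.Agent.S2159

/-- Given surjections `p₁ : P₁ → M` and `p₂ : P₂ → M` from projective modules, with kernels `K` and `L`,
there is an isomorphism `K ⊕ P₂ ≅ L ⊕ P₁`. -/
theorem result {R M P₁ P₂ : Type u} [CommRing R] [AddCommGroup M] [Module R M] [AddCommGroup P₁] [Module R P₁]
    [Module.Projective R P₁] [AddCommGroup P₂] [Module R P₂] [Module.Projective R P₂] (p₁ : P₁ →ₗ[R] M) (p₂ : P₂ →ₗ[R] M)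
    (h₁ : Function.Surjective p₁) (h₂ : Function.Surjective p₂) :
    Nonempty ((LinearMap.ker p₁ × P₂) ≃ₗ[R] (LinearMap.ker p₂ × P₁)) := by
  obtain ⟨h, hh⟩ := Module.projective_lifting_property p₂ p₁ h₂
  obtain ⟨g, hg⟩ := Module.projective_lifting_property p₁ p₂ h₁
  have hh' : ∀ a, p₂ (h a) = p₁ a := fun a => LinearMap.congr_fun hh a
  have hg' : ∀ b, p₁ (g b) = p₂ b := fun b => LinearMap.congr_fun hg b
  refine ⟨LinearEquiv.ofLinear
    (LinearMap.prod
      (LinearMap.codRestrict (LinearMap.ker p₂)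
        (LinearMap.snd R _ _ - h ∘ₗ ((LinearMap.ker p₁).subtype ∘ₗ LinearMap.fst R _ _ + g ∘ₗ LinearMap.snd R _ _))
        (fun x => by simp [hh', hg', x.1.2.out]))
      ((LinearMap.ker p₁).subtype ∘ₗ LinearMap.fst R _ _ + g ∘ₗ LinearMap.snd R _ _))
    (LinearMap.prod
      (LinearMap.codRestrict (LinearMap.ker p₁)
        (LinearMap.snd R _ _ - g ∘ₗ ((LinearMap.ker p₂).subtype ∘ₗ LinearMap.fst R _ _ + h ∘ₗ LinearMap.snd R _ _))
        (fun x => by simp [hh', hg', x.1.2.out]))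
      ((LinearMap.ker p₂).subtype ∘ₗ LinearMap.fst R _ _ + h ∘ₗ LinearMap.snd R _ _))
    ?_ ?_⟩
  · refine LinearMap.ext fun x => Prod.ext (Subtype.ext ?_) ?_ <;> simp
  · refine LinearMap.ext fun x => Prod.ext (Subtype.ext ?_) ?_ <;> simp

end Groth.Agent.S2159
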