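import Groth.Statements.S15821
import Groth.Agent.KRLib.Seq
import Mathlib.Algebra.Homology.ShortComplex.ModuleCat

set_option autoImplicit false
universe u
open CategoryTheory
open Koszul

open CategoryTheory KoszDetLib

namespace Groth.Agent.S15821

theorem emb_eq_zero : ∀ {A : Type u} [CommRing A] {n : ℕ} (f : Fin n → A) (i : ℤ)
    (z : (Koszul.koszul A (List.ofFn f)).X i) (s : Idx n), (i + (deg s : ℤ) ≠ 0) → emb f i z s = 0 := by
  intro A _ n
  induction n with
  | zero =>
    intro f i z s hs
    have h : i ≠ 0 := by simpa [deg] using hs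
    simp [emb, dif_neg h]
  | succ n ih =>
    intro f i z s hs
    rw [emb_succ]
    cases s with
    | inl t => exact ih _ i _ t hs
    | inr t =>
      refine ih _ (i + 1) _ t ?_
      have : (deg (n := n + 1) (Sum.inr t) : ℤ) = (deg t : ℤ) + 1 := by simp [deg]
      omega

theorem homology_zero_iso {A : Type u} [CommRing A] {n : ℕ} (f : Fin n → A) :
    Nonempty ((Koszul.koszul A (List.ofFn f)).homology 0 ≅
      ModuleCat.of A (A ⧸ Ideal.span (Set.range f))) := by
  let K := Koszul.koszul A (List.ofFn f)
  let S := K.sc' (-1) 0 1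
  refine ⟨K.homologyIsoSc' (-1) 0 1 (by simp) (by simp) ≪≫ S.moduleCatHomologyIso ≪≫ ?_⟩
  have hg : ∀ z : K.X 0, (K.d 0 1).hom z = 0 := fun z => by
    refine emb_injective f 1 (funext fun s => ?_)
    erw [emb_eq_zero f 1 _ s (by omega), map_zero]
    rfl
  let ε : LinearMap.ker S.g.hom →ₗ[A] A ⧸ Ideal.span (Set.range f) :=
    (Submodule.mkQ _) ∘ₗ eps ∘ₗ emb f 0 ∘ₗ (LinearMap.ker S.g.hom).subtype
  have hsurj : Function.Surjective ε := by
    intro y
    obtain ⟨a, rfl⟩ := Submodule.Quotient.mk_surjective _ y
    obtain ⟨z, hz⟩ := emb_surj f 0 0 rfl (a • one n)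
    refine ⟨⟨z, hg z⟩, ?_⟩
    show Submodule.Quotient.mk (eps (emb f 0 z)) = _
    rw [hz]
    show Submodule.Quotient.mk (proj 0 (a • one n) (bot n)) = _
    rw [proj_apply, if_pos (deg_bot n)]
    show Submodule.Quotient.mk (a * eps (one n : Kz A n)) = _
    rw [eps_one, mul_one]
  have hker : LinearMap.ker ε = LinearMap.range S.moduleCatToCycles := by
    ext ⟨z, hz⟩
    constructor
    · intro h
      have h1 : eps (emb f 0 z) ∈ Ideal.span (Set.range f) :=
        (Submodule.Quotient.mk_eq_zero _).1 h
      have h2 : proj 0 (emb f 0 z) = emb f 0 z := by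
        funext s
        rw [proj_apply]
        split_ifs with hs
        · rfl
        · exact (emb_eq_zero f 0 z s (by omega)).symm
      obtain ⟨w, hw⟩ := mem_range_proj_zero f _ h1
      rw [← proj_zero_eq, h2] at hw
      obtain ⟨y, hy⟩ := emb_surj f (-1) 1 rfl w
      refine ⟨y, Subtype.ext (emb_injective f 0 ?_)⟩
      have := emb_d f (-1) y
      rw [hy, D_proj_succ, hw, h2] at this
      exact this
    · rintro ⟨y, hy⟩
      refine (Submodule.Quotient.mk_eq_zero _).2 ?_
      show eps (emb f 0 z) ∈ _
      have h1 : ((K.d (-1) 0).hom y : K.X 0) = z := congrArg Subtype.val hy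
      rw [← h1]
      have := emb_d f (-1) y
      erw [this]
      exact eps_D_mem f _
  exact ((Submodule.quotEquivOfEq _ _ hker.symm).trans
    (LinearMap.quotKerEquivOfSurjective ε hsurj)).toModuleIso

/-- Let A be a commutative ring and f = (f_1, …, f_r) a sequence in A which is regular in the weak sense
(f_1 is a non-zero-divisor of A and each f_i is a non-zero-divisor of A/(f_1, …, f_{i-1}); no
condition A/(f) ≠ 0). Then the Koszul complex K(f) (iterated mapping-cone model, degrees -r, …, 0)
has vanishing cohomology in all nonzero degrees, i.e. f is Koszul-regular, and its cohomology in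
degree 0 is isomorphic as an A-module to A/(f_1, …, f_r) (existence of an A-linear isomorphism):
K(f) is a free resolution of A/(f). -/
theorem result (A : Type u) [CommRing A] (l : List A)
    (hl : RingTheory.Sequence.IsWeaklyRegular A l) :
    LCI.IsKoszulRegularSeq A l ∧
      Nonempty ((Koszul.koszul A l).homology 0 ≅ ModuleCat.of A (A ⧸ Ideal.ofList l)) := by
  have h := KRLib.isExactK_of_isWeaklyRegular l hl
  have hK := KRLib.isKoszulRegularSeq_of_isExactK l.get h
  have hH := homology_zero_iso l.get
  rw [List.ofFn_get] at hK hH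
  rw [Set.range_list_get] at hH
  exact ⟨hK, hH⟩

end Groth.Agent.S15821
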