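import Groth.Statements.S2103
import Mathlib
import Groth.Agent.QReg16Lib.Basic


-- import your own Groth.Agent.* helpers here

set_option autoImplicit false
universe u
open CAlg

namespace Groth.Agent.S2103

/-- Case `M = R`: an `H_1`-regular sequence in a ring (first Koszul homology zero) is quasi-regular (the
associated graded of the ideal it generates is a polynomial ring over the quotient). -/
theorem result {R : Type u} [CommRing R] {c : ℕ} (f : Fin c → R) (hf : CAlgX.IsH1Regular f) :
    CAlgX.IsQuasiRegular f := by
  classical
  set J := Ideal.span (Set.range f) with hJ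
  have hfm : ∀ i, f i ∈ J := fun i => Ideal.subset_span ⟨i, rfl⟩
  apply Groth.Agent.QReg16Lib.reduce_eval
  let L : Ideal (MvPolynomial (Fin c) R) := Ideal.span (Set.range fun p : Fin c × Fin c =>
    MvPolynomial.C (f p.2) * MvPolynomial.X p.1 - MvPolynomial.C (f p.1) * MvPolynomial.X p.2)
  have main : ∀ (n : ℕ) (P : MvPolynomial (Fin c) R), P.IsHomogeneous n →
      MvPolynomial.eval f P = 0 → P ∈ L := by
    intro n
    induction n with
    | zero =>
      intro P hP he
      rw [MvPolynomial.totalDegree_eq_zero_iff_eq_C.1 (Nat.le_zero.1 hP.totalDegree_le)] at he ⊢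
      rw [MvPolynomial.eval_C] at he
      rw [he, map_zero]
      exact zero_mem _
    | succ n ih =>
      intro P hP he
      have hPX : P ∈ Ideal.span (Set.range (MvPolynomial.X : Fin c → MvPolynomial (Fin c) R)) := by
        rw [← Set.image_univ, MvPolynomial.mem_ideal_span_X_image]
        intro m hm
        by_contra hc
        push Not at hc
        have hm0 : m = 0 := by ext i; exact hc i (Set.mem_univ i)
        have := hP.degree_eq_sum_deg_support hm
        simp [hm0] at this
      obtain ⟨q, hq⟩ := Ideal.mem_span_range_iff_exists_fun.1 hPX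
      set p : Fin c → MvPolynomial (Fin c) R := fun i => MvPolynomial.homogeneousComponent n (q i) with hp
      have hpP : ∑ i, p i * MvPolynomial.X i = P := by
        have hh : ∀ (u : MvPolynomial (Fin c) R) (i : Fin c),
            MvPolynomial.homogeneousComponent (n + 1) (u * MvPolynomial.X i)
              = MvPolynomial.homogeneousComponent n u * MvPolynomial.X i := by
          intro u i
          ext d
          rw [MvPolynomial.coeff_homogeneousComponent, MvPolynomial.coeff_mul_X',
            MvPolynomial.coeff_mul_X', MvPolynomial.coeff_homogeneousComponent]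
          by_cases hi : i ∈ d.support
          · obtain ⟨d', rfl⟩ : ∃ d', d = d' + Finsupp.single i 1 :=
              ⟨d - Finsupp.single i 1, by
                rw [tsub_add_cancel_of_le]
                simpa [Finsupp.single_le_iff, Nat.one_le_iff_ne_zero] using hi⟩
            simp [map_add, add_left_inj]
          · simp [hi]
        simp only [hp, ← hh, ← map_sum, hq]
        exact MvPolynomial.homogeneousComponent_of_mem hP |>.trans (if_pos rfl)
      have hpn : ∀ i, (p i).IsHomogeneous n := fun i => MvPolynomial.homogeneousComponent_isHomogeneous _ _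
      have hQ := ih (∑ i, MvPolynomial.C (f i) * p i)
        (MvPolynomial.IsHomogeneous.sum _ _ _ fun i _ => (hpn i).C_mul _)
        (by rw [← hpP] at he; simpa [map_sum, mul_comm] using he)
      obtain ⟨M, hM⟩ := Ideal.mem_span_range_iff_exists_fun.1 hQ
      set G : Fin c → MvPolynomial (Fin c) R := fun k =>
        ∑ i, M (i, k) * MvPolynomial.X i - ∑ j, M (k, j) * MvPolynomial.X j with hG
      have hG1 : ∑ k, MvPolynomial.C (f k) * G k = ∑ i, MvPolynomial.C (f i) * p i := by
        rw [← hM]
        simp only [hG, mul_sub, Finset.sum_sub_distrib, Finset.mul_sum, Fintype.sum_prod_type]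
        refine congrArg₂ (fun a b => a - b) ?_ ?_
        · rw [Finset.sum_comm]
          exact Finset.sum_congr rfl fun x _ => Finset.sum_congr rfl fun y _ => mul_left_comm _ _ _
        · exact Finset.sum_congr rfl fun x _ => Finset.sum_congr rfl fun y _ => mul_left_comm _ _ _
      have hG2 : ∑ k, G k * MvPolynomial.X k = 0 := by
        simp only [hG, sub_mul, Finset.sum_sub_distrib, Finset.sum_mul]
        rw [sub_eq_zero, Finset.sum_comm]
        exact Finset.sum_congr rfl fun x _ => Finset.sum_congr rfl fun y _ => mul_right_comm _ _ _
      have hP' : P = ∑ k, (p k - G k) * MvPolynomial.X k := by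
        simp only [sub_mul, Finset.sum_sub_distrib, hpP, hG2, sub_zero]
      have hzero : ∑ k, MvPolynomial.C (f k) * (p k - G k) = 0 := by
        simp only [mul_sub, Finset.sum_sub_distrib, hG1, sub_self]
      -- relations coefficientwise
      let Φ : (Fin c → R) →ₗ[R] MvPolynomial (Fin c) R :=
        ∑ k, (LinearMap.proj k).smulRight (MvPolynomial.X k)
      have hΦ : ∀ a, Φ a = ∑ k, MvPolynomial.C (a k) * MvPolynomial.X k := fun a => by
        simp [Φ, LinearMap.sum_apply, MvPolynomial.smul_eq_C_mul]
      have hrel : ∀ a : Fin c → R, ∑ k, a k * f k = 0 → Φ a ∈ L := by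
        intro a ha
        refine Submodule.span_le (p := (L.restrictScalars R).comap Φ) |>.2 ?_ (hf a ha)
        rintro _ ⟨i, j, rfl⟩
        show Φ _ ∈ L
        rw [hΦ]
        simp only [Pi.sub_apply, map_sub, sub_mul, Finset.sum_sub_distrib, Pi.single_apply,
          apply_ite MvPolynomial.C, map_zero, ite_mul, zero_mul, Finset.sum_ite_eq', Finset.mem_univ,
          if_true]
        exact Ideal.subset_span ⟨(i, j), rfl⟩
      have hsum : ∀ (S : Finset (Fin c →₀ ℕ)), (∀ k, (p k - G k).support ⊆ S) →
          P = ∑ d ∈ S, MvPolynomial.monomial d (1 : R) *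
            Φ (fun k => MvPolynomial.coeff d (p k - G k)) := by
        intro S hS
        rw [hP']
        simp only [hΦ, Finset.mul_sum]
        rw [Finset.sum_comm]
        refine Finset.sum_congr rfl fun k _ => ?_
        simp only [← mul_assoc, ← Finset.sum_mul]
        congr 1
        conv_lhs => rw [(p k - G k).as_sum]
        refine (Finset.sum_subset (hS k) fun d _ hd => ?_).trans
          (Finset.sum_congr rfl fun d _ => by rw [mul_comm, MvPolynomial.C_mul_monomial, mul_one])
        rw [MvPolynomial.notMem_support_iff.1 hd, map_zero]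
      rw [hsum (Finset.univ.biUnion fun k => (p k - G k).support)
        (fun k => Finset.subset_biUnion_of_mem (fun k => (p k - G k).support) (Finset.mem_univ k))]
      refine Ideal.sum_mem _ fun d _ => Ideal.mul_mem_left _ _ (hrel _ ?_)
      have := congrArg (MvPolynomial.coeff d) hzero
      simpa [MvPolynomial.coeff_sum, MvPolynomial.coeff_C_mul, mul_comm, MvPolynomial.coeff_sub] using this
  intro n P hP he
  have hle : L ≤ J.map MvPolynomial.C := by
    rw [Ideal.span_le]
    rintro _ ⟨p, rfl⟩
    exact sub_mem (Ideal.mul_mem_right _ _ (Ideal.mem_map_of_mem _ (hfm _)))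
      (Ideal.mul_mem_right _ _ (Ideal.mem_map_of_mem _ (hfm _)))
  exact fun s => MvPolynomial.mem_map_C_iff.1 (hle (main n P hP he)) s

end Groth.Agent.S2103
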