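import Groth.Statements.S5976
import Groth.Agent.OmegaAffLib.Exact
import Groth.Agent.ConormalSecLib.Basic

set_option autoImplicit false
universe u
open CategoryTheory CategoryTheory.Limits AlgebraicGeometry TopologicalSpace Opposite
open Nrm16

namespace Groth.Agent.S5976

theorem resX {X : Scheme.{u}} {A B C : X.Opens} (h₁ : B ≤ A) (h₂ : C ≤ B) (a : Γ(X, A)) :
    X.presheaf.map (homOfLE h₂).op (X.presheaf.map (homOfLE h₁).op a) =
      X.presheaf.map (homOfLE (h₂.trans h₁)).op a := by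
  rw [← ConcreteCategory.comp_apply, ← Functor.map_comp, ← op_comp, homOfLE_comp]

variable {X Y Z : Scheme.{u}} {f : Y ⟶ Z} (j : X ⟶ Y) [IsImmersion j]

/-- Functions on an immersed scheme lift locally. -/
theorem exists_lift (W : X.Opens) (x : Γ(X, W)) (z : X) (hz : z ∈ W) :
    ∃ (U : Y.Opens) (V : X.Opens) (hV : V ≤ j ⁻¹ᵁ U) (y : Γ(Y, U)) (hVW : V ≤ W), z ∈ V ∧
      X.presheaf.map (homOfLE hVW).op x = X.presheaf.map (homOfLE hV).op (j.app U y) := by
  obtain ⟨t, ht⟩ := j.stalkMap_surjective z (X.presheaf.germ W z hz x)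
  obtain ⟨U, hzU, y, rfl⟩ := Y.presheaf.exists_germ_eq (x := j z) t
  rw [Scheme.Hom.germ_stalkMap_apply] at ht
  obtain ⟨V, hzV, i₁, i₂, h⟩ := TopCat.Presheaf.germ_eq X.presheaf z (U := j ⁻¹ᵁ U) (V := W) hzU hz _ _ ht
  exact ⟨U, V, i₁.le, y, i₂.le, hzV, h.symm⟩

/-- Sections agree when they agree where two functions lift. -/
theorem eq_of_lifts {M : X.Modules} (W : X.Opens) (a b : Γ(X, W)) {m m' : Γ(M, W)}
    (h : ∀ (U : Y.Opens) (ya yb : Γ(Y, U)) (V : X.Opens) (hV : V ≤ j ⁻¹ᵁ U) (hVW : V ≤ W),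
      X.presheaf.map (homOfLE hVW).op a = X.presheaf.map (homOfLE hV).op (j.app U ya) →
      X.presheaf.map (homOfLE hVW).op b = X.presheaf.map (homOfLE hV).op (j.app U yb) →
        M.presheaf.map (homOfLE hVW).op m = M.presheaf.map (homOfLE hVW).op m') : m = m' := by
  choose Ua Va hVa ya hVWa hma ha using fun z : W => exists_lift j W a z.1 z.2
  choose Ub Vb hVb yb hVWb hmb hb using fun z : W => exists_lift j W b z.1 z.2
  refine TopCat.Sheaf.eq_of_locally_eq' (⟨M.presheaf, M.isSheaf⟩ : TopCat.Sheaf AddCommGrpCat X)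
    (fun z => Va z ⊓ Vb z) W (fun z => homOfLE (inf_le_left.trans (hVWa z)))
    (fun z hz => Opens.mem_iSup.2 ⟨⟨z, hz⟩, hma _, hmb _⟩) _ _ fun z => ?_
  refine h (Ua z ⊓ Ub z) (Y.presheaf.map (homOfLE inf_le_left).op (ya z))
    (Y.presheaf.map (homOfLE inf_le_right).op (yb z)) (Va z ⊓ Vb z)
    (fun w hw => ⟨hVa z hw.1, hVb z hw.2⟩) (inf_le_left.trans (hVWa z)) ?_ ?_
  · have e := congrArg (X.presheaf.map (homOfLE (inf_le_left : Va z ⊓ Vb z ≤ Va z)).op) (ha z)
    rw [show j.app (Ua z ⊓ Ub z) (Y.presheaf.map (homOfLE inf_le_left).op (ya z)) =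
      X.presheaf.map (homOfLE (j.preimage_mono inf_le_left)).op (j.app (Ua z) (ya z)) from
      congr($(j.naturality (homOfLE inf_le_left).op) (ya z))]
    rw [resX, resX] at e
    rw [resX]
    exact e
  · have e := congrArg (X.presheaf.map (homOfLE (inf_le_right : Va z ⊓ Vb z ≤ Vb z)).op) (hb z)
    rw [show j.app (Ua z ⊓ Ub z) (Y.presheaf.map (homOfLE inf_le_right).op (yb z)) =
      X.presheaf.map (homOfLE (j.preimage_mono inf_le_right)).op (j.app (Ub z) (yb z)) from
      congr($(j.naturality (homOfLE inf_le_right).op) (yb z))]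
    rw [resX, resX] at e
    rw [resX]
    exact e

omit [IsImmersion j] in
theorem hidM (M : X.Modules) {W : X.Opens} (m : Γ(M, W)) :
    M.presheaf.map (homOfLE (le_refl W)).op m = m := by
  rw [show (homOfLE (le_refl W)).op = 𝟙 _ from Subsingleton.elim _ _, M.presheaf.map_id]
  rfl

variable [QuasiCompact j] {ΩY : Y.Modules} (dY : OmegaSh.Der f ΩY)
  (φ : Omega.conormal j ⟶ (Scheme.Modules.pullback j).obj ΩY) (hφ : OmegaSh.IsConormalDiff j dY φ)
  {M : X.Modules} (ψ : (Scheme.Modules.pullback j).obj ΩY ⟶ M) (hψ : φ ≫ ψ = 0)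

/-- `ψ` of the pulled back differential. -/
noncomputable def val (U : Y.Opens) (y : Γ(Y, U)) : Γ(M, j ⁻¹ᵁ U) :=
  ψ.app (j ⁻¹ᵁ U) (OmegaSh.pullSect j ΩY U (dY.app U y))

theorem val_map {U U' : Y.Opens} (h : U' ≤ U) (y : Γ(Y, U)) :
    val j dY ψ U' (Y.presheaf.map (homOfLE h).op y) =
      M.presheaf.map (homOfLE (j.preimage_mono h)).op (val j dY ψ U y) := by
  have h1 : OmegaSh.pullSect j ΩY U' (dY.app U' (Y.presheaf.map (homOfLE h).op y)) =
      ((Scheme.Modules.pullback j).obj ΩY).presheaf.map (homOfLE (j.preimage_mono h)).op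
        (OmegaSh.pullSect j ΩY U (dY.app U y)) :=
    (congrArg (OmegaSh.pullSect j ΩY U') (OmegaAffLib.der_rs dY h y)).trans (OmegaSh.pullSect_map j ΩY h _)
  exact (congrArg (ψ.app (j ⁻¹ᵁ U')) h1).trans
    (congr($(ψ.mapPresheaf.naturality (homOfLE (j.preimage_mono h)).op) (OmegaSh.pullSect j ΩY U (dY.app U y))))

include hφ hψ

theorem val_congr {U U' : Y.Opens} (y : Γ(Y, U)) (y' : Γ(Y, U')) {V : X.Opens} (hV : V ≤ j ⁻¹ᵁ U)
    (hV' : V ≤ j ⁻¹ᵁ U')
    (h : X.presheaf.map (homOfLE hV).op (j.app U y) = X.presheaf.map (homOfLE hV').op (j.app U' y')) :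
    M.presheaf.map (homOfLE hV).op (val j dY ψ U y) =
      M.presheaf.map (homOfLE hV').op (val j dY ψ U' y') := by
  obtain ⟨O, hO, hOV⟩ := j.isEmbedding.isInducing.isOpen_iff.1 V.2
  let U'' : Y.Opens := U ⊓ U' ⊓ ⟨O, hO⟩
  have h1 : U'' ≤ U := inf_le_left.trans inf_le_left
  have h2 : U'' ≤ U' := inf_le_left.trans inf_le_right
  have hle : j ⁻¹ᵁ U'' ≤ V := fun z hz => hOV.subset hz.2
  have hge : V ≤ j ⁻¹ᵁ U'' := fun z hz => ⟨⟨hV hz, hV' hz⟩, hOV.symm.subset hz⟩
  let e := Y.presheaf.map (homOfLE h1).op y - Y.presheaf.map (homOfLE h2).op y'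
  have he : j.app U'' e = 0 := by
    have h3 := congrArg (X.presheaf.map (homOfLE hle).op) h
    rw [resX, resX] at h3
    rw [map_sub, sub_eq_zero]
    exact (congr($(j.naturality (homOfLE h1).op) y)).trans
      (h3.trans (congr($(j.naturality (homOfLE h2).op) y')).symm)
  let s := ConormalSecLib.lift j U'' e he
  have h0 : val j dY ψ U'' e = 0 := by
    rw [val, show e = OmegaSh.idealSect j.ker U'' s from (ConormalSecLib.idealSect_lift j U'' e he).symm,
      ← hφ U'' s, ← ConcreteCategory.comp_apply, ← Scheme.Modules.Hom.comp_app, hψ]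
    rfl
  have hsub : val j dY ψ U'' e = val j dY ψ U'' (Y.presheaf.map (homOfLE h1).op y) -
      val j dY ψ U'' (Y.presheaf.map (homOfLE h2).op y') := by
    simp only [val, e, map_sub]
  rw [h0, val_map, val_map, eq_comm, sub_eq_zero] at hsub
  have h4 := congrArg (M.presheaf.map (homOfLE hge).op) hsub
  simp only [← ConcreteCategory.comp_apply, ← Functor.map_comp, ← op_comp, homOfLE_comp] at h4
  exact h4

/-- The value of the descended derivation. -/
theorem exists_descVal (W : X.Opens) (x : Γ(X, W)) :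
    ∃! m : Γ(M, W), ∀ (U : Y.Opens) (y : Γ(Y, U)) (V : X.Opens) (hV : V ≤ j ⁻¹ᵁ U) (hVW : V ≤ W),
      X.presheaf.map (homOfLE hVW).op x = X.presheaf.map (homOfLE hV).op (j.app U y) →
        M.presheaf.map (homOfLE hVW).op m = M.presheaf.map (homOfLE hV).op (val j dY ψ U y) := by
  choose U V hV y hVW hmem h using fun z : W => exists_lift j W x z.1 z.2
  let Ms : TopCat.Sheaf AddCommGrpCat X := ⟨M.presheaf, M.isSheaf⟩
  have hcov : W ≤ iSup V := fun z hz => Opens.mem_iSup.2 ⟨⟨z, hz⟩, hmem _⟩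
  obtain ⟨m, hm, -⟩ := Ms.existsUnique_gluing' V W (fun z => homOfLE (hVW z)) hcov
    (fun z => M.presheaf.map (homOfLE (hV z)).op (val j dY ψ (U z) (y z))) (fun a b => by
      show M.presheaf.map _ (M.presheaf.map _ _) = M.presheaf.map _ (M.presheaf.map _ _)
      rw [← ConcreteCategory.comp_apply, ← ConcreteCategory.comp_apply, ← Functor.map_comp, ← Functor.map_comp]
      refine val_congr j dY φ hφ ψ hψ (y a) (y b) (inf_le_left.trans (hV a)) (inf_le_right.trans (hV b)) ?_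
      have ha := congrArg (X.presheaf.map (homOfLE (inf_le_left : V a ⊓ V b ≤ V a)).op) (h a)
      have hb := congrArg (X.presheaf.map (homOfLE (inf_le_right : V a ⊓ V b ≤ V b)).op) (h b)
      rw [resX, resX] at ha hb
      exact ha.symm.trans hb)
  refine ⟨m, fun U' y' V' hV' hVW' h' => ?_, fun m' hm' => ?_⟩
  · refine TopCat.Sheaf.eq_of_locally_eq' Ms (fun z => V z ⊓ V') V' (fun z => homOfLE inf_le_right) ?_ _ _ ?_
    · exact fun z hz => Opens.mem_iSup.2 ⟨⟨z, hVW' hz⟩, hmem _, hz⟩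
    · intro z
      have h1 := congrArg (M.presheaf.map (homOfLE (inf_le_left : V z ⊓ V' ≤ V z)).op) (hm z)
      have hz := congrArg (X.presheaf.map (homOfLE (inf_le_left : V z ⊓ V' ≤ V z)).op) (h z)
      have hz' := congrArg (X.presheaf.map (homOfLE (inf_le_right : V z ⊓ V' ≤ V')).op) h'
      change M.presheaf.map (homOfLE inf_le_left).op (M.presheaf.map (homOfLE (hVW z)).op m) = _ at h1
      show M.presheaf.map (homOfLE inf_le_right).op _ = M.presheaf.map (homOfLE inf_le_right).op _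
      rw [resX, resX] at hz hz'
      simp only [← ConcreteCategory.comp_apply, ← Functor.map_comp, ← op_comp, homOfLE_comp] at h1 ⊢
      exact h1.trans (val_congr j dY φ hφ ψ hψ (y z) y' _ _ (hz.symm.trans hz'))
  · refine TopCat.Sheaf.eq_of_locally_eq' Ms V W (fun z => homOfLE (hVW z)) hcov _ _ fun z => ?_
    exact (hm' (U z) (y z) (V z) (hV z) (hVW z) (h z)).trans (hm z).symm

/-- The value of the descended derivation at `x`. -/
noncomputable def descVal (W : X.Opens) (x : Γ(X, W)) : Γ(M, W) :=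
  (exists_descVal j dY φ hφ ψ hψ W x).choose

theorem descVal_spec (W : X.Opens) (x : Γ(X, W)) {U : Y.Opens} (y : Γ(Y, U)) {V : X.Opens}
    (hV : V ≤ j ⁻¹ᵁ U) (hVW : V ≤ W)
    (h : X.presheaf.map (homOfLE hVW).op x = X.presheaf.map (homOfLE hV).op (j.app U y)) :
    M.presheaf.map (homOfLE hVW).op (descVal j dY φ hφ ψ hψ W x) =
      M.presheaf.map (homOfLE hV).op (val j dY ψ U y) :=
  (exists_descVal j dY φ hφ ψ hψ W x).choose_spec.1 U y V hV hVW h

theorem descVal_mul (W : X.Opens) (a b : Γ(X, W)) :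
    descVal j dY φ hφ ψ hψ W (a * b) =
      a • descVal j dY φ hφ ψ hψ W b + b • descVal j dY φ hφ ψ hψ W a := by
  refine eq_of_lifts j W a b fun U ya yb V hV hVW ha hb => ?_
  rw [map_add, Scheme.Modules.map_smul, Scheme.Modules.map_smul,
    descVal_spec j dY φ hφ ψ hψ W a ya hV hVW ha,
    descVal_spec j dY φ hφ ψ hψ W b yb hV hVW hb,
    descVal_spec j dY φ hφ ψ hψ W (a * b) (ya * yb) hV hVW (by simp only [map_mul]; rw [ha, hb]),
    ha, hb, ← Scheme.Modules.map_smul, ← Scheme.Modules.map_smul, ← map_add]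
  refine congrArg (M.presheaf.map (homOfLE hV).op) ?_
  simp only [val]
  rw [OmegaAffLib.der_mul, map_add, OmegaSh.pullSect_smul, OmegaSh.pullSect_smul, map_add]
  exact congrArg₂ (· + ·) (ψ.app_smul _ _) (ψ.app_smul _ _)

/-- The descended derivation. -/
noncomputable def descDer : OmegaSh.Der (j ≫ f) M where
  d {W} := AddMonoidHom.mk' (descVal j dY φ hφ ψ hψ W.unop) fun a b => by
    refine eq_of_lifts j W.unop a b fun U ya yb V hV hVW ha hb => ?_
    rw [descVal_spec j dY φ hφ ψ hψ W.unop (a + b) (ya + yb) hV hVW (by simp only [map_add, ha, hb])]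
    refine Eq.trans ?_ (map_add (M.presheaf.map (homOfLE hVW).op).hom _ _).symm
    refine Eq.trans ?_ (congrArg₂ (· + ·) (descVal_spec j dY φ hφ ψ hψ W.unop a ya hV hVW ha)
      (descVal_spec j dY φ hφ ψ hψ W.unop b yb hV hVW hb)).symm
    simp only [val, map_add]
  d_mul {W} a b := descVal_mul j dY φ hφ ψ hψ W.unop a b
  d_map {W W'} i a := by
    refine eq_of_lifts j W'.unop (X.presheaf.map i a) (X.presheaf.map i a) fun U ya _ V hV hVW ha _ => ?_
    refine (descVal_spec j dY φ hφ ψ hψ W'.unop _ ya hV hVW ha).trans (Eq.symm ?_)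
    have hi : i = (homOfLE i.unop.le).op := Subsingleton.elim _ _
    rw [hi] at ha ⊢
    show M.presheaf.map (homOfLE hVW).op (M.presheaf.map (homOfLE i.unop.le).op
      (descVal j dY φ hφ ψ hψ W.unop a)) = _
    rw [← ConcreteCategory.comp_apply, ← Functor.map_comp, ← op_comp, homOfLE_comp]
    refine descVal_spec j dY φ hφ ψ hψ W.unop a ya hV (hVW.trans i.unop.le) ?_
    rw [resX] at ha
    exact ha
  d_app {O} c := by
    show descVal j dY φ hφ ψ hψ (j ⁻¹ᵁ (f ⁻¹ᵁ O.unop)) (j.app (f ⁻¹ᵁ O.unop) (f.app O.unop c)) = 0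
    have h := descVal_spec j dY φ hφ ψ hψ (j ⁻¹ᵁ (f ⁻¹ᵁ O.unop)) (j.app (f ⁻¹ᵁ O.unop) (f.app O.unop c))
      (f.app O.unop c) le_rfl le_rfl rfl
    rw [hidM, hidM, val, show dY.app (f ⁻¹ᵁ O.unop) (f.app O.unop c) = 0 from dY.d_app (X := O) c,
      map_zero, map_zero] at h
    exact h

theorem descDer_app (U : Y.Opens) (y : Γ(Y, U)) :
    (descDer j dY φ hφ ψ hψ).app (j ⁻¹ᵁ U) (j.app U y) = val j dY ψ U y := by
  have h := descVal_spec j dY φ hφ ψ hψ (j ⁻¹ᵁ U) (j.app U y) y le_rfl le_rfl rfl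
  rw [hidM, hidM] at h
  exact h

omit hφ hψ


/-- Let f : Y ⟶ Z be a morphism and j : X ⟶ Y a quasi-compact immersion. Let (Ω_{Y/Z}, d) and (Ω_{X/Z},
d') be sheaves of differentials (universal derivations), φ : N_{X/Y} ⟶ j^*Ω_{Y/Z} the canonical map
from the conormal sheaf of j (class of a local section s of the ideal ↦ pullback of d s) and c :
j^*Ω_{Y/Z} ⟶ Ω_{X/Z} the canonical map compatible with the derivations. Then c is an epimorphism and
the image of φ is the kernel of c: the sequence N_{X/Y} ⟶ j^*Ω_{Y/Z} ⟶ Ω_{X/Z} ⟶ 0 is exact. (The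
published statement allows any immersion j; this row assumes j quasi-compact, the case in which the
conormal sheaf used here is that of j.) -/
theorem result {X Y Z : Scheme.{u}} (f : Y ⟶ Z) (j : X ⟶ Y)
    [IsImmersion j] [QuasiCompact j]
    (ΩY : Y.Modules) (dY : OmegaSh.Der f ΩY) (hY : OmegaSh.IsUniversal dY)
    (ΩX : X.Modules) (dX : OmegaSh.Der (j ≫ f) ΩX) (hX : OmegaSh.IsUniversal dX)
    (φ : Omega.conormal j ⟶ (Scheme.Modules.pullback j).obj ΩY) (hφ : OmegaSh.IsConormalDiff j dY φ)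
    (c : (Scheme.Modules.pullback j).obj ΩY ⟶ ΩX) (hc : OmegaSh.IsDiffCompat j dY dX c) :
    Epi c ∧ imageSubobject φ = kernelSubobject c := by
  haveI : QuasiCompact j := inferInstance
  have w : φ ≫ c = 0 := by
    refine ConormalSecLib.conormal_hom_ext j fun U s => ?_
    show c.app _ (φ.app _ (OmegaSh.conormalSect j U s)) = _
    rw [hφ U s, hc, ConormalSecLib.app_idealSect, map_zero]
    rfl
  haveI : Epi c := by
    refine ⟨fun {M} a b hab => OmegaAffLib.der_hom_ext hX fun W x => ?_⟩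
    refine TopCat.Sheaf.eq_of_locally_eq' (⟨M.presheaf, M.isSheaf⟩ : TopCat.Sheaf AddCommGrpCat X)
      (fun V : {V : X.Opens // V ≤ W ∧ ∃ (U : Y.Opens) (hV : V ≤ j ⁻¹ᵁ U) (y : Γ(Y, U)) (hW : V ≤ W),
        X.presheaf.map (homOfLE hW).op x = X.presheaf.map (homOfLE hV).op (j.app U y)} => V.1)
      W (fun V => homOfLE V.2.1) ?_ _ _ ?_
    · intro z hz
      obtain ⟨U, V, hV, y, hVW, hzV, h⟩ := exists_lift j W x z hz
      exact Opens.mem_iSup.2 ⟨⟨V, hVW, U, hV, y, hVW, h⟩, hzV⟩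
    · rintro ⟨V, hVW, U, hV, y, _, h⟩
      have key : ∀ k : ΩX ⟶ M, M.presheaf.map (homOfLE hVW).op (k.app W (dX.app W x)) =
          M.presheaf.map (homOfLE hV).op ((c ≫ k).app (j ⁻¹ᵁ U) (OmegaSh.pullSect j ΩY U (dY.app U y))) := by
        intro k
        refine (congr($(k.mapPresheaf.naturality (homOfLE hVW).op) (dX.app W x))).symm.trans ?_
        refine Eq.trans ?_ (congr($(k.mapPresheaf.naturality (homOfLE hV).op)
          (c.app (j ⁻¹ᵁ U) (OmegaSh.pullSect j ΩY U (dY.app U y)))))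
        refine congrArg (k.app V) ?_
        refine (OmegaAffLib.der_rs dX hVW x).symm.trans ((congrArg (dX.app V) h).trans ?_)
        rw [hc U y]
        exact OmegaAffLib.der_rs dX hV _
      exact (key a).trans ((congr($(congrArg (fun k => M.presheaf.map (homOfLE hV).op
        (Scheme.Modules.Hom.app k (j ⁻¹ᵁ U) (OmegaSh.pullSect j ΩY U (dY.app U y)))) hab))).trans (key b).symm)
  refine ⟨inferInstance, ?_⟩
  have hS : (ShortComplex.mk φ c w).Exact := by
    refine ShortComplex.exact_of_g_is_cokernel _ ?_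
    refine CokernelCofork.IsColimit.ofπ' _ _ fun {M} ψ hψ => ?_
    refine ⟨(hX M (descDer j dY φ hφ ψ hψ)).choose, ?_⟩
    refine OmegaAffLib.hom_ext_pullback hY fun U y => ?_
    rw [Scheme.Modules.Hom.comp_app, ConcreteCategory.comp_apply, hc U y]
    refine (congrArg (fun D : OmegaSh.Der (j ≫ f) M => D.app (j ⁻¹ᵁ U) (j.app U y))
      (hX M (descDer j dY φ hφ ψ hψ)).choose_spec.1).trans ?_
    exact descDer_app j dY φ hφ ψ hψ U y
  haveI := (ShortComplex.exact_iff_epi_imageToKernel _).mp hS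
  haveI : IsIso (imageToKernel φ c w) := isIso_of_mono_of_epi _
  exact Subobject.eq_of_comm (asIso (imageToKernel φ c w)) (imageToKernel_arrow _ _ w)

end Groth.Agent.S5976
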