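import Groth.Statements.S1916
import Groth.Agent.AssPointLib.Basic
import Groth.Agent.QCohLib.AffineFinite
import Groth.Agent.DevissLib.Induction
import Groth.Agent.S16234
import Mathlib.Topology.Sober
import Mathlib.Topology.LocallyFinite
import Mathlib.RingTheory.Length
-- import your own Groth.Agent.* helpers here

set_option autoImplicit false
universe u
open CategoryTheory AlgebraicGeometry
open Cyc

namespace Groth.Agent.S1916

/-- Let F be a coherent O_X-module on a locally Noetherian scheme X. The irreducible components of Supp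
F form a locally finite family of subsets of X, and at every point ξ of Supp F admitting no proper
generalization inside Supp F the stalk F_ξ has finite length over O_{X,ξ}. -/
theorem result (X : Scheme.{u}) [IsLocallyNoetherian X] (F : X.Modules) (hF : Coh.IsCoh F) : LocallyFinite (fun Z : irreducibleComponents {x : X | Nontrivial (F.presheaf.stalk x)} => ((↑) '' (Z : Set {x : X | Nontrivial (F.presheaf.stalk x)}) : Set X)) ∧ ∀ ξ : X, Nontrivial (F.presheaf.stalk ξ) → (∀ x : X, Nontrivial (F.presheaf.stalk x) → x ⤳ ξ → x = ξ) → Module.length (X.presheaf.stalk ξ) (F.presheaf.stalk ξ) < ⊤ := by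
  classical
  have : Coh.IsQCoh F := hF.1
  let T : Set X := {x : X | Nontrivial (F.presheaf.stalk x)}
  have hTsupp : T = CohB1.support F := Set.ext fun x => not_subsingleton_iff_nontrivial.symm
  have hT : IsClosed T := by rw [hTsupp]; exact QCohLib.isClosed_support F hF.2
  refine ⟨fun x => ?_, fun ξ hξ hmax => ?_⟩
  · obtain ⟨V, hV, hxV⟩ := QCohLib.exists_affine_nhd x
    refine ⟨V, V.isOpen.mem_nhds hxV, ?_⟩
    haveI : IsNoetherianRing Γ(X, V) := IsLocallyNoetherian.component_noetherian ⟨V, hV⟩
    haveI : TopologicalSpace.NoetherianSpace (V : Set X) := AlgebraicGeometry.noetherianSpace_of_isAffineOpen V hV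
    let T' : Set X := T ∩ (V : Set X)
    haveI : TopologicalSpace.NoetherianSpace T' :=
      (Topology.IsEmbedding.inclusion (Set.inter_subset_right : T' ⊆ (V : Set X))).isInducing.noetherianSpace
    let g : irreducibleComponents T → X := fun C =>
      (IsIrreducible.image C.2.1 Subtype.val continuous_subtype_val.continuousOn).genericPoint
    have hg : ∀ C, IsGenericPoint (g C) (closure (Subtype.val '' C.1)) := fun C =>
      (IsIrreducible.image C.2.1 Subtype.val continuous_subtype_val.continuousOn).isGenericPoint_genericPoint_closure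
    have hclT : ∀ C : irreducibleComponents T, closure (Subtype.val '' C.1) ⊆ T := fun C =>
      closure_minimal (by rintro _ ⟨y, -, rfl⟩; exact y.2) hT
    have hcl : ∀ C : irreducibleComponents T, closure (Subtype.val '' C.1) = Subtype.val '' C.1 := fun C =>
      (hT.isClosedEmbedding_subtypeVal.isClosedMap _ (isClosed_of_mem_irreducibleComponents C.1 C.2)).closure_eq
    have hinj : Function.Injective g := fun C D h => by
      refine Subtype.ext (Set.image_injective.mpr Subtype.val_injective ?_)
      rw [← hcl C, ← hcl D, ← (hg C).def, ← (hg D).def, h]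
    have hmaxg : ∀ (C : irreducibleComponents T) (z : X), z ∈ T → z ⤳ g C → z = g C := by
      intro C z hzT hz
      have hsub : closure (Subtype.val '' C.1) ⊆ closure {z} := by
        rw [← (hg C).def]
        exact closure_minimal (Set.singleton_subset_iff.mpr (specializes_iff_mem_closure.mp hz)) isClosed_closure
      let D : Set T := closure {(⟨z, hzT⟩ : T)}
      have hCD : C.1 ⊆ D := fun c hc => by
        show c ∈ closure {(⟨z, hzT⟩ : T)}
        rw [closure_subtype, Set.image_singleton]
        exact hsub (subset_closure ⟨c, hc, rfl⟩)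
      have hDC : D ⊆ C.1 := C.2.2 (isIrreducible_singleton.closure) hCD
      have : z ∈ closure (Subtype.val '' C.1) :=
        subset_closure ⟨_, hDC (subset_closure rfl), rfl⟩
      exact (((hg C).specializes this).antisymm hz).eq.symm
    let f : irreducibleComponents T' → X := fun C =>
      (IsIrreducible.image C.2.1 Subtype.val continuous_subtype_val.continuousOn).genericPoint
    haveI : Finite (irreducibleComponents T') := TopologicalSpace.NoetherianSpace.finite_irreducibleComponents
    refine Set.Finite.of_finite_image (f := g) ((Set.finite_range f).subset ?_) hinj.injOn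
    rintro _ ⟨C, ⟨y, ⟨c, hc, rfl⟩, hcV⟩, rfl⟩
    have hgT : g C ∈ T' := ⟨hclT C (hg C).mem,
      ((hg C).specializes (subset_closure ⟨c, hc, rfl⟩)).mem_open V.isOpen hcV⟩
    let D : irreducibleComponents T' := ⟨irreducibleComponent (⟨g C, hgT⟩ : T'), irreducibleComponent_mem_irreducibleComponents _⟩
    have hD : IsGenericPoint (f D) (closure (Subtype.val '' D.1)) :=
      (IsIrreducible.image D.2.1 Subtype.val continuous_subtype_val.continuousOn).isGenericPoint_genericPoint_closure
    have hfT : f D ∈ T := closure_minimal (by rintro _ ⟨z, -, rfl⟩; exact z.2.1) hT hD.mem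
    exact ⟨D, hmaxg C (f D) hfT (hD.specializes (subset_closure ⟨_, mem_irreducibleComponent, rfl⟩))⟩
  · obtain ⟨U, hU, hξU⟩ := QCohLib.exists_affine_nhd ξ
    haveI : IsNoetherianRing Γ(X, U) := IsLocallyNoetherian.component_noetherian ⟨U, hU⟩
    haveI := QCohLib.finite_of_isFT hF.2 hU
    let p := hU.primeIdealOf ⟨ξ, hξU⟩
    have hp : p.asIdeal ∈ (Module.annihilator Γ(X, U) Γ(F, U)).minimalPrimes := by
      refine ⟨⟨p.2, ?_⟩, fun Q hQ hQp => ?_⟩
      · have := (QCohLib.mem_support_iff (M := F) hU hξU).mpr (hTsupp ▸ hξ : ξ ∈ CohB1.support F)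
        rwa [Module.mem_support_iff_of_finite] at this
      · let q : PrimeSpectrum Γ(X, U) := ⟨Q, hQ.1⟩
        let z := hU.fromSpec q
        have hzU : z ∈ U := by
          have : z ∈ Set.range hU.fromSpec := ⟨q, rfl⟩
          rwa [hU.range_fromSpec] at this
        have hzq : hU.primeIdealOf ⟨z, hzU⟩ = q :=
          hU.fromSpec.isOpenEmbedding.injective (hU.fromSpec_primeIdealOf ⟨z, hzU⟩)
        have hzs : z ∈ CohB1.support F := (QCohLib.mem_support_iff (M := F) hU hzU).mp (by
          rw [hzq, Module.mem_support_iff_of_finite]; exact hQ.2)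
        have hsp : z ⤳ ξ := by
          have h := ((PrimeSpectrum.le_iff_specializes q p).mp hQp).map hU.fromSpec.continuous
          rwa [hU.fromSpec_primeIdealOf ⟨ξ, hξU⟩] at h
        have hzξ := hmax z (show z ∈ T by rw [hTsupp]; exact hzs) hsp
        have : q = p := by
          apply hU.fromSpec.isOpenEmbedding.injective
          rw [hU.fromSpec_primeIdealOf ⟨ξ, hξU⟩]
          exact hzξ
        exact (congrArg PrimeSpectrum.asIdeal this).ge
    haveI : _root_.IsNoetherian (X.presheaf.stalk ξ) ((DevissLib.St ξ).obj F) := DevissLib.isNoetherian_stalk hF ξ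
    let alg := X.presheaf.algebra_section_stalk (⟨ξ, hξU⟩ : U)
    have hloc : IsLocalization.AtPrime (X.presheaf.stalk ξ) p.asIdeal := hU.isLocalization_stalk ⟨ξ, hξU⟩
    haveI : IsNoetherianRing (X.presheaf.stalk ξ) := IsLocalization.isNoetherianRing p.asIdeal.primeCompl _ inferInstance
    obtain ⟨-, hmin⟩ := AssPointLib.minimal_iff.mp hp
    have hfl : IsFiniteLength (X.presheaf.stalk ξ) ((DevissLib.St ξ).obj F) := by
      refine (S16234.result _ _).mp fun P hP => ?_
      rw [Module.mem_support_iff_of_finite] at hP
      suffices P.asIdeal = IsLocalRing.maximalIdeal _ from this ▸ IsLocalRing.maximalIdeal.isMaximal _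
      refine le_antisymm (IsLocalRing.le_maximalIdeal P.2.ne_top) fun r hr => ?_
      obtain ⟨a, b, rfl⟩ := IsLocalization.exists_mk'_eq p.asIdeal.primeCompl r
      have ha : a ∈ p.asIdeal :=
        (IsLocalization.AtPrime.mk'_mem_maximal_iff (X.presheaf.stalk ξ) p.asIdeal a b).mp hr
      obtain ⟨t, ht, n, hn⟩ := hmin a ha
      have hkill : X.presheaf.germ U ξ hξU a ^ n ∈ Module.annihilator (X.presheaf.stalk ξ) ((DevissLib.St ξ).obj F) := by
        rw [Module.mem_annihilator]
        intro m
        obtain ⟨v, s, hv, hs⟩ := AssPointLib.exists_smul_eq_gm hU hξU m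
        refine hv.smul_eq_zero.mp ?_
        rw [smul_comm, hs, ← map_pow, ← DevissLib.gm_smul]
        refine (DevissLib.gm_eq_zero_iff hU ξ hξU _).mpr ⟨t, ht, ?_⟩
        rw [← mul_smul]
        exact Module.mem_annihilator.mp hn s
      rw [IsLocalization.mk'_eq_mul_mk'_one]
      exact P.asIdeal.mul_mem_right _ (P.2.mem_of_pow_mem n (hP hkill))
    exact lt_top_iff_ne_top.mpr (Module.length_ne_top_iff.mpr hfl)

end Groth.Agent.S1916
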