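import Groth.Statements.S7642
import Groth.Agent.AmpleDevLib.Components
import Groth.Agent.SerreVanLib.CurveAmple

set_option autoImplicit false
universe u
open CategoryTheory CategoryTheory.Limits AlgebraicGeometry
open Variety

namespace Groth.Agent.S7642
theorem isAmple_of_dim_le_zero (k : Type u) [Field k] {Z : Scheme.{u}} (f : Z ⟶ Spec (CommRingCat.of k))
    [IsProper f] (hd : topologicalKrullDim Z ≤ 0) {L : Z.Modules} (hL : PicF.IsInvertible L) :
    CohB1.IsAmple L := by
  haveI : IsLocallyArtinian (Spec (CommRingCat.of k)) := Scheme.isLocallyArtinianScheme_Spec.mpr inferInstance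
  haveI : IsLocallyNoetherian Z := LocallyOfFiniteType.isLocallyNoetherian f
  haveI : IsLocallyArtinian Z := .of_topologicalKrullDim_le_zero hd
  haveI : CompactSpace Z := QuasiCompact.compactSpace_of_compactSpace f
  haveI : DiscreteTopology Z := inferInstance
  haveI : Finite Z := finite_of_compact_of_discrete
  haveI : LocallyQuasiFinite f :=
    LocallyQuasiFinite.of_finite_preimage_singleton f fun y => Set.toFinite _
  haveI : IsFinite f := IsFinite.of_locallyQuasiFinite f
  haveI : IsAffine Z := isAffine_of_isAffineHom f
  exact AmpleThLib.isAmple_of_isQuasiAffine (L := L) (hL := hL)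

/-- Let X be proper of dimension at most one over a field k and let L be an invertible module on X. Then
L is ample if and only if deg(L|_C) > 0 for every irreducible component C of X of dimension one, C
carrying its reduced induced structure. -/
theorem result (k : Type u) [Field k] (X : Scheme.{u}) [X.Over (Spec (CommRingCat.of k))] [IsProper (X ↘ (Spec (CommRingCat.of k)))] [IsNoetherian X]
    (hdim : topologicalKrullDim X ≤ 1) (L : X.Modules) (hL : PicF.IsInvertible L) :
    CohB1.IsAmple L ↔ ∀ (C : Set X) (hC : C ∈ irreducibleComponents (X : Type u)),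
      topologicalKrullDim C = 1 → 0 < @Curv2.deg k _ (X.irreducibleComponentIdeal C hC).radical.subscheme ⟨(X.irreducibleComponentIdeal C hC).radical.subschemeι ≫ (X ↘ (Spec (CommRingCat.of k)))⟩ ((Scheme.Modules.pullback (X.irreducibleComponentIdeal C hC).radical.subschemeι).obj L) 1 := by
  rw [AmpleDevLib.isAmple_iff_components (X ↘ Spec (CommRingCat.of k)) hL]
  have hJ : ∀ (C : Set X) (hC : C ∈ irreducibleComponents (X : Type u)),
      (X.irreducibleComponentIdeal C hC).radical =
        Scheme.IdealSheafData.vanishingIdeal ⟨C, isClosed_of_mem_irreducibleComponents C hC⟩ := fun C hC => by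
    rw [← Scheme.IdealSheafData.vanishingIdeal_support]
    exact congrArg _ (SetLike.coe_injective rfl)
  have hd : ∀ Z : TopologicalSpace.Closeds X, topologicalKrullDim (Scheme.IdealSheafData.vanishingIdeal Z).subscheme =
      topologicalKrullDim (Z : Set X) := fun Z =>
    ((Scheme.IdealSheafData.vanishingIdeal Z).subschemeι.isEmbedding.toHomeomorph.trans
      (Homeomorph.setCongr ((Scheme.IdealSheafData.vanishingIdeal Z).range_subschemeι.trans
        (Scheme.IdealSheafData.coe_support_vanishingIdeal Z)))).isHomeomorph.topologicalKrullDim_eq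
  refine ⟨fun h C hC hdC => ?_, fun h Z hZ => ?_⟩
  · rw [hJ C hC]
    let J := Scheme.IdealSheafData.vanishingIdeal ⟨C, isClosed_of_mem_irreducibleComponents C hC⟩
    letI : J.subscheme.Over (Spec (CommRingCat.of k)) := ⟨J.subschemeι ≫ (X ↘ (Spec (CommRingCat.of k)))⟩
    haveI : IsProper (J.subscheme ↘ Spec (CommRingCat.of k)) :=
      inferInstanceAs (IsProper (J.subschemeι ≫ (X ↘ (Spec (CommRingCat.of k)))))
    haveI : IsIntegral J.subscheme := AmpleDevLib.isIntegral_vanishingIdeal _ hC.1
    exact SerreVanLib.deg_pos_of_isAmple (k := k) ((hd _).trans hdC) (h _ hC)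
  · let J := Scheme.IdealSheafData.vanishingIdeal Z
    letI : J.subscheme.Over (Spec (CommRingCat.of k)) := ⟨J.subschemeι ≫ (X ↘ (Spec (CommRingCat.of k)))⟩
    haveI : IsProper (J.subscheme ↘ Spec (CommRingCat.of k)) :=
      inferInstanceAs (IsProper (J.subschemeι ≫ (X ↘ (Spec (CommRingCat.of k)))))
    haveI : IsIntegral J.subscheme := AmpleDevLib.isIntegral_vanishingIdeal _ hZ.1
    have hle : topologicalKrullDim J.subscheme ≤ 1 := by
      refine (J.subschemeι.isEmbedding.isInducing.topologicalKrullDim_le).trans hdim
    have hLJ := AmpleDevLib.isInvertible_pb J.subschemeι hL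
    rcases hle.lt_or_eq with hlt | heq
    · refine isAmple_of_dim_le_zero k (J.subscheme ↘ Spec (CommRingCat.of k)) ?_ hLJ
      revert hlt
      generalize topologicalKrullDim J.subscheme = d
      intro hlt
      rcases d with _ | d
      · exact bot_le
      · rcases d with _ | d
        · exact absurd hlt (not_lt.mpr le_top)
        · have : d < 1 := WithBot.coe_lt_coe.mp hlt |> WithTop.coe_lt_coe.mp
          exact WithBot.coe_le_coe.mpr (WithTop.coe_le_coe.mpr (Nat.le_of_lt_succ this))
    · refine SerreVanLib.isAmple_of_deg_pos (k := k) heq hLJ ?_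
      have h2 := h Z hZ ((hd Z).symm.trans heq)
      rw [hJ Z hZ] at h2
      exact h2

end Groth.Agent.S7642
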