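import Groth.Statements.S1683
import Groth.Agent.EffCartLib.Basic
import Groth.Agent.SDivLib.FlatDiv
import Groth.Agent.S4666

set_option autoImplicit false
universe u
open CategoryTheory CategoryTheory.Limits AlgebraicGeometry TopologicalSpace
open SDiv

namespace Groth.Agent.S1683
open Scheme.IdealSheafData in
theorem comap_mul {X Y : Scheme.{u}} (I J : X.IdealSheafData) (g : Y ⟶ X) :
    (I * J).comap g = I.comap g * J.comap g := by
  refine ext_of_iSup_eq_top (fun W : {W : Y.affineOpens // ∃ U : X.affineOpens, W.1 ≤ g ⁻¹ᵁ U.1} => W.1)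
    (eq_top_iff.mpr fun y _ => ?_) ?_
  · obtain ⟨U, hU, hgy, -⟩ := exists_isAffineOpen_mem_and_subset (x := g y) (U := (⊤ : X.Opens)) trivial
    obtain ⟨W, hW, hyW, hWU⟩ := exists_isAffineOpen_mem_and_subset (x := y) (U := g ⁻¹ᵁ U) hgy
    exact Opens.mem_iSup.mpr ⟨⟨⟨W, hW⟩, ⟨U, hU⟩, hWU⟩, hyW⟩
  · rintro ⟨W, U, e⟩
    rw [S4666.ideal_comap_eq _ g U W e, ideal_mul, Pi.mul_apply, Ideal.map_mul, ideal_mul, Pi.mul_apply,
      S4666.ideal_comap_eq _ g U W e, S4666.ideal_comap_eq _ g U W e]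

theorem isIso_stalkMap_of_opens {X Y : Scheme.{u}} (f : X ⟶ Y) (V : X.Opens) (h : IsOpenImmersion (V.ι ≫ f))
    {y : X} (hy : y ∈ V) : IsIso (f.stalkMap y) := by
  obtain ⟨z, rfl⟩ : ∃ z : (V : Scheme.{u}), V.ι z = y := ⟨⟨y, hy⟩, rfl⟩
  have h1 : IsIso ((V.ι ≫ f).stalkMap z) := inferInstance
  rw [Scheme.Hom.stalkMap_comp] at h1
  have h2 : IsIso (V.ι.stalkMap z) := inferInstance
  exact @IsIso.of_isIso_comp_right _ _ _ _ _ (f.stalkMap (V.ι z)) (V.ι.stalkMap z) h2 h1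

theorem exists_factor {A : Type*} [CommRing A] {I J p : Ideal A} (hp : p ≠ ⊤) {f : A} (hf : f ∈ nonZeroDivisors A)
    (h : I * J = Ideal.span {f}) : ∃ i ∈ I, ∃ j ∈ J, ∃ c, i * j = f * c ∧ c ∉ p := by
  by_contra hc
  push Not at hc
  have : I * J ≤ Ideal.span {f} * p := Ideal.mul_le.mpr fun i hi j hj => by
    obtain ⟨c, hcc⟩ := Ideal.mem_span_singleton.mp (h ▸ Ideal.mul_mem_mul hi hj)
    exact Ideal.mem_span_singleton_mul.mpr ⟨c, hc i hi j hj c hcc, hcc.symm⟩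
  obtain ⟨q, hq, hfq⟩ := Ideal.mem_span_singleton_mul.mp (this (h ▸ Ideal.mem_span_singleton_self f))
  refine hp ((Ideal.eq_top_iff_one _).mpr ?_)
  have : q - 1 = 0 := (mem_nonZeroDivisors_iff.mp hf).1 _ (by rw [mul_sub, hfq, mul_one, sub_self])
  rwa [← sub_eq_zero.mp this]

theorem eq_span_of_mul {A : Type*} [CommRing A] {I J : Ideal A} {f : A} (hf : f ∈ nonZeroDivisors A)
    (h : I * J = Ideal.span {f}) {i j c : A} (hi : i ∈ I) (hj : j ∈ J) (hij : i * j = f * c) (hc : IsUnit c) :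
    i ∈ nonZeroDivisors A ∧ I = Ideal.span {i} := by
  have hn : i * j ∈ nonZeroDivisors A := hij ▸ mul_mem hf hc.mem_nonZeroDivisors
  refine ⟨(mul_mem_nonZeroDivisors.mp hn).1, le_antisymm (fun a ha => ?_) (by simpa using hi)⟩
  obtain ⟨d, hd⟩ := Ideal.mem_span_singleton.mp (h ▸ Ideal.mul_mem_mul ha hj)
  obtain ⟨v, rfl⟩ := hc
  refine Ideal.mem_span_singleton.mpr ⟨↑v⁻¹ * d, ?_⟩
  have hjn := (mul_mem_nonZeroDivisors.mp hn).2
  have : (a - i * (↑v⁻¹ * d)) * j = 0 := by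
    rw [sub_mul, hd, show i * (↑v⁻¹ * d) * j = (i * j) * (↑v⁻¹ * d) by ring, hij,
      show f * ↑v * (↑v⁻¹ * d) = f * d * (↑v * ↑v⁻¹) by ring, Units.mul_inv, mul_one, sub_self]
  exact sub_eq_zero.mp ((mem_nonZeroDivisors_iff.mp hjn).2 _ this)

theorem left_of_mul {X : Scheme.{u}} {I J : X.IdealSheafData} (h : BlowUp.IsEffCartierIdeal (I * J)) :
    BlowUp.IsEffCartierIdeal I := fun x => by
  obtain ⟨U, hxU, f, hf, hIJ⟩ := h x
  obtain ⟨i, hi, j, hj, c, hijc, hc⟩ :=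
    exists_factor (U.2.primeIdealOf ⟨x, hxU⟩).isPrime.ne_top hf hIJ
  have hxc : x ∈ X.basicOpen c := by
    rw [X.mem_basicOpen c x hxU]
    haveI := U.2.isLocalization_stalk ⟨x, hxU⟩
    letI := TopCat.Presheaf.algebra_section_stalk X.presheaf (⟨x, hxU⟩ : U.1)
    exact IsLocalization.map_units (X.presheaf.stalk x) (⟨c, hc⟩ : (U.2.primeIdealOf ⟨x, hxU⟩).asIdeal.primeCompl)
  letI := (X.presheaf.map (homOfLE (X.basicOpen_le c)).op).hom.toAlgebra
  haveI : IsLocalization.Away c Γ(X, X.basicOpen c) := U.2.isLocalization_basicOpen c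
  let φ := (X.presheaf.map (homOfLE (X.basicOpen_le c)).op).hom
  have hJ : ∀ K : X.IdealSheafData, K.ideal (X.affineBasicOpen c) = (K.ideal U).map φ :=
    fun K => (K.map_ideal_basicOpen U c).symm
  have hf' : φ f ∈ nonZeroDivisors Γ(X, X.basicOpen c) :=
    IsLocalization.map_nonZeroDivisors_le (Submonoid.powers c) Γ(X, X.basicOpen c) ⟨f, hf, rfl⟩
  have hIJ' : (I.ideal U).map φ * (J.ideal U).map φ = Ideal.span {φ f} := by
    rw [← Ideal.map_mul]
    exact (congrArg (Ideal.map φ) hIJ).trans (by rw [Ideal.map_span, Set.image_singleton])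
  obtain ⟨h1, h2⟩ := eq_span_of_mul hf' hIJ' (Ideal.mem_map_of_mem φ hi) (Ideal.mem_map_of_mem φ hj)
    (c := φ c) (by rw [← map_mul, hijc, map_mul]) (IsLocalization.Away.algebraMap_isUnit c)
  exact ⟨X.affineBasicOpen c, hxc, _, h1, (hJ I).trans h2⟩

/-- An effective Cartier ideal stays one on a blow-up. -/
theorem comap_blowUp {X' X'' : Scheme.{u}} {E K : X'.IdealSheafData} (hE : BlowUp.IsEffCartierIdeal E)
    (b' : X'' ⟶ X') (hb' : BlowUp.IsBlowUp b' K) : BlowUp.IsEffCartierIdeal (E.comap b') := fun x => by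
  obtain ⟨U, hxU, f, hf, hEU⟩ := hE (b' x)
  obtain ⟨W₁, hxW₁, e, he, hKW⟩ := hb'.1 x
  obtain ⟨r, hrW, hxr⟩ := W₁.2.exists_basicOpen_le (V := b' ⁻¹ᵁ U.1) ⟨x, hxU⟩ hxW₁
  let W : X''.affineOpens := X''.affineBasicOpen r
  let φ := (b'.appLE U.1 W.1 hrW).hom
  let e' := (X''.presheaf.map (homOfLE (X''.basicOpen_le r)).op).hom e
  have he' : e' ∈ nonZeroDivisors Γ(X'', W.1) := by
    letI := (X''.presheaf.map (homOfLE (X''.basicOpen_le r)).op).hom.toAlgebra
    haveI : IsLocalization.Away r Γ(X'', X''.basicOpen r) := W₁.2.isLocalization_basicOpen r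
    exact IsLocalization.map_nonZeroDivisors_le (Submonoid.powers r) Γ(X'', X''.basicOpen r) ⟨e, he, rfl⟩
  have hKW' : (K.comap b').ideal W = Ideal.span {e'} := by
    rw [← (K.comap b').map_ideal_basicOpen W₁ r, hKW, Ideal.map_span, Set.image_singleton]
  refine ⟨W, hxr, φ f, mem_nonZeroDivisors_iff_right.mpr fun g hg => ?_, ?_⟩
  swap
  · rw [S4666.ideal_comap_eq _ b' U W hrW, hEU, Ideal.map_span, Set.image_singleton]
  have hzero : (X''.presheaf.map (homOfLE (X''.basicOpen_le e')).op).hom g = 0 := by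
    refine TopCat.Presheaf.section_ext (C := CommRingCat) X''.sheaf _ _ _ fun y hy => ?_
    refine Eq.trans ?_ (map_zero _).symm
    refine (TopCat.Presheaf.germ_res_apply X''.presheaf (homOfLE (X''.basicOpen_le e')) y hy g).trans ?_
    have hyW : y ∈ W.1 := X''.basicOpen_le e' hy
    have hyC : b' y ∈ K.support.compl := fun hC => by
      have h1 : y ∈ ((K.comap b').support : Set X'') := by
        rw [Scheme.IdealSheafData.support_comap]; exact hC
      have h2 := ((K.comap b').mem_support_iff_of_mem (U := W) hyW).mp h1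
      rw [Scheme.mem_zeroLocus_iff] at h2
      exact h2 e' (hKW' ▸ Ideal.mem_span_singleton_self e') hy
    haveI : IsIso (b' ∣_ K.support.compl) := EffCartLib.isIso_off_center K b' hb' _ le_rfl
    haveI : IsIso (b'.stalkMap y) :=
      isIso_stalkMap_of_opens b' (b' ⁻¹ᵁ K.support.compl) (by rw [← morphismRestrict_ι]; infer_instance) hyC
    have hfy : (X'.presheaf.germ U.1 (b' y) (hrW hyW)).hom f ∈ nonZeroDivisors (X'.presheaf.stalk (b' y)) := by
      haveI := U.2.isLocalization_stalk ⟨b' y, hrW hyW⟩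
      letI := TopCat.Presheaf.algebra_section_stalk X'.presheaf (⟨b' y, hrW hyW⟩ : U.1)
      exact IsLocalization.map_nonZeroDivisors_le (U.2.primeIdealOf ⟨b' y, hrW hyW⟩).asIdeal.primeCompl
        (X'.presheaf.stalk (b' y)) ⟨f, hf, rfl⟩
    obtain ⟨t, ht⟩ := (ConcreteCategory.bijective_of_isIso (b'.stalkMap y)).2 (X''.presheaf.germ W.1 y hyW g)
    have hs : (X''.presheaf.germ W.1 y hyW) (φ f) = b'.stalkMap y (X'.presheaf.germ U.1 (b' y) (hrW hyW) f) := by
      rw [Scheme.Hom.germ_stalkMap_apply]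
      simp only [φ, Scheme.Hom.appLE, CommRingCat.hom_comp, RingHom.comp_apply]
      exact TopCat.Presheaf.germ_res_apply _ _ _ _ _
    have h3 : b'.stalkMap y (t * X'.presheaf.germ U.1 (b' y) (hrW hyW) f) = 0 := by
      rw [map_mul, ht, ← hs, ← map_mul, hg, map_zero]
    have h4 := (ConcreteCategory.bijective_of_isIso (b'.stalkMap y)).1 (h3.trans (map_zero _).symm)
    exact ht.symm.trans ((congrArg _ ((mem_nonZeroDivisors_iff_right.mp hfy) t h4)).trans (map_zero _))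
  letI := (X''.presheaf.map (homOfLE (X''.basicOpen_le e')).op).hom.toAlgebra
  haveI : IsLocalization.Away e' Γ(X'', X''.basicOpen e') := W.2.isLocalization_basicOpen e'
  obtain ⟨⟨_, n, rfl⟩, hn⟩ := (IsLocalization.map_eq_zero_iff (Submonoid.powers e') Γ(X'', X''.basicOpen e') g).mp hzero
  exact (mem_nonZeroDivisors_iff.mp (pow_mem he' n)).1 g hn

/-- Let 𝓘, 𝓙 be quasi-coherent ideal sheaves on X, b : X' ⟶ X a blowing-up along 𝓘 and b' : X'' ⟶ X' a
blowing-up along the inverse image ideal of 𝓙. Then b' ≫ b : X'' ⟶ X is a blowing-up of X along the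
product ideal 𝓘𝓙. -/
theorem result {X X' X'' : Scheme.{u}} (𝓘 𝓙 : X.IdealSheafData) (b : X' ⟶ X) (hb : BlowUp.IsBlowUp b 𝓘)
    (b' : X'' ⟶ X') (hb' : BlowUp.IsBlowUp b' (𝓙.comap b)) : BlowUp.IsBlowUp (b' ≫ b) (𝓘 * 𝓙) := by
  refine ⟨?_, fun Y g hg => ?_⟩
  · rw [comap_mul, Scheme.IdealSheafData.comap_comp, Scheme.IdealSheafData.comap_comp]
    exact SDivLib.isEffCartier_mul (comap_blowUp hb.1 b' hb') hb'.1
  · rw [comap_mul] at hg
    have hJ : BlowUp.IsEffCartierIdeal (𝓙.comap g) := left_of_mul (mul_comm (𝓘.comap g) _ ▸ hg)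
    obtain ⟨h, hh, huniq⟩ := hb.2 Y g (left_of_mul hg)
    obtain ⟨k, hk, kuniq⟩ := hb'.2 Y h (by rw [← Scheme.IdealSheafData.comap_comp, hh]; exact hJ)
    refine ⟨k, show k ≫ b' ≫ b = g by rw [← Category.assoc, hk, hh], fun k' hk' => kuniq k' (huniq _ ?_)⟩
    simpa using hk' 

end Groth.Agent.S1683
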