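import Groth.Statements.S7010
import Groth.Agent.DRingLib.Devissage
import Mathlib.Algebra.Category.ModuleCat.Biproducts

set_option autoImplicit false
universe u
open CategoryTheory CategoryTheory.Limits
attribute [local instance] HasDerivedCategory.standard
open DRing

namespace Groth.Agent.S7010

open CategoryTheory.Pretriangulated in
/-- The inclusion of the perfect objects in the subcategory generated by R: let R be a commutative ring
and P a property of objects of D(R) which is closed under isomorphisms, holds for R[0], is stable
under all shifts, is closed under extensions (if it holds for the outer terms of a distinguished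
triangle it holds for the middle term) and is closed under taking direct summands. Then P holds for
every perfect object of D(R). -/
theorem result (R : Type u) [CommRing R]
    (P : ObjectProperty (Dual.D R)) [P.IsClosedUnderIsomorphisms] (hR : P (Dual.inD R R))
    (hshift : ∀ (K : Dual.D R) (n : ℤ), P K → P ((shiftFunctor (Dual.D R) n).obj K))
    (hext : ∀ T : Triangle (Dual.D R), T ∈ distinguishedTriangles → P T.obj₁ → P T.obj₃ → P T.obj₂)
    (hsum : ∀ (X Y : Dual.D R) [HasBinaryBiproduct X Y], P (X ⊞ Y) → P X)
    (K : Dual.D R) (hK : DRing.IsPerfect R K) : P K := by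
  obtain ⟨E, a, b, hE, hP, ⟨e⟩⟩ := hK
  let F := DerivedCategory.singleFunctor (ModuleCat.{u} R) 0
  have iso : ∀ {X Y : Dual.D R}, (X ≅ Y) → P X → P Y := fun e h => P.prop_of_iso e h
  have sum0 : ∀ (X Y : ModuleCat.{u} R), P (F.obj (X ⊞ Y)) → P (F.obj X) := fun X Y h => by
    have := preservesBinaryBiproduct_of_preservesBiproduct (F := F) X Y
    exact hsum _ _ (iso (F.mapBiprod X Y) h)
  have hzero : ∀ {X : Dual.D R}, IsZero X → P X := fun {X} hX =>
    hsum X (Dual.inD R R) (iso (isoZeroBiprod (X := X) (Y := Dual.inD R R) hX) hR)
  have hfree : ∀ n : ℕ, P (F.obj (ModuleCat.of R (Fin n → R))) := by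
    intro n
    induction n with
    | zero => exact hzero (F.map_isZero (ModuleCat.isZero_of_subsingleton _))
    | succ n ih =>
      let eN : ModuleCat.of R (Fin (n + 1) → R) ≅ ModuleCat.of R R ⊞ ModuleCat.of R (Fin n → R) :=
        (Fin.consLinearEquiv R (fun _ => R)).symm.toModuleIso ≪≫
          (ModuleCat.biprodIsoProd (ModuleCat.of R R) (ModuleCat.of R (Fin n → R))).symm
      have := preservesBinaryBiproduct_of_preservesBiproduct (F := F) (ModuleCat.of R R)
        (ModuleCat.of R (Fin n → R))
      exact iso (F.mapIso eN ≪≫ F.mapBiprod _ _).symm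
        (hext _ (Pretriangulated.binaryBiproductTriangle_distinguished _ _) hR ih)
  have hproj : ∀ M : ModuleCat.{u} R, Module.Finite R M → Module.Projective R M → P (F.obj M) := by
    intro M _ _
    obtain ⟨n, π, hπ⟩ := Module.Finite.exists_fin' R M
    obtain ⟨s, hs⟩ := Module.projective_lifting_property π LinearMap.id hπ
    let eM : (M × LinearMap.ker π) ≃ₗ[R] (Fin n → R) :=
    { toLinearMap := s.coprod (LinearMap.ker π).subtype
      invFun := fun x => (π x, ⟨x - s (π x), by
        rw [LinearMap.mem_ker, map_sub, ← LinearMap.comp_apply π s, hs, LinearMap.id_apply, sub_self]⟩)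
      left_inv := fun x => by
        have h1 : π (s x.1) = x.1 := LinearMap.congr_fun hs x.1
        have h2 : π (x.2 : Fin n → R) = 0 := x.2.2
        ext1
        · simp [h1, h2]
        · exact Subtype.ext (by simp [h1, h2])
      right_inv := fun x => by simp }
    refine sum0 M (ModuleCat.of R (LinearMap.ker π)) (iso (F.mapIso ?_).symm (hfree n))
    exact ModuleCat.biprodIsoProd M (ModuleCat.of R (LinearMap.ker π)) ≪≫ eM.toModuleIso
  have hdev : DRingLib.Devissable (R := R) P :=
    ⟨fun e h => iso e h, fun h => hzero h, hext⟩
  refine iso e (hdev.of_terms a (b + 1 - a).toNat E (fun i hi => hE i (by omega)) fun i => ?_)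
  exact iso (DRingLib.singleShiftIso (E.X i) i) (hshift _ _ (hproj _ (hP i).1 (hP i).2))

end Groth.Agent.S7010
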