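import Groth.Statements.S0137
import Groth.Agent.FinPushConsLib.Main

set_option autoImplicit false
universe u
open CategoryTheory CategoryTheory.Limits AlgebraicGeometry Opposite
open EtPBC

namespace Groth.Agent.S0137

/-- Abelian case: if f : X -> Y is finite and of finite presentation and F is a constructible abelian
sheaf on X_et then f_* F is constructible on Y_et. -/
theorem result {X Y : Scheme.{u}} (f : X ⟶ Y) [IsFinite f]
    [LocallyOfFinitePresentation f] [EtCoh.BCCont f] (F : EtCoh.Ab X) (hF : EtPBC.IsConstructible F) :
    EtPBC.IsConstructible ((EtCoh.push f).obj F) := by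
  exact (Groth.Agent.EtShLib.isConstructible_iff _).2
    (Groth.Agent.FinPushConsLib.isCons_push_finite f ((Groth.Agent.EtShLib.isConstructible_iff _).1 hF))
end Groth.Agent.S0137
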