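import Groth.Statements.S2145
import Mathlib.RingTheory.FinitePresentation
import Mathlib.RingTheory.Localization.AtPrime.Basic
import Mathlib.RingTheory.Localization.Away.Basic

set_option autoImplicit false
universe u
open CAlg

namespace Groth.Agent.S2145
variable {R : Type u} [CommRing R] {A B C D : Type u} [CommRing A] [CommRing B] [CommRing C]
  [CommRing D] [Algebra R A] [Algebra R B] [Algebra R C] [Algebra R D]

/-- The natural map to `B_g`. -/
noncomputable def toL (g : B) : B →ₐ[R] Localization.Away g :=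
  IsScalarTower.toAlgHom R B (Localization.Away g)

theorem toL_unit (g : B) : IsUnit (toL (R := R) g g) :=
  IsLocalization.Away.algebraMap_isUnit g

theorem toL_unit_left (g h : B) : IsUnit (toL (R := R) (g * h) g) :=
  isUnit_of_mul_isUnit_left (y := toL (R := R) (g * h) h) (map_mul (toL (R := R) (g * h)) g h ▸ toL_unit _)

theorem toL_unit_right (g h : B) : IsUnit (toL (R := R) (g * h) h) :=
  isUnit_of_mul_isUnit_right (x := toL (R := R) (g * h) g) (map_mul (toL (R := R) (g * h)) g h ▸ toL_unit _)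

theorem exists_lift {g : B} (φ : B →ₐ[R] C) (hg : IsUnit (φ g)) :
    ∃ F : Localization.Away g →ₐ[R] C, ∀ b, F (toL (R := R) g b) = φ b := by
  have : ∀ y : Submonoid.powers g, IsUnit (φ y) := by
    rintro ⟨_, n, rfl⟩
    simpa using hg.pow n
  exact ⟨IsLocalization.liftAlgHom this, fun b => IsLocalization.lift_eq _ b⟩

theorem hom_ext {g : B} (F G : Localization.Away g →ₐ[R] C)
    (h : ∀ b, F (toL (R := R) g b) = G (toL (R := R) g b)) : F = G :=
  IsLocalization.algHom_ext (Submonoid.powers g) (AlgHom.ext h)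

variable (P : Ideal B) [P.IsPrime]

/-- The natural map to `B_P`. -/
noncomputable def toP : B →ₐ[R] Localization.AtPrime P :=
  IsScalarTower.toAlgHom R B (Localization.AtPrime P)

theorem toP_unit {g : B} (hg : g ∉ P) : IsUnit (toP (R := R) P g) :=
  IsLocalization.map_units (M := P.primeCompl) _ ⟨g, hg⟩

theorem notMem_of_unit {g : B} (hg : IsUnit (toP (R := R) P g)) : g ∉ P :=
  (IsLocalization.AtPrime.isUnit_to_map_iff (Localization.AtPrime P) P g).1 hg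

theorem exists_num {g : B} (x : Localization.Away g) :
    ∃ (k : ℕ) (a : B), toL (R := R) g a = x * toL (R := R) g g ^ k := by
  obtain ⟨k, a, h⟩ := IsLocalization.Away.surj g x
  exact ⟨k, a, h.symm⟩

/-- Two maps from a finite type algebra which agree at a point agree near it. -/
theorem exists_eq_near [Algebra.FiniteType R A] {g : B} (hg : g ∉ P) (φ ψ : A →ₐ[R] Localization.Away g)
    (ι : Localization.Away g →ₐ[R] Localization.AtPrime P) (hι : ∀ b, ι (toL (R := R) g b) = toP (R := R) P b)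
    (h : ∀ a, ι (φ a) = ι (ψ a)) :
    ∃ u ∉ P, ∀ {E : Type u} [CommRing E] [Algebra R E] (F : Localization.Away g →ₐ[R] E),
      IsUnit (F (toL (R := R) g u)) → ∀ a, F (φ a) = F (ψ a) := by
  classical
  obtain ⟨X, hX⟩ := Algebra.FiniteType.out (R := R) (A := A)
  have key : ∀ x : A, ∃ u ∉ P, toL (R := R) g u * (φ x - ψ x) = 0 := by
    intro x
    obtain ⟨k, c, hc⟩ := exists_num (R := R) (φ x - ψ x)
    have h0 : toP (R := R) P c = 0 := by
      rw [← hι, hc, map_mul, map_sub, h x, sub_self, zero_mul]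
    obtain ⟨⟨u, hu⟩, hu0⟩ := (IsLocalization.map_eq_zero_iff P.primeCompl _ c).1 h0
    refine ⟨u, hu, ?_⟩
    have hu0' : u * c = 0 := hu0
    have : toL (R := R) g u * (φ x - ψ x) * toL (R := R) g g ^ k = 0 := by
      rw [mul_assoc, ← hc, ← map_mul, hu0', map_zero]
    exact ((toL_unit (R := R) g).pow k).mul_left_eq_zero.1 this
  choose u hu hu0 using key
  refine ⟨∏ x ∈ X, u x, show _ ∈ P.primeCompl from prod_mem fun x _ => hu x, ?_⟩
  intro E _ _ F hF a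
  have : F.comp φ = F.comp ψ := by
    refine AlgHom.ext_of_adjoin_eq_top hX fun x hx => ?_
    have hux : IsUnit (F (toL (R := R) g (u x))) := by
      obtain ⟨v, hv⟩ := Finset.dvd_prod_of_mem u hx
      rw [hv, map_mul, map_mul] at hF
      exact isUnit_of_mul_isUnit_left hF
    have h1 := congrArg F (hu0 x)
    rw [map_mul, map_zero, hux.mul_right_eq_zero, map_sub, sub_eq_zero] at h1
    exact h1
  exact DFunLike.congr_fun this a

/-- A map from a finitely presented algebra to `B_P` extends to some `B_g`, `g ∉ P`. -/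
theorem exists_spread [Algebra.FinitePresentation R A] (φ : A →ₐ[R] Localization.AtPrime P) :
    ∃ g : B, ∃ hg : g ∉ P, ∃ ψ : A →ₐ[R] Localization.Away g,
      ∀ (ι : Localization.Away g →ₐ[R] Localization.AtPrime P),
        (∀ b, ι (toL (R := R) g b) = toP (R := R) P b) → ∀ a, ι (ψ a) = φ a := by
  classical
  obtain ⟨n, f, hf, rels, hrels⟩ := Algebra.FinitePresentation.out (R := R) (A := A)
  have hlift : ∀ i, ∃ (b t : B), t ∉ P ∧ φ (f (MvPolynomial.X i)) * toP (R := R) P t = toP (R := R) P b := by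
    intro i
    obtain ⟨⟨b, t, ht⟩, h⟩ := IsLocalization.surj P.primeCompl (φ (f (MvPolynomial.X i)))
    exact ⟨b, t, ht, h⟩
  choose b t ht hbt using hlift
  let g₀ : B := ∏ i, t i
  have hg₀ : g₀ ∉ P := show _ ∈ P.primeCompl from prod_mem fun i _ => ht i
  have htu : ∀ i, IsUnit (toL (R := R) g₀ (t i)) := fun i => by
    obtain ⟨v, hv⟩ := Finset.dvd_prod_of_mem t (Finset.mem_univ i)
    refine isUnit_of_mul_isUnit_left (y := toL (R := R) g₀ v) ?_
    rw [← map_mul, ← hv]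
    exact toL_unit g₀
  let Ψ : MvPolynomial (Fin n) R →ₐ[R] Localization.Away g₀ :=
    MvPolynomial.aeval fun i => toL (R := R) g₀ (b i) * ↑(htu i).unit⁻¹
  obtain ⟨ι₀, hι₀⟩ := exists_lift (g := g₀) (toP (R := R) P) (toP_unit P hg₀)
  have hΨ : ι₀.comp Ψ = φ.comp f := by
    refine MvPolynomial.algHom_ext fun i => ?_
    have h1 : ι₀ (toL (R := R) g₀ (t i) * ↑(htu i).unit⁻¹) = 1 := by
      rw [IsUnit.mul_val_inv, map_one]
    refine (toP_unit (R := R) P (ht i)).mul_left_cancel ?_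
    rw [AlgHom.comp_apply, AlgHom.comp_apply, mul_comm _ (φ _), hbt, MvPolynomial.aeval_X, map_mul,
      mul_left_comm, ← hι₀ (t i), ← map_mul ι₀ (toL g₀ (t i)), h1, mul_one, hι₀]
  have key : ∀ p ∈ RingHom.ker f.toRingHom, ∃ u ∉ P, toL (R := R) g₀ u * Ψ p = 0 := by
    intro p hp
    obtain ⟨k, c, hc⟩ := exists_num (R := R) (Ψ p)
    have h0 : toP (R := R) P c = 0 := by
      rw [← hι₀, hc, map_mul, ← AlgHom.comp_apply, hΨ, AlgHom.comp_apply,
        show f p = 0 from hp, map_zero, zero_mul]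
    obtain ⟨⟨u, hu⟩, hu0⟩ := (IsLocalization.map_eq_zero_iff P.primeCompl _ c).1 h0
    have hu0' : u * c = 0 := hu0
    refine ⟨u, hu, ((toL_unit (R := R) g₀).pow k).mul_left_eq_zero.1 ?_⟩
    rw [mul_assoc, ← hc, ← map_mul, hu0', map_zero]
  choose u hu hu0 using key
  let U : B := ∏ p ∈ rels.attach, u p.1 (hrels ▸ Ideal.subset_span p.2)
  have hU : U ∉ P := show _ ∈ P.primeCompl from prod_mem fun p _ => hu _ _
  obtain ⟨res, hres⟩ := exists_lift (g := g₀) (toL (R := R) (g₀ * U)) (toL_unit_left g₀ U)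
  have hle : RingHom.ker f.toRingHom ≤ RingHom.ker (res.comp Ψ).toRingHom := by
    rw [← hrels, Ideal.span_le]
    intro p hp
    have hmem : p ∈ RingHom.ker f.toRingHom := hrels ▸ Ideal.subset_span hp
    have h1 := congrArg res (hu0 p hmem)
    rw [map_mul, map_zero, hres] at h1
    have hun : IsUnit (toL (R := R) (g₀ * U) (u p hmem)) := by
      obtain ⟨v, hv⟩ := Finset.dvd_prod_of_mem (fun q : rels => u q.1 (hrels ▸ Ideal.subset_span q.2))
        (Finset.mem_attach rels ⟨p, hp⟩)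
      refine isUnit_of_mul_isUnit_left (y := toL (R := R) (g₀ * U) v) ?_
      rw [← map_mul, ← hv]
      exact toL_unit_right g₀ U
    exact hun.mul_right_eq_zero.1 h1
  refine ⟨g₀ * U, ‹P.IsPrime›.mul_notMem hg₀ hU, AlgHom.liftOfSurjective f hf _ hle, fun ι hι a => ?_⟩
  obtain ⟨p, rfl⟩ := hf a
  have hcomp : ι.comp res = ι₀ := hom_ext _ _ fun b => by
    rw [AlgHom.comp_apply, hres, hι, hι₀]
  rw [AlgHom.liftOfSurjective_apply, AlgHom.comp_apply, ← AlgHom.comp_apply ι res, hcomp,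
    ← AlgHom.comp_apply ι₀ Ψ, hΨ, AlgHom.comp_apply]

/-- Let `S`, `S'` be finitely presented `R`-algebras and `𝔮 ⊆ S`, `𝔮' ⊆ S'` primes with `S_𝔮 ≅ S'_{𝔮'}`
as `R`-algebras. Then `S_g ≅ S'_{g'}` as `R`-algebras for some `g ∉ 𝔮`, `g' ∉ 𝔮'`. -/
theorem result {R S S' : Type u} [CommRing R] [CommRing S] [CommRing S'] [Algebra R S]
    [Algebra R S'] [Algebra.FinitePresentation R S] [Algebra.FinitePresentation R S'] (q : Ideal S) [q.IsPrime]
    (q' : Ideal S') [q'.IsPrime] (e : Localization.AtPrime q ≃ₐ[R] Localization.AtPrime q') :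
    ∃ (g : S) (g' : S'), g ∉ q ∧ g' ∉ q' ∧ Nonempty (Localization.Away g ≃ₐ[R] Localization.Away g') := by
  classical
  let ι : ∀ {g : S}, g ∉ q → (Localization.Away g →ₐ[R] Localization.AtPrime q) := fun hg =>
    (exists_lift (toP (R := R) q) (toP_unit q hg)).choose
  have hι : ∀ {g : S} (hg : g ∉ q) (b : S), ι hg (toL (R := R) g b) = toP (R := R) q b := fun hg =>
    (exists_lift (toP (R := R) q) (toP_unit q hg)).choose_spec
  let ι' : ∀ {g : S'}, g ∉ q' → (Localization.Away g →ₐ[R] Localization.AtPrime q') := fun hg =>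
    (exists_lift (toP (R := R) q') (toP_unit q' hg)).choose
  have hι' : ∀ {g : S'} (hg : g ∉ q') (b : S'), ι' hg (toL (R := R) g b) = toP (R := R) q' b := fun hg =>
    (exists_lift (toP (R := R) q') (toP_unit q' hg)).choose_spec
  obtain ⟨g', hg', ψ, hψ⟩ := exists_spread q' (e.toAlgHom.comp (toP (R := R) q))
  replace hψ : ∀ s, ι' hg' (ψ s) = e (toP (R := R) q s) := hψ _ (hι' hg')
  obtain ⟨g, hg, ψ', hψ'⟩ := exists_spread q (e.symm.toAlgHom.comp (toP (R := R) q'))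
  replace hψ' : ∀ s, ι hg (ψ' s) = e.symm (toP (R := R) q' s) := hψ' _ (hι hg)
  -- numerators
  have num : ∀ {G : S} (hG : G ∉ q) (x : Localization.Away G), IsUnit (ι hG x) → ∃ a ∉ q,
      ∀ {E : Type u} [CommRing E] [Algebra R E] (F : Localization.Away G →ₐ[R] E),
        IsUnit (F (toL (R := R) G a)) ↔ IsUnit (F x) := by
    intro G hG x hx
    obtain ⟨k, a, ha⟩ := exists_num (R := R) x
    refine ⟨a, notMem_of_unit (R := R) q ?_, fun F => ?_⟩
    · rw [← hι hG, ha, map_mul, map_pow]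
      exact hx.mul (((toL_unit (R := R) G).map (ι hG)).pow k)
    · rw [ha, map_mul, map_pow, IsUnit.mul_iff,
        and_iff_left (((toL_unit (R := R) G).map F).pow k)]
  have num' : ∀ {G : S'} (hG : G ∉ q') (x : Localization.Away G), IsUnit (ι' hG x) → ∃ a ∉ q',
      ∀ {E : Type u} [CommRing E] [Algebra R E] (F : Localization.Away G →ₐ[R] E),
        IsUnit (F (toL (R := R) G a)) ↔ IsUnit (F x) := by
    intro G hG x hx
    obtain ⟨k, a, ha⟩ := exists_num (R := R) x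
    refine ⟨a, notMem_of_unit (R := R) q' ?_, fun F => ?_⟩
    · rw [← hι' hG, ha, map_mul, map_pow]
      exact hx.mul (((toL_unit (R := R) G).map (ι' hG)).pow k)
    · rw [ha, map_mul, map_pow, IsUnit.mul_iff,
        and_iff_left (((toL_unit (R := R) G).map F).pow k)]
  -- `F₀ : S_g → S'_{G₁'}`
  obtain ⟨a₁, ha₁, hu₁⟩ := num' hg' (ψ g) (by rw [hψ]; exact (toP_unit q hg).map e)
  have hG₁' := ‹q'.IsPrime›.mul_notMem hg' ha₁
  obtain ⟨r₁, hr₁⟩ := exists_lift (g := g') (toL (R := R) (g' * a₁)) (toL_unit_left g' a₁)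
  have hr₁ι : (ι' hG₁').comp r₁ = ι' hg' := hom_ext _ _ fun b => by
    rw [AlgHom.comp_apply, hr₁, hι' hG₁', hι' hg']
  obtain ⟨F₀, hF₀⟩ := exists_lift (g := g) (r₁.comp ψ)
    ((hu₁ r₁).1 (by rw [hr₁]; exact toL_unit_right g' a₁))
  have cF₀ : ∀ s, ι' hG₁' (F₀ (toL (R := R) g s)) = e (toP (R := R) q s) := fun s => by
    rw [hF₀, AlgHom.comp_apply, ← AlgHom.comp_apply _ r₁, hr₁ι, hψ]
  -- `Fr₀ : S'_{G₁'} → S_{G₁}`
  obtain ⟨a₂, ha₂, hu₂⟩ := num hg (ψ' (g' * a₁)) (by rw [hψ']; exact (toP_unit q' hG₁').map e.symm)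
  have hG₁ := ‹q.IsPrime›.mul_notMem hg ha₂
  obtain ⟨r₂, hr₂⟩ := exists_lift (g := g) (toL (R := R) (g * a₂)) (toL_unit_left g a₂)
  have hr₂ι : (ι hG₁).comp r₂ = ι hg := hom_ext _ _ fun b => by
    rw [AlgHom.comp_apply, hr₂, hι hG₁, hι hg]
  obtain ⟨Fr₀, hFr₀⟩ := exists_lift (g := g' * a₁) (r₂.comp ψ')
    ((hu₂ r₂).1 (by rw [hr₂]; exact toL_unit_right g a₂))
  have eFr₀ : (ι hG₁).comp Fr₀ = e.symm.toAlgHom.comp (ι' hG₁') := hom_ext _ _ fun s => by
    rw [AlgHom.comp_apply, hFr₀, AlgHom.comp_apply, ← AlgHom.comp_apply _ r₂, hr₂ι, hψ',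
      AlgHom.comp_apply, hι' hG₁']
    rfl
  obtain ⟨u, hu, hu'⟩ := exists_eq_near q hG₁ ((Fr₀.comp F₀).comp (toL (R := R) g))
    (toL (R := R) (g * a₂)) (ι hG₁) (hι hG₁) (fun s => by
      have h1 := DFunLike.congr_fun eFr₀ (F₀ (toL (R := R) g s))
      simp only [AlgHom.comp_apply, AlgEquiv.toAlgHom_eq_coe, AlgHom.coe_coe] at h1 ⊢
      rw [h1, cF₀, hι hG₁]
      exact e.symm_apply_apply _)
  have hG₂ := ‹q.IsPrime›.mul_notMem hG₁ hu
  obtain ⟨r₃, hr₃⟩ := exists_lift (g := g * a₂) (toL (R := R) (g * a₂ * u)) (toL_unit_left _ u)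
  have hr₃ι : (ι hG₂).comp r₃ = ι hG₁ := hom_ext _ _ fun b => by
    rw [AlgHom.comp_apply, hr₃, hι hG₂, hι hG₁]
  let Fr₁ := r₃.comp Fr₀
  have hnat : ∀ s, Fr₁ (F₀ (toL (R := R) g s)) = toL (R := R) (g * a₂ * u) s := fun s =>
    (hu' r₃ (by rw [hr₃]; exact toL_unit_right _ u) s).trans (hr₃ s)
  have eFr₁ : (ι hG₂).comp Fr₁ = e.symm.toAlgHom.comp (ι' hG₁') := by
    rw [← eFr₀, ← hr₃ι]
    rfl
  -- make `F` extend to `S_{G₂}`
  obtain ⟨a₃, ha₃, hu₃⟩ := num' hG₁' (F₀ (toL (R := R) g (g * a₂ * u))) (by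
    rw [cF₀]; exact (toP_unit q hG₂).map e)
  have hG₂' := ‹q'.IsPrime›.mul_notMem hG₁' ha₃
  obtain ⟨r₄, hr₄⟩ := exists_lift (g := g' * a₁) (toL (R := R) (g' * a₁ * a₃)) (toL_unit_left _ a₃)
  have hr₄ι : (ι' hG₂').comp r₄ = ι' hG₁' := hom_ext _ _ fun b => by
    rw [AlgHom.comp_apply, hr₄, hι' hG₂', hι' hG₁']
  obtain ⟨F₂, hF₂⟩ := exists_lift (g := g * a₂ * u) ((r₄.comp F₀).comp (toL (R := R) g))
    ((hu₃ r₄).1 (by rw [hr₄]; exact toL_unit_right _ a₃))
  obtain ⟨Fr₂, hFr₂⟩ := exists_lift (g := g' * a₁ * a₃) (Fr₁.comp (toL (R := R) (g' * a₁))) (by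
    rw [map_mul]
    refine ((toL_unit (R := R) (g' * a₁)).map Fr₁).mul ((hu₃ Fr₁).2 ?_)
    rw [hnat]
    exact toL_unit _)
  have hFr₂r₄ : Fr₂.comp r₄ = Fr₁ := hom_ext _ _ fun b => by
    rw [AlgHom.comp_apply, hr₄, hFr₂]
    rfl
  have hid : ∀ s, Fr₂ (F₂ (toL (R := R) (g * a₂ * u) s)) = toL (R := R) (g * a₂ * u) s := fun s => by
    rw [hF₂, AlgHom.comp_apply, AlgHom.comp_apply, ← AlgHom.comp_apply Fr₂, hFr₂r₄, hnat]
  have eF₂ : (ι' hG₂').comp F₂ = e.toAlgHom.comp (ι hG₂) := hom_ext _ _ fun s => by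
    rw [AlgHom.comp_apply, hF₂, AlgHom.comp_apply, AlgHom.comp_apply, ← AlgHom.comp_apply _ r₄,
      hr₄ι, cF₀, AlgHom.comp_apply, hι hG₂]
    rfl
  have eFr₂ : (ι hG₂).comp Fr₂ = e.symm.toAlgHom.comp (ι' hG₂') := hom_ext _ _ fun s => by
    have h1 := DFunLike.congr_fun eFr₁ (toL (R := R) (g' * a₁) s)
    simp only [AlgHom.comp_apply] at h1 ⊢
    rw [hFr₂]
    refine h1.trans ?_
    rw [hι' hG₂', hι' hG₁']
  -- the other composite
  obtain ⟨v, hv, hv'⟩ := exists_eq_near q' hG₂' ((F₂.comp Fr₂).comp (toL (R := R) _))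
    (toL (R := R) (g' * a₁ * a₃)) (ι' hG₂') (hι' hG₂') (fun s => by
      have h1 := DFunLike.congr_fun eF₂ (Fr₂ (toL (R := R) (g' * a₁ * a₃) s))
      have h2 := DFunLike.congr_fun eFr₂ (toL (R := R) (g' * a₁ * a₃) s)
      simp only [AlgHom.comp_apply, AlgEquiv.toAlgHom_eq_coe, AlgHom.coe_coe] at h1 h2 ⊢
      rw [h1, h2]
      exact e.apply_symm_apply _)
  obtain ⟨a₄, ha₄, hu₄⟩ := num hG₂ (Fr₂ (toL (R := R) _ v)) (by
    rw [← AlgHom.comp_apply, eFr₂, AlgHom.comp_apply, hι' hG₂']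
    exact (toP_unit q' hv).map e.symm)
  obtain ⟨a₅, ha₅, hu₅⟩ := num' hG₂' (F₂ (toL (R := R) _ a₄)) (by
    rw [← AlgHom.comp_apply, eF₂, AlgHom.comp_apply, hι hG₂]
    exact (toP_unit q ha₄).map e)
  have hG₃ := ‹q.IsPrime›.mul_notMem hG₂ ha₄
  have hG₃' := ‹q'.IsPrime›.mul_notMem hG₂' (‹q'.IsPrime›.mul_notMem hv ha₅)
  obtain ⟨r₅, hr₅⟩ := exists_lift (g := g * a₂ * u) (toL (R := R) (g * a₂ * u * a₄)) (toL_unit_left _ a₄)
  obtain ⟨r₆, hr₆⟩ := exists_lift (g := g' * a₁ * a₃) (toL (R := R) (g' * a₁ * a₃ * (v * a₅)))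
    (toL_unit_left _ _)
  have hv₆ : IsUnit (toL (R := R) (g' * a₁ * a₃ * (v * a₅)) v) ∧
      IsUnit (toL (R := R) (g' * a₁ * a₃ * (v * a₅)) a₅) := by
    have := toL_unit_right (R := R) (g' * a₁ * a₃) (v * a₅)
    rwa [map_mul, IsUnit.mul_iff] at this
  obtain ⟨F₃, hF₃⟩ := exists_lift (g := g * a₂ * u * a₄) ((r₆.comp F₂).comp (toL (R := R) _)) (by
    rw [map_mul]
    refine ((toL_unit (R := R) _).map (r₆.comp F₂)).mul ((hu₅ r₆).1 ?_)
    rw [hr₆]
    exact hv₆.2)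
  obtain ⟨Fr₃, hFr₃⟩ := exists_lift (g := g' * a₁ * a₃ * (v * a₅))
    ((r₅.comp Fr₂).comp (toL (R := R) (g' * a₁ * a₃))) (by
    rw [map_mul]
    refine ((toL_unit (R := R) _).map (r₅.comp Fr₂)).mul ?_
    rw [map_mul]
    refine IsUnit.mul ?_ ?_
    · refine (hu₄ r₅).1 ?_
      rw [hr₅]
      exact toL_unit_right _ _
    · refine (hu₅ (r₅.comp Fr₂)).2 ?_
      rw [AlgHom.comp_apply, hid, hr₅]
      exact toL_unit_right _ _)
  have c₁ : F₃.comp r₅ = r₆.comp F₂ := hom_ext _ _ fun b => by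
    rw [AlgHom.comp_apply, hr₅, hF₃]
    rfl
  have c₂ : Fr₃.comp r₆ = r₅.comp Fr₂ := hom_ext _ _ fun b => by
    rw [AlgHom.comp_apply, hr₆, hFr₃]
    rfl
  refine ⟨_, _, hG₃, hG₃', ⟨AlgEquiv.ofAlgHom F₃ Fr₃ ?_ ?_⟩⟩
  · refine hom_ext _ _ fun b => ?_
    rw [AlgHom.comp_apply, hFr₃, AlgHom.comp_apply, AlgHom.comp_apply, ← AlgHom.comp_apply F₃, c₁]
    exact (hv' r₆ (by rw [hr₆]; exact hv₆.1) b).trans (hr₆ b)
  · refine hom_ext _ _ fun b => ?_
    rw [AlgHom.comp_apply, hF₃, AlgHom.comp_apply, AlgHom.comp_apply, ← AlgHom.comp_apply Fr₃, c₂,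
      AlgHom.comp_apply, hid, hr₅]
    rfl

end Groth.Agent.S2145
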