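import Groth.Statements.S0090
import Mathlib.RingTheory.Polynomial.GaussLemma
import Mathlib.RingTheory.Polynomial.SeparableDegree
import Mathlib.FieldTheory.IsSepClosed
import Mathlib.RingTheory.Henselian
import Mathlib.Algebra.Polynomial.Eval.Irreducible

set_option maxHeartbeats 1000000

set_option autoImplicit false
open CategoryTheory CategoryTheory.Limits AlgebraicGeometry Opposite
universe u
open EtBase

namespace Groth.Agent.S0090

open Polynomial

section Algebra

variable {R : Type*} [CommRing R] [IsDomain R] [IsLocalRing R] [IsIntegrallyClosed R]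
  (K : Type*) [Field K] [Algebra R K] [IsFractionRing R K] [IsSepClosed K]

include K

/-- An irreducible monic polynomial with a simple root modulo the maximal ideal is linear. -/
theorem natDegree_eq_one {h : R[X]} (hm : h.Monic) (hi : Irreducible (h.map (algebraMap R K))) {a : R}
    (hd : IsUnit (h.derivative.eval a)) : h.natDegree = 1 := by
  obtain ⟨q, hq'⟩ := ExpChar.exists K
  obtain ⟨g, hg, n, hn⟩ := hi.hasSeparableContraction q
  have hq : 0 < q ^ n := pow_pos (expChar_pos K q) n
  have hgi : Irreducible g := of_irreducible_expand hq.ne' (hn.symm ▸ hi)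
  have hdeg : g.natDegree = 1 :=
    natDegree_eq_of_degree_eq_some (IsSepClosed.degree_eq_one_of_irreducible (k := K) hgi hg)
  have hN : (h.map (algebraMap R K)).natDegree = q ^ n := by
    rw [← hn, natDegree_expand, hdeg, one_mul]
  rw [hm.natDegree_map] at hN
  rw [hN]
  by_contra hne
  have h0 : ((q ^ n : ℕ) : K) = 0 := by
    rcases hq' with _ | hp
    · exact absurd (one_pow n) hne
    · have hn0 : n ≠ 0 := fun h => hne (by rw [h, pow_zero])
      rw [Nat.cast_pow, CharP.cast_eq_zero, zero_pow hn0]
  have hd0 : h.derivative = 0 := by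
    apply Polynomial.map_injective _ (IsFractionRing.injective R K)
    rw [← derivative_map, ← hn, derivative_expand, ← C_eq_natCast, h0, Polynomial.map_zero]
    simp
  rw [hd0, eval_zero] at hd
  exact not_isUnit_zero hd

theorem exists_root_of_simple : ∀ (N : ℕ) (f : R[X]), f.natDegree = N → f.Monic → ∀ a : R,
    f.eval a ∈ IsLocalRing.maximalIdeal R → IsUnit (f.derivative.eval a) →
    ∃ b : R, f.IsRoot b ∧ b - a ∈ IsLocalRing.maximalIdeal R := by
  intro N
  induction N using Nat.strong_induction_on with
  | _ N ih =>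
    intro f hN hf a ha hd
    have hne : f.natDegree ≠ 0 := fun h => by
      rw [hf.natDegree_eq_zero.1 h, eval_one] at ha
      exact (IsLocalRing.maximalIdeal.isMaximal R).ne_top ((Ideal.eq_top_iff_one _).2 ha)
    obtain ⟨p, hp, hpm, hpd⟩ : ∃ p : K[X], Irreducible p ∧ p.Monic ∧ p ∣ f.map (algebraMap R K) := by
      obtain ⟨p, hp, hpd⟩ := WfDvdMonoid.exists_irreducible_factor (a := f.map (algebraMap R K))
        (fun hu => hne (by rw [← hf.natDegree_map (algebraMap R K)]; exact natDegree_eq_zero_of_isUnit hu))
        (hf.map _).ne_zero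
      refine ⟨p * C p.leadingCoeff⁻¹,
        irreducible_mul_isUnit (isUnit_C.2 (inv_ne_zero (leadingCoeff_ne_zero.2 hp.ne_zero)).isUnit) |>.2 hp,
        monic_mul_leadingCoeff_inv hp.ne_zero, ?_⟩
      exact (IsUnit.mul_right_dvd (isUnit_C.2 (inv_ne_zero (leadingCoeff_ne_zero.2 hp.ne_zero)).isUnit)).2 hpd
    obtain ⟨h, hh⟩ := IsIntegrallyClosed.eq_map_mul_C_of_dvd K hf hpd
    rw [hpm.leadingCoeff, C_1, mul_one] at hh
    have hhm : h.Monic := monic_of_injective (IsFractionRing.injective R K) (hh.symm ▸ hpm)
    obtain ⟨g, rfl⟩ : h ∣ f := (map_dvd_map _ (IsFractionRing.injective R K) hhm).1 (hh.symm ▸ hpd)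
    have hgm : g.Monic := hhm.of_mul_monic_left hf
    have hh1 : 1 ≤ h.natDegree := by
      rw [← hhm.natDegree_map (algebraMap R K), hh]
      exact Nat.one_le_iff_ne_zero.2 fun h0 => hp.not_isUnit (by rw [hpm.natDegree_eq_zero.1 h0]; exact isUnit_one)
    rw [derivative_mul, eval_add, eval_mul, eval_mul] at hd
    rw [eval_mul] at ha
    rcases (IsLocalRing.maximalIdeal.isMaximal R).isPrime.mem_or_mem ha with h1 | h1
    · have h2 : IsUnit (h.derivative.eval a * g.eval a) := by
        by_contra hnu
        exact hd.elim (fun u hu => IsLocalRing.notMem_maximalIdeal.2 ⟨u, hu⟩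
          (Ideal.add_mem _ ((IsLocalRing.mem_maximalIdeal _).2 hnu) (Ideal.mul_mem_right _ _ h1)))
      have h3 := natDegree_eq_one K hhm (hh.symm ▸ hp) (isUnit_of_mul_isUnit_left h2)
      have he : h = X + C (h.coeff 0) := hhm.eq_X_add_C h3
      refine ⟨-h.coeff 0, root_mul_right_of_isRoot _ (by rw [IsRoot, he]; simp), ?_⟩
      rw [he, eval_add, eval_X, eval_C] at h1
      have := neg_mem h1
      convert this using 1
      ring
    · have h2 : IsUnit (h.eval a * g.derivative.eval a) := by
        by_contra hnu
        exact hd.elim (fun u hu => IsLocalRing.notMem_maximalIdeal.2 ⟨u, hu⟩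
          (Ideal.add_mem _ (Ideal.mul_mem_left _ _ h1) ((IsLocalRing.mem_maximalIdeal _).2 hnu)))
      obtain ⟨b, hb, hb'⟩ := ih g.natDegree (by rw [← hN, hhm.natDegree_mul hgm]; omega) g rfl hgm a h1
        (isUnit_of_mul_isUnit_right h2)
      exact ⟨b, root_mul_left_of_isRoot _ hb, hb'⟩

theorem isStrictlyHenselian : ∃ _ : HenselianLocalRing R, IsSepClosed (IsLocalRing.ResidueField R) := by
  refine ⟨{ is_henselian := fun f hf a ha hd => exists_root_of_simple K _ f rfl hf a ha hd }, ?_⟩
  refine IsSepClosed.of_exists_root _ fun p hpm hpi hps => ?_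
  obtain ⟨f, hf, -, hfm⟩ := lifts_and_degree_eq_and_monic
    (map_surjective _ IsLocalRing.residue_surjective p) hpm
  have hfi : Irreducible (f.map (algebraMap R K)) := (Monic.irreducible_iff_irreducible_map_fraction_map hfm).1
    (Polynomial.Monic.irreducible_of_irreducible_map (IsLocalRing.residue R) f hfm (hf.symm ▸ hpi))
  have hfs : (f.map (algebraMap R K)).Separable := by
    obtain ⟨u, v, huv⟩ := hps
    obtain ⟨u, rfl⟩ := map_surjective _ IsLocalRing.residue_surjective u
    obtain ⟨v, rfl⟩ := map_surjective _ IsLocalRing.residue_surjective v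
    rw [← hf, derivative_map, ← Polynomial.map_mul, ← Polynomial.map_mul, ← Polynomial.map_add] at huv
    have hd0 : f.derivative ≠ 0 := by
      intro h0
      rw [h0, mul_zero, add_zero, Polynomial.map_mul, hf] at huv
      exact hpi.not_isUnit (IsUnit.of_mul_eq_one _ (by rw [mul_comm]; exact huv))
    rw [separable_iff_derivative_ne_zero hfi, derivative_map]
    exact fun h0 => hd0 (Polynomial.map_injective _ (IsFractionRing.injective R K) (by rw [h0, Polynomial.map_zero]))
  have h1 : f.natDegree = 1 := by
    rw [← hfm.natDegree_map (algebraMap R K)]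
    exact natDegree_eq_of_degree_eq_some (IsSepClosed.degree_eq_one_of_irreducible (k := K) hfi hfs)
  rw [← hf, hfm.eq_X_add_C h1]
  exact ⟨-IsLocalRing.residue R (f.coeff 0), by simp⟩

end Algebra

/-- Part (2) — every local ring of an integral normal scheme with separably closed function field is
strictly henselian. -/
theorem result (X : Scheme.{u}) [IsIntegral X] (hN : ∀ x : X, IsIntegrallyClosed (X.presheaf.stalk x))
    [IsSepClosed X.functionField] (x : X) : EtCoh.IsStrictlyHenselianLocalRing (X.presheaf.stalk x) := by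
  haveI := hN x
  exact isStrictlyHenselian (R := X.presheaf.stalk x) X.functionField

end Groth.Agent.S0090
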