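import Groth.Statements.S0642
import Groth.Agent.UHomeoLib.Lift
import Mathlib.Algebra.Homology.DerivedCategory.Ext.MapBijective
import Mathlib.CategoryTheory.Sites.DenseSubsite.SheafEquiv

set_option autoImplicit false
open CategoryTheory CategoryTheory.Limits AlgebraicGeometry Opposite
universe u
open EtCore

namespace Groth.Agent.S0642

open AlgebraicGeometry CategoryTheory CategoryTheory.Limits in
theorem bc_dense {X₀ X : Scheme.{u}} (i : X₀ ⟶ X) [IsIntegralHom i] [UniversallyInjective i] [Surjective i] :
    (EtCoh.bc i).IsDenseSubsite X.smallEtaleTopology X₀.smallEtaleTopology := by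
  haveI : (EtCoh.bc i).IsEquivalence :=
    EtInvLib.bc_isEquivalence i fun X₁ x₁ _ x => UHomeo.exists_liftData i x₁ x
  refine { functorPushforward_mem_iff := fun {U S} => ⟨fun h => ?_, (EtCoh.coverPreserving_bc i).cover_preserve⟩ }
  have eY : X.smallEtaleTopology = (X.smallPretopology (P := EtCoh.etaleMP) (Q := EtCoh.etaleMP)).toGrothendieck :=
    Scheme.smallGrothendieckTopology_eq_toGrothendieck_smallPretopology X le_rfl
  have eX : X₀.smallEtaleTopology = (X₀.smallPretopology (P := EtCoh.etaleMP) (Q := EtCoh.etaleMP)).toGrothendieck :=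
    Scheme.smallGrothendieckTopology_eq_toGrothendieck_smallPretopology X₀ le_rfl
  rw [eX] at h
  rw [eY]
  replace h := (Scheme.mem_toGrothendieck_smallPretopology ((EtCoh.bc i).obj U) _).1 h
  refine (Scheme.mem_toGrothendieck_smallPretopology U S).2 fun x => ?_
  obtain ⟨x', hx'⟩ := (inferInstance : Surjective (pullback.fst U.hom i)).surj x
  obtain ⟨Y, f, y, ⟨Z, g, k, hg, hfk⟩, -, hy⟩ := h x'
  haveI : Etale g.left := by
    haveI : Etale (g.left ≫ U.hom) := by rw [show g.left ≫ U.hom = Z.hom from Over.w g.hom]; exact Z.prop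
    haveI : Etale U.hom := U.prop
    exact Etale.of_comp g.left U.hom
  refine ⟨Z, g, (pullback.fst Z.hom i : ((EtCoh.bc i).obj Z).left ⟶ Z.left) (k.left y), hg, ‹_›, ?_⟩
  have e1 : f.left y = ((EtCoh.bc i).map g).left (k.left y) := by
    rw [hfk]; rfl
  have hsq := (EtCoh.isPullback_bc_map i g).w
  rw [← hx', ← hy, e1]
  exact congrArg (fun φ => φ (k.left y)) hsq.symm

open AlgebraicGeometry CategoryTheory CategoryTheory.Limits in
theorem pull_isEquivalence {X₀ X : Scheme.{u}} (i : X₀ ⟶ X) [IsIntegralHom i] [UniversallyInjective i] [Surjective i] :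
    (EtCoh.pull i).IsEquivalence := by
  haveI := bc_dense i
  haveI : (EtCoh.push i).IsEquivalence := inferInstance
  exact (EtCoh.pullPushAdj i).isEquivalence_left_of_isEquivalence_right


/-- Let X_0 -> X be integral, universally injective and surjective (a universal homeomorphism). Then for
every abelian sheaf F on the small etale site of X and every q the pullback map from H^q(X, F) to
H^q(X_0, F|_{X_0}) is bijective. (Exactness of pullback of abelian sheaves, which always holds, is
carried as an instance hypothesis.) -/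
theorem result {X₀ X : Scheme.{u}} (i : X₀ ⟶ X) [IsIntegralHom i]
    [UniversallyInjective i] [Surjective i] [PreservesFiniteLimits (EtCoh.pull i)] (F : EtCoh.Ab X) (q : ℕ) :
    Function.Bijective (EtCore.Hpull i F q) := by
  haveI := pull_isEquivalence i
  have hb : Function.Bijective ((EtCoh.pull i).mapExtAddHom
      ((constantSheaf X.smallEtaleTopology AddCommGrpCat.{u+1}).obj (AddCommGrpCat.of (ULift.{u+1} ℤ))) F q) :=
    Functor.mapExt_bijective_of_preservesInjectiveObjects _ _ _ _
  let e := EtCore.pullConst i ℤ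
  show Function.Bijective ((fun x => (Abelian.Ext.mk₀ e.inv).comp x (zero_add q)) ∘ _)
  refine Function.Bijective.comp ?_ hb
  refine Function.bijective_iff_has_inverse.mpr
    ⟨fun x => (Abelian.Ext.mk₀ e.hom).comp x (zero_add q), fun x => ?_, fun x => ?_⟩
  · show (Abelian.Ext.mk₀ e.hom).comp ((Abelian.Ext.mk₀ e.inv).comp x (zero_add q)) (zero_add q) = x
    rw [← Abelian.Ext.comp_assoc_of_second_deg_zero, Abelian.Ext.mk₀_comp_mk₀, e.hom_inv_id,
      Abelian.Ext.mk₀_id_comp]
  · show (Abelian.Ext.mk₀ e.inv).comp ((Abelian.Ext.mk₀ e.hom).comp x (zero_add q)) (zero_add q) = x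
    rw [← Abelian.Ext.comp_assoc_of_second_deg_zero, Abelian.Ext.mk₀_comp_mk₀, e.inv_hom_id,
      Abelian.Ext.mk₀_id_comp]

end Groth.Agent.S0642
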