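import Groth.Statements.S1992
import Mathlib
-- import your own Groth.Agent.* helpers here

set_option autoImplicit false
universe u
open Polynomial
open EtAlg

namespace Groth.Agent.S1992

/-- Let A be an absolutely integrally closed ring, i.e. every monic polynomial over A is a product of
linear factors X - a. Then for every prime p of A the localization A_p is a strictly henselian local
ring (henselian with separably closed residue field). -/
theorem result (A : Type u) [CommRing A]
    (hA : ∀ f : A[X], f.Monic → ∃ s : Multiset A, f = (s.map fun a => X - C a).prod)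
    (p : Ideal A) [p.IsPrime] :
    EtCoh.IsStrictlyHenselianLocalRing (Localization.AtPrime p) := by
  let R := Localization.AtPrime p
  -- every monic polynomial over the localization has a root
  have hroot : ∀ F : R[X], F.Monic → F.natDegree ≠ 0 → ∃ v, F.IsRoot v := by
    intro F hF hn
    obtain ⟨s, hs⟩ := IsLocalization.exist_integer_multiples_of_finset p.primeCompl F.coeffs
    let σ := algebraMap A R (s : A)
    have hlift : F.scaleRoots σ ∈ Polynomial.lifts (algebraMap A R) := by
      rw [Polynomial.lifts_iff_coeff_lifts]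
      intro n
      rw [Polynomial.coeff_scaleRoots]
      rcases lt_trichotomy n F.natDegree with h | h | h
      · by_cases h0 : F.coeff n = 0
        · exact ⟨0, by rw [h0, zero_mul, map_zero]⟩
        obtain ⟨c, hc⟩ := hs _ (Polynomial.coeff_mem_coeffs h0)
        refine ⟨c * (s : A) ^ (F.natDegree - n - 1), ?_⟩
        rw [map_mul, map_pow, hc, Algebra.smul_def, show F.natDegree - n = (F.natDegree - n - 1) + 1 by omega, pow_succ]
        simp only [σ, Nat.add_sub_cancel]
        ring
      · exact ⟨1, by rw [h, hF.coeff_natDegree, Nat.sub_self, pow_zero, mul_one, map_one]⟩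
      · exact ⟨0, by rw [Polynomial.coeff_eq_zero_of_natDegree_lt h, zero_mul, map_zero]⟩
    obtain ⟨G, hG, hGd, hGm⟩ := Polynomial.lifts_and_natDegree_eq_and_monic hlift
      ((Polynomial.monic_scaleRoots_iff σ).2 hF)
    obtain ⟨t, ht⟩ := hA G hGm
    have hne : t ≠ 0 := fun h0 => hn (by
      rw [← Polynomial.natDegree_scaleRoots F σ, ← hGd, ht, h0, Multiset.map_zero, Multiset.prod_zero, natDegree_one])
    obtain ⟨v, hv⟩ := Multiset.exists_mem_of_ne_zero hne
    have h2 : (F.scaleRoots σ).eval (algebraMap A R v) = 0 := by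
      rw [← hG, Polynomial.eval_map, Polynomial.eval₂_at_apply, ht, Polynomial.eval_multiset_prod,
        Multiset.prod_eq_zero, map_zero]
      rw [Multiset.map_map, Multiset.mem_map]
      exact ⟨v, hv, by simp⟩
    obtain ⟨u, hu⟩ := IsLocalization.map_units R s
    refine ⟨↑u⁻¹ * algebraMap A R v, ?_⟩
    rw [show algebraMap A R v = σ * (↑u⁻¹ * algebraMap A R v) by
      rw [← mul_assoc, show σ = (u : R) from hu.symm, Units.mul_inv, one_mul],
      Polynomial.scaleRoots_eval_mul] at h2
    exact ((u.isUnit.pow _).mul_right_eq_zero).1 (by rw [hu]; exact h2)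
  -- hence it has, for each approximate root, a nearby root
  have hsplit : ∀ (n : ℕ) (F : R[X]) (a₀ : R), F.Monic → F.natDegree = n → ¬ IsUnit (F.eval a₀) →
      ∃ a, F.IsRoot a ∧ ¬ IsUnit (a - a₀) := by
    intro n
    induction n with
    | zero =>
      intro F a₀ hF hn h
      rw [eq_one_of_monic_natDegree_zero hF hn, eval_one] at h
      exact absurd isUnit_one h
    | succ n ih =>
      intro F a₀ hF hn h
      obtain ⟨v, hv⟩ := hroot F hF (by omega)
      have hfac := mul_divByMonic_eq_iff_isRoot.2 hv
      rw [← hfac, eval_mul, eval_sub, eval_X, eval_C, IsUnit.mul_iff, not_and_or] at h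
      rcases h with h | h
      · exact ⟨v, hv, fun h' => h (by simpa using h'.neg)⟩
      · have hm : (F /ₘ (X - C v)).Monic := (monic_X_sub_C v).of_mul_monic_left (hfac.symm ▸ hF)
        obtain ⟨a, ha, ha'⟩ := ih _ a₀ hm (by
          rw [natDegree_divByMonic _ (monic_X_sub_C v), natDegree_X_sub_C, hn]; omega) h
        exact ⟨a, by rw [IsRoot.def, ← hfac, eval_mul, ha, mul_zero], ha'⟩
  haveI hH : HenselianLocalRing R :=
    { is_henselian := fun F hF a₀ h1 _ => hsplit _ F a₀ hF rfl (mem_nonunits_iff.1 h1) }
  refine ⟨hH, IsSepClosed.of_exists_root _ fun F hF hFi _ => ?_⟩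
  have hl : F ∈ Polynomial.lifts (IsLocalRing.residue R) :=
    (Polynomial.mem_lifts F).2 (Polynomial.map_surjective _ IsLocalRing.residue_surjective F)
  obtain ⟨G, hG, hGd, hGm⟩ := Polynomial.lifts_and_natDegree_eq_and_monic hl hF
  obtain ⟨v, hv⟩ := hroot G hGm (by rw [hGd]; exact (Polynomial.natDegree_pos_iff_degree_pos.2 (Polynomial.degree_pos_of_irreducible hFi)).ne')
  exact ⟨IsLocalRing.residue R v, by rw [← hG, eval_map, eval₂_at_apply, hv, map_zero]⟩

end Groth.Agent.S1992
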