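import Groth.Statements.S0027
import Groth.Agent.DevissLib.Filtration
-- import your own Groth.Agent.* helpers here

set_option autoImplicit false
universe u
open Coherent

namespace Groth.Agent.S0027

open AlgebraicGeometry CategoryTheory CategoryTheory.Limits in
/-- Let X be a nonempty Noetherian scheme and P an isomorphism-invariant property of O_X-modules such
that (1) in a short exact sequence of coherent modules, P for the two outer terms implies P for the
middle term, and (2) P holds for the direct image of every quasi-coherent ideal sheaf of every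
integral closed subscheme of X. Then P holds for every coherent O_X-module. (Nonemptiness of X is
needed for the zero module; the published statement leaves it implicit.) -/
theorem result (X : Scheme.{u}) [IsNoetherian X] [Nonempty X]
    (P : X.Modules → Prop) (hP : ∀ M N : X.Modules, Nonempty (M ≅ N) → P M → P N)
    (h₁ : ∀ S : ShortComplex X.Modules, S.ShortExact → Coh.IsCoh S.X₁ → Coh.IsCoh S.X₂ →
      Coh.IsCoh S.X₃ → P S.X₁ → P S.X₃ → P S.X₂)
    (h₂ : ∀ (Z : Scheme.{u}) (i : Z ⟶ X), IsClosedImmersion i → IsIntegral Z →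
      ∀ (I : Z.Modules) (ι : I ⟶ Coh.structureModule Z), Mono ι → Coh.IsQCoh I →
        P ((Coh.push i).obj I))
    (M : X.Modules) (hM : Coh.IsCoh M) : P M := by
  obtain ⟨m, F, φ, h0, ⟨e⟩, hc, hs⟩ := DevissLib.exists_filtration hM
  suffices key : ∀ j ≤ m, P (F j) from hP _ _ ⟨e⟩ (key m le_rfl)
  intro j
  induction j with
  | zero =>
    intro _
    obtain ⟨x⟩ := ‹Nonempty X›
    obtain ⟨Z, i, hi, hZ, -⟩ :=
      DevissLib.exists_integral_closed isClosed_closure (isIrreducible_singleton (x := x)).closure
    have hz : IsZero (kernel (𝟙 (Coh.structureModule Z))) := isZero_kernel_of_mono _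
    exact hP _ _ ⟨((Coh.push i).map_isZero hz).iso h0⟩
      (h₂ Z i hi hZ _ (kernel.ι (𝟙 _)) inferInstance (QCohLib.isQCoh_of_isZero hz))
  | succ j ih =>
    intro hj
    obtain ⟨hm, Z, i, hi, hZ, I, ι, hι, hI, -, ⟨eI⟩⟩ := hs j hj
    have hcj := hc j (Nat.le_of_succ_le hj)
    have hcj' := hc (j + 1) hj
    refine h₁ (ShortComplex.mk (φ j) (cokernel.π (φ j)) (cokernel.condition _))
      { exact := ShortComplex.exact_of_g_is_cokernel _ (cokernelIsCokernel _)
        mono_f := hm
        epi_g := inferInstanceAs (Epi (cokernel.π (φ j))) }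
      hcj hcj' (QCohLib.isCoh_cokernel (φ j) hcj.1 hcj') (ih (Nat.le_of_succ_le hj))
      (hP _ _ ⟨eI.symm⟩ (h₂ Z i hi hZ I ι hι hI))

end Groth.Agent.S0027
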