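import Groth.Statements.S14595
import Groth.Agent.AlbLib.Semi
-- import your own Groth.Agent.* helpers here

set_option autoImplicit false
set_option backward.isDefEq.respectTransparency false
set_option linter.style.haveILetI false
universe u
open CategoryTheory MonoidalCategory CartesianMonoidalCategory MonObj GrpObj AlgebraicGeometry CategoryTheory.Limits
open AlgGrp

namespace Groth.Agent.S14595

/-- Let k be a field, X and Y varieties over k (separated, geometrically integral, of finite type) with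
rational points x₀, y₀, G a semi-abelian variety (an extension of a proper smooth connected k-group
scheme by a torus) and f : X × Y → G a k-morphism. Then f(x, y) f(x, y₀)⁻¹ f(x₀, y)⁻¹ f(x₀, y₀) = e
identically, in the group of morphisms X × Y → G. -/
theorem result (k : Type u) [Field k]
    (X Y G : Over (Spec (CommRingCat.of k)))
    [LocallyOfFiniteType X.hom] [QuasiCompact X.hom] [IsSeparated X.hom] [GeometricallyIntegral X.hom]
    [LocallyOfFiniteType Y.hom] [QuasiCompact Y.hom] [IsSeparated Y.hom] [GeometricallyIntegral Y.hom]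
    [GrpObj G] [LocallyOfFiniteType G.hom] [QuasiCompact G.hom] (hG : (∃ (T : Over (Spec (CommRingCat.of k))) (_ : GrpObj T) (i : T ⟶ G) (A : Over (Spec (CommRingCat.of k))) (_ : GrpObj A) (q : G ⟶ A),
        IsMonHom i ∧ IsClosedImmersion i.left ∧ Red.IsTorus T ∧ IsMonHom q ∧ Surjective q.left ∧ Flat q.left ∧
        AlgGrp.IsKernel i q ∧ IsProper A.hom ∧ Smooth A.hom ∧ ConnectedSpace ↥A.left))
    (x₀ : 𝟙_ (Over (Spec (CommRingCat.of k))) ⟶ X) (y₀ : 𝟙_ (Over (Spec (CommRingCat.of k))) ⟶ Y) (f : X ⊗ Y ⟶ G) :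
    f * (fst X Y ≫ lift (𝟙 X) (toUnit X ≫ y₀) ≫ f)⁻¹ * (snd X Y ≫ lift (toUnit Y ≫ x₀) (𝟙 Y) ≫ f)⁻¹ *
      (toUnit (X ⊗ Y) ≫ lift x₀ y₀ ≫ f) = 1 := by
  obtain ⟨T, _, i, A, _, q, hi, hci, hT, hq, hqs, hqf, hk, hAp, hAs, hAc⟩ := hG
  haveI := hi; haveI := hci; haveI := hq; haveI := hqs; haveI := hqf; haveI := hAp; haveI := hAs; haveI := hAc
  obtain ⟨hGI, hGc⟩ := AlbLib.semi_variety i hT q hk
  haveI := hGc
  haveI := AlbLib.geometricallyIntegral_grp A
  haveI : IsCommMonObj A := CubeConsLib.isCommMonObj_field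
  haveI : Mono i := Over.mono_of_mono_left i
  let a := fst X Y ≫ lift (𝟙 X) (toUnit X ≫ y₀) ≫ f
  let b := snd X Y ≫ lift (toUnit Y ≫ x₀) (𝟙 Y) ≫ f
  let c := toUnit (X ⊗ Y) ≫ lift x₀ y₀ ≫ f
  have hq1 : (f * a⁻¹ * b⁻¹ * c) ≫ q = 1 := by
    have h : f ≫ q = (c ≫ q)⁻¹ * (b ≫ q) * (a ≫ q) := by
      simpa only [a, b, c, Category.assoc] using AlbLib.split (f ≫ q) x₀ y₀
    rw [MonObj.mul_comp, MonObj.mul_comp, MonObj.mul_comp, GrpObj.inv_comp, GrpObj.inv_comp, h]
    simp [mul_comm, mul_left_comm]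
  obtain ⟨F, hF⟩ := AntiAffLib.exists_lift_kernel hk _ hq1
  have hF1 : F = 1 := by
    haveI : LocallyOfFiniteType T.hom := by rw [← Over.w i]; infer_instance
    refine AlbLib.eq_one_of_axes_torus hT F x₀ y₀ ?_ ?_
    · rw [← cancel_mono i, Category.assoc, hF, MonObj.one_comp]
      simp only [a, b, c, MonObj.comp_mul, GrpObj.comp_inv, ← Category.assoc, comp_lift, lift_fst, lift_snd,
        Category.comp_id, toUnit_unique (lift (toUnit Y ≫ x₀) (𝟙 Y) ≫ toUnit (X ⊗ Y)) (toUnit Y)]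
      simp only [Category.assoc, Category.id_comp]
      rw [← Category.assoc x₀, toUnit_unique (x₀ ≫ toUnit X) (𝟙 _), Category.id_comp]
      simp [← comp_lift_assoc, mul_comm, mul_left_comm]
    · rw [← cancel_mono i, Category.assoc, hF, MonObj.one_comp]
      simp only [a, b, c, MonObj.comp_mul, GrpObj.comp_inv, ← Category.assoc, comp_lift, lift_fst, lift_snd,
        Category.comp_id, toUnit_unique (lift (𝟙 X) (toUnit X ≫ y₀) ≫ toUnit (X ⊗ Y)) (toUnit X)]
      simp only [Category.assoc, Category.id_comp]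
      rw [← Category.assoc y₀, toUnit_unique (y₀ ≫ toUnit Y) (𝟙 _), Category.id_comp]
      simp [← comp_lift_assoc, mul_comm, mul_left_comm]
  rw [← hF, hF1, MonObj.one_comp]
end Groth.Agent.S14595
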