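import Groth.Statements.S19572
import Groth.Agent.FibDimLib.SchemeInv
import Groth.Agent.FibDimLib.Comps
import Groth.Agent.AlgSpLib.RelDim
import Groth.Agent.AbSchLib.Flat
import Groth.Agent.UOpenLib.FibreDim

set_option autoImplicit false
set_option linter.style.haveILetI false
universe u
open CategoryTheory CategoryTheory.Limits MonoidalCategory CartesianMonoidalCategory MonObj GrpObj AlgebraicGeometry
open AbVar

namespace Groth.Agent.S19572

/-- Let X and Y be abelian varieties over a field k (proper, geometrically integral k-group schemes) and
f : X → Y a homomorphism. If f is surjective and dim X = dim Y (Krull dimensions of the underlying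
topological spaces), then f is finite and flat; together with surjectivity, f is an isogeny. -/
theorem result (k : Type u) [Field k]
    (X Y : Over (Spec (CommRingCat.of k)))
    [GrpObj X] [IsProper X.hom] [GeometricallyIntegral X.hom]
    [GrpObj Y] [IsProper Y.hom] [GeometricallyIntegral Y.hom]
    (f : X ⟶ Y) [IsMonHom f] [Surjective f.left]
    (hdim : topologicalKrullDim X.left = topologicalKrullDim Y.left) :
    IsFinite f.left ∧ Flat f.left := by
  haveI : LocallyOfFinitePresentation X.hom := LocallyOfFinitePresentation.iff_locallyOfFiniteType.2 inferInstance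
  haveI hflat : Flat f.left := AbSchLib.flat_of_surjective f
  haveI : IsProper (f.left ≫ Y.hom) := by rw [Over.w f]; infer_instance
  haveI : IsProper f.left := IsProper.of_comp f.left Y.hom
  haveI : IsIntegral X.left := GeometricallyIntegral.isIntegral_of_subsingleton X.hom
  haveI : IsIntegral Y.left := GeometricallyIntegral.isIntegral_of_subsingleton Y.hom
  haveI : LocallyQuasiFinite f.left := by
    rw [AlgSpLib.lqf_iff_fibreDimAt_eq_zero]
    intro x
    obtain ⟨n, hn⟩ := UOpenLib.exists_fibreDimAt_eq_nat f.left x
    obtain ⟨m, hm⟩ := UOpenLib.exists_fibreDimAt_eq_nat Y.hom (f.left x)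
    have e := FibDimLib.localDim_eq_add_fibreDimAt Y.hom f.left x
    rw [FibDimLib.localDim_of_irreducible X.hom x, FibDimLib.localDim_of_irreducible Y.hom (f.left x), hn, hdim] at e
    have hY : FlatMor.fibreDimAt Y.hom (f.left x) = topologicalKrullDim Y.left := by
      rw [AlgSpLib.fibreDimAt_eq_localDim, FibDimLib.localDim_of_irreducible Y.hom (f.left x)]
    rw [← hY, hm] at e
    rw [hn]
    have : (m : ℕ) = m + n := by exact_mod_cast e
    exact_mod_cast (show n = 0 by omega)
  exact ⟨IsFinite.of_isProper_of_locallyQuasiFinite f.left, hflat⟩

end Groth.Agent.S19572
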