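import Groth.Statements.S4628
-- import your own Groth.Agent.* helpers here

set_option autoImplicit false
open CategoryTheory AlgebraicGeometry
universe u
open FBase

namespace Groth.Agent.S4628

open CategoryTheory.Limits TensorProduct in
lemma affine {k : Type u} [Field k] {X : Scheme.{u}} (f : X ⟶ Spec (CommRingCat.of k))
    [GeometricallyReduced f] (B A : CommRingCat.{u}) (φ : CommRingCat.of k ⟶ B)
    (ψ : CommRingCat.of k ⟶ A) [_root_.IsReduced A] (j : Spec B ⟶ X) [IsOpenImmersion j]
    (hj : j ≫ f = Spec.map φ) :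
    AlgebraicGeometry.IsReduced (pullback (Spec.map φ) (Spec.map ψ)) := by
  let := φ.hom.toAlgebra
  let := ψ.hom.toAlgebra
  suffices _root_.IsReduced (B ⊗[k] A) from
    isReduced_of_isOpenImmersion (pullbackSpecIso k B A).hom
  refine IsReduced.tensorProduct_of_flat_of_forall_fg fun A₀ hA₀ ↦ ?_
  have : Algebra.FiniteType k A₀ := (Subalgebra.fg_iff_finiteType _).mp hA₀
  have : IsNoetherianRing A₀ := Algebra.FiniteType.isNoetherianRing k A₀
  have : _root_.IsReduced A₀ := isReduced_of_injective A₀.val Subtype.val_injective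
  let g₀ : Spec (CommRingCat.of A₀) ⟶ Spec (CommRingCat.of k) :=
    Spec.map (CommRingCat.ofHom (algebraMap k A₀))
  let m : pullback (Spec.map φ) g₀ ⟶ pullback f g₀ :=
    pullback.map _ _ _ _ j (𝟙 _) (𝟙 _) (by simp [hj]) (by simp)
  have : IsOpenImmersion m := inferInstanceAs
    (IsOpenImmersion (pullback.map _ _ _ _ j (𝟙 _) (𝟙 _) _ _))
  have h1 : AlgebraicGeometry.IsReduced (pullback (Spec.map φ) g₀) :=
    isReduced_of_isOpenImmersion m
  rw [← affine_isReduced_iff (CommRingCat.of (B ⊗[k] A₀))]
  exact isReduced_of_isOpenImmersion (pullbackSpecIso k B A₀).inv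

open CategoryTheory.Limits in
/-- Let X be a scheme over a field k which is geometrically reduced (X ⊗_k K is reduced for every
extension field K of k), and let S be any reduced scheme over k. Then the product X ×_k S is
reduced. (No Noetherian or finiteness assumption on S.) -/
theorem result {k : Type u} [Field k] {X S : Scheme.{u}}
    (f : X ⟶ Spec (CommRingCat.of k)) (g : S ⟶ Spec (CommRingCat.of k)) [GeometricallyReduced f]
    [AlgebraicGeometry.IsReduced S] : AlgebraicGeometry.IsReduced (pullback f g) := by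
  apply +allowSynthFailures @IsReduced.of_openCover
    (𝒰 := Scheme.Pullback.openCoverOfLeftRight X.affineCover S.affineCover f g)
  rintro ⟨i, j⟩
  obtain ⟨B, hB⟩ : ∃ B, X.affineCover.X i = Spec B := ⟨_, rfl⟩
  obtain ⟨φ, hφ⟩ := Spec.map_surjective (X.affineCover.f i ≫ f)
  obtain ⟨ψ, hψ⟩ := Spec.map_surjective (S.affineCover.f j ≫ g)
  have := isReduced_of_isOpenImmersion (S.affineCover.f j)
  have : _root_.IsReduced _ := (affine_isReduced_iff _).mp this
  have := @affine _ _ _ f _ _ _ φ ψ _ (X.affineCover.f i) (X.affineCover.map_prop i) hφ.symm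
  exact isReduced_of_isOpenImmersion (pullback.congrHom hφ.symm hψ.symm).hom

end Groth.Agent.S4628
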