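import Groth.Statements.S4667
import Mathlib.AlgebraicGeometry.Morphisms.SchemeTheoreticallyDominant
-- import your own Groth.Agent.* helpers here

set_option autoImplicit false
open CategoryTheory AlgebraicGeometry
universe u
open FDesc

namespace Groth.Agent.S4667

open CategoryTheory CategoryTheory.Limits AlgebraicGeometry

open CategoryTheory.Limits in
/-- Let f : X → Y be a quasi-compact morphism of schemes and g : Y' → Y a flat morphism, and let f' : X
×_Y Y' → Y' be the base change of f. Then the scheme-theoretic image of f' is the inverse image
under g of the scheme-theoretic image of f: the quasi-coherent ideal sheaf cutting out the former is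
the pull-back along g of the one cutting out the latter. (One published statement is phrased for a
quasi-compact and quasi-separated S-morphism f and a flat base change S′ → S, which reduces to this
case; quasi-compactness of f suffices.) -/
theorem result {X Y Y' : Scheme.{u}} (f : X ⟶ Y) (g : Y' ⟶ Y)
    [QuasiCompact f] [Flat g] :
    (pullback.snd f g).ker = f.ker.comap g := by
  let j := f.imageι
  have hbot : f.toImage.ker = ⊥ := by
    refine Scheme.IdealSheafData.ext_of_iSup_eq_top
      (fun U : Y.affineOpens => ⟨j ⁻¹ᵁ U.1, U.2.preimage j⟩) ?_ ?_
    · exact (Scheme.Hom.preimage_iSup j _).symm.trans (by rw [iSup_affineOpens_eq_top]; rfl)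
    · intro U
      rw [Scheme.Hom.ker_apply, Scheme.IdealSheafData.ideal_bot, Pi.bot_apply]
      exact (RingHom.injective_iff_ker_eq_bot _).1 (f.toImage_app_injective U)
  haveI : IsSchemeTheoreticallyDominant f.toImage := ⟨hbot⟩
  let t : pullback f g ⟶ pullback j g := pullback.lift (pullback.fst f g ≫ f.toImage)
    (pullback.snd f g) (by rw [Category.assoc, f.toImage_imageι]; exact pullback.condition)
  have sq : IsPullback (pullback.fst f g) t f.toImage (pullback.fst j g) := by
    refine IsPullback.of_bot (v₂₁ := pullback.snd j g) (v₂₂ := j) (h₃₁ := g) ?_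
      (pullback.lift_fst _ _ _).symm (IsPullback.of_hasPullback j g)
    rw [pullback.lift_snd, f.toImage_imageι]
    exact IsPullback.of_hasPullback _ _
  haveI : IsSchemeTheoreticallyDominant t := .of_isPullback sq
  rw [show pullback.snd f g = t ≫ pullback.snd j g from (pullback.lift_snd _ _ _).symm,
    Scheme.Hom.ker_comp, t.ker_eq_bot, Scheme.IdealSheafData.map_bot,
    ← pullbackSymmetry_hom_comp_fst j g, Scheme.Hom.ker_comp, Scheme.Hom.ker_eq_bot_of_isIso,
    Scheme.IdealSheafData.map_bot, Scheme.IdealSheafData.ker_fst_of_isClosedImmersion]
  congr 1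
  exact f.ker.ker_subschemeι

end Groth.Agent.S4667
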