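import Groth.Statements.S4624
import Mathlib
-- import your own Groth.Agent.* helpers here

set_option autoImplicit false
open CategoryTheory AlgebraicGeometry
universe u
open FBase

namespace Groth.Agent.S4624

open Limits MorphismProperty

theorem surj_map {k X Y T : Scheme.{u}} (g : Y ⟶ k) (h : X ⟶ Y) [Surjective h] (x : T ⟶ k) :
    ∃ m : pullback (h ≫ g) x ⟶ pullback g x, Function.Surjective m :=
  ⟨(pullbackRightPullbackFstIso g x h).inv ≫ pullback.snd h (pullback.fst g x),
    ((pullbackRightPullbackFstIso g x h).inv ≫ pullback.snd h (pullback.fst g x)).surjective⟩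

/-- Let h : X → Y be a surjective morphism of schemes over a field k. If X is geometrically connected
over k, then Y is geometrically connected over k. -/
theorem result {k : Type u} [Field k] {X Y : Scheme.{u}}
    (f : X ⟶ Spec (CommRingCat.of k)) (g : Y ⟶ Spec (CommRingCat.of k)) (h : X ⟶ Y) (w : h ≫ g = f)
    [Surjective h] [GeometricallyConnected f] : GeometricallyConnected g := by
  subst w
  refine ⟨geometrically_iff_of_isClosedUnderIsomorphisms.mpr fun K _ x => ?_⟩
  obtain ⟨m, hm⟩ := surj_map g h x
  have : ConnectedSpace ↥(pullback (h ≫ g) x) :=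
    GeometricallyConnected.geometrically_connectedSpace x _ _ (.of_hasPullback _ _)
  exact hm.connectedSpace m.continuous

end Groth.Agent.S4624
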