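import Groth.Statements.S3030
import Groth.Agent.MonoQuotLib.QuotGrp
import Groth.Agent.QuotRepLib.Final
-- import your own Groth.Agent.* helpers here

set_option autoImplicit false
universe u
open CategoryTheory MonoidalCategory CartesianMonoidalCategory MonObj GrpObj AlgebraicGeometry TensorProduct
open SGA3

namespace Groth.Agent.S3030

/-- Let A be a local artinian ring, F and G group schemes flat and locally of finite type over A, and u
: F → G a homomorphism which is a quasi-compact monomorphism with F normal in G. Then there are a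
group scheme Q over A and a homomorphism p : G → Q which is faithfully flat and locally of finite
presentation, with kernel F (the square u, p, unit is cartesian); Q is separated and flat over A,
and smooth over A when G is. -/
theorem result (A : Type u) [CommRing A] [IsArtinianRing A] [IsLocalRing A]
    (F G : Over (Spec (CommRingCat.of A))) [GrpObj F] [GrpObj G] [Flat F.hom] [LocallyOfFiniteType F.hom]
    [Flat G.hom] [LocallyOfFiniteType G.hom] (u : F ⟶ G) [IsMonHom u] [Mono u] [QuasiCompact u.left]
    (hN : AlgGrp.IsNormalHom u) :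
    ∃ (Q : Over (Spec (CommRingCat.of A))) (_ : GrpObj Q) (p : G ⟶ Q), IsMonHom p ∧
      Flat p.left ∧ Surjective p.left ∧ LocallyOfFinitePresentation p.left ∧ AlgGrp.IsKernel u p ∧
      IsSeparated Q.hom ∧ Flat Q.hom ∧ (Smooth G.hom → Smooth Q.hom) := by
  obtain ⟨X, p, h1, h2, h3, sq, h4, h5, h6⟩ := Groth.Agent.QuotRep.exists_quotient_artinian u
  haveI := h1
  haveI := h2
  haveI := h3
  have hiff : ∀ (T : Over (Spec (CommRingCat.of A))) (g g' : T ⟶ G),
      g ≫ p = g' ≫ p ↔ ∃ h : T ⟶ F, g * (h ≫ u) = g' := by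
    intro T g g'
    constructor
    · intro e
      obtain ⟨f, hf⟩ := (Groth.Agent.QuotRep.exists_rel_iff u g' g).mp
        ⟨sq.lift g' g e.symm, sq.lift_fst _ _ _, sq.lift_snd _ _ _⟩
      obtain ⟨n, hn⟩ := hN T g⁻¹ f
      refine ⟨n, ?_⟩
      rw [← hn, ← hf, _root_.inv_inv, ← _root_.mul_assoc g, ← _root_.mul_assoc g, mul_inv_cancel, _root_.one_mul]
    · rintro ⟨f, rfl⟩
      obtain ⟨n, hn⟩ := hN T g f
      obtain ⟨r, hr1, hr2⟩ := (Groth.Agent.QuotRep.exists_rel_iff u (g * (f ≫ u)) g).mpr
        ⟨n, by rw [← hn, inv_mul_cancel_right]⟩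
      rw [← hr1, ← hr2, Category.assoc, Category.assoc, sq.w]
  have hsq := Groth.Agent.MonoQuot.isPullback_cosets u p hiff
  obtain ⟨iQ, hm⟩ := Groth.Agent.MonoQuot.exists_grpObj_quotient (Groth.Agent.MonoQuot.IsCov.of_fppf p.left) hN hsq
  letI := iQ
  exact ⟨X, iQ, p, hm, h1, h2, h3, Groth.Agent.MonoQuot.isKernel_quotient hsq, h4, h5, h6⟩
end Groth.Agent.S3030
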