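import Groth.Statements.S4362
import Mathlib
-- helpers

set_option autoImplicit false
universe u
open FinCond

namespace Groth.Agent.S4362

open AlgebraicGeometry in
open CategoryTheory in
/-- If X is a Noetherian scheme, every increasing sequence of quasi-coherent sheaves of ideals of the
structure sheaf is eventually constant; equivalently the ordered set of quasi-coherent ideal sheaves
of X is well-founded for the reverse order. (On a locally Noetherian scheme quasi-coherent and
coherent ideal sheaves coincide.) -/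
theorem result
    (X : Scheme.{u}) [IsNoetherian X] : WellFoundedGT X.IdealSheafData := by
  obtain ⟨t, ht⟩ := isCompact_univ.elim_finite_subcover (fun U : X.affineOpens => (U.1 : Set X))
    (fun U => U.1.isOpen) (fun x _ => by
      obtain ⟨U, hU, hx, -⟩ := exists_isAffineOpen_mem_and_subset (U := ⊤) (x := x) trivial
      exact Set.mem_iUnion.mpr ⟨⟨U, hU⟩, hx⟩)
  haveI : ∀ U : t, IsNoetherianRing Γ(X, U.1.1) := fun U => IsLocallyNoetherian.component_noetherian U.1
  let φ : X.IdealSheafData → ((U : t) → Ideal Γ(X, U.1.1)) := fun I U => I.ideal U.1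
  have hcov : ⨆ U : t, U.1.1 = (⊤ : X.Opens) := top_le_iff.mp fun x _ => by
    obtain ⟨U, hU, hx⟩ := Set.mem_iUnion₂.mp (ht (Set.mem_univ x))
    exact TopologicalSpace.Opens.mem_iSup.mpr ⟨⟨U, hU⟩, hx⟩
  have hle : ∀ I J : X.IdealSheafData, φ I ≤ φ J → I ≤ J := fun I J h =>
    Scheme.IdealSheafData.le_of_iSup_eq_top (fun U : t => U.1) hcov h
  have hφ : StrictMono φ := fun I J h =>
    lt_of_le_not_ge (fun U => h.le U.1) fun h' => h.not_ge (hle J I h')
  haveI : IsNoetherianRing ((U : t) → Γ(X, U.1.1)) := inferInstance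
  haveI : ∀ U : t, WellFoundedGT (Ideal Γ(X, U.1.1)) := fun U => inferInstance
  haveI : WellFoundedGT ((U : t) → Ideal Γ(X, U.1.1)) :=
    ⟨(Pi.wellFoundedLT (α := fun U : t => (Ideal Γ(X, U.1.1))ᵒᵈ)).wf⟩
  exact hφ.wellFoundedGT

end Groth.Agent.S4362
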