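import Groth.Statements.S14582
import Groth.Agent.AntiAffLib.Image
import Groth.Agent.AntiAffLib.KerSub
import Groth.Agent.AntiAffLib.RigidGrp
import Groth.Agent.AntiAffLib.Smooth
import Groth.Agent.AlgSpLib.ReducedSmooth
import Groth.Agent.S3030
-- import your own Groth.Agent.* helpers here

set_option autoImplicit false
universe u
open CategoryTheory MonoidalCategory CartesianMonoidalCategory MonObj GrpObj AlgebraicGeometry CategoryTheory.Limits
open AlgGrp AntiAffLib
set_option backward.isDefEq.respectTransparency false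
set_option linter.style.haveILetI false
set_option maxHeartbeats 1600000

namespace Groth.Agent.S14582

/-- Let k be a field and G a smooth connected k-group scheme of finite type. Let i : N → G be a closed
normal subgroup scheme which is affine and is the kernel of a flat surjective homomorphism q : G → A
of k-group schemes of finite type with A proper, and let j : M → G be the largest anti-affine
subgroup scheme of G (a closed subgroup scheme of finite type whose only global functions are the
constants, through which every other such subgroup scheme factors). Then G = N · M, in the sense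
that the multiplication morphism N × M → G is surjective, and M is the smallest closed subgroup
scheme H of G with G = H · N: whenever the multiplication H × N → G is surjective, M factors through
H. -/
theorem result (k : Type u) [Field k]
    (G : Over (Spec (CommRingCat.of k))) [GrpObj G] [Smooth G.hom] [QuasiCompact G.hom] [ConnectedSpace ↥G.left]
    (N : Over (Spec (CommRingCat.of k))) [GrpObj N] (i : N ⟶ G) [IsMonHom i] [IsClosedImmersion i.left] [IsAffine N.left]
    (hN : AlgGrp.IsNormalHom i)
    (A : Over (Spec (CommRingCat.of k))) [GrpObj A] [IsProper A.hom]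
    (q : G ⟶ A) [IsMonHom q] [Surjective q.left] [Flat q.left] (hq : AlgGrp.IsKernel i q)
    (M : Over (Spec (CommRingCat.of k))) [GrpObj M] [LocallyOfFiniteType M.hom] [QuasiCompact M.hom] (j : M ⟶ G) [IsMonHom j] [IsClosedImmersion j.left]
    (hM : Function.Bijective ((Scheme.ΓSpecIso (CommRingCat.of k)).inv ≫ M.hom.appTop).hom)
    (hMmax : ∀ (M' : Over (Spec (CommRingCat.of k))) [GrpObj M'] [LocallyOfFiniteType M'.hom] [QuasiCompact M'.hom] (j' : M' ⟶ G) [IsMonHom j'] [IsClosedImmersion j'.left],
      Function.Bijective ((Scheme.ΓSpecIso (CommRingCat.of k)).inv ≫ M'.hom.appTop).hom → ∃ g : M' ⟶ M, g ≫ j = j') :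
    Surjective ((i ⊗ₘ j) ≫ μ[G]).left ∧
      ∀ (H : Over (Spec (CommRingCat.of k))) [GrpObj H] (h : H ⟶ G) [IsMonHom h] [IsClosedImmersion h.left],
        Surjective ((h ⊗ₘ i) ≫ μ[G]).left → ∃ g : M ⟶ H, g ≫ h = j := by
  haveI : IsΓIso (toUnit M) := (bijective_iff M).1 hM
  haveI : IsReduced G.left := AlgSpLib.isReduced_of_smooth G.hom
  haveI : IsReduced A.left := AlgSpLib.isReduced_of_flat_surjective q.left
  haveI : ConnectedSpace A.left := Function.Surjective.connectedSpace q.left.surjective q.left.continuous
  haveI : IsΓIso (toUnit A) := antiAff_of_universallyClosed A η[A]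
  -- subgroups mapping onto `A` have affinization kernels mapping onto `A`
  have honto : ∀ (H : Over (Spec (CommRingCat.of k))) [GrpObj H] [LocallyOfFiniteType H.hom] [QuasiCompact H.hom]
      (f : H ⟶ A) [IsMonHom f] [Surjective f.left], Surjective (kerIncl H ≫ f).left := by
    intro H _ _ _ f _ _
    haveI := flat_of_surjective f
    obtain ⟨K, _, κ, _, _, hK, hKn⟩ := exists_kernel f
    have := range_subset_ker κ hKn f hK (𝟙 A) (Category.comp_id _)
    exact ⟨fun a => this ⟨a, rfl⟩⟩
  refine ⟨?_, fun H _ h _ _ hHN => ?_⟩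
  · obtain ⟨g, hg⟩ := hMmax (ker G) (kerIncl G) ((bijective_iff _).2 inferInstance)
    haveI : Surjective (j ≫ q).left := by
      haveI := honto G q
      refine ⟨fun a => ?_⟩
      obtain ⟨x, hx⟩ := (kerIncl G ≫ q).left.surjective a
      refine ⟨g.left x, ?_⟩
      rw [← hx, ← hg]
      rfl
    haveI := surjective_fst q (j ≫ q)
    let g₀ : pullback q (j ≫ q) ⟶ G := pullback.fst _ _
    let m : pullback q (j ≫ q) ⟶ M := pullback.snd _ _
    have e : (g₀ * (m ≫ j)⁻¹) ≫ q = toUnit _ ≫ η[A] := by
      rw [MonObj.mul_comp, GrpObj.inv_comp, Category.assoc m, pullback.condition, mul_inv_cancel, Hom.one_def]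
    have e' : lift (hq.lift _ (toUnit _) e) m ≫ (i ⊗ₘ j) ≫ μ[G] = g₀ := by
      rw [← Category.assoc, lift_map, ← Hom.mul_def, hq.lift_fst, inv_mul_cancel_right]
    refine ⟨fun x => ?_⟩
    obtain ⟨y, rfl⟩ := g₀.left.surjective x
    exact ⟨(lift (hq.lift _ (toUnit _) e) m).left y, congr($(e').left y)⟩
  · haveI : Flat N.hom := Groth.Agent.GrpField.flat_field _
    haveI : LocallyOfFiniteType H.hom := by rw [← Over.w h]; infer_instance
    haveI : QuasiCompact H.hom := by rw [← Over.w h]; infer_instance
    have hiq : i ≫ q = 1 := by rw [hq.w, Hom.one_def]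
    haveI : Surjective (h ≫ q).left := by
      have e : ((h ⊗ₘ i) ≫ μ[G]) ≫ q = fst H N ≫ h ≫ q := by
        rw [show (h ⊗ₘ i) ≫ μ[G] = (fst H N ≫ h) * (snd H N ≫ i) by
          rw [Hom.mul_def, ← lift_map, lift_fst_snd, Category.id_comp],
          MonObj.mul_comp, Category.assoc, Category.assoc, hiq, MonObj.comp_one, _root_.mul_one]
      refine ⟨fun a => ?_⟩
      obtain ⟨x, rfl⟩ := q.left.surjective a
      obtain ⟨y, rfl⟩ := hHN.surj x
      exact ⟨(fst H N).left y, congr($(e.symm).left y)⟩
    haveI := honto H (h ≫ q)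
    obtain ⟨g₀, hg₀⟩ := exists_lift_ker (kerIncl H ≫ h) (IsMonHom.one_hom _)
    obtain ⟨g₁, hg₁⟩ := hMmax (ker G) (kerIncl G) ((bijective_iff _).2 inferInstance)
    let u : ker H ⟶ M := g₀ ≫ g₁
    have hu : u ≫ j = kerIncl H ≫ h := by rw [Category.assoc, hg₁, hg₀]
    haveI : Mono j := Over.mono_of_mono_left j
    haveI : IsMonHom u :=
      { one_hom := by rw [← cancel_mono j, Category.assoc, hu, IsMonHom.one_hom, IsMonHom.one_hom]
        mul_hom := by
          rw [← cancel_mono j, Category.assoc, hu, IsMonHom.mul_hom, Category.assoc, IsMonHom.mul_hom j,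
            tensorHom_comp_tensorHom_assoc, hu] }
    haveI : IsClosedImmersion u.left := by
      haveI : IsClosedImmersion (u.left ≫ j.left) := by
        rw [← Over.comp_left, hu, Over.comp_left]; infer_instance
      exact IsClosedImmersion.of_comp u.left j.left
    haveI : Mono u := Over.mono_of_mono_left u
    haveI := isCommMonObj_of_antiAff M
    have hun : AlgGrp.IsNormalHom u := fun T g n => ⟨n, by rw [mul_comm g, mul_inv_cancel_right]⟩
    haveI : Smooth M.hom := smooth_of_antiAff M
    haveI : Flat (ker H).hom := Groth.Agent.GrpField.flat_field _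
    haveI : Flat M.hom := Groth.Agent.GrpField.flat_field _
    obtain ⟨Q, _, p, _, _, _, _, hp, _, _, hQs⟩ := Groth.Agent.S3030.result k (ker H) M u hun
    haveI := hQs ‹_›
    haveI : IsReduced Q.left := AlgSpLib.isReduced_of_smooth Q.hom
    haveI : IsΓIso (toUnit Q) := antiAff_of_fppf p η[M]
    obtain ⟨K, _, κ, _, _, hK, -⟩ := exists_kernel (j ≫ q)
    haveI : IsAffine K.left := by
      have e : (κ ≫ j) ≫ q = toUnit K ≫ η[A] := by rw [Category.assoc, hK.w]
      haveI : IsClosedImmersion (hq.lift (κ ≫ j) (toUnit K) e).left := by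
        haveI : IsClosedImmersion ((hq.lift (κ ≫ j) (toUnit K) e).left ≫ i.left) := by
          rw [← Over.comp_left, hq.lift_fst, Over.comp_left]; infer_instance
        exact IsClosedImmersion.of_comp _ i.left
      exact isAffine_of_isAffineHom (hq.lift (κ ≫ j) (toUnit K) e).left
    haveI : LocallyOfFiniteType K.hom := by rw [← Over.w κ]; infer_instance
    haveI : QuasiCompact K.hom := by rw [← Over.w κ]; infer_instance
    haveI : Surjective (κ ≫ p).left := by
      haveI : Surjective (u ≫ j ≫ q).left := by rw [reassoc_of% hu]; infer_instance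
      haveI := surjective_fst (j ≫ q) (u ≫ j ≫ q)
      let t : pullback (j ≫ q) (u ≫ j ≫ q) ⟶ M := pullback.fst _ _
      let s : pullback (j ≫ q) (u ≫ j ≫ q) ⟶ ker H := pullback.snd _ _
      have e : (t * (s ≫ u)⁻¹) ≫ j ≫ q = toUnit _ ≫ η[A] := by
        rw [MonObj.mul_comp, GrpObj.inv_comp, Category.assoc s, pullback.condition, mul_inv_cancel, Hom.one_def]
      have hup : u ≫ p = 1 := by rw [hp.w, Hom.one_def]
      have e' : hK.lift _ (toUnit _) e ≫ κ ≫ p = t ≫ p := by
        erw [hK.lift_fst_assoc]
        rw [MonObj.mul_comp, GrpObj.inv_comp, Category.assoc s, hup,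
          MonObj.comp_one, inv_one, _root_.mul_one]
      refine ⟨fun z => ?_⟩
      obtain ⟨m, rfl⟩ := p.left.surjective z
      obtain ⟨y, rfl⟩ := t.left.surjective m
      exact ⟨(hK.lift _ (toUnit _) e).left y, congr($(e').left y)⟩
    haveI := flat_of_surjective (κ ≫ p)
    haveI : IsAffine Q.left := isAffine_of_surjective_hom (κ ≫ p)
    have hp1 : p = 1 := comp_eq_one p (IsMonHom.one_hom p)
    refine ⟨hp.lift (𝟙 M) (toUnit M) (by rw [Category.id_comp, hp1, Hom.one_def]) ≫ kerIncl H, ?_⟩
    rw [Category.assoc, ← hu, ← Category.assoc, hp.lift_fst, Category.id_comp]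
end Groth.Agent.S14582
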