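import Groth.Statements.S7596
import Mathlib
import Groth.Agent.GeomIrrLib.Basic

set_option autoImplicit false
universe u
open CategoryTheory CategoryTheory.Limits AlgebraicGeometry
open Variety

namespace Groth.Agent.S7596

open CategoryTheory CategoryTheory.Limits AlgebraicGeometry

theorem subsingleton_preimage {k : Type u} [Field k] {X : Scheme.{u}} (f : X ⟶ Spec (CommRingCat.of k))
    (κ : Type u) [Field κ] [Algebra k κ] (hs : Function.Surjective (algebraMap k κ))
    (ι : Spec (CommRingCat.of κ) ⟶ X) (hι : Spec.map (CommRingCat.ofHom (algebraMap k κ)) = ι ≫ f)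
    (K : Type u) [Field K] [Algebra k K] : ((ConnBC.pr f K) ⁻¹' Set.range ι).Subsingleton := by
  let e : k ≃ₐ[k] κ := AlgEquiv.ofBijective (Algebra.ofId k κ) ⟨(algebraMap k κ).injective, hs⟩
  rw [← GeomIrrLib.range_chart_eq f K κ ι hι]
  let e' : TensorProduct k κ K ≃ₐ[k] K :=
    (Algebra.TensorProduct.congr e.symm AlgEquiv.refl).trans (Algebra.TensorProduct.lid k K)
  haveI : Subsingleton (PrimeSpectrum (TensorProduct k κ K)) :=
    (PrimeSpectrum.homeomorphOfRingEquiv e'.toRingEquiv).injective.subsingleton
  rintro _ ⟨a, rfl⟩ _ ⟨b, rfl⟩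
  exact congrArg _ (Subsingleton.elim (α := PrimeSpectrum (TensorProduct k κ K)) a b)

/-- Let X be an irreducible scheme over a field k whose k-rational points (points x at which k → κ(x) is
onto) form a dense subset. Then X is geometrically irreducible over k. -/
theorem result (k : Type u) [Field k] (X : Scheme.{u}) [X.Over (Spec (CommRingCat.of k))] [IrreducibleSpace ↥X]
    (hd : Dense {x : ↥X | Function.Surjective (Curv2.resMap k X x)}) :
    GeometricallyIrreducible (X ↘ (Spec (CommRingCat.of k))) := by
  refine GeomIrrLib.gi_of_dense (X ↘ Spec (CommRingCat.of k)) _ hd fun x hx K _ _ => ?_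
  letI := (Curv2.resMap k X x).toAlgebra
  rw [show ({x} : Set X) = Set.range (X.fromSpecResidueField x) from (Scheme.range_fromSpecResidueField ..).symm]
  exact subsingleton_preimage _ (X.residueField x) hx (X.fromSpecResidueField x) (GeomIrrLib.specMap_resMap x) K

end Groth.Agent.S7596
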