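import Groth.Statements.S1170
import Groth.Agent.HilbPtsLib.Smooth
import Groth.Agent.FibDimLib.Smooth
import Groth.Agent.SmoothDimLib.Chart
import Groth.Agent.CurveAmpLib.FiniteSet

set_option autoImplicit false
open CategoryTheory CategoryTheory.Limits AlgebraicGeometry
universe u
open HilbD

namespace Groth.Agent.S1170

theorem smoothOfRelativeDimension_one (k : Type u) [Field k] {X : Scheme.{u}} (f : X ⟶ Spec (CommRingCat.of k))
    [Smooth f] [IsIntegral X] (hdim : topologicalKrullDim X = 1) : SmoothOfRelativeDimension 1 f := by
  refine ⟨fun x => ?_⟩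
  obtain ⟨U, hU, V, hV, hx, e, h⟩ := Smooth.exists_isStandardSmooth f x
  have h' := h
  unfold RingHom.IsStandardSmooth at h'
  letI := (f.appLE U V e).hom.toAlgebra
  obtain ⟨ι, σ, hσ, hι, ⟨P⟩⟩ := h'.out
  haveI := hσ
  haveI := hι
  have h2 : (f.appLE U V e).hom.IsStandardSmoothOfRelativeDimension P.dimension :=
    Algebra.SubmersivePresentation.isStandardSmoothOfRelativeDimension P rfl
  obtain ⟨g, hg, het⟩ := h2.exists_etale_mvPolynomial
  have h3 := FibDimLib.fibreDimAt_chart f hU hV e g hg het x hx
  rw [SmoothDimLib.fibreDimAt_eq_localDim, FibDimLib.localDim_of_irreducible f x, hdim] at h3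
  have h4 : P.dimension = 1 := by exact_mod_cast h3.symm
  exact ⟨U, hU, V, hV, hx, e, h4 ▸ h2⟩

/-- Let X be a smooth proper curve over a field k which stays irreducible after every extension of the
base field. Then for every d the degree-d Hilbert functor of points of X over k is represented by a
scheme which is proper and smooth over k. The published statement has projective in place of proper
(the two agree for curves over a field) and also asserts that the representing scheme is irreducible
of dimension d, which is not asserted here. -/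
theorem result (k : Type u) [Field k] (X : Scheme.{u}) (f : X ⟶ Spec (CommRingCat.of k))
    (hX : Curve.IsSmoothProperCurve k X f) [GeometricallyIrreducible f] (d : ℕ) :
    ∃ (H : Over (Spec (CommRingCat.of k))) (Z : HilbD.Obj f d H), HilbD.IsUniversal f d H Z ∧ IsProper H.hom ∧ Smooth H.hom := by
  obtain ⟨hp, hs, hint, hdim⟩ := hX
  haveI := hp
  haveI := hs
  haveI := hint
  haveI := smoothOfRelativeDimension_one k f hdim
  haveI : CompactSpace X := QuasiCompact.compactSpace_of_compactSpace f
  haveI : IsLocallyNoetherian X := LocallyOfFiniteType.isLocallyNoetherian f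
  haveI : AlgebraicGeometry.IsNoetherian X := ⟨⟩
  haveI : X.IsSeparated := ⟨by
    rw [Subsingleton.elim (Limits.terminal.from X) (f ≫ Limits.terminal.from _)]
    infer_instance⟩
  have hrep : ∀ e : ℕ, HilbD.Representable f e := fun e => HilbPts.representable fun s x _ => by
    obtain ⟨U, hU, hT⟩ := CurveAmpLib.exists_affine_of_finite hdim.le (Set.range x) (Set.finite_range x)
    exact ⟨U, hU, fun i => hT ⟨i, rfl⟩⟩
  obtain ⟨H, Z, hZ⟩ := hrep d
  exact ⟨H, Z, hZ, HilbPts.SC.isProper_hom f hrep d H Z hZ, HilbPts.SC.smooth_hom f hrep d H Z hZ⟩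

end Groth.Agent.S1170
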