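import Groth.Statements.S6487
import Groth.Agent.CurveBCLib.Twist
import Groth.Agent.CurveAmpLib.Main
import Groth.Agent.AmpleDevLib.Pull
import Groth.Agent.SerreVanLib.Main

set_option autoImplicit false
universe u
open CategoryTheory CategoryTheory.Limits AlgebraicGeometry
open PicF

namespace Groth.Agent.S6487

open KFlatLib (pb)

theorem descend {k : Type u} [Field k] [IsSepClosed k] {X : Scheme.{u}} [X.Over (Spec (CommRingCat.of k))]
    [IsProper (X ↘ Spec (CommRingCat.of k))] [Smooth (X ↘ Spec (CommRingCat.of k))] [IsIntegral X]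
    {K : Type u} [Field K] [Algebra k K] {XK : Scheme.{u}} [XK.Over (Spec (CommRingCat.of K))]
    [IsProper (XK ↘ Spec (CommRingCat.of K))] [IsIntegral XK] {g : XK ⟶ X}
    (hpb : IsPullback g (XK ↘ Spec (CommRingCat.of K)) (X ↘ Spec (CommRingCat.of k))
      (Spec.map (CommRingCat.ofHom (algebraMap k K))))
    (hdim : topologicalKrullDim X = 1) (hdimK : topologicalKrullDim XK = 1) {L : XK.Modules}
    (hL : PicF.IsInvertible L) : ∀ (n : ℕ) (A : X.Modules), PicF.IsInvertible A →
      Module.finrank K (Coh.HH XK (CohB1.tensorMod L (pb g A)) 0) = n + 1 →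
      Module.finrank K (Coh.HH XK (CohB1.tensorMod L (pb g A)) 1) = 0 →
      ∃ B : X.Modules, PicF.IsInvertible B ∧ Module.finrank K (Coh.HH XK (CohB1.tensorMod L (pb g B)) 0) = 1 ∧
        Module.finrank K (Coh.HH XK (CohB1.tensorMod L (pb g B)) 1) = 0
  | 0, A, hA, h0, h1 => ⟨A, hA, h0, h1⟩
  | n + 1, A, hA, h0, h1 => by
    obtain ⟨N, hN, hN0, hN1⟩ := CurveBCLib.exists_step hpb hdim hdimK
      (HilbPolyLib.isInvertible_tensor hL (AmpleDevLib.isInvertible_pb g hA)) (by omega) h1
    let e : CohB1.tensorMod (CohB1.tensorMod L (pb g A)) (pb g N) ≅ CohB1.tensorMod L (pb g (CohB1.tensorMod A N)) :=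
      HilbPolyLib.assocIso L (pb g A) (pb g N) ≪≫ HilbPolyLib.congrRight L (asIso (KFlatLib.pullθ g A N)).symm
    rw [(CurvLib.hIso (k := K) e 0).finrank_eq] at hN0
    rw [(CurvLib.hIso (k := K) e 1).finrank_eq] at hN1
    exact descend hpb hdim hdimK hL n _ (HilbPolyLib.isInvertible_tensor hA hN) (by omega) hN1

/-- Let k be a separably closed field, X a smooth projective curve over k, K/k a field extension and L
an invertible sheaf on X_K. Then there is an invertible sheaf L_0 on X with dim_K H^0(X_K, L ⊗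
L_0|_{X_K}) = 1 and H^1(X_K, L ⊗ L_0|_{X_K}) = 0. The base change X_K is given as any pullback
square over Spec K → Spec k with its K-structure; L_0|_{X_K} is the pullback module and ⊗ is
CohB1.tensorMod; proper replaces projective (equivalent for curves over a field). -/
theorem result (k : Type u) [Field k] [IsSepClosed k] (X : Scheme.{u}) [X.Over (Spec (CommRingCat.of k))] (hX : Curve.IsSmoothProperCurve k X (X ↘ Spec (CommRingCat.of k))) (K : Type u) [Field K] [Algebra k K] (XK : Scheme.{u}) [XK.Over (Spec (CommRingCat.of K))] (g : XK ⟶ X) (hpb : IsPullback g (XK ↘ Spec (CommRingCat.of K)) (X ↘ Spec (CommRingCat.of k)) (Spec.map (CommRingCat.ofHom (algebraMap k K)))) (L : XK.Modules) (hL : PicF.IsInvertible L) : ∃ L₀ : X.Modules, PicF.IsInvertible L₀ ∧ Module.finrank K (Coh.HH XK (CohB1.tensorMod L ((Scheme.Modules.pullback g).obj L₀)) 0) = 1 ∧ Subsingleton (Coh.HH XK (CohB1.tensorMod L ((Scheme.Modules.pullback g).obj L₀)) 1) := by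
  obtain ⟨hP, hS, hI, hdim⟩ := hX
  haveI := hP; haveI := hS; haveI := hI
  haveI : IsProper (XK ↘ Spec (CommRingCat.of K)) := MorphismProperty.of_isPullback hpb inferInstance
  haveI : IsAffineHom g := MorphismProperty.of_isPullback hpb.flip inferInstance
  haveI := CurveBCLib.geometricallyIntegral_of_sepClosed (k := k) (X := X)
  haveI := CurveBCLib.isIntegral_sq hpb
  have hdimK : topologicalKrullDim XK = 1 := (CurveBCLib.dim_sq hpb).trans hdim
  haveI := CurvLib.isNoetherian k (X := X)
  haveI : X.IsSeparated := ⟨by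
    rw [show terminal.from X = (X ↘ Spec (CommRingCat.of k)) ≫ terminal.from _ from Subsingleton.elim _ _]
    infer_instance⟩
  obtain ⟨A, hA⟩ := CurveAmpLib.exists_ample (X := X) hdim.le
  have hAi : PicF.IsInvertible A := hA.1
  obtain ⟨n₀, hn₀⟩ := SerreVanLib.exists_vanishing (XK ↘ Spec (CommRingCat.of K))
    (AmpleDevLib.isInvertible_pb g hAi) (AmpleDevLib.isAmple_pb g hAi hA) L (CurvLib.isCoh_of_isInvertible hL)
  let c : ℤ := Curv2.euler K XK L
  let n : ℕ := max n₀ ((1 - c).toNat)
  have hd : 0 < Curv2.deg k X A 1 := SerreVanLib.deg_pos_of_isAmple hdim hA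
  have hP' : PicF.IsInvertible (CohB1.tensorPow A n) := AmpleThLib.tensorPow_isInvertible hAi n
  obtain ⟨φ, -⟩ := AmpleDevLib.exists_pullPowIso g hAi n
  have hT := hn₀ n (le_max_left _ _) 1 one_pos
  let e : CohB1.tensorMod L (pb g (CohB1.tensorPow A n)) ≅ CohB1.tensorMod L (CohB1.tensorPow (pb g A) n) :=
    HilbPolyLib.congrRight L φ
  have h1 : Module.finrank K (Coh.HH XK (CohB1.tensorMod L (pb g (CohB1.tensorPow A n))) 1) = 0 := by
    rw [(CurvLib.hIso (k := K) e 1).finrank_eq]
    exact Module.finrank_zero_of_subsingleton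
  have hdeg := GenusZeroLib.deg_tensor K hdimK hL (AmpleDevLib.isInvertible_pb g hP')
  rw [CurveBCLib.deg_sq hpb hP'] at hdeg
  have hpow := SerreVanLib.deg_pow (k := k) hdim hAi n
  have hn : 1 - c ≤ (n : ℤ) := (Int.self_le_toNat _).trans (by exact_mod_cast le_max_right _ _)
  have hnd : (n : ℤ) ≤ (n : ℤ) * Curv2.deg k X A 1 := le_mul_of_one_le_right (Int.natCast_nonneg n) (by omega)
  have he := CurvLib.euler_curve (k := K) hdimK (CohB1.tensorMod L (pb g (CohB1.tensorPow A n)))
  have key : (1 : ℤ) ≤ Curv2.euler K XK (CohB1.tensorMod L (pb g (CohB1.tensorPow A n))) := by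
    simp only [Curv2.deg] at hdeg hpow hnd
    push_cast at hdeg hpow hnd
    omega
  obtain ⟨B, hB, hB0, hB1⟩ := descend hpb hdim hdimK hL
    (Module.finrank K (Coh.HH XK (CohB1.tensorMod L (pb g (CohB1.tensorPow A n))) 0) - 1) _ hP' (by omega) h1
  refine ⟨B, hB, hB0, ?_⟩
  haveI := CurvLib.finite_HH (k := K) (CurvLib.isCoh_of_isInvertible
    (HilbPolyLib.isInvertible_tensor hL (AmpleDevLib.isInvertible_pb g hB))) 1
  exact Module.finrank_zero_iff.1 hB1

end Groth.Agent.S6487
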