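import Groth.Statements.S9922
import Groth.Agent.AlgSpLib.Qc

set_option autoImplicit false
universe u
open CategoryTheory CategoryTheory.Limits AlgebraicGeometry
open AlgSp

namespace Groth.Agent.S9922

/-- For a morphism of algebraic spaces representable by schemes, representable universal closedness is
equivalent to closedness of |Z x_Y X| -> |Z| for every base change along a morphism of algebraic
spaces. -/
theorem result {S : Scheme.{u}} {X Y : AlgSp.Space S} (f : X ⟶ Y)
    (hf : AlgSp.Representable f.hom) :
    AlgSp.RepWith @UniversallyClosed f.hom ↔ AlgSp.IsUnivClosedMor f.hom := by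
  rw [show (@UniversallyClosed : MorphismProperty Scheme.{u}) = (topologically @IsClosedMap).universally from
    universallyClosed_eq]
  exact AlgSpLib.repWith_universally_iff (Q' := topologically @IsClosedMap) AlgSpLib.descends_isClosedMor
    (fun φ => AlgSpLib.isClosedMap_map_yon_iff φ)
    (fun e _ p (h : IsClosedMap (AlgSp.Points.map p)) => by
      show IsClosedMap (AlgSp.Points.map (e ≫ p))
      rw [funext (AlgSp.Points.map_comp e p)]
      exact h.comp (AlgSpLib.isHomeomorph_map_of_isIso e).isClosedMap) hf

end Groth.Agent.S9922
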