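import Groth.Statements.S1568
import Groth.Agent.AssPointLib.Basic
import Mathlib.RingTheory.Ideal.KrullsHeightTheorem

set_option autoImplicit false
universe u
open CategoryTheory CategoryTheory.Limits AlgebraicGeometry
open Divisors

namespace Groth.Agent.S1568

/-- Let X be locally Noetherian and D an effective Cartier divisor. At a point ξ of D that is maximal in
D under generisation (a generic point of a component of D), the local ring of X has dimension
exactly one. -/
theorem result (X : Scheme.{u}) [IsLocallyNoetherian X]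
    (D : X.IdealSheafData) (hD : BlowUp.IsEffCartierIdeal D) (ξ : X)
    (hξ : ξ ∈ (D.support : Set X)) (hgen : ∀ y ∈ (D.support : Set X), y ⤳ ξ → y = ξ) :
    ringKrullDim (X.presheaf.stalk ξ) = 1 := by
  obtain ⟨⟨U, hU⟩, hξU, f, hf, hI⟩ := hD ξ
  replace hU : IsAffineOpen U := hU
  haveI : IsNoetherianRing Γ(X, U) := IsLocallyNoetherian.component_noetherian ⟨U, hU⟩
  have hiff : ∀ (y : X) (hy : y ∈ U), y ∈ (D.support : Set X) ↔ f ∈ (hU.primeIdealOf ⟨y, hy⟩).asIdeal := by
    intro y hy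
    refine (D.mem_support_iff_of_mem (U := ⟨U, hU⟩) hy).trans ?_
    rw [Scheme.mem_zeroLocus_iff, hI]
    refine ⟨fun h => not_not.mp fun hn =>
      h f (Ideal.mem_span_singleton_self f) ((AssPointLib.mem_basicOpen_iff hU hy f).mpr hn),
      fun h g hg hb => (AssPointLib.mem_basicOpen_iff hU hy g).mp hb
        (Ideal.span_le.mpr (Set.singleton_subset_iff.mpr h) hg)⟩
  let p := (hU.primeIdealOf ⟨ξ, hξU⟩).asIdeal
  have hfp : f ∈ p := (hiff ξ hξU).mp hξ
  have hmin : p ∈ (Ideal.span {f}).minimalPrimes := by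
    refine ⟨⟨(hU.primeIdealOf ⟨ξ, hξU⟩).isPrime, Ideal.span_le.mpr (Set.singleton_subset_iff.mpr hfp)⟩,
      fun q hq hle => ?_⟩
    let q' : PrimeSpectrum Γ(X, U) := ⟨q, hq.1⟩
    let y := hU.fromSpec q'
    have hyU : y ∈ U := hU.range_fromSpec.le ⟨q', rfl⟩
    have hy : hU.primeIdealOf ⟨y, hyU⟩ = q' :=
      hU.fromSpec.isOpenEmbedding.injective (hU.fromSpec_primeIdealOf ⟨y, hyU⟩)
    have hsp : y ⤳ ξ := by
      have h := ((PrimeSpectrum.le_iff_specializes q' (hU.primeIdealOf ⟨ξ, hξU⟩)).mp hle).map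
        hU.fromSpec.continuous
      exact h.trans (specializes_of_eq (hU.fromSpec_primeIdealOf ⟨ξ, hξU⟩))
    have he := hgen y ((hiff y hyU).mpr (by rw [hy]; exact hq.2 (Ideal.mem_span_singleton_self f))) hsp
    have h2 : q' = hU.primeIdealOf ⟨ξ, hξU⟩ := hU.fromSpec.isOpenEmbedding.injective
      (he.trans (hU.fromSpec_primeIdealOf ⟨ξ, hξU⟩).symm)
    exact (congrArg PrimeSpectrum.asIdeal h2).ge
  haveI : p.IsPrime := (hU.primeIdealOf ⟨ξ, hξU⟩).isPrime
  letI := X.presheaf.algebra_section_stalk (⟨ξ, hξU⟩ : U)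
  haveI : IsLocalization.AtPrime (X.presheaf.stalk ξ) p := hU.isLocalization_stalk ⟨ξ, hξU⟩
  rw [IsLocalization.AtPrime.ringKrullDim_eq_height p (X.presheaf.stalk ξ)]
  haveI : (Ideal.span {f}).IsPrincipal := ⟨⟨f, rfl⟩⟩
  have h1 : p.height ≤ 1 := Ideal.height_le_one_of_isPrincipal_of_mem_minimalPrimes _ p hmin
  have h0 : p.height ≠ 0 := fun h =>
    Set.disjoint_left.mp (Ideal.disjoint_nonZeroDivisors_of_mem_minimalPrimes (Ideal.height_eq_zero_iff.mp h)) hfp hf
  rw [le_antisymm h1 (Order.one_le_iff_pos.mpr (pos_iff_ne_zero.mpr h0))]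
  rfl

end Groth.Agent.S1568
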