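import Groth.Statements.S1684
import Groth.Agent.SDivLib.Divisor
import Groth.Agent.EffCartLib.Basic

set_option autoImplicit false
universe u
open CategoryTheory CategoryTheory.Limits AlgebraicGeometry TopologicalSpace
open SDiv

namespace Groth.Agent.S1684

/-- Let X be a locally Noetherian scheme and 𝓘 a quasi-coherent ideal sheaf whose closed subscheme D is
integral, of codimension 1 in X (the local ring of X at the generic point of D has dimension 1), and
such that the local ring of X at every point of D is a unique factorisation domain. Then 𝓘 is the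
ideal sheaf of an effective Cartier divisor. -/
theorem result (X : Scheme.{u}) [IsLocallyNoetherian X] (𝓘 : X.IdealSheafData)
    [IsIntegral 𝓘.subscheme]
    (hcodim : ringKrullDim (X.presheaf.stalk (𝓘.subschemeι (genericPoint ↥𝓘.subscheme))) = 1)
    (hufd : ∀ x : ↥X, x ∈ 𝓘.support → IsDomain (X.presheaf.stalk x) ∧ UniqueFactorizationMonoid (X.presheaf.stalk x)) :
    BlowUp.IsEffCartierIdeal 𝓘 := by
  have : IsIntegral 𝓘.subscheme := inferInstance
  refine EffCartLib.isEffCartier_of_stalk 𝓘 fun x hx U hxU => ?_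
  obtain ⟨hdom, hufd'⟩ := hufd x hx
  have hP := SDivLib.stalkIdeal_isPrime hx
  rw [← SDivLib.stalkIdeal_eq 𝓘 U hxU]
  set P := IntMult.stalkIdeal 𝓘 x with hPdef
  let z := 𝓘.subschemeι (genericPoint ↥𝓘.subscheme)
  obtain ⟨y, hy⟩ : x ∈ Set.range 𝓘.subschemeι := by rw [Scheme.IdealSheafData.range_subschemeι]; exact hx
  have hzx : z ⤳ x := hy ▸ (genericPoint_specializes y).map 𝓘.subschemeι.continuous
  have hzU : z ∈ U.1 := hzx.mem_open U.1.2 hxU
  have hzI : z ∈ 𝓘.support := by
    rw [← SetLike.mem_coe, ← Scheme.IdealSheafData.range_subschemeι]; exact ⟨_, rfl⟩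
  letI := X.presheaf.algebra_section_stalk (⟨x, hxU⟩ : U.1)
  haveI : IsLocalization.AtPrime (X.presheaf.stalk x) (SDivLib.prm U hxU) := U.2.isLocalization_stalk ⟨x, hxU⟩
  have hIp := SDivLib.ideal_isPrime U hxU hx
  have hle : 𝓘.ideal U ≤ SDivLib.prm U hxU := (SDivLib.mem_support_iff_le 𝓘 U hxU).1 hx
  -- the generic point has the ideal of the subscheme as its prime
  have hzprm : SDivLib.prm U hzU = 𝓘.ideal U := by
    obtain ⟨w, hwU, hw⟩ := SDivLib.exists_point U (𝓘.ideal U)
    have hwI : w ∈ 𝓘.support := (SDivLib.mem_support_iff_le 𝓘 U hwU).2 hw.ge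
    obtain ⟨v, hv⟩ : w ∈ Set.range 𝓘.subschemeι := by rw [Scheme.IdealSheafData.range_subschemeι]; exact hwI
    have hzw : z ⤳ w := hv ▸ (genericPoint_specializes v).map 𝓘.subschemeι.continuous
    exact le_antisymm (hw ▸ (SDivLib.specializes_iff_prm U hwU hzU).1 hzw)
      ((SDivLib.mem_support_iff_le 𝓘 U hzU).1 hzI)
  have hh : P.height = 1 := by
    have h1 := SDivLib.ringKrullDim_stalk U hzU
    rw [hcodim, hzprm] at h1
    have hdis : Disjoint ((SDivLib.prm U hxU).primeCompl : Set Γ(X, U.1)) (𝓘.ideal U : Set Γ(X, U.1)) :=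
      Set.disjoint_left.2 fun a ha ha' => ha (hle ha')
    rw [hPdef, SDivLib.stalkIdeal_eq 𝓘 U hxU]
    show ((𝓘.ideal U).map (algebraMap Γ(X, U.1) (X.presheaf.stalk x))).height = 1
    rw [IsLocalization.height_map_of_disjoint (SDivLib.prm U hxU).primeCompl _ hdis]
    exact (WithBot.coe_eq_coe.1 h1.symm)
  have hne : P ≠ ⊥ := fun h => by rw [h, Ideal.height_bot] at hh; exact zero_ne_one hh
  obtain ⟨p, hp, hpp⟩ := Ideal.IsPrime.exists_mem_prime_of_ne_bot hP hne
  refine ⟨p, mem_nonZeroDivisors_of_ne_zero hpp.ne_zero, ?_⟩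
  have hspan : (Ideal.span {p}).IsPrime := (Ideal.span_singleton_prime hpp.ne_zero).2 hpp
  refine (eq_of_le_of_not_lt ((Ideal.span_singleton_le_iff_mem _).2 hp) fun hlt => ?_).symm
  have h1 := Ideal.height_strict_mono_of_isPrime hlt
  rw [hh, ENat.lt_one_iff_eq_zero] at h1
  have h2 : Ideal.span {p} ∈ minimalPrimes (X.presheaf.stalk x) := Ideal.height_eq_zero_iff.1 h1
  exact Set.disjoint_left.1 (Ideal.disjoint_nonZeroDivisors_of_mem_minimalPrimes h2)
    (Ideal.mem_span_singleton_self p) (mem_nonZeroDivisors_of_ne_zero hpp.ne_zero)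

end Groth.Agent.S1684
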