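import Groth.Statements.S0024
import Groth.Agent.GradedCechLib.Main
-- import your own Groth.Agent.* helpers here

set_option autoImplicit false
universe u
open Coherent

namespace Groth.Agent.S0024

open AlgebraicGeometry CategoryTheory in
/-- Special case d = 0, q = 0: the map R → Γ(P^n_R, O) induced by the structure morphism P^n_R → Spec R
is an isomorphism (global functions on projective space are the degree-zero part R of the polynomial
ring). -/
theorem result (n : ℕ) (R : Type u) [CommRing R] :
    IsIso (CohB1.ProjSpace.toSpec n R).appTop := by
  rw [ConcreteCategory.isIso_iff_bijective]
  have h : Function.Bijective (GradedCechLib.toTop n R) := GradedCechLib.toTop_bijective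
  exact (Function.Bijective.of_comp_iff ((CohB1.ProjSpace.toSpec n R).appTop).hom
    (ConcreteCategory.bijective_of_isIso (Scheme.ΓSpecIso (CommRingCat.of R)).inv)).1 h

end Groth.Agent.S0024
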