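import Groth.Statements.S1482
import Groth.Agent.WeightLib.Constr
import Mathlib.AlgebraicGeometry.ZariskisMainTheorem
-- import your own Groth.Agent.* helpers here

set_option autoImplicit false
universe u
open FlatMor

namespace Groth.Agent.S1482

open AlgebraicGeometry CategoryTheory Limits in
/-- Let f : X → S be locally of finite type, s a point of S and x_1, …, x_n pairwise distinct points
over s at which f is quasi-finite. Then there are an étale morphism g : U → S with a point u over s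
and, for each i, finitely many opens V_{i,j} of X_U = X ×_S U, each finite over U and containing
exactly one point v_{i,j} over u, with κ(v_{i,j}) finite purely inseparable over κ(u), the v_{i,j}
pairwise distinct, v_{i,j} mapping to x_i, and every point of X_U over u mapping to some x_i equal
to one of the v_{i,j}. -/
theorem result {X S : Scheme.{u}} (f : X ⟶ S) [LocallyOfFiniteType f] (s : S) {ι : Type} [Finite ι]
    (x : ι → ↑X) (hinj : Function.Injective x) (hs : ∀ i, f (x i) = s) (hx : ∀ i, f.QuasiFiniteAt (x i)) :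
    ∃ (U : Scheme.{u}) (g : U ⟶ S) (u : U), Etale g ∧ g u = s ∧
      ∃ (J : ι → Type) (_ : ∀ i, Finite (J i)) (V : ∀ i, J i → (pullback f g).Opens) (v : ∀ i, J i → ↑(pullback f g)),
        (∀ i j, v i j ∈ V i j ∧ IsFinite ((V i j).ι ≫ pullback.snd f g) ∧ pullback.snd f g (v i j) = u ∧
          (∀ w : ↑(pullback f g), w ∈ V i j → pullback.snd f g w = u → w = v i j) ∧
          (letI := ((pullback.snd f g).residueFieldMap (v i j)).hom.toAlgebra
           Module.Finite ↑(U.residueField (pullback.snd f g (v i j))) ↑((pullback f g).residueField (v i j)) ∧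
           IsPurelyInseparable ↑(U.residueField (pullback.snd f g (v i j))) ↑((pullback f g).residueField (v i j))) ∧
          pullback.fst f g (v i j) = x i) ∧
        (∀ i j i' j', v i j = v i' j' → i = i' ∧ HEq j j') ∧
        (∀ (w : ↑(pullback f g)) (i : ι), pullback.snd f g w = u → pullback.fst f g w = x i → ∃ j, w = v i j) := by
  classical
  let U₀ := f.quasiFiniteLocus
  let e : U₀.toScheme ⟶ S := U₀.ι ≫ f
  have : LocallyQuasiFinite e := inferInstanceAs (LocallyQuasiFinite (f.quasiFiniteLocus.ι ≫ f))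
  have : LocallyOfFiniteType e := inferInstanceAs (LocallyOfFiniteType (U₀.ι ≫ f))
  let xs : ι → U₀.toScheme := fun i => ⟨x i, hx i⟩
  obtain ⟨V₁, g₁, hg₁, v₁, hv₁, n, W, hW, hsing, hdis, hcov⟩ :=
    WeightLib.exists_split e s (Set.range xs) (Set.finite_range xs)
  let π₁ := pullback.snd f g₁
  let m : pullback e g₁ ⟶ pullback f g₁ := pullback.lift (pullback.fst e g₁ ≫ U₀.ι)
    (pullback.snd e g₁) (by rw [Category.assoc]; exact pullback.condition)
  have hm : IsPullback (pullback.fst e g₁) m U₀.ι (pullback.fst f g₁) :=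
    IsPullback.of_bot (by rw [pullback.lift_snd]; exact IsPullback.of_hasPullback e g₁)
      (pullback.lift_fst ..).symm (IsPullback.of_hasPullback f g₁)
  have : IsOpenImmersion m := MorphismProperty.of_isPullback hm inferInstance
  have hmsnd : m ≫ π₁ = pullback.snd e g₁ := pullback.lift_snd ..
  let W₁ : Fin n → (pullback f g₁).Opens := fun k => m ''ᵁ W k
  have hiso : ∀ k, (m.isoImage (W k)).inv ≫ (W k).ι ≫ pullback.snd e g₁ = (W₁ k).ι ≫ π₁ := by
    intro k
    rw [← hmsnd, ← Category.assoc (W k).ι, ← Scheme.Hom.isoImage_hom_ι, Category.assoc,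
      Iso.inv_hom_id_assoc]
  have hW₁ : ∀ k, IsFinite ((W₁ k).ι ≫ π₁) := fun k => by
    have := hW k
    rw [← hiso k]
    infer_instance
  have hW₁s : ∀ k, WeightLib.GSingle ((W₁ k).ι ≫ π₁) v₁ := fun k =>
    WeightLib.GSingle.of_iso (π := (W k).ι ≫ pullback.snd e g₁) (m.isoImage (W k)).symm
      (Iso.refl V₁) (by simpa using hiso k) (hsing k)
  have huniq : ∀ k p q, p ∈ W₁ k → q ∈ W₁ k → π₁ p = v₁ → π₁ q = v₁ → p = q := by
    intro k p q hp hq hpu hqu
    have := hW₁ k
    exact congrArg Subtype.val ((hW₁s k).eq (a := ⟨p, hp⟩) (b := ⟨q, hq⟩) hpu hqu)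
  let J : ι → Type := fun i => {k : Fin n // ∃ p, p ∈ W₁ k ∧ π₁ p = v₁ ∧ pullback.fst f g₁ p = x i}
  let v : ∀ i, J i → ↑(pullback f g₁) := fun i j => j.2.choose
  have hv : ∀ i j, v i j ∈ W₁ j.1 ∧ π₁ (v i j) = v₁ ∧ pullback.fst f g₁ (v i j) = x i :=
    fun i j => j.2.choose_spec
  refine ⟨V₁, g₁, v₁, hg₁, hv₁, J, fun i => Finite.of_injective Subtype.val Subtype.val_injective,
    fun i j => W₁ j.1, v, ?_, ?_, ?_⟩
  · intro i j
    refine ⟨(hv i j).1, hW₁ j.1, (hv i j).2.1,
      fun w hw hwu => huniq j.1 _ _ hw (hv i j).1 hwu (hv i j).2.1, ?_, (hv i j).2.2⟩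
    have := hW₁ j.1
    let O := W₁ j.1
    let z : O.toScheme := ⟨v i j, (hv i j).1⟩
    let πO := O.ι ≫ π₁
    have hz : πO z = v₁ := (hv i j).2.1
    obtain ⟨hfinc, hcard, hpos⟩ := WeightLib.card_gptsAt πO z (WeightLib.gpt v₁)
      (hz.trans (WeightLib.img_gpt v₁).symm)
    have := hW₁s j.1 _ (WeightLib.gpt v₁) (WeightLib.img_gpt v₁)
    have hone : Nat.card {p : WeightLib.GPts πO (WeightLib.gpt v₁) // WeightLib.img p.1 = z} = 1 :=
      le_antisymm (Finite.card_le_one_iff_subsingleton.mpr inferInstance) hpos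
    rw [hone] at hcard
    algebraize [(π₁.residueFieldMap (O.ι z)).hom, (πO.residueFieldMap z).hom]
    have hP : IsPurelyInseparable (V₁.residueField (πO z)) (O.toScheme.residueField z) :=
      isPurelyInseparable_of_finSepDegree_eq_one hcard.symm
    let alg : Algebra (V₁.residueField (π₁ (O.ι z))) (O.toScheme.residueField z) :=
      (πO.residueFieldMap z).hom.toAlgebra
    have hP' : IsPurelyInseparable (V₁.residueField (π₁ (O.ι z))) (O.toScheme.residueField z) := hP
    let φ := (asIso (O.ι.residueFieldMap z)).commRingCatIsoToRingEquiv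
    let ψ : (pullback f g₁).residueField (O.ι z) ≃ₐ[V₁.residueField (π₁ (O.ι z))]
        O.toScheme.residueField z :=
      AlgEquiv.ofRingEquiv (f := φ) fun r => by
        change (π₁.residueFieldMap (O.ι z) ≫ O.ι.residueFieldMap z).hom r = _
        rw [← Scheme.residueFieldMap_comp]
        rfl
    refine ⟨?_, ψ.symm.isPurelyInseparable⟩
    have hfz : Module.Finite (V₁.residueField (πO z)) (O.toScheme.residueField z) :=
      WeightLib.finite_residueFieldMap πO z
    haveI hfz' : @Module.Finite (V₁.residueField (π₁ (O.ι z))) (O.toScheme.residueField z) _ _ alg.toModule := hfz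
    have key := Module.Finite.equiv (R := V₁.residueField (π₁ (O.ι z))) ψ.symm.toLinearEquiv
    exact key
  · intro i j i' j' he
    obtain rfl : i = i' := hinj (by rw [← (hv i j).2.2, he, (hv i' j').2.2])
    refine ⟨rfl, heq_of_eq (Subtype.ext ?_)⟩
    obtain ⟨q, hq, hqe⟩ := (hv i j).1
    obtain ⟨q', hq', hqe'⟩ := (hv i j').1
    obtain rfl : q' = q := m.isOpenEmbedding.injective (hqe'.trans (he.symm.trans hqe.symm))
    refine hdis q' j.1 j'.1 ?_ hq hq'
    rw [← hmsnd, Scheme.Hom.comp_apply]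
    exact (congrArg π₁ hqe).trans (hv i j).2.1
  · intro w i hwu hwi
    obtain ⟨z, hz₁, hz₂⟩ := Scheme.Pullback.exists_preimage_pullback (f := U₀.ι)
      (g := pullback.fst f g₁) (xs i) w hwi.symm
    let q := hm.isoPullback.inv z
    have hq₁ : pullback.fst e g₁ q = xs i := by
      rw [← Scheme.Hom.comp_apply, hm.isoPullback_inv_fst, hz₁]
    have hq₂ : m q = w := by
      rw [← Scheme.Hom.comp_apply, hm.isoPullback_inv_snd, hz₂]
    obtain ⟨k, hk⟩ := hcov q (by rw [← hmsnd, Scheme.Hom.comp_apply, hq₂]; exact hwu) ⟨i, hq₁.symm⟩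
    refine ⟨⟨k, w, ⟨q, hk, hq₂⟩, hwu, hwi⟩, ?_⟩
    exact huniq k _ _ ⟨q, hk, hq₂⟩ (hv i ⟨k, w, ⟨q, hk, hq₂⟩, hwu, hwi⟩).1 hwu
      (hv i ⟨k, w, ⟨q, hk, hq₂⟩, hwu, hwi⟩).2.1

end Groth.Agent.S1482
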