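import Groth.Agent.AlgSpLib.MonoScheme
import Groth.Agent.AlgSpLib.AffineFpqc
import Groth.Agent.AlgSpLib.ShriekSp
import Groth.Agent.MonoPtLib.LocalRep
import Groth.Agent.AlgSpLib.RepSpBase

/-!
# A space with a flat monomorphism to a scheme is a scheme

Over an affine base the base change to each local ring of the base is affine by faithfully flat descent; hence the space
is a scheme.
-/

set_option autoImplicit false
set_option backward.isDefEq.respectTransparency false
set_option backward.isDefEq.respectTransparency.types false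
universe u
open CategoryTheory CategoryTheory.Limits AlgebraicGeometry Opposite AlgSp AlgSpLib
open CategoryTheory.Functor.relativelyRepresentable

namespace AlgSpFlatMono

/-- The case of a monomorphism to the (affine) base. -/
theorem isRepSh_terminal {A : Scheme.{u}} [IsAffine A] {F : Sp A} (hF : IsAlgSpace F) {U : Over A}
    [IsAffine U.left] [Flat U.hom] (a : (yon A).obj U ⟶ F) (ha : RepWith @Etale a) (has : RepWith @Surjective a)
    (qF : F ⟶ (yon A).obj (Over.mk (𝟙 A))) [Mono qF] : IsRepSh F := by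
  haveI : IsAffine (Over.mk (𝟙 A)).left := ‹IsAffine A›
  have hFqc : IsQuasiCompactSp F := ⟨U, a, ha, has, inferInstance⟩
  have hqc : IsQuasiCompactMor qF := isQuasiCompactMor_of_qcSp_qsSp hF (IsAlgSpace.yon_obj _) _ hFqc
    (Groth.Agent.MonoPtLib.isQuasiSeparatedSp_yon _)
  refine Groth.Agent.MonoPtLib.isRepSh_of_local F hF qF hqc (Groth.Agent.MonoPtLib.isQuasiSeparatedMor_of_mono qF) fun x P fst snd sq => ?_
  let y : A := (Points.schemeHomeo (Over.mk (𝟙 A))).symm (Points.map qF x)
  let ph : U ⟶ Over.mk (𝟙 A) := Over.homMk U.hom (Category.comp_id _)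
  have hph : (yon A).map ph = a ≫ qF := by
    obtain ⟨v, hv⟩ := (yon A).map_surjective (a ≫ qF)
    rw [← hv]
    exact congrArg _ (Over.mkIdTerminal.hom_ext _ _)
  obtain ⟨u, hu⟩ := surjective_ofPt has x
  have hy : U.hom u = y := by
    apply (Points.schemeHomeo (Over.mk (𝟙 A))).injective
    rw [Homeomorph.apply_symm_apply, ← hu, Points.map_ofPt, ← hph, ofPt_yon_map]
    rfl
  let K : Over A := Over.mk (A.fromSpecStalk y)
  let m : K ⟶ Over.mk (𝟙 A) := Over.homMk (A.fromSpecStalk y) (Category.comp_id _)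
  change IsPullback fst snd qF ((yon A).map m) at sq
  let W' : Over A := pullback ph m
  have sq' : IsPullback (pullback.fst ph m).left (pullback.snd ph m).left ph.left m.left :=
    (IsPullback.of_hasPullback ph m).map (Over.forget A)
  haveI : IsAffine K.left := inferInstanceAs (IsAffine (Spec (A.presheaf.stalk y)))
  haveI : IsAffineHom (pullback.snd ph m).left :=
    MorphismProperty.of_isPullback sq' (inferInstanceAs (IsAffineHom U.hom))
  haveI : IsAffine W'.left := isAffine_of_isAffineHom (pullback.snd ph m).left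
  haveI : Flat (pullback.snd ph m).left := MorphismProperty.of_isPullback sq' (inferInstanceAs (Flat U.hom))
  haveI : Surjective (pullback.snd ph m).left := ⟨fun z => by
    have hz : m.left z ∈ Set.range (A.fromSpecStalk y) := ⟨z, rfl⟩
    rw [Scheme.range_fromSpecStalk] at hz
    have hz : m.left z ⤳ U.hom u := hy ▸ hz
    obtain ⟨u', -, hu'⟩ := Flat.generalizingMap U.hom hz
    obtain ⟨w, -, hw⟩ := Scheme.Pullback.exists_preimage_pullback (f := ph.left) (g := m.left) u' z hu'
    exact ⟨sq'.isoPullback.inv w, by rw [← Scheme.Hom.comp_apply, sq'.isoPullback_inv_snd]; exact hw⟩⟩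
  let a' : (yon A).obj W' ⟶ P := sq.lift ((yon A).map (pullback.fst ph m) ≫ a)
    ((yon A).map (pullback.snd ph m)) (by
      rw [Category.assoc, ← hph, ← Functor.map_comp, ← Functor.map_comp, pullback.condition])
  haveI : Mono snd := ⟨fun g h e => sq.hom_ext (by
    rw [← cancel_mono qF, Category.assoc, Category.assoc, sq.w, reassoc_of% e]) e⟩
  have ha' : a' ≫ snd = (yon A).map (pullback.snd ph m) := sq.lift_snd _ _ _
  have sqW : IsPullback a' ((yon A).map (𝟙 W')) snd ((yon A).map (pullback.snd ph m)) := by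
    rw [CategoryTheory.Functor.map_id]
    refine isPullback_of_forall_existsUnique (by rw [Category.id_comp, ha']) fun R f g hfg =>
      ⟨g, ⟨?_, Category.comp_id g⟩, fun g' hg' => by rw [← hg'.2, Category.comp_id]⟩
    rw [← cancel_mono snd, Category.assoc, ha', hfg]
  have hP : IsAlgSpace P := isAlgSpace_of_isPullback hF (IsAlgSpace.yon_obj _) (IsAlgSpace.yon_obj _) sq
  obtain ⟨W, β, e, -, -⟩ := exists_affine_of_fpqc_base hP sqW
  exact (AlgSp.representableByOfIso e).isRepresentable

variable {S : Scheme.{u}} {G : Sp S} {T U : Over S} [IsAffine T.left] [IsAffine U.left]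

open AlgSpLib.Shriek in
/-- The affine case. -/
theorem isRepSh_of_flat_mono_affine (hG : IsAlgSpace G) (i : G ⟶ (yon S).obj T) [Mono i]
    (a : (yon S).obj U ⟶ G) (ha : RepWith @Etale a) (has : RepWith @Surjective a) (p : U ⟶ T)
    (hp : (yon S).map p = a ≫ i) [Flat p.left] : IsRepSh G := by
  let g : T.left ⟶ S := T.hom
  let i₀ : G ⟶ (yon S).obj (Over.mk g) := i
  haveI : Mono i₀ := ‹Mono i›
  obtain ⟨e, he⟩ := exists_iso_of_over g i₀
  let F := fib g i₀
  have hF : IsAlgSpace F := (isAlgSpace_shr_iff (g := g) F).1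
    (isAlgSpace_of_representable hG e.hom (repWith_of_isIso (P := @IsOpenImmersion) e.hom).rep)
  obtain ⟨U₁, eU, ξ, hξ⟩ := exists_over_lift (a ≫ e.inv)
  have tr : ∀ {P : MorphismProperty Scheme.{u}} [P.RespectsIso], RepWith P a → RepWith P ξ := by
    intro P _ hP
    have h1 : RepWith P (a ≫ e.inv) := MorphismProperty.RespectsIso.postcomp (RepWith P) _ _ hP
    rw [hξ, (RepWith (S := S) P).cancel_left_of_respectsIso,
      (RepWith (S := S) P).cancel_left_of_respectsIso, repWith_shr_map_iff] at h1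
    exact h1
  haveI : IsIso eU.hom.left := inferInstanceAs (IsIso ((Over.forget S).map eU.hom))
  haveI : IsIso eU.inv.left := inferInstanceAs (IsIso ((Over.forget S).map eU.inv))
  haveI : IsAffine U₁.left := IsAffine.of_isIso (eU.inv.left : U₁.left ⟶ U.left)
  let u₁ : (Over.map g).obj U₁ ⟶ Over.mk g := Over.homMk U₁.hom rfl
  have hp' : p.left = eU.hom.left ≫ U₁.hom := by
    have h2 : (yon S).map p = (yon S).map (eU.hom ≫ u₁) := by
      have h3 : a = (yon S).map eU.hom ≫ inv (yonMap g U₁) ≫ (shr g).map ξ ≫ e.hom := by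
        rw [← reassoc_of% hξ, e.inv_hom_id, Category.comp_id]
      have h4 : inv (yonMap g U₁) ≫ π g ((yon T.left).obj U₁) = (yon S).map u₁ := by
        rw [IsIso.inv_comp_eq]; exact (yonMap_π (g := g) U₁).symm
      rw [hp, h3]
      simp only [Category.assoc]
      rw [show e.hom ≫ i = π g F from he, π_natural ξ, h4, Functor.map_comp]
    exact congrArg (fun f => f.left) ((yon S).map_injective h2)
  haveI : Flat U₁.hom := by
    have : U₁.hom = inv eU.hom.left ≫ p.left := by rw [hp', IsIso.inv_hom_id_assoc]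
    rw [this]; infer_instance
  let qF : F ⟶ (yon T.left).obj (Over.mk (𝟙 T.left)) := (Groth.Agent.MonoPtLib.isTerminalOne (S := T.left)).from F
  haveI : Mono qF := ⟨fun {R} x y h => by
    have hh : (shr g).map x ≫ e.hom = (shr g).map y ≫ e.hom := by
      rw [← cancel_mono i₀, Category.assoc, Category.assoc, he, π_natural x, π_natural y]
    exact (toOver g).map_injective (Over.OverMorphism.ext ((cancel_mono e.hom).1 hh))⟩
  obtain ⟨W, ⟨eW⟩⟩ := isRepSh_terminal hF ξ (tr ha) (tr has) qF
  exact ⟨(Over.map g).obj W, ⟨(asIso (yonMap g W)).symm ≪≫ (shr g).mapIso eW ≪≫ e⟩⟩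

omit [IsAffine T.left] [IsAffine U.left] in
/-- A space with a flat monomorphism to a scheme is a scheme. -/
theorem isRepSh_of_flat_mono (hG : IsAlgSpace G) (i : G ⟶ (yon S).obj T) [Mono i] (a : (yon S).obj U ⟶ G)
    (ha : RepWith @Etale a) (has : RepWith @Surjective a) (p : U ⟶ T) (hp : (yon S).map p = a ≫ i)
    [Flat p.left] : IsRepSh G := by
  have hpt : ∀ x : U.left, ∃ (T₀ : T.left.Opens) (U₀ : U.left.Opens), IsAffineOpen T₀ ∧ IsAffineOpen U₀ ∧
      x ∈ U₀ ∧ U₀ ≤ p.left ⁻¹ᵁ T₀ := fun x => by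
    obtain ⟨T₀, hT₀, hx, -⟩ := exists_isAffineOpen_mem_and_subset (X := T.left) (U := ⊤)
      (x := p.left x) trivial
    obtain ⟨U₀, hU₀, hx₀, hle⟩ := exists_isAffineOpen_mem_and_subset (X := U.left) (U := p.left ⁻¹ᵁ T₀) (x := x) hx
    exact ⟨T₀, U₀, hT₀, hU₀, hx₀, hle⟩
  choose T₀ U₀ hT₀ hU₀ hxU hle using hpt
  let ju : ∀ x, Over.mk ((U₀ x).ι ≫ U.hom) ⟶ U := fun x => Over.homMk (U₀ x).ι rfl
  let ax : ∀ x, (yon S).obj (Over.mk ((U₀ x).ι ≫ U.hom)) ⟶ G := fun x => (yon S).map (ju x) ≫ a
  have hax : ∀ x, RepWith @Etale (ax x) := fun x => MorphismProperty.comp_mem _ _ _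
    ((repWith_yon_map_iff _ _).2 (inferInstanceAs (Etale (U₀ x).ι))) ha
  have hW : ∀ x, IsOpen (Set.range (Points.ofPt (ax x))) := fun x => (isOpenMap_ofPt (hax x)).isOpen_range
  have hrep : ∀ x, IsRepSh (openSub G (Set.range (Points.ofPt (ax x)))) := fun x => by
    have hj := repWith_openSubι G (hW x)
    obtain ⟨a', he', hae, has'⟩ := exists_factor_etale_surjective (ax x) (hax x) hj (range_openSubι G)
    let To : Over S := Over.mk ((T₀ x).ι ≫ T.hom)
    let jt : To ⟶ T := Over.homMk (T₀ x).ι rfl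
    let p₀ : Over.mk ((U₀ x).ι ≫ U.hom) ⟶ To := Over.homMk (p.left.resLE (T₀ x) (U₀ x) (hle x)) (by
      change p.left.resLE _ _ _ ≫ (T₀ x).ι ≫ T.hom = (U₀ x).ι ≫ U.hom
      rw [Scheme.Hom.resLE_comp_ι_assoc, Over.w p])
    have hp₀ : p₀ ≫ jt = ju x ≫ p := Over.OverMorphism.ext (Scheme.Hom.resLE_comp_ι _ _)
    haveI : Mono jt := (Over.forget S).mono_of_mono_map (inferInstanceAs (Mono (T₀ x).ι))
    haveI : Mono ((yon S).map jt) := inferInstance
    haveI : Sheaf.IsLocallySurjective a' := isLocallySurjective_of_repWith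
      (repWith_mono (fun _ _ g (_ : Etale g) => (inferInstance : Flat g)) hae)
      (repWith_mono (fun _ _ g (_ : Etale g) => (inferInstance : LocallyOfFinitePresentation g)) hae) has'
    have hfac : a' ≫ openSubι G _ ≫ i = (yon S).map p₀ ≫ (yon S).map jt := by
      rw [← Category.assoc, he', Category.assoc, ← hp, ← Functor.map_comp, ← Functor.map_comp, hp₀]
    obtain ⟨i', hi'⟩ := exists_desc a' ((yon S).map p₀) fun Z b b' hbb => by
      rw [← cancel_mono ((yon S).map jt), Category.assoc, Category.assoc, ← hfac, reassoc_of% hbb]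
    have hi'' : i' ≫ (yon S).map jt = openSubι G _ ≫ i := by
      rw [← cancel_epi a', ← Category.assoc, hi', hfac]
    haveI : Mono i' := mono_of_mono_fac hi''
    haveI : Flat p₀.left := by
      change Flat (p.left.resLE _ _ (hle x))
      rw [Scheme.Hom.resLE]
      haveI : Flat (p.left ∣_ T₀ x) := IsZariskiLocalAtTarget.restrict ‹Flat p.left› _
      infer_instance
    haveI : IsAffine To.left := hT₀ x
    haveI : IsAffine (Over.mk ((U₀ x).ι ≫ U.hom)).left := hU₀ x
    exact isRepSh_of_flat_mono_affine (isAlgSpace_of_representable hG (openSubι G _) hj.rep) i' a' hae has' p₀ hi'.symm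
  choose Wx hWx using hrep
  let f : ∀ x, (yon S).obj (Wx x) ⟶ G := fun x => (hWx x).some.hom ≫ openSubι G _
  have hf : ∀ x, RepWith @IsOpenImmersion (f x) := fun x =>
    MorphismProperty.RespectsIso.precomp _ _ _ (repWith_openSubι G (hW x))
  refine isRepSh_of_openCover f hf fun X b t => ?_
  obtain ⟨x, hx⟩ := surjective_ofPt has (Points.ofPt b t)
  let O : X.left.Opens := ⟨Points.ofPt b ⁻¹' Set.range (Points.ofPt (ax x)),
    (hW x).preimage (Points.continuous_ofPt b)⟩
  have hmem : t ∈ O := ⟨⟨x, hxU x⟩, by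
    change Points.ofPt ((yon S).map (ju x) ≫ a) _ = _
    rw [ofPt_yon_comp, ← hx]; rfl⟩
  let Oo : Over S := Over.mk (O.ι ≫ X.hom)
  let o : Oo ⟶ X := Over.homMk O.ι rfl
  obtain ⟨l, hl⟩ := (exists_lift_openSub (W := Set.range (Points.ofPt (ax x))) ((yon S).map o ≫ b)).2
    fun s => by rw [ofPt_yon_comp]; exact s.2
  let n := (hf x).rep.lift (g := b) (l ≫ (hWx x).some.inv) o (by
    simp only [f, Category.assoc, Iso.inv_hom_id_assoc, hl])
  refine ⟨x, n.left ⟨t, hmem⟩, ?_⟩
  rw [← Scheme.Hom.comp_apply, ← Over.comp_left, lift_snd]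
  rfl

end AlgSpFlatMono
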