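/-
Dimension homogeneity of groupoids in algebraic spaces over a field.
-/
import Groth.Prelude.Def_AlgSpGpd
import Groth.Prelude.Def_AlgSpDec
import Groth.Agent.AlgSpLib.Basic
import Groth.Agent.FibDimLib.Apps
import Groth.Agent.FibDimLib.SchemeInv
import Groth.Agent.FibDimLib.TopLocalDim

set_option autoImplicit false
set_option backward.isDefEq.respectTransparency false
set_option backward.isDefEq.respectTransparency.types false

noncomputable section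
universe u
open CategoryTheory CategoryTheory.Limits AlgebraicGeometry
open AlgSp

namespace AlgSpGrpDimLib

variable {S : Scheme.{u}} {B : AlgSp.Sp S} (G : AlgSp.GroupoidSp B)

/-- Composition of two composable arrows. -/
abbrev cmul {T : AlgSp.Sp S} (α β : T ⟶ G.R) (h : α ≫ G.s = β ≫ G.t) : T ⟶ G.R :=
  pullback.lift α β h ≫ G.c

theorem cmul_congr {T : AlgSp.Sp S} {α α' β β' : T ⟶ G.R} (ha : α = α') (hb : β = β')
    (h : α ≫ G.s = β ≫ G.t) (h' : α' ≫ G.s = β' ≫ G.t) : cmul G α β h = cmul G α' β' h' := by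
  subst ha; subst hb; rfl

theorem comp_cmul {T T' : AlgSp.Sp S} (f : T' ⟶ T) (α β : T ⟶ G.R) (h : α ≫ G.s = β ≫ G.t) :
    f ≫ cmul G α β h = cmul G (f ≫ α) (f ≫ β) (by rw [Category.assoc, Category.assoc, h]) := by
  rw [cmul, ← Category.assoc]
  congr 1
  apply pullback.hom_ext <;> simp

theorem cmul_cancel_right {T : AlgSp.Sp S} (f b : T ⟶ G.R) (h : f ≫ G.s = b ≫ G.t)
    (h' : cmul G f b h ≫ G.s = (b ≫ G.i) ≫ G.t) : cmul G (cmul G f b h) (b ≫ G.i) h' = f := by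
  have h2 : b ≫ G.s = (b ≫ G.i) ≫ G.t := by rw [Category.assoc, G.i_t]
  refine (G.assoc f b (b ≫ G.i) h h2).trans ?_
  refine (cmul_congr G rfl ((G.comp_i b).trans ?_) _ ?_).trans (G.comp_e f)
  · rw [← Category.assoc, ← h, Category.assoc]
  · rw [Category.assoc, Category.assoc, G.e_t, Category.comp_id]

theorem cmul_cancel_right' {T : AlgSp.Sp S} (f b : T ⟶ G.R) (h : f ≫ G.s = (b ≫ G.i) ≫ G.t)
    (h' : cmul G f (b ≫ G.i) h ≫ G.s = b ≫ G.t) : cmul G (cmul G f (b ≫ G.i) h) b h' = f := by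
  have h2 : (b ≫ G.i) ≫ G.s = b ≫ G.t := by rw [Category.assoc, G.i_s]
  refine (G.assoc f (b ≫ G.i) b h h2).trans ?_
  refine (cmul_congr G rfl ((G.i_comp b).trans ?_) _ ?_).trans (G.comp_e f)
  · have h3 : b ≫ G.s = f ≫ G.s := by rw [h, Category.assoc, G.i_t]
    rw [← Category.assoc, h3, Category.assoc]
  · rw [Category.assoc, Category.assoc, G.e_t, Category.comp_id]

theorem cmul_inv_cmul {T : AlgSp.Sp S} (α γ : T ⟶ G.R) (h : α ≫ G.t = γ ≫ G.t)
    (h1 : (α ≫ G.i) ≫ G.s = γ ≫ G.t) (h2 : α ≫ G.s = cmul G (α ≫ G.i) γ h1 ≫ G.t) :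
    cmul G α (cmul G (α ≫ G.i) γ h1) h2 = γ := by
  have h3 : α ≫ G.s = (α ≫ G.i) ≫ G.t := by rw [Category.assoc, G.i_t]
  refine (G.assoc α (α ≫ G.i) γ h3 h1).symm.trans ?_
  refine (cmul_congr G ((G.comp_i α).trans ?_) rfl _ ?_).trans (G.e_comp γ)
  · rw [← Category.assoc, h, Category.assoc]
  · rw [Category.assoc, Category.assoc, G.e_s, Category.comp_id]

variable (k : Type u) [Field k] (σ : Spec (CommRingCat.of k) ⟶ S)
  (eU : G.U ≅ (AlgSp.yon S).obj (Over.mk σ))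

include k σ eU

/-- Base change of a chart to the fibre of the source map over a field point. -/
theorem exists_chart_fibre {U P : Over S} (a : (AlgSp.yon S).obj U ⟶ G.R) (ha : RepWith @Etale a)
    (h : U ⟶ Over.mk σ) (hh : (AlgSp.yon S).map h = a ≫ G.s ≫ eU.hom) (e : P ⟶ Over.mk σ)
    (ε : (AlgSp.yon S).obj P ⟶ G.U) (hε : ε = (AlgSp.yon S).map e ≫ eU.inv) :
    ∃ (W : Over S) (p : W ⟶ U) (q : W ⟶ P) (ψ : (AlgSp.yon S).obj W ⟶ pullback G.s ε),
      IsPullback p q h e ∧ ψ ≫ pullback.fst G.s ε = (AlgSp.yon S).map p ≫ a ∧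
        ψ ≫ pullback.snd G.s ε = (AlgSp.yon S).map q ∧ RepWith @Etale ψ := by
  have sq := IsPullback.of_hasPullback h e
  have hsq := sq.map (AlgSp.yon S)
  have outer : IsPullback ((AlgSp.yon S).map (pullback.fst h e)) ((AlgSp.yon S).map (pullback.snd h e))
      (a ≫ G.s) ε := by
    refine hsq.of_iso (Iso.refl _) (Iso.refl _) (Iso.refl _) eU.symm (by simp) (by simp) ?_ ?_
    · simp [hh]
    · simp [hε]
  let ψ : (AlgSp.yon S).obj (pullback h e) ⟶ pullback G.s ε :=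
    pullback.lift ((AlgSp.yon S).map (pullback.fst h e) ≫ a) ((AlgSp.yon S).map (pullback.snd h e))
      (by rw [Category.assoc]; exact outer.w)
  have h1 : ψ ≫ pullback.fst G.s ε = (AlgSp.yon S).map (pullback.fst h e) ≫ a := pullback.lift_fst _ _ _
  have h2 : ψ ≫ pullback.snd G.s ε = (AlgSp.yon S).map (pullback.snd h e) := pullback.lift_snd _ _ _
  refine ⟨_, _, _, ψ, sq, h1, h2, ?_⟩
  rw [← h2] at outer
  exact AlgSpLib.repWith_of_isPullback
    (IsPullback.of_bot outer h1.symm (IsPullback.of_hasPullback G.s ε)) ha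

/-- The scheme morphism underlying the source map of a chart is locally of finite type. -/
theorem lft_chart (hs : AlgSp.LocP @LocallyOfFiniteType G.s) {U : Over S}
    (a : (AlgSp.yon S).obj U ⟶ G.R) (ha : RepWith @Etale a) (h : U ⟶ Over.mk σ)
    (hh : (AlgSp.yon S).map h = a ≫ G.s ≫ eU.hom) : LocallyOfFiniteType h.left :=
  hs a eU.inv h ha (MorphismProperty.of_isIso (RepWith (S := S) @Etale) eU.inv) (by simp [hh])

theorem localDim_fibre (hs : AlgSp.LocP @LocallyOfFiniteType G.s) {U W : Over S}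
    (a : (AlgSp.yon S).obj U ⟶ G.R) (ha : RepWith @Etale a) (h : U ⟶ Over.mk σ)
    (hh : (AlgSp.yon S).map h = a ≫ G.s ≫ eU.hom) {K : Type u} [Field K]
    {w : Spec (CommRingCat.of K) ⟶ S} (e : Over.mk w ⟶ Over.mk σ) {p : W ⟶ U} {q : W ⟶ Over.mk w}
    (sq : IsPullback p q h e) (x : ↥W.left) :
    FlatMor.localDim ↥W.left x = FlatMor.localDim ↥U.left (p.left.base x) := by
  have := lft_chart G k σ eU hs a ha h hh
  let φ : k →+* K := (Spec.preimage e.left).hom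
  letI := φ.toAlgebra
  have he : e.left = Spec.map (CommRingCat.ofHom (algebraMap k K)) := (Spec.map_preimage e.left).symm
  have sq' := sq.map (Over.forget S)
  exact FibDimLib.localDim_of_isPullback_field h.left (b := q.left) (by rw [← he]; exact sq') x

/-- Two pointed étale charts of `R` have, after an extension of the base field, a common étale
neighbourhood. -/
theorem exists_common {U₁ U₂ : Over S} (a₁ : (AlgSp.yon S).obj U₁ ⟶ G.R) (a₂ : (AlgSp.yon S).obj U₂ ⟶ G.R)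
    (ha₁ : RepWith @Etale a₁) (ha₂ : RepWith @Etale a₂) (u₁ : ↥U₁.left) (u₂ : ↥U₂.left)
    (h₁s : U₁ ⟶ Over.mk σ) (hh₁ : (AlgSp.yon S).map h₁s = a₁ ≫ G.s ≫ eU.hom)
    (h₂s : U₂ ⟶ Over.mk σ) (hh₂ : (AlgSp.yon S).map h₂s = a₂ ≫ G.s ≫ eU.hom) :
    ∃ (K : Type u) (_ : Field K) (w : Spec (CommRingCat.of K) ⟶ S) (e₁ e₂ : Over.mk w ⟶ Over.mk σ)
      (W₁ W₂ Z : Over S) (p₁ : W₁ ⟶ U₁) (q₁ : W₁ ⟶ Over.mk w) (p₂ : W₂ ⟶ U₂) (q₂ : W₂ ⟶ Over.mk w)
      (z₁ : Z ⟶ W₁) (z₂ : Z ⟶ W₂) (z : ↥Z.left),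
      IsPullback p₁ q₁ h₁s e₁ ∧ IsPullback p₂ q₂ h₂s e₂ ∧ Etale z₁.left ∧ Etale z₂.left ∧
        p₁.left.base (z₁.left.base z) = u₁ ∧ p₂.left.base (z₂.left.base z) = u₂ := by
  let h₁t : U₁ ⟶ Over.mk σ := (AlgSp.yon S).preimage (a₁ ≫ G.t ≫ eU.hom)
  let h₂t : U₂ ⟶ Over.mk σ := (AlgSp.yon S).preimage (a₂ ≫ G.t ≫ eU.hom)
  let φ₁ : k →+* U₁.left.residueField u₁ := (Spec.preimage (U₁.left.fromSpecResidueField u₁ ≫ h₁t.left)).hom
  let φ₂ : k →+* U₂.left.residueField u₂ := (Spec.preimage (U₂.left.fromSpecResidueField u₂ ≫ h₂t.left)).hom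
  obtain ⟨K, _, i₁, i₂, hi⟩ := AlgSp.FieldPt.exists_amalgamation φ₁ φ₂
  let n₁ : Spec (CommRingCat.of K) ⟶ U₁.left := Spec.map (CommRingCat.ofHom i₁) ≫ U₁.left.fromSpecResidueField u₁
  let n₂ : Spec (CommRingCat.of K) ⟶ U₂.left := Spec.map (CommRingCat.ofHom i₂) ≫ U₂.left.fromSpecResidueField u₂
  have hn : n₁ ≫ h₁t.left = n₂ ≫ h₂t.left := by
    simp only [n₁, n₂, Category.assoc]
    rw [← Spec.map_preimage (U₁.left.fromSpecResidueField u₁ ≫ h₁t.left),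
      ← Spec.map_preimage (U₂.left.fromSpecResidueField u₂ ≫ h₂t.left), ← Spec.map_comp, ← Spec.map_comp]
    congr 1
    exact CommRingCat.hom_ext hi
  let w : Spec (CommRingCat.of K) ⟶ S := n₁ ≫ h₁t.left ≫ σ
  have w₁ : n₁ ≫ U₁.hom = w := by rw [← Over.w h₁t]; rfl
  have w₂ : n₂ ≫ U₂.hom = w := by
    rw [← Over.w h₂t, ← Category.assoc, ← hn]; exact Category.assoc _ _ _
  let m₁ : Over.mk w ⟶ U₁ := Over.homMk n₁ w₁
  let m₂ : Over.mk w ⟶ U₂ := Over.homMk n₂ w₂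
  have hm : m₁ ≫ h₁t = m₂ ≫ h₂t := Over.OverMorphism.ext hn
  let α : (AlgSp.yon S).obj (Over.mk w) ⟶ G.R := (AlgSp.yon S).map m₁ ≫ a₁
  let γ' : (AlgSp.yon S).obj (Over.mk w) ⟶ G.R := (AlgSp.yon S).map m₂ ≫ a₂
  have htt : α ≫ G.t = γ' ≫ G.t := by
    rw [← cancel_mono eU.hom]
    simp only [α, γ', Category.assoc]
    rw [← Functor.map_preimage (AlgSp.yon S) (a₁ ≫ G.t ≫ eU.hom),
      ← Functor.map_preimage (AlgSp.yon S) (a₂ ≫ G.t ≫ eU.hom), ← Functor.map_comp, ← Functor.map_comp]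
    exact congrArg _ hm
  have h1 : (α ≫ G.i) ≫ G.s = γ' ≫ G.t := by rw [Category.assoc, G.i_s, htt]
  let β := cmul G (α ≫ G.i) γ' h1
  have hβt : β ≫ G.t = α ≫ G.s := by
    simp only [β, cmul]; rw [G.comp_t _ _ h1, Category.assoc, G.i_t]
  have hβs : β ≫ G.s = γ' ≫ G.s := G.comp_s _ _ h1
  obtain ⟨W₁, p₁, q₁, ψ₁, sq₁, f₁, g₁, hψ₁⟩ := exists_chart_fibre G k σ eU a₁ ha₁ h₁s
    hh₁ (m₁ ≫ h₁s) (β ≫ G.t) (by simp [hβt, α, hh₁])
  obtain ⟨W₂, p₂, q₂, ψ₂, sq₂, f₂, g₂, hψ₂⟩ := exists_chart_fibre G k σ eU a₂ ha₂ h₂s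
    hh₂ (m₂ ≫ h₂s) (β ≫ G.s) (by simp [hβs, γ', hh₂])
  -- translation by `β`
  let X₁ := pullback G.s (β ≫ G.t)
  let X₂ := pullback G.s (β ≫ G.s)
  have c₁ : pullback.fst G.s (β ≫ G.t) ≫ G.s = (pullback.snd G.s (β ≫ G.t) ≫ β) ≫ G.t := by
    exact pullback.condition.trans (Category.assoc _ _ _).symm
  have c₂ : pullback.fst G.s (β ≫ G.s) ≫ G.s = ((pullback.snd G.s (β ≫ G.s) ≫ β) ≫ G.i) ≫ G.t := by
    simp only [Category.assoc, G.i_t]; exact pullback.condition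
  let Φ : X₁ ≅ X₂ :=
    { hom := pullback.lift (cmul G _ _ c₁) (pullback.snd _ _)
        ((G.comp_s _ _ c₁).trans (Category.assoc _ _ _))
      inv := pullback.lift (cmul G _ _ c₂) (pullback.snd _ _)
        ((G.comp_s _ _ c₂).trans (by simp only [Category.assoc, G.i_s]))
      hom_inv_id := by
        apply pullback.hom_ext
        · simp only [Category.assoc, pullback.lift_fst, Category.id_comp]
          rw [comp_cmul]
          refine (cmul_congr G (pullback.lift_fst _ _ _)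
            (β' := (pullback.snd G.s (β ≫ G.t) ≫ β) ≫ G.i) ?_ _ ?_).trans (cmul_cancel_right G _ _ c₁ ?_)
          · simp
          · refine (G.comp_s _ _ _).trans ?_; simp [G.i_t]
          · refine (G.comp_s _ _ _).trans ?_; simp [G.i_t]
        · simp
      inv_hom_id := by
        apply pullback.hom_ext
        · simp only [Category.assoc, pullback.lift_fst, Category.id_comp]
          rw [comp_cmul]
          refine (cmul_congr G (pullback.lift_fst _ _ _)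
            (β' := pullback.snd G.s (β ≫ G.s) ≫ β) ?_ _ ?_).trans (cmul_cancel_right' G _ _ c₂ ?_)
          · simp
          · refine (G.comp_s _ _ _).trans ?_; simp [G.i_s]
          · refine (G.comp_s _ _ _).trans ?_; simp [G.i_s]
        · simp }
  haveI : IsIso Φ.hom := Φ.isIso_hom
  have hΦ : RepWith @Etale (ψ₁ ≫ Φ.hom) :=
    (MorphismProperty.cancel_right_of_respectsIso (RepWith (S := S) @Etale) ψ₁ Φ.hom).2 hψ₁
  obtain ⟨Z, z₁, z₂, sqZ⟩ := AlgSpLib.exists_isPullback_yon (ψ₁ ≫ Φ.hom) ψ₂ hΦ.rep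
  have : Etale z₁.left := hψ₂.property (ψ₁ ≫ Φ.hom) ((AlgSp.yon S).map z₂) z₁ sqZ.flip
  have : Etale z₂.left := hΦ.property ψ₂ ((AlgSp.yon S).map z₁) z₂ sqZ
  let s₁ : Over.mk w ⟶ W₁ := sq₁.lift m₁ (𝟙 _) (by simp)
  let s₂ : Over.mk w ⟶ W₂ := sq₂.lift m₂ (𝟙 _) (by simp)
  have hs₁ : (AlgSp.yon S).map s₁ ≫ ψ₁ ≫ pullback.fst _ _ = α := by
    rw [f₁, ← Functor.map_comp_assoc, IsPullback.lift_fst]
  have hs₁' : (AlgSp.yon S).map s₁ ≫ ψ₁ ≫ pullback.snd _ _ = 𝟙 _ := by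
    rw [g₁, ← Functor.map_comp, IsPullback.lift_snd, CategoryTheory.Functor.map_id]
  have hs₂ : (AlgSp.yon S).map s₂ ≫ ψ₂ ≫ pullback.fst _ _ = γ' := by
    rw [f₂, ← Functor.map_comp_assoc, IsPullback.lift_fst]
  have hs₂' : (AlgSp.yon S).map s₂ ≫ ψ₂ ≫ pullback.snd _ _ = 𝟙 _ := by
    rw [g₂, ← Functor.map_comp, IsPullback.lift_snd, CategoryTheory.Functor.map_id]
  have agree : (AlgSp.yon S).map s₁ ≫ ψ₁ ≫ Φ.hom = (AlgSp.yon S).map s₂ ≫ ψ₂ := by
    apply pullback.hom_ext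
    · simp only [Category.assoc]
      rw [hs₂, pullback.lift_fst, comp_cmul, comp_cmul]
      refine (cmul_congr G hs₁ (β' := β) ?_ _ ?_).trans (cmul_inv_cmul G α γ' htt h1 hβt.symm)
      · simp only [← Category.assoc] at hs₁' ⊢
        rw [hs₁', Category.id_comp]
      · exact hβt.symm
    · simp only [Category.assoc]
      rw [hs₂', pullback.lift_snd, hs₁']
  let l : Over.mk w ⟶ Z := (AlgSp.yon S).preimage (sqZ.lift ((AlgSp.yon S).map s₁) ((AlgSp.yon S).map s₂) agree)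
  have hl₁ : l ≫ z₁ = s₁ := (AlgSp.yon S).map_injective (by
    rw [Functor.map_comp, Functor.map_preimage, IsPullback.lift_fst])
  have hl₂ : l ≫ z₂ = s₂ := (AlgSp.yon S).map_injective (by
    rw [Functor.map_comp, Functor.map_preimage, IsPullback.lift_snd])
  let z : ↥Z.left := l.left.base (IsLocalRing.closedPoint K)
  have e1 : z₁.left.base z = s₁.left.base (IsLocalRing.closedPoint K) := by
    rw [← hl₁]; rfl
  have e2 : z₂.left.base z = s₂.left.base (IsLocalRing.closedPoint K) := by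
    rw [← hl₂]; rfl
  have f1 : p₁.left.base (s₁.left.base (IsLocalRing.closedPoint K)) = u₁ := by
    have : (s₁ ≫ p₁).left = n₁ := by rw [IsPullback.lift_fst]; rfl
    rw [← Scheme.Hom.comp_apply, ← Over.comp_left, this]
    exact (Scheme.Hom.comp_apply _ _ _).trans (Scheme.fromSpecResidueField_apply _ _)
  have f2 : p₂.left.base (s₂.left.base (IsLocalRing.closedPoint K)) = u₂ := by
    have : (s₂ ≫ p₂).left = n₂ := by rw [IsPullback.lift_fst]; rfl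
    rw [← Scheme.Hom.comp_apply, ← Over.comp_left, this]
    exact (Scheme.Hom.comp_apply _ _ _).trans (Scheme.fromSpecResidueField_apply _ _)
  exact ⟨K, inferInstance, w, m₁ ≫ h₁s, m₂ ≫ h₂s, W₁, W₂, Z, p₁, q₁, p₂, q₂, z₁, z₂, z, sq₁, sq₂,
    ‹Etale z₁.left›, ‹Etale z₂.left›, by rw [e1, f1], by rw [e2, f2]⟩

/-- Local dimensions of any two étale charts of `R` agree. -/
theorem localDim_eq (hs : AlgSp.LocP @LocallyOfFiniteType G.s)
    {U₁ U₂ : Over S} (a₁ : (AlgSp.yon S).obj U₁ ⟶ G.R) (a₂ : (AlgSp.yon S).obj U₂ ⟶ G.R)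
    (ha₁ : RepWith @Etale a₁) (ha₂ : RepWith @Etale a₂) (u₁ : ↥U₁.left) (u₂ : ↥U₂.left) :
    FlatMor.localDim ↥U₁.left u₁ = FlatMor.localDim ↥U₂.left u₂ := by
  obtain ⟨h₁, hh₁⟩ := (AlgSp.yon S).map_surjective (a₁ ≫ G.s ≫ eU.hom)
  obtain ⟨h₂, hh₂⟩ := (AlgSp.yon S).map_surjective (a₂ ≫ G.s ≫ eU.hom)
  obtain ⟨K, _, w, e₁, e₂, W₁, W₂, Z, p₁, q₁, p₂, q₂, z₁, z₂, z, sq₁, sq₂, _, _, f1, f2⟩ :=
    exists_common G k σ eU a₁ a₂ ha₁ ha₂ u₁ u₂ h₁ hh₁ h₂ hh₂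
  rw [← f1, ← localDim_fibre G k σ eU hs a₁ ha₁ h₁ hh₁ e₁ sq₁, ← FibDimLib.localDim_eq_of_etale z₁.left z,
    FibDimLib.localDim_eq_of_etale z₂.left z, localDim_fibre G k σ eU hs a₂ ha₂ h₂ hh₂ e₂ sq₂, f2]

/-- `dim_r R = dim R` at every point. -/
theorem hasAt_localDim (hR : AlgSp.IsAlgSpace G.R) (hs : AlgSp.LocP @LocallyOfFiniteType G.s)
    (r : AlgSp.Points G.R) :
    AlgSp.HasAt (fun V v => FlatMor.localDim ↥V v = AlgSp.dim G.R) G.R r := by
  obtain ⟨U, p, hp, hp'⟩ := hR.atlas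
  obtain ⟨x, rfl⟩ := AlgSpLib.map_surjective_of_repWith hp' r
  refine ⟨U, p, AlgSp.Points.toScheme U x, hp, ?_, le_antisymm ?_ ?_⟩
  · conv_rhs => rw [← AlgSp.Points.ofScheme_toScheme U x]
    rw [AlgSp.Points.map_ofPt, Category.id_comp]
  · exact le_trans (FibDimLib.localDim_le _) (le_iSup₂_of_le U p (le_iSup_of_le hp le_rfl))
  · refine iSup_le fun V => iSup_le fun b => iSup_le fun hb => ?_
    rw [FibDimLib.topologicalKrullDim_eq_iSup_localDim]
    exact iSup_le fun v => (localDim_eq G k σ eU hs b p hb hp v _).le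

end AlgSpGrpDimLib
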