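/-
The stabilizer of a groupoid in algebraic spaces on a field has the dimension of the space of arrows.
-/
import Groth.Agent.AlgSpGrpDimLib
import Groth.Agent.FibDimLib.Local
import Mathlib

set_option autoImplicit false
set_option backward.isDefEq.respectTransparency false
set_option backward.isDefEq.respectTransparency.types false

noncomputable section
universe u
open CategoryTheory CategoryTheory.Limits AlgebraicGeometry
open AlgSp

namespace AlgSpGrpStabLib

section algebra

open Polynomial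

/-- A field inside a finite type algebra over a field `k` which is a domain is algebraic over `k`. -/
theorem isAlgebraic_hom {k A : Type u} [Field k] [CommRing A] [IsDomain A] [Algebra k A]
    [Algebra.FiniteType k A] (t : k →+* A) (x : k) : IsAlgebraic k (t x) := by
  by_contra hx
  let f : k[X] →ₐ[k] A := Polynomial.aeval (t x)
  have hf : Function.Injective f := transcendental_iff_injective.mp hx
  letI := f.toRingHom.toAlgebra
  have : IsScalarTower k k[X] A := IsScalarTower.of_algebraMap_eq fun c => (f.commutes c).symm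
  have : Algebra.FiniteType k[X] A := Algebra.FiniteType.of_restrictScalars_finiteType k k[X] A
  have : Algebra.FinitePresentation k[X] A := Algebra.FinitePresentation.of_finiteType.mp this
  have : Module.IsTorsionFree k[X] A := Module.isTorsionFree_iff_algebraMap_injective.2 hf
  have hopen := (PrimeSpectrum.isOpenMap_comap_of_hasGoingDown_of_finitePresentation
    (R := k[X]) (S := A)).isOpen_range
  obtain ⟨⟨_, ⟨g, rfl⟩, hg0, hgsub⟩⟩ : Nonempty {U : Set (PrimeSpectrum k[X]) //
      U ∈ Set.range (fun g : k[X] => (PrimeSpectrum.basicOpen g : Set (PrimeSpectrum k[X]))) ∧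
        PrimeSpectrum.comap (algebraMap k[X] A) ⊥ ∈ U ∧
          U ⊆ Set.range (PrimeSpectrum.comap (algebraMap k[X] A))} := by
    obtain ⟨U, hU, h1, h2⟩ := PrimeSpectrum.isTopologicalBasis_basic_opens.exists_subset_of_mem_open
      (Set.mem_range_self ⊥) hopen
    exact ⟨⟨U, hU, h1, h2⟩⟩
  have hg : g ≠ 0 := by
    rintro rfl
    exact hg0 (Ideal.zero_mem _)
  obtain ⟨n, hn, hnp⟩ := Nat.exists_infinite_primes (max g.natDegree (ringChar k) + 1)
  have hnk : (n : k) ≠ 0 := by
    rw [Ne, ringChar.spec]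
    intro hd
    rcases hnp.eq_one_or_self_of_dvd _ hd with h | h
    · exact (CharP.ringChar_ne_one (R := k)) h
    · omega
  haveI : NeZero (n : AlgebraicClosure k) :=
    ⟨fun h => hnk ((algebraMap k (AlgebraicClosure k)).injective (by simpa using h))⟩
  obtain ⟨ζ, hζ⟩ := HasEnoughRootsOfUnity.exists_primitiveRoot (AlgebraicClosure k) n
  obtain ⟨i, hi⟩ : ∃ i : Fin n, aeval (ζ ^ (i : ℕ)) g ≠ 0 := by
    by_contra h
    push Not at h
    have hg' : g.map (algebraMap k (AlgebraicClosure k)) ≠ 0 :=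
      (Polynomial.map_ne_zero_iff (algebraMap k (AlgebraicClosure k)).injective).2 hg
    have hsub : Set.range (fun i : Fin n => ζ ^ (i : ℕ)) ⊆
        {a | (g.map (algebraMap k (AlgebraicClosure k))).IsRoot a} := by
      rintro _ ⟨i, rfl⟩
      simpa [IsRoot, eval_map_algebraMap] using h i
    have hle := Set.ncard_le_ncard hsub (finite_setOf_isRoot hg')
    rw [Set.ncard_range_of_injective (fun a b hab => Fin.ext (hζ.pow_inj a.2 b.2 hab)), Nat.card_fin] at hle
    have h2 : {a | (g.map (algebraMap k (AlgebraicClosure k))).IsRoot a}.ncard ≤ g.natDegree := by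
      classical
      have : {a | (g.map (algebraMap k (AlgebraicClosure k))).IsRoot a} =
          ↑(g.map (algebraMap k (AlgebraicClosure k))).roots.toFinset := by
        ext a; simp [hg']
      rw [this, Set.ncard_coe_finset]
      exact (Multiset.toFinset_card_le _).trans ((card_roots' _).trans natDegree_map_le)
    omega
  let a := ζ ^ (i : ℕ)
  let P : PrimeSpectrum k[X] :=
    ⟨RingHom.ker (aeval a : k[X] →ₐ[k] AlgebraicClosure k).toRingHom, RingHom.ker_isPrime _⟩
  obtain ⟨Q, hQ⟩ := hgsub (show P ∈ (PrimeSpectrum.basicOpen g : Set _) from hi)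
  have hP : (X ^ n - 1 : k[X]) ∈ P.asIdeal := by
    change aeval a (X ^ n - 1 : k[X]) = 0
    simp only [map_sub, map_pow, aeval_X, map_one, a]
    rw [← pow_mul, mul_comm, pow_mul, hζ.pow_eq_one, one_pow, sub_self]
  have hQ' : t (x ^ n - 1) ∈ Q.asIdeal := by
    rw [← hQ] at hP
    change f (X ^ n - 1) ∈ Q.asIdeal at hP
    simpa [f] using hP
  by_cases hx1 : x ^ n - 1 = 0
  · refine hx ⟨X ^ n - 1, X_pow_sub_C_ne_zero hnp.pos 1, ?_⟩
    have := congrArg t hx1
    simpa using this
  · exact Q.isPrime.ne_top (Ideal.eq_top_of_isUnit_mem _ hQ' ((Ne.isUnit hx1).map t))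

/-- Two fields of scalars agreeing at a point of a finite type `k`-algebra agree at its generalisations. -/
theorem mem_of_mem_le {k A : Type u} [Field k] [CommRing A] [Algebra k A] [Algebra.FiniteType k A]
    (t : k →+* A) (x : k) {p q : Ideal A} [p.IsPrime] (hpq : p ≤ q) (hq : q ≠ ⊤)
    (h : t x - algebraMap k A x ∈ q) : t x - algebraMap k A x ∈ p := by
  by_contra hp
  have hz : IsAlgebraic k (Ideal.Quotient.mk p (t x - algebraMap k A x)) := by
    rw [map_sub]
    exact (isAlgebraic_hom ((Ideal.Quotient.mk p).comp t) x).sub (isAlgebraic_algebraMap x)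
  have hu := hz.isIntegral.isUnit (fun e => hp (Ideal.Quotient.eq_zero_iff_mem.1 e))
  obtain ⟨b, hb⟩ := hu.exists_right_inv
  obtain ⟨b, rfl⟩ := Ideal.Quotient.mk_surjective b
  rw [← map_mul, ← (Ideal.Quotient.mk p).map_one, Ideal.Quotient.eq] at hb
  refine hq ((Ideal.eq_top_iff_one q).2 ?_)
  have h2 := q.sub_mem (q.mul_mem_right b h) (hpq hb)
  simpa using h2

end algebra

variable {S : Scheme.{u}} (k : Type u) [Field k] (σ : Spec (CommRingCat.of k) ⟶ S)

/-- The locus where two maps to `Spec k` agree is open and closed topologically near each of its points. -/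
theorem exists_nhd_subset_range {V : Over S} (hs ht : V ⟶ Over.mk σ) [LocallyOfFiniteType hs.left]
    [IsClosedImmersion (equalizer.ι hs ht).left]
    {K : Type u} [Field K] (n : Spec (CommRingCat.of K) ⟶ V.left) (hn : n ≫ hs.left = n ≫ ht.left) :
    ∃ W : V.left.Opens, n.base (IsLocalRing.closedPoint K) ∈ W ∧
      (W : Set V.left) ⊆ Set.range (equalizer.ι hs ht).left.base := by
  haveI : IsLocallyNoetherian (Over.mk σ : Over S).left :=
    inferInstanceAs (IsLocallyNoetherian (Spec (CommRingCat.of k)))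
  have : IsLocallyNoetherian V.left := LocallyOfFiniteType.isLocallyNoetherian hs.left
  set u := n.base (IsLocalRing.closedPoint K) with hu
  obtain ⟨U, G, huU, hG, hGu, hcov⟩ := FibDimLib.exists_nhd_components u
  refine ⟨U, huU, fun y hy => ?_⟩
  obtain ⟨g, hg, hgy⟩ := hcov y hy
  refine hgy.mem_closed (equalizer.ι hs ht).left.isClosedEmbedding.isClosed_range ?_
  have hgu : g ⤳ u := (hGu g hg).2
  obtain ⟨_, ⟨T, hT, rfl⟩, huT, -⟩ :=
    V.left.isBasis_affineOpens.exists_subset_of_mem_open (Set.mem_univ u) isOpen_univ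
  have hT : IsAffineOpen T := hT
  have hgT : g ∈ T := hgu.mem_open T.isOpen huT
  obtain ⟨φs, hφs⟩ : ∃ φ : CommRingCat.of k ⟶ Γ(V.left, T), Spec.map φ = hT.fromSpec ≫ hs.left :=
    Spec.map_surjective _
  obtain ⟨φt, hφt⟩ : ∃ φ : CommRingCat.of k ⟶ Γ(V.left, T), Spec.map φ = hT.fromSpec ≫ ht.left :=
    Spec.map_surjective _
  letI := φs.hom.toAlgebra
  haveI : Algebra.FiniteType k Γ(V.left, T) := RingHom.finiteType_algebraMap.mp
    ((HasRingHomProperty.Spec_iff (P := @LocallyOfFiniteType)).mp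
      (hφs ▸ (inferInstance : LocallyOfFiniteType (hT.fromSpec ≫ hs.left))))
  have hrn : Set.range n.base ⊆ Set.range hT.fromSpec.base := by
    rintro _ ⟨z, rfl⟩
    rw [hT.range_fromSpec, Subsingleton.elim z (IsLocalRing.closedPoint K)]
    exact huT
  obtain ⟨ψ, hψ⟩ : ∃ ψ : Γ(V.left, T) ⟶ CommRingCat.of K,
      Spec.map ψ ≫ hT.fromSpec = n := by
    obtain ⟨ψ, hψ⟩ := Spec.map_surjective (IsOpenImmersion.lift hT.fromSpec n hrn)
    exact ⟨ψ, by rw [hψ, IsOpenImmersion.lift_fac]⟩
  have hagree : φs ≫ ψ = φt ≫ ψ := Spec.map_injective (by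
    rw [Spec.map_comp, Spec.map_comp, hφs, hφt, ← Category.assoc, ← Category.assoc, hψ, hn])
  obtain ⟨p, hp⟩ : ∃ p : ↥(Spec Γ(V.left, T)), hT.fromSpec.base p = g := by
    rw [← Set.mem_range, hT.range_fromSpec]; exact hgT
  let q : ↥(Spec Γ(V.left, T)) := (Spec.map ψ).base (IsLocalRing.closedPoint K)
  have hq : hT.fromSpec.base q = u := by
    rw [← Scheme.Hom.comp_apply, hψ]
  have hpq : p ⤳ q := by
    rw [← hT.fromSpec.isOpenEmbedding.isInducing.specializes_iff, hp, hq]; exact hgu
  have hpq' : p.asIdeal ≤ q.asIdeal := (PrimeSpectrum.le_iff_specializes p q).2 hpq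
  have hmem : ∀ x : k, φt x - algebraMap k Γ(V.left, T) x ∈ p.asIdeal := fun x => by
    refine mem_of_mem_le φt.hom x hpq' q.isPrime.ne_top ?_
    change ψ (φt x - φs x) ∈ IsLocalRing.maximalIdeal K
    rw [map_sub]
    have hx : ψ (φs x) = ψ (φt x) := congrArg (fun m : CommRingCat.of k ⟶ CommRingCat.of K => m x) hagree
    rw [hx, sub_self]
    exact Ideal.zero_mem _
  let π : Γ(V.left, T) ⟶ CommRingCat.of (Γ(V.left, T) ⧸ p.asIdeal) :=
    CommRingCat.ofHom (Ideal.Quotient.mk p.asIdeal)
  have hπ : φs ≫ π = φt ≫ π := by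
    ext x
    exact (Ideal.Quotient.eq.2 (hmem x)).symm
  let l : Spec (CommRingCat.of (Γ(V.left, T) ⧸ p.asIdeal)) ⟶ V.left := Spec.map π ≫ hT.fromSpec
  let l' : Over.mk (l ≫ V.hom) ⟶ V := Over.homMk l rfl
  have hl : l' ≫ hs = l' ≫ ht := Over.OverMorphism.ext (by
    change (Spec.map π ≫ hT.fromSpec) ≫ hs.left = (Spec.map π ≫ hT.fromSpec) ≫ ht.left
    rw [Category.assoc, Category.assoc, ← hφs, ← hφt, ← Spec.map_comp, ← Spec.map_comp, hπ])
  haveI : p.asIdeal.IsPrime := p.isPrime
  let p0 : ↥(Spec (CommRingCat.of (Γ(V.left, T) ⧸ p.asIdeal))) := (⊥ : PrimeSpectrum (Γ(V.left, T) ⧸ p.asIdeal))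
  have hp0 : l.base p0 = g := by
    have e1 : (Spec.map π).base p0 = p := PrimeSpectrum.ext (Ideal.mk_ker (I := p.asIdeal))
    rw [← hp]; exact congrArg hT.fromSpec.base e1
  refine ⟨(equalizer.lift l' hl).left.base p0, ?_⟩
  rw [← Scheme.Hom.comp_apply, ← Over.comp_left, equalizer.lift_ι]
  exact hp0

variable {B : AlgSp.Sp S} (G : AlgSp.GroupoidSp B) (eU : G.U ≅ (AlgSp.yon S).obj (Over.mk σ))

include eU

/-- The dimension of the stabilizer is the dimension of `R`. -/
theorem dim_stabilizer (hR : AlgSp.IsAlgSpace G.R) (hs : AlgSp.LocP @LocallyOfFiniteType G.s) :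
    AlgSp.dim G.R = AlgSp.dim G.stabilizer := by
  obtain ⟨V, a, ha, ha'⟩ := hR.atlas
  let hsV : V ⟶ Over.mk σ := (AlgSp.yon S).preimage (a ≫ G.s ≫ eU.hom)
  let htV : V ⟶ Over.mk σ := (AlgSp.yon S).preimage (a ≫ G.t ≫ eU.hom)
  have hsV' : (AlgSp.yon S).map hsV = a ≫ G.s ≫ eU.hom := Functor.map_preimage _ _
  have htV' : (AlgSp.yon S).map htV = a ≫ G.t ≫ eU.hom := Functor.map_preimage _ _
  have := AlgSpGrpDimLib.lft_chart G k σ eU hs a ha hsV hsV'
  haveI : IsSeparated (Over.mk σ : Over S).hom := by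
    change IsSeparated σ
    exact IsSeparated.of_comp σ (terminal.from S)
  -- the chart of the stabilizer
  let E : Over S := equalizer hsV htV
  let ι : E ⟶ V := equalizer.ι hsV htV
  have hι : IsClosedImmersion ι.left := inferInstanceAs (IsClosedImmersion (equalizer.ι hsV htV).left)
  have ιt : G.stabilizerι ≫ G.t = G.stabilizerToU := by
    have h := (pullback.condition (f := G.j) (g := G.diag)) =≫ pullback.fst G.pU G.pU
    simpa [GroupoidSp.stabilizerι, GroupoidSp.stabilizerToU, GroupoidSp.diag] using h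
  have ιs : G.stabilizerι ≫ G.s = G.stabilizerToU := by
    have h := (pullback.condition (f := G.j) (g := G.diag)) =≫ pullback.snd G.pU G.pU
    simpa [GroupoidSp.stabilizerι, GroupoidSp.stabilizerToU, GroupoidSp.diag] using h
  have hEeq : (AlgSp.yon S).map ι ≫ a ≫ G.t = (AlgSp.yon S).map ι ≫ a ≫ G.s := by
    rw [← cancel_mono eU.hom]
    simp only [Category.assoc]
    rw [← hsV', ← htV', ← Functor.map_comp, ← Functor.map_comp, equalizer.condition]
  let ψ : (AlgSp.yon S).obj E ⟶ G.stabilizer :=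
    pullback.lift ((AlgSp.yon S).map ι ≫ a) ((AlgSp.yon S).map ι ≫ a ≫ G.s) (by
      apply pullback.hom_ext <;> simp [GroupoidSp.diag, hEeq])
  have hψι : ψ ≫ G.stabilizerι = (AlgSp.yon S).map ι ≫ a := pullback.lift_fst _ _ _
  haveI hmono : Mono G.stabilizerι := by
    refine ⟨fun g h e => pullback.hom_ext e ?_⟩
    change g ≫ G.stabilizerToU = h ≫ G.stabilizerToU
    rw [← ιs, ← Category.assoc, ← Category.assoc, e]
  haveI : Mono ((AlgSp.yon S).map ι) := inferInstance
  have hfork := isLimitOfHasEqualizerOfPreservesLimit (AlgSp.yon S) hsV htV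
  have key : ∀ {T : AlgSp.Sp S} (x : T ⟶ (AlgSp.yon S).obj V) (y : T ⟶ G.stabilizer),
      x ≫ a = y ≫ G.stabilizerι → x ≫ (AlgSp.yon S).map hsV = x ≫ (AlgSp.yon S).map htV := by
    intro T x y e
    rw [hsV', htV', reassoc_of% e, reassoc_of% e]
    rw [← Category.assoc G.stabilizerι, ← Category.assoc G.stabilizerι, ιs, ιt]
  have sq : IsPullback ((AlgSp.yon S).map ι) ψ a G.stabilizerι := by
    refine IsPullback.of_isLimit' ⟨hψι.symm⟩ (PullbackCone.IsLimit.mk hψι.symm
      (fun c => Fork.IsLimit.lift hfork c.fst (key c.fst c.snd c.condition))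
      (fun c => Fork.IsLimit.lift_ι hfork) (fun c => ?_) (fun c m h1 h2 => ?_))
    · rw [← cancel_mono G.stabilizerι, Category.assoc, hψι, ← Category.assoc]
      exact (congrArg (· ≫ a) (Fork.IsLimit.lift_ι hfork)).trans c.condition
    · rw [← cancel_mono ((AlgSp.yon S).map ι), h1]
      exact (Fork.IsLimit.lift_ι' hfork _ _).symm
  have hψ : RepWith @Etale ψ := AlgSpLib.repWith_of_isPullback sq ha
  have hψ' : RepWith @Surjective ψ := AlgSpLib.repWith_of_isPullback sq ha'
  apply le_antisymm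
  · -- a point of the chart over the identity
    let e₀ : (AlgSp.yon S).obj (Over.mk σ) ⟶ G.R := eU.inv ≫ G.e
    obtain ⟨T, pT, qT, sqT⟩ := AlgSpLib.exists_isPullback_yon a e₀ ha.rep
    have : Surjective qT.left := ha'.property e₀ ((AlgSp.yon S).map pT) qT sqT
    obtain ⟨τ, -⟩ := qT.left.surjective (IsLocalRing.closedPoint k)
    have hT : pT ≫ hsV = pT ≫ htV := (AlgSp.yon S).map_injective (by
      rw [Functor.map_comp, Functor.map_comp, hsV', htV', sqT.w_assoc, sqT.w_assoc]
      simp only [e₀, Category.assoc]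
      rw [← Category.assoc G.e G.s, ← Category.assoc G.e G.t, G.e_s, G.e_t])
    let n := T.left.fromSpecResidueField τ ≫ pT.left
    have hn : n ≫ hsV.left = n ≫ htV.left := by
      simp only [n, Category.assoc, ← Over.comp_left, hT]
    obtain ⟨W, hW, hWE⟩ := exists_nhd_subset_range k σ hsV htV n hn
    set u := n.base (IsLocalRing.closedPoint (T.left.residueField τ))
    obtain ⟨v, hv⟩ := hWE hW
    let W' : E.left.Opens := ι.left ⁻¹ᵁ W
    have hv' : v ∈ W' := by change ι.left.base v ∈ W; rw [hv]; exact hW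
    let j : ↥W' → ↥V.left := fun w => ι.left.base w.1
    have hj : Topology.IsOpenEmbedding j := by
      refine ⟨ι.left.isClosedEmbedding.isEmbedding.comp Topology.IsEmbedding.subtypeVal, ?_⟩
      have : Set.range j = (W : Set V.left) := by
        ext y
        refine ⟨?_, fun hy => ?_⟩
        · rintro ⟨w, rfl⟩; exact w.2
        · obtain ⟨z, rfl⟩ := hWE hy
          exact ⟨⟨z, hy⟩, rfl⟩
      rw [this]; exact W.isOpen
    have h1 := FibDimLib.localDim_eq_of_isOpenEmbedding hj ⟨v, hv'⟩
    have h2 := FibDimLib.localDim_eq_of_isOpenEmbedding W'.isOpen.isOpenEmbedding_subtypeVal ⟨v, hv'⟩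
    refine iSup_le fun V' => iSup_le fun b => iSup_le fun hb => ?_
    rw [FibDimLib.topologicalKrullDim_eq_iSup_localDim]
    refine iSup_le fun v' => ?_
    refine (AlgSpGrpDimLib.localDim_eq G k σ eU hs b a hb ha v' u).le.trans ?_
    rw [show u = ι.left.base v from hv.symm]
    refine (h1.trans h2.symm).le.trans ?_
    exact (FibDimLib.localDim_le _).trans (le_iSup₂_of_le E ψ (le_iSup_of_le hψ le_rfl))
  · refine iSup_le fun W => iSup_le fun b => iSup_le fun hb => ?_
    obtain ⟨Z, zE, zW, sqZ⟩ := AlgSpLib.exists_isPullback_yon ψ b hψ.rep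
    have : Etale zW.left := hψ.property b ((AlgSp.yon S).map zE) zW sqZ
    have : Etale zE.left := hb.property ψ ((AlgSp.yon S).map zW) zE sqZ.flip
    have : Surjective zW.left := hψ'.property b ((AlgSp.yon S).map zE) zW sqZ
    rw [FibDimLib.topologicalKrullDim_eq_iSup_localDim]
    refine iSup_le fun w => ?_
    obtain ⟨z, rfl⟩ := zW.left.surjective w
    rw [← FibDimLib.localDim_eq_of_etale zW.left z, FibDimLib.localDim_eq_of_etale zE.left z]
    refine (FibDimLib.localDim_le _).trans ?_
    refine (ι.left.isClosedEmbedding.isInducing.topologicalKrullDim_le).trans ?_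
    exact le_iSup₂_of_le V a (le_iSup_of_le ha le_rfl)

end AlgSpGrpStabLib
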