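import Groth.Statements.S9407
import Groth.Agent.AlgSpLib.ReducedStalk

set_option autoImplicit false
universe u
open CAlg

namespace Groth.Agent.S9407
open AlgSpLib AlgebraicGeometry CategoryTheory

/-- Reducedness ascends along smooth ring maps: if R is reduced and S is smooth over R then S is
reduced. -/
theorem result (R : Type u) [CommRing R] (S : Type u) [CommRing S]
    [Algebra R S] [Algebra.Smooth R S] [IsReduced R] : IsReduced S := by
  have : Smooth (Spec.map (CommRingCat.ofHom (algebraMap R S))) :=
    (HasRingHomProperty.Spec_iff (P := @Smooth)).2 (RingHom.smooth_algebraMap.2 inferInstance)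
  have := isReduced_of_smooth (Spec.map (CommRingCat.ofHom (algebraMap R S)))
  exact (affine_isReduced_iff (CommRingCat.of S)).1 this

end Groth.Agent.S9407
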