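import Groth.Statements.S0539
import Groth.Agent.HenselLib.HenselizationExists

set_option autoImplicit false
universe u
open Hensel

namespace Groth.Agent.S0539

/-- A strict henselization S of a local ring R is a faithfully flat R-algebra. -/
theorem result (R : Type u) [CommRing R] [IsLocalRing R] (S : Type u) [CommRing S] [IsLocalRing S]
    [Algebra R S] [IsLocalHom (algebraMap R S)] [Hensel.IsStrictHenselization R S] :
    Module.FaithfullyFlat R S := by
  obtain ⟨e⟩ := HenselLib.nonempty_algEquiv_SH (R := R) S
  haveI : Module.Flat R (HenselLib.SH R) := HenselLib.flat_hens _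
  exact HenselLib.faithfullyFlat_of_algEquiv e

end Groth.Agent.S0539
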