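import Groth.Statements.S9634
import Mathlib.RingTheory.Nilpotent.GeometricallyReduced
import Mathlib.FieldTheory.PurelyInseparable.PerfectClosure
import Mathlib.RingTheory.TensorProduct.Maps
import Groth.Agent.HopfFFLib.Nilradical
-- import your own Groth.Agent.* helpers here

set_option autoImplicit false
set_option linter.style.haveILetI false
universe u
open CAlg

namespace Groth.Agent.S9634

open TensorProduct in
/-- (1) ⇔ (4) ⇔ (5): for a field k and a k-algebra S the following are equivalent: (1) the ring k' ⊗_k S
is reduced whenever k'/k is a finite purely inseparable field extension; (4) S is geometrically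
reduced in Mathlib's sense, which over a field amounts to k̄ ⊗_k S being reduced for an algebraic
closure k̄; (5) K ⊗_k S is reduced for all field extensions K/k. In (1) and (5) the test fields
range over field extensions in the universe of k; this is equivalent to the unrestricted notion,
since an algebraic closure of k suffices as a test. -/
theorem result {k S : Type u} [Field k] [CommRing S] [Algebra k S] :
    [∀ (k' : Type u) [Field k'] [Algebra k k'] [Module.Finite k k'] [IsPurelyInseparable k k'], IsReduced (k' ⊗[k] S),
      Algebra.IsGeometricallyReduced k S,
      ∀ (K : Type u) [Field K] [Algebra k K], IsReduced (K ⊗[k] S)].TFAE := by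
  -- base change of a reduced algebra along an extension of a perfect field
  have up : ∀ (P E : Type u) [Field P] [PerfectField P] [Field E] [Algebra k P] [Algebra k E]
      [Algebra P E] [IsScalarTower k P E], IsReduced (P ⊗[k] S) → IsReduced (E ⊗[k] S) := by
    intro P E _ _ _ _ _ _ _ hP
    have := HopfFF.isReduced_tensor_of_perfectField P E (P ⊗[k] S)
    exact isReduced_of_injective (Algebra.TensorProduct.cancelBaseChange k P P E S).symm
      (AlgEquiv.injective _)
  tfae_have 3 → 1 := fun h k' _ _ _ _ => h k'
  tfae_have 2 → 3 := by
    intro h K _ _
    have hP : IsReduced (AlgebraicClosure k ⊗[k] S) :=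
      (Algebra.isGeometricallyReduced_field_iff k S).1 h
    let j : AlgebraicClosure k →ₐ[k] AlgebraicClosure K := IsAlgClosed.lift
    letI := j.toRingHom.toAlgebra
    haveI : IsScalarTower k (AlgebraicClosure k) (AlgebraicClosure K) :=
      IsScalarTower.of_algebraMap_eq fun x => (j.commutes x).symm
    have := up (AlgebraicClosure k) (AlgebraicClosure K) hP
    exact isReduced_of_injective
      (Algebra.TensorProduct.map (IsScalarTower.toAlgHom k K (AlgebraicClosure K)) (AlgHom.id k S))
      (Module.Flat.rTensor_preserves_injective_linearMap
        (IsScalarTower.toAlgHom k K (AlgebraicClosure K)).toLinearMap (RingHom.injective _))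
  tfae_have 1 → 2 := by
    intro h
    rw [Algebra.isGeometricallyReduced_field_iff]
    refine up (perfectClosure k (AlgebraicClosure k)) (AlgebraicClosure k) ?_
    suffices IsReduced (S ⊗[k] perfectClosure k (AlgebraicClosure k)) from
      isReduced_of_injective
        (Algebra.TensorProduct.comm k (perfectClosure k (AlgebraicClosure k)) S)
        (AlgEquiv.injective _)
    refine IsReduced.tensorProduct_of_flat_of_forall_fg fun C hC => ?_
    haveI : Algebra.IsIntegral k C := ⟨fun c =>
      (isIntegral_algHom_iff C.val Subtype.val_injective).1
        (Algebra.IsIntegral.isIntegral (c : perfectClosure k (AlgebraicClosure k)))⟩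
    haveI : Algebra.FiniteType k C := C.fg_iff_finiteType.1 hC
    haveI : Module.Finite k C := Algebra.IsIntegral.finite
    letI : Field C := (Subalgebra.isField_of_algebraic C).toField
    haveI : IsPurelyInseparable k C :=
      IsPurelyInseparable.tower_bot k C (perfectClosure k (AlgebraicClosure k))
    have := h C
    exact isReduced_of_injective (Algebra.TensorProduct.comm k S C) (AlgEquiv.injective _)
  tfae_finish

end Groth.Agent.S9634
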