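import Groth.Statements.S9635
import Groth.Agent.GeomRedFibLib.SepAlg
import Groth.Agent.S9634
-- import your own Groth.Agent.* helpers here

set_option autoImplicit false
universe u
open CAlg

namespace Groth.Agent.S9635

/-- Reducedness is local. -/
theorem isReduced_iff_ringP (R : Type u) [CommRing R] :
    IsReduced R ↔ GeomRedFibLib.RingP (fun S _ ↦ IsReduced S) R :=
  ⟨fun h p _ ↦ isReduced_localizationPreserves p.primeCompl (Localization.AtPrime p) h,
    fun h ↦ isReduced_ofLocalizationMaximal R fun m _ ↦ h m⟩

open TensorProduct in
/-- Let k ⊆ k' be fields with k' separable algebraic over k, and A a k'-algebra. Then A is geometrically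
reduced over k (K ⊗_k A reduced for all field extensions K/k) if and only if A is geometrically
reduced over k' (K ⊗_{k'} A reduced for all field extensions K/k'). Here the test fields K range
over field extensions (of k, respectively of k') in the common universe of k and k'; this is
equivalent to the unrestricted notions, since an algebraic closure of the base field suffices as a
test. -/
theorem result {k k' A : Type u} [Field k] [Field k'] [Algebra k k'] [Algebra.IsSeparable k k'] [CommRing A] [Algebra k' A] [Algebra k A] [IsScalarTower k k' A] :
    (∀ (K : Type u) [Field K] [Algebra k K], IsReduced (K ⊗[k] A)) ↔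
      ∀ (K : Type u) [Field K] [Algebra k' K], IsReduced (K ⊗[k'] A) := by
  have hc : ∀ (R S : Type u) [CommRing R] [CommRing S], (R ≃+* S) → IsReduced R → IsReduced S :=
    fun R S _ _ e h ↦ by haveI := h; exact isReduced_of_injective e.symm e.symm.injective
  have hred : ∀ (R : Type u) [CommRing R], IsReduced R ↔ GeomRedFibLib.RingP (fun S _ ↦ IsReduced S) R :=
    isReduced_iff_ringP
  constructor
  · intro h
    refine ((Groth.Agent.S9634.result (k := k') (S := A)).out 0 2).mp ?_
    intro L _ _ _ _
    exact (hred _).mpr (GeomRedFibLib.ringP_of_sep_down (P := fun S _ ↦ IsReduced S) hc k k' A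
      (fun M _ _ _ ↦ (hred _).mp (h M)) L)
  · intro h
    refine ((Groth.Agent.S9634.result (k := k) (S := A)).out 0 2).mp ?_
    intro L _ _ _ _
    exact (hred _).mpr (GeomRedFibLib.ringP_of_sep_up (P := fun S _ ↦ IsReduced S) hc k k' A
      (fun M _ _ _ ↦ (hred _).mp (h M)) L)

end Groth.Agent.S9635
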