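import Groth.Statements.S4366
import Mathlib

set_option autoImplicit false
universe u
open SchMor

namespace Groth.Agent.S4366

open AlgebraicGeometry in
open CategoryTheory in
open CategoryTheory.Limits in
/-- Let f : X -> Y be a morphism, y a point of Y and Z = Spec O_{Y,y} the local scheme of Y at y with
its canonical morphism to Y. Then the projection p : X x_Y Z -> X induces isomorphisms on all local
rings: for every point t of X x_Y Z the homomorphism O_{X, p t} -> O_{X x_Y Z, t} is bijective. (The
published statement also asserts that p is a homeomorphism onto the preimage of Z; that part is not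
stated here.) -/
theorem result
    {X Y : Scheme.{u}} (f : X ⟶ Y) (y : Y) (t : ↑(pullback f (Y.fromSpecStalk y))) :
    IsIso ((pullback.fst f (Y.fromSpecStalk y)).stalkMap t) := by
  have : Flat (Y.fromSpecStalk y) := by
    obtain ⟨U, hU, hy, -⟩ := exists_isAffineOpen_mem_and_subset (X := Y) (x := y) (U := ⊤) trivial
    rw [← hU.fromSpecStalk_eq_fromSpecStalk hy]
    have : Flat (Spec.map (Y.presheaf.germ U y hy)) := by
      rw [Flat.SpecMap_iff]
      let := Y.presheaf.algebra_section_stalk ⟨y, hy⟩
      have : IsLocalization.AtPrime (Y.presheaf.stalk y) (hU.primeIdealOf ⟨y, hy⟩).asIdeal :=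
        hU.isLocalization_stalk ⟨y, hy⟩
      exact RingHom.flat_algebraMap_iff.2 (IsLocalization.flat _ (hU.primeIdealOf ⟨y, hy⟩).asIdeal.primeCompl)
    rw [IsAffineOpen.fromSpecStalk]
    infer_instance
  let p := pullback.fst f (Y.fromSpecStalk y)
  have hfl : (p.stalkMap t).hom.Flat := Flat.stalkMap (f := p) t
  letI := (p.stalkMap t).hom.toAlgebra
  haveI : Module.Flat (X.presheaf.stalk (p t)) ((pullback f (Y.fromSpecStalk y)).presheaf.stalk t) := hfl
  haveI : IsLocalHom (algebraMap (X.presheaf.stalk (p t))
      ((pullback f (Y.fromSpecStalk y)).presheaf.stalk t)) :=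
    inferInstanceAs (IsLocalHom (p.stalkMap t).hom)
  haveI := Module.FaithfullyFlat.of_flat_of_isLocalHom
    (A := X.presheaf.stalk (p t)) (B := (pullback f (Y.fromSpecStalk y)).presheaf.stalk t)
  exact (ConcreteCategory.isIso_iff_bijective _).2
    ⟨FaithfulSMul.algebraMap_injective (X.presheaf.stalk (p t))
      ((pullback f (Y.fromSpecStalk y)).presheaf.stalk t), p.stalkMap_surjective t⟩

end Groth.Agent.S4366
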