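import Groth.Statements.S2052
import Groth.Agent.HenselBranchLib.Unibranch
import Groth.Agent.HenselLib.HenselizationExists
import Groth.Agent.S0508
import Groth.Agent.S0509
-- import your own Groth.Agent.* helpers here

set_option autoImplicit false
universe u
open CAlg

namespace Groth.Agent.S2052

/-- A local ring `A` is unibranch (its reduction is a domain with local integral closure) if and only if
the henselization of `A` has a unique minimal prime ideal. -/
theorem result {A Ah : Type u} [CommRing A] [IsLocalRing A]
    [CommRing Ah] [IsLocalRing Ah] [Algebra A Ah] [IsLocalHom (algebraMap A Ah)]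
    [Hensel.IsHenselization A Ah] :
    CAlg2.IsUnibranch A ↔ CAlgX.HasUniqueMinimalPrime Ah := by
  haveI : HenselianLocalRing Ah := Hensel.IsHenselization.henselian (R := A)
  haveI : Module.FaithfullyFlat A Ah := Groth.Agent.S0509.result A Ah
  obtain ⟨e⟩ := HenselLib.nonempty_algEquiv_HR (R := A) Ah
  have hcov := HenselLib.etCov_of_algEquiv e (HenselLib.etCov_hens _)
  have hres : ∀ s : Ah, ∃ a : A, s - algebraMap A Ah a ∈ IsLocalRing.maximalIdeal Ah := fun s => by
    obtain ⟨c, hc⟩ := (Groth.Agent.S0508.result A Ah).2 (IsLocalRing.residue Ah s)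
    obtain ⟨a, rfl⟩ := IsLocalRing.residue_surjective c
    refine ⟨a, (IsLocalRing.residue_eq_zero_iff _).1 ?_⟩
    rw [map_sub, ← hc]
    exact sub_self _
  exact HenselBranchLib.isUnibranch_iff A Ah hcov hres

end Groth.Agent.S2052
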