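import Groth.Statements.S2135
import Groth.Agent.HenselBranchLib.Unibranch
import Groth.Agent.HenselLib.HenselizationExists
import Groth.Agent.S0539
-- import your own Groth.Agent.* helpers here

set_option autoImplicit false
universe u
open CAlg

namespace Groth.Agent.S2135

/-- A local ring `A` is geometrically unibranch if and only if a strict henselization of `A` has a
unique minimal prime ideal. -/
theorem result {A Ash : Type u} [CommRing A] [IsLocalRing A]
    [CommRing Ash] [IsLocalRing Ash] [Algebra A Ash] [IsLocalHom (algebraMap A Ash)]
    [Hensel.IsStrictHenselization A Ash] :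
    CAlg2.IsGeomUnibranch A ↔ CAlgX.HasUniqueMinimalPrime Ash := by
  haveI : HenselianLocalRing Ash := Hensel.IsStrictHenselization.henselian (R := A)
  haveI := (Hensel.IsStrictHenselization.isSepClosure (R := A) (S := Ash)).sep_closed
  haveI : Module.FaithfullyFlat A Ash := Groth.Agent.S0539.result A Ash
  obtain ⟨e⟩ := HenselLib.nonempty_algEquiv_SH (R := A) Ash
  have hcov := HenselLib.etCov_of_algEquiv e (HenselLib.etCov_hens _)
  exact HenselBranchLib.isGeomUnibranch_iff A Ash hcov

end Groth.Agent.S2135
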