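/-
Groupoids in algebraic spaces on a field are geometrically unibranch.
-/
import Groth.Agent.AlgSpGrpDimLib
import Groth.Agent.HenselBranchLib.PunctSH
import Groth.Agent.HensFormalLib.Radicial
import Groth.Agent.HensFormalLib.Apps
import Groth.Agent.S2715
import Groth.Agent.S4366
import Groth.Agent.S9782
import Groth.Agent.S9236
import Groth.Agent.FibDimLib.Local
import Mathlib

set_option autoImplicit false
set_option backward.isDefEq.respectTransparency false
set_option backward.isDefEq.respectTransparency.types false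

noncomputable section
universe u
open CategoryTheory CategoryTheory.Limits AlgebraicGeometry TensorProduct
open AlgSp

namespace AlgSpGrpUnibLib

theorem gu_congr {R R' : CommRingCat.{u}} [IsLocalRing R] [IsLocalRing R'] (f : R ⟶ R') [IsIso f] :
    CAlg2.IsGeomUnibranch R ↔ CAlg2.IsGeomUnibranch R' :=
  ⟨HensFormalLib.isGeomUnibranch_of_ringEquiv _ _ (asIso f).commRingCatIsoToRingEquiv,
    HensFormalLib.isGeomUnibranch_of_ringEquiv _ _ (asIso f).commRingCatIsoToRingEquiv.symm⟩

theorem gu_stalk_congr {X : Scheme.{u}} {x y : X} (h : x = y) :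
    CAlg2.IsGeomUnibranch ↑(X.presheaf.stalk x) ↔ CAlg2.IsGeomUnibranch ↑(X.presheaf.stalk y) := by
  subst h; rfl

/-- Stalks of schemes geometrically unibranch, along étale maps. -/
theorem gu_etale {Z W : Scheme.{u}} (g : Z ⟶ W) [Etale g] (z : Z) :
    CAlg2.IsGeomUnibranch ↑(Z.presheaf.stalk z) ↔ CAlg2.IsGeomUnibranch ↑(W.presheaf.stalk (g.base z)) := by
  refine ⟨fun h => ?_, fun h => ?_⟩
  · algebraize [(g.stalkMap z).hom]
    haveI : IsLocalHom (algebraMap ↥(W.presheaf.stalk (g.base z)) ↥(Z.presheaf.stalk z)) :=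
      inferInstanceAs (IsLocalHom (g.stalkMap z).hom)
    haveI : Module.Flat ↥(W.presheaf.stalk (g.base z)) ↥(Z.presheaf.stalk z) := Flat.stalkMap g z
    exact HensFormalLib.isGeomUnibranch_of_faithfullyFlat _ _ h
  · rw [Groth.Agent.S9782.result] at h ⊢
    intro U f u hf hfu
    refine h U (f ≫ g) u inferInstance ?_
    rw [Scheme.Hom.comp_apply, hfu]

/-- Geometric unibranchness is insensitive to extensions of the base field. -/
theorem gu_baseChange_field {k K : Type u} [Field k] [Field K] {X W : Scheme.{u}}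
    (h : X ⟶ Spec (CommRingCat.of k)) (e : Spec (CommRingCat.of K) ⟶ Spec (CommRingCat.of k))
    (p : W ⟶ X) (q : W ⟶ Spec (CommRingCat.of K)) (sq : IsPullback p q h e) (w : W) :
    CAlg2.IsGeomUnibranch ↑(X.presheaf.stalk (p.base w)) ↔ CAlg2.IsGeomUnibranch ↑(W.presheaf.stalk w) := by
  letI : Algebra k K := (Spec.preimage e).hom.toAlgebra
  have he : e = Spec.map (CommRingCat.ofHom (algebraMap k K)) := (Spec.map_preimage e).symm
  set x := p.base w
  obtain ⟨φ, hφ⟩ : ∃ φ : CommRingCat.of k ⟶ X.presheaf.stalk x, Spec.map φ = X.fromSpecStalk x ≫ h :=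
    Spec.map_surjective _
  letI : Algebra k (X.presheaf.stalk x) := φ.hom.toAlgebra
  let T : Type u := (X.presheaf.stalk x : Type u) ⊗[k] K
  let P := pullback p (X.fromSpecStalk x)
  have sq' : IsPullback (pullback.snd p (X.fromSpecStalk x)) (pullback.fst p (X.fromSpecStalk x) ≫ q)
      (Spec.map (CommRingCat.ofHom (algebraMap k (X.presheaf.stalk x))))
      (Spec.map (CommRingCat.ofHom (algebraMap k K))) := by
    have := ((IsPullback.of_hasPullback p (X.fromSpecStalk x)).flip.paste_vert sq)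
    rw [← hφ, he] at this
    exact this
  let ε : P ≅ Spec (CommRingCat.of T) := sq'.isoPullback ≪≫ pullbackSpecIso k (X.presheaf.stalk x) K
  let ι₀ : (X.presheaf.stalk x : Type u) →+* T := Algebra.TensorProduct.includeLeftRingHom
  have hι₀ : algebraMap (X.presheaf.stalk x) T = ι₀ :=
    RingHom.ext fun a => Algebra.TensorProduct.algebraMap_apply a
  have hε : ε.hom ≫ Spec.map (CommRingCat.ofHom ι₀) =
      pullback.snd p (X.fromSpecStalk x) := by
    simp only [ε, T, ι₀, Iso.trans_hom, Category.assoc]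
    rw [← pullbackSpecIso_inv_fst k (X.presheaf.stalk x) K, Iso.hom_inv_id_assoc, IsPullback.isoPullback_hom_fst]
  obtain ⟨z, hz1, hz2⟩ := Scheme.Pullback.exists_preimage_pullback (f := p) (g := X.fromSpecStalk x) w
    (IsLocalRing.closedPoint (X.presheaf.stalk x)) (Scheme.fromSpecStalk_closedPoint).symm
  haveI := Groth.Agent.S4366.result p x z
  rw [gu_stalk_congr hz1.symm, gu_congr ((pullback.fst p (X.fromSpecStalk x)).stalkMap z),
    ← gu_congr (ε.hom.stalkMap z)]
  let Q : PrimeSpectrum T := ε.hom.base z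
  have hQ : Q.asIdeal.comap (algebraMap (X.presheaf.stalk x) T) = IsLocalRing.maximalIdeal _ := by
    have h1 : (Spec.map (CommRingCat.ofHom ι₀)).base (ε.hom.base z) =
        IsLocalRing.closedPoint (X.presheaf.stalk x) := by
      exact (Scheme.Hom.comp_apply _ _ _).symm.trans ((congrArg (fun f : P ⟶ Spec (X.presheaf.stalk x) => f.base z) hε).trans hz2)
    rw [hι₀]; exact congrArg PrimeSpectrum.asIdeal h1
  refine (Groth.Agent.S2715.result k (X.presheaf.stalk x) K Q.asIdeal hQ).trans ?_
  let i : CommRingCat.of (Localization.AtPrime Q.asIdeal) ≅ (Spec (CommRingCat.of T)).presheaf.stalk Q :=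
    (IsLocalization.algEquiv Q.asIdeal.primeCompl (Localization.AtPrime Q.asIdeal)
      ((Spec.structureSheaf T).presheaf.stalk Q)).toRingEquiv.toCommRingCatIso
  exact gu_congr i.hom

/-- A maximal point is geometrically unibranch. -/
theorem gu_of_maximal {X : Scheme.{u}} (η : X) (h : ∀ y, y ⤳ η → y = η) :
    CAlg2.IsGeomUnibranch ↑(X.presheaf.stalk η) := by
  refine HenselBranchLib.isGeomUnibranch_of_dim_zero _ fun p hp => ?_
  let P : ↥(Spec (X.presheaf.stalk η)) := ⟨p, hp⟩
  have hP : (X.fromSpecStalk η).base P ⤳ η := by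
    have : (X.fromSpecStalk η).base P ∈ Set.range (X.fromSpecStalk η).base := ⟨P, rfl⟩
    rwa [Scheme.range_fromSpecStalk] at this
  have h2 := h _ hP
  have h3 : P = IsLocalRing.closedPoint (X.presheaf.stalk η) := by
    refine (X.fromSpecStalk η).isEmbedding.injective ?_
    rw [h2]
    exact Scheme.fromSpecStalk_closedPoint.symm
  exact congrArg PrimeSpectrum.asIdeal h3

variable {S : Scheme.{u}} {B : AlgSp.Sp S} (G : AlgSp.GroupoidSp B) (k : Type u) [Field k]
  (σ : Spec (CommRingCat.of k) ⟶ S) (eU : G.U ≅ (AlgSp.yon S).obj (Over.mk σ))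

include k σ eU

theorem hasAt_gu (hR : AlgSp.IsAlgSpace G.R) (r : AlgSp.Points G.R) :
    AlgSp.HasAt (fun V v => Brnch.numGeomBranchesAt V v = 1) G.R r := by
  obtain ⟨U, p, hp, hp'⟩ := hR.atlas
  obtain ⟨x, rfl⟩ := AlgSpLib.map_surjective_of_repWith hp' r
  refine ⟨U, p, AlgSp.Points.toScheme U x, hp, ?_, ?_⟩
  · conv_rhs => rw [← AlgSp.Points.ofScheme_toScheme U x]
    rw [AlgSp.Points.map_ofPt, Category.id_comp]
  refine (Groth.Agent.S9236.result _).2 ?_
  set u := AlgSp.Points.toScheme U x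
  obtain ⟨η, hη, hηu⟩ := DvrDomLib.exists_generic_specializes u
  obtain ⟨h, hh⟩ := (AlgSp.yon S).map_surjective (p ≫ G.s ≫ eU.hom)
  obtain ⟨K, _, w, e₁, e₂, W₁, W₂, Z, p₁, q₁, p₂, q₂, z₁, z₂, z, sq₁, sq₂, _, _, f1, f2⟩ :=
    AlgSpGrpDimLib.exists_common G k σ eU p p hp hp u η h hh h hh
  rw [gu_stalk_congr f1.symm, gu_baseChange_field h.left e₁.left p₁.left q₁.left (sq₁.map (Over.forget S)),
    ← gu_etale z₁.left z, gu_etale z₂.left z,
    ← gu_baseChange_field h.left e₂.left p₂.left q₂.left (sq₂.map (Over.forget S)), gu_stalk_congr f2]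
  exact gu_of_maximal η fun y hy => FibDimLib.eq_of_specializes_of_closure_mem hη hy

end AlgSpGrpUnibLib
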