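import Groth.Statements.S10235
import Groth.Agent.GrpdLib.Quot.Props
import Groth.Agent.GrpdLib.QuotSheaf

set_option autoImplicit false
universe u
open CategoryTheory CategoryTheory.Limits AlgebraicGeometry Topology TopologicalSpace
open AlgSp

namespace Groth.Agent.S10235

theorem exists_surjective_quotient {S : Scheme.{u}} (G : Grpd.GroupoidScheme S)
    (hs : Mor2.IsFinLocFree G.s) (ht : Mor2.IsFinLocFree G.t)
    (heq : AlgSp.IsEqvRel (Over.homMk G.s G.s_over : Over.mk G.pR ⟶ Over.mk G.pU) (Over.homMk G.t G.t_over : Over.mk G.pR ⟶ Over.mk G.pU))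
    (h3 : ∀ Z : Set ↥G.U, IsClosed Z → Z.Nonempty →
      ∃ u ∈ Z, ∃ W : G.U.Opens, IsAffineOpen W ∧ ∀ r : ↥G.R, G.s r = u → G.t r ∈ W) :
    ∃ (M : Over S) (m : Over.mk G.pU ⟶ M), Mor2.IsFinLocFree m.left ∧ IsPullback G.t G.s m.left m.left ∧ Surjective m.left ∧
      QuotSh.IsQuotient Scheme.fppfPrecoverage (Over.homMk G.s G.s_over : Over.mk G.pR ⟶ Over.mk G.pU) (Over.homMk G.t G.t_over : Over.mk G.pR ⟶ Over.mk G.pU) m := by
  obtain ⟨_, _, _⟩ := hs
  have : Mono G.j := by
    refine ⟨fun {T} a b hab => ?_⟩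
    have h1 : a ≫ G.t = b ≫ G.t := by
      have := congrArg (· ≫ pullback.fst G.pU G.pU) hab
      simpa only [Grpd.GroupoidScheme.j, Category.assoc, pullback.lift_fst] using this
    have h2 : a ≫ G.s = b ≫ G.s := by
      have := congrArg (· ≫ pullback.snd G.pU G.pU) hab
      simpa only [Grpd.GroupoidScheme.j, Category.assoc, pullback.lift_snd] using this
    have hb : b ≫ G.pR = a ≫ G.pR := by rw [← G.s_over, reassoc_of% h2]
    exact congrArg CommaMorphism.left (heq.injective (Over.mk (a ≫ G.pR)) (Over.homMk a rfl)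
      (Over.homMk b hb) (Over.OverMorphism.ext h1) (Over.OverMorphism.ext h2))
  -- the points with class in an affine open form an invariant open
  let A : Set G.U := {x | ∃ V : G.U.Opens, IsAffineOpen V ∧ ∀ y, GrpdLib.Rel G x y → y ∈ V}
  have hA : IsOpen A := by
    rw [isOpen_iff_forall_mem_open]
    rintro x ⟨V, hV, hxV⟩
    obtain ⟨W, hW, hxW, -, hinv⟩ := GrpdLib.exists_invariant_affine G x ⊤ rfl trivial V hV hxV
    exact ⟨W, fun z hz => ⟨W, hW, fun y hy =>
      (GrpdLib.opens_preimage_eq_iff G W).mp hinv z y hy hz⟩, W.isOpen, hxW⟩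
  have hall : ∀ x, x ∈ A := by
    by_contra hne
    push_neg at hne
    obtain ⟨u, hu, W, hW, huW⟩ := h3 Aᶜ hA.isClosed_compl hne
    exact hu ⟨W, hW, fun y ⟨r, hr, hr'⟩ => hr' ▸ huW r hr⟩
  obtain ⟨Y, p, hp, -, -, -, hmono, -⟩ := GrpdLib.exists_quotient G hall
  obtain ⟨hpb, _, _, _⟩ := hmono inferInstance
  have hpU : G.t ≫ G.pU = G.s ≫ G.pU := G.t_over.trans G.s_over.symm
  obtain ⟨π, hπ, -⟩ := hp.existsUnique_desc G G.pU hpU
  refine ⟨Over.mk π, Over.homMk p hπ, ⟨‹IsFinite p›, ‹Flat p›, ‹LocallyOfFinitePresentation p›⟩, hpb, ⟨hp.surj⟩, ?_⟩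
  have : Flat (Over.homMk p hπ : Over.mk G.pU ⟶ Over.mk π).left := ‹Flat p›
  have : LocallyOfFinitePresentation (Over.homMk p hπ : Over.mk G.pU ⟶ Over.mk π).left :=
    ‹LocallyOfFinitePresentation p›
  have : Surjective (Over.homMk p hπ : Over.mk G.pU ⟶ Over.mk π).left := ⟨hp.surj⟩
  exact GrpdLib.isQuotient_of_isPullback _ _ _ hpb


/-- Let (U, R, s, t, c) be a groupoid scheme over a scheme S whose source and target maps s, t : R ⟶ U
are finite locally free and whose map j = (t, s) is an equivalence relation, and suppose that in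
each nonempty closed subset of U one can find a point u such that some affine open of U contains the
whole equivalence class t(s⁻¹{u}) of u. Then there are a scheme M over S and a finite locally free
morphism U ⟶ M over S such that the square with the two maps t, s : R ⟶ U over U ⟶ M is cartesian (R
= U ×_M U) and U ⟶ M exhibits h_M as the quotient of h_U by the pair h_R ⇉ h_U in the category of
fppf sheaves. -/
theorem result {S : Scheme.{u}} (G : Grpd.GroupoidScheme S)
    (hs : Mor2.IsFinLocFree G.s) (ht : Mor2.IsFinLocFree G.t)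
    (heq : AlgSp.IsEqvRel (Over.homMk G.s G.s_over : Over.mk G.pR ⟶ Over.mk G.pU) (Over.homMk G.t G.t_over : Over.mk G.pR ⟶ Over.mk G.pU))
    (h3 : ∀ Z : Set ↥G.U, IsClosed Z → Z.Nonempty →
      ∃ u ∈ Z, ∃ W : G.U.Opens, IsAffineOpen W ∧ ∀ r : ↥G.R, G.s r = u → G.t r ∈ W) :
    ∃ (M : Over S) (m : Over.mk G.pU ⟶ M), Mor2.IsFinLocFree m.left ∧ IsPullback G.t G.s m.left m.left ∧
      QuotSh.IsQuotient Scheme.fppfPrecoverage (Over.homMk G.s G.s_over : Over.mk G.pR ⟶ Over.mk G.pU) (Over.homMk G.t G.t_over : Over.mk G.pR ⟶ Over.mk G.pU) m := by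
  obtain ⟨M, m, h1, h2, -, h4⟩ := exists_surjective_quotient G hs ht heq h3
  exact ⟨M, m, h1, h2, h4⟩

end Groth.Agent.S10235
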