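import Groth.Statements.S10771
import Groth.Agent.AlgSpPerfLib.SliceQc

set_option autoImplicit false
set_option backward.isDefEq.respectTransparency false
set_option backward.isDefEq.respectTransparency.types false
set_option maxHeartbeats 2000000
set_option synthInstance.maxHeartbeats 200000
universe u
open CategoryTheory CategoryTheory.Limits AlgebraicGeometry
attribute [local instance] HasDerivedCategory.standard
open AlgSp

namespace Groth.Agent.S10771

open Groth.Agent

/-- A module on `X` has a presentation over every affine object over one where it is the cohomology of a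
strictly perfect complex. -/
theorem exists_presentation {S : Scheme.{u}} {X : AlgSp.Sp S} {V W : AlgSp.EtOver X} (g : W ⟶ V)
    [IsAffine W.obj.left.left] (M : AlgSp.ModEt X) (E : CochainComplex (AlgSp.ModEtOn V) ℤ)
    (hE : DCoh.IsStrictlyPerfectMod (AlgSp.OEtOn V) E) (i : ℤ) (e : M.over V ≅ E.homology i) :
    Nonempty (M.over W).Presentation := by
  let R := SheafOfModules.overMap.{u + 1} (AlgSp.OEtRing X) g
  haveI : R.IsLeftAdjoint := (SheafOfModules.overMapPushforwardAdj (AlgSp.OEtRing X) g).isLeftAdjoint
  haveI : R.Additive := ⟨by intros; rfl⟩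
  haveI : PreservesFiniteLimits R := AlgSpPerfLib.preservesFiniteLimits_overMap g
  haveI : PreservesFiniteColimits R := inferInstance
  let K := (R.mapHomologicalComplex (ComplexShape.up ℤ)).obj E
  have hX : ∀ j, ModEtQc.IsTilde (K.X j) := fun j => by
    obtain ⟨n, a, b, hab⟩ := hE.2 j
    let c := (SheafOfModules.mapFreeIso.{u + 1} R (ULift.{u + 1} (Fin n)) (SheafOfModules.overMapUnitIso g).symm).symm
    refine AlgSpPerfLib.isTilde_summand ⟨n, R.map a ≫ c.hom, c.inv ≫ R.map b, ?_⟩
    rw [Category.assoc, Iso.hom_inv_id_assoc, ← R.map_comp, hab, R.map_id]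
    rfl
  refine ModEtQc.exists_presentation_of_isTilde
    (ModEtQc.isTilde_of_iso ?_ (AlgSpPerfLib.isTilde_homology K hX i))
  exact (E.sc i).mapHomologyIso R ≪≫ R.mapIso e.symm ≪≫
    (SheafOfModules.overFunctorMap (AlgSp.OEtRing X) g).app M


/-- Let X be an algebraic space over S and E an m-pseudo-coherent object of D(O_X) (modules on the small
etale site). Then H^i(E) is a quasi-coherent O_X-module for every i > m. In particular a
pseudo-coherent object has quasi-coherent cohomology sheaves. -/
theorem result {S : Scheme.{u}} (X : AlgSp.Space S) (m : ℤ)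
    (E : AlgSp.DModEt X.obj) (hE : AlgSp.IsPseudoCoherentEtD m E) (i : ℤ) (hi : m < i) :
    (DCoh.HDMod (AlgSp.OEtRing X.obj) E i).IsQuasicoherent := by
  let I := {W : AlgSp.EtOver X.obj // Nonempty ((DCoh.HDMod (AlgSp.OEtRing X.obj) E i).over W).Presentation}
  have hc : (AlgSp.etTop X.obj).CoversTop (fun W : I => W.1) := by
    intro U
    obtain ⟨ι, V, g, hg, hV⟩ := hE U
    rw [AlgSp.ofArrows_mem_etPre_iff] at hg
    choose κ Y h hY hh using fun k => ModEtQc.exists_affine_cover (V k)
    refine (AlgSp.etTop X.obj).superset_covering ?_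
      (AlgSp.ofArrows_mem_etTop (fun q : Σ k, κ k => Y q.1 q.2) (fun q => h q.1 q.2 ≫ g q.1) fun x => by
        obtain ⟨k, v, rfl⟩ := hg x
        obtain ⟨l, y, rfl⟩ := hh k v
        exact ⟨⟨k, l⟩, y, rfl⟩)
    rw [Sieve.generate_le_iff]
    intro Z q hq
    obtain ⟨⟨k, l⟩⟩ := hq
    obtain ⟨P, α, hP, hα, -⟩ := hV k
    haveI := hα i hi
    haveI := hY k l
    exact ⟨⟨_, exists_presentation (h k l) _ P hP i
      (((DerLib.ExactHomology.homologyIso (AlgSp.resModEt (V k)) i).app E).symm ≪≫
        (asIso ((DerivedCategory.homologyFunctor _ i).map α)).symm ≪≫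
        (DerivedCategory.homologyFunctorFactors _ i).app P)⟩, ⟨𝟙 _⟩⟩
  exact SheafOfModules.QuasicoherentData.isQuasicoherent (M := DCoh.HDMod (AlgSp.OEtRing X.obj) E i)
    { I := I
      X := fun W => W.1
      coversTop := hc
      presentation := fun W => W.2.some }

end Groth.Agent.S10771
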