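import Groth.Statements.S10139
import Mathlib
import Groth.Agent.QFSectLib.SliceEqv
import Groth.Agent.AlgSpLib.Bootstrap
import Groth.Agent.GrpdLib.QuotSheaf
-- import your own Groth.Agent.* helpers here

set_option autoImplicit false
universe u
open CategoryTheory CategoryTheory.Limits AlgebraicGeometry
open AlgSp

namespace Groth.Agent.S10139

/-- Take an equivalence relation `j : R ⟶ U ×_S U` of schemes over `S`, with `s, t` flat and locally of
finite presentation. Then there exist an equivalence relation `j' : R' ⟶ U' ×_S U'` on schemes over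
`S` with `s', t'` flat, locally of finite presentation and locally quasi-finite, and a morphism `U'
⟶ U` mapping `R'` into `R` which induces an isomorphism of fppf quotient sheaves `U'/R' ⟶ U/R`. -/
theorem result (S : Scheme.{u}) {R U : Over S} (s t : R ⟶ U)
    (h : AlgSp.IsEqvRel s t) [Flat s.left] [LocallyOfFinitePresentation s.left]
    [Flat t.left] [LocallyOfFinitePresentation t.left] :
    ∃ (R' U' : Over S) (s' t' : R' ⟶ U') (g : U' ⟶ U) (r : R' ⟶ R)
      (ψ : QuotSh.quot Scheme.fppfPrecoverage s' t' ⟶ QuotSh.quot Scheme.fppfPrecoverage s t),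
      AlgSp.IsEqvRel s' t' ∧ r ≫ s = s' ≫ g ∧ r ≫ t = t' ≫ g ∧
      Flat s'.left ∧ LocallyOfFinitePresentation s'.left ∧ LocallyQuasiFinite s'.left ∧
      Flat t'.left ∧ LocallyOfFinitePresentation t'.left ∧ LocallyQuasiFinite t'.left ∧
      QuotSh.quotπ Scheme.fppfPrecoverage s' t' ≫ ψ = QuotSh.repMap Scheme.fppfPrecoverage g ≫ QuotSh.quotπ Scheme.fppfPrecoverage s t ∧ IsIso ψ := by
  haveI : Flat s.left := inferInstance
  have hrel : QFSectLib.IsRel s.left t.left := by
    refine ⟨fun T a b h1 h2 => ?_, ?_, fun T a => ?_, fun T a b hab => ?_⟩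
    · have e : b ≫ R.hom = a ≫ R.hom := by rw [← Over.w s, reassoc_of% h1]
      exact congrArg CommaMorphism.left (h.injective (Over.mk (a ≫ R.hom)) (Over.homMk a rfl) (Over.homMk b e)
        (Over.OverMorphism.ext h2) (Over.OverMorphism.ext h1))
    · obtain ⟨e, h1, h2⟩ := (h.equivalence U).refl (𝟙 U)
      exact ⟨e.left, congrArg CommaMorphism.left h2, congrArg CommaMorphism.left h1⟩
    · obtain ⟨b, h1, h2⟩ := (h.equivalence (Over.mk (a ≫ R.hom))).symm ⟨Over.homMk a rfl, rfl, rfl⟩
      exact ⟨b.left, congrArg CommaMorphism.left h1, congrArg CommaMorphism.left h2⟩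
    · have e : b ≫ R.hom = a ≫ R.hom := by
        conv_lhs => rw [← Over.w t]
        rw [← reassoc_of% hab, Over.w s]
      let T' : Over S := Over.mk (a ≫ R.hom)
      let α : T' ⟶ R := Over.homMk a rfl
      let β : T' ⟶ R := Over.homMk b e
      obtain ⟨c, h1, h2⟩ := (h.equivalence T').trans (x := α ≫ t) (y := α ≫ s) (z := β ≫ s) ⟨α, rfl, rfl⟩
        ⟨β, Over.OverMorphism.ext hab.symm, rfl⟩
      exact ⟨c.left, congrArg CommaMorphism.left h1, congrArg CommaMorphism.left h2⟩
  obtain ⟨W, g₁, -, hhf, hhp, hhq, hhs⟩ := QFSectLib.exists_qf_slices hrel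
  let U' : Over S := Over.mk (g₁ ≫ U.hom)
  let g : U' ⟶ U := Over.homMk g₁ rfl
  let P : Over S := Over.mk (pullback.fst g₁ t.left ≫ U'.hom)
  let p₁ : P ⟶ U' := Over.homMk (pullback.fst g₁ t.left) rfl
  let p₂ : P ⟶ R := Over.homMk (pullback.snd g₁ t.left) (by
    show pullback.snd g₁ t.left ≫ R.hom = pullback.fst g₁ t.left ≫ g₁ ≫ U.hom
    rw [← Over.w t, pullback.condition_assoc])
  let h' : P ⟶ U := p₂ ≫ s
  have sqP : IsPullback p₁ p₂ g t :=
    IsPullback.of_map (Over.forget S) (Over.OverMorphism.ext pullback.condition) (IsPullback.of_hasPullback g₁ t.left)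
  let R' : Over S := Over.mk (pullback.snd h'.left g.left ≫ U'.hom)
  let s' : R' ⟶ U' := Over.homMk (pullback.snd h'.left g.left) rfl
  let q : R' ⟶ P := Over.homMk (pullback.fst h'.left g.left) (by
    show pullback.fst h'.left g.left ≫ P.hom = pullback.snd h'.left g.left ≫ U'.hom
    rw [← Over.w h', ← Over.w g, pullback.condition_assoc])
  have sqR : IsPullback q s' h' g :=
    IsPullback.of_map (Over.forget S) (Over.OverMorphism.ext pullback.condition) (IsPullback.of_hasPullback h'.left g.left)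
  let t' : R' ⟶ U' := q ≫ p₁
  let Y := AlgSp.yon S
  let F : Y.obj U' ⟶ QuotSh.quot Scheme.fppfPrecoverage s t := Y.map g ≫ AlgSpLib.qπ s t
  -- the kernel pair of the new atlas
  have sq₁ : IsPullback (Y.map p₁) (Y.map h') F (AlgSpLib.qπ s t) := by
    have := (sqP.map Y).paste_vert (AlgSpLib.isPullback_qπ s t h)
    rwa [← Functor.map_comp] at this
  have sq₂ : IsPullback (Y.map t') (Y.map s') F F := by
    have := (sqR.map Y).paste_horiz sq₁
    rwa [← Functor.map_comp] at this
  have hinj : ∀ (T : Over S) (r r' : T ⟶ R'), r ≫ t' = r' ≫ t' → r ≫ s' = r' ≫ s' → r = r' := fun T r r' h1 h2 =>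
    Y.map_injective (sq₂.hom_ext (by rw [← Functor.map_comp, ← Functor.map_comp, h1])
      (by rw [← Functor.map_comp, ← Functor.map_comp, h2]))
  have hlift : ∀ (T : Over S) (a b : T ⟶ U'), Y.map a ≫ F = Y.map b ≫ F → ∃ r, r ≫ t' = a ∧ r ≫ s' = b :=
    fun T a b hab => by
    obtain ⟨r, hr⟩ := Y.map_surjective (sq₂.lift _ _ hab)
    exact ⟨r, Y.map_injective (by rw [Functor.map_comp, hr, sq₂.lift_fst]),
      Y.map_injective (by rw [Functor.map_comp, hr, sq₂.lift_snd])⟩
  have hkey : ∀ (T : Over S) (a b : T ⟶ U'), (∃ r, r ≫ t' = a ∧ r ≫ s' = b) → Y.map a ≫ F = Y.map b ≫ F := by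
    rintro T _ _ ⟨r, rfl, rfl⟩
    rw [Y.map_comp r t', Y.map_comp r s', Category.assoc, Category.assoc, sq₂.w]
  have heqv : AlgSp.IsEqvRel s' t' := ⟨hinj, fun T => ⟨fun a => hlift T a a rfl,
    fun h1 => hlift T _ _ (hkey T _ _ h1).symm, fun h1 h2 => hlift T _ _ ((hkey T _ _ h1).trans (hkey T _ _ h2))⟩⟩
  haveI hs1 : Flat s'.left := MorphismProperty.pullback_snd _ _ (show Flat h'.left from hhf)
  haveI hs2 : LocallyOfFinitePresentation s'.left := MorphismProperty.pullback_snd _ _ (show LocallyOfFinitePresentation h'.left from hhp)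
  haveI hs3 : LocallyQuasiFinite s'.left := MorphismProperty.pullback_snd _ _ (show LocallyQuasiFinite h'.left from hhq)
  obtain ⟨e, he₁, he₂⟩ := hlift R' s' t' (hkey R' _ _ ⟨𝟙 R', Category.id_comp _, Category.id_comp _⟩).symm
  have hee : e ≫ e = 𝟙 R' := hinj R' _ _ (by rw [Category.assoc, he₁, he₂, Category.id_comp])
    (by rw [Category.assoc, he₂, he₁, Category.id_comp])
  haveI : IsIso e := ⟨e, hee, hee⟩
  haveI : IsIso e.left := inferInstanceAs (IsIso ((Over.forget S).map e))
  have het : t'.left = e.left ≫ s'.left := by rw [← Over.comp_left, he₂]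
  -- the comparison
  have hcov : Sheaf.IsLocallySurjective (Y.map h') := by
    haveI : Flat h'.left := hhf
    haveI : LocallyOfFinitePresentation h'.left := hhp
    haveI : Surjective h'.left := hhs
    exact AlgSpLib.isLocallySurjective_yon_map h'
  haveI hFepi : Epi F := by
    haveI : Epi (Y.map h') := (Sheaf.isLocallySurjective_iff_epi _).mp hcov
    haveI : Epi (AlgSpLib.qπ s t) := (Sheaf.isLocallySurjective_iff_epi _).mp inferInstance
    haveI : Epi (Y.map p₁ ≫ F) := by rw [sq₁.w]; infer_instance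
    exact epi_of_epi (Y.map p₁) F
  haveI : IsRegularEpiCategory (AlgSp.Sp S) := inferInstanceAs (IsRegularEpiCategory (Sheaf _ _))
  haveI : IsRegularEpi F := IsRegularEpiCategory.regularEpiOfEpi _
  have hc := isColimitCoforkOfEffectiveEpi F sq₂.cone sq₂.isLimit
  let K := Scheme.fppfPrecoverage.{u}
  let i := fun V : Over S => QuotSh.repIsoUliftYoneda Scheme.fppfPrecoverage V
  let ψ : QuotSh.quot K s' t' ⟶ QuotSh.quot K s t := coequalizer.desc (QuotSh.repMap K g ≫ QuotSh.quotπ K s t) (by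
    have key : ∀ f : R' ⟶ U', QuotSh.repMap K f ≫ QuotSh.repMap K g ≫ QuotSh.quotπ K s t =
        (i R').hom ≫ Y.map f ≫ F := fun f => by
      simp only [F, AlgSpLib.qπ, i, K, Y]
      rw [← reassoc_of% (AlgSpLib.repIso_naturality f), ← reassoc_of% (AlgSpLib.repIso_naturality g), Iso.hom_inv_id_assoc]
    rw [key, key, sq₂.w])
  have hψπ : QuotSh.quotπ K s' t' ≫ ψ = QuotSh.repMap K g ≫ QuotSh.quotπ K s t := coequalizer.π_desc _ _
  let φ : QuotSh.quot K s t ⟶ QuotSh.quot K s' t' :=
    hc.desc (Cofork.ofπ (AlgSpLib.qπ s' t') (AlgSpLib.qπ_condition s' t').symm)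
  have hφ : F ≫ φ = AlgSpLib.qπ s' t' := hc.fac _ WalkingParallelPair.one
  have hψ : AlgSpLib.qπ s' t' ≫ ψ = F := by
    simp only [F, AlgSpLib.qπ, Y]
    rw [Category.assoc, hψπ, ← Category.assoc, ← Category.assoc]
    congr 1
    rw [Iso.inv_comp_eq, ← Category.assoc, ← AlgSpLib.repIso_naturality g, Category.assoc, Iso.hom_inv_id,
      Category.comp_id]
  haveI : Epi (AlgSpLib.qπ s' t') := (Sheaf.isLocallySurjective_iff_epi _).mp inferInstance
  refine ⟨R', U', s', t', g, q ≫ p₂, ψ, heqv, ?_, ?_, hs1, hs2, hs3, ?_, ?_, ?_, hψπ, ⟨φ, ?_, ?_⟩⟩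
  · rw [Category.assoc]; exact sqR.w
  · rw [Category.assoc, ← sqP.w, ← Category.assoc]
  · rw [het]; infer_instance
  · rw [het]; infer_instance
  · rw [het]; infer_instance
  · rw [← cancel_epi (AlgSpLib.qπ s' t'), reassoc_of% hψ, hφ, Category.comp_id]
  · rw [← cancel_epi F, reassoc_of% hφ, hψ, Category.comp_id]

end Groth.Agent.S10139
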