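import Groth.Statements.S9881
import Groth.Agent.AlgSpLib.CoprodOpen

set_option autoImplicit false
universe u
open CategoryTheory CategoryTheory.Limits AlgebraicGeometry
open AlgSp

namespace Groth.Agent.S9881

/-- Let `F_i` be a family of algebraic spaces over `S` indexed by a type in the universe of `S`, so that
the coproduct of any chosen atlases exists as a scheme (this realizes the size condition of the
published statement). Then the coproduct `∐ F_i` in fppf sheaves of sets over `S` (any colimit
cofan) is an algebraic space over `S`. -/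
theorem result (S : Scheme.{u}) {ι : Type u} (F : ι → AlgSp.Sp S)
    (h : ∀ i, AlgSp.IsAlgSpace (F i)) (c : Cofan F) (hc : IsColimit c) : AlgSp.IsAlgSpace c.pt := by
  choose U a ha has using fun i => (h i).atlas
  let V : Over S := Over.mk (Sigma.desc fun i => (U i).hom : (∐ fun i => (U i).left) ⟶ S)
  let s : ∀ i, U i ⟶ V := fun i => Over.homMk (Sigma.ι (fun i => (U i).left) i) (Sigma.ι_desc _ _)
  have hs : ∀ i, IsOpenImmersion (s i).left := fun i =>
    inferInstanceAs (IsOpenImmersion (Sigma.ι (fun i => (U i).left) i))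
  have hcov : ∀ v : V.left, ∃ i, v ∈ Set.range (s i).left := fun v => by
    obtain ⟨i, x, hx⟩ := (sigmaOpenCover fun i => (U i).left).exists_eq v
    exact ⟨i, x, hx⟩
  have hdisj : ∀ i j, i ≠ j → Disjoint (Set.range (s i).left) (Set.range (s j).left) := fun i j hij =>
    Set.disjoint_left.2 fun v hi hj => by
      obtain ⟨x, rfl⟩ := hi
      obtain ⟨y, hy⟩ := hj
      obtain ⟨rfl⟩ := (sigmaι_eq_iff _ _ _ _ _).mp hy.symm
      exact hij rfl
  obtain ⟨hC⟩ := AlgSpLib.nonempty_isColimit_yon_cofan s hs hcov hdisj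
  let a' : (AlgSp.yon S).obj V ⟶ c.pt := Cofan.IsColimit.desc hC fun i => a i ≫ c.inj i
  have hfac : ∀ i, (AlgSp.yon S).map (s i) ≫ a' = a i ≫ c.inj i := fun i => Cofan.IsColimit.fac hC _ i
  have he : RepWith @Etale a' := by
    refine AlgSpLib.repWith_of_source_cover (fun i => (AlgSp.yon S).map (s i))
      (fun i => (repWith_yon_map_iff (P := (@IsOpenImmersion : MorphismProperty Scheme.{u})) (s i)).2 (hs i))
      (fun x => AlgSpLib.exists_mem_range_map_yon s hcov x) fun i => ?_
    rw [hfac]
    exact AlgSpLib.repWith_comp (ha i) (AlgSpLib.repWith_mono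
      (fun _ _ g (hg : IsOpenImmersion g ∧ IsClosedImmersion g) => haveI := hg.1; (inferInstance : Etale g))
      (AlgSpLib.repWith_inj c hc i))
  refine AlgSpLib.isAlgSpace_of_atlas a' he ((AlgSpLib.repWith_surjective_iff he.rep).2 fun x => ?_)
  obtain ⟨i, z, rfl⟩ := AlgSpLib.exists_mem_range_inj c hc x
  obtain ⟨u, rfl⟩ := AlgSpLib.surjective_ofPt (has i) z
  exact ⟨Points.ofPt ((AlgSp.yon S).map (s i)) u, by rw [Points.map_ofPt, hfac, Points.map_ofPt]⟩

end Groth.Agent.S9881
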