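import Groth.Statements.S8853

-- import your own Groth.Agent.* helpers here

set_option autoImplicit false
universe u
open CategoryTheory CategoryTheory.Limits AlgebraicGeometry TopologicalSpace
open SDiv

namespace Groth.Agent.S8853



/-- Let Z be a locally principal closed subscheme of a scheme S, with ideal sheaf 𝓘 generated by a
single section on some affine open neighbourhood of each point of its support, and let U be the open
complement of Z. Then the inclusion U ⟶ S is an affine morphism. -/
theorem result {S : Scheme.{u}} (𝓘 : S.IdealSheafData) (h : Curv2.IsLocPrincipal 𝓘) :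
    IsAffineHom (Scheme.Opens.ι 𝓘.support.compl) := by
  have key : ∀ x : S, ∃ W : S.affineOpens, x ∈ W.1 ∧ IsAffineOpen (W.1 ⊓ 𝓘.support.compl) := by
    intro x
    by_cases hx : x ∈ 𝓘.support
    · obtain ⟨W, hxW, f, hf⟩ := h x hx
      refine ⟨W, hxW, ?_⟩
      have e : W.1 ⊓ 𝓘.support.compl = S.basicOpen f := by
        refine Opens.ext (Set.ext fun y => ?_)
        constructor
        · rintro ⟨hyW, hy⟩
          have h1 : y ∉ S.zeroLocus (U := W.1) (𝓘.ideal W : Set Γ(S, W.1)) := fun h' =>
            hy ((Scheme.IdealSheafData.mem_support_iff_of_mem hyW).2 h')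
          rw [hf, Scheme.zeroLocus_span, Scheme.zeroLocus_singleton] at h1
          exact not_not.1 h1
        · intro hy
          refine ⟨S.basicOpen_le f hy, fun h' => ?_⟩
          have h1 := (Scheme.IdealSheafData.mem_support_iff_of_mem (S.basicOpen_le f hy)).1 h'
          rw [hf, Scheme.zeroLocus_span, Scheme.zeroLocus_singleton] at h1
          exact h1 hy
      rw [e]
      exact W.2.basicOpen f
    · obtain ⟨W, hW, hxW, hle⟩ := exists_isAffineOpen_mem_and_subset (x := x) (U := 𝓘.support.compl) hx
      refine ⟨⟨W, hW⟩, hxW, ?_⟩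
      rw [inf_eq_left.2 (show W ≤ 𝓘.support.compl from fun y hy => hle hy)]
      exact hW
  choose W hxW hW using key
  refine isAffineHom_of_forall_exists_isAffineOpen _ fun x => ⟨(W x).1, hxW x, (W x).2, ?_⟩
  rw [← Scheme.Hom.isAffineOpen_iff_of_isOpenImmersion (Scheme.Opens.ι 𝓘.support.compl),
    Scheme.Hom.image_preimage_eq_opensRange_inf, Scheme.Opens.opensRange_ι, inf_comm]
  exact hW x


end Groth.Agent.S8853
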