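import Groth.Statements.S1571
import Groth.Agent.MeroLib.Weak
import Groth.Agent.S8853

-- import your own Groth.Agent.* helpers here

set_option autoImplicit false
universe u
open CategoryTheory CategoryTheory.Limits AlgebraicGeometry
open Divisors

namespace Groth.Agent.S1571



/-- The open complement of an effective Cartier divisor is an affine open immersion and is
scheme-theoretically dense. -/
theorem result (S : Scheme.{u}) (D : S.IdealSheafData) (hD : BlowUp.IsEffCartierIdeal D) :
    IsAffineHom (Scheme.Opens.ι (X := S) D.support.compl) ∧ IsSchemeTheoreticallyDominant (Scheme.Opens.ι (X := S) D.support.compl) := by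
  have haff : IsAffineHom (Scheme.Opens.ι (X := S) D.support.compl) := Groth.Agent.S8853.result D fun x _ => by
    obtain ⟨U, hxU, f, -, hf⟩ := hD x
    exact ⟨U, hxU, f, hf⟩
  refine ⟨haff, ⟨?_⟩⟩
  haveI := haff
  ext V : 2
  rw [Scheme.Hom.ker_apply, Scheme.IdealSheafData.ideal_bot, Pi.bot_apply, ← RingHom.injective_iff_ker_eq_bot,
    injective_iff_map_eq_zero]
  intro a ha
  refine TopCat.Presheaf.section_ext S.sheaf V.1 a 0 fun x hx => ?_
  refine Eq.trans ?_ (map_zero _).symm
  obtain ⟨U, hxU, f, hf, hfU⟩ := hD x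
  obtain ⟨W, hW, hxW, hle'⟩ := exists_isAffineOpen_mem_and_subset (x := x) (U := V.1 ⊓ U.1) ⟨hx, hxU⟩
  have hWV : W ≤ V.1 := fun y hy => (hle' hy).1
  have hWU : W ≤ U.1 := fun y hy => (hle' hy).2
  let t : Γ(S, W) := S.presheaf.map (homOfLE hWU).op f
  have hreg : t ∈ Mero.regSub S W := Mero.regSub_res (homOfLE hWU) ((MeroLib.regSub_eq U.2).symm ▸ hf)
  haveI := hW.isLocalization_basicOpen t
  have h0 : algebraMap Γ(S, W) Γ(S, S.basicOpen t) (S.presheaf.map (homOfLE hWV).op a) = 0 := by
    refine TopCat.Presheaf.section_ext S.sheaf _ _ _ fun y hy => ?_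
    refine Eq.trans ?_ (map_zero _).symm
    have hyW := S.basicOpen_le t hy
    have hyC : y ∈ D.support.compl := fun hmem => by
      have h1 := (Scheme.IdealSheafData.mem_support_iff_of_mem (hWU hyW)).1 hmem
      rw [hfU, Scheme.zeroLocus_span, Scheme.zeroLocus_singleton] at h1
      refine h1 ?_
      have h2 := (S.mem_basicOpen t y hyW).1 hy
      exact (S.mem_basicOpen f y (hWU hyW)).2 ((TopCat.Presheaf.germ_res_apply S.presheaf _ y hyW f) ▸ h2)
    change S.presheaf.germ (S.basicOpen t) y hy (S.presheaf.map (homOfLE (S.basicOpen_le t)).op _) = 0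
    simp only [TopCat.Presheaf.germ_res_apply]
    let z : (D.support.compl : Scheme.{u}) := ⟨y, hyC⟩
    have h3 := (Scheme.Opens.ι (X := S) D.support.compl).germ_stalkMap_apply V.1 z (hWV hyW) a
    rw [show (Scheme.Opens.ι (X := S) D.support.compl).app V.1 a = 0 from ha, map_zero] at h3
    exact (ConcreteCategory.bijective_of_isIso ((Scheme.Opens.ι (X := S) D.support.compl).stalkMap z)).1
      (h3.trans (map_zero _).symm)
  obtain ⟨⟨_, n, rfl⟩, hn⟩ := IsLocalization.exists_of_eq (M := Submonoid.powers t) (h0.trans (map_zero _).symm)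
  have h4 := congrArg (S.presheaf.germ W x hxW) hn
  rw [map_mul, map_mul, map_pow, map_zero, mul_zero] at h4
  refine (TopCat.Presheaf.germ_res_apply S.presheaf (homOfLE hWV) x hxW a).symm.trans ?_
  exact (mul_left_mem_nonZeroDivisors_eq_zero_iff (pow_mem (hreg ⟨x, hxW⟩) n)).1 h4


end Groth.Agent.S1571
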