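import Groth.Statements.S1685
import Groth.Agent.FComplLib.Modules
import Groth.Agent.CommAlgDim.Depth
import Groth.Agent.CommAlgDim.CM

-- import your own Groth.Agent.* helpers here

set_option autoImplicit false
universe u
open CategoryTheory CategoryTheory.Limits AlgebraicGeometry TopologicalSpace
open SDiv

namespace Groth.Agent.S1685

open CommAlgDim IsLocalRing Pointwise RingTheory.Sequence in
theorem le_depth_quotient {R S : Type u} [CommRing R] [IsLocalRing R] [IsNoetherianRing R] [CommRing S] [IsLocalRing S]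
    [IsNoetherianRing S] (q : R →+* S) (hq : Function.Surjective q) (x : R) (hker : RingHom.ker q = Ideal.span {x})
    (hx : IsSMulRegular R x) (hxm : x ∈ maximalIdeal R) {n : ℕ} (h : ((n + 1 : ℕ) : ℕ∞) ≤ LocCoh.depth R R) :
    (n : ℕ∞) ≤ LocCoh.depth S S ∧ ringKrullDim S + 1 = ringKrullDim R := by
  let e : (R ⧸ Ideal.span {x}) ≃+* S := (Ideal.quotEquivOfEq hker.symm).trans (RingHom.quotientKerEquivOfSurjective hq)
  refine ⟨?_, by rw [← ringKrullDim_eq_of_ringEquiv e]; exact ringKrullDim_quotient_span_singleton_succ_eq_ringKrullDim hx hxm⟩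
  rw [le_depth_iff] at h ⊢
  obtain ⟨rs, hl, hm, hr⟩ := h.quotSMulTop hxm hx
  have hsub : (x • (⊤ : Submodule R R)) = Ideal.span {x} := by
    rw [← Submodule.ideal_span_singleton_smul, smul_eq_mul, Ideal.mul_top]
  let a : QuotSMulTop x R ≃+ S := (Submodule.quotEquivOfEq _ _ hsub).toAddEquiv.trans e.toAddEquiv
  haveI : IsLocalHom q := hq.isLocalHom q
  refine ⟨rs.map q, by simpa using hl, fun r hr' => ?_, ?_⟩
  · obtain ⟨r, hr1, rfl⟩ := List.mem_map.1 hr'
    exact fun hu => hm r hr1 (isUnit_of_map_unit q r hu)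
  · refine (AddEquiv.isWeaklyRegular_congr (e := a) ?_).1 hr
    rw [List.forall₂_map_right_iff, List.forall₂_same]
    intro r _ m
    obtain ⟨m, rfl⟩ := Submodule.Quotient.mk_surjective _ m
    show q (r * m) = q r * q m
    rw [map_mul]

open CommAlgDim IsLocalRing in
theorem sk_of_regular {R S : Type u} [CommRing R] [IsLocalRing R] [IsNoetherianRing R] [CommRing S] [IsLocalRing S]
    [IsNoetherianRing S] (q : R →+* S) (hq : Function.Surjective q) (x : R) (hker : RingHom.ker q = Ideal.span {x})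
    (hx : IsSMulRegular R x) (hxm : x ∈ maximalIdeal R) (k : ℕ)
    (h : min (k : WithBot ℕ∞) (ringKrullDim R) ≤ ((LocCoh.depth R R : ℕ∞) : WithBot ℕ∞)) :
    min ((k - 1 : ℕ) : WithBot ℕ∞) (ringKrullDim S) ≤ ((LocCoh.depth S S : ℕ∞) : WithBot ℕ∞) := by
  obtain ⟨n, hn⟩ := CommAlgDim.exists_ringKrullDim_eq (R := S)
  have hR : ringKrullDim R = ((n + 1 : ℕ) : WithBot ℕ∞) := by
    let e : (R ⧸ Ideal.span {x}) ≃+* S := (Ideal.quotEquivOfEq hker.symm).trans (RingHom.quotientKerEquivOfSurjective hq)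
    rw [← ringKrullDim_quotient_span_singleton_succ_eq_ringKrullDim hx hxm, ringKrullDim_eq_of_ringEquiv e, hn]
    push_cast
    rfl
  rw [hR] at h
  have hmin : ∀ a b : ℕ, ((min a b : ℕ) : WithBot ℕ∞) = min (a : WithBot ℕ∞) b := fun a b => by
    rcases le_total a b with h | h
    · rw [min_eq_left h, min_eq_left (by exact_mod_cast h)]
    · rw [min_eq_right h, min_eq_right (by exact_mod_cast h)]
  rw [hn, ← hmin]
  rw [← hmin] at h
  by_cases h0 : min (k - 1) n = 0
  · rw [h0]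
    exact WithBot.coe_le_coe.2 zero_le
  have h1 : ((min (k - 1) n + 1 : ℕ) : ℕ∞) ≤ LocCoh.depth R R := by
    rw [show min (k - 1) n + 1 = min k (n + 1) by omega]
    exact WithBot.coe_le_coe.1 h
  exact WithBot.coe_le_coe.2 (le_depth_quotient q hq x hker hx hxm h1).1


/-- Let X be a locally Noetherian scheme all of whose local rings satisfy Serre's condition (S_k), and
let D be the closed subscheme of an effective Cartier divisor. Then all local rings of D satisfy
(S_{k-1}). -/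
theorem result (X : Scheme.{u}) [IsLocallyNoetherian X] (k : ℕ)
    (hX : ∀ x : ↥X, min (k : WithBot ℕ∞) (ringKrullDim (X.presheaf.stalk x)) ≤
      ((LocCoh.depth (X.presheaf.stalk x) (X.presheaf.stalk x) : ℕ∞) : WithBot ℕ∞))
    (𝓘 : X.IdealSheafData) (h𝓘 : BlowUp.IsEffCartierIdeal 𝓘) (d : ↥𝓘.subscheme) :
    min ((k - 1 : ℕ) : WithBot ℕ∞) (ringKrullDim (𝓘.subscheme.presheaf.stalk d)) ≤
      ((LocCoh.depth (𝓘.subscheme.presheaf.stalk d) (𝓘.subscheme.presheaf.stalk d) : ℕ∞) : WithBot ℕ∞) := by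
  obtain ⟨U, hdU, f, hf, hI⟩ := h𝓘 (𝓘.subschemeι d)
  haveI : IsLocallyNoetherian 𝓘.subscheme := LocallyOfFiniteType.isLocallyNoetherian 𝓘.subschemeι
  have hker := FComplLib.ker_stalkMap 𝓘.subschemeι d U hdU
  rw [𝓘.ker_subschemeι, hI, Ideal.map_span, Set.image_singleton] at hker
  have hnzd : X.presheaf.germ U.1 (𝓘.subschemeι d) hdU f ∈ nonZeroDivisors (X.presheaf.stalk (𝓘.subschemeι d)) := by
    letI := X.presheaf.algebra_section_stalk (⟨𝓘.subschemeι d, hdU⟩ : U.1)
    haveI : IsLocalization.AtPrime (X.presheaf.stalk (𝓘.subschemeι d)) (U.2.primeIdealOf ⟨𝓘.subschemeι d, hdU⟩).asIdeal :=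
      U.2.isLocalization_stalk ⟨𝓘.subschemeι d, hdU⟩
    exact IsLocalization.map_nonZeroDivisors_le (U.2.primeIdealOf ⟨𝓘.subschemeι d, hdU⟩).asIdeal.primeCompl _
      ⟨f, hf, rfl⟩
  refine sk_of_regular (𝓘.subschemeι.stalkMap d).hom (𝓘.subschemeι.stalkMap_surjective d) _ hker
    (fun a b h => (mul_cancel_left_mem_nonZeroDivisors hnzd).1 h) ?_ k (hX _)
  intro hu
  have h1 := (RingHom.mem_ker).1 ((SetLike.ext_iff.1 hker _).2 (Ideal.mem_span_singleton_self _))
  exact (hu.map (𝓘.subschemeι.stalkMap d).hom).ne_zero h1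


end Groth.Agent.S1685
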