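import Groth.Statements.S0449
import Groth.Agent.MiscFlat6.FlatMonoOpen
-- import your own Groth.Agent.* helpers here

set_option autoImplicit false
universe u
open FlatMor

namespace Groth.Agent.S0449

open AlgebraicGeometry CategoryTheory Limits in
/-- A separated, flat morphism locally of finite type that is an isomorphism over a quasi-compact,
scheme-theoretically dense open of the target is an open immersion. -/
theorem result {X S : Scheme.{u}} (f : X ⟶ S) [IsSeparated f] [LocallyOfFiniteType f] [Flat f] (U : S.Opens)
    [QuasiCompact U.ι] [IsSchemeTheoreticallyDominant U.ι] [IsIso (f ∣_ U)] : IsOpenImmersion f := by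
  haveI := MiscFlat6.mono_of_iso_over_dense f U
  haveI := fun x => MiscFlat6.isIso_stalkMap_of_flat_mono f x
  have hd : Dense (U : Set ↑S) := by
    have := U.ι.denseRange
    rwa [DenseRange, Scheme.Opens.range_ι] at this
  exact IsOpenImmersion.of_isIso_stalkMap f (Topology.IsOpenEmbedding.of_continuous_injective_isOpenMap
    f.continuous f.injective (MiscFlat6.isOpenMap_of_surjective_stalkMap f U hd
      fun x => ((ConcreteCategory.isIso_iff_bijective (f.stalkMap x)).mp inferInstance).2))

end Groth.Agent.S0449
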