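import Groth.Statements.S2105
import Mathlib


-- import your own Groth.Agent.* helpers here

set_option autoImplicit false
universe u
open CAlg

namespace Groth.Agent.S2105

/-- Appending to an `H_1`-regular sequence `f` a sequence `g` whose image modulo the ideal `(f)` is
`H_1`-regular yields an `H_1`-regular sequence. -/
theorem result {A : Type u} [CommRing A] {n m : ℕ} (f : Fin n → A)
    (g : Fin m → A) (hf : CAlgX.IsH1Regular f)
    (hg : CAlgX.IsH1Regular (fun j => Ideal.Quotient.mk (Ideal.span (Set.range f)) (g j))) :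
    CAlgX.IsH1Regular (Fin.append f g) := by
  classical
  intro c hc
  set I := Ideal.span (Set.range f) with hI
  set K := Submodule.span A {v : Fin (n + m) → A | ∃ i j : Fin (n + m), v = Pi.single i (Fin.append f g j) - Pi.single j (Fin.append f g i)} with hK
  let Kg := Submodule.span A {v : Fin m → A | ∃ i j : Fin m, v = Pi.single i (g j) - Pi.single j (g i)}
  let ιf : (Fin n → A) →ₗ[A] (Fin (n + m) → A) :=
    { toFun := fun a => Fin.append a 0
      map_add' := fun a b => by funext i; induction i using Fin.addCases <;> simp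
      map_smul' := fun r a => by funext i; induction i using Fin.addCases <;> simp }
  let ιg : (Fin m → A) →ₗ[A] (Fin (n + m) → A) :=
    { toFun := fun b => Fin.append 0 b
      map_add' := fun a b => by funext i; induction i using Fin.addCases <;> simp
      map_smul' := fun r a => by funext i; induction i using Fin.addCases <;> simp }
  have hιf : ∀ i x, ιf (Pi.single i x) = Pi.single (Fin.castAdd m i) x := by
    intro i x; funext k
    induction k using Fin.addCases with
    | left k => simp [ιf, Pi.single_apply]
    | right k =>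
      have : Fin.natAdd n k ≠ Fin.castAdd m i := fun h => by have := congrArg Fin.val h; simp at this; omega
      simp [ιf, Pi.single_apply, this]
  have hιg : ∀ i x, ιg (Pi.single i x) = Pi.single (Fin.natAdd n i) x := by
    intro i x; funext k
    induction k using Fin.addCases with
    | left k =>
      have : Fin.castAdd m k ≠ Fin.natAdd n i := fun h => by have := congrArg Fin.val h; simp at this; omega
      simp [ιg, Pi.single_apply, this]
    | right k => simp [ιg, Pi.single_apply]
  have hKf : ∀ a, ∑ i, a i * f i = 0 → ιf a ∈ K := fun a ha => by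
    have := Submodule.mem_map_of_mem (f := ιf) (hf a ha)
    rw [Submodule.map_span] at this
    refine Submodule.span_mono ?_ this
    rintro _ ⟨_, ⟨i, j, rfl⟩, rfl⟩
    exact ⟨Fin.castAdd m i, Fin.castAdd m j, by simp [map_sub, hιf]⟩
  have hKgK : ∀ v ∈ Kg, ιg v ∈ K := fun v hv => by
    have := Submodule.mem_map_of_mem (f := ιg) hv
    rw [Submodule.map_span] at this
    refine Submodule.span_mono ?_ this
    rintro _ ⟨_, ⟨i, j, rfl⟩, rfl⟩
    exact ⟨Fin.natAdd n i, Fin.natAdd n j, by simp [map_sub, hιg]⟩
  set a : Fin n → A := fun i => c (Fin.castAdd m i)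
  set b : Fin m → A := fun j => c (Fin.natAdd n j)
  have hc' : c = ιf a + ιg b := by
    funext k; induction k using Fin.addCases <;> simp [ιf, ιg, a, b]
  let π : (Fin m → A) →ₗ[A] (Fin m → A ⧸ I) := (Algebra.linearMap A (A ⧸ I)).compLeft (Fin m)
  have hb : π b ∈ (Submodule.span (A ⧸ I) {v : Fin m → A ⧸ I | ∃ i j : Fin m, v = Pi.single i (Ideal.Quotient.mk I (g j)) - Pi.single j (Ideal.Quotient.mk I (g i))}) := by
    refine hg (π b) ?_
    rw [Fin.sum_univ_add] at hc
    have h1 := congrArg (Ideal.Quotient.mk I) hc
    simp only [map_add, map_sum, map_zero, Fin.append_left, Fin.append_right, map_mul] at h1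
    rw [Finset.sum_eq_zero (fun i _ => by rw [Ideal.Quotient.eq_zero_iff_mem.2 (show f i ∈ I from Ideal.subset_span ⟨i, rfl⟩), mul_zero]), zero_add] at h1
    exact h1
  obtain ⟨b1, hb1, hbb⟩ : ∃ b1 ∈ Kg, π b1 = π b := by
    rw [← Submodule.mem_map, Submodule.map_span]
    rw [← Submodule.restrictScalars_mem A, Submodule.restrictScalars_span A (A ⧸ I) Ideal.Quotient.mk_surjective] at hb
    refine Submodule.span_mono ?_ hb
    rintro _ ⟨i, j, rfl⟩
    refine ⟨_, ⟨i, j, rfl⟩, ?_⟩
    rw [map_sub]
    congr 1 <;> · funext k; simp [π, Pi.single_apply, apply_ite (Ideal.Quotient.mk I)]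
  have hd : ∀ j, ∃ d : Fin n → A, ∑ i, d i * f i = b j - b1 j := fun j =>
    Ideal.mem_span_range_iff_exists_fun.1 (Ideal.Quotient.eq.1 (congrFun hbb j).symm)
  choose d hd using hd
  let w : Fin (n + m) → A := ∑ j, ∑ i, d j i • (Pi.single (Fin.natAdd n j) (f i) - Pi.single (Fin.castAdd m i) (g j))
  have hw : w ∈ K := sum_mem fun j _ => sum_mem fun i _ => Submodule.smul_mem _ _
    (Submodule.subset_span ⟨Fin.natAdd n j, Fin.castAdd m i, by simp⟩)
  set a' : Fin n → A := fun i => a i + ∑ j, d j i * g j with ha'
  have hwe : w = ιg (b - b1) - ιf (fun i => ∑ j, d j i * g j) := by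
    have e1 : b - b1 = ∑ j, ∑ i, d j i • Pi.single (M := fun _ : Fin m => A) j (f i) := by
      funext k; simp [Pi.single_apply, hd]
    have e2 : (fun i => ∑ j, d j i * g j) = ∑ j, ∑ i, d j i • Pi.single (M := fun _ : Fin n => A) i (g j) := by
      funext k; simp [Pi.single_apply]
    rw [e1, e2]
    simp only [map_sum, map_smul, hιf, hιg, w, smul_sub, Finset.sum_sub_distrib]
  have hrel : ∑ i, a' i * f i = 0 := by
    rw [Fin.sum_univ_add] at hc
    simp only [Fin.append_left, Fin.append_right] at hc
    have hg1 : ∑ j, b1 j * g j = 0 := by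
      clear hwe hd hbb
      induction hb1 using Submodule.span_induction with
      | mem x hx => obtain ⟨i, j, rfl⟩ := hx; simp [sub_mul, Finset.sum_sub_distrib, Pi.single_apply, ite_mul]; ring
      | zero => simp
      | add x y _ _ hx hy => simp only [Pi.add_apply, add_mul, Finset.sum_add_distrib, hx, hy, add_zero]
      | smul r x _ hx => simp [mul_assoc, ← Finset.mul_sum, hx]
    have e3 : ∑ i, (∑ j, d j i * g j) * f i = ∑ j, b j * g j - ∑ j, b1 j * g j := by
      simp only [Finset.sum_mul, ← Finset.sum_sub_distrib, ← sub_mul, ← hd]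
      rw [Finset.sum_comm]
      exact Finset.sum_congr rfl fun j _ => Finset.sum_congr rfl fun i _ => by ring
    simp only [a', add_mul, Finset.sum_add_distrib, e3, hg1, sub_zero]
    exact hc
  have : c = ιf a' + ιg b1 + w := by
    rw [hwe, hc', show a' = a + (fun i => ∑ j, d j i * g j) from rfl, map_add, map_sub]
    abel
  rw [this]
  exact add_mem (add_mem (hKf _ hrel) (hKgK _ hb1)) hw

end Groth.Agent.S2105
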