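import Groth.Statements.S1662
import Groth.Agent.S4666
import Groth.Agent.RpushLib.HBase
import Groth.Agent.FlatLib.FlatMisc
import Groth.Agent.QCohLib.Affine
-- import your own Groth.Agent.* helpers here

set_option autoImplicit false
universe u
open CategoryTheory CategoryTheory.Limits AlgebraicGeometry
open Divisors

namespace Groth.Agent.S1662

theorem base_change_nzd {R A R' P : CommRingCat.{u}} (φ : R →+* A) (ψ : R →+* R') (i : A →+* P) (j : R' →+* P)
    (h : IsPushout (CommRingCat.ofHom φ) (CommRingCat.ofHom ψ) (CommRingCat.ofHom i) (CommRingCat.ofHom j))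
    (a : A) (ha : a ∈ nonZeroDivisors A) (hflat : ((Ideal.Quotient.mk (Ideal.span {a})).comp φ).Flat) :
    i a ∈ nonZeroDivisors P := by
  algebraize [φ, ψ, i, j, i.comp φ]
  have hw : j.comp ψ = i.comp φ := congrArg CommRingCat.Hom.hom h.w.symm
  haveI : IsScalarTower R R' P := IsScalarTower.of_algebraMap_eq fun x => (RingHom.congr_fun hw x).symm
  haveI : IsScalarTower R A P := IsScalarTower.of_algebraMap_eq fun x => rfl
  haveI : Algebra.IsPushout R A R' P := CommRingCat.isPushout_iff_isPushout.mp h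
  haveI : Module.Flat R (A ⧸ Ideal.span {a}) := by
    convert! hflat using 1
  have hinj : Function.Injective (LinearMap.mulLeft R a) := fun x y hxy =>
    (mul_cancel_left_mem_nonZeroDivisors ha).1 hxy
  have hex : Function.Exact (LinearMap.mulLeft R a) (Ideal.Quotient.mkₐ R (Ideal.span {a})).toLinearMap :=
    fun y => by
      change Ideal.Quotient.mk (Ideal.span {a}) y = 0 ↔ _
      rw [Ideal.Quotient.eq_zero_iff_mem, Ideal.mem_span_singleton]
      exact ⟨fun ⟨c, hc⟩ => ⟨c, hc.symm⟩, fun ⟨c, hc⟩ => ⟨c, hc.symm⟩⟩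
  have hT := FlatLib.lTensor_injective_of_flat_coker (P := A ⧸ Ideal.span {a}) _ _ hinj hex
    Ideal.Quotient.mk_surjective R'
  have hmul : ∀ z : TensorProduct R A R', (LinearMap.mulLeft R a).rTensor R' z = (a ⊗ₜ[R] (1 : R')) * z := by
    intro z
    induction z using TensorProduct.induction_on with
    | zero => simp
    | add u v hu hv => simp [mul_add, hu, hv]
    | tmul u v => simp
  let e := Algebra.IsPushout.equiv R A R' P
  have hea : e (a ⊗ₜ[R] (1 : R')) = i a := by
    rw [Algebra.IsPushout.equiv_tmul, map_one, mul_one]; rfl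
  rw [mem_nonZeroDivisors_iff_right]
  intro z hz
  obtain ⟨w, rfl⟩ := e.surjective z
  rw [← hea, ← map_mul, mul_comm, ← hmul] at hz
  rw [hT (((e.injective (hz.trans (map_zero e).symm)).trans (map_zero _).symm)), map_zero]

/-- Let f : X → S, D an effective Cartier divisor on X such that D → S is flat, and g : S' → S any
morphism. Then the inverse image of D in X ×_S S' is an effective Cartier divisor. -/
theorem result {X S S' : Scheme.{u}} (f : X ⟶ S) (D : X.IdealSheafData) (hD : BlowUp.IsEffCartierIdeal D)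
    [Flat (D.subschemeι ≫ f)] (g : S' ⟶ S) :
    BlowUp.IsEffCartierIdeal (D.comap (pullback.fst f g)) := by
  classical
  intro x
  obtain ⟨U, hxU, a, ha, hDU⟩ := hD (pullback.fst f g x)
  obtain ⟨V, hV, hxV, -⟩ := exists_isAffineOpen_mem_and_subset (x := f (pullback.fst f g x)) (U := (⊤ : S.Opens)) trivial
  obtain ⟨r, hr, hxr⟩ := U.2.exists_basicOpen_le (V := f ⁻¹ᵁ V) ⟨pullback.fst f g x, hxV⟩ hxU
  let U' : X.affineOpens := X.affineBasicOpen r
  let a' : Γ(X, U'.1) := (X.presheaf.map (homOfLE (X.basicOpen_le r)).op).hom a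
  have ha' : a' ∈ nonZeroDivisors Γ(X, U'.1) := by
    have := U.2.isLocalization_basicOpen r
    exact IsLocalization.map_nonZeroDivisors_le (Submonoid.powers r) Γ(X, X.basicOpen r) ⟨a, ha, rfl⟩
  have hDU' : D.ideal U' = Ideal.span {a'} := by
    rw [show D.ideal U' = (D.ideal U).map (X.presheaf.map (homOfLE (X.basicOpen_le r)).op).hom from
      (D.map_ideal_basicOpen U r).symm, hDU, Ideal.map_span, Set.image_singleton]
    rfl
  have hy : g (pullback.snd f g x) ∈ V := by
    rw [← Scheme.Hom.comp_apply, ← pullback.condition, Scheme.Hom.comp_apply]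
    exact hxV
  obtain ⟨T, hT, hxT, hTV⟩ := exists_isAffineOpen_mem_and_subset (x := pullback.snd f g x) (U := g ⁻¹ᵁ V) hy
  have H := IsPullback.of_hasPullback f g
  have hW := RpushLib.isAffineOpen_fibre H hV hT hTV U'.2 hr
  refine ⟨⟨_, hW⟩, ⟨hxr, hxT⟩,
    ((pullback.fst f g).appLE U'.1 (pullback.fst f g ⁻¹ᵁ U'.1 ⊓ pullback.snd f g ⁻¹ᵁ T) inf_le_left).hom a',
    ?_, ?_⟩
  · have hflat : ((D.subschemeι ≫ f).appLE V (D.subschemeι ⁻¹ᵁ U'.1) (fun z hz => hr hz)).hom.Flat :=
      HasRingHomProperty.appLE @Flat (D.subschemeι ≫ f) ‹_› ⟨V, hV⟩ ⟨_, U'.2.preimage _⟩ _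
    have hq : ((D.subschemeι ≫ f).appLE V (D.subschemeι ⁻¹ᵁ U'.1) (fun z hz => hr hz)) =
        f.appLE V U'.1 hr ≫ CommRingCat.ofHom (Ideal.Quotient.mk (D.ideal U')) ≫ (D.subschemeObjIso U').inv := by
      rw [← D.subschemeι_app U', Scheme.Hom.app_eq_appLE, Scheme.Hom.appLE_comp_appLE]
    rw [hq] at hflat
    have hflat' : ((Ideal.Quotient.mk (D.ideal U')).comp (f.appLE V U'.1 hr).hom).Flat := by
      have := RingHom.Flat.comp hflat (RingHom.Flat.of_bijective
        (ConcreteCategory.bijective_of_isIso (D.subschemeObjIso U').hom) : (D.subschemeObjIso U').hom.hom.Flat)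
      rwa [← CommRingCat.hom_comp, Category.assoc, Category.assoc, Iso.inv_hom_id, Category.comp_id] at this
    exact base_change_nzd (f.appLE V U'.1 hr).hom (g.appLE V T hTV).hom _ _
      (RpushLib.isPushout_sections H hV hT hTV U'.2 hr) a' ha' (hDU' ▸ hflat')
  · erw [Groth.Agent.S4666.ideal_comap_eq D (pullback.fst f g) U' ⟨_, hW⟩ inf_le_left, hDU',
      Ideal.map_span, Set.image_singleton]

end Groth.Agent.S1662
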