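import Groth.Statements.S9237
import Groth.Agent.HenselBranchLib.Count
import Groth.Agent.HenselLib.HenselizationExists
import Groth.Agent.S0508
import Groth.Agent.S0509
-- import your own Groth.Agent.* helpers here

set_option autoImplicit false
universe u
open Brnch

namespace Groth.Agent.S9237

/-- Let A be a local ring and S a henselization of A. Then the number of minimal prime ideals of S, a
natural number or infinity, equals the number of branches of A as computed from the integral closure
of A_red in its total ring of fractions: infinity if A has infinitely many minimal primes, and
otherwise the number of maximal ideals of that integral closure. -/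
theorem result (A S : Type u) [CommRing A]
    [IsLocalRing A] [CommRing S] [IsLocalRing S] [Algebra A S] [IsLocalHom (algebraMap A S)]
    [Hensel.IsHenselization A S] :
    ENat.card (minimalPrimes S) = Brnch.numBranches A := by
  haveI : HenselianLocalRing S := Hensel.IsHenselization.henselian (R := A)
  haveI : Module.FaithfullyFlat A S := Groth.Agent.S0509.result A S
  obtain ⟨e⟩ := HenselLib.nonempty_algEquiv_HR (R := A) S
  refine HenselBranchLib.card_eq_numBranches A S (HenselLib.etCov_of_algEquiv e (HenselLib.etCov_hens _)) fun s => ?_
  obtain ⟨c, hc⟩ := (Groth.Agent.S0508.result A S).2 (IsLocalRing.residue S s)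
  obtain ⟨a, rfl⟩ := IsLocalRing.residue_surjective c
  refine ⟨a, (IsLocalRing.residue_eq_zero_iff _).1 ?_⟩
  rw [map_sub, ← hc]
  exact sub_self _

end Groth.Agent.S9237
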