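import Groth.Statements.S1316
import Groth.Agent.SweepSix.Thick


-- import your own Groth.Agent.* helpers here

set_option autoImplicit false
universe u
open FlatMor

namespace Groth.Agent.S1316

open AlgebraicGeometry CategoryTheory Limits in
/-- Let Y ⟶ Y' be a thickening, let X be the base change to Y of a scheme X' over Y', and assume both X
⟶ Y and X' ⟶ Y' are locally of finite type. Then X ⟶ Y is an immersion if and only if X' ⟶ Y' is. -/
theorem result {X X' Y Y' : Scheme.{u}} (iX : X ⟶ X') (iY : Y ⟶ Y') (f : X ⟶ Y) (f' : X' ⟶ Y')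
    (hY : MoreMor.IsThickening iY) (hc : IsPullback iX f f' iY) [LocallyOfFiniteType f] [LocallyOfFiniteType f'] :
    IsImmersion f ↔ IsImmersion f' := by
  have hc' := hc
  obtain ⟨_, _⟩ := hY
  have : IsClosedImmersion iX := MorphismProperty.of_isPullback hc.flip ‹IsClosedImmersion iY›
  have : Surjective iX := MorphismProperty.of_isPullback hc.flip ‹Surjective iY›
  refine ⟨fun h => ?_, fun h => MorphismProperty.of_isPullback (P := @IsImmersion) hc h⟩
  obtain ⟨O, hO, hO'⟩ := iY.isEmbedding.isInducing.isOpen_iff.1 f.coborderRange.2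
  let U' : Y'.Opens := ⟨O, hO⟩
  have hU : iY ⁻¹ᵁ U' = f.coborderRange := TopologicalSpace.Opens.ext hO'
  have hr : Set.range f' ⊆ O := by
    rintro _ ⟨x', rfl⟩
    obtain ⟨x, rfl⟩ := iX.surjective x'
    rw [← Scheme.Hom.comp_apply, hc.w, Scheme.Hom.comp_apply]
    change f x ∈ iY ⁻¹' O
    rw [show (iY ⁻¹' O : Set Y) = f.coborderRange from hO']
    exact (subset_coborder : _ ⊆ coborder (Set.range f)) ⟨x, rfl⟩
  let f₂ : X' ⟶ U' := IsOpenImmersion.lift U'.ι f' (by rw [Scheme.Opens.range_ι]; exact hr)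
  have h₂ : f₂ ≫ U'.ι = f' := IsOpenImmersion.lift_fac _ _ _
  let f₁ : X ⟶ (iY ⁻¹ᵁ U' : Y.Opens) := IsOpenImmersion.lift (iY ⁻¹ᵁ U').ι f (by
    rw [Scheme.Opens.range_ι, hU]; exact (subset_coborder : _ ⊆ coborder (Set.range f)))
  have h₁ : f₁ ≫ (iY ⁻¹ᵁ U').ι = f := IsOpenImmersion.lift_fac _ _ _
  have hsq : IsPullback iX f₁ f₂ (iY ∣_ U') := by
    refine IsPullback.of_bot ?_ ?_ (isPullback_morphismRestrict iY U')
    · rw [h₁, h₂]; exact hc
    · rw [← cancel_mono U'.ι, Category.assoc, Category.assoc, h₂, morphismRestrict_ι, ← Category.assoc, h₁, hc.w]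
  have : IsClosedImmersion f₁ := by
    have e : f₁ = f.liftCoborder ≫ (Y.isoOfEq hU.symm).hom := by
      rw [← cancel_mono (iY ⁻¹ᵁ U').ι, h₁, Category.assoc, Scheme.isoOfEq_hom_ι, Scheme.Hom.liftCoborder_ι]
    rw [e]; infer_instance
  have hT : MoreMor.IsThickening (iY ∣_ U') := ⟨IsZariskiLocalAtTarget.restrict ‹_› _, IsZariskiLocalAtTarget.restrict ‹_› _⟩
  have : LocallyOfFiniteType (f₂ ≫ U'.ι) := by rw [h₂]; infer_instance
  have : LocallyOfFiniteType f₂ := MorphismProperty.of_postcomp (W := @LocallyOfFiniteType) (W' := @IsOpenImmersion) f₂ U'.ι inferInstance this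
  have := SweepSix.isClosedImmersion_of_thickening hT hsq
  rw [← h₂]
  infer_instance

end Groth.Agent.S1316
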