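import Groth.Statements.S9257
import Groth.Agent.GeomRedFibLib.GRing
import Groth.Agent.AdicRingLib.Completion
import Mathlib.RingTheory.AdicCompletion.AsTensorProduct
-- import your own Groth.Agent.* helpers here

set_option autoImplicit false
universe u
open CAlg

namespace Groth.Agent.S9257

/-- A Noetherian ring R is a G-ring exactly when, for all primes q ⊆ p of R, the completion of the local
domain (R/q)_p tensored with its fraction field κ(q) is geometrically regular over κ(q). Here the
pairs q ⊆ p are enumerated as primes P of R/q. -/
theorem result (R : Type u) [CommRing R] [IsNoetherianRing R] :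
    CAlg.IsGRing R ↔
      ∀ (q : Ideal R) [q.IsPrime] (P : Ideal (R ⧸ q)) [P.IsPrime],
        CAlg.IsGeometricallyRegular (⊥ : Ideal (Localization.AtPrime P)).ResidueField
          (EGA4.formalFibre (Localization.AtPrime P) (⊥ : Ideal (Localization.AtPrime P))) := by
  constructor
  · intro h q _ P _
    haveI : (P.comap (Ideal.Quotient.mk q)).IsPrime := Ideal.IsPrime.comap _
    let p₀ := P.comap (Ideal.Quotient.mk q)
    have hd : Disjoint (p₀.primeCompl : Set R) (q : Set R) := Set.disjoint_left.mpr fun x hx hxq ↦ hx (by
      show Ideal.Quotient.mk q x ∈ P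
      rw [Ideal.Quotient.eq_zero_iff_mem.mpr hxq]
      exact zero_mem _)
    haveI : (q.map (algebraMap R (Localization.AtPrime p₀))).IsPrime :=
      IsLocalization.isPrime_of_isPrime_disjoint p₀.primeCompl _ q ‹_› hd
    exact (GeomRedFibLib.isGeometricallyRegular_generic_iff q p₀ P rfl _
      (IsLocalization.under_map_of_isPrime_disjoint p₀.primeCompl (Localization.AtPrime p₀) ‹_› hd)).mpr
      ((h.2 p₀).2 _).2
  · intro h
    refine ⟨inferInstance, fun p _ ↦ ⟨inferInstance, fun Q _ ↦ ⟨?_, ?_⟩⟩⟩
    · haveI := AdicRingLib.isNoetherianRing_adicCompletion (IsLocalRing.maximalIdeal (Localization.AtPrime p))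
      haveI := Algebra.EssFiniteType.isNoetherianRing (AdicCompletion (IsLocalRing.maximalIdeal (Localization.AtPrime p))
        (Localization.AtPrime p)) (TensorProduct (Localization.AtPrime p) (AdicCompletion
          (IsLocalRing.maximalIdeal (Localization.AtPrime p)) (Localization.AtPrime p)) Q.ResidueField)
      exact isNoetherianRing_of_ringEquiv _ (Algebra.TensorProduct.comm (Localization.AtPrime p)
        (AdicCompletion (IsLocalRing.maximalIdeal (Localization.AtPrime p)) (Localization.AtPrime p))
        Q.ResidueField).toRingEquiv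
    · let q := Q.comap (algebraMap R (Localization.AtPrime p))
      have hq : q ≤ p := fun x hx ↦ by
        by_contra hxp
        exact ‹Q.IsPrime›.ne_top (Ideal.eq_top_of_isUnit_mem _ hx
          (IsLocalization.map_units (Localization.AtPrime p) (⟨x, hxp⟩ : p.primeCompl)))
      haveI : (p.map (Ideal.Quotient.mk q)).IsPrime :=
        Ideal.map_isPrime_of_surjective Ideal.Quotient.mk_surjective (by rwa [Ideal.mk_ker])
      have hP : p = (p.map (Ideal.Quotient.mk q)).comap (Ideal.Quotient.mk q) :=
        (Ideal.comap_map_mk hq).symm
      exact (GeomRedFibLib.isGeometricallyRegular_generic_iff q p _ hP Q rfl).mp (h q _)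

end Groth.Agent.S9257
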