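import Groth.Statements.S0598
import Groth.Agent.S9257
import Groth.Agent.GRingLib.CompleteLocal
-- import your own Groth.Agent.* helpers here

set_option autoImplicit false
universe u
open CAlg

namespace Groth.Agent.S0598

/-- A Noetherian local ring complete with respect to its maximal ideal is a G-ring. -/
theorem result (R : Type u) [CommRing R] [IsLocalRing R] [IsNoetherianRing R]
    [IsAdicComplete (IsLocalRing.maximalIdeal R) R] : CAlg.IsGRing R := by
  refine (Groth.Agent.S9257.result R).mpr fun q _ P _ ↦ ?_
  haveI : IsLocalRing (R ⧸ q) := IsLocalRing.of_surjective' (Ideal.Quotient.mk q) Ideal.Quotient.mk_surjective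
  haveI := NormalLib.isAdicComplete_quotient_local (R := R) q
  haveI : IsDomain (Localization.AtPrime P) := IsLocalization.isDomain_localization P.primeCompl_le_nonZeroDivisors
  exact GRingLib.isGeometricallyRegular_of_genReg _ (GRingLib.genReg_complete (R ⧸ q) P)

end Groth.Agent.S0598
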