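import Groth.Statements.S4695
import Groth.Agent.GeomRedFibLib.GeomApps
-- import your own Groth.Agent.* helpers here

set_option autoImplicit false
universe u
open EGA4

namespace Groth.Agent.S4695

open TensorProduct in
/-- Case of regular morphisms, affine form: let A → B be a homomorphism of Noetherian rings and A' a
Noetherian A-algebra, and assume that B or A' is of finite type over A. If A → B is regular then the
base change A' → A' ⊗_A B is regular; the converse holds when A' is faithfully flat over A. -/
theorem result (A B A' : Type u) [CommRing A] [CommRing B] [CommRing A']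
    [IsNoetherianRing A] [IsNoetherianRing B] [IsNoetherianRing A'] [Algebra A B] [Algebra A A']
    (hft : Algebra.FiniteType A B ∨ Algebra.FiniteType A A') :
    (CAlg.IsRegularHom A B → CAlg.IsRegularHom A' (A' ⊗[A] B)) ∧
      (Module.FaithfullyFlat A A' → CAlg.IsRegularHom A' (A' ⊗[A] B) → CAlg.IsRegularHom A B) := by
  haveI : IsNoetherianRing (TensorProduct A A' B) := by
    rcases hft with h | h
    · haveI := h
      exact Algebra.FiniteType.isNoetherianRing A' _
    · haveI := h
      haveI : IsNoetherianRing (TensorProduct A B A') := Algebra.FiniteType.isNoetherianRing B _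
      exact isNoetherianRing_of_ringEquiv _ (Algebra.TensorProduct.comm A B A').toRingEquiv
  refine ⟨fun h ↦ ?_, fun hff h ↦ ?_⟩
  · haveI := h.1
    refine ⟨inferInstance, fun p' _ ↦ ?_⟩
    haveI := GeomRedFibLib.isNoetherianRing_fiber A' (TensorProduct A A' B) p'
    haveI := GeomRedFibLib.isNoetherianRing_fiber A B (p'.comap (algebraMap A A'))
    refine ⟨inferInstance, ?_⟩
    rw [GeomRedFibLib.geomP_regular_iff]
    exact GeomRedFibLib.geomP_fiber_baseChange GeomRedFibLib.isGeomProp_regular AlgEquiv.refl _ p' rfl
      ((GeomRedFibLib.geomP_regular_iff _ _).mp (h.2 _).2)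
  · haveI := hff
    haveI := h.1
    refine ⟨Module.Flat.of_flat_tensorProduct A B A', fun p hp ↦ ?_⟩
    obtain ⟨⟨p', hp'⟩, hpp⟩ := PrimeSpectrum.comap_surjective_of_faithfullyFlat (A := A) (B := A') ⟨p, hp⟩
    haveI := GeomRedFibLib.isNoetherianRing_fiber A' (TensorProduct A A' B) p'
    haveI := GeomRedFibLib.isNoetherianRing_fiber A B p
    refine ⟨inferInstance, ?_⟩
    rw [GeomRedFibLib.geomP_regular_iff]
    exact GeomRedFibLib.geomP_fiber_of_baseChange GeomRedFibLib.isGeomProp_regular AlgEquiv.refl p p'
      (congrArg PrimeSpectrum.asIdeal hpp).symm ((GeomRedFibLib.geomP_regular_iff _ _).mp (h.2 p').2)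

end Groth.Agent.S4695
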