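import Groth.Statements.S9295
import Groth.Agent.GeomRedFibLib.Cancel
import Groth.Agent.GeomRedFibLib.LocalPropInst
import Groth.Agent.AlgSpLib.Noeth
-- import your own Groth.Agent.* helpers here

set_option autoImplicit false
universe u
open CAlg

namespace Groth.Agent.S9295

/-- For ring maps A → B → C, if the composite A → C is a regular map and C is flat over B with every
prime of B lying under a prime of C (that is, B → C is faithfully flat), then A → B is a regular
map. -/
theorem result (A B C : Type u) [CommRing A] [CommRing B] [CommRing C]
    [Algebra A B] [Algebra B C] [Algebra A C] [IsScalarTower A B C]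
    (hAC : CAlg.IsRegularHom A C) [Module.Flat B C]
    (hsurj : Function.Surjective (PrimeSpectrum.comap (algebraMap B C))) :
    CAlg.IsRegularHom A B := by
  haveI : Module.FaithfullyFlat B C := Module.FaithfullyFlat.of_comap_surjective hsurj
  haveI := hAC.1
  refine ⟨GeomRedFibLib.flat_of_comp A B C, fun p _ ↦ ?_⟩
  haveI := (hAC.2 p).1
  have key : ∀ (k : Type u) [Field k] [Algebra A k], IsNoetherianRing (TensorProduct A k C) →
      IsNoetherianRing (TensorProduct A k B) := by
    intro k _ _ hk
    haveI := hk
    haveI : IsNoetherianRing (TensorProduct B (TensorProduct A B k) C) :=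
      isNoetherianRing_of_ringEquiv (TensorProduct A k C) (GeomRedFibLib.tensorEquiv A B C k).symm
    haveI : IsNoetherianRing (TensorProduct A B k) :=
      AlgSpLib.isNoetherianRing_of_faithfullyFlat (TensorProduct A B k) (TensorProduct B (TensorProduct A B k) C)
    exact isNoetherianRing_of_ringEquiv _ (Algebra.TensorProduct.comm A B k).toRingEquiv
  haveI : IsNoetherianRing (p.Fiber B) := key p.ResidueField inferInstance
  refine ⟨inferInstance, fun k' _ _ hk ↦ ?_⟩
  haveI := hk
  letI : Algebra A k' := ((algebraMap p.ResidueField k').comp (algebraMap A p.ResidueField)).toAlgebra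
  haveI : IsScalarTower A p.ResidueField k' := .of_algebraMap_eq fun _ ↦ rfl
  haveI := (hAC.2 p).2 k' hk
  haveI : IsRegularRing (TensorProduct A k' C) :=
    IsRegularRing.of_ringEquiv (R := TensorProduct p.ResidueField k' (p.Fiber C))
      (Algebra.TensorProduct.cancelBaseChange A p.ResidueField p.ResidueField k' C).toRingEquiv
  haveI := key k' inferInstance
  haveI : IsNoetherianRing (TensorProduct A B k') :=
    isNoetherianRing_of_ringEquiv (TensorProduct A k' B) (Algebra.TensorProduct.comm A k' B).toRingEquiv
  haveI : IsRegularRing (TensorProduct B (TensorProduct A B k') C) :=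
    IsRegularRing.of_ringEquiv (R := TensorProduct A k' C) (GeomRedFibLib.tensorEquiv A B C k').symm
  haveI : IsRegularRing (TensorProduct A B k') := (GeomRedFibLib.isRegularRing_iff _).mpr
    (GeomRedFibLib.RingP.desc GeomRedFibLib.isFlatLocalProp_regular _ (TensorProduct B (TensorProduct A B k') C)
      ((GeomRedFibLib.isRegularRing_iff _).mp inferInstance))
  exact IsRegularRing.of_ringEquiv (R := TensorProduct A B k')
    ((Algebra.TensorProduct.comm A B k').toRingEquiv.trans
      (Algebra.TensorProduct.cancelBaseChange A p.ResidueField p.ResidueField k' B).symm.toRingEquiv)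

end Groth.Agent.S9295
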