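import Groth.Statements.S0600
import Groth.Agent.GRingLib.RegHom
import Groth.Agent.S9295
-- import your own Groth.Agent.* helpers here

set_option autoImplicit false
universe u
open CAlg

namespace Groth.Agent.S0600

/-- If `A` is a G-ring and `I` any ideal, then the map from `A` to its `I`-adic completion is regular. -/
theorem result (A : Type u) [CommRing A] (hA : CAlg.IsGRing A)
    (I : Ideal A) : CAlg.IsRegularHom A (AdicCompletion I A) := by
  haveI := hA.1
  haveI : IsNoetherianRing (AdicCompletion I A) := AdicRingLib.isNoetherianRing_adicCompletion I
  refine GRingLib.isRegularHom_of_localRingHom A (AdicCompletion I A) fun n hn ↦ ?_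
  haveI := hn.isPrime
  obtain ⟨m, _, _, _, hff⟩ := GeomRedFibLib.exists_localizedCplTower A I n
  haveI := hff
  haveI : IsNoetherianRing (EGA4.Cpl (Localization.AtPrime m)) :=
    GeomRedFibLib.isNoetherianRing_cpl (Localization.AtPrime m)
  haveI : IsNoetherianRing (Localization.AtPrime m) := IsLocalization.isNoetherianRing m.primeCompl _ inferInstance
  have h1 : CAlg.IsRegularHom A (EGA4.Cpl (Localization.AtPrime m)) :=
    GRingLib.isRegularHom_comp A (Localization.AtPrime m) _
      (GRingLib.isRegularHom_of_isLocalization A _ m.primeCompl) (hA.2 m)
  have h2 : CAlg.IsRegularHom A (Localization.AtPrime n) :=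
    Groth.Agent.S9295.result A (Localization.AtPrime n) (EGA4.Cpl (Localization.AtPrime m)) h1
      PrimeSpectrum.comap_surjective_of_faithfullyFlat
  letI := (Localization.localRingHom (n.comap (algebraMap A (AdicCompletion I A))) n
    (algebraMap A (AdicCompletion I A)) rfl).toAlgebra
  haveI : IsScalarTower A (Localization.AtPrime (n.comap (algebraMap A (AdicCompletion I A))))
      (Localization.AtPrime n) := .of_algebraMap_eq fun x ↦
    (IsScalarTower.algebraMap_apply A (AdicCompletion I A) (Localization.AtPrime n) x).trans
      (Localization.localRingHom_to_map _ n (algebraMap A (AdicCompletion I A)) rfl x).symm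
  exact GRingLib.isRegularHom_of_isLocalization_base A _ _
    (n.comap (algebraMap A (AdicCompletion I A))).primeCompl h2

end Groth.Agent.S0600
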