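import Groth.Statements.S3569

-- import your own Groth.Agent.* helpers here

set_option autoImplicit false
universe u
open CategoryTheory CategoryTheory.Limits AlgebraicGeometry
open EGA2

namespace Groth.Agent.S3569

variable {X Y S : Scheme.{u}} (f : X ⟶ S) (g : Y ⟶ S)

theorem algHom_app (h : Y ⟶ X) (w : h ≫ f = g) (U : S.Opens) :
    (AffAlg.algHom f g h w).app (Opposite.op U) = h.appLE (f ⁻¹ᵁ U) (g ⁻¹ᵁ U) (by subst w; exact le_refl _) := by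
  subst w
  simp [AffAlg.algHom, Scheme.Hom.appLE]
  rfl

theorem ι_comp [IsAffineHom f] (h : Y ⟶ X) (w : h ≫ f = g) (U : S.affineOpens) :
    (g ⁻¹ᵁ (U : S.Opens)).ι ≫ h = (g ⁻¹ᵁ (U : S.Opens)).toSpecΓ ≫
      Spec.map ((AffAlg.algHom f g h w).app (Opposite.op U.1)) ≫ (U.2.preimage f).fromSpec := by
  rw [algHom_app, Scheme.Opens.toSpecΓ_SpecMap_appLE_assoc, IsAffineOpen.toSpecΓ_fromSpec, Scheme.Hom.resLE_comp_ι]

theorem eq_of_toSpecΓ {O : Y.Opens} {R : CommRingCat.{u}} (a b : R ⟶ Γ(Y, O))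
    (h : O.toSpecΓ ≫ Spec.map a = O.toSpecΓ ≫ Spec.map b) : a = b := by
  have h1 := congrArg (fun q => (Scheme.ΓSpecIso R).inv ≫ Scheme.Hom.appTop q ≫ O.topIso.hom) h
  simpa [Scheme.Hom.comp_appTop, Scheme.Opens.toSpecΓ_appTop, -Scheme.Opens.topIso_hom, -Scheme.Opens.topIso_inv] using h1

variable [IsAffineHom f] (ω : AffAlg.algHoms f g)

noncomputable def piece (U : S.affineOpens) : (g ⁻¹ᵁ (U : S.Opens)).toScheme ⟶ X :=
  (g ⁻¹ᵁ (U : S.Opens)).toSpecΓ ≫ Spec.map (ω.1.app (Opposite.op U.1)) ≫ (U.2.preimage f).fromSpec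

theorem piece_res {W U : S.affineOpens} (hle : (W : S.Opens) ≤ U) :
    Y.homOfLE (g.preimage_mono hle) ≫ piece f g ω U = piece f g ω W := by
  have h := ω.1.naturality (homOfLE hle).op
  simp only [piece]
  rw [← Scheme.Opens.toSpecΓ_SpecMap_presheaf_map_assoc, ← Spec.map_comp_assoc]
  erw [← h]
  rw [Spec.map_comp_assoc]
  congr 2
  exact (U.2.preimage f).map_fromSpec (W.2.preimage f) _

theorem piece_comp (U : S.affineOpens) : piece f g ω U ≫ f = (g ⁻¹ᵁ (U : S.Opens)).ι ≫ g := by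
  have h : f.app U.1 ≫ ω.1.app (Opposite.op U.1) = g.app U.1 := congr_app ω.2 (Opposite.op U.1)
  simp only [piece, Category.assoc]
  rw [← IsAffineOpen.SpecMap_appLE_fromSpec f U.2 (U.2.preimage f) le_rfl, Scheme.Hom.appLE_eq_app,
    ← Spec.map_comp_assoc, h, ← Scheme.Hom.appLE_eq_app, Scheme.Opens.toSpecΓ_SpecMap_appLE_assoc,
    IsAffineOpen.toSpecΓ_fromSpec, Scheme.Hom.resLE_comp_ι]

theorem exists_hom : ∃ (h : Y ⟶ X), h ≫ f = g ∧ ∀ U : S.affineOpens, (g ⁻¹ᵁ (U : S.Opens)).ι ≫ h = piece f g ω U := by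
  have hcov : TopologicalSpace.IsOpenCover (fun U : S.affineOpens => g ⁻¹ᵁ (U : S.Opens)) := by
    change ⨆ U : S.affineOpens, g ⁻¹ᵁ (U : S.Opens) = ⊤
    rw [← Scheme.Hom.preimage_iSup, iSup_affineOpens_eq_top]
    rfl
  let 𝒰 := Y.openCoverOfIsOpenCover (fun U : S.affineOpens => g ⁻¹ᵁ (U : S.Opens)) hcov
  have hc : ∀ U V : S.affineOpens, pullback.fst (g ⁻¹ᵁ (U : S.Opens)).ι (g ⁻¹ᵁ (V : S.Opens)).ι ≫ piece f g ω U =
      pullback.snd _ _ ≫ piece f g ω V := fun U V => Scheme.hom_ext_of_forall _ _ fun z => by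
    let q := pullback.fst (g ⁻¹ᵁ (U : S.Opens)).ι (g ⁻¹ᵁ (V : S.Opens)).ι ≫ (g ⁻¹ᵁ (U : S.Opens)).ι
    have hU : g (q z) ∈ (U : S.Opens) := ((pullback.fst (g ⁻¹ᵁ (U : S.Opens)).ι (g ⁻¹ᵁ (V : S.Opens)).ι) z).2
    have hV : g (q z) ∈ (V : S.Opens) := by
      simp only [q, pullback.condition]
      exact ((pullback.snd (g ⁻¹ᵁ (U : S.Opens)).ι (g ⁻¹ᵁ (V : S.Opens)).ι) z).2
    obtain ⟨W, hW, hzW, hle⟩ := exists_isAffineOpen_mem_and_subset (x := g (q z)) (U := (U : S.Opens) ⊓ V) ⟨hU, hV⟩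
    have hWU : (W : S.Opens) ≤ U := fun _ hx => (hle hx).1
    have hWV : (W : S.Opens) ≤ V := fun _ hx => (hle hx).2
    refine ⟨q ⁻¹ᵁ (g ⁻¹ᵁ W), hzW, ?_⟩
    let l := q.resLE (g ⁻¹ᵁ W) (q ⁻¹ᵁ (g ⁻¹ᵁ W)) le_rfl
    have h1 : (q ⁻¹ᵁ (g ⁻¹ᵁ W)).ι ≫ pullback.fst (g ⁻¹ᵁ (U : S.Opens)).ι (g ⁻¹ᵁ (V : S.Opens)).ι =
        l ≫ Y.homOfLE (g.preimage_mono hWU) := by
      rw [← cancel_mono (g ⁻¹ᵁ (U : S.Opens)).ι, Category.assoc, Category.assoc, Scheme.homOfLE_ι,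
        Scheme.Hom.resLE_comp_ι]
    have h2 : (q ⁻¹ᵁ (g ⁻¹ᵁ W)).ι ≫ pullback.snd (g ⁻¹ᵁ (U : S.Opens)).ι (g ⁻¹ᵁ (V : S.Opens)).ι =
        l ≫ Y.homOfLE (g.preimage_mono hWV) := by
      rw [← cancel_mono (g ⁻¹ᵁ (V : S.Opens)).ι, Category.assoc, Category.assoc, Scheme.homOfLE_ι,
        Scheme.Hom.resLE_comp_ι]
      exact congrArg _ pullback.condition.symm
    rw [← Category.assoc, ← Category.assoc, h1, h2, Category.assoc, Category.assoc,
      piece_res f g ω (W := ⟨W, hW⟩) hWU, piece_res f g ω (W := ⟨W, hW⟩) hWV]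
  let h : Y ⟶ X := Scheme.Cover.glueMorphisms 𝒰 (piece f g ω) hc
  have hh : ∀ U : S.affineOpens, (g ⁻¹ᵁ (U : S.Opens)).ι ≫ h = piece f g ω U := fun U =>
    Scheme.Cover.ι_glueMorphisms 𝒰 _ hc U
  refine ⟨h, Scheme.Cover.hom_ext 𝒰 _ _ fun U => ?_, hh⟩
  change (g ⁻¹ᵁ (U.1 : S.Opens)).ι ≫ h ≫ f = (g ⁻¹ᵁ (U.1 : S.Opens)).ι ≫ g
  rw [reassoc_of% (hh U), piece_comp]

theorem alg_ext (a b : AffAlg.alg f ⟶ AffAlg.alg g)
    (h : ∀ U : S.affineOpens, a.app (Opposite.op U.1) = b.app (Opposite.op U.1)) : a = b := by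
  refine NatTrans.ext (funext fun O => ?_)
  refine CommRingCat.hom_ext (RingHom.ext fun s => ?_)
  refine TopCat.Presheaf.section_ext Y.sheaf _ _ _ fun y hy => ?_
  obtain ⟨W, hW, hyW, hle⟩ := exists_isAffineOpen_mem_and_subset (x := g y) (U := O.unop) hy
  have key : ∀ c : AffAlg.alg f ⟶ AffAlg.alg g, Y.presheaf.germ (g ⁻¹ᵁ O.unop) y hy ((c.app O).hom s) =
      Y.presheaf.germ (g ⁻¹ᵁ W) y hyW ((c.app (Opposite.op W)).hom ((AffAlg.alg f).map (homOfLE hle).op s)) := fun c => by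
    have hn := congr($(c.naturality (homOfLE hle).op) s)
    refine Eq.trans ?_ (congrArg _ hn.symm)
    exact (TopCat.Presheaf.germ_res_apply Y.presheaf _ y hyW _).symm
  refine (key a).trans (Eq.trans ?_ (key b).symm)
  rw [h ⟨W, hW⟩]


/-- Let f : X → S be an affine morphism and g : Y → S any morphism. Then h ↦ A(h) = f_*(h^♯) is a
bijection from the set of S-morphisms Y → X onto the set of O_S-algebra homomorphisms f_*O_X →
g_*O_Y (morphisms of sheaves of rings compatible with the structure maps from O_S). -/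
theorem result {X Y S : Scheme.{u}} (f : X ⟶ S) [IsAffineHom f] (g : Y ⟶ S) :
    Function.Bijective (AffAlg.algOf f g) := by
  constructor
  · rintro ⟨h, w⟩ ⟨h', w'⟩ e
    refine Subtype.ext (Scheme.hom_ext_of_forall h h' fun y => ?_)
    obtain ⟨W, hW, hyW, -⟩ := exists_isAffineOpen_mem_and_subset (x := g y) (U := ⊤) trivial
    refine ⟨g ⁻¹ᵁ W, hyW, ?_⟩
    rw [ι_comp f g h w ⟨W, hW⟩, ι_comp f g h' w' ⟨W, hW⟩, show AffAlg.algHom f g h w = AffAlg.algHom f g h' w' from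
      congrArg Subtype.val e]
  · intro ω
    obtain ⟨h, w, hh⟩ := exists_hom f g ω
    refine ⟨⟨h, w⟩, Subtype.ext (alg_ext f g _ _ fun U => eq_of_toSpecΓ _ _ ?_)⟩
    rw [← cancel_mono (U.2.preimage f).fromSpec, Category.assoc, Category.assoc]
    exact (ι_comp f g h w U).symm.trans (hh U)


end Groth.Agent.S3569
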