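import Groth.Statements.S8255

-- import your own Groth.Agent.* helpers here

set_option autoImplicit false
universe u
open CategoryTheory CategoryTheory.Limits AlgebraicGeometry Opposite TopologicalSpace
open EGA2

namespace Groth.Agent.S8255



/-- Let S be a scheme and A a quasi-coherent O_S-algebra, and let π : Spec(A) → S be its relative
spectrum (glued from the affine schemes Spec A(U), U an affine open of S). Then the canonical
comparison map π_* O_{Spec(A)} → A (which over an affine open U is restriction to the chart Spec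
A(U) followed by Γ(Spec R) = R) is an isomorphism; in other words the direct-image algebra of
Spec(A) is A. -/
theorem result {S : Scheme.{u}} (A : RelSpec.QCAlg S) : IsIso A.gammaMap := by
  have hr : IsIso (Functor.whiskerLeft (Scheme.AffineZariskiSite.toOpensFunctor S).op A.gammaMap) := by
    rw [A.gammaMap_restrict]
    have : ∀ U, IsIso (A.gammaRestrict.app U) := fun U => by
      haveI := Scheme.Hom.isIso_app (A.ι U.unop.1 U.unop.2) (A.π ⁻¹ᵁ U.unop.1) (A.π_preimage U.unop.1 U.unop.2).le
      change IsIso (A.gammaAff U.unop.1 U.unop.2)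
      rw [RelSpec.QCAlg.gammaAff, Scheme.Hom.appLE]
      have hV : A.ι U.unop.1 U.unop.2 ⁻¹ᵁ (A.π ⁻¹ᵁ U.unop.1) = ⊤ := top_le_iff.1 (A.top_le_preimage U.unop.1 U.unop.2)
      haveI : IsIso ((homOfLE (A.top_le_preimage U.unop.1 U.unop.2))) :=
        ⟨⟨homOfLE hV.le, Subsingleton.elim _ _, Subsingleton.elim _ _⟩⟩
      infer_instance
    exact NatIso.isIso_of_isIso_app _
  let F : TopCat.Sheaf CommRingCat.{u} S.carrier :=
    ⟨A.π.base _* A.spec.presheaf, TopCat.Sheaf.pushforward_sheaf_of_sheaf A.π.base A.spec.sheaf.property⟩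
  let G : TopCat.Sheaf CommRingCat.{u} S.carrier := ⟨A.presheaf, A.isSheaf⟩
  let α : F ⟶ G := ⟨A.gammaMap⟩
  haveI : IsIso α := Functor.IsCoverDense.iso_of_restrict_iso
    (G := Scheme.AffineZariskiSite.toOpensFunctor S) α hr
  exact inferInstanceAs (IsIso ((TopCat.Sheaf.forget _ _).map α))


end Groth.Agent.S8255
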