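import Groth.Statements.S8267
import Mathlib
import Groth.Agent.SymAlgLib.Chart
import Groth.Agent.SymAlgLib.Pts
import Groth.Agent.QCohLib.AffineFinite
-- import your own Groth.Agent.* helpers here

set_option autoImplicit false
universe u
open CategoryTheory CategoryTheory.Limits AlgebraicGeometry Opposite TopologicalSpace
open EGA2

namespace Groth.Agent.S8267

/-- Let E be a quasi-coherent O_S-module of finite type and A (through j : E → A) its symmetric algebra.
Then the vector bundle V(E) = Spec(A) is of finite type over S, i.e. its (affine) structure morphism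
is locally of finite type. -/
theorem result {S : Scheme.{u}} (E : S.Modules) (hE : Coh.IsCoh E)
    (A : RelSpec.QCAlg S) (j : E ⟶ A.toModule) (hA : RelSpec.IsSymAlg E A j) :
    LocallyOfFiniteType A.π := by
  haveI : Coh.IsQCoh E := hE.1
  refine SymAlgLib.prop_π fun U hU => ?_
  refine (HasRingHomProperty.Spec_iff (P := @LocallyOfFiniteType)).mpr ?_
  obtain ⟨e, ha, -⟩ := SymAlgLib.exists_affineIso hA ⟨U, hU⟩
  haveI := QCohLib.finite_of_isFT hE.2 hU
  obtain ⟨s, hs⟩ := Module.Finite.fg_top (R := Γ(S, U)) (M := Γ(E, U))
  have hft : Algebra.FiniteType Γ(S, U) (SymmetricAlgebra Γ(S, U) Γ(E, U)) := by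
    classical
    refine ⟨⟨s.image (SymmetricAlgebra.ι _ _), ?_⟩⟩
    rw [eq_top_iff]
    intro x hx
    clear hx
    induction x using SymmetricAlgebra.induction with
    | algebraMap r => exact Subalgebra.algebraMap_mem _ r
    | ι m =>
      have hm : m ∈ Submodule.span Γ(S, U) (s : Set Γ(E, U)) := hs.symm ▸ trivial
      induction hm using Submodule.span_induction with
      | mem y hy => exact Algebra.subset_adjoin (Finset.mem_coe.mpr (Finset.mem_image_of_mem _ hy))
      | zero => rw [map_zero]; exact Subalgebra.zero_mem _
      | add y z _ _ hy hz => rw [map_add]; exact Subalgebra.add_mem _ hy hz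
      | smul a y _ hy => rw [map_smul]; exact Subalgebra.smul_mem _ hy a
    | mul a b hxa hxb => exact Subalgebra.mul_mem _ hxa hxb
    | add a b hxa hxb => exact Subalgebra.add_mem _ hxa hxb
  have h1 : (A.str.app (op U)).hom = e.toRingHom.comp (algebraMap _ _) := RingHom.ext fun a => (ha a).symm
  rw [h1]
  exact RingHom.FiniteType.of_surjective _ e.surjective |>.comp (RingHom.finiteType_algebraMap.mpr hft)

end Groth.Agent.S8267
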