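import Groth.Statements.S0829
import Groth.Agent.FormalCohLib.Torsion

set_option autoImplicit false
universe u
open Formal2

namespace Groth.Agent.S0829

open CategoryTheory CategoryTheory.Limits AlgebraicGeometry Opposite in
/-- Let A be a ring, I ⊆ A an ideal and X a Noetherian scheme over Spec A; inverse systems are indexed
so that position n holds the quotient by I^(n+1). Let G be a coherent O_X-module, (F_n) a coherent
formal module for I (every F_n coherent and killed by I^(n+1), with transition maps inducing
isomorphisms F_{n+1}/I^(n+1)F_{n+1} ≅ F_n), and α : (F_n) → (G/I^(n+1)G) a map of inverse systems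
such that one fixed power of I kills the kernel and the cokernel of every component α_n. Then there
are a coherent O_X-module F, a map a : F → G whose kernel and cokernel are killed by a power of I,
and an isomorphism of systems β : (F_n) ≅ (F/I^(n+1)F) under which α becomes the map of systems
induced by a: for every n, the projection F → F/I^(n+1)F followed by β_n⁻¹ and then α_n equals a
followed by the projection G → G/I^(n+1)G. (The published statement also asserts uniqueness of (F,
a, β) and has a further part; only existence is stated here.) -/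
theorem result (A : Type u) [CommRing A] (I : Ideal A) (X : Scheme.{u})
    [X.Over (Spec (CommRingCat.of A))] [IsNoetherian X] (G : X.Modules) (hG : Coh.IsCoh G)
    (F : ℕᵒᵖ ⥤ X.Modules) (hF : Formal.IsCohFormal I F) (α : F ⟶ Formal.completion I G)
    (hα : Formal2.KerCokerKilledByIPow I α) :
    ∃ (F' : X.Modules) (a : F' ⟶ G) (β : F ≅ Formal.completion I F'), Coh.IsCoh F' ∧
      Formal2.KerCokerKilledByIPowHom I a ∧
      ∀ n : ℕ, Formal.modPowπ I (n + 1) F' ≫ β.inv.app (op n) ≫ α.app (op n) = a ≫ Formal.modPowπ I (n + 1) G := by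
  obtain ⟨t, ht⟩ := hα
  have hk : ∀ (e : ℕ) (N : X.Modules), Coh.IsCoh N → ClSub.KilledByIdeal (FormalCohLib.idSheaf I ^ e) N →
      Formal.KilledBy (I ^ e) N := fun e N hN h =>
    have := hN.1
    FormalCohLib.killedBy_of_idSheaf I h
  obtain ⟨M, a, i, hM, hi, s, hs₁, hs₂⟩ := FormalCohLib.exists_algebraisation_hom (K := FormalCohLib.idSheaf I) hF
    (fun e M N hM hN hkM _ ψ => FormalCohLib.existsUnique_complMap_of_killed hM hN e (Or.inl (hk e M hM hkM)) ψ)
    (fun e G' hG' hk' => by
      obtain ⟨M, hM, hkM, h⟩ := FormalCohLib.exists_algebraisation_killed hG' e fun n => hk e _ (hG'.1 n) (hk' n)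
      exact ⟨M, hM, FormalCohLib.killedByIdeal_idSheaf I hkM, h⟩)
    hG α (t + 1) (fun n => ⟨FormalCohLib.killedByIdeal_idSheaf I (ht n).1,
      FormalCohLib.killedByIdeal_idSheaf I (ht n).2⟩)
  have hle : I ^ (s + 1) ≤ I ^ s := Ideal.pow_le_pow_right (Nat.le_succ s)
  refine ⟨M, a, i, hM, ⟨s, FormalCohLib.killedBy_mono hle (hk s _ (QCohLib.isCoh_kernel a hM hG.1) hs₁),
    FormalCohLib.killedBy_mono hle (hk s _ (QCohLib.isCoh_cokernel a hM.1 hG) hs₂)⟩, fun n => ?_⟩
  have e : i.inv ≫ α = FormalCohLib.complMap I a := by rw [← hi, i.inv_hom_id_assoc]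
  exact (congrArg (fun t => Formal.modPowπ I (n + 1) M ≫ NatTrans.app t (op n)) e).trans (FormalCohLib.π_complMap a n)

end Groth.Agent.S0829
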