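import Groth.Agent.AlgzCohLib.CompletionBase
import Groth.Agent.S9539
import Groth.Agent.S0829
import Groth.Agent.S0851
import Groth.Agent.CohGenLib.Pro
import Groth.Agent.FormalPullLib.Basic

/-! # Extension of formal modules is insensitive to maps iso up to bounded torsion -/

set_option autoImplicit false
set_option backward.isDefEq.respectTransparency false
set_option backward.isDefEq.respectTransparency.types false
set_option linter.style.haveILetI false
set_option linter.unusedSectionVars false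

universe u

open CategoryTheory CategoryTheory.Limits AlgebraicGeometry Opposite TopologicalSpace AlgzCohLib

noncomputable section

namespace AlgzTransLib

attribute [local instance 10000] selfOver

variable {A A' : Type u} [CommRing A] [CommRing A'] [Algebra A A'] (U : (Spec (CommRingCat.of A)).Opens)


theorem toGlobal_restrict (a : A) :
    ((specMapA A A' ∣_ U)).appTop (Coh.toGlobal ((U : Scheme.{u}) ↘ Spec (CommRingCat.of A)) a) =
      Coh.toGlobal (((specMapA A A' ⁻¹ᵁ U : _) : Scheme.{u}) ↘ Spec (CommRingCat.of A')) (algebraMap A A' a) := by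
  have h1 := ConcreteCategory.congr_hom (Scheme.ΓSpecIso_inv_naturality (CommRingCat.ofHom (algebraMap A A'))) a
  have h2 := congrArg (fun t => t.appTop) (morphismRestrict_ι (specMapA A A') U)
  simp only [Scheme.Hom.comp_appTop] at h2
  have h3 := ConcreteCategory.congr_hom h2 ((Scheme.ΓSpecIso (CommRingCat.of A)).inv a)
  change ((specMapA A A' ∣_ U)).appTop (U.ι.appTop ((Scheme.ΓSpecIso (CommRingCat.of A)).inv a)) =
    (Scheme.Opens.ι (specMapA A A' ⁻¹ᵁ U)).appTop ((Scheme.ΓSpecIso (CommRingCat.of A')).inv (algebraMap A A' a))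
  exact h3.trans (congrArg (Scheme.Opens.ι (specMapA A A' ⁻¹ᵁ U)).appTop h1.symm)

theorem pull_smulMod (M : (U : Scheme.{u}).Modules) (a : A) :
    (Scheme.Modules.pullback (specMapA A A' ∣_ U)).map (Formal.smulMod A M a) =
      Formal.smulMod A' ((Scheme.Modules.pullback (specMapA A A' ∣_ U)).obj M) (algebraMap A A' a) := by
  let adj := Scheme.Modules.pullbackPushforwardAdjunction (specMapA A A' ∣_ U)
  apply (adj.homEquiv M _).injective
  rw [Adjunction.homEquiv_unit, Adjunction.homEquiv_unit]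
  refine (adj.unit.naturality (Formal.smulMod A M a)).symm.trans ?_
  refine Eq.trans ?_ (congrArg (adj.unit.app M ≫ ·)
    ((FormalPullLib.pushforward_smulModΓ (specMapA A A' ∣_ U) ((Scheme.Modules.pullback (specMapA A A' ∣_ U)).obj M)
        (Coh.toGlobal ((U : Scheme.{u}) ↘ Spec (CommRingCat.of A)) a)).symm.trans
      (congrArg (fun r => (Scheme.Modules.pushforward (specMapA A A' ∣_ U)).map (Formal.smulModΓ _ r)) (toGlobal_restrict U a))))
  exact (AlgzCohLib.smulMod_naturality (adj.unit.app M) a).symm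

theorem killedBy_map' {Y : Scheme.{u}} [Y.Over (Spec (CommRingCat.of A'))] {J : Ideal A} {N : Y.Modules}
    (h : ∀ a ∈ J, Formal.smulMod A' N (algebraMap A A' a) = 0) : Formal.KilledBy (J.map (algebraMap A A')) N := by
  intro b hb
  refine Submodule.span_induction (p := fun y _ => Formal.smulMod A' N y = 0) ?_ ?_ ?_ ?_ hb
  · rintro _ ⟨a, ha, rfl⟩
    exact h a ha
  · have := FormalLib.smulMod_add (A := A') N (0 : A') 0
    rw [add_zero] at this
    exact left_eq_add.1 this
  · intro y z _ _ hy hz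
    rw [FormalLib.smulMod_add, hy, hz, add_zero]
  · intro c y _ hy
    rw [smul_eq_mul, FormalLib.smulMod_mul, hy, zero_comp]

theorem killedBy_pull {J : Ideal A} {M : (U : Scheme.{u}).Modules} (h : Formal.KilledBy J M) :
    Formal.KilledBy (J.map (algebraMap A A')) ((Scheme.Modules.pullback (specMapA A A' ∣_ U)).obj M) := by
  haveI : (Scheme.Modules.pullback (specMapA A A' ∣_ U)).IsLeftAdjoint := (Scheme.Modules.pullbackPushforwardAdjunction (specMapA A A' ∣_ U)).isLeftAdjoint
  haveI : (Scheme.Modules.pullback (specMapA A A' ∣_ U)).PreservesZeroMorphisms := Functor.preservesZeroMorphisms_of_isLeftAdjoint _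
  refine killedBy_map' fun a ha => ?_
  rw [← pull_smulMod, h a ha, Functor.map_zero]

theorem killedBy_of_iso {R : Type u} [CommRing R] {Y : Scheme.{u}} [Y.Over (Spec (CommRingCat.of R))] {J : Ideal R}
    {M N : Y.Modules} (e : M ≅ N) (h : Formal.KilledBy J M) : Formal.KilledBy J N := fun a ha => by
  rw [← cancel_epi e.hom, AlgzCohLib.smulMod_naturality, h a ha, zero_comp, comp_zero]

theorem isModQuot_pull {J : Ideal A} {M N : (U : Scheme.{u}).Modules} {p : M ⟶ N}
    (hp : IsModQuot J p) (hN : Formal.KilledBy J N) :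
    IsModQuot (J.map (algebraMap A A')) ((Scheme.Modules.pullback (specMapA A A' ∣_ U)).map p) := by
  let adj := Scheme.Modules.pullbackPushforwardAdjunction (specMapA A A' ∣_ U)
  haveI := hp.epi
  haveI : (Scheme.Modules.pullback (specMapA A A' ∣_ U)).IsLeftAdjoint := adj.isLeftAdjoint
  haveI : (Scheme.Modules.pullback (specMapA A A' ∣_ U)).PreservesZeroMorphisms := Functor.preservesZeroMorphisms_of_isLeftAdjoint _
  refine ⟨fun b hb => smulMod_comp_eq_zero (killedBy_pull U hN) _ hb, inferInstance, fun T g hg => ?_⟩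
  obtain ⟨g', hg'⟩ := hp.factor _ (adj.homEquiv M T g) fun a ha => by
    rw [← adj.homEquiv_naturality_left, pull_smulMod, hg _ (Ideal.mem_map_of_mem _ ha),
      Adjunction.homEquiv_unit, Functor.map_zero, comp_zero]
  refine ⟨(adj.homEquiv N T).symm g', ?_⟩
  rw [← adj.homEquiv_naturality_left_symm, hg', Equiv.symm_apply_apply]

theorem isCohFormal_pull {I : Ideal A} {G : ℕᵒᵖ ⥤ (U : Scheme.{u}).Modules} (hG : Formal.IsCohFormal I G) :
    Formal.IsCohFormal (I.map (algebraMap A A')) (G ⋙ Scheme.Modules.pullback (specMapA A A' ∣_ U)) := by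
  refine isCohFormal_of (fun n => ConsLib.isCoh_pullback (specMapA A A' ∣_ U) (hG.1 n)) (fun n => ?_) (fun n => ?_)
  · rw [← Ideal.map_pow]
    exact killedBy_pull U (hG.2.1 n)
  · rw [← Ideal.map_pow]
    exact isModQuot_pull U (tr_succ_isModQuot hG n) (hG.2.1 n)

theorem kerCoker_pull [Module.Flat A A'] {I : Ideal A} {G G' : ℕᵒᵖ ⥤ (U : Scheme.{u}).Modules} (α : G ⟶ G')
    (h : Formal2.KerCokerKilledByIPow I α) :
    Formal2.KerCokerKilledByIPow (I.map (algebraMap A A')) (Functor.whiskerRight α (Scheme.Modules.pullback (specMapA A A' ∣_ U))) := by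
  obtain ⟨t, ht⟩ := h
  haveI := flat_specMapA (A := A) (A' := A')
  haveI : Flat (specMapA A A' ∣_ U) := IsZariskiLocalAtTarget.restrict (P := @Flat) ‹_› U
  haveI := CohGenLib.preservesFiniteLimits_pullback_flat (specMapA A A' ∣_ U)
  haveI : (Scheme.Modules.pullback (specMapA A A' ∣_ U)).IsLeftAdjoint := (Scheme.Modules.pullbackPushforwardAdjunction (specMapA A A' ∣_ U)).isLeftAdjoint
  haveI : (Scheme.Modules.pullback (specMapA A A' ∣_ U)).PreservesZeroMorphisms := Functor.preservesZeroMorphisms_of_isLeftAdjoint _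
  refine ⟨t, fun n => ?_⟩
  rw [← Ideal.map_pow]
  exact ⟨killedBy_of_iso (PreservesKernel.iso _ (α.app (op n))) (killedBy_pull U (ht n).1),
    killedBy_of_iso (PreservesCokernel.iso _ (α.app (op n))) (killedBy_pull U (ht n).2)⟩

theorem kerCoker_iso_comp {R : Type u} [CommRing R] {Y : Scheme.{u}} [Y.Over (Spec (CommRingCat.of R))] {J : Ideal R}
      {F G H : ℕᵒᵖ ⥤ Y.Modules} (e : F ≅ G) (β : G ⟶ H) (h : Formal2.KerCokerKilledByIPow J β) :
      Formal2.KerCokerKilledByIPow J (e.hom ≫ β) := by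
    obtain ⟨t, ht⟩ := h
    exact ⟨t, fun n => ⟨killedBy_of_iso (kernelIsIsoComp (e.hom.app (op n)) (β.app (op n))).symm (ht n).1,
      killedBy_of_iso (cokernelEpiComp (e.hom.app (op n)) (β.app (op n))).symm (ht n).2⟩⟩
theorem kerCoker_comp_iso {R : Type u} [CommRing R] {Y : Scheme.{u}} [Y.Over (Spec (CommRingCat.of R))] {J : Ideal R}
      {F G H : ℕᵒᵖ ⥤ Y.Modules} (β : F ⟶ G) (e : G ≅ H) (h : Formal2.KerCokerKilledByIPow J β) :
      Formal2.KerCokerKilledByIPow J (β ≫ e.hom) := by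
    obtain ⟨t, ht⟩ := h
    exact ⟨t, fun n => ⟨killedBy_of_iso (kernelCompMono (β.app (op n)) (e.hom.app (op n))).symm (ht n).1,
      killedBy_of_iso (cokernelCompIsIso (β.app (op n)) (e.hom.app (op n))).symm (ht n).2⟩⟩


theorem extends_iff [IsNoetherianRing A] {I 𝔞 : Ideal A} (hI𝔞 : I ≤ 𝔞)
    {G G' : ℕᵒᵖ ⥤ (↑(LocCoh.puncturedOpen A 𝔞) : Scheme.{u}).Modules} (hG : Formal.IsCohFormal I G)
    (hG' : Formal.IsCohFormal I G') (α : G ⟶ G') (hα : Formal2.KerCokerKilledByIPow I α) :
    Algz.Extends I (LocCoh.puncturedOpen A 𝔞) G ↔ Algz.Extends I (LocCoh.puncturedOpen A 𝔞) G' := by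
  haveI := AdicRingLib.isNoetherianRing_adicCompletion I
  haveI : Module.Flat A (AdicCompletion I A) := AdicCompletion.flat_of_isNoetherian I
  haveI : NoetherianSpace ↥(Spec (CommRingCat.of (AdicCompletion I A))) := inferInstance
  haveI : IsLocallyNoetherian ((specMapA A (AdicCompletion I A) ⁻¹ᵁ LocCoh.puncturedOpen A 𝔞 : _) : Scheme.{u}) :=
    isLocallyNoetherian_of_isOpenImmersion (Scheme.Opens.ι _)
  haveI : CompactSpace ((specMapA A (AdicCompletion I A) ⁻¹ᵁ LocCoh.puncturedOpen A 𝔞 : _) : Scheme.{u}) :=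
    isCompact_iff_compactSpace.mp (NoetherianSpace.isCompact _)
  haveI : IsNoetherian ((specMapA A (AdicCompletion I A) ⁻¹ᵁ LocCoh.puncturedOpen A 𝔞 : _) : Scheme.{u}) := AlgebraicGeometry.IsNoetherian.mk
  let β := Functor.whiskerRight α (Scheme.Modules.pullback (specMapA A (AdicCompletion I A) ∣_ LocCoh.puncturedOpen A 𝔞))
  have hβ := kerCoker_pull (A' := AdicCompletion I A) (LocCoh.puncturedOpen A 𝔞) α hα
  have c₁ := isCohFormal_pull (A' := AdicCompletion I A) (LocCoh.puncturedOpen A 𝔞) hG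
  have c₂ := isCohFormal_pull (A' := AdicCompletion I A) (LocCoh.puncturedOpen A 𝔞) hG'
  refine Iff.trans (Groth.Agent.S9539.result A I 𝔞 hI𝔞 G hG) (Iff.trans ⟨?_, ?_⟩ (Groth.Agent.S9539.result A I 𝔞 hI𝔞 G' hG').symm)
  · rintro ⟨F, hF, ⟨e⟩⟩
    obtain ⟨F', -, e', hF', -, -⟩ := Groth.Agent.S0851.result (AdicCompletion I A) _ _ F hF _ c₂ (e.hom ≫ β)
      (kerCoker_iso_comp e β hβ)
    exact ⟨F', hF', ⟨e'⟩⟩
  · rintro ⟨F', hF', ⟨e'⟩⟩
    obtain ⟨F, -, e, hF, -, -⟩ := Groth.Agent.S0829.result (AdicCompletion I A) _ _ F' hF' _ c₁ (β ≫ e'.inv)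
      (kerCoker_comp_iso β e'.symm hβ)
    exact ⟨F, hF, ⟨e.symm⟩⟩
end AlgzTransLib
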