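import Groth.Statements.S4851
import Mathlib
import Groth.Agent.RichLib.IsFPAffine
import Groth.Agent.RichLib.FlatSyzygy
import Groth.Agent.RichLib.FlatLociOpen

set_option autoImplicit false
universe u
open EGA43

namespace Groth.Agent.S4851

open AlgebraicGeometry CategoryTheory Limits in
/-- the stalk map, read on germs -/
theorem stalk_germ {X : Scheme.{u}} {F F' : X.Modules} (u : F' ⟶ F) {V : X.Opens} {z : X} (hz : z ∈ V)
    (m : Γ(F', V)) :
    (TopCat.Presheaf.stalkFunctor Ab z).map (Scheme.Modules.Hom.mapPresheaf u) (F'.presheaf.germ V z hz m) =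
      F.presheaf.germ V z hz (QCohLib.appLin u V m) :=
  TopCat.Presheaf.stalkFunctor_map_germ_apply V z hz (Scheme.Modules.Hom.mapPresheaf u) m

open AlgebraicGeometry CategoryTheory Limits in
/-- Let f : X ⟶ Y be locally of finite presentation, F and F' quasi-coherent O_X-modules of finite
presentation and u : F' ⟶ F a homomorphism. Then the set of points x of X at which the stalk map u_x
is injective and Coker u is f-flat at x is open in X. (No flatness hypothesis on F is made; the form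
of this openness statement in which F is moreover assumed f-flat is a special case.) -/
theorem result {X Y : Scheme.{u}} (f : X ⟶ Y)
    [LocallyOfFinitePresentation f] (F F' : X.Modules) [Coh.IsQCoh F] [Coh.IsQCoh F']
    (hF : CohB1.IsFP F) (hF' : CohB1.IsFP F') (u : F' ⟶ F) :
    IsOpen {x : X | Function.Injective ((TopCat.Presheaf.stalkFunctor Ab x).map (Scheme.Modules.Hom.mapPresheaf u)) ∧
      FlatMod.IsFlatOverAt f (cokernel u) x} := by
  haveI : Coh.IsQCoh (cokernel u) := QCohLib.isQCoh_cokernel u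
  have hfpC : CohB1.IsFP (cokernel u) := by
    refine RichLib.IsFPAffine.isFP_of_finitePresentation _ fun x => ?_
    obtain ⟨V, hV, -, hxV, hfF, hfF'⟩ :=
      RichLib.IsFPAffine.exists_finitePresentation_two hF hF' (x := x) (U := ⊤) trivial
    refine ⟨V, hV, hxV, Module.finitePresentation_of_surjective (QCohLib.appLin (cokernel.π u) V)
      (RichLib.IsFPAffine.appLin_surjective (cokernel.π u) hV) ?_⟩
    rw [RichLib.IsFPAffine.ker_appLin_cokernel_π u hV, ← Submodule.map_top]
    exact (Module.Finite.fg_top).map _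
  refine isOpen_iff_forall_mem_open.mpr fun x hx => ?_
  obtain ⟨hinj, hflat⟩ := hx
  obtain ⟨U, hU, hxU⟩ := QCohLib.exists_affine_nhd (f x)
  let O : X.Opens := ⟨_, RichLib.FlatLoci.isOpen_setOf_isFlatOverAt f (cokernel u) hfpC⟩
  obtain ⟨V, hV, hVU, hxV, hfF, hfF'⟩ :=
    RichLib.IsFPAffine.exists_finitePresentation_two hF hF' (U := f ⁻¹ᵁ U ⊓ O) ⟨hxU, hflat⟩
  have hVU' : V ≤ f ⁻¹ᵁ U := hVU.trans inf_le_left
  have hfp := f.finitePresentation_appLE hU hV hVU'
  algebraize [(f.appLE U V hVU').hom]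
  let uV := QCohLib.appLin u V
  let πV := QCohLib.appLin (cokernel.π u) V
  letI : Module Γ(Y, U) Γ(cokernel u, V) := Module.compHom Γ(cokernel u, V) (f.appLE U V hVU').hom
  haveI : IsScalarTower Γ(Y, U) Γ(X, V) Γ(cokernel u, V) := IsScalarTower.of_algebraMap_smul fun _ _ => rfl
  haveI : Module.Flat Γ(Y, U) Γ(cokernel u, V) :=
    RichLib.IsFPAffine.flat_sections f (cokernel u) hU hV hVU' rfl fun z hz => (hVU hz).2
  have hπ : Function.Surjective πV := RichLib.IsFPAffine.appLin_surjective (cokernel.π u) hV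
  haveI : Module.FinitePresentation Γ(X, V) Γ(cokernel u, V) :=
    Module.finitePresentation_of_surjective πV hπ (by
      rw [RichLib.IsFPAffine.ker_appLin_cokernel_π u hV, ← Submodule.map_top]
      exact (Module.Finite.fg_top).map _)
  haveI : Module.FinitePresentation Γ(X, V) (LinearMap.range uV) := by
    haveI := RichLib.FlatSyzygy.fp_ker (A := Γ(Y, U)) πV hπ
    exact Module.FinitePresentation.of_equiv
      (LinearEquiv.ofEq _ _ (RichLib.IsFPAffine.ker_appLin_cokernel_π u hV))
  have hK : (LinearMap.ker uV).FG := by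
    rw [← LinearMap.ker_rangeRestrict]
    exact Module.FinitePresentation.fg_ker uV.rangeRestrict uV.surjective_rangeRestrict
  -- one element outside the prime of `x` kills the kernel
  obtain ⟨s, hsx, hs⟩ : ∃ s : Γ(X, V), x ∈ X.basicOpen s ∧ ∀ m, uV m = 0 → s • m = 0 := by
    letI := Module.compHom (F'.presheaf.stalk x) (X.presheaf.germ V x hxV).hom
    haveI := FlatLib.isLocalizedModule_germLin F' hV hxV
    obtain ⟨T, hT⟩ := hK
    have h1 : ∀ m ∈ T, ∃ s : (hV.primeIdealOf ⟨x, hxV⟩).asIdeal.primeCompl, s • m = 0 := by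
      intro m hm
      have hm0 : uV m = 0 := LinearMap.mem_ker.mp (hT ▸ Submodule.subset_span hm)
      refine (IsLocalizedModule.eq_zero_iff _ (FlatLib.germLin F' hxV)).mp (hinj ?_)
      show (TopCat.Presheaf.stalkFunctor Ab x).map (Scheme.Modules.Hom.mapPresheaf u)
        (F'.presheaf.germ V x hxV m) = _
      rw [stalk_germ]
      exact ((congrArg _ hm0).trans (map_zero (F.presheaf.germ V x hxV).hom)).trans (map_zero _).symm
    choose t ht using h1
    let s := ∏ m ∈ T.attach, (t m.1 m.2 : Γ(X, V))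
    have hsP : s ∈ (hV.primeIdealOf ⟨x, hxV⟩).asIdeal.primeCompl :=
      Submonoid.prod_mem _ fun m _ => (t m.1 m.2).2
    refine ⟨s, ?_, fun m hm => ?_⟩
    · letI : Algebra Γ(X, V) (X.presheaf.stalk x) := (X.presheaf.germ V x hxV).hom.toAlgebra
      have hloc : IsLocalization.AtPrime (X.presheaf.stalk x) (hV.primeIdealOf ⟨x, hxV⟩).asIdeal :=
        hV.isLocalization_stalk ⟨x, hxV⟩
      exact (X.mem_basicOpen s x hxV).mpr
        ((IsLocalization.AtPrime.isUnit_to_map_iff (X.presheaf.stalk x) _ s).mpr hsP)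
    · have hle : Submodule.span Γ(X, V) (T : Set Γ(F', V)) ≤ LinearMap.ker (s • LinearMap.id) := by
        refine Submodule.span_le.mpr fun n hn => ?_
        show s • n = 0
        obtain ⟨c, hc⟩ : (t n hn : Γ(X, V)) ∣ s := Finset.dvd_prod_of_mem _ (Finset.mem_attach T ⟨n, hn⟩)
        rw [hc, mul_comm, mul_smul, ← Submonoid.smul_def, ht n hn, smul_zero]
      exact hle (hT.symm ▸ (LinearMap.mem_ker.mpr hm : m ∈ LinearMap.ker uV))
  refine ⟨X.basicOpen s, fun z hz => ?_, (X.basicOpen s).2, hsx⟩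
  have hzV : z ∈ V := X.basicOpen_le s hz
  refine ⟨?_, (hVU hzV).2⟩
  letI := Module.compHom (F'.presheaf.stalk z) (X.presheaf.germ V z hzV).hom
  letI := Module.compHom (F.presheaf.stalk z) (X.presheaf.germ V z hzV).hom
  haveI := FlatLib.isLocalizedModule_germLin F' hV hzV
  haveI := FlatLib.isLocalizedModule_germLin F hV hzV
  have hsz : s ∈ (hV.primeIdealOf ⟨z, hzV⟩).asIdeal.primeCompl := by
    letI : Algebra Γ(X, V) (X.presheaf.stalk z) := (X.presheaf.germ V z hzV).hom.toAlgebra
    have hloc : IsLocalization.AtPrime (X.presheaf.stalk z) (hV.primeIdealOf ⟨z, hzV⟩).asIdeal :=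
      hV.isLocalization_stalk ⟨z, hzV⟩
    exact (IsLocalization.AtPrime.isUnit_to_map_iff (X.presheaf.stalk z) _ s).mp ((X.mem_basicOpen s z hzV).mp hz)
  refine (injective_iff_map_eq_zero _).mpr fun σ hσ => ?_
  obtain ⟨⟨m, t⟩, hm⟩ := IsLocalizedModule.surj (hV.primeIdealOf ⟨z, hzV⟩).asIdeal.primeCompl
    (FlatLib.germLin F' hzV) σ
  have h2 : FlatLib.germLin F hzV (uV m) = 0 := by
    show F.presheaf.germ V z hzV (uV m) = 0
    rw [← stalk_germ]
    show (TopCat.Presheaf.stalkFunctor Ab z).map (Scheme.Modules.Hom.mapPresheaf u)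
      (FlatLib.germLin F' hzV m) = 0
    obtain ⟨W, hzW, w, rfl⟩ := TopCat.Presheaf.exists_germ_eq F'.presheaf (x := z) σ
    rw [← hm]
    show (TopCat.Presheaf.stalkFunctor Ab z).map (Scheme.Modules.Hom.mapPresheaf u)
      (X.presheaf.germ V z hzV (t : Γ(X, V)) • F'.presheaf.germ W z hzW w) = 0
    rw [← TopCat.Presheaf.germ_res_apply X.presheaf (homOfLE (inf_le_left : V ⊓ W ≤ V)) z ⟨hzV, hzW⟩,
      ← TopCat.Presheaf.germ_res_apply F'.presheaf (homOfLE (inf_le_right : V ⊓ W ≤ W)) z ⟨hzV, hzW⟩,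
      ← FlatLib.germ_smul_mod, stalk_germ, map_smul, FlatLib.germ_smul_mod, ← stalk_germ,
      TopCat.Presheaf.germ_res_apply F'.presheaf (homOfLE (inf_le_right : V ⊓ W ≤ W)) z ⟨hzV, hzW⟩, hσ]
    exact smul_zero (A := F.presheaf.stalk z) _
  obtain ⟨t', ht'⟩ := (IsLocalizedModule.eq_zero_iff (hV.primeIdealOf ⟨z, hzV⟩).asIdeal.primeCompl
    (FlatLib.germLin F hzV)).mp h2
  have h3 : s • (t' : Γ(X, V)) • m = 0 := hs _ (by rw [map_smul, ← Submonoid.smul_def]; exact ht')
  have h4 : FlatLib.germLin F' hzV m = 0 := by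
    refine (IsLocalizedModule.eq_zero_iff (hV.primeIdealOf ⟨z, hzV⟩).asIdeal.primeCompl _).mpr
      ⟨⟨s, hsz⟩ * t', ?_⟩
    rw [Submonoid.smul_def, Submonoid.coe_mul, mul_smul]
    exact h3
  rw [h4] at hm
  have hu := IsLocalizedModule.map_units (FlatLib.germLin F' hzV) t
  exact ((Module.End.isUnit_iff _).mp hu).1 (hm.trans (map_zero _).symm)

end Groth.Agent.S4851
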