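import Groth.Statements.S4887
import Mathlib
import Groth.Agent.RichLib.IsFPAffine
import Groth.Agent.RichLib.FlatSyzygy

set_option autoImplicit false
universe u
open EGA43

namespace Groth.Agent.S4887

open AlgebraicGeometry CategoryTheory Limits in
/-- Let f : X ⟶ Y be locally of finite presentation, G and H quasi-coherent O_X-modules of finite
presentation with H f-flat, and p : G ⟶ H an epimorphism. Then Ker p is an O_X-module of finite
presentation. -/
theorem result {X Y : Scheme.{u}} (f : X ⟶ Y) [LocallyOfFinitePresentation f]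
    (G H : X.Modules) [Coh.IsQCoh G] [Coh.IsQCoh H] (hG : CohB1.IsFP G) (hH : CohB1.IsFP H)
    (hflat : FlatMod.IsFlatOver f H) (p : G ⟶ H) [Epi p] :
    CohB1.IsFP (kernel p) := by
  haveI : Coh.IsQCoh (kernel p) := QCohLib.isQCoh_kernel p
  refine RichLib.IsFPAffine.isFP_of_finitePresentation _ fun x => ?_
  obtain ⟨U, hU, hxU⟩ := QCohLib.exists_affine_nhd (f x)
  obtain ⟨V, hV, hVU, hxV, hfG, hfH⟩ :=
    RichLib.IsFPAffine.exists_finitePresentation_two hG hH (U := f ⁻¹ᵁ U) hxU
  refine ⟨V, hV, hxV, ?_⟩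
  have hfp := f.finitePresentation_appLE hU hV hVU
  algebraize [(f.appLE U V hVU).hom]
  letI : Module Γ(Y, U) Γ(H, V) := Module.compHom Γ(H, V) (f.appLE U V hVU).hom
  haveI : IsScalarTower Γ(Y, U) Γ(X, V) Γ(H, V) := IsScalarTower.of_algebraMap_smul fun _ _ => rfl
  haveI : Module.Flat Γ(Y, U) Γ(H, V) :=
    RichLib.IsFPAffine.flat_sections f H hU hV hVU rfl fun z _ => hflat z
  haveI := RichLib.FlatSyzygy.fp_ker (A := Γ(Y, U)) (QCohLib.appLin p V)
    (RichLib.IsFPAffine.appLin_surjective p hV)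
  exact Module.FinitePresentation.of_equiv (RichLib.IsFPAffine.kernelEquiv p V).symm

end Groth.Agent.S4887
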