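import Groth.Statements.S14435
import Groth.Agent.CommAlgDim.Depth
import Mathlib


-- import your own Groth.Agent.* helpers here

set_option autoImplicit false
universe u
open LocCoh

namespace Groth.Agent.S14435

/-- Let (A, m) be a Noetherian local ring, φ : A → B a finite homomorphism of commutative rings, a ⊆ m
an ideal and M a finitely generated B-module. Then depth(a, M), computed over A, equals depth(aB,
M), computed over B (depths by regular sequences, ⊤ when aM = M). -/
theorem result {A B : Type u} [CommRing A] [IsNoetherianRing A] [IsLocalRing A]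
    [CommRing B] [Algebra A B] [Module.Finite A B] (a : Ideal A) (ha : a ≤ IsLocalRing.maximalIdeal A)
    (M : Type u) [AddCommGroup M] [Module B M] [Module A M] [IsScalarTower A B M] [Module.Finite B M] :
    LocCoh.idealDepth a M = LocCoh.idealDepth (a.map (algebraMap A B)) M := by
  open scoped Pointwise in
  focus
    classical
    haveI : IsNoetherianRing B := IsNoetherianRing.of_finite A B
    let aB := a.map (algebraMap A B)
    have key : ∀ (n : ℕ) (N : Type u) [AddCommGroup N] [Module B N] [Module A N] [IsScalarTower A B N] [Module.Finite B N], CommAlgDim.HasSeqIn a N n ↔ CommAlgDim.HasSeqIn aB N n := by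
      intro n
      induction n with
      | zero => intro N _ _ _ _ _; exact ⟨fun _ => CommAlgDim.hasSeqIn_zero _, fun _ => CommAlgDim.hasSeqIn_zero _⟩
      | succ n ih =>
        intro N _ _ _ _ _
        haveI : Module.Finite A N := Module.Finite.trans B N
        have hreg : ∀ x : A, IsSMulRegular N x ↔ IsSMulRegular N (algebraMap A B x) := fun x => by
          simp only [IsSMulRegular, Function.Injective, algebraMap_smul]
        have hq : ∀ x : A, Nonempty (QuotSMulTop x N ≃ₗ[A] QuotSMulTop (algebraMap A B x) N) := fun x => by
          let L : Submodule B N := algebraMap A B x • (⊤ : Submodule B N)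
          let e2 : (N ⧸ L.restrictScalars A) ≃ₗ[A] (N ⧸ L) := Submodule.Quotient.restrictScalarsEquiv A L
          have e1 : (x • (⊤ : Submodule A N)) = L.restrictScalars A := ?_
          exact ⟨(Submodule.quotEquivOfEq (x • (⊤ : Submodule A N)) (L.restrictScalars A) e1).trans e2⟩
          ext z
          change z ∈ x • (⊤ : Submodule A N) ↔ z ∈ L
          simp only [L, Submodule.mem_smul_pointwise_iff_exists, Submodule.mem_top, true_and, algebraMap_smul]
        constructor
        · intro h
          obtain ⟨x, hxa, hx⟩ := CommAlgDim.exists_isSMulRegular_mem ((CommAlgDim.hasSeqIn_one_iff a).1 (h.mono (by omega)))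
          obtain ⟨e⟩ := hq x
          exact CommAlgDim.hasSeqIn_succ_of_cons (Ideal.mem_map_of_mem _ hxa) ((hreg x).1 hx) ((ih _).1 ((h.quotSMulTop hxa hx).congr e))
        · intro h
          have hne : ∀ q ∈ associatedPrimes B N, ¬ a ≤ Ideal.comap (algebraMap A B) q := fun q hq' hle =>
            (CommAlgDim.hasSeqIn_one_iff aB).1 (h.mono (by omega)) q hq' (Ideal.map_le_iff_le_comap.2 hle)
          obtain ⟨x, hxa, hx⟩ : ∃ x ∈ a, IsSMulRegular N (algebraMap A B x) := by
            by_contra hcon
            push Not at hcon
            have hfin := associatedPrimes.finite B N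
            have hsub : (a : Set A) ⊆ ⋃ q ∈ hfin.toFinset, (Ideal.comap (algebraMap A B) q : Set A) := fun x hx => by
              have h1 : algebraMap A B x ∈ {r : B | IsSMulRegular N r}ᶜ := hcon x hx
              rw [← biUnion_associatedPrimes_eq_compl_regular B N] at h1
              simpa using h1
            obtain ⟨q, hq', hle⟩ := (Ideal.subset_union_prime ⊥ ⊥ (fun i hi _ _ => (hfin.mem_toFinset.1 hi).isPrime.comap _)).1 hsub
            exact hne q (hfin.mem_toFinset.1 hq') hle
          obtain ⟨e⟩ := hq x
          exact CommAlgDim.hasSeqIn_succ_of_cons hxa ((hreg x).2 hx) (((ih _).2 (h.quotSMulTop (Ideal.mem_map_of_mem _ hxa) hx)).congr e.symm)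
    haveI : Module.Finite A M := Module.Finite.trans B M
    refine le_antisymm ?_ ?_ <;> refine ENat.forall_natCast_le_iff_le.1 fun n hn => ?_
    · exact (CommAlgDim.le_idealDepth_iff _ n).2 ((key n M).1 ((CommAlgDim.le_idealDepth_iff _ n).1 hn))
    · exact (CommAlgDim.le_idealDepth_iff _ n).2 ((key n M).2 ((CommAlgDim.le_idealDepth_iff _ n).1 hn))

end Groth.Agent.S14435
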