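import Groth.Statements.S4718
import Groth.Agent.RestrictFinLib.Main
import Groth.Agent.CommAlgDim.DepthBounds

set_option autoImplicit false
set_option linter.style.haveILetI false
universe u
open EGA4

open SkOpenLib

namespace Groth.Agent.S4718

/-- Depth is at most dimension. -/
theorem depth_le_supportDim (A : Type u) [CommRing A] [IsNoetherianRing A] [IsLocalRing A] (M : Type u)
    [AddCommGroup M] [Module A M] [Module.Finite A M]
    [Nontrivial M] : ((LocCoh.depth A M : ℕ∞) : WithBot ℕ∞) ≤ Module.supportDim A M := by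
  obtain ⟨P, hP⟩ := associatedPrimes.nonempty A M
  have h1 : ringKrullDim (A ⧸ P) ≤ Module.supportDim A M := by
    rw [Module.supportDim_eq_ringKrullDim_quotient_annihilator]
    exact ringKrullDim_le_of_surjective
      (Ideal.Quotient.factor (le_of_eq_of_le Submodule.annihilator_top.symm (IsAssociatedPrime.annihilator_le hP)))
      (Ideal.Quotient.factor_surjective _)
  refine le_trans ?_ h1
  haveI : Nontrivial (A ⧸ P) := Ideal.Quotient.nontrivial_iff.2 hP.isPrime.ne_top
  obtain ⟨e, he⟩ := WithBot.ne_bot_iff_exists.1 (show ringKrullDim (A ⧸ P) ≠ ⊥ from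
    ne_bot_of_le_ne_bot WithBot.zero_ne_bot (ringKrullDim_nonneg_of_nontrivial (R := A ⧸ P)))
  rw [← he]
  refine WithBot.coe_le_coe.2 (ENat.forall_natCast_le_iff_le.1 fun n hn => ?_)
  have := CommAlgDim.depth_le_ringKrullDim_quotient hP ((CommAlgDim.le_depth_iff n).1 hn)
  rw [← he] at this
  exact WithBot.coe_le_coe.1 this

/-- Let A be a Noetherian local ring, B a Noetherian ring, A → B a ring homomorphism and M a nonzero
B-module which is finite as an A-module. Then M is a Cohen–Macaulay A-module if and only if, for all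
primes q of B lying over the maximal ideal of A and belonging to the support of M, the B_q-module
M_q is Cohen–Macaulay and all these modules M_q have the same dimension. -/
theorem result (A B : Type u) [CommRing A] [CommRing B]
    [IsNoetherianRing A] [IsLocalRing A] [IsNoetherianRing B] [Algebra A B]
    (M : Type u) [AddCommGroup M] [Module B M] [Module A M] [IsScalarTower A B M] [Module.Finite A M]
    [Nontrivial M] :
    LocCoh.IsCohenMacaulayModule A M ↔
      (∀ q ∈ {q : PrimeSpectrum B | q.asIdeal.comap (algebraMap A B) = IsLocalRing.maximalIdeal A ∧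
          q ∈ Module.support B M},
        LocCoh.IsCohenMacaulayModule (Localization.AtPrime q.asIdeal) (LocalizedModule q.asIdeal.primeCompl M)) ∧
      (∀ q ∈ {q : PrimeSpectrum B | q.asIdeal.comap (algebraMap A B) = IsLocalRing.maximalIdeal A ∧
          q ∈ Module.support B M},
        ∀ q' ∈ {q : PrimeSpectrum B | q.asIdeal.comap (algebraMap A B) = IsLocalRing.maximalIdeal A ∧
          q ∈ Module.support B M},
          Module.supportDim (Localization.AtPrime q.asIdeal) (LocalizedModule q.asIdeal.primeCompl M) =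
            Module.supportDim (Localization.AtPrime q'.asIdeal) (LocalizedModule q'.asIdeal.primeCompl M)) := by
  let m := IsLocalRing.maximalIdeal A
  haveI : Module.Finite B M := Module.Finite.of_restrictScalars_finite A B M
  haveI : IsLocalization.AtPrime A m := IsLocalization.self fun x hx => IsLocalRing.notMem_maximalIdeal.1 hx
  haveI : IsLocalizedModule m.primeCompl (LinearMap.id : M →ₗ[A] M) :=
    isLocalizedModule_id m.primeCompl M A
  obtain ⟨hA1, hA2⟩ := eq_of_isLocalizedModule m A (LinearMap.id : M →ₗ[A] M)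
  obtain ⟨h1, h2⟩ := RestrictFinLib.sdim_sdep (A := A) (B := B) M m
  show Module.supportDim A M = ((LocCoh.depth A M : ℕ∞) : WithBot ℕ∞) ↔ _
  rw [hA1, hA2]
  have hne : sdim M m ≠ ⊥ := hA1 ▸ Module.supportDim_ne_bot_of_nontrivial A M
  have hle : ∀ q : PrimeSpectrum B, q.asIdeal.comap (algebraMap A B) = m ∧ q ∈ Module.support B M →
      sdim M q.asIdeal ≤ sdim M m ∧ sdep M m ≤ sdep M q.asIdeal ∧
        (sdep M q.asIdeal : WithBot ℕ∞) ≤ sdim M q.asIdeal := fun q hq => by
    haveI : Nontrivial (LocalizedModule q.asIdeal.primeCompl M) := Module.mem_support_iff.1 hq.2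
    exact ⟨h1.symm ▸ le_iSup₂ (f := fun (r : PrimeSpectrum B)
        (_ : r ∈ {r : PrimeSpectrum B | r.asIdeal.comap (algebraMap A B) = m ∧ r ∈ Module.support B M}) =>
          sdim M r.asIdeal) q hq,
      h2.symm ▸ iInf₂_le (f := fun (r : PrimeSpectrum B)
        (_ : r ∈ {r : PrimeSpectrum B | r.asIdeal.comap (algebraMap A B) = m ∧ r ∈ Module.support B M}) =>
          sdep M r.asIdeal) q hq,
      depth_le_supportDim (Localization.AtPrime q.asIdeal) (LocalizedModule q.asIdeal.primeCompl M)⟩
  refine ⟨fun hCM => ?_, fun ⟨hC, hd⟩ => ?_⟩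
  · have key : ∀ q : PrimeSpectrum B, q.asIdeal.comap (algebraMap A B) = m ∧ q ∈ Module.support B M →
        sdim M q.asIdeal = sdim M m ∧ (sdep M q.asIdeal : WithBot ℕ∞) = sdim M m := fun q hq => by
      obtain ⟨a, b, c⟩ := hle q hq
      have b' : sdim M m ≤ (sdep M q.asIdeal : WithBot ℕ∞) := hCM.le.trans (WithBot.coe_le_coe.2 b)
      exact ⟨le_antisymm a (b'.trans c), le_antisymm (c.trans a) b'⟩
    exact ⟨fun q hq => (key q hq).1.trans (key q hq).2.symm,
      fun q hq q' hq' => (key q hq).1.trans (key q' hq').1.symm⟩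
  · obtain ⟨q₀, hq₀⟩ : ∃ q : PrimeSpectrum B, q.asIdeal.comap (algebraMap A B) = m ∧ q ∈ Module.support B M := by
      by_contra hc
      exact hne (le_bot_iff.1 (h1.le.trans (iSup₂_le fun q hq => (hc ⟨q, hq⟩).elim)))
    have hd' : ∀ q : PrimeSpectrum B, q.asIdeal.comap (algebraMap A B) = m ∧ q ∈ Module.support B M →
        sdim M q.asIdeal = (sdep M q₀.asIdeal : WithBot ℕ∞) ∧ sdep M q.asIdeal = sdep M q₀.asIdeal := fun q hq => by
      have e : sdim M q.asIdeal = (sdep M q₀.asIdeal : WithBot ℕ∞) := (hd q hq q₀ hq₀).trans (hC q₀ hq₀)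
      exact ⟨e, WithBot.coe_injective ((hC q hq).symm.trans e)⟩
    obtain ⟨a, b, -⟩ := hle q₀ hq₀
    have hinf : sdep M m = sdep M q₀.asIdeal :=
      le_antisymm b (h2.symm ▸ le_iInf₂ fun q hq => (hd' q hq).2.ge)
    rw [hinf]
    exact le_antisymm (h1.le.trans (iSup₂_le fun q hq => (hd' q hq).1.le)) ((hC q₀ hq₀).symm.le.trans a)

end Groth.Agent.S4718
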