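import Groth.Statements.S9637
import Mathlib.RingTheory.Ideal.AssociatedPrime.Finiteness
import Mathlib.RingTheory.Regular.IsSMulRegular
-- import your own Groth.Agent.* helpers here

set_option autoImplicit false
set_option linter.style.haveILetI false
universe u
open CAlg

namespace Groth.Agent.S9637

/-- Let R be a local Noetherian ring, I an ideal contained in its maximal ideal, and M a finite
R-module. Then I contains an M-regular element (one acting injectively on M) if and only if no
associated prime of M contains I. -/
theorem result {R : Type u} [CommRing R] [IsNoetherianRing R] [IsLocalRing R] (I : Ideal R) (hI : I ≤ IsLocalRing.maximalIdeal R) (M : Type u) [AddCommGroup M] [Module R M] [Module.Finite R M] :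
    (∃ x ∈ I, IsSMulRegular M x) ↔ ∀ q ∈ associatedPrimes R M, ¬ I ≤ q := by
  constructor
  · rintro ⟨x, hx, hreg⟩ q hq hle
    have h1 : x ∈ ⋃ p ∈ associatedPrimes R M, (p : Set R) := Set.mem_biUnion hq (hle hx)
    rw [biUnion_associatedPrimes_eq_zero_divisors] at h1
    obtain ⟨m, hm, hxm⟩ := h1
    exact hm (hreg.right_eq_zero_of_smul hxm)
  · intro h
    by_contra hcon
    push_neg at hcon
    have hfin := associatedPrimes.finite R M
    have hsub : (I : Set R) ⊆ ⋃ p ∈ hfin.toFinset, (p : Set R) := by
      intro x hx
      rw [show (⋃ p ∈ hfin.toFinset, (p : Set R)) = ⋃ p ∈ associatedPrimes R M, (p : Set R) by simp,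
        biUnion_associatedPrimes_eq_zero_divisors]
      have := hcon x hx
      rw [isSMulRegular_iff_right_eq_zero_of_smul] at this
      push_neg at this
      obtain ⟨m, h1, h2⟩ := this
      exact ⟨m, h2, h1⟩
    obtain ⟨p, hp, hle⟩ := (Ideal.subset_union_prime ⊥ ⊥ (fun p hp _ _ =>
      IsAssociatedPrime.isPrime (hfin.mem_toFinset.1 hp))).1 hsub
    exact h p (hfin.mem_toFinset.1 hp) hle

end Groth.Agent.S9637
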