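import Groth.Statements.S5752
import Groth.Agent.S9637
import Mathlib


-- import your own Groth.Agent.* helpers here

set_option autoImplicit false
universe u
open EGA41

namespace Groth.Agent.S5752

/-- Let A be a Noetherian local ring with maximal ideal m and M a finitely generated A-module. Then M
has depth 0 if and only if m is an associated prime of M, i.e. if and only if M contains a copy of
the residue field. (For M = 0 the depth is ⊤ and there are no associated primes.) -/
theorem result (A : Type u) [CommRing A] [IsLocalRing A]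
    [IsNoetherianRing A] (M : Type u) [AddCommGroup M] [Module A M] [Module.Finite A M] :
    LocCoh.depth A M = 0 ↔ IsLocalRing.maximalIdeal A ∈ associatedPrimes A M := by
  classical
  rw [LocCoh.depth, LocCoh.idealDepth]
  by_cases h : IsLocalRing.maximalIdeal A • (⊤ : Submodule A M) = ⊤
  · rw [if_pos h]
    have hsub : Subsingleton M := by
      have : (⊤ : Submodule A M) = ⊥ := Submodule.eq_bot_of_le_smul_of_le_jacobson_bot _ _ Module.Finite.fg_top h.ge
        (IsLocalRing.maximalIdeal_le_jacobson _)
      exact (Submodule.subsingleton_iff A).1 ⟨fun a b => by rw [eq_bot_iff.2 (this ▸ le_top : a ≤ ⊥), eq_bot_iff.2 (this ▸ le_top : b ≤ ⊥)]⟩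
    simp [associatedPrimes.eq_empty_of_subsingleton]
  · rw [if_neg h]
    constructor
    · intro h0
      by_contra hm
      obtain ⟨x, hx, hxr⟩ := (Groth.Agent.S9637.result (IsLocalRing.maximalIdeal A) le_rfl M).2 fun q hq hle => hm (by
        have := hq.isPrime
        rwa [(IsLocalRing.maximalIdeal.isMaximal A).eq_of_le this.ne_top hle])
      have h1 : (1 : ℕ∞) ≤ ⨆ (rs : List A) (_ : RingTheory.Sequence.IsWeaklyRegular M rs ∧ ∀ r ∈ rs, r ∈ IsLocalRing.maximalIdeal A), (rs.length : ℕ∞) :=
        le_iSup₂_of_le [x] ⟨(RingTheory.Sequence.isWeaklyRegular_cons_iff M x []).2 ⟨hxr, RingTheory.Sequence.IsWeaklyRegular.nil A _⟩, by simpa using hx⟩ (by simp)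
      rw [h0] at h1
      simp at h1
    · intro hm
      refine le_antisymm (iSup₂_le fun rs hrs => ?_) bot_le
      rcases rs with _ | ⟨x, rs⟩
      · simp
      · exfalso
        exact ((Groth.Agent.S9637.result (IsLocalRing.maximalIdeal A) le_rfl M).1 ⟨x, hrs.2 x List.mem_cons_self,
          ((RingTheory.Sequence.isWeaklyRegular_cons_iff M x rs).1 hrs.1).1⟩) _ hm le_rfl

end Groth.Agent.S5752
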