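import Groth.Statements.S4636
import Groth.Agent.AssPointLib.Basic

-- import your own Groth.Agent.* helpers here

set_option autoImplicit false
open CategoryTheory AlgebraicGeometry
universe u
open AssSch

namespace Groth.Agent.S4636



/-- Let X be a locally Noetherian scheme, F a coherent O_X-module and x a point of X. Then x is a
maximal associated point of F (an associated point such that every associated point specialising to
x equals x) if and only if x is the generic point of an irreducible component of Supp F, i.e. F_x ≠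
0 and every point y with F_y ≠ 0 that specialises to x equals x. -/
theorem result {X : Scheme.{u}} [IsLocallyNoetherian X] (F : X.Modules)
    (hF : Coh.IsCoh F) (x : X) :
    (x ∈ AssSch.Ass F ∧ ∀ y ∈ AssSch.Ass F, y ⤳ x → y = x) ↔
      (Nontrivial ↑(F.presheaf.stalk x) ∧ ∀ y : X, Nontrivial ↑(F.presheaf.stalk y) → y ⤳ x → y = x) := by
  haveI := hF.1
  have hsupp : ∀ y : X, Nontrivial ↑(F.presheaf.stalk y) ↔ y ∈ CohB1.support F := fun y =>
    not_subsingleton_iff_nontrivial.symm
  have hass : ∀ y : X, y ∈ AssSch.Ass F ↔ Curv2.IsWeakAssPoint F y := AssPointLib.assPoint_iff_weak F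
  constructor
  · rintro ⟨hx, hmax⟩
    refine ⟨(hsupp x).2 (AssPointLib.weak_iff_mem_support ((hass x).1 hx)), fun y hy hyx => ?_⟩
    obtain ⟨z, hzy, hz⟩ := AssPointLib.exists_weak_of_mem_support ((hsupp y).1 hy)
    exact (hyx.antisymm ((hmax z ((hass z).2 hz) (hzy.trans hyx)) ▸ hzy)).eq
  · rintro ⟨hx, hmax⟩
    refine ⟨(hass x).2 ?_, fun y hy hyx => hmax y ((hsupp y).2 (AssPointLib.weak_iff_mem_support ((hass y).1 hy))) hyx⟩
    exact AssPointLib.weak_of_maximal ((hsupp x).1 hx) fun y hy hyx => hmax y ((hsupp y).2 hy) hyx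


end Groth.Agent.S4636
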