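import Groth.Statements.S4637
import Groth.Agent.S1916

-- import your own Groth.Agent.* helpers here

set_option autoImplicit false
open CategoryTheory AlgebraicGeometry
universe u
open AssSch

namespace Groth.Agent.S4637



/-- Let X be a locally Noetherian scheme, F a coherent O_X-module and x a point of X. Then x is the
generic point of an irreducible component of Supp F (F_x ≠ 0 and every point y with F_y ≠ 0 that
specialises to x equals x) if and only if F_x is a nonzero module of finite length over the local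
ring O_{X,x}. -/
theorem result {X : Scheme.{u}} [IsLocallyNoetherian X] (F : X.Modules)
    (hF : Coh.IsCoh F) (x : X) :
    (Nontrivial ↑(F.presheaf.stalk x) ∧ ∀ y : X, Nontrivial ↑(F.presheaf.stalk y) → y ⤳ x → y = x) ↔
      (Nontrivial ↑(F.presheaf.stalk x) ∧ IsFiniteLength ↑(X.presheaf.stalk x) ↑(F.presheaf.stalk x)) := by
  haveI := hF.1
  refine and_congr_right fun hx => ⟨fun hmax => Module.length_ne_top_iff.mp ((Groth.Agent.S1916.result X F hF).2 x hx hmax).ne,
    fun hfl y hy hyx => ?_⟩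
  obtain ⟨U, hU, hxU⟩ := QCohLib.exists_affine_nhd x
  haveI : IsNoetherianRing Γ(X, U) := IsLocallyNoetherian.component_noetherian ⟨U, hU⟩
  haveI := QCohLib.finite_of_isFT hF.2 hU
  haveI : _root_.IsNoetherian (X.presheaf.stalk x) ((DevissLib.St x).obj F) := DevissLib.isNoetherian_stalk hF x
  let alg := X.presheaf.algebra_section_stalk (⟨x, hxU⟩ : U)
  have hloc : IsLocalization.AtPrime (X.presheaf.stalk x) (hU.primeIdealOf ⟨x, hxU⟩).asIdeal := hU.isLocalization_stalk ⟨x, hxU⟩
  haveI : IsNoetherianRing (X.presheaf.stalk x) :=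
    IsLocalization.isNoetherianRing (hU.primeIdealOf ⟨x, hxU⟩).asIdeal.primeCompl _ inferInstance
  have hrad : IsLocalRing.maximalIdeal (X.presheaf.stalk x) ≤
      (Module.annihilator (X.presheaf.stalk x) ((DevissLib.St x).obj F)).radical := by
    rw [Ideal.radical_eq_sInf]
    refine le_sInf fun P hP => ?_
    obtain ⟨hle, hPp⟩ := hP
    have := (Groth.Agent.S16234.result (X.presheaf.stalk x) ((DevissLib.St x).obj F)).mpr hfl ⟨P, hPp⟩
      (by rw [Module.mem_support_iff_of_finite]; exact hle)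
    exact (IsLocalRing.eq_maximalIdeal this).ge
  have hyU : y ∈ U := hyx.mem_open U.isOpen hxU
  let p := hU.primeIdealOf ⟨x, hxU⟩
  let q := hU.primeIdealOf ⟨y, hyU⟩
  suffices hpq : p.asIdeal ≤ q.asIdeal by
    have h := ((PrimeSpectrum.le_iff_specializes p q).mp hpq).map hU.fromSpec.continuous
    rw [hU.fromSpec_primeIdealOf, hU.fromSpec_primeIdealOf] at h
    exact (hyx.antisymm h).eq
  have hsupp : Module.annihilator Γ(X, U) Γ(F, U) ≤ q.asIdeal := by
    have h := (QCohLib.mem_support_iff (M := F) hU hyU).mpr (not_subsingleton_iff_nontrivial.2 hy)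
    rwa [Module.mem_support_iff_of_finite] at h
  intro a ha
  obtain ⟨n, hn⟩ := hrad (AssPointLib.germ_mem_maximal hU hxU ha)
  obtain ⟨G, hG⟩ := Module.Finite.fg_top (R := Γ(X, U)) (M := Γ(F, U))
  have hs : ∀ s : Γ(F, U), ∃ t, t ∉ p.asIdeal ∧ t • (a ^ n • s) = 0 := fun s => by
    refine (DevissLib.gm_eq_zero_iff hU x hxU _).mp ?_
    rw [DevissLib.gm_smul, map_pow]
    exact Module.mem_annihilator.mp hn _
  choose t ht hts using hs
  have hT : (∏ s ∈ G, t s) * a ^ n ∈ Module.annihilator Γ(X, U) Γ(F, U) := by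
    rw [← Submodule.annihilator_top, ← hG, Submodule.mem_annihilator_span]
    rintro ⟨s, hsG⟩
    obtain ⟨r, hr⟩ := Finset.dvd_prod_of_mem t (Finset.mem_coe.1 hsG)
    rw [hr, mul_comm (t s) r, mul_assoc, mul_smul, mul_smul, hts, smul_zero]
  rcases q.2.mem_or_mem (hsupp hT) with h | h
  · obtain ⟨s, hsG, hsq⟩ := q.2.prod_mem_iff.1 h
    refine absurd ?_ (ht s)
    have hsp : hU.fromSpec q ⤳ hU.fromSpec p := by
      rw [hU.fromSpec_primeIdealOf, hU.fromSpec_primeIdealOf]; exact hyx
    have hle : q.asIdeal ≤ p.asIdeal :=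
      (PrimeSpectrum.le_iff_specializes q p).2 (hU.fromSpec.isOpenEmbedding.isInducing.specializes_iff.1 hsp)
    exact hle hsq
  · exact q.2.mem_of_pow_mem n h


end Groth.Agent.S4637
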