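import Groth.Statements.S2069
import Mathlib.RingTheory.Ideal.AssociatedPrime.Finiteness
import Mathlib.LinearAlgebra.TensorProduct.Quotient
import Mathlib.LinearAlgebra.TensorProduct.Finiteness
-- import your own Groth.Agent.* helpers here

set_option autoImplicit false
universe u
open CAlg

namespace Groth.Agent.S2069

open TensorProduct

section Aux
variable {R : Type u} [CommRing R] {S : Type u} [CommRing S] [Algebra R S]
  {N : Type u} [AddCommGroup N] [Module S N] [Module R N] [IsScalarTower R S N]

/-- `N ⊗ -` on maps, as an `S`-linear map. -/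
noncomputable def ext {M M' : Type u} [AddCommGroup M] [Module R M] [AddCommGroup M'] [Module R M']
    (N : Type u) [AddCommGroup N] [Module S N] [Module R N] [IsScalarTower R S N]
    (f : M →ₗ[R] M') : N ⊗[R] M →ₗ[S] N ⊗[R] M' :=
  AlgebraTensorModule.map (LinearMap.id : N →ₗ[S] N) f

theorem ext_eq {M M' : Type u} [AddCommGroup M] [Module R M] [AddCommGroup M'] [Module R M']
    (f : M →ₗ[R] M') : ⇑(ext (S := S) N f) = ⇑(f.lTensor N) := by
  have : (ext (S := S) N f).restrictScalars R = f.lTensor N :=
    TensorProduct.ext' fun n m => rfl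
  rw [← this]; rfl

theorem smul_R {M : Type u} [AddCommGroup M] [Module R M] (r : R) (t : N ⊗[R] M) :
    algebraMap R S r • t = r • t := algebraMap_smul S r t

/-- powers of an element of the contraction of an associated prime kill the witness -/
theorem pow_smul_eq_zero {V : Type u} [AddCommGroup V] [Module S V] {P : Ideal S} {t : V}
    (hP : P = ((⊥ : Submodule S V).colon {t}).radical) (a : S) :
    a ∈ P ↔ ∃ k : ℕ, a ^ k • t = 0 := by
  rw [hP, Ideal.mem_radical_iff]
  simp [Submodule.mem_colon_singleton]

theorem mem_of_torsion {M : Type u} [AddCommGroup M] [Module R M] [Module.Flat R N] {P : Ideal S}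
    (hP : P ∈ associatedPrimes S (N ⊗[R] M)) {r : R} (hr : algebraMap R S r ∈ P) :
    ¬ Function.Injective (fun m : M => r • m) := by
  obtain ⟨t, ht⟩ := hP.2
  intro h
  have h1 : Function.Injective ((LinearMap.lsmul R M r).lTensor N) :=
    Module.Flat.lTensor_preserves_injective_linearMap _ h
  have h2 : ∀ x : N ⊗[R] M, (LinearMap.lsmul R M r).lTensor N x = r • x := by
    intro x
    induction x using TensorProduct.induction_on with
    | zero => simp
    | tmul n m => simp
    | add x y hx hy => simp [hx, hy]
  have h3 : ∀ k : ℕ, ∀ x : N ⊗[R] M, algebraMap R S r ^ k • x = 0 → x = 0 := by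
    intro k
    induction k with
    | zero => intro x hx; simpa using hx
    | succ k ih =>
      intro x hx
      rw [pow_succ, mul_smul] at hx
      have := ih _ hx
      rw [smul_R] at this
      refine h1 ?_
      rw [h2, map_zero, this]
  obtain ⟨k, hk⟩ := (pow_smul_eq_zero ht _).1 hr
  have ht0 : t = 0 := h3 k t hk
  apply hP.isPrime.ne_top
  rw [Ideal.eq_top_iff_one, pow_smul_eq_zero ht]
  exact ⟨0, by simp [ht0]⟩

/-- quotient by a prime -/
noncomputable def quotEquiv (q : Ideal R) :
    (N ⊗[R] (R ⧸ q)) ≃ₗ[S] N ⧸ q.map (algebraMap R S) • (⊤ : Submodule S N) := by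
  let g : N →ₗ[S] N ⊗[R] (R ⧸ q) := (AlgebraTensorModule.mk R S N (R ⧸ q)).flip 1
  have hg : Function.Surjective g := by
    intro x
    obtain ⟨y, rfl⟩ := (tensorQuotEquivQuotSMul N q).symm.surjective x
    obtain ⟨n, rfl⟩ := Submodule.Quotient.mk_surjective _ y
    exact ⟨n, by rw [tensorQuotEquivQuotSMul_symm_mk]; rfl⟩
  have hk : q.map (algebraMap R S) • (⊤ : Submodule S N) = LinearMap.ker g := by
    ext n
    have e1 : n ∈ q.map (algebraMap R S) • (⊤ : Submodule S N) ↔
        n ∈ q • (⊤ : Submodule R N) := by
      rw [← Submodule.restrictScalars_mem R, Submodule.restrictScalars_map_smul_eq,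
        Submodule.restrictScalars_top]
    rw [e1, LinearMap.mem_ker, ← Submodule.Quotient.mk_eq_zero,
      ← LinearEquiv.map_eq_zero_iff (tensorQuotEquivQuotSMul N q).symm,
      tensorQuotEquivQuotSMul_symm_mk]
    rfl
  exact ((Submodule.quotEquivOfEq _ _ hk).trans
    (LinearMap.quotKerEquivOfSurjective g hg)).symm

variable [IsNoetherianRing R] [Module.Flat R N]

theorem mem_fibre {M : Type u} [AddCommGroup M] [Module R M] [Module.Finite R M] {P : Ideal S}
    (hP : P ∈ associatedPrimes S (N ⊗[R] M)) :
    P ∈ associatedPrimes S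
      (N ⧸ (P.comap (algebraMap R S)).map (algebraMap R S) • (⊤ : Submodule S N)) := by
  revert hP
  induction ‹Module.Finite R M› using
    IsNoetherianRing.induction_on_isQuotientEquivQuotientPrime R with
  | subsingleton M =>
    intro hP
    haveI : Subsingleton (N ⊗[R] M) := by
      refine subsingleton_of_forall_eq 0 fun x => ?_
      induction x using TensorProduct.induction_on with
      | zero => rfl
      | tmul n m => rw [Subsingleton.elim m 0, tmul_zero]
      | add x y hx hy => rw [hx, hy, add_zero]
    exact absurd hP not_isAssociatedPrime_of_subsingleton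
  | quotient M q e =>
    intro hP
    have h1 : P ∈ associatedPrimes S (N ⊗[R] (R ⧸ q.1)) := by
      rwa [← LinearEquiv.AssociatedPrimes.eq
        (AlgebraTensorModule.congr (LinearEquiv.refl S N) e)]
    have h2 : P.comap (algebraMap R S) = q.1 := by
      apply le_antisymm
      · intro r hr
        by_contra hrq
        apply mem_of_torsion h1 hr
        intro a b hab
        obtain ⟨a, rfl⟩ := Ideal.Quotient.mk_surjective a
        obtain ⟨b, rfl⟩ := Ideal.Quotient.mk_surjective b
        simp only [Algebra.smul_def, Ideal.Quotient.algebraMap_eq, ← map_mul] at hab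
        rw [Ideal.Quotient.eq] at hab ⊢
        rw [← mul_sub] at hab
        exact (q.isPrime.mem_or_mem hab).resolve_left hrq
      · intro r hr
        obtain ⟨t, ht⟩ := h1.2
        rw [Ideal.mem_comap, pow_smul_eq_zero ht]
        refine ⟨1, ?_⟩
        rw [pow_one, smul_R]
        clear ht
        induction t using TensorProduct.induction_on with
        | zero => simp
        | tmul n m =>
          obtain ⟨m, rfl⟩ := Ideal.Quotient.mk_surjective m
          rw [← tmul_smul, Algebra.smul_def, Ideal.Quotient.algebraMap_eq, ← map_mul,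
            Ideal.Quotient.eq_zero_iff_mem.2 (q.1.mul_mem_right m hr), tmul_zero]
        | add x y hx hy => simp [hx, hy]
    rw [h2, ← LinearEquiv.AssociatedPrimes.eq (quotEquiv (S := S) (N := N) q.1)]
    exact h1
  | exact M₁ M₂ M₃ f g hf hg hfg h1 h3 =>
    intro hP
    have hf' : Function.Injective (ext (S := S) N f) := by
      rw [ext_eq]; exact Module.Flat.lTensor_preserves_injective_linearMap f hf
    have hfg' : Function.Exact (ext (S := S) N f) (ext (S := S) N g) := by
      rw [ext_eq, ext_eq]; exact Module.Flat.lTensor_exact N hfg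
    rcases associatedPrimes.subset_union_of_exact hf' hfg' hP with h | h
    · exact h1 h
    · exact h3 h

theorem comap_mem {M : Type u} [AddCommGroup M] [Module R M] [Module.Finite R M] {P : Ideal S}
    (hP : P ∈ associatedPrimes S (N ⊗[R] M)) :
    P.comap (algebraMap R S) ∈ associatedPrimes R M := by
  classical
  haveI := hP.isPrime
  set p := P.comap (algebraMap R S)
  by_contra hp
  have hfin := associatedPrimes.finite R M
  -- an element outside `p` in all associated primes not contained in `p`
  have hs : ∃ s, s ∉ p ∧ ∀ q ∈ associatedPrimes R M, ¬ q ≤ p → s ∈ q := by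
    choose a ha using fun q : {q : Ideal R // ¬ q ≤ p} => SetLike.not_le_iff_exists.1 q.2
    refine ⟨∏ q ∈ (hfin.toFinset.subtype fun q => ¬ q ≤ p), a q, ?_, ?_⟩
    · intro h
      obtain ⟨q, -, hq⟩ := (Ideal.IsPrime.prod_mem_iff).1 h
      exact (ha q).2 hq
    · intro q hq hqp
      exact Ideal.prod_mem (i := ⟨q, hqp⟩) q (by simpa using hq) (ha ⟨q, hqp⟩).1
  obtain ⟨s, hsp, hs⟩ := hs
  -- an element of `p` outside all associated primes strictly contained in `p`
  have hr : ∃ r ∈ p, ∀ q ∈ associatedPrimes R M, q ≤ p → r ∉ q := by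
    have h := mt (Ideal.subset_union_prime (s := hfin.toFinset.filter (fun q => q ≤ p))
      (f := fun q => q) (I := p) ⊥ ⊥ (fun q hq _ _ => ?_)).1 ?_
    · obtain ⟨r, hr, hr'⟩ := Set.not_subset.1 h
      exact ⟨r, hr, fun q hq hqp hrq => hr' (Set.mem_iUnion₂.2 ⟨q, by simp [hq, hqp], hrq⟩)⟩
    · simp at hq; exact hq.1.isPrime
    · rintro ⟨q, hq, hpq⟩
      simp at hq
      exact hp (le_antisymm hq.2 hpq ▸ hq.1)
  obtain ⟨r, hrp, hr⟩ := hr
  obtain ⟨t, ht⟩ := hP.2
  obtain ⟨k, hk⟩ := (pow_smul_eq_zero ht _).1 hrp
  -- the `r^k`-torsion is killed by a power of `s`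
  let K := LinearMap.ker (LinearMap.lsmul R M (r ^ k))
  obtain ⟨n, hn⟩ : ∃ n : ℕ, ∀ m ∈ K, s ^ n • m = 0 := by
    let T : ℕ →o Submodule R K :=
      ⟨fun n => LinearMap.ker (LinearMap.lsmul R K (s ^ n)), fun a b hab m hm => by
        simp only [LinearMap.mem_ker, LinearMap.lsmul_apply] at hm ⊢
        rw [← Nat.sub_add_cancel hab, pow_add, mul_smul, hm, smul_zero]⟩
    obtain ⟨n, hn⟩ := monotone_stabilizes_iff_noetherian.2 inferInstance T
    refine ⟨n, fun m hm => ?_⟩
    by_contra hne
    let Q := LinearMap.range (LinearMap.lsmul R K (s ^ n))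
    haveI : Nontrivial Q := by
      refine ⟨⟨⟨_, ⟨⟨m, hm⟩, rfl⟩⟩, 0, fun h => hne ?_⟩⟩
      have := congrArg (fun x : Q => ((x : K) : M)) h
      simpa using this
    obtain ⟨q, hq⟩ := associatedPrimes.nonempty R Q
    have hqK : q ∈ associatedPrimes R K :=
      associatedPrimes.subset_of_injective Q.injective_subtype hq
    have hqM : q ∈ associatedPrimes R M :=
      associatedPrimes.subset_of_injective K.injective_subtype hqK
    have hrq : r ∈ q := by
      refine hq.isPrime.mem_of_pow_mem k ?_
      obtain ⟨-, x, hx⟩ := isAssociatedPrime_iff.1 hqK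
      rw [hx, Submodule.mem_colon_singleton, Submodule.mem_bot]
      exact Subtype.ext x.2
    have hsq : s ∈ q := hs q hqM fun h => hr q hqM h hrq
    obtain ⟨-, y, hy⟩ := isAssociatedPrime_iff.1 hq
    obtain ⟨z, hz⟩ := y.2
    have hsy : s • (y : K) = 0 := by
      rw [hy, Submodule.mem_colon_singleton, Submodule.mem_bot] at hsq
      exact congrArg Subtype.val hsq
    have hz' : z ∈ T (n + 1) := by
      simp only [T, OrderHom.coe_mk, LinearMap.mem_ker, LinearMap.lsmul_apply]
      rw [pow_succ', mul_smul]
      rw [LinearMap.lsmul_apply] at hz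
      rw [hz, hsy]
    rw [← hn (n + 1) (Nat.le_succ _)] at hz'
    have hy0 : y = 0 := Subtype.ext (hz.symm.trans hz')
    apply hq.isPrime.ne_top
    rw [hy, hy0, Ideal.eq_top_iff_one]
    simp
  have hex : Function.Exact (K.subtype.lTensor N) ((LinearMap.lsmul R M (r ^ k)).lTensor N) :=
    Module.Flat.lTensor_exact N (LinearMap.exact_subtype_ker_map _)
  have h2 : ∀ (c : R) (x : N ⊗[R] M), (LinearMap.lsmul R M c).lTensor N x = c • x := by
    intro c x
    induction x using TensorProduct.induction_on with
    | zero => simp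
    | tmul n m => simp
    | add x y hx hy => simp [hx, hy]
  obtain ⟨x, rfl⟩ := (hex t).1 (by rw [h2, ← smul_R (S := S), map_pow, hk])
  apply hsp
  rw [Ideal.mem_comap, pow_smul_eq_zero ht]
  refine ⟨n, ?_⟩
  rw [← map_pow, smul_R, ← map_smul]
  suffices s ^ n • x = 0 by rw [this, map_zero]
  clear ht hk
  induction x using TensorProduct.induction_on with
  | zero => simp
  | tmul a m =>
    rw [← tmul_smul, show s ^ n • m = 0 from Subtype.ext (hn m.1 m.2), tmul_zero]
  | add x y hx hy => simp [hx, hy]

end Aux

open TensorProduct in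
/-- Let `R → S` be a ring map, `M` an `R`-module and `N` an `S`-module flat over `R`. Then a prime of
`S` is associated to `N ⊗_R M` if and only if it is associated to `N/𝔭N` for some prime `𝔭` of `R`
associated to `M`. -/
theorem result {R S M N : Type u} [CommRing R] [IsNoetherianRing R] [CommRing S]
    [Algebra R S] [AddCommGroup M] [Module R M] [AddCommGroup N] [Module S N] [Module R N]
    [IsScalarTower R S N] [Module.Flat R N] :
    associatedPrimes S (N ⊗[R] M) =
      ⋃ p ∈ associatedPrimes R M, associatedPrimes S (N ⧸ p.map (algebraMap R S) • (⊤ : Submodule S N)) := by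
  apply Set.Subset.antisymm
  · intro P hP
    obtain ⟨t, ht⟩ := hP.2
    obtain ⟨M₀, hM₀, hsub⟩ :=
      TensorProduct.exists_finite_submodule_right_of_setFinite ({t} : Set (N ⊗[R] M))
        (Set.finite_singleton t)
    obtain ⟨t₀, ht₀⟩ := hsub rfl
    have hinj : Function.Injective (ext (S := S) N M₀.subtype) := by
      rw [ext_eq]; exact Module.Flat.lTensor_preserves_injective_linearMap _ M₀.injective_subtype
    have hP₀ : P ∈ associatedPrimes S (N ⊗[R] M₀) := by
      refine ⟨hP.1, t₀, ?_⟩
      ext a
      rw [pow_smul_eq_zero ht, Ideal.mem_radical_iff]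
      simp only [Submodule.mem_colon_singleton, Submodule.mem_bot]
      refine exists_congr fun k => ?_
      rw [← map_eq_zero_iff _ hinj, map_smul, ext_eq, ht₀]
    exact Set.mem_biUnion (associatedPrimes.subset_of_injective M₀.injective_subtype
      (comap_mem hP₀)) (mem_fibre hP₀)
  · intro P hP
    obtain ⟨p, hp, hP⟩ := Set.mem_iUnion₂.1 hP
    haveI := hp.isPrime
    obtain ⟨f, hf⟩ := (isAssociatedPrime_iff_exists_injective_linearMap p M).1 hp |>.2
    have hinj : Function.Injective (ext (S := S) N f) := by
      rw [ext_eq]; exact Module.Flat.lTensor_preserves_injective_linearMap _ hf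
    refine associatedPrimes.subset_of_injective hinj ?_
    rwa [LinearEquiv.AssociatedPrimes.eq (quotEquiv (S := S) (N := N) p)]

end Groth.Agent.S2069
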