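import Groth.Statements.S3020
import Groth.Agent.AntiAffLib.Affinize
-- import your own Groth.Agent.* helpers here

set_option autoImplicit false
universe u
open CategoryTheory MonoidalCategory CartesianMonoidalCategory MonObj GrpObj AlgebraicGeometry TensorProduct
open SGA3

namespace Groth.Agent.S3020

/-- Let G be a group scheme of finite type over a field k whose underlying scheme is quasi-affine (a
quasi-compact open subscheme of an affine scheme). Then G is affine. -/
theorem result (k : Type u) [Field k] (G : Over (Spec (CommRingCat.of k))) [GrpObj G]
    [LocallyOfFiniteType G.hom] [QuasiCompact G.hom] [G.left.IsQuasiAffine] : IsAffine G.left := by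
  haveI : IsOpenImmersion (AntiAffLib.toHull G).left := inferInstanceAs (IsOpenImmersion G.left.toSpecΓ)
  haveI : IsIso (AntiAffLib.toHull G).left := by
    haveI : Epi (AntiAffLib.toHull G).left.base :=
      (TopCat.epi_iff_surjective _).mpr (AntiAffLib.toHull G).left.surjective
    exact IsOpenImmersion.isIso _
  exact IsAffine.of_isIso (AntiAffLib.toHull G).left
end Groth.Agent.S3020
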