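import Groth.Statements.S16045
import Mathlib
import Groth.Agent.PushLib.BCPullback
-- import your own Groth.Agent.* helpers here

set_option autoImplicit false
universe u
open CategoryTheory CategoryTheory.Limits AlgebraicGeometry
open FlatMor

namespace Groth.Agent.S16045

/-- Let θ₁ : Y ⟶ X₁ and θ₂ : Y ⟶ X₂ be closed immersions of schemes over S and X their pushout in
schemes over S. For a flat morphism g : S' ⟶ S, the square obtained by base change along g is a
pushout in schemes over S': pinching along a closed subscheme commutes with flat base change. -/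
theorem result
    {S S' : Scheme.{u}} (g : S' ⟶ S) [Flat g]
    {Y X₁ X₂ X : Over S} (θ₁ : Y ⟶ X₁) (θ₂ : Y ⟶ X₂) [IsClosedImmersion θ₁.left] [IsClosedImmersion θ₂.left]
    (φ₁ : X₁ ⟶ X) (φ₂ : X₂ ⟶ X) (hX : IsPushout θ₁ θ₂ φ₁ φ₂) :
    IsPushout ((Over.pullback g).map θ₁) ((Over.pullback g).map θ₂)
      ((Over.pullback g).map φ₁) ((Over.pullback g).map φ₂) := by
  have hP : IsPushout θ₁.left θ₂.left φ₁.left φ₂.left := hX.map (Over.forget S)
  have hY := PushLib.exists_nice_of_closedImmersion θ₁.left θ₂.left
  refine IsPushout.of_map (Over.forget S') ?_ ?_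
  · rw [← Functor.map_comp, ← Functor.map_comp, hX.w]
  have h := PushLib.isPushout_pullback_map hY hP X.hom g (PushLib.bcInj_of_flat hY hP X.hom g) Y.hom X₁.hom X₂.hom
    (Over.w θ₁) (Over.w θ₂) (Over.w φ₁) (Over.w φ₂)
  convert! h using 1 <;> · apply pullback.hom_ext <;> simp [pullback.map]

end Groth.Agent.S16045
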