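import Groth.Prelude.Def_ComodSub
import Mathlib.RingTheory.HopfAlgebra.Convolution

/-! The passage between left and right comodules through the antipode. -/

set_option autoImplicit false

universe u v w z

open TensorProduct WithConv

namespace Groth.Agent.ComodFlip

variable {k : Type u} [CommRing k] {A : Type v} [CommRing A] [HopfAlgebra k A]

theorem conv_comp_antipode_mul {R : Type z} [CommRing R] [Algebra k R] (g : A →ₐ[k] R) :
    toConv (g.comp (HopfAlgebra.antipodeAlgHom k A)) * toConv g = 1 := by
  have hid : toConv (HopfAlgebra.antipodeAlgHom k A) * toConv (AlgHom.id k A) = 1 := by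
    apply WithConv.ext
    apply AlgHom.toLinearMap_injective
    apply toConv_injective
    rw [AlgHom.toLinearMap_convMul, AlgHom.toLinearMap_convOne]
    exact LinearMap.antipode_mul_id
  have h := AlgHom.comp_convMul_distrib g (toConv (HopfAlgebra.antipodeAlgHom k A))
    (toConv (AlgHom.id k A))
  rw [hid] at h
  simp only [AlgHom.comp_id] at h
  apply WithConv.ext
  rw [← h]
  ext a
  simp

theorem conv_mul_comp_antipode {R : Type z} [CommRing R] [Algebra k R] (g : A →ₐ[k] R) :
    toConv g * toConv (g.comp (HopfAlgebra.antipodeAlgHom k A)) = 1 := by
  have hid : toConv (AlgHom.id k A) * toConv (HopfAlgebra.antipodeAlgHom k A) = 1 := by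
    apply WithConv.ext
    apply AlgHom.toLinearMap_injective
    apply toConv_injective
    rw [AlgHom.toLinearMap_convMul, AlgHom.toLinearMap_convOne]
    exact LinearMap.id_mul_antipode
  have h := AlgHom.comp_convMul_distrib g (toConv (AlgHom.id k A))
    (toConv (HopfAlgebra.antipodeAlgHom k A))
  rw [hid] at h
  simp only [AlgHom.comp_id] at h
  apply WithConv.ext
  rw [← h]
  ext a
  simp

theorem comul_antipode_apply (a : A) :
    CoalgebraStruct.comul (R := k) (HopfAlgebraStruct.antipode (R := k) a) =
      TensorProduct.comm k A A (TensorProduct.map (HopfAlgebraStruct.antipode (R := k))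
        (HopfAlgebraStruct.antipode (R := k)) (CoalgebraStruct.comul (R := k) a)) := by
  let S := HopfAlgebra.antipodeAlgHom k A
  let inL : A →ₐ[k] A ⊗[k] A := Algebra.TensorProduct.includeLeft
  let inR : A →ₐ[k] A ⊗[k] A := Algebra.TensorProduct.includeRight
  have hδ : toConv (Bialgebra.comulAlgHom k A) = toConv inL * toConv inR := by
    apply WithConv.ext
    apply AlgHom.ext
    intro x
    show CoalgebraStruct.comul (R := k) x = (toConv inL * toConv inR) x
    rw [AlgHom.convMul_apply]
    generalize CoalgebraStruct.comul (R := k) x = z
    induction z using TensorProduct.induction_on with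
    | zero => simp
    | add z w hz hw => simp only [map_add, ← hz, ← hw]
    | tmul p q => simp [inL, inR]
  have h1 := conv_comp_antipode_mul (R := A ⊗[k] A) (Bialgebra.comulAlgHom k A)
  have h2 : toConv (Bialgebra.comulAlgHom k A) *
      (toConv (inR.comp S) * toConv (inL.comp S)) = 1 := by
    rw [hδ, mul_assoc, ← mul_assoc (toConv inR), conv_mul_comp_antipode, one_mul,
      conv_mul_comp_antipode]
  have h3 := congrArg (fun F : WithConv (A →ₐ[k] A ⊗[k] A) => F a) (left_inv_eq_right_inv h1 h2)
  simp only [AlgHom.convMul_apply] at h3
  refine Eq.trans h3 ?_
  generalize CoalgebraStruct.comul (R := k) a = z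
  induction z using TensorProduct.induction_on with
  | zero => simp
  | add z w hz hw => simp only [map_add, hz, hw]
  | tmul p q => simp [inL, inR, S]

variable {M : Type w} [AddCommGroup M] [Module k M]

local notation "S" => HopfAlgebraStruct.antipode (R := k) (A := A)

/-- A right comodule from a left one. -/
@[reducible] def comodOfLeft (l : ComodSub.LComod k A M) : HopfRep.Comod k A M where
  coact := ComodSub.rcoactOfLeft l
  coassoc := by
    let F : A ⊗[k] (A ⊗[k] M) →ₗ[k] M ⊗[k] (A ⊗[k] A) :=
      (TensorProduct.comm k (A ⊗[k] A) M).toLinearMap ∘ₗ
        ((TensorProduct.comm k A A).toLinearMap ∘ₗ TensorProduct.map S S).rTensor M ∘ₗ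
          (TensorProduct.assoc k A A M).symm.toLinearMap
    apply LinearMap.ext
    intro v
    have hl : ∀ x : A ⊗[k] M,
        TensorProduct.assoc k M A A ((ComodSub.rcoactOfLeft l).rTensor A
          (TensorProduct.comm k A M (LinearMap.rTensor M S x))) = F (l.coact.lTensor A x) := by
      intro x
      induction x using TensorProduct.induction_on with
      | zero => simp
      | add x y hx hy => simp only [map_add, hx, hy]
      | tmul a m =>
        simp only [LinearMap.rTensor_tmul, TensorProduct.comm_tmul, LinearMap.lTensor_tmul,
          ComodSub.rcoactOfLeft_apply]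
        generalize l.coact m = y
        induction y using TensorProduct.induction_on with
        | zero => simp
        | add y z hy hz =>
          simp only [map_add, TensorProduct.add_tmul, TensorProduct.tmul_add, hy, hz]
        | tmul b n => simp [F]
    have hr : ∀ x : A ⊗[k] M,
        (CoalgebraStruct.comul (R := k) (A := A)).lTensor M
          (TensorProduct.comm k A M (LinearMap.rTensor M S x)) =
        F (TensorProduct.assoc k A A M
          ((CoalgebraStruct.comul (R := k) (A := A)).rTensor M x)) := by
      intro x
      induction x using TensorProduct.induction_on with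
      | zero => simp
      | add x y hx hy => simp only [map_add, hx, hy]
      | tmul a m => simp [F, comul_antipode_apply]
    simp only [LinearMap.comp_apply, LinearEquiv.coe_coe, ComodSub.rcoactOfLeft_apply l v]
    rw [hl, hr]
    exact congrArg F (LinearMap.congr_fun l.coassoc v)
  counit_comp := by
    apply LinearMap.ext
    intro v
    have hl : ∀ x : A ⊗[k] M,
        (CoalgebraStruct.counit (R := k) (A := A)).lTensor M
          (TensorProduct.comm k A M (LinearMap.rTensor M S x)) =
        TensorProduct.comm k k M ((CoalgebraStruct.counit (R := k) (A := A)).rTensor M x) := by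
      intro x
      induction x using TensorProduct.induction_on with
      | zero => simp
      | add x y hx hy => simp only [map_add, hx, hy]
      | tmul a m => simp
    simp only [LinearMap.comp_apply, ComodSub.rcoactOfLeft_apply l v, hl]
    rw [show (CoalgebraStruct.counit (R := k) (A := A)).rTensor M (l.coact v) = (1 : k) ⊗ₜ v from
      LinearMap.congr_fun l.counit_comp v]
    simp

/-- A left comodule from a right one. -/
@[reducible] def lcomodOfRight (c : HopfRep.Comod k A M) : ComodSub.LComod k A M where
  coact := ComodSub.lcoactOfRight c
  coassoc := by
    let F : M ⊗[k] (A ⊗[k] A) →ₗ[k] A ⊗[k] (A ⊗[k] M) :=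
      (TensorProduct.assoc k A A M).toLinearMap ∘ₗ
        ((TensorProduct.comm k A A).toLinearMap ∘ₗ TensorProduct.map S S).rTensor M ∘ₗ
          (TensorProduct.comm k M (A ⊗[k] A)).toLinearMap
    apply LinearMap.ext
    intro v
    have hl : ∀ x : M ⊗[k] A,
        (ComodSub.lcoactOfRight c).lTensor A
          (TensorProduct.comm k M A (LinearMap.lTensor M S x)) =
        F (TensorProduct.assoc k M A A (c.coact.rTensor A x)) := by
      intro x
      induction x using TensorProduct.induction_on with
      | zero => simp
      | add x y hx hy => simp only [map_add, hx, hy]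
      | tmul m a =>
        simp only [LinearMap.rTensor_tmul, TensorProduct.comm_tmul, LinearMap.lTensor_tmul,
          ComodSub.lcoactOfRight_apply]
        generalize c.coact m = y
        induction y using TensorProduct.induction_on with
        | zero => simp
        | add y z hy hz =>
          simp only [map_add, TensorProduct.add_tmul, TensorProduct.tmul_add, hy, hz]
        | tmul n b => simp [F]
    have hr : ∀ x : M ⊗[k] A,
        TensorProduct.assoc k A A M ((CoalgebraStruct.comul (R := k) (A := A)).rTensor M
          (TensorProduct.comm k M A (LinearMap.lTensor M S x))) =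
        F ((CoalgebraStruct.comul (R := k) (A := A)).lTensor M x) := by
      intro x
      induction x using TensorProduct.induction_on with
      | zero => simp
      | add x y hx hy => simp only [map_add, hx, hy]
      | tmul m a => simp [F, comul_antipode_apply]
    simp only [LinearMap.comp_apply, LinearEquiv.coe_coe, ComodSub.lcoactOfRight_apply c v]
    rw [hl, hr]
    exact congrArg F (LinearMap.congr_fun c.coassoc v)
  counit_comp := by
    apply LinearMap.ext
    intro v
    have hl : ∀ x : M ⊗[k] A,
        (CoalgebraStruct.counit (R := k) (A := A)).rTensor M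
          (TensorProduct.comm k M A (LinearMap.lTensor M S x)) =
        TensorProduct.comm k M k ((CoalgebraStruct.counit (R := k) (A := A)).lTensor M x) := by
      intro x
      induction x using TensorProduct.induction_on with
      | zero => simp
      | add x y hx hy => simp only [map_add, hx, hy]
      | tmul m a => simp
    simp only [LinearMap.comp_apply, ComodSub.lcoactOfRight_apply c v, hl]
    rw [show (CoalgebraStruct.counit (R := k) (A := A)).lTensor M (c.coact v) = v ⊗ₜ (1 : k) from
      LinearMap.congr_fun c.counit_comp v]
    simp

end Groth.Agent.ComodFlip
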