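import Groth.Statements.S6532
import Groth.Agent.TorDimLib.Basic
import Groth.Agent.TorDimLib.Lifted

set_option autoImplicit false
universe u
open LCI

namespace Groth.Agent.S6532

/-- Let R' → R be a surjection of Noetherian rings whose kernel is generated by a single element f and
has square zero; let I ⊆ R be the image of the annihilator of f. Let S = R[x_1, …, x_n]/(f_1, …,
f_m) and let ∑ r_j f_j = 0 be a relation in R[x_1, …, x_n] such that (1) every coefficient of every
r_j lies in I, and (2) there are lifts r'_j, f'_j in R'[x_1, …, x_n] and an element g with ∑ r'_j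
f'_j = f g, where g maps to a non-nilpotent element of S/IS. Under these hypotheses, the
Tor-dimension of S over R is infinite (so S fails to be a perfect R-algebra). -/
theorem result {R' R : Type u} [CommRing R'] [CommRing R]
    [IsNoetherianRing R'] [IsNoetherianRing R] (π : R' →+* R) (hπ : Function.Surjective π)
    (f : R') (hker : RingHom.ker π = Ideal.span {f}) (hf : f * f = 0)
    {n m : ℕ} (fs r : Fin m → MvPolynomial (Fin n) R) (hrel : ∑ j, r j * fs j = 0)
    (h1 : ∀ (j : Fin m) (d : Fin n →₀ ℕ),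
      MvPolynomial.coeff d (r j) ∈ ((Ideal.span {f}).annihilator).map π)
    (r' f' : Fin m → MvPolynomial (Fin n) R') (g : MvPolynomial (Fin n) R')
    (hr' : ∀ j, MvPolynomial.map π (r' j) = r j) (hf' : ∀ j, MvPolynomial.map π (f' j) = fs j)
    (hsum : ∑ j, r' j * f' j = MvPolynomial.C f * g)
    (hg : ¬ IsNilpotent (Ideal.Quotient.mk
      (Ideal.span (Set.range fs) ⊔ (((Ideal.span {f}).annihilator).map π).map MvPolynomial.C)
      (MvPolynomial.map π g))) :
    ¬ DRing.HasFiniteTorDim R (MvPolynomial (Fin n) R ⧸ Ideal.span (Set.range fs)) := by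
  classical
  intro hfin
  let P := MvPolynomial (Fin n) R
  let Q := MvPolynomial (Fin n) R'
  let πP : Q →+* P := MvPolynomial.map π
  let a : Ideal R' := (Ideal.span {f}).annihilator
  let I : Ideal R := a.map π
  let Jq : Ideal Q := (Ideal.span (Set.range fs)).comap πP
  have hπP : Function.Surjective πP := MvPolynomial.map_surjective π hπ
  have hker' : RingHom.ker πP = Ideal.span {(MvPolynomial.C f : Q)} := by
    rw [MvPolynomial.ker_map, hker, Ideal.map_span, Set.image_singleton]
  have hfπ : πP (MvPolynomial.C f) = 0 := RingHom.mem_ker.1 (hker' ▸ Ideal.mem_span_singleton_self _)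
  have hobs1 : ∀ x ∈ TorDimLib.obsIdeal (MvPolynomial.C f : Q), πP x ∈ I.map MvPolynomial.C := by
    intro x hx
    obtain ⟨y, hy, z, hz, rfl⟩ := Submodule.mem_sup.1 hx
    rw [map_add, RingHom.mem_ker.1 (hker'.ge hz), add_zero, MvPolynomial.mem_map_C_iff]
    intro d
    have hy' : y * MvPolynomial.C f = 0 := (Submodule.mem_annihilator_span_singleton _ _).1 hy
    rw [MvPolynomial.coeff_map]
    refine Ideal.mem_map_of_mem π ?_
    refine (Submodule.mem_annihilator_span_singleton _ _).2 ?_
    rw [smul_eq_mul, mul_comm]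
    have h := congrArg (MvPolynomial.coeff d) hy'
    rwa [mul_comm, MvPolynomial.coeff_C_mul, MvPolynomial.coeff_zero] at h
  have ha : a.map MvPolynomial.C ≤ TorDimLib.obsIdeal (MvPolynomial.C f : Q) := by
    refine Ideal.map_le_iff_le_comap.2 fun c hc => Submodule.mem_sup_left ?_
    have hcf : c * f = 0 := (Submodule.mem_annihilator_span_singleton _ _).1 hc
    refine (Submodule.mem_annihilator_span_singleton _ _).2 ?_
    rw [smul_eq_mul, ← map_mul, hcf, map_zero]
  have hobs2 : ∀ x, πP x ∈ I.map MvPolynomial.C → x ∈ TorDimLib.obsIdeal (MvPolynomial.C f : Q) := by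
    intro x hx
    have e : I.map MvPolynomial.C = (a.map MvPolynomial.C).map πP := by
      rw [Ideal.map_map, Ideal.map_map]
      congr 1
      exact RingHom.ext fun c => (MvPolynomial.map_C π c).symm
    rw [e] at hx
    obtain ⟨y, hy, hyx⟩ := (Ideal.mem_map_iff_of_surjective πP hπP).1 hx
    rw [← sub_add_cancel x y]
    refine add_mem (Submodule.mem_sup_right ?_) (ha hy)
    show x - y ∈ Ideal.span {(MvPolynomial.C f : Q)}
    rw [← hker', RingHom.mem_ker, map_sub, hyx, sub_self]
  let φ : Module.Dual Q (Fin m → Q) := Fintype.linearCombination Q f'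
  have hφ : ∀ v, φ v ∈ Jq := fun v => by
    refine Ideal.mem_comap.2 ?_
    rw [Fintype.linearCombination_apply, map_sum]
    refine Submodule.sum_mem _ fun j _ => ?_
    rw [smul_eq_mul, map_mul, show πP (f' j) = fs j from hf' j]
    exact Ideal.mul_mem_left _ _ (Ideal.subset_span ⟨j, rfl⟩)
  have hr : φ r' = MvPolynomial.C f * g := by
    rw [Fintype.linearCombination_apply]; exact hsum
  have hrI : ∀ j, r' j ∈ TorDimLib.obsIdeal (MvPolynomial.C f : Q) := fun j => hobs2 _ (by
    rw [show πP (r' j) = r j from hr' j, MvPolynomial.mem_map_C_iff]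
    exact fun d => h1 j d)
  have hgk : ∀ k, g ^ k ∉ Jq ⊔ TorDimLib.obsIdeal (MvPolynomial.C f : Q) := fun k h => hg ⟨k, by
    rw [← map_pow, Ideal.Quotient.eq_zero_iff_mem, ← map_pow]
    obtain ⟨y, hy, z, hz, e⟩ := Submodule.mem_sup.1 h
    rw [← e, map_add]
    exact Submodule.add_mem_sup hy (hobs1 z hz)⟩
  -- the reduction of the lifted complex
  let fq : Q := MvPolynomial.C f
  let ι : ℕ → Type u := fun k => (TorDimLib.lvl fq Jq k).1
  let F : ℕ → Type u := fun k => ι k →₀ P
  let red : ∀ k, TorDimLib.LX fq Jq k →+ F k := fun k => Finsupp.mapRange.addMonoidHom πP.toAddMonoidHom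
  have red_smul : ∀ k (q : Q) (x : TorDimLib.LX fq Jq k), red k (q • x) = πP q • red k x := fun k q x =>
    Finsupp.ext fun i => map_mul πP q (x i)
  have red_surj : ∀ k, Function.Surjective (red k) := fun k =>
    Finsupp.mapRange_surjective _ (map_zero πP) hπP
  have red_zero : ∀ k (x : TorDimLib.LX fq Jq k), red k x = 0 → ∃ y, fq • y = x := fun k x hx => by
    have hc : ∀ i, ∃ c, c * fq = x i := fun i => by
      have h : x i ∈ RingHom.ker πP := RingHom.mem_ker.2 (DFunLike.congr_fun hx i)
      rw [hker', Ideal.mem_span_singleton'] at h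
      exact h
    choose c hc using hc
    refine ⟨∑ i ∈ x.support, Finsupp.single i (c i), ?_⟩
    conv_rhs => rw [← Finsupp.sum_single x]
    rw [Finset.smul_sum]
    refine Finset.sum_congr rfl fun i _ => ?_
    rw [Finsupp.smul_single, smul_eq_mul, mul_comm]
    exact congrArg (Finsupp.single i) (hc i)
  let d : ∀ k, F (k + 1) →ₗ[R] F k := fun k =>
    (Finsupp.linearCombination P (fun z : (TorDimLib.lvl fq Jq k).2 => red k z.1)).restrictScalars R
  have d_red : ∀ k (x : TorDimLib.LX fq Jq (k + 1)), d k (red (k + 1) x) = red k (TorDimLib.Ld fq Jq k x) := by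
    intro k x
    induction x using Finsupp.induction_linear with
    | zero => simp only [map_zero]
    | add x y hx hy => simp only [map_add, hx, hy]
    | single z q =>
      show Finsupp.linearCombination P _ (Finsupp.mapRange πP (map_zero πP) (Finsupp.single z q)) =
        red k (Finsupp.linearCombination Q _ (Finsupp.single z q))
      rw [Finsupp.mapRange_single, Finsupp.linearCombination_single, Finsupp.linearCombination_single]
      exact (red_smul k q _).symm
  have hd : ∀ k, Function.Exact (d (k + 1)) (d k) := by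
    intro k y
    constructor
    · intro hy
      obtain ⟨x, rfl⟩ := red_surj (k + 1) y
      rw [d_red] at hy
      obtain ⟨v, hv⟩ := (TorDimLib.range_Ld fq Jq (k + 1)).ge
        ((TorDimLib.mem_LZ_succ fq Jq k x).2 (red_zero k _ hy))
      exact ⟨red (k + 2) v, by rw [d_red, hv]⟩
    · rintro ⟨w, rfl⟩
      obtain ⟨v, rfl⟩ := red_surj (k + 2) w
      rw [d_red, d_red]
      obtain ⟨y', hy'⟩ := (TorDimLib.mem_LZ_succ fq Jq k _).1
        ((TorDimLib.range_Ld fq Jq (k + 1)).le (LinearMap.mem_range_self _ v))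
      rw [← hy', red_smul, hfπ, zero_smul]
  let S := P ⧸ Ideal.span (Set.range fs)
  let ε : F 0 →ₗ[R] S :=
    (Ideal.Quotient.mkₐ R (Ideal.span (Set.range fs))).toLinearMap ∘ₗ
      (Finsupp.lapply (PUnit.unit : PUnit.{u + 1}) : (PUnit.{u + 1} →₀ P) →ₗ[R] P)
  have hε : Function.Surjective ε := fun z => by
    obtain ⟨p, rfl⟩ := Ideal.Quotient.mk_surjective z
    exact ⟨Finsupp.single (PUnit.unit : PUnit.{u + 1}) p,
      congrArg (Ideal.Quotient.mk _) (Finsupp.single_eq_same (a := (PUnit.unit : PUnit.{u + 1})))⟩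
  have hdε : Function.Exact (d 0) ε := by
    intro y
    constructor
    · intro hy
      obtain ⟨x, rfl⟩ := red_surj 0 y
      obtain ⟨v, hv⟩ := (TorDimLib.range_Ld fq Jq 0).ge
        ((TorDimLib.mem_LZ_zero fq Jq x).2 (Ideal.mem_comap.2 (Ideal.Quotient.eq_zero_iff_mem.1 hy)))
      exact ⟨red 1 v, by rw [d_red, hv]⟩
    · rintro ⟨w, rfl⟩
      obtain ⟨v, rfl⟩ := red_surj 1 w
      rw [d_red]
      have h0 : TorDimLib.Ld fq Jq 0 v (PUnit.unit : PUnit.{u + 1}) ∈ Jq :=
        (TorDimLib.mem_LZ_zero fq Jq _).1 ((TorDimLib.range_Ld fq Jq 0).le (LinearMap.mem_range_self _ v))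
      have h0' : πP (TorDimLib.Ld fq Jq 0 v (PUnit.unit : PUnit.{u + 1})) ∈ Ideal.span (Set.range fs) := h0
      exact Ideal.Quotient.eq_zero_iff_mem.2 h0'
  obtain ⟨N, hN⟩ := TorDimLib.exists_flat_range F d hd ε hε hdε hfin
  have := hN (2 * N) (by omega)
  let c := (TorDimLib.comp fq Jq φ hφ r' g hr (2 * N + 2)).map (Finsupp.single (N + 1) 1)
  have hIF : ∀ k (p : P), p ∈ I.map MvPolynomial.C → ∀ y : F k, p • y ∈ I • (⊤ : Submodule R (F k)) := by
    intro k p hp
    induction hp using Submodule.span_induction with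
    | mem z hz =>
      obtain ⟨b, hb, rfl⟩ := hz
      intro y
      rw [show (MvPolynomial.C b : P) • y = b • y from algebraMap_smul P b y]
      exact Submodule.smul_mem_smul hb trivial
    | zero => intro y; rw [zero_smul]; exact zero_mem _
    | add z w _ _ hz hw => intro y; rw [add_smul]; exact add_mem (hz y) (hw y)
    | smul e z _ hz =>
      intro y
      rw [smul_eq_mul, mul_comm, mul_smul]
      exact hz (e • y)
  have hred_obs : ∀ k, ∀ x ∈ TorDimLib.obsIdeal fq • (⊤ : Submodule Q (TorDimLib.LX fq Jq k)),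
      red k x ∈ I • (⊤ : Submodule R (F k)) := fun k x hx =>
    Submodule.smul_induction_on hx (fun q hq y _ => by rw [red_smul]; exact hIF k _ (hobs1 q hq) _)
      (fun y z hy hz => by rw [map_add]; exact add_mem hy hz)
  have hlift : ∀ k, ∀ w ∈ I • (⊤ : Submodule R (F k)),
      ∃ w' ∈ TorDimLib.obsIdeal fq • (⊤ : Submodule Q (TorDimLib.LX fq Jq k)), red k w' = w := fun k w hw =>
    Submodule.smul_induction_on hw (fun b hb y _ => by
        obtain ⟨b', hb', rfl⟩ := (Ideal.mem_map_iff_of_surjective π hπ).1 hb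
        obtain ⟨y', rfl⟩ := red_surj k y
        refine ⟨(MvPolynomial.C b' : Q) • y', Submodule.smul_mem_smul (ha (Ideal.mem_map_of_mem _ hb')) trivial, ?_⟩
        rw [red_smul, show πP (MvPolynomial.C b') = MvPolynomial.C (π b') from MvPolynomial.map_C π b']
        exact algebraMap_smul P (π b') _)
      (fun y z hy hz => by
        obtain ⟨y', hy', rfl⟩ := hy
        obtain ⟨z', hz', rfl⟩ := hz
        exact ⟨y' + z', add_mem hy' hz', map_add _ _ _⟩)
  have hx : (d (2 * N + 1)) (red (2 * N + 2) c) ∈ I • (⊤ : Submodule R (F (2 * N + 1))) := by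
    rw [d_red]
    exact hred_obs _ _ (TorDimLib.Ld_comp_single_mem fq Jq φ hφ r' g hr hrI N)
  have hK := TorDimLib.mem_smul_of_flat_quotient (A := R) (K := LinearMap.range (d (2 * N + 1)))
    (F := F (2 * N + 1)) (Q := LinearMap.range (d (2 * N)))
    (LinearMap.range (d (2 * N + 1))).subtype (d (2 * N)).rangeRestrict
    Subtype.val_injective
    (by rw [LinearMap.exact_iff, Submodule.range_subtype, LinearMap.ker_rangeRestrict]
        exact LinearMap.exact_iff.1 (hd (2 * N)))
    (LinearMap.surjective_rangeRestrict _) I ⟨_, LinearMap.mem_range_self _ (red (2 * N + 2) c)⟩ hx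
  have hmap : I • (⊤ : Submodule R (LinearMap.range (d (2 * N + 1)))) =
      Submodule.map (d (2 * N + 1)).rangeRestrict (I • ⊤) := by
    rw [Submodule.map_smul'', Submodule.map_top, LinearMap.range_rangeRestrict]
  rw [hmap] at hK
  obtain ⟨w, hw, hwc⟩ := hK
  have hsub : d (2 * N + 1) (red (2 * N + 2) c - w) = 0 := by
    rw [map_sub, sub_eq_zero]
    exact (congrArg Subtype.val hwc).symm
  obtain ⟨v, hv⟩ := (hd (2 * N + 1) _).1 hsub
  obtain ⟨v', rfl⟩ := red_surj _ v
  obtain ⟨w', hw', rfl⟩ := hlift _ w hw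
  obtain ⟨y, hy⟩ := red_zero _ (c - w' - TorDimLib.Ld fq Jq (2 * N + 2) v') (by
    rw [map_sub, map_sub, ← d_red, hv, sub_self])
  refine TorDimLib.comp_single_notMem fq Jq φ hφ r' g hr hgk (N + 1) 0 ?_
  rw [pow_zero, one_smul]
  show c ∈ TorDimLib.Bd fq Jq (2 * N + 2)
  rw [show c = TorDimLib.Ld fq Jq (2 * N + 2) v' + (w' + fq • y) by rw [hy]; abel]
  exact Submodule.add_mem_sup ((TorDimLib.range_Ld fq Jq (2 * N + 2)).le (LinearMap.mem_range_self _ v'))
    (add_mem hw' (TorDimLib.smul_mem_obs fq y))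

end Groth.Agent.S6532
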