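import Groth.Statements.S6935
import Groth.Agent.DRingLib.PCohMore

set_option autoImplicit false
universe u
open CategoryTheory CategoryTheory.Limits
attribute [local instance] HasDerivedCategory.standard
open DRing

namespace Groth.Agent.S6935

/-- Let R be a commutative ring and M an R-module, viewed as the complex M[0] in D(R). Then M[0] is
0-pseudo-coherent exactly when M is finitely generated over R, and M[0] is (-1)-pseudo-coherent
exactly when M admits a finite presentation over R. -/
theorem result (R : Type u) [CommRing R]
    (M : Type u) [AddCommGroup M] [Module R M] :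
    (DRing.IsPseudoCoherentModule R 0 M ↔ Module.Finite R M) ∧
      (DRing.IsPseudoCoherentModule R (-1) M ↔ Module.FinitePresentation R M) := by
  have e := DRingLib.inDEquiv (R := R) M
  have hz : ∀ i : ℤ, i ≠ 0 → IsZero ((DRingLib.Hn R i).obj (Dual.inD R M)) := fun i hi =>
    DRingLib.isZero_Hn_inD M hi
  refine ⟨⟨fun h => ?_, fun h => ?_⟩, ⟨fun h => ?_, fun h => ?_⟩⟩
  · have := DRingLib.finite_of_isPseudoCoherent h fun i hi => hz i (by omega)
    exact Module.Finite.equiv e
  · exact DRingLib.isPseudoCoherent_of_finite_top (fun i hi => hz i (by omega))
      (Module.Finite.equiv e.symm)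
  · have := DRingLib.finitePresentation_of_isPseudoCoherent h fun i hi => hz i (by omega)
    have : Module.FinitePresentation R ((DRingLib.Hn R 0).obj (Dual.inD R M)) := this
    exact Module.FinitePresentation.of_equiv e
  · exact DRingLib.isPseudoCoherent_of_finitePresentation (fun i hi => hz i (by omega))
      (Module.FinitePresentation.of_equiv e.symm)
      (DRingLib.finite_of_isZero (hz _ (by omega)))

end Groth.Agent.S6935
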