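import Groth.Statements.S18934
import Groth.Agent.TransLib.SqExamples

set_option autoImplicit false
universe u
open Synt

namespace Groth.Agent.S18934

open Polynomial in
/-- Let p be a prime, A a commutative ring and a an element of A. Then the A-algebra A[T]/(T^p − a) is
syntomic and faithfully flat over A. This is the step of the source's proof showing that adjoining a
p-th root of any element is a covering for the syntomic topology. -/
theorem result (p : ℕ) [Fact p.Prime]
    (A : Type u) [CommRing A] (a : A) :
    Synt.IsSyntomic A (AdjoinRoot (X ^ p - C a)) ∧ Module.FaithfullyFlat A (AdjoinRoot (X ^ p - C a)) := by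
  have hp := (Fact.out : p.Prime).pos
  have hQ := Polynomial.monic_X_pow_sub_C a hp.ne'
  rcases subsingleton_or_nontrivial A with hA | hA
  · have : Module.Finite A (AdjoinRoot (Polynomial.X ^ p - Polynomial.C a)) := hQ.finite_adjoinRoot
    have h := TransLib.isSyntomic_of_isSq (TransLib.isSq_adjoinRoot (TransLib.isSq_self A) (Polynomial.X ^ p - Polynomial.C a))
    have := h.1
    exact ⟨h, TransLib.faithfullyFlat_of_finite fun x y _ => Subsingleton.elim x y⟩
  · exact TransLib.adjoinRoot_syntomic A hQ (by rw [Polynomial.natDegree_X_pow_sub_C]; exact hp)

end Groth.Agent.S18934
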