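import Groth.Statements.S7264
import Groth.Agent.RelFlatLib.Affine
import Groth.Agent.TildePCLib.Main

set_option autoImplicit false
set_option backward.isDefEq.respectTransparency false
set_option backward.isDefEq.respectTransparency.types false
universe u
open CategoryTheory CategoryTheory.Limits AlgebraicGeometry
attribute [local instance] HasDerivedCategory.standard
open Perf

namespace Groth.Agent.S7264

/-- (1) ⇔ (2) in the affine case to which the proof reduces: let R → A be flat and of finite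
presentation, f : X = Spec A ⟶ S = Spec R, M ∈ D(A) and E = M~ ∈ D(O_X) (tilde recorded as exact),
so that RΓ(X, E) = M. Then E is S-perfect (pseudo-coherent, and locally on X represented by a
bounded complex of O_X-modules flat over S) if and only if M is R-perfect (pseudo-coherent as a
complex of A-modules and of finite tor dimension as a complex of R-modules). -/
theorem result (R A : Type u) [CommRing R] [CommRing A] [Algebra R A]
    [Module.Flat R A] [Algebra.FinitePresentation R A]
    [PreservesFiniteLimits (tilde.functor (CommRingCat.of A))] (M : Dual.D A) :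
    ((∀ m : ℤ, DCoh.IsPseudoCoherentD m ((DCoh.tildeD (CommRingCat.of A)).obj M)) ∧
      DCoh.LocHasFiniteRelTorDim (Spec.map (CommRingCat.ofHom (algebraMap R A))) ((DCoh.tildeD (CommRingCat.of A)).obj M)) ↔
    Dual2.IsRelPerfect R A M := by
  haveI : Flat (Spec.map (CommRingCat.ofHom (algebraMap R A))) :=
    Flat.SpecMap_iff.2 ((RingHom.flat_algebraMap_iff).2 ‹Module.Flat R A›)
  obtain ⟨F, ⟨eF⟩⟩ : ∃ F : CochainComplex (Spec (CommRingCat.of A)).Modules ℤ,
      Nonempty (DCoh.toD _ F ≅ (DCoh.tildeD (CommRingCat.of A)).obj M) :=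
    ⟨_, ⟨DerivedCategory.Q.objObjPreimageIso _⟩⟩
  refine and_congr ⟨fun h => DRingLib.isPseudoCoherent'_iff_forall.2 fun m =>
      TildePCLib.isPseudoCoherent_of_tildeD (h m),
    fun h m => TildePCLib.isPC_tildeD (DRingLib.isPseudoCoherent'_iff_forall.1 h m)⟩ ?_
  rw [RelFlatLib.loc_iff _ eF]
  constructor
  · intro h
    obtain ⟨a, b, hab⟩ := RelFlatLib.exists_amp_of_loc _ h
    obtain ⟨E, h1, h2, ⟨e⟩⟩ := RelFlatLib.relFlatAmp_of_amp _ hab
    exact ⟨a, b, (RelFlatLib.relFlatAmp_tildeD_iff M a b).1 ⟨E, h1, h2, ⟨e ≪≫ eF⟩⟩⟩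
  · rintro ⟨a, b, hab⟩
    obtain ⟨E, h1, h2, ⟨e⟩⟩ := (RelFlatLib.relFlatAmp_tildeD_iff M a b).2 hab
    exact fun x => ⟨⊤, a, b, trivial, fun x' _ =>
      RelFlatLib.amp_of_relFlatAmp _ ⟨E, h1, h2, ⟨e ≪≫ eF.symm⟩⟩ x'⟩

end Groth.Agent.S7264
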