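import Groth.Statements.S0914
import Groth.Agent.KFlatLib.PerfectCrit
-- import your own Groth.Agent.* helpers here

set_option autoImplicit false
universe u
open CategoryTheory
attribute [local instance] HasDerivedCategory.standard
open DCoh

namespace Groth.Agent.S0914

open AlgebraicGeometry in
/-- An object E of D(O_X) is perfect if and only if it is m-pseudo-coherent for every m and locally has
finite tor dimension. -/
theorem result {X : Scheme.{u}} (E : DCoh.D X) :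
    DCoh.IsPerfect E ↔ (∀ m : ℤ, DCoh.IsPseudoCoherentD m E) ∧ DCoh.LocHasFiniteTorDim E := by
  open KFlatLib in
  refine ⟨fun h => ⟨fun m x => ?_, fun x => ?_⟩, fun ⟨hp, ht⟩ => ?_⟩
  · obtain ⟨V, hxV, hV⟩ := h x
    refine ⟨V, hxV, fun F hF => ?_⟩
    obtain ⟨E₀, hE₀, ⟨e⟩⟩ := hV F hF
    exact ⟨E₀, e.inv, hE₀, fun i _ => inferInstance, inferInstance⟩
  · obtain ⟨V, hxV, hV⟩ := h x
    obtain ⟨P, -, ⟨eP⟩⟩ := exists_good_rep E
    obtain ⟨E₀, ⟨⟨a, b, hv⟩, hf⟩, ⟨e₀⟩⟩ := hV P ⟨eP⟩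
    refine ⟨V, a, b, hxV, fun F hF => ?_⟩
    obtain ⟨eF⟩ := hF
    exact ⟨E₀, hv, fun i => isFlat_of_isFinLocFree (hf i),
      ⟨e₀.symm ≪≫ restrictQIso V (eP ≪≫ eF.symm)⟩⟩
  · obtain ⟨P, hP, ⟨eP⟩⟩ := exists_good_rep E
    refine isPerfect_of_models hP.1 eP fun x => ?_
    obtain ⟨V, a, b, hxV, hV⟩ := ht x
    have := hasLpull V.ι
    let eV : (DCoh.Lpull V.ι).obj E ≅ DCoh.toD _ ((DCoh.restrictCx V).obj P) :=
      (DCoh.Lpull V.ι).mapIso eP.symm ≪≫ lpullObjIso V.ι P hP.1 ≪≫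
        DerivedCategory.Q.mapIso ((restrictCxIso V).app P).symm
    obtain ⟨Q, hQ, hQf, ⟨eQ⟩⟩ := hV P ⟨eP⟩
    have hper : DCoh.IsPerfect ((DCoh.Lpull V.ι).obj E) :=
      isPerfect_of_flatAmplitude_of_pcoh _ a b ⟨Q, hQ, hQf, ⟨eQ ≪≫ eV.symm⟩⟩
        (isPseudoCoherent_lpull V.ι (a - 1) E (hp (a - 1)))
    obtain ⟨U, hxU, hU⟩ := hper ⟨x, hxV⟩
    obtain ⟨S, hS, ⟨eS⟩⟩ := hU ((DCoh.restrictCx V).obj P) ⟨eV.symm⟩
    refine ⟨U, U.ι ≫ V.ι, inferInstance, ⟨⟨⟨x, hxV⟩, hxU⟩, rfl⟩, S, hS, ⟨?_⟩⟩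
    exact DerivedCategory.Q.mapIso
      (((NatIso.mapHomologicalComplex (Scheme.Modules.pullbackComp U.ι V.ι)
          (ComplexShape.up ℤ)).app P).symm ≪≫
        (pullCx U.ι).mapIso ((restrictCxIso V).app P).symm ≪≫
        ((restrictCxIso U).app _).symm) ≪≫ eS

end Groth.Agent.S0914
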