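import Groth.Statements.S6947
import Groth.Agent.DRingLib.Devissage
import Groth.Agent.DRingLib.TorBalance

set_option autoImplicit false
universe u
open CategoryTheory CategoryTheory.Limits
attribute [local instance] HasDerivedCategory.standard
open DRing

namespace Groth.Agent.S6947

/-- Let A → B be a homomorphism of commutative rings such that B, as an A-module, has tor dimension at
most d: B[0] is isomorphic in D(A) to a complex of flat A-modules vanishing outside [-d, 0]. Let K
be an object of D(B) with tor amplitude in [a, b] over B. Then K, with scalars restricted to A, has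
tor amplitude in [a - d, b] over A. -/
theorem result {A B : Type u} [CommRing A] [CommRing B]
    [Algebra A B] (d : ℕ) (hB : DRing.HasTorAmplitudeIn A (-(d : ℤ)) 0 (Dual.inD A B)) (K : Dual.D B)
    (a b : ℤ) (hK : DRing.HasTorAmplitudeIn B a b K) :
    DRing.HasTorAmplitudeIn A (a - d) b ((DRing.restrictD (algebraMap A B)).obj K) := by
  let F := ModuleCat.restrictScalars.{u} (algebraMap A B)
  have hBt : DRing.HasTorDimLE A d B := (Groth.Agent.DRingLib.hasTorDimLE_iff_amplitude B d).2 hB
  have hflat : ∀ (M : Type u) [AddCommGroup M] [Module B M] [Module A M] [IsScalarTower A B M],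
      Module.Flat B M → DRing.HasTorDimLE A d M := by
    intro M _ _ _ _ hM N _ _ p hp
    obtain ⟨q, rfl⟩ : ∃ q, p = q + 1 := ⟨p - 1, by omega⟩
    let Q := projectiveResolution (ModuleCat.of A N)
    have key : ∀ (L : Type u) [AddCommGroup L] [Module A L],
        Subsingleton (DRing.Tor A (q + 1) L N) ↔
          Function.Exact ((Q.complex.d (q + 2) (q + 1)).hom.lTensor L)
            ((Q.complex.d (q + 1) q).hom.lTensor L) := by
      intro L _ _
      refine ModuleCat.isZero_of_iff_subsingleton.symm.trans
        (((Q.isoLeftDerivedObj (MonoidalCategory.tensorLeft (ModuleCat.of A L)) (q + 1)).isZero_iff).trans ?_)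
      show Limits.IsZero (HomologicalComplex.homology _ (q + 1)) ↔ _
      rw [← HomologicalComplex.exactAt_iff_isZero_homology,
        HomologicalComplex.exactAt_iff' _ (q + 2) (q + 1) q (by simp [ChainComplex.prev]) (by simp),
        CategoryTheory.ShortComplex.ShortExact.moduleCat_exact_iff_function_exact]
      rfl
    rw [key]
    let d1 := (Q.complex.d (q + 2) (q + 1)).hom
    let d0 := (Q.complex.d (q + 1) q).hom
    have h2 : Function.Exact ((d1.baseChange B).lTensor M) ((d0.baseChange B).lTensor M) :=
      Module.Flat.lTensor_exact M (R := B) (f := d1.baseChange B) (g := d0.baseChange B)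
        ((key B).1 (hBt N (q + 1) hp))
    let e : ∀ (X : Type u) [AddCommGroup X] [Module A X],
        TensorProduct B M (TensorProduct A B X) ≃ₗ[B] TensorProduct A M X :=
      fun X _ _ => TensorProduct.AlgebraTensorModule.cancelBaseChange A B B M X
    refine Function.Exact.of_ladder_addEquiv_of_exact (e₁ := (e _).toAddEquiv)
      (e₂ := (e _).toAddEquiv) (e₃ := (e _).toAddEquiv)
      (f₁₂ := ((d1.baseChange B).lTensor M).toAddMonoidHom)
      (f₂₃ := ((d0.baseChange B).lTensor M).toAddMonoidHom)
      (g₁₂ := (d1.lTensor M).toAddMonoidHom)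
      (g₂₃ := (d0.lTensor M).toAddMonoidHom) ?_ ?_ h2
    all_goals
      ext x
      induction x using TensorProduct.induction_on with
      | zero => simp
      | add x y hx hy => simp_all
      | tmul m y =>
        induction y using TensorProduct.induction_on with
        | zero => simp
        | add x y hx hy => simp_all [TensorProduct.tmul_add]
        | tmul b z => simp [e]
  let G := DRing.restrictD (algebraMap A B)
  have hD : Groth.Agent.DRingLib.Devissable
      (fun X : Dual.D B => DRing.HasTorAmplitudeIn A (a - d) b (G.obj X)) :=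
    { iso := fun e h => Groth.Agent.DRingLib.hasTorAmplitudeIn_of_iso (G.mapIso e) h
      zero := fun h => Groth.Agent.DRingLib.hasTorAmplitudeIn_of_isZero (G.map_isZero h) _ _
      ext := fun T hT h1 h3 => (Groth.Agent.DRingLib.devissable_amplitude _ _).ext _
        (G.map_distinguished T hT) h1 h3 }
  obtain ⟨E, hv, hE, ⟨e⟩⟩ := hK
  refine Groth.Agent.DRingLib.hasTorAmplitudeIn_of_iso (G.mapIso e)
    (hD.of_terms a (b + 1 - a).toNat E (fun i hi => hv i (by omega)) fun i => ?_)
  by_cases hi : a ≤ i ∧ i ≤ b
  · letI : Module A (E.X i) := Module.compHom _ (algebraMap A B)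
    haveI : IsScalarTower A B (E.X i) := IsScalarTower.of_algebraMap_smul fun _ _ => rfl
    exact Groth.Agent.DRingLib.hasTorAmplitudeIn_of_iso
      ((F.mapDerivedCategorySingleFunctor i).app (E.X i)).symm
      (Groth.Agent.DRingLib.hasTorAmplitudeIn_singleFunctor (N := F.obj (E.X i))
        (Groth.Agent.DRingLib.hasTorAmplitudeIn_mono (by omega) (by omega)
          ((Groth.Agent.DRingLib.hasTorDimLE_iff_amplitude (F.obj (E.X i)) d).1
            (hflat (E.X i) (hE i)))))
  · exact hD.zero ((DerivedCategory.singleFunctor (ModuleCat.{u} B) i).map_isZero (hv i (by omega)))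

end Groth.Agent.S6947
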