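import Groth.Statements.S15539
import Mathlib
import Groth.Agent.ExtPowLib.Pullback
import Groth.Agent.OmegaAffLib.Apps
import Groth.Agent.OmegaAffLib.DiffCompat
import Groth.Agent.OmegaAffLib.Universal

set_option autoImplicit false
universe u
open OmegaSh

namespace Groth.Agent.S15539

open CategoryTheory AlgebraicGeometry in
/-- For a cartesian square of schemes with quasi-separated vertical maps f : X → S, f' : X' → S' and
horizontal maps g : X' → X, h : S' → S, and an O_X-module L which is a p-th exterior power of the
sheaf of differentials Ω_{X/S}, the pulled-back module g^*L is a p-th exterior power of Ω_{X'/S'}.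
(The published statement is that the canonical base-change map g^*Ω^p_{X/S} → Ω^p_{X'/S'} is an
isomorphism; only the resulting identification of g^*Ω^p_{X/S} as an exterior power, i.e. existence
of compatible affine-local isomorphisms, is stated here. The published statement is for arbitrary
morphisms; quasi-separatedness of f and f′ is assumed here.) -/
theorem result (X S X' S' : Scheme.{u}) (f : X ⟶ S) (f' : X' ⟶ S')
    (g : X' ⟶ X) (h : S' ⟶ S) (sq : IsPullback g f' f h) [QuasiSeparated f] [QuasiSeparated f']
    (p : ℕ) (L : X.Modules) (hL : ExtPow.IsExtPow p (Omega.sheaf f) L) :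
    ExtPow.IsExtPow p (Omega.sheaf f') ((Scheme.Modules.pullback g).obj L) := by
  have hd := OmegaAffLib.isUniversal_dOmega (f := f)
  have hd' := OmegaAffLib.isUniversal_dOmega (f := f')
  obtain ⟨c, hc, -⟩ := OmegaAffLib.existsUnique_diffCompat sq.w.symm (OmegaSh.dOmega f) hd (OmegaSh.dOmega f')
  haveI : IsIso c := OmegaAffLib.isIso_of_isPullback sq hd hd' hc
  haveI : Coh.IsQCoh (Omega.sheaf f) := OmegaAffLib.isQCoh_of_isUniversal hd
  exact ExtPowLib.isExtPow_of_iso_left (asIso c) (ExtPowLib.isExtPow_pullback g hL)

end Groth.Agent.S15539
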