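import Groth.Statements.S0924
import Groth.Agent.PerfLib.PCohSummand
import Groth.Agent.KFlatLib.TorAmpMore
import Groth.Agent.S0914
-- import your own Groth.Agent.* helpers here

set_option autoImplicit false
set_option linter.style.haveILetI false
universe u
open CategoryTheory
attribute [local instance] HasDerivedCategory.standard
open DCoh

namespace Groth.Agent.S0924

open AlgebraicGeometry CategoryTheory.Limits in
/-- Perfectness of objects of D(O_X) passes to direct summands: K and L are perfect as soon as K ⊕ L is. -/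
theorem result {X : Scheme.{u}} (K L : DCoh.D X) [HasBinaryBiproduct K L]
    (h : DCoh.IsPerfect (K ⊞ L)) : DCoh.IsPerfect K ∧ DCoh.IsPerfect L := by
  open Groth.Agent.PerfLib KFlatLib in
  have hloc : ∀ (M : DCoh.D X) (i : M ⟶ K ⊞ L) (r : K ⊞ L ⟶ M), i ≫ r = 𝟙 M →
      DCoh.LocHasFiniteTorDim M := by
    intro M i r hir x
    obtain ⟨V, a, b, hx, hV⟩ := ((Groth.Agent.S0914.result (K ⊞ L)).1 h).2 x
    obtain ⟨E, hv, hfl, ⟨e⟩⟩ := hV _ ⟨DerivedCategory.Q.objObjPreimageIso (K ⊞ L)⟩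
    have hf : DCoh.HasFlatAmplitudeIn a (max a b) ((resD V.ι).obj (K ⊞ L)) :=
      ⟨E, fun j hj => hv j (by omega), hfl, ⟨e ≪≫ (resDQIso V.ι _).symm ≪≫
        (resD V.ι).mapIso (DerivedCategory.Q.objObjPreimageIso (K ⊞ L))⟩⟩
    have hM : DCoh.HasTorAmplitudeIn a (max a b) ((resD V.ι).obj M) :=
      torAmplitude_of_retract ((resD V.ι).map i) ((resD V.ι).map r)
        (by rw [← Functor.map_comp, hir, CategoryTheory.Functor.map_id])
        (torAmplitude_of_flatAmplitude hf)
    obtain ⟨E', hv', hfl', ⟨e'⟩⟩ := flatAmplitude_of_torAmplitude (le_max_left a b) hM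
    exact ⟨V, a, max a b, hx, fun F' ⟨eF⟩ => ⟨E', hv', hfl',
      ⟨e' ≪≫ (resD V.ι).mapIso eF.symm ≪≫ resDQIso V.ι F'⟩⟩⟩
  have hpc := ((Groth.Agent.S0914.result (K ⊞ L)).1 h).1
  exact ⟨(Groth.Agent.S0914.result K).2
      ⟨fun m => isPC_summand m L K (isPC_of_iso (biprod.braiding K L) (hpc m)),
        hloc K biprod.inl biprod.fst biprod.inl_fst⟩,
    (Groth.Agent.S0914.result L).2
      ⟨fun m => isPC_summand m K L (hpc m), hloc L biprod.inr biprod.snd biprod.inr_snd⟩⟩

end Groth.Agent.S0924
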