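import Groth.Statements.S9498
import Mathlib.AlgebraicGeometry.Modules.Tilde
import Mathlib.Algebra.Homology.ShortComplex.ExactFunctor
import Mathlib.CategoryTheory.Limits.Preserves.Finite

set_option autoImplicit false
universe u
open AffSch

namespace Groth.Agent.S9498

open AlgebraicGeometry in
open CategoryTheory Limits in
/-- For a commutative ring A, the functor M ↦ M~ from the category of A-modules to the category of
O-modules on Spec A is exact, i.e. it preserves finite limits and finite colimits. -/
theorem result
    (A : Type u) [CommRing A] :
    PreservesFiniteLimits (tilde.functor (CommRingCat.of A)) ∧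
      PreservesFiniteColimits (tilde.functor (CommRingCat.of A)) := by
  suffices ∀ R : CommRingCat.{u}, PreservesFiniteLimits (tilde.functor R) ∧
      PreservesFiniteColimits (tilde.functor R) from this _
  intro R
  set_option backward.isDefEq.respectTransparency.types false in
  have hmono : ∀ {M N : ModuleCat (R)} (f : M ⟶ N), Mono f → Mono ((tilde.functor (R)).map f) := by
    intro M N f hf
    have hinj : ∀ U, Function.Injective ((tilde.map f).app U) := fun U s t hst => by
      refine Subtype.ext (funext fun y => ?_)
      exact IsLocalizedModule.map_injective y.1.asIdeal.primeCompl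
        (LocalizedModule.mkLinearMap y.1.asIdeal.primeCompl M)
        (LocalizedModule.mkLinearMap y.1.asIdeal.primeCompl N) f.hom
        ((ModuleCat.mono_iff_injective f).mp hf) (congr_fun (congrArg Subtype.val hst) y)
    refine ⟨fun {Z} g g' h => Scheme.Modules.hom_ext _ _ fun U => ConcreteCategory.hom_ext _ _ fun z => hinj U ?_⟩
    exact ConcreteCategory.congr_hom (congrArg (fun k : Z ⟶ tilde N => k.app U) h) z
  have : PreservesFiniteColimits (tilde.functor (R)) :=
    ⟨fun J _ _ => tilde.adjunction.leftAdjoint_preservesColimits.preservesColimitsOfShape⟩
  refine ⟨?_, this⟩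
  rw [Functor.preservesFiniteLimits_iff_forall_exact_map_and_mono]
  intro S hS
  exact ⟨((Functor.preservesFiniteColimits_iff_forall_exact_map_and_epi _).mp this S hS).1, hmono _ hS.mono_f⟩

end Groth.Agent.S9498
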