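import Groth.Statements.S6292
import Mathlib.RingTheory.Finiteness.Ideal
import Mathlib.RingTheory.Ideal.Quotient.Operations
import Mathlib.RingTheory.Artinian.Module
import Mathlib.RingTheory.Noetherian.Basic
import Mathlib.RingTheory.Length
import Mathlib.RingTheory.FiniteLength
import Mathlib.Algebra.Module.Torsion.Basic


-- import your own Groth.Agent.* helpers here

set_option autoImplicit false
universe u
open CAlg

namespace Groth.Agent.S6292

/-- Let R be a ring and m ⊆ R a finitely generated maximal ideal (for instance R Noetherian). If M is a
finite R-module with mⁿM = 0 for some n, then M has finite length. -/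
theorem result {R : Type u} [CommRing R] (m : Ideal R) [m.IsMaximal] (hm : m.FG) (M : Type u) [AddCommGroup M] [Module R M] [Module.Finite R M] (n : ℕ) (hn : m ^ n • (⊤ : Submodule R M) = ⊥) : IsFiniteLength R M := by
  classical
  induction n generalizing M with
  | zero =>
    rw [pow_zero, Submodule.one_smul] at hn
    have : Subsingleton M := (Submodule.subsingleton_iff R).1 (subsingleton_of_bot_eq_top hn.symm)
    exact IsFiniteLength.of_subsingleton
  | succ n ih =>
    let N : Submodule R M := m • ⊤
    have hNfg : N.FG := Submodule.FG.smul hm Module.Finite.fg_top
    have : Module.Finite R N := Module.Finite.iff_fg.2 hNfg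
    have hN : IsFiniteLength R N := ih N (by
      apply Submodule.map_injective_of_injective N.injective_subtype
      rw [Submodule.map_smul'', Submodule.map_top, Submodule.range_subtype, Submodule.map_bot, ← hn, pow_succ,
        Submodule.mul_smul])
    have hQ : IsFiniteLength R (M ⧸ m • (⊤ : Submodule R M)) := by
      let := Ideal.Quotient.field m
      have : Module.Finite (R ⧸ m) (M ⧸ m • (⊤ : Submodule R M)) := Module.Finite.of_restrictScalars_finite R (R ⧸ m) _
      rw [← Module.length_ne_top_iff, Module.length_eq_of_surjective (R := R ⧸ m) Ideal.Quotient.mk_surjective]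
      exact Module.length_ne_top
    rw [isFiniteLength_iff_isNoetherian_isArtinian] at hN hQ ⊢
    exact ⟨have := hN.1; have := hQ.1; isNoetherian_of_range_eq_ker N.subtype N.mkQ (by simp),
      have := hN.2; have := hQ.2; isArtinian_of_range_eq_ker N.subtype N.mkQ (by simp)⟩

end Groth.Agent.S6292
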