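import Groth.Statements.S1582
import Mathlib
import Groth.Agent.AlbLib.AlgClosed

set_option autoImplicit false
set_option backward.isDefEq.respectTransparency false
universe u
open CategoryTheory CategoryTheory.Limits AlgebraicGeometry
open Variety

namespace Groth.Agent.S1582

/-- Let k be algebraically closed and X, Y varieties over k (integral, separated, of finite type). Then
the fibre product X ×_k Y is integral (and so again a variety over k). -/
theorem result (k : Type u) [Field k] [IsAlgClosed k] (X Y : Scheme.{u})
    (f : X ⟶ Spec (CommRingCat.of k)) (g : Y ⟶ Spec (CommRingCat.of k))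
    [IsIntegral X] [IsIntegral Y] [IsSeparated f] [IsSeparated g]
    [LocallyOfFiniteType f] [LocallyOfFiniteType g] [QuasiCompact f] [QuasiCompact g] :
    IsIntegral (pullback f g) := by
  haveI : LocallyOfFiniteType (Over.mk g).hom := ‹LocallyOfFiniteType g›
  haveI : IsIntegral (Over.mk g).left := ‹IsIntegral Y›
  haveI : GeometricallyIntegral g := AlbLib.geometricallyIntegral_of_isIntegral (Over.mk g)
  haveI : Flat g := Groth.Agent.GrpField.flat_field g
  haveI : UniversallyOpen g := Groth.Agent.GrpField.universallyOpen_field g
  haveI : IsLocallyNoetherian X := LocallyOfFiniteType.isLocallyNoetherian f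
  haveI : Flat (pullback.fst f g) := MorphismProperty.pullback_fst (P := @Flat) _ _ inferInstance
  haveI : UniversallyOpen (pullback.fst f g) := MorphismProperty.pullback_fst (P := @UniversallyOpen) _ _ inferInstance
  exact GeometricallyIntegral.isIntegral_of_isLocallyNoetherian (pullback.fst f g)

end Groth.Agent.S1582
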