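import Groth.Statements.S2344
import Groth.Agent.NormalExtLib.Scheme
-- import your own Groth.Agent.* helpers here

set_option autoImplicit false
universe u
open CategoryTheory CategoryTheory.Limits AlgebraicGeometry
open EGA2

namespace Groth.Agent.S2344

open TopologicalSpace

theorem valuationRing_stalk {X : Scheme.{u}} [IsLocallyNoetherian X] [JacobsonSpace X]
    (hcurve : ∀ x : X, IsClosed ({x} : Set X) → ringKrullDim (X.presheaf.stalk x) = 1) (x : X)
    [IsDomain (X.presheaf.stalk x)] [IsIntegrallyClosed (X.presheaf.stalk x)] :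
    ValuationRing (X.presheaf.stalk x) := by
  obtain ⟨c, hc1, hc2⟩ := nonempty_inter_closedPoints
    (Set.Nonempty.closure (Set.singleton_nonempty x)) isClosed_closure.isLocallyClosed
  have hdim : Order.coheight x ≤ 1 := by
    have h1 : Order.coheight x ≤ Order.coheight c :=
      Order.coheight_anti (specializes_iff_mem_closure.mpr hc1 : x ⤳ c)
    have h2 := hcurve c hc2
    rw [ringKrullDim_stalk_eq_coheight,
      show (1 : WithBot ℕ∞) = ((1 : ℕ∞) : WithBot ℕ∞) from rfl, WithBot.coe_eq_coe] at h2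
    exact h2 ▸ h1
  haveI : Ring.KrullDimLE 1 (X.presheaf.stalk x) := krullDimLE_of_coheight_le (by exact_mod_cast hdim)
  haveI : Ring.DimensionLEOne (X.presheaf.stalk x) :=
    ⟨fun hp hpp => Ring.krullDimLE_one_iff_of_isPrime_bot.mp inferInstance _ hp hpp⟩
  haveI : IsDedekindRing (X.presheaf.stalk x) := (isDedekindRing_iff _ (FractionRing (X.presheaf.stalk x))).mpr
    ⟨inferInstance, inferInstance, fun h => IsIntegrallyClosed.isIntegral_iff.mp h⟩
  haveI : IsDedekindDomain (X.presheaf.stalk x) := {}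
  haveI : IsPrincipalIdealRing (X.presheaf.stalk x) := IsPrincipalIdealRing.of_finite_maximals (by
    refine (Set.finite_singleton (IsLocalRing.maximalIdeal (X.presheaf.stalk x))).subset fun I hI => ?_
    exact IsLocalRing.eq_maximalIdeal hI)
  infer_instance

theorem exists_local_extension {X Y S : Scheme.{u}} (sX : X ⟶ S) (sY : Y ⟶ S) [IsLocallyNoetherian X]
    [IsLocallyNoetherian S] [JacobsonSpace X] [IsProper sY]
    (hcurve : ∀ x : X, IsClosed ({x} : Set X) → ringKrullDim (X.presheaf.stalk x) = 1)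
    (hnorm : ∀ x : X, IsDomain (X.presheaf.stalk x) ∧ IsIntegrallyClosed (X.presheaf.stalk x))
    (U : X.Opens) (hU : Dense (U : Set X)) (g : (U : Scheme.{u}) ⟶ Y) (hg : g ≫ sY = U.ι ≫ sX) (x : X) :
    ∃ V : X.Opens, x ∈ V ∧ ∃ f : (V : Scheme.{u}) ⟶ Y, f ≫ sY = V.ι ≫ sX ∧
      X.homOfLE (inf_le_right : U ⊓ V ≤ V) ≫ f = X.homOfLE (inf_le_left : U ⊓ V ≤ U) ≫ g := by
  haveI hd : IsDomain (X.presheaf.stalk x) := (hnorm x).1
  haveI hn : IsIntegrallyClosed (X.presheaf.stalk x) := (hnorm x).2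
  haveI := valuationRing_stalk hcurve x
  obtain ⟨W, hxW, hW⟩ := NormalExtLib.exists_isIntegral_nhd x
  haveI := hW
  have hξ : NormalExtLib.genPt x ∈ U := NormalExtLib.genPt_mem_of_dense x hxW hU
  haveI := NormalExtLib.isGermInjectiveAt hxW
  have hex : ValuativeCriterion.Existence sY :=
    ((UniversallyClosed.eq_valuativeCriterion ▸ (inferInstance : UniversallyClosed sY)) :
      (ValuativeCriterion.Existence ⊓ @QuasiCompact) sY).1
  let K := FractionRing (X.presheaf.stalk x)
  let sq : ValuativeCommSq sY :=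
    { R := X.presheaf.stalk x
      commRing := inferInstance
      domain := hd
      valuationRing := valuationRing_stalk hcurve x
      K := K
      i₁ := NormalExtLib.genLift x hξ ≫ g
      i₂ := X.fromSpecStalk x ≫ sX
      commSq := ⟨by rw [Category.assoc, hg, NormalExtLib.genLift_ι_assoc]; rfl⟩ }
  obtain ⟨⟨σ, hσ1, hσ2⟩⟩ := (hex sq).exists_lift
  obtain ⟨V, hxV, f, h1, h2⟩ := spread_out_of_isGermInjective' (x := x) sX sY (show Spec (X.presheaf.stalk x) ⟶ Y from σ) hσ2
  refine ⟨V ⊓ W, ⟨hxV, hxW⟩, X.homOfLE inf_le_left ≫ f, ?_, ?_⟩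
  · rw [Category.assoc, h2, Scheme.homOfLE_ι_assoc]
  · have hgen : NormalExtLib.genPt x ∈ U ⊓ (V ⊓ W) :=
      ⟨hξ, (NormalExtLib.genPt_specializes_self x).mem_open (V ⊓ W).isOpen ⟨hxV, hxW⟩⟩
    refine NormalExtLib.hom_ext_of_genLift x hxW (inf_le_right.trans inf_le_right) hgen sY ?_ ?_
    · simp only [Category.assoc, h2, hg, Scheme.homOfLE_ι_assoc]
    · rw [← Category.assoc, ← Category.assoc, ← Category.assoc, NormalExtLib.genLift_homOfLE,
        NormalExtLib.genLift_homOfLE, NormalExtLib.genLift_homOfLE,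
        NormalExtLib.genLift_eq_fromSpecStalkOfMem x hxV, Category.assoc, ← h1]
      exact hσ1

/-- Let X be a normal algebraic curve over k (separated, of finite type, nonempty, local rings at closed
points of dimension one, all local rings integrally closed domains), Y proper over k, U a dense open
of X and g : U → Y a k-morphism. Then g extends uniquely to a k-morphism X → Y. -/
theorem result (k : Type u) [Field k] (X Y : Scheme.{u}) [X.Over (Spec (CommRingCat.of k))] [Y.Over (Spec (CommRingCat.of k))]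
    [LocallyOfFiniteType (X ↘ (Spec (CommRingCat.of k)))] [QuasiCompact (X ↘ (Spec (CommRingCat.of k)))] [IsSeparated (X ↘ (Spec (CommRingCat.of k)))] [Nonempty X] (hcurve : (∀ x : X, IsClosed ({x} : Set X) → ringKrullDim (X.presheaf.stalk x) = 1)) (hnorm : Pi1.IsNormalScheme X)
    [IsProper (Y ↘ (Spec (CommRingCat.of k)))] (U : X.Opens) (hU : Dense (U : Set X)) (g : (U : Scheme.{u}) ⟶ Y)
    (hg : g ≫ (Y ↘ (Spec (CommRingCat.of k))) = U.ι ≫ (X ↘ (Spec (CommRingCat.of k)))) :
    ∃! g' : X ⟶ Y, U.ι ≫ g' = g ∧ g' ≫ (Y ↘ (Spec (CommRingCat.of k))) = X ↘ (Spec (CommRingCat.of k)) := by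

  haveI : ∀ x : X, _root_.IsReduced (X.presheaf.stalk x) := fun x => by
    haveI := (hnorm x).1; infer_instance
  haveI : IsReduced X := isReduced_of_isReduced_stalk X
  haveI : IsLocallyNoetherian X := LocallyOfFiniteType.isLocallyNoetherian (X ↘ (Spec (CommRingCat.of k)))
  haveI : JacobsonSpace X := LocallyOfFiniteType.jacobsonSpace (X ↘ (Spec (CommRingCat.of k)))
  have key := exists_local_extension (X ↘ (Spec (CommRingCat.of k))) (Y ↘ (Spec (CommRingCat.of k)))
    hcurve hnorm U hU g hg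
  choose V hxV gV hgV hag using key
  have hcover : TopologicalSpace.IsOpenCover V :=
    top_le_iff.mp fun x _ => TopologicalSpace.Opens.mem_iSup.mpr ⟨x, hxV x⟩
  let 𝒰 := X.openCoverOfIsOpenCover V hcover
  have huniq : ∀ {T : Scheme.{u}} (t : T ⟶ X) [IsOpenImmersion t] (a b : T ⟶ Y),
      a ≫ (Y ↘ (Spec (CommRingCat.of k))) = b ≫ (Y ↘ (Spec (CommRingCat.of k))) →
      ((t ⁻¹ᵁ U).ι ≫ a = (t ⁻¹ᵁ U).ι ≫ b) → a = b := by
    intro T t _ a b hab h
    haveI : IsReduced T := isReduced_of_isOpenImmersion t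
    haveI : IsDominant (t ⁻¹ᵁ U).ι := ⟨by
      show Dense _
      rw [Scheme.Opens.range_ι]
      exact hU.preimage t.isOpenEmbedding.isOpenMap⟩
    exact ext_of_isDominant_of_isSeparated _ hab _ h
  have hagree : ∀ (x : X) {T : Scheme.{u}} (a : T ⟶ (V x : Scheme.{u})) (b : T ⟶ (U : Scheme.{u})),
      a ≫ (V x).ι = b ≫ U.ι → a ≫ gV x = b ≫ g := by
    intro x T a b hab
    have hr : Set.range (b ≫ U.ι) ⊆ Set.range (U ⊓ V x).ι := by
      rw [Scheme.Opens.range_ι]
      rintro _ ⟨p, rfl⟩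
      refine ⟨?_, ?_⟩
      · rw [Scheme.Hom.comp_apply]; exact (b p).2
      · rw [← hab, Scheme.Hom.comp_apply]; exact (a p).2
    let c := IsOpenImmersion.lift (U ⊓ V x).ι _ hr
    have ha : a = c ≫ X.homOfLE inf_le_right := by
      rw [← cancel_mono (V x).ι, Category.assoc, Scheme.homOfLE_ι, hab, IsOpenImmersion.lift_fac]
    have hb : b = c ≫ X.homOfLE inf_le_left := by
      rw [← cancel_mono U.ι, Category.assoc, Scheme.homOfLE_ι, IsOpenImmersion.lift_fac]
    rw [ha, hb, Category.assoc, Category.assoc, hag x]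
  have hcompat : ∀ x y : X, pullback.fst (V x).ι (V y).ι ≫ gV x = pullback.snd _ _ ≫ gV y := by
    intro x y
    let t := pullback.fst (V x).ι (V y).ι ≫ (V x).ι
    refine huniq t _ _ ?_ ?_
    · rw [Category.assoc, Category.assoc, hgV, hgV, ← Category.assoc, pullback.condition, Category.assoc]
    · have hb : (t ⁻¹ᵁ U).ι ≫ t = (t ∣_ U) ≫ U.ι := (morphismRestrict_ι t U).symm
      rw [← Category.assoc, ← Category.assoc,
        hagree x _ (t ∣_ U) (by rw [Category.assoc]; exact hb),
        hagree y _ (t ∣_ U) (by rw [Category.assoc, ← pullback.condition]; exact hb)]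
  let G : X ⟶ Y := 𝒰.glueMorphisms gV hcompat
  have hG : ∀ x, (V x).ι ≫ G = gV x := fun x => 𝒰.ι_glueMorphisms gV hcompat x
  have hG2 : G ≫ (Y ↘ (Spec (CommRingCat.of k))) = X ↘ (Spec (CommRingCat.of k)) := by
    refine Scheme.Cover.hom_ext 𝒰 _ _ fun x => ?_
    show (V (x : X)).ι ≫ _ = (V (x : X)).ι ≫ _
    exact (Category.assoc _ _ _).symm.trans ((congrArg (· ≫ _) (hG x)).trans (hgV x))
  have hG1 : U.ι ≫ G = g := by
    refine Scheme.Cover.hom_ext (𝒰.pullback₁ U.ι) _ _ fun x => ?_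
    show pullback.fst U.ι (V x).ι ≫ _ = pullback.fst U.ι (V x).ι ≫ _
    rw [pullback.condition_assoc]
    refine (congrArg (pullback.snd U.ι (V x).ι ≫ ·) (hG x)).trans ?_
    exact hagree x (pullback.snd U.ι (V x).ι) (pullback.fst _ _) pullback.condition.symm
  refine ⟨G, ⟨hG1, hG2⟩, ?_⟩
  rintro g' ⟨h1, h2⟩
  haveI : IsDominant U.ι := ⟨by
    show Dense _
    rw [Scheme.Opens.range_ι]; exact hU⟩
  exact ext_of_isDominant_of_isSeparated _ (h2.trans hG2.symm) U.ι (h1.trans hG1.symm)


end Groth.Agent.S2344
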