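import Groth.Statements.S9681
import Groth.Agent.BiratSpreadLib.Basic

set_option autoImplicit false
universe u
open CategoryTheory CategoryTheory.Limits AlgebraicGeometry
open Mor

namespace Groth.Agent.S9681

/-- Suppose X and Y are integral S-schemes, each locally of finite type over S, with generic points x
and y. Then X and Y are S-birational (they admit S-isomorphic nonempty opens) if and only if x and y
map to the same point s of S and the residue fields of x and y are isomorphic as extensions of the
residue field of s. -/
theorem result {S X Y : Scheme.{u}}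
    [IsIntegral X] [IsIntegral Y] (sX : X ⟶ S) (sY : Y ⟶ S)
    [LocallyOfFiniteType sX] [LocallyOfFiniteType sY] :
    Scheme.BirationalOver sX sY ↔
      ∃ (hs : sX.base (genericPoint ↥X) = sY.base (genericPoint ↥Y))
        (e : X.residueField (genericPoint ↥X) ≅ Y.residueField (genericPoint ↥Y)),
        sX.residueFieldMap (genericPoint ↥X) ≫ e.hom =
          eqToHom (congrArg S.residueField hs) ≫ sY.residueFieldMap (genericPoint ↥Y) := by
  let x := genericPoint X
  let y := genericPoint Y
  have cong : ∀ {s s' : S} (h : s = s'),
      Spec.map (eqToHom (congrArg S.residueField h)) ≫ S.fromSpecResidueField s =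
        S.fromSpecResidueField s' := fun {s s'} h => by subst h; simp
  constructor
  · rintro ⟨P, hP⟩
    have hxP : x ∈ P.source :=
      (genericPoint_specializes _).mem_open P.source.2 P.dense_source.nonempty.choose_spec
    haveI : Nonempty P.source.toScheme := ⟨⟨x, hxP⟩⟩
    haveI : IsIntegral P.source.toScheme := isIntegral_of_isOpenImmersion P.source.ι
    have main : ∀ (i : P.source.toScheme ⟶ X) (j : P.source.toScheme ⟶ Y) [IsOpenImmersion i]
        [IsOpenImmersion j], i ≫ sX = j ≫ sY → ∀ (u : P.source.toScheme) (x' : X) (y' : Y),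
        i u = x' → j u = y' →
        ∃ (hs : sX.base x' = sY.base y') (e : X.residueField x' ≅ Y.residueField y'),
          sX.residueFieldMap x' ≫ e.hom =
            eqToHom (congrArg S.residueField hs) ≫ sY.residueFieldMap y' := by
      intro i j _ _ h u x' y' hx hy
      subst hx hy
      refine ⟨congr($h u), asIso (i.residueFieldMap u) ≪≫ (asIso (j.residueFieldMap u)).symm, ?_⟩
      have h1 := Scheme.Hom.residueFieldMap_congr h u
      rw [Scheme.residueFieldMap_comp, Scheme.residueFieldMap_comp] at h1
      simp only [Iso.trans_hom, asIso_hom, Iso.symm_hom, asIso_inv]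
      rw [← Category.assoc, h1]
      exact (congrArg (· ≫ _) (Category.assoc _ _ _).symm).trans ((Category.assoc _ _ _).trans
        ((congrArg _ (IsIso.hom_inv_id _)).trans (Category.comp_id _)))
    exact main P.source.ι (P.iso.hom ≫ P.target.ι) (by rw [Category.assoc]; exact Eq.symm hP)
      (genericPoint P.source.toScheme) _ _ (genericPoint_eq_of_isOpenImmersion _)
      (genericPoint_eq_of_isOpenImmersion _)
  · rintro ⟨hs, e, he⟩
    haveI : IsIso (X.residue x) := (ConcreteCategory.isIso_iff_bijective _).2
      ⟨(X.residue x).hom.injective (R := X.functionField), IsLocalRing.residue_surjective⟩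
    haveI : IsIso (Y.residue y) := (ConcreteCategory.isIso_iff_bijective _).2
      ⟨(Y.residue y).hom.injective (R := Y.functionField), IsLocalRing.residue_surjective⟩
    haveI : X.IsGermInjectiveAt x := inferInstance
    have hX1 : ∀ z : PrimeSpectrum (X.presheaf.stalk x), z = IsLocalRing.closedPoint _ := fun z =>
      Subsingleton.elim (α := PrimeSpectrum X.functionField) _ _
    have hY1 : ∀ z : PrimeSpectrum (Y.presheaf.stalk y), z = IsLocalRing.closedPoint _ := fun z =>
      Subsingleton.elim (α := PrimeSpectrum Y.functionField) _ _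
    let φ : Y.presheaf.stalk y ⟶ X.presheaf.stalk x := Y.residue y ≫ e.inv ≫ inv (X.residue x)
    let ψ : X.presheaf.stalk x ⟶ Y.presheaf.stalk y := X.residue x ≫ e.hom ≫ inv (Y.residue y)
    refine Groth.Agent.BiratSpreadLib.birationalOver_of_stalks sX sY (Spec.map φ) (Spec.map ψ)
      ?_ ?_ ?_ ?_ ?_ ?_
    · rw [← Spec.map_comp, show ψ ≫ φ = 𝟙 _ by simp [φ, ψ], Spec.map_id]
    · rw [← Spec.map_comp, show φ ≫ ψ = 𝟙 _ by simp [φ, ψ], Spec.map_id]
    · have hrel : sY.residueFieldMap y ≫ e.inv =
          eqToHom (congrArg S.residueField hs.symm) ≫ sX.residueFieldMap x := by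
        rw [← cancel_mono e.hom, Category.assoc, Category.assoc, e.inv_hom_id, Category.comp_id, he,
          eqToHom_trans_assoc, eqToHom_refl, Category.id_comp]
      have h1 : X.fromSpecStalk x = Spec.map (inv (X.residue x)) ≫ X.fromSpecResidueField x := by
        rw [Scheme.fromSpecResidueField, ← Spec.map_comp_assoc, IsIso.hom_inv_id, Spec.map_id,
          Category.id_comp]
      simp only [φ, Spec.map_comp, Category.assoc]
      rw [← Category.assoc (Spec.map (Y.residue y)) (Y.fromSpecStalk y) sY, ← Scheme.fromSpecResidueField,
        ← Scheme.Hom.SpecMap_residueFieldMap_fromSpecResidueField, ← Spec.map_comp_assoc (sY.residueFieldMap y) e.inv, hrel,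
        Spec.map_comp, Category.assoc, cong hs.symm,
        Scheme.Hom.SpecMap_residueFieldMap_fromSpecResidueField, h1, Category.assoc]
    · have h1 : Y.fromSpecStalk y = Spec.map (inv (Y.residue y)) ≫ Y.fromSpecResidueField y := by
        rw [Scheme.fromSpecResidueField, ← Spec.map_comp_assoc, IsIso.hom_inv_id, Spec.map_id,
          Category.id_comp]
      simp only [ψ, Spec.map_comp, Category.assoc]
      rw [← Category.assoc (Spec.map (X.residue x)) (X.fromSpecStalk x) sX, ← Scheme.fromSpecResidueField,
        ← Scheme.Hom.SpecMap_residueFieldMap_fromSpecResidueField, ← Spec.map_comp_assoc (sX.residueFieldMap x) e.hom, he,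
        Spec.map_comp, Category.assoc, cong hs,
        Scheme.Hom.SpecMap_residueFieldMap_fromSpecResidueField, h1, Category.assoc]
    · rw [Scheme.Hom.comp_apply, hY1 (Spec.map φ (IsLocalRing.closedPoint _)),
        Scheme.fromSpecStalk_closedPoint]
    · rw [Scheme.Hom.comp_apply, hX1 (Spec.map ψ (IsLocalRing.closedPoint _)),
        Scheme.fromSpecStalk_closedPoint]

end Groth.Agent.S9681
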