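import Groth.Statements.S4795
import Groth.Agent.RichLib.LimitDescentProps
-- import your own Groth.Agent.* helpers here

set_option autoImplicit false
set_option backward.isDefEq.respectTransparency false
set_option linter.all false
universe u
open CategoryTheory AlgebraicGeometry
open Lim8

namespace Groth.Agent.S4795

open CategoryTheory CategoryTheory.Limits AlgebraicGeometry TopologicalSpace RichLib.LimBC

theorem lfp_of_comp_lft {A B C : Scheme.{u}} (f : A ⟶ B) (g : B ⟶ C) [LocallyOfFiniteType g]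
    [LocallyOfFinitePresentation (f ≫ g)] : LocallyOfFinitePresentation f := by
  rw [HasRingHomProperty.iff_exists_appLE (P := @LocallyOfFinitePresentation)
    ((RingHom.finitePresentation_stableUnderComposition.stableUnderCompositionWithLocalizationAway
      RingHom.finitePresentation_holdsForLocalizationAway).1)]
  intro x
  obtain ⟨W, hW, hxW, -⟩ := exists_isAffineOpen_mem_and_subset (U := ⊤) (x := g (f x)) trivial
  obtain ⟨V, hV, hxV, hVW⟩ := exists_isAffineOpen_mem_and_subset (U := g ⁻¹ᵁ W) (x := f x) hxW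
  obtain ⟨U, hU, hxU, hUV⟩ := exists_isAffineOpen_mem_and_subset (U := f ⁻¹ᵁ V) (x := x) hxV
  refine ⟨⟨V, hV⟩, ⟨U, hU⟩, hxU, hUV, ?_⟩
  have h1 := HasRingHomProperty.appLE (P := @LocallyOfFinitePresentation) (f ≫ g) ‹_› ⟨W, hW⟩ ⟨U, hU⟩
    (fun _ hy => hVW (hUV hy))
  rw [← Scheme.Hom.appLE_comp_appLE f g W V U hVW hUV, CommRingCat.hom_comp] at h1
  exact RingHom.FinitePresentation.of_comp_finiteType _ h1
    (HasRingHomProperty.appLE (P := @LocallyOfFiniteType) g ‹_› ⟨W, hW⟩ ⟨V, hV⟩ hVW)



/-- Let S = lim S_i be a cofiltered limit of schemes with affine transition maps and S_{i₀} a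
quasi-compact quasi-separated stage; let X₀ and Y₀ be schemes of finite presentation over S_{i₀},
and let X, Y be their base changes along S ⟶ S_{i₀} (base changes are expressed by pullback
squares). Then X and Y are isomorphic over S if and only if, for some index j over i₀, the base
changes X_j and Y_j of X₀ and Y₀ along S_j ⟶ S_{i₀} are isomorphic over S_j. -/
theorem result {I : Type u} [SmallCategory I] [IsCofiltered I]
    (D : I ⥤ Scheme.{u}) (c : Limits.Cone D) (hc : Limits.IsLimit c)
    [∀ (i j : I) (f : i ⟶ j), IsAffineHom (D.map f)] (i₀ : I)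
    [CompactSpace (D.obj i₀)] [QuasiSeparatedSpace (D.obj i₀)]
    {X₀ Y₀ : Scheme.{u}} (a₀ : X₀ ⟶ D.obj i₀) (b₀ : Y₀ ⟶ D.obj i₀)
    [LocallyOfFinitePresentation a₀] [QuasiCompact a₀] [QuasiSeparated a₀]
    [LocallyOfFinitePresentation b₀] [QuasiCompact b₀] [QuasiSeparated b₀]
    {X Y : Scheme.{u}} (a : X ⟶ c.pt) (b : Y ⟶ c.pt) (qX : X ⟶ X₀) (qY : Y ⟶ Y₀)
    (hX : IsPullback qX a a₀ (c.π.app i₀)) (hY : IsPullback qY b b₀ (c.π.app i₀)) :
    (∃ e : X ≅ Y, e.hom ≫ b = a) ↔
      ∃ (j : I) (φ : j ⟶ i₀) (Xj Yj : Scheme.{u}) (aj : Xj ⟶ D.obj j) (bj : Yj ⟶ D.obj j)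
        (pX : Xj ⟶ X₀) (pY : Yj ⟶ Y₀), IsPullback pX aj a₀ (D.map φ) ∧ IsPullback pY bj b₀ (D.map φ) ∧
        ∃ e : Xj ≅ Yj, e.hom ≫ bj = aj := by
  constructor
  · rintro ⟨e, he⟩
    let B := pb (ofStage D c hc i₀) a₀
    haveI : CompactSpace X₀ := QuasiCompact.compactSpace_of_compactSpace a₀
    haveI : QuasiSeparatedSpace X₀ := quasiSeparatedSpace_of_quasiSeparated a₀
    haveI := B.compactSpace_obj
    haveI := B.quasiSeparatedSpace_obj
    haveI : ∀ {i j : Over i₀} (f : i ⟶ j), IsAffineHom (B.D.map f) := fun f => B.affine_map f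
    let t : B.D ⟶ (Functor.const (Over i₀)).obj (D.obj i₀) :=
      { app := fun φ => B.t φ ≫ a₀
        naturality := fun φ ψ m => by
          show B.D.map m ≫ B.t ψ ≫ a₀ = (B.t φ ≫ a₀) ≫ 𝟙 _
          rw [B.w_assoc, Category.comp_id] }
    let α : B.c.pt ⟶ Y₀ := hX.isoPullback.inv ≫ e.hom ≫ qY
    obtain ⟨φ, g, hg, hgb⟩ := Scheme.exists_π_app_comp_eq_of_locallyOfFinitePresentation (f := b₀) B.D t B.c B.hc α (by
      ext φ
      show B.c.π.app φ ≫ B.t φ ≫ a₀ = α ≫ b₀
      rw [← Category.assoc, B.hs φ]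
      simp only [α, Category.assoc, hY.w]
      rw [← Category.assoc e.hom, he, ← hX.w, ← Category.assoc, hX.isoPullback_inv_fst]
      rfl)
    let j := φ.left
    let aj : pullback a₀ (D.map φ.hom) ⟶ D.obj j := pullback.snd _ _
    let bj : pullback b₀ (D.map φ.hom) ⟶ D.obj j := pullback.snd _ _
    let h : pullback a₀ (D.map φ.hom) ⟶ pullback b₀ (D.map φ.hom) :=
      pullback.lift g aj (hgb.trans pullback.condition)
    have hab : h ≫ bj = aj := pullback.lift_snd _ _ _
    have hcw : c.π.app j ≫ D.map φ.hom = c.π.app i₀ := c.w φ.hom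
    let qYj : Y ⟶ pullback b₀ (D.map φ.hom) :=
      pullback.lift qY (b ≫ c.π.app j) (by rw [hY.w, Category.assoc, hcw])
    let qXj : X ⟶ pullback a₀ (D.map φ.hom) :=
      pullback.lift qX (a ≫ c.π.app j) (by rw [hX.w, Category.assoc, hcw])
    have sY : IsPullback qYj b bj (c.π.app j) := IsPullback.of_right (by
      rw [pullback.lift_fst, hcw]; exact hY) (pullback.lift_snd _ _ _) (IsPullback.of_hasPullback _ _)
    have sX : IsPullback qXj a aj (c.π.app j) := IsPullback.of_right (by
      rw [pullback.lift_fst, hcw]; exact hX) (pullback.lift_snd _ _ _) (IsPullback.of_hasPullback _ _)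
    have hq : qXj = hX.isoPullback.hom ≫ B.c.π.app φ := by
      apply pullback.hom_ext
      · rw [pullback.lift_fst, Category.assoc]
        exact ((congrArg (hX.isoPullback.hom ≫ ·) (pbπ_fst (ofStage D c hc i₀) a₀ φ)).trans hX.isoPullback_hom_fst).symm
      · rw [pullback.lift_snd, Category.assoc]
        exact ((congrArg (hX.isoPullback.hom ≫ ·) (pbπ_snd (ofStage D c hc i₀) a₀ φ)).trans
          ((Category.assoc _ _ _).symm.trans (congrArg (· ≫ c.π.app j) hX.isoPullback_hom_snd))).symm
    have hcomm : qXj ≫ h = e.hom ≫ qYj := by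
      apply pullback.hom_ext
      · have : h ≫ pullback.fst b₀ (D.map φ.hom) = g := pullback.lift_fst _ _ _
        rw [Category.assoc, this, Category.assoc, pullback.lift_fst, hq, Category.assoc]
        exact (congrArg (hX.isoPullback.hom ≫ ·) hg).trans (Iso.hom_inv_id_assoc _ _)
      · rw [Category.assoc, hab, Category.assoc, pullback.lift_snd, pullback.lift_snd, ← Category.assoc, he]
    have sh : IsPullback qXj e.hom h qYj := IsPullback.of_bot (by
      rw [hab, he]; exact sX) hcomm sY
    haveI : CompactSpace (D.obj j) := QuasiCompact.compactSpace_of_compactSpace (D.map φ.hom)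
    haveI : LocallyOfFinitePresentation bj := MorphismProperty.pullback_snd _ _ inferInstance
    haveI : LocallyOfFinitePresentation aj := MorphismProperty.pullback_snd _ _ inferInstance
    haveI : QuasiCompact bj := inferInstanceAs (QuasiCompact (pullback.snd _ _))
    haveI : QuasiSeparated bj := inferInstanceAs (QuasiSeparated (pullback.snd _ _))
    haveI : QuasiCompact (h ≫ bj) := by rw [hab]; infer_instance
    haveI : QuasiSeparated (h ≫ bj) := by rw [hab]; infer_instance
    haveI : LocallyOfFinitePresentation (h ≫ bj) := by rw [hab]; infer_instance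
    haveI : LocallyOfFinitePresentation h := lfp_of_comp_lft h bj
    haveI : QuasiCompact h := QuasiCompact.of_comp h bj
    haveI : QuasiSeparated h := QuasiSeparated.of_comp h bj
    haveI : CompactSpace ↥(pullback b₀ (D.map φ.hom)) := QuasiCompact.compactSpace_of_compactSpace bj
    obtain ⟨k, ψ, Xk, Yk, fk, gk, pY, pX, tY, tX, hfk⟩ :=
      descend_of_sys (MorphismProperty.isomorphisms Scheme.{u}) D c hc j h bj e.hom b qYj qXj sY sh
        (inferInstanceAs (IsIso e.hom)) (fun C hC => exists_at_isIso C h hC)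
    haveI : IsIso fk := hfk
    have tXa : IsPullback pX (fk ≫ gk) aj (D.map ψ) := by
      rw [← hab]; exact tX.paste_vert tY
    refine ⟨k, ψ ≫ φ.hom, Xk, Yk, fk ≫ gk, gk, pX ≫ pullback.fst _ _, pY ≫ pullback.fst _ _, ?_, ?_, asIso fk, rfl⟩
    · rw [Functor.map_comp]; exact tXa.paste_horiz (IsPullback.of_hasPullback _ _)
    · rw [Functor.map_comp]; exact tY.paste_horiz (IsPullback.of_hasPullback _ _)
  · rintro ⟨j, φ, Xj, Yj, aj, bj, pX, pY, tX, tY, e, he⟩
    have sX : IsPullback (tX.lift qX (a ≫ c.π.app j) (by rw [hX.w, Category.assoc, c.w φ])) a aj (c.π.app j) :=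
      IsPullback.of_right (by rw [tX.lift_fst, c.w φ]; exact hX) (tX.lift_snd _ _ _) tX
    have sY : IsPullback (tY.lift qY (b ≫ c.π.app j) (by rw [hY.w, Category.assoc, c.w φ])) b bj (c.π.app j) :=
      IsPullback.of_right (by rw [tY.lift_fst, c.w φ]; exact hY) (tY.lift_snd _ _ _) tY
    have sX' : IsPullback ((tX.lift qX (a ≫ c.π.app j) (by rw [hX.w, Category.assoc, c.w φ])) ≫ e.hom) a bj (c.π.app j) :=
      sX.of_iso (Iso.refl _) e (Iso.refl _) (Iso.refl _) (by simp) (by simp) (by simp [he]) (by simp)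
    exact ⟨sX'.isoIsPullback _ _ sY, sX'.isoIsPullback_hom_snd _ _ sY⟩

end Groth.Agent.S4795
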