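import Groth.Statements.S1550
import Groth.Agent.HurwitzLib.Fiber
import Groth.Agent.EtSectLib.Ring
import Mathlib.RingTheory.RingHom.StandardSmooth
import Mathlib.RingTheory.Unramified.Field
import Mathlib.FieldTheory.SeparableClosure
import Mathlib.FieldTheory.IsSepClosed
import Mathlib.AlgebraicGeometry.Morphisms.UniversallyOpen
import Mathlib.AlgebraicGeometry.Morphisms.Etale

set_option autoImplicit false
universe u
open CategoryTheory CategoryTheory.Limits AlgebraicGeometry
attribute [local instance] Curv2.resAlgebra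
open Variety

namespace Groth.Agent.S1550

/-- A non-zero polynomial does not vanish at all points with separable coordinates. -/
theorem exists_separable_point {k : Type u} [Field k] {n : ℕ} (P : MvPolynomial (Fin n) k) (hP : P ≠ 0) :
    ∃ a : Fin n → SeparableClosure k, MvPolynomial.aeval a P ≠ 0 := by
  haveI : Infinite (SeparableClosure k) := EtSectLib.infinite_of_isSepClosed _
  by_contra h
  push Not at h
  apply hP
  apply MvPolynomial.map_injective (algebraMap k (SeparableClosure k)) (RingHom.injective _)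
  rw [map_zero]
  refine MvPolynomial.funext fun a => ?_
  rw [map_zero, MvPolynomial.eval_map, ← MvPolynomial.aeval_def]
  exact h a

/-- A point with finite residue field is closed. -/
theorem isClosed_of_finite {k : Type u} [Field k] {X : Scheme.{u}} [X.Over (Spec (CommRingCat.of k))]
    [LocallyOfFiniteType (X ↘ Spec (CommRingCat.of k))] (z : X)
    (h : letI := Curv2.resAlgebra k X z; Module.Finite k (X.residueField z)) : IsClosed ({z} : Set X) := by
  letI := Curv2.resAlgebra k X z
  haveI := h
  let p := X ↘ Spec (CommRingCat.of k)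
  haveI : JacobsonSpace X := LocallyOfFiniteType.jacobsonSpace p
  rw [isClosed_singleton_iff_locallyOfFiniteType]
  have hc : Spec.map (CommRingCat.ofHom (Curv2.resMap k X z)) = X.fromSpecResidueField z ≫ p := by
    have hc : CommRingCat.ofHom (Curv2.resMap k X z) =
        (Scheme.ΓSpecIso (CommRingCat.of k)).inv ≫ p.appTop ≫ X.presheaf.germ ⊤ z trivial ≫ X.residue z := rfl
    rw [hc, Spec.map_comp, Spec.map_comp, Spec.map_comp]
    show _ = (Spec.map (X.residue z) ≫ X.fromSpecStalk z) ≫ p
    simp only [Category.assoc]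
    congr 1
    rw [← Scheme.fromSpecStalk_toSpecΓ_assoc, ← Scheme.toSpecΓ_naturality_assoc]
    simp [toSpecΓ_SpecMap_ΓSpecIso_inv]
  haveI : LocallyOfFiniteType (X.fromSpecResidueField z ≫ p) := by
    rw [← hc, HasRingHomProperty.Spec_iff (P := @LocallyOfFiniteType)]
    exact (RingHom.finiteType_algebraMap (A := k) (B := X.residueField z)).mpr inferInstance
  exact locallyOfFiniteType_of_comp _ p

/-- If X is smooth over a field k, then the set of closed points of X whose residue field is finite
separable over k is dense in X. -/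
theorem result (k : Type u) [Field k] (X : Scheme.{u}) [X.Over (Spec (CommRingCat.of k))] [Smooth (X ↘ (Spec (CommRingCat.of k)))] :
    Dense {x : X | IsClosed ({x} : Set X) ∧ FiniteDimensional k (X.residueField x) ∧ Algebra.IsSeparable k (X.residueField x)} := by
  classical
  let p := X ↘ Spec (CommRingCat.of k)
  rw [dense_iff_inter_open]
  rintro W hW ⟨x, hxW⟩
  obtain ⟨U, hU, V, hV, hxV, hVU, hstd⟩ := Smooth.exists_isStandardSmooth p x
  obtain rfl : U = ⊤ := eq_top_iff.mpr fun q _ => (Subsingleton.elim (α := PrimeSpectrum k) q (p x)) ▸ hVU hxV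
  obtain ⟨n, g₀, hg₀, hget₀⟩ := hstd.exists_etale_mvPolynomial
  letI algkV : Algebra k Γ(X, V) :=
    ((p.appLE ⊤ V hVU).hom.comp (Scheme.ΓSpecIso (CommRingCat.of k)).inv.hom).toAlgebra
  let σ := (Scheme.ΓSpecIso (CommRingCat.of k)).commRingCatIsoToRingEquiv
  let g : MvPolynomial (Fin n) k →+* Γ(X, V) := g₀.comp (MvPolynomial.mapEquiv _ σ.symm).toRingHom
  have hget : g.Etale := RingHom.Etale.respectsIso.2 g₀ (MvPolynomial.mapEquiv _ σ.symm) hget₀
  let R := MvPolynomial (Fin n) k
  letI algRV : Algebra R Γ(X, V) := g.toAlgebra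
  haveI : IsScalarTower k R Γ(X, V) := IsScalarTower.of_algebraMap_eq fun c => by
    change _ = g₀ (MvPolynomial.mapEquiv _ σ.symm (MvPolynomial.C c))
    rw [MvPolynomial.mapEquiv_apply, MvPolynomial.map_C]
    exact (RingHom.congr_fun hg₀ _).symm
  haveI : Algebra.Etale R Γ(X, V) := hget
  let γ : Spec Γ(X, V) ⟶ Spec (CommRingCat.of R) := Spec.map (CommRingCat.ofHom g)
  haveI : Etale γ := by rw [HasRingHomProperty.Spec_iff (P := @Etale)]; exact hget
  let O : Set (Spec Γ(X, V)) := hV.fromSpec ⁻¹' W
  have hO : IsOpen O := hW.preimage hV.fromSpec.continuous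
  have hOne : (hV.primeIdealOf ⟨x, hxV⟩) ∈ O := by
    change hV.fromSpec (hV.primeIdealOf ⟨x, hxV⟩) ∈ W
    rw [hV.fromSpec_primeIdealOf]; exact hxW
  obtain ⟨_, ⟨_, ⟨P, rfl⟩, rfl⟩, hxP, hPO⟩ := PrimeSpectrum.isBasis_basic_opens.exists_subset_of_mem_open
    (Set.mem_image_of_mem γ hOne) (γ.isOpenMap O hO)
  have hP0 : P ≠ 0 := fun h => hxP (by rw [h]; exact Ideal.zero_mem _)
  obtain ⟨a, ha⟩ := exists_separable_point P hP0
  let φ : R →ₐ[k] SeparableClosure k := MvPolynomial.aeval a
  let q : PrimeSpectrum R := ⟨RingHom.ker φ.toRingHom, RingHom.ker_isPrime _⟩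
  obtain ⟨z', hz'O, hz'⟩ := hPO (show q ∈ PrimeSpectrum.basicOpen P from ha)
  refine ⟨hV.fromSpec z', hz'O, ?_⟩
  have hzV : hV.fromSpec z' ∈ V := by
    have h : hV.fromSpec z' ∈ Set.range hV.fromSpec := ⟨z', rfl⟩
    rwa [hV.range_fromSpec] at h
  have hpz : hV.primeIdealOf ⟨hV.fromSpec z', hzV⟩ = z' :=
    hV.fromSpec.isOpenEmbedding.injective (hV.fromSpec_primeIdealOf _)
  let K := X.residueField (hV.fromSpec z')
  letI algK : Algebra k K := Curv2.resAlgebra k X _
  let Q := (hV.primeIdealOf ⟨hV.fromSpec z', hzV⟩).asIdeal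
  letI := X.presheaf.algebra_section_stalk (⟨hV.fromSpec z', hzV⟩ : V)
  haveI := hV.isLocalization_stalk ⟨hV.fromSpec z', hzV⟩
  let S := X.presheaf.stalk (hV.fromSpec z')
  letI algBK : Algebra Γ(X, V) K := ((X.residue _).hom.comp (algebraMap Γ(X, V) S)).toAlgebra
  letI algRK : Algebra R K := ((algebraMap Γ(X, V) K).comp (algebraMap R Γ(X, V))).toAlgebra
  letI algSK : Algebra S K := (X.residue _).hom.toAlgebra
  haveI : IsScalarTower Γ(X, V) S K := IsScalarTower.of_algebraMap_eq fun _ => rfl
  haveI : IsScalarTower R Γ(X, V) K := IsScalarTower.of_algebraMap_eq fun _ => rfl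
  haveI : IsScalarTower k Γ(X, V) K := IsScalarTower.of_algebraMap_eq fun c => by
    change X.residue _ (X.presheaf.germ ⊤ _ trivial _) = X.residue _ (X.presheaf.germ V _ hzV (p.appLE ⊤ V hVU _))
    rw [Scheme.Hom.appLE, CommRingCat.comp_apply, TopCat.Presheaf.germ_res_apply]
    rfl
  haveI : IsScalarTower k R K := IsScalarTower.of_algebraMap_eq fun c => by
    rw [IsScalarTower.algebraMap_apply k Γ(X, V) K, IsScalarTower.algebraMap_apply k R Γ(X, V)]
    rfl
  haveI : Algebra.FiniteType k Γ(X, V) := Algebra.FiniteType.trans (R := k) (S := R) inferInstance inferInstance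
  haveI : Algebra.EssFiniteType Γ(X, V) S := Algebra.EssFiniteType.of_isLocalization _ Q.primeCompl
  haveI : Algebra.FiniteType S K :=
    RingHom.FiniteType.of_surjective (X.residue _).hom (X.residue_surjective _)
  haveI : Algebra.EssFiniteType Γ(X, V) K := Algebra.EssFiniteType.comp _ S _
  haveI : Algebra.EssFiniteType k K := Algebra.EssFiniteType.comp k Γ(X, V) _
  haveI : Algebra.FormallyUnramified Γ(X, V) S := Algebra.FormallyUnramified.of_isLocalization Q.primeCompl
  haveI : Algebra.FormallyUnramified S K :=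
    Algebra.FormallyUnramified.of_surjective (Algebra.ofId S K) (X.residue_surjective _)
  haveI : Algebra.FormallyUnramified Γ(X, V) K := Algebra.FormallyUnramified.comp _ S _
  haveI : Algebra.FormallyUnramified R K := Algebra.FormallyUnramified.comp R Γ(X, V) _
  have hker : RingHom.ker (algebraMap R K) = RingHom.ker φ.toRingHom := by
    ext r
    change X.residue _ (X.presheaf.germ V _ hzV (g r)) = 0 ↔ _
    erw [IsLocalRing.residue_eq_zero_iff]
    rw [← HurwitzLib.mem_prime_iff hV hzV]
    rw [hpz]
    exact SetLike.ext_iff.mp (congrArg PrimeSpectrum.asIdeal hz') r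
  -- the residue field of the image
  let k' := R ⧸ RingHom.ker φ.toRingHom
  haveI : Algebra.IsAlgebraic k (SeparableClosure k) := inferInstance
  let E : Subalgebra k (SeparableClosure k) := φ.range
  let ε : k' ≃ₐ[k] E := Ideal.quotientKerEquivRange φ
  haveI : Module.Finite k E := by
    have hfg : (Subalgebra.toSubmodule (Algebra.adjoin k (Set.range a))).FG :=
      fg_adjoin_of_finite (Set.finite_range a) fun y _ => Algebra.IsIntegral.isIntegral y
    rw [Algebra.adjoin_range_eq_range_aeval] at hfg
    exact Module.Finite.iff_fg.mpr hfg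
  haveI : IsDomain k' := Ideal.Quotient.isDomain _
  haveI : Module.Finite k k' := Module.Finite.equiv ε.symm.toLinearEquiv
  haveI : Algebra.IsIntegral k k' := Algebra.IsIntegral.of_finite k k'
  letI : Field k' := (isField_of_isIntegral_of_isField' (R := k) (S := k') (Field.toIsField k)).toField
  haveI : Algebra.IsSeparable k k' :=
    Algebra.IsSeparable.of_algHom k (SeparableClosure k) (E.val.comp ε.toAlgHom)
  let ψ : k' →+* K := Ideal.Quotient.lift _ (algebraMap R K) fun r hr => by
    rw [← hker] at hr; exact hr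
  letI : Algebra k' K := ψ.toAlgebra
  haveI : IsScalarTower R k' K := IsScalarTower.of_algebraMap_eq fun _ => rfl
  haveI : IsScalarTower k k' K := IsScalarTower.of_algebraMap_eq fun c => by
    change _ = ψ (Ideal.Quotient.mk _ (algebraMap k R c))
    rw [IsScalarTower.algebraMap_apply k R K]
    rfl
  haveI : Algebra.EssFiniteType k' K := Algebra.EssFiniteType.of_comp k _ _
  haveI : Algebra.FormallyUnramified k' K := Algebra.FormallyUnramified.of_restrictScalars R _ _
  haveI : Algebra.IsSeparable k' K := (Algebra.FormallyUnramified.iff_isSeparable _ _).mp inferInstance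
  haveI : Module.Finite k' K := Algebra.FormallyUnramified.finite_of_free k' K
  haveI : Module.Finite k K := Module.Finite.trans k' K
  haveI hsep : Algebra.IsSeparable k K := Algebra.IsSeparable.trans k k' K
  exact ⟨isClosed_of_finite (k := k) _ (inferInstance : Module.Finite k K), (inferInstance : Module.Finite k K), hsep⟩

end Groth.Agent.S1550
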