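import Groth.Statements.S1639
import Groth.Agent.NormDescLib.IntegralNormal
import Groth.Agent.NormDescLib.NormBundle
import Groth.Agent.AmpleDevLib.Components

set_option autoImplicit false
universe u
open CategoryTheory CategoryTheory.Limits AlgebraicGeometry
open Divisors

namespace Groth.Agent.S1639

/-- Let π : X → Y be finite and surjective, with Y integral and normal. If X has an ample invertible
module then so does Y. -/
theorem result {X Y : Scheme.{u}} (π : X ⟶ Y) [IsFinite π] [Surjective π]
    [IsIntegral Y] (hY : Pi1.IsNormalScheme Y) (L : X.Modules) (hL : CohB1.IsAmple L) :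
    ∃ M : Y.Modules, CohB1.IsAmple M := by
  obtain ⟨x, hx⟩ := π.surjective (genericPoint Y)
  let Z : TopologicalSpace.Closeds X := ⟨closure {x}, isClosed_closure⟩
  have hZ : IsIrreducible (Z : Set X) := isIrreducible_singleton.closure
  let I := Scheme.IdealSheafData.vanishingIdeal Z
  haveI : IsIntegral I.subscheme := AmpleDevLib.isIntegral_vanishingIdeal Z hZ
  haveI : IsFinite (I.subschemeι ≫ π) := inferInstance
  haveI : Surjective (I.subschemeι ≫ π) := by
    refine ⟨Set.range_eq_univ.mp ?_⟩
    have hcl : IsClosed (Set.range (I.subschemeι ≫ π)) := (I.subschemeι ≫ π).isClosedMap.isClosed_range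
    have hmem : genericPoint Y ∈ Set.range (I.subschemeι ≫ π) := by
      have hxr : x ∈ Set.range I.subschemeι := by
        rw [Scheme.IdealSheafData.range_subschemeι, Scheme.IdealSheafData.coe_support_vanishingIdeal]
        exact subset_closure rfl
      obtain ⟨z, hz⟩ := hxr
      exact ⟨z, by rw [Scheme.Hom.comp_apply, hz, hx]⟩
    exact Set.eq_univ_of_univ_subset ((genericPoint_spec Y) ▸
      hcl.closure_subset_iff.2 (Set.singleton_subset_iff.2 hmem))
  obtain ⟨d, ⟨N⟩⟩ := NormDescLib.exists_norm_of_normal (I.subschemeι ≫ π) hY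
  exact NormDescLib.exists_isAmple N (AmpleDevLib.isAmple_pb I.subschemeι hL.1 hL)

end Groth.Agent.S1639
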