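import Groth.Statements.S4654
import Mathlib
import Groth.Agent.FlatCxLib.Kernel
import Groth.Agent.DetRootLib.Filt
-- import your own Groth.Agent.* helpers here

set_option autoImplicit false
open CategoryTheory AlgebraicGeometry
universe u
open FDesc

namespace Groth.Agent.S4654

/-- Let f : X → Y be a morphism of schemes and 0 → F' → F → F'' → 0 a short exact sequence of
quasi-coherent O_X-modules such that F'' is flat over Y. Then F is flat over Y if and only if F' is
flat over Y. -/
theorem result {X Y : Scheme.{u}} (f : X ⟶ Y) (S : ShortComplex X.Modules)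
    (hS : S.ShortExact) (h₁ : Coh.IsQCoh S.X₁) (h₂ : Coh.IsQCoh S.X₂) (h₃ : Coh.IsQCoh S.X₃)
    (hflat : FlatMod.IsFlatOver f S.X₃) :
    FlatMod.IsFlatOver f S.X₂ ↔ FlatMod.IsFlatOver f S.X₁ := by
  refine forall_congr' fun x => ?_
  letI := FlatMod.moduleStalkOver f S.X₁ x
  letI := FlatMod.moduleStalkOver f S.X₂ x
  letI := FlatMod.moduleStalkOver f S.X₃ x
  haveI : Module.Flat (Y.presheaf.stalk (f.base x)) (S.X₃.presheaf.stalk x) := hflat x
  let F := DerSch.stalkFunctor X x
  let i : S.X₁.presheaf.stalk x →ₗ[Y.presheaf.stalk (f.base x)] S.X₂.presheaf.stalk x :=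
    { toFun := fun m => (F.map S.f).hom m
      map_add' := fun a b => map_add (F.map S.f).hom a b
      map_smul' := fun r m => (F.map S.f).hom.map_smul ((f.stalkMap x).hom r) m }
  let π : S.X₂.presheaf.stalk x →ₗ[Y.presheaf.stalk (f.base x)] S.X₃.presheaf.stalk x :=
    { toFun := fun m => (F.map S.g).hom m
      map_add' := fun a b => map_add (F.map S.g).hom a b
      map_smul' := fun r m => (F.map S.g).hom.map_smul ((f.stalkMap x).hom r) m }
  have hse := hS.map_of_exact F
  have hi : Function.Injective i := (ModuleCat.mono_iff_injective _).1 hse.mono_f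
  have hπ : Function.Surjective π := (ModuleCat.epi_iff_surjective _).1 hse.epi_g
  have hex : Function.Exact i π := (ShortComplex.ShortExact.moduleCat_exact_iff_function_exact _).1 hse.exact
  constructor
  · intro h
    haveI : Module.Flat (Y.presheaf.stalk (f.base x)) (S.X₂.presheaf.stalk x) := h
    exact FlatCxLib.flat_left_of_flat i π hi hex hπ
  · intro h
    haveI : Module.Flat (Y.presheaf.stalk (f.base x)) (S.X₁.presheaf.stalk x) := h
    exact FlatCxLib.flat_middle_of_flat i π hi hex hπ

end Groth.Agent.S4654
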