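import Groth.Statements.S0031
import Groth.Agent.QCohLib.BoundUniform

set_option autoImplicit false
universe u
open Coherent

namespace Groth.Agent.S0031

open AlgebraicGeometry CategoryTheory in
/-- If f : X → S is quasi-compact and quasi-separated and S is quasi-compact, there is an integer n with
R^p f_* F = 0 for all p ≥ n and all quasi-coherent F (higher direct images of the underlying abelian
sheaves). -/
theorem result {X S : Scheme.{u}} (f : X ⟶ S) [QuasiCompact f]
    [QuasiSeparated f] [CompactSpace S] :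
    ∃ n : ℕ, ∀ (M : X.Modules), Coh.IsQCoh M → ∀ p : ℕ, n ≤ p →
      Limits.IsZero ((Coh.RpushAb f p).obj (Coh.toAb M)) := by
  classical
  obtain ⟨t, ht⟩ : ∃ t : Finset S.affineOpens, (Set.univ : Set S) ⊆ ⋃ V ∈ t, (V.1 : Set S) :=
    isCompact_univ.elim_finite_subcover (fun V : S.affineOpens => (V.1 : Set S))
      (fun V => V.1.isOpen) (fun p _ => by
        obtain ⟨V, hV, hp, -⟩ := TopologicalSpace.Opens.isBasis_iff_nbhd.mp S.isBasis_affineOpens
          (U := ⊤) (x := p) trivial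
        exact Set.mem_iUnion.mpr ⟨⟨V, hV⟩, hp⟩)
  have hb : ∀ V : S.affineOpens, QCohLib.UBounded (f ⁻¹ᵁ V.1) (f ⁻¹ᵁ V.1) := fun V =>
    QCohLib.uBounded_of_isCompact _ (f.isQuasiSeparated_preimage V.2.isQuasiSeparated) _
      (QuasiCompact.isCompact_preimage (f := f) V.1 V.1.isOpen V.2.isCompact) le_rfl
  choose d hd using hb
  let B : Set (TopologicalSpace.Opens S.toTopCat) := {W | ∃ V ∈ t, ∃ g : Γ(S, V.1), W = S.basicOpen g}
  have hB : TopologicalSpace.Opens.IsBasis B := by
    rw [TopologicalSpace.Opens.isBasis_iff_nbhd]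
    intro O p hp
    obtain ⟨V, hV, hpV⟩ := Set.mem_iUnion₂.mp (ht (Set.mem_univ p))
    obtain ⟨g, hg, hpg⟩ := V.2.exists_basicOpen_le (V := O) ⟨p, hp⟩ hpV
    exact ⟨S.basicOpen g, ⟨V, hV, g, rfl⟩, hpg, hg⟩
  refine ⟨t.sup d + 1, fun M hM p hp => ?_⟩
  refine QCohLib.isZero_rightDerived (f := f.base) hB (d := t.sup d) ?_ (by omega)
  rintro W ⟨V, hV, g, rfl⟩ n hn
  have h := hd V (f.app V.1 g) M hM (n + 1)
    (by have := Finset.le_sup (f := d) hV; omega)
  rwa [← Scheme.preimage_basicOpen,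
    inf_eq_right.mpr (f.preimage_mono (S.basicOpen_le g))] at h

end Groth.Agent.S0031
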