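import Groth.Statements.S4278
import Groth.Agent.AlgEquivLib.Euler
import Groth.Agent.CubeConsLib.Transpose
import Groth.Agent.S4276
set_option backward.isDefEq.respectTransparency false
set_option linter.style.haveILetI false

set_option autoImplicit false
universe u
open CategoryTheory CategoryTheory.Limits AlgebraicGeometry
open Pic13

namespace Groth.Agent.S4278

/-- Let k be an algebraically closed field, X a proper k-scheme and L an invertible O_X-module which is
τ-equivalent to zero. Then L is numerically equivalent to zero: its restriction to every integral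
closed curve Y ⊆ X has degree χ(L|_Y) - χ(O_Y) = 0. -/
theorem result (k : Type u) [Field k] [IsAlgClosed k] (X : Scheme.{u}) [X.Over (Spec (CommRingCat.of k))]
    [IsProper (X ↘ Spec (CommRingCat.of k))]
    (L : X.Modules) (hL : PicF.IsInvertible L) (hτ : Pic13.IsTauEquivZero k X L) : Pic13.IsNumEquivZero k X L := by
  intro Y i _ hY hdim
  letI : Y.Over (Spec (CommRingCat.of k)) := ⟨i ≫ (X ↘ Spec (CommRingCat.of k))⟩
  haveI : IsProper (Y ↘ Spec (CommRingCat.of k)) := inferInstanceAs (IsProper (i ≫ (X ↘ Spec (CommRingCat.of k))))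
  obtain ⟨n, hn, hn'⟩ := hτ
  have hτY : Pic13.IsTauEquivZero k Y ((Scheme.Modules.pullback i).obj L) :=
    ⟨n, hn, CubeConsLib.isAlgEquivZero_iso (AmpleDevLib.exists_pullPowIso i hL n).choose
      (CubeConsLib.isAlgEquivZero_pullback (X ↘ Spec (CommRingCat.of k)) (i ≫ (X ↘ Spec (CommRingCat.of k))) i rfl hn')⟩
  have h := Groth.Agent.S4276.result k Y 1 hdim.le _ (AmpleDevLib.isInvertible_pb i hL) hτY (Coh.structureModule Y)
    (CurvLib.isCoh_of_isInvertible (CubeConsLib.isInvertible_one Y))
  show FGA.eulerCharLE k Y ((Scheme.Modules.pullback i).obj L) 1 - FGA.eulerCharLE k Y (Coh.structureModule Y) 1 = 0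
  rw [HilbPolyLib.eulerCharLE_eq hdim.le, ← CurvLib.euler_congr (HilbPolyLib.unitLeft _),
    ← HilbPolyLib.eulerCharLE_eq hdim.le, h, sub_self]

end Groth.Agent.S4278
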