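import Groth.Statements.S4285
import Mathlib
import Groth.Agent.QuotSchLib.RegBounded
import Groth.Agent.QuotSchLib.Src
-- import your own Groth.Agent.* helpers here

set_option autoImplicit false
universe u
open CategoryTheory CategoryTheory.Limits AlgebraicGeometry
open Pic13

namespace Groth.Agent.S4285

/-- (iii) implies (i), over the base S = Spec k with k algebraically closed: let X ⊆ P^n_k be a closed
subscheme, m an integer and φ a polynomial. The family of coherent O_X-modules F which are m-regular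
(H^q(X, F(m - q)) = 0 for q ≥ 1) and have Hilbert polynomial φ (χ(F(d)) = φ(d) for all integers d)
is bounded. (The source allows a finite set of Hilbert polynomials and a projective X over a
Noetherian base with O_X(1) generated by global sections on the fibres.) -/
theorem result (k : Type u) [Field k] [IsAlgClosed k] (n : ℕ) (X : Scheme.{u}) [X.Over (Spec (CommRingCat.of k))]
    (i : X ⟶ CohB1.ProjSpace n k) [IsClosedImmersion i] (hi : i ≫ CohB1.ProjSpace.toSpec n k = X ↘ Spec (CommRingCat.of k))
    (m : ℤ) (φ : Polynomial ℚ) :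
    Pic13.IsBounded k X (fun F : X.Modules => Coh.IsCoh F ∧ Pic13.IsMRegular k i F m ∧
      ∀ d : ℤ, (FGA.eulerCharLE k X (Pic13.twistOn k i F d) n : ℚ) = φ.eval (d : ℚ)) := by
  let P := CohB1.ProjSpace n k
  let O' := Twist.twistProjSpace n k
  let G := Scheme.Modules.pushforward i
  haveI := MumfordLib.isProper_projSpace (n := n) k
  obtain ⟨E, hE, hEq⟩ := QuotSchLib.exists_quot_of_regular k n m φ
  obtain ⟨T, q, hT, hq, F, hF, hcl⟩ := QuotSchLib.isBounded_quotients k n E hE {φ}
  let pX : Pic13.prodK k X q ⟶ Pic13.prodK k P q :=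
    pullback.map _ _ _ _ i (𝟙 T) (𝟙 _) ((Category.comp_id _).trans hi.symm) (by rw [Category.id_comp, Category.comp_id])
  refine ⟨T, q, hT, hq, KFlatLib.pb pX F, ConsLib.isCoh_pullback _ hF, fun L hL => ?_⟩
  obtain ⟨hLc, hreg, hchi⟩ := hL
  haveI := hLc.1
  have hM : Coh.IsCoh (G.obj L) := by
    haveI : IsLocallyNoetherian P := (CurvLib.isNoetherian k (X := P)).toIsLocallyNoetherian
    exact QCohLib.isCoh_push_finite i L hLc
  have hiso : ∀ d : ℤ, Nonempty (CohB1.tensorMod (G.obj L) (O' d) ≅ G.obj (Pic13.twistOn k i L d)) := fun d => by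
    have hLf : FlatMod.IsFinLocFree (O' d) :=
      CurveVBLib.isFinLocFree_of_rank (CurvLib.locFree_of_isInvertible (PicPnLib.twist_inv n k d))
    exact ⟨HilbPolyLib.swapIso _ _ ≪≫ @asIso _ _ _ _ (ProjFormLib.projApp i (O' d) L) (ProjFormLib.isIso_projApp i hLf L) ≪≫
      G.mapIso (HilbPolyLib.swapIso _ _)⟩
  have hq' : ∀ d : ℤ, Coh.IsQCoh (Pic13.twistOn k i L d) := fun d =>
    MiscFlat6.isQCoh_tensor (AmpleDevLib.isInvertible_pb i (PicPnLib.twist_inv n k d))
  have hMreg : Curv2.IsMRegular k n (G.obj L) m := fun j hj _ => by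
    haveI := hq' (m - j)
    obtain ⟨e⟩ := hiso (m - j)
    obtain ⟨E'⟩ := QCohLib.nonempty_HH_push i (Pic13.twistOn k i L (m - j)) j
    refine SerreVanLib.subsingleton_HH_of_iso e j ?_
    haveI := hreg j hj
    first
    | exact E'.toEquiv.subsingleton
    | exact E'.symm.toEquiv.subsingleton
  have hMchi : ∀ t : ℤ, (MumfordLib.chi k (G.obj L) t : ℚ) = φ.eval (t : ℚ) := fun t => by
    haveI := hq' t
    rw [← hchi t]
    congr 1
    unfold MumfordLib.chi FGA.eulerCharLE
    refine Finset.sum_congr rfl fun j _ => ?_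
    rw [(CurvLib.hIso (k := k) (hiso t).some j).finrank_eq,
      (PushLinLib.euler_push k i hi (Pic13.twistOn k i L t)).1 j]
  obtain ⟨t, ht, ⟨e⟩⟩ := hcl (G.obj L) ⟨hM, hEq _ hM hMreg hMchi, φ, Finset.mem_singleton_self φ, hMchi⟩
  refine ⟨t, ht, ?_⟩
  have hs : Pic13.sliceAt k X q t ht ≫ pX = i ≫ Pic13.sliceAt k P q t ht := by
    apply pullback.hom_ext
    · simp only [Category.assoc, pX, Pic13.sliceAt, pullback.map, pullback.lift_fst]
      rw [pullback.lift_fst_assoc, Category.id_comp]
      exact (Category.comp_id i).symm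
    · simp only [Category.assoc, pX, Pic13.sliceAt, pullback.map, pullback.lift_snd]
      rw [pullback.lift_snd_assoc, Category.assoc, Category.comp_id]
      exact (congrArg (· ≫ t) hi).symm.trans (Category.assoc _ _ _)
  haveI : IsIso ((Scheme.Modules.pullbackPushforwardAdjunction i).counit.app L) := CycKSuppLib.isIso_counit i L
  exact ⟨(Scheme.Modules.pullbackComp _ pX).app F ≪≫ (Scheme.Modules.pullbackCongr hs).app F ≪≫
    ((Scheme.Modules.pullbackComp i (Pic13.sliceAt k P q t ht)).app F).symm ≪≫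
      (Scheme.Modules.pullback i).mapIso e ≪≫ asIso ((Scheme.Modules.pullbackPushforwardAdjunction i).counit.app L)⟩

end Groth.Agent.S4285
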