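import Groth.Statements.S12141
import Groth.Agent.RelConeLib.QMap
import Groth.Agent.MiscFlat6.RelProjBC
-- import your own Groth.Agent.* helpers here

set_option autoImplicit false
universe u
open CategoryTheory CategoryTheory.Limits AlgebraicGeometry TopologicalSpace Opposite
open scoped HomogeneousIdeal
noncomputable section
open EGA2

namespace Groth.Agent.S12141

/-- Let ψ : Y' → Y be a morphism of schemes, 𝒮 a quasi-coherent positively graded O_Y-algebra and 𝒮' =
ψ^*𝒮, presented as a quasi-coherent graded O_{Y'}-algebra with a graded ψ-morphism u : 𝒮 → ψ_*𝒮'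
whose squares over affine opens U' ⊆ ψ⁻¹(U) are pushouts of rings; let P = Proj(𝒮), P' = Proj(𝒮')
with their charts. Then the morphism Proj(u) : P' → P is everywhere defined (its open of definition
G(u) is P' and it exists, pinned on the standard affine charts), and any such morphism identifies P'
with the fibre product P ×_Y Y'. -/
theorem result {Y Y' P P' : Scheme.{u}} (ψ : Y' ⟶ Y)
    (𝒮 : RelProj.QCGrAlg Y) (𝒮' : RelProj.QCGrAlg Y') (u : RelProj.QGrHom ψ 𝒮 𝒮')
    (hu : RelSpec.IsQBaseChange u.toQHom)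
    (p : P ⟶ Y) (chart : ∀ (U : Y.Opens) (hU : IsAffineOpen U), (((p ⁻¹ᵁ U : P.Opens) : Scheme.{u}) ≅ Proj (𝒮.deg U hU)))
    (hP : RelProj.IsRelProj 𝒮 p chart)
    (p' : P' ⟶ Y') (chart' : ∀ (U : Y'.Opens) (hU : IsAffineOpen U), (((p' ⁻¹ᵁ U : P'.Opens) : Scheme.{u}) ≅ Proj (𝒮'.deg U hU)))
    (hP' : RelProj.IsRelProj 𝒮' p' chart') :
    (∃ h : P' ⟶ P, RelProj.IsProjQMap u p chart p' chart' h) ∧
      ∀ h : P' ⟶ P, RelProj.IsProjQMap u p chart p' chart' h → IsPullback h p' p ψ := by

  classical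
  have hirr : ∀ (U : Y.Opens) (hU : IsAffineOpen U) (U' : Y'.Opens) (hU' : IsAffineOpen U') (hle : U' ≤ ψ ⁻¹ᵁ U),
      (𝒮'.deg U' hU')₊ ≤ ((𝒮.deg U hU)₊).map (u.gradedAt U hU U' hU' hle) := by
    intro U hU U' hU' hle
    have h := hu U hU U' hU' hle
    let φ := u.gradedAt U hU U' hU' hle
    let I : Ideal (𝒮'.presheaf.obj (op U')) := Ideal.map φ (HomogeneousIdeal.irrelevant (𝒮.deg U hU)).toIdeal
    let q₁ : 𝒮'.presheaf.obj (op U') ⟶ CommRingCat.of (𝒮'.presheaf.obj (op U') ⧸ I) :=
      CommRingCat.ofHom (Ideal.Quotient.mk I)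
    let q₂ : 𝒮'.presheaf.obj (op U') ⟶ CommRingCat.of (𝒮'.presheaf.obj (op U') ⧸ I) :=
      CommRingCat.ofHom ((Ideal.Quotient.mk I).comp (GradedRing.projZeroRingHom (𝒮'.deg U' hU')))
    have hq : q₁ = q₂ := by
      refine h.hom_ext ?_ ?_
      · refine CommRingCat.hom_ext (RingHom.ext fun s => congrArg (Ideal.Quotient.mk I) ?_)
        exact (DirectSum.decompose_of_mem_same (𝒮'.deg U' hU') (𝒮'.str_mem U' hU' s)).symm
      · refine CommRingCat.hom_ext (RingHom.ext fun a => ?_)
        show Ideal.Quotient.mk I (φ a) =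
          Ideal.Quotient.mk I (GradedRing.projZeroRingHom (𝒮'.deg U' hU') (φ a))
        rw [Ideal.Quotient.eq]
        show φ a - (DirectSum.decompose (𝒮'.deg U' hU') (φ a) 0 : 𝒮'.presheaf.obj (op U')) ∈ I
        rw [← GradedRingHom.map_directSumDecompose, ← map_sub]
        refine Ideal.mem_map_of_mem φ ?_
        show (DirectSum.decompose (𝒮.deg U hU) (a - DirectSum.decompose (𝒮.deg U hU) a 0) 0 :
          𝒮.presheaf.obj (op U)) = 0
        rw [DirectSum.decompose_sub, DirectSum.sub_apply, AddSubgroupClass.coe_sub,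
          DirectSum.decompose_of_mem_same _ (SetLike.coe_mem (DirectSum.decompose (𝒮.deg U hU) a 0)), sub_self]
    refine (HomogeneousIdeal.irrelevant_le _).mpr fun n hn b hb => ?_
    have h2 : Ideal.Quotient.mk I b =
        Ideal.Quotient.mk I (DirectSum.decompose (𝒮'.deg U' hU') b 0 : 𝒮'.presheaf.obj (op U')) :=
      congrArg (fun f => f.hom b) hq
    rw [DirectSum.decompose_of_mem_ne (𝒮'.deg U' hU') hb hn.ne', map_zero, Ideal.Quotient.eq_zero_iff_mem] at h2
    exact h2
  have htop : RelProj.domQ u p' chart' = ⊤ := by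
    refine top_le_iff.mp fun x _ => ?_
    obtain ⟨j, hj⟩ := RelConeLib.exists_pair (g := ψ) (p' x)
    obtain ⟨v, rfl⟩ := RelConeLib.exists_emb_eq (chart := chart') j.hU' x hj
    show v ∈ RelProj.emb p' chart' j.U' j.hU' ⁻¹ᵁ RelProj.domQ u p' chart'
    rw [RelConeLib.emb_preimage_domQ u hP', RelCone.mem_domOpen]
    by_contra hc
    push Not at hc
    refine v.not_irrelevant_le (le_trans (hirr j.U j.hU j.U' j.hU' j.le) ?_)
    show Ideal.map (u.gradedAt j.U j.hU j.U' j.hU' j.le) _ ≤ v.asHomogeneousIdeal.toIdeal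
    rw [Ideal.map_le_iff_le_comap]
    exact hc
  obtain ⟨v, hv, -⟩ := RelConeLib.existsUnique_isProjQMapOn u hP hP'
  let k : P' ⟶ (RelProj.domQ u p' chart' : Scheme.{u}) := IsOpenImmersion.lift (RelProj.domQ u p' chart').ι (𝟙 P') (by
    rw [Scheme.Opens.range_ι, htop]
    exact fun x _ => trivial)
  refine ⟨⟨k ≫ v, htop, fun U hU U' hU' hle d hd f hf => ?_⟩, fun h hh => ?_⟩
  · have hW : Set.range (RelProj.awayEmb u p' chart' U hU U' hU' hle hd f hf).base ⊆
        Set.range (RelProj.domQ u p' chart').ι.base := by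
      rw [Scheme.Opens.range_ι, htop]
      exact fun x _ => trivial
    rw [← hv U hU U' hU' hle d hd f hf hW, ← Category.assoc]
    congr 1
    rw [← cancel_mono (RelProj.domQ u p' chart').ι, Category.assoc, IsOpenImmersion.lift_fac,
      IsOpenImmersion.lift_fac, Category.comp_id]
  · let w : 𝒮.presheaf ⟶ ψ.base _* 𝒮'.presheaf :=
      { app := fun U => u.app U.unop
        naturality := fun U V i => (u.naturality i.unop.le).symm }
    refine MiscFlat6.isPullback_relProj ψ 𝒮' w (fun U hU U' hU' hle => u.gradedAt U hU U' hU' hle)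
      (fun U hU U' hU' hle => rfl) hu hirr hP p' chart' hP' h fun U hU U' hU' hle => ?_
    have hemb : RelProj.emb p' chart' U' hU' ≫ h =
        Proj.map (u.gradedAt U hU U' hU' hle) (hirr U hU U' hU' hle) ≫ RelProj.emb p chart U hU := by
      refine (Proj.mapAffineOpenCover (u.gradedAt U hU U' hU' hle) (hirr U hU U' hU' hle)).openCover.hom_ext _ _ fun s => ?_
      simp only [Scheme.AffineOpenCover.openCover_f, Proj.mapAffineOpenCover_f]
      refine Eq.trans ?_ (Proj.awayι_comp_map_assoc (u.gradedAt U hU U' hU' hle) (hirr U hU U' hU' hle)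
        s.1.2 _ s.2.2 _).symm
      refine Eq.trans (Category.assoc _ _ _).symm ?_
      exact hh.2 U hU U' hU' hle _ s.1.2 _ s.2.2
    rw [← hemb, RelProj.emb, Category.assoc, Iso.hom_inv_id_assoc]


end Groth.Agent.S12141
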