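import Groth.Statements.S12143
import Mathlib
import Groth.Agent.CycPBLib.Alg
import Groth.Agent.SymAlgLib.Pts
import Groth.Agent.SymGenLib.Basic
import Groth.Agent.FittLib.Generated
-- import your own Groth.Agent.* helpers here

set_option autoImplicit false
universe u
open CategoryTheory CategoryTheory.Limits AlgebraicGeometry TopologicalSpace Opposite
open scoped HomogeneousIdeal
noncomputable section
open EGA2

namespace Groth.Agent.S12143

/-- Let L be an invertible O_X-module and 𝒮L = ⊕_{n ≥ 0} L^{⊗n} its graded symmetric algebra; then the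
structure morphism Proj(𝒮L) → X of the relative homogeneous spectrum is an isomorphism (the graded
algebra O_X[T] twisted by L has the same Proj as O_X[T], which is X). -/
theorem result {X PL : Scheme.{u}} (L : X.Modules)
    (hL : PicF.IsInvertible L) (hLq : Coh.IsQCoh L)
    (𝒮L : RelProj.QCGrAlg X) (j : L ⟶ 𝒮L.toModule) (hj : RelProj.IsGrSymAlg L 𝒮L j)
    (pL : PL ⟶ X) (chartL : ∀ (U : X.Opens) (hU : IsAffineOpen U), (((pL ⁻¹ᵁ U : PL.Opens) : Scheme.{u}) ≅ Proj (𝒮L.deg U hU)))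
    (hPL : RelProj.IsRelProj 𝒮L pL chartL) :
    IsIso pL := by
  haveI := hLq
  refine IsZariskiLocalAtTarget.of_forall_exists_morphismRestrict (P := MorphismProperty.isomorphisms Scheme) fun η => ?_
  obtain ⟨U₀, hη₀, ⟨φ₀⟩⟩ := hL η
  obtain ⟨U, hU, hη, hle⟩ := exists_isAffineOpen_mem_and_subset (X := X) (x := η) (U := U₀) hη₀
  obtain ⟨b⟩ := FittLib.nonempty_basis_of_iso L (r := 1) (φ₀ ≪≫
    ({ hom := Sigma.ι (fun _ : Fin 1 => Coh.structureModule (U₀ : Scheme.{u})) 0
       inv := Sigma.desc fun _ => 𝟙 _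
       hom_inv_id := Sigma.ι_desc _ _
       inv_hom_id := Sigma.hom_ext _ _ fun i => by fin_cases i; simp } : _ ≅ FlatMod.freeMod (↑U₀) 1)) (V := U) hle
  refine ⟨U, hη, ?_⟩
  let R : Type u := Γ(X, U)
  let 𝒜 := 𝒮L.deg U hU
  let str : R →+* 𝒮L.presheaf.obj (op U) := (𝒮L.str.app (op U)).hom
  let ρ : R →+* 𝒜 0 := (𝒮L.strZero U hU).hom
  let x : Fin 1 → 𝒮L.presheaf.obj (op U) := fun k => j.app U (b k)
  have hx : ∀ k, x k ∈ 𝒜 1 := fun k => hj.2 U hU _
  have hgen : Function.Surjective (MvPolynomial.eval₂Hom ((algebraMap (𝒜 0) (𝒮L.presheaf.obj (op U))).comp ρ) x) := by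
    rw [← RingHom.range_eq_top]
    refine eq_top_iff.2 ((SymGenLib.gen_eq_top 𝒮L.toQCAlg j hj.1 U hU).ge.trans ?_)
    refine Subring.closure_le.2 ?_
    rintro _ (⟨r, rfl⟩ | ⟨e, rfl⟩)
    · exact ⟨MvPolynomial.C r, MvPolynomial.eval₂Hom_C _ _ r⟩
    · refine ⟨MvPolynomial.C (b.repr e 0) * MvPolynomial.X 0, ?_⟩
      rw [map_mul, MvPolynomial.eval₂Hom_C, MvPolynomial.eval₂Hom_X']
      conv_rhs => rw [← b.sum_repr e, Fin.sum_univ_one]
      exact ((Scheme.Modules.Hom.app_smul j _ _).trans (RelSpec.QCAlg.str_smul_def _ _ _ _)).symm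
  obtain ⟨Φ, ⟨hΦρ, hΦm⟩, -⟩ := SymAlgLib.existsUnique_hom hj.1 hU
    (R := MvPolynomial (ULift.{u} (Fin 0)) R) MvPolynomial.C
    (AddMonoidHom.mk' (fun m => MvPolynomial.C (b.repr m 0)) fun m m' => by simp)
    (fun a m => by simp)
  have hbij := CycPBLib.toAway_bijective 𝒜 ρ x hx hgen 0 Φ hΦρ fun k => by
    haveI : Subsingleton (Fin (0 + 1)) := inferInstanceAs (Subsingleton (Fin 1))
    rw [Subsingleton.elim k 0, Fin.insertNth_apply_same]
    exact (hΦm _).trans (by simp [Finsupp.single_eq_same])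
  have hC : Function.Bijective (MvPolynomial.C : R →+* MvPolynomial (ULift.{u} (Fin 0)) R) :=
    ⟨MvPolynomial.C_injective _ _, MvPolynomial.C_surjective _⟩
  have hbase : Function.Bijective (CycPBLib.base 𝒜 ρ x 0) := by
    have e : (CycPBLib.base 𝒜 ρ x 0 : R → HomogeneousLocalization.Away 𝒜 (x 0)) = CycPBLib.toAway 𝒜 ρ x hx 0 ∘ MvPolynomial.C :=
      funext fun r => (MvPolynomial.eval₂Hom_C _ _ r).symm
    rw [e]
    exact hbij.comp hC
  have hirr : ⨆ i, Proj.basicOpen 𝒜 (x i) = ⊤ := by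
    refine Proj.iSup_basicOpen_eq_top' 𝒜 x (fun i => ⟨1, hx i⟩) ?_
    rw [eq_top_iff]
    intro y hy
    clear hy
    obtain ⟨p, rfl⟩ := hgen y
    induction p using MvPolynomial.induction_on with
    | C r => rw [MvPolynomial.eval₂Hom_C]; exact Subalgebra.algebraMap_mem _ _
    | add p q hp hq => rw [map_add]; exact Subalgebra.add_mem _ hp hq
    | mul_X p i hp => rw [map_mul, MvPolynomial.eval₂Hom_X']; exact Subalgebra.mul_mem _ hp (Algebra.subset_adjoin ⟨i, rfl⟩)
  let aw := Proj.awayι 𝒜 (x 0) (hx 0) one_pos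
  haveI : IsIso aw := by
    have hsurj : Function.Surjective aw := fun y => by
      have : y ∈ aw.opensRange := by
        rw [Proj.opensRange_awayι]
        obtain ⟨i, hi⟩ := Opens.mem_iSup.1 (hirr.ge (Set.mem_univ y))
        rwa [Subsingleton.elim i 0] at hi
      exact this
    haveI : Epi aw.base := (TopCat.epi_iff_surjective _).2 hsurj
    exact IsOpenImmersion.isIso aw
  let τ := Proj.toSpecZero 𝒜 ≫ Spec.map (𝒮L.strZero U hU)
  haveI : IsIso τ := by
    haveI : IsIso (aw ≫ τ) := by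
      show IsIso (aw ≫ Proj.toSpecZero 𝒜 ≫ Spec.map (𝒮L.strZero U hU))
      rw [Proj.awayι_toSpecZero_assoc, ← Spec.map_comp]
      haveI : IsIso (CommRingCat.ofHom (CycPBLib.base 𝒜 ρ x 0)) :=
        (ConcreteCategory.isIso_iff_bijective _).2 hbase
      exact inferInstanceAs (IsIso (Spec.map (CommRingCat.ofHom (CycPBLib.base 𝒜 ρ x 0))))
    exact IsIso.of_isIso_comp_left aw τ
  have e : pL ∣_ U ≫ U.ι = (chartL U hU).hom ≫ τ ≫ hU.fromSpec := by
    rw [morphismRestrict_ι, ← hPL.chart_over U hU, Category.assoc]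
  have e2 : pL ∣_ U = (chartL U hU).hom ≫ τ ≫ hU.isoSpec.inv := by
    rw [← cancel_mono U.ι, e]
    simp [IsAffineOpen.isoSpec_inv_ι]
  show IsIso (pL ∣_ U)
  rw [e2]
  infer_instance

end Groth.Agent.S12143
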