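import Groth.Statements.S5732
import Groth.Agent.MiscFlat6.CounitVeryAmple
import Groth.Agent.EGA2SymLib.Gen
-- import your own Groth.Agent.* helpers here

set_option autoImplicit false
universe u
open CategoryTheory CategoryTheory.Limits AlgebraicGeometry TopologicalSpace Opposite
open scoped HomogeneousIdeal
open EGA2

namespace Groth.Agent.S5732

/-- Let E be a quasi-coherent O_Y-module with graded symmetric algebra 𝒮 (j : E → 𝒮 landing in degree
one), p : P = P(E) → Y its projective bundle with its charts over affine opens, and O_P(1) the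
fundamental sheaf with its chart identifications. Let φ : E → p_*O_P(1) be the canonical map,
characterised as follows: for an affine open U and a section e of E over U, the section φ(e) of
O_P(1) over p⁻¹(U), read on the chart Proj(𝒮(U)), has value j(e)/1 at every point. Then the morphism
p^*E → O_P(1) adjoint to φ is an epimorphism. -/
theorem result {Y P : Scheme.{u}} (E : Y.Modules) (hE : Coh.IsQCoh E)
    (𝒮 : RelProj.QCGrAlg Y) (j : E ⟶ 𝒮.toModule) (hj : RelProj.IsGrSymAlg E 𝒮 j) (p : P ⟶ Y)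
    (chart : ∀ (U : Y.Opens) (hU : IsAffineOpen U), ((p ⁻¹ᵁ U : P.Opens) : Scheme.{u}) ≅ Proj (𝒮.deg U hU))
    (hP : RelProj.IsRelProj 𝒮 p chart) (O1 : P.Modules)
    (lam : ∀ (U : Y.Opens) (hU : IsAffineOpen U),
      O1 ⟶ (Scheme.Modules.pushforward (RelProj.emb p chart U hU)).obj (GrTwist.twist (𝒮.deg U hU) 1))
    (hO1 : RelProj.IsRelTwist 𝒮 p chart 1 O1 lam)
    (φ : E ⟶ (Scheme.Modules.pushforward p).obj O1)
    (hφ : ∀ (U : Y.Opens) (hU : IsAffineOpen U) (e : Γ(E, U))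
      (y : ↥(RelProj.emb p chart U hU ⁻¹ᵁ (p ⁻¹ᵁ U))),
      GrTwist.val (V := RelProj.emb p chart U hU ⁻¹ᵁ (p ⁻¹ᵁ U))
          ((lam U hU).app (p ⁻¹ᵁ U) ((φ.app U) e)) y =
        algebraMap (𝒮.presheaf.obj (op U)) (GrTwist.Loc (𝒮.deg U hU) y.1)
          ((j.app U) e : 𝒮.presheaf.obj (op U))) :
    Epi (((Scheme.Modules.pullbackPushforwardAdjunction p).homEquiv E O1).symm φ) := by
  haveI := hE
  obtain ⟨lam', hlam', hL⟩ : ∃ lam' : ∀ (U : Y.Opens) (hU : IsAffineOpen U),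
      O1 ⟶ (Scheme.Modules.pushforward (RelProj.emb p chart U hU)).obj
        (GrTwist.twist (𝒮.deg U hU) ((1 : ℕ) : ℤ)),
      (∀ (U : Y.Opens) (hU : IsAffineOpen U), HEq (lam' U hU) (lam U hU)) ∧
        RelProj.IsRelTwist 𝒮 p chart ((1 : ℕ) : ℤ) O1 lam' := by
    have key : ∀ n : ℤ, n = 1 → ∃ lam' : ∀ (U : Y.Opens) (hU : IsAffineOpen U),
        O1 ⟶ (Scheme.Modules.pushforward (RelProj.emb p chart U hU)).obj
          (GrTwist.twist (𝒮.deg U hU) n),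
        (∀ (U : Y.Opens) (hU : IsAffineOpen U), HEq (lam' U hU) (lam U hU)) ∧
          RelProj.IsRelTwist 𝒮 p chart n O1 lam' := by
      rintro n rfl
      exact ⟨lam, fun U hU => HEq.rfl, hO1⟩
    exact key _ Nat.cast_one
  refine Preadditive.epi_of_cancel_zero _ fun {N : P.Modules} (q : O1 ⟶ N) hq => ?_
  let adj := Scheme.Modules.pullbackPushforwardAdjunction p
  have hpush : φ ≫ (Scheme.Modules.pushforward p).map q = 0 := by
    have h1 : adj.homEquiv E N ((adj.homEquiv E O1).symm φ ≫ q) = adj.homEquiv E N 0 := by rw [hq]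
    rw [adj.homEquiv_naturality_right, Equiv.apply_symm_apply, adj.homEquiv_unit,
      Functor.map_zero, comp_zero] at h1
    exact h1
  refine Scheme.Modules.hom_ext _ _ fun V => ConcreteCategory.hom_ext _ _ fun t =>
    TwistLib.mod_ext N fun x hx => ?_
  obtain ⟨U, hU, hxU⟩ := GrModLib6.exists_chart_open (p := p) x
  obtain ⟨y, hy⟩ := (MiscFlat6.emb_opensRange (chart := chart) U hU).ge hxU
  obtain ⟨a, ha, hya⟩ := GrTwistLib.exists_basicOpen_of_genDegOne _ (SymGenLib.isGenDegOne hj U hU) y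
  obtain ⟨e, rfl⟩ := EGA2SymLib.exists_of_mem_one hj U hU ha
  let σ₀ : Γ(O1, p ⁻¹ᵁ U) := (φ.app U) e
  let em := RelProj.emb p chart U hU
  have hcast : ∀ (n : ℤ) (_ : n = 1)
      (lam' : O1 ⟶ (Scheme.Modules.pushforward em).obj (GrTwist.twist (𝒮.deg U hU) n)),
      HEq lam' (lam U hU) → ∀ z : ↥(em ⁻¹ᵁ (p ⁻¹ᵁ U)),
      GrTwist.val (V := em ⁻¹ᵁ (p ⁻¹ᵁ U)) (lam'.app (p ⁻¹ᵁ U) σ₀) z =
        algebraMap (𝒮.presheaf.obj (op U)) (GrTwist.Loc (𝒮.deg U hU) z.1) (EGA2SymLib.jS j U e) := by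
    rintro n rfl lam' hl z
    rw [eq_of_heq hl]
    exact hφ U hU e z
  have hσ₀ : (lam' U hU).app (p ⁻¹ᵁ U) σ₀ =
      AmpleLib.res (GrTwist.twist (𝒮.deg U hU) ((1 : ℕ) : ℤ)) (le_top : em ⁻¹ᵁ (p ⁻¹ᵁ U) ≤ ⊤)
        (GrTwist.globalOf (𝒮.deg U hU) ⟨_, ha⟩) := by
    refine GrTwistLib.sec_ext fun z => ?_
    exact (hcast _ Nat.cast_one _ (hlam' U hU) z).trans (Localization.mk_one_eq_algebraMap _).symm
  let g : GrTwistLib.Unit' (𝒮.deg U hU) ((1 : ℕ) : ℤ)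
      (Proj.basicOpen (𝒮.deg U hU) (EGA2SymLib.jS j U e)) :=
    ⟨1, 0, _, 1, ha, SetLike.GradedOne.one_mem, by simp, fun z => z.2,
      fun z h => z.1.isPrime.ne_top ((Ideal.eq_top_iff_one _).mpr h)⟩
  have hD : em ''ᵁ Proj.basicOpen (𝒮.deg U hU) (EGA2SymLib.jS j U e) ≤ p ⁻¹ᵁ U :=
    (em.image_le_opensRange _).trans (MiscFlat6.emb_opensRange (chart := chart) U hU).le
  obtain ⟨σ, hσ, hσg⟩ := GrModLib6.exists_gen_chart hL ⟨U, hU⟩ hD (em.preimage_image_eq _).le g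
  have hres : AmpleLib.res O1 hD σ₀ = σ := by
    refine (hL.bijective U hU _ hD).1 (GrTwistLib.sec_ext fun z => ?_)
    refine (GrModLib6.cval_res (lam := lam') ⟨U, hU⟩ hD σ₀ z).trans ?_
    refine Eq.trans ?_ (hσ z).symm
    exact congrArg (fun w => GrTwistLib.val w (⟨z.1, hD z.2⟩ : (em ⁻¹ᵁ (p ⁻¹ᵁ U) : (Proj (𝒮.deg U hU)).Opens))) hσ₀
  have hxD : x ∈ em ''ᵁ Proj.basicOpen (𝒮.deg U hU) (EGA2SymLib.jS j U e) := ⟨y, hya, hy⟩
  have hgen0 : AmpleLib.GenAt O1 σ₀ (hD hxD) :=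
    (AmpleLib.genAt_res hD σ₀ hxD).mp (hres ▸ hσg.genAt hxD)
  obtain ⟨c, hc⟩ := hgen0.2 (O1.presheaf.germ V x hx t)
  dsimp only at hc
  have hs0 : q.app (p ⁻¹ᵁ U) σ₀ = 0 := congr($(congrArg (fun ψ => Scheme.Modules.Hom.app ψ U) hpush) e)
  let G := ((DerSch.stalkFunctor P x).map q).hom
  change N.presheaf.germ V x hx (q.app V t) = N.presheaf.germ V x hx 0
  have e1 : G (O1.presheaf.germ V x hx t) = N.presheaf.germ V x hx (q.app V t) :=
    DerSch.stalkFunctor_map_germ x q V hx t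
  have e2 : G (O1.presheaf.germ (p ⁻¹ᵁ U) x hxU σ₀) = N.presheaf.germ (p ⁻¹ᵁ U) x hxU (q.app (p ⁻¹ᵁ U) σ₀) :=
    DerSch.stalkFunctor_map_germ x q _ hxU σ₀
  rw [← e1, ← hc, map_zero]
  have e3 : G (O1.presheaf.germ (p ⁻¹ᵁ U) x hxU σ₀) = 0 := by rw [e2, hs0, map_zero]; rfl
  refine (G.map_smul c _).trans ((congrArg (c • ·) e3).trans ?_)
  exact smul_zero _

end Groth.Agent.S5732
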