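import Groth.Statements.S3572
import Groth.Agent.TwistLib.ProjSymUP
import Mathlib.LinearAlgebra.SymmetricAlgebra.Basis
-- import your own Groth.Agent.* helpers here

set_option autoImplicit false
universe u
open CategoryTheory CategoryTheory.Limits AlgebraicGeometry
open EGA2

namespace Groth.Agent.S3572

/-- Existence part of the universal property of projective n-space over an affine base Spec R (the
published statement is for P(E) with E an arbitrary quasi-coherent module; here E is the free module
of rank n+1, so that P(E) is projective n-space over R): let X be a scheme over R, L an invertible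
O_X-module and s_0, …, s_n global sections of L generating L. Then there is an R-morphism r from X
to projective n-space over R and an isomorphism r^*O(1) ≅ L carrying the inverse image of the
coordinate T_i to s_i for every i. -/
theorem result {R : Type u} [CommRing R] (n : ℕ) {X : Scheme.{u}}
    (q : X ⟶ Spec (CommRingCat.of R)) (L : X.Modules) (hL : PicF.IsInvertible L)
    (s : Fin (n + 1) → ProjUP.Γm L) (hs : ProjUP.GeneratedBy L s) :
    ∃ (r : X ⟶ CohB1.ProjSpace n R) (_ : r ≫ CohB1.ProjSpace.toSpec n R = q)
      (τ : (Scheme.Modules.pullback r).obj (Twist.twistProjSpace n R 1) ≅ L),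
      ∀ i, τ.hom.app ⊤ (ProjUP.pullSec r (Twist.twistProjSpace n R 1) (ProjUP.coord n R i)) = s i := by
  classical
  let b := Pi.basisFun R (Fin (n + 1))
  let ι : (Fin (n + 1) → R) →ₗ[R] MvPolynomial (Fin (n + 1)) R := Module.Basis.constr b R MvPolynomial.X
  have hb : ∀ i, ι (b i) = MvPolynomial.X i := fun i => b.constr_basis R _ i
  have hι : ∀ m, ι m ∈ CohB1.polyGrading n R 1 := by
    intro m
    rw [Module.Basis.constr_apply_fintype]
    exact sum_mem fun i _ => Submodule.smul_mem _ _ (MvPolynomial.isHomogeneous_X R i)
  let φ : (Fin (n + 1) → R) →+ ProjUP.Γm L :=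
    { toFun := fun m => ∑ i, ProjUP.toGlobal q (m i) • s i
      map_zero' := by simp
      map_add' := fun x y => by simp [map_add, add_smul, Finset.sum_add_distrib] }
  have hv : ∀ (a : R) m, φ (a • m) = ProjUP.toGlobal q a • φ m := fun a m => by
    simp [φ, Finset.smul_sum, map_mul, mul_smul]
  have hφ : ∀ i, φ (b i) = s i := fun i => by
    change ∑ j, ProjUP.toGlobal q (b i j) • s j = s i
    rw [Finset.sum_eq_single i]
    · simp [b]
    · intro j _ hj
      simp [b, hj]
    · simp
  obtain ⟨r, hr, τ, hτ⟩ := TwistLib.SymUP.exists_r_τ (CohB1.polyGrading n R) ι hι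
    (SymmetricAlgebra.IsSymmetricAlgebra.mvPolynomial (Fin (n + 1)) b) q L hL φ hv (fun x => by
      obtain ⟨i, hi⟩ := TwistLib.exists_genAt_of_generatedBy hL s x (hs x)
      exact ⟨b i, show AmpleLib.GenAt L (φ (b i)) _ by rw [hφ]; exact hi⟩)
  refine ⟨r, hr, τ, fun i => ?_⟩
  refine Eq.trans ?_ ((hτ (b i)).trans (hφ i))
  refine congrArg (fun t => τ.hom.app ⊤ (ProjUP.pullSec r (Twist.twistProjSpace n R 1) t)) ?_
  exact congrArg (Twist.globalOf (CohB1.polyGrading n R)) (Subtype.ext (hb i).symm)

end Groth.Agent.S3572
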