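import Groth.Statements.S4466
import Mathlib
import Groth.Agent.PnCohLib.Twist
-- import your own Groth.Agent.* helpers here

set_option autoImplicit false
universe u
open Coherent

namespace Groth.Agent.S4466

open AlgebraicGeometry CategoryTheory in
/-- Let k be a field, r > 0 and n any integer. Then the Euler characteristic of the twisting sheaf O(n)
on projective r-space over k, namely the alternating sum of the dimensions of H^j(P^r_k, O(n)) for 0
≤ j ≤ r, equals the binomial coefficient C(n+r, r), understood as the binomial polynomial evaluated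
at the integer n+r (so that it makes sense and is correct for negative n too). -/
theorem result (k : Type u) [Field k] (r : ℕ) (hr : 0 < r)
    (n : ℤ) :
    ((Finset.range (r + 1)).sum fun j => (-1 : ℤ) ^ j *
        (Module.finrank k (Coh.HH (CohB1.ProjSpace r k) (Twist.twistProjSpace r k n) j) : ℤ)) =
      Ring.choose (n + r) r := by
  classical
  let h : ℕ → ℤ := fun j => (-1 : ℤ) ^ j *
    (Module.finrank k (Coh.HH (CohB1.ProjSpace r k) (Twist.twistProjSpace r k n) j) : ℤ)
  show (Finset.range (r + 1)).sum h = _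
  have hz : ∀ j, ¬ (j = 0 ∧ 0 ≤ n) → ¬ (j = r ∧ n ≤ -((r : ℤ) + 1)) → h j = 0 := fun j h₀ h₁ => by
    haveI := PnCohLib.subsingleton_HH_twist (n := r) (R := k) n j h₀ h₁
    simp [h, Module.finrank_zero_of_subsingleton]
  have hrank : ∀ m : ℕ, Module.finrank k (PnCohLib.Deg r m →₀ k) = (r + m).choose m := fun m => by
    rw [Module.finrank_eq_nat_card_basis Finsupp.basisSingleOne, PnCohLib.card_deg]
  rcases le_or_gt 0 n with hpos | hneg
  · obtain ⟨m, rfl⟩ := Int.eq_ofNat_of_zero_le hpos
    obtain ⟨e⟩ := PnCohLib.exists_HH_zero (n := r) (R := k) hr m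
    rw [Finset.sum_eq_single 0 (fun j _ hj => hz j (fun hc => hj hc.1) (fun hc => by omega)) (by simp)]
    simp only [h, pow_zero, one_mul]
    rw [e.finrank_eq, hrank, show (m : ℤ) + r = ((m + r : ℕ) : ℤ) by push_cast; ring, Ring.choose_natCast,
      add_comm r m, Nat.choose_symm_add]
  rcases le_or_gt n (-((r : ℤ) + 1)) with hlow | hmid
  · obtain ⟨m, rfl⟩ : ∃ m : ℕ, n = -((r : ℤ) + 1 + m) := ⟨(-n - (r + 1)).toNat, by omega⟩
    obtain ⟨e⟩ := PnCohLib.exists_HH_top (n := r) (R := k) m
    rw [Finset.sum_eq_single r (fun j _ hj => hz j (fun hc => by omega) (fun hc => hj hc.1)) (by simp)]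
    simp only [h]
    rw [e.finrank_eq, hrank, show -((r : ℤ) + 1 + m) + r = -((m : ℤ) + 1) by ring, Ring.choose_neg,
      show (m : ℤ) + 1 + r - 1 = ((r + m : ℕ) : ℤ) by push_cast; ring, Ring.choose_natCast, Nat.choose_symm_add]
    simp [Units.smul_def, Int.negOnePow_def]
  · rw [Finset.sum_eq_zero (fun j _ => hz j (by omega) (by omega))]
    obtain ⟨m, hm⟩ : ∃ m : ℕ, n + r = m := ⟨(n + r).toNat, by omega⟩
    rw [hm, Ring.choose_natCast, Nat.choose_eq_zero_of_lt (by omega), Nat.cast_zero]

end Groth.Agent.S4466
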