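import Groth.Statements.S10945
import Groth.Agent.MiscFlat6.TensorGG

set_option autoImplicit false
universe u
open CategoryTheory AlgebraicGeometry Opposite
open Coherent

namespace Groth.Agent.S10945

/-- maps out of a globally generated module killing all global sections are zero -/
theorem eq_zero_of_gg {X : Scheme.{u}} {M N : X.Modules} (hM : Curv2.IsGloballyGenerated M)
    (q : M ⟶ N) (hq : ∀ u : Γ(M, ⊤), q.app ⊤ u = 0) : q = 0 := by
  obtain ⟨ι, p, hp⟩ := hM
  haveI := hp
  have hp' : Epi (C := X.Modules) p := hp
  refine (@cancel_epi X.Modules _ _ _ _ p hp' _ _).1 ?_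
  refine (SheafOfModules.freeHomEquiv N).injective (funext fun i => ?_)
  apply Subtype.ext
  funext W
  have key : ∀ (x y : N.val.sections), x.val (op ⊤) = y.val (op ⊤) → x.val W = y.val W := by
    intro x y h
    have hx := x.property (homOfLE (le_top : W.unop ≤ ⊤)).op
    have hy := y.property (homOfLE (le_top : W.unop ≤ ⊤)).op
    exact hx.symm.trans ((congrArg (N.val.map (homOfLE (le_top : W.unop ≤ ⊤)).op).hom h).trans hy)
  refine key _ _ ?_
  exact (hq ((SheafOfModules.freeHomEquiv M p i).val (op ⊤))).trans (by rfl)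

/-- Let X be a scheme and 0 → F' → F → F'' → 0 a short exact sequence of O_X-modules whose map on global
sections Γ(X, F) → Γ(X, F'') is surjective. If F' and F'' are generated by global sections (each is
a quotient of a free O_X-module), then F is generated by global sections. -/
theorem result (X : Scheme.{u})
    (S : ShortComplex X.Modules) (hS : S.ShortExact)
    (hsurj : Function.Surjective (S.g.val.app (op ⊤)).hom)
    (h1 : Curv2.IsGloballyGenerated S.X₁) (h3 : Curv2.IsGloballyGenerated S.X₃) :
    Curv2.IsGloballyGenerated S.X₂ := by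
  haveI := hS.mono_f
  haveI := hS.epi_g
  refine MiscFlat6.isGloballyGenerated_of_cancel _ fun N q hq => ?_
  have hf : S.f ≫ q = 0 := eq_zero_of_gg h1 _ fun u => hq _
  obtain ⟨q', hq'⟩ : ∃ q' : S.X₃ ⟶ N, S.g ≫ q' = q := ⟨hS.exact.desc q hf, hS.exact.g_desc q hf⟩
  have h0 : q' = 0 := eq_zero_of_gg h3 _ fun u => by
    obtain ⟨v, hv⟩ := hsurj u
    have := hq v
    rw [← hq'] at this
    rw [← hv]
    exact this
  rw [← hq', h0]
  exact Limits.comp_zero

end Groth.Agent.S10945
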