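import Groth.Statements.S1611
import Groth.Agent.VeryAmpleLib.AlgClosed
import Groth.Agent.VeryAmpleLib.Bc
import Groth.Agent.GenusZeroLib.Embed
import Groth.Agent.RRVanLib.GG
import Groth.Agent.ProjDegLib.Criterion
import Groth.Agent.ProjSecLib.Hyperplane
import Groth.Agent.SerreVanLib.CurveAmple
import Groth.Agent.CurveAmpLib.Affine
import Groth.Agent.QCohLib.ProjSpace

set_option autoImplicit false
universe u
open CategoryTheory CategoryTheory.Limits AlgebraicGeometry
open Curves

namespace Groth.Agent.S1611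

open AmpleLib (GenAt GenOn res)
open TwistLib (genSet)
open KFlatLib (pb puSec)
open GenusZeroLib (kmod e0k ρ)

noncomputable section Aux

/-- A globally generated invertible module has a generating section at every point. -/
theorem exists_genAt_of_gg {X : Scheme.{u}} {L : X.Modules} (hL : PicF.IsInvertible L)
    (hg : Curv2.IsGloballyGenerated L) (x : X) :
    ∃ σ : Γ(L, ⊤), GenAt L σ (show x ∈ (⊤ : X.Opens) from trivial) := by
  obtain ⟨ι, p, hp⟩ := hg
  by_contra hne
  push Not at hne
  let Z := Spec (X.residueField x)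
  let i : Z ⟶ X := X.fromSpecResidueField x
  let π : L ⟶ (Coh.push i).obj (pb i L) := (Scheme.Modules.pullbackPushforwardAdjunction i).unit.app L
  obtain ⟨U, e, hxU, he⟩ := TwistLib.exists_genOn hL x
  have hiU : i ⁻¹ᵁ U = ⊤ := eq_top_iff.mpr fun z _ => by
    change i z ∈ U
    rw [show i z = x from Scheme.fromSpecResidueField_apply x z]
    exact hxU
  have hσ : ∀ σ : Γ(L, ⊤), puSec i σ = 0 := fun σ => by
    have he' := AmpleDevLib.puSec_genOn i he
    obtain ⟨c, hc⟩ := (he' _ le_rfl).2 (res (pb i L) (le_top : i ⁻¹ᵁ U ≤ ⊤) (puSec i σ))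
    dsimp only at hc
    rw [AmpleLib.res_refl] at hc
    have hz : c = 0 := by
      by_contra hc0
      let j : (Spec (CommRingCat.of (X.residueField x))).Opens := i ⁻¹ᵁ U
      have hF : IsField Γ(Z, i ⁻¹ᵁ U) := by
        rw [hiU]
        exact MulEquiv.isField (Field.toIsField (X.residueField x))
          (Scheme.ΓSpecIso (X.residueField x)).commRingCatIsoToRingEquiv.toMulEquiv
      letI := hF.toField
      let z : Z := default
      have hzU : z ∈ i ⁻¹ᵁ U := hiU.ge trivial
      apply hne σ
      have h1 := (AmpleLib.genAt_res (le_top : i ⁻¹ᵁ U ≤ ⊤) (puSec i σ) hzU).mp ?_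
      · have h2 := (TwistLib.genAt_puSec_iff i he σ (x := z) (show i z ∈ U from hzU)).mp h1
        have e1 := Scheme.fromSpecResidueField_apply (X := X) x z
        revert h2
        generalize i z = y at e1 ⊢
        intro h2
        subst e1
        convert h2
      · have h3 := he'.genAt hzU
        rw [← hc]
        dsimp only [GenAt] at h3 ⊢
        simp only [AmpleLib.germ_smul, smul_smul]
        exact h3.comp ((isUnit_iff_ne_zero.mpr hc0).map (Z.presheaf.germ _ z hzU).hom).unit.mulRight.bijective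
    rw [hz, zero_smul] at hc
    refine TwistLib.mod_ext _ fun z _ => ?_
    have hzU : z ∈ i ⁻¹ᵁ U := hiU.ge trivial
    refine ((TopCat.Presheaf.germ_res_apply (pb i L).presheaf (homOfLE (le_top : i ⁻¹ᵁ U ≤ ⊤)) z hzU
      (puSec i σ)).symm.trans ((congrArg _ hc.symm).trans ?_)).trans (map_zero _).symm
    exact map_zero _
  have hπ : p ≫ π = 0 := Limits.Sigma.hom_ext _ _ fun a => by
    refine ((Category.assoc _ _ _).symm.trans ?_).trans Limits.comp_zero.symm
    exact ProjSecLib.eq_zero_of_sec _ (hσ _)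
  have hπ0 : π = 0 := (cancel_epi p).mp (hπ.trans Limits.comp_zero.symm)
  have he0 : puSec i e = 0 := (congrArg (fun f : L ⟶ (Coh.push i).obj (pb i L) => f.app U e) hπ0 :)
  have hz : (default : Z) ∈ i ⁻¹ᵁ U := hiU.ge trivial
  have hb := (AmpleDevLib.puSec_genOn i he).genAt hz
  rw [he0] at hb
  exact one_ne_zero (hb.1 (a₁ := (1 : Z.presheaf.stalk default)) (a₂ := 0)
    (by dsimp only; rw [map_zero, smul_zero, smul_zero]))

end Aux

/-- Let X be proper of dimension one over k with global functions k, geometrically integral, of genus g,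
and L an invertible module with deg L ≥ 2g + 1. Then L is very ample: there is a closed immersion i
of X into some projective space P^n_k over k with i^* O(1) ≅ L. -/
theorem result (k : Type u) [Field k] (X : Scheme.{u}) [X.Over (Spec (CommRingCat.of k))]
    [IsProper (X ↘ (Spec (CommRingCat.of k)))] [GeometricallyIntegral (X ↘ (Spec (CommRingCat.of k)))] (hdim : topologicalKrullDim X = 1)
    (h0 : Module.finrank k (Coh.HH X (Coh.structureModule X) 0) = 1) (L : X.Modules) (hL : PicF.IsInvertible L)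
    (hdeg : 2 * (Curv2.genus k X : ℤ) + 1 ≤ Curv2.deg k X L 1) :
    ∃ (n : ℕ) (i : X ⟶ CohB1.ProjSpace n k), IsClosedImmersion i ∧ i ≫ CohB1.ProjSpace.toSpec n k = X ↘ (Spec (CommRingCat.of k)) ∧
      Nonempty ((Scheme.Modules.pullback i).obj (Twist.twistProjSpace n k 1) ≅ L) := by
  classical
  haveI : IsIntegral X := GeometricallyIntegral.isIntegral_of_subsingleton (X ↘ (Spec (CommRingCat.of k)))
  haveI := CurvLib.isNoetherian k (X := X)
  haveI : X.IsSeparated := ⟨by rw [← terminal.comp_from (X ↘ Spec (CommRingCat.of k))]; infer_instance⟩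
  letI := kmod k L
  have hLc := CurvLib.isCoh_of_isInvertible hL
  haveI := CurvLib.finite_HH (k := k) hLc 0
  have hχ := CurvLib.euler_curve (k := k) hdim L
  haveI := RRVanLib.subsingleton_h1 (k := k) hdim h0 hL (by omega)
  rw [RRVanLib.euler_eq_deg hdim h0, Module.finrank_zero_of_subsingleton (R := k) (M := Coh.HH X L 1)] at hχ
  obtain ⟨n, hn⟩ : ∃ n, Module.finrank k (Coh.HH X L 0) = n + 1 :=
    ⟨Module.finrank k (Coh.HH X L 0) - 1, by omega⟩
  have hfL : Module.finrank k Γ(L, ⊤) = n + 1 := (e0k k L).finrank_eq.symm.trans hn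
  haveI : Module.Finite k Γ(L, ⊤) := Module.Finite.equiv (e0k k L)
  let b : Module.Basis (Fin (n + 1)) k Γ(L, ⊤) := Module.finBasisOfFinrankEq k Γ(L, ⊤) hfL
  let v : Fin (n + 1) → Γ(L, ⊤) := fun j => b j
  have hcov : ∀ x : X, ∃ j, x ∈ genSet hL (v j) := fun x => by
    obtain ⟨σ, hσ⟩ := exists_genAt_of_gg hL (RRVanLib.isGloballyGenerated hdim h0 hL (by omega)) x
    refine TwistLib.exists_genAt_of_generatedBy hL v x (eq_top_iff.mpr ?_)
    rw [← TwistLib.span_of_genAt L (fun _ : Unit => σ) x (k := ()) hσ, Submodule.span_le]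
    rintro _ ⟨-, rfl⟩
    conv => arg 2; rw [← b.sum_repr σ]
    rw [map_sum]
    refine Submodule.sum_mem _ fun l _ => ?_
    have h1 : (L.presheaf.germ ⊤ x trivial).hom (b.repr σ l • b l) =
        X.presheaf.germ ⊤ x trivial (ρ k (b.repr σ l)) • L.presheaf.germ ⊤ x trivial (v l) :=
      AmpleLib.germ_smul L (W := ⊤) (ρ (X := X) k (b.repr σ l)) (v l) trivial
    rw [h1]
    exact Submodule.smul_mem _ _ (Submodule.subset_span ⟨l, rfl⟩)
  obtain ⟨r, hrb, hpre, hcoef, hτ⟩ :=
    GenusZeroLib.exists_toPA_iso (X ↘ Spec (CommRingCat.of k)) hL v hcov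
  let p := AmpleThLib.baseA (CohB1.polyGrading n k)
  haveI : IsProper (r ≫ p) := by rw [hrb]; infer_instance
  haveI : IsProper p := (ProjDegLib.toSpec_isProper k n : IsProper (CohB1.ProjSpace.toSpec n k))
  haveI : IsProper r := IsProper.of_comp r p
  let D : Fin (n + 1) → (Proj (CohB1.polyGrading n k)).Opens := fun j =>
    Proj.basicOpen (CohB1.polyGrading n k) (MvPolynomial.X j)
  have hD : ∀ j, IsAffineOpen (D j) := fun j =>
    Proj.isAffineOpen_basicOpen _ _ (MvPolynomial.isHomogeneous_X k j) one_pos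
  have hA : CohB1.IsAmple L := SerreVanLib.isAmple_of_deg_pos (k := k) hdim hL (by omega)
  have hV : ∀ j, IsAffineOpen (genSet hL (v j)) := fun j =>
    CurveAmpLib.isAffineOpen_genSet (X ↘ Spec (CommRingCat.of k)) hL hA (v j)
  haveI : IsAffineHom r := by
    refine IsZariskiLocalAtTarget.of_iSup_eq_top (P := @IsAffineHom) D (QCohLib.iSup_stdOpen n k) fun j => ?_
    haveI : IsAffine (r ⁻¹ᵁ D j).toScheme := (hpre j).symm ▸ hV j
    haveI : IsAffine (D j).toScheme := hD j
    infer_instance
  haveI : IsFinite r := IsFinite.iff_isProper_and_isAffineHom.mpr ⟨inferInstance, inferInstance⟩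
  -- base change to the algebraic closure
  let K := AlgebraicClosure k
  let φ := Spec.map (CommRingCat.ofHom (algebraMap k K))
  letI := VeryAmpleLib.bcOver k X K
  let g := Curv2.bcFst k X K
  let X' := Curv2.bc k X K
  haveI := VeryAmpleLib.isProper_bc k X K
  haveI : IsIntegral X' := VeryAmpleLib.isIntegral_bc k X K
  let r' : X' ⟶ pullback p φ := pullback.lift (g ≫ r) (X' ↘ Spec (CommRingCat.of K))
    (by rw [Category.assoc, hrb]; exact (VeryAmpleLib.isPullback_bc k X K).w)
  have hfst : r' ≫ pullback.fst p φ = g ≫ r := pullback.lift_fst _ _ _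
  have hsnd : r' ≫ pullback.snd p φ = X' ↘ Spec (CommRingCat.of K) := pullback.lift_snd _ _ _
  have hsq : IsPullback g r' r (pullback.fst p φ) := by
    refine IsPullback.of_bot ?_ hfst.symm (IsPullback.of_hasPullback p φ)
    rw [hsnd, hrb]
    exact VeryAmpleLib.isPullback_bc k X K
  haveI : IsFinite r' := MorphismProperty.of_isPullback hsq inferInstance
  haveI : IsAffineHom (pullback.fst p φ) := MorphismProperty.pullback_fst p φ inferInstance
  haveI : IsClosedImmersion r' := by
    let v' : Fin (n + 1) → Γ(pb g L, ⊤) := fun j => puSec g (v j)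
    have hgen : ∀ j, genSet (AmpleDevLib.isInvertible_pb g hL) (v' j) = g ⁻¹ᵁ genSet hL (v j) := fun j =>
      AmpleDevLib.genSet_puSec g hL (v j)
    have hpre' : ∀ j, r' ⁻¹ᵁ (pullback.fst p φ ⁻¹ᵁ D j) = genSet (AmpleDevLib.isInvertible_pb g hL) (v' j) := fun j => by
      rw [hgen j, ← hpre j]
      exact congrArg (fun f : X' ⟶ Proj (CohB1.polyGrading n k) => f ⁻¹ᵁ D j) hfst
    refine VeryAmpleLib.isClosedImmersion_of_span (L := pb g L) K
      ((VeryAmpleLib.dim_bc k X K).trans hdim) (AmpleDevLib.isInvertible_pb g hL)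
      (by rw [VeryAmpleLib.genus_bc k X K, VeryAmpleLib.deg_bc k X K hL]; exact hdeg) v'
      (fun t => VeryAmpleLib.span_bc K hdim hL v b.linearIndependent hn.symm (v 0) (b.ne_zero 0) (hV 0) t)
      (pullback.snd p φ) r' hsnd (fun j => pullback.fst p φ ⁻¹ᵁ D j) (fun j => (hD j).preimage _) hpre'
      (fun x => (hcov (g x)).imp fun j hj => (hgen j).ge hj) fun j l => ?_
    let u : Γ(Proj (CohB1.polyGrading n k), D j) := Proj.awayToSection (CohB1.polyGrading n k) (MvPolynomial.X j)
      (TwistLib.frac (CohB1.polyGrading n k) (MvPolynomial.isHomogeneous_X k j) (MvPolynomial.isHomogeneous_X k l))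
    refine ⟨(pullback.fst p φ).app (D j) u, ?_⟩
    have h1 := congrArg (res L (hpre j).ge) (hcoef j l)
    rw [AmpleLib.res_smul, AmpleLib.res_res, AmpleLib.res_res] at h1
    have h2 := congrArg (fun t : Γ(L, genSet hL (v j)) => res (pb g L) (hgen j).le (puSec g t)) h1
    simp only [TwistLib.puSec_smul, TwistLib.puSec_res, AmpleLib.res_smul, AmpleLib.res_res] at h2
    refine Eq.trans ?_ h2
    refine congrArg (fun a => a • res (pb g L) _ (v' j)) ?_
    change (((pullback.fst p φ).app (D j)) ≫ r'.appLE _ _ (hpre' j).ge) u =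
      (r.app (D j) ≫ X.presheaf.map (homOfLE (hpre j).ge).op ≫ g.app _ ≫ X'.presheaf.map (homOfLE (hgen j).le).op) u
    refine ConcreteCategory.congr_hom ?_ u
    rw [← Scheme.Hom.comp_appLE]
    change _ = r.appLE (D j) (genSet hL (v j)) (hpre j).ge ≫ g.appLE _ _ (hgen j).le
    rw [Scheme.Hom.appLE_comp_appLE]
    simp only [hfst]
  have hmono : Mono r := by
    haveI : (MorphismProperty.monomorphisms Scheme.{u}).DescendsAlong (@Surjective ⊓ @Flat ⊓ @QuasiCompact) :=
      MorphismProperty.diagonal_isomorphisms (C := Scheme.{u}) ▸ inferInstance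
    have hφ : (@Surjective ⊓ @Flat ⊓ @QuasiCompact : MorphismProperty Scheme.{u}) (pullback.fst p φ) := by
      haveI : Flat φ := Flat.SpecMap_iff.mpr (RingHom.flat_algebraMap_iff.mpr inferInstance)
      haveI : Surjective φ := ⟨fun x => ⟨default, Subsingleton.elim _ _⟩⟩
      exact ⟨⟨inferInstance, inferInstance⟩, inferInstance⟩
    exact MorphismProperty.of_isPullback_of_descendsAlong (P := MorphismProperty.monomorphisms Scheme.{u})
      (Q := (@Surjective ⊓ @Flat ⊓ @QuasiCompact)) hsq.flip hφ (inferInstanceAs (Mono r'))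
  refine ⟨n, r, (IsClosedImmersion.iff_isProper_and_mono _).mpr ⟨(‹IsProper r› :), hmono⟩, hrb, ?_⟩
  exact hτ

end Groth.Agent.S1611
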