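import Groth.Statements.S13731
import Groth.Agent.VCovLib.SubtrNoeth

set_option autoImplicit false
universe u
open HTop

namespace Groth.Agent.S13731

open CategoryTheory CategoryTheory.Limits AlgebraicGeometry in
/-- Let X be a separated Noetherian scheme and {p_i : U_i → X} a finite family of separated morphisms of
finite type whose induced morphism from the disjoint union of the U_i to X is universally submersive
(an h-covering). Then every point x of X is p_i(u) for some i and some point u of U_i admitting a
generization ξ in U_i whose image p_i(ξ) is a generic point of an irreducible component of X.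
Equivalently, the irreducible components of the U_i dominating an irreducible component of X jointly
cover X. -/
theorem result {X : Scheme.{u}} [IsNoetherian X] [X.IsSeparated] (E : PreZeroHypercover.{u} X) [Finite E.I₀] [∀ i, LocallyOfFiniteType (E.f i)] [∀ i, QuasiCompact (E.f i)] [∀ i, IsSeparated (E.f i)] (hE : SGA1.UnivSubmersive (Sigma.desc E.f)) (x : X) : ∃ (i : E.I₀) (ξ u : E.X i), ξ ⤳ u ∧ E.f i u = x ∧ closure {E.f i ξ} ∈ irreducibleComponents ↥X := by
  haveI : QuasiSeparatedSpace X := inferInstance
  haveI : ∀ i, CompactSpace (E.X i) := fun i => QuasiCompact.compactSpace_of_compactSpace (E.f i)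
  haveI : Finite (sigmaOpenCover E.X).I₀ := ‹Finite E.I₀›
  haveI : ∀ i, CompactSpace ((sigmaOpenCover E.X).X i) := fun i => ‹∀ i, CompactSpace (E.X i)› i
  haveI : CompactSpace ↥(∐ E.X) := (sigmaOpenCover E.X).compactSpace
  haveI : QuasiCompact (Sigma.desc E.f) := inferInstance
  have hS := (VCovLib.univSubmersive_iff_univSSubtrusive (Sigma.desc E.f)).1 hE _ _ _ IsPullback.of_id_snd
  obtain ⟨η, hηx, hη⟩ : ∃ η : X, η ⤳ x ∧ closure {η} ∈ irreducibleComponents ↥X := by
    obtain ⟨η, hη⟩ := QuasiSober.sober (isIrreducible_irreducibleComponent (x := x)) isClosed_irreducibleComponent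
    refine ⟨η, specializes_iff_mem_closure.2 (hη.symm ▸ mem_irreducibleComponent), ?_⟩
    rw [hη.def]
    exact irreducibleComponent_mem_irreducibleComponents x
  obtain ⟨u', ξ', hs, hu, hξ⟩ := hS hηx
  obtain ⟨i, u, rfl⟩ := (sigmaOpenCover E.X).exists_eq u'
  obtain ⟨ξ, rfl⟩ : ξ' ∈ Set.range (Sigma.ι E.X i) :=
    hs.mem_open (Sigma.ι E.X i).isOpenEmbedding.isOpen_range ⟨u, rfl⟩
  refine ⟨i, ξ, u, (Sigma.ι E.X i).isEmbedding.isInducing.specializes_iff.1 hs, ?_, ?_⟩
  · rw [← hu, ← Sigma.ι_desc E.f i, Scheme.Hom.comp_apply]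
    rfl
  · rw [← Sigma.ι_desc E.f i, Scheme.Hom.comp_apply, hξ]
    exact hη

end Groth.Agent.S13731
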