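import Groth.Statements.S1411
import Mathlib.RingTheory.Ideal.KrullsHeightTheorem
-- import your own Groth.Agent.* helpers here

set_option autoImplicit false
set_option backward.isDefEq.respectTransparency false
set_option linter.all false
universe u
open FlatMor

namespace Groth.Agent.S1411

open AlgebraicGeometry CategoryTheory Limits TopologicalSpace

theorem prime_eq_max_of_forall_le {B : Type u} [CommRing B] [IsDomain B] [IsLocalRing B] [IsNoetherianRing B]
    (J : Ideal B) (hJ : J ≠ ⊥) (h : ∀ q : Ideal B, q.IsPrime → q ≠ ⊥ → J ≤ q)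
    (q : Ideal B) (hq : q.IsPrime) (hq0 : q ≠ ⊥) : q = IsLocalRing.maximalIdeal B := by
  classical
  by_contra hne
  have hlt : q < IsLocalRing.maximalIdeal B := lt_of_le_of_ne (IsLocalRing.le_maximalIdeal hq.ne_top) hne
  have hfin : J.minimalPrimes.Finite := J.finite_minimalPrimes_of_isNoetherianRing B
  let T : Set (Ideal B) := J.minimalPrimes \ {IsLocalRing.maximalIdeal B}
  have hTfin : T.Finite := hfin.sdiff
  have hnot : ¬ ((IsLocalRing.maximalIdeal B : Ideal B) : Set B) ⊆ ⋃ P ∈ insert (⊥ : Ideal B) T, (P : Set B) := by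
    intro hsub
    have hp : ∀ P ∈ insert (⊥ : Ideal B) T, P ≠ ⊥ → P ≠ ⊥ → Ideal.IsPrime P := by
      rintro P (rfl | ⟨hP, -⟩) hb -
      · exact absurd rfl hb
      · exact hP.1.1
    obtain ⟨P, hP, hle⟩ :=
      (Ideal.subset_union_prime_finite (f := fun P : Ideal B => P) (hTfin.insert ⊥) ⊥ ⊥ hp).mp hsub
    rcases hP with rfl | ⟨hP, hPne⟩
    · exact hq0 (le_bot_iff.mp (hlt.le.trans hle))
    · exact hPne ((IsLocalRing.maximalIdeal.isMaximal B).eq_of_le hP.1.1.ne_top hle).symm
  obtain ⟨g, hgm, hg⟩ := Set.not_subset.mp hnot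
  simp only [Set.mem_iUnion, not_exists] at hg
  obtain ⟨P, hP, hPle⟩ := Ideal.exists_minimalPrimes_le
    (show Ideal.span {g} ≤ IsLocalRing.maximalIdeal B by simpa [Ideal.span_le] using hgm)
  haveI := hP.1.1
  have hht : P.height ≤ 1 := Ideal.height_le_one_of_isPrincipal_of_mem_minimalPrimes (Ideal.span {g}) P hP
  have hgP : g ∈ P := hP.1.2 (Ideal.mem_span_singleton_self g)
  have hP0 : P ≠ ⊥ := fun h0 => hg ⊥ (Set.mem_insert _ _) (h0 ▸ hgP)
  obtain ⟨P₀, hP₀, hP₀le⟩ := Ideal.exists_minimalPrimes_le (h P hP.1.1 hP0)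
  haveI := hP₀.1.1
  have hP₀0 : P₀ ≠ ⊥ := fun h0 => hJ (le_bot_iff.mp (h0 ▸ hP₀.1.2))
  have hone : (1 : ℕ∞) ≤ P₀.height := by
    rw [ENat.one_le_iff_ne_zero, ne_eq, Ideal.height_eq_zero_iff_eq_bot]
    exact hP₀0
  have hEq : P₀ = P := by
    by_contra hne'
    have h1 := Ideal.height_add_one_le_of_lt_of_isPrime (lt_of_le_of_ne hP₀le hne')
    have h2 : (1 : ℕ∞) + 1 ≤ 1 := le_trans (add_le_add hone le_rfl) (h1.trans hht)
    exact absurd h2 (by decide)
  by_cases hm : P₀ = IsLocalRing.maximalIdeal B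
  · have hqh : (1 : ℕ∞) ≤ q.height := by
      rw [ENat.one_le_iff_ne_zero, ne_eq, Ideal.height_eq_zero_iff_eq_bot]
      exact hq0
    have h1 := Ideal.height_add_one_le_of_lt_of_isPrime hlt
    rw [← hm, hEq] at h1
    have h2 : (1 : ℕ∞) + 1 ≤ 1 := le_trans (add_le_add hqh le_rfl) (h1.trans hht)
    exact absurd h2 (by decide)
  · exact hg P₀ (Set.mem_insert_of_mem _ ⟨hP₀, hm⟩) (hEq ▸ hgP)

theorem exists_maximal_in_open {A : Type u} [CommRing A] [IsLocalRing A] [IsNoetherianRing A]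
    (W : Set (PrimeSpectrum A)) (hW : IsOpen W) (hne : W.Nonempty) :
    ∃ p ∈ W, ∀ q : PrimeSpectrum A, p ≤ q → q = p ∨ q = IsLocalRing.closedPoint A := by
  obtain ⟨P, ⟨p, hpW, rfl⟩, hmax⟩ := set_has_maximal_iff_noetherian.mpr inferInstance
    (PrimeSpectrum.asIdeal '' W) (hne.image _)
  refine ⟨p, hpW, fun q hpq => ?_⟩
  obtain ⟨I, hI⟩ := (PrimeSpectrum.isClosed_iff_zeroLocus_ideal Wᶜ).mp hW.isClosed_compl
  have hIp : ¬ I ≤ p.asIdeal := fun hle => by
    have : p ∈ Wᶜ := hI ▸ (PrimeSpectrum.mem_zeroLocus _ _).mpr hle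
    exact this hpW
  by_contra hcon
  rw [not_or] at hcon
  let π := Ideal.Quotient.mk p.asIdeal
  have hsurj : Function.Surjective π := Ideal.Quotient.mk_surjective
  haveI : IsLocalRing (A ⧸ p.asIdeal) := IsLocalRing.of_surjective' π hsurj
  have hker : RingHom.ker π ≤ q.asIdeal := by rw [Ideal.mk_ker]; exact hpq
  have key := prime_eq_max_of_forall_le (I.map π)
    (fun h0 => hIp (by rwa [Ideal.map_eq_bot_iff_le_ker, Ideal.mk_ker] at h0))
    (fun q' hq' hq'0 => by
      haveI := hq'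
      rw [Ideal.map_le_iff_le_comap]
      let r : PrimeSpectrum A := ⟨q'.comap π, inferInstance⟩
      have hpr : p.asIdeal < r.asIdeal := by
        refine lt_of_le_of_ne (fun a ha => ?_) (fun heq => hq'0 ?_)
        · show π a ∈ q'
          rw [Ideal.Quotient.eq_zero_iff_mem.mpr ha]; exact q'.zero_mem
        · rw [← Ideal.map_comap_of_surjective π hsurj q']
          show Ideal.map π r.asIdeal = ⊥
          rw [← heq, Ideal.map_quotient_self]
      have hr : r ∈ Wᶜ := fun hrW => hmax _ ⟨r, hrW, rfl⟩ hpr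
      rw [hI] at hr
      exact (PrimeSpectrum.mem_zeroLocus _ _).mp hr)
    (q.asIdeal.map π) (Ideal.map_isPrime_of_surjective hsurj hker)
    (fun h0 => hcon.1 (by
      rw [Ideal.map_eq_bot_iff_le_ker, Ideal.mk_ker] at h0
      exact PrimeSpectrum.ext (le_antisymm h0 hpq)))
  apply hcon.2
  apply PrimeSpectrum.ext
  refine le_antisymm (IsLocalRing.le_maximalIdeal q.isPrime.ne_top) ?_
  intro a ha
  have h1 : π a ∈ IsLocalRing.maximalIdeal (A ⧸ p.asIdeal) := by
    rw [IsLocalRing.mem_maximalIdeal, mem_nonunits_iff]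
    intro hu
    obtain ⟨b, hb⟩ := hu.exists_right_inv
    obtain ⟨b, rfl⟩ := hsurj b
    have hmem : a * b - 1 ∈ p.asIdeal := by
      rw [← Ideal.Quotient.eq_zero_iff_mem]
      show π (a * b - 1) = 0
      rw [map_sub, map_mul, hb, map_one, sub_self]
    have h1m : (1 : A) ∈ IsLocalRing.maximalIdeal A := by
      have h3 := IsLocalRing.le_maximalIdeal p.isPrime.ne_top hmem
      have h4 : a * b ∈ IsLocalRing.maximalIdeal A := Ideal.mul_mem_right b _ ha
      simpa using Submodule.sub_mem _ h4 h3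
    exact (IsLocalRing.maximalIdeal.isMaximal A).ne_top ((Ideal.eq_top_iff_one _).mpr h1m)
  rw [← key] at h1
  obtain ⟨a', ha', he⟩ := (Ideal.mem_map_iff_of_surjective π hsurj).mp h1
  have : a - a' ∈ q.asIdeal := hpq (Ideal.Quotient.eq.mp he.symm)
  simpa using Ideal.add_mem _ this ha'

theorem isOpen_singleton_of_isClosed_of_minimal {F : Scheme.{u}} [IsLocallyNoetherian F] (x : F)
    (hcl : IsClosed ({x} : Set F)) (hmin : ∀ y : F, y ⤳ x → y = x) : IsOpen ({x} : Set F) := by
  obtain ⟨V, hV, hxV, -⟩ := exists_isAffineOpen_mem_and_subset (x := x) (U := ⊤) (Set.mem_univ _)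
  haveI := IsLocallyNoetherian.component_noetherian (X := F) ⟨V, hV⟩
  haveI : NoetherianSpace ↥(V : Set F) :=
    AlgebraicGeometry.noetherianSpace_of_isAffineOpen V hV
  haveI : QuasiSober ↥(V : Set F) := V.2.isOpenEmbedding_subtypeVal.quasiSober
  let xv : ↥(V : Set F) := ⟨x, hxV⟩
  have hmin' : ∀ y : ↥(V : Set F), y ⤳ xv → y = xv := fun y hy =>
    Subtype.ext (hmin y.1 (hy.map continuous_subtype_val))
  let Cs : Set (Set ↥(V : Set F)) := {Z ∈ irreducibleComponents ↥(V : Set F) | xv ∉ Z}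
  have hfin : Cs.Finite := NoetherianSpace.finite_irreducibleComponents.subset fun Z h => h.1
  have heq : ({xv} : Set ↥(V : Set F)) = (⋃ Z ∈ Cs, Z)ᶜ := by
    ext y
    simp only [Set.mem_singleton_iff, Set.mem_compl_iff, Set.mem_iUnion, not_exists]
    refine ⟨fun h Z hZ hyZ => hZ.2 (h ▸ hyZ), fun h => ?_⟩
    have hZ := irreducibleComponent_mem_irreducibleComponents y
    have hxZ : xv ∈ irreducibleComponent y := by
      by_contra hc
      exact h _ ⟨hZ, hc⟩ mem_irreducibleComponent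
    obtain ⟨ξ, hξ⟩ := QuasiSober.sober isIrreducible_irreducibleComponent
      (isClosed_irreducibleComponent (x := y))
    have hx' : ξ = xv := hmin' ξ (hξ.specializes hxZ)
    have hy := hξ.specializes (mem_irreducibleComponent (x := y))
    rw [hx'] at hy
    exact Subtype.ext (Set.mem_singleton_iff.mp ((hy.map continuous_subtype_val).mem_closed hcl rfl))
  have hopen : IsOpen ({xv} : Set ↥(V : Set F)) := by
    rw [heq]
    exact (hfin.isClosed_biUnion fun Z hZ => isClosed_of_mem_irreducibleComponents Z hZ.1).isOpen_compl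
  have := V.2.isOpenMap_subtype_val _ hopen
  rwa [Set.image_singleton] at this


open AlgebraicGeometry CategoryTheory Limits in
/-- Let f : X → S be locally of finite type with S locally Noetherian, x a point closed in its fibre,
and U an open of X containing a point x' specializing to x with f x' ≠ f x. Then there is a closed
subscheme Z of X passing through x such that Z → S is quasi-finite at x and Z contains a point z ∈ U
with z ⤳ x and f z ≠ f x. -/
theorem result {X S : Scheme.{u}} (f : X ⟶ S) [LocallyOfFiniteType f] [IsLocallyNoetherian S] (x : X)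
    (hcl : IsClosed (Subtype.val ⁻¹' {x} : Set ↑(f ⁻¹' {f x}))) (U : X.Opens) (hx' : ∃ x' : X, x' ∈ U ∧ x' ⤳ x ∧ f x' ≠ f x) :
    ∃ (I : X.IdealSheafData) (z₀ x₀ : ↑I.subscheme), I.subschemeι x₀ = x ∧ (I.subschemeι ≫ f).QuasiFiniteAt x₀ ∧
      I.subschemeι z₀ ∈ U ∧ I.subschemeι z₀ ⤳ x ∧ f (I.subschemeι z₀) ≠ f x := by
  obtain ⟨x', hx'U, hx's, hx'f⟩ := hx'
  haveI : IsLocallyNoetherian X := LocallyOfFiniteType.isLocallyNoetherian f
  let C : Set S := closure {f x}
  let O : Set X := (U : Set X) ∩ (f ⁻¹' Cᶜ)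
  have hO : IsOpen O := U.2.inter (isClosed_closure.isOpen_compl.preimage f.continuous)
  have mem_O : ∀ a : X, a ⤳ x → (a ∈ O ↔ a ∈ U ∧ f a ≠ f x) := by
    intro a ha
    refine and_congr_right fun _ => ?_
    show f a ∉ C ↔ _
    refine not_congr ⟨fun h => ?_, fun h => by rw [h]; exact subset_closure rfl⟩
    exact ((ha.map f.continuous).antisymm (specializes_iff_mem_closure.mpr h)).eq
  let g := X.fromSpecStalk x
  have hrange : Set.range g = {a | a ⤳ x} := Scheme.range_fromSpecStalk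
  obtain ⟨p₀, hp₀⟩ : x' ∈ Set.range g := by rw [hrange]; exact hx's
  obtain ⟨p, hpW, hpmax⟩ := exists_maximal_in_open (A := X.presheaf.stalk x)
    (g ⁻¹' O) (hO.preimage g.continuous) ⟨p₀, by
      show g p₀ ∈ O
      rw [hp₀]; exact (mem_O x' hx's).mpr ⟨hx'U, hx'f⟩⟩
  let z : X := g p
  have hzx : z ⤳ x := by
    have : z ∈ Set.range g := ⟨p, rfl⟩
    rwa [hrange] at this
  obtain ⟨hzU, hzf⟩ := (mem_O z hzx).mp hpW
  let I : X.IdealSheafData :=
    Scheme.IdealSheafData.vanishingIdeal ⟨closure {z}, isClosed_closure⟩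
  have hI : Set.range I.subschemeι = closure {z} := by
    rw [Scheme.IdealSheafData.range_subschemeι, Scheme.IdealSheafData.coe_support_vanishingIdeal]
    rfl
  obtain ⟨z₀, hz₀⟩ : z ∈ Set.range I.subschemeι := hI ▸ subset_closure rfl
  obtain ⟨x₀, hx₀⟩ : x ∈ Set.range I.subschemeι := hI ▸ specializes_iff_mem_closure.mp hzx
  refine ⟨I, z₀, x₀, hx₀, ?_, by rwa [hz₀], by rwa [hz₀], by rwa [hz₀]⟩
  let h := I.subschemeι ≫ f
  rw [Scheme.Hom.quasiFiniteAt_iff_isOpen_singleton_asFiber]
  haveI : LocallyOfFiniteType (h.fiberToSpecResidueField (h x₀)) :=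
    MorphismProperty.pullback_snd _ _ inferInstance
  haveI : IsLocallyNoetherian (h.fiber (h x₀)) :=
    LocallyOfFiniteType.isLocallyNoetherian (h.fiberToSpecResidueField (h x₀))
  let w := h.asFiber x₀
  let ψ := fun y : h.fiber (h x₀) => I.subschemeι (h.fiberι (h x₀) y)
  have hψc : Continuous ψ := I.subschemeι.continuous.comp (h.fiberι (h x₀)).continuous
  have hψinj : Function.Injective ψ :=
    I.subschemeι.isClosedEmbedding.injective.comp (h.fiberι (h x₀)).isEmbedding.injective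
  have hψw : ψ w = x := by
    show I.subschemeι (h.fiberι _ (h.asFiber x₀)) = x
    rw [Scheme.Hom.fiberι_asFiber, hx₀]
  have hhx : h x₀ = f x := by
    show f (I.subschemeι x₀) = f x
    rw [hx₀]
  have hψf : ∀ y, f (ψ y) = f x := by
    intro y
    have : h.fiberι (h x₀) y ∈ h ⁻¹' {h x₀} := h.range_fiberι (h x₀) ▸ Set.mem_range_self y
    exact this.trans hhx
  apply isOpen_singleton_of_isClosed_of_minimal
  · have hc : IsClosed ((fun y => (⟨ψ y, hψf y⟩ : ↑(f ⁻¹' {f x}))) ⁻¹' (Subtype.val ⁻¹' {x})) :=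
      hcl.preimage (hψc.subtype_mk _)
    convert hc
    ext y
    simp only [Set.mem_singleton_iff, Set.mem_preimage]
    exact ⟨fun e => e ▸ hψw, fun e => hψinj (e.trans hψw.symm)⟩
  · intro y hy
    apply hψinj
    rw [hψw]
    have hyx : ψ y ⤳ x := hψw ▸ hy.map hψc
    have hzy : z ⤳ ψ y := by
      rw [specializes_iff_mem_closure, ← hI]
      exact Set.mem_range_self _
    obtain ⟨q, hq⟩ : ψ y ∈ Set.range g := by rw [hrange]; exact hyx
    have hpq : p ≤ q := by
      rw [PrimeSpectrum.le_iff_specializes]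
      exact (g.isEmbedding.isInducing.specializes_iff).mp (by rw [hq]; exact hzy)
    rcases hpmax q hpq with rfl | rfl
    · refine absurd ?_ hzf
      show f (g q) = f x
      rw [hq]; exact hψf y
    · rw [← hq]; exact Scheme.fromSpecStalk_closedPoint

end Groth.Agent.S1411
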