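import Groth.Statements.S1561
import Groth.Agent.GeomRedFieldLib.Scheme
import Groth.Agent.CohenLib.SmoothPoint
-- import your own Groth.Agent.* helpers here

set_option autoImplicit false
universe u
open CategoryTheory CategoryTheory.Limits AlgebraicGeometry
open Variety

namespace Groth.Agent.S1561

/-- Let X be reduced and locally of finite type over a perfect field k. Then a point lies in the smooth
locus of X → Spec k exactly when its local ring is regular, and this locus is dense in X. -/
theorem result (k : Type u) [Field k] (X : Scheme.{u}) [X.Over (Spec (CommRingCat.of k))] [PerfectField k] [IsReduced X]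
    [LocallyOfFinitePresentation (X ↘ (Spec (CommRingCat.of k)))] :
    (∀ x : X, x ∈ (X ↘ (Spec (CommRingCat.of k))).smoothLocus ↔ IsRegularLocalRing (X.presheaf.stalk x)) ∧
      Dense ((X ↘ (Spec (CommRingCat.of k))).smoothLocus : Set X) := by
  let f := X ↘ Spec (CommRingCat.of k)
  refine ⟨fun x ↦ ?_, f.dense_smoothLocus_of_perfectField⟩
  obtain ⟨_, ⟨U : X.Opens, hU, rfl⟩, hxU, -⟩ :=
    X.isBasis_affineOpens.exists_subset_of_mem_open (Set.mem_univ x) isOpen_univ
  obtain ⟨T, _, _, j, hjo, hr, hj⟩ := GeomRedFieldLib.exists_algebra f hU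
  haveI := hjo
  haveI := GeomRedFieldLib.finiteType_of_chart f j hj
  obtain ⟨q₀, rfl⟩ : x ∈ Set.range j := by rw [hr]; exact hxU
  let q : PrimeSpectrum T := q₀
  show j q ∈ f.smoothLocus ↔ IsRegularLocalRing (X.presheaf.stalk (j q))
  haveI : Algebra.IsGeometricallyReduced k (PrimeSpectrum.asIdeal q).ResidueField :=
    GeomRedFieldLib.isGeometricallyReduced_of_perfect k _ (isReduced_of_injective (Algebra.TensorProduct.lid k _) (AlgEquiv.injective _))
  rw [GeomRedFieldLib.mem_smoothLocus_chart f j hj q, CohenLib.isSmoothAt_iff_isRegularLocalRing k T]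
  let e1 := (asIso (j.stalkMap q)).commRingCatIsoToRingEquiv
  let e2 := (Spec.stalkIso (CommRingCat.of T) q).commRingCatIsoToRingEquiv
  let e := e1.trans e2
  exact ⟨fun h ↦ IsRegularLocalRing.of_ringEquiv e.symm, fun h ↦ IsRegularLocalRing.of_ringEquiv e⟩

end Groth.Agent.S1561
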