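import Groth.Statements.S7689
import Groth.Agent.NormDimOneLib.Cokernel
import Groth.Agent.DevissLib.Basic
import Groth.Agent.NormalLib.Transfer
import Mathlib.AlgebraicGeometry.Morphisms.IsIso

set_option autoImplicit false
universe u
open CategoryTheory CategoryTheory.Limits AlgebraicGeometry
open Variety

namespace Groth.Agent.S7689
open TopologicalSpace

variable (X : Scheme.{u}) [IsIntegral X] [QuasiCompact (X.fromSpecStalk (genericPoint X))]
  [QuasiSeparated (X.fromSpecStalk (genericPoint X))]

theorem finite_app (hN : ∀ U : X.affineOpens, CAlg.IsNagata Γ(X, (U : X.Opens))) (U : X.affineOpens) :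
    ((Curv2.normalizationι X).app U.1).hom.Finite := by
  haveI := NormDimOneLib.isIntegralHom_normalizationι X
  by_cases hne : Nonempty U.1
  · obtain ⟨ψ, hψ, hψa, -, -⟩ := NormDimOneLib.exists_chart X U
    haveI := (hN U).1
    haveI : IsFractionRing Γ(X, U.1) X.functionField := functionField_isFractionRing_of_isAffineOpen X _ U.2
    letI : Algebra Γ(X, U.1) X.functionField := (X.germToFunctionField U.1).hom.toAlgebra
    let e := FractionRing.algEquiv Γ(X, U.1) X.functionField
    letI : Algebra (FractionRing Γ(X, U.1)) X.functionField := e.toRingEquiv.toRingHom.toAlgebra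
    haveI : IsScalarTower Γ(X, U.1) (FractionRing Γ(X, U.1)) X.functionField :=
      IsScalarTower.of_algebraMap_eq fun r => (e.commutes r).symm
    haveI : FiniteDimensional (FractionRing Γ(X, U.1)) X.functionField :=
      Module.Finite.of_surjective (Algebra.linearMap (FractionRing Γ(X, U.1)) X.functionField) e.surjective
    haveI : Module.Finite Γ(X, U.1) (integralClosure Γ(X, U.1) X.functionField) :=
      NormalLib.isN2_of_ringEquiv (RingEquiv.quotientBot Γ(X, U.1)) ((hN U).2 ⊥) X.functionField inferInstance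
    letI := ((Curv2.normalizationι X).app U.1).hom.toAlgebra
    letI := ψ.toAlgebra
    haveI : IsScalarTower Γ(X, U.1) Γ(Curv2.normalization X, Curv2.normalizationι X ⁻¹ᵁ U.1) X.functionField :=
      IsScalarTower.of_algebraMap_eq fun a => (hψa a).symm
    let φ := (IsScalarTower.toAlgHom Γ(X, U.1) Γ(Curv2.normalization X, Curv2.normalizationι X ⁻¹ᵁ U.1)
      X.functionField).codRestrict (integralClosure Γ(X, U.1) X.functionField) fun b =>
        (show IsIntegral Γ(X, U.1) b from (Curv2.normalizationι X).isIntegral_app U.1 U.2 b).algebraMap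
    exact Module.Finite.of_injective φ.toLinearMap fun a b h => hψ (congrArg Subtype.val h)
  · have : IsEmpty (Curv2.normalizationι X ⁻¹ᵁ U.1 : (Curv2.normalization X).Opens) :=
      ⟨fun q => hne ⟨⟨_, q.2⟩⟩⟩
    haveI : Subsingleton Γ(Curv2.normalization X, Curv2.normalizationι X ⁻¹ᵁ U.1) := by
      constructor
      intro a b
      exact TopCat.Sheaf.eq_of_locally_eq' (Curv2.normalization X).sheaf (fun i : Empty => i.elim) _
        (fun i => i.elim) (fun q hq => (this.false ⟨q, hq⟩).elim) a b fun i => i.elim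
    exact RingHom.Finite.of_surjective _ fun b => ⟨0, Subsingleton.elim _ _⟩

theorem mem_range_of_clear {R A K : Type u} [CommRing R] [CommRing A] [Field K] [Algebra R A] [Algebra A K]
    [Algebra R K] [IsScalarTower R A K] (s : R) [IsLocalization.Away s A]
    (h : ∀ z : K, IsIntegral R z → ∃ r, algebraMap R K r = algebraMap R K s * z) (z : K) (hz : IsIntegral A z) :
    z ∈ Set.range (algebraMap A K) := by
  obtain ⟨⟨_, k, rfl⟩, hk⟩ := IsIntegral.exists_multiple_integral_of_isLocalization (Submonoid.powers s) z hz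
  obtain ⟨r, hr⟩ := h _ hk
  obtain ⟨v, hv⟩ := IsLocalization.map_units (M := Submonoid.powers s) A (⟨s ^ (k + 1), k + 1, rfl⟩ : Submonoid.powers s)
  refine ⟨↑v⁻¹ * algebraMap R A r, ?_⟩
  have h1 : algebraMap R K r = algebraMap R K (s ^ (k + 1)) * z := by
    rw [hr, Submonoid.smul_def, Algebra.smul_def, ← mul_assoc, pow_succ', map_mul]
  rw [map_mul, ← IsScalarTower.algebraMap_apply, h1, IsScalarTower.algebraMap_apply R A K, ← hv, ← mul_assoc,
    ← map_mul, Units.inv_mul, map_one, one_mul]

set_option maxHeartbeats 200000 in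
theorem exists_iso_open (hN : ∀ U : X.affineOpens, CAlg.IsNagata Γ(X, (U : X.Opens))) :
    ∃ U : X.Opens, Dense ((U : Set X)) ∧ IsIso (Curv2.normalizationι X ∣_ U) := by
  haveI := NormDimOneLib.isIntegralHom_normalizationι X
  obtain ⟨U, hU, hη, -⟩ := exists_isAffineOpen_mem_and_subset (U := (⊤ : X.Opens)) (x := genericPoint X) trivial
  haveI : Nonempty U := ⟨⟨_, hη⟩⟩
  obtain ⟨ψ, hψ, hψa, -, hψr⟩ := NormDimOneLib.exists_chart X ⟨U, hU⟩
  have hfin := finite_app X hN ⟨U, hU⟩
  letI := ((Curv2.normalizationι X).app U).hom.toAlgebra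
  haveI : Module.Finite Γ(X, U) Γ(Curv2.normalization X, Curv2.normalizationι X ⁻¹ᵁ U) := hfin
  letI : Algebra Γ(X, U) X.functionField := (X.germToFunctionField U).hom.toAlgebra
  haveI : IsFractionRing Γ(X, U) X.functionField := functionField_isFractionRing_of_isAffineOpen X _ hU
  classical
  obtain ⟨T, hT⟩ := Module.Finite.fg_top (R := Γ(X, U))
    (M := Γ(Curv2.normalization X, Curv2.normalizationι X ⁻¹ᵁ U))
  obtain ⟨s, hs⟩ := IsLocalization.exist_integer_multiples_of_finset (nonZeroDivisors Γ(X, U))
    (S := X.functionField) (T.image ψ)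
  have hclear : ∀ b, ∃ r : Γ(X, U), (X.germToFunctionField U).hom r =
      (X.germToFunctionField U).hom s * ψ b := by
    intro b
    have hb : b ∈ Submodule.span Γ(X, U) (T : Set _) := hT.symm ▸ Submodule.mem_top
    induction hb using Submodule.span_induction with
    | mem t ht =>
      obtain ⟨r, hr⟩ := hs (ψ t) (Finset.mem_image_of_mem ψ ht)
      exact ⟨r, hr.trans (Algebra.smul_def _ _)⟩
    | zero => exact ⟨0, by rw [map_zero, map_zero, mul_zero]⟩
    | add a b _ _ iha ihb =>
      obtain ⟨r, hr⟩ := iha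
      obtain ⟨t, ht⟩ := ihb
      exact ⟨r + t, by rw [map_add, hr, ht, map_add, mul_add]⟩
    | smul c a _ iha =>
      obtain ⟨r, hr⟩ := iha
      refine ⟨c * r, ?_⟩
      show _ = _ * ψ (((Curv2.normalizationι X).app U).hom c * a)
      rw [map_mul, map_mul, hψa, hr]
      ring
  have hV := hU.basicOpen (s : Γ(X, U))
  have hne : genericPoint X ∈ X.basicOpen (s : Γ(X, U)) := by
    rw [X.mem_basicOpen _ _ hη]
    exact IsUnit.mk0 _ (map_ne_zero_of_mem_nonZeroDivisors
      (X.germToFunctionField U).hom (Scheme.germToFunctionField_injective X U) s.2)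
  refine ⟨X.basicOpen (s : Γ(X, U)), (X.basicOpen _).isOpen.dense ⟨_, hne⟩, ?_⟩
  refine (isIso_morphismRestrict_iff_isIso_app (Curv2.normalizationι X) hV).mpr
    ((ConcreteCategory.isIso_iff_bijective ((Curv2.normalizationι X).app (X.basicOpen (s : Γ(X, U))))).mpr ?_)
  refine ⟨NormDimOneLib.app_injective X _, fun b => ?_⟩
  haveI : Nonempty (X.basicOpen (s : Γ(X, U))) := ⟨⟨_, hne⟩⟩
  obtain ⟨ψ', hψ', hψa', -, -⟩ := NormDimOneLib.exists_chart X ⟨_, hV⟩
  letI algV : Algebra Γ(X, X.basicOpen (s : Γ(X, U))) X.functionField :=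
    (X.germToFunctionField (X.basicOpen (s : Γ(X, U)))).hom.toAlgebra
  haveI : IsLocalization.Away (s : Γ(X, U)) Γ(X, X.basicOpen (s : Γ(X, U))) := hU.isLocalization_basicOpen _
  have hres : ∀ r : Γ(X, U), (X.germToFunctionField (X.basicOpen (s : Γ(X, U)))).hom
      (X.presheaf.map (homOfLE (X.basicOpen_le _)).op r) = (X.germToFunctionField U).hom r := fun r =>
    TopCat.Presheaf.germ_res_apply X.presheaf _ _ hne r
  haveI : IsScalarTower Γ(X, U) Γ(X, X.basicOpen (s : Γ(X, U))) X.functionField :=
    IsScalarTower.of_algebraMap_eq fun r => (hres r).symm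
  have hint : IsIntegral Γ(X, X.basicOpen (s : Γ(X, U))) (ψ' b) := by
    letI := ((Curv2.normalizationι X).app (X.basicOpen (s : Γ(X, U)))).hom.toAlgebra
    letI := ψ'.toAlgebra
    haveI : IsScalarTower Γ(X, X.basicOpen (s : Γ(X, U)))
        Γ(Curv2.normalization X, Curv2.normalizationι X ⁻¹ᵁ X.basicOpen (s : Γ(X, U))) X.functionField :=
      IsScalarTower.of_algebraMap_eq fun a => (hψa' a).symm
    exact (show IsIntegral Γ(X, X.basicOpen (s : Γ(X, U))) b from
      (Curv2.normalizationι X).isIntegral_app _ hV b).algebraMap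
  obtain ⟨a, ha⟩ := mem_range_of_clear (A := Γ(X, X.basicOpen (s : Γ(X, U)))) (s : Γ(X, U)) (fun z hz => by
    obtain ⟨b₀, hb₀⟩ := hψr z hz
    obtain ⟨r, hr⟩ := hclear b₀
    exact ⟨r, hr.trans (by rw [hb₀]; rfl)⟩) (ψ' b) hint
  exact ⟨a, hψ' ((hψa' a).trans ha)⟩

omit [QuasiCompact (X.fromSpecStalk (genericPoint X))] [QuasiSeparated (X.fromSpecStalk (genericPoint X))] in
theorem eq_genericPoint (hdim : topologicalKrullDim X = 1) {x : X} (hx : ¬ IsClosed ({x} : Set X)) :
    x = genericPoint X := by
  by_contra hne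
  have hcl : closure ({x} : Set X) ≠ {x} := fun h => hx (h ▸ isClosed_closure)
  obtain ⟨y, hy, hyx⟩ : ∃ y ∈ closure ({x} : Set X), y ≠ x := by
    by_contra h
    push Not at h
    exact hcl (Set.Subset.antisymm (fun y hy => h y hy) subset_closure)
  let c : X → IrreducibleCloseds X := fun p => ⟨closure {p}, isIrreducible_singleton.closure, isClosed_closure⟩
  have hle : ∀ p q : X, q ⤳ p → c p ≤ c q := fun p q h => specializes_iff_closure_subset.mp h
  have heq : ∀ p q : X, c p = c q → p = q := fun p q h =>
    (inseparable_iff_closure_eq.mpr (congrArg (fun t : IrreducibleCloseds X => (t : Set X)) h)).eq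
  have h1 : c y < c x := lt_of_le_of_ne (hle y x (specializes_iff_mem_closure.mpr hy)) fun h => hyx (heq _ _ h)
  have h2 : c x < c (genericPoint X) :=
    lt_of_le_of_ne (hle _ _ ((genericPoint_spec X).specializes trivial)) fun h => hne (heq _ _ h)
  let l : LTSeries (IrreducibleCloseds X) := ((RelSeries.singleton _ (c y)).snoc (c x) h1).snoc
    (c (genericPoint X)) (by rw [RelSeries.last_snoc]; exact h2)
  have h3 : ((l.length : ℕ) : WithBot ℕ∞) ≤ topologicalKrullDim X := Order.LTSeries.length_le_krullDim l
  rw [hdim] at h3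
  have h4 : l.length = 2 := rfl
  rw [h4] at h3
  exact absurd h3 (by decide)

/-- For an integral X: let X be an integral Nagata scheme of dimension one (every affine open has a
Nagata coordinate ring) with normalization ν : X^ν → X. Then ν is finite and birational (an
isomorphism over a dense open), O_X ⊆ ν_*O_{X^ν}, and the quotient ν_*O_{X^ν}/O_X is supported at
closed points, its stalk at a closed point x having length equal to the δ-invariant of O_{X,x}. (The
published statement is for reduced Nagata schemes of dimension one; it also says that ν is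
surjective and that the quotient is nonzero exactly at the singular points, and it describes the
stalk A' of ν_*O_{X^ν} at x, namely the integral closure of O_{X,x} in its total fraction ring, a
semi-local ring that is a finite product of Dedekind domains, together with the completions of
O_{X,x} and A'. This row takes X integral, does not restate surjectivity, which holds for the
normalization of every integral scheme, and keeps the finiteness, birationality, injectivity and
length clauses.) -/
theorem result (X : Scheme.{u}) [IsIntegral X]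
    [QuasiCompact (X.fromSpecStalk (genericPoint X))] [QuasiSeparated (X.fromSpecStalk (genericPoint X))]
    (hN : ∀ U : X.affineOpens, CAlg.IsNagata Γ(X, (U : X.Opens))) (hdim : topologicalKrullDim X = 1) :
    IsFinite (Curv2.normalizationι X) ∧
      (∃ U : X.Opens, Dense ((U : Set X)) ∧ IsIso (Curv2.normalizationι X ∣_ U)) ∧
      Mono (ClSub.unitToPush (Curv2.normalizationι X)) ∧
      (∀ x : X, IsClosed ({x} : Set X) →
        Module.length (X.presheaf.stalk x) ((cokernel (ClSub.unitToPush (Curv2.normalizationι X))).presheaf.stalk x) =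
          Curv2.deltaInv (X.presheaf.stalk x)) ∧
      (∀ x : X, ¬ IsClosed ({x} : Set X) →
        Subsingleton ((cokernel (ClSub.unitToPush (Curv2.normalizationι X))).presheaf.stalk x)) := by
  haveI := NormDimOneLib.isIntegralHom_normalizationι X
  haveI : IsLocallyNoetherian X := ⟨fun U => (hN U).1⟩
  refine ⟨{ finite_app := fun U hU => finite_app X hN ⟨U, hU⟩ }, exists_iso_open X hN,
    NormDimOneLib.mono_unitToPush X, fun x _ => ?_, fun x hx => ?_⟩
  · obtain ⟨U, hxU⟩ : ∃ U : X.affineOpens, x ∈ U.1 := by
      obtain ⟨U, hU, hxU, -⟩ := exists_isAffineOpen_mem_and_subset (U := (⊤ : X.Opens)) (x := x) trivial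
      exact ⟨⟨U, hU⟩, hxU⟩
    obtain ⟨Λ, hinj, hint, hsur, hrange⟩ := NormDimOneLib.exists_stalkMap X U hxU
    rw [NormDimOneLib.length_cokernel]
    let e := (FractionRing.algEquiv (X.presheaf.stalk x) X.functionField).symm
    let Φ : (DevissLib.St x).obj (NormDimOneLib.nuO X) →ₗ[X.presheaf.stalk x]
        ↥(integralClosure (X.presheaf.stalk x) (FractionRing (X.presheaf.stalk x))) :=
      LinearMap.codRestrict (Subalgebra.toSubmodule (integralClosure (X.presheaf.stalk x) (FractionRing (X.presheaf.stalk x))))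
        (e.toLinearMap ∘ₗ Λ) fun a => (hint a).map e.toAlgHom
    have hbij : Function.Bijective Φ := by
      refine ⟨fun a b h => hinj (e.injective (congrArg Subtype.val h)), fun z => ?_⟩
      obtain ⟨a, ha⟩ := hsur (e.symm z.1) (z.2.map e.symm.toAlgHom)
      exact ⟨a, Subtype.ext ((congrArg e ha).trans (e.apply_symm_apply _))⟩
    refine (Submodule.Quotient.equiv _ _ (LinearEquiv.ofBijective Φ hbij) ?_).length_eq
    refine (LinearMap.range_comp _ _).symm.trans ?_
    apply le_antisymm
    · rintro _ ⟨b, rfl⟩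
      obtain ⟨c, hc⟩ := hrange.le ⟨b, rfl⟩
      exact ⟨c, Subtype.ext ((e.commutes c).symm.trans (congrArg e hc))⟩
    · rintro _ ⟨c, rfl⟩
      obtain ⟨b, hb⟩ := hrange.ge ⟨c, rfl⟩
      exact ⟨b, Subtype.ext ((congrArg e hb).trans (e.commutes c))⟩
  · have heq := eq_genericPoint X hdim hx
    obtain ⟨U, hU, hxU, -⟩ := exists_isAffineOpen_mem_and_subset (U := (⊤ : X.Opens)) (x := x) trivial
    obtain ⟨Λ, hinj, -, -, hrange⟩ := NormDimOneLib.exists_stalkMap X ⟨U, hU⟩ hxU
    refine not_not.mp (DevissLib.notMem_support_cokernel _ _ fun a => ?_)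
    have hsurj : ∀ z, z ∈ LinearMap.range (Λ ∘ₗ ((DevissLib.St x).map
        (ClSub.unitToPush (Curv2.normalizationι X))).hom) := fun z => by
      rw [hrange]
      obtain ⟨V, hV, t, rfl⟩ := X.presheaf.exists_germ_eq (x := genericPoint X) z
      haveI : Nonempty V := ⟨⟨_, hV⟩⟩
      exact ⟨X.presheaf.germ V x (heq.symm ▸ hV) t, X.algebraMap_germ_eq_germToFunctionField (heq.symm ▸ hV) t⟩
    obtain ⟨b, hb⟩ := hsurj (Λ a)
    exact ⟨b, hinj hb⟩

end Groth.Agent.S7689
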