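import Groth.Statements.S5950
import Groth.Agent.LocFFLib.Norm

-- import your own Groth.Agent.* helpers here

set_option autoImplicit false
universe u
open CategoryTheory AlgebraicGeometry
open Unram17

namespace Groth.Agent.S5950

open CategoryTheory AlgebraicGeometry TopologicalSpace in
/-- The normalization is an isomorphism over a normal open. -/
theorem isIso_normalizationι_restrict (X : Scheme.{u}) [IsIntegral X]
    [QuasiCompact (X.fromSpecStalk (genericPoint X))] [QuasiSeparated (X.fromSpecStalk (genericPoint X))]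
    (V : X.Opens) (hne : (V : Set X).Nonempty) (hV : ∀ x ∈ V, IsIntegrallyClosed (X.presheaf.stalk x)) :
    IsIso (Curv2.normalizationι X ∣_ V) := by
  obtain ⟨hη, hiso⟩ := LocFFLib.normalization_bir X
  let g := Curv2.normalizationι X
  have hηV : genericPoint X ∈ V := ((genericPoint_spec X).mem_open_set_iff V.2).2 (by simpa using hne)
  have hgV : g (genericPoint (Curv2.normalization X)) ∈ V := hη.symm ▸ hηV
  haveI : Nonempty V := ⟨⟨_, hηV⟩⟩
  haveI : Nonempty (g ⁻¹ᵁ V) := ⟨⟨_, hgV⟩⟩
  haveI : IsIntegral (V : Scheme) := isIntegral_of_isOpenImmersion V.ι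
  haveI : IsIntegral (g ⁻¹ᵁ V : Scheme) := isIntegral_of_isOpenImmersion (g ⁻¹ᵁ V).ι
  haveI : IsIntegralHom (g ∣_ V) :=
    MorphismProperty.of_isPullback (isPullback_morphismRestrict g V).flip (inferInstanceAs (IsIntegralHom g))
  let ξ := genericPoint (g ⁻¹ᵁ V : Scheme)
  have hξ : (g ⁻¹ᵁ V).ι ξ = genericPoint (Curv2.normalization X) := genericPoint_eq_of_isOpenImmersion _
  have hB : PurBirLib.Bir (g ∣_ V) := by
    refine ⟨V.ι.isOpenEmbedding.injective ?_, ?_⟩
    · rw [genericPoint_eq_of_isOpenImmersion V.ι, ← Scheme.Hom.comp_apply, morphismRestrict_ι,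
        Scheme.Hom.comp_apply, hξ]
      exact hη
    · refine ((MorphismProperty.isomorphisms _).arrow_mk_iso_iff (morphismRestrictStalkMap g V ξ)).2 ?_
      change IsIso (g.stalkMap ((g ⁻¹ᵁ V).ι ξ))
      rw [hξ]
      exact hiso
  exact PurBirLib.isIso_of_isIntegralHom (g ∣_ V) hB fun y => by
    haveI := hV y.1 y.2
    exact IsIntegrallyClosed.of_equiv (V.stalkIso y).commRingCatIsoToRingEquiv.symm



/-- Let X be an integral scheme which has a nonempty (hence dense) open subset at whose points the local
rings are integrally closed, let X' ⟶ X be its normalization, and let f : Y ⟶ X be a morphism of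
schemes. Then there is an isomorphism Y ≅ X' over X if and only if: every local ring of Y is an
integrally closed domain, f is an integral morphism, and there is a dense open subset U of X whose
preimage is dense in Y and such that the restriction f⁻¹(U) ⟶ U of f is an isomorphism. (The
published statement allows X reduced with locally finitely many irreducible components and a dense
normal open subset; this row states the case of an integral X. The quasi-compactness and
quasi-separatedness binders on the generic point always hold and only serve to form the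
normalization.) -/
theorem result (X : Scheme.{u}) [IsIntegral X]
    [QuasiCompact (X.fromSpecStalk (genericPoint X))] [QuasiSeparated (X.fromSpecStalk (genericPoint X))]
    (hV : ∃ V : X.Opens, (V : Set ↥X).Nonempty ∧ ∀ x ∈ V, IsIntegrallyClosed (X.presheaf.stalk x))
    {Y : Scheme.{u}} (f : Y ⟶ X) :
    (∃ e : Y ≅ Curv2.normalization X, e.hom ≫ Curv2.normalizationι X = f) ↔
      Pi1.IsNormalScheme Y ∧ IsIntegralHom f ∧
        ∃ U : X.Opens, Dense (U : Set ↥X) ∧ Dense ((f ⁻¹ᵁ U : Y.Opens) : Set ↥Y) ∧ IsIso (f ∣_ U) := by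
  rw [LocFFLib.normalization_char X f]
  constructor
  · intro h
    obtain ⟨e, he⟩ := (LocFFLib.normalization_char X f).2 h
    obtain ⟨hn, hf, hirr, hpre, -⟩ := h
    refine ⟨hn, hf, ?_⟩
    obtain ⟨V, hne, hV⟩ := hV
    haveI := isIso_normalizationι_restrict X V hne hV
    have hη : genericPoint X ∈ V := ((genericPoint_spec X).mem_open_set_iff V.2).2 (by simpa using hne)
    refine ⟨V, V.2.dense hne, (f ⁻¹ᵁ V).2.dense ⟨genericPoint Y, ?_⟩, ?_⟩
    · have h1 : genericPoint Y ∈ f.base ⁻¹' {genericPoint X} := by rw [hpre]; rfl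
      change f (genericPoint Y) ∈ V
      rw [show f (genericPoint Y) = genericPoint X from h1]
      exact hη
    · rw [← he, morphismRestrict_comp]
      have hr : IsIso (e.hom ∣_ Curv2.normalizationι X ⁻¹ᵁ V) :=
        MorphismProperty.IsStableUnderBaseChange.of_isPullback (P := MorphismProperty.isomorphisms Scheme.{u})
          (isPullback_morphismRestrict e.hom _).flip (show IsIso e.hom from inferInstance)
      exact @IsIso.comp_isIso _ _ _ _ _ _ _ hr (isIso_normalizationι_restrict X V hne hV)
  · rintro ⟨hn, hf, U, hU, hUY, hiso⟩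
    refine ⟨hn, hf, ?_⟩
    haveI : ∀ y, IsDomain (Y.presheaf.stalk y) := fun y => (hn y).1
    haveI : IsReduced Y := isReduced_of_isReduced_stalk Y
    obtain ⟨x₀, hx₀⟩ := hU.nonempty
    haveI : Nonempty U := ⟨⟨x₀, hx₀⟩⟩
    haveI : IsIntegral (U : Scheme) := isIntegral_of_isOpenImmersion U.ι
    haveI : Nonempty (f ⁻¹ᵁ U) := ⟨inv (f ∣_ U) ⟨x₀, hx₀⟩⟩
    haveI : IsIntegral (f ⁻¹ᵁ U : Scheme) := isIntegral_of_isOpenImmersion (f ∣_ U)
    haveI : PreirreducibleSpace Y := by
      refine ⟨?_⟩
      have h1 : IsPreirreducible ((f ⁻¹ᵁ U : Y.Opens) : Set Y) :=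
        isPreirreducible_iff_preirreducibleSpace.2 (inferInstanceAs (PreirreducibleSpace (f ⁻¹ᵁ U : Scheme)))
      rw [← hUY.closure_eq]
      exact h1.closure
    haveI : IrreducibleSpace Y := ⟨⟨((f ⁻¹ᵁ U).ι (Classical.arbitrary _))⟩⟩
    haveI : IsIntegral Y := isIntegral_of_irreducibleSpace_of_isReduced Y
    have hB : PurBirLib.Bir f := PurBirLib.bir_of_open f ⟨f ⁻¹ᵁ U, hUY.nonempty, by
      rw [← morphismRestrict_ι]; infer_instance⟩
    refine ⟨inferInstance, Set.eq_singleton_iff_unique_mem.2 ⟨hB.1, fun z hz => ?_⟩, hB.2⟩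
    exact PurBirLib.eq_generic_of_map_generic f hB hz


end Groth.Agent.S5950
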