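import Groth.Statements.S5735
import Mathlib
import Groth.Agent.WeilResLib.GeomConn
import Groth.Agent.GeomIrrLib.Conn
import Groth.Agent.GeomIrrLib.Basic
import Groth.Agent.DvrDom.Scheme
import Groth.Agent.BranchLib.One
import Groth.Agent.ProperConnLib.Unibranch
import Groth.Agent.S1335

set_option autoImplicit false
universe u
open Coherent

namespace Groth.Agent.S5735

open CategoryTheory CategoryTheory.Limits AlgebraicGeometry

theorem gc_of_card_le {k : Type u} [Field k] {X : Scheme.{u}} (q : X ⟶ Spec (CommRingCat.of k)) [Nonempty X]
    (h : ENat.card (_root_.ConnectedComponents ↥(pullback q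
      (Spec.map (CommRingCat.ofHom (algebraMap k (SeparableClosure k)))))) ≤ 1) :
    GeometricallyConnected q := by
  obtain ⟨x⟩ := (inferInstance : Nonempty X)
  haveI : Nonempty ↥(pullback q (Spec.map (CommRingCat.ofHom (algebraMap k (SeparableClosure k))))) := by
    obtain ⟨z, -⟩ := Scheme.Pullback.exists_preimage_pullback x
      (Classical.arbitrary ↥(Spec (CommRingCat.of (SeparableClosure k)))) (f := q)
      (g := Spec.map (CommRingCat.ofHom (algebraMap k (SeparableClosure k)))) (Subsingleton.elim _ _)
    exact ⟨z⟩
  haveI := (ENat.card_le_one_iff_subsingleton _).1 h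
  haveI : ConnectedSpace ↥(ConnBC.BC q (SeparableClosure k)) :=
    connectedSpace_iff_connectedComponent.2 ⟨Classical.arbitrary _, Set.eq_univ_of_forall fun y =>
      ConnectedComponents.coe_eq_coe'.1 (Subsingleton.elim _ _)⟩
  exact GeomIrrLib.gc_of_connected_sepClosure q

theorem mem_range_of_separable_of_pow {k K : Type u} [Field k] [Field K] [Algebra k K] {a : K}
    (hs : IsSeparable k a) (n : ℕ) (hn : a ^ ringExpChar k ^ n ∈ (algebraMap k K).range) :
    a ∈ (algebraMap k K).range := by
  haveI := ringExpChar.expChar k
  have h1 := (minpoly.natSepDegree_eq_one_iff_pow_mem (ringExpChar k)).2 ⟨n, hn⟩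
  rw [Polynomial.natSepDegree_eq_natDegree_of_separable _ hs] at h1
  exact minpoly.natDegree_eq_one_iff.1 h1

theorem gc_fiber_of_generic {X Y : Scheme.{u}} [IsIntegral X] (f : X ⟶ Y)
    (h : ∀ a : X.residueField (genericPoint X),
      letI := (f.residueFieldMap (genericPoint X)).hom.toAlgebra
      IsSeparable (Y.residueField (f (genericPoint X))) a → a ∈ (f.residueFieldMap (genericPoint X)).hom.range) :
    GeometricallyConnected (f.fiberToSpecResidueField (f (genericPoint X))) := by
  let ξ := genericPoint X
  let F := f.fiber (f ξ)
  let q : F ⟶ Spec (CommRingCat.of (Y.residueField (f ξ))) := f.fiberToSpecResidueField (f ξ)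
  have hlt : ∀ z : F, f.asFiber ξ ⤳ z := fun z =>
    (f.fiberι (f ξ)).isEmbedding.isInducing.specializes_iff.1 (by
      rw [f.fiberι_asFiber]; exact (genericPoint_spec X).specializes trivial)
  have hgp : IsGenericPoint (f.asFiber ξ) (Set.univ : Set F) :=
    Set.eq_univ_of_forall fun z => (hlt z).mem_closure
  haveI : IrreducibleSpace F := by
    have hi : IsIrreducible (Set.univ : Set F) := hgp.isIrreducible
    exact { isPreirreducible_univ := hi.2, toNonempty := ⟨f.asFiber ξ⟩ }
  letI := (f.residueFieldMap ξ).hom.toAlgebra
  haveI : GeometricallyIrreducible q := by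
    refine (GeomIrrLib.gi_iff_generic (k := Y.residueField (f ξ)) q (X.residueField ξ) (f.asFiberHom ξ) ?_ ?_).2
      fun a ha => h a ha
    · rw [f.range_asFiberHom, (genericPoint_spec F).eq hgp]
    · exact (f.asFiberHom_fiberToSpecResidueField ξ).symm
  exact Groth.Agent.WeilRes.geometricallyConnected_of_geometricallyIrreducible q

theorem isIso_stalkSpecializes (Y : Scheme.{u}) {a c : Y} (h : a = c) (hs : a ⤳ c) :
    IsIso (Y.presheaf.stalkSpecializes hs) := by
  subst h
  rw [TopCat.Presheaf.stalkSpecializes_refl]
  infer_instance

theorem gc_generic {X Y : Scheme.{u}} [IsIntegral X] [IsIntegral Y] (f : X ⟶ Y)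
    (hη : f (genericPoint X) = genericPoint Y) (hdom : f.base (genericPoint X) ⤳ genericPoint Y)
    (hrad : ∀ x : X.functionField,
      (∃ q : Polynomial Y.functionField, q ≠ 0 ∧
        Polynomial.eval₂ (CohIII.stalkToFunctionField f (genericPoint Y) hdom) x q = 0) →
      ∃ e : ℕ, x ^ (ringExpChar X.functionField ^ e) ∈
        Set.range (CohIII.stalkToFunctionField f (genericPoint Y) hdom)) :
    GeometricallyConnected (f.fiberToSpecResidueField (genericPoint Y)) := by
  haveI := isIso_stalkSpecializes Y hη hdom
  rw [← hη]
  refine gc_fiber_of_generic f fun a => ?_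
  letI := (f.residueFieldMap (genericPoint X)).hom.toAlgebra
  intro ha
  let θ := CohIII.stalkToFunctionField f (genericPoint Y) hdom
  let r : Y.functionField →+* Y.residueField (f (genericPoint X)) :=
    (Y.residue (f (genericPoint X))).hom.comp (Y.presheaf.stalkSpecializes hdom).hom
  have hr : Function.Surjective r :=
    (Y.residue_surjective _).comp (ConcreteCategory.bijective_of_isIso (Y.presheaf.stalkSpecializes hdom)).2
  let e : X.functionField →+* X.residueField (genericPoint X) := (X.residue (genericPoint X)).hom
  have hcomm : ∀ c, e (θ c) = (f.residueFieldMap (genericPoint X)).hom (r c) := fun c =>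
    (DFunLike.congr_fun (congrArg CommRingCat.Hom.hom (Scheme.residue_residueFieldMap f (genericPoint X)))
      (Y.presheaf.stalkSpecializes hdom c)).symm
  obtain ⟨x, rfl⟩ := X.residue_surjective (genericPoint X) a
  obtain ⟨p, hp⟩ := Polynomial.map_surjective r hr (minpoly _ (X.residue (genericPoint X) x))
  obtain ⟨n, c, hc⟩ := hrad x ⟨p, fun hp0 => minpoly.ne_zero (IsSeparable.isIntegral ha) (by rw [← hp, hp0, Polynomial.map_zero]), e.injective (by
    rw [Polynomial.hom_eval₂, map_zero, show e.comp θ = (f.residueFieldMap (genericPoint X)).hom.comp r from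
      RingHom.ext hcomm, ← Polynomial.eval₂_map, hp]
    exact minpoly.aeval _ _)⟩
  haveI := ringExpChar.expChar (Y.residueField (f (genericPoint X)))
  haveI : ExpChar (X.residueField (genericPoint X)) (ringExpChar (Y.residueField (f (genericPoint X)))) :=
    expChar_of_injective_ringHom (f.residueFieldMap (genericPoint X)).hom.injective _
  have hq : ringExpChar X.functionField = ringExpChar (Y.residueField (f (genericPoint X))) :=
    haveI := (RingHom.expChar_iff e e.injective (ringExpChar (Y.residueField (f (genericPoint X))))).2 ‹_›
    ringExpChar.eq _ _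
  refine mem_range_of_separable_of_pow ha n ⟨r c, ?_⟩
  show (f.residueFieldMap (genericPoint X)).hom (r c) = _
  rw [← hcomm, hc, map_pow, hq]


open AlgebraicGeometry CategoryTheory CategoryTheory.Limits in
/-- Let X and Y be locally Noetherian integral schemes and f : X → Y a proper dominant morphism which is
universally open in the following sense: for every irreducible locally Noetherian scheme Y' and
every dominant morphism g : Y' → Y, each irreducible component of X ×_Y Y' has dense image in Y'
under the second projection. Suppose that the algebraic closure of the function field R(Y) in R(X)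
is purely inseparable over R(Y): every element of R(X) satisfying a nonzero polynomial over R(Y) has
some p^e-th power coming from R(Y), p being the characteristic exponent. Then for every point y of Y
the fibre X_y is geometrically connected over the residue field k(y) (its base change to any field
extension is connected and nonempty). -/
theorem result {X Y : Scheme.{u}}
    [IsIntegral X] [IsIntegral Y] [IsLocallyNoetherian X] [IsLocallyNoetherian Y] (f : X ⟶ Y) [IsProper f]
    (hdom : f.base (genericPoint X) ⤳ genericPoint Y)
    (hopen : ∀ (Y' : Scheme.{u}) (g : Y' ⟶ Y), IrreducibleSpace ↥Y' → IsLocallyNoetherian Y' →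
      IsDominant g → ∀ Z ∈ irreducibleComponents ↥(pullback f g), Dense ((pullback.snd f g).base '' Z))
    (hrad : ∀ x : X.functionField,
      (∃ q : Polynomial Y.functionField, q ≠ 0 ∧
        Polynomial.eval₂ (CohIII.stalkToFunctionField f (genericPoint Y) hdom) x q = 0) →
      ∃ e : ℕ, x ^ (ringExpChar X.functionField ^ e) ∈
        Set.range (CohIII.stalkToFunctionField f (genericPoint Y) hdom))
    (y : Y) : GeometricallyConnected (f.fiberToSpecResidueField y) := by
  have hη : f (genericPoint X) = genericPoint Y :=
    (hdom.antisymm ((genericPoint_spec Y).specializes trivial)).eq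
  have hsurj : Function.Surjective f := fun y => by
    obtain ⟨x, hx⟩ : y ∈ Set.range f.base :=
      (hdom.trans ((genericPoint_spec Y).specializes trivial)).mem_closed f.isClosedMap.isClosed_range (Set.mem_range_self _)
    exact ⟨x, hx⟩
  have hgen : GeometricallyConnected (f.fiberToSpecResidueField (genericPoint Y)) := gc_generic f hη hdom hrad
  by_cases hy : y = genericPoint Y
  · rw [hy]; exact hgen
  obtain ⟨A, h, hA, hc, hg⟩ := DvrDomLib.exists_dvr_through_specialization (𝟙 Y) (genericPoint Y) y
    ((genericPoint_spec Y).specializes trivial) hy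
  let T := Spec (CommRingCat.of A)
  have hh : h (ProperConnLib.genPt A) = genericPoint Y := by
    have := congrArg (fun m : Spec (Y.residueField (genericPoint Y)) ⟶ Y => m (IsLocalRing.closedPoint _)) hg
    simp only [Category.comp_id] at this
    rw [Scheme.Hom.comp_apply, Scheme.fromSpecResidueField_apply] at this
    refine (congrArg h ?_).trans this
    refine PrimeSpectrum.ext ?_
    show (⊥ : Ideal A) = Ideal.comap A.subtype (IsLocalRing.maximalIdeal _)
    rw [IsLocalRing.maximalIdeal_eq_bot, ← RingHom.ker_eq_comap_bot,
      (RingHom.injective_iff_ker_eq_bot A.subtype).1 Subtype.val_injective]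
  haveI : IsDominant h := ⟨fun z =>
    closure_mono (s := {genericPoint Y}) (Set.singleton_subset_iff.2 (show genericPoint Y ∈ Set.range h from ⟨_, hh⟩)) (((genericPoint_spec Y).specializes trivial).mem_closure)⟩
  haveI : IsDomain (CommRingCat.of A) := inferInstanceAs (IsDomain A)
  haveI : IrreducibleSpace T := inferInstanceAs (IrreducibleSpace (PrimeSpectrum A))
  haveI : IsNoetherianRing (CommRingCat.of A) := inferInstanceAs (IsNoetherianRing A)
  haveI : IsLocallyNoetherian T := inferInstance
  let b := pullback.snd f h
  have hb : ∀ Z ∈ irreducibleComponents (↥(pullback f h) : Type u), closure (b.base '' Z) = Set.univ := fun Z hZ =>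
    (hopen T h inferInstance inferInstance inferInstance Z hZ).closure_eq
  have hU : CAlg2.IsGeomUnibranch (T.presheaf.stalk (IsLocalRing.closedPoint A)) := by
    haveI : IsIntegral T := inferInstance
    let R := CommRingCat.of A
    letI : Algebra R ((Spec R).presheaf.stalk (IsLocalRing.closedPoint A)) :=
      (StructureSheaf.toStalk R (IsLocalRing.closedPoint A)).hom.toAlgebra
    haveI : IsIntegrallyClosed R := inferInstanceAs (IsIntegrallyClosed A)
    haveI : IsIntegrallyClosed ((Spec R).presheaf.stalk (IsLocalRing.closedPoint A)) :=
      haveI : IsLocalization.AtPrime ((Spec R).presheaf.stalk (IsLocalRing.closedPoint A))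
          (IsLocalRing.closedPoint A).asIdeal := StructureSheaf.IsLocalization.to_stalk R _
      isIntegrallyClosed_of_isLocalization _
        (IsLocalRing.closedPoint A).asIdeal.primeCompl (Ideal.primeCompl_le_nonZeroDivisors _)
    exact BranchLib.isGeomUnibranch_of_isIntegrallyClosed _
  have h1 : MoreMor.nGeomConnComp b (IsLocalRing.closedPoint A) ≤ MoreMor.nGeomConnComp b (ProperConnLib.genPt A) :=
    ProperConnLib.nGeomConnComp_le_of_unibranch b hb _ hU
      ((PrimeSpectrum.le_iff_specializes _ _).1 bot_le)
  rw [Groth.Agent.S1335.result f b (pullback.fst f h) h (IsPullback.of_hasPullback f h),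
    Groth.Agent.S1335.result f b (pullback.fst f h) h (IsPullback.of_hasPullback f h), hc, hh] at h1
  have h2 : MoreMor.nGeomConnComp f (genericPoint Y) ≤ 1 := by
    haveI := hgen
    haveI : ConnectedSpace ↥(MoreMor.geomFiber f (genericPoint Y)) :=
      GeometricallyConnected.geometrically_connectedSpace _ _ _ (.of_hasPullback _ _)
    haveI : Subsingleton (_root_.ConnectedComponents ↥(MoreMor.geomFiber f (genericPoint Y))) := ⟨fun a c => by
      obtain ⟨a, rfl⟩ := ConnectedComponents.surjective_coe a
      obtain ⟨c, rfl⟩ := ConnectedComponents.surjective_coe c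
      exact ConnectedComponents.coe_eq_coe.2 (by rw [PreconnectedSpace.connectedComponent_eq_univ, PreconnectedSpace.connectedComponent_eq_univ])⟩
    exact (ENat.card_le_one_iff_subsingleton _).2 inferInstance
  haveI : Nonempty ↥(f.fiber y) := by
    obtain ⟨x, rfl⟩ := hsurj y
    exact ⟨f.asFiber x⟩
  exact gc_of_card_le (k := Y.residueField y) (f.fiberToSpecResidueField y) (h1.trans h2)

end Groth.Agent.S5735
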