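import Groth.Statements.S3082
import Mathlib.CategoryTheory.Sites.EpiMono
import Mathlib.CategoryTheory.Sites.Whiskering
import Mathlib.CategoryTheory.Sites.LeftExact
import Mathlib.CategoryTheory.Sites.LocallyBijective
import Mathlib.CategoryTheory.Sites.LocallySurjective
-- import your own Groth.Agent.* helpers here

set_option autoImplicit false
set_option linter.style.haveILetI false
universe u
open CategoryTheory
open SGA4

namespace Groth.Agent.S3082

/-- Let (C, J) be a small site and G a set of objects of C such that each object of C has a covering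
family whose members all lie in G. Then the sheafifications of the presheaves represented by the
members of G form a detecting family in the category Sh(C, J) of set-valued sheaves on (C, J): any
morphism of sheaves that is bijective on sections over each member of G is an isomorphism. -/
theorem result {C : Type u} [SmallCategory C] (J : GrothendieckTopology C) (G : Set C)
    (hG : ∀ X : C, ∃ (ι : Type u) (Y : ι → C) (f : ∀ i, Y i ⟶ X), Sieve.ofArrows Y f ∈ J X ∧ ∀ i, Y i ∈ G) :
    (ObjectProperty.ofObj fun X : G => (presheafToSheaf J (Type u)).obj (yoneda.obj (X : C))).IsDetecting := by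
  intro A B f hf
  let L := presheafToSheaf J (Type u)
  let ev : ∀ (X : C) (Y : Sheaf J (Type u)), (L.obj (yoneda.obj X) ⟶ Y) ≃ Y.obj.obj (Opposite.op X) :=
    fun X Y => ((sheafificationAdjunction J (Type u)).homEquiv _ _).trans yonedaEquiv
  have hev : ∀ (X : C) (p : L.obj (yoneda.obj X) ⟶ A), ev X B (p ≫ f) = f.hom.app _ (ev X A p) :=
    fun X p => by
      simp only [ev, Equiv.trans_apply, Adjunction.homEquiv_naturality_right]
      exact yonedaEquiv_comp _ _
  have hbij : ∀ X ∈ G, Function.Bijective (f.hom.app (Opposite.op X)) := fun X hX => by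
    have h := fun b => hf (L.obj (yoneda.obj X)) (ObjectProperty.ofObj_apply (fun X : G => L.obj (yoneda.obj (X : C))) ⟨X, hX⟩) ((ev X B).symm b)
    refine ⟨fun a a' e => ?_, fun b => ?_⟩
    · refine (ev X A).symm.injective ((h (f.hom.app _ a)).unique ?_ ?_) <;>
        exact (ev X B).injective (by simp [hev, e])
    · obtain ⟨p, hp, -⟩ := h b
      exact ⟨ev X A p, by rw [← hev, hp, Equiv.apply_symm_apply]⟩
  refine (Sheaf.isLocallyBijective_iff_isIso f).1 ⟨?_, ?_⟩
  · refine ⟨fun {T} a b e => ?_⟩
    obtain ⟨ι, Y, g, hg, hY⟩ := hG T.unop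
    refine J.superset_covering ?_ hg
    rintro W _ ⟨_, k, _, ⟨i⟩, rfl⟩
    show A.obj.map _ a = A.obj.map _ b
    simp only [op_comp, FunctorToTypes.map_comp_apply]
    refine congrArg _ ((hbij _ (hY i)).1 ?_)
    exact (ConcreteCategory.congr_hom (f.hom.naturality (g i).op) a).trans
      ((congrArg (B.obj.map (g i).op) e).trans (ConcreteCategory.congr_hom (f.hom.naturality (g i).op) b).symm)
  · refine ⟨fun {T} s => ?_⟩
    obtain ⟨ι, Y, g, hg, hY⟩ := hG T
    refine J.superset_covering ?_ hg
    rintro W _ ⟨_, k, _, ⟨i⟩, rfl⟩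
    obtain ⟨a, ha⟩ := (hbij _ (hY i)).2 (B.obj.map (g i).op s)
    refine ⟨A.obj.map k.op a, ?_⟩
    refine (ConcreteCategory.congr_hom (f.hom.naturality k.op) a).trans ?_
    rw [op_comp, FunctorToTypes.map_comp_apply, ← ha]
    rfl

end Groth.Agent.S3082
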