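import Groth.Statements.S1814
import Groth.Agent.DRingLib.RgammaHat

set_option autoImplicit false
universe u
open CategoryTheory CategoryTheory.Limits
attribute [local instance] HasDerivedCategory.standard
open LocCoh

namespace Groth.Agent.S1814

open CategoryTheory.Pretriangulated (Triangle)
open Groth.Agent.DCompLib Groth.Agent.DRingLib

variable {A : Type u} [CommRing A]

theorem hom_resD_shift_subsingleton {g : A} {l : List A} (hg : g ∈ l) {T : Dual.D A} (hT : IsTors l T)
    (G : Dual.D (Localization.Away g)) (n : ℤ) : Subsingleton (T ⟶ ((resD g).obj G)⟦n⟧) :=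
  haveI : Subsingleton (T ⟶ (resD g).obj (G⟦n⟧)) := subsingleton_hom_resD g (hT g hg) (G⟦n⟧)
  Equiv.subsingleton (β := T ⟶ (resD g).obj (G⟦n⟧))
    (Iso.homCongr (Iso.refl T) ((((resD g).commShiftIso n).app G).symm))

/-- Completion does not change maps out of torsion objects. -/
theorem exists_decomp_tors (l : List A) {I : Ideal A} (hl : ∀ f ∈ l, f ∈ I) (X : Dual.D A) :
    ∃ (B : Dual.D A) (q : X ⟶ B), (∀ f ∈ l, Comp f B) ∧
      (∀ Y, DRing.IsDerivedComplete I Y → Function.Bijective fun t : B ⟶ Y => q ≫ t) ∧
      ∀ T, IsTors l T → Function.Bijective fun t : T ⟶ X => t ≫ q := by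
  suffices H : ∀ m : List A, (∀ f ∈ m, f ∈ l) → ∃ (B : Dual.D A) (q : X ⟶ B), (∀ f ∈ m, Comp f B) ∧
      (∀ Y, DRing.IsDerivedComplete I Y → Function.Bijective fun t : B ⟶ Y => q ≫ t) ∧
      ∀ T, IsTors l T → Function.Bijective fun t : T ⟶ X => t ≫ q from H l fun _ h => h
  intro m hm
  induction m with
  | nil =>
    exact ⟨X, 𝟙 X, by simp, fun Y _ => by simp only [Category.id_comp]; exact Function.bijective_id,
      fun T _ => by simp only [Category.comp_id]; exact Function.bijective_id⟩
  | cons f m ih =>
    obtain ⟨B, q, hB, hY, hT⟩ := ih fun g hg => hm g (List.mem_cons_of_mem _ hg)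
    obtain ⟨G, C, ε, q', δ, hD, hC, hε⟩ := exists_step f B
    have hf : f ∈ l := hm f List.mem_cons_self
    have hrot := Pretriangulated.rot_of_distTriang _ hD
    refine ⟨C, q ≫ q', ?_, fun Y hY' => ?_, fun T hT' => ?_⟩
    · intro g hg
      rcases List.mem_cons.1 hg with rfl | hg
      · exact hC
      · exact Comp.of_distTriang _ hrot (hB g hg) (Comp.shift (comp_coRes f (hB g hg) ε hε) 1)
    · have hG := leftOrthogonal_resD (hl f hf) G
      have hG1 := (DRing.IsDerivedComplete I).leftOrthogonal.le_shift (1 : ℤ) _ hG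
      have h2 : Function.Bijective fun t : C ⟶ Y => q' ≫ t := by
        refine ⟨fun a b h => sub_eq_zero.1 ?_, fun g => ?_⟩
        · obtain ⟨w, hw⟩ := Triangle.yoneda_exact₂ _ hrot (a - b)
            ((Preadditive.comp_sub _ _ _).trans (sub_eq_zero.2 h))
          rw [hw, hG1 w hY']
          exact comp_zero
        · obtain ⟨w, hw⟩ := Triangle.yoneda_exact₂ _ hD g (hG _ hY')
          exact ⟨w, hw.symm⟩
      convert (hY Y hY').comp h2 using 1
      funext t
      exact Category.assoc _ _ _
    · have h2 : Function.Bijective fun t : T ⟶ B => t ≫ q' := by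
        haveI h0 : Subsingleton (T ⟶ (resD f).obj G) := subsingleton_hom_resD f (hT' f hf) G
        haveI h1 := hom_resD_shift_subsingleton hf hT' G 1
        refine ⟨fun a b h => sub_eq_zero.1 ?_, fun g => ?_⟩
        · obtain ⟨w, hw⟩ := Triangle.coyoneda_exact₂ _ hD (a - b)
            ((Preadditive.sub_comp _ _ _).trans (sub_eq_zero.2 h))
          rw [hw, show w = 0 from h0.elim _ _]
          exact zero_comp
        · obtain ⟨w, hw⟩ := Triangle.coyoneda_exact₂ _ hrot g (h1.elim _ _)
          exact ⟨w, hw.symm⟩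
      convert h2.comp (hT T hT') using 1
      funext t
      exact (Category.assoc _ _ _).symm

/-- Coreflection does not change maps into complete objects. -/
theorem exists_coref_perp (l : List A) {I : Ideal A} (hl : ∀ f ∈ l, f ∈ I) (X : Dual.D A) :
    ∃ (R : Dual.D A) (u : R ⟶ X), IsCoref l u ∧
      ∀ Y, DRing.IsDerivedComplete I Y → Function.Bijective fun t : X ⟶ Y => u ≫ t := by
  induction l with
  | nil =>
    exact ⟨X, 𝟙 X, isCoref_id fun g hg => absurd hg List.not_mem_nil,
      fun Y _ => by simp only [Category.id_comp]; exact Function.bijective_id⟩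
  | cons g l ih =>
    obtain ⟨R, u, hu, hY⟩ := ih fun f hf => hl f (List.mem_cons_of_mem _ hf)
    obtain ⟨R', v, q, hv⟩ := Pretriangulated.distinguished_cocone_triangle₁ (toLocD g R)
    refine ⟨R', v ≫ u, isCoref_step hu hv, fun Y hY' => ?_⟩
    have hZ := leftOrthogonal_resD (hl g List.mem_cons_self) ((extD g).obj R)
    have h2 : Function.Bijective fun t : R ⟶ Y => v ≫ t := by
      refine ⟨fun a b h => sub_eq_zero.1 ?_, fun y => ?_⟩
      · obtain ⟨w, hw⟩ := Triangle.yoneda_exact₂ _ hv (a - b)
          ((Preadditive.comp_sub _ _ _).trans (sub_eq_zero.2 h))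
        rw [hw, hZ w hY']
        exact comp_zero
      · obtain ⟨w, hw⟩ := Triangle.yoneda_exact₂ _ (Pretriangulated.inv_rot_of_distTriang _ hv) y
          ((DRing.IsDerivedComplete I).leftOrthogonal.le_shift (-1 : ℤ) _ hZ _ hY')
        exact ⟨w, hw.symm⟩
    convert h2.comp (hY Y hY') using 1
    funext t
    exact Category.assoc _ _ _

/-- Greenlees–May duality over a Noetherian ring. Let A be a Noetherian ring, I an ideal and K an object
of D(A); assume that RΓ_I exists as a total right derived functor and that derived I-completion (the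
left adjoint to the inclusion of derived complete objects) exists. Then RΓ_I applied to the derived
completion of K is isomorphic to RΓ_I(K), and the derived completion of RΓ_I(K) is isomorphic to the
derived completion of K. Stated here for a Noetherian ring, where local cohomology with support in
V(I) agrees with RΓ_I. -/
theorem result (A : Type u) [CommRing A] [IsNoetherianRing A] (I : Ideal A) [DRing.HasRgammaI I] [DRing.HasDerivedCompletion I] (K : Dual.D A) : Nonempty ((DRing.RgammaI I).obj ((DRing.derivedCompletion I).obj K).obj ≅ (DRing.RgammaI I).obj K) ∧ Nonempty ((DRing.derivedCompletion I).obj ((DRing.RgammaI I).obj K) ≅ (DRing.derivedCompletion I).obj K) := by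
  obtain ⟨l, hl⟩ := exists_list_span' I
  have hl' : ∀ f ∈ l, f ∈ I := fun f hf => hl ▸ Ideal.subset_span hf
  have hR := isCoref_RgammaIε l I hl K
  constructor
  · obtain ⟨B, q, hB, hY, hT⟩ := exists_decomp_tors l hl' K
    have hq : IsRefl I q := ⟨hl ▸ isDerivedComplete_span_iff.2 hB, hY⟩
    obtain ⟨e, he⟩ := exists_iso_cF hq
    have hc : IsCoref l ((DRing.RgammaIε I).app K ≫ q ≫ e.hom) := by
      refine ⟨hR.1, fun T hT' => ?_⟩
      have hb := (Iso.homToEquiv e (Z := T)).bijective.comp ((hT T hT').comp (hR.2 T hT'))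
      convert hb using 1
      funext t
      simp [Iso.homToEquiv]
    exact ⟨((isCoref_RgammaIε l I hl ((DRing.derivedCompletion I).obj K).obj).exists_iso hc).choose⟩
  · obtain ⟨R, u, hu, hY⟩ := exists_coref_perp l hl' K
    obtain ⟨e, he⟩ := hR.exists_iso hu
    have hη := isRefl_unit (I := I) K
    have h : IsRefl I (((DRing.RgammaIε I).app K) ≫ DRing.toDerivedCompletion I K) := by
      refine ⟨hη.1, fun Y hY' => ?_⟩
      have hb := (e.symm.homFromEquiv (Z := Y)).bijective.comp ((hY Y hY').comp (hη.2 Y hY'))
      convert hb using 1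
      funext t
      simp [← he]
    obtain ⟨a⟩ := (isRefl_unit (I := I) ((DRing.RgammaI I).obj K)).iso h
    exact ⟨ObjectProperty.isoMk _ a⟩

end Groth.Agent.S1814
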