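import Groth.Statements.S8799
import Groth.Agent.LocCohLib.NonVanishing

set_option autoImplicit false
universe u
open CategoryTheory Opposite
open LocCoh

namespace Groth.Agent.S8799

/-- An inverse sequence of Artinian modules whose limit is Artinian is essentially constant. -/
theorem key {A : Type u} [CommRing A] (X : ℕ → Type u) [∀ n, AddCommGroup (X n)] [∀ n, Module A (X n)]
    [∀ n, IsArtinian A (X n)] (t : ∀ {n m : ℕ}, n ≤ m → X m →ₗ[A] X n)
    (tself : ∀ n (x : X n), t (le_refl n) x = x)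
    (tcomp : ∀ {a b c : ℕ} (h₁ : a ≤ b) (h₂ : b ≤ c) (x : X c), t h₁ (t h₂ x) = t (h₁.trans h₂) x)
    (H : Type u) [AddCommGroup H] [Module A H] [IsArtinian A H] (c : ∀ n, H →ₗ[A] X n)
    (hc : ∀ {n m : ℕ} (h : n ≤ m) (a : H), t h (c m a) = c n a)
    (hinj : ∀ a, (∀ n, c n a = 0) → a = 0)
    (hsurj : ∀ y : ∀ n, X n, (∀ n m (h : n ≤ m), t h (y m) = y n) → ∃ a, ∀ n, c n a = y n) :
    ∃ (i : ℕ) (s : X i →ₗ[A] H), (∀ a, s (c i a) = a) ∧
      ∀ j, ∃ (k : ℕ) (hi : i ≤ k) (hj : j ≤ k), ∀ x, t hj x = c j (s (t hi x)) := by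
  -- the images stabilise
  have hanti : ∀ n, Antitone fun d => LinearMap.range (t (Nat.le_add_right n d)) := fun n d d' hd => by
    rintro _ ⟨x, rfl⟩
    exact ⟨t (Nat.add_le_add_left hd n) x, tcomp _ _ x⟩
  choose N hN using fun n => IsArtinian.monotone_stabilizes
    ⟨fun d => OrderDual.toDual (LinearMap.range (t (Nat.le_add_right n d))), fun d d' hd => hanti n hd⟩
  let E : ∀ n, Submodule A (X n) := fun n => LinearMap.range (t (Nat.le_add_right n (N n)))
  have hE : ∀ n m (h : n ≤ m), n + N n ≤ m → LinearMap.range (t h) = E n := fun n m h hm => by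
    obtain ⟨d, rfl⟩ := Nat.exists_eq_add_of_le h
    exact (hN n d (by omega)).symm
  have hstep : ∀ n, ∀ y ∈ E n, ∃ z ∈ E (n + 1), t (Nat.le_succ n) z = y := fun n y hy => by
    have hm : n + 1 ≤ n + 1 + (N n + N (n + 1)) := Nat.le_add_right _ _
    rw [← hE n _ ((Nat.le_succ n).trans hm) (by omega)] at hy
    obtain ⟨x, rfl⟩ := hy
    exact ⟨t hm x, hE (n + 1) _ hm (by omega) ▸ ⟨x, rfl⟩, tcomp _ _ x⟩
  choose z hz hzt using hstep
  have hfam : ∀ j, ∀ y ∈ E j, ∃ a, c j a = y := by
    intro j y hy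
    let g : ∀ d, E (j + d) := fun d => Nat.rec (motive := fun d => E (j + d)) ⟨y, hy⟩
      (fun d v => ⟨z (j + d) v v.2, hz (j + d) v v.2⟩) d
    have hg : ∀ n m (h : n ≤ m), t (Nat.add_le_add_left h j) (g m).1 = (g n).1 := fun n m h => by
      induction h with
      | refl => exact tself _ _
      | @step m h ih =>
        rw [← tcomp (Nat.add_le_add_left h j) (Nat.le_succ (j + m)) (g (m + 1)).1]
        exact (congrArg _ (hzt (j + m) (g m).1 (g m).2)).trans ih
    obtain ⟨a, ha⟩ := hsurj (fun n => t (Nat.le_add_left n j) (g n).1) fun n m h => by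
      rw [tcomp, ← hg n m h, tcomp]
    refine ⟨a, (ha j).trans ?_⟩
    exact (hg 0 j (Nat.zero_le j))
  -- the kernels stabilise
  obtain ⟨i₀, hi₀⟩ := IsArtinian.monotone_stabilizes
    ⟨fun n => OrderDual.toDual (LinearMap.ker (c n)), fun n m h a ha => by
      have ha' : c m a = 0 := ha
      show c n a = 0
      rw [← hc h a, ha', map_zero]⟩
  have hker : Function.Injective (c i₀) := (injective_iff_map_eq_zero _).2 fun a ha => hinj a fun n => by
    rcases le_total i₀ n with h | h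
    · exact (SetLike.ext_iff.1 (congrArg OrderDual.ofDual (hi₀ n h)) a).1 ha
    · rw [← hc h a, ha, map_zero]
  have hrange : ∀ x : X (i₀ + N i₀), t (Nat.le_add_right i₀ (N i₀)) x ∈ LinearMap.range (c i₀) :=
    fun x => hfam i₀ _ ⟨x, rfl⟩
  let e := LinearEquiv.ofInjective (c i₀) hker
  let s : X (i₀ + N i₀) →ₗ[A] H := e.symm.toLinearMap ∘ₗ (t (Nat.le_add_right i₀ (N i₀))).codRestrict _ hrange
  have hs : ∀ (x : X (i₀ + N i₀)) (a : H), t (Nat.le_add_right i₀ (N i₀)) x = c i₀ a → s x = a :=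
    fun x a h => e.injective ((e.apply_symm_apply _).trans (Subtype.ext h))
  refine ⟨i₀ + N i₀, s, fun a => hs _ a (hc _ a), fun j => ?_⟩
  let j' := max j i₀
  have hk1 : i₀ + N i₀ ≤ max (i₀ + N i₀) (j' + N j') := le_max_left _ _
  have hj' : j' ≤ max (i₀ + N i₀) (j' + N j') := (Nat.le_add_right _ _).trans (le_max_right _ _)
  refine ⟨_, hk1, (le_max_left j i₀).trans hj', fun x => ?_⟩
  obtain ⟨a, ha⟩ := hfam j' (t hj' x) (hE j' _ hj' (le_max_right _ _) ▸ ⟨x, rfl⟩)
  have h0 : t (Nat.le_add_right i₀ (N i₀)) (t hk1 x) = c i₀ a := by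
    rw [tcomp, ← hc (le_max_right j i₀ : i₀ ≤ j') a, ha, tcomp]
  rw [hs _ a h0, ← hc (le_max_left j i₀ : j ≤ j') a, ha, tcomp]

/-- Let (A, m) be a Noetherian local ring, (M_n) an inverse system of finite A-modules, and M a finite
A-module with a compatible system of maps M → M_n. Suppose that for some i the induced map H^i_m(M)
→ lim H^i_m(M_n) on local cohomology is bijective, in the sense that an element of H^i_m(M)
vanishing in every H^i_m(M_n) is zero and every compatible family in the H^i_m(M_n) comes from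
H^i_m(M). We conclude that, taking the cone formed by the given maps, essential constancy holds for
the local cohomology system (H^i_m(M_n))_n, and the value it stabilizes at is H^i_m(M). -/
theorem result (A : Type u) [CommRing A] [IsNoetherianRing A] [IsLocalRing A] (Msys : ℕᵒᵖ ⥤ ModuleCat.{u} A) (hfin : ∀ n : ℕᵒᵖ, Module.Finite A (Msys.obj n)) (M : Type u) [AddCommGroup M] [Module A M] [Module.Finite A M] (c : (Functor.const ℕᵒᵖ).obj (ModuleCat.of A M) ⟶ Msys) (i : ℕ) (Hc : (Functor.const ℕᵒᵖ).obj ((localCohomology (IsLocalRing.maximalIdeal A) i).obj (ModuleCat.of A M)) ⟶ Msys ⋙ localCohomology (IsLocalRing.maximalIdeal A) i) (hHc : ∀ n : ℕᵒᵖ, Hc.app n = (localCohomology (IsLocalRing.maximalIdeal A) i).map (c.app n)) (hinj : ∀ x : (localCohomology (IsLocalRing.maximalIdeal A) i).obj (ModuleCat.of A M), (∀ n : ℕᵒᵖ, (Hc.app n) x = 0) → x = 0) (hsurj : ∀ y : (∀ n : ℕ, (localCohomology (IsLocalRing.maximalIdeal A) i).obj (Msys.obj (op n))), (∀ (n m : ℕ) (h : n ≤ m),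 ((localCohomology (IsLocalRing.maximalIdeal A) i).map (Msys.map (homOfLE h).op)) (y m) = y n) → ∃ x : (localCohomology (IsLocalRing.maximalIdeal A) i).obj (ModuleCat.of A M), ∀ n : ℕ, (Hc.app (op n)) x = y n) : DerCA.IsEssConstant (Msys ⋙ localCohomology (IsLocalRing.maximalIdeal A) i) ((localCohomology (IsLocalRing.maximalIdeal A) i).obj (ModuleCat.of A M)) Hc := by
  haveI := fun n => hfin (op n)
  let T := Msys ⋙ localCohomology (IsLocalRing.maximalIdeal A) i
  haveI : ∀ n : ℕ, IsArtinian A (T.obj (op n)) := fun n =>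
    LocCohLib.isArtinian_H i (Msys.obj (op n))
  haveI : IsArtinian A ((localCohomology (IsLocalRing.maximalIdeal A) i).obj (ModuleCat.of A M)) :=
    LocCohLib.isArtinian_H i M
  obtain ⟨i₀, s, hs, hj⟩ := key (fun n => T.obj (op n)) (fun {n m} h => (T.map (homOfLE h).op).hom)
    (fun n x => by
      show (T.map (homOfLE (le_refl n)).op).hom x = x
      rw [show (homOfLE (le_refl n)).op = 𝟙 (op n) from rfl, T.map_id]
      rfl)
    (fun {a b d} h₁ h₂ x => by
      show (T.map (homOfLE h₁).op).hom ((T.map (homOfLE h₂).op).hom x) = (T.map (homOfLE (h₁.trans h₂)).op).hom x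
      rw [← homOfLE_comp h₁ h₂, op_comp, T.map_comp]
      rfl)
    _ (fun n => (Hc.app (op n)).hom)
    (fun {n m} h a => ((ConcreteCategory.congr_hom (Hc.naturality (homOfLE h).op) a).symm))
    (fun a ha => hinj a fun n => ha n.unop) (fun y hy => hsurj y fun n m h => hy n m h)
  refine ⟨i₀, ModuleCat.ofHom s, ModuleCat.hom_ext (LinearMap.ext hs), fun j => ?_⟩
  obtain ⟨k, hi, hj', h⟩ := hj j
  exact ⟨k, hi, hj', ModuleCat.hom_ext (LinearMap.ext h)⟩

end Groth.Agent.S8799
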