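import Groth.Statements.S11424
import Groth.Agent.GrpHomLib.FlatImage
import Groth.Agent.GrpFieldLib.Comps
-- import your own Groth.Agent.* helpers here

set_option autoImplicit false
universe u
open CategoryTheory MonoidalCategory CartesianMonoidalCategory MonObj GrpObj AlgebraicGeometry CategoryTheory.Limits
open AlgGrp
set_option backward.isDefEq.respectTransparency false
set_option linter.style.haveILetI false

namespace Groth.Agent.S11424

/-- Over an algebraically closed field k, let G be an algebraic group (a smooth k-group scheme of finite
type), h : H → G a smooth affine closed normal subgroup, and q : G → Q a flat surjective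
homomorphism of k-group schemes of finite type with kernel h (so Q = G/H). Then the quotient
morphism q is affine. (The published statement is the equivalence between affineness of G and of
both H and G/H; this row states that the quotient morphism G → G/H is affine.) -/
theorem result (k : Type u) [Field k] [IsAlgClosed k]
    (G H Q : Over (Spec (CommRingCat.of k))) [GrpObj G] [Smooth G.hom] [QuasiCompact G.hom]
    [GrpObj H] (h : H ⟶ G) [IsMonHom h] [IsClosedImmersion h.left] [Smooth H.hom] [IsAffine H.left]
    [GrpObj Q] [LocallyOfFiniteType Q.hom] [QuasiCompact Q.hom]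
    (q : G ⟶ Q) [IsMonHom q] [Surjective q.left] [Flat q.left] (hk : AlgGrp.IsKernel h q) :
    IsAffineHom q.left := by
  haveI : IsSeparated Q.hom := Groth.Agent.GrpField.isSeparated_grp (G := Q)
  haveI : QuasiCompact q.left := by
    haveI : QuasiCompact (q.left ≫ Q.hom) := by rw [Over.w q]; infer_instance
    exact QuasiCompact.of_comp q.left Q.hom
  haveI hHa : IsAffineHom H.hom := isAffineHom_of_isAffine _
  have sq : IsPullback ((fst H G ≫ h) * snd H G) (snd H G) q q := by
    have hh : h ≫ q = 1 := by rw [hk.w, Hom.one_def]
    refine IsPullback.of_isLimit' ⟨by rw [MonObj.mul_comp, Category.assoc, hh, MonObj.comp_one, _root_.one_mul]⟩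
      (Limits.PullbackCone.IsLimit.mk _ (fun c =>
      lift (hk.lift (c.fst * c.snd⁻¹) (toUnit _) (by
        rw [MonObj.mul_comp, GrpObj.inv_comp, c.condition, mul_inv_cancel, Hom.one_def])) c.snd)
      (fun c => ?_) (fun c => ?_) (fun c m hm₁ hm₂ => ?_))
    · simp [MonObj.comp_mul]
    · simp
    · refine CartesianMonoidalCategory.hom_ext _ _ ?_ (by simpa using hm₂)
      rw [lift_fst]
      refine hk.hom_ext ?_ (toUnit_unique _ _)
      rw [hk.lift_fst, ← hm₁, ← hm₂]
      simp [MonObj.comp_mul]
  haveI hsnd : IsAffineHom (snd H G).left := MorphismProperty.pullback_snd (P := @IsAffineHom) H.hom G.hom hHa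
  exact MorphismProperty.of_isPullback_of_descendsAlong (P := @IsAffineHom)
    (Q := @Surjective ⊓ @Flat ⊓ @QuasiCompact) (sq.map (Over.forget _)).flip
    ⟨⟨‹Surjective q.left›, ‹Flat q.left›⟩, ‹QuasiCompact q.left›⟩ hsnd
end Groth.Agent.S11424
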