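import Groth.Statements.S1338
import Mathlib
import Groth.Agent.GISpreadLib.Cons

set_option autoImplicit false
universe u
open FlatMor

namespace Groth.Agent.S1338

open AlgebraicGeometry CategoryTheory Limits in
/-- For a morphism of finite presentation, each level set of the function counting the irreducible
components of the geometric fibres is locally constructible in the target. -/
theorem result {X Y : Scheme.{u}} (f : X ⟶ Y) [LocallyOfFinitePresentation f] [QuasiCompact f] [QuasiSeparated f] (n : ℕ∞) :
    Topology.IsLocallyConstructible {y : ↑Y | MoreMor.nGeomIrredComp f y = n} := by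
  refine GISpreadLib.isLocallyConstructible_locus (fun {X Y} f => {y : Y | MoreMor.nGeomIrredComp f y = n})
    (fun {X Y X' Y'} f f' g' g hc => Set.ext fun y' => ?_) (fun {X Y} f _ _ y => ?_) f
  · show MoreMor.nGeomIrredComp f' y' = n ↔ MoreMor.nGeomIrredComp f (g y') = n
    exact iff_of_eq (congrArg (· = n) (GISpreadLib.sameComp_geomFiber_comp f f' g' g hc y').1)
  · obtain ⟨W, hW, H⟩ := GISpreadLib.exists_nhd_sameComp f y
    exact ⟨W, hW, fun y' h h' => iff_of_eq (congrArg (· = n) (H y' h h').1)⟩

end Groth.Agent.S1338
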