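import Groth.Statements.S5261
import Groth.Agent.MonoFibLib.Crit
import Groth.Agent.MonoFibLib.MultTypeLft

set_option autoImplicit false
open CategoryTheory MonoidalCategory CartesianMonoidalCategory MonObj GrpObj AlgebraicGeometry
universe u
open SGA3x

namespace Groth.Agent.S5261

/-- Let u : H ⟶ G be a homomorphism of S-groups, with H of multiplicative type and of finite type, and
suppose S locally Noetherian or G locally of finite presentation over S. If for every s ∈ S the
homomorphism u_s : H_s ⟶ G_s induced on the fibres at s is a monomorphism, then u is a monomorphism. -/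
theorem result {S : Scheme.{u}} (H G : Over S) [GrpObj H] [GrpObj G]
    (hH : SGA3x.IsMultTypeFT H) (hG : IsLocallyNoetherian S ∨ LocallyOfFinitePresentation G.hom)
    (u : H ⟶ G) [IsMonHom u]
    (hfib : ∀ s : S, Mono ((Over.pullback (S.fromSpecResidueField s)).map u).left) :
    Mono u.left := by
  haveI : LocallyOfFiniteType H.hom := MonoFib.lft_of_isMultTypeFT hH
  haveI : LocallyOfFiniteType (u.left ≫ G.hom) := by rw [Over.w]; infer_instance
  haveI : LocallyOfFiniteType u.left := locallyOfFiniteType_of_comp u.left G.hom
  refine MonoFib.mono_of_mono_fibres u.left fun y => ?_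
  refine RichLib.FibreCrit.fiber_of_fibres G.hom u.left (P := MorphismProperty.monomorphisms Scheme) y fun s => ?_
  show Mono (Limits.pullback.snd u.left (G.hom.fiberι s))
  haveI := hfib s
  let m := ((Over.pullback (S.fromSpecResidueField s)).map u).left
  have sq : IsPullback (Limits.pullback.fst H.hom (S.fromSpecResidueField s)) m u.left
      (Limits.pullback.fst G.hom (S.fromSpecResidueField s)) := by
    refine IsPullback.of_bot ?_ (Limits.pullback.lift_fst _ _ _).symm
      (IsPullback.of_hasPullback G.hom (S.fromSpecResidueField s))
    rw [Over.w, show m ≫ Limits.pullback.snd G.hom (S.fromSpecResidueField s) =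
      Limits.pullback.snd H.hom (S.fromSpecResidueField s) from Limits.pullback.lift_snd _ _ _]
    exact IsPullback.of_hasPullback _ _
  change Mono (Limits.pullback.snd u.left (Limits.pullback.fst G.hom (S.fromSpecResidueField s)))
  rw [← sq.isoPullback_inv_snd]
  infer_instance

end Groth.Agent.S5261
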