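import Groth.Statements.S0346
import Mathlib.AlgebraicGeometry.Morphisms.Separated
import Mathlib.CategoryTheory.Monoidal.Cartesian.Grp
import Mathlib.CategoryTheory.Limits.Constructions.Over.Connected

set_option autoImplicit false
universe u v
open CategoryTheory MonoidalCategory CartesianMonoidalCategory MonObj GrpObj AlgebraicGeometry
open GrpSch

namespace Groth.Agent.S0346

/-- A group scheme over any base scheme is separated over the base exactly when its unit section is a
closed immersion, and quasi-separated exactly when the unit section is quasi-compact. -/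
theorem result (S : Scheme.{u}) (G : Over S) [GrpObj G] : (IsSeparated G.hom ↔ IsClosedImmersion η[G].left) ∧ (QuasiSeparated G.hom ↔ QuasiCompact η[G].left) := by
  have hη : η[G].left ≫ G.hom = 𝟙 S := Over.w η[G]
  let Δ : G ⟶ G ⊗ G := lift (𝟙 G) (𝟙 G)
  have hw : Δ ≫ ((fst G G)⁻¹ * snd G G) = toUnit G ≫ η[G] := by
    rw [MonObj.comp_mul, GrpObj.comp_inv, lift_fst, lift_snd, inv_mul_cancel, Hom.one_def]
  have hpb : IsPullback Δ (toUnit G) ((fst G G)⁻¹ * snd G G) η[G] := by
    refine IsPullback.of_isLimit' ⟨hw⟩ (Limits.PullbackCone.IsLimit.mk hw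
      (fun c => c.fst ≫ fst G G) (fun c => ?_) (fun c => Subsingleton.elim _ _) ?_)
    · have h := c.condition
      rw [MonObj.comp_mul, GrpObj.comp_inv, Subsingleton.elim c.snd (toUnit _),
        ← Hom.one_def, inv_mul_eq_one] at h
      apply CartesianMonoidalCategory.hom_ext
      · rw [Category.assoc, lift_fst, Category.comp_id]
      · rw [Category.assoc, lift_snd, Category.comp_id, h]
    · intro c m h1 _
      rw [← h1, Category.assoc, lift_fst, Category.comp_id]
  have hpb' := hpb.map (Over.forget S)
  have hd : Limits.pullback.diagonal G.hom = Δ.left := by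
    apply Limits.pullback.hom_ext
    · rw [Limits.pullback.diagonal_fst]
      exact (congrArg CommaMorphism.left (lift_fst (𝟙 G) (𝟙 G))).symm
    · rw [Limits.pullback.diagonal_snd]
      exact (congrArg CommaMorphism.left (lift_snd (𝟙 G) (𝟙 G))).symm
  refine ⟨⟨fun h => ?_, fun h => ⟨?_⟩⟩, ⟨fun h => ?_, fun h => ⟨?_⟩⟩⟩
  · haveI : IsIso (η[G].left ≫ G.hom) := hη ▸ IsIso.id S
    haveI : IsClosedImmersion (η[G].left ≫ G.hom) := inferInstance
    exact IsClosedImmersion.of_comp _ G.hom
  · rw [hd]
    exact MorphismProperty.of_isPullback (P := @IsClosedImmersion) hpb'.flip h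
  · haveI : IsIso (η[G].left ≫ G.hom) := hη ▸ IsIso.id S
    haveI : QuasiCompact (η[G].left ≫ G.hom) := inferInstance
    exact QuasiCompact.of_comp _ G.hom
  · rw [hd]
    exact MorphismProperty.of_isPullback (P := @QuasiCompact) hpb'.flip h

end Groth.Agent.S0346
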