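import Groth.Statements.S5273
import Groth.Agent.ConjAvgLib.Nilp

set_option autoImplicit false
open CategoryTheory MonoidalCategory CartesianMonoidalCategory MonObj GrpObj AlgebraicGeometry
universe u
open SGA3x

namespace Groth.Agent.S5273

/-- Let S = Spec R be affine, J a nilpotent ideal of R and S₀ = Spec (R/J); let H be an S-group of
multiplicative type (fpqc-locally on S isomorphic, as a group, to diagonalisable groups D(M), M
allowed to vary and taken in Type 0), G an S-group which is smooth over S, u, v : H ⟶ G two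
homomorphisms, and g₀ an S₀-valued point of G such that v = int(g₀) ∘ u over S₀ (v(h) = g₀ u(h) g₀⁻¹
for every point h of H defined over an S₀-scheme). Then g₀ lifts to an S-point g of G with v =
int(g) ∘ u. -/
theorem result {R : Type u} [CommRing R] (J : Ideal R) (hJ : IsNilpotent J)
    (H G : Over (Spec (CommRingCat.of R))) [GrpObj H] [GrpObj G]
    (hH : TwC.Locally (Spec (CommRingCat.of R)) TwC.Topology.fpqc (fun S' f => ∃ (M : Type) (_ : AddCommGroup M), Nonempty (Grp.mk (Red.bc f H) ≅ Grp.mk (Red.DS S' M))))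
    (hG : Smooth G.hom) (u v : H ⟶ G) [IsMonHom u] [IsMonHom v]
    (g₀ : (Over.mk (Spec.map (CommRingCat.ofHom (Ideal.Quotient.mk J))) : Over (Spec (CommRingCat.of R))) ⟶ G)
    (h0 : ∀ (X : Over (Spec (CommRingCat.of R))) (p : X ⟶ (Over.mk (Spec.map (CommRingCat.ofHom (Ideal.Quotient.mk J))) : Over (Spec (CommRingCat.of R)))) (h : X ⟶ H), h ≫ v = (p ≫ g₀) * (h ≫ u) * (p ≫ g₀)⁻¹) :
    ∃ g : 𝟙_ (Over (Spec (CommRingCat.of R))) ⟶ G, toUnit (Over.mk (Spec.map (CommRingCat.ofHom (Ideal.Quotient.mk J))) : Over (Spec (CommRingCat.of R))) ≫ g = g₀ ∧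
      ∀ (X : Over (Spec (CommRingCat.of R))) (h : X ⟶ H), h ≫ v = (toUnit X ≫ g) * (h ≫ u) * (toUnit X ≫ g)⁻¹ := by
  haveI := hG
  let ε : CoactBr.sp R (R ⧸ J) ⟶ SqLift.S₀ J := SqLift.toS₀ (R ⧸ J) (fun r hr => by
    rw [RingHom.mem_ker]
    exact Ideal.Quotient.eq_zero_iff_mem.2 hr)
  let ε' : SqLift.S₀ J ⟶ CoactBr.sp R (R ⧸ J) := Over.homMk (𝟙 _) (Category.id_comp _)
  have h1 : ε' ≫ ε = 𝟙 _ := SqLift.hom_ext_S₀ _ _
  obtain ⟨g, hg, hr⟩ := ConjAvg.exists_rel_nilpotent hH u v hJ (ε ≫ g₀) fun X q h => by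
    rw [← Category.assoc, h0 X (q ≫ ε) h, inv_mul_cancel_right]
  have hid : Spec.map (CommRingCat.ofHom (algebraMap R R)) = 𝟙 (Spec (CommRingCat.of R)) := by
    rw [Algebra.algebraMap_self, CommRingCat.ofHom_id, Spec.map_id]
  let η' : 𝟙_ (Over (Spec (CommRingCat.of R))) ⟶ CoactBr.sp R R := Over.homMk (𝟙 _) (by
    show 𝟙 (Spec (CommRingCat.of R)) ≫ Spec.map (CommRingCat.ofHom (algebraMap R R)) = 𝟙 _
    rw [Category.id_comp]
    exact hid)
  refine ⟨η' ≫ g, ?_, fun X h => ?_⟩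
  · have e : toUnit (SqLift.S₀ J) ≫ η' = ε' ≫ CoactBr.pt (Ideal.Quotient.mkₐ R J) := by
      refine Over.OverMorphism.ext ?_
      have ht : (toUnit (SqLift.S₀ J)).left = (SqLift.S₀ J).hom :=
        (Category.comp_id _).symm.trans (Over.w (toUnit _))
      show (toUnit (SqLift.S₀ J)).left ≫ 𝟙 _ = 𝟙 _ ≫ Spec.map (CommRingCat.ofHom (Ideal.Quotient.mk J))
      rw [ht, Category.id_comp, Category.comp_id]
      rfl
    rw [← Category.assoc, e, Category.assoc, hg, ← Category.assoc, h1, Category.id_comp]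
  · rw [← Category.assoc, eq_mul_inv_iff_mul_eq]
    exact hr X (toUnit X ≫ η') h

end Groth.Agent.S5273
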