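import Groth.Statements.S3006
import Groth.Agent.TransporterLib.SubTop
import Groth.Agent.TransporterLib.Main
import Groth.Agent.TransporterLib.Smooth
import Groth.Agent.WeilResLib.Apps
import Groth.Agent.S0346
-- import your own Groth.Agent.* helpers here

set_option autoImplicit false
universe u
open CategoryTheory MonoidalCategory CartesianMonoidalCategory MonObj GrpObj AlgebraicGeometry
open Red

namespace Groth.Agent.S3006

/-- Let S be a scheme, G an S-group scheme smooth and of finite presentation over S, and q : Q → G a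
closed subgroup scheme which is a torus. Then the centralizer and the normalizer of Q in G exist as
closed subgroup schemes of G (characterized on points as in `Red.IsCentralizerOf` /
`Red.IsNormalizerOf`) and are smooth over S. -/
theorem result (S : Scheme.{u}) (G Q : Over S) [GrpObj G] [GrpObj Q] [Smooth G.hom] [LocallyOfFinitePresentation G.hom] [QuasiCompact G.hom] [QuasiSeparated G.hom] (q : Q ⟶ G) [IsMonHom q] (hq : IsClosedImmersion q.left) (hQ : Red.IsTorus Q) : (∃ (Z : Over S) (_ : GrpObj Z) (z : Z ⟶ G), Red.IsCentralizerOf q z ∧ IsClosedImmersion z.left ∧ Smooth Z.hom) ∧ ∃ (N : Over S) (_ : GrpObj N) (n : N ⟶ G), Red.IsNormalizerOf q n ∧ IsClosedImmersion n.left ∧ Smooth N.hom := by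
  have hMT : SGA3x.IsMultTypeFT Q := by
    obtain ⟨S', f, hflat, hsurj, hcov, hloc⟩ := hQ
    refine ⟨S', f, hflat, hsurj, hcov, fun x => ?_⟩
    obtain ⟨U, hU, r, hr⟩ := hloc x
    exact ⟨U, hU, (Fin r → ℤ), inferInstance, inferInstance, hr⟩
  have hloc := Groth.Agent.Transporter.locally_of_isMultTypeFT hMT
  haveI := hq
  haveI := Groth.Agent.MultEq.isAffineHom_of_isMultTypeFT hMT
  haveI := Groth.Agent.MultEq.lfp_of_isMultTypeFT hMT
  haveI : LocallyOfFinitePresentation q.left := by
    haveI : LocallyOfFinitePresentation (q.left ≫ G.hom) := by rw [Over.w q]; infer_instance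
    exact AlgSpLib.lfp_of_comp_lft q.left G.hom
  haveI : IsSeparated G.hom := by
    refine (Groth.Agent.S0346.result S G).1.2 ?_
    haveI : IsClosedImmersion (η[Q].left ≫ Q.hom) := by rw [Over.w η[Q]]; exact inferInstanceAs (IsClosedImmersion (𝟙 S))
    haveI : IsClosedImmersion η[Q].left := IsClosedImmersion.of_comp η[Q].left Q.hom
    rw [← IsMonHom.one_hom (f := q), Over.comp_left]
    infer_instance
  have hmono : ∀ {Z : Over S} (z : Z ⟶ G), IsClosedImmersion z.left → Mono z := fun z hz => by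
    haveI := hz
    exact (Over.forget S).mono_of_mono_map (inferInstanceAs (Mono z.left))
  refine ⟨?_, ?_⟩
  · obtain ⟨Z, z, hz, hzf, hZ⟩ := Groth.Agent.Transporter.exists_transporter hloc q q
    haveI := hz; haveI := hzf; haveI := hmono z hz
    haveI : LocallyOfFinitePresentation Z.hom := by rw [← Over.w z]; infer_instance
    have hZ' : ∀ (X : Over S) (g : X ⟶ G), (∃ w : X ⟶ Z, w ≫ z = g) ↔
        ∀ (X' : Over S) (x : X' ⟶ X) (h : X' ⟶ Q), (x ≫ g) * (h ≫ q) = (h ≫ q) * (x ≫ g) := fun X g =>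
      (hZ X g).trans (forall₃_congr fun X' x h => mul_inv_eq_iff_eq_mul)
    obtain ⟨I, hI⟩ := Groth.Agent.WeilRes.grpObj_centralizer q z hZ'
    exact ⟨Z, I, z, ⟨hI, inferInstance, hZ'⟩, hz,
      Groth.Agent.Transporter.smooth_transporter hloc inferInstance q q z hZ⟩
  · obtain ⟨N, n, hn, hnf, hN⟩ := Groth.Agent.Transporter.exists_subgroupTransporter hloc hloc q q
    haveI := hn; haveI := hnf; haveI := hmono n hn
    haveI : LocallyOfFinitePresentation N.hom := by rw [← Over.w n]; infer_instance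
    have hN' : ∀ (X : Over S) (g : X ⟶ G), (∃ w : X ⟶ N, w ≫ n = g) ↔
        ∀ (X' : Over S) (x : X' ⟶ X) (h : X' ⟶ Q),
          (∃ h' : X' ⟶ Q, (x ≫ g) * (h ≫ q) * (x ≫ g)⁻¹ = h' ≫ q) ∧
          (∃ h' : X' ⟶ Q, (x ≫ g)⁻¹ * (h ≫ q) * (x ≫ g) = h' ≫ q) := fun X g =>
      (hN X g).trans ⟨fun h X' x a => ⟨(h X' x).1 a, (h X' x).2 a⟩,
        fun h X' x => ⟨fun a => (h X' x a).1, fun a => (h X' x a).2⟩⟩
    obtain ⟨I, hI⟩ := Groth.Agent.WeilRes.grpObj_normalizer q n hN'
    exact ⟨N, I, n, ⟨hI, inferInstance, hN'⟩, hn,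
      Groth.Agent.Transporter.smooth_subgroupTransporter hloc hloc inferInstance q q n hN⟩
end Groth.Agent.S3006
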