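import Mathlib
import Groth.Statements.S14536
import Groth.Agent.HopfPointsLib.Scheme

-- import your own Groth.Agent.* helpers here

set_option autoImplicit false
universe u
open CategoryTheory MonoidalCategory CartesianMonoidalCategory MonObj GrpObj AlgebraicGeometry
open PrincBund

namespace Groth.Agent.S14536

/-- Let k be an algebraically closed field and h : G → G' a homomorphism of affine group schemes over k
(not necessarily of finite type) which is surjective on underlying spaces. Then h is surjective on
k-points: every k-point of G' is the image of a k-point of G. -/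
theorem result (k : Type u) [Field k] [IsAlgClosed k]
    (G G' : Over (Spec (CommRingCat.of k))) [GrpObj G] [GrpObj G'] [IsAffine G.left] [IsAffine G'.left]
    (h : G ⟶ G') [IsMonHom h] (hs : Surjective h.left) (x : 𝟙_ (Over (Spec (CommRingCat.of k))) ⟶ G') :
    ∃ g : 𝟙_ (Over (Spec (CommRingCat.of k))) ⟶ G, g ≫ h = x := by
  obtain ⟨A, _, _, v, hv, hv'⟩ := DeligneKillLib.exists_sp G'
  obtain ⟨B, _, _, w, hw, hw'⟩ := DeligneKillLib.exists_sp G
  obtain ⟨φ, hφ⟩ := Groth.Agent.DiagRep.exists_pt (R := k) (w.hom ≫ h ≫ v.inv)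
  haveI := hw; haveI := hv'
  haveI : IsMonHom (CoactBr.pt φ) := hφ ▸ inferInstance
  have hsurj : Function.Surjective (PrimeSpectrum.comap φ.toRingHom) := by
    haveI : IsIso w.hom.left := (Over.forget _).map_isIso w.hom
    haveI : IsIso v.inv.left := (Over.forget _).map_isIso v.inv
    haveI := hs
    have h1 : Surjective (w.hom.left ≫ h.left ≫ v.inv.left) := inferInstance
    have h2 : (CoactBr.pt (R := k) φ).left = w.hom.left ≫ h.left ≫ v.inv.left := by rw [← hφ]; rfl
    rw [CoactBr.pt_left] at h2
    rw [← h2] at h1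
    exact h1.surj
  obtain ⟨t, q, hq⟩ := Groth.Agent.HopfPoints.exists_point_comp v x
  obtain ⟨g, hg⟩ := Groth.Agent.HopfPoints.exists_point_of_surjective φ hsurj q
  refine ⟨t ≫ CoactBr.pt g ≫ w.hom, ?_⟩
  rw [hq, ← hg, CoactBr.pt_comp, ← hφ]
  simp

end Groth.Agent.S14536
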