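import Groth.Statements.S5324
import Groth.Agent.NeutralSchLib.Global
-- import your own Groth.Agent.* helpers here

set_option autoImplicit false
universe u
open CategoryTheory CategoryTheory.Limits MonoidalCategory CartesianMonoidalCategory MonObj GrpObj AlgebraicGeometry
open SGA3

namespace Groth.Agent.S5324

/-- Let G be an S-group scheme whose fibres G_s are locally of finite type over κ(s) and connected. Then
G is quasi-compact over S. -/
theorem result (S : Scheme.{u}) (G : Over S) [GrpObj G]
    (hG : ∀ s : S, LocallyOfFiniteType (G.hom.fiberToSpecResidueField s))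
    (hconn : ∀ s : S, _root_.IsConnected (G.hom.base ⁻¹' {s})) : QuasiCompact G.hom := by
  refine Groth.Agent.NeutralSch.quasiCompact_of_eq_univ (Set.eq_univ_of_forall fun x => ?_)
  refine ((Groth.Agent.NeutralSch.neutralSet_inter_fibre G (G.hom x)).ge ?_).1
  exact (hconn (G.hom x)).isPreconnected.subset_connectedComponentIn
    (SecCompLib.apply_section (Groth.Agent.NeutralSch.us_fac G) (G.hom x)) subset_rfl rfl
end Groth.Agent.S5324
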