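import Groth.Statements.S3022
import Groth.Agent.NeutralSchLib.Fibre
import Groth.Agent.TransLib.SyntPoint
import Groth.Agent.HopfTruncLib.GroupSyntomic


-- import your own Groth.Agent.* helpers here

set_option autoImplicit false
universe u
open CategoryTheory MonoidalCategory CartesianMonoidalCategory MonObj GrpObj AlgebraicGeometry TensorProduct
open SGA3

namespace Groth.Agent.S3022

/-- Let S be a scheme and G a group scheme over S which is flat and locally of finite presentation. Then
s ↦ dim G_s (the dimension of the fibre, i.e. of the subspace of G lying over s) is a locally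
constant function on S. -/
theorem result (S : Scheme.{u}) (G : Over S) [GrpObj G] [Flat G.hom]
    [LocallyOfFinitePresentation G.hom] :
    IsLocallyConstant (fun s : S => topologicalKrullDim ↥(G.hom.base ⁻¹' {s})) := by
  have hsyn := HopfTruncLib.syntomic_of_flat_lfp G
  have h1 := TransLib.isLocallyConstant_fibreDimAt _ hsyn
  let e : S ⟶ G.left := (η[G] : 𝟙_ (Over S) ⟶ G).left
  have h2 := h1.comp_continuous (f := e.base) e.continuous
  have key : (fun s : S => topologicalKrullDim ↥(G.hom.base ⁻¹' {s})) =
      (fun x => FlatMor.fibreDimAt G.hom x) ∘ e.base := by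
    funext s
    simp only [Function.comp_apply]
    rw [Groth.Agent.NeutralSch.fibreDimAt_eq_comp_dim, Groth.Agent.NeutralSch.dim_fibre_eq]
    have hs : G.hom (e s) = s := by
      rw [← Scheme.Hom.comp_apply, Groth.Agent.NeutralSch.us_fac G]; rfl
    rw [hs]
  rw [key]
  exact h2

end Groth.Agent.S3022
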