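import Groth.Statements.S3003
import Groth.Agent.MaxTorusRankLib.Nearby

set_option autoImplicit false
universe u
open CategoryTheory MonoidalCategory CartesianMonoidalCategory MonObj GrpObj AlgebraicGeometry
open Red

attribute [-instance] CategoryTheory.Hom.commGroup
attribute [local instance] CoactBr.braidedAlgSpecOf
set_option backward.isDefEq.respectTransparency false

namespace Groth.Agent.S3003

/-- Let S be a scheme, G an S-group scheme which is smooth and affine over S with connected fibres, and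
s₀ ∈ S such that every maximal torus of the geometric fibre G_{s̄₀} is its own centralizer (every
point of G_{s̄₀} commuting with all points of the torus lies in it). Then there exist an étale
morphism v : Spec B → S whose image contains s₀ and a maximal torus of the base change of G to Spec
B which is split. -/
theorem result (S : Scheme.{u}) (G : Over S) [GrpObj G] [IsAffineHom G.hom] [Smooth G.hom] (hconn : ∀ s : S, _root_.IsConnected (G.hom.base ⁻¹' {s})) (s₀ : S) (hc : ∀ (T : Over (Spec (CommRingCat.of (AlgebraicClosure (S.residueField s₀))))) [GrpObj T] (i : T ⟶ Red.geomFibre s₀ G), Red.IsMaximalTorus i → ∀ (X : Over _) (g : X ⟶ Red.geomFibre s₀ G), (∀ (X' : Over _) (x : X' ⟶ X) (t : X' ⟶ T), (x ≫ g) * (t ≫ i) = (t ≫ i) * (x ≫ g)) → ∃ t : X ⟶ T, g = t ≫ i) : ∃ (B : Type u) (_ : CommRing B) (v : Spec (CommRingCat.of B) ⟶ S), Etale v ∧ s₀ ∈ Set.range v.base ∧ ∃ (T : Over (Spec (CommRingCat.of B))) (_ : GrpObj T) (i : T ⟶ Red.bc v G), Red.IsMaximalTorus i ∧ ∃ r : ℕ, Red.IsSplitTorusWith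 (Fin r → ℤ) T := by
  obtain ⟨r, S', g, y, i, hg, hy, hi, him, hmax⟩ := MaxTorusRank.exists_local_torus G s₀
  haveI := hg; haveI := hi; haveI := him
  haveI := RedRank.isAffineHom_bc G g
  haveI : Smooth (Red.bc g G).hom := MorphismProperty.pullback_snd (P := @Smooth) _ _ inferInstance
  have hci : IsClosedImmersion i.left :=
    Transporter.isClosedImmersion_of_mono (RedRank.locally_of_isTorus (RedRank.isTorus_DS S' r)) inferInstance i
  obtain ⟨Z, _, c, hZ, hcc, hsm⟩ := (S3006.result S' (Red.bc g G) _ i hci (RedRank.isTorus_DS S' r)).1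
  haveI := hcc; haveI := hsm; haveI := hZ.1; haveI := hZ.2.1
  haveI : IsAffineHom Z.hom := by rw [← Over.w c]; infer_instance
  obtain ⟨θ, hθ⟩ : ∃ θ : Red.bc (Red.geomPt s₀) G ≅ Red.bc y (Red.bc g G), IsMonHom θ.hom := by
    rw [← hy]; exact RedCharZeroLib.exists_bc_comp y g G
  haveI := hθ
  haveI : IsMonHom θ.inv := inferInstance
  obtain ⟨hyc, hycm, hyz⟩ := MaxTorusRank.isCentralizerOf_bc hZ y
  haveI := hyc; haveI := hycm
  haveI : IsMonHom (M := Red.bc y (Red.DS S' (Fin r → ℤ))) (N := Red.bc y (Red.bc g G)) ((Over.pullback y).map i) :=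
    DiagRep.isMonHom_bc_map y i
  haveI : Mono ((Over.pullback y).map i) := by
    haveI : (Over.pullback y).IsRightAdjoint := (Over.mapPullbackAdj y).isRightAdjoint
    infer_instance
  let j : Red.bc y (Red.DS S' (Fin r → ℤ)) ⟶ Red.geomFibre s₀ G := (Over.pullback y).map i ≫ θ.inv
  haveI : IsMonHom j := inferInstanceAs (IsMonHom ((Over.pullback y).map i ≫ θ.inv))
  haveI : Mono j := inferInstanceAs (Mono ((Over.pullback y).map i ≫ θ.inv))
  have hjmax : Red.IsMaximalTorus j :=
    MaxTorusRank.isMaximalTorus_of_top G (Red.geomPt s₀) j (RedRank.isTorus_bc (RedRank.isTorus_DS S' r) y)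
      fun m hm => (MaxTorusRank.has_bc_DS_iff y r m).2 (hmax m hm)
  obtain ⟨t, ht⟩ := hc _ j hjmax _ ((Over.pullback y).map c ≫ θ.inv) fun X' x h => by
    have h1 := congrArg (fun a => a ≫ θ.inv) ((hyz _ ((Over.pullback y).map c)).1 ⟨𝟙 _, Category.id_comp _⟩ X' x h)
    simp only [MonObj.mul_comp, Category.assoc] at h1
    simpa [j] using h1
  have ht' : t ≫ (Over.pullback y).map i = (Over.pullback y).map c := by
    simpa [j] using (congrArg (fun a => a ≫ θ.hom) ht).symm
  haveI : IsCommMonObj (Red.DS S' (Fin r → ℤ)) := inferInstance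
  obtain ⟨k₀, hk₀⟩ := (hZ.2.2 _ i).2 fun X' x h => by rw [← MonObj.mul_comp, ← MonObj.mul_comp, mul_comm]
  let ε : Red.bc y Z ≅ Red.bc y (Red.DS S' (Fin r → ℤ)) :=
    { hom := t
      inv := (Over.pullback y).map k₀
      hom_inv_id := by
        rw [← cancel_mono ((Over.pullback y).map c), Category.assoc, ← Functor.map_comp, hk₀, ht', Category.id_comp]
      inv_hom_id := by
        rw [← cancel_mono ((Over.pullback y).map i), Category.assoc, ht', ← Functor.map_comp, hk₀, Category.id_comp] }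
  have hdim : topologicalKrullDim ↥(Z.hom.base ⁻¹' {y (IsLocalRing.closedPoint _)}) = (r : WithBot ℕ∞) := by
    rw [← MaxTorusRank.dim_bc_eq Z y]
    let e := Scheme.homeoOfIso ((Over.forget _).mapIso ε)
    refine (IsHomeomorph.topologicalKrullDim_eq e e.isHomeomorph).trans ?_
    obtain ⟨r', hr'⟩ := MaxTorusRank.exists_rank (RedRank.isTorus_DS S' r) (y (IsLocalRing.closedPoint _))
    obtain ⟨hr1, hr2⟩ := hr' _ y rfl
    obtain rfl : r' = r := le_antisymm ((MaxTorusRank.has_bc_DS_iff y r r').1 ((hr1 r').2 le_rfl))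
      ((hr1 r).1 ((MaxTorusRank.has_bc_DS_iff y r r).2 le_rfl))
    exact hr2
  let V : S'.Opens := ⟨_, (S3022.result S' Z).isOpen_fiber (r : WithBot ℕ∞)⟩
  obtain ⟨U, hU, hsU, hUV⟩ := exists_isAffineOpen_mem_and_subset (X := S') (x := y (IsLocalRing.closedPoint _))
    (U := V) hdim
  let f := hU.fromSpec
  refine ⟨Γ(S', U), inferInstance, f ≫ g, inferInstance, ?_, ?_⟩
  · obtain ⟨a, ha⟩ : y (IsLocalRing.closedPoint _) ∈ Set.range f := by rw [hU.range_fromSpec]; exact hsU
    refine ⟨a, ?_⟩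
    show (f ≫ g) a = s₀
    rw [Scheme.Hom.comp_apply, ha, ← Scheme.Hom.comp_apply, hy, RedRank.geomPt_apply]
  obtain ⟨e, he⟩ := RedCharZeroLib.exists_DS_bc f (Fin r → ℤ)
  obtain ⟨φ, hφ⟩ := RedCharZeroLib.exists_bc_comp f g G
  haveI := he; haveI := hφ
  haveI : IsMonHom φ.inv := inferInstance
  haveI : IsMonHom (M := Red.bc f (Red.DS S' (Fin r → ℤ))) (N := Red.bc f (Red.bc g G)) ((Over.pullback f).map i) :=
    DiagRep.isMonHom_bc_map f i
  haveI : Mono ((Over.pullback f).map i) := by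
    haveI : (Over.pullback f).IsRightAdjoint := (Over.mapPullbackAdj f).isRightAdjoint
    infer_instance
  refine ⟨_, inferInstance, e.hom ≫ (Over.pullback f).map i ≫ φ.inv, ?_, r, ⟨Iso.refl _⟩⟩
  refine MaxTorusRank.isMaximalTorus_of_forall (RedRank.isTorus_DS _ r) fun z m hm => ?_
  refine (MaxTorusRank.has_bc_DS_iff _ r m).2 ?_
  let q := Red.geomPt z ≫ f
  have hm' : RedRank.Has (Red.bc q (Red.bc g G)) m := (MaxTorusRank.has_bc_bc_iff G g q m).2 (by
    rw [show q ≫ g = Red.geomPt z ≫ f ≫ g from Category.assoc _ _ _]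
    exact (MaxTorusRank.has_bc_bc_iff G (f ≫ g) _ m).1 hm)
  obtain ⟨r', _, _, -, -, -, -, hall, hdimr⟩ := MaxTorusRank.le_dim_centralizer (Red.bc g G) i hZ q
  have h1 := @hdimr inferInstance inferInstance inferInstance
  rw [MaxTorusRank.dim_bc_eq Z q] at h1
  have h2 : q (IsLocalRing.closedPoint _) ∈ V := hUV (by
    show (Red.geomPt z ≫ f) _ ∈ (U : Set S')
    rw [Scheme.Hom.comp_apply, ← hU.range_fromSpec]
    exact ⟨_, rfl⟩)
  rw [show topologicalKrullDim ↥(Z.hom.base ⁻¹' {q (IsLocalRing.closedPoint _)}) = (r : WithBot ℕ∞) from h2] at h1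
  exact (hall m hm').trans (by exact_mod_cast h1)

end Groth.Agent.S3003
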