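import Groth.Statements.S14756
import Groth.Agent.ChevThmLib.Disconn
import Groth.Agent.FlatLib.SmoothScheme
-- import your own Groth.Agent.* helpers here

set_option autoImplicit false
set_option backward.isDefEq.respectTransparency false
set_option linter.style.haveILetI false
set_option maxHeartbeats 1600000
universe u
open CategoryTheory CategoryTheory.Limits MonoidalCategory CartesianMonoidalCategory MonObj GrpObj AlgebraicGeometry
open AlgGrp

namespace Groth.Agent.S14756

/-- Over an algebraically closed field k let e → K → G → Q → e be an exact sequence of k-group schemes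
of finite type with G smooth (i : K → G a closed subgroup scheme, kernel of the flat surjective
homomorphism π : G → Q), and let G_lin ⊆ G and Q_lin ⊆ Q be the largest smooth connected affine
normal closed subgroup schemes (every other such subgroup factors through them). Then π maps G_lin
into Q_lin and the induced homomorphism G_lin → Q_lin is surjective. (The published proposition is
stated for all algebraic groups G; for the semidirect product of α_p by the multiplicative group
acting by scaling, with K = α_p, the largest smooth connected affine normal subgroup of G is trivial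
while that of Q = G_m is everything, so G is taken smooth here, the case in which the published
proof's use of the Chevalley quotient G/G_lin being proper is valid. The published proposition also
treats unipotent and solvable parts of linear groups and the finite index of K_lin in G_lin ∩ K;
only this assertion is stated.) -/
theorem result (k : Type u) [Field k] [IsAlgClosed k]
    (K G Q : Over (Spec (CommRingCat.of k))) [GrpObj K] [GrpObj G] [GrpObj Q]
    [QuasiCompact K.hom] [LocallyOfFiniteType K.hom] [Smooth G.hom] [QuasiCompact G.hom] [QuasiCompact Q.hom] [LocallyOfFiniteType Q.hom]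
    (i : K ⟶ G) [IsMonHom i] [IsClosedImmersion i.left]
    (π : G ⟶ Q) [IsMonHom π] [Flat π.left] [Surjective π.left] (hker : AlgGrp.IsKernel i π)
    (NG : Over (Spec (CommRingCat.of k))) [GrpObj NG] (iG : NG ⟶ G) [IsMonHom iG] [IsClosedImmersion iG.left]
    [Smooth NG.hom] [ConnectedSpace ↥NG.left] [IsAffine NG.left] (hNG : AlgGrp.IsNormalHom iG)
    (hNGmax : ∀ (N' : Over (Spec (CommRingCat.of k))) [GrpObj N'] (i' : N' ⟶ G) [IsMonHom i'] [IsClosedImmersion i'.left]
      [Smooth N'.hom] [ConnectedSpace ↥N'.left] [IsAffine N'.left], AlgGrp.IsNormalHom i' → ∃ f : N' ⟶ NG, f ≫ iG = i')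
    (NQ : Over (Spec (CommRingCat.of k))) [GrpObj NQ] (iQ : NQ ⟶ Q) [IsMonHom iQ] [IsClosedImmersion iQ.left]
    [Smooth NQ.hom] [ConnectedSpace ↥NQ.left] [IsAffine NQ.left] (hNQ : AlgGrp.IsNormalHom iQ)
    (hNQmax : ∀ (N' : Over (Spec (CommRingCat.of k))) [GrpObj N'] (i' : N' ⟶ Q) [IsMonHom i'] [IsClosedImmersion i'.left]
      [Smooth N'.hom] [ConnectedSpace ↥N'.left] [IsAffine N'.left], AlgGrp.IsNormalHom i' → ∃ f : N' ⟶ NQ, f ≫ iQ = i') :
    ∃ f : NG ⟶ NQ, f ≫ iQ = iG ≫ π ∧ Surjective f.left := by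
  haveI : IsSeparated Q.hom := Groth.Agent.GrpField.isSeparated_grp (G := Q)
  haveI := AntiAffLib.lfp_of_lft π
  haveI : Smooth Q.hom := by
    haveI : Smooth (π.left ≫ Q.hom) := by rw [Over.w π]; infer_instance
    exact FlatLib.smooth_of_fppf_comp π.left Q.hom
  haveI : Mono iQ := Over.mono_of_mono_left iQ
  haveI : Mono iG := Over.mono_of_mono_left iG
  -- into the largest one
  obtain ⟨N₁, _, i₁, hi₁, hmax₁, B, _, b, hbm, -, -, hbk, hBp⟩ := ChevThmLib.exists_chevalley_any Q
  haveI := hbm; haveI := hBp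
  haveI := hi₁.hom; haveI := hi₁.closed; haveI := hi₁.smooth; haveI := hi₁.conn; haveI := hi₁.affine
  obtain ⟨u, hu⟩ := AntiAffLib.exists_lift_kernel hbk (iG ≫ π) (AlbLib.eq_one_of_affine ((iG ≫ π) ≫ b))
  obtain ⟨v, hv⟩ := hNQmax N₁ i₁ hi₁.normal
  obtain ⟨f, hf⟩ : ∃ f : NG ⟶ NQ, f ≫ iQ = iG ≫ π := ⟨u ≫ v, by rw [Category.assoc, hv, hu]⟩
  refine ⟨f, hf, ?_⟩
  -- the image
  haveI : CompactSpace NG.left := inferInstance
  haveI : QuasiCompact NG.hom := quasiCompact_of_compactSpace _
  haveI : QuasiCompact (iG ≫ π).left := by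
    haveI : QuasiCompact ((iG ≫ π).left ≫ Q.hom) := by rw [Over.w (iG ≫ π)]; infer_instance
    exact QuasiCompact.of_comp (iG ≫ π).left Q.hom
  obtain ⟨C, _, p, c, hpm, hcm, hpc, hpf, hps, hpl, hcc⟩ :=
    Groth.Agent.GrpHom.exists_fppf_image (iG ≫ π) (Groth.Agent.GrpField.flat_field _)
  haveI := hcm; haveI := hcc; haveI := hps; haveI := hpf; haveI := hpl
  haveI : Mono c := Over.mono_of_mono_left c
  haveI : Smooth C.hom := by
    haveI : Smooth (p.left ≫ C.hom) := by rw [Over.w p]; infer_instance
    exact FlatLib.smooth_of_fppf_comp p.left C.hom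
  haveI : Smooth (Q ⊗ C).hom := inferInstanceAs (Smooth (pullback.fst Q.hom C.hom ≫ Q.hom))
  haveI : IsReduced (Q ⊗ C).left := AlgSpLib.isReduced_of_smooth (Q ⊗ C).hom
  have hcn : AlgGrp.IsNormalHom c := by
    let cj : Q ⊗ C ⟶ Q := fst Q C * (snd Q C ≫ c) * (fst Q C)⁻¹
    obtain ⟨m, hm⟩ := hNG (G ⊗ NG) (fst G NG) (snd G NG)
    have e : (π ⊗ₘ p) ≫ cj = m ≫ p ≫ c := by
      rw [hpc, ← Category.assoc m, ← hm, MonObj.mul_comp, MonObj.mul_comp, GrpObj.inv_comp]
      simp only [cj, MonObj.comp_mul, GrpObj.comp_inv, tensorHom_fst, tensorHom_snd_assoc, Category.assoc, hpc]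
    obtain ⟨_, _, _⟩ := Groth.Agent.MonoQuot.fppf_tensor π p
    obtain ⟨d, hd⟩ := AVAmpleLib.exists_lift_of_reduced c.left cj.left (by
      rintro _ ⟨z, rfl⟩
      obtain ⟨w, rfl⟩ := (π ⊗ₘ p).left.surjective z
      refine ⟨p.left (m.left w), ?_⟩
      exact (congr($(congrArg CommaMorphism.left e) w)).symm)
    let d' : Q ⊗ C ⟶ C := Over.homMk d (by rw [← Over.w c, ← Category.assoc, hd, Over.w cj])
    have hd' : d' ≫ c = cj := Over.OverMorphism.ext hd
    intro T g n
    refine ⟨lift g n ≫ d', ?_⟩
    rw [Category.assoc, hd']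
    simp only [cj, MonObj.comp_mul, GrpObj.comp_inv, lift_fst, lift_snd_assoc]
  haveI : Flat C.hom := inferInstance
  obtain ⟨R, _, r, hrm, hrf, hrs, hrl, hrk, hRsep, -, -⟩ := Groth.Agent.S3030.result k C Q c hcn
  haveI := hrm; haveI := hrs; haveI := hRsep
  obtain ⟨N₀, _, i₀, hi₀, hmax₀, A, _, a, ham, haf, has, hak, hAp⟩ := ChevThmLib.exists_chevalley_any G
  haveI := ham; haveI := haf; haveI := has; haveI := hAp
  haveI := hi₀.hom; haveI := hi₀.closed; haveI := hi₀.smooth; haveI := hi₀.conn; haveI := hi₀.affine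
  obtain ⟨w, hw⟩ := hNGmax N₀ i₀ hi₀.normal
  have h0 : i₀ ≫ π ≫ r = 1 := by
    rw [← hw, Category.assoc, ← Category.assoc iG, ← hpc, Category.assoc, AntiAffLib.kernel_comp hrk, MonObj.comp_one,
      MonObj.comp_one]
  haveI := AntiAffLib.lfp_of_lft a
  obtain ⟨e, he⟩ := Groth.Agent.MonoQuot.exists_desc_over a (π ≫ r) (fun T x y hxy => by
    obtain ⟨z, hz⟩ := AntiAffLib.exists_lift_kernel hak (x * y⁻¹)
      (by rw [MonObj.mul_comp, GrpObj.inv_comp, hxy, mul_inv_cancel])
    have h := congrArg (· ≫ (π ≫ r)) hz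
    simp only [Category.assoc] at h
    rw [h0, MonObj.comp_one, MonObj.mul_comp, GrpObj.inv_comp] at h
    exact mul_inv_eq_one.1 h.symm)
  haveI : Surjective e.left := by
    haveI : Surjective (a.left ≫ e.left) := by rw [← Over.comp_left, he, Over.comp_left]; infer_instance
    exact Surjective.of_comp a.left e.left
  haveI : UniversallyClosed R.hom := by
    haveI : UniversallyClosed (e.left ≫ R.hom) := by rw [Over.w e]; infer_instance
    exact UniversallyClosed.of_comp_surjective e.left R.hom
  haveI : LocallyOfFiniteType R.hom := by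
    haveI : LocallyOfFinitePresentation (r.left ≫ R.hom) := by
      rw [Over.w r]; exact LocallyOfFinitePresentation.iff_locallyOfFiniteType.2 inferInstance
    haveI := hrf
    haveI := hrl
    haveI := Groth.Agent.S0114.result r.left R.hom
    infer_instance
  haveI : IsProper R.hom := ⟨⟩
  obtain ⟨l, hl⟩ := AntiAffLib.exists_lift_kernel hrk iQ (AlbLib.eq_one_of_affine (iQ ≫ r))
  have hfl : f ≫ l = p := by rw [← cancel_mono c, Category.assoc, hl, hf, hpc]
  refine ⟨fun x => ?_⟩
  obtain ⟨y, hy⟩ := p.left.surjective (l.left x)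
  refine ⟨y, iQ.left.isClosedEmbedding.injective ?_⟩
  rw [← hl, Over.comp_left, Scheme.Hom.comp_apply, Scheme.Hom.comp_apply, ← hy, ← hfl]
  rfl
end Groth.Agent.S14756
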