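import Groth.Statements.S4141
import Groth.Agent.ChevThmLib.Descent
-- import your own Groth.Agent.* helpers here

set_option autoImplicit false
set_option backward.isDefEq.respectTransparency false
universe u
open CategoryTheory MonoidalCategory CartesianMonoidalCategory MonObj GrpObj AlgebraicGeometry CategoryTheory.Limits
open SGA3

namespace Groth.Agent.S4141

/-- Let k be a perfect field and G a smooth connected algebraic group over k. Then there is an affine,
smooth, connected closed subgroup scheme L of G, normal in G, such that the quotient G/L is an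
abelian variety: there is a surjective flat homomorphism q : G → Q with kernel L onto a proper,
smooth, connected k-group scheme Q. Moreover L is unique: any affine smooth connected normal closed
subgroup with proper smooth connected quotient coincides with L. -/
theorem result (k : Type u) [Field k] [PerfectField k]
    (G : Over (Spec (CommRingCat.of k))) [GrpObj G] [Smooth G.hom] [QuasiCompact G.hom] [ConnectedSpace ↥G.left] :
    ∃ (L : Over (Spec (CommRingCat.of k))) (_ : GrpObj L) (l : L ⟶ G) (Q : Over (Spec (CommRingCat.of k))) (_ : GrpObj Q)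
      (q : G ⟶ Q), IsMonHom l ∧ IsClosedImmersion l.left ∧ IsAffine L.left ∧ Smooth L.hom ∧ ConnectedSpace ↥L.left ∧
      AlgGrp.IsNormalHom l ∧ IsMonHom q ∧ Surjective q.left ∧ Flat q.left ∧ AlgGrp.IsKernel l q ∧
      IsProper Q.hom ∧ Smooth Q.hom ∧ ConnectedSpace ↥Q.left ∧
      ∀ (L' : Over (Spec (CommRingCat.of k))) [GrpObj L'] (l' : L' ⟶ G) (Q' : Over (Spec (CommRingCat.of k))) [GrpObj Q']
        (q' : G ⟶ Q'), IsMonHom l' → IsClosedImmersion l'.left → IsAffine L'.left → Smooth L'.hom → ConnectedSpace ↥L'.left →
        AlgGrp.IsNormalHom l' → IsMonHom q' → Surjective q'.left → Flat q'.left → AlgGrp.IsKernel l' q' →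
        IsProper Q'.hom → Smooth Q'.hom → ConnectedSpace ↥Q'.left → ∃ φ : L' ≅ L, φ.hom ≫ l = l' := by
  haveI : GeometricallyIntegral G.hom := AlbLib.geometricallyIntegral_grp G
  obtain ⟨L, _, l, Q, _, q, h1, h2, h3, h4, h5, h6, h7, h8, h9, h10, h11, h12, h13⟩ :=
    ChevThmLib.exists_chevalley_perfect G
  refine ⟨L, inferInstance, l, Q, inferInstance, q, h1, h2, h3, h4, h5, h6, h7, h8, h9, h10, h11, h12, h13, ?_⟩
  intro L' _ l' Q' _ q' g1 g2 g3 g4 g5 _ g7 _ _ g10 g11 _ _
  haveI := h1; haveI := h2; haveI := h3; haveI := h4; haveI := h5; haveI := h7; haveI := h11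
  haveI := g1; haveI := g2; haveI := g3; haveI := g4; haveI := g5; haveI := g7; haveI := g11
  haveI : Mono l.left := inferInstance
  haveI : Mono l := Over.mono_of_mono_left l
  haveI : Mono l'.left := inferInstance
  haveI : Mono l' := Over.mono_of_mono_left l'
  obtain ⟨f, hf⟩ := AntiAffLib.exists_lift_kernel h10 l' (AlbLib.eq_one_of_affine (l' ≫ q))
  obtain ⟨g, hg⟩ := AntiAffLib.exists_lift_kernel g10 l (AlbLib.eq_one_of_affine (l ≫ q'))
  exact ⟨⟨f, g, by rw [← cancel_mono l', Category.assoc, hg, hf, Category.id_comp],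
    by rw [← cancel_mono l, Category.assoc, hf, hg, Category.id_comp]⟩, hf⟩
end Groth.Agent.S4141
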