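import Groth.Statements.S5260
import Groth.Agent.WeilResLib.Apps
-- import your own Groth.Agent.* helpers here

set_option autoImplicit false
open CategoryTheory MonoidalCategory CartesianMonoidalCategory MonObj GrpObj AlgebraicGeometry
universe u
open SGA3x

namespace Groth.Agent.S5260

/-- Normalizer: Let G be an S-group locally of finite type and quasi-separated over S, H an S-group
which is smooth and of finite presentation over S with connected fibres, and i : H ⟶ G a
homomorphism which is a monomorphism. Then the normalizer of H in G is representable by a closed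
subgroup scheme of G whose immersion into G is of finite presentation. -/
theorem result {S : Scheme.{u}} (G H : Over S) [GrpObj G] [GrpObj H]
    [LocallyOfFiniteType G.hom] [QuasiSeparated G.hom] [Smooth H.hom] [QuasiCompact H.hom] [QuasiSeparated H.hom]
    (hconn : ∀ s : S, ConnectedSpace ↥(Limits.pullback H.hom (S.fromSpecResidueField s)))
    (i : H ⟶ G) [IsMonHom i] [Mono i] :
    ∃ (N : Over S) (_ : GrpObj N) (j : N ⟶ G), Red.IsNormalizerOf i j ∧ IsClosedImmersion j.left ∧
      LocallyOfFinitePresentation j.left := by
  haveI := Groth.Agent.WeilRes.geometricallyConnected_of_grp H hconn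
  haveI : LocallyOfFinitePresentation i.left := by
    haveI : LocallyOfFinitePresentation (i.left ≫ G.hom) := by rw [Over.w i]; infer_instance
    exact AlgSpLib.lfp_of_comp_lft i.left G.hom
  obtain ⟨Z, z, hzc, hzf, h⟩ := Groth.Agent.WeilRes.exists_normalizer i
  haveI : Mono z := by
    haveI : Mono ((Over.forget S).map z) := inferInstanceAs (Mono z.left)
    exact (Over.forget S).mono_of_mono_map ‹_›
  obtain ⟨I, hI⟩ := Groth.Agent.WeilRes.grpObj_normalizer i z h
  exact ⟨Z, I, z, ⟨hI, inferInstance, h⟩, hzc, hzf⟩
end Groth.Agent.S5260
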