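import Groth.Statements.S6294
import Mathlib.Algebra.Group.Pi.Units
import Mathlib.RingTheory.Ideal.MinimalPrime.Basic
import Mathlib.RingTheory.Nilpotent.Lemmas
import Mathlib.RingTheory.Localization.AtPrime.Basic


-- import your own Groth.Agent.* helpers here

set_option autoImplicit false
universe u
open CAlg

namespace Groth.Agent.S6294

/-- Let R be a ring with finitely many minimal primes q₁, …, q_t, and assume that the zerodivisors of R
are precisely the elements of q₁ ∪ … ∪ q_t. Then Q(R), the total ring of fractions of R, equals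
R_{q₁} × … × R_{q_t}: the diagonal map R → ∏ R_{q_i} is a localization of R at its non-zerodivisors. -/
theorem result {R : Type u} [CommRing R] {ι : Type} [Fintype ι] (q : ι → Ideal R) [∀ i, (q i).IsPrime] (hinj : Function.Injective q) (hmin : ∀ P : Ideal R, P ∈ minimalPrimes R ↔ P ∈ Set.range q) (hzd : ∀ x : R, x ∈ nonZeroDivisors R ↔ ∀ i, x ∉ q i) : IsLocalization (nonZeroDivisors R) (∀ i, Localization.AtPrime (q i)) := by
  classical
  have hnil : ∀ j, ∀ b ∈ q j, IsNilpotent (algebraMap R (Localization.AtPrime (q j)) b) := by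
    intro j b hb
    have hq : q j ∈ minimalPrimes R := (hmin _).2 ⟨j, rfl⟩
    rw [← mem_nilradical, nilradical, Ideal.radical_eq_sInf]
    refine Submodule.mem_sInf.2 fun P ⟨_, hP⟩ => ?_
    have hle : Ideal.comap (algebraMap R (Localization.AtPrime (q j))) P ≤ q j :=
      (((IsLocalization.AtPrime.orderIsoOfPrime (Localization.AtPrime (q j)) (q j)) ⟨P, hP⟩).2).2
    have := hle.antisymm (hq.2 ⟨Ideal.comap_isPrime _ _, bot_le⟩ hle)
    exact Ideal.mem_comap.1 (this.ge hb)
  have hsep : ∀ i, ∃ a : R, a ∉ q i ∧ ∀ j, j ≠ i → algebraMap R (Localization.AtPrime (q j)) a = 0 := by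
    intro i
    have hb : ∀ j, j ≠ i → ∃ b ∈ q j, b ∉ q i := fun j hj => SetLike.not_le_iff_exists.1 fun hle =>
      hj (hinj (le_antisymm hle (((hmin _).2 ⟨i, rfl⟩).2 ⟨inferInstance, bot_le⟩ hle)))
    choose b hb hbi using hb
    have hN : ∀ j (hj : j ≠ i), ∃ N, algebraMap R (Localization.AtPrime (q j)) (b j hj) ^ N = 0 := fun j hj => hnil j _ (hb j hj)
    choose N hN using hN
    refine ⟨∏ j : {j // j ≠ i}, b j.1 j.2 ^ N j.1 j.2, fun h => ?_, fun j hj => ?_⟩
    · obtain ⟨j, _, hj⟩ := ((inferInstance : (q i).IsPrime).prod_mem_iff).1 h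
      exact hbi _ _ ((inferInstance : (q i).IsPrime).mem_of_pow_mem _ hj)
    · rw [map_prod]
      exact Finset.prod_eq_zero (Finset.mem_univ ⟨j, hj⟩) (by rw [map_pow]; exact hN j hj)
  choose a ha ha0 using hsep
  have hsum : ∀ (c : ι → R) (j : ι), algebraMap R (Localization.AtPrime (q j)) (∑ i, a i * c i) =
      algebraMap R _ (a j) * algebraMap R _ (c j) := by
    intro c j
    rw [map_sum, Finset.sum_eq_single j (fun i _ hi => by rw [map_mul, ha0 i j hi.symm, zero_mul]) (by simp), map_mul]
  have hreg : ∀ c : ι → R, (∀ i, c i ∉ q i) → ∑ i, a i * c i ∈ nonZeroDivisors R := by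
    refine fun c hc => (hzd _).2 fun j h => ?_
    have h1 := (IsLocalization.AtPrime.to_map_mem_maximal_iff (Localization.AtPrime (q j)) (q j) _).2 h
    rw [hsum, ← map_mul, IsLocalization.AtPrime.to_map_mem_maximal_iff (Localization.AtPrime (q j)) (q j)] at h1
    exact ((inferInstance : (q j).IsPrime).mem_or_mem h1).elim (ha j) (hc j)
  refine (isLocalization_iff _ _).2 ⟨fun y => ?_, fun z => ?_, fun {x y} e => ?_⟩
  · exact Pi.isUnit_iff.2 fun i => IsLocalization.map_units (Localization.AtPrime (q i)) (⟨y.1, (hzd _).1 y.2 i⟩ : (q i).primeCompl)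
  · choose rs hrs using fun i => IsLocalization.surj (q i).primeCompl (z i)
    refine ⟨(∑ i, a i * (rs i).1, ⟨∑ i, a i * (rs i).2.1, hreg _ fun i => (rs i).2.2⟩), funext fun j => ?_⟩
    simp only [Pi.mul_apply, Pi.algebraMap_apply, hsum, ← hrs j]
    ring
  · have ht : ∀ i, ∃ t : (q i).primeCompl, (t : R) * x = t * y := fun i =>
      (IsLocalization.eq_iff_exists (q i).primeCompl (Localization.AtPrime (q i))).1 (congrFun e i)
    choose t ht using ht
    refine ⟨⟨∑ i, a i * (t i).1, hreg _ fun i => (t i).2⟩, ?_⟩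
    show (∑ i, a i * (t i).1) * x = (∑ i, a i * (t i).1) * y
    rw [Finset.sum_mul, Finset.sum_mul]
    exact Finset.sum_congr rfl fun i _ => by rw [mul_assoc, mul_assoc, ht]

end Groth.Agent.S6294
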