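import Groth.Statements.S6295
import Groth.Agent.NormalLib.Serre

set_option autoImplicit false
universe u
open CAlg

namespace Groth.Agent.S6295

/-- Let R be a reduced ring. Then every localization R_p at a minimal prime p is a field and the map R →
∏_{p minimal} R_p is injective (so R is a subring of a product of fields); moreover the set of
zerodivisors of R is the union of the minimal primes. -/
theorem result (R : Type u) [CommRing R] [IsReduced R] : (∀ p : PrimeSpectrum R, p.asIdeal ∈ minimalPrimes R → IsField (Localization.AtPrime p.asIdeal)) ∧ Function.Injective (algebraMap R (∀ p : {p : PrimeSpectrum R // p.asIdeal ∈ minimalPrimes R}, Localization.AtPrime p.1.asIdeal)) ∧ (∀ x : R, x ∉ nonZeroDivisors R ↔ ∃ p ∈ minimalPrimes R, x ∈ p) := by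
  classical
  have hfield : ∀ p : PrimeSpectrum R, p.asIdeal ∈ minimalPrimes R → IsField (Localization.AtPrime p.asIdeal) := by
    intro p hp
    let L := Localization.AtPrime p.asIdeal
    have hk : Ring.KrullDimLE 0 L := by
      rw [Ring.krullDimLE_iff, IsLocalization.AtPrime.ringKrullDim_eq_height p.asIdeal L,
        Ideal.height_eq_zero_iff.2 hp]
      rfl
    rw [IsLocalRing.isField_iff_maximalIdeal_eq, eq_bot_iff, ← nilradical_eq_bot_iff.2 (inferInstance : IsReduced L),
      nilradical_eq_sInf]
    refine le_sInf fun J hJ => ?_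
    have : Ideal.IsPrime J := hJ
    exact (IsLocalRing.eq_maximalIdeal (Ideal.isMaximal_of_isPrime J)).ge
  have hzero : ∀ z : R, (∀ q ∈ minimalPrimes R, z ∈ q) → z = 0 := fun z hz => by
    have : z ∈ nilradical R := by
      rw [nilradical_eq_sInf]
      refine Submodule.mem_sInf.2 fun J hJ => ?_
      have : Ideal.IsPrime J := hJ
      obtain ⟨q, hq, hqJ⟩ := Ideal.exists_minimalPrimes_le (I := (⊥ : Ideal R)) (J := J) bot_le
      exact hqJ (hz q hq)
    exact (mem_nilradical.1 this).eq_zero
  refine ⟨hfield, (injective_iff_map_eq_zero _).2 fun x hx => hzero x fun q hq => ?_, fun x => ⟨fun hx => ?_, ?_⟩⟩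
  · have hqp : q.IsPrime := hq.1.1
    obtain ⟨s, hs⟩ := (IsLocalization.map_eq_zero_iff q.primeCompl (Localization.AtPrime q) x).1
      (congrFun hx ⟨⟨q, hqp⟩, hq⟩)
    exact (hqp.mem_or_mem (hs ▸ q.zero_mem)).resolve_left s.2
  · rw [mem_nonZeroDivisors_iff_right] at hx
    push Not at hx
    obtain ⟨y, hy, hy0⟩ := hx
    by_contra h
    push Not at h
    refine hy0 (hzero y fun q hq => ?_)
    exact (hq.1.1.mem_or_mem (hy ▸ q.zero_mem)).resolve_right (h q hq)
  · rintro ⟨q, hq, hxq⟩ hnz
    have hqp : q.IsPrime := hq.1.1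
    let L := Localization.AtPrime q
    have h0 : algebraMap R L x = 0 := by
      have h1 : algebraMap R L x ∈ IsLocalRing.maximalIdeal L :=
        (IsLocalization.AtPrime.to_map_mem_maximal_iff L q x).2 hxq
      rw [IsLocalRing.isField_iff_maximalIdeal_eq.1 (hfield ⟨q, hqp⟩ hq)] at h1
      exact h1
    obtain ⟨s, hs⟩ := (IsLocalization.map_eq_zero_iff q.primeCompl L x).1 h0
    exact s.2 (mem_nonZeroDivisors_iff_right.1 hnz _ hs ▸ q.zero_mem)

end Groth.Agent.S6295
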