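import Groth.Statements.S6742
import Groth.Agent.Dual3Lib.PnCoh
import Groth.Agent.KiehlLib.ExtFin
import Groth.Agent.PerfLib.Coherent
import Groth.Agent.KoszOrthLib.Detect

set_option autoImplicit false
set_option backward.isDefEq.respectTransparency false
set_option backward.isDefEq.respectTransparency.types false
universe u
open CategoryTheory AlgebraicGeometry
attribute [local instance] HasDerivedCategory.standard
open DEquiv

namespace Groth.Agent.S6742

/-- Let X be a scheme proper over a field k, let K be an object of D(O_X) which is bounded and has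
coherent cohomology sheaves, and let E be a perfect object of D(O_X). Then the k-vector spaces
Ext^i_X(E, K) = Hom(E, K⟦i⟧) (k-linear structure induced by X → Spec k) are finite-dimensional for
all i ∈ ℤ and nonzero for only finitely many i. -/
theorem result
    (k : Type u) [Field k] (X : Scheme.{u}) [X.Over (Spec (.of k))] [IsProper (X ↘ Spec (.of k))]
    (K : DCoh.D X) (hK : SGA6.cohbP X K) (E : DCoh.D X) (hE : DCoh.IsPerfect E) :
    (∀ i : ℤ, Module.Finite k (E ⟶ (shiftFunctor (DCoh.D X) i).obj K)) ∧
        Set.Finite {i : ℤ | Nontrivial (E ⟶ (shiftFunctor (DCoh.D X) i).obj K)} := by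
  haveI : IsLocallyNoetherian X := LocallyOfFiniteType.isLocallyNoetherian (X ↘ Spec (.of k))
  haveI : CompactSpace ↥X := QuasiCompact.compactSpace_of_compactSpace (X ↘ Spec (.of k))
  haveI : IsNoetherian X := {}
  obtain ⟨hKc, a, b, hKa, hKb⟩ := hK
  obtain ⟨hEc, a', b', hEa, hEb⟩ := Groth.Agent.PerfLib.isCohD_and_bounded_of_isPerfect hE
  haveI := hKa
  haveI := hKb
  haveI := hEb
  have hge : ∀ i : ℤ, (K⟦i⟧).IsGE (a - i) := fun i =>
    DerivedCategory.TStructure.t.isGE_shift K a i (a - i) (by omega)
  refine ⟨fun i => ?_, ?_⟩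
  · haveI := hge i
    exact KiehlLib.finite_hom_of_proper E (K⟦i⟧) hEc b'
      (Groth.Agent.Dual3Lib.isCohD_shift hKc i) (a - i)
  · obtain ⟨N, hN⟩ := Filter.eventually_atTop.1 (Groth.Agent.KoszOrthLib.EvV.of_evZero
      Groth.Agent.KoszOrthLib.goodDir_atTop hE (E := K) (fun i => (hKc i).1)
      ((Groth.Agent.KoszOrthLib.exists_isLE_iff K).1 ⟨b, hKb⟩))
    refine (Set.finite_Icc (a - b') N).subset fun i hi => ?_
    obtain ⟨f, hf⟩ := @exists_ne _ hi (0 : E ⟶ (shiftFunctor (DCoh.D X) i).obj K)
    refine ⟨not_lt.1 fun h => hf ?_, not_lt.1 fun h => hf (hN i h.le f)⟩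
    haveI := hge i
    exact DerivedCategory.TStructure.t.zero f b' (a - i) (by omega)

end Groth.Agent.S6742
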