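import Groth.Statements.S8445
import Groth.Agent.BigCellLib.Root
-- import your own Groth.Agent.* helpers here

set_option autoImplicit false
universe u
open CategoryTheory MonoidalCategory CartesianMonoidalCategory MonObj GrpObj AlgebraicGeometry CategoryTheory.Limits
open Red

namespace Groth.Agent.S8445

/-- Let G be an S-group scheme, i : T ⟶ G a torus of G, j : Q ⟶ T a subtorus, α a character of T whose
restriction to Q is non-trivial on every geometric fibre, and p₊, p₋ : 𝔾_a ⟶ G homomorphisms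
normalised by T with multipliers α and α⁻¹ (i(t) p₊(x) i(t)⁻¹ = p₊(α(t) x), i(t) p₋(y) i(t)⁻¹ =
p₋(α(t)⁻¹ y)) such that the morphism 𝔾_a ×_S T ×_S 𝔾_a ⟶ G, (y, t, x) ↦ p₋(y) i(t) p₊(x), is an open
immersion. Let q ≥ 0 and let p : 𝔾_a ⟶ G be a homomorphism such that conjugating p(x) q times by
i(j(t)) gives p(α(t) x), for all points t of Q and x of 𝔾_a. Then there is exactly one S-point ν of
𝔾_a such that p(x) = p₊(ν x^q) for every point x of 𝔾_a with values in any S-scheme. -/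
theorem result (S : Scheme.{u}) (G T : Over S) [GrpObj G] [GrpObj T] (i : T ⟶ G) [IsMonHom i] [Mono i] (hT : Red.IsTorus T)
    (Q : Over S) [GrpObj Q] (j : Q ⟶ T) [IsMonHom j] [Mono j] (hQ : Red.IsTorus Q)
    (α : T ⟶ Red.Gm S) [IsMonHom α] (hα : ∀ s : S, (Over.pullback (Red.geomPt s)).map (j ≫ α) ≠ 1)
    (pp pm : Red.Ga S ⟶ G) [IsMonHom pp] [IsMonHom pm]
    (hpp : ∀ (X : Over S) (t : X ⟶ T) (x : X ⟶ Red.Ga S), ∃ x' : X ⟶ Red.Ga S,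
      x' ≫ pp = (t ≫ i) * (x ≫ pp) * (t ≫ i)⁻¹ ∧ Red.gaFn x' = Red.gmFn (t ≫ α) * Red.gaFn x)
    (hpm : ∀ (X : Over S) (t : X ⟶ T) (y : X ⟶ Red.Ga S), ∃ y' : X ⟶ Red.Ga S,
      y' ≫ pm = (t ≫ i) * (y ≫ pm) * (t ≫ i)⁻¹ ∧ Red.gaFn y' * Red.gmFn (t ≫ α) = Red.gaFn y)
    (hΩ : IsOpenImmersion (((pm ⊗ₘ i) ⊗ₘ pp) ≫ (μ[G] ▷ G) ≫ μ[G]).left) (q : ℕ) (p : Red.Ga S ⟶ G) [IsMonHom p]
    (hp : ∀ (X : Over S) (t : X ⟶ Q) (x x' : X ⟶ Red.Ga S), Red.gaFn x' = Red.gmFn (t ≫ j ≫ α) * Red.gaFn x →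
      x' ≫ p = ((t ≫ j ≫ i) ^ q) * (x ≫ p) * ((t ≫ j ≫ i) ^ q)⁻¹) :
    ∃! ν : 𝟙_ (Over S) ⟶ Red.Ga S, ∀ (X : Over S) (x y : X ⟶ Red.Ga S),
      Red.gaFn y = Red.gaFn (toUnit X ≫ ν) * Red.gaFn x ^ q → x ≫ p = y ≫ pp := by
  have st : BigCell.Sys i α pp pm := ⟨inferInstance, inferInstance, inferInstance, inferInstance, hpp, hpm, hΩ⟩
  have hc := fun (Y : Over S) (a b : Y ⟶ T) => BigCell.torus_comm hT a b
  obtain ⟨ν, hν⟩ := st.exists_coeff_of_weight (β := j ≫ α) (p := p) (q := q) hc hQ hα fun X t c => by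
    refine ⟨(t ≫ j) ^ q, ?_, ?_⟩
    · show GmPts.unitOfPt (((t ≫ j) ^ q) ≫ α) = GmPts.unitOfPt (t ≫ j ≫ α) ^ q
      rw [MonObj.pow_comp, Category.assoc]
      exact map_pow (GmPts.equiv X) _ q
    · rw [MonObj.pow_comp, Category.assoc]
      have h1 := hp X t (GaPts.ptOf c) (GaPts.ptOf (Red.gmFn (t ≫ j ≫ α) * c))
        (by rw [GaPts.gaFn_ptOf, GaPts.gaFn_ptOf])
      exact h1.symm
  refine ⟨GaPts.ptOf ν, fun X x y h => ?_, fun μ' hμ => ?_⟩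
  · rw [BigCell.rt_eq pp y h, BigCell.rt_eq p x rfl, hν, BigCell.pull, GaPts.gaFn_comp, GaPts.gaFn_ptOf]
  · refine GaPts.gaFn_injective ?_
    show Red.gaFn μ' = Red.gaFn _
    rw [GaPts.gaFn_ptOf]
    refine st.rt_pp_inj ?_
    have h1 := hμ (𝟙_ (Over S)) (GaPts.ptOf 1) (GaPts.ptOf (Red.gaFn μ')) (by
      rw [GaPts.gaFn_ptOf, GaPts.gaFn_ptOf, one_pow, _root_.mul_one, toUnit_unique (toUnit _) (𝟙 _), Category.id_comp])
    show _ = BigCell.rt pp ν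
    have h2 := hν (𝟙_ (Over S)) 1
    rw [one_pow, _root_.mul_one, BigCell.pull, toUnit_unique (toUnit _) (𝟙 _), Over.id_left,
      Scheme.Hom.id_appTop] at h2
    exact h1.symm.trans h2

end Groth.Agent.S8445
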