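import Groth.Statements.S4131
import Groth.Agent.CorootLib.Main
-- import your own Groth.Agent.* helpers here

set_option autoImplicit false
universe u
open CategoryTheory MonoidalCategory CartesianMonoidalCategory MonObj GrpObj AlgebraicGeometry CategoryTheory.Limits
open Red

namespace Groth.Agent.S4131

/-- Let G be an S-group scheme, i : T → G a subtorus, α : T → 𝔾_m a character which is non-trivial on
every geometric fibre, and p₊, p₋ : 𝔾_a → G homomorphisms which are monomorphisms normalised by T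
with multipliers α and α⁻¹ (i(t) p₊(x) i(t)⁻¹ = p₊(α(t)x), i(t) p₋(y) i(t)⁻¹ = p₋(α(t)⁻¹y)). Assume
(i) the morphism 𝔾_a ×_S T ×_S 𝔾_a → G, (y, t, x) ↦ p₋(y)·i(t)·p₊(x), is an open immersion, with
image Ω, and (ii) on every geometric fibre the images of p₊ and p₋ do not commute. Then there is
exactly one pair (a, α*) consisting of an S-point a of 𝔾_m and a homomorphism α* : 𝔾_m → T such that
for every S-scheme X and all points x, y of 𝔾_a with values in X: p₊(x)p₋(y) lies in Ω if and only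
if 1 + a·x·y is a unit (as a function on X), and in that case p₊(x)p₋(y) = p₋(y')·i(α*(z))·p₊(x')
where z = 1 + axy, y'·z = y and x'·z = x; moreover α ∘ α* is the squaring map of 𝔾_m. -/
theorem result (S : Scheme.{u}) (G T : Over S) [GrpObj G] [GrpObj T] (i : T ⟶ G)
    [IsMonHom i] [Mono i] (hT : Red.IsTorus T) (α : T ⟶ Red.Gm S) [IsMonHom α]
    (hα : ∀ s : S, (Over.pullback (Red.geomPt s)).map α ≠ 1)
    (pp pm : Red.Ga S ⟶ G) [IsMonHom pp] [Mono pp] [IsMonHom pm] [Mono pm]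
    (hpp : ∀ (X : Over S) (t : X ⟶ T) (x : X ⟶ Red.Ga S), ∃ x' : X ⟶ Red.Ga S,
      x' ≫ pp = (t ≫ i) * (x ≫ pp) * (t ≫ i)⁻¹ ∧ Red.gaFn x' = Red.gmFn (t ≫ α) * Red.gaFn x)
    (hpm : ∀ (X : Over S) (t : X ⟶ T) (y : X ⟶ Red.Ga S), ∃ y' : X ⟶ Red.Ga S,
      y' ≫ pm = (t ≫ i) * (y ≫ pm) * (t ≫ i)⁻¹ ∧ Red.gaFn y' * Red.gmFn (t ≫ α) = Red.gaFn y)
    (hΩ : IsOpenImmersion (((pm ⊗ₘ i) ⊗ₘ pp) ≫ (μ[G] ▷ G) ≫ μ[G]).left)
    (hnc : ∀ s : S, ∃ (X : Over (Spec (CommRingCat.of (AlgebraicClosure (S.residueField s)))))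
      (x y : X ⟶ Red.bc (Red.geomPt s) (Red.Ga S)),
      (x ≫ (Over.pullback (Red.geomPt s)).map pp) * (y ≫ (Over.pullback (Red.geomPt s)).map pm) ≠
        (y ≫ (Over.pullback (Red.geomPt s)).map pm) * (x ≫ (Over.pullback (Red.geomPt s)).map pp)) :
    ∃! q : (𝟙_ (Over S) ⟶ Red.Gm S) × (Red.Gm S ⟶ T), IsMonHom q.2 ∧ q.2 ≫ α = (𝟙 (Red.Gm S)) ^ 2 ∧
      ∀ (X : Over S) (x y : X ⟶ Red.Ga S),
        ((∃ w : X ⟶ (Red.Ga S ⊗ T) ⊗ Red.Ga S, w ≫ (((pm ⊗ₘ i) ⊗ₘ pp) ≫ (μ[G] ▷ G) ≫ μ[G]) = (x ≫ pp) * (y ≫ pm)) ↔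
          IsUnit (1 + Red.gmFn (toUnit X ≫ q.1) * Red.gaFn x * Red.gaFn y)) ∧
        (IsUnit (1 + Red.gmFn (toUnit X ≫ q.1) * Red.gaFn x * Red.gaFn y) →
          ∃ (x' y' : X ⟶ Red.Ga S) (z : X ⟶ Red.Gm S),
            Red.gmFn z = 1 + Red.gmFn (toUnit X ≫ q.1) * Red.gaFn x * Red.gaFn y ∧
            Red.gaFn x' * Red.gmFn z = Red.gaFn x ∧ Red.gaFn y' * Red.gmFn z = Red.gaFn y ∧
            (x ≫ pp) * (y ≫ pm) = (y' ≫ pm) * (z ≫ q.2 ≫ i) * (x' ≫ pp)) := by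
  have st : BigCell.Sys i α pp pm :=
    ⟨inferInstance, inferInstance, inferInstance, inferInstance, hpp, hpm, hΩ⟩
  obtain ⟨a, hau, hspec⟩ := st.exists_coeff hT hα hnc
  have C : BigCell.Coeff st a := ⟨hau, fun X _ => hspec X⟩
  let q₁ : 𝟙_ (Over S) ⟶ Red.Gm S := GmPts.ptOfUnit hau.unit
  have hq : ∀ X : Over S, Red.gmFn (toUnit X ≫ q₁) = BigCell.pull X a := fun X => by
    rw [GmPts.gmFn_comp, GmPts.gmFn_ptOfUnit, IsUnit.unit_spec]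
  let w : ∀ (X : Over S) (x y : X ⟶ Red.Ga S),
      (∃ w : X ⟶ (Red.Ga S ⊗ T) ⊗ Red.Ga S, w ≫ (((pm ⊗ₘ i) ⊗ₘ pp) ≫ (μ[G] ▷ G) ≫ μ[G]) = (x ≫ pp) * (y ≫ pm)) ↔
        BigCell.InCell i pp pm (BigCell.rt pp (Red.gaFn x) * BigCell.rt pm (Red.gaFn y)) := fun X x y => by
    rw [← BigCell.rt_eq pp x rfl, ← BigCell.rt_eq pm y rfl]
    constructor
    · rintro ⟨w, hw⟩
      refine ⟨Red.gaFn (w ≫ fst _ _ ≫ fst _ _), w ≫ fst _ _ ≫ snd _ _, Red.gaFn (w ≫ snd _ _), ?_⟩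
      have e : w = lift (lift (w ≫ fst _ _ ≫ fst _ _) (w ≫ fst _ _ ≫ snd _ _)) (w ≫ snd _ _) := by
        ext <;> simp
      rw [← hw]
      conv_lhs => rw [e]
      rw [BigCell.lift_cellHom, BigCell.rt_eq pm _ rfl, BigCell.rt_eq pp _ rfl]
    · rintro ⟨b, t, c, h⟩
      exact ⟨lift (lift (GaPts.ptOf b) t) (GaPts.ptOf c), (BigCell.lift_cellHom i pp pm _ _ _).trans h.symm⟩
  refine ⟨(q₁, BigCell.avPt st C hT hα hnc), ⟨C.isMonHom_avPt hT hα hnc, C.avPt_comp_α hT hα hnc, fun X x y => ⟨?_, ?_⟩⟩, ?_⟩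
  · rw [hq, w, C.inCell_iff hT hα hnc]
  · rw [hq]
    intro h
    refine ⟨GaPts.ptOf (Red.gaFn x * ((h.unit⁻¹ : (Γ(X.left, ⊤))ˣ) : Γ(X.left, ⊤))),
      GaPts.ptOf (Red.gaFn y * ((h.unit⁻¹ : (Γ(X.left, ⊤))ˣ) : Γ(X.left, ⊤))), GmPts.ptOfUnit h.unit, ?_, ?_, ?_, ?_⟩
    · rw [GmPts.gmFn_ptOfUnit, h.unit_spec]
    · rw [GaPts.gaFn_ptOf, GmPts.gmFn_ptOfUnit, _root_.mul_assoc, Units.inv_mul, _root_.mul_one]
    · rw [GaPts.gaFn_ptOf, GmPts.gmFn_ptOfUnit, _root_.mul_assoc, Units.inv_mul, _root_.mul_one]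
    · rw [BigCell.rt_eq pp x rfl, BigCell.rt_eq pm y rfl, C.formula hT hα hnc _ _ h.unit h.unit_spec]
      simp only [BigCell.cell, BigCell.rt, Category.assoc]
  · rintro ⟨q', av'⟩ ⟨-, -, hq'⟩
    dsimp only at hq'
    let a' : Γ((𝟙_ (Over S)).left, ⊤) := Red.gmFn q'
    have hq'' : ∀ X : Over S, Red.gmFn (toUnit X ≫ q') = BigCell.pull X a' := fun X => GmPts.gmFn_comp _ _
    obtain ⟨haa, hav⟩ := C.eq_of_formula hT hα hnc (a' := a') (GmPts.isUnit_gmFn q') (av := av') fun X u z hz => by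
      obtain ⟨x', y', z', h1, h2, h3, h4⟩ := (hq' X (GaPts.ptOf 1) (GaPts.ptOf u)).2 (by
        rw [hq'', GaPts.gaFn_ptOf, GaPts.gaFn_ptOf, _root_.mul_one, ← hz]; exact z.isUnit)
      rw [hq'', GaPts.gaFn_ptOf, GaPts.gaFn_ptOf, _root_.mul_one, ← hz] at h1
      rw [GaPts.gaFn_ptOf, h1, ← Units.eq_mul_inv_iff_mul_eq] at h2 h3
      refine h4.trans ?_
      rw [RankOne.eq_ptOfUnit z' h1, BigCell.rt_eq pm y' h3, BigCell.rt_eq pp x' (h2.trans (_root_.one_mul _))]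
      simp only [BigCell.cell, Category.assoc]
    refine Prod.ext (GmPts.gmFn_injective ?_) hav
    show Red.gmFn q' = Red.gmFn q₁
    rw [GmPts.gmFn_ptOfUnit, IsUnit.unit_spec]
    exact haa

end Groth.Agent.S4131
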