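import Groth.Statements.S18878
import Groth.Agent.DescFP.Hom
import Groth.Agent.SubDescLib.Main

set_option autoImplicit false
set_option backward.isDefEq.respectTransparency false
universe u
open Lim

namespace Groth.Agent.S18878

section

open CategoryTheory CategoryTheory.Limits MonoidalCategory CartesianMonoidalCategory AlgebraicGeometry
open scoped MonObj

variable {I : Type u} [SmallCategory I] [IsCofiltered I] {D : I ⥤ Scheme.{u}} {c : Cone D} (hc : IsLimit c)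
  [∀ (i j : I) (a : i ⟶ j), IsAffineHom (D.map a)] {i₀ : I}

/-- A morphism factors through a subscheme after base change to a stage. -/
def Fac {G₀ H₀ X₀ : Over (D.obj i₀)} (ι₀ : H₀ ⟶ G₀) (m : X₀ ⟶ G₀) {i : I} (a : i ⟶ i₀) : Prop :=
  ∃ gm : pullback X₀.hom (D.map a) ⟶ H₀.left, gm ≫ ι₀.left = pullback.fst _ _ ≫ m.left

omit [IsCofiltered I] [∀ (i j : I) (a : i ⟶ j), IsAffineHom (D.map a)] in
theorem fac_mono {G₀ H₀ X₀ : Over (D.obj i₀)} {ι₀ : H₀ ⟶ G₀} {m : X₀ ⟶ G₀} {i : I} {a : i ⟶ i₀}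
    (h : Fac ι₀ m a) {k : I} (b : k ⟶ i) : Fac ι₀ m (b ≫ a) := by
  obtain ⟨gm, hgm⟩ := h
  refine ⟨pullback.lift (pullback.fst _ _) (pullback.snd _ _ ≫ D.map b)
    (by rw [Category.assoc, ← D.map_comp, pullback.condition]) ≫ gm, ?_⟩
  rw [Category.assoc, hgm, pullback.lift_fst_assoc]

omit [IsCofiltered I] [∀ (i j : I) (a : i ⟶ j), IsAffineHom (D.map a)] in
theorem fac_over {G₀ H₀ X₀ : Over (D.obj i₀)} {ι₀ : H₀ ⟶ G₀} {m : X₀ ⟶ G₀} {i : I} {a : i ⟶ i₀}
    (h : Fac ι₀ m a) : ∃ g : (Over.pullback (D.map a)).obj X₀ ⟶ (Over.pullback (D.map a)).obj H₀,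
      g ≫ (Over.pullback (D.map a)).map ι₀ = (Over.pullback (D.map a)).map m := by
  obtain ⟨gm, hgm⟩ := h
  have hgm' : gm ≫ H₀.hom = pullback.fst X₀.hom (D.map a) ≫ X₀.hom := by
    rw [← Over.w ι₀, reassoc_of% hgm, Over.w m]
  refine ⟨Over.homMk (pullback.lift gm (pullback.snd _ _) (hgm'.trans pullback.condition)) (pullback.lift_snd _ _ _), ?_⟩
  refine Over.OverMorphism.ext (pullback.hom_ext ?_ ?_)
  · simp [hgm]
  · simp

include hc in
/-- A factorisation over the limit descends to a stage. -/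
theorem exists_fac {G₀ H₀ X₀ : Over (D.obj i₀)} (ι₀ : H₀ ⟶ G₀) (m : X₀ ⟶ G₀) [CompactSpace (D.obj i₀)]
    [CompactSpace X₀.left] [QuasiSeparatedSpace X₀.left] [LocallyOfFinitePresentation H₀.hom]
    [LocallyOfFinitePresentation G₀.hom]
    (f : (Over.pullback (c.π.app i₀)).obj X₀ ⟶ (Over.pullback (c.π.app i₀)).obj H₀)
    (hf : f ≫ (Over.pullback (c.π.app i₀)).map ι₀ = (Over.pullback (c.π.app i₀)).map m) :
    ∃ (i : I) (a : i ⟶ i₀), Fac ι₀ m a := by
  have hX := IsPullback.of_hasPullback X₀.hom (c.π.app i₀)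
  have hY := IsPullback.of_hasPullback H₀.hom (c.π.app i₀)
  obtain ⟨j, φ, fj, sX, sY, hfj, hX1, hX2, hY1, hY2, hs⟩ :=
    DescFP.exists_hom_descend hc X₀.hom H₀.hom _ _ hX _ _ hY f.left (Over.w f)
  have hX' : IsPullback sX (pullback.snd X₀.hom (c.π.app i₀)) (pullback.snd X₀.hom (D.map φ)) (c.π.app j) :=
    IsPullback.of_right (by rw [hX1, c.w]; exact hX) hX2 (IsPullback.of_hasPullback X₀.hom (D.map φ))
  haveI : QuasiCompact (pullback.fst X₀.hom (D.map φ)) := inferInstance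
  haveI : CompactSpace ↥(pullback X₀.hom (D.map φ)) :=
    QuasiCompact.compactSpace_of_compactSpace (pullback.fst X₀.hom (D.map φ))
  haveI : LocallyOfFiniteType (pullback.snd G₀.hom (D.map φ)) :=
    MorphismProperty.pullback_snd _ _ (inferInstance : LocallyOfFiniteType G₀.hom)
  have hfj' : (fj ≫ pullback.fst H₀.hom (D.map φ) ≫ ι₀.left) ≫ G₀.hom = pullback.snd X₀.hom (D.map φ) ≫ D.map φ := by
    simp only [Category.assoc]
    rw [Over.w ι₀, pullback.condition, reassoc_of% hfj]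
  let fi : pullback X₀.hom (D.map φ) ⟶ pullback G₀.hom (D.map φ) :=
    pullback.lift (fj ≫ pullback.fst _ _ ≫ ι₀.left) (pullback.snd _ _) hfj'
  let gi : pullback X₀.hom (D.map φ) ⟶ pullback G₀.hom (D.map φ) :=
    pullback.lift (pullback.fst _ _ ≫ m.left) (pullback.snd _ _) (by rw [Category.assoc, Over.w m, pullback.condition])
  have he : sX ≫ fi = sX ≫ gi := by
    apply pullback.hom_ext
    · simp only [fi, gi, Category.assoc, pullback.lift_fst]
      rw [reassoc_of% hs, reassoc_of% hY1, reassoc_of% hX1]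
      have h1 := congrArg (fun g => g.left ≫ pullback.fst G₀.hom (c.π.app i₀)) hf
      simpa using h1
    · simp [fi, gi]
  obtain ⟨k, ψ, hk⟩ := DescFP.hom_eq_eventually hc (pullback.snd X₀.hom (D.map φ)) (pullback.snd G₀.hom (D.map φ))
    sX (pullback.snd X₀.hom (c.π.app i₀)) hX' fi gi (pullback.lift_snd _ _ _) (pullback.lift_snd _ _ _) he
  let u : pullback X₀.hom (D.map (ψ ≫ φ)) ⟶ pullback (pullback.snd X₀.hom (D.map φ)) (D.map ψ) :=
    pullback.lift (pullback.lift (pullback.fst _ _) (pullback.snd _ _ ≫ D.map ψ)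
      (by rw [Category.assoc, ← D.map_comp, pullback.condition])) (pullback.snd _ _) (pullback.lift_snd _ _ _)
  refine ⟨k, ψ ≫ φ, u ≫ pullback.fst _ _ ≫ fj ≫ pullback.fst _ _, ?_⟩
  have h2 := congrArg (fun g => u ≫ g ≫ pullback.fst G₀.hom (D.map φ)) hk
  simp only [fi, gi, Category.assoc, pullback.lift_fst] at h2
  simpa [u] using h2

omit [IsCofiltered I] [∀ (i j : I) (a : i ⟶ j), IsAffineHom (D.map a)] in
/-- A stage where the operations factor carries a subgroup. -/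
theorem grpObj_of_fac {G₀ H₀ : Over (D.obj i₀)} [GrpObj G₀] (ι₀ : H₀ ⟶ G₀) [IsClosedImmersion ι₀.left] {i : I}
    (a : i ⟶ i₀) (h1 : Fac ι₀ (1 : 𝟙_ (Over (D.obj i₀)) ⟶ G₀) a)
    (h2 : Fac ι₀ ((fst H₀ H₀ ≫ ι₀) * (snd H₀ H₀ ≫ ι₀)) a) (h3 : Fac ι₀ ι₀⁻¹ a) :
    ∃ _ : GrpObj (Red.bc (D.map a) H₀), IsMonHom ((Over.pullback (D.map a)).map ι₀) := by
  obtain ⟨g1, hg1⟩ := fac_over h1
  obtain ⟨g2, hg2⟩ := fac_over h2
  obtain ⟨g3, hg3⟩ := fac_over h3
  let F := Over.pullback (D.map a)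
  haveI : Mono ι₀ := Over.mono_of_mono_left ι₀
  haveI : Mono (F.map ι₀) := inferInstance
  refine SubDesc.exists_grpObj_of_mono (F.map ι₀) ⟨Functor.LaxMonoidal.μ F H₀ H₀ ≫ g2, ?_⟩
    ⟨Functor.LaxMonoidal.ε F ≫ g1, ?_⟩ ⟨g3, ?_⟩
  · rw [Category.assoc, hg2, Functor.map_mul, MonObj.comp_mul, F.map_comp, F.map_comp,
      Functor.Monoidal.μ_fst_assoc, Functor.Monoidal.μ_snd_assoc]
  · rw [Category.assoc, hg1, Functor.map_one, MonObj.comp_one]
  · rw [hg3, Functor.map_inv']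

end

open CategoryTheory CategoryTheory.Limits MonoidalCategory CartesianMonoidalCategory in
open scoped MonObj in
open CategoryTheory AlgebraicGeometry in
/-- Let S = lim S_i be a cofiltered limit of schemes with affine transition morphisms over a
quasi-compact quasi-separated stage S_{i₀}, let G₀ be a group scheme separated and of finite
presentation over S_{i₀} and H₀ ⊆ G₀ a closed subscheme whose immersion is of finite presentation,
and write G, H (resp. G_i, H_i) for the base changes to S (resp. to a stage S_i). If H is a closed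
subgroup scheme of G, that is H carries a group structure over S for which H → G is a homomorphism,
then H_i is a closed subgroup scheme of G_i for some stage i → i₀; if moreover H is normal in G, the
stage can be chosen so that H_i is normal in G_i. (The published statement is for separated finitely
presented group algebraic spaces and an arbitrary closed subspace H₀; this row is the case of
schemes and assumes H₀ → G₀ of finite presentation: over the limit Spec k of the spectra of k[x_1,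
x_2, …]/(x_1, …, x_n), k of characteristic zero, the closed subscheme of the additive group cut out
by all x_m t^m becomes the whole additive group over Spec k but is a subgroup over no stage, so a
finiteness condition on H₀ is needed, and finite presentation is what the published limit argument
uses.) -/
theorem result
    {I : Type u} [SmallCategory I] [IsCofiltered I]
    (D : I ⥤ Scheme.{u}) (c : Limits.Cone D) (hc : Limits.IsLimit c)
    [∀ (i j : I) (a : i ⟶ j), IsAffineHom (D.map a)] (i₀ : I)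
    [CompactSpace (D.obj i₀)] [QuasiSeparatedSpace (D.obj i₀)]
    (G₀ : Over (D.obj i₀)) [GrpObj G₀] [IsSeparated G₀.hom] [QuasiCompact G₀.hom]
    [LocallyOfFinitePresentation G₀.hom]
    (H₀ : Over (D.obj i₀)) (ι₀ : H₀ ⟶ G₀) [IsClosedImmersion ι₀.left]
    [LocallyOfFinitePresentation ι₀.left]
    (hH : ∃ _ : GrpObj (Red.bc (c.π.app i₀) H₀), IsMonHom ((Over.pullback (c.π.app i₀)).map ι₀)) :
    (∃ (i : I) (a : i ⟶ i₀) (_ : GrpObj (Red.bc (D.map a) H₀)),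
        IsMonHom ((Over.pullback (D.map a)).map ι₀)) ∧
    ((∃ (_ : GrpObj (Red.bc (c.π.app i₀) H₀)) (_ : IsMonHom ((Over.pullback (c.π.app i₀)).map ι₀)),
        AlgGrp.IsNormalHom ((Over.pullback (c.π.app i₀)).map ι₀)) →
      ∃ (i : I) (a : i ⟶ i₀) (_ : GrpObj (Red.bc (D.map a) H₀))
        (_ : IsMonHom ((Over.pullback (D.map a)).map ι₀)),
        AlgGrp.IsNormalHom ((Over.pullback (D.map a)).map ι₀)) := by
  haveI : LocallyOfFinitePresentation H₀.hom := by rw [← Over.w ι₀]; infer_instance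
  haveI : QuasiCompact H₀.hom := by rw [← Over.w ι₀]; infer_instance
  haveI : IsSeparated H₀.hom := by rw [← Over.w ι₀]; infer_instance
  let F := Over.pullback (c.π.app i₀)
  have hX : ∀ {X : Over (D.obj i₀)}, QuasiCompact X.hom → IsSeparated X.hom →
      CompactSpace X.left ∧ QuasiSeparatedSpace X.left := fun {X} _ _ =>
    ⟨QuasiCompact.compactSpace_of_compactSpace X.hom, quasiSeparatedSpace_of_quasiSeparated X.hom⟩
  obtain ⟨_, _⟩ := hX (X := H₀) inferInstance inferInstance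
  obtain ⟨_, _⟩ := hX (X := H₀ ⊗ H₀) (by rw [Over.tensorObj_hom]; infer_instance) (by rw [Over.tensorObj_hom]; infer_instance)
  obtain ⟨_, _⟩ := hX (X := G₀ ⊗ H₀) (by rw [Over.tensorObj_hom]; infer_instance) (by rw [Over.tensorObj_hom]; infer_instance)
  obtain ⟨_, _⟩ := hX (X := 𝟙_ (Over (D.obj i₀))) (inferInstanceAs (QuasiCompact (𝟙 (D.obj i₀))))
    (inferInstanceAs (IsSeparated (𝟙 (D.obj i₀))))
  have key : ∀ (_ : GrpObj (Red.bc (c.π.app i₀) H₀)) (_ : IsMonHom (F.map ι₀)), ∃ (i : I) (a : i ⟶ i₀),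
      Fac ι₀ (1 : 𝟙_ (Over (D.obj i₀)) ⟶ G₀) a ∧ Fac ι₀ ((fst H₀ H₀ ≫ ι₀) * (snd H₀ H₀ ≫ ι₀)) a ∧
        Fac ι₀ ι₀⁻¹ a := by
    intro _ _
    obtain ⟨i₁, a₁, h₁⟩ := exists_fac hc ι₀ (1 : 𝟙_ (Over (D.obj i₀)) ⟶ G₀) (1 : F.obj (𝟙_ _) ⟶ F.obj H₀)
      (by rw [MonObj.one_comp, Functor.map_one])
    obtain ⟨i₂, a₂, h₂⟩ := exists_fac hc ι₀ ((fst H₀ H₀ ≫ ι₀) * (snd H₀ H₀ ≫ ι₀))
      ((F.map (fst H₀ H₀) : F.obj (H₀ ⊗ H₀) ⟶ F.obj H₀) * F.map (snd H₀ H₀))
      (by rw [MonObj.mul_comp, Functor.map_mul, F.map_comp, F.map_comp])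
    obtain ⟨i₃, a₃, h₃⟩ := exists_fac hc ι₀ ι₀⁻¹ ((𝟙 (F.obj H₀))⁻¹ : F.obj H₀ ⟶ F.obj H₀)
      (by rw [GrpObj.inv_comp, Category.id_comp, Functor.map_inv'])
    obtain ⟨j, b₁, b₂, b₃⟩ : ∃ (j : I) (_ : j ⟶ i₁) (_ : j ⟶ i₂), Nonempty (j ⟶ i₃) :=
      ⟨IsCofiltered.min (IsCofiltered.min i₁ i₂) i₃, IsCofiltered.minToLeft _ _ ≫ IsCofiltered.minToLeft _ _,
        IsCofiltered.minToLeft _ _ ≫ IsCofiltered.minToRight _ _, ⟨IsCofiltered.minToRight _ _⟩⟩
    obtain ⟨b₃⟩ := b₃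
    obtain ⟨k, e, he⟩ := IsCofilteredOrEmpty.cone_maps (b₁ ≫ a₁) (b₂ ≫ a₂)
    obtain ⟨l, e', he'⟩ := IsCofilteredOrEmpty.cone_maps (e ≫ b₁ ≫ a₁) (e ≫ b₃ ≫ a₃)
    refine ⟨l, e' ≫ e ≫ b₁ ≫ a₁, ?_, ?_, ?_⟩
    · simpa using fac_mono h₁ (e' ≫ e ≫ b₁)
    · rw [he]
      simpa using fac_mono h₂ (e' ≫ e ≫ b₂)
    · rw [he']
      simpa using fac_mono h₃ (e' ≫ e ≫ b₃)
  refine ⟨?_, ?_⟩
  · obtain ⟨g, hg⟩ := hH
    obtain ⟨i, a, h1, h2, h3⟩ := key g hg
    obtain ⟨g', hg'⟩ := grpObj_of_fac ι₀ a h1 h2 h3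
    exact ⟨i, a, g', hg'⟩
  · rintro ⟨g, hg, hN⟩
    obtain ⟨i, a, h1, h2, h3⟩ := key g hg
    obtain ⟨n', hn'⟩ := hN (F.obj (G₀ ⊗ H₀)) (F.map (fst G₀ H₀)) (F.map (snd G₀ H₀))
    obtain ⟨i₄, a₄, h₄⟩ := exists_fac hc ι₀ (fst G₀ H₀ * (snd G₀ H₀ ≫ ι₀) * (fst G₀ H₀)⁻¹) n'
      (by rw [← hn', Functor.map_mul, Functor.map_mul, Functor.map_inv', F.map_comp])
    obtain ⟨k, e, he⟩ := IsCofilteredOrEmpty.cone_maps (IsCofiltered.minToLeft i i₄ ≫ a) (IsCofiltered.minToRight i i₄ ≫ a₄)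
    let a' := e ≫ IsCofiltered.minToLeft i i₄ ≫ a
    have h1' : Fac ι₀ (1 : 𝟙_ (Over (D.obj i₀)) ⟶ G₀) a' := by simpa [a'] using fac_mono h1 (e ≫ IsCofiltered.minToLeft i i₄)
    have h2' : Fac ι₀ ((fst H₀ H₀ ≫ ι₀) * (snd H₀ H₀ ≫ ι₀)) a' := by simpa [a'] using fac_mono h2 (e ≫ IsCofiltered.minToLeft i i₄)
    have h3' : Fac ι₀ ι₀⁻¹ a' := by simpa [a'] using fac_mono h3 (e ≫ IsCofiltered.minToLeft i i₄)
    have h4' : Fac ι₀ (fst G₀ H₀ * (snd G₀ H₀ ≫ ι₀) * (fst G₀ H₀)⁻¹) a' := by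
      show Fac ι₀ _ (e ≫ IsCofiltered.minToLeft i i₄ ≫ a)
      rw [he]
      simpa using fac_mono h₄ (e ≫ IsCofiltered.minToRight i i₄)
    obtain ⟨g', hg'⟩ := grpObj_of_fac ι₀ a' h1' h2' h3'
    obtain ⟨g4, hg4⟩ := fac_over h4'
    refine ⟨k, a', g', hg', fun T x n => ⟨(lift x n ≫ Functor.LaxMonoidal.μ (Over.pullback (D.map a')) G₀ H₀) ≫ g4, ?_⟩⟩
    rw [Category.assoc, hg4]
    simp only [Functor.map_mul, Functor.map_inv', Functor.map_comp, MonObj.comp_mul, GrpObj.comp_inv, Category.assoc,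
      Functor.Monoidal.μ_fst, Functor.Monoidal.μ_snd_assoc, lift_fst, lift_snd_assoc]

end Groth.Agent.S18878
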