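import Groth.Statements.S18029
import Groth.Agent.S18878
import Groth.Agent.GenLimLib.Basic

set_option autoImplicit false
set_option backward.isDefEq.respectTransparency false
universe u
open CategoryTheory MonoidalCategory CartesianMonoidalCategory MonObj GrpObj AlgebraicGeometry CategoryTheory.Limits
open AlgGrp

namespace Groth.Agent.S18029

open scoped TensorProduct

/-- An ideal of a generic fibre has generators over the base. -/
theorem exists_fg_model {R₁ K A : Type u} [CommRing R₁] [CommRing K] [CommRing A] [Algebra R₁ K] [Algebra R₁ A]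
    (hfrac : ∀ k : K, ∃ r : R₁, IsUnit (algebraMap R₁ K r) ∧ algebraMap R₁ K r * k ∈ Set.range (algebraMap R₁ K))
    (I : Ideal (K ⊗[R₁] A)) (hI : I.FG) :
    ∃ J : Ideal A, J.FG ∧ J.map (Algebra.TensorProduct.includeRight : A →ₐ[R₁] K ⊗[R₁] A) = I := by
  classical
  let inc : A →ₐ[R₁] K ⊗[R₁] A := Algebra.TensorProduct.includeRight
  have hz : ∀ z : K ⊗[R₁] A, ∃ r : R₁, IsUnit (algebraMap R₁ K r) ∧ r • z ∈ inc.range := by
    intro z
    induction z with
    | zero => exact ⟨1, by simp, by simp⟩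
    | tmul k a =>
      obtain ⟨r, hr, r', hr'⟩ := hfrac k
      refine ⟨r, hr, r' • a, ?_⟩
      show (1 : K) ⊗ₜ[R₁] (r' • a) = r • k ⊗ₜ a
      rw [← TensorProduct.smul_tmul, TensorProduct.smul_tmul', Algebra.smul_def, Algebra.smul_def, _root_.mul_one, hr']
    | add x y hx hy =>
      obtain ⟨v, hv, a, ha⟩ := hx
      obtain ⟨w, hw, b, hb⟩ := hy
      refine ⟨v * w, by rw [map_mul]; exact hv.mul hw, w • a + v • b, ?_⟩
      show inc (w • a + v • b) = _
      rw [map_add, map_smul, map_smul, show inc a = v • x from ha, show inc b = w • y from hb, smul_add, smul_smul,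
        smul_smul, _root_.mul_comm w v]
  obtain ⟨t, rfl⟩ := hI
  choose r hr a ha using hz
  refine ⟨Ideal.span (a '' (t : Set (K ⊗[R₁] A))), ⟨t.image a, by rw [Finset.coe_image]⟩, le_antisymm ?_ ?_⟩
  · rw [Ideal.map_span, Ideal.span_le]
    rintro _ ⟨_, ⟨z, hz, rfl⟩, rfl⟩
    rw [show Algebra.TensorProduct.includeRight (a z) = r z • z from ha z]
    exact Submodule.smul_of_tower_mem _ _ (Ideal.subset_span hz)
  · rw [Ideal.span_le]
    intro z hz
    have hu : IsUnit (algebraMap R₁ (K ⊗[R₁] A) (r z)) :=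
      (IsScalarTower.algebraMap_apply R₁ K (K ⊗[R₁] A) (r z)).symm ▸ (hr z).map (algebraMap K (K ⊗[R₁] A))
    refine (Ideal.unit_mul_mem_iff_mem _ hu).1 ?_
    rw [← Algebra.smul_def, ← show inc (a z) = r z • z from ha z]
    exact Ideal.mem_map_of_mem _ (Ideal.subset_span ⟨z, hz, rfl⟩)

/-- A base-changed closed immersion is a closed immersion. -/
theorem isClosedImmersion_bc {S S' : Scheme.{u}} (t : S' ⟶ S) {X Y : Over S} (f : X ⟶ Y) [IsClosedImmersion f.left] :
    IsClosedImmersion ((Over.pullback t).map f).left := by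
  have sq : IsPullback (pullback.fst X.hom t) ((Over.pullback t).map f).left f.left (pullback.fst Y.hom t) := by
    refine IsPullback.of_bot ?_ (pullback.lift_fst _ _ _).symm (IsPullback.of_hasPullback Y.hom t)
    have h1 : ((Over.pullback t).map f).left ≫ pullback.snd Y.hom t = pullback.snd X.hom t := pullback.lift_snd _ _ _
    rw [Over.w f, h1]
    exact IsPullback.of_hasPullback X.hom t
  exact MorphismProperty.of_isPullback (P := @IsClosedImmersion) sq inferInstance

/-- A subgroup over a stage as a subgroup over an open subscheme. -/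
theorem exists_open_of_stage {X S₀ Sk P : Scheme.{u}} (u₀ : S₀ ⟶ X) (G : Over X) [GrpObj G] {H₀ : Over S₀}
    (ι₀ : H₀ ⟶ Red.bc u₀ G) [IsClosedImmersion ι₀.left] (t : Sk ⟶ S₀) [IsOpenImmersion (t ≫ u₀)]
    [GrpObj (Red.bc t H₀)] [IsMonHom ((Over.pullback t).map ι₀)] (πk : P ⟶ Sk) {Z : Scheme.{u}} (z : Z ⟶ P)
    (q : Z ⟶ H₀.left) (hpb : IsPullback q z H₀.hom (πk ≫ t)) (r : Z ⟶ G.left)
    (hr : r = q ≫ ι₀.left ≫ pullback.fst G.hom u₀) :
    ∃ (U : X.Opens) (ηU : P ⟶ (U : Scheme.{u})) (HU : Over (U : Scheme.{u}))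
      (_ : GrpObj HU) (j : HU ⟶ Red.bc U.ι G) (φ : Z ⟶ HU.left),
      ηU ≫ U.ι = πk ≫ t ≫ u₀ ∧ IsMonHom j ∧ IsClosedImmersion j.left ∧
      IsPullback φ z HU.hom ηU ∧ φ ≫ j.left ≫ pullback.fst G.hom U.ι = r := by
  let u := t ≫ u₀
  let ε := u.isoOpensRange
  have hd : (ε.inv ≫ t) ≫ u₀ = u.opensRange.ι := by
    rw [Category.assoc, Scheme.Hom.isoOpensRange_inv_comp]
  let HU := Red.bc ε.inv (Red.bc t H₀)
  let j : HU ⟶ Red.bc u.opensRange.ι G := (Over.pullback ε.inv).map ((Over.pullback t).map ι₀) ≫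
    (ActBC.bcCompIso ε.inv t (Red.bc u₀ G) rfl).hom ≫ (ActBC.bcCompIso (ε.inv ≫ t) u₀ G hd).hom
  let φ₁ : Z ⟶ (Red.bc t H₀).left :=
    pullback.lift q (z ≫ πk) (by rw [hpb.w, Category.assoc])
  let φ : Z ⟶ HU.left :=
    pullback.lift φ₁ (z ≫ πk ≫ ε.hom) (by
      show φ₁ ≫ pullback.snd _ _ = (z ≫ πk ≫ ε.hom) ≫ ε.inv
      rw [pullback.lift_snd, Category.assoc, Category.assoc, ε.hom_inv_id, Category.comp_id])
  refine ⟨u.opensRange, πk ≫ ε.hom, HU, inferInstance, j, φ, ?_, ?_, ?_, ?_, ?_⟩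
  · rw [Category.assoc, Scheme.Hom.isoOpensRange_hom_ι]
  · exact inferInstance
  · haveI : IsClosedImmersion ((Over.pullback t).map ι₀).left := isClosedImmersion_bc t ι₀
    haveI : IsClosedImmersion ((Over.pullback ε.inv).map ((Over.pullback t).map ι₀)).left :=
      isClosedImmersion_bc ε.inv _
    simp only [j, Over.comp_left]
    infer_instance
  · have hright : IsPullback φ₁ z (Red.bc t H₀).hom πk :=
      IsPullback.of_right (by rw [pullback.lift_fst]; exact hpb) (pullback.lift_snd _ _ _)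
        (IsPullback.of_hasPullback H₀.hom t)
    exact IsPullback.of_right
      (by rw [pullback.lift_fst, Category.assoc, ε.hom_inv_id, Category.comp_id]; exact hright)
      (pullback.lift_snd _ _ _) (IsPullback.of_hasPullback (Red.bc t H₀).hom ε.inv)
  · simp only [j, Over.comp_left, Category.assoc]
    rw [ActBC.bcCompIso_hom_left_fst, ActBC.bcCompIso_hom_left_fst_assoc]
    simp only [Over.pullback_map_left, pullback.lift_fst_assoc, Category.assoc]
    rw [pullback.lift_fst_assoc, pullback.lift_fst_assoc, hr]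

/-- Closed subgroups of the generic fibre spread out. Let `X` be an integral scheme with generic point
`η : Spec K(X) ⟶ X`, `G` an affine `X`-group scheme locally of finite presentation and `H_η` a
closed subgroup scheme of the generic fibre `G_η = G ×_X Spec K(X)`. Then there are a non-empty open
`U ⊆ X` (through which `η` factors) and a closed subgroup scheme `H_U` of `G ×_X U` whose generic
fibre is `H_η`: a cartesian square presents `H_η` as `H_U ×_U Spec K(X)`, compatibly with the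
embeddings into `G`. -/
theorem result
    (X : Scheme.{u}) [IsIntegral X] (G : Over X) [GrpObj G]
    [IsAffineHom G.hom] [LocallyOfFinitePresentation G.hom]
    (Hη : Over (Spec X.functionField)) [GrpObj Hη]
    (i : Hη ⟶ Red.bc (X.fromSpecStalk (genericPoint X)) G) [IsMonHom i] [IsClosedImmersion i.left] :
    ∃ (U : X.Opens) (ηU : Spec X.functionField ⟶ (U : Scheme.{u})) (HU : Over (U : Scheme.{u}))
      (_ : GrpObj HU) (j : HU ⟶ Red.bc U.ι G) (φ : Hη.left ⟶ HU.left),
      ηU ≫ U.ι = X.fromSpecStalk (genericPoint X) ∧ IsMonHom j ∧ IsClosedImmersion j.left ∧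
      IsPullback φ Hη.hom HU.hom ηU ∧
      φ ≫ j.left ≫ pullback.fst G.hom U.ι = i.left ≫ pullback.fst G.hom (X.fromSpecStalk (genericPoint X)) := by
  obtain ⟨_, ⟨V, hV, rfl⟩, hηV, -⟩ := X.isBasis_affineOpens.exists_subset_of_mem_open
    (Set.mem_univ (genericPoint X)) isOpen_univ
  haveI : Nonempty V := ⟨⟨_, hηV⟩⟩
  haveI := functionField_isFractionRing_of_isAffineOpen X V hV
  let M := nonZeroDivisors Γ(X, V)
  let D := GenLim.sys M
  let c := GenLim.cone M X.functionField
  let i₀ : (GenLim.Idx M)ᵒᵖ := Opposite.op ⟨1, M.one_mem⟩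
  let π : Spec X.functionField ⟶ D.obj i₀ := c.π.app i₀
  let u₀ : D.obj i₀ ⟶ X := GenLim.toSpec M i₀ ≫ hV.fromSpec
  have hπu : π ≫ u₀ = X.fromSpecStalk (genericPoint X) := by
    show c.π.app i₀ ≫ GenLim.toSpec M i₀ ≫ hV.fromSpec = _
    rw [← IsAffineOpen.fromSpecStalk_eq_fromSpecStalk hV hηV]
    exact (Category.assoc _ _ _).symm.trans (congrArg (· ≫ hV.fromSpec) (GenLim.π_toSpec M X.functionField i₀))
  let G₀ := Red.bc u₀ G
  haveI : IsAffineHom G₀.hom := MorphismProperty.pullback_snd _ _ (inferInstance : IsAffineHom G.hom)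
  haveI : LocallyOfFinitePresentation G₀.hom :=
    MorphismProperty.pullback_snd _ _ (inferInstance : LocallyOfFinitePresentation G.hom)
  haveI : IsAffine G₀.left := isAffine_of_isAffineHom G₀.hom
  let R₁ := (GenLim.ringF M).obj i₀.unop
  let K := X.functionField
  let πc : R₁ ⟶ K := (GenLim.coconeF M X.functionField).ι.app i₀.unop
  let A := Γ(G₀.left, ⊤)
  obtain ⟨φA, hφA⟩ := Spec.map_surjective (show Spec A ⟶ Spec R₁ from G₀.left.isoSpec.inv ≫ G₀.hom)
  letI : Algebra R₁ A := φA.hom.toAlgebra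
  letI : Algebra R₁ K := πc.hom.toAlgebra
  haveI : Algebra.FinitePresentation R₁ A := by
    haveI : LocallyOfFinitePresentation (Spec.map φA) := by
      rw [hφA]
      exact (inferInstance : LocallyOfFinitePresentation (G₀.left.isoSpec.inv ≫ G₀.hom))
    exact (HasRingHomProperty.Spec_iff (P := @LocallyOfFinitePresentation)).1 this
  let inc : A →ₐ[R₁] K ⊗[R₁] A := Algebra.TensorProduct.includeRight
  -- the generic fibre is affine
  have hG : IsPullback (Spec.map (CommRingCat.ofHom inc.toRingHom) ≫ G₀.left.isoSpec.inv)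
      (Spec.map (CommRingCat.ofHom (Algebra.TensorProduct.includeLeftRingHom : K →+* K ⊗[R₁] A))) G₀.hom π := by
    have h0 := (isPullback_SpecMap_of_isPushout _ _ _ _ (CommRingCat.isPushout_tensorProduct R₁ K A).flip).paste_horiz
      (IsPullback.of_horiz_isIso (⟨by rw [Category.comp_id]; exact hφA.symm⟩ :
        CommSq G₀.left.isoSpec.inv (Spec.map φA) (G₀.hom : G₀.left ⟶ Spec R₁) (𝟙 (Spec R₁))))
    have hπ : Spec.map (CommRingCat.ofHom (algebraMap R₁ K)) ≫ 𝟙 (Spec R₁) = π := Category.comp_id _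
    rw [hπ] at h0
    exact h0
  let i' : Hη ⟶ Red.bc π G₀ := i ≫ (ActBC.bcCompIso π u₀ G hπu).inv
  haveI : IsClosedImmersion i'.left := by rw [Over.comp_left]; infer_instance
  haveI : IsClosedImmersion (i'.left ≫ hG.isoPullback.inv) :=
    MorphismProperty.comp_mem _ _ _ ‹IsClosedImmersion i'.left› inferInstance
  obtain ⟨Iη, e, he⟩ := IsClosedImmersion.Spec_iff.1 ‹IsClosedImmersion (i'.left ≫ hG.isoPullback.inv)›
  haveI : IsNoetherianRing (K ⊗[R₁] A) := Algebra.FiniteType.isNoetherianRing K _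
  have hfrac : ∀ k : K, ∃ r : R₁, IsUnit (algebraMap R₁ K r) ∧ algebraMap R₁ K r * k ∈ Set.range (algebraMap R₁ K) := by
    intro k
    have hπR : ∀ x, algebraMap R₁ K (algebraMap Γ(X, V) R₁ x) = algebraMap Γ(X, V) X.functionField x := fun x =>
      IsLocalization.Away.lift_eq (S := Localization.Away (1 : Γ(X, V))) (g := algebraMap Γ(X, V) X.functionField) (1 : Γ(X, V)) (by simp) x
    obtain ⟨⟨x, m⟩, hxm⟩ := IsLocalization.surj M (S := X.functionField) k
    refine ⟨algebraMap Γ(X, V) R₁ m, ?_, algebraMap Γ(X, V) R₁ x, ?_⟩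
    · rw [hπR]
      exact IsLocalization.map_units X.functionField m
    · rw [hπR, hπR, _root_.mul_comm]
      exact hxm.symm
  obtain ⟨J, hJfg, hJ⟩ := exists_fg_model hfrac Iη (IsNoetherian.noetherian Iη)
  let mJ : A →+* A ⧸ J := Ideal.Quotient.mk J
  let H₀ : Over (D.obj i₀) := Over.mk (Spec.map (CommRingCat.ofHom mJ) ≫ G₀.left.isoSpec.inv ≫ G₀.hom)
  let ι₀ : H₀ ⟶ G₀ := Over.homMk (Spec.map (CommRingCat.ofHom mJ) ≫ G₀.left.isoSpec.inv) (Category.assoc _ _ _)
  haveI : IsClosedImmersion ι₀.left := by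
    haveI : IsClosedImmersion (Spec.map (CommRingCat.ofHom mJ)) :=
      IsClosedImmersion.spec_of_surjective _ Ideal.Quotient.mk_surjective
    exact (inferInstance : IsClosedImmersion (Spec.map (CommRingCat.ofHom mJ) ≫ G₀.left.isoSpec.inv))
  haveI : LocallyOfFinitePresentation ι₀.left := by
    haveI : LocallyOfFinitePresentation (Spec.map (CommRingCat.ofHom mJ)) :=
      (HasRingHomProperty.Spec_iff (P := @LocallyOfFinitePresentation)).2
        (RingHom.FinitePresentation.of_surjective mJ Ideal.Quotient.mk_surjective (by rwa [Ideal.mk_ker]))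
    exact (inferInstance : LocallyOfFinitePresentation (Spec.map (CommRingCat.ofHom mJ) ≫ G₀.left.isoSpec.inv))
  -- the model has the given generic fibre
  let qA : A ⧸ J →+* (K ⊗[R₁] A) ⧸ Iη := Ideal.quotientMap Iη inc.toRingHom (Ideal.map_le_iff_le_comap.1 hJ.le)
  have hq : IsPullback (Spec.map (CommRingCat.ofHom qA)) (Spec.map (CommRingCat.ofHom (Ideal.Quotient.mk Iη)))
      (Spec.map (CommRingCat.ofHom mJ)) (Spec.map (CommRingCat.ofHom inc.toRingHom)) := by
    refine isPullback_SpecMap_of_isPushout _ _ _ _ (IsPushout.of_isColimit' ⟨?_⟩ ?_)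
    · exact CommRingCat.hom_ext (RingHom.ext fun (x : A) =>
        (show qA (mJ x) = Ideal.Quotient.mk Iη (inc x) from Ideal.quotientMap_mk))
    refine PushoutCocone.isColimitAux' _ fun s => ?_
    have hle : ∀ z ∈ Iη, s.inr.hom z = 0 := by
      have : Iη ≤ RingHom.ker s.inr.hom := by
        rw [← hJ, Ideal.map_le_iff_le_comap]
        intro x hx
        rw [Ideal.mem_comap, RingHom.mem_ker]
        have h1 := congrArg (fun ψ => (ConcreteCategory.hom ψ) x) s.condition
        refine Eq.trans h1.symm ?_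
        show s.inl.hom (mJ x) = 0
        rw [Ideal.Quotient.eq_zero_iff_mem.2 hx, map_zero]
      exact fun z hz => RingHom.mem_ker.1 (this hz)
    refine ⟨CommRingCat.ofHom (Ideal.Quotient.lift Iη s.inr.hom hle), ?_, ?_, fun {m} h1 h2 => ?_⟩
    · refine CommRingCat.hom_ext (Ideal.Quotient.ringHom_ext (RingHom.ext fun x => ?_))
      show Ideal.Quotient.lift Iη s.inr.hom hle (qA (mJ x)) = s.inl.hom (mJ x)
      rw [Ideal.quotientMap_mk, Ideal.Quotient.lift_mk]
      exact (congrArg (fun ψ => (ConcreteCategory.hom ψ) x) s.condition).symm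
    · exact CommRingCat.hom_ext (RingHom.ext fun x => rfl)
    · refine CommRingCat.hom_ext (Ideal.Quotient.ringHom_ext (RingHom.ext fun x => ?_))
      show m.hom (Ideal.Quotient.mk Iη x) = _
      rw [RingHom.comp_apply]
      exact congrArg (fun ψ => (ConcreteCategory.hom ψ) x) h2
  let q : Hη.left ⟶ H₀.left := e.hom ≫ Spec.map (CommRingCat.ofHom qA)
  have hbot : e.hom ≫ Spec.map (CommRingCat.ofHom (Ideal.Quotient.mk Iη)) ≫
      Spec.map (CommRingCat.ofHom (Algebra.TensorProduct.includeLeftRingHom : K →+* K ⊗[R₁] A)) = Hη.hom := by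
    rw [← Category.assoc, ← he, Category.assoc, hG.isoPullback_inv_snd]
    exact Over.w i'
  have hq' : IsPullback (Spec.map (CommRingCat.ofHom qA)) (Spec.map (CommRingCat.ofHom (Ideal.Quotient.mk Iη)))
      (Spec.map (CommRingCat.ofHom mJ) ≫ G₀.left.isoSpec.inv)
      (Spec.map (CommRingCat.ofHom inc.toRingHom) ≫ G₀.left.isoSpec.inv) := by
    have h1 := hq.paste_horiz (IsPullback.of_horiz_isIso (⟨by rw [Category.id_comp]⟩ :
      CommSq (𝟙 (Spec (CommRingCat.of (A ⧸ J)))) (Spec.map (CommRingCat.ofHom mJ))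
        (Spec.map (CommRingCat.ofHom mJ) ≫ G₀.left.isoSpec.inv) G₀.left.isoSpec.inv))
    rw [Category.comp_id] at h1
    exact h1
  have hpb : IsPullback q Hη.hom H₀.hom π := by
    refine (hq'.paste_vert hG).of_iso e.symm (Iso.refl _) (Iso.refl _) (Iso.refl _) ?_ ?_ ?_ ?_
    · simp [q]
    · rw [Iso.refl_hom, Category.comp_id, ← hbot]
      simp
    · simp [H₀]
    · simp
  let θ : Hη ≅ Red.bc π H₀ := Over.isoMk hpb.isoPullback hpb.isoPullback_hom_snd
  let F := Over.pullback π
  have hθ : θ.hom ≫ F.map ι₀ = i' := by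
    refine Over.OverMorphism.ext (pullback.hom_ext ?_ ?_)
    · simp only [θ, Over.comp_left, Category.assoc, Over.isoMk_hom_left, ActBC.pullback_map_left_fst, F]
      rw [hpb.isoPullback_hom_fst_assoc]
      show (e.hom ≫ Spec.map (CommRingCat.ofHom qA)) ≫ Spec.map (CommRingCat.ofHom mJ) ≫ G₀.left.isoSpec.inv = _
      rw [Category.assoc, reassoc_of% hq.w, ← Category.assoc e.hom, ← he, Category.assoc]
      exact congrArg (i'.left ≫ ·) hG.isoPullback_inv_fst
    · exact (Over.w _).trans (Over.w i').symm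
  haveI : IsMonHom i' := inferInstanceAs (IsMonHom (i ≫ (ActBC.bcCompIso π u₀ G hπu).inv))
  have hH : ∃ _ : GrpObj (Red.bc π H₀), IsMonHom (F.map ι₀) := by
    letI : GrpObj (Red.bc π H₀) := GrpObj.ofIso θ
    refine ⟨inferInstance, ⟨?_, ?_⟩⟩
    · show (η[Hη] ≫ θ.hom) ≫ F.map ι₀ = _
      rw [Category.assoc, hθ, IsMonHom.one_hom]
    · show ((θ.inv ⊗ₘ θ.inv) ≫ μ[Hη] ≫ θ.hom) ≫ F.map ι₀ = _
      rw [Category.assoc, Category.assoc, hθ, IsMonHom.mul_hom (f := i'), tensorHom_comp_tensorHom_assoc, ← hθ,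
        Iso.inv_hom_id_assoc]
  haveI : CompactSpace (D.obj i₀) := inferInstance
  obtain ⟨k, a, g, hg⟩ := (S18878.result D c (GenLim.isLimit M X.functionField) i₀ G₀ H₀ ι₀ hH).1
  haveI := hg
  let πk : Spec X.functionField ⟶ D.obj k := c.π.app k
  have hak : πk ≫ D.map a = π := c.w a
  have hu : D.map a ≫ u₀ = GenLim.toSpec M k ≫ hV.fromSpec := by
    show D.map a ≫ GenLim.toSpec M i₀ ≫ hV.fromSpec = _
    rw [← Category.assoc]
    exact congrArg (· ≫ hV.fromSpec) (GenLim.map_toSpec M a)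
  haveI : IsOpenImmersion (D.map a ≫ u₀) := by rw [hu]; exact inferInstance
  obtain ⟨U, ηU, HU, gU, j, φ, e1, e2, e3, e4, e5⟩ :=
    exists_open_of_stage u₀ G ι₀ (D.map a) πk Hη.hom q (hak.symm ▸ hpb)
      (i'.left ≫ pullback.fst G₀.hom π ≫ pullback.fst G.hom u₀)
      (by rw [← hθ, Over.comp_left, Category.assoc]
          simp only [θ, F, Over.isoMk_hom_left, Over.pullback_map_left, pullback.lift_fst_assoc, Category.assoc,
            hpb.isoPullback_hom_fst_assoc])
  refine ⟨U, ηU, HU, gU, j, φ, ?_, e2, e3, e4, ?_⟩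
  · rw [e1, ← Category.assoc, hak, hπu]
  · rw [e5]
    show (i ≫ (ActBC.bcCompIso π u₀ G hπu).inv).left ≫ _ = _
    rw [← ActBC.bcCompIso_hom_left_fst π u₀ G hπu, ← Category.assoc, ← Over.comp_left, Category.assoc,
      Iso.inv_hom_id, Category.comp_id]

end Groth.Agent.S18029
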