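import Groth.Statements.S5446
import Groth.Agent.RootSys.Facts
-- import your own Groth.Agent.* helpers here

set_option autoImplicit false
open RootD

namespace Groth.Agent.S5446

open RootSysLib RootBasicLib RootPairing

/-- If the roots indexed by Δ are indivisible and linearly independent and every root is, up to sign, a
non-negative rational combination of them (some positive multiple is a non-negative integer
combination), then Δ is a system of simple roots: every root is, up to sign, a non-negative integer
combination of Δ. -/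
theorem result {ι M N : Type*} [AddCommGroup M] [AddCommGroup N]
    (P : RootPairing ι ℤ M N) [Finite ι] (Δ : Set ι)
    (hind : ∀ i ∈ Δ, RootD.IsIndiv P i) (hli : LinearIndepOn ℤ P.root Δ)
    (hcone : ∀ k : ι, ∃ n : ℕ, 0 < n ∧
      (n • P.root k ∈ RootD.natSpan P Δ ∨ n • (-P.root k) ∈ RootD.natSpan P Δ)) :
    RootD.IsSimpleSys P Δ := by
  classical
  let S : Set ι := {k | ∃ n : ℕ, 0 < n ∧ n • P.root k ∈ RootD.natSpan P Δ}
  have hzero : ∀ c : ι →₀ ℤ, ↑c.support ⊆ Δ → Finsupp.linearCombination ℤ P.root c = 0 → c = 0 :=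
    fun c hc h => coeff_eq_of_linInd hli hc (d := 0) (by simp) (by rw [h, map_zero])
  have hS : RootD.IsPosSys P S := by
    refine isPosSys_of_closed ?_ ?_ ?_
    · rintro k ⟨n, hn, h⟩ ⟨m, hm, h'⟩
      obtain ⟨c, hc, hc0, he⟩ := exists_finsupp_of_mem_natSpan h
      obtain ⟨d, hd, hd0, hde⟩ := exists_finsupp_of_mem_natSpan h'
      rw [root_neg] at hde
      have h0 := hzero (m • c + n • d)
        (fun x hx => (Finset.mem_union.1 (Finsupp.support_add hx)).elim
          (fun h => hc (Finsupp.support_smul h)) fun h => hd (Finsupp.support_smul h))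
        (by rw [map_add, map_nsmul, map_nsmul, he, hde, ← mul_nsmul', ← mul_nsmul', Nat.mul_comm n m,
          ← nsmul_add, add_neg_cancel, nsmul_zero])
      have hcz : c = 0 := Finsupp.ext fun x => by
        have h1 := DFunLike.congr_fun h0 x
        simp only [Finsupp.add_apply, Finsupp.smul_apply, Finsupp.coe_zero, Pi.zero_apply,
          nsmul_eq_mul] at h1 ⊢
        have h2 := hc0 x
        have h3 := hd0 x
        nlinarith [(Nat.cast_pos (α := ℤ)).2 hm, (Nat.cast_pos (α := ℤ)).2 hn]
      rw [hcz, map_zero] at he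
      exact P.ne_zero k (nsmul_right_cancel P hn (y := 0) (by rw [← he, smul_zero]))
    · intro k
      obtain ⟨n, hn, h | h⟩ := hcone k
      · exact Or.inl ⟨n, hn, h⟩
      · exact Or.inr ⟨n, hn, by rwa [root_neg]⟩
    · rintro i j k ⟨n, hn, h⟩ ⟨m, hm, h'⟩ he
      refine ⟨n * m, Nat.mul_pos hn hm, ?_⟩
      rw [he, nsmul_add]
      refine add_mem ?_ ?_
      · rw [Nat.mul_comm, mul_nsmul']; exact nsmul_mem h m
      · rw [mul_nsmul']; exact nsmul_mem h' n
  have hΔS : Δ ⊆ S := fun a ha => ⟨1, one_pos, by rw [one_smul]; exact root_mem_natSpan ha⟩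
  have h0 := isSimpleSys_indec hS
  have hle : indec P S ⊆ Δ := by
    intro b hb
    obtain ⟨n, hn, h⟩ := hb.1
    obtain ⟨c, hc, hc0, he⟩ := exists_finsupp_of_mem_natSpan h
    have hpos : ∀ x ∈ c.support, ∀ y, 0 ≤ coef h0 x y := fun x hx =>
      (mem_posOf_iff h0).1 ((posOf_indec hS).ge (hΔS (hc hx)))
    have key : ∀ y, n • coef h0 b y = ∑ x ∈ c.support, c x * coef h0 x y := by
      intro y
      have h1 : n • coef h0 b = ∑ x ∈ c.support, c x • coef h0 x := by
        refine coeff_eq_of_linInd h0.linInd (fun x hx => support_coef h0 b (Finsupp.support_smul hx)) ?_ ?_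
        · intro x hx
          obtain ⟨z, hz, hxz⟩ := Finset.mem_biUnion.1 (Finsupp.support_finset_sum hx)
          exact support_coef h0 z (Finsupp.support_smul hxz)
        · rw [map_nsmul, map_sum, lc_coef, ← he, Finsupp.linearCombination_apply, Finsupp.sum]
          simp only [map_zsmul, lc_coef]
      have h2 := DFunLike.congr_fun h1 y
      simpa [Finsupp.finset_sum_apply] using h2
    obtain ⟨a, ha⟩ : c.support.Nonempty := by
      rw [Finset.nonempty_iff_ne_empty, ne_eq, Finsupp.support_eq_empty]
      intro hcz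
      rw [hcz, map_zero] at he
      exact P.ne_zero b (nsmul_right_cancel P hn (y := 0) (by rw [← he, smul_zero]))
    have hoff : ∀ y, y ≠ b → coef h0 a y = 0 := by
      intro y hy
      have h1 := key y
      rw [coef_self h0 hb, Finsupp.single_eq_of_ne hy, smul_zero] at h1
      have h2 := (Finset.sum_eq_zero_iff_of_nonneg
        fun x hx => mul_nonneg (hc0 x) (hpos x hx y)).1 h1.symm a ha
      exact (mul_eq_zero.1 h2).resolve_left (Finsupp.mem_support_iff.1 ha)
    have he' := root_eq_smul_of_forall h0 hoff
    have hpos' : 0 < coef h0 a b := lt_of_le_of_ne (hpos a ha b) fun h => by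
      rw [← h, zero_smul] at he'; exact P.ne_zero a he'
    exact eq_of_isIndiv (hind a (hc ha)) hpos' he' ▸ hc ha
  suffices Δ = indec P S from this ▸ h0
  refine Set.Subset.antisymm (fun a ha => ?_) hle
  have h1 : coef h0 a = Finsupp.single a 1 :=
    coeff_eq_of_linInd hli (fun x hx => hle (support_coef h0 a hx))
      (by simpa [Finsupp.support_single] using ha) (by rw [lc_coef]; simp)
  refine mem_of_coef_ne h0 (k := a) ?_
  rw [h1, Finsupp.single_eq_same]
  exact one_ne_zero


end Groth.Agent.S5446
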