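import Groth.Statements.S5522
import Groth.Agent.SplitFibLib.Reduced
import Groth.Agent.SplitCellLib.ClosedSet
import Groth.Agent.RootSys.Dual
import Groth.Agent.RootSys.PMorph

set_option autoImplicit false
open CategoryTheory MonoidalCategory CartesianMonoidalCategory MonObj GrpObj AlgebraicGeometry
universe u
open RedSub

namespace Groth.Agent.S5522

/-- Let G be a split reductive group over a non-empty scheme S with splitting D. If R' is a closed set
of roots of the root datum of D containing no root together with its opposite, then R' is contained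
in a system of positive roots: there is a system of simple roots b with R' ⊆ R_+(b). (A statement
about the root datum, reached in the source through the subgroups H_{R'}.) -/
theorem result {S : Scheme.{u}} [Nonempty S] {G : Over S} [GrpObj G]
    (D : Red.SplitRed G) (R' : Set D.idx)
    (hcl : ∀ a b c : D.idx, a ∈ R' → b ∈ R' → D.P.root a + D.P.root b = D.P.root c → c ∈ R')
    (hneg : ∀ a ∈ R', D.P.reflectionPerm a a ∉ R') :
    ∃ b : D.P.Base, R' ⊆ RedSub.posRoots D.P b := by
  classical
  haveI := SplitFib.isReduced_root D
  obtain ⟨S', hRS, hS'⟩ := SplitCell.exists_isPosSys_superset (P := D.P)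
    (fun i j k hi hj h => hcl i j k hi hj h.symm) hneg
  have hΔ := RootSysLib.isSimpleSys_indec hS'
  set Δ := RootSysLib.indec D.P S'
  have hdual : RootSysLib.dualSimple D.P Δ = Δ := by
    ext j
    refine ⟨?_, fun hj => ⟨j, hj, Or.inl ⟨rfl, RootSysLib.isIndiv_of_reduced (P := D.P.flip) j⟩⟩⟩
    rintro ⟨i, hi, ⟨rfl, -⟩ | h⟩
    · exact hi
    · exact absurd h (RootSysLib.isIndiv_of_reduced (P := D.P.flip) i j)
  have hd := RootSysLib.isSimpleSys_dual hΔ
  rw [hdual] at hd
  let b : D.P.Base :=
    { support := (Set.toFinite Δ).toFinset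
      linearIndepOn_root := by rw [Set.Finite.coe_toFinset]; exact hΔ.linInd
      linearIndepOn_coroot := by rw [Set.Finite.coe_toFinset]; exact hd.linInd
      root_mem_or_neg_mem := by rw [Set.Finite.coe_toFinset]; exact hΔ.mem_or_neg_mem
      coroot_mem_or_neg_mem := by rw [Set.Finite.coe_toFinset]; exact hd.mem_or_neg_mem }
  refine ⟨b, fun i hi => ?_⟩
  show D.P.root i ∈ AddSubmonoid.closure (D.P.root '' (b.support : Set D.idx))
  rw [show (b.support : Set D.idx) = Δ from Set.Finite.coe_toFinset _]
  exact RootSysLib.mem_natSpan_indec hS' (hRS hi)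

end Groth.Agent.S5522
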