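import Groth.Statements.S18813
import Mathlib
import Groth.Agent.ComodLib.LinRed
-- import your own Groth.Agent.* helpers here

set_option autoImplicit false
universe u
open scoped TensorProduct
open HopfRep

namespace Groth.Agent.S18813

/-- Let k be a field, K a field extension of k and A a commutative Hopf algebra over k, the coordinate
ring of an affine group scheme G (no finiteness assumed). Then G is linearly reductive (every
finite-dimensional A-comodule is semisimple) if and only if the base change G_K is (every
finite-dimensional comodule over the K-Hopf algebra K ⊗_k A is semisimple). (The source phrases both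
sides as semisimplicity of all representations, which over a field is equivalent to semisimplicity
of the finite-dimensional ones since every comodule is the union of its finite-dimensional
subcomodules.) -/
theorem result (k K A : Type u) [Field k] [Field K]
    [Algebra k K] [CommRing A] [HopfAlgebra k A] :
    HopfRep.IsLinearlyReductive k A ↔ HopfRep.IsLinearlyReductive K (K ⊗[k] A) := by
  let J : A ⊗[k] A →ₗ[k] (K ⊗[k] A) ⊗[K] (K ⊗[k] A) :=
    TensorProduct.lift (LinearMap.mk₂ k (fun a b => ((1 : K) ⊗ₜ[k] a) ⊗ₜ[K] ((1 : K) ⊗ₜ[k] b))
      (fun a b c => by rw [TensorProduct.tmul_add, TensorProduct.add_tmul])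
      (fun r a b => by rw [TensorProduct.tmul_smul]; exact (TensorProduct.smul_tmul' r _ _).symm)
      (fun a b c => by rw [TensorProduct.tmul_add, TensorProduct.tmul_add])
      (fun r a b => by rw [TensorProduct.tmul_smul, TensorProduct.tmul_smul]))
  have hJ : ∀ a : A, CoalgebraStruct.comul (R := K) ((1 : K) ⊗ₜ[k] a) = J (CoalgebraStruct.comul (R := k) a) := by
    intro a
    rw [TensorProduct.comul_tmul, CommSemiring.comul_apply]
    generalize CoalgebraStruct.comul (R := k) a = z
    induction z with
    | zero => simp
    | add x y hx hy => simp only [TensorProduct.tmul_add, map_add, hx, hy]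
    | tmul p q => rw [TensorProduct.AlgebraTensorModule.tensorTensorTensorComm_tmul]; rfl
  constructor
  · intro h
    obtain ⟨α, hα, h1⟩ := ComodLib.exists_invariant_of_isLinearlyReductive h
    let β : K ⊗[k] A →ₗ[K] K := (TensorProduct.AlgebraTensorModule.rid k K K).toLinearMap ∘ₗ α.baseChange K
    have hβ : ∀ (c : K) (a : A), β (c ⊗ₜ[k] a) = α a • c := fun c a => by simp [β]
    refine ComodLib.isLinearlyReductive_of_invariant (α := β) (fun x => ?_) ?_
    · induction x using TensorProduct.induction_on with
      | zero => simp
      | add x y hx hy => rw [map_add, map_add, hx, hy, map_add, add_smul]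
      | tmul c a =>
        have hz : ∀ z, ComodLib.sliceL β (J z) = (1 : K) ⊗ₜ[k] ComodLib.sliceL α z := fun z => by
          induction z with
          | zero => simp
          | add x y hx hy => simp only [map_add, hx, hy, TensorProduct.tmul_add]
          | tmul p q =>
            show ComodLib.sliceL β (((1 : K) ⊗ₜ[k] p) ⊗ₜ[K] ((1 : K) ⊗ₜ[k] q)) = _
            rw [ComodLib.sliceL_tmul, ComodLib.sliceL_tmul, hβ, TensorProduct.tmul_smul, smul_assoc, one_smul]
        rw [show c ⊗ₜ[k] a = c • ((1 : K) ⊗ₜ[k] a) by rw [TensorProduct.smul_tmul', smul_eq_mul, mul_one],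
          map_smul, map_smul, map_smul, hJ, hz, hα a, hβ, smul_assoc, TensorProduct.tmul_smul,
          smul_assoc, one_smul]
        rfl
    · rw [Algebra.TensorProduct.one_def, hβ, h1, one_smul]
  · intro h
    obtain ⟨αK, hα, h1⟩ := ComodLib.exists_invariant_of_isLinearlyReductive h
    obtain ⟨π, hπ⟩ := (Algebra.linearMap k K).exists_leftInverse_of_injective
      (LinearMap.ker_eq_bot.2 (algebraMap k K).injective)
    let α : A →ₗ[k] k := π ∘ₗ αK.restrictScalars k ∘ₗ TensorProduct.mk k K A 1
    let Pi : K ⊗[k] A →ₗ[k] A := (TensorProduct.lid k A).toLinearMap ∘ₗ π.rTensor A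
    have hPi : ∀ (c : K) (x : A), Pi (c • ((1 : K) ⊗ₜ[k] x)) = π c • x := fun c x => by
      rw [TensorProduct.smul_tmul', smul_eq_mul, mul_one]; simp [Pi]
    refine ComodLib.isLinearlyReductive_of_invariant (α := α) (fun a => ?_) ?_
    · have hz : ∀ z, Pi (ComodLib.sliceL αK (J z)) = ComodLib.sliceL α z := fun z => by
        induction z with
        | zero => simp
        | add x y hx hy => simp only [map_add, hx, hy]
        | tmul p q =>
          show Pi (ComodLib.sliceL αK (((1 : K) ⊗ₜ[k] p) ⊗ₜ[K] ((1 : K) ⊗ₜ[k] q))) = _
          rw [ComodLib.sliceL_tmul, ComodLib.sliceL_tmul, hPi]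
          rfl
      rw [← hz, ← hJ, hα, Algebra.TensorProduct.one_def, hPi]
      rfl
    · show π (αK ((1 : K) ⊗ₜ[k] (1 : A))) = 1
      rw [← Algebra.TensorProduct.one_def, h1]
      simpa using LinearMap.congr_fun hπ 1

end Groth.Agent.S18813
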