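import Groth.Statements.S4120
import Groth.Agent.EqNhdCommLib.Main
import Groth.Agent.EqNhdCommLib.TorusImage
import Groth.Agent.DescHomLib.MultBC

set_option autoImplicit false
universe u
open CategoryTheory MonoidalCategory CartesianMonoidalCategory MonObj GrpObj AlgebraicGeometry CategoryTheory.Limits
open SGA3x CoactBr Groth.Agent.RedRank Groth.Agent.MultEq
attribute [local instance] CoactBr.braidedAlgSpecOf

namespace Groth.Agent.S4120

theorem mt {S : Scheme.{u}} {R : Over S} [GrpObj R] (hR : Red.IsTorus R) : SGA3x.IsMultTypeFT R := by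
  obtain ⟨S', p, h1, h2, h3, hloc⟩ := hR
  refine ⟨S', p, h1, h2, h3, fun z => ?_⟩
  obtain ⟨U, hU, r, h⟩ := hloc z
  exact ⟨U, hU, Fin r → ℤ, inferInstance, Module.Finite.iff_addGroup_fg.1 inferInstance, h⟩

/-- Tori are stable under base change. -/
theorem isTorus_bc' {S : Scheme.{u}} {T : Over S} [GrpObj T] (hT : Red.IsTorus T) {P : Scheme.{u}} (p : P ⟶ S) :
    Red.IsTorus (Red.bc p T) := by
  obtain ⟨S', f, hflat, hsurj, hcov, hloc⟩ := hT
  haveI := hflat
  haveI := hsurj
  refine ⟨pullback p f, pullback.fst p f, inferInstance, inferInstance, DescHom.hcov_pullback_snd f p hcov, fun z => ?_⟩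
  obtain ⟨U, hU, r, ⟨e⟩⟩ := hloc (pullback.snd p f z)
  refine ⟨(pullback.snd p f) ⁻¹ᵁ U, hU, r, DescHom.nonempty_iso_bc e p _ ((pullback.snd p f).resLE U _ le_rfl) ?_⟩
  rw [Scheme.Hom.resLE_comp_ι_assoc, Category.assoc, pullback.condition]

/-- Over an algebraically closed field a maximal torus absorbs the tori commuting with it. -/
theorem exists_absorb {K : Type u} [Field K] [IsAlgClosed K] {G T R : Over (Spec (CommRingCat.of K))} [GrpObj G]
    [GrpObj T] [GrpObj R] [LocallyOfFiniteType G.hom] (i : T ⟶ G) (j : R ⟶ G) [IsMonHom i] [Mono i] [IsMonHom j]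
    (hT : Red.IsTorus T) (hR : Red.IsTorus R)
    (hmax : ∀ (T' : Over (Spec (CommRingCat.of K))) [GrpObj T'] (k : T' ⟶ G) [IsMonHom k] [Mono k] (f : T ⟶ T'),
      Red.IsTorus T' → f ≫ k = i → IsIso f)
    (hc : ∀ {Z : Over (Spec (CommRingCat.of K))} (x : Z ⟶ T) (y : Z ⟶ R), (x ≫ i) * (y ≫ j) = (y ≫ j) * (x ≫ i)) :
    ∃ f : R ⟶ T, f ≫ i = j := by
  obtain ⟨a, v, hv, hv', -⟩ := exists_torus_rank hT
  obtain ⟨b, w, hw, hw', -⟩ := exists_torus_rank hR
  haveI := hv; haveI := hv'; haveI := hw; haveI := hw'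
  obtain ⟨r, k, p₁, p₂, hk, hkm, hp₁, hp₂, e₁, e₂⟩ := EqNhdComm.exists_join (v.hom ≫ i) (w.hom ≫ j)
    (fun x y => by rw [← Category.assoc, ← Category.assoc]; exact hc _ _)
  haveI := hk; haveI := hkm
  have htor : Red.IsTorus (sp K (TA K r)) := by
    obtain ⟨d, hd, hd'⟩ := TorusField.exists_DS_iso K (Fin r → ℤ)
    haveI := hd
    exact isTorus_of_iso d (isTorus_DS _ r)
  haveI : IsIso (v.inv ≫ p₁) := hmax _ k (v.inv ≫ p₁) htor (by rw [Category.assoc, e₁, Iso.inv_hom_id_assoc])
  refine ⟨w.inv ≫ p₂ ≫ inv (v.inv ≫ p₁), ?_⟩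
  have e : inv (v.inv ≫ p₁) ≫ i = k := by
    rw [IsIso.inv_comp_eq, Category.assoc, e₁, Iso.inv_hom_id_assoc]
  rw [Category.assoc, Category.assoc, e, e₂, Iso.inv_hom_id_assoc]

/-- Inclusion over a base change gives inclusion there. -/
theorem le_of_bc {S : Scheme.{u}} {R H' G : Over S} (u : R ⟶ G) (i' : H' ⟶ G) {Z : Scheme.{u}} (κ : Z ⟶ S)
    (f : Red.bc κ R ⟶ Red.bc κ H') (hf : f ≫ (Over.pullback κ).map i' = (Over.pullback κ).map u) :
    LE u i' κ := by
  intro Y q hq h
  let adj := Over.mapPullbackAdj κ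
  let Y' : Over Z := Over.mk q
  let ε : (Over.map κ).obj Y' ≅ Y := Over.isoMk (Iso.refl _) (by
    show 𝟙 _ ≫ Y.hom = q ≫ κ
    rw [Category.id_comp, hq])
  let g := adj.homEquiv Y' R (ε.hom ≫ h)
  refine ⟨ε.inv ≫ (adj.homEquiv Y' H').symm (g ≫ f), ?_⟩
  rw [Category.assoc, ← Adjunction.homEquiv_naturality_right_symm, Category.assoc, hf,
    Adjunction.homEquiv_naturality_right_symm, Equiv.symm_apply_apply, Category.assoc, Iso.inv_hom_id_assoc]

/-- Let G be an S-group scheme of finite presentation over S, i : T → G a maximal torus and j : R → G a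
subtorus such that T and R commute (their points commute after every base change). Then R ⊆ T: j
factors through i. -/
theorem result (S : Scheme.{u}) (G : Over S) [GrpObj G]
    [LocallyOfFinitePresentation G.hom] [QuasiCompact G.hom] [QuasiSeparated G.hom]
    (T R : Over S) [GrpObj T] [GrpObj R] (i : T ⟶ G) (j : R ⟶ G) (hT : Red.IsMaximalTorus i)
    [IsMonHom j] [Mono j] (hR : Red.IsTorus R)
    (hcomm : ∀ (X : Over S) (t : X ⟶ T) (r : X ⟶ R), (t ≫ i) * (r ≫ j) = (r ≫ j) * (t ≫ i)) :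
    ∃ f : R ⟶ T, f ≫ i = j := by
  obtain ⟨hi, him, hTt, hmax⟩ := hT
  haveI := hi; haveI := him
  haveI := Groth.Agent.MultEq.isAffineHom_of_isMultTypeFT (mt hTt)
  haveI : QuasiCompact (i.left ≫ G.hom) := by rw [Over.w]; infer_instance
  haveI : QuasiCompact i.left := QuasiCompact.of_comp i.left G.hom
  refine EqNhdComm.exists_factor (Or.inr inferInstance) (mt hR) (mt hTt) (fun s => ?_)
    fun X r t => (hcomm X t r).symm
  let K := AlgebraicClosure (S.residueField s)
  let q : Spec (CommRingCat.of K) ⟶ S := Red.geomPt s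
  haveI : LocallyOfFiniteType (Red.geomFibre s G).hom :=
    MorphismProperty.pullback_snd (P := @LocallyOfFiniteType) _ _ inferInstance
  haveI : IsMonHom (M := Red.geomFibre s T) (N := Red.geomFibre s G) ((Over.pullback q).map i) :=
    Groth.Agent.DiagRep.isMonHom_bc_map q i
  haveI : IsMonHom (M := Red.geomFibre s R) (N := Red.geomFibre s G) ((Over.pullback q).map j) :=
    Groth.Agent.DiagRep.isMonHom_bc_map q j
  haveI : (Over.pullback q).IsRightAdjoint := (Over.mapPullbackAdj q).isRightAdjoint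
  haveI : Mono ((Over.pullback q).map i) := inferInstance
  obtain ⟨f, hf⟩ := exists_absorb (G := Red.geomFibre s G) (T := Red.geomFibre s T) (R := Red.geomFibre s R)
    ((Over.pullback q).map i) ((Over.pullback q).map j) (isTorus_bc' hTt q) (isTorus_bc' hR q)
    (fun T' _ k _ _ f hT' hf => hmax s T' k f hT' hf) (fun {Z} x y => by
      obtain ⟨x, rfl⟩ := ((Over.mapPullbackAdj q).homEquiv Z T).surjective x
      obtain ⟨y, rfl⟩ := ((Over.mapPullbackAdj q).homEquiv Z R).surjective y
      rw [← Adjunction.homEquiv_naturality_right, ← Adjunction.homEquiv_naturality_right]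
      exact (AlgGrp.Action.homEquiv_mul q _ _).symm.trans ((congrArg _ (hcomm _ x y)).trans
        (AlgGrp.Action.homEquiv_mul q _ _)))
  have h := le_of_bc j i q f hf
  let d : Spec (CommRingCat.of K) ⟶ Spec (S.residueField s) :=
    Spec.map (CommRingCat.ofHom (algebraMap (S.residueField s) K))
  haveI : Flat d := by
    show Flat (Spec.map _)
    rw [HasRingHomProperty.Spec_iff (P := @Flat)]
    exact RingHom.flat_algebraMap_iff.2 inferInstance
  haveI : Surjective d := ⟨fun t => ⟨IsLocalRing.closedPoint K,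
    @Subsingleton.elim _ (inferInstanceAs (Subsingleton (PrimeSpectrum (S.residueField s)))) _ _⟩⟩
  exact EqNhdComm.le_of_flat_surjective d h

end Groth.Agent.S4120
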