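import Groth.Statements.S5563
import Groth.Agent.RootSubgrpLib.UnipNorm

set_option autoImplicit false
set_option backward.isDefEq.respectTransparency false
open CategoryTheory MonoidalCategory CartesianMonoidalCategory MonObj GrpObj AlgebraicGeometry
universe u
open RedSub

namespace Groth.Agent.S5563

theorem height_pos {idx M N : Type} [AddCommGroup M] [AddCommGroup N] [Finite idx] {P : RootPairing idx ℤ M N} (b : P.Base)
    {i : idx} (hi : i ∈ RedSub.posRoots P b) : 0 < b.height i := by
  classical
  have key : ∀ x ∈ AddSubmonoid.closure (P.root '' (b.support : Set idx)),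
      ∃ f : idx → ℤ, (∀ j, 0 ≤ f j) ∧ x = ∑ j ∈ b.support, f j • P.root j := by
    intro x hx
    induction hx using AddSubmonoid.closure_induction with
    | mem x hx =>
      obtain ⟨j, hj, rfl⟩ := hx
      refine ⟨fun k => if k = j then 1 else 0, fun k => ?_, ?_⟩
      · show 0 ≤ if k = j then (1 : ℤ) else 0
        split_ifs <;> norm_num
      · simp [ite_smul, show j ∈ b.support from hj]
    | zero => exact ⟨0, fun _ => le_rfl, by simp⟩
    | add x y _ _ hx hy =>
      obtain ⟨f, hf, rfl⟩ := hx
      obtain ⟨g, hg, rfl⟩ := hy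
      exact ⟨f + g, fun k => add_nonneg (hf k) (hg k), by simp [add_smul, Finset.sum_add_distrib]⟩
  obtain ⟨f, hf, hx⟩ := key _ hi
  have h1 := b.height_eq_sum hx
  have h2 := b.height_ne_zero i
  have h3 : (0 : ℤ) ≤ ∑ j ∈ b.support, f j := Finset.sum_nonneg fun j _ => hf j
  omega

/-- Let S be connected, G a split reductive S-group (splitting D), b a system of simple roots, a a
simple root, H = H_{R_+ ∖ {a}} the subgroup of type (R) containing T with that root set and U =
U_{â} its unipotent radical. Then U_{-a} normalises U. -/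
theorem result {S : Scheme.{u}} [ConnectedSpace S] {G H U : Over S} [GrpObj G]
    [GrpObj H] [GrpObj U] (D : Red.SplitRed G) (b : D.P.Base) (a : D.idx) (ha : a ∈ b.support) (h : H ⟶ G)
    (hH : RedSub.IsTypeR h) (t : D.T ⟶ H) (ht : t ≫ h = D.i)
    (hR : ∀ c : D.idx, (∃ v : Red.Ga S ⟶ H, v ≫ h = D.u c) ↔ (c ∈ RedSub.posRoots D.P b ∧ c ≠ a))
    (u : U ⟶ H) (hU : Par.IsUnipotentRadical u) (X : Over S) (y : X ⟶ Red.Ga S) (x : X ⟶ U) :
    ∃ x' : X ⟶ U, (y ≫ D.u (D.P.reflectionPerm a a)) * (x ≫ u ≫ h) * (y ≫ D.u (D.P.reflectionPerm a a))⁻¹ =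
      x' ≫ u ≫ h := by
  classical
  obtain ⟨hm, hmono, hsm, hconn⟩ := RootSubgrp.typeR_data h hH
  haveI := hm; haveI := hmono; haveI := hsm
  obtain ⟨R₀, hR₀, hiff⟩ := RootSubgrp.exists_roots D h t ht hconn
  have hset : ∀ c, c ∈ R₀ ↔ c ∈ RedSub.posRoots D.P b ∧ c ≠ a := fun c => (hiff c).trans (hR c)
  have hpos : ∀ c ∈ R₀, c ∈ (SplitCell.sidesOfBase D.P b).pos := fun c hc => ((hset c).1 hc).1
  have hcl : ∀ p q c : D.idx, p ∈ R₀ → q ∈ R₀ → D.P.root p + D.P.root q = D.P.root c → c ∈ R₀ := by
    intro p q c hp hq e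
    refine (hset c).2 ⟨?_, fun hca => ?_⟩
    · show D.P.root c ∈ AddSubmonoid.closure _
      rw [← e]
      exact add_mem (hpos p hp) (hpos q hq)
    · subst hca
      have h1 := b.height_add e.symm
      rw [b.height_one_of_mem_support ha] at h1
      have h2 := height_pos b (hpos p hp)
      have h3 := height_pos b (hpos q hq)
      omega
  have hneg : D.P.root (D.P.reflectionPerm a a) = -D.P.root a := by
    rw [RootPairing.root_reflectionPerm, D.P.reflection_apply_self]
  have hmix : ∀ p c : D.idx, p ∈ R₀ → D.P.root p + D.P.root (D.P.reflectionPerm a a) = D.P.root c → c ∈ R₀ := by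
    intro p c hp e
    rw [hneg, ← sub_eq_add_neg] at e
    have h1 := b.height_sub e.symm
    rw [b.height_one_of_mem_support ha] at h1
    have h2 := height_pos b (hpos p hp)
    have h3 := b.height_ne_zero c
    refine (hset c).2 ⟨?_, fun hca => ?_⟩
    · refine (SplitCell.pos_or_neg D.P b c).resolve_right fun hc => ?_
      have hc' : D.P.reflectionPerm c c ∈ RedSub.posRoots D.P b := by
        show D.P.root _ ∈ AddSubmonoid.closure _
        rw [RootPairing.root_reflectionPerm, D.P.reflection_apply_self]
        exact hc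
      have h4 := height_pos b hc'
      have h5 : b.height (D.P.reflectionPerm c c) = -b.height c := b.height_reflectionPerm_self c
      rw [h5] at h4
      omega
    · subst hca
      have h4 : D.P.root p = (2 : ℤ) • D.P.root c := by
        rw [eq_add_of_sub_eq e, two_smul]
      have hne : p ≠ c := ((hset p).1 hp).2
      haveI : Nonempty S := inferInstance
      haveI := SplitFib.isReduced_root D
      have hd : D.P.root p ≠ -D.P.root c := fun e' => by
        rw [h4, eq_neg_iff_add_eq_zero, ← add_one_zsmul] at e'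
        rcases smul_eq_zero.1 e' with h0 | h0
        · omega
        · exact D.P.ne_zero c h0
      have hind := RootPairing.IsReduced.linearIndependent (P := D.P) hne hd
      exact one_ne_zero (LinearIndependent.pair_iff.1 hind 1 (-2) (by rw [one_smul, neg_smul, h4, add_neg_cancel])).1
  have hopp : ∀ α ∈ R₀, D.P.reflectionPerm a a ≠ D.P.reflectionPerm α α := fun α hα e => by
    have e' := congrArg D.P.root e
    rw [hneg, RootPairing.root_reflectionPerm, D.P.reflection_apply_self, neg_inj] at e'
    exact ((hset α).1 hα).2 (D.P.root.injective e').symm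
  exact RootSubgrp.stab_u D h hH.1 t ht hconn hR₀ (fun k hk => (hiff k).1 hk) (SplitCell.sidesOfBase D.P b) hpos u hU
    hcl hmix hopp y x

end Groth.Agent.S5563
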