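import Groth.Statements.S10934
import Groth.Agent.PnDualLib.Embed
import Groth.Agent.DimIneqLib.Dim
import Groth.Agent.MiscFlat6.FreeStalks
import Groth.Agent.PerfLib.Coherent
import Groth.Agent.AVAmpleLib.Degree
import Groth.Agent.DevissLib.ClosedImm
import Groth.Agent.Formal2VBLib.Dual

set_option autoImplicit false
universe u
open CategoryTheory CategoryTheory.Limits AlgebraicGeometry
open ProjDual

namespace Groth.Agent.S10934

set_option backward.isDefEq.respectTransparency false in
theorem depth_le_depth_of_free {R : Type u} [CommRing R] [IsLocalRing R] {M : Type u} [AddCommGroup M]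
    [Module R M] [Module.Free R M] [IsNoetherianRing R] [Module.Finite R M] (c : ℕ) (h : (c : ℕ∞) ≤ LocCoh.depth R R) :
    (c : ℕ∞) ≤ LocCoh.depth R M := by
  rw [CommAlgDim.le_depth_iff] at h ⊢
  obtain ⟨rs, hl, hm, hr⟩ := h
  exact ⟨rs, hl, hm, ((TensorProduct.rid R M).isWeaklyRegular_congr rs).1 hr.isWeaklyRegular_lTensor⟩

theorem cm_of_depth {R : Type u} [CommRing R] [IsNoetherianRing R] [IsLocalRing R] (n : ℕ)
    (h : (n : ℕ∞) ≤ LocCoh.depth R R) (hd : ringKrullDim R ≤ n) :
    LocCoh.IsCohenMacaulayLocalRing R ∧ ringKrullDim R = n := by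
  obtain ⟨P, hP⟩ := associatedPrimes.nonempty R R
  have hle : ∀ m : ℕ, (m : ℕ∞) ≤ LocCoh.depth R R → (m : WithBot ℕ∞) ≤ ringKrullDim R := fun m hm =>
    (CommAlgDim.depth_le_ringKrullDim_quotient hP ((CommAlgDim.le_depth_iff m).1 hm)).trans
      (ringKrullDim_quotient_le P)
  have he : ringKrullDim R = n := le_antisymm hd (hle n h)
  have hdep : LocCoh.depth R R = n := by
    refine le_antisymm (not_lt.1 fun hlt => ?_) h
    have := (hle (n + 1) (Order.add_one_le_of_lt hlt)).trans hd
    exact absurd (WithBot.coe_le_coe.1 this) (by simp [ENat.add_one_le_iff])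
  exact ⟨{ supportDim_eq_depth := by rw [Module.supportDim_self_eq_ringKrullDim, he, hdep]; rfl }, he⟩


/-- (a)⇔(b): let k be a field, i : X → P^N_k a closed immersion with X of dimension n, and write F(−q) =
F ⊗ i^*O(−q). Then X is an equidimensional Cohen–Macaulay scheme of dimension n — the local ring of
X at every closed point is Cohen–Macaulay of Krull dimension n — if and only if for every finite
locally free O_X-module F (vector bundle) there is q₀ such that H^j(X, F(−q)) = 0 for all j < n and
all q ≥ q₀. -/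
theorem result (k : Type u) [Field k] (N n : ℕ)
    {X : Scheme.{u}} (i : X ⟶ CohB1.ProjSpace N k) [IsClosedImmersion i] (hn : topologicalKrullDim ↥X = n) :
    (∀ x : X, IsClosed ({x} : Set ↥X) →
        LocCoh.IsCohenMacaulayLocalRing (X.presheaf.stalk x) ∧ ringKrullDim (X.presheaf.stalk x) = n) ↔
      ∀ F : X.Modules, FlatMod.IsFinLocFree F → ∃ q₀ : ℕ, ∀ q : ℕ, q₀ ≤ q → ∀ j : ℕ, j < n →
        Subsingleton (Coh.HH X (CohB1.tensorMod F
          ((Scheme.Modules.pullback i).obj (Twist.twistProjSpace N k (-(q : ℤ))))) j) := by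
  constructor
  · intro h F hF
    refine PnDualLib.exists_vanishing_neg i F ?_ n fun x hx => ?_
    · exact PerfLib.isCoh_of_isFinLocFree hF
    · obtain ⟨h1, h2⟩ := h x hx
      haveI := h1
      haveI := MiscFlat6.free_stalk_of_isFinLocFree hF x
      haveI := (PerfLib.isCoh_of_isFinLocFree hF).1
      haveI := DepthLib.finite_stalk F (PerfLib.isCoh_of_isFinLocFree hF).2 x
      refine depth_le_depth_of_free n ?_
      have h3 := h1.supportDim_eq_depth
      rw [Module.supportDim_self_eq_ringKrullDim, h2] at h3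
      exact (WithBot.coe_inj.1 h3).le
  · intro h x hx
    haveI : IsLocallyNoetherian (CohB1.ProjSpace N k) := PnCohLib.isLocallyNoetherian_projSpace (n := N) k
    haveI : IsLocallyNoetherian X := LocallyOfFiniteType.isLocallyNoetherian i
    have hO : Coh.IsCoh (Coh.structureModule X) := DevissLib.isCoh_structureModule X
    obtain ⟨q₀, hq⟩ := h _ (Formal2VBLib.isFinLocFree_structureModule X)
    have hev := (PnDualLib.eventually_below_iff_depth k N _ (PnDualLib.isCoh_push' i hO) n).1
      ⟨q₀, fun m hm j hj => (PnDualLib.subsingleton_twistBy_iff k N _ _ j).2 ?_⟩ (i x) ?_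
    · rw [PnDualLib.depth_push i _ hO x] at hev
      obtain ⟨e⟩ := AVAmpleLib.nonempty_stalk_structureModule X x
      rw [← CommAlgDim.depth_congr e] at hev
      exact cm_of_depth n hev ((DimIneqLib.stalk_dim_le_dim x).trans_eq hn)
    · obtain ⟨q, rfl⟩ : ∃ q : ℕ, m = q := ⟨m.toNat, by omega⟩
      exact (PnDualLib.subsingleton_HH_iff i _ hO _ j).1 (hq q (by omega) j hj)
    · rw [← Set.image_singleton]; exact i.isClosedEmbedding.isClosedMap _ hx

end Groth.Agent.S10934
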