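import Groth.Statements.S11083
import Mathlib
-- import your own Groth.Agent.* helpers here

set_option autoImplicit false
universe u v
open CAlg

namespace Groth.Agent.S11083

theorem finrank_kaehler_aux (K : Type u) (L : Type v) [Field K] [Field L] [Algebra K L]
    (n : ℕ) (a : Fin n → L) (ha : IsTranscendenceBasis K a)
    (hsep : Algebra.IsSeparable ↥(IntermediateField.adjoin K (Set.range a)) L) :
    Module.finrank L (Ω[L⁄K]) = n := by
  open scoped IntermediateField.algebraAdjoinAdjoin in
  let R0 := MvPolynomial (Fin n) K
  let R1 := Algebra.adjoin K (Set.range a)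
  let E := IntermediateField.adjoin K (Set.range a)
  letI : Algebra R0 R1 := ha.1.aevalEquiv.toAlgHom.toRingHom.toAlgebra
  letI : Algebra R0 L := (MvPolynomial.aeval a).toRingHom.toAlgebra
  haveI : IsScalarTower R0 R1 L := IsScalarTower.of_algebraMap_eq fun p => (ha.1.algebraMap_aevalEquiv p).symm
  haveI : IsScalarTower K R0 L := IsScalarTower.of_algebraMap_eq fun r => (MvPolynomial.aeval_C a r).symm
  haveI : Algebra.FormallyEtale R0 R1 :=
    Algebra.FormallyEtale.of_equiv (AlgEquiv.ofBijective (Algebra.ofId R0 R1) ha.1.aevalEquiv.bijective)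
  haveI : Algebra.FormallyEtale R1 E := Algebra.FormallyEtale.of_isLocalization (nonZeroDivisors _)
  haveI : Algebra.FormallyEtale E L := Algebra.FormallyEtale.of_isSeparable _ L
  haveI : Algebra.FormallyEtale R1 L := Algebra.FormallyEtale.comp _ E _
  haveI : Algebra.FormallyEtale R0 L := Algebra.FormallyEtale.comp _ R1 _
  haveI : Module.Free R0 Ω[R0⁄K] := Module.Free.of_basis (KaehlerDifferential.mvPolynomialBasis K (Fin n))
  rw [← (KaehlerDifferential.tensorKaehlerEquivOfFormallyEtale K R0 L).finrank_eq, Module.finrank_baseChange,
    Module.finrank_eq_card_basis (KaehlerDifferential.mvPolynomialBasis K (Fin n)), Fintype.card_fin]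


/-- Let k be an algebraically closed field, F a field extension of k which is finitely generated as a
field, and x a transcendence basis of F over k indexed by Fin d. Then the F-vector space of Kähler
differentials of F over k has F-rank exactly d: it is finite-dimensional of dimension the
transcendence degree. -/
theorem result (k : Type u) (F : Type v)
    [Field k] [IsAlgClosed k] [Field F] [Algebra k F] (hF : (⊤ : IntermediateField k F).FG)
    (d : ℕ) (x : Fin d → F) (hx : IsTranscendenceBasis k x) :
    Module.rank F (Ω[F⁄k]) = d := by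
  classical
  have : Algebra.EssFiniteType k F := IntermediateField.fg_top_iff.mp hF
  obtain ⟨s, hs, hsep⟩ := exists_isTranscendenceBasis_and_isSeparable_of_perfectField k F
  have hcard : s.card = d := by
    have h1 := hs.lift_cardinalMk_eq hx
    simpa using h1
  let e : Fin d ≃ (s : Set F) := ((finCongr hcard.symm).trans s.equivFin.symm)
  have hbasis : IsTranscendenceBasis k (fun i => ((e i : (s : Set F)) : F)) := hs.comp_equiv e
  have hrange : Set.range (fun i => ((e i : (s : Set F)) : F)) = (s : Set F) := by
    ext z
    exact ⟨fun ⟨i, hi⟩ => hi ▸ (e i).2, fun hz => ⟨e.symm ⟨z, hz⟩, by simp⟩⟩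
  have h := finrank_kaehler_aux k F d _ hbasis (by rw [hrange]; exact hsep)
  rw [← h, Module.finrank_eq_rank]

end Groth.Agent.S11083
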