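import Groth.Statements.S11316
import Groth.Agent.PnDualLib.DualX
import Groth.Agent.PerfLib.Coherent
import Groth.Agent.FibDimLib.Pure
import Groth.Agent.S1617

set_option autoImplicit false
universe u
open CategoryTheory CategoryTheory.Limits AlgebraicGeometry
attribute [local instance] HasDerivedCategory.standard
open ProjDual

namespace Groth.Agent.S11316

theorem depth_ge_of_cm {R : Type u} [CommRing R] [LocCoh.IsCohenMacaulayLocalRing R] {n : ℕ}
    (h : ringKrullDim R = n) : (n : ℕ∞) ≤ LocCoh.depth R R := by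
  have h3 := LocCoh.IsCohenMacaulayLocalRing.supportDim_eq_depth (R := R)
  rw [Module.supportDim_self_eq_ringKrullDim, h] at h3
  exact (WithBot.coe_inj.1 h3).le

/-- Let k be an algebraically closed field and X a closed subscheme of some P^N_k, of dimension n, which
is Cohen–Macaulay (every local ring of X is Cohen–Macaulay) and equidimensional (every irreducible
component of X has dimension n); let (ω, t) be a dualizing sheaf for X, i.e. ω is coherent, t :
H^n(X, ω) → k is k-linear, and for every coherent F and every k-linear form ψ on H^n(X, F) there is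
exactly one φ : F → ω with ψ = t ∘ H^n(φ). Then for every finite locally free O_X-module F for which
the internal Hom functor Hom_{O_X}(F, -) exists (right adjoint of F ⊗ -) and every i ≤ n, the k-dual
of H^i(X, F) is isomorphic to H^(n-i)(X, Hom_{O_X}(F, ω)). (Existence of a k-linear isomorphism
only; the published statement writes the second module as H^(n-i)(X, F^∨ ⊗ ω) and obtains the
isomorphism from the duality maps θ^i.) -/
theorem result
    (k : Type u) [Field k] [IsAlgClosed k] (N n : ℕ) (X : Scheme.{u}) [X.Over (Spec (CommRingCat.of k))]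
    (ι : X ⟶ CohB1.ProjSpace N k) [IsClosedImmersion ι] (hι : ι ≫ CohB1.ProjSpace.toSpec N k = X ↘ Spec (CommRingCat.of k))
    (hn : topologicalKrullDim ↥X = n)
    (hCM : ∀ x : X, LocCoh.IsCohenMacaulayLocalRing (X.presheaf.stalk x))
    (heq : ∀ Z : Set ↥X, Z ∈ irreducibleComponents ↥X → topologicalKrullDim ↥Z = (n : WithBot ℕ∞))
    (ω : X.Modules) (hω : Coh.IsCoh ω) (t : Coh.HH X ω n →ₗ[k] k)
    (hdual : ∀ F : X.Modules, Coh.IsCoh F → ∀ ψ : Coh.HH X F n →ₗ[k] k,
        ∃! φ : F ⟶ ω, ∀ x : Coh.HH X F n,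
          ψ x = t (Sheaf.H.map ((SheafOfModules.toSheaf X.ringCatSheaf).map φ) n x))
    (F : X.Modules) (hF : FlatMod.IsFinLocFree F) [DCoh.HasSheafHom F] (i : ℕ) (hi : i ≤ n) :
    Nonempty (Module.Dual k (Coh.HH X F i) ≃ₗ[k] Coh.HH X ((DCoh.sheafHom F).obj ω) (n - i)) := by
  haveI : HasExt.{u} X.Modules := hasExt_of_enoughInjectives.{u} _
  haveI : IsProper (CohB1.ProjSpace.toSpec N k) := ProjDegLib.toSpec_isProper k N
  haveI : LocallyOfFiniteType (X ↘ Spec (CommRingCat.of k)) := by rw [← hι]; infer_instance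
  have hdim : ∀ x : X, IsClosed ({x} : Set X) → ringKrullDim (X.presheaf.stalk x) = n := fun x hx => by
    rw [← Groth.Agent.S1617.result k X x hx]
    exact FibDimLib.IsPureDim.localDim_eq (X ↘ Spec (CommRingCat.of k)) heq x
  obtain ⟨D, rfl, hDs⟩ := PnDualLib.nonempty_dualData ι n ω hω t hdual
    fun x hx => haveI := hCM x; depth_ge_of_cm (hdim x hx)
  obtain ⟨e₁⟩ := PnDualLib.nonempty_extX_dual D F (PerfLib.isCoh_of_isFinLocFree hF) (n - i) (Nat.sub_le n i)
    ((Nat.sub_le n i).trans_eq hDs.symm)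
  obtain ⟨e₂⟩ := PnDualLib.nonempty_ext_homMod hF k (n - i) D.ω
  rw [Nat.sub_sub_self hi] at e₁
  exact ⟨e₁.symm ≪≫ₗ e₂ ≪≫ₗ (PnDualLib.hMapIso k (HomCohLib.sheafHomIso F D.ω) (n - i)).symm⟩

end Groth.Agent.S11316
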