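import Groth.Statements.S9371
import Groth.Agent.ConormalSecLib.Basic

set_option autoImplicit false
universe u
open OmegaSh

namespace Groth.Agent.S9371

open CategoryTheory CategoryTheory.Limits AlgebraicGeometry TopologicalSpace Opposite OmegaSh
open ModGlueLib (rs rs_rs)
open ConormalSecLib (app_idealSect idealSect_smul idealSect_map idealSect_injective idealSect_lift)

noncomputable section

variable {Z X Z' X' : Scheme.{u}} (i : Z ⟶ X) (i' : Z' ⟶ X') (g : X ⟶ X') (gZ : Z ⟶ Z')

/-- The two preimages agree for a commutative square. -/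
theorem preimage_eq (hsq : gZ ≫ i' = i ≫ g) (U' : X'.Opens) : gZ ⁻¹ᵁ (i' ⁻¹ᵁ U') = i ⁻¹ᵁ (g ⁻¹ᵁ U') := by
  show (gZ ≫ i') ⁻¹ᵁ U' = (i ≫ g) ⁻¹ᵁ U'
  rw [hsq]

theorem app_app_idealSect (hsq : gZ ≫ i' = i ≫ g) (U' : X'.Opens) (s' : Γ(ClSub.idealMod i'.ker, U')) :
    i.app (g ⁻¹ᵁ U') (g.app U' (idealSect i'.ker U' s')) = 0 := by
  have key : ∀ (q : Z ⟶ X'), q = i ≫ g → ∀ a : Γ(X', U'), q.app U' a = 0 → i.app (g ⁻¹ᵁ U') (g.app U' a) = 0 := by
    rintro _ rfl a h
    exact h
  exact key (gZ ≫ i') hsq _ ((congrArg (gZ.app (i' ⁻¹ᵁ U')) (app_idealSect i' U' s')).trans (map_zero _))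

variable [QuasiCompact i]

/-- The pull-back of a section of the ideal. -/
def up (hsq : gZ ≫ i' = i ≫ g) (U' : X'.Opens) (s' : Γ(ClSub.idealMod i'.ker, U')) :
    Γ(ClSub.idealMod i.ker, g ⁻¹ᵁ U') :=
  ConormalSecLib.lift i _ _ (app_app_idealSect i i' g gZ hsq U' s')

/-- Its class in the conormal sheaf, on the preimage along the square. -/
def cls (hsq : gZ ≫ i' = i ≫ g) (U' : X'.Opens) :
    Γ(ClSub.idealMod i'.ker, U') →+ Γ(Omega.conormal i, gZ ⁻¹ᵁ (i' ⁻¹ᵁ U')) where
  toFun s' := rs (Omega.conormal i) (preimage_eq i i' g gZ hsq U').le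
    (conormalSect i _ (up i i' g gZ hsq U' s'))
  map_zero' := by
    have h : up i i' g gZ hsq U' 0 = 0 := idealSect_injective i _ (by
      rw [up, idealSect_lift, map_zero, map_zero, map_zero])
    rw [h, map_zero]
    exact map_zero _
  map_add' a b := by
    have h : up i i' g gZ hsq U' (a + b) = up i i' g gZ hsq U' a + up i i' g gZ hsq U' b :=
      idealSect_injective i _ (by
        rw [map_add]
        simp only [up, idealSect_lift, map_add])
    rw [h, map_add]
    exact map_add _ _ _

theorem cls_eq (hsq : gZ ≫ i' = i ≫ g) (U' : X'.Opens) (s' : Γ(ClSub.idealMod i'.ker, U'))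
    (s : Γ(ClSub.idealMod i.ker, g ⁻¹ᵁ U')) (h : idealSect i.ker (g ⁻¹ᵁ U') s = g.app U' (idealSect i'.ker U' s')) :
    cls i i' g gZ hsq U' s' = rs (Omega.conormal i) (preimage_eq i i' g gZ hsq U').le (conormalSect i _ s) := by
  have : up i i' g gZ hsq U' s' = s := idealSect_injective i _ ((idealSect_lift i _ _ _).trans h.symm)
  show rs _ _ (conormalSect i _ (up i i' g gZ hsq U' s')) = _
  rw [this]

/-- The morphism on the ideal. -/
def clsHom (hsq : gZ ≫ i' = i ≫ g) : ClSub.idealMod i'.ker ⟶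
    (Scheme.Modules.pushforward i').obj ((Scheme.Modules.pushforward gZ).obj (Omega.conormal i)) :=
  ⟨PresheafOfModules.homMk (M₁ := (ClSub.idealMod i'.ker).val)
    (M₂ := ((Scheme.Modules.pushforward i').obj ((Scheme.Modules.pushforward gZ).obj (Omega.conormal i))).val)
    { app := fun W => AddCommGrpCat.ofHom (cls i i' g gZ hsq W.unop)
      naturality := fun W W' e => by
        ext s'
        show cls i i' g gZ hsq W'.unop ((ClSub.idealMod i'.ker).presheaf.map (homOfLE e.unop.le).op s') = _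
        refine (cls_eq i i' g gZ hsq W'.unop _
          ((ClSub.idealMod i.ker).presheaf.map (homOfLE (g.preimage_mono e.unop.le)).op
            (up i i' g gZ hsq W.unop s')) ?_).trans ?_
        · refine (idealSect_map i _ _).trans (Eq.trans ?_ (congrArg (g.app W'.unop) (idealSect_map i' e.unop.le s')).symm)
          refine (congrArg _ (idealSect_lift i _ _ _)).trans ?_
          exact congr($((g.naturality (homOfLE e.unop.le).op).symm) (idealSect i'.ker W.unop s'))
        · exact ((congrArg (rs (Omega.conormal i) _)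
            (pullSect_map i (ClSub.idealMod i.ker) (g.preimage_mono e.unop.le) _)).trans (rs_rs _ _ _ _)).trans
            (rs_rs _ _ _ _).symm }
    (fun W r s' => by
      show cls i i' g gZ hsq W.unop (r • s') = gZ.app _ (i'.app W.unop r) • cls i i' g gZ hsq W.unop s'
      refine (cls_eq i i' g gZ hsq W.unop _ (g.app W.unop r • up i i' g gZ hsq W.unop s') ?_).trans ?_
      · refine (idealSect_smul i _ _ _).trans (Eq.trans ?_ (congrArg (g.app W.unop) (idealSect_smul i' _ r s')).symm)
        exact (congrArg (g.app W.unop r * ·) (idealSect_lift i _ _ _)).trans (map_mul (g.app W.unop).hom _ _).symm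
      · refine (ConormalSecLib.res_conormalSect_smul i _ _ _).trans ?_
        refine congrArg (· • cls i i' g gZ hsq W.unop s') ?_
        exact congr($((Scheme.Hom.congr_app hsq W.unop).symm) r))⟩

open AlgebraicGeometry CategoryTheory in
/-- For a commutative square with i : Z → X, i' : Z' → X' quasi-compact immersions, g : X → X' and gZ :
Z → Z', there is a unique map of O_Z-modules gZ^* C_{Z'/X'} → C_{Z/X} compatible with g♯ on sections
of the defining ideals. (The published statement allows arbitrary immersions; this row assumes i and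
i' quasi-compact.) -/
theorem result {Z X Z' X' : Scheme.{u}} (i : Z ⟶ X) (i' : Z' ⟶ X') [IsImmersion i] [IsImmersion i']
    [QuasiCompact i] [QuasiCompact i'] (g : X ⟶ X') (gZ : Z ⟶ Z') (hsq : gZ ≫ i' = i ≫ g) :
    ∃! φ : (Scheme.Modules.pullback gZ).obj (Omega.conormal i') ⟶ Omega.conormal i,
      OmegaSh.IsConormalMap i i' g gZ φ := by
  let a := Scheme.Modules.pullbackPushforwardAdjunction gZ
  let a' := Scheme.Modules.pullbackPushforwardAdjunction i'
  let φ := (a.homEquiv _ _).symm ((a'.homEquiv _ _).symm (clsHom i i' g gZ hsq))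
  have ev : ∀ (ψ : (Scheme.Modules.pullback gZ).obj (Omega.conormal i') ⟶ Omega.conormal i) (U' : X'.Opens)
      (s' : Γ(ClSub.idealMod i'.ker, U')),
      (a'.homEquiv _ _ (a.homEquiv _ _ ψ)).app U' s' =
        ψ.app (gZ ⁻¹ᵁ (i' ⁻¹ᵁ U')) (OmegaSh.pullSect gZ (Omega.conormal i') (i' ⁻¹ᵁ U') (OmegaSh.conormalSect i' U' s')) := by
    intro ψ U' s'
    rfl
  have hφ : OmegaSh.IsConormalMap i i' g gZ φ := by
    refine ⟨hsq, fun U' s' s hs V h₁ h₂ => ?_⟩
    have h1 : a'.homEquiv _ _ (a.homEquiv _ _ φ) = clsHom i i' g gZ hsq :=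
      (congrArg (a'.homEquiv _ _) ((a.homEquiv _ _).apply_symm_apply _)).trans ((a'.homEquiv _ _).apply_symm_apply _)
    refine (congrArg _ ((ev φ U' s').symm.trans ((congr((($h1).app U') s')).trans
      (cls_eq i i' g gZ hsq U' s' s hs)))).trans ?_
    exact rs_rs _ _ _ _
  refine ⟨φ, hφ, fun ψ hψ => ?_⟩
  apply (a.homEquiv _ _).injective
  apply (a'.homEquiv _ _).injective
  refine Scheme.Modules.hom_ext _ _ fun U' => ConcreteCategory.hom_ext _ _ fun s' => ?_
  refine (ev ψ U' s').trans (Eq.trans ?_ (ev φ U' s').symm)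
  have h := fun (θ : (Scheme.Modules.pullback gZ).obj (Omega.conormal i') ⟶ Omega.conormal i)
      (hθ : OmegaSh.IsConormalMap i i' g gZ θ) =>
    hθ.2 U' s' (up i i' g gZ hsq U' s') (ConormalSecLib.idealSect_lift i _ _ _) _ le_rfl (preimage_eq i i' g gZ hsq U').le
  have h' := (h ψ hψ).trans (h φ hφ).symm
  exact (ConormalSecLib.rs_self _).symm.trans (h'.trans (ConormalSecLib.rs_self _))

end

end Groth.Agent.S9371
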