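import Groth.Statements.S9375
import Groth.Agent.ConormalSeqLib.Desc
import Groth.Agent.CohCmpLib.PullOnComp

set_option autoImplicit false
universe u
open OmegaSh

namespace Groth.Agent.S9375

open AlgebraicGeometry CategoryTheory Limits in
/-- For quasi-compact immersions i : Z → X and j : Z → Y with j = i ≫ p for p : X → Y, there is an exact
sequence C_{Z/Y} → C_{Z/X} → i^*Ω_{X/Y} → 0 with the canonical maps; Ω_{X/Y} is any receptacle of a
universal derivation. (The published statement allows arbitrary immersions; this row assumes i and j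
quasi-compact.) -/
theorem result {Z X Y : Scheme.{u}} (p : X ⟶ Y) (i : Z ⟶ X) (j : Z ⟶ Y) [IsImmersion i] [IsImmersion j]
    [QuasiCompact i] [QuasiCompact j] (hij : i ≫ p = j)
    (Ω : X.Modules) (d : OmegaSh.Der p Ω) (hd : OmegaSh.IsUniversal d)
    (ψ : (Scheme.Modules.pullback (𝟙 Z)).obj (Omega.conormal j) ⟶ Omega.conormal i) (hψ : OmegaSh.IsConormalMap i j p (𝟙 Z) ψ)
    (φ : Omega.conormal i ⟶ (Scheme.Modules.pullback i).obj Ω) (hφ : OmegaSh.IsConormalDiff i d φ) :
    ∃ w : ψ ≫ φ = 0, (ShortComplex.mk ψ φ w).Exact ∧ Epi φ := by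
  have w : ψ ≫ φ = 0 := by
    refine CohCmpLib.hom_ext_puSec₂ _ _ fun U t => ?_
    have hs : i.app (p ⁻¹ᵁ U) (p.app U (OmegaSh.idealSect j.ker U t)) = 0 := by
      rw [Scheme.Hom.app_eq_appLE p,
        ConormalSeqLib.app_appLE p i j hij le_rfl (ConormalSeqLib.preimage_le p i j hij le_rfl),
        ConormalSecLib.app_idealSect, map_zero]
    let s := ConormalSecLib.lift i (p ⁻¹ᵁ U) _ hs
    have hle : 𝟙 Z ⁻¹ᵁ (j ⁻¹ᵁ U) ≤ i ⁻¹ᵁ (p ⁻¹ᵁ U) := fun z hz => by
      change j z ∈ U at hz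
      rw [← hij] at hz
      exact hz
    have h1 := hψ.2 U t s (ConormalSecLib.idealSect_lift i _ _ hs) _ le_rfl hle
    rw [ConormalSeqLib.hidM] at h1
    show φ.app _ (ψ.app _ (KFlatLib.puSec (𝟙 Z) (KFlatLib.puSec j t))) = _
    refine (congrArg (φ.app _) h1).trans ?_
    refine (congr($(φ.mapPresheaf.naturality (homOfLE hle).op) (OmegaSh.conormalSect i (p ⁻¹ᵁ U) s))).trans ?_
    show ((Scheme.Modules.pullback i).obj Ω).presheaf.map _ (φ.app _ _) = _
    rw [hφ, ConormalSecLib.idealSect_lift, show d.app (p ⁻¹ᵁ U) (p.app U (OmegaSh.idealSect j.ker U t)) = 0 from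
      d.d_app (X := Opposite.op U) _, map_zero, map_zero]
    rfl
  haveI : Epi φ := by
    refine ⟨fun {M} a b hab => OmegaAffLib.hom_ext_pullback hd fun W x => ?_⟩
    let Ms : TopCat.Sheaf AddCommGrpCat Z := ⟨M.presheaf, M.isSheaf⟩
    refine TopCat.Sheaf.eq_of_locally_eq' Ms
      (fun W' : {W' : X.Opens // ∃ (hW : W' ≤ W) (U : Y.Opens) (hU : W' ≤ p ⁻¹ᵁ U) (y : Γ(Y, U))
        (s : Γ(ClSub.idealMod i.ker, W')), ConormalSeqLib.IsLift p i hW x hU y s} => i ⁻¹ᵁ W'.1)
      (i ⁻¹ᵁ W) (fun W' => homOfLE (i.preimage_mono W'.2.1)) ?_ _ _ ?_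
    · intro z hz
      obtain ⟨W', hW, U, hU, y, s, hzW, l⟩ := ConormalSeqLib.exists_isLift p i j hij W x z hz
      exact TopologicalSpace.Opens.mem_iSup.2 ⟨⟨W', hW, U, hU, y, s, l⟩, hzW⟩
    · rintro ⟨W', hW, U, hU, y, s, l⟩
      have key : ∀ k : (Scheme.Modules.pullback i).obj Ω ⟶ M,
          M.presheaf.map (homOfLE (i.preimage_mono hW)).op
            (k.app (i ⁻¹ᵁ W) (OmegaSh.pullSect i Ω W (d.app W x))) =
            (φ ≫ k).app (i ⁻¹ᵁ W') (OmegaSh.conormalSect i W' s) := by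
        intro k
        refine (congr($(k.mapPresheaf.naturality (homOfLE (i.preimage_mono hW)).op)
          (OmegaSh.pullSect i Ω W (d.app W x)))).symm.trans (congrArg (k.app _) ?_)
        refine Eq.trans ?_ (hφ W' s).symm
        refine (OmegaSh.pullSect_map i Ω hW (d.app W x)).symm.trans (congrArg (OmegaSh.pullSect i Ω W') ?_)
        rw [l, map_sub, show d.app W' (p.appLE U W' hU y) = 0 from ?_, sub_zero]
        · exact (OmegaAffLib.der_rs d hW x).symm
        · refine (OmegaAffLib.der_rs d hU (p.app U y)).trans ?_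
          rw [show d.app (p ⁻¹ᵁ U) (p.app U y) = 0 from d.d_app (X := Opposite.op U) y]
          exact map_zero _
      exact (key a).trans ((congr($(congrArg (fun k => Scheme.Modules.Hom.app k (i ⁻¹ᵁ W')) hab)
        (OmegaSh.conormalSect i W' s))).trans (key b).symm)
  refine ⟨w, ?_, inferInstance⟩
  refine ShortComplex.exact_of_g_is_cokernel _ ?_
  refine CokernelCofork.IsColimit.ofπ' _ _ fun {M} χ hχ => ?_
  let a := (Scheme.Modules.pullbackPushforwardAdjunction i).homEquiv Ω M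
  let D := ConormalSeqLib.descDer p i j hij χ hψ hχ
  refine ⟨a.symm (hd _ D).choose, ConormalSecLib.conormal_hom_ext i fun W s => ?_⟩
  refine (congrArg ((a.symm (hd _ D).choose).app (i ⁻¹ᵁ W)) (hφ W s)).trans ?_
  have h1 := congr(Scheme.Modules.Hom.app $(a.apply_symm_apply (hd _ D).choose) W
    (d.app W (OmegaSh.idealSect i.ker W s)))
  rw [show a (a.symm (hd _ D).choose) = _ from Adjunction.homEquiv_unit _ _ _ _] at h1
  refine h1.trans ((congrArg (fun E : OmegaSh.Der p _ => E.app W (OmegaSh.idealSect i.ker W s))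
    (hd _ D).choose_spec.1).trans ?_)
  exact ConormalSeqLib.descDer_idealSect p i j hij χ hψ hχ W s

end Groth.Agent.S9375
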