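import Groth.Statements.S13458
import Groth.Agent.OmegaAffLib.Apps
import Groth.Agent.OmegaAffLib.StalkCrit
import Mathlib.RingTheory.Etale.Field

set_option autoImplicit false
universe u
open CategoryTheory CategoryTheory.Limits AlgebraicGeometry TopologicalSpace
open SmVar

namespace Groth.Agent.S13458

open Opposite TensorProduct DevissLib in
/-- A morphism of quasi-coherent modules injective on charts is a monomorphism. -/
theorem mono_of_injective_charts {X : Scheme.{u}} {M N : X.Modules} [Coh.IsQCoh M] [Coh.IsQCoh N] (φ : M ⟶ N)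
    (h : ∀ x : X, ∃ U : X.Opens, IsAffineOpen U ∧ x ∈ U ∧ Function.Injective (φ.app U)) : Mono φ := by
  have hb : ∀ x, Function.Injective ((St x).map φ) := fun x => by
    obtain ⟨U, hU, hx, hU'⟩ := h x
    refine (injective_iff_map_eq_zero _).mpr fun g hg => ?_
    obtain ⟨v, s, hv, hvs⟩ := AssPointLib.exists_smul_eq_gm hU hx g
    have h0 : gm N x hx (φ.app U s) = 0 := by rw [← gm_app, ← hvs, map_smul, hg, smul_zero]
    obtain ⟨t, ht, hts⟩ := (DevissLib.gm_eq_zero_iff hU x hx _).mp h0
    have hts' : t • s = 0 := hU' ((Scheme.Modules.Hom.app_smul φ t s).trans (hts.trans (map_zero _).symm))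
    exact hv.smul_eq_zero.mp (hvs.trans ((DevissLib.gm_eq_zero_iff hU x hx s).mpr ⟨t, ht, hts'⟩))
  exact ⟨fun {P} a b e => Scheme.Modules.hom_ext _ _ fun W => ConcreteCategory.hom_ext _ _ fun t =>
    ModGlueLib.eq_of_locally _ _ fun x hx => by
      have e' : gm M x hx (a.app W t) = gm M x hx (b.app W t) := hb x (by
        rw [gm_app, gm_app]
        exact congrArg (fun θ => gm N x hx (θ.app W t)) e)
      obtain ⟨V, hxV, i, i', e''⟩ := TopCat.Presheaf.germ_eq M.presheaf x hx hx _ _ e'
      exact ⟨V, i.le, hxV, e''⟩⟩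

open TensorProduct in
/-- Differentials of a generically separable extension of domains inject. -/
theorem injective_mapBaseChange {k R S K L : Type u} [CommRing k] [CommRing R] [IsDomain R] [CommRing S] [IsDomain S]
    [Field K] [Field L] [Algebra k R] [Algebra k S] [Algebra R S] [IsScalarTower k R S]
    [Algebra R K] [IsFractionRing R K] [Algebra S L] [IsFractionRing S L] [Algebra K L] [Algebra R L]
    [IsScalarTower R K L] [IsScalarTower R S L] [Algebra k L] [IsScalarTower k R L] [IsScalarTower k S L]
    [Algebra.IsSeparable K L] [Algebra.EssFiniteType R S]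
    [Module.Flat R Ω[R⁄k]] :
    Function.Injective (KaehlerDifferential.mapBaseChange k R S) := by
  haveI : Algebra.EssFiniteType S L := Algebra.EssFiniteType.of_isLocalization L (nonZeroDivisors S)
  haveI : Algebra.EssFiniteType R L := Algebra.EssFiniteType.comp R S L
  haveI : Algebra.EssFiniteType K L := Algebra.EssFiniteType.of_comp R K L
  haveI : Algebra.FormallyEtale R K := Algebra.FormallyEtale.of_isLocalization (nonZeroDivisors R)
  haveI : Algebra.FormallyEtale K L := Algebra.FormallyEtale.of_isSeparable K L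
  haveI : Algebra.FormallyEtale R L := Algebra.FormallyEtale.comp R K L
  have hbc := KaehlerDifferential.isBaseChange_of_formallyEtale k R L
  have key : ∀ z : S ⊗[R] Ω[R⁄k], KaehlerDifferential.map k k S L (KaehlerDifferential.mapBaseChange k R S z) =
      hbc.equiv ((IsScalarTower.toAlgHom R S L).toLinearMap.rTensor _ z) := by
    intro z
    induction z using TensorProduct.induction_on with
    | zero => simp only [map_zero]
    | add a b ha hb => simp only [map_add, ha, hb]
    | tmul a w =>
      rw [KaehlerDifferential.mapBaseChange_tmul, LinearMap.rTensor_tmul, IsBaseChange.equiv_tmul, map_smul]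
      rw [show (IsScalarTower.toAlgHom R S L).toLinearMap a = algebraMap S L a from rfl, algebraMap_smul]
      congr 1
      have hw : w ∈ Submodule.span R (Set.range (KaehlerDifferential.D k R)) := by
        rw [KaehlerDifferential.span_range_derivation]; trivial
      induction hw using Submodule.span_induction with
      | mem y hy =>
        obtain ⟨r, rfl⟩ := hy
        simp [← IsScalarTower.algebraMap_apply]
      | zero => simp
      | add y z _ _ hy hz => simp only [map_add, hy, hz]
      | smul r y _ hy =>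
        rw [map_smul (KaehlerDifferential.map k k R L), map_smul (KaehlerDifferential.map k k R S),
          ← algebraMap_smul S r (KaehlerDifferential.map k k R S y), map_smul, hy, algebraMap_smul]
  intro a b hab
  refine Module.Flat.rTensor_preserves_injective_linearMap (M := Ω[R⁄k]) (IsScalarTower.toAlgHom R S L).toLinearMap
    (IsFractionRing.injective S L) (hbc.equiv.injective ?_)
  rw [← key, ← key, hab]

open TensorProduct in
/-- Injectivity on a chart, from the algebra. -/
theorem injective_app_of_algebra {X S X' : Scheme.{u}} {f : X ⟶ S} {f' : X' ⟶ S} {h : X' ⟶ X}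
    {Ω : X.Modules} {Ω' : X'.Modules} {d : OmegaSh.Der f Ω} {d' : OmegaSh.Der f' Ω'}
    {c : (Scheme.Modules.pullback h).obj Ω ⟶ Ω'} (hd : OmegaSh.IsUniversal d) (hd' : OmegaSh.IsUniversal d')
    (hc : OmegaSh.IsDiffCompat h d d' c)
    {V : S.Opens} {U : X.Opens} {U' : X'.Opens} (hV : IsAffineOpen V) (hU : IsAffineOpen U)
    (e₁ : U ≤ f ⁻¹ᵁ V) (hU'a : IsAffineOpen U') (e₂ : U' ≤ f' ⁻¹ᵁ V)
    (hU' : U' ≤ h ⁻¹ᵁ U) [Algebra Γ(S, V) Γ(X, U)] [Algebra Γ(S, V) Γ(X', U')]
    [Algebra Γ(X, U) Γ(X', U')] [IsScalarTower Γ(S, V) Γ(X, U) Γ(X', U')]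
    (hA : algebraMap Γ(S, V) Γ(X, U) = (f.appLE V U e₁).hom)
    (hA' : algebraMap Γ(S, V) Γ(X', U') = (f'.appLE V U' e₂).hom)
    (hh : algebraMap Γ(X, U) Γ(X', U') = (h.appLE U U' hU').hom)
    (hinj : Function.Injective (KaehlerDifferential.mapBaseChange Γ(S, V) Γ(X, U) Γ(X', U'))) :
    Function.Injective (c.app U') := by
  haveI : Coh.IsQCoh Ω := OmegaAffLib.isQCoh_of_isUniversal hd
  obtain ⟨e, he⟩ := OmegaAffLib.exists_equiv_alg hd hV hU e₁ hA
  obtain ⟨e', he'⟩ := OmegaAffLib.exists_equiv_alg hd' hV hU'a e₂ hA'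
  letI : Module Γ(X, U) Γ(KFlatLib.pb h Ω, U') := Module.compHom _ (h.appLE U U' hU').hom
  haveI : IsScalarTower Γ(X, U) Γ(X', U') Γ(KFlatLib.pb h Ω, U') :=
    IsScalarTower.of_algebraMap_smul fun a t => by rw [hh]; rfl
  let ψ : Γ(Ω, U) →ₗ[Γ(X, U)] Γ(KFlatLib.pb h Ω, U') :=
    { toFun := KFlatLib.puSecLE h Ω hU'
      map_add' := map_add _
      map_smul' := fun r m => KFlatLib.puSecLE_smul h Ω hU' r m }
  have hψ : IsBaseChange Γ(X', U') ψ :=
    KFlatLib.isBaseChange_puSec h Ω hU hU'a hU' (fun r => by rw [hh]) ψ fun _ => rfl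
  have key : ∀ w, c.app U' (ψ (e w)) =
      e' (KaehlerDifferential.map Γ(S, V) Γ(S, V) Γ(X, U) Γ(X', U') w) := by
    intro w
    have hw : w ∈ Submodule.span Γ(X, U) (Set.range (KaehlerDifferential.D Γ(S, V) Γ(X, U))) := by
      rw [KaehlerDifferential.span_range_derivation]; trivial
    induction hw using Submodule.span_induction with
    | mem y hy =>
      obtain ⟨a, rfl⟩ := hy
      rw [he, KaehlerDifferential.map_D, he', hh]
      exact OmegaAffLib.chartMap_d hc hU' a
    | zero => simp only [map_zero]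
    | add y z _ _ hy hz =>
      simp only [map_add]
      exact congrArg₂ (· + ·) hy hz
    | smul a y _ hy =>
      rw [map_smul e, map_smul (KaehlerDifferential.map Γ(S, V) Γ(S, V) Γ(X, U) Γ(X', U')),
        ← algebraMap_smul Γ(X', U') a (KaehlerDifferential.map _ _ _ _ y), map_smul e', ← hy, hh]
      exact OmegaAffLib.chartMap_smul hU' a (e y)
  have heq : ∀ z : Γ(X', U') ⊗[Γ(X, U)] Ω[Γ(X, U)⁄Γ(S, V)],
      c.app U' (hψ.equiv (TensorProduct.congr (LinearEquiv.refl _ _) e z)) =
        e' (KaehlerDifferential.mapBaseChange Γ(S, V) Γ(X, U) Γ(X', U') z) := by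
    intro z
    induction z using TensorProduct.induction_on with
    | zero => simp only [map_zero]
    | add a b ha hb => simp only [map_add, ha, hb]
    | tmul a w =>
      rw [TensorProduct.congr_tmul, IsBaseChange.equiv_tmul, KaehlerDifferential.mapBaseChange_tmul, map_smul e',
        ← key]
      exact Scheme.Modules.Hom.app_smul c a _
  intro z₁ z₂ hz
  obtain ⟨w₁, rfl⟩ := hψ.equiv.surjective z₁
  obtain ⟨w₂, rfl⟩ := hψ.equiv.surjective z₂
  obtain ⟨v₁, rfl⟩ := (TensorProduct.congr (LinearEquiv.refl _ _) e).surjective w₁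
  obtain ⟨v₂, rfl⟩ := (TensorProduct.congr (LinearEquiv.refl _ _) e).surjective w₂
  rw [heq, heq] at hz
  rw [hinj (e'.injective hz)]

theorem residue_bijective (X : Scheme.{u}) [IsIntegral X] :
    Function.Bijective (X.residue (genericPoint X)).hom :=
  ⟨RingHom.injective (R := X.functionField) (X.residue (genericPoint X)).hom, X.residue_surjective _⟩

theorem residue_bijective_generic {X Y : Scheme.{u}} [IsIntegral X] [IsIntegral Y] (φ : X ⟶ Y)
    (hξ : φ (genericPoint X) = genericPoint Y) :
    Function.Bijective (Y.residue (φ.base (genericPoint X))).hom := by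
  rw [show φ.base (genericPoint X) = genericPoint Y from hξ]
  exact residue_bijective Y

/-- Separability in terms of function fields. -/
theorem isSeparable_functionField {X Y : Scheme.{u}} [IsIntegral X] [IsIntegral Y] (φ : X ⟶ Y)
    (hξ : φ (genericPoint X) = genericPoint Y)
    (hsep : letI := (φ.residueFieldMap (genericPoint X)).hom.toAlgebra
      Algebra.IsSeparable (Y.residueField (φ.base (genericPoint X))) (X.residueField (genericPoint X))) :
    @Algebra.IsSeparable Y.functionField X.functionField _ _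
      ((Y.presheaf.stalkSpecializes (specializes_of_eq hξ)) ≫ φ.stalkMap (genericPoint X)).hom.toAlgebra := by
  letI := (φ.residueFieldMap (genericPoint X)).hom.toAlgebra
  letI := ((Y.presheaf.stalkSpecializes (specializes_of_eq hξ)) ≫ φ.stalkMap (genericPoint X)).hom.toAlgebra
  haveI := hsep
  haveI : IsIso (Y.presheaf.stalkSpecializes (specializes_of_eq hξ)) :=
    ⟨Y.presheaf.stalkSpecializes (specializes_of_eq hξ.symm), by simp, by simp⟩
  let e₁ : Y.residueField (φ.base (genericPoint X)) ≃+* Y.functionField :=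
    ((RingEquiv.ofBijective _ (ConcreteCategory.bijective_of_isIso (Y.presheaf.stalkSpecializes (specializes_of_eq hξ)))).trans
      (RingEquiv.ofBijective (Y.residue (φ.base (genericPoint X))).hom (residue_bijective_generic φ hξ))).symm
  let e₂ : X.residueField (genericPoint X) ≃+* X.functionField :=
    (RingEquiv.ofBijective (X.residue (genericPoint X)).hom (residue_bijective X)).symm
  refine Algebra.IsSeparable.of_equiv_equiv e₁ e₂ (RingHom.ext fun z => ?_)
  obtain ⟨a, rfl⟩ := (RingEquiv.ofBijective (Y.residue (φ.base (genericPoint X))).hom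
    (residue_bijective_generic φ hξ)).surjective z
  obtain ⟨b, rfl⟩ := (ConcreteCategory.bijective_of_isIso (Y.presheaf.stalkSpecializes (specializes_of_eq hξ))).2 a
  apply e₂.symm.injective
  simp only [RingHom.comp_apply, RingEquiv.coe_toRingHom, RingEquiv.symm_apply_apply]
  rw [show e₁ ((RingEquiv.ofBijective (Y.residue (φ.base (genericPoint X))).hom (residue_bijective_generic φ hξ))
      (Y.presheaf.stalkSpecializes (specializes_of_eq hξ) b)) = b from by
    apply e₁.symm.injective
    rw [e₁.symm_apply_apply]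
    rfl]
  exact congr($(Scheme.residue_residueFieldMap φ (genericPoint X)) (Y.presheaf.stalkSpecializes (specializes_of_eq hξ) b)).symm

/-- Let k be a field, X and Y integral schemes each smooth over Spec k and of the same dimension, and φ
: X → Y a morphism over k which is dominant and separable: the residue field of X at its generic
point is a separable algebraic extension of the residue field of Y at the image point (the function
field of Y, as φ is dominant). Let Ω_Y and Ω_X be sheaves of differentials of Y and of X over k,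
given as universal derivations, and c : φ^*Ω_Y → Ω_X the compatible map (it sends the pullback of
d_Y s to d_X(φ^♯ s)). Then c is a monomorphism of O_X-modules, so the relative cotangent sequence of
φ is exact on the left as well. (The injectivity is what is stated here; the identification of the
cokernel with Ω_{X/Y} is the general cotangent sequence.) -/
theorem result (k : Type u) [Field k] {X Y : Scheme.{u}}
    (pX : X ⟶ Spec (CommRingCat.of k)) (pY : Y ⟶ Spec (CommRingCat.of k)) (φ : X ⟶ Y) (w : φ ≫ pY = pX)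
    [IsIntegral X] [IsIntegral Y] [Smooth pX] [Smooth pY]
    (hdim : topologicalKrullDim X = topologicalKrullDim Y) (hdom : DenseRange φ.base)
    (hsep : letI := (φ.residueFieldMap (genericPoint X)).hom.toAlgebra
      Algebra.IsSeparable (Y.residueField (φ.base (genericPoint X))) (X.residueField (genericPoint X)))
    (ΩY : Y.Modules) (dY : OmegaSh.Der pY ΩY) (hY : OmegaSh.IsUniversal dY)
    (ΩX : X.Modules) (dX : OmegaSh.Der pX ΩX) (hX : OmegaSh.IsUniversal dX)
    (c : (Scheme.Modules.pullback φ).obj ΩY ⟶ ΩX) (hc : OmegaSh.IsDiffCompat φ dY dX c) :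
    Mono c := by
  haveI : Coh.IsQCoh ΩY := OmegaAffLib.isQCoh_of_isUniversal hY
  haveI : Coh.IsQCoh ((Scheme.Modules.pullback φ).obj ΩY) := KFlatLib.isQCoh_pullback φ ΩY
  haveI : Coh.IsQCoh ΩX := OmegaAffLib.isQCoh_of_isUniversal hX
  refine mono_of_injective_charts c fun x => ?_
  obtain ⟨U, hU, hxU, -⟩ := exists_isAffineOpen_mem_and_subset (show φ x ∈ (⊤ : Y.Opens) from trivial)
  obtain ⟨U', hU'a, hxU', hU'⟩ := exists_isAffineOpen_mem_and_subset (show x ∈ φ ⁻¹ᵁ U from hxU)
  refine ⟨U', hU'a, hxU', ?_⟩
  have e₁ : U ≤ pY ⁻¹ᵁ ⊤ := le_top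
  have e₂ : U' ≤ pX ⁻¹ᵁ ⊤ := le_top
  letI := (pY.appLE ⊤ U e₁).hom.toAlgebra
  letI := (pX.appLE ⊤ U' e₂).hom.toAlgebra
  letI := (φ.appLE U U' hU').hom.toAlgebra
  haveI : IsScalarTower Γ(Spec (CommRingCat.of k), ⊤) Γ(Y, U) Γ(X, U') := IsScalarTower.of_algebraMap_eq' (by
    show (pX.appLE ⊤ U' e₂).hom = (φ.appLE U U' hU').hom.comp (pY.appLE ⊤ U e₁).hom
    rw [← CommRingCat.hom_comp]
    exact congrArg CommRingCat.Hom.hom
      ((OmegaSh.appLE_congr_hom w.symm _ _).trans (Scheme.Hom.appLE_comp_appLE φ pY ⊤ U U' e₁ hU').symm))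
  refine injective_app_of_algebra hY hX hc (isAffineOpen_top _) hU e₁ hU'a e₂ hU' rfl rfl rfl ?_
  haveI : Nonempty U' := ⟨⟨x, hxU'⟩⟩
  haveI : Nonempty U := ⟨⟨φ x, hxU⟩⟩
  haveI : Algebra.Smooth Γ(Spec (CommRingCat.of k), ⊤) Γ(Y, U) :=
    (pY.smooth_appLE (isAffineOpen_top _) hU e₁).toAlgebra
  haveI : Algebra.FiniteType Γ(Spec (CommRingCat.of k), ⊤) Γ(X, U') :=
    pX.finiteType_appLE (isAffineOpen_top _) hU'a e₂
  haveI : Algebra.FiniteType Γ(Y, U) Γ(X, U') :=
    Algebra.FiniteType.of_restrictScalars_finiteType Γ(Spec (CommRingCat.of k), ⊤) Γ(Y, U) Γ(X, U')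
  have hξ : φ (genericPoint X) = genericPoint Y :=
    ((genericPoint_spec Y).eq (by
      have h := (genericPoint_spec X).image φ.continuous
      rwa [Set.image_univ, hdom.closure_range] at h)).symm
  letI algKL := ((Y.presheaf.stalkSpecializes (specializes_of_eq hξ)) ≫ φ.stalkMap (genericPoint X)).hom.toAlgebra
  haveI := isSeparable_functionField φ hξ hsep
  letI : Algebra Γ(Y, U) X.functionField := ((algebraMap Y.functionField X.functionField).comp
    (algebraMap Γ(Y, U) Y.functionField)).toAlgebra
  haveI : IsScalarTower Γ(Y, U) Y.functionField X.functionField := IsScalarTower.of_algebraMap_eq fun _ => rfl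
  haveI : IsScalarTower Γ(Y, U) Γ(X, U') X.functionField := IsScalarTower.of_algebraMap_eq fun a => by
    show (Y.presheaf.stalkSpecializes (specializes_of_eq hξ) ≫ φ.stalkMap (genericPoint X))
      (Y.presheaf.germ U _ _ a) = X.presheaf.germ U' _ _ (φ.appLE U U' hU' a)
    rw [CommRingCat.comp_apply, TopCat.Presheaf.germ_stalkSpecializes_apply, Scheme.Hom.germ_stalkMap_apply]
    exact (X.presheaf.germ_res_apply (homOfLE hU') (genericPoint X) _ _).symm
  letI : Algebra Γ(Spec (CommRingCat.of k), ⊤) X.functionField :=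
    ((algebraMap Γ(X, U') X.functionField).comp (algebraMap Γ(Spec (CommRingCat.of k), ⊤) Γ(X, U'))).toAlgebra
  haveI : IsScalarTower Γ(Spec (CommRingCat.of k), ⊤) Γ(X, U') X.functionField :=
    IsScalarTower.of_algebraMap_eq fun _ => rfl
  haveI : IsScalarTower Γ(Spec (CommRingCat.of k), ⊤) Γ(Y, U) X.functionField :=
    IsScalarTower.of_algebraMap_eq fun a => by
      rw [IsScalarTower.algebraMap_apply Γ(Spec (CommRingCat.of k), ⊤) Γ(X, U') X.functionField,
        IsScalarTower.algebraMap_apply Γ(Spec (CommRingCat.of k), ⊤) Γ(Y, U) Γ(X, U'),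
        ← IsScalarTower.algebraMap_apply Γ(Y, U) Γ(X, U') X.functionField]
  haveI : IsFractionRing Γ(Y, U) Y.functionField := functionField_isFractionRing_of_isAffineOpen _ U hU
  haveI : IsFractionRing Γ(X, U') X.functionField := functionField_isFractionRing_of_isAffineOpen _ U' hU'a
  exact injective_mapBaseChange (K := Y.functionField) (L := X.functionField)

end Groth.Agent.S13458
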