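import Groth.Statements.S5974
import Groth.Agent.OmegaAffLib.Exact
import Groth.Agent.ConormalSecLib.Basic
import Groth.Agent.CohCmpLib.PullOnComp

set_option autoImplicit false
universe u
open CategoryTheory CategoryTheory.Limits AlgebraicGeometry TopologicalSpace Opposite
open Nrm16

namespace Groth.Agent.S5974

theorem hidM {A : Scheme.{u}} (M : A.Modules) {W : A.Opens} (m : Γ(M, W)) :
    M.presheaf.map (homOfLE (le_refl W)).op m = m := by
  rw [show (homOfLE (le_refl W)).op = 𝟙 _ from Subsingleton.elim _ _, M.presheaf.map_id]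
  rfl

theorem resX {X : Scheme.{u}} {A B C : X.Opens} (h₁ : B ≤ A) (h₂ : C ≤ B) (a : Γ(X, A)) :
    X.presheaf.map (homOfLE h₂).op (X.presheaf.map (homOfLE h₁).op a) =
      X.presheaf.map (homOfLE (h₂.trans h₁)).op a := by
  rw [← ConcreteCategory.comp_apply, ← Functor.map_comp, ← op_comp, homOfLE_comp]

theorem resM {X : Scheme.{u}} (M : X.Modules) {A B C : X.Opens} (h₁ : B ≤ A) (h₂ : C ≤ B) (a : Γ(M, A)) :
    M.presheaf.map (homOfLE h₂).op (M.presheaf.map (homOfLE h₁).op a) =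
      M.presheaf.map (homOfLE (h₂.trans h₁)).op a := by
  rw [← ConcreteCategory.comp_apply, ← Functor.map_comp, ← op_comp, homOfLE_comp]

variable {Y' Y X : Scheme.{u}} (f : Y ⟶ X) [IsImmersion f] (j : Y' ⟶ Y)

/-- Functions on an immersed scheme are locally pulled back. -/
theorem exists_lift_fn (W : Y.Opens) (x : Γ(Y, W)) (y : Y) (hy : y ∈ W) :
    ∃ (U : X.Opens) (h : f ⁻¹ᵁ U ≤ W) (t : Γ(X, U)), y ∈ f ⁻¹ᵁ U ∧
      f.app U t = Y.presheaf.map (homOfLE h).op x := by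
  obtain ⟨t, ht⟩ := f.stalkMap_surjective y (Y.presheaf.germ W y hy x)
  obtain ⟨U, hyU, t', rfl⟩ := X.presheaf.exists_germ_eq (x := f y) t
  rw [Scheme.Hom.germ_stalkMap_apply] at ht
  obtain ⟨V, hyV, i₁, i₂, h⟩ := TopCat.Presheaf.germ_eq Y.presheaf y (U := f ⁻¹ᵁ U) (V := W) hyU hy _ _ ht
  obtain ⟨O, hO, hOV⟩ := f.isEmbedding.isInducing.isOpen_iff.1 V.2
  let U'' : X.Opens := U ⊓ ⟨O, hO⟩
  have h1 : f ⁻¹ᵁ U'' ≤ V := fun z hz => hOV.subset hz.2
  refine ⟨U'', h1.trans i₂.le, X.presheaf.map (homOfLE inf_le_left).op t',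
    ⟨hyU, hOV.symm.subset hyV⟩, ?_⟩
  rw [show i₁ = homOfLE i₁.le from Subsingleton.elim _ _, show i₂ = homOfLE i₂.le from Subsingleton.elim _ _] at h
  have h' := congrArg (Y.presheaf.map (homOfLE h1).op) h
  rw [resX, resX] at h'
  exact (congr($(f.naturality (homOfLE (inf_le_left : U'' ≤ U)).op) t')).trans h'

variable [IsImmersion j] [QuasiCompact j] [QuasiCompact f]

/-- Sections of the ideal of `j` lift locally to sections of the ideal of `j ≫ f`. -/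
theorem exists_lift (W : Y.Opens) (s : Γ(ClSub.idealMod j.ker, W)) (y : Y) (hy : y ∈ W) :
    ∃ (U : X.Opens) (h : f ⁻¹ᵁ U ≤ W) (t : Γ(ClSub.idealMod (j ≫ f).ker, U)), y ∈ f ⁻¹ᵁ U ∧
      f.app U (OmegaSh.idealSect (j ≫ f).ker U t) =
        Y.presheaf.map (homOfLE h).op (OmegaSh.idealSect j.ker W s) := by
  obtain ⟨U, h, t, hyU, ht⟩ := exists_lift_fn f W (OmegaSh.idealSect j.ker W s) y hy
  have ht0 : (j ≫ f).app U t = 0 := by
    rw [Scheme.Hom.comp_app]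
    show j.app _ (f.app U t) = 0
    rw [ht, ← ConormalSecLib.idealSect_map, ConormalSecLib.app_idealSect]
  exact ⟨U, h, ConormalSecLib.lift (j ≫ f) U t ht0, hyU, by rw [ConormalSecLib.idealSect_lift, ht]⟩

variable (φ₁ : (Scheme.Modules.pullback j).obj (Omega.conormal f) ⟶ Omega.conormal (j ≫ f))
  (hφ₁ : OmegaSh.IsConormalMap (j ≫ f) f (𝟙 X) j φ₁)
  {M : Y'.Modules} (ψ : Omega.conormal (j ≫ f) ⟶ M) (hψ : φ₁ ≫ ψ = 0)

/-- `ψ` of a class. -/
noncomputable def val (U : X.Opens) (t : Γ(ClSub.idealMod (j ≫ f).ker, U)) : Γ(M, j ⁻¹ᵁ (f ⁻¹ᵁ U)) :=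
  ψ.app (j ⁻¹ᵁ (f ⁻¹ᵁ U)) (OmegaSh.conormalSect (j ≫ f) U t)

theorem val_add (U : X.Opens) (t t' : Γ(ClSub.idealMod (j ≫ f).ker, U)) :
    val f j ψ U (t + t') = val f j ψ U t + val f j ψ U t' :=
  (congrArg (ψ.app _) (map_add (OmegaSh.conormalSect (j ≫ f) U).hom t t')).trans
    (map_add (ψ.app _).hom _ _)

theorem val_sub (U : X.Opens) (t t' : Γ(ClSub.idealMod (j ≫ f).ker, U)) :
    val f j ψ U (t - t') = val f j ψ U t - val f j ψ U t' :=
  (congrArg (ψ.app _) (map_sub (OmegaSh.conormalSect (j ≫ f) U).hom t t')).trans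
    (map_sub (ψ.app _).hom _ _)

theorem val_map {U U' : X.Opens} (h : U' ≤ U) (t : Γ(ClSub.idealMod (j ≫ f).ker, U)) :
    val f j ψ U' ((ClSub.idealMod (j ≫ f).ker).presheaf.map (homOfLE h).op t) =
      M.presheaf.map (homOfLE (j.preimage_mono (f.preimage_mono h))).op (val f j ψ U t) := by
  refine (congrArg (ψ.app _) (OmegaSh.pullSect_map (j ≫ f) (ClSub.idealMod (j ≫ f).ker) h t)).trans ?_
  exact congr($(ψ.mapPresheaf.naturality (homOfLE (j.preimage_mono (f.preimage_mono h))).op)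
    (OmegaSh.conormalSect (j ≫ f) U t))

include hφ₁ hψ

theorem val_congr {U U' : X.Opens} (t : Γ(ClSub.idealMod (j ≫ f).ker, U))
    (t' : Γ(ClSub.idealMod (j ≫ f).ker, U'))
    (h : Y.presheaf.map (homOfLE (f.preimage_mono (inf_le_left : U ⊓ U' ≤ U))).op
        (f.app U (OmegaSh.idealSect (j ≫ f).ker U t)) =
      Y.presheaf.map (homOfLE (f.preimage_mono (inf_le_right : U ⊓ U' ≤ U'))).op
        (f.app U' (OmegaSh.idealSect (j ≫ f).ker U' t'))) :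
    M.presheaf.map (homOfLE (j.preimage_mono (f.preimage_mono (inf_le_left : U ⊓ U' ≤ U)))).op
        (val f j ψ U t) =
      M.presheaf.map (homOfLE (j.preimage_mono (f.preimage_mono (inf_le_right : U ⊓ U' ≤ U')))).op
        (val f j ψ U' t') := by
  rw [← val_map f j ψ (inf_le_left : U ⊓ U' ≤ U), ← val_map f j ψ (inf_le_right : U ⊓ U' ≤ U')]
  generalize ht₁ : (ClSub.idealMod (j ≫ f).ker).presheaf.map (homOfLE (inf_le_left : U ⊓ U' ≤ U)).op t = t₁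
  generalize ht₂ : (ClSub.idealMod (j ≫ f).ker).presheaf.map (homOfLE (inf_le_right : U ⊓ U' ≤ U')).op t' = t₂
  have he : f.app (U ⊓ U') (OmegaSh.idealSect (j ≫ f).ker (U ⊓ U') (t₁ - t₂)) = 0 := by
    rw [map_sub, map_sub, sub_eq_zero, ← ht₁, ← ht₂, ConormalSecLib.idealSect_map, ConormalSecLib.idealSect_map]
    exact (congr($(f.naturality (homOfLE (inf_le_left : U ⊓ U' ≤ U)).op) _)).trans
      (h.trans (congr($(f.naturality (homOfLE (inf_le_right : U ⊓ U' ≤ U')).op) _)).symm)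
  let r := ConormalSecLib.lift f (U ⊓ U') _ he
  have h1 := hφ₁.2 (U ⊓ U') r (t₁ - t₂) (ConormalSecLib.idealSect_lift f (U ⊓ U') _ he).symm
    (j ⁻¹ᵁ (f ⁻¹ᵁ (U ⊓ U'))) le_rfl le_rfl
  rw [hidM] at h1
  have h0 : val f j ψ (U ⊓ U') (t₁ - t₂) = 0 := by
    refine (congrArg (ψ.app _) (h1.trans (hidM _ _)).symm).trans ?_
    show (φ₁ ≫ ψ).app (j ⁻¹ᵁ (f ⁻¹ᵁ (U ⊓ U'))) _ = 0
    rw [hψ]
    rfl
  rw [← sub_eq_zero]
  exact (val_sub f j ψ _ t₁ t₂).symm.trans h0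

theorem exists_descVal (W : Y.Opens) (s : Γ(ClSub.idealMod j.ker, W)) :
    ∃ m : Γ(M, j ⁻¹ᵁ W), ∀ (U : X.Opens) (h : f ⁻¹ᵁ U ≤ W) (t : Γ(ClSub.idealMod (j ≫ f).ker, U)),
      f.app U (OmegaSh.idealSect (j ≫ f).ker U t) =
        Y.presheaf.map (homOfLE h).op (OmegaSh.idealSect j.ker W s) →
      M.presheaf.map (homOfLE (j.preimage_mono h)).op m = val f j ψ U t := by
  choose U h t hy ht using fun y : W => exists_lift f j W s y.1 y.2
  let Ms : TopCat.Sheaf AddCommGrpCat Y' := ⟨M.presheaf, M.isSheaf⟩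
  have hcov : j ⁻¹ᵁ W ≤ iSup fun y => j ⁻¹ᵁ (f ⁻¹ᵁ U y) :=
    fun z hz => Opens.mem_iSup.2 ⟨⟨j z, hz⟩, hy _⟩
  have hcompat : ∀ (U₁ U₂ : X.Opens) (h₁ : f ⁻¹ᵁ U₁ ≤ W) (h₂ : f ⁻¹ᵁ U₂ ≤ W)
      (t₁ : Γ(ClSub.idealMod (j ≫ f).ker, U₁)) (t₂ : Γ(ClSub.idealMod (j ≫ f).ker, U₂)),
      f.app U₁ (OmegaSh.idealSect (j ≫ f).ker U₁ t₁) =
        Y.presheaf.map (homOfLE h₁).op (OmegaSh.idealSect j.ker W s) →
      f.app U₂ (OmegaSh.idealSect (j ≫ f).ker U₂ t₂) =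
        Y.presheaf.map (homOfLE h₂).op (OmegaSh.idealSect j.ker W s) →
      M.presheaf.map (homOfLE (j.preimage_mono (f.preimage_mono (inf_le_left : U₁ ⊓ U₂ ≤ U₁)))).op
          (val f j ψ U₁ t₁) =
        M.presheaf.map (homOfLE (j.preimage_mono (f.preimage_mono (inf_le_right : U₁ ⊓ U₂ ≤ U₂)))).op
          (val f j ψ U₂ t₂) := by
    intro U₁ U₂ h₁ h₂ t₁ t₂ e₁ e₂
    refine val_congr f j φ₁ hφ₁ ψ hψ t₁ t₂ ?_
    rw [e₁, e₂]
    simp only [← ConcreteCategory.comp_apply, ← Functor.map_comp, ← op_comp, homOfLE_comp]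
  obtain ⟨m, hm, -⟩ := Ms.existsUnique_gluing' (fun y => j ⁻¹ᵁ (f ⁻¹ᵁ U y)) (j ⁻¹ᵁ W)
    (fun y => homOfLE (j.preimage_mono (h y))) hcov (fun y => val f j ψ (U y) (t y))
    (fun a b => hcompat _ _ (h a) (h b) _ _ (ht a) (ht b))
  refine ⟨m, fun U' h' t' ht' => ?_⟩
  refine TopCat.Sheaf.eq_of_locally_eq' Ms (fun y => j ⁻¹ᵁ (f ⁻¹ᵁ (U y ⊓ U'))) (j ⁻¹ᵁ (f ⁻¹ᵁ U'))
    (fun y => homOfLE (j.preimage_mono (f.preimage_mono inf_le_right))) ?_ _ _ fun y => ?_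
  · exact fun z hz => Opens.mem_iSup.2 ⟨⟨j z, h' hz⟩, hy _, hz⟩
  · show M.presheaf.map _ (M.presheaf.map _ m) = M.presheaf.map _ (val f j ψ U' t')
    refine Eq.trans ?_ (hcompat _ _ (h y) h' _ _ (ht y) ht')
    rw [← hm y]
    show _ = M.presheaf.map _ (M.presheaf.map _ m)
    simp only [← ConcreteCategory.comp_apply, ← Functor.map_comp, ← op_comp, homOfLE_comp]

/-- The value of the descended map. -/
noncomputable def descVal (W : Y.Opens) (s : Γ(ClSub.idealMod j.ker, W)) : Γ(M, j ⁻¹ᵁ W) :=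
  (exists_descVal f j φ₁ hφ₁ ψ hψ W s).choose

theorem descVal_spec {W : Y.Opens} (s : Γ(ClSub.idealMod j.ker, W)) {U : X.Opens} (h : f ⁻¹ᵁ U ≤ W)
    (t : Γ(ClSub.idealMod (j ≫ f).ker, U))
    (e : f.app U (OmegaSh.idealSect (j ≫ f).ker U t) =
      Y.presheaf.map (homOfLE h).op (OmegaSh.idealSect j.ker W s)) :
    M.presheaf.map (homOfLE (j.preimage_mono h)).op (descVal f j φ₁ hφ₁ ψ hψ W s) = val f j ψ U t :=
  (exists_descVal f j φ₁ hφ₁ ψ hψ W s).choose_spec U h t e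

omit hφ₁ hψ in
/-- Sections agree when they agree where a given section lifts. -/
theorem eq_of_lifts {W : Y.Opens} (s : Γ(ClSub.idealMod j.ker, W)) {m m' : Γ(M, j ⁻¹ᵁ W)}
    (h : ∀ (U : X.Opens) (hU : f ⁻¹ᵁ U ≤ W) (t : Γ(ClSub.idealMod (j ≫ f).ker, U)),
      f.app U (OmegaSh.idealSect (j ≫ f).ker U t) =
        Y.presheaf.map (homOfLE hU).op (OmegaSh.idealSect j.ker W s) →
      M.presheaf.map (homOfLE (j.preimage_mono hU)).op m =
        M.presheaf.map (homOfLE (j.preimage_mono hU)).op m') : m = m' := by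
  choose U hU t hy ht using fun y : W => exists_lift f j W s y.1 y.2
  exact TopCat.Sheaf.eq_of_locally_eq' (⟨M.presheaf, M.isSheaf⟩ : TopCat.Sheaf AddCommGrpCat Y')
    (fun y => j ⁻¹ᵁ (f ⁻¹ᵁ U y)) (j ⁻¹ᵁ W) (fun y => homOfLE (j.preimage_mono (hU y)))
    (fun z hz => Opens.mem_iSup.2 ⟨⟨j z, hz⟩, hy _⟩) _ _ fun y => h _ (hU y) _ (ht y)

theorem descVal_add {W : Y.Opens} (s s' : Γ(ClSub.idealMod j.ker, W)) :
    descVal f j φ₁ hφ₁ ψ hψ W (s + s') = descVal f j φ₁ hφ₁ ψ hψ W s + descVal f j φ₁ hφ₁ ψ hψ W s' := by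
  refine eq_of_lifts f j s fun U hU t ht => ?_
  refine eq_of_lifts f j (W := f ⁻¹ᵁ U) ((ClSub.idealMod j.ker).presheaf.map (homOfLE hU).op s')
    fun U' hU' t' ht' => ?_
  rw [ConormalSecLib.idealSect_map, ← ConcreteCategory.comp_apply, ← Functor.map_comp, ← op_comp,
    homOfLE_comp] at ht'
  simp only [← ConcreteCategory.comp_apply, ← Functor.map_comp, ← op_comp, homOfLE_comp]
  have hle : f ⁻¹ᵁ (U ⊓ U') ≤ W := (f.preimage_mono inf_le_left).trans hU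
  have hge : f ⁻¹ᵁ U' ≤ f ⁻¹ᵁ (U ⊓ U') := fun z hz => ⟨hU' hz, hz⟩
  let t₁ := (ClSub.idealMod (j ≫ f).ker).presheaf.map (homOfLE (inf_le_left : U ⊓ U' ≤ U)).op t
  let t₂ := (ClSub.idealMod (j ≫ f).ker).presheaf.map (homOfLE (inf_le_right : U ⊓ U' ≤ U')).op t'
  have e₁ : f.app (U ⊓ U') (OmegaSh.idealSect (j ≫ f).ker _ t₁) =
      Y.presheaf.map (homOfLE hle).op (OmegaSh.idealSect j.ker W s) := by
    rw [ConormalSecLib.idealSect_map]
    refine (congr($(f.naturality (homOfLE (inf_le_left : U ⊓ U' ≤ U)).op) _)).trans ?_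
    show Y.presheaf.map (homOfLE (f.preimage_mono (inf_le_left : U ⊓ U' ≤ U))).op (f.app U _) = _
    rw [ht, ← ConcreteCategory.comp_apply, ← Functor.map_comp, ← op_comp, homOfLE_comp]
  have e₂ : f.app (U ⊓ U') (OmegaSh.idealSect (j ≫ f).ker _ t₂) =
      Y.presheaf.map (homOfLE hle).op (OmegaSh.idealSect j.ker W s') := by
    rw [ConormalSecLib.idealSect_map]
    refine (congr($(f.naturality (homOfLE (inf_le_right : U ⊓ U' ≤ U')).op) _)).trans ?_
    show Y.presheaf.map (homOfLE (f.preimage_mono (inf_le_right : U ⊓ U' ≤ U'))).op (f.app U' _) = _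
    rw [ht', ← ConcreteCategory.comp_apply, ← Functor.map_comp, ← op_comp, homOfLE_comp]
  have key : M.presheaf.map (homOfLE (j.preimage_mono hle)).op (descVal f j φ₁ hφ₁ ψ hψ W (s + s')) =
      M.presheaf.map (homOfLE (j.preimage_mono hle)).op
        (descVal f j φ₁ hφ₁ ψ hψ W s + descVal f j φ₁ hφ₁ ψ hψ W s') := by
    refine (descVal_spec f j φ₁ hφ₁ ψ hψ (s + s') hle (t₁ + t₂) (by simp only [map_add, e₁, e₂])).trans ?_
    refine Eq.trans ?_ (map_add (M.presheaf.map (homOfLE (j.preimage_mono hle)).op).hom _ _).symm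
    refine Eq.trans ?_ (congrArg₂ (· + ·) (descVal_spec f j φ₁ hφ₁ ψ hψ s hle t₁ e₁)
      (descVal_spec f j φ₁ hφ₁ ψ hψ s' hle t₂ e₂)).symm
    exact val_add f j ψ _ t₁ t₂
  have key' := congrArg (M.presheaf.map (homOfLE (j.preimage_mono hge)).op) key
  simp only [← ConcreteCategory.comp_apply, ← Functor.map_comp, ← op_comp, homOfLE_comp] at key'
  exact key'

theorem descVal_smul {W : Y.Opens} (r : Γ(Y, W)) (s : Γ(ClSub.idealMod j.ker, W)) :
    descVal f j φ₁ hφ₁ ψ hψ W (r • s) = j.app W r • descVal f j φ₁ hφ₁ ψ hψ W s := by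
  refine eq_of_lifts f j s fun U hU t ht => ?_
  let Ms : TopCat.Sheaf AddCommGrpCat Y' := ⟨M.presheaf, M.isSheaf⟩
  choose U' hU' r' hy hr using fun y : (f ⁻¹ᵁ U : Y.Opens) =>
    exists_lift_fn f (f ⁻¹ᵁ U) (Y.presheaf.map (homOfLE hU).op r) y.1 y.2
  refine TopCat.Sheaf.eq_of_locally_eq' Ms (fun y => j ⁻¹ᵁ (f ⁻¹ᵁ (U ⊓ U' y))) (j ⁻¹ᵁ (f ⁻¹ᵁ U))
    (fun y => homOfLE (j.preimage_mono (f.preimage_mono inf_le_left)))
    (fun z hz => Opens.mem_iSup.2 ⟨⟨j z, hz⟩, hz, hy _⟩) _ _ fun y => ?_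
  have hle : f ⁻¹ᵁ (U ⊓ U' y) ≤ W := (f.preimage_mono inf_le_left).trans hU
  let t₁ := (ClSub.idealMod (j ≫ f).ker).presheaf.map (homOfLE (inf_le_left : U ⊓ U' y ≤ U)).op t
  let r₁ := X.presheaf.map (homOfLE (inf_le_right : U ⊓ U' y ≤ U' y)).op (r' y)
  have e₁ : f.app (U ⊓ U' y) (OmegaSh.idealSect (j ≫ f).ker _ t₁) =
      Y.presheaf.map (homOfLE hle).op (OmegaSh.idealSect j.ker W s) := by
    rw [ConormalSecLib.idealSect_map]
    refine (congr($(f.naturality (homOfLE (inf_le_left : U ⊓ U' y ≤ U)).op) _)).trans ?_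
    show Y.presheaf.map (homOfLE (f.preimage_mono (inf_le_left : U ⊓ U' y ≤ U))).op (f.app U _) = _
    rw [ht, ← ConcreteCategory.comp_apply, ← Functor.map_comp, ← op_comp, homOfLE_comp]
  have e₂ : f.app (U ⊓ U' y) r₁ = Y.presheaf.map (homOfLE hle).op r := by
    refine (congr($(f.naturality (homOfLE (inf_le_right : U ⊓ U' y ≤ U' y)).op) (r' y))).trans ?_
    show Y.presheaf.map (homOfLE (f.preimage_mono (inf_le_right : U ⊓ U' y ≤ U' y))).op (f.app (U' y) _) = _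
    rw [hr]
    simp only [← ConcreteCategory.comp_apply, ← Functor.map_comp, ← op_comp, homOfLE_comp]
  have key : M.presheaf.map (homOfLE (j.preimage_mono hle)).op (descVal f j φ₁ hφ₁ ψ hψ W (r • s)) =
      M.presheaf.map (homOfLE (j.preimage_mono hle)).op (j.app W r • descVal f j φ₁ hφ₁ ψ hψ W s) := by
    refine (descVal_spec f j φ₁ hφ₁ ψ hψ (r • s) hle (r₁ • t₁) (by
      rw [ConormalSecLib.idealSect_smul, ConormalSecLib.idealSect_smul, map_mul, map_mul, e₁, e₂])).trans ?_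
    rw [Scheme.Modules.map_smul, descVal_spec f j φ₁ hφ₁ ψ hψ s hle t₁ e₁]
    have h2 : Y'.presheaf.map (homOfLE (j.preimage_mono hle)).op (j.app W r) =
        (j ≫ f).app (U ⊓ U' y) r₁ := by
      rw [Scheme.Hom.comp_app]
      show _ = j.app _ (f.app _ r₁)
      rw [e₂]
      exact (congr($(j.naturality (homOfLE hle).op) r)).symm
    rw [h2]
    refine (congrArg (ψ.app _) (OmegaSh.pullSect_smul (j ≫ f) (ClSub.idealMod (j ≫ f).ker) _ r₁ t₁)).trans ?_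
    exact ψ.app_smul _ _
  show M.presheaf.map _ (M.presheaf.map _ _) = M.presheaf.map _ (M.presheaf.map _ _)
  rw [resM, resM]
  exact key

theorem descVal_map {W W' : Y.Opens} (i : W' ≤ W) (s : Γ(ClSub.idealMod j.ker, W)) :
    descVal f j φ₁ hφ₁ ψ hψ W' ((ClSub.idealMod j.ker).presheaf.map (homOfLE i).op s) =
      M.presheaf.map (homOfLE (j.preimage_mono i)).op (descVal f j φ₁ hφ₁ ψ hψ W s) := by
  refine eq_of_lifts f j ((ClSub.idealMod j.ker).presheaf.map (homOfLE i).op s) fun U hU t ht => ?_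
  refine (descVal_spec f j φ₁ hφ₁ ψ hψ _ hU t ht).trans (Eq.symm ?_)
  rw [ConormalSecLib.idealSect_map, ← ConcreteCategory.comp_apply, ← Functor.map_comp, ← op_comp,
    homOfLE_comp] at ht
  rw [← ConcreteCategory.comp_apply, ← Functor.map_comp, ← op_comp, homOfLE_comp]
  exact descVal_spec f j φ₁ hφ₁ ψ hψ s (hU.trans i) t ht

/-- The descended map, on ideals. -/
noncomputable def desc₀ : ClSub.idealMod j.ker ⟶ (Scheme.Modules.pushforward j).obj M :=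
  ⟨PresheafOfModules.homMk (M₁ := (ClSub.idealMod j.ker).val) (M₂ := ((Scheme.Modules.pushforward j).obj M).val)
    { app := fun W => AddCommGrpCat.ofHom
        (AddMonoidHom.mk' (fun s => descVal f j φ₁ hφ₁ ψ hψ W.unop s) (descVal_add f j φ₁ hφ₁ ψ hψ))
      naturality := fun W W' i => by
        ext s
        exact descVal_map f j φ₁ hφ₁ ψ hψ i.unop.le s }
    (fun W r s => descVal_smul f j φ₁ hφ₁ ψ hψ (W := W.unop) r s)⟩

/-- The descended map. -/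
noncomputable def desc : Omega.conormal j ⟶ M :=
  ((Scheme.Modules.pullbackPushforwardAdjunction j).homEquiv _ _).symm (desc₀ f j φ₁ hφ₁ ψ hψ)

theorem desc_app (U : X.Opens) (t : Γ(ClSub.idealMod (j ≫ f).ker, U))
    (s : Γ(ClSub.idealMod j.ker, f ⁻¹ᵁ U))
    (e : f.app U (OmegaSh.idealSect (j ≫ f).ker U t) = OmegaSh.idealSect j.ker (f ⁻¹ᵁ U) s) :
    (desc f j φ₁ hφ₁ ψ hψ).app (j ⁻¹ᵁ (f ⁻¹ᵁ U)) (OmegaSh.conormalSect j (f ⁻¹ᵁ U) s) = val f j ψ U t := by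
  have h1 := congr(Scheme.Modules.Hom.app
    $(((Scheme.Modules.pullbackPushforwardAdjunction j).homEquiv _ _).apply_symm_apply
      (desc₀ f j φ₁ hφ₁ ψ hψ)) (f ⁻¹ᵁ U) s)
  rw [show ((Scheme.Modules.pullbackPushforwardAdjunction j).homEquiv _ _)
    (((Scheme.Modules.pullbackPushforwardAdjunction j).homEquiv _ _).symm (desc₀ f j φ₁ hφ₁ ψ hψ)) = _ from
      Adjunction.homEquiv_unit _ _ _ _] at h1
  refine h1.trans ?_
  have h2 := descVal_spec f j φ₁ hφ₁ ψ hψ s le_rfl t (e.trans ?_)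
  · rw [hidM] at h2
    exact h2
  · rw [show (homOfLE (le_refl (f ⁻¹ᵁ U))).op = 𝟙 _ from Subsingleton.elim _ _, Y.presheaf.map_id]
    rfl

omit hφ₁ hψ


/-- Let f : Y ⟶ X and j : Y' ⟶ Y be quasi-compact immersions. Let φ₁ : j^* N_{Y/X} ⟶ N_{Y'/X} and φ₂ :
N_{Y'/X} ⟶ N_{Y'/Y} be the canonical maps of conormal sheaves (the first induced by the identity of
X, the second by f, on local sections of the ideals). Then φ₂ is an epimorphism and the image of φ₁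
is the kernel of φ₂: the sequence j^* N_{Y/X} ⟶ N_{Y'/X} ⟶ N_{Y'/Y} ⟶ 0 is exact. (The published
statement allows arbitrary immersions; this row assumes them quasi-compact, the case in which the
conormal sheaves used here are those of the immersions.) -/
theorem result {Y' Y X : Scheme.{u}} (f : Y ⟶ X) [IsImmersion f] [QuasiCompact f]
    (j : Y' ⟶ Y) [IsImmersion j] [QuasiCompact j]
    (φ₁ : (Scheme.Modules.pullback j).obj (Omega.conormal f) ⟶ Omega.conormal (j ≫ f))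
    (hφ₁ : OmegaSh.IsConormalMap (j ≫ f) f (𝟙 X) j φ₁)
    (φ₂ : (Scheme.Modules.pullback (𝟙 Y')).obj (Omega.conormal (j ≫ f)) ⟶ Omega.conormal j)
    (hφ₂ : OmegaSh.IsConormalMap j (j ≫ f) f (𝟙 Y') φ₂) :
    Epi φ₂ ∧
      imageSubobject φ₁ =
        kernelSubobject ((Scheme.Modules.pullbackId Y').inv.app (Omega.conormal (j ≫ f)) ≫ φ₂) := by
  let p : Omega.conormal (j ≫ f) ⟶ Omega.conormal j :=
    (Scheme.Modules.pullbackId Y').inv.app (Omega.conormal (j ≫ f)) ≫ φ₂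
  have hp : ∀ (U : X.Opens) (t : Γ(ClSub.idealMod (j ≫ f).ker, U)) (s : Γ(ClSub.idealMod j.ker, f ⁻¹ᵁ U)),
      OmegaSh.idealSect j.ker (f ⁻¹ᵁ U) s = f.app U (OmegaSh.idealSect (j ≫ f).ker U t) →
        p.app (j ⁻¹ᵁ (f ⁻¹ᵁ U)) (OmegaSh.conormalSect (j ≫ f) U t) =
          OmegaSh.conormalSect j (f ⁻¹ᵁ U) s := by
    intro U t s h
    show φ₂.app (j ⁻¹ᵁ (f ⁻¹ᵁ U)) (((Scheme.Modules.pullbackId Y').inv.app _).app _ _) = _
    rw [OmegaAffLib.pullbackId_inv_app]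
    have h' := hφ₂.2 U t s h (j ⁻¹ᵁ (f ⁻¹ᵁ U)) le_rfl le_rfl
    exact ((hidM _ _).symm.trans (h'.trans (hidM _ _)))
  have w : φ₁ ≫ p = 0 := by
    refine CohCmpLib.hom_ext_puSec₂ _ _ fun U r => ?_
    have hr : (j ≫ f).app U (OmegaSh.idealSect f.ker U r) = 0 := by
      rw [Scheme.Hom.comp_app]
      show j.app _ (f.app U (OmegaSh.idealSect f.ker U r)) = 0
      rw [ConormalSecLib.app_idealSect, map_zero]
    let t := ConormalSecLib.lift (j ≫ f) U (OmegaSh.idealSect f.ker U r) hr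
    have h1 := hφ₁.2 U r t (ConormalSecLib.idealSect_lift (j ≫ f) U _ hr) (j ⁻¹ᵁ (f ⁻¹ᵁ U)) le_rfl le_rfl
    rw [hidM] at h1
    show p.app (j ⁻¹ᵁ (f ⁻¹ᵁ U)) (φ₁.app (j ⁻¹ᵁ (f ⁻¹ᵁ U)) (KFlatLib.puSec j (KFlatLib.puSec f r))) = _
    refine (congrArg (p.app _) (h1.trans (hidM _ _))).trans ?_
    refine (hp U t 0 ?_).trans ?_
    · rw [map_zero, ConormalSecLib.idealSect_lift, ConormalSecLib.app_idealSect]
    · exact map_zero _
  haveI : Epi p := by
    refine ⟨fun {M} a b hab => ConormalSecLib.conormal_hom_ext j fun W s => ?_⟩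
    let Ms : TopCat.Sheaf AddCommGrpCat Y' := ⟨M.presheaf, M.isSheaf⟩
    refine TopCat.Sheaf.eq_of_locally_eq' Ms
      (fun U : {U : X.Opens // ∃ (h : f ⁻¹ᵁ U ≤ W) (t : Γ(ClSub.idealMod (j ≫ f).ker, U)),
        f.app U (OmegaSh.idealSect (j ≫ f).ker U t) =
          Y.presheaf.map (homOfLE h).op (OmegaSh.idealSect j.ker W s)} => j ⁻¹ᵁ (f ⁻¹ᵁ U.1))
      (j ⁻¹ᵁ W) (fun U => homOfLE (j.preimage_mono U.2.1)) ?_ _ _ ?_
    · intro z hz
      obtain ⟨U, h, t, hzU, ht⟩ := exists_lift f j W s (j z) hz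
      exact Opens.mem_iSup.2 ⟨⟨U, h, t, ht⟩, hzU⟩
    · rintro ⟨U, h, t, ht⟩
      have key : ∀ k : Omega.conormal j ⟶ M,
          M.presheaf.map (homOfLE (j.preimage_mono h)).op (k.app (j ⁻¹ᵁ W) (OmegaSh.conormalSect j W s)) =
            (p ≫ k).app (j ⁻¹ᵁ (f ⁻¹ᵁ U)) (OmegaSh.conormalSect (j ≫ f) U t) := by
        intro k
        refine (congr($(k.mapPresheaf.naturality (homOfLE (j.preimage_mono h)).op)
          (OmegaSh.conormalSect j W s))).symm.trans (congrArg (k.app _) ?_)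
        refine Eq.trans ?_ (hp U t ((ClSub.idealMod j.ker).presheaf.map (homOfLE h).op s) ?_).symm
        · exact (OmegaSh.pullSect_map j (ClSub.idealMod j.ker) h s).symm
        · rw [ConormalSecLib.idealSect_map, ht]
      exact (key a).trans ((congr($(congrArg
        (fun k => Scheme.Modules.Hom.app k (j ⁻¹ᵁ (f ⁻¹ᵁ U))) hab) (OmegaSh.conormalSect (j ≫ f) U t))).trans
        (key b).symm)
  refine ⟨epi_of_epi ((Scheme.Modules.pullbackId Y').inv.app (Omega.conormal (j ≫ f))) φ₂, ?_⟩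
  have hS : (ShortComplex.mk φ₁ p w).Exact := by
    refine ShortComplex.exact_of_g_is_cokernel _ ?_
    refine CokernelCofork.IsColimit.ofπ' _ _ fun {M} ψ hψ => ?_
    refine ⟨desc f j φ₁ hφ₁ ψ hψ, ConormalSecLib.conormal_hom_ext (j ≫ f) fun U t => ?_⟩
    have hs : j.app (f ⁻¹ᵁ U) (f.app U (OmegaSh.idealSect (j ≫ f).ker U t)) = 0 := by
      refine Eq.trans ?_ (ConormalSecLib.app_idealSect (j ≫ f) U t)
      rw [Scheme.Hom.comp_app]
      rfl
    let s := ConormalSecLib.lift j (f ⁻¹ᵁ U) _ hs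
    refine (congrArg ((desc f j φ₁ hφ₁ ψ hψ).app _)
      (hp U t s (ConormalSecLib.idealSect_lift j _ _ hs))).trans ?_
    exact desc_app f j φ₁ hφ₁ ψ hψ U t s (ConormalSecLib.idealSect_lift j _ _ hs).symm
  haveI := (ShortComplex.exact_iff_epi_imageToKernel _).mp hS
  haveI : IsIso (imageToKernel φ₁ p w) := isIso_of_mono_of_epi _
  exact Subobject.eq_of_comm (asIso (imageToKernel φ₁ p w)) (imageToKernel_arrow _ _ w)

end Groth.Agent.S5974
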