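import Groth.Statements.S5802
import Mathlib
import Groth.Agent.QReg16Lib.Basic


-- import your own Groth.Agent.* helpers here

set_option autoImplicit false
universe u
open EGA41

namespace Groth.Agent.S5802

/-- First assertion: case M = A: in a ring A, every A-regular sequence (f_i)_{1 ≤ i ≤ c} is
quasi-regular, i.e. the canonical surjection (A/J)[T_1, ..., T_c] → gr_J(A), J = f_1 A + ... + f_c
A, is bijective. -/
theorem result (A : Type u) [CommRing A] (c : ℕ) (f : Fin c → A)
    (hf : RingTheory.Sequence.IsWeaklyRegular A (List.ofFn f)) : CAlgX.IsQuasiRegular f := by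
  intro n P hP he d
  have h := Groth.Agent.QReg16Lib.qr_of_nr' _
    (Groth.Agent.QReg16Lib.nr'_of_nr f ((FVLib.nr_iff f).2 hf))
  have hr : Set.range (fun i => f (Fin.rev i)) = Set.range f :=
    (Fin.rev_surjective).range_comp f
  have h2 := h n (MvPolynomial.rename Fin.rev P) hP.rename_isHomogeneous (by
    rw [hr, MvPolynomial.eval_rename]
    rwa [show (fun i => f (Fin.rev i)) ∘ Fin.rev = f from funext fun i => congrArg f (Fin.rev_rev i)])
    (d.mapDomain Fin.rev)
  rwa [hr, MvPolynomial.coeff_rename_mapDomain _ Fin.rev_injective] at h2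

end Groth.Agent.S5802
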