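import Groth.Statements.S8919
import Groth.Agent.S5974
import Groth.Agent.S13458
import Groth.Agent.S2103
import Groth.Agent.LciTransLib.Ring
import Groth.Agent.ConormalInjLib.Comp
import Groth.Agent.StabFreeDetLib.Canonical
import Groth.Agent.KRLib.ImmFlat
import Groth.Agent.OmegaAffLib.Rank

set_option autoImplicit false
universe u
open CategoryTheory CategoryTheory.Limits AlgebraicGeometry TopologicalSpace
open SDiv

namespace Groth.Agent.S8919

open CategoryTheory CategoryTheory.Limits AlgebraicGeometry TopologicalSpace Opposite TensorProduct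

/-- Every section of a pullback from a chart with surjective restriction is a pulled back section. -/
theorem exists_puSecLE_eq {Z X : Scheme.{u}} (g : Z ⟶ X) (M : X.Modules) [Coh.IsQCoh M] {U : X.Opens}
    (hU : IsAffineOpen U) {U' : Z.Opens} (hU' : IsAffineOpen U') (h : U' ≤ g ⁻¹ᵁ U)
    (hs : Function.Surjective (g.appLE U U' h)) (t : Γ(KFlatLib.pb g M, U')) :
    ∃ m, KFlatLib.puSecLE g M h m = t := by
  letI := (g.appLE U U' h).hom.toAlgebra
  letI : Module Γ(X, U) Γ(KFlatLib.pb g M, U') := Module.compHom _ (g.appLE U U' h).hom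
  haveI : IsScalarTower Γ(X, U) Γ(Z, U') Γ(KFlatLib.pb g M, U') :=
    IsScalarTower.of_algebraMap_smul fun a t => rfl
  let θ : Γ(M, U) →ₗ[Γ(X, U)] Γ(KFlatLib.pb g M, U') :=
    { toFun := KFlatLib.puSecLE g M h
      map_add' := map_add _
      map_smul' := fun r m => KFlatLib.puSecLE_smul g M h r m }
  have hθ : IsBaseChange Γ(Z, U') θ := KFlatLib.isBaseChange_puSec g M hU hU' h (fun _ => rfl) θ fun _ => rfl
  obtain ⟨w, rfl⟩ := hθ.equiv.surjective t
  induction w using TensorProduct.induction_on with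
  | zero => exact ⟨0, (map_zero _).trans (map_zero _).symm⟩
  | tmul b m =>
    obtain ⟨c, rfl⟩ := hs b
    exact ⟨c • m, by rw [IsBaseChange.equiv_tmul]; exact KFlatLib.puSecLE_smul g M h c m⟩
  | add a b ha hb =>
    obtain ⟨x, hx⟩ := ha
    obtain ⟨y, hy⟩ := hb
    exact ⟨x + y, by rw [map_add, map_add, hx, hy]⟩

/-- Sections of the conormal sheaf on a chart come from the ideal. -/
theorem exists_conormalSect_eq {Z Y : Scheme.{u}} (j : Z ⟶ Y) [IsImmersion j] [QuasiCompact j] {V : Y.Opens}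
    (hV : IsAffineOpen V) (hVc : V ≤ j.coborderRange) (m : Γ(Omega.conormal j, j ⁻¹ᵁ V)) :
    ∃ s, OmegaSh.conormalSect j V s = m := by
  obtain ⟨hU', hs⟩ := ConormalInjLib.chart_of_le j hV hVc
  haveI : Coh.IsQCoh (ClSub.idealMod j.ker) := SweepSix.ConormalSpec.isQCoh_idealMod _
  obtain ⟨s, hs'⟩ := exists_puSecLE_eq j (ClSub.idealMod j.ker) hV hU' le_rfl
    (by rw [ConormalInjLib.appLE_self]; exact hs) m
  refine ⟨s, Eq.trans ?_ hs'⟩
  rw [KFlatLib.puSecLE_apply, Subsingleton.elim (homOfLE (le_refl (j ⁻¹ᵁ V))).op (𝟙 _),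
    CategoryTheory.Functor.map_id]
  rfl

/-- Restriction of a chart with an `H₁`-regular sequence. -/
theorem chart_restrict {Z Y : Scheme.{u}} (i : Z ⟶ Y) {U₀ : Y.Opens} (hU₀ : IsAffineOpen U₀)
    (hcl : IsClosedImmersion (i ∣_ U₀)) {c : ℕ} (f : Fin c → Γ(Y, U₀)) (hf : CAlgX.IsH1Regular f)
    (hker : RingHom.ker (i.app U₀).hom = Ideal.span (Set.range f)) {U : Y.Opens} (hU : IsAffineOpen U)
    (hle : U ≤ U₀) :
    IsAffineOpen (i ⁻¹ᵁ U) ∧ Function.Surjective (i.app U) ∧ ∃ g : Fin c → Γ(Y, U),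
      CAlgX.IsH1Regular g ∧ RingHom.ker (i.app U).hom = Ideal.span (Set.range g) := by
  have haff : IsAffineOpen (i ⁻¹ᵁ U₀) := by
    haveI : IsAffine (U₀ : Scheme.{u}) := hU₀
    haveI := hcl
    exact isAffine_of_isAffineHom (i ∣_ U₀)
  have hsurj : Function.Surjective (i.app U₀) := by
    haveI := hcl
    haveI : IsAffine (U₀ : Scheme.{u}) := hU₀
    have h := (i ∣_ U₀).app_surjective ⊤ (isAffineOpen_top _)
    rw [morphismRestrict_app] at h
    have e : U₀.ι ''ᵁ ⊤ = U₀ := U₀.ι_image_top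
    have h' : Function.Surjective (i.app (U₀.ι ''ᵁ ⊤)) := by
      intro y
      obtain ⟨x, hx⟩ := h (Z.presheaf.map (eqToHom (image_morphismRestrict_preimage i U₀ ⊤)).op y)
      exact ⟨x, (ConcreteCategory.bijective_of_isIso
        (Z.presheaf.map (eqToHom (image_morphismRestrict_preimage i U₀ ⊤)).op)).1 hx⟩
    rw [Scheme.Hom.app_eq_appLE] at h' ⊢
    exact (KRLib.surjective_appLE_congr i _ _ e (by rw [e])).1 h'
  have hsq : IsPullback (𝟙 Z) i i (𝟙 Y) := IsPullback.of_horiz_isIso ⟨by simp⟩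
  obtain ⟨h1, h2, h3⟩ := KRLib.baseChange_data hsq hU₀ haff hsurj hU (show U ≤ (𝟙 Y : Y ⟶ Y) ⁻¹ᵁ U₀ from hle)
  letI := ((𝟙 Y : Y ⟶ Y).appLE U₀ U hle).hom.toAlgebra
  haveI : Module.Flat Γ(Y, U₀) Γ(Y, U) := (𝟙 Y : Y ⟶ Y).flat_appLE hU₀ hU hle
  refine ⟨h1, h2, fun k => algebraMap Γ(Y, U₀) Γ(Y, U) (f k), RegImmKindLib.isH1Regular_map hf, ?_⟩
  rw [h3, hker, RegImmKindLib.range_map]
  rfl

/-- An `H₁`-regular chart around every point inside a given open. -/
theorem exists_h1_chart {Z Y : Scheme.{u}} (i : Z ⟶ Y) (z : Z) (hi : RegImm.IsRegularImmersionAt RegImm.Kind.h1 i z) :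
    ∃ (U₀ : Y.Opens), i z ∈ U₀ ∧ ∀ U : Y.Opens, IsAffineOpen U → U ≤ U₀ →
      IsAffineOpen (i ⁻¹ᵁ U) ∧ Function.Surjective (i.app U) ∧ ∃ (c : ℕ) (g : Fin c → Γ(Y, U)),
        CAlgX.IsH1Regular g ∧ RingHom.ker (i.app U).hom = Ideal.span (Set.range g) := by
  obtain ⟨⟨U₀, hU₀⟩, hz, hcl, rs, hrs, hker⟩ := hi
  refine ⟨U₀, hz, fun U hU hle => ?_⟩
  have hk : RingHom.ker (i.app U₀).hom = Ideal.span (Set.range rs.get) := by
    rw [hker, Ideal.ofList]
    congr 1
    ext x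
    simp [List.mem_iff_get]
  obtain ⟨h1, h2, g, hg, hg'⟩ := chart_restrict i hU₀ hcl rs.get hrs hk hU hle
  exact ⟨h1, h2, _, g, hg, hg'⟩

/-- The conormal sheaf is free near a point of `H₁`-regularity. -/
theorem exists_free_conormal {Z Y : Scheme.{u}} (i : Z ⟶ Y) [IsImmersion i] [QuasiCompact i] (z : Z)
    (hi : RegImm.IsRegularImmersionAt RegImm.Kind.h1 i z) :
    ∃ (O : Z.Opens) (c : ℕ), z ∈ O ∧ Nonempty ((Omega.conormal i).restrict O.ι ≅ FlatMod.freeMod (↑O) c) := by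
  obtain ⟨U₀, hz₀, hU₀⟩ := exists_h1_chart i z hi
  obtain ⟨V, hV, hzV, hVU, hVc⟩ := ConormalInjLib.exists_chart i z U₀ hz₀
  obtain ⟨haff, hs, c, g, hg, hker⟩ := hU₀ V hV hVU
  haveI : Coh.IsQCoh (ClSub.idealMod i.ker) := SweepSix.ConormalSpec.isQCoh_idealMod _
  haveI : Coh.IsQCoh (Omega.conormal i) := KFlatLib.isQCoh_pullback i (ClSub.idealMod i.ker)
  have hgk : ∀ k, i.app V (g k) = 0 := fun k => RingHom.mem_ker.1 (hker.ge (Ideal.subset_span ⟨k, rfl⟩))
  let v : Fin c → Γ(Omega.conormal i, i ⁻¹ᵁ V) := fun k =>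
    OmegaSh.conormalSect i V (ConormalSecLib.lift i V (g k) (hgk k))
  let ψ : (Fin c → Γ(Z, i ⁻¹ᵁ V)) →ₗ[Γ(Z, i ⁻¹ᵁ V)] Γ(Omega.conormal i, i ⁻¹ᵁ V) :=
    Fintype.linearCombination Γ(Z, i ⁻¹ᵁ V) v
  have hψ : ∀ a : Fin c → Γ(Y, V), ψ (fun k => i.app V (a k)) =
      OmegaSh.conormalSect i V (∑ k, a k • ConormalSecLib.lift i V (g k) (hgk k)) := by
    intro a
    rw [map_sum, Fintype.linearCombination_apply]
    exact Finset.sum_congr rfl fun k _ => (OmegaSh.pullSect_smul i _ V (a k) _).symm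
  have hid : ∀ a : Fin c → Γ(Y, V),
      OmegaSh.idealSect i.ker V (∑ k, a k • ConormalSecLib.lift i V (g k) (hgk k)) = ∑ k, a k * g k := by
    intro a
    rw [map_sum]
    exact Finset.sum_congr rfl fun k _ => by rw [ConormalSecLib.idealSect_smul, ConormalSecLib.idealSect_lift]
  have hbij : Function.Bijective ψ := by
    refine ⟨(injective_iff_map_eq_zero ψ).mpr fun b hb => ?_, fun m => ?_⟩
    · choose a ha using fun k => hs (b k)
      obtain rfl : b = fun k => i.app V (a k) := funext fun k => (ha k).symm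
      rw [hψ] at hb
      have h1 := ConormalInjLib.mem_ker_sq_of_conormalSect_eq_zero i hV hVc _ hb
      rw [hid, hker] at h1
      have h2 : a ∈ LinearMap.ker (StabFreeDetLib.classMap (Ideal.span (Set.range g)) g
          fun k => Ideal.subset_span ⟨k, rfl⟩) := by
        rw [LinearMap.mem_ker, StabFreeDetLib.classMap, LinearMap.comp_apply, Ideal.toCotangent_eq_zero]
        simpa [Fintype.linearCombination_apply] using h1
      rw [StabFreeDetLib.ker_classMap _ g rfl _ (Groth.Agent.S2103.result g hg), Submodule.mem_pi] at h2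
      exact funext fun k => RingHom.mem_ker.1 (hker.ge (h2 k trivial))
    · obtain ⟨s, rfl⟩ := exists_conormalSect_eq i hV hVc m
      obtain ⟨a, ha⟩ := (Ideal.mem_span_range_iff_exists_fun).1
        (hker.le (RingHom.mem_ker.2 (ConormalSecLib.app_idealSect i V s)))
      refine ⟨fun k => i.app V (a k), (hψ a).trans (congrArg _ ?_)⟩
      exact ConormalSecLib.idealSect_injective i V ((hid a).trans ha)
  obtain ⟨e⟩ := OmegaAffLib.nonempty_restrict_iso_freeMod haff (Omega.conormal i)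
    (Module.Basis.ofEquivFun (LinearEquiv.ofBijective ψ hbij).symm)
  exact ⟨i ⁻¹ᵁ V, c, hzV, ⟨e⟩⟩

/-- The conormal sheaf of an `H₁`-regular immersion is finite locally free. -/
theorem isFinLocFree_conormal {Z Y : Scheme.{u}} (i : Z ⟶ Y) [IsImmersion i] [QuasiCompact i]
    (hi : RegImm.IsRegularImmersion RegImm.Kind.h1 i) : FlatMod.IsFinLocFree (Omega.conormal i) :=
  fun z => exists_free_conormal i z (hi.2 z)

/-- The first map is injective on small charts around a point of `H₁`-regularity. -/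
theorem injective_chart {Z Y X : Scheme.{u}} (i : Z ⟶ Y) (j : Y ⟶ X) [IsImmersion i] [IsImmersion j]
    [QuasiCompact i] [QuasiCompact j]
    {a : (Scheme.Modules.pullback i).obj (Omega.conormal j) ⟶ Omega.conormal (i ≫ j)}
    (ha : OmegaSh.IsConormalMap (i ≫ j) j (𝟙 X) i a)
    (z : Z) (hi : RegImm.IsRegularImmersionAt RegImm.Kind.h1 i z) (O' : Z.Opens) (hzO' : z ∈ O') :
    ∃ V : Z.Opens, IsAffineOpen V ∧ z ∈ V ∧ V ≤ O' ∧ Function.Injective (a.app V) := by
  haveI : Coh.IsQCoh (ClSub.idealMod j.ker) := SweepSix.ConormalSpec.isQCoh_idealMod _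
  haveI : Coh.IsQCoh (ClSub.idealMod (i ≫ j).ker) := SweepSix.ConormalSpec.isQCoh_idealMod _
  haveI : Coh.IsQCoh (Omega.conormal j) := KFlatLib.isQCoh_pullback j (ClSub.idealMod j.ker)
  haveI : Coh.IsQCoh (Omega.conormal (i ≫ j)) := KFlatLib.isQCoh_pullback (i ≫ j) (ClSub.idealMod (i ≫ j).ker)
  haveI : Coh.IsQCoh ((Scheme.Modules.pullback i).obj (Omega.conormal j)) :=
    KFlatLib.isQCoh_pullback i (Omega.conormal j)
  obtain ⟨U₀, hz₀, hU₀⟩ := exists_h1_chart i z hi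
  obtain ⟨O, hO, hOU⟩ := j.isEmbedding.isInducing.isOpen_iff.1 U₀.2
  obtain ⟨O₂, hO₂, hOU₂⟩ := (i ≫ j).isEmbedding.isInducing.isOpen_iff.1 O'.2
  have hzO : (i ≫ j) z ∈ ((⟨O, hO⟩ : X.Opens) ⊓ ⟨O₂, hO₂⟩) ⊓ j.coborderRange := by
    refine ⟨⟨hOU.symm.subset hz₀, hOU₂.symm.subset hzO'⟩, ?_⟩
    exact subset_coborder ⟨i z, rfl⟩
  obtain ⟨W, hW, hzW, hWO, hWc⟩ := ConormalInjLib.exists_chart (i ≫ j) z _ hzO
  have hWj : W ≤ j.coborderRange := hWO.trans inf_le_right
  obtain ⟨hUY, hsj⟩ := ConormalInjLib.chart_of_le j hW hWj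
  have hle : j ⁻¹ᵁ W ≤ U₀ := fun y hy => hOU.subset (hWO hy).1.1
  obtain ⟨hUZ, hsi, c, g, hg, hker⟩ := hU₀ _ hUY hle
  refine ⟨(i ≫ j) ⁻¹ᵁ W, hUZ, hzW, fun y hy => hOU₂.subset (hWO hy).1.2, ?_⟩
  refine (injective_iff_map_eq_zero (a.app (i ⁻¹ᵁ (j ⁻¹ᵁ W))).hom).mpr fun t ht => ?_
  obtain ⟨m, rfl⟩ := exists_puSecLE_eq i (Omega.conormal j) hUY hUZ le_rfl
    (by rw [ConormalInjLib.appLE_self]; exact hsi) t
  obtain ⟨s, rfl⟩ := exists_conormalSect_eq j hW hWj m
  let gen : Γ(ClSub.idealMod j.ker, W) →+ Γ(KFlatLib.pb i (Omega.conormal j), i ⁻¹ᵁ (j ⁻¹ᵁ W)) :=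
    (KFlatLib.puSecLE i (Omega.conormal j) le_rfl).comp (OmegaSh.conormalSect j W).hom
  let π := (j.app W).hom
  let J := RingHom.ker ((i ≫ j).app W).hom
  let x := OmegaSh.idealSect j.ker W s
  have hx : (i ≫ j).app W x = 0 :=
    (congrArg (i.app _) (ConormalSecLib.app_idealSect j W s)).trans (map_zero _)
  let s' := ConormalSecLib.lift (i ≫ j) W x hx
  have h1 := ha.2 W s s' (ConormalSecLib.idealSect_lift (i ≫ j) W x hx) (i ⁻¹ᵁ (j ⁻¹ᵁ W)) le_rfl le_rfl
  have h2 : OmegaSh.conormalSect (i ≫ j) W s' = 0 := by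
    have h3 : KFlatLib.puSecLE i (Omega.conormal j) (le_refl (i ⁻¹ᵁ (j ⁻¹ᵁ W))) (OmegaSh.conormalSect j W s) =
        OmegaSh.pullSect i (Omega.conormal j) (j ⁻¹ᵁ W) (OmegaSh.conormalSect j W s) := by
      rw [KFlatLib.puSecLE_apply]
      exact ConormalSeqLib.hidM _ _
    exact (ConormalSeqLib.hidM _ _).symm.trans
      (h1.symm.trans ((ConormalSeqLib.hidM _ _).trans ((congrArg (a.app _) h3).symm.trans ht)))
  have h4 := ConormalInjLib.mem_ker_sq_of_conormalSect_eq_zero (i ≫ j) hW hWc s' h2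
  rw [ConormalSecLib.idealSect_lift] at h4
  choose f hf using fun k => hsj (g k)
  have hJ : J = Ideal.span (Set.range f) ⊔ RingHom.ker π := by
    refine Eq.trans ?_ (Ideal.comap_map_of_surjective π hsj (Ideal.span (Set.range f)))
    rw [Ideal.map_span, ← Set.range_comp, show (⇑π ∘ f) = g from funext hf, ← hker, RingHom.comap_ker]
    rfl
  have hreg : CAlgX.IsH1Regular fun k => π (f k) := by
    rw [show (fun k => π (f k)) = g from funext hf]
    exact hg
  have h5 : x ∈ J * RingHom.ker π := by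
    rw [hJ]
    refine LciTransLib.sq_inf_le π hsj f hreg ⟨?_, ConormalSecLib.app_idealSect j W s⟩
    rw [← hJ]
    exact h4
  have main : ∀ y ∈ J * RingHom.ker π, ∃ s₀, OmegaSh.idealSect j.ker W s₀ = y ∧ gen s₀ = 0 := by
    intro y hy
    refine Submodule.mul_induction_on hy (fun r hr k hk => ?_) fun y y' ⟨s₀, h, h'⟩ ⟨s₁, k, k'⟩ =>
      ⟨s₀ + s₁, by rw [map_add, h, k], by rw [map_add, h', k', add_zero]⟩
    refine ⟨r • ConormalSecLib.lift j W k hk, ?_, ?_⟩
    · exact (ConormalSecLib.idealSect_smul j W r _).trans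
        (congrArg (r * ·) (ConormalSecLib.idealSect_lift j W k hk))
    · refine (congrArg (KFlatLib.puSecLE i (Omega.conormal j) le_rfl) (OmegaSh.pullSect_smul j _ W r _)).trans ?_
      refine (KFlatLib.puSecLE_smul i _ _ _ _).trans ?_
      rw [show (i.appLE (j ⁻¹ᵁ W) (i ⁻¹ᵁ (j ⁻¹ᵁ W)) le_rfl).hom (j.app W r) = 0 from by
        rw [ConormalInjLib.appLE_self]; exact hr]
      exact zero_smul _ _
  obtain ⟨s₀, hs₀, hgen⟩ := main x h5
  rw [ConormalSecLib.idealSect_injective j W hs₀] at hgen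
  exact hgen

/-- The first map is injective. -/
theorem mono_first {Z Y X : Scheme.{u}} (i : Z ⟶ Y) (j : Y ⟶ X) [IsImmersion i] [IsImmersion j]
    [QuasiCompact i] [QuasiCompact j]
    {a : (Scheme.Modules.pullback i).obj (Omega.conormal j) ⟶ Omega.conormal (i ≫ j)}
    (ha : OmegaSh.IsConormalMap (i ≫ j) j (𝟙 X) i a)
    (hi : RegImm.IsRegularImmersion RegImm.Kind.h1 i) : Mono a := by
  haveI : Coh.IsQCoh (ClSub.idealMod j.ker) := SweepSix.ConormalSpec.isQCoh_idealMod _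
  haveI : Coh.IsQCoh (ClSub.idealMod (i ≫ j).ker) := SweepSix.ConormalSpec.isQCoh_idealMod _
  haveI : Coh.IsQCoh (Omega.conormal j) := KFlatLib.isQCoh_pullback j (ClSub.idealMod j.ker)
  haveI : Coh.IsQCoh (Omega.conormal (i ≫ j)) := KFlatLib.isQCoh_pullback (i ≫ j) (ClSub.idealMod (i ≫ j).ker)
  haveI : Coh.IsQCoh ((Scheme.Modules.pullback i).obj (Omega.conormal j)) :=
    KFlatLib.isQCoh_pullback i (Omega.conormal j)
  refine Groth.Agent.S13458.mono_of_injective_charts a fun z => ?_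
  obtain ⟨V, hV, hz, -, h⟩ := injective_chart i j ha z (hi.2 z) ⊤ trivial
  exact ⟨V, hV, hz, h⟩


/-- Let i : Z ⟶ Y and j : Y ⟶ X be quasi-compact immersions of schemes with i an H_1-regular immersion,
and let a : i^*C_{Y/X} ⟶ C_{Z/X} and b : C_{Z/X} ⟶ C_{Z/Y} be the canonical maps of conormal
sheaves. Then the canonical sequence 0 → i^*C_{Y/X} → C_{Z/X} → C_{Z/Y} → 0 is exact and locally
split; here local splitting is recorded through C_{Z/Y} being finite locally free. The published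
statement allows arbitrary immersions; this row takes both immersions quasi-compact, the case in
which the conormal sheaves used here are those of the immersions. -/
theorem result {Z Y X : Scheme.{u}} (i : Z ⟶ Y) (j : Y ⟶ X) [IsImmersion i] [IsImmersion j]
    [QuasiCompact i] [QuasiCompact j]
    (a : (Scheme.Modules.pullback i).obj (Omega.conormal j) ⟶ Omega.conormal (i ≫ j))
    (ha : OmegaSh.IsConormalMap (i ≫ j) j (𝟙 X) i a)
    (b : (Scheme.Modules.pullback (𝟙 Z)).obj (Omega.conormal (i ≫ j)) ⟶ Omega.conormal i)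
    (hb : OmegaSh.IsConormalMap i (i ≫ j) j (𝟙 Z) b)
    (hi : RegImm.IsRegularImmersion RegImm.Kind.h1 i) :
    a ≫ ((Scheme.Modules.pullbackId Z).inv.app (Omega.conormal (i ≫ j)) ≫ b) = 0 ∧
      (∀ w : a ≫ ((Scheme.Modules.pullbackId Z).inv.app (Omega.conormal (i ≫ j)) ≫ b) = 0, (ShortComplex.mk a ((Scheme.Modules.pullbackId Z).inv.app (Omega.conormal (i ≫ j)) ≫ b) w).ShortExact) ∧
      FlatMod.IsFinLocFree (Omega.conormal i) := by
  obtain ⟨hepi, him⟩ := Groth.Agent.S5974.result j i a ha b hb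
  haveI := hepi
  have w : a ≫ ((Scheme.Modules.pullbackId Z).inv.app (Omega.conormal (i ≫ j)) ≫ b) = 0 := by
    rw [← imageSubobject_arrow_comp a, Category.assoc]
    have h : (imageSubobject a).arrow ≫ ((Scheme.Modules.pullbackId Z).inv.app (Omega.conormal (i ≫ j)) ≫ b) = 0 := by
      rw [him, kernelSubobject_arrow_comp]
    rw [h, comp_zero]
  haveI := mono_first i j ha hi
  haveI : Epi ((Scheme.Modules.pullbackId Z).inv.app (Omega.conormal (i ≫ j)) ≫ b) := epi_comp _ _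
  refine ⟨w, fun w' => ?_, isFinLocFree_conormal i hi⟩
  exact { exact := (ShortComplex.exact_iff_image_eq_kernel _).2 him }

end Groth.Agent.S8919
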