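import Groth.Statements.S9372
import Groth.Agent.S8919
import Groth.Agent.LciTransLib.Ring
import Groth.Agent.KRLib.ImmFlat
import Groth.Agent.OmegaAffLib.StalkCrit

set_option autoImplicit false
universe u
open OmegaSh

namespace Groth.Agent.S9372

open CategoryTheory CategoryTheory.Limits AlgebraicGeometry TopologicalSpace Opposite TensorProduct

section Chart

variable {Z Y Z' Y' : Scheme.{u}} {i : Z ⟶ Y} {j : Y ⟶ Y'} [IsImmersion j] [QuasiCompact j] {i' : Z ⟶ Z'}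
  [IsImmersion i'] [QuasiCompact i'] {m : Z' ⟶ Y'}

theorem lift_add {V : Z'.Opens} (x y : Γ(Z', V)) (hx : i'.app V x = 0) (hy : i'.app V y = 0)
    (hxy : i'.app V (x + y) = 0) :
    OmegaSh.conormalSect i' V (ConormalSecLib.lift i' V (x + y) hxy) =
      OmegaSh.conormalSect i' V (ConormalSecLib.lift i' V x hx) +
        OmegaSh.conormalSect i' V (ConormalSecLib.lift i' V y hy) := by
  rw [← map_add]
  refine congrArg _ (ConormalSecLib.idealSect_injective i' V ?_)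
  rw [map_add, ConormalSecLib.idealSect_lift, ConormalSecLib.idealSect_lift, ConormalSecLib.idealSect_lift]

theorem conormalSect_lift_zero {V : Z'.Opens} (x : Γ(Z', V)) (hx : i'.app V x = 0) (h0 : x = 0) :
    OmegaSh.conormalSect i' V (ConormalSecLib.lift i' V x hx) = 0 := by
  subst h0
  rw [show ConormalSecLib.lift i' V 0 hx = 0 from ConormalSecLib.idealSect_injective i' V
    ((ConormalSecLib.idealSect_lift i' V 0 hx).trans (map_zero _).symm), map_zero]

/-- The map of conormal sheaves of a cartesian square on a chart. -/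
theorem chart {ψ₁ : (Scheme.Modules.pullback i).obj (Omega.conormal j) ⟶ Omega.conormal i'}
    (hψ₁ : OmegaSh.IsConormalMap i' j m i ψ₁)
    {VY : Y'.Opens} (hVY : IsAffineOpen VY) (hVYc : VY ≤ j.coborderRange) {V : Z'.Opens} (hV : IsAffineOpen V)
    (hcb : V ≤ i'.coborderRange) (e : V ≤ m ⁻¹ᵁ VY)
    (eU : i' ⁻¹ᵁ V ≤ i ⁻¹ᵁ (j ⁻¹ᵁ VY))
    [Algebra Γ(Y', VY) Γ(Y, j ⁻¹ᵁ VY)] [Algebra Γ(Y', VY) Γ(Z', V)] [Algebra Γ(Z', V) Γ(Z, i' ⁻¹ᵁ V)]
    [Algebra Γ(Y', VY) Γ(Z, i' ⁻¹ᵁ V)] [IsScalarTower Γ(Y', VY) Γ(Z', V) Γ(Z, i' ⁻¹ᵁ V)]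
    (ha1 : algebraMap Γ(Y', VY) Γ(Y, j ⁻¹ᵁ VY) = (j.app VY).hom)
    (ha2 : algebraMap Γ(Y', VY) Γ(Z', V) = (m.appLE VY V e).hom)
    (ha3 : algebraMap Γ(Z', V) Γ(Z, i' ⁻¹ᵁ V) = (i'.app V).hom)
    (hker : RingHom.ker (i'.app V).hom =
      (RingHom.ker (algebraMap Γ(Y', VY) Γ(Y, j ⁻¹ᵁ VY))).map (algebraMap Γ(Y', VY) Γ(Z', V))) :
    Function.Surjective (ψ₁.app (i' ⁻¹ᵁ V)) ∧
      (Module.Flat Γ(Y', VY) Γ(Z', V) → Function.Injective (ψ₁.app (i' ⁻¹ᵁ V))) := by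
  let I := RingHom.ker (algebraMap Γ(Y', VY) Γ(Y, j ⁻¹ᵁ VY))
  let N := KFlatLib.pb i (Omega.conormal j)
  have hyI : ∀ x : I, j.app VY x.1 = 0 := fun x => (congr($ha1 x.1)).symm.trans (RingHom.mem_ker.1 x.2)
  have halgB : ∀ a, algebraMap Γ(Y', VY) Γ(Z, i' ⁻¹ᵁ V) a = i.appLE (j ⁻¹ᵁ VY) (i' ⁻¹ᵁ V) eU (j.app VY a) := by
    intro a
    rw [IsScalarTower.algebraMap_apply Γ(Y', VY) Γ(Z', V) Γ(Z, i' ⁻¹ᵁ V), ha2, ha3,
      ← ConormalInjLib.appLE_self i' V, ← ConormalInjLib.appLE_self j VY, ← ConcreteCategory.comp_apply,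
      ← ConcreteCategory.comp_apply, Scheme.Hom.appLE_comp_appLE, Scheme.Hom.appLE_comp_appLE]
    exact congr($(OmegaSh.appLE_congr_hom hψ₁.1.symm _ _) a)
  letI : Module Γ(Y', VY) Γ(N, i' ⁻¹ᵁ V) := Module.compHom _ (algebraMap Γ(Y', VY) Γ(Z, i' ⁻¹ᵁ V))
  haveI : IsScalarTower Γ(Y', VY) Γ(Z, i' ⁻¹ᵁ V) Γ(N, i' ⁻¹ᵁ V) :=
    IsScalarTower.of_algebraMap_smul fun a t => rfl
  let gen : I → Γ(Omega.conormal j, j ⁻¹ᵁ VY) := fun x =>
    OmegaSh.conormalSect j VY (ConormalSecLib.lift j VY x.1 (hyI x))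
  let τ : I →ₗ[Γ(Y', VY)] Γ(N, i' ⁻¹ᵁ V) :=
    { toFun := fun x => KFlatLib.puSecLE i (Omega.conormal j) eU (gen x)
      map_add' := fun x y => by
        rw [← map_add, ← map_add]
        refine congrArg _ (congrArg _ (ConormalSecLib.idealSect_injective j VY ?_))
        rw [map_add, ConormalSecLib.idealSect_lift, ConormalSecLib.idealSect_lift, ConormalSecLib.idealSect_lift]
        rfl
      map_smul' := fun a x => by
        have h1 : gen (a • x) = j.app VY a • gen x := by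
          refine (congrArg (OmegaSh.conormalSect j VY) (ConormalSecLib.idealSect_injective j VY ?_)).trans
            (OmegaSh.pullSect_smul j _ VY a _)
          rw [ConormalSecLib.idealSect_smul, ConormalSecLib.idealSect_lift, ConormalSecLib.idealSect_lift]
          rfl
        show KFlatLib.puSecLE i _ eU (gen (a • x)) = algebraMap Γ(Y', VY) Γ(Z, i' ⁻¹ᵁ V) a • _
        rw [h1, KFlatLib.puSecLE_smul, halgB] }
  let T := τ.liftBaseChange Γ(Z, i' ⁻¹ᵁ V)
  have hTs : Function.Surjective T := by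
    letI := (i.appLE (j ⁻¹ᵁ VY) (i' ⁻¹ᵁ V) eU).hom.toAlgebra
    letI : Module Γ(Y, j ⁻¹ᵁ VY) Γ(N, i' ⁻¹ᵁ V) := Module.compHom _ (i.appLE (j ⁻¹ᵁ VY) (i' ⁻¹ᵁ V) eU).hom
    haveI : IsScalarTower Γ(Y, j ⁻¹ᵁ VY) Γ(Z, i' ⁻¹ᵁ V) Γ(N, i' ⁻¹ᵁ V) :=
      IsScalarTower.of_algebraMap_smul fun a t => rfl
    haveI : Coh.IsQCoh (ClSub.idealMod j.ker) := SweepSix.ConormalSpec.isQCoh_idealMod _
    haveI : Coh.IsQCoh (Omega.conormal j) := KFlatLib.isQCoh_pullback j (ClSub.idealMod j.ker)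
    let θ : Γ(Omega.conormal j, j ⁻¹ᵁ VY) →ₗ[Γ(Y, j ⁻¹ᵁ VY)] Γ(N, i' ⁻¹ᵁ V) :=
      { toFun := KFlatLib.puSecLE i (Omega.conormal j) eU
        map_add' := map_add _
        map_smul' := fun r m => KFlatLib.puSecLE_smul i _ eU r m }
    have hθ : IsBaseChange Γ(Z, i' ⁻¹ᵁ V) θ :=
      KFlatLib.isBaseChange_puSec i (Omega.conormal j) (ConormalInjLib.chart_of_le j hVY hVYc).1 (ConormalInjLib.chart_of_le i' hV hcb).1 eU (fun _ => rfl) θ
        fun _ => rfl
    intro t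
    obtain ⟨w, rfl⟩ := hθ.equiv.surjective t
    induction w using TensorProduct.induction_on with
    | zero => exact ⟨0, (map_zero T).trans (map_zero _).symm⟩
    | tmul b c =>
      obtain ⟨s, rfl⟩ := Groth.Agent.S8919.exists_conormalSect_eq j hVY hVYc c
      refine ⟨b ⊗ₜ ⟨OmegaSh.idealSect j.ker VY s,
        (congr($ha1 _)).trans (ConormalSecLib.app_idealSect j VY s)⟩, ?_⟩
      rw [LinearMap.liftBaseChange_tmul, IsBaseChange.equiv_tmul]
      refine congrArg (fun u => b • KFlatLib.puSecLE i (Omega.conormal j) eU u) ?_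
      exact congrArg _ (ConormalSecLib.idealSect_injective j VY (ConormalSecLib.idealSect_lift j VY _ _))
    | add a b ha hb =>
      obtain ⟨x, hx⟩ := ha
      obtain ⟨y, hy⟩ := hb
      exact ⟨x + y, by rw [map_add, map_add, hx, hy]⟩
  let p := (IsScalarTower.toAlgHom Γ(Y', VY) Γ(Z', V) Γ(Z, i' ⁻¹ᵁ V)).toLinearMap.rTensor I
  have hkill : ∀ z, i'.app V (LciTransLib.mul' Γ(Z', V) I z) = 0 := by
    intro z
    induction z using TensorProduct.induction_on with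
    | zero => rw [map_zero, map_zero]
    | tmul c x =>
      rw [LciTransLib.mul'_tmul, Algebra.smul_def, map_mul, ← congr($ha3 (algebraMap _ _ x.1)),
        ← IsScalarTower.algebraMap_apply, halgB, hyI, map_zero, zero_mul]
    | add a b ha hb => rw [map_add, map_add, ha, hb, add_zero]
  have hψT : ∀ z, ψ₁.app (i' ⁻¹ᵁ V) (T (p z)) =
      OmegaSh.conormalSect i' V (ConormalSecLib.lift i' V (LciTransLib.mul' Γ(Z', V) I z) (hkill z)) := by
    intro z
    induction z using TensorProduct.induction_on with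
    | zero =>
      rw [map_zero, map_zero, map_zero]
      exact (conormalSect_lift_zero _ _ (map_zero _)).symm
    | tmul c x =>
      let s' := ConormalSecLib.lift j VY x.1 (hyI x)
      have h0 : i'.app (m ⁻¹ᵁ VY) (m.app VY x.1) = 0 := by
        have key : ∀ (q : Z ⟶ Y'), q = i' ≫ m → q.app VY x.1 = 0 → i'.app (m ⁻¹ᵁ VY) (m.app VY x.1) = 0 := by
          rintro _ rfl h
          exact h
        exact key (i ≫ j) hψ₁.1 ((congrArg (i.app _) (hyI x)).trans (map_zero _))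
      let s₁ := ConormalSecLib.lift i' (m ⁻¹ᵁ VY) _ h0
      have h2 := hψ₁.2 VY s' s₁
        ((ConormalSecLib.idealSect_lift i' _ _ h0).trans
          (congrArg (m.app VY) (ConormalSecLib.idealSect_lift j _ x.1 (hyI x))).symm)
        (i' ⁻¹ᵁ V) eU (i'.preimage_mono e)
      have hTp : T (p (c ⊗ₜ x)) = i'.app V c • KFlatLib.puSecLE i (Omega.conormal j) eU (gen x) := by
        refine (LinearMap.liftBaseChange_tmul Γ(Z, i' ⁻¹ᵁ V) τ _ x).trans ?_
        exact congrArg (· • τ x) congr($ha3 c)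
      rw [hTp]
      refine (Scheme.Modules.Hom.app_smul ψ₁ _ _).trans ?_
      have h3 : ψ₁.app (i' ⁻¹ᵁ V) (KFlatLib.puSecLE i (Omega.conormal j) eU (gen x)) =
          OmegaSh.conormalSect i' V ((ClSub.idealMod i'.ker).presheaf.map (homOfLE e).op s₁) :=
        (QCohLib.app_map ψ₁ (homOfLE eU) _).trans
          (h2.trans (OmegaSh.pullSect_map i' (ClSub.idealMod i'.ker) e s₁).symm)
      rw [h3]
      refine (OmegaSh.pullSect_smul i' _ V c _).symm.trans (congrArg (OmegaSh.conormalSect i' V)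
        (ConormalSecLib.idealSect_injective i' V ?_))
      rw [ConormalSecLib.idealSect_lift, LciTransLib.mul'_tmul, ConormalSecLib.idealSect_smul,
        ConormalSecLib.idealSect_map, ConormalSecLib.idealSect_lift, Algebra.smul_def, congr($ha2 x.1), mul_comm]
      rfl
    | add a b ha hb =>
      rw [map_add, map_add, map_add, ha, hb]
      have h4 : i'.app V (LciTransLib.mul' Γ(Z', V) I a + LciTransLib.mul' Γ(Z', V) I b) = 0 := by
        rw [← map_add]; exact hkill (a + b)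
      refine (lift_add _ _ _ _ h4).symm.trans (congrArg _ (ConormalSecLib.idealSect_injective i' V ?_))
      rw [ConormalSecLib.idealSect_lift, ConormalSecLib.idealSect_lift, map_add]
  haveI : Coh.IsQCoh (ClSub.idealMod i'.ker) := SweepSix.ConormalSpec.isQCoh_idealMod _
  have hrange : ∀ y ∈ I.map (algebraMap Γ(Y', VY) Γ(Z', V)), ∃ w, LciTransLib.mul' Γ(Z', V) I w = y := by
    intro y hy
    induction hy using Submodule.span_induction with
    | mem y hy =>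
      obtain ⟨a, ha, rfl⟩ := hy
      exact ⟨1 ⊗ₜ ⟨a, ha⟩, by simp [Algebra.algebraMap_eq_smul_one]⟩
    | zero => exact ⟨0, map_zero _⟩
    | add y y' _ _ h h' =>
      obtain ⟨w, rfl⟩ := h
      obtain ⟨w', rfl⟩ := h'
      exact ⟨w + w', map_add _ _ _⟩
    | smul r y _ h =>
      obtain ⟨w, rfl⟩ := h
      exact ⟨r • w, LciTransLib.mul'_smul I r w⟩
  refine ⟨fun v => ?_, fun hflat => ?_⟩
  · obtain ⟨s, rfl⟩ := Groth.Agent.S8919.exists_conormalSect_eq i' hV hcb v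
    obtain ⟨z, hz⟩ := hrange _ (hker.le (RingHom.mem_ker.2 (ConormalSecLib.app_idealSect i' V s)))
    refine ⟨T (p z), (hψT z).trans (congrArg _ (ConormalSecLib.idealSect_injective i' V ?_))⟩
    rw [ConormalSecLib.idealSect_lift, hz]
  refine (injective_iff_map_eq_zero (ψ₁.app (i' ⁻¹ᵁ V)).hom).mpr fun t ht => ?_
  obtain ⟨u, rfl⟩ := hTs t
  obtain ⟨z, rfl⟩ := LinearMap.rTensor_surjective I
    (g := (IsScalarTower.toAlgHom Γ(Y', VY) Γ(Z', V) Γ(Z, i' ⁻¹ᵁ V)).toLinearMap)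
    (by intro b; obtain ⟨c, hc⟩ := (ConormalInjLib.chart_of_le i' hV hcb).2 b; exact ⟨c, (congr($ha3 c)).trans hc⟩) u
  have h5 := ConormalInjLib.mem_ker_sq_of_conormalSect_eq_zero i' hV hcb _ ((hψT z).symm.trans ht)
  rw [ConormalSecLib.idealSect_lift, pow_two] at h5
  have hφ : RingHom.ker (IsScalarTower.toAlgHom Γ(Y', VY) Γ(Z', V) Γ(Z, i' ⁻¹ᵁ V)) = RingHom.ker (i'.app V).hom :=
    congrArg RingHom.ker ha3
  have h6 : LciTransLib.mul' Γ(Z', V) I z ∈
      RingHom.ker (IsScalarTower.toAlgHom Γ(Y', VY) Γ(Z', V) Γ(Z, i' ⁻¹ᵁ V)) *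
        I.map (algebraMap Γ(Y', VY) Γ(Z', V)) := by
    rw [hφ]
    exact (Ideal.mul_mono le_rfl hker.le) h5
  obtain ⟨w, hw, hφw⟩ := LciTransLib.exists_mul'_eq _ I _ h6
  have hinj : Function.Injective (LciTransLib.mul' Γ(Z', V) I) :=
    (TensorProduct.rid Γ(Y', VY) Γ(Z', V)).injective.comp
      (Module.Flat.lTensor_preserves_injective_linearMap _ I.injective_subtype)
  rw [hinj hw] at hφw
  show T (p z) = 0
  rw [show p z = 0 from hφw, map_zero]

end Chart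

theorem result_aux {Z X Z' X' : Scheme.{u}} (i : Z ⟶ X) (i' : Z' ⟶ X') [IsImmersion i] [IsImmersion i']
    [QuasiCompact i] [QuasiCompact i'] (g : X ⟶ X') (gZ : Z ⟶ Z') (hsq : IsPullback i gZ g i')
    (φ : (Scheme.Modules.pullback gZ).obj (Omega.conormal i') ⟶ Omega.conormal i)
    (hφ : OmegaSh.IsConormalMap i i' g gZ φ) : Epi φ ∧ (Flat g → IsIso φ) := by
  haveI : Coh.IsQCoh (ClSub.idealMod i.ker) := SweepSix.ConormalSpec.isQCoh_idealMod _
  haveI : Coh.IsQCoh (ClSub.idealMod i'.ker) := SweepSix.ConormalSpec.isQCoh_idealMod _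
  haveI : Coh.IsQCoh (Omega.conormal i') := KFlatLib.isQCoh_pullback i' (ClSub.idealMod i'.ker)
  haveI : Coh.IsQCoh (Omega.conormal i) := KFlatLib.isQCoh_pullback i (ClSub.idealMod i.ker)
  haveI : Coh.IsQCoh ((Scheme.Modules.pullback gZ).obj (Omega.conormal i')) :=
    KFlatLib.isQCoh_pullback gZ (Omega.conormal i')
  have key : ∀ z : Z, ∃ V : Z.Opens, IsAffineOpen V ∧ z ∈ V ∧ Function.Surjective (φ.app V) ∧
      (Flat g → Function.Injective (φ.app V)) := by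
    intro z
    obtain ⟨VY, hVY, hzY, -, hVYc⟩ := ConormalInjLib.exists_chart i' (gZ z) ⊤ trivial
    have hgz : i z ∈ g ⁻¹ᵁ VY := by
      show g (i z) ∈ VY
      rw [← Scheme.Hom.comp_apply, hsq.w, Scheme.Hom.comp_apply]
      exact hzY
    obtain ⟨V, hV, hzV, e, hcb⟩ := ConormalInjLib.exists_chart i z (g ⁻¹ᵁ VY) hgz
    have eU : i ⁻¹ᵁ V ≤ gZ ⁻¹ᵁ (i' ⁻¹ᵁ VY) := (i.preimage_mono e).trans (congrArg (· ⁻¹ᵁ VY) hφ.1).ge
    obtain ⟨hU', hs'⟩ := ConormalInjLib.chart_of_le i' hVY hVYc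
    obtain ⟨hU, -, hker⟩ := KRLib.baseChange_data hsq.flip hVY hU' hs' hV e
    letI := (i'.app VY).hom.toAlgebra
    letI := (g.appLE VY V e).hom.toAlgebra
    letI := (i.app V).hom.toAlgebra
    letI : Algebra Γ(X', VY) Γ(Z, i ⁻¹ᵁ V) := ((i.app V).hom.comp (g.appLE VY V e).hom).toAlgebra
    haveI : IsScalarTower Γ(X', VY) Γ(X, V) Γ(Z, i ⁻¹ᵁ V) := IsScalarTower.of_algebraMap_eq fun _ => rfl
    obtain ⟨h1, h2⟩ := chart hφ hVY hVYc hV hcb e eU rfl rfl rfl hker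
    refine ⟨i ⁻¹ᵁ V, hU, hzV, h1, fun hg => h2 ?_⟩
    exact g.flat_appLE hVY hV e
  refine ⟨OmegaAffLib.epi_of_surjective_charts φ fun z => ?_, fun hg => OmegaAffLib.isIso_of_bijective_charts φ fun z => ?_⟩
  · obtain ⟨V, h1, h2, h3, -⟩ := key z
    exact ⟨V, h1, h2, h3⟩
  · obtain ⟨V, h1, h2, h3, h4⟩ := key z
    exact ⟨V, h1, h2, h4 hg, h3⟩


open AlgebraicGeometry CategoryTheory in
/-- In a cartesian square with i : Z → X, i' : Z' → X' quasi-compact immersions, g : X → X', gZ : Z →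
Z', the canonical map gZ^* C_{Z'/X'} → C_{Z/X} is surjective, and an isomorphism when g is flat.
(The published statement allows arbitrary immersions; this row assumes i and i' quasi-compact.) -/
theorem result {Z X Z' X' : Scheme.{u}} (i : Z ⟶ X) (i' : Z' ⟶ X') [IsImmersion i] [IsImmersion i']
    [QuasiCompact i] [QuasiCompact i'] (g : X ⟶ X') (gZ : Z ⟶ Z') (hsq : IsPullback i gZ g i')
    (φ : (Scheme.Modules.pullback gZ).obj (Omega.conormal i') ⟶ Omega.conormal i) (hφ : OmegaSh.IsConormalMap i i' g gZ φ) :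
    Epi φ ∧ (Flat g → IsIso φ) := by
  exact result_aux i i' g gZ hsq φ hφ

end Groth.Agent.S9372
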