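import Groth.Statements.S2456
import Groth.Agent.CohenLib.Structure
import Mathlib.RingTheory.Smooth.Field
import Mathlib.RingTheory.Smooth.AdicCompletion

set_option autoImplicit false
universe u
open EGA41

namespace Groth.Agent.S2456

open IsLocalRing in
/-- Let W be a Cohen ring (a field of characteristic zero, or a complete discrete valuation ring with
maximal ideal generated by the residue characteristic), C a complete Noetherian local ring and J ≠ C
an ideal of C. Then every local homomorphism u : W → C/J is induced by a local homomorphism v : W →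
C. -/
theorem result {W C : Type u} [CommRing W] [IsLocalRing W] (hW : EGA41.IsCohenRingEGA W)
    [CommRing C] [IsLocalRing C] [IsNoetherianRing C] [IsAdicComplete (maximalIdeal C) C]
    (J : Ideal C) (hJ : J ≠ ⊤) [IsLocalRing (C ⧸ J)] (u : W →+* C ⧸ J) [IsLocalHom u] :
    ∃ v : W →+* C, IsLocalHom v ∧ (Ideal.Quotient.mk J).comp v = u := by
  have hjac : maximalIdeal C ≤ (⊥ : Ideal C).jacobson := IsAdicComplete.le_jacobson_bot _
  have hclosed : ∀ (I : Ideal C), I ≤ maximalIdeal C → ∀ x, (∀ n, x ∈ J ⊔ I ^ n) → x ∈ J :=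
    fun I hI x hx => CompleteLib.mem_of_forall_mem_sup_pow (hI.trans hjac) J fun n => by
      simpa using hx n
  have hlocal : ∀ v : W →+* C, (Ideal.Quotient.mk J).comp v = u → IsLocalHom v := fun v hv =>
    ⟨fun w hw => by
      refine IsLocalHom.map_nonunit (f := u) w (?_ : IsUnit (u w))
      rw [← hv]
      exact hw.map (Ideal.Quotient.mk J)⟩
  suffices ∃ v : W →+* C, (Ideal.Quotient.mk J).comp v = u by
    obtain ⟨v, hv⟩ := this
    exact ⟨v, hlocal v hv, hv⟩
  rcases hW with ⟨hWf, hW0⟩ | hW
  · let _ : Field W := hWf.toField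
    exact (CohenLib.hasPadicLifts_rat W).exists_lift_complete (maximalIdeal C)
      (by rw [Nat.cast_zero]; exact Submodule.zero_mem _) J (le_maximalIdeal hJ) (hclosed _ le_rfl) u
  · obtain ⟨p, hp, hm, -, -, -, -, hres, hl⟩ := CohenLib.cohen_props hW
    refine hl.exists_lift_complete (maximalIdeal C) ?_ J (le_maximalIdeal hJ) (hclosed _ le_rfl) u
    intro hpu
    have h1 : IsUnit (p : W) := IsLocalHom.map_nonunit (f := u) (p : W) (by
      rw [map_natCast, ← map_natCast (Ideal.Quotient.mk J)]
      exact hpu.map (Ideal.Quotient.mk J))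
    exact (maximalIdeal.isMaximal W).ne_top (Ideal.eq_top_of_isUnit_mem _
      (hm ▸ Ideal.mem_span_singleton_self _) h1)

end Groth.Agent.S2456
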