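import Groth.Statements.S0342
import Groth.Agent.GorLib.Basic

set_option autoImplicit false
universe u v
open Goren

namespace Groth.Agent.S0342

/-- Regular local rings have finite injective dimension over themselves, i.e. are Gorenstein. -/
theorem result (A : Type u) [CommRing A] [IsRegularLocalRing A] : LocCoh.IsGorensteinLocalRing A := by
  obtain h := fun I : Ideal A => CommAlgDim.pdlt_of_isRegularLocalRing A (A ⧸ I)
  exact GorLib.gorenstein_of_idlt (ProjLib.hasInjectiveDimensionLT_of_cyclic (IsLocalRing.maximalIdeal A).spanFinrank
    (ModuleCat.of A A) fun I => @CategoryTheory.HasProjectiveDimensionLT.subsingleton _ _ _ _ _ _ (h I) _ le_rfl _)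

end Groth.Agent.S0342
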