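import Groth.Statements.S5033
import Groth.Agent.CommAlgDim.CM

set_option autoImplicit false
universe u
open CInt

namespace Groth.Agent.S5033

/-- Let A be a Noetherian local ring and J an ideal such that A/J is a regular local ring. Then A is a
regular local ring if and only if J is generated by a regular sequence of A. -/
theorem result (A : Type u) [CommRing A] [IsNoetherianRing A]
    [IsLocalRing A] (J : Ideal A) [IsRegularLocalRing (A ⧸ J)] :
    IsRegularLocalRing A ↔ CInt.IsRegularIdeal J := by
  constructor
  · intro hA
    exact CommAlgDim.exists_isRegular_of_regular_quotient
  · rintro ⟨rs, hrs, rfl⟩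
    exact CommAlgDim.isRegularLocalRing_of_quotient A hrs

end Groth.Agent.S5033
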