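import Groth.Statements.S17982
import Groth.Agent.HenselLib.FiniteLocalProd
-- import your own Groth.Agent.* helpers here

set_option autoImplicit false
universe u
open Hensel

namespace Groth.Agent.S17982

/-- Let A be a local ring and B a commutative A-algebra which is finitely generated as an A-module. Then
B is ring-isomorphic to a finite product of local rings if and only if the canonical homomorphism
from B to the product of the localizations of B at its maximal ideals is bijective. -/
theorem result
    (A : Type u) [CommRing A] [IsLocalRing A] (B : Type u) [CommRing B] [Algebra A B] [Module.Finite A B] :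
    (∃ (ι : Type u) (_ : Fintype ι) (C : ι → Type u) (_ : ∀ j, CommRing (C j)),
        (∀ j, IsLocalRing (C j)) ∧ Nonempty (B ≃+* (∀ j, C j))) ↔
    Function.Bijective
      (RingHom.pi (fun n : MaximalSpectrum B => algebraMap B (Localization.AtPrime n.asIdeal))) := by
  classical
  haveI : Finite (MaximalSpectrum B) := HenselLib.finite_maximalSpectrum A
  haveI : Fintype (MaximalSpectrum B) := Fintype.ofFinite _
  constructor
  · rintro ⟨ι, _, C, _, hC, ⟨e⟩⟩
    obtain ⟨d, hco, hne, hself, hloc⟩ := HenselLib.exists_idem_maximal_family (B := B) fun b hb => by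
      obtain ⟨d, w, hd, hdw⟩ := HenselLib.exists_idem_eq_of_pi hC e b
      exact ⟨d, hd, hdw ▸ Ideal.mul_mem_right _ _ hb⟩
    refine ⟨?_, fun y => ?_⟩
    · rw [injective_iff_map_eq_zero]
      intro x hx
      refine eq_zero_of_localization x fun J hJ => ?_
      exact congrFun hx ⟨J, hJ⟩
    · have hM : ∀ M : MaximalSpectrum B, ∃ c : B,
          algebraMap B (Localization.AtPrime M.asIdeal) c = y M := fun M => by
        obtain ⟨b, s, hbs⟩ := IsLocalization.exists_mk'_eq M.asIdeal.primeCompl (y M)
        haveI := hloc M
        have hu : IsUnit (Ideal.Quotient.mk (Ideal.span {1 - d M}) (s : B)) := by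
          refine IsLocalRing.notMem_maximalIdeal.1 fun hmem => ?_
          refine s.2 ?_
          have hmax : (IsLocalRing.maximalIdeal _).comap (Ideal.Quotient.mk (Ideal.span {1 - d M})) = M.asIdeal := by
            symm
            haveI := Ideal.comap_isMaximal_of_surjective (Ideal.Quotient.mk (Ideal.span {1 - d M}))
              Ideal.Quotient.mk_surjective (K := IsLocalRing.maximalIdeal (B ⧸ Ideal.span {1 - d M}))
            by_contra hne'
            let N : MaximalSpectrum B := ⟨_, this⟩
            have h1 : (1 : B) - d M ∈ N.asIdeal := by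
              show Ideal.Quotient.mk _ (1 - d M) ∈ IsLocalRing.maximalIdeal _
              rw [Ideal.Quotient.eq_zero_iff_mem.2 (Ideal.mem_span_singleton_self _)]
              exact zero_mem _
            have h2 : (1 : B) ∈ N.asIdeal := by
              simpa using N.asIdeal.add_mem h1 (hne M N fun h => hne' (congrArg MaximalSpectrum.asIdeal h).symm)
            exact N.isMaximal.ne_top ((Ideal.eq_top_iff_one _).2 h2)
          show (s : B) ∈ M.asIdeal
          exact (SetLike.ext_iff.1 hmax _).1 hmem
        obtain ⟨c, hc⟩ := Ideal.Quotient.mk_surjective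
          (Ideal.Quotient.mk (Ideal.span {1 - d M}) b * (↑hu.unit⁻¹ : B ⧸ Ideal.span {1 - d M}))
        refine ⟨c, ?_⟩
        obtain ⟨r, hr⟩ := Ideal.mem_span_singleton.1 (Ideal.Quotient.eq.1
          (show Ideal.Quotient.mk (Ideal.span {1 - d M}) (c * s) = Ideal.Quotient.mk _ b by
            rw [map_mul, hc]; exact (mul_assoc _ _ _).trans ((congrArg _ hu.val_inv_mul).trans (mul_one _))))
        rw [← hbs, IsLocalization.eq_mk'_iff_mul_eq, ← map_mul]
        refine sub_eq_zero.1 ?_
        rw [← map_sub, hr, map_mul]
        have hz : algebraMap B (Localization.AtPrime M.asIdeal) (1 - d M) = 0 := by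
          rw [IsLocalization.map_eq_zero_iff M.asIdeal.primeCompl]
          refine ⟨⟨d M, fun h => M.isMaximal.ne_top ((Ideal.eq_top_iff_one _).2 ?_)⟩, ?_⟩
          · simpa using M.asIdeal.add_mem (hself M) h
          · show d M * (1 - d M) = 0
            exact (hco.idem M).mul_one_sub_self
        rw [hz, zero_mul]
      choose c hc using hM
      refine ⟨∑ M, d M * c M, funext fun M => ?_⟩
      show algebraMap B (Localization.AtPrime M.asIdeal) (∑ N, d N * c N) = y M
      rw [map_sum, Finset.sum_eq_single M]
      · rw [map_mul, hc]
        have : algebraMap B (Localization.AtPrime M.asIdeal) (d M) = 1 := by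
          have hu : IsUnit (algebraMap B (Localization.AtPrime M.asIdeal) (d M)) :=
            IsLocalization.map_units _ (⟨d M, fun h => M.isMaximal.ne_top ((Ideal.eq_top_iff_one _).2
              (by simpa using M.asIdeal.add_mem (hself M) h))⟩ : M.asIdeal.primeCompl)
          exact HenselLib.idem_eq_one_of_isUnit ((hco.idem M).map _) hu
        rw [this, one_mul]
      · intro N _ hN
        rw [map_mul]
        have : algebraMap B (Localization.AtPrime M.asIdeal) (d N) = 0 := by
          rw [IsLocalization.map_eq_zero_iff M.asIdeal.primeCompl]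
          refine ⟨⟨1 - d N, fun h => M.isMaximal.ne_top ((Ideal.eq_top_iff_one _).2 ?_)⟩, ?_⟩
          · simpa using M.asIdeal.add_mem h (hne N M (Ne.symm hN))
          · show (1 - d N) * d N = 0
            exact (hco.idem N).one_sub_mul_self
        rw [this, zero_mul]
      · intro h; exact absurd (Finset.mem_univ M) h
  · intro h
    exact ⟨MaximalSpectrum B, inferInstance, fun n => Localization.AtPrime n.asIdeal, inferInstance,
      fun n => inferInstance, ⟨RingEquiv.ofBijective _ h⟩⟩

end Groth.Agent.S17982
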