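import Groth.Statements.S9405
import Groth.Agent.HenselLib.Local
import Groth.Agent.HenselLib.FiniteLocalProd
import Groth.Agent.CompleteLib.Basic
import Groth.Agent.S9604
import Groth.Agent.S17982
import Mathlib

set_option autoImplicit false
universe u
open CAlg

namespace Groth.Agent.S9405

/-- A module-finite algebra S over a complete Noetherian local ring R is a finite product of complete
Noetherian local rings; precisely, S has finitely many maximal ideals, S maps bijectively onto the
product of its localizations at them, and each of these localizations is Noetherian and complete for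
its maximal ideal. -/
theorem result (R : Type u) [CommRing R]
    [IsLocalRing R] [IsNoetherianRing R] [IsAdicComplete (IsLocalRing.maximalIdeal R) R]
    (S : Type u) [CommRing S] [Algebra R S] [Module.Finite R S] :
    Finite (MaximalSpectrum S) ∧
      Function.Bijective
        (algebraMap S ((m : MaximalSpectrum S) → Localization.AtPrime m.asIdeal)) ∧
      ∀ m : MaximalSpectrum S, IsNoetherianRing (Localization.AtPrime m.asIdeal) ∧
        IsAdicComplete (IsLocalRing.maximalIdeal (Localization.AtPrime m.asIdeal))
          (Localization.AtPrime m.asIdeal) := by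
  haveI : HenselianLocalRing R := HenselLib.henselianLocalRing_of_henselianRing
  obtain ⟨ι, hι, L, hL, hloc, he⟩ := HenselLib.exists_pi_local (R := R) S
  haveI hfin : Finite (MaximalSpectrum S) := HenselLib.finite_maximalSpectrum R
  have hbij := (Groth.Agent.S17982.result R S).1 ⟨ι, hι, L, hL, hloc, he⟩
  refine ⟨hfin, hbij, fun n => ?_⟩
  haveI : IsNoetherianRing S := IsNoetherianRing.of_finite R S
  let T := Localization.AtPrime n.asIdeal
  haveI hnoeth : IsNoetherianRing T := IsLocalization.isNoetherianRing n.asIdeal.primeCompl T inferInstance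
  refine ⟨hnoeth, ?_⟩
  have hsur : Function.Surjective (IsScalarTower.toAlgHom R S T) := fun t => by
    classical
    obtain ⟨s, hs⟩ := hbij.2 (Pi.single n t)
    exact ⟨s, (congrFun hs n).trans (Pi.single_eq_same _ _)⟩
  haveI : Module.Finite R T := Module.Finite.of_surjective (IsScalarTower.toAlgHom R S T).toLinearMap hsur
  let J := (IsLocalRing.maximalIdeal R).map (algebraMap R T)
  haveI : IsAdicComplete (IsLocalRing.maximalIdeal R) T := CompleteLib.isAdicComplete_of_finite
  haveI hJ : IsAdicComplete J T := (IsAdicComplete.map_algebraMap_iff (IsLocalRing.maximalIdeal R) T).2 inferInstance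
  have hle : J ≤ IsLocalRing.maximalIdeal T :=
    (IsAdicComplete.le_jacobson_bot J).trans (IsLocalRing.jacobson_eq_maximalIdeal _ bot_ne_top).le
  have hint : Algebra.IsIntegral R T := Algebra.IsIntegral.of_finite R T
  have hrad : IsLocalRing.maximalIdeal T ≤ J.radical := by
    rw [Ideal.radical_eq_sInf]
    refine le_sInf fun P ⟨hP, hPp⟩ => ?_
    haveI := hPp
    haveI : P.IsMaximal := by
      refine Ideal.isMaximal_of_isIntegral_of_isMaximal_comap (R := R) P ?_
      have h2 : IsLocalRing.maximalIdeal R ≤ P.comap (algebraMap R T) := Ideal.map_le_iff_le_comap.1 hP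
      rw [← (IsLocalRing.maximalIdeal.isMaximal R).eq_of_le (hPp.comap _).ne_top h2]
      exact IsLocalRing.maximalIdeal.isMaximal R
    exact (IsLocalRing.eq_maximalIdeal ‹P.IsMaximal›).ge
  obtain ⟨k, hk⟩ := Ideal.exists_pow_le_of_le_radical_of_fg hrad (IsNoetherian.noetherian _)
  exact (Groth.Agent.S9604.result (IsLocalRing.maximalIdeal T) J (k + 1) 1 (Nat.succ_pos k) one_pos
    ((Ideal.pow_le_pow_right (Nat.le_succ k)).trans hk) (by rwa [pow_one]) T).2 hJ
end Groth.Agent.S9405
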