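import Groth.Statements.S4574
import Groth.Agent.CohenLib.GeomRegField
import Groth.Agent.CommAlgDim.LocPD

set_option autoImplicit false
universe u
open IsLocalRing
open EGA41

namespace Groth.Agent.S4574

/-- Let k be a field and A a Noetherian local k-algebra, formally smooth over k for its adic topology.
Then every localization A_p at a prime p is formally smooth over k for the pA_p-adic topology. -/
theorem result {k A : Type u} [Field k] [CommRing A]
    [IsLocalRing A] [IsNoetherianRing A] [Algebra k A] (h : CAlgX.IsAdicFormallySmooth k A (maximalIdeal A))
    (p : Ideal A) [p.IsPrime] :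
    CAlgX.IsAdicFormallySmooth k (Localization.AtPrime p) (maximalIdeal (Localization.AtPrime p)) := by
  obtain ⟨q, hq⟩ := ExpChar.exists k
  refine (CohenLib.liftsAdic_iff_pRadical q).2 fun k' _ _ _ _ => ?_
  have : IsRegularRing (TensorProduct k k' A) := CohenLib.LiftsAdic.isRegularRing_baseChange h k'
  let M : Submonoid (TensorProduct k k' A) :=
    p.primeCompl.map (Algebra.TensorProduct.includeRight (R := k) (A := k'))
  have : IsRegularRing (Localization M) := CommAlgDim.isRegularRing_localization M
  exact IsRegularRing.of_ringEquiv
    (IsLocalization.tensorProductEquivOfMapIncludeRight k k' p.primeCompl (Localization.AtPrime p) (Localization M)).symm.toRingEquiv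

end Groth.Agent.S4574
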