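import Groth.Statements.S2476
import Groth.Agent.ImperfLib.FieldExt
import Groth.Agent.ImperfLib.CompletedFree
import Groth.Agent.AdicFSLib.LiftUnique
import Groth.Agent.CohenLib.FSOmega
-- import your own Groth.Agent.* helpers here

set_option autoImplicit false
universe u
open EGA41

namespace Groth.Agent.S2476

open IsLocalRing in
/-- Let k₀ be a field and A a complete Noetherian local k₀-algebra, formally smooth over k₀ for the adic
topology, whose residue field K is a finitely generated extension of k₀. Then the 𝔪-adic completion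
Ω̂_{A/k₀} of Ω_{A/k₀} is a free A-module of rank dim A + trdeg_{k₀} K. -/
theorem result {k₀ A : Type u} [Field k₀] [CommRing A] [IsLocalRing A] [IsNoetherianRing A] [Algebra k₀ A]
    [IsAdicComplete (maximalIdeal A) A] (hfs : CAlgX.IsAdicFormallySmooth k₀ A (maximalIdeal A))
    [Algebra.EssFiniteType k₀ (ResidueField A)] :
    Module.Finite A (AdicCompletion (maximalIdeal A) (Ω[A⁄k₀])) ∧ Module.Free A (AdicCompletion (maximalIdeal A) (Ω[A⁄k₀])) ∧
      (Module.finrank A (AdicCompletion (maximalIdeal A) (Ω[A⁄k₀])) : WithBot ℕ∞) =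
        ringKrullDim A + (Cardinal.toNat (Algebra.trdeg k₀ (ResidueField A)) : WithBot ℕ∞) := by
  haveI : IsLocalHom (algebraMap k₀ A) := ⟨fun c hc => isUnit_iff_ne_zero.2 fun h0 => by
    rw [h0, map_zero] at hc
    exact not_isUnit_zero hc⟩
  have hfsa := (AdicFSLib.formallySmoothAdic_iff (A := k₀) (B := A)).2 hfs
  obtain ⟨d, hd, h1, -, -, h4⟩ := ImperfLib.adicFS_formula (k := k₀) (A := A) (ResidueField A) hfs residue_surjective
  obtain ⟨hΩ, -, hidx⟩ := ImperfLib.index_eq_trdeg k₀ (ResidueField A)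
  obtain ⟨hZfin, hZ⟩ := h4 hΩ
  haveI := hZfin
  obtain ⟨hfin, hfree, hrank⟩ := ImperfLib.completion_free (B := A) (M := Ω[A⁄k₀]) fun n => by
    haveI := CohenLib.free_kaehler_mod_open hfsa (maximalIdeal A ^ (n + 1)) (Ideal.pow_le_self n.succ_ne_zero)
      ⟨n + 1, le_rfl⟩
    infer_instance
  refine ⟨hfin, hfree, ?_⟩
  rw [hd, hrank]
  have h : Module.finrank (ResidueField A) (TensorProduct A (ResidueField A) (Ω[A⁄k₀])) =
      d + Cardinal.toNat (Algebra.trdeg k₀ (ResidueField A)) := by omega
  rw [h]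
  push_cast
  rfl

end Groth.Agent.S2476
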