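import Groth.Statements.S5054
import Groth.Agent.CKaehlerLib.Unramified
-- import your own Groth.Agent.* helpers here

set_option autoImplicit false
set_option maxHeartbeats 1000000
universe u
open EGA418

namespace Groth.Agent.S5054

/-- Let k be a field, A a complete Noetherian local k-algebra whose residue field is a finite extension
of k, p a prime ideal of A distinct from the maximal ideal and containing a minimal prime q with dim
A/q = dim A, Ω̂ the completion (for the topology of the maximal ideal) of the module of
differentials of A over k, and m a natural number. Then the A_p-module Ω̂_p is generated by m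
elements if and only if there is a local k-algebra homomorphism from the power series ring k[[T_1,
…, T_m]] to A making A a finite algebra over it which is unramified at p. -/
theorem result (k A : Type u) [Field k] [CommRing A]
    [IsLocalRing A] [IsNoetherianRing A] [Algebra k A] [IsAdicComplete (IsLocalRing.maximalIdeal A) A]
    [Module.Finite k (IsLocalRing.ResidueField A)]
    (p : Ideal A) [p.IsPrime] (hp : p ≠ IsLocalRing.maximalIdeal A)
    (hq : ∃ q ∈ minimalPrimes A, q ≤ p ∧ ringKrullDim (A ⧸ q) = ringKrullDim A) (m : ℕ) :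
    (∃ s : Fin m → (LocalizedModule p.primeCompl (AdicCompletion (IsLocalRing.maximalIdeal A) (KaehlerDifferential k A))), Submodule.span (Localization.AtPrime p) (Set.range s) = ⊤) ↔
      ∃ (_ : Algebra (MvPowerSeries (Fin m) k) A) (_ : IsScalarTower k (MvPowerSeries (Fin m) k) A),
        IsLocalHom (algebraMap (MvPowerSeries (Fin m) k) A) ∧ Module.Finite (MvPowerSeries (Fin m) k) A ∧
          Algebra.IsUnramifiedAt (MvPowerSeries (Fin m) k) p := by
  classical
  obtain ⟨q, hq, hqp, hqd⟩ := hq
  haveI : q.IsPrime := hq.1.1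
  let Ω := AdicCompletion (IsLocalRing.maximalIdeal A) (KaehlerDifferential k A)
  haveI : Module.Finite A Ω := CKaehlerLib.finite_completedKaehler k A
  let d := CKaehlerLib.dHat k A
  constructor
  · intro hgen
    obtain ⟨n, -, -, -, hn', -⟩ := CohenLib.exists_primary_family A
    have hn := hn'.symm
    let G : ℕ → Prop := fun j => ∃ s : Fin j → LocalizedModule p.primeCompl Ω,
      Submodule.span (Localization.AtPrime p) (Set.range s) = ⊤
    have hex : ∃ j, G j := ⟨m, hgen⟩
    obtain ⟨g₀, hg₀⟩ := Nat.find_spec hex
    have hM : Nat.find hex ≤ m := Nat.find_min' hex hgen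
    have hnM : n ≤ Nat.find hex := CKaehlerLib.dim_le_of_generated p q hqp (hqd.trans hn) g₀ hg₀
    obtain ⟨x, N, hN, hx⟩ := CKaehlerLib.exists_primary_avoiding p hp hn (hnM.trans hM)
    haveI : Module.Finite (Localization.AtPrime p) (LocalizedModule p.primeCompl Ω) :=
      ⟨⟨(Set.finite_range g₀).toFinset, by simpa using hg₀⟩⟩
    obtain ⟨v, hv⟩ := CKaehlerLib.exists_transversal (fun (i : Fin (Nat.find hex)) (u : Aˣ) =>
      LocalizedModule.mkLinearMap p.primeCompl Ω (d ((u : A) * x (Fin.castLE hM i))))
      (fun i => CKaehlerLib.span_units_eq_top d (CKaehlerLib.span_dHat k A) p _ (hx _).2) g₀ hg₀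
      (fun T hT => Nat.find_min' hex ⟨fun i => (T.equivFin.symm i : LocalizedModule p.primeCompl Ω), by
        refine (congrArg (Submodule.span _) ?_).trans hT
        ext z
        exact ⟨by rintro ⟨i, rfl⟩; exact (T.equivFin.symm i).2, fun hz => ⟨T.equivFin ⟨z, hz⟩, by simp⟩⟩⟩)
    let u : Fin m → Aˣ := fun i => if h : (i : ℕ) < Nat.find hex then v ⟨i, h⟩ else 1
    let x' : Fin m → A := fun i => (u i : A) * x i
    have hx'span : Ideal.span (Set.range x) ≤ Ideal.span (Set.range x') := Ideal.span_le.2 (by
      rintro _ ⟨i, rfl⟩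
      have h : (↑(u i)⁻¹ : A) * x' i ∈ Ideal.span (Set.range x') := Ideal.mul_mem_left _ _ (Ideal.subset_span ⟨i, rfl⟩)
      rwa [← mul_assoc, Units.inv_mul, one_mul] at h)
    obtain ⟨_, _, hloc, hfin, hX⟩ := CKaehlerLib.exists_finite_algebra (k := k) x' N (hN.trans hx'span)
      fun i => Ideal.mul_mem_left _ _ (hx i).1
    refine ⟨inferInstance, inferInstance, hloc, hfin, ?_⟩
    let P := MvPowerSeries (Fin m) k
    haveI := hfin
    have hgen' : Submodule.span (Localization.AtPrime p)
        (Set.range fun i => LocalizedModule.mkLinearMap p.primeCompl Ω (d (x' i))) = ⊤ := by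
      refine top_le_iff.1 (hv.ge.trans (Submodule.span_mono ?_))
      rintro _ ⟨i, rfl⟩
      refine ⟨Fin.castLE hM i, ?_⟩
      have h : u (Fin.castLE hM i) = v i := dif_pos (show ((Fin.castLE hM i : Fin m) : ℕ) < Nat.find hex from i.2)
      simp only [x', h]
    obtain ⟨g, hg⟩ := CKaehlerLib.exists_hom k A ((KaehlerDifferential.D P A).restrictScalars k)
    have hgs : Function.Surjective g := by
      rw [← LinearMap.range_eq_top, eq_top_iff, ← KaehlerDifferential.span_range_derivation, Submodule.span_le]
      rintro _ ⟨a, rfl⟩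
      exact ⟨d a, hg a⟩
    have hns : (⟨p, ‹_›⟩ : PrimeSpectrum A) ∉ Module.support A (Ω[A⁄P]) := by
      rw [Module.notMem_support_iff']
      intro z
      obtain ⟨y, rfl⟩ := hgs z
      obtain ⟨s, hs⟩ := (CKaehlerLib.span_localized_eq_top_iff p fun i => d (x' i)).1 hgen' y
      refine ⟨s, s.2, ?_⟩
      have hker : Submodule.span A (Set.range fun i => d (x' i)) ≤ LinearMap.ker g := Submodule.span_le.2 (by
        rintro _ ⟨i, rfl⟩
        rw [SetLike.mem_coe, LinearMap.mem_ker, hg, ← hX i]
        exact (KaehlerDifferential.D P A).map_algebraMap _)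
      rw [← map_smul]
      exact LinearMap.mem_ker.1 (hker hs)
    exact (show (⟨p, ‹_›⟩ : PrimeSpectrum A) ∈ Algebra.unramifiedLocus P A by
      rw [Algebra.unramifiedLocus_eq_compl_support]; exact hns)
  · rintro ⟨_, _, hloc, hfin, hun⟩
    let P := MvPowerSeries (Fin m) k
    haveI := hfin
    let x : Fin m → A := fun i => algebraMap P A (MvPowerSeries.X i)
    refine ⟨fun i => LocalizedModule.mkLinearMap p.primeCompl Ω (d (x i)),
      (CKaehlerLib.span_localized_eq_top_iff p fun i => d (x i)).2 ?_⟩
    let W : Submodule A Ω := Submodule.span A (Set.range fun i => d (x i))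
    let δ : Derivation k A (Ω ⧸ W) := W.mkQ.compDer d
    have hX : ∀ i, δ (x i) = 0 := fun i => (Submodule.Quotient.mk_eq_zero W).2 (Submodule.subset_span ⟨i, rfl⟩)
    have hδ := CKaehlerLib.derivation_algebraMap_eq_zero δ hX
    let δP : Derivation P A (Ω ⧸ W) := Derivation.mk'
      { toFun := δ
        map_add' := map_add δ
        map_smul' := fun c a => by
          show δ (c • a) = c • δ a
          rw [Algebra.smul_def, Derivation.leibniz, hδ, smul_zero, add_zero, algebraMap_smul] } δ.leibniz
    have hmem : (⟨p, ‹_›⟩ : PrimeSpectrum A) ∈ Algebra.unramifiedLocus P A := hun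
    rw [Algebra.unramifiedLocus_eq_compl_support, Set.mem_compl_iff, Module.notMem_support_iff'] at hmem
    intro y
    have hy : y ∈ Submodule.span A (Set.range d) := (CKaehlerLib.span_dHat k A).ge Submodule.mem_top
    induction hy using Submodule.span_induction with
    | mem z hz =>
      obtain ⟨a, rfl⟩ := hz
      obtain ⟨s, hs, hs0⟩ := hmem (KaehlerDifferential.D P A a)
      refine ⟨⟨s, hs⟩, (Submodule.Quotient.mk_eq_zero W).1 ?_⟩
      have h := congrArg δP.liftKaehlerDifferential hs0
      rw [map_smul, map_zero, Derivation.liftKaehlerDifferential_comp_D] at h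
      rw [Submodule.Quotient.mk_smul]
      exact h
    | zero => exact ⟨1, by rw [smul_zero]; exact zero_mem _⟩
    | add a b _ _ ha hb =>
      obtain ⟨u, hu⟩ := ha
      obtain ⟨v, hv⟩ := hb
      refine ⟨u * v, ?_⟩
      rw [Submonoid.coe_mul, smul_add]
      refine add_mem ?_ ?_
      · rw [mul_comm, mul_smul]; exact Submodule.smul_mem _ _ hu
      · rw [mul_smul]; exact Submodule.smul_mem _ _ hv
    | smul c a _ ha =>
      obtain ⟨u, hu⟩ := ha
      refine ⟨u, ?_⟩
      rw [smul_comm]
      exact Submodule.smul_mem _ _ hu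

end Groth.Agent.S5054
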