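import Groth.Statements.S1224
import Mathlib
import Mathlib
-- import your own Groth.Agent.* helpers here

set_option autoImplicit false
universe u
open FlatMor
open scoped TensorProduct

namespace Groth.Agent.S1224

/-- Ring form, X = Spec B affine, where proper support means finite support: let B be a finite type
A-algebra and N a finite B-module such that B modulo the annihilator of N is finite over A. Then N
is universally pure relative to Spec A. -/
theorem result {A B : Type u} [CommRing A] [CommRing B] [Algebra A B] [Algebra.FiniteType A B]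
    (N : Type u) [AddCommGroup N] [Module B N] [Module A N] [IsScalarTower A B N] [Module.Finite B N]
    [Module.Finite A (B ⧸ Module.annihilator B N)] : FlatCA.IsUnivPure A B N := by
  intro p _ A' B' N' _ _ _ _ _ _ _ _ _ _ _ _ _ _ f t' t _ _ P _ hImp
  obtain ⟨hpush, hf, htt, -, hPt', hass, hno⟩ := hImp
  let J : Ideal B' := (Module.annihilator B N).map (algebraMap B B')
  have hann : ∀ a ∈ Module.annihilator B N, ∀ n : N', algebraMap B B' a • n = 0 := by
    intro a ha n
    induction n using hf.inductionOn with
    | zero => exact smul_zero _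
    | tmul m => rw [algebraMap_smul, ← map_smul, Module.mem_annihilator.1 ha m, map_zero]
    | smul s n hn => rw [smul_comm, hn, smul_zero]
    | add n₁ n₂ h₁ h₂ => rw [smul_add, h₁, h₂, add_zero]
  have hJP : J ≤ P := by
    refine Ideal.map_le_iff_le_comap.2 fun a ha => ?_
    set a' := algebraMap B B' a
    let ι : B' →ₐ[A'] t'.Fiber B' := Algebra.TensorProduct.includeRight
    have h1 : ι a' ∈ (⊥ : Submodule (t'.Fiber B') (FlatCA.fiberMod t' B' N')).colon (Set.univ) := by
      letI : Algebra B' (t'.Fiber B') := Algebra.TensorProduct.rightAlgebra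
      have key : ∀ z : TensorProduct B' (t'.Fiber B') N', ι a' • z = 0 := by
        intro z
        induction z using TensorProduct.induction_on with
        | zero => exact smul_zero _
        | add x y hx hy => rw [smul_add, hx, hy, add_zero]
        | tmul c n =>
          rw [TensorProduct.smul_tmul', smul_eq_mul,
            show ι a' * c = a' • c from (Algebra.smul_def a' c).symm, TensorProduct.smul_tmul, hann a ha,
            TensorProduct.tmul_zero]
      exact Submodule.mem_colon.2 fun z _ => (Submodule.mem_bot _).2 (key z)
    have h2 : ι a' ∈ FlatCA.fiberIdeal t' P := by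
      obtain ⟨hp, m, hm⟩ := hass
      rw [hm]
      exact Ideal.le_radical (Submodule.mem_colon.2 fun z hz => by
        have := Submodule.mem_colon.1 h1 m trivial
        rcases Set.mem_singleton_iff.1 hz with rfl
        exact this)
    let φ : t'.Fiber B' →ₐ[A'] P.ResidueField :=
      Algebra.TensorProduct.lift (Ideal.ResidueField.mapₐ t' P (Algebra.ofId A' B') hPt'.over)
        (IsScalarTower.toAlgHom A' B' P.ResidueField) (fun _ _ => Commute.all _ _)
    have h3 : FlatCA.fiberIdeal t' P ≤ RingHom.ker φ := by
      refine Ideal.map_le_iff_le_comap.2 fun x hx => ?_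
      show φ ((1 : t'.ResidueField) ⊗ₜ[A'] x) = 0
      rw [Algebra.TensorProduct.lift_tmul, map_one, one_mul]
      exact Ideal.algebraMap_residueField_eq_zero.2 hx
    have h4 : φ (ι a') = 0 := h3 h2
    rw [Algebra.TensorProduct.includeRight_apply, Algebra.TensorProduct.lift_tmul, map_one, one_mul] at h4
    show a' ∈ P
    exact Ideal.algebraMap_residueField_eq_zero.1 h4
  haveI : Module.Finite A' (B' ⧸ J) := by
    classical
    obtain ⟨s, hs⟩ := (Module.Finite.fg_top : (⊤ : Submodule A (B ⧸ Module.annihilator B N)).FG)
    let q : (B ⧸ Module.annihilator B N) →ₐ[A] B' ⧸ J :=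
      Ideal.quotientMapₐ J (IsScalarTower.toAlgHom A B B') Ideal.le_comap_map
    refine ⟨⟨s.image q, ?_⟩⟩
    have hq : ∀ b, q b ∈ Submodule.span A' ((s.image q : Finset _) : Set (B' ⧸ J)) := by
      intro b
      have hb : b ∈ Submodule.span A (s : Set (B ⧸ Module.annihilator B N)) := hs ▸ Submodule.mem_top
      induction hb using Submodule.span_induction with
      | mem x hx => exact Submodule.subset_span (Finset.mem_coe.2 (Finset.mem_image_of_mem q hx))
      | zero => rw [map_zero]; exact zero_mem _
      | add x y _ _ hx hy => rw [map_add]; exact add_mem hx hy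
      | smul c x _ hx => rw [map_smul, ← algebraMap_smul A' c]; exact Submodule.smul_mem _ _ hx
    refine eq_top_iff.2 ?_
    rintro y -
    obtain ⟨x, rfl⟩ := Ideal.Quotient.mk_surjective y
    induction x using hpush.out.inductionOn with
    | zero => rw [map_zero]; exact zero_mem _
    | tmul a' =>
      have : Ideal.Quotient.mk J ((IsScalarTower.toAlgHom A A' B').toLinearMap a') = a' • q 1 := by
        rw [map_one, Algebra.smul_def, mul_one]; rfl
      rw [this]
      exact Submodule.smul_mem _ _ (hq 1)
    | smul b x hx =>
      have : ∀ z ∈ Submodule.span A' ((s.image q : Finset _) : Set (B' ⧸ J)),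
          q (Ideal.Quotient.mk _ b) * z ∈ Submodule.span A' ((s.image q : Finset _) : Set (B' ⧸ J)) := by
        intro z hz
        induction hz using Submodule.span_induction with
        | mem z hz =>
          obtain ⟨w, -, rfl⟩ := Finset.mem_image.1 hz
          rw [← map_mul]; exact hq _
        | zero => rw [mul_zero]; exact zero_mem _
        | add u v _ _ hu hv => rw [mul_add]; exact add_mem hu hv
        | smul c u _ hu => rw [mul_smul_comm]; exact Submodule.smul_mem _ _ hu
      rw [Algebra.smul_def, map_mul]
      exact this _ hx
    | add x y hx hy => rw [map_add]; exact add_mem hx hy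
  haveI : Algebra.IsIntegral A' (B' ⧸ J) := Algebra.IsIntegral.of_finite A' (B' ⧸ J)
  obtain ⟨Q, hQ, hQp, hQt⟩ := Ideal.exists_ideal_over_prime_of_isIntegral t (P.map (Ideal.Quotient.mk J)) (by
    intro x hx
    refine htt ?_
    rw [hPt'.over]
    show algebraMap A' B' x ∈ P
    have : algebraMap A' B' x ∈ Ideal.comap (Ideal.Quotient.mk J) (P.map (Ideal.Quotient.mk J)) := hx
    rwa [Ideal.comap_map_of_surjective' _ Ideal.Quotient.mk_surjective, Ideal.mk_ker, sup_eq_left.2 hJP] at this)
  exact hno (Q.comap (Ideal.Quotient.mk J)) (fun x hx => hQ (Ideal.mem_map_of_mem _ hx))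
    ⟨hQt.symm.trans (Ideal.comap_comap (I := Q) (algebraMap A' B') (Ideal.Quotient.mk J)).symm⟩

end Groth.Agent.S1224
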