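import Groth.Statements.S5171
import Groth.Agent.LocCohLib.NonVanishingApp

set_option autoImplicit false
universe u
open LocCoh

namespace Groth.Agent.S5171

/-- Let A be a Noetherian ring, J an ideal, n ≥ 0 and G a finite Cohen–Macaulay A-module (each
localization G_p is zero or Cohen–Macaulay). Then H^i_J(G) = 0 for i < n if and only if codim(V(J) ∩
Supp G, Supp G) ≥ n, i.e. dim Supp(G_p) ≥ n for every p ∈ V(J) ∩ Supp G. -/
theorem result (A : Type u) [CommRing A] [IsNoetherianRing A] (J : Ideal A) (G : Type u) [AddCommGroup G] [Module A G] [Module.Finite A G] (hCM : ∀ p : PrimeSpectrum A, Subsingleton (LocalizedModule p.asIdeal.primeCompl G) ∨ LocCoh.IsCohenMacaulayModule (Localization.AtPrime p.asIdeal) (LocalizedModule p.asIdeal.primeCompl G)) (n : ℕ) : (∀ i : ℕ, i < n → Subsingleton (LocCoh.H J i G)) ↔ ∀ p : PrimeSpectrum A, J ≤ p.asIdeal → p ∈ Module.support A G → (n : WithBot ℕ∞) ≤ Module.supportDim (Localization.AtPrime p.asIdeal) (LocalizedModule p.asIdeal.primeCompl G) := by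
  rw [← LocCohLib.le_idealDepth_iff_subsingleton_H, CommAlgDim.le_idealDepth_iff,
    CommAlgDim.hasSeqIn_iff_forall_localization]
  constructor
  · intro h p hp hsupp
    rcases hCM p with h0 | h0
    · exact absurd h0 (not_subsingleton_iff_nontrivial.2 hsupp)
    · rw [h0]
      exact WithBot.coe_le_coe.2 (h p.asIdeal hp)
  · intro h p _ hp
    rcases hCM ⟨p, ‹_›⟩ with h0 | h0
    · exact (CommAlgDim.le_depth_iff n).2 (CommAlgDim.hasSeqIn_of_subsingleton _ n)
    · rcases subsingleton_or_nontrivial (LocalizedModule p.primeCompl G) with hs | hs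
      · exact (CommAlgDim.le_depth_iff n).2 (CommAlgDim.hasSeqIn_of_subsingleton _ n)
      · have := h ⟨p, ‹_›⟩ hp (Module.mem_support_iff.2 hs)
        rw [h0] at this
        exact WithBot.coe_le_coe.1 this

end Groth.Agent.S5171
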