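import Groth.Statements.S5761
import Groth.Agent.J2Lib.Criterion
import Groth.Agent.SegreLC.Crit
import Groth.Agent.CommAlgDim.DepthBounds


-- import your own Groth.Agent.* helpers here

set_option autoImplicit false
universe u
open EGA41

namespace Groth.Agent.S5761

/-- Let A be a Noetherian local ring, M a nonzero finitely generated Cohen-Macaulay A-module and p a
prime ideal in the support of M. Then the localization M_p is a Cohen-Macaulay module over A_p. -/
theorem result (A : Type u) [CommRing A] [IsLocalRing A]
    [IsNoetherianRing A] (M : Type u) [AddCommGroup M] [Module A M] [Module.Finite A M]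
    (hM : LocCoh.IsCohenMacaulayModule A M) (p : PrimeSpectrum A) (hp : p ∈ Module.support A M) :
    LocCoh.IsCohenMacaulayModule (Localization.AtPrime p.asIdeal)
      (LocalizedModule p.asIdeal.primeCompl M) := by
  classical
  haveI hpp : p.asIdeal.IsPrime := p.2
  haveI : Nontrivial M := by
    by_contra h
    rw [not_nontrivial_iff_subsingleton] at h
    rw [Module.support_eq_empty] at hp
    exact hp
  haveI : Nontrivial (LocalizedModule p.asIdeal.primeCompl M) := hp
  haveI : Module.Finite (Localization.AtPrime p.asIdeal) (LocalizedModule p.asIdeal.primeCompl M) :=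
    Module.Finite.of_isLocalizedModule p.asIdeal.primeCompl (LocalizedModule.mkLinearMap p.asIdeal.primeCompl _)
  haveI : IsNoetherianRing (Localization.AtPrime p.asIdeal) := IsLocalization.isNoetherianRing p.asIdeal.primeCompl _ ‹_›
  refine le_antisymm ?_ (SegreLC.depth_le_supportDim _)
  let I := Module.annihilator A M
  have hIp : I ≤ p.asIdeal := Module.annihilator_le_of_mem_support hp
  let P : Ideal (A ⧸ I) := p.asIdeal.map (Ideal.Quotient.mk I)
  haveI hP : P.IsPrime := Ideal.map_isPrime_of_surjective Ideal.Quotient.mk_surjective (by rwa [Ideal.mk_ker])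
  have hcomap : P.comap (Ideal.Quotient.mk I) = p.asIdeal := by
    rw [Ideal.comap_map_of_surjective _ Ideal.Quotient.mk_surjective, sup_eq_left, ← RingHom.ker_eq_comap_bot, Ideal.mk_ker]
    exact hIp
  -- `dim M_p ≤ ht p̄`
  let B := Localization.AtPrime p.asIdeal
  have hsupp : Module.supportDim B (LocalizedModule p.asIdeal.primeCompl M) ≤ (P.height : WithBot ℕ∞) := by
    have key : ∀ q : PrimeSpectrum B, q ∈ Module.support B (LocalizedModule p.asIdeal.primeCompl M) →
        I ≤ q.asIdeal.comap (algebraMap A B) := fun q hq a ha => by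
      refine Module.annihilator_le_of_mem_support hq (Module.mem_annihilator.2 fun z => ?_)
      induction z using LocalizedModule.induction_on with
      | _ m s =>
        rw [algebraMap_smul, LocalizedModule.smul'_mk, Module.mem_annihilator.1 ha m, LocalizedModule.zero_mk]
    let f : ↥(Module.support B (LocalizedModule p.asIdeal.primeCompl M)) →
        Set.Iic (⟨P, hP⟩ : PrimeSpectrum (A ⧸ I)) := fun q =>
      ⟨⟨(q.1.asIdeal.comap (algebraMap A B)).map (Ideal.Quotient.mk I),
        Ideal.map_isPrime_of_surjective Ideal.Quotient.mk_surjective (by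
          rw [Ideal.mk_ker]; exact key q.1 q.2)⟩, Ideal.map_mono (by
          have := Ideal.comap_mono (f := algebraMap A B) (IsLocalRing.le_maximalIdeal (R := B) q.1.isPrime.ne_top)
          rwa [← Ideal.under_def, ← Ideal.under_def, Localization.AtPrime.under_maximalIdeal] at this)⟩
    have hf : StrictMono f := by
      intro a b hab
      have hab' : a.1.asIdeal < b.1.asIdeal := hab
      refine lt_of_le_of_ne ?_ fun he => ?_
      · exact Ideal.map_mono (f := Ideal.Quotient.mk I) (Ideal.comap_mono (f := algebraMap A B) hab'.le)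
      have he' : (a.1.asIdeal.comap (algebraMap A B)).map (Ideal.Quotient.mk I) =
          (b.1.asIdeal.comap (algebraMap A B)).map (Ideal.Quotient.mk I) :=
        congrArg (fun z => z.1.asIdeal) he
      have h1 := congrArg (Ideal.comap (Ideal.Quotient.mk I)) he'
      rw [Ideal.comap_map_quotientMk, Ideal.comap_map_quotientMk, sup_eq_right.2 (key a.1 a.2),
        sup_eq_right.2 (key b.1 b.2)] at h1
      apply hab'.ne
      exact (IsLocalization.map_under p.asIdeal.primeCompl B a.1.asIdeal).symm.trans
        ((congrArg (Ideal.map (algebraMap A B)) h1).trans (IsLocalization.map_under p.asIdeal.primeCompl B b.1.asIdeal))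
    rw [PrimeSpectrum.height_eq_orderHeight ⟨_, hP⟩, Order.height_eq_krullDim_Iic]
    exact Order.krullDim_le_of_strictMono f hf
  refine hsupp.trans (WithBot.coe_le_coe.2 (ENat.forall_natCast_le_iff_le.1 fun n hn => ?_))
  -- `ht (m / p) = dim A/p`
  let Q := (IsLocalRing.maximalIdeal A).map (Ideal.Quotient.mk p.asIdeal)
  haveI : IsLocalRing (A ⧸ p.asIdeal) := IsLocalRing.of_surjective' (Ideal.Quotient.mk p.asIdeal) Ideal.Quotient.mk_surjective
  have hQmax : Q = IsLocalRing.maximalIdeal (A ⧸ p.asIdeal) :=
    IsLocalRing.eq_maximalIdeal ((Ideal.map_eq_top_or_isMaximal_of_surjective _ Ideal.Quotient.mk_surjective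
      (IsLocalRing.maximalIdeal.isMaximal A)).resolve_left (by
        intro hQt
        refine (IsLocalRing.maximalIdeal.isMaximal A).ne_top ?_
        rw [← Ideal.comap_eq_top_iff (f := Ideal.Quotient.mk p.asIdeal), Ideal.comap_map_quotientMk,
          sup_eq_right.2 (IsLocalRing.le_maximalIdeal hpp.ne_top)] at hQt
        exact hQt))
  have hQ : (Q.height : WithBot ℕ∞) = ringKrullDim (A ⧸ p.asIdeal) := by
    rw [hQmax, IsLocalRing.maximalIdeal_height_eq_ringKrullDim]
  have hfin : Q.height ≠ ⊤ := by
    haveI : Q.IsPrime := hQmax ▸ (IsLocalRing.maximalIdeal.isMaximal _).isPrime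
    exact Ideal.height_ne_top_of_isPrime
  obtain ⟨h, hh⟩ := ENat.ne_top_iff_exists.1 hfin
  have hdepth : ((n + h : ℕ) : ℕ∞) ≤ LocCoh.depth A M := by
    refine WithBot.coe_le_coe.1 ?_
    rw [← hM, Module.supportDim_eq_ringKrullDim_quotient_annihilator]
    refine le_trans ?_ (J2Lib.ringKrullDim_quotient_add_height_le P)
    have e1 : ringKrullDim ((A ⧸ I) ⧸ P) = ringKrullDim (A ⧸ p.asIdeal) :=
      ringKrullDim_eq_of_ringEquiv ((DoubleQuot.quotQuotEquivQuotOfLE hIp))
    rw [e1, ← hQ, ← hh, Nat.add_comm, Nat.cast_add, WithBot.coe_add]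
    exact add_le_add le_rfl (WithBot.coe_le_coe.2 hn)
  exact (CommAlgDim.le_depth_iff n).2 (CommAlgDim.hasSeqIn_generization (IsLocalRing.le_maximalIdeal hpp.ne_top)
    hh.ge n M ((CommAlgDim.le_depth_iff (n + h)).1 hdepth |> fun hs => hs.localization le_rfl))

end Groth.Agent.S5761
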