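import Groth.Statements.S12630
import Mathlib.RingTheory.AdicCompletion.RingHom
import Mathlib.RingTheory.PowerSeries.Trunc
import Mathlib.RingTheory.PowerSeries.Order
import Mathlib.RingTheory.PowerSeries.Inverse
import Mathlib.Algebra.Polynomial.Div
import Mathlib.RingTheory.DiscreteValuationRing.Basic
-- import your own Groth.Agent.* helpers here

set_option autoImplicit false
universe u v
open CAlg

namespace Groth.Agent.S12630

/-- Let `A` be a complete discrete valuation ring containing a field `K` that maps bijectively onto the
residue field (a coefficient field). Then for every generator `x` of the maximal ideal there is a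
`K`-algebra isomorphism from the formal power series ring `K[[t]]` onto `A` sending `t` to `x`; it
extends the evaluation map `K[t] → A`, `t ↦ x`, and is the only `K`-algebra map `K[[t]] → A` with `t
↦ x` since `A` is separated. (The first assertion, the mere existence of an isomorphism with a power
series ring, is the one-variable case of the structure of complete regular local rings with a
coefficient field and is not restated.) -/
theorem result (K : Type u) (A : Type v) [Field K]
    [CommRing A] [IsDomain A] [IsDiscreteValuationRing A] [IsAdicComplete (IsLocalRing.maximalIdeal A) A]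
    [Algebra K A] (hK : Function.Bijective (algebraMap K (IsLocalRing.ResidueField A)))
    (x : A) (hx : IsLocalRing.maximalIdeal A = Ideal.span {x}) :
    ∃ e : PowerSeries K ≃ₐ[K] A, e PowerSeries.X = x := by
  classical
  set m := IsLocalRing.maximalIdeal A with hm
  have hxm : ∀ n, x ^ n ∈ m ^ n := fun n => Ideal.pow_mem_pow (hx ▸ Ideal.mem_span_singleton_self x) n
  -- evaluation of polynomials kills `X ^ n` modulo `m ^ n`
  have cong : ∀ (n : ℕ) (P Q : Polynomial K), (∀ i < n, P.coeff i = Q.coeff i) →
      Ideal.Quotient.mk (m ^ n) (Polynomial.aeval x P) = Ideal.Quotient.mk (m ^ n) (Polynomial.aeval x Q) := by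
    intro n P Q h
    obtain ⟨R, hR⟩ : Polynomial.X ^ n ∣ P - Q :=
        (Polynomial.X_pow_dvd_iff).mpr fun i hi => by rw [Polynomial.coeff_sub, h i hi, sub_self]
    rw [Ideal.Quotient.eq, ← map_sub, hR, map_mul, map_pow, Polynomial.aeval_X]
    exact Ideal.mul_mem_right _ _ (hxm n)
  let F : (n : ℕ) → PowerSeries K →+* A ⧸ m ^ n := fun n =>
    { toFun := fun f => Ideal.Quotient.mk (m ^ n) (Polynomial.aeval x (PowerSeries.trunc n f))
      map_one' := by
        rw [← map_one (Ideal.Quotient.mk (m ^ n)), ← map_one (Polynomial.aeval (R := K) x)]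
        refine cong n _ _ fun i hi => ?_
        simp [PowerSeries.coeff_trunc, hi, Polynomial.coeff_one, PowerSeries.coeff_one]
      map_mul' := fun f g => by
        rw [← map_mul, ← map_mul]
        refine cong n _ _ fun i hi => ?_
        rw [PowerSeries.coeff_trunc, if_pos hi, PowerSeries.coeff_mul, Polynomial.coeff_mul]
        refine Finset.sum_congr rfl fun p hp => ?_
        rw [Finset.HasAntidiagonal.mem_antidiagonal] at hp
        rw [PowerSeries.coeff_trunc, if_pos (by omega), PowerSeries.coeff_trunc, if_pos (by omega)]
      map_zero' := by simp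
      map_add' := fun f g => by simp }
  have hF : ∀ {a b : ℕ} (hle : a ≤ b), (Ideal.Quotient.factorPow m hle).comp (F b) = F a := by
    intro a b hle
    refine RingHom.ext fun f => ?_
    show Ideal.Quotient.mk (m ^ a) (Polynomial.aeval x (PowerSeries.trunc b f)) = _
    exact cong a _ _ fun i hi => by simp [PowerSeries.coeff_trunc, hi, hi.trans_le hle]
  let φ : PowerSeries K →ₐ[K] A :=
    { IsAdicComplete.liftRingHom m F hF with
      commutes' := fun r => by
        refine (IsHausdorff.eq_iff_smodEq (I := m)).mpr fun n => ?_
        rw [smul_eq_mul, Ideal.mul_top, SModEq.idealQuotientMk]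
        show Ideal.Quotient.mk (m ^ n) (IsAdicComplete.liftRingHom m F hF _) = _
        rw [IsAdicComplete.mk_liftRingHom]
        show Ideal.Quotient.mk (m ^ n) (Polynomial.aeval x _) = _
        rw [← Polynomial.aeval_C (R := K) x r]
        refine cong n _ _ fun i hi => ?_
        simp [PowerSeries.coeff_trunc, hi, Polynomial.coeff_C, PowerSeries.algebraMap_apply, PowerSeries.coeff_C] }
  have hφ : ∀ n f, Ideal.Quotient.mk (m ^ n) (φ f) = Ideal.Quotient.mk (m ^ n) (Polynomial.aeval x (PowerSeries.trunc n f)) :=
    fun n f => IsAdicComplete.mk_liftRingHom m F hF n f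
  have hX : φ PowerSeries.X = x := by
    refine (IsHausdorff.eq_iff_smodEq (I := m)).mpr fun n => ?_
    rw [smul_eq_mul, Ideal.mul_top, SModEq.idealQuotientMk, hφ]
    conv_rhs => rw [← Polynomial.aeval_X (R := K) x]
    refine (cong n _ _ fun i hi => ?_)
    simp [PowerSeries.coeff_trunc, hi, Polynomial.coeff_X, PowerSeries.coeff_X, eq_comm]
  have hx0 : x ≠ 0 := fun e => IsDiscreteValuationRing.not_a_field A (by rw [← hm, hx, e, Ideal.span_singleton_eq_bot])
  refine ⟨AlgEquiv.ofBijective φ ⟨(injective_iff_map_eq_zero φ).mpr fun f hf => ?_, fun a => ?_⟩, hX⟩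
  · by_contra hne
    have h := congrArg φ (PowerSeries.X_pow_order_mul_divXPowOrder (f := f))
    rw [map_mul, map_pow, hX, hf, mul_eq_zero] at h
    rcases h with h | h
    · exact hx0 (eq_zero_of_pow_eq_zero h)
    · have hu : IsUnit (PowerSeries.divXPowOrder f) := (PowerSeries.isUnit_iff_constantCoeff).mpr
        (isUnit_iff_ne_zero.mpr (by rw [Ne, PowerSeries.constantCoeff_divXPowOrder_eq_zero_iff]; exact hne))
      exact (hu.map φ).ne_zero h
  · have step : ∀ b : A, ∃ c : K, ∃ b' : A, b = algebraMap K A c + x * b' := fun b => by
      obtain ⟨c, hc⟩ := hK.2 (IsLocalRing.residue A b)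
      have : b - algebraMap K A c ∈ m := by
        rw [hm, ← IsLocalRing.residue_eq_zero_iff, map_sub, sub_eq_zero, ← hc]
        exact IsScalarTower.algebraMap_apply K A (IsLocalRing.ResidueField A) c
      rw [hx, Ideal.mem_span_singleton'] at this
      obtain ⟨b', hb'⟩ := this
      exact ⟨c, b', by rw [mul_comm, hb']; ring⟩
    choose c b' hb using step
    let s : ℕ → A := fun n => b'^[n] a
    refine ⟨PowerSeries.mk fun n => c (s n), (IsHausdorff.eq_iff_smodEq (I := m)).mpr fun n => ?_⟩
    rw [smul_eq_mul, Ideal.mul_top, SModEq.idealQuotientMk, hφ]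
    have key : ∀ N, a = Polynomial.aeval x (PowerSeries.trunc N (PowerSeries.mk fun n => c (s n))) + x ^ N * s N := by
      intro N
      induction N with
      | zero => simp [s]
      | succ N ih =>
        rw [PowerSeries.trunc_succ, map_add, Polynomial.aeval_monomial, PowerSeries.coeff_mk]
        conv_lhs => rw [ih, hb (s N)]
        rw [show s (N + 1) = b' (s N) from Function.iterate_succ_apply' b' N a]
        ring
    conv_rhs => rw [key n]
    rw [map_add, Ideal.Quotient.eq_zero_iff_mem.mpr (Ideal.mul_mem_right _ _ (hxm n)), add_zero]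

end Groth.Agent.S12630
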