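import Groth.Statements.S4690
import Groth.Agent.DimFibreLib.Main

set_option autoImplicit false
universe u
open EGA4

namespace Groth.Agent.S4690

open AlgebraicGeometry CategoryTheory in
/-- Let Y be an irreducible locally Noetherian scheme, X an irreducible scheme and f : X → Y a dominant
morphism locally of finite type; let e be the dimension of the generic fibre of f. Then dim X ≤ dim
Y + e. If moreover every local ring of Y is universally catenary, the two sides are equal if and
only if dim Y equals the supremum of the dimensions of the local rings of Y at the points of f(X). -/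
theorem result {X Y : Scheme.{u}} (f : X ⟶ Y) [IsLocallyNoetherian Y]
    [LocallyOfFiniteType f] [IrreducibleSpace X] [IrreducibleSpace Y] (hf : DenseRange f.base) :
    topologicalKrullDim X ≤ topologicalKrullDim Y + topologicalKrullDim (f.fiber (genericPoint Y)) ∧
      ((∀ y : Y, CAlg.IsUniversallyCatenary (Y.presheaf.stalk y)) →
        (topologicalKrullDim X = topologicalKrullDim Y + topologicalKrullDim (f.fiber (genericPoint Y)) ↔
          topologicalKrullDim Y = ⨆ y ∈ Set.range f.base, ringKrullDim (Y.presheaf.stalk y))) := by
  obtain ⟨e, he⟩ := DimFibreLib.exists_generic_fibre_dim f hf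
  rw [he]
  refine ⟨DimFibreLib.dim_le_of_stalks _ fun x => (DimFibreLib.stalk_le f hf e he x).trans
    (add_le_add (DimIneqLib.stalk_dim_le_dim _) le_rfl), fun hcat => ?_⟩
  have hdim : topologicalKrullDim X = (⨆ y ∈ Set.range f.base, ringKrullDim (Y.presheaf.stalk y)) + e := by
    refine le_antisymm (DimFibreLib.dim_le_of_stalks _ fun x => (DimFibreLib.stalk_le f hf e he x).trans
        (add_le_add ?_ le_rfl))
      (DimFibreLib.biSup_add_le _ _ e _ ⟨f.base (genericPoint X), genericPoint X, rfl⟩
        (fun y _ => ringKrullDim_nonneg_of_nontrivial)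
        fun y hy => DimFibreLib.exists_stalk_eq f hf e he hy (hcat y))
    exact le_iSup₂ (f := fun y (_ : y ∈ Set.range f.base) => ringKrullDim (Y.presheaf.stalk y)) (f.base x) ⟨x, rfl⟩
  rw [hdim]
  exact ⟨fun h => (EquidimLib.withBot_add_natCast_cancel h).symm, fun h => by rw [← h]⟩

end Groth.Agent.S4690
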