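import Groth.Statements.S1297
import Groth.Agent.MiscFlat6.ProperSections
-- import your own Groth.Agent.* helpers here

set_option autoImplicit false
universe u
open FlatMor

namespace Groth.Agent.S1297

open AlgebraicGeometry CategoryTheory Limits in
/-- Stein factorization, Noetherian case: let f : X → S be a proper morphism with S locally Noetherian.
Then the normalization of S in X is finite over S (so that the Stein factorization of f is a proper
morphism with geometrically connected fibres followed by a finite morphism). -/
theorem result {X S : Scheme.{u}} (f : X ⟶ S) [IsProper f] [IsLocallyNoetherian S] :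
    IsFinite f.fromNormalization := by
  refine ⟨fun U hU => ?_⟩
  have : IsNoetherianRing Γ(S, U) := IsLocallyNoetherian.component_noetherian ⟨U, hU⟩
  letI := (f.app U).hom.toAlgebra
  have : Module.Finite Γ(S, U) Γ(X, f ⁻¹ᵁ U) := MiscFlat6.app_finite f hU
  have : IsNoetherian Γ(S, U) Γ(X, f ⁻¹ᵁ U) := isNoetherian_of_isNoetherianRing_of_finite _ _
  have hA : (algebraMap Γ(S, U) (integralClosure Γ(S, U) Γ(X, f ⁻¹ᵁ U))).Finite :=
    RingHom.finite_algebraMap.mpr (Module.IsNoetherian.finite Γ(S, U)
      (Subalgebra.toSubmodule (integralClosure Γ(S, U) Γ(X, f ⁻¹ᵁ U))))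
  rw [f.fromNormalization_app hU]
  exact RingHom.Finite.comp (RingHom.Finite.of_surjective _
    (ConcreteCategory.bijective_of_isIso (f.normalizationObjIso hU).inv).2) hA

end Groth.Agent.S1297
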