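import Groth.Statements.S18734
import Mathlib
-- helpers

set_option autoImplicit false
universe u
open CategoryTheory CategoryTheory.Limits AlgebraicGeometry TopologicalSpace
open ModPair

namespace Groth.Agent.S18734

theorem exists_dvd_all {R : Type u} [CommRing R] [IsDomain R] [ValuationRing R] (g : ℕ → R) (s : Finset ℕ)
    (hs : s.Nonempty) : ∃ j ∈ s, ∀ i ∈ s, g j ∣ g i := by
  induction hs using Finset.Nonempty.cons_induction with
  | singleton a => exact ⟨a, Finset.mem_singleton_self a, fun i hi => by rw [Finset.mem_singleton.mp hi]⟩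
  | cons a t _ _ ih =>
    obtain ⟨j, hj, hall⟩ := ih
    rcases ValuationRing.dvd_total (g a) (g j) with h | h
    · refine ⟨a, Finset.mem_cons_self a t, fun i hi => ?_⟩
      rcases Finset.mem_cons.mp hi with rfl | hi
      exacts [dvd_rfl, h.trans (hall i hi)]
    · refine ⟨j, Finset.mem_cons_of_mem hj, fun i hi => ?_⟩
      rcases Finset.mem_cons.mp hi with rfl | hi
      exacts [h, hall i hi]

open TensorProduct in
theorem exists_primitive {R B : Type u} [CommRing R] [IsDomain R] [ValuationRing R] [CommRing B] [Algebra R B]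
    [Module.Flat R B] [Module.Finite (FractionRing R) (FractionRing R ⊗[R] B)] (b : B) :
    ∃ h : Polynomial R, (∃ j, h.coeff j = 1) ∧ Polynomial.aeval b h = 0 := by
  obtain ⟨G, hG, hG0⟩ := IsIntegral.of_finite (FractionRing R) ((1 : FractionRing R) ⊗ₜ[R] b)
  let g := IsLocalization.integerNormalization (nonZeroDivisors R) G
  have hgne : g ≠ 0 := by
    intro h0
    obtain ⟨c, hc⟩ := IsLocalization.integerNormalization_map_to_map (nonZeroDivisors R) G
    have h1 : (IsLocalization.integerNormalization (nonZeroDivisors R) G) = 0 := h0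
    rw [h1, Polynomial.map_zero] at hc
    have := congrArg (fun P => Polynomial.coeff P G.natDegree) hc
    simp only [Polynomial.coeff_zero, Polynomial.coeff_smul, hG.coeff_natDegree] at this
    rw [Algebra.smul_def, mul_one] at this
    exact nonZeroDivisors.coe_ne_zero c (IsFractionRing.injective R (FractionRing R) (this.symm.trans (map_zero _).symm))
  have hg0 : Polynomial.aeval b g = 0 := by
    have h2 : Polynomial.aeval ((1 : FractionRing R) ⊗ₜ[R] b) g = 0 :=
      IsLocalization.integerNormalization_aeval_eq_zero _ _ hG0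
    have h3 : ((1 : FractionRing R) ⊗ₜ[R] b) =
        (Algebra.TensorProduct.includeRight : B →ₐ[R] FractionRing R ⊗[R] B) b := rfl
    rw [h3, Polynomial.aeval_algHom_apply] at h2
    exact Algebra.TensorProduct.includeRight_injective (IsFractionRing.injective R (FractionRing R))
      (h2.trans (map_zero _).symm)
  obtain ⟨j, hj, hall⟩ := exists_dvd_all g.coeff g.support (Polynomial.support_nonempty.mpr hgne)
  have hdvd : Polynomial.C (g.coeff j) ∣ g := Polynomial.C_dvd_iff_dvd_coeff _ _ |>.mpr fun i => by
    by_cases hi : i ∈ g.support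
    · exact hall i hi
    · rw [Polynomial.notMem_support_iff.mp hi]; exact dvd_zero _
  obtain ⟨h, hh⟩ := hdvd
  have hjne : g.coeff j ≠ 0 := Polynomial.mem_support_iff.mp hj
  refine ⟨h, ⟨j, ?_⟩, ?_⟩
  · have := congrArg (fun P => Polynomial.coeff P j) hh
    simp only [Polynomial.coeff_C_mul] at this
    exact mul_left_cancel₀ hjne (this.symm.trans (mul_one _).symm)
  · rw [hh, map_mul, Polynomial.aeval_C, ← Algebra.smul_def] at hg0
    exact (smul_eq_zero_iff_right hjne).mp hg0

open TensorProduct in
theorem quasiFinite_of_generic {R B : Type u} [CommRing R] [IsDomain R] [ValuationRing R] [CommRing B] [Algebra R B]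
    [Algebra.FiniteType R B] [Module.Flat R B]
    [Module.Finite (FractionRing R) (FractionRing R ⊗[R] B)] : Algebra.QuasiFinite R B := by
  have hmax : ∀ q q' : Ideal B, q.IsPrime → q'.IsPrime → q ≤ q' →
      q.comap (algebraMap R B) = q'.comap (algebraMap R B) → q' ≤ q := by
    intro q q' hq hq' hle hcomap b hb
    by_contra hbq
    obtain ⟨h, ⟨j, hj⟩, h0⟩ := exists_primitive (R := R) b
    let p := q.comap (algebraMap R B)
    classical
    have hex : ∃ i, h.coeff i ∉ p := ⟨j, fun hjp => hq.ne_top ((Ideal.eq_top_iff_one _).mpr (by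
      rw [hj] at hjp; simpa [p] using hjp))⟩
    let i0 := Nat.find hex
    let π := Ideal.Quotient.mk q
    have hX : Polynomial.X ^ i0 ∣ h.map (π.comp (algebraMap R B)) := Polynomial.X_pow_dvd_iff.mpr fun d hd => by
      rw [Polynomial.coeff_map, RingHom.comp_apply, Ideal.Quotient.eq_zero_iff_mem]
      exact not_not.mp (Nat.find_min hex hd)
    obtain ⟨t, ht⟩ := hX
    haveI := Ideal.Quotient.isDomain q
    have he : (h.map (π.comp (algebraMap R B))).eval (π b) = 0 := by
      rw [Polynomial.eval_map, ← Polynomial.hom_eval₂]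
      rw [← Polynomial.aeval_def, h0, map_zero]
    rw [ht, Polynomial.eval_mul, Polynomial.eval_pow, Polynomial.eval_X] at he
    have hπb : π b ≠ 0 := fun e => hbq (Ideal.Quotient.eq_zero_iff_mem.mp e)
    have ht0 : t.eval (π b) = 0 := (mul_eq_zero.mp he).resolve_left (pow_ne_zero _ hπb)
    have hc : π (algebraMap R B (h.coeff i0)) = t.coeff 0 := by
      have := congrArg (fun P => Polynomial.coeff P i0) ht
      simpa [Polynomial.coeff_map, Polynomial.coeff_X_pow_mul'] using this
    obtain ⟨t', ht'⟩ := Polynomial.X_dvd_sub_C (p := t)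
    have h1 : t.coeff 0 ∈ q'.map π := by
      have h2 := congrArg (Polynomial.eval (π b)) ht'
      rw [Polynomial.eval_sub, ht0, Polynomial.eval_C, Polynomial.eval_mul, Polynomial.eval_X, zero_sub,
        neg_eq_iff_eq_neg] at h2
      rw [h2]
      exact neg_mem (Ideal.mul_mem_right _ _ (Ideal.mem_map_of_mem _ hb))
    rw [← hc, Ideal.mem_quotient_iff_mem hle] at h1
    exact Nat.find_spec hex (show h.coeff i0 ∈ p by rw [show p = _ from hcomap]; exact h1)
  refine ⟨fun P hP => ?_⟩
  haveI : Algebra.FiniteType P.ResidueField (P.Fiber B) := inferInstance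
  haveI : IsNoetherianRing (P.Fiber B) := Algebra.FiniteType.isNoetherianRing P.ResidueField _
  haveI : Ring.KrullDimLE 0 (P.Fiber B) := Ring.krullDimLE_zero_iff.mpr fun J hJ => by
    obtain ⟨M, hM, hJM⟩ := Ideal.exists_le_maximal J hJ.ne_top
    let e := (PrimeSpectrum.preimageOrderIsoFiber R B ⟨P, hP⟩).symm
    have hle : e ⟨J, hJ⟩ ≤ e ⟨M, hM.isPrime⟩ := e.monotone hJM
    have hc : (e ⟨J, hJ⟩).1.asIdeal.comap (algebraMap R B) = (e ⟨M, hM.isPrime⟩).1.asIdeal.comap (algebraMap R B) :=
      congrArg PrimeSpectrum.asIdeal ((e ⟨J, hJ⟩).2.trans (e ⟨M, hM.isPrime⟩).2.symm)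
    have heq : e ⟨J, hJ⟩ = e ⟨M, hM.isPrime⟩ :=
      Subtype.ext (PrimeSpectrum.ext (le_antisymm hle (hmax _ _ (e _).1.2 (e _).1.2 hle hc)))
    have := congrArg PrimeSpectrum.asIdeal (e.injective heq)
    simp only at this
    rwa [this]
  haveI : IsArtinianRing (P.Fiber B) := IsNoetherianRing.isArtinianRing_of_krullDimLE_zero
  exact Module.finite_of_isArtinianRing P.ResidueField (P.Fiber B)

/-- Let R be a valuation ring with fraction field K and f : Y ⟶ Spec R a morphism of schemes which is
flat, proper and generically finite (the generic fibre Y ×_{Spec R} Spec K ⟶ Spec K is a finite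
morphism). Then f is finite. No finite-presentation hypothesis is assumed. -/
theorem result {R : Type u} [CommRing R]
    [IsDomain R] [ValuationRing R] {Y : Scheme.{u}} (f : Y ⟶ Spec (CommRingCat.of R)) [Flat f] [IsProper f]
    (hgen : IsFinite (pullback.snd f
      (Spec.map (CommRingCat.ofHom (algebraMap R (FractionRing R)))))) :
    IsFinite f := by
  suffices LocallyQuasiFinite f from IsFinite.of_isProper_of_locallyQuasiFinite f
  let K := FractionRing R
  let sK := Spec.map (CommRingCat.ofHom (algebraMap R K))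
  refine (IsZariskiLocalAtSource.iff_of_openCover (P := @LocallyQuasiFinite) Y.affineOpenCover.openCover).mpr fun i => ?_
  let B := Y.affineOpenCover.X i
  let g : Spec B ⟶ Spec (CommRingCat.of R) := Y.affineOpenCover.f i ≫ f
  show LocallyQuasiFinite g
  obtain ⟨φ, hφ⟩ := Spec.map_surjective g
  letI : Algebra R B := φ.hom.toAlgebra
  have hφ' : Spec.map (CommRingCat.ofHom (algebraMap R B)) = g := hφ
  haveI : Module.Flat R B := by
    have : Flat (Spec.map φ) := hφ.symm ▸ inferInstance
    exact RingHom.flat_algebraMap_iff.mp (Flat.SpecMap_iff.mp this)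
  haveI : Algebra.FiniteType R B := by
    have h1 : LocallyOfFiniteType (Spec.map φ) := hφ.symm ▸ inferInstance
    exact RingHom.finiteType_algebraMap.mp ((HasRingHomProperty.Spec_iff (P := @LocallyOfFiniteType)).mp h1)
  haveI : Module.Finite K (TensorProduct R K B) := by
    have sq := isPullback_SpecMap_of_isPushout _ _ _ _ (CommRingCat.isPushout_tensorProduct R K B)
    rw [hφ'] at sq
    haveI := hgen
    have h1 : LocallyQuasiFinite (pullback.snd g sK) := by
      rw [← pullbackRightPullbackFstIso_inv_snd_snd f sK (Y.affineOpenCover.f i)]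
      infer_instance
    let e := sq.flip.isoPullback
    have h2 : LocallyQuasiFinite (e.hom ≫ pullback.snd g sK) := inferInstance
    rw [IsPullback.isoPullback_hom_snd] at h2
    have h3 := (HasRingHomProperty.Spec_iff (P := @LocallyQuasiFinite)).mp h2
    haveI : Algebra.QuasiFinite K (TensorProduct R K B) := RingHom.quasiFinite_algebraMap.mp h3
    exact Module.Finite.of_quasiFinite
  haveI := quasiFinite_of_generic (R := R) (B := B)
  rw [← hφ', HasRingHomProperty.Spec_iff (P := @LocallyQuasiFinite)]
  exact RingHom.quasiFinite_algebraMap.mpr ‹_›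

end Groth.Agent.S18734
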