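import Groth.Statements.S1655
import Groth.Agent.BiratLib.Finite

set_option autoImplicit false
universe u
open CategoryTheory CategoryTheory.Limits AlgebraicGeometry
open Variety

namespace Groth.Agent.S1655

/-- Let X be a Noetherian integral scheme, Y an integral scheme, and f : Y → X a proper morphism that
restricts to an isomorphism over some nonempty open subscheme of X. If x is a point of X whose local
ring is integrally closed and f is quasi-finite at some point lying over x, then f restricts to an
isomorphism over an open neighbourhood of x. -/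
theorem result {X Y : Scheme.{u}} [IsNoetherian X] [IsIntegral X] [IsIntegral Y]
    (f : Y ⟶ X) [IsProper f] (W : X.Opens) (hW : (W : Set X).Nonempty) (hfW : IsIso (f ∣_ W))
    (x : X) (hx : IsIntegrallyClosed (X.presheaf.stalk x)) (y : Y) (hy : f.base y = x) (hq : f.QuasiFiniteAt y) :
    ∃ V : X.Opens, x ∈ V ∧ IsIso (f ∣_ V) := by
  haveI : Nonempty W := hW.to_subtype
  have hηW : genericPoint X ∈ W := ((genericPoint_spec X).mem_open_set_iff W.isOpen).mpr (by simpa using hW)
  have hdom : f.base (genericPoint Y) = genericPoint X := by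
    haveI := hfW
    obtain ⟨⟨z, hz⟩, hzη⟩ := (f ∣_ W).homeomorph.surjective ⟨genericPoint X, hηW⟩
    replace hzη : f.base z = genericPoint X :=
      (morphismRestrict_base_coe f W ⟨z, hz⟩).symm.trans (congrArg Subtype.val hzη)
    have h1 : f.base (genericPoint Y) ⤳ f.base z := ((genericPoint_spec Y).specializes trivial).map f.continuous
    rw [hzη] at h1
    exact (h1.antisymm ((genericPoint_spec X).specializes trivial)).eq
  have hbir : IsIso (f.stalkMap (genericPoint Y)) := by
    haveI := hfW
    have hη : genericPoint Y ∈ f ⁻¹ᵁ W := by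
      show f.base (genericPoint Y) ∈ W
      rw [hdom]; exact hηW
    exact ((MorphismProperty.isomorphisms CommRingCat).arrow_mk_iso_iff
      (morphismRestrictStalkMap f W ⟨_, hη⟩)).mp (inferInstance : IsIso ((f ∣_ W).stalkMap _))
  let π := f.fromNormalization
  let τ := f.toNormalization
  have hτπ : τ ≫ π = f := f.toNormalization_fromNormalization
  have hτη : τ.base (genericPoint Y) = genericPoint f.normalization :=
    BiratLib.map_genericPoint_of_isDominant τ
  have hπη : π.base (genericPoint f.normalization) = genericPoint X := by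
    rw [← hτη]
    exact (Scheme.Hom.comp_apply τ π _).symm.trans ((congrArg (fun g : Y ⟶ X => g.base (genericPoint Y)) hτπ).trans hdom)
  have hπbij : Function.Bijective (π.stalkMap (genericPoint f.normalization)).hom :=
    BiratLib.bijective_stalkMap_of_comp τ π hτη (by rw [hτπ]; exact hbir)
  have hsing : ∀ z₁ z₂ : f.normalization, π.base z₁ = x → π.base z₂ = x → z₁ = z₂ :=
    BiratLib.eq_of_integral π hπη hπbij hx
  obtain ⟨U₀, hU₀, hU₀qf⟩ := f.exists_isIso_morphismRestrict_toNormalization
  have hclosed : IsClosed (π.base '' (U₀ : Set f.normalization)ᶜ) :=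
    π.isClosedMap _ U₀.isOpen.isClosed_compl
  let V₀ : X.Opens := ⟨_, hclosed.isOpen_compl⟩
  have hxV₀ : x ∈ V₀ := by
    rintro ⟨z, hz, hzx⟩
    refine hz ?_
    rw [hsing z (τ.base y) hzx ((Scheme.Hom.comp_apply τ π y).symm.trans
      ((congrArg (fun g : Y ⟶ X => g.base y) hτπ).trans hy))]
    exact hU₀qf.ge (Set.mem_setOf.mpr hq)
  have hle : f ⁻¹ᵁ V₀ ≤ f.quasiFiniteLocus := fun z hz => by
    refine hU₀qf.le (show τ.base z ∈ U₀ from ?_)
    by_contra hn
    exact hz ⟨τ.base z, hn, (Scheme.Hom.comp_apply τ π z).symm.trans (congrArg (fun g : Y ⟶ X => g.base z) hτπ)⟩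
  haveI : LocallyQuasiFinite ((f ⁻¹ᵁ V₀).ι ≫ f) := by
    rw [← Scheme.Hom.quasiFiniteLocus_eq_top_iff, Scheme.Hom.quasiFiniteLocus_comp, eq_top_iff]
    exact fun z _ => hle z.2
  haveI : LocallyQuasiFinite (f ∣_ V₀) := by
    have h : LocallyQuasiFinite (f ∣_ V₀ ≫ V₀.ι) := by rw [morphismRestrict_ι]; infer_instance
    exact LocallyQuasiFinite.of_comp _ V₀.ι
  exact BiratLib.exists_isIso_near' f (IsFinite.of_isProper_of_locallyQuasiFinite (f ∣_ V₀)) hdom hbir x hxV₀ hx

end Groth.Agent.S1655
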