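import Groth.Statements.S3254
import Groth.Agent.RegConLib.Castelnuovo

set_option autoImplicit false
universe u
open AlgebraicGeometry CategoryTheory CategoryTheory.Limits
open ArSurf

set_option backward.isDefEq.respectTransparency false
set_option backward.isDefEq.respectTransparency.types false
namespace Groth.Agent.S3254

/-- Castelnuovo's criterion, existence of the contraction: let R be a discrete valuation ring with
residue field k, X an arithmetic surface over Spec R, and E a vertical prime divisor of X over the
closed point such that, for some finite field extension k' of k, E is k-isomorphic to the projective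
line over k', and E · E = −[k' : k], where E · E = deg_k(L|_E) for an invertible L with L ⊗ I(E) ≅
O_X. Then there are an arithmetic surface Y over Spec R, an R-morphism f : X → Y and a closed point
y of Y such that f maps E onto y, the inverse image of Y minus y is exactly X minus E, and f
restricts to an isomorphism from X minus E onto Y minus y. -/
theorem result (R : Type u) [CommRing R] [IsDomain R] [IsDiscreteValuationRing R]
    (X : Over (Spec (CommRingCat.of R))) (hX : ArSurf.IsArithSurface R X) (E : ArSurf.VertComp R X)
    (k' : Type u) [Field k'] [Algebra (IsLocalRing.ResidueField R) k'] [FiniteDimensional (IsLocalRing.ResidueField R) k']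
    (e : E.curve.left ≅ CohB1.ProjSpace 1 k')
    (he : e.hom ≫ (CohB1.ProjSpace 1 k' ↘ Spec (CommRingCat.of k')) ≫
      Spec.map (CommRingCat.ofHom (algebraMap (IsLocalRing.ResidueField R) k')) = E.curve.hom)
    (L : X.left.Modules) (hL : ClSub.IsInverseOf L (ClSub.idealMod E.ι.ker))
    (hself : ArSurf.inter R X L E = -(Module.finrank (IsLocalRing.ResidueField R) k' : ℤ)) :
    ∃ (Y : Over (Spec (CommRingCat.of R))) (f : X ⟶ Y) (y : Y.left) (hy : IsClosed ({y} : Set Y.left)),
      ArSurf.IsArithSurface R Y ∧ Set.range (E.ι ≫ f.left) = {y} ∧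
      (f.left ⁻¹ᵁ (⟨{y}ᶜ, hy.isOpen_compl⟩ : Y.left.Opens) : Set X.left) = (Set.range E.ι)ᶜ ∧
      IsIso (f.left ∣_ (⟨{y}ᶜ, hy.isOpen_compl⟩ : Y.left.Opens)) := by
  obtain ⟨Y, f, y, hy, hYi, hYn, hYd, hYf, hYp, hr, hpre, hiso, hcot⟩ :=
    RegConLib.exists_contraction_line hX E e he L hL 1 le_rfl (by rw [hself]; simp)
  haveI := hYi
  haveI := hiso
  haveI : IsLocallyNoetherian Y.left := by
    obtain ⟨n, i, hi, w⟩ := hYp
    haveI := hi
    haveI := ChowLib.isProper_toBase n (Spec (CommRingCat.of R))
    haveI : IsProper Y.hom := by rw [← w]; infer_instance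
    exact LocallyOfFiniteType.isLocallyNoetherian Y.hom
  exact ⟨Y, f, y, hy, ⟨RegConLib.regular_of_contraction hX.1 hYn f.left hy hcot, hYi, hYd, hYf, hYp⟩, hr, hpre, hiso⟩

end Groth.Agent.S3254
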