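import Groth.Statements.S0345
import Groth.Agent.GorLib.Basic
import Mathlib.RingTheory.LocalProperties.InjectiveDimension
import Mathlib.RingTheory.Localization.Submodule
import Mathlib.RingTheory.Ideal.Height

set_option autoImplicit false
universe u v
open Goren

namespace Groth.Agent.S0345

/-- For a Noetherian ring A, the A-module A has finite injective dimension exactly when every
localization of A at a prime is Gorenstein and A has finite Krull dimension. -/
theorem result (A : Type u) [CommRing A] [IsNoetherianRing A] : (∃ n : ℕ, CategoryTheory.HasInjectiveDimensionLT (ModuleCat.of A A) n) ↔ (LocCoh.IsGorensteinRing A ∧ ringKrullDim A < ⊤) := by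
  have hloc0 : ∀ (p : Ideal A) [p.IsPrime],
      IsLocalizedModule p.primeCompl ((ModuleCat.of A A).localizedModuleMkLinearMap p.primeCompl) :=
    fun p _ => ModuleCat.localizedModule_isLocalizedModule (R := A) (ModuleCat.of A A) p.primeCompl
  let e : ∀ (p : Ideal A) [p.IsPrime],
      ((ModuleCat.of A A).localizedModule p.primeCompl) ≃ₗ[Localization.AtPrime p] Localization.AtPrime p := fun p _ =>
    haveI := hloc0 p
    LinearEquiv.extendScalarsOfIsLocalization p.primeCompl (Localization.AtPrime p)
      (IsLocalizedModule.linearEquiv p.primeCompl ((ModuleCat.of A A).localizedModuleMkLinearMap p.primeCompl)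
        (Algebra.linearMap A (Localization.AtPrime p)))
  constructor
  · rintro ⟨n, hn⟩
    have hloc : ∀ (p : Ideal A) [p.IsPrime], GorLib.IDLT (Localization.AtPrime p) (Localization.AtPrime p) (n + 1) := by
      intro p _
      haveI : CategoryTheory.HasInjectiveDimensionLE (ModuleCat.of A A) n := GorLib.idlt_mono (R := A) (M := A) (Nat.le_succ n) hn
      exact GorLib.idlt_of_equiv (e p) (ModuleCat.localizedModule_hasInjectiveDimensionLE n p.primeCompl (ModuleCat.of A A))
    refine ⟨⟨fun p _ => GorLib.gorenstein_of_idlt (hloc p)⟩, lt_of_le_of_lt (b := (n : WithBot ℕ∞)) ?_ ?_⟩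
    · rw [ringKrullDim_le_iff_isMaximal_height_le]
      intro m hm
      rw [← IsLocalization.AtPrime.ringKrullDim_eq_height m (Localization.AtPrime m)]
      exact GorLib.dim_le_of_idlt (hloc m)
    · exact (WithBot.coe_lt_coe.2 (ENat.coe_lt_top n) : ((n : ℕ∞) : WithBot ℕ∞) < ((⊤ : ℕ∞) : WithBot ℕ∞))
  · rintro ⟨hG, hdim⟩
    obtain ⟨d, hd⟩ : ∃ d : ℕ, ringKrullDim A ≤ d := by
      generalize ringKrullDim A = z at hdim
      induction z with
      | bot => exact ⟨0, bot_le⟩
      | coe z =>
        induction z with
        | top => exact absurd hdim (lt_irrefl _)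
        | coe z => exact ⟨z, le_rfl⟩
    refine ⟨d + 1, (ModuleCat.hasInjectiveDimensionLE_iff_forall_maximalSpectrum d (ModuleCat.of A A)).2 fun m => ?_⟩
    haveI := hG.isGorensteinLocalRing_localization m.1
    exact GorLib.idlt_of_equiv (e m.1).symm (GorLib.idlt_of_dim_le (le_trans (by rw [IsLocalization.AtPrime.ringKrullDim_eq_height m.1 (Localization.AtPrime m.1)]; exact Ideal.height_le_ringKrullDim_of_ne_top m.2.ne_top) hd))

end Groth.Agent.S0345
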