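import Groth.Statements.S11016
import Groth.Agent.FFLib.Spaces

set_option autoImplicit false
open FunFld

namespace Groth.Agent.S11016

/-- `L(D) ≠ 0` iff there is an effective divisor linearly equivalent to `D`. -/
theorem result (k K : Type*) [Field k] [Field K] [Algebra k K]
    (hK : FunFld.IsFunctionField k K) (D : FunFld.Divisor k K) :
    FunFld.L D ≠ ⊥ ↔ ∃ x : K, x ≠ 0 ∧ 0 ≤ D + FunFld.div k x := by
  have := Groth.Agent.FFLib.finiteDimensional_L hK D
  constructor
  · intro h
    exact Groth.Agent.FFLib.exists_effective_of_ell_pos hK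
      (Submodule.one_le_finrank_iff.2 h)
  · rintro ⟨x, hx, h⟩ e
    have hxL : x ∈ FunFld.L D := by
      rw [Groth.Agent.FFLib.mem_L_iff hx]
      intro P
      have := h P
      rw [Finsupp.zero_apply, Finsupp.add_apply, Groth.Agent.FFLib.div_apply hK] at this
      omega
    rw [e, Submodule.mem_bot] at hxL
    exact hx hxL

end Groth.Agent.S11016
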