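import Groth.Statements.S17329
import Groth.Agent.HopfFFLib.Galois.Main
import Mathlib.RingTheory.Spectrum.Prime.FreeLocus
import Mathlib.RingTheory.LocalRing.Module
import Mathlib.RingTheory.Artinian.Ring
-- import your own Groth.Agent.* helpers here

set_option autoImplicit false
universe u v
open scoped TensorProduct
open Hopf

namespace Groth.Agent.S17329

/-- Let k be an algebraically closed field, A a commutative Hopf algebra over k which is
finite-dimensional as a k-vector space (a finite group scheme G = Spec A), and I a Hopf ideal of A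
(a subgroup scheme H = Spec (A/I) of G, of order dim_k (A/I)). Let B ⊆ A be the k-subalgebra of
functions invariant under right multiplication by H: the equaliser of the two algebra maps A → A ⊗
(A/I), a ↦ (id ⊗ π)(Δ a) and a ↦ a ⊗ 1, so that Spec B is the quotient G/H. Then the quotient
morphism G → G/H is finite locally free of rank |H|: A is a free B-module of rank dim_k (A/I) (B
being a finite product of local rings, locally free of constant rank is the same as free of that
rank). -/
theorem result (k : Type u) [Field k] [IsAlgClosed k]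
    (A : Type v) [CommRing A] [HopfAlgebra k A] [Module.Finite k A] (I : Ideal A) [I.IsHopfIdeal k] :
    Module.Free
        ↥(AlgHom.equalizer
          ((Algebra.TensorProduct.map (AlgHom.id k A) (Ideal.Quotient.mkₐ k I)).comp (Bialgebra.comulAlgHom k A))
          (Algebra.TensorProduct.includeLeft : A →ₐ[k] A ⊗[k] (A ⧸ I))) A ∧
      Module.finrank
        ↥(AlgHom.equalizer
          ((Algebra.TensorProduct.map (AlgHom.id k A) (Ideal.Quotient.mkₐ k I)).comp (Bialgebra.comulAlgHom k A))
          (Algebra.TensorProduct.includeLeft : A →ₐ[k] A ⊗[k] (A ⧸ I))) A =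
        Module.finrank k (A ⧸ I) := by
  show Module.Free ↥(Groth.Agent.HopfFF.Galois.Inv k I) A ∧
    Module.finrank ↥(Groth.Agent.HopfFF.Galois.Inv k I) A = Module.finrank k (A ⧸ I)
  open Groth.Agent.HopfFF.Galois in
  obtain ⟨_, _⟩ := finite_projective k I
  have : Nontrivial A := (Bialgebra.counitAlgHom k A).toRingHom.domain_nontrivial
  set B := Groth.Agent.HopfFF.Galois.Inv k I
  have : IsArtinianRing ↥B := isArtinian_of_tower k inferInstance
  have hrk : ∀ p : PrimeSpectrum ↥B, Module.rankAtStalk A p = Module.finrank k (A ⧸ I) := by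
    intro p
    have : FaithfulSMul ↥B A := (faithfulSMul_iff_algebraMap_injective _ _).mpr Subtype.val_injective
    have : Algebra.IsIntegral ↥B A := Algebra.IsIntegral.of_finite _ _
    obtain ⟨q, hq⟩ := Algebra.IsIntegral.comap_surjective ↥B A p
    rw [← hq]
    exact Groth.Agent.HopfFF.Galois.rankAtStalk_comap k I q
  have hfree : Module.Free ↥B A := by
    refine Module.free_of_flat_of_finrank_eq _ _ (Module.finrank k (A ⧸ I)) fun P => ?_
    have := P.2
    let := Ideal.Quotient.field P.1
    let p0 : PrimeSpectrum (↥B ⧸ P.1) := ⟨⊥, Ideal.isPrime_bot⟩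
    have h := Module.rankAtStalk_baseChange (R := ↥B) (M := A) p0
    rw [Module.rankAtStalk_eq_finrank_of_free, hrk] at h
    exact h
  refine ⟨hfree, ?_⟩
  obtain ⟨p⟩ : Nonempty (PrimeSpectrum ↥B) := inferInstance
  rw [← hrk p, Module.rankAtStalk_eq_finrank_of_free]
  rfl

end Groth.Agent.S17329
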