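import Groth.Statements.S18543
import Groth.Agent.AVAmpleLib.SectionCount
import Mathlib


-- import your own Groth.Agent.* helpers here

set_option autoImplicit false
universe u
open Hopf

namespace Groth.Agent.S18543

/-- Let p be a prime number, k a field of characteristic p and A a finite-dimensional commutative,
cocommutative Hopf algebra over k — the coordinate ring of a finite commutative group scheme G over
k — such that A is étale over k and dim_k A = p^n for some n (G is an étale group scheme of p-power
order). Then the Cartier dual A^∨ = Hom_k(A, k), with its convolution ring structure, is a local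
ring; that is, the Cartier dual group scheme G^∨ = Spec A^∨ is infinitesimal (its underlying space
is a single point). -/
theorem result (p : ℕ) [Fact p.Prime]
    (k : Type u) [Field k] [CharP k p] (A : Type u) [CommRing A] [HopfAlgebra k A] [Coalgebra.IsCocomm k A]
    [Module.Finite k A] [Algebra.Etale k A] (n : ℕ) (hA : Module.finrank k A = p ^ n) :
    IsLocalRing (CartDual.D k A) := by
  open scoped TensorProduct in
  open WithConv in
  classical
  let K := AlgebraicClosure k
  haveI : CharP K p := charP_of_injective_algebraMap (algebraMap k K).injective p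
  haveI : Finite (WithConv (A →ₐ[k] K)) := by
    refine Finite.of_injective (fun g => g.ofConv) fun g h e => WithConv.ext e
  have hcard : Nat.card (WithConv (A →ₐ[k] K)) = p ^ n := by
    haveI : Algebra.FormallyUnramified K (K ⊗[k] A) := inferInstance
    rw [← hA, Nat.card_congr ((Equiv.mk WithConv.ofConv WithConv.toConv (fun _ => rfl) (fun _ => rfl)).trans
      (Algebra.TensorProduct.liftEquivRight k K A K)), AVAmpleLib.natCard_algHom (K ⊗[k] A), Module.finrank_baseChange]
  have hpow : ∀ g : WithConv (A →ₐ[k] K), g ^ p ^ n = 1 := fun g => by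
    rw [← hcard]
    have hinv : ∀ g : WithConv (A →ₐ[k] K), toConv (g.ofConv.comp (HopfAlgebra.antipodeAlgHom k A)) * g = 1 := by
      intro g
      apply WithConv.ext
      refine AlgHom.ext fun a => ?_
      have h := LinearMap.congr_fun (LinearMap.algHom_comp_convMul_distrib g.ofConv
        (toConv (HopfAlgebra.antipode k (A := A))) (toConv LinearMap.id)) a
      rw [LinearMap.antipode_mul_id] at h
      refine Eq.trans ?_ (h.symm.trans ?_)
      · rfl
      · simp [LinearMap.convOne_apply]
    letI : Group (WithConv (A →ₐ[k] K)) :=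
      { (inferInstance : Monoid (WithConv (A →ₐ[k] K))) with
        inv := fun g => toConv (g.ofConv.comp (HopfAlgebra.antipodeAlgHom k A))
        inv_mul_cancel := hinv }
    exact pow_card_eq_one' (G := WithConv (A →ₐ[k] K)) (x := g)
  let v : WithConv (A →ₐ[k] K) → WithConv (A →ₗ[k] K) := fun g => toConv g.ofConv.toLinearMap
  have hv : ∀ (g : WithConv (A →ₐ[k] K)) (m : ℕ), v (g ^ m) = v g ^ m := fun g m => AlgHom.toLinearMap_convPow g m
  let L : WithConv (A →ₗ[k] K) ≃ₗ[K] (A →ₗ[k] K) :=
    { toFun := WithConv.ofConv, invFun := WithConv.toConv, map_add' := fun _ _ => rfl, map_smul' := fun _ _ => rfl,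
      left_inv := fun _ => rfl, right_inv := fun _ => rfl }
  haveI : Fintype (WithConv (A →ₐ[k] K)) := Fintype.ofFinite _
  have hspan : Submodule.span K (Set.range fun g => L (v g)) = ⊤ := by
    refine LinearIndependent.span_eq_top_of_card_eq_finrank' ?_ ?_
    · exact (linearIndependent_toLinearMap k A K).comp WithConv.ofConv fun g h e => WithConv.ext e
    · rw [← Nat.card_eq_fintype_card, hcard, Module.finrank_linearMap_self, hA]
  haveI : CharP (WithConv (A →ₗ[k] K)) p := by
    refine charP_of_injective_algebraMap (R := K) ?_ p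
    intro a b h
    have := congrArg (fun f : WithConv (A →ₗ[k] K) => f.ofConv 1) h
    simpa using this
  have hnil : ∀ f : WithConv (A →ₗ[k] K), f.ofConv 1 = 0 → f ^ p ^ n = 0 := by
    intro f hf
    obtain ⟨c, hc⟩ := (Submodule.mem_span_range_iff_exists_fun K).1 (hspan.symm ▸ Submodule.mem_top : L f ∈ _)
    have hfe : f = ∑ g, c g • v g := L.injective (by rw [map_sum]; simpa using hc.symm)
    have hc0 : ∑ g, c g = 0 := by
      rw [← hf, show f.ofConv 1 = (∑ g, c g • L (v g)) 1 from by rw [hc]; rfl, LinearMap.sum_apply]
      exact Finset.sum_congr rfl fun g _ => by simp [L, v]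
    rw [hfe, sum_pow_char_pow p n]
    simp only [smul_pow, ← hv, hpow]
    rw [← Finset.sum_smul, ← sum_pow_char_pow p n, hc0, zero_pow (pow_ne_zero n (Fact.out (p := p.Prime)).ne_zero), zero_smul]
  let ψ : CartDual.D k A → WithConv (A →ₗ[k] K) := fun f => toConv ((Algebra.linearMap k K) ∘ₗ f.ofConv)
  have hψmul : ∀ f g, ψ (f * g) = ψ f * ψ g := fun f g => by
    apply WithConv.ext
    exact LinearMap.algHom_comp_convMul_distrib (Algebra.ofId k K) f g
  have hψpow : ∀ (f : CartDual.D k A) (m : ℕ), ψ (f ^ (m + 1)) = ψ f ^ (m + 1) := fun f m => by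
    induction m with
    | zero => simp
    | succ m ih => rw [pow_succ, hψmul, ih, ← pow_succ]
  have hD : ∀ f : CartDual.D k A, f.ofConv 1 = 0 → IsNilpotent f := by
    intro f hf
    obtain ⟨m, hm⟩ : ∃ m, p ^ n = m + 1 := ⟨p ^ n - 1, (Nat.succ_pred_eq_of_pos (pow_pos (Fact.out (p := p.Prime)).pos n)).symm⟩
    refine ⟨p ^ n, ?_⟩
    have h0 := hnil (ψ f) (by simp [ψ, hf])
    rw [hm] at h0 ⊢
    rw [← hψpow] at h0
    apply WithConv.ext
    apply LinearMap.ext; intro a
    apply (algebraMap k K).injective
    rw [WithConv.ofConv_zero, LinearMap.zero_apply, map_zero]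
    exact congrArg (fun h : WithConv (A →ₗ[k] K) => h.ofConv a) h0
  haveI : Nontrivial (CartDual.D k A) := ⟨⟨0, 1, fun h => zero_ne_one (α := k)
    (by simpa [LinearMap.convOne_apply] using congrArg (fun f : CartDual.D k A => f.ofConv 1) h)⟩⟩
  refine IsLocalRing.of_isUnit_or_isUnit_one_sub_self fun f => ?_
  by_cases hf : f.ofConv 1 = 0
  · exact Or.inr (hD f hf).isUnit_one_sub
  · left
    have hu : IsUnit (algebraMap k (CartDual.D k A) (f.ofConv 1)) := (isUnit_iff_ne_zero.2 hf).map _
    have hN := hD (f - algebraMap k (CartDual.D k A) (f.ofConv 1)) (by simp)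
    simpa using hN.isUnit_add_left_of_commute hu (Algebra.commutes _ _).symm

end Groth.Agent.S18543
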