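import Groth.Statements.S12912
import Groth.Agent.ProjSecLib.Gamma
import Groth.Agent.GenusZeroLib.Mult
import Groth.Agent.RRVanLib.GG
import Groth.Agent.TwistLib.CoordGen

set_option autoImplicit false
universe u
open CategoryTheory CategoryTheory.Limits AlgebraicGeometry
open Curves

namespace Groth.Agent.S12912

/-- Let k be an algebraically closed field and X a curve over k (integral, proper over k, of dimension
one) with a closed immersion i : X → P^r_k over k whose image lies in no hyperplane: every nonzero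
global section of O(1) on P^r_k pulls back to a nonzero global section of i^* O(1). Then deg i^*
O(1) ≥ r. -/
theorem result (k : Type u) [Field k] [IsAlgClosed k] (r : ℕ)
    (X : Scheme.{u}) [X.Over (Spec (CommRingCat.of k))] [IsIntegral X] [IsProper (X ↘ (Spec (CommRingCat.of k)))]
    (hdim : topologicalKrullDim X = 1)
    (i : X ⟶ CohB1.ProjSpace r k) [IsClosedImmersion i]
    (hi : i ≫ CohB1.ProjSpace.toSpec r k = (X ↘ (Spec (CommRingCat.of k))))
    (hplane : ∀ s : LinSer.Sect (CohB1.ProjSpace r k) (Twist.twistProjSpace r k 1), s ≠ 0 →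
      OmegaSh.pullSect i (Twist.twistProjSpace r k 1) ⊤ s ≠ 0) :
    (r : ℤ) ≤ Curv2.deg k X ((Scheme.Modules.pullback i).obj (Twist.twistProjSpace r k 1)) 1 := by
  classical
  let P := CohB1.ProjSpace r k
  let 𝒜 := CohB1.polyGrading r k
  let O1 := Twist.twistProjSpace r k 1
  let L := (Scheme.Modules.pullback i).obj O1
  have hL : PicF.IsInvertible L := TwistLib.coord_isInvertible r k i
  letI := GenusZeroLib.kmod k L
  haveI := CurvLib.finite_HH (k := k) (CurvLib.isCoh_of_isInvertible hL) 0
  haveI : Module.Finite k Γ(L, ⊤) := Module.Finite.equiv (GenusZeroLib.e0k k L)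
  let g : 𝒜 1 → Γ(O1, ⊤) := fun a => Twist.globalOf 𝒜 a
  let v : Fin (r + 1) → Γ(L, ⊤) := fun j =>
    KFlatLib.puSec i (g ⟨MvPolynomial.X j, ProjSecLib.X_mem j⟩)
  have hadd : ∀ a b, g (a + b) = g a + g b := fun a b => TwistLib.sec_ext fun x => by
    show Localization.mk ((a : MvPolynomial (Fin (r + 1)) k) + b) _ = Localization.mk _ _ + Localization.mk _ _
    rw [Localization.add_mk_self]
  let gh : 𝒜 1 →+ Γ(O1, ⊤) := AddMonoidHom.mk' g hadd
  have hsm : ∀ (c : k) (a : 𝒜 1), (show Γ(L, ⊤) from KFlatLib.puSec i (g (c • a))) =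
      GenusZeroLib.ρ k (X := X) c • (show Γ(L, ⊤) from KFlatLib.puSec i (g a)) := fun c a => by
    have h1 : g (c • a) = (show Γ(P, ⊤) from Coh.toGlobal (CohB1.ProjSpace.toSpec r k) c) • g a :=
      ProjSecLib.globalOf_smul c a
    refine (congrArg (KFlatLib.puSec i) h1).trans ?_
    refine (TwistLib.puSec_smul i _ _).trans
      (congrArg (fun z : Γ(X, ⊤) => z • (show Γ(L, ⊤) from KFlatLib.puSec i (g a))) ?_)
    rw [GenusZeroLib.ρ, ← hi]
    rfl
  have hv : LinearIndependent k v := by
    rw [Fintype.linearIndependent_iff]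
    intro c hc
    let pu : Γ(O1, ⊤) →+ Γ(L, ⊤) := (OmegaSh.pullSect i O1 ⊤).hom
    let a : 𝒜 1 := ∑ j, c j • ⟨MvPolynomial.X j, ProjSecLib.X_mem j⟩
    have h1 : pu (gh a) = 0 := by
      rw [map_sum, map_sum, ← hc]
      exact Finset.sum_congr rfl fun j _ => hsm (c j) _
    have h2 : gh a = 0 := by
      by_contra hne
      exact hplane (gh a) hne h1
    have h3 : a = 0 := ProjSecLib.globalOf_injective (h2.trans (map_zero gh).symm)
    intro j
    have h4 := congrArg (fun t : 𝒜 1 => MvPolynomial.coeff (Finsupp.single j 1) (t : MvPolynomial (Fin (r + 1)) k)) h3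
    simpa [a, MvPolynomial.coeff_sum, MvPolynomial.coeff_X, Finsupp.single_eq_single_iff] using h4
  have hle := hv.fintype_card_le_finrank
  rw [Fintype.card_fin, ← (GenusZeroLib.e0k k L).finrank_eq] at hle
  have h0 := RRVanLib.finrank_h0_structure (k := k) (X := X)
  have hne : Nontrivial (Coh.HH X L 0) := by
    apply Module.nontrivial_of_finrank_pos (R := k)
    omega
  obtain ⟨s, hs⟩ := CurvLib.exists_hom_ne_zero hne
  have h1L := CurvLib.h1_le (k := k) hdim CurvLib.isInvertible_structureModule hL hs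
  have hd := CurvLib.deg_curve (k := k) hdim L h0
  rw [Curv2.genus] at hd
  show (r : ℤ) ≤ Curv2.deg k X L 1
  omega

end Groth.Agent.S12912
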