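import Groth.Statements.S7652
import Mathlib.RingTheory.Artinian.Module
import Mathlib.RingTheory.HopkinsLevitzki
import Mathlib.RingTheory.KrullDimension.NonZeroDivisors
import Mathlib.RingTheory.Ideal.MinimalPrime.Localization
import Mathlib.RingTheory.Spectrum.Prime.RingHom
import Mathlib.RingTheory.Localization.AtPrime.Basic
import Mathlib.RingTheory.IntegralClosure.IntegrallyClosed
import Mathlib.RingTheory.Length

set_option autoImplicit false
universe u
open CategoryTheory CategoryTheory.Limits AlgebraicGeometry
open Variety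

namespace Groth.Agent.S7652
open scoped nonZeroDivisors

theorem isIntegral_pi {R : Type*} [CommRing R] {κ : Type*} [Finite κ] {B : κ → Type*} [∀ i, CommRing (B i)]
    [∀ i, Algebra R (B i)] (x : ∀ i, B i) (h : ∀ i, IsIntegral R (x i)) : IsIntegral R x := by
  classical
  cases nonempty_fintype κ
  choose f hf hf' using h
  refine ⟨∏ i, f i, Polynomial.monic_prod_of_monic _ _ fun i _ => hf i, ?_⟩
  rw [← Polynomial.aeval_def]
  funext i
  have h1 := Polynomial.aeval_algHom_apply (Pi.evalAlgHom R B i) x (∏ j, f j)
  rw [Pi.evalAlgHom_apply, Pi.evalAlgHom_apply] at h1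
  rw [← h1, map_prod, Pi.zero_apply]
  exact Finset.prod_eq_zero (Finset.mem_univ i) (by rw [Polynomial.aeval_def]; exact hf' i)

theorem isArtinianRing_fractionRing (A : Type u) [CommRing A] [IsNoetherianRing A] [IsReduced A] :
    IsArtinianRing (FractionRing A) := by
  haveI : IsNoetherianRing (FractionRing A) := IsLocalization.isNoetherianRing A⁰ _ inferInstance
  rw [isArtinianRing_iff_krullDimLE_zero, Ring.krullDimLE_zero_iff]
  intro P hP
  have hmin : ∀ (p : Ideal A) [p.IsPrime], Disjoint (A⁰ : Set A) p → p ∈ minimalPrimes A := by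
    intro p _ hd
    have hsub : (p : Set A) ⊆ ⋃ q ∈ (minimalPrimes.finite_of_isNoetherianRing A).toFinset, (q : Set A) := by
      intro x hx
      have hnd : x ∉ A⁰ := fun h => Set.disjoint_left.1 hd h hx
      rw [mem_nonZeroDivisors_iff_right] at hnd
      push Not at hnd
      obtain ⟨y, hxy, hy⟩ := hnd
      have hy' : y ∉ sInf (minimalPrimes A) := by
        rw [show sInf (minimalPrimes A) = nilradical A by
          rw [nilradical, ← Ideal.sInf_minimalPrimes]; rfl, nilradical_eq_zero]
        simpa using hy
      rw [Submodule.mem_sInf] at hy'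
      push Not at hy'
      obtain ⟨q, hq, hyq⟩ := hy'
      simp only [Set.mem_iUnion, Set.Finite.mem_toFinset]
      exact ⟨q, hq, (hq.1.1.mem_or_mem (show y * x ∈ q by rw [hxy]; exact q.zero_mem)).resolve_left hyq⟩
    obtain ⟨q, hq, hpq⟩ := (Ideal.subset_union_prime (s := (minimalPrimes.finite_of_isNoetherianRing A).toFinset)
      (f := id) ⊥ ⊥ fun q hq _ _ => ((Set.Finite.mem_toFinset _).1 hq).1.1).1 hsub
    rw [Set.Finite.mem_toFinset] at hq
    obtain rfl : p = q := le_antisymm hpq (hq.2 ⟨inferInstance, bot_le⟩ hpq)
    exact hq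
  obtain ⟨M, hM, hPM⟩ := Ideal.exists_le_maximal P hP.ne_top
  obtain rfl : P = M := by
    have hd : ∀ (Q : Ideal (FractionRing A)), Q.IsPrime → Disjoint (A⁰ : Set A) (Q.under A : Ideal A) :=
      fun Q hQ => (IsLocalization.isPrime_iff_isPrime_disjoint A⁰ (FractionRing A) Q).1 hQ |>.2
    haveI := hM.isPrime
    have h1 := hmin (M.under A) (hd M hM.isPrime)
    have h2 : P.under A = M.under A := le_antisymm (Ideal.comap_mono hPM)
      (h1.2 ⟨inferInstance, bot_le⟩ (Ideal.comap_mono hPM))
    have h3 := congrArg (Ideal.map (algebraMap A (FractionRing A))) h2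
    exact (IsLocalization.map_under A⁰ _ P).symm.trans (h3.trans (IsLocalization.map_under A⁰ _ M))
  exact hM

section factor

variable (A : Type u) [CommRing A] (m : Ideal (FractionRing A)) [m.IsPrime]

/-- The prime of `A` under `m`. -/
abbrev pm : Ideal A := RingHom.ker (algebraMap A (FractionRing A ⧸ m))

theorem exists_frac (z : FractionRing A ⧸ m) : ∃ (a : A) (s : A), algebraMap A (FractionRing A ⧸ m) s ≠ 0 ∧
    z * algebraMap A (FractionRing A ⧸ m) s = algebraMap A (FractionRing A ⧸ m) a := by
  obtain ⟨q, rfl⟩ := Ideal.Quotient.mk_surjective z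
  obtain ⟨⟨a, s⟩, h⟩ := IsLocalization.surj A⁰ q
  refine ⟨a, s, ((IsLocalization.map_units (FractionRing A) s).map (Ideal.Quotient.mk m)).ne_zero, ?_⟩
  exact congrArg (Ideal.Quotient.mk m) h

theorem finite_factor [m.IsMaximal] (hN : CAlg.IsNagata A) :
    Module.Finite A (integralClosure A (FractionRing A ⧸ m)) := by
  letI : Field (FractionRing A ⧸ m) := Ideal.Quotient.field m
  haveI : (pm A m).IsPrime := RingHom.ker_isPrime _
  letI : Algebra (A ⧸ pm A m) (FractionRing A ⧸ m) := (RingHom.kerLift (algebraMap A (FractionRing A ⧸ m))).toAlgebra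
  haveI : IsScalarTower A (A ⧸ pm A m) (FractionRing A ⧸ m) := IsScalarTower.of_algebraMap_eq fun _ => rfl
  haveI : FaithfulSMul (A ⧸ pm A m) (FractionRing A ⧸ m) :=
    (faithfulSMul_iff_algebraMap_injective _ _).2 (RingHom.kerLift_injective _)
  letI : Algebra (FractionRing (A ⧸ pm A m)) (FractionRing A ⧸ m) := FractionRing.liftAlgebra _ _
  have hb : Function.Surjective (algebraMap (FractionRing (A ⧸ pm A m)) (FractionRing A ⧸ m)) := fun z => by
    obtain ⟨a, s, hs, h⟩ := exists_frac A m z
    refine ⟨algebraMap (A ⧸ pm A m) _ (Ideal.Quotient.mk _ a) / algebraMap (A ⧸ pm A m) _ (Ideal.Quotient.mk _ s), ?_⟩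
    rw [map_div₀, ← IsScalarTower.algebraMap_apply, ← IsScalarTower.algebraMap_apply, div_eq_iff]
    · exact h.symm
    · exact hs
  haveI : Module.Finite (FractionRing (A ⧸ pm A m)) (FractionRing A ⧸ m) :=
    Module.Finite.of_surjective (Algebra.linearMap _ _) hb
  haveI := hN.2 (pm A m) (FractionRing A ⧸ m) inferInstance
  haveI : Module.Finite A (integralClosure (A ⧸ pm A m) (FractionRing A ⧸ m)) :=
    Module.Finite.trans (A ⧸ pm A m) _
  refine Module.Finite.equiv (R := A) (M := integralClosure (A ⧸ pm A m) (FractionRing A ⧸ m)) ?_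
  exact
    { toFun := fun x => ⟨x.1, isIntegral_trans (A := A ⧸ pm A m) x.1 x.2⟩
      invFun := fun x => ⟨x.1, IsIntegral.tower_top (R := A) x.2⟩
      map_add' := fun _ _ => rfl
      map_smul' := fun r x => Subtype.ext rfl
      left_inv := fun _ => rfl
      right_inv := fun _ => rfl }

theorem isIntegrallyClosed_factor [m.IsMaximal] :
    IsDomain (integralClosure A (FractionRing A ⧸ m)) ∧ IsIntegrallyClosed (integralClosure A (FractionRing A ⧸ m)) := by
  letI : Field (FractionRing A ⧸ m) := Ideal.Quotient.field m
  haveI : IsFractionRing (integralClosure A (FractionRing A ⧸ m)) (FractionRing A ⧸ m) := by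
    refine IsFractionRing.of_field _ _ fun z => ?_
    obtain ⟨a, s, hs, h⟩ := exists_frac A m z
    refine ⟨algebraMap A _ a, algebraMap A _ s, ?_⟩
    rw [eq_div_iff]
    · exact h.symm ▸ h
    · exact hs
  refine ⟨inferInstance, (isIntegrallyClosed_iff (FractionRing A ⧸ m)).2 fun {x} hx => ?_⟩
  exact ⟨⟨x, isIntegral_trans (A := integralClosure A (FractionRing A ⧸ m)) x hx⟩, rfl⟩

end factor

/-- For a reduced local Nagata ring (A, m) of Krull dimension one, write A' for the integral closure of
A in its total fraction ring. Then A' is a finite A-module, every localization of A' at a prime is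
an integrally closed domain, and the quotient A'/A is an A-module of finite length. (The published
statement also says that A' is Nagata, which follows from the finiteness of A' over A; this row does
not restate it.) -/
theorem result (A : Type u) [CommRing A] [IsLocalRing A]
    [IsReduced A] (hN : CAlg.IsNagata A) (hdim : ringKrullDim A = 1) :
    Module.Finite A (integralClosure A (FractionRing A)) ∧
      (∀ p : PrimeSpectrum (integralClosure A (FractionRing A)),
        IsDomain (Localization.AtPrime p.asIdeal) ∧ IsIntegrallyClosed (Localization.AtPrime p.asIdeal)) ∧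
      Curv2.deltaInv A < ⊤ := by
  classical
  haveI := hN.1
  haveI := isArtinianRing_fractionRing A
  haveI : Finite (MaximalSpectrum (FractionRing A)) := inferInstance
  let e := IsArtinianRing.equivPi (FractionRing A)
  let φ : ↥(integralClosure A (FractionRing A)) →ₐ[A]
      (∀ m : MaximalSpectrum (FractionRing A), ↥(integralClosure A (FractionRing A ⧸ m.asIdeal))) :=
    AlgHom.pi fun m => (((Ideal.Quotient.mkₐ A m.asIdeal).comp (integralClosure A (FractionRing A)).val).codRestrict _
      fun x => x.2.map (Ideal.Quotient.mkₐ A m.asIdeal))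
  have hφ : Function.Bijective φ := by
    constructor
    · intro x y h
      refine Subtype.ext (e.injective (funext fun m => ?_))
      rw [IsArtinianRing.equivPi_apply, IsArtinianRing.equivPi_apply]
      exact congrArg Subtype.val (congrFun h m)
    · intro d
      obtain ⟨q, hq⟩ := e.surjective fun m => (d m).1
      have hqm : ∀ m, Ideal.Quotient.mk m.asIdeal q = (d m).1 := fun m => by
        have := congrFun hq m
        rwa [IsArtinianRing.equivPi_apply] at this
      have hint : IsIntegral A q := by
        have h1 : IsIntegral A (fun m : MaximalSpectrum (FractionRing A) => Ideal.Quotient.mk m.asIdeal q) := by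
          refine isIntegral_pi _ fun m => ?_
          rw [hqm m]
          exact (d m).2
        exact (isIntegral_algHom_iff ((e.toAlgHom).restrictScalars A) e.injective).1 h1
      exact ⟨⟨q, hint⟩, funext fun m => Subtype.ext (hqm m)⟩
  let E := AlgEquiv.ofBijective φ hφ
  haveI : ∀ m : MaximalSpectrum (FractionRing A), Module.Finite A (integralClosure A (FractionRing A ⧸ m.asIdeal)) :=
    fun m => finite_factor A m.asIdeal hN
  haveI hfin : Module.Finite A (integralClosure A (FractionRing A)) := Module.Finite.equiv E.symm.toLinearEquiv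
  refine ⟨hfin, fun P => ?_, ?_⟩
  · obtain ⟨m, q, hq⟩ := PrimeSpectrum.exists_comap_evalRingHom_eq (PrimeSpectrum.comap E.symm.toRingHom P)
    obtain ⟨hD, hI⟩ := isIntegrallyClosed_factor A m.asIdeal
    let e1 := RingEquiv.ofBijective _ (Localization.AtPrime.mapPiEvalRingHom_bijective
      (R := fun m : MaximalSpectrum (FractionRing A) => ↥(integralClosure A (FractionRing A ⧸ m.asIdeal))) q.asIdeal)
    let e2 : Localization.AtPrime P.asIdeal ≃+* Localization.AtPrime (q.asIdeal.comap (Pi.evalRingHom (fun m : MaximalSpectrum (FractionRing A) => ↥(integralClosure A (FractionRing A ⧸ m.asIdeal))) m)) :=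
      IsLocalization.ringEquivOfRingEquiv (M := P.asIdeal.primeCompl)
        (T := (q.asIdeal.comap (Pi.evalRingHom (fun m : MaximalSpectrum (FractionRing A) => ↥(integralClosure A (FractionRing A ⧸ m.asIdeal))) m)).primeCompl) _ _ E.toRingEquiv (by
        have hq' : q.asIdeal.comap (Pi.evalRingHom (fun m : MaximalSpectrum (FractionRing A) => ↥(integralClosure A (FractionRing A ⧸ m.asIdeal))) m) = P.asIdeal.comap E.symm.toRingHom :=
          congrArg PrimeSpectrum.asIdeal hq
        ext x
        simp only [Submonoid.mem_map, Ideal.mem_primeCompl_iff, hq', Ideal.mem_comap]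
        constructor
        · rintro ⟨y, hy, rfl⟩
          simpa using hy
        · intro hx
          exact ⟨E.symm x, hx, by simp⟩)
    haveI : IsDomain (Localization.AtPrime q.asIdeal) := inferInstance
    haveI : IsIntegrallyClosed (Localization.AtPrime q.asIdeal) :=
      isIntegrallyClosed_of_isLocalization _ q.asIdeal.primeCompl q.asIdeal.primeCompl_le_nonZeroDivisors
    exact ⟨(e2.trans e1).toMulEquiv.isDomain _, IsIntegrallyClosed.of_equiv (e2.trans e1).symm⟩
  · rw [Curv2.deltaInv, lt_top_iff_ne_top]
    obtain ⟨s, hs⟩ := hfin.fg_top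
    obtain ⟨b, hb⟩ := IsLocalization.exist_integer_multiples_of_finset A⁰
      (s.image fun x : integralClosure A (FractionRing A) => (x : FractionRing A))
    set M := (↥(integralClosure A (FractionRing A)) ⧸
      LinearMap.range (Algebra.linearMap A ↥(integralClosure A (FractionRing A))))
    have hann : ∀ x : M, (b : A) • x = 0 := by
      intro x
      obtain ⟨x, rfl⟩ := Submodule.mkQ_surjective _ x
      rw [← map_smul, Submodule.mkQ_apply, Submodule.Quotient.mk_eq_zero]
      have hx : x ∈ Submodule.span A (s : Set (integralClosure A (FractionRing A))) := hs ▸ Submodule.mem_top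
      induction hx using Submodule.span_induction with
      | mem y hy =>
        obtain ⟨a, ha⟩ := hb y (Finset.mem_image_of_mem _ hy)
        exact ⟨a, Subtype.ext ha⟩
      | zero => simp
      | add y z _ _ hy hz => rw [smul_add]; exact add_mem hy hz
      | smul c y _ hy => rw [smul_comm]; exact Submodule.smul_mem _ c hy
    haveI : IsArtinianRing (A ⧸ Ideal.span {(b : A)}) := by
      rw [isArtinianRing_iff_krullDimLE_zero, Ring.krullDimLE_iff]
      have h := ringKrullDim_quotient_succ_le_of_nonZeroDivisor b.2
      rw [hdim] at h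
      generalize ringKrullDim (A ⧸ Ideal.span {(b : A)}) = t at h ⊢
      induction t with
      | bot => exact bot_le
      | coe t =>
        have h' : ((t + 1 : ℕ∞) : WithBot ℕ∞) ≤ ((1 : ℕ∞) : WithBot ℕ∞) := h
        rw [WithBot.coe_le_coe] at h'
        exact_mod_cast (ENat.add_le_add_iff_right ENat.one_ne_top).1 (by simpa using h')
    have htor : Module.IsTorsionBySet A M (Ideal.span {(b : A)}) := by
      rintro x ⟨a, ha⟩
      obtain ⟨c, rfl⟩ := Ideal.mem_span_singleton'.1 ha
      rw [mul_smul, hann, smul_zero]
    letI := htor.module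
    haveI : Module.Finite (A ⧸ Ideal.span {(b : A)}) M := Module.Finite.of_restrictScalars_finite A _ _
    haveI : IsArtinian A M :=
      isArtinian_of_surjective_algebraMap (R := A ⧸ Ideal.span {(b : A)}) (S := A) Ideal.Quotient.mk_surjective
    exact Module.length_ne_top

end Groth.Agent.S7652
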