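import Groth.Statements.S2345
import Groth.Agent.NormFin.CurveModel
import Groth.Prelude.Def_CohB1

set_option autoImplicit false
universe u
open CategoryTheory CategoryTheory.Limits AlgebraicGeometry
attribute [local instance] Curv2.stalkAlgebra
open EGA2

namespace Groth.Agent.S2345

/-- A map from the spectrum of a field to the projective line with prescribed coordinate. -/
theorem exists_map_projLine (k K : Type u) [Field k] [Field K] [Algebra k K] (t : K) :
    ∃ g : Spec (CommRingCat.of K) ⟶ CohB1.ProjSpace 1 k,
      g ≫ CohB1.ProjSpace.toSpec 1 k = Spec.map (CommRingCat.ofHom (algebraMap k K)) ∧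
      t ∈ Set.range (Scheme.stalkClosedPointTo g).hom := by
  let f : MvPolynomial (Fin 2) k := MvPolynomial.X 0
  let φ : MvPolynomial (Fin 2) k →+* K := (MvPolynomial.aeval ![1, t]).toRingHom
  have hf : IsUnit (φ f) := by simp [φ, f]
  let Φ : Localization.Away f →+* K := IsLocalization.Away.lift f hf
  let α : HomogeneousLocalization.Away (CohB1.polyGrading 1 k) f →+* K :=
    Φ.comp (algebraMap (HomogeneousLocalization.Away (CohB1.polyGrading 1 k) f) (Localization.Away f))
  have hf1 : f ∈ (CohB1.polyGrading 1 k) 1 := MvPolynomial.isHomogeneous_X k 0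
  let g : Spec (CommRingCat.of K) ⟶ Proj (CohB1.polyGrading 1 k) :=
    Spec.map (CommRingCat.ofHom α) ≫ Proj.awayι (CohB1.polyGrading 1 k) f hf1 Nat.one_pos
  refine ⟨g, ?_, ?_⟩
  · show (Spec.map _ ≫ _) ≫ Proj.toSpecZero (CohB1.polyGrading 1 k) ≫ _ = _
    rw [Category.assoc, Proj.awayι_toSpecZero_assoc, ← Spec.map_comp, ← Spec.map_comp]
    congr 1
    ext c
    show Φ ((HomogeneousLocalization.fromZeroRingHom (CohB1.polyGrading 1 k) _ (algebraMap k ((CohB1.polyGrading 1 k) 0) c)).val) = _
    show Φ (Localization.mk (MvPolynomial.C c : MvPolynomial (Fin 2) k) 1) = _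
    rw [Localization.mk_one_eq_algebraMap]
    simp [Φ, φ]
  · let q : HomogeneousLocalization.Away (CohB1.polyGrading 1 k) f :=
      HomogeneousLocalization.Away.mk (CohB1.polyGrading 1 k) hf1 1 (MvPolynomial.X 1)
        (by rw [smul_eq_mul, mul_one]; exact MvPolynomial.isHomogeneous_X k (1 : Fin 2))
    have hq : α q = t := by
      show Φ (Localization.mk (MvPolynomial.X 1) _) = t
      have h1 : Φ (Localization.mk (MvPolynomial.X 1)
          (⟨f ^ 1, 1, rfl⟩ : Submonoid.powers f) : Localization.Away f) *
            Φ (algebraMap (MvPolynomial (Fin 2) k) (Localization.Away f) (f ^ 1)) =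
          Φ (algebraMap (MvPolynomial (Fin 2) k) (Localization.Away f) (MvPolynomial.X 1)) := by
        rw [← map_mul, Localization.mk_eq_mk', IsLocalization.mk'_spec]
      simpa [Φ, φ, f] using h1
    let W : (Proj (CohB1.polyGrading 1 k)).Opens := (Proj.awayι (CohB1.polyGrading 1 k) f hf1 Nat.one_pos).opensRange
    let pt : Spec (CommRingCat.of K) := IsLocalRing.closedPoint K
    have hW : g pt ∈ W := ⟨Spec.map (CommRingCat.ofHom α) pt, rfl⟩
    obtain ⟨σ, hσ⟩ : ∃ σ : Γ(Proj (CohB1.polyGrading 1 k), W), (Scheme.stalkClosedPointTo g).hom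
        (((Proj (CohB1.polyGrading 1 k)).presheaf.germ W _ hW).hom σ) = α q := by
      have hWaff : IsAffineOpen W := isAffineOpen_opensRange _
      let γ : Γ(Proj (CohB1.polyGrading 1 k), W) ⟶ CommRingCat.of K :=
        (Proj (CohB1.polyGrading 1 k)).presheaf.germ W _ hW ≫ Scheme.stalkClosedPointTo g
      have hγ : Spec.map γ ≫ hWaff.fromSpec = g := by
        rw [Spec.map_comp, Category.assoc]
        conv_rhs => rw [← Scheme.Spec_stalkClosedPointTo_fromSpecStalk g]
        congr 1
        exact hWaff.fromSpecStalk_eq_fromSpecStalk hW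
      -- the chart is isomorphic to the spectrum of the affine open
      let e : Spec (CommRingCat.of (HomogeneousLocalization.Away (CohB1.polyGrading 1 k) f)) ≅
          Spec Γ(Proj (CohB1.polyGrading 1 k), W) :=
        IsOpenImmersion.isoOfRangeEq (Proj.awayι (CohB1.polyGrading 1 k) f hf1 Nat.one_pos) hWaff.fromSpec
          (by rw [hWaff.range_fromSpec]; rfl)
      have he : γ = Spec.preimage e.hom ≫ CommRingCat.ofHom α := by
        apply Spec.map_injective
        rw [← cancel_mono hWaff.fromSpec, hγ, Spec.map_comp, Category.assoc, Spec.map_preimage,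
          IsOpenImmersion.isoOfRangeEq_hom_fac]
      have hinv : Spec.preimage e.inv ≫ Spec.preimage e.hom = 𝟙 _ := by
        apply Spec.map_injective
        rw [Spec.map_comp, Spec.map_preimage, Spec.map_preimage, Spec.map_id, Iso.hom_inv_id]
      let σ := (Spec.preimage e.inv).hom q
      have hσ : (Spec.preimage e.hom).hom σ = q :=
        DFunLike.congr_fun (congrArg CommRingCat.Hom.hom hinv) q
      refine ⟨σ, ?_⟩
      have := DFunLike.congr_fun (congrArg CommRingCat.Hom.hom he) σ
      exact this.trans (congrArg α hσ)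
    exact ⟨_, hσ.trans hq⟩

/-- Let K be a finitely generated field extension of k of transcendence degree one. Then there is an
integral normal algebraic curve X, proper over k, whose function field is isomorphic to K compatibly
with the maps from k. -/
theorem result (k : Type u) [Field k] (K : Type u) [Field K] [Algebra k K]
    (hfg : (⊤ : IntermediateField k K).FG) (htr : Algebra.trdeg k K = 1) :
    ∃ (X : Scheme.{u}) (_ : X.Over (Spec (CommRingCat.of k))) (_ : IsIntegral X), IsProper (X ↘ (Spec (CommRingCat.of k))) ∧ Pi1.IsNormalScheme X ∧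
      (∀ x : X, IsClosed ({x} : Set X) → ringKrullDim (X.presheaf.stalk x) = 1) ∧
      ∃ e : X.presheaf.stalk (genericPoint X) ≃+* K, ∀ c : k, e (algebraMap k (X.presheaf.stalk (genericPoint X)) c) = algebraMap k K c := by
  obtain ⟨ι₀, b, hb⟩ := exists_isTranscendenceBasis' k K
  have hcard := hb.cardinalMk_eq_trdeg
  rw [htr] at hcard
  obtain ⟨hsub, ⟨i⟩⟩ := Cardinal.eq_one_iff_unique.mp hcard
  let t := b i
  obtain ⟨g, hgs, hgt⟩ := exists_map_projLine k K t
  let w := g (IsLocalRing.closedPoint K)
  let ι := (CohB1.ProjSpace 1 k).descResidueField (Scheme.stalkClosedPointTo g)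
  have hgι : g = Spec.map ι ≫ (CohB1.ProjSpace 1 k).fromSpecResidueField w :=
    (Scheme.descResidueField_stalkClosedPointTo_fromSpecResidueField K _ g).symm
  have hι : ι.hom.Finite := by
    have htι : t ∈ Set.range ι.hom := by
      obtain ⟨a, ha⟩ := hgt
      exact ⟨((CohB1.ProjSpace 1 k).residue w).hom a,
        (DFunLike.congr_fun (congrArg CommRingCat.Hom.hom
          (Scheme.residue_descResidueField (Scheme.stalkClosedPointTo g))) a).trans ha⟩
    have hkι : ∀ c : k, algebraMap k K c ∈ Set.range ι.hom := by
      intro c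
      have h1 : CommRingCat.ofHom (algebraMap k K) =
          Spec.preimage ((CohB1.ProjSpace 1 k).fromSpecResidueField w ≫
            CohB1.ProjSpace.toSpec 1 k) ≫ ι := by
        apply Spec.map_injective
        rw [Spec.map_comp, Spec.map_preimage, ← Category.assoc, ← hgι, hgs]
      exact ⟨_, (DFunLike.congr_fun (congrArg CommRingCat.Hom.hom h1) c).symm⟩
    let F : IntermediateField k K :=
      ι.hom.fieldRange.toIntermediateField fun c ↦ by
        obtain ⟨a, ha⟩ := hkι c; exact ⟨a, ha⟩
    have htF : IntermediateField.adjoin k (Set.range b) ≤ F := by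
      rw [IntermediateField.adjoin_le_iff]
      rintro _ ⟨i', rfl⟩
      rw [Subsingleton.elim i' i]
      obtain ⟨a, ha⟩ := htι
      exact ⟨a, ha⟩
    have : Algebra.IsAlgebraic (IntermediateField.adjoin k (Set.range b)) K := hb.isAlgebraic_field
    have hfinF : FiniteDimensional F K := by
      have : Algebra.IsAlgebraic F K := by
        let := (IntermediateField.inclusion htF).toRingHom.toAlgebra
        have : IsScalarTower (IntermediateField.adjoin k (Set.range b)) F K :=
          .of_algebraMap_eq fun _ ↦ rfl
        exact Algebra.IsAlgebraic.tower_top (K := IntermediateField.adjoin k (Set.range b)) _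
      obtain ⟨S, hS⟩ := hfg
      let E : IntermediateField F K := IntermediateField.adjoin F (S : Set K)
      have : Finite (S : Set K) := S.finite_toSet.to_subtype
      have : FiniteDimensional F E := IntermediateField.finiteDimensional_adjoin fun x _ ↦
        (Algebra.IsAlgebraic.isAlgebraic x).isIntegral
      have hE : E = ⊤ := by
        refine eq_top_iff.mpr fun x _ ↦ ?_
        have : IntermediateField.adjoin k (S : Set K) ≤ E.restrictScalars k :=
          IntermediateField.adjoin_le_iff.mpr (IntermediateField.subset_adjoin F _)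
        exact this (hS ▸ IntermediateField.mem_top)
      exact Module.Finite.of_surjective E.val.toLinearMap fun x ↦ ⟨⟨x, hE ▸ trivial⟩, rfl⟩
    have : FiniteDimensional ι.hom.fieldRange K := hfinF
    show ι.hom.Finite
    have h2 : ι.hom = (algebraMap ι.hom.fieldRange K).comp ι.hom.rangeRestrictField := rfl
    rw [h2]
    exact RingHom.Finite.comp hfinF (RingHom.Finite.of_surjective _ fun x ↦ by
      obtain ⟨a, ha⟩ := x.2
      exact ⟨a, Subtype.ext ha⟩)
  have : IsProper (CohB1.ProjSpace.toSpec 1 k) := by
    unfold CohB1.ProjSpace.toSpec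
    have : IsScalarTower k (CohB1.polyGrading 1 k 0) (MvPolynomial (Fin 2) k) :=
      ⟨fun x y z ↦ smul_mul_assoc x (y : MvPolynomial (Fin 2) k) z⟩
    have : Algebra.FiniteType (CohB1.polyGrading 1 k 0) (MvPolynomial (Fin 2) k) :=
      Algebra.FiniteType.of_restrictScalars_finiteType k _ _
    have hb0 : Function.Bijective (algebraMap k (CohB1.polyGrading 1 k 0)) := by
      refine ⟨fun a b h ↦ MvPolynomial.C_injective _ _ (congrArg Subtype.val h), fun p ↦ ?_⟩
      refine ⟨p.1.coeff 0, Subtype.ext ?_⟩
      exact (MvPolynomial.totalDegree_eq_zero_iff_eq_C.mp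
        (MvPolynomial.IsHomogeneous.totalDegree_le (φ := p.1) p.2 |> Nat.le_zero.mp)).symm
    have : IsIso (CommRingCat.ofHom (algebraMap k (CohB1.polyGrading 1 k 0))) :=
      (ConcreteCategory.isIso_iff_bijective _).mpr hb0
    have hp : IsProper (Proj.toSpecZero (CohB1.polyGrading 1 k)) := inferInstance
    exact MorphismProperty.comp_mem @IsProper _ _ hp inferInstance
  obtain ⟨h1, h2, h3, h4, h5⟩ :=
    NormFinLib.exists_curve_model k K htr (CohB1.ProjSpace.toSpec 1 k) g hgs w ι hι hgι
  letI : g.normalization.Over (Spec (CommRingCat.of k)) :=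
    ⟨g.fromNormalization ≫ CohB1.ProjSpace.toSpec 1 k⟩
  refine ⟨g.normalization, inferInstance, h2, h1, h3, h4, ?_⟩
  exact h5 (genericPoint g.normalization) (genericPoint_spec g.normalization)

end Groth.Agent.S2345
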