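import Groth.Statements.S2346

-- import your own Groth.Agent.* helpers here

set_option autoImplicit false
universe u
open CategoryTheory CategoryTheory.Limits AlgebraicGeometry
open EGA2

namespace Groth.Agent.S2346

theorem eq_genericPoint_or_isClosed (X : Scheme.{u}) [IrreducibleSpace X] [JacobsonSpace X]
    (hX : ∀ x : X, IsClosed ({x} : Set X) → ringKrullDim (X.presheaf.stalk x) = 1) (p : X) :
    p = genericPoint X ∨ IsClosed ({p} : Set X) := by
  by_contra hc
  push Not at hc
  obtain ⟨hne, hnc⟩ := hc
  obtain ⟨x, hx1, hx2⟩ := nonempty_inter_closedPoints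
    (Set.Nonempty.closure (Set.singleton_nonempty p)) isClosed_closure.isLocallyClosed
  have hpx : p ⤳ x := specializes_iff_mem_closure.mpr hx1
  have hxp : x ≠ p := fun h => hnc (h ▸ hx2)
  have h1 : x < p := lt_iff_le_not_ge.mpr ⟨hpx, fun h => hxp (hpx.antisymm h).eq.symm⟩
  have h2 : p < genericPoint X :=
    lt_iff_le_not_ge.mpr ⟨genericPoint_specializes p,
      fun h => hne ((genericPoint_specializes p).antisymm h).eq.symm⟩
  have h3 : (2 : ℕ∞) ≤ Order.coheight x := by
    have := (Order.coheight_add_one_le h1).trans' (add_le_add_left (Order.coheight_add_one_le h2) 1)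
    refine le_trans ?_ this
    exact le_trans (by norm_num) (add_le_add_left le_add_self 1)
  have h4 := hX x hx2
  rw [ringKrullDim_stalk_eq_coheight] at h4
  rw [show (1 : WithBot ℕ∞) = ((1 : ℕ∞) : WithBot ℕ∞) from rfl, WithBot.coe_eq_coe] at h4
  rw [h4] at h3
  norm_num at h3

theorem not_isClosed_genericPoint (X : Scheme.{u}) [IrreducibleSpace X]
    (hX : ∀ x : X, IsClosed ({x} : Set X) → ringKrullDim (X.presheaf.stalk x) = 1) :
    ¬ IsClosed ({genericPoint X} : Set X) := by
  intro hc
  have h4 := hX _ hc
  rw [ringKrullDim_stalk_eq_coheight,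
    show (1 : WithBot ℕ∞) = ((1 : ℕ∞) : WithBot ℕ∞) from rfl, WithBot.coe_eq_coe] at h4
  have h5 : IsMax (genericPoint X) := fun y _ => genericPoint_specializes y
  rw [Order.coheight_eq_zero.mpr h5] at h4
  exact zero_ne_one h4

/-- Let X and Y be irreducible algebraic curves over k (separated, of finite type, local rings at closed
points one-dimensional) and f : X → Y a k-morphism. Then f is dominant if and only if every fibre
f⁻¹(y) is a finite set. -/
theorem result (k : Type u) [Field k] (X Y : Scheme.{u}) [X.Over (Spec (CommRingCat.of k))] [Y.Over (Spec (CommRingCat.of k))]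
    [LocallyOfFiniteType (X ↘ (Spec (CommRingCat.of k)))] [QuasiCompact (X ↘ (Spec (CommRingCat.of k)))] [IsSeparated (X ↘ (Spec (CommRingCat.of k)))] [LocallyOfFiniteType (Y ↘ (Spec (CommRingCat.of k)))] [QuasiCompact (Y ↘ (Spec (CommRingCat.of k)))] [IsSeparated (Y ↘ (Spec (CommRingCat.of k)))] [IrreducibleSpace X] [IrreducibleSpace Y]
    (hX : (∀ x : X, IsClosed ({x} : Set X) → ringKrullDim (X.presheaf.stalk x) = 1)) (hY : (∀ x : Y, IsClosed ({x} : Set Y) → ringKrullDim (Y.presheaf.stalk x) = 1))
    (f : X ⟶ Y) (hf : f ≫ (Y ↘ (Spec (CommRingCat.of k))) = X ↘ (Spec (CommRingCat.of k))) :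
    IsDominant f ↔ ∀ y : Y, (f.base ⁻¹' {y}).Finite := by

  haveI : JacobsonSpace (Spec (CommRingCat.of k)) := inferInstance
  haveI : JacobsonSpace X := LocallyOfFiniteType.jacobsonSpace (X ↘ (Spec (CommRingCat.of k)))
  haveI : JacobsonSpace Y := LocallyOfFiniteType.jacobsonSpace (Y ↘ (Spec (CommRingCat.of k)))
  haveI : IsLocallyNoetherian X := LocallyOfFiniteType.isLocallyNoetherian (X ↘ (Spec (CommRingCat.of k)))
  haveI : CompactSpace X := QuasiCompact.compactSpace_of_compactSpace (X ↘ (Spec (CommRingCat.of k)))
  haveI : IsNoetherian X := ⟨⟩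
  haveI : LocallyOfFiniteType f := by
    haveI : LocallyOfFiniteType (f ≫ (Y ↘ (Spec (CommRingCat.of k)))) := by rw [hf]; infer_instance
    exact locallyOfFiniteType_of_comp f (Y ↘ (Spec (CommRingCat.of k)))
  have hηY := eq_genericPoint_or_isClosed Y hY
  have hηX := eq_genericPoint_or_isClosed X hX
  have hncY := not_isClosed_genericPoint Y hY
  have hncX := not_isClosed_genericPoint X hX
  have hcl : ∀ x : X, IsClosed ({x} : Set X) → IsClosed ({f.base x} : Set Y) :=
    fun x hx => f.closePoints_subset_preimage_closedPoints hx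
  constructor
  · intro hd
    have hgen : f.base (genericPoint X) = genericPoint Y := by
      refine ((genericPoint_spec X).image f.continuous).eq ?_
      rw [Set.image_univ, (f.denseRange).closure_range]
      exact genericPoint_spec Y
    intro y
    rcases hηY y with rfl | hy
    · refine (Set.finite_singleton (genericPoint X)).subset fun x hx => ?_
      rcases hηX x with h | h
      · exact h
      · exact absurd (by have := hcl x h; rwa [show f.base x = genericPoint Y from hx] at this) hncY
    · have hFc : IsClosed (f.base ⁻¹' {y}) := hy.preimage f.continuous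
      obtain ⟨S, hS1, hS2c, hS2, hS3⟩ :=
        TopologicalSpace.NoetherianSpace.exists_finite_set_isClosed_irreducible hFc
      refine Set.Finite.subset ?_ hS3.le
      refine Set.Finite.sUnion hS1 fun t ht => ?_
      have htc := hS2c t ht
      have hp := (hS2 t ht).isGenericPoint_genericPoint_closure
      rw [htc.closure_eq] at hp
      rcases hηX (hS2 t ht).genericPoint with h | h
      · exfalso
        have h1 : (hS2 t ht).genericPoint ∈ f.base ⁻¹' {y} := by
          rw [hS3]; exact ⟨t, ht, hp.mem⟩
        rw [h, Set.mem_preimage, hgen, Set.mem_singleton_iff] at h1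
        exact hncY (h1 ▸ hy)
      · rw [← hp.def, h.closure_eq]
        exact Set.finite_singleton _
  · intro hfin
    rcases hηY (f.base (genericPoint X)) with h | h
    · constructor
      show Dense (Set.range f.base)
      refine Dense.mono (s₁ := {genericPoint Y}) ?_ ?_
      · rintro z rfl; exact ⟨genericPoint X, h⟩
      · rw [dense_iff_closure_eq]; exact genericPoint_spec Y
    · exfalso
      have hall : f.base ⁻¹' {f.base (genericPoint X)} = Set.univ := by
        refine Set.eq_univ_of_univ_subset ?_
        rw [← genericPoint_spec X]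
        exact closure_minimal (by simp) (h.preimage f.continuous)
      have hfinX : (Set.univ : Set X).Finite := hall ▸ hfin _
      haveI : Finite X := Set.finite_univ_iff.mp hfinX
      have hop : IsOpen ({genericPoint X} : Set X) := by
        rw [← isClosed_compl_iff]
        rw [show ({genericPoint X}ᶜ : Set X) = ⋃ x ∈ ({genericPoint X}ᶜ : Set X), {x} from (Set.biUnion_of_singleton _).symm]
        refine (Set.toFinite _).isClosed_biUnion fun x hx => ?_
        rcases hηX x with h' | h'
        · exact absurd h' hx
        · exact h'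
      obtain ⟨z, hz1, hz2⟩ := nonempty_inter_closedPoints (Set.singleton_nonempty (genericPoint X)) hop.isLocallyClosed
      rw [Set.mem_singleton_iff] at hz1
      exact hncX (hz1 ▸ hz2)


end Groth.Agent.S2346
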