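import Groth.Statements.S4442
import Groth.Agent.FibDimLib.Formula

-- import your own Groth.Agent.* helpers here

set_option autoImplicit false
universe u
open CategoryTheory CategoryTheory.Limits AlgebraicGeometry
attribute [local instance] Curv2.resAlgebra
open EGA2

namespace Groth.Agent.S4442

theorem trdeg_eq_dim (k : Type u) [Field k] (X : Scheme.{u}) [X.Over (Spec (CommRingCat.of k))]
    [LocallyOfFiniteType (X ↘ (Spec (CommRingCat.of k)))] (x : X) :
    ∃ s : ℕ, topologicalKrullDim (closure ({x} : Set X)) = s ∧ Algebra.trdeg k (X.residueField x) = s := by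
  let F : Over (Spec (CommRingCat.of k)) := Over.mk (X ↘ (Spec (CommRingCat.of k)))
  have hF : LocallyOfFiniteType F.hom := ‹LocallyOfFiniteType (X ↘ (Spec (CommRingCat.of k)))›
  obtain ⟨s, hs, hs'⟩ := @WeilLib.pdim_eq_trdeg k _ F hF x
  change topologicalKrullDim (closure ({x} : Set X)) = _ at hs
  have he : (WeilLib.kappaMap F x).hom = Curv2.resMap k X x := rfl
  rw [he] at hs'
  exact ⟨s, hs, hs'⟩


/-- (a) ⇔ (b): let X be a scheme of finite type over a field k. The residue fields of the generic points
of the irreducible components of X all have transcendence degree one over k if and only if the local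
ring of X at every closed point has dimension one. (The published statement has a third equivalent
condition: the irreducible closed subsets of X other than the irreducible components are exactly the
closed points of X. This row states only the equivalence of the first two.) -/
theorem result (k : Type u) [Field k] (X : Scheme.{u})
    [X.Over (Spec (CommRingCat.of k))] [LocallyOfFiniteType (X ↘ (Spec (CommRingCat.of k)))]
    [QuasiCompact (X ↘ (Spec (CommRingCat.of k)))] :
    (∀ x : X, closure ({x} : Set X) ∈ irreducibleComponents (X : Type u) → Algebra.trdeg k (X.residueField x) = 1) ↔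
      ∀ x : X, IsClosed ({x} : Set X) → ringKrullDim (X.presheaf.stalk x) = 1 := by
  let q := X ↘ (Spec (CommRingCat.of k))
  haveI : JacobsonSpace X := LocallyOfFiniteType.jacobsonSpace q
  constructor
  · intro h x hx
    obtain ⟨g, hg, -, hd⟩ := FibDimLib.exists_generic_localDim q x
    obtain ⟨s, hs, hs'⟩ := trdeg_eq_dim k X g
    rw [← FibDimLib.localDim_eq_stalk_of_isClosed q hx, hd, hs]
    have h1 : (s : Cardinal) = 1 := hs'.symm.trans (h g hg)
    rw [show s = 1 by exact_mod_cast h1, Nat.cast_one]
  · intro h x hx
    obtain ⟨s, hs, hs'⟩ := trdeg_eq_dim k X x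
    obtain ⟨g, -, hgx, hd⟩ := FibDimLib.exists_generic_localDim q x
    have hgx' : closure ({g} : Set X) = closure {x} :=
      (hx.2 isIrreducible_singleton.closure (hgx.closure_subset)).antisymm hgx.closure_subset
    rw [hgx'] at hd
    obtain ⟨U, hU, hdU⟩ := FibDimLib.exists_open_localDim x
    obtain ⟨z, ⟨hzU, hz⟩, hzc⟩ := nonempty_inter_closedPoints
      (show ((U : Set X) ∩ closure {x}).Nonempty from ⟨x, hU, subset_closure rfl⟩)
      (U.isOpen.isLocallyClosed.inter isClosed_closure.isLocallyClosed)
    have hz1 : FlatMor.localDim X z = 1 := (FibDimLib.localDim_eq_stalk_of_isClosed q hzc).trans (h z hzc)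
    have h1 : FlatMor.localDim X x = 1 := le_antisymm
      (hz1 ▸ FibDimLib.localDim_le_of_specializes (specializes_iff_mem_closure.mpr hz))
      (hz1 ▸ hdU ▸ FibDimLib.localDim_le_of_open hzU)
    rw [h1, hs] at hd
    rw [hs', show s = 1 by exact_mod_cast hd.symm, Nat.cast_one]


end Groth.Agent.S4442
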