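import Groth.Statements.S4443
import Mathlib.AlgebraicGeometry.FunctionField
import Mathlib.RingTheory.KrullDimension.Basic
-- import your own Groth.Agent.* helpers here

set_option autoImplicit false
universe u
open CategoryTheory CategoryTheory.Limits AlgebraicGeometry
open EGA2

namespace Groth.Agent.S4443

open CategoryTheory CategoryTheory.Limits AlgebraicGeometry

/-- Let X be an irreducible algebraic curve over a field k (separated and of finite type over k,
nonempty, irreducible, local rings at closed points of dimension one). Then the generic point is the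
only non-closed point of X, and the closed subsets of X distinct from X are exactly the finite sets
of closed points. (The published statement adds that these are also exactly the subsets of X that
are not dense in X, an immediate consequence; this row does not state it.) -/
theorem result (k : Type u) [Field k] (X : Scheme.{u})
    [X.Over (Spec (CommRingCat.of k))] [LocallyOfFiniteType (X ↘ (Spec (CommRingCat.of k)))]
    [QuasiCompact (X ↘ (Spec (CommRingCat.of k)))] [IsSeparated (X ↘ (Spec (CommRingCat.of k)))]
    [Nonempty X] [IrreducibleSpace X] (hcurve : ∀ x : X, IsClosed ({x} : Set X) → ringKrullDim (X.presheaf.stalk x) = 1) :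
    (∀ x : X, ¬ IsClosed ({x} : Set X) → x = genericPoint X) ∧
      ∀ F : Set X, IsClosed F → (F ≠ Set.univ ↔ (F.Finite ∧ ∀ x ∈ F, IsClosed ({x} : Set X))) := by
  haveI : IsLocallyNoetherian X :=
    LocallyOfFiniteType.isLocallyNoetherian (X ↘ Spec (CommRingCat.of k))
  haveI : CompactSpace X := QuasiCompact.compactSpace_of_compactSpace (X ↘ Spec (CommRingCat.of k))
  haveI : IsNoetherian X := {}
  have hpt : ∀ x : X, ¬ IsClosed ({x} : Set X) → x = genericPoint X := by
    intro x hx
    obtain ⟨c, hc, hcc⟩ := IsClosed.exists_closed_singleton (S := closure ({x} : Set X))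
      isClosed_closure (Set.singleton_nonempty x).closure
    have hxc : x ⤳ c := specializes_iff_mem_closure.2 hc
    by_contra hne
    have hηx : genericPoint X ⤳ x := genericPoint_specializes _
    obtain ⟨a, ha⟩ : genericPoint X ∈ Set.range (X.fromSpecStalk c) :=
      Scheme.range_fromSpecStalk ▸ hηx.trans hxc
    obtain ⟨b, hb⟩ : x ∈ Set.range (X.fromSpecStalk c) := Scheme.range_fromSpecStalk ▸ hxc
    have hcl : X.fromSpecStalk c (IsLocalRing.closedPoint _) = c := X.fromSpecStalk_closedPoint
    have hem := (X.fromSpecStalk c).isEmbedding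
    have hab : a ⤳ b := hem.specializes_iff.1 (by rw [ha, hb]; exact hηx)
    have hbc : b ⤳ IsLocalRing.closedPoint _ := hem.specializes_iff.1 (by rw [hb, hcl]; exact hxc)
    have h1 : a.asIdeal < b.asIdeal :=
      ((PrimeSpectrum.le_iff_specializes a b).2 hab).lt_of_ne fun h => hne (by
        rw [← hb, ← ha, show a = b from h])
    have h2 : b.asIdeal < IsLocalRing.maximalIdeal _ :=
      ((PrimeSpectrum.le_iff_specializes b (IsLocalRing.closedPoint _)).2 hbc).lt_of_ne fun h =>
        hx (by rw [← hb, show b = IsLocalRing.closedPoint _ from h, hcl]; exact hcc)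
    have h01 : (⟨a.asIdeal, a.2⟩ : PrimeSpectrum (X.presheaf.stalk c)) < ⟨b.asIdeal, b.2⟩ := h1
    have h12 : (⟨b.asIdeal, b.2⟩ : PrimeSpectrum (X.presheaf.stalk c)) <
        IsLocalRing.closedPoint _ := h2
    let s : LTSeries (PrimeSpectrum (X.presheaf.stalk c)) :=
      ((RelSeries.singleton _ _).snoc ⟨b.asIdeal, b.2⟩ (by simpa using h01)).snoc
        (IsLocalRing.closedPoint _) (by simpa using h12)
    have hs : (s.length : WithBot ℕ∞) ≤ ringKrullDim (X.presheaf.stalk c) :=
      Order.LTSeries.length_le_krullDim s
    rw [hcurve c hcc, show s.length = 2 by simp [s]] at hs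
    norm_num at hs
  refine ⟨hpt, fun F hF => ⟨fun hne => ?_, fun ⟨hfin, hall⟩ hu => ?_⟩⟩
  · have hη : genericPoint X ∉ F := fun h => hne (Set.eq_univ_of_univ_subset (by
      rw [← genericPoint_closure X]; exact closure_minimal (Set.singleton_subset_iff.2 h) hF))
    have hall : ∀ x ∈ F, IsClosed ({x} : Set X) := fun x hx => by
      by_contra h
      exact hη (hpt x h ▸ hx)
    refine ⟨?_, hall⟩
    obtain ⟨S, hS, hFS⟩ := TopologicalSpace.NoetherianSpace.exists_finite_set_closeds_irreducible
      (⟨F, hF⟩ : TopologicalSpace.Closeds X)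
    obtain ⟨hS', hFS⟩ := hFS
    have hsub : ∀ Z ∈ S, (Z : Set X) ⊆ F := fun Z hZ => by
      have h' : (⟨F, hF⟩ : TopologicalSpace.Closeds X) = sSup S := hFS
      have h'' : Z ≤ ⟨F, hF⟩ := h' ▸ le_sSup hZ
      exact h''
    have hcov : F ⊆ ⋃ Z ∈ S, (Z : Set X) := by
      intro x hx
      have h' : (⟨F, hF⟩ : TopologicalSpace.Closeds X) = sSup S := hFS
      have hx' : x ∈ closure (⋃ Z ∈ S, (Z : Set X)) := by
        have := congrArg ((↑) : TopologicalSpace.Closeds X → Set X) h'
        rw [TopologicalSpace.Closeds.coe_sSup] at this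
        rw [Set.sUnion_image] at this
        rw [← this]; exact hx
      rwa [IsClosed.closure_eq (hS.isClosed_biUnion fun Z _ => Z.isClosed)] at hx'
    refine (hS.biUnion fun Z hZ => ?_).subset hcov
    obtain ⟨z, hz⟩ := QuasiSober.sober (hS' Z hZ) Z.isClosed
    rw [← hz.def, (hall z (hsub Z hZ hz.mem)).closure_eq]
    exact Set.finite_singleton _
  · subst hu
    have hη := hall (genericPoint X) trivial
    have : Subsingleton (PrimeSpectrum (X.presheaf.stalk (genericPoint X))) := ⟨fun a b => by
      apply (X.fromSpecStalk (genericPoint X)).isEmbedding.injective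
      have key : ∀ a, X.fromSpecStalk (genericPoint X) a = genericPoint X := fun a => by
        have h : X.fromSpecStalk (genericPoint X) a ⤳ genericPoint X :=
          Scheme.range_fromSpecStalk.subset ⟨a, rfl⟩
        exact (h.antisymm (genericPoint_specializes _)).eq
      rw [key a, key b]⟩
    have h1 := hcurve _ hη
    have h0 : ringKrullDim (X.presheaf.stalk (genericPoint X)) ≤ 0 :=
      Order.krullDim_nonpos_of_subsingleton
    rw [h1] at h0
    exact absurd h0 (by norm_num)

end Groth.Agent.S4443
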