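import Groth.Statements.S4451
import Groth.Agent.S2344
import Groth.Agent.CurveAmpLib.Integral
-- import your own Groth.Agent.* helpers here

set_option autoImplicit false
universe u
open CategoryTheory CategoryTheory.Limits AlgebraicGeometry
attribute [local instance] Curv2.stalkAlgebra
open EGA2

namespace Groth.Agent.S4451

theorem fromSpecStalk_comp_over {k : Type u} [Field k] {X : Scheme.{u}}
    [X.Over (Spec (CommRingCat.of k))] (x : X) :
    X.fromSpecStalk x ≫ (X ↘ (Spec (CommRingCat.of k))) =
      Spec.map (CommRingCat.ofHom (Curv2.stalkMap k X x)) := by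
  let f := X ↘ (Spec (CommRingCat.of k))
  have h1 := Scheme.toSpecΓ_naturality f
  have h2 : (Spec (CommRingCat.of k)).toSpecΓ ≫ Spec.map (Scheme.ΓSpecIso (CommRingCat.of k)).inv = 𝟙 _ := by
    simp [← Spec.map_comp]
  calc X.fromSpecStalk x ≫ f
      = (X.fromSpecStalk x ≫ X.toSpecΓ) ≫ Spec.map f.appTop ≫
          Spec.map (Scheme.ΓSpecIso (CommRingCat.of k)).inv := by
        rw [Category.assoc, ← reassoc_of% h1, h2, Category.comp_id]
    _ = _ := by
        rw [Scheme.fromSpecStalk_toSpecΓ, ← Spec.map_comp, ← Spec.map_comp]
        rfl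

theorem topologicalKrullDim_le_one {X : Scheme.{u}} (h : ∀ x : X, Order.coheight x ≤ 1) :
    topologicalKrullDim X ≤ 1 := by
  rw [topologicalKrullDim, Order.krullDim_eq_of_orderIso (irreducibleSetEquivPoints (α := X)),
    Order.krullDim_eq_iSup_coheight]
  exact iSup_le fun x => WithBot.coe_le_coe.mpr (h x)

/-- Let X be a normal, complete, irreducible algebraic curve over a field k with field of rational
functions K. The set of local rings of X, as subrings of K, consists of K itself (at the generic
point) and of the valuation rings of K containing k (and distinct from K): every non-generic point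
has such a valuation ring as local ring, and every such valuation ring is the local ring of exactly
one point. -/
theorem result (k : Type u) [Field k] (X : Scheme.{u})
    [X.Over (Spec (CommRingCat.of k))] [IsProper (X ↘ (Spec (CommRingCat.of k)))] [IsIntegral X]
    (hX : ∀ x : X, IsClosed ({x} : Set X) → ringKrullDim (X.presheaf.stalk x) = 1) (hnorm : Pi1.IsNormalScheme X) :
    (∀ x : X, x ≠ genericPoint X → ∃ R : ValuationSubring X.functionField, R ≠ ⊤ ∧
        (R : Set X.functionField) = Set.range (algebraMap (X.presheaf.stalk x) X.functionField)) ∧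
      ∀ R : ValuationSubring X.functionField, R ≠ ⊤ → (∀ c : k, algebraMap k X.functionField c ∈ R) →
        ∃! x : X, (R : Set X.functionField) = Set.range (algebraMap (X.presheaf.stalk x) X.functionField) := by

  haveI : IsLocallyNoetherian X := LocallyOfFiniteType.isLocallyNoetherian (X ↘ (Spec (CommRingCat.of k)))
  haveI : JacobsonSpace X := LocallyOfFiniteType.jacobsonSpace (X ↘ (Spec (CommRingCat.of k)))
  haveI : X.IsSeparated := ⟨by
    have h1 : terminal.from X = (X ↘ (Spec (CommRingCat.of k))) ≫ terminal.from _ := terminal.hom_ext _ _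
    rw [h1]; infer_instance⟩
  have hval : ∀ x : X, ValuationRing (X.presheaf.stalk x) := fun x => by
    haveI := (hnorm x).1
    haveI := (hnorm x).2
    exact S2344.valuationRing_stalk hX x
  have hdim : ∀ x : X, Order.coheight x ≤ 1 := fun x => by
    obtain ⟨c, hc1, hc2⟩ := nonempty_inter_closedPoints
      (Set.Nonempty.closure (Set.singleton_nonempty x)) isClosed_closure.isLocallyClosed
    have h2 := hX c hc2
    rw [ringKrullDim_stalk_eq_coheight,
      show (1 : WithBot ℕ∞) = ((1 : ℕ∞) : WithBot ℕ∞) from rfl, WithBot.coe_eq_coe] at h2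
    exact h2 ▸ Order.coheight_anti (specializes_iff_mem_closure.mpr hc1 : x ⤳ c)
  have part1 : ∀ x : X, x ≠ genericPoint X → ∃ R : ValuationSubring X.functionField, R ≠ ⊤ ∧
      (R : Set X.functionField) = Set.range (algebraMap (X.presheaf.stalk x) X.functionField) := by
    intro x hx
    haveI := (hnorm x).1
    haveI := hval x
    refine ⟨{ toSubring := (algebraMap (X.presheaf.stalk x) X.functionField).range
              mem_or_inv_mem' := fun a => ?_ }, ?_, rfl⟩
    · rcases ValuationRing.isInteger_or_isInteger (X.presheaf.stalk x) a with ⟨b, hb⟩ | ⟨b, hb⟩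
      · exact Or.inl ⟨b, hb⟩
      · exact Or.inr ⟨b, hb⟩
    · intro htop
      have hsurj : Function.Surjective (algebraMap (X.presheaf.stalk x) X.functionField) := by
        intro a
        have ha : a ∈ (⊤ : ValuationSubring X.functionField) := trivial
        rw [← htop] at ha
        exact ha
      have hfld : IsField (X.presheaf.stalk x) :=
        (RingEquiv.ofBijective _ ⟨IsFractionRing.injective _ _, hsurj⟩).toMulEquiv.isField (Field.toIsField _)
      have h0 : ringKrullDim (X.presheaf.stalk x) = 0 := ringKrullDim_eq_zero_of_isField hfld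
      rw [ringKrullDim_stalk_eq_coheight,
        show (0 : WithBot ℕ∞) = ((0 : ℕ∞) : WithBot ℕ∞) from rfl, WithBot.coe_eq_coe] at h0
      have hmax : IsMax x := Order.coheight_eq_zero.mp h0
      exact hx (((genericPoint_specializes x).antisymm (hmax (genericPoint_specializes x))).eq).symm
  refine ⟨part1, fun R hR hk => ?_⟩
  let sX := X ↘ (Spec (CommRingCat.of k))
  let κ : k →+* R := (algebraMap k X.functionField).codRestrict R.toSubring hk
  have hex : ValuativeCriterion.Existence sX :=
    ((UniversallyClosed.eq_valuativeCriterion ▸ (inferInstance : UniversallyClosed sX)) :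
      (ValuativeCriterion.Existence ⊓ @QuasiCompact) sX).1
  let sq : ValuativeCommSq sX :=
    { R := R
      K := X.functionField
      i₁ := X.fromSpecStalk (genericPoint X)
      i₂ := Spec.map (CommRingCat.ofHom κ)
      commSq := ⟨by
        rw [fromSpecStalk_comp_over, ← Spec.map_comp]
        rfl⟩ }
  obtain ⟨⟨l₀, hl1, hl2⟩⟩ := (hex sq).exists_lift
  let l : Spec (CommRingCat.of R) ⟶ X := l₀
  let x := l (IsLocalRing.closedPoint R)
  let ψ : X.presheaf.stalk x ⟶ CommRingCat.of R := Scheme.stalkClosedPointTo l
  have hψl : Spec.map ψ ≫ X.fromSpecStalk x = l := Scheme.Spec_stalkClosedPointTo_fromSpecStalk l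
  have hcomp : ψ ≫ CommRingCat.ofHom R.subtype =
      CommRingCat.ofHom (algebraMap (X.presheaf.stalk x) X.functionField) := by
    apply Spec.map_injective
    rw [← cancel_mono (X.fromSpecStalk x), Spec.map_comp, Category.assoc, hψl]
    refine Eq.trans hl1 ?_
    exact (Scheme.SpecMap_stalkSpecializes_fromSpecStalk ((genericPoint_specializes x))).symm
  have hval' : ∀ b, ((ψ.hom b : R) : X.functionField) = algebraMap (X.presheaf.stalk x) X.functionField b :=
    fun b => congr($(hcomp).hom b)
  have hrange : (R : Set X.functionField) = Set.range (algebraMap (X.presheaf.stalk x) X.functionField) := by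
    refine Set.Subset.antisymm (fun a ha => ?_) ?_
    · by_contra hne
      haveI := (hnorm x).1
      haveI := hval x
      rcases ValuationRing.isInteger_or_isInteger (X.presheaf.stalk x) a with ⟨b, hb⟩ | ⟨b, hb⟩
      · exact hne ⟨b, hb⟩
      have ha0 : a ≠ 0 := fun h => hne ⟨0, by rw [map_zero, h]⟩
      have hnu : ¬ IsUnit b := by
        intro hu
        refine hne ⟨((hu.unit⁻¹ : _ˣ) : X.presheaf.stalk x), ?_⟩
        have h1 := congrArg (algebraMap (X.presheaf.stalk x) X.functionField) hu.val_inv_mul
        rw [map_mul, map_one, hb] at h1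
        exact (eq_inv_of_mul_eq_one_left h1).trans (inv_inv a)
      refine hnu (isUnit_of_map_unit ψ.hom b (IsUnit.of_mul_eq_one ⟨a, ha⟩ (Subtype.ext ?_)))
      show ((ψ.hom b : R) : X.functionField) * a = 1
      rw [hval', hb, inv_mul_cancel₀ ha0]
    · rintro _ ⟨b, rfl⟩
      rw [← hval' b]
      exact (ψ.hom b).2
  refine ⟨x, hrange, fun y hy => ?_⟩
  by_contra hxy
  have htd : topologicalKrullDim X ≤ 1 := topologicalKrullDim_le_one hdim
  have h1 := CurveAmpLib.sup_eq_top htd hxy
  have hs : ∀ z : X, (R : Set X.functionField) = Set.range (algebraMap (X.presheaf.stalk z) X.functionField) →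
      CurveAmpLib.stalkSub z = R.toSubring := fun z hz => SetLike.coe_injective (by
    show Set.range _ = (R : Set X.functionField); exact hz.symm)
  rw [hs x hrange, hs y hy, sup_idem] at h1
  apply hR
  ext a
  exact ⟨fun _ => trivial, fun _ => show a ∈ R.toSubring from h1 ▸ Subring.mem_top a⟩


end Groth.Agent.S4451
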