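import Groth.Statements.S4445
import Groth.Agent.WeilExtLib.Codim
import Groth.Agent.MiscFlat6.NormalLowDim
import Groth.Agent.S4443
import Groth.Agent.S4451
import Mathlib

set_option autoImplicit false
universe u
open CategoryTheory CategoryTheory.Limits AlgebraicGeometry
attribute [local instance] Curv2.stalkAlgebra
open EGA2

namespace Groth.Agent.S4445

/-- Let X be a normal irreducible algebraic curve over a field k with field of rational functions K, and
Y an integral complete (proper over k) algebraic curve with field of rational functions L. Dominant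
k-morphisms X ⟶ Y correspond bijectively to k-embeddings L → K: for every k-algebra homomorphism φ :
L → K there is exactly one k-morphism u : X ⟶ Y mapping the generic point of X to the generic point
of Y and inducing φ on the stalks at the generic points. -/
theorem result (k : Type u) [Field k] (X Y : Scheme.{u})
    [X.Over (Spec (CommRingCat.of k))] [LocallyOfFiniteType (X ↘ (Spec (CommRingCat.of k)))]
    [QuasiCompact (X ↘ (Spec (CommRingCat.of k)))] [IsSeparated (X ↘ (Spec (CommRingCat.of k)))] [IsIntegral X]
    (hX : ∀ x : X, IsClosed ({x} : Set X) → ringKrullDim (X.presheaf.stalk x) = 1) (hnorm : Pi1.IsNormalScheme X)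
    [Y.Over (Spec (CommRingCat.of k))] [IsProper (Y ↘ (Spec (CommRingCat.of k)))] [IsIntegral Y]
    (hY : ∀ y : Y, IsClosed ({y} : Set Y) → ringKrullDim (Y.presheaf.stalk y) = 1)
    (φ : Y.functionField →ₐ[k] X.functionField) :
    ∃! u : X ⟶ Y, u ≫ (Y ↘ (Spec (CommRingCat.of k))) = X ↘ (Spec (CommRingCat.of k)) ∧
      ∃ hu : u.base (genericPoint X) = genericPoint Y,
        (Y.presheaf.stalkSpecializes (specializes_of_eq hu) ≫ u.stalkMap (genericPoint X)).hom = (φ : Y.functionField →+* X.functionField) := by
  classical
  let sX := X ↘ Spec (CommRingCat.of k)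
  let sY := Y ↘ Spec (CommRingCat.of k)
  haveI : IsLocallyNoetherian X := LocallyOfFiniteType.isLocallyNoetherian sX
  have hgen : ∀ x : X, ¬ IsClosed ({x} : Set X) → x = genericPoint X := (S4443.result k X hX).1
  have hdim : ∀ x : X, ringKrullDim (X.presheaf.stalk x) ≤ 1 := fun x => by
    by_cases hc : IsClosed ({x} : Set X)
    · exact (hX x hc).le
    · rw [hgen x hc, ringKrullDim_eq_zero_of_isField (Field.toIsField X.functionField)]
      exact zero_le_one
  have hreg : ∀ x : X, ringKrullDim (X.presheaf.stalk x) ≤ 1 → IsRegularLocalRing (X.presheaf.stalk x) := fun x hx => by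
    haveI := (hnorm x).1
    haveI := (hnorm x).2
    exact MiscFlat6.isRegularLocalRing_of_normal_dim_le_one _ hx
  let φ₀ : Y.functionField ⟶ X.functionField := CommRingCat.ofHom (φ : Y.functionField →+* X.functionField)
  let ψ : Spec X.functionField ⟶ Y := Spec.map φ₀ ≫ Y.fromSpecStalk (genericPoint Y)
  have hψ : ψ ≫ sY = X.fromSpecStalk (genericPoint X) ≫ sX := by
    rw [Category.assoc, S4451.fromSpecStalk_comp_over, S4451.fromSpecStalk_comp_over, ← Spec.map_comp]
    congr 1
    ext c
    exact φ.commutes c
  let f := Scheme.PartialMap.ofFromSpecStalk sX sY ψ hψ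
  have hmem : genericPoint X ∈ f.domain := Scheme.PartialMap.mem_domain_ofFromSpecStalk sX sY ψ hψ
  obtain ⟨U, hVU, g, hg, hgV, hU⟩ := WeilExtLib.exists_extend_proper sY sX hreg f.domain f.dense_domain f.hom
    (Scheme.PartialMap.ofFromSpecStalk_comp sX sY ψ hψ)
  obtain rfl : U = ⊤ := eq_top_iff.mpr fun x _ => hU x (hdim x)
  let u : X ⟶ Y := X.topIso.inv ≫ g
  have hfu : f.domain.ι ≫ u = f.hom := by
    rw [← hgV, ← Category.assoc]
    congr 1
    rw [← cancel_mono (⊤ : X.Opens).ι, Scheme.homOfLE_ι, Category.assoc]
    exact Eq.trans (congrArg _ X.topIso.inv_hom_id) (Category.comp_id _)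
  have hus : u ≫ sY = sX := by
    rw [Category.assoc, hg, ← Category.assoc]
    exact Eq.trans (congrArg (fun e => e ≫ sX) X.topIso.inv_hom_id) (Category.id_comp _)
  have hu : X.fromSpecStalk (genericPoint X) ≫ u = ψ := by
    have h := Scheme.PartialMap.fromSpecStalkOfMem_ofFromSpecStalk sX sY ψ hψ
    change f.domain.fromSpecStalkOfMem _ hmem ≫ f.hom = ψ at h
    rw [← hfu, ← Category.assoc, Scheme.Opens.fromSpecStalkOfMem_ι] at h
    exact h
  -- translation between the two conditions
  have key : ∀ v : X ⟶ Y, (∃ hv : v.base (genericPoint X) = genericPoint Y,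
      (Y.presheaf.stalkSpecializes (specializes_of_eq hv) ≫ v.stalkMap (genericPoint X)).hom =
        (φ : Y.functionField →+* X.functionField)) ↔ X.fromSpecStalk (genericPoint X) ≫ v = ψ := by
    intro v
    constructor
    · rintro ⟨hv, he⟩
      have h1 : Y.presheaf.stalkSpecializes (specializes_of_eq hv) ≫ v.stalkMap (genericPoint X) = φ₀ :=
        CommRingCat.hom_ext he
      show _ = Spec.map φ₀ ≫ _
      rw [← h1, Spec.map_comp, Category.assoc, Scheme.SpecMap_stalkSpecializes_fromSpecStalk,
        Scheme.SpecMap_stalkMap_fromSpecStalk]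
    · intro h
      have hv : v.base (genericPoint X) = genericPoint Y := by
        have h1 : (X.fromSpecStalk (genericPoint X) ≫ v) (IsLocalRing.closedPoint X.functionField) =
            ψ (IsLocalRing.closedPoint X.functionField) := by rw [h]
        rw [Scheme.Hom.comp_apply, Scheme.fromSpecStalk_closedPoint] at h1
        rw [show v.base (genericPoint X) = v (genericPoint X) from rfl, h1]
        show (Spec.map φ₀ ≫ Y.fromSpecStalk (genericPoint Y)) _ = _
        rw [Scheme.Hom.comp_apply, Subsingleton.elim (α := PrimeSpectrum Y.functionField)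
          (Spec.map φ₀ (IsLocalRing.closedPoint X.functionField)) (IsLocalRing.closedPoint Y.functionField),
          Scheme.fromSpecStalk_closedPoint]
      refine ⟨hv, congrArg CommRingCat.Hom.hom (?_ :
        Y.presheaf.stalkSpecializes (specializes_of_eq hv) ≫ v.stalkMap (genericPoint X) = φ₀)⟩
      apply Spec.map_injective
      rw [← cancel_mono (Y.fromSpecStalk (genericPoint Y)), Spec.map_comp, Category.assoc,
        Scheme.SpecMap_stalkSpecializes_fromSpecStalk, Scheme.SpecMap_stalkMap_fromSpecStalk]
      exact h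
  refine ⟨u, ⟨hus, (key u).2 hu⟩, ?_⟩
  rintro v ⟨hvs, hv⟩
  haveI : IsDominant (X.fromSpecStalk (genericPoint X)) := ⟨by
    intro x
    exact (genericPoint_specializes x).mem_closed isClosed_closure (subset_closure ⟨_, Scheme.fromSpecStalk_closedPoint⟩)⟩
  haveI : v.IsOver (Spec (CommRingCat.of k)) := ⟨hvs⟩
  haveI : u.IsOver (Spec (CommRingCat.of k)) := ⟨hus⟩
  exact ext_of_isDominant_of_isSeparated' (Spec (CommRingCat.of k)) (X.fromSpecStalk (genericPoint X))
    (((key v).1 hv).trans hu.symm)
end Groth.Agent.S4445
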