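import Groth.Statements.S0088
import Groth.Agent.EtShLib.StrictLocal
import Groth.Agent.SpreadFPLib.Basic
import Groth.Agent.S0495
import Groth.Agent.EtShLib.PushStalk
import Groth.Agent.ProfSpecLib.Basic

set_option maxHeartbeats 1000000
set_option linter.unusedSectionVars false
set_option backward.isDefEq.respectTransparency false
set_option backward.isDefEq.respectTransparency.types false

set_option autoImplicit false
open CategoryTheory CategoryTheory.Limits AlgebraicGeometry Opposite
universe u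
open EtBase

namespace Groth.Agent.S0088

open Groth.Agent.EtShLib

variable {S : Scheme.{u}}

/-- An open subscheme as an object of the small étale site. -/
noncomputable abbrev openEt (W : S.Opens) : S.Etale := Scheme.Etale.mk W.ι

theorem henselian_stalk (h1 : ∀ s : S, IsClosed ({s} : Set S)) (s : S) :
    HenselianLocalRing (S.presheaf.stalk s) := by
  haveI : Subsingleton (PrimeSpectrum (S.presheaf.stalk s)) := ⟨fun a b => by
    apply (S.fromSpecStalk s).isEmbedding.injective
    have h : ∀ c, S.fromSpecStalk s c = s := fun c => by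
      have hc : S.fromSpecStalk s c ∈ Set.range (S.fromSpecStalk s) := ⟨c, rfl⟩
      rw [Scheme.range_fromSpecStalk] at hc
      exact ((hc : S.fromSpecStalk s c ⤳ s).mem_closed (h1 _) rfl).symm
    rw [h a, h b]⟩
  exact S0495.result _ Order.krullDim_eq_zero

theorem exists_open_lift (h1 : ∀ s : S, IsClosed ({s} : Set S)) (s : S)
    [IsSepClosed (IsLocalRing.ResidueField (S.presheaf.stalk s))]
    (V : S.Etale) (v : Fib (S.fromSpecResidueField s) V) :
    ∃ W : S.Opens, s ∈ W ∧ Nonempty (openEt W ⟶ V) := by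
  haveI := henselian_stalk h1 s
  haveI : AlgebraicGeometry.Etale V.hom := V.prop
  obtain ⟨σ, hσ, -⟩ := SubmDescLib.exists_hensel_section (L := S.presheaf.stalk s)
    (S.residue s).hom Ideal.Quotient.mk_surjective (pullback.snd V.hom (S.fromSpecStalk s))
    (pullback.lift v.hom (Spec.map (S.residue s)) v.w) (pullback.lift_snd _ _ _)
  obtain ⟨W, hsW, f, -, hf⟩ := SpreadFPLib.spread_out (𝟙 S) V.hom (x := s)
    (σ ≫ pullback.fst V.hom (S.fromSpecStalk s)) (by
      rw [Category.assoc, pullback.condition, ← Category.assoc, hσ]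
      exact (Category.id_comp _).trans (Category.comp_id _).symm)
  exact ⟨W, hsW, ⟨MorphismProperty.Over.homMk f (hf.trans (Category.comp_id _))⟩⟩

theorem surjective_sections (hA : IsAffine S) (h1 : ∀ s : S, IsClosed ({s} : Set S))
    (h2 : ∀ s : S, IsSepClosed (S.residueField s)) {F G : EtCoh.Ab S} (α : F ⟶ G) [Epi α] :
    Function.Surjective (α.hom.app (op (EtCoh.top S))) := fun y => by
  haveI : T2Space (PrimeSpectrum Γ(S, ⊤)) := ProfSpecLib.t2Space _ fun q => by
    rw [← PrimeSpectrum.isClosed_singleton_iff_isMaximal]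
    have h := (h1 (S.isoSpec.inv q)).preimage S.isoSpec.inv.continuous
    have e : (S.isoSpec.inv ⁻¹' {S.isoSpec.inv q} : Set (Spec Γ(S, ⊤))) = {q} :=
      Set.ext fun w => ⟨fun hw => S.isoSpec.inv.isOpenEmbedding.injective hw, fun hw => congrArg S.isoSpec.inv hw⟩
    rw [e] at h
    exact h
  haveI : T2Space (Spec Γ(S, ⊤)) := ‹T2Space (PrimeSpectrum Γ(S, ⊤))›
  haveI : T2Space S := S.isoSpec.hom.isOpenEmbedding.isEmbedding.t2Space
  have hT : IsTerminal (EtCoh.top S) := MorphismProperty.Over.mkIdTerminal EtCoh.etaleMP S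
  have loc : ∀ s : S, ∃ W : S.Opens, s ∈ W ∧ IsClosed (W : Set S) ∧
      ∃ x : F.obj.obj (op (openEt W)), α.hom.app (op (openEt W)) x = G.obj.map (hT.from (openEt W)).op y := by
    intro s
    haveI := h2 s
    haveI : IsSepClosed (IsLocalRing.ResidueField (S.presheaf.stalk s)) := h2 s
    let ξ := S.fromSpecResidueField s
    haveI := (epi_iff_stalks α).1 inferInstance _ ξ
    let t : Fib ξ (EtCoh.top S) := Fib.mk ξ (Category.comp_id _)
    obtain ⟨p, hp⟩ := (AddCommGrpCat.epi_iff_surjective _).1 ‹_›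
      (germ (A := AddCommGrpCat.{u + 1}) ξ G _ t y)
    obtain ⟨U, u, x, rfl⟩ := exists_germ (A := AddCommGrpCat.{u + 1}) ξ p
    rw [germ_natural_apply] at hp
    have ht : u.map (hT.from U) = t := Fib.ext (by
      have h := MorphismProperty.Over.w (hT.from U)
      rw [Fib.map_hom]
      refine Eq.trans ?_ u.w
      exact congrArg (u.hom ≫ ·) ((Category.comp_id _).symm.trans h))
    rw [← ht, ← germ_res_apply] at hp
    obtain ⟨V, g, v, -, he⟩ := (germ_eq_iff ξ U u _ _).1 hp
    obtain ⟨W₀, hsW₀, ⟨k⟩⟩ := exists_open_lift h1 s V v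
    obtain ⟨W, hW, hsW, hsub⟩ := exists_isAffineOpen_mem_and_subset (x := s) (U := W₀) hsW₀
    let l : openEt W ⟶ openEt W₀ := MorphismProperty.Over.homMk (S.homOfLE hsub) (Scheme.homOfLE_ι _ _)
    refine ⟨W, hsW, hW.isCompact.isClosed, F.obj.map (l ≫ k ≫ g).op x, ?_⟩
    rw [NatTrans.naturality_apply]
    simp only [op_comp, Functor.map_comp, ConcreteCategory.comp_apply]
    rw [he]
    simp only [← ConcreteCategory.comp_apply, ← Functor.map_comp, ← op_comp]
    rw [hT.hom_ext (l ≫ k ≫ g ≫ hT.from U) (hT.from _)]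
  classical
  choose W hsW hWc x hx using loc
  haveI : CompactSpace S := inferInstance
  obtain ⟨T, hT'⟩ := isCompact_univ.elim_finite_subcover (fun s => (W s : Set S)) (fun s => (W s).isOpen)
    (fun s _ => Set.mem_iUnion.2 ⟨s, hsW s⟩)
  let n := T.card
  let e : Fin n → S := fun i => (T.equivFin.symm i).1
  let D : Fin n → S.Opens := fun i => ⟨(W (e i) : Set S) \ ⋃ j : {j : Fin n // j < i}, (W (e j) : Set S),
    (W (e i)).isOpen.sdiff (isClosed_iUnion_of_finite fun j => hWc _)⟩
  have hD : ∀ i, D i ≤ W (e i) := fun i z hz => hz.1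
  have hdisj : ∀ i j, i ≠ j → ∀ z : S, z ∈ D i → z ∈ D j → False := by
    intro i j hij z hi hj
    rcases lt_or_gt_of_ne hij with h | h
    · exact hj.2 (Set.mem_iUnion.2 ⟨⟨i, h⟩, hi.1⟩)
    · exact hi.2 (Set.mem_iUnion.2 ⟨⟨j, h⟩, hj.1⟩)
  have hcov : ∀ z : S, ∃ i, z ∈ D i := by
    intro z
    obtain ⟨s, hs, hz⟩ := Set.mem_iUnion₂.1 (hT' (Set.mem_univ z))
    have hne : (Finset.univ.filter fun i : Fin n => z ∈ W (e i)).Nonempty :=
      ⟨T.equivFin ⟨s, hs⟩, by simpa [e] using hz⟩
    refine ⟨_, (Finset.mem_filter.1 (Finset.min'_mem _ hne)).2, fun hh => ?_⟩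
    obtain ⟨⟨j, hj⟩, hzj⟩ := Set.mem_iUnion.1 hh
    exact absurd (Finset.min'_le _ j (Finset.mem_filter.2 ⟨Finset.mem_univ _, hzj⟩)) (not_le.2 hj)
  let π : ∀ i : Fin n, openEt (D i) ⟶ EtCoh.top S := fun i => hT.from _
  have hπ : ∀ i, (π i).left = (D i).ι := fun i => (Category.comp_id _).symm.trans (MorphismProperty.Over.w (π i))
  have hmem : Sieve.ofArrows (fun i => openEt (D i)) π ∈ S.smallEtaleTopology (EtCoh.top S) := by
    rw [Scheme.ofArrows_mem_smallEtaleTopology_iff]
    refine Set.eq_univ_of_forall fun (z : S) => ?_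
    obtain ⟨i, hi⟩ := hcov z
    exact Set.mem_iUnion.2 ⟨i, ⟨z, hi⟩, by rw [hπ]; rfl⟩
  have hsh : ∀ H : EtCoh.Ab S,
      (Presieve.ofArrows (fun i => openEt (D i)) π).IsSheafFor (H.obj ⋙ forget AddCommGrpCat.{u + 1}) := by
    intro H
    rw [Presieve.isSheafFor_iff_generate]
    exact ((isSheaf_iff_isSheaf_of_type _ _).1
      (GrothendieckTopology.HasSheafCompose.isSheaf H.obj H.property)) _ hmem
  let r : ∀ i, openEt (D i) ⟶ openEt (W (e i)) := fun i =>
    MorphismProperty.Over.homMk (S.homOfLE (hD i)) (Scheme.homOfLE_ι _ _)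
  obtain ⟨t, ht, -⟩ := (Presieve.isSheafFor_arrows_iff _ _).1 (hsh F)
    (fun i => F.obj.map (r i).op (x (e i))) (fun i j Z p q h => by
      rcases eq_or_ne i j with rfl | hij
      · have : p = q := MorphismProperty.Over.Hom.ext ((cancel_mono (D i).ι).1 (by
          rw [← hπ]
          exact congrArg (fun a => a.left) h))
        rw [this]
      · haveI : IsEmpty Z.left := ⟨fun z => hdisj i j hij ((D i).ι (p.left z)) (p.left z).2 (by
          have h' : (p.left ≫ (D i).ι) z = (q.left ≫ (D j).ι) z := by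
            rw [← hπ i, ← hπ j]
            exact congrArg (fun a : Z ⟶ EtCoh.top S => a.left z) h
          refine Eq.mpr (congrArg (· ∈ D j) h') ?_
          exact (q.left z).2)⟩
        haveI := subsingleton_sect_of_isEmpty F Z
        exact Subsingleton.elim (α := F.obj.obj (op Z)) _ _)
  refine ⟨t, res_ext G _ _ fun z => ?_⟩
  obtain ⟨i, hi⟩ := hcov z
  refine ⟨openEt (D i), π i, ⟨⟨z, hi⟩, by rw [hπ]; rfl⟩, ?_⟩
  rw [← NatTrans.naturality_apply]
  erw [ht i]
  rw [NatTrans.naturality_apply, hx]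
  simp only [← ConcreteCategory.comp_apply, ← Functor.map_comp, ← op_comp]
  rw [hT.hom_ext (r i ≫ hT.from _) (π i)]

theorem projective_const (hA : IsAffine S) (h1 : ∀ s : S, IsClosed ({s} : Set S))
    (h2 : ∀ s : S, IsSepClosed (S.residueField s)) :
    Projective ((constantSheaf S.smallEtaleTopology AddCommGrpCat.{u + 1}).obj
      (AddCommGrpCat.of (ULift ℤ))) := by
  have hT : IsTerminal (EtCoh.top S) := MorphismProperty.Over.mkIdTerminal EtCoh.etaleMP S
  haveI : Projective (AddCommGrpCat.of (ULift.{u + 1} ℤ)) :=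
    ⟨fun {E X} f e he => by
      obtain ⟨x, hx⟩ := (AddCommGrpCat.epi_iff_surjective e).1 he (f (ULift.up 1))
      refine ⟨AddCommGrpCat.ofHom ((zmultiplesHom _ x).comp AddEquiv.ulift.toAddMonoidHom), ?_⟩
      ext n
      show e (n.down • x) = f n
      rw [map_zsmul, hx, ← map_zsmul]
      exact congrArg f (ULift.ext _ _ (by simp))⟩
  haveI : ((sheafSections S.smallEtaleTopology AddCommGrpCat.{u + 1}).obj
      (op (EtCoh.top S))).PreservesEpimorphisms :=
    ⟨fun α hα => (AddCommGrpCat.epi_iff_surjective _).2 (surjective_sections hA h1 h2 α)⟩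
  exact Adjunction.map_projective (constantSheafAdj _ _ hT) _ inferInstance

/-- On an affine scheme all of whose points are closed and all of whose residue fields are separably
closed, every abelian étale sheaf has vanishing cohomology in positive degrees. -/
theorem result (S : Scheme.{u}) [IsAffine S] (h1 : ∀ s : S, IsClosed ({s} : Set S))
    (h2 : ∀ s : S, IsSepClosed (S.residueField s)) (F : EtCoh.Ab S) (i : ℕ) (hi : 1 ≤ i) :
    Subsingleton (EtCoh.H S F i) := by
  haveI := projective_const ‹IsAffine S› h1 h2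
  obtain ⟨n, rfl⟩ : ∃ n, i = n + 1 := ⟨i - 1, by omega⟩
  exact subsingleton_of_forall_eq 0 Abelian.Ext.eq_zero_of_projective

end Groth.Agent.S0088
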