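import Groth.Statements.S3243
import Groth.Agent.EtTransferLib.PointPushH
import Groth.Agent.ConstUnitLib.Sections
-- import your own Groth.Agent.* helpers here

set_option maxHeartbeats 1000000
set_option backward.isDefEq.respectTransparency false
set_option backward.isDefEq.respectTransparency.types false
set_option autoImplicit false
universe u
open CategoryTheory AlgebraicGeometry
open Dix

namespace Groth.Agent.S3243

open CategoryTheory.Abelian CategoryTheory.Limits Groth.Agent.EtShLib EtTransferLib EtSliceLib Opposite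

/-- The constant sheaf functor. -/
noncomputable abbrev cSh (X : Scheme.{u}) : AddCommGrpCat.{u + 1} ⥤ EtCoh.Ab X :=
  constantSheaf X.smallEtaleTopology AddCommGrpCat.{u + 1}

theorem surjective_unit (X : Scheme.{u}) [Subsingleton ↥X] [Nonempty ↥X] (A : AddCommGrpCat.{u + 1}) :
    Function.Surjective ((EtCore.constAdj X).unit.app A) := by
  intro t
  haveI : Subsingleton ↥(EtCoh.top X).left := inferInstanceAs (Subsingleton ↥X)
  let η : A ⟶ ((cSh X).obj A).obj.obj (op (EtCoh.top X)) :=
    (toSheafify X.smallEtaleTopology ((Functor.const (X.Etale)ᵒᵖ).obj A)).app (op (EtCoh.top X))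
  have h : IsCst ((cSh X).obj A) (EtCoh.top X) η := ConstUnitLib.isCst_const A
  let hT := EtCore.topIsTerminal X
  let y : (EtCoh.top X).left := (Classical.arbitrary ↥X)
  let m := ConstUnitLib.val (hT := hT) h t y
  have hu : (EtCore.constAdj X).unit.app A = η := by
    simp [η, EtCore.constAdj, constantSheafAdj, constantPresheafAdj]
  refine ⟨m, ?_⟩
  rw [hu]
  have hc : ConstUnitLib.cSec hT η (EtCoh.top X) m = η m := by
    dsimp only [ConstUnitLib.cSec]
    rw [hT.hom_ext (hT.from (EtCoh.top X)) (𝟙 _), op_id, CategoryTheory.Functor.map_id]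
    rfl
  refine hc.symm.trans ?_
  refine ConstUnitLib.val_ext (hT := hT) h fun z => ?_
  rw [ConstUnitLib.val_cSec, Subsingleton.elim z y]

theorem subsingleton_H1_field (k : Type u) [Field k] (M : Type) [AddCommGroup M] [IsAddTorsionFree M] :
    Subsingleton (EtCoh.H (Spec (CommRingCat.of k)) (EtCoh.const (Spec (CommRingCat.of k)) M) 1) := by
  let X := Spec (CommRingCat.of k)
  let adj := EtCore.constAdj X
  haveI : (EtCore.gsec X).Additive := ⟨fun {X Y f g} => rfl⟩
  haveI : (cSh X).Additive := adj.left_adjoint_additive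
  haveI : PreservesFiniteColimits (cSh X) :=
    haveI : PreservesColimitsOfSize.{0, 0} (cSh X) := adj.leftAdjoint_preservesColimits
    PreservesColimitsOfSize.preservesFiniteColimits _
  haveI : PreservesFiniteLimits (cSh X) :=
    comp_preservesFiniteLimits (Functor.const _) (presheafToSheaf X.smallEtaleTopology AddCommGrpCat.{u + 1})
  refine subsingleton_of_forall_eq 0 fun x => ?_
  obtain ⟨d, hd, hx⟩ := isOfFinAddOrder_H k (n := 0) x
  let A := AddCommGrpCat.of (ULift.{u + 1} M)
  let g : A ⟶ A := d • 𝟙 A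
  have hg : ∀ a : A, g a = d • a := fun a => by simp [g]
  haveI : Mono g := (AddCommGrpCat.mono_iff_injective _).2 fun a b e => by
    rw [hg, hg] at e
    exact ULift.ext _ _ (nsmul_right_injective hd.ne' (congrArg ULift.down e :))
  let S := ShortComplex.mk g (cokernel.π g) (cokernel.condition g)
  have hS : S.ShortExact := { exact := ShortComplex.exact_of_g_is_cokernel _ (cokernelIsCokernel _) }
  have hS' := hS.map_of_exact (cSh X)
  have hgd : (cSh X).map g = d • 𝟙 _ := by rw [Functor.map_nsmul, CategoryTheory.Functor.map_id]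
  have hx' : x.comp (Ext.mk₀ (S.map (cSh X)).f) (add_zero 1) = 0 := by
    show x.comp (Ext.mk₀ ((cSh X).map g)) (add_zero 1) = 0
    rw [hgd]
    exact (comp_mk₀_nsmul x d).trans hx
  obtain ⟨c, hc⟩ := Ext.covariant_sequence_exact₁ _ hS' x hx' (n₀ := 0) rfl
  obtain ⟨h, rfl⟩ := (Ext.mk₀_bijective _ _).2 c
  obtain ⟨a, ha⟩ := surjective_unit X _ (adj.homEquiv _ _ h ⟨1⟩)
  obtain ⟨m, hm⟩ := (AddCommGrpCat.epi_iff_surjective S.g).1 hS.epi_g a
  have e : h = (cSh X).map (intHom m) ≫ (S.map (cSh X)).g := by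
    show h = (cSh X).map (intHom m) ≫ (cSh X).map S.g
    rw [← Functor.map_comp]
    apply (adj.homEquiv _ _).injective
    refine Eq.trans ?_ ((adj.homEquiv_unit _ _ _).trans (adj.unit.naturality _).symm).symm
    refine ulift_int_hom_ext ?_
    rw [← ha, ← hm]
    show _ = adj.unit.app S.X₃ (S.g (intHom m ⟨1⟩))
    rw [intHom_one]
  rw [← hc, e, ← Ext.mk₀_comp_mk₀, Ext.comp_assoc_of_second_deg_zero, hS'.comp_extClass, Ext.comp_zero]

theorem subsingleton_H1_push {k : Type u} [Field k] {X : Scheme.{u}} (f : Spec (CommRingCat.of k) ⟶ X)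
    (F : EtCoh.Ab (Spec (CommRingCat.of k))) [Subsingleton (EtCoh.H (Spec (CommRingCat.of k)) F 1)] :
    Subsingleton (EtCoh.H X ((EtCoh.push f).obj F) 1) := by
  haveI : PreservesLimitsOfSize.{0, 0} (EtCoh.push f) := (EtCoh.pullPushAdj f).rightAdjoint_preservesLimits
  haveI : PreservesFiniteLimits (EtCoh.push f) := PreservesLimitsOfSize.preservesFiniteLimits _
  haveI : (EtCoh.push f).Additive := { }
  haveI : (EtCoh.pull f).PreservesMonomorphisms := inferInstance
  refine subsingleton_of_forall_eq 0 fun x => ?_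
  let ip := (EnoughInjectives.presentation F).some
  let S := ShortComplex.mk ip.f (cokernel.π ip.f) (cokernel.condition _)
  have hS : S.ShortExact := { exact := ShortComplex.exact_of_g_is_cokernel _ (cokernelIsCokernel _) }
  haveI : Injective S.X₂ := ip.injective
  let G := EtCoh.push f
  let S₁ := ShortComplex.mk (G.map S.f) (cokernel.π (G.map S.f)) (cokernel.condition _)
  haveI : Mono (G.map S.f) := G.map_mono _
  have h₁ : S₁.ShortExact := { exact := ShortComplex.exact_of_g_is_cokernel _ (cokernelIsCokernel _) }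
  haveI : Injective S₁.X₂ := Injective.injective_of_adjoint (EtCoh.pullPushAdj f) S.X₂
  let j : S₁.X₃ ⟶ G.obj S.X₃ := cokernel.desc (G.map S.f) (G.map S.g) (by rw [← G.map_comp, S.zero, G.map_zero])
  haveI : Mono j := (S.map G).exact_iff_mono_cokernel_desc.1 (hS.exact.map_of_mono_of_preservesKernel G inferInstance inferInstance)
  obtain ⟨d, rfl⟩ := Ext.covariant_sequence_exact₁ _ h₁ (n₁ := 0 + 1) x (Ext.eq_zero_of_injective _) (n₀ := 0) rfl
  obtain ⟨d, rfl⟩ := (Ext.mk₀_bijective _ _).2 d
  let adj := EtCoh.pullPushAdj f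
  let d' := (adj.homEquiv _ _).symm (d ≫ j)
  have h0 : (Ext.mk₀ d').comp hS.extClass (zero_add 1) = 0 := by
    have h := Subsingleton.elim ((Ext.mk₀ (EtCore.pullConst f ℤ).inv).comp
      ((Ext.mk₀ d').comp hS.extClass (zero_add 1)) (zero_add 1) : EtCoh.H (Spec (CommRingCat.of k)) F 1) 0
    have h' := congrArg (fun w => (Ext.mk₀ (EtCore.pullConst f ℤ).hom).comp w (zero_add 1)) h
    rw [Ext.mk₀_comp_mk₀_assoc, Iso.hom_inv_id, Ext.mk₀_id_comp, Ext.comp_zero] at h'
    exact h'
  obtain ⟨w, hw⟩ := Ext.covariant_sequence_exact₃ _ hS _ (n₁ := 1) (zero_add 1) h0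
  obtain ⟨e, rfl⟩ := (Ext.mk₀_bijective _ S.X₂).2 w
  rw [Ext.mk₀_comp_mk₀] at hw
  have he : e ≫ S.g = d' := (Ext.mk₀_bijective _ _).1 hw
  have hd : d = adj.homEquiv _ _ e ≫ S₁.g := by
    rw [← cancel_mono j, Category.assoc]
    show d ≫ j = adj.homEquiv _ _ e ≫ cokernel.π (G.map S.f) ≫ cokernel.desc _ _ _
    rw [cokernel.π_desc, ← Adjunction.homEquiv_naturality_right, he, Equiv.apply_symm_apply]
  rw [hd, ← Ext.mk₀_comp_mk₀, Ext.comp_assoc_of_second_deg_zero, h₁.comp_extClass, Ext.comp_zero]

/-- Let X be quasi-compact and quasi-separated, x a point of X and M a torsion-free abelian group, M_x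
the constant sheaf on Spec κ(x). Then H¹(X_ét, i_{x*} M_x) = 0. -/
theorem result (X : Scheme.{u}) [CompactSpace X] [QuasiSeparatedSpace X] (x : X) (M : Type) [AddCommGroup M] [IsAddTorsionFree M] : Subsingleton (EtCoh.H X ((Dix.skyPush X x).obj (EtCoh.const (Spec (X.residueField x)) M)) 1) := by
  haveI : Subsingleton (EtCoh.H (Spec (CommRingCat.of ↑(X.residueField x))) (EtCoh.const (Spec (CommRingCat.of ↑(X.residueField x))) M) 1) :=
    subsingleton_H1_field _ M
  exact subsingleton_H1_push (k := X.residueField x) (X.fromSpecResidueField x) _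

end Groth.Agent.S3243
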