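import Groth.Statements.S14451
import Groth.Agent.TorsBCLib.Generic
import Groth.Agent.RDerLib.LeftExact
import Groth.Prelude.Def_EtLim

set_option backward.isDefEq.respectTransparency false
set_option backward.isDefEq.respectTransparency.types false
set_option maxHeartbeats 1000000

set_option autoImplicit false
universe u
open CategoryTheory CategoryTheory.Limits AlgebraicGeometry
open EtCore

namespace Groth.Agent.S14451

open CategoryTheory.Abelian

section Generic

universe w v v' u'' u'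

variable {C : Type u'} [Category.{v} C] [Abelian C] [HasExt.{w} C]
  {D : Type u''} [Category.{v'} D] [Abelian D] [HasExt.{w} D] [EnoughInjectives D]
  {F : C ⥤ D} {G : D ⥤ C} (adj : F ⊣ G) [F.Additive] [G.Additive]
  [PreservesFiniteLimits F] [PreservesFiniteColimits F] [PreservesFiniteLimits G]

/-- `Ext^n(X, G Y) → Ext^n(F X, Y)`. -/
noncomputable def extAdj' (X : C) (Y : D) (n : ℕ) : Ext.{w} X (G.obj Y) n →+ Ext.{w} (F.obj X) Y n :=
  (TorsBCLib.em (F.obj X) (adj.counit.app Y) n).comp (F.mapExtAddHom X (G.obj Y) n)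

omit [EnoughInjectives D] [PreservesFiniteLimits G] in
theorem extAdj'_delta (X : C) {S : ShortComplex D} (hS : S.ShortExact) (hG : (S.map G).ShortExact) {n : ℕ}
    (x : Ext.{w} X (G.obj S.X₃) n) :
    (extAdj' adj X S.X₃ n x).comp hS.extClass rfl = extAdj' adj X S.X₁ (n + 1) (x.comp hG.extClass rfl) := by
  let ψ : (S.map G).map F ⟶ S :=
    ⟨adj.counit.app S.X₁, adj.counit.app S.X₂, adj.counit.app S.X₃,
      (adj.counit.naturality S.f).symm, (adj.counit.naturality S.g).symm⟩
  have hnat := (hG.map_of_exact F).extClass_naturality hS ψ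
  have key : ∀ c : Ext.{w} (G.obj S.X₃) (G.obj S.X₁) 1,
      (Ext.mk₀ (adj.counit.app S.X₃)).comp hS.extClass (zero_add 1) =
        (c.mapExactFunctor F).comp (Ext.mk₀ (adj.counit.app S.X₁)) (add_zero 1) →
      (extAdj' adj X S.X₃ n x).comp hS.extClass rfl = extAdj' adj X S.X₁ (n + 1) (x.comp c rfl) := by
    intro c hc
    show ((x.mapExactFunctor F).comp (Ext.mk₀ (adj.counit.app S.X₃)) (add_zero n)).comp hS.extClass rfl =
      ((x.comp c rfl).mapExactFunctor F).comp (Ext.mk₀ (adj.counit.app S.X₁)) (add_zero _)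
    rw [Ext.mapExactFunctor_comp, Ext.comp_assoc_of_second_deg_zero, Ext.comp_assoc_of_third_deg_zero, hc]
  refine key hG.extClass ?_
  erw [Ext.mapExactFunctor_extClass]
  exact hnat.symm

omit [EnoughInjectives D] [PreservesFiniteLimits G] in
theorem extAdj'_em (X : C) {Y Y' : D} (f : Y ⟶ Y') {n : ℕ} (x : Ext.{w} X (G.obj Y) n) :
    TorsBCLib.em (F.obj X) f n (extAdj' adj X Y n x) = extAdj' adj X Y' n (TorsBCLib.em X (G.map f) n x) := by
  show ((x.mapExactFunctor F).comp (Ext.mk₀ (adj.counit.app Y)) (add_zero n)).comp (Ext.mk₀ f) (add_zero n) =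
    ((x.comp (Ext.mk₀ (G.map f)) (add_zero n)).mapExactFunctor F).comp (Ext.mk₀ (adj.counit.app Y')) (add_zero n)
  simp only [Ext.mapExactFunctor_comp, Ext.mapExactFunctor_mk₀,
    Ext.comp_assoc_of_second_deg_zero, Ext.mk₀_comp_mk₀]
  congr 2
  exact (adj.counit.naturality f).symm

theorem extAdj'_bijective [HasInjectiveResolutions D] (X : C) : ∀ (n : ℕ) (Y : D),
    (∀ q, IsZero ((G.rightDerived (q + 1)).obj Y)) → Function.Bijective (extAdj'.{w} adj X Y n) := by
  intro n
  induction n with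
  | zero =>
    intro Y _
    have : (extAdj'.{w} adj X Y 0 : _ → _) =
        Ext.mk₀ ∘ (adj.homEquiv X Y).symm ∘ Ext.addEquiv₀ := by
      funext x
      obtain ⟨f, rfl⟩ := Ext.addEquiv₀.symm.surjective x
      show ((Ext.mk₀ f).mapExactFunctor F).comp (Ext.mk₀ (adj.counit.app Y)) (add_zero 0) =
        Ext.mk₀ ((adj.homEquiv X Y).symm (Ext.addEquiv₀ (Ext.addEquiv₀.symm f)))
      rw [AddEquiv.apply_symm_apply, Ext.mapExactFunctor_mk₀, Ext.mk₀_comp_mk₀, Adjunction.homEquiv_counit]
    rw [this]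
    exact (Ext.mk₀_bijective _ _).comp ((adj.homEquiv X Y).symm.bijective.comp Ext.addEquiv₀.bijective)
  | succ n ih =>
    intro Y hY
    let ip := (EnoughInjectives.presentation Y).some
    let S := ShortComplex.mk ip.f (cokernel.π ip.f) (cokernel.condition _)
    have hS : S.ShortExact := { exact := ShortComplex.exact_of_g_is_cokernel _ (cokernelIsCokernel _) }
    have hG : (S.map G).ShortExact := RDerLib.map_shortExact hS
      ((RDerLib.epi_map_g_iff _).1 (RDerLib.epi_map_g hS 0 (hY 0)))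
    haveI : Injective S.X₂ := ip.injective
    haveI : F.PreservesMonomorphisms := inferInstance
    haveI : Injective (G.obj S.X₂) := Injective.injective_of_adjoint adj S.X₂
    have h₂ : ∀ q, IsZero ((G.rightDerived (q + 1)).obj S.X₂) := fun q =>
      G.isZero_rightDerived_obj_injective_succ q S.X₂
    have h₃ : ∀ q, IsZero ((G.rightDerived (q + 1)).obj S.X₃) := fun q =>
      RDerLib.isZero_X₃ hS (q + 1) (hY (q + 1)) (h₂ q)
    refine ⟨(injective_iff_map_eq_zero _).2 fun x hx => ?_, fun y => ?_⟩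
    · haveI : Injective (S.map G).X₂ := ‹Injective (G.obj S.X₂)›
      obtain ⟨z, rfl⟩ := Ext.covariant_sequence_exact₁ X hG x (Ext.eq_zero_of_injective _) (n₀ := n) rfl
      change Ext.{w} X (G.obj S.X₃) n at z
      change extAdj' adj X S.X₁ (n + 1) (z.comp hG.extClass rfl) = 0 at hx
      rw [← extAdj'_delta adj X hS hG z] at hx
      obtain ⟨y, hy⟩ := Ext.covariant_sequence_exact₃ (F.obj X) hS _ rfl hx
      obtain ⟨e, rfl⟩ := (ih S.X₂ h₂).2 y
      change TorsBCLib.em (F.obj X) S.g n _ = _ at hy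
      rw [extAdj'_em] at hy
      rw [← (ih S.X₃ h₃).1 hy]
      exact TorsBCLib.g_delta hG rfl e
    · obtain ⟨z, rfl⟩ := Ext.covariant_sequence_exact₁ (F.obj X) hS (n₁ := n + 1) y (Ext.eq_zero_of_injective _) (n₀ := n) rfl
      obtain ⟨e, rfl⟩ := (ih S.X₃ h₃).2 z
      exact ⟨e.comp hG.extClass rfl, (extAdj'_delta adj X hS hG e).symm⟩

end Generic

/-- Let f : X ⟶ Y be a morphism of schemes and F an abelian sheaf on the small étale site of X whose
higher direct images R^q f_* F vanish for all q > 0. Then for every p the canonical map H^p(Y, f_*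
F) → H^p(X, F) (pull back along f, then apply the counit f⁻¹ f_* F ⟶ F) is bijective. (Exactness of
f⁻¹, which always holds, is carried as an instance hypothesis.) -/
theorem result {X Y : Scheme.{u}} (f : X ⟶ Y)
    [PreservesFiniteLimits (EtCoh.pull f)] (F : EtCoh.Ab X)
    (hR : ∀ q : ℕ, 0 < q → IsZero ((EtCoh.Rpush f q).obj F)) (p : ℕ) :
    Function.Bijective (EtLim.HofPush f F p) := by
  haveI : PreservesLimitsOfSize.{0, 0} (EtCoh.push f) := (EtCoh.pullPushAdj f).rightAdjoint_preservesLimits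
  haveI : PreservesFiniteLimits (EtCoh.push f) := PreservesLimitsOfSize.preservesFiniteLimits _
  have h := extAdj'_bijective (EtCoh.pullPushAdj f) (EtCoh.const Y ℤ) p F fun q => hR (q + 1) (by omega)
  let E := Abelian.Ext.mk₀ (EtCore.pullConst f ℤ).inv
  have hb : Function.Bijective fun e : Abelian.Ext ((EtCoh.pull f).obj (EtCoh.const Y ℤ)) F p =>
      E.comp e (zero_add p) := by
    refine Function.bijective_iff_has_inverse.2
      ⟨fun e => (Abelian.Ext.mk₀ (EtCore.pullConst f ℤ).hom).comp e (zero_add p), fun e => ?_, fun e => ?_⟩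
    · show (Abelian.Ext.mk₀ _).comp ((Abelian.Ext.mk₀ _).comp e _) _ = e
      rw [Abelian.Ext.mk₀_comp_mk₀_assoc, Iso.hom_inv_id, Abelian.Ext.mk₀_id_comp]
    · show (Abelian.Ext.mk₀ _).comp ((Abelian.Ext.mk₀ _).comp e _) _ = e
      rw [Abelian.Ext.mk₀_comp_mk₀_assoc, Iso.inv_hom_id, Abelian.Ext.mk₀_id_comp]
  have e : (EtLim.HofPush f F p : _ → _) =
      (fun e : Abelian.Ext ((EtCoh.pull f).obj (EtCoh.const Y ℤ)) F p => E.comp e (zero_add p)) ∘
        extAdj' (EtCoh.pullPushAdj f) (EtCoh.const Y ℤ) F p := by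
    funext x
    show ((Abelian.Ext.mk₀ (EtCore.pullConst f ℤ).inv).comp (x.mapExactFunctor (EtCoh.pull f)) (zero_add p)).comp
        (Abelian.Ext.mk₀ ((EtCoh.pullPushAdj f).counit.app F)) (add_zero p) =
      (Abelian.Ext.mk₀ (EtCore.pullConst f ℤ).inv).comp ((x.mapExactFunctor (EtCoh.pull f)).comp
        (Abelian.Ext.mk₀ ((EtCoh.pullPushAdj f).counit.app F)) (add_zero p)) (zero_add p)
    exact Abelian.Ext.comp_assoc _ _ _ (zero_add p) (add_zero p) (by omega)
  rw [e]
  exact hb.comp h

end Groth.Agent.S14451
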