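import Groth.Statements.S0229
import Groth.Agent.S0228
import Groth.Agent.S0212
import Groth.Agent.S0214


set_option autoImplicit false
universe u
open CategoryTheory CategoryTheory.Limits AlgebraicGeometry
open Curves

namespace Groth.Agent.S0229

/-- For a field K of transcendence degree one over an algebraically closed field, G_m on the small étale
site of Spec K has no cohomology in positive degrees. -/
theorem result (k : Type u) [Field k] [IsAlgClosed k] (K : Type u) [Field K] [Algebra k K]
    (hK : Algebra.trdeg k K = 1) (q : ℕ) (hq : 1 ≤ q) :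
    Subsingleton (EtCoh.H (Spec (CommRingCat.of K)) (EtCoh.Gm (Spec (CommRingCat.of K))) q) := by
  refine Groth.Agent.S0228.result K (fun K' _ _ _ D _ _ _ _ => ?_) q hq
  letI : Algebra k K' := ((algebraMap K K').comp (algebraMap k K)).toAlgebra
  haveI : IsScalarTower k K K' := IsScalarTower.of_algebraMap_eq fun _ => rfl
  have hK' : Algebra.trdeg k K' = ((1 : ℕ) : Cardinal) := by
    rw [← trdeg_add_eq k K (A := K'), hK, trdeg_eq_zero]
    simp
  exact Groth.Agent.S0214.result K' ((fun n d f hf hd hn => (Groth.Agent.S0212.result k K' 1 hK' 1 n (fun _ => f) (fun _ => d) (fun _ => hf) (fun _ => hd) (by simpa using hn)).imp fun a ha => ⟨ha.1, ha.2 0⟩)) D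

end Groth.Agent.S0229
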