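import Groth.Statements.S0357
import Groth.Agent.LichtLib.Main

set_option autoImplicit false
universe u v
open CategoryTheory AlgebraicGeometry
open Dual

namespace Groth.Agent.S0357

/-- (1)⇔(3): let X be nonempty, separated and of finite type over a field, of dimension d. Then H^d(X,
F) vanishes for every coherent F exactly when no irreducible closed subscheme of X of dimension d is
proper over the field. ((3) is phrased with irreducible closed subschemes of dimension d, which are
the same as irreducible components of dimension d.) -/
theorem result (k : Type u) [Field k] (X : Scheme.{u}) (f : X ⟶ Spec (CommRingCat.of k)) [IsSeparated f] [LocallyOfFiniteType f] [QuasiCompact f] [Nonempty X] (d : ℕ) (hd : topologicalKrullDim X = d) : (∀ M : X.Modules, Coh.IsCoh M → Subsingleton (Coh.HH X M d)) ↔ ∀ (Z : Scheme.{u}) (i : Z ⟶ X) [IsClosedImmersion i] [IrreducibleSpace Z], topologicalKrullDim Z = d → ¬ IsProper (i ≫ f) := by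
  constructor
  · intro h Z i hi hZ hd' hp
    obtain ⟨M, hM, hnt⟩ := LichtLib.exists_nontrivial_of_closed f i hd' hp
    exact not_subsingleton_iff_nontrivial.2 hnt (h M hM)
  · intro h
    cases d with
    | zero =>
      haveI : IsProper f := LichtLib.isProper_of_dim_zero f (by exact_mod_cast hd.le)
      haveI : CompactSpace X := QuasiCompact.compactSpace_of_compactSpace f
      obtain ⟨x, -, hx⟩ := IsClosed.exists_closed_singleton (isClosed_univ (X := X)) Set.univ_nonempty
      obtain ⟨Z, i, hi, hZ, -⟩ := DevissLib.exists_integral_closed hx isIrreducible_singleton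
      have hdim : topologicalKrullDim Z = ((0 : ℕ) : WithBot ℕ∞) :=
        le_antisymm (i.isClosedEmbedding.isInducing.topologicalKrullDim_le.trans hd.le)
          (by exact_mod_cast LichtLib.zero_le_dim Z)
      exact absurd (show IsProper (i ≫ f) from inferInstance) (h Z i hdim)
    | succ d =>
      intro M hM
      refine LichtLib.subsingleton_top f hd.le (fun Z i hi hZ hd' => ?_) M hM
      haveI := hi
      exact h Z i hd'

end Groth.Agent.S0357
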