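import Groth.Statements.S8532
import Groth.Agent.EtTransferLib.Basic

set_option maxHeartbeats 1000000
set_option linter.unusedSectionVars false
set_option backward.isDefEq.respectTransparency false
set_option backward.isDefEq.respectTransparency.types false

set_option autoImplicit false
universe u
open CategoryTheory CategoryTheory.Limits AlgebraicGeometry Opposite
open EtAcyc

namespace Groth.Agent.S8532

open Groth.Agent.EtShLib

theorem card_sections {X X' : Scheme.{u}} (f : X' ⟶ X) [Etale f] (Ω : Type u) [Field Ω] [IsSepClosed Ω]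
    (ξ : Spec (CommRingCat.of Ω) ⟶ X) :
    Nat.card {l : Spec (CommRingCat.of Ω) ⟶ X' // l ≫ f = ξ} = Nat.card ↥(pullback f ξ) := by
  let p : pullback f ξ ⟶ Spec (CommRingCat.of Ω) := pullback.snd f ξ
  refine Nat.card_eq_of_bijective (fun l => (pullback.lift l.1 (𝟙 _) (l.2.trans (Category.id_comp ξ).symm) :
    Spec (CommRingCat.of Ω) ⟶ pullback f ξ) default) ⟨fun a b hab => ?_, fun x => ?_⟩
  · let s := (pullback.lift a.1 (𝟙 _) (a.2.trans (Category.id_comp ξ).symm) : Spec (CommRingCat.of Ω) ⟶ pullback f ξ)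
    let s' := (pullback.lift b.1 (𝟙 _) (b.2.trans (Category.id_comp ξ).symm) : Spec (CommRingCat.of Ω) ⟶ pullback f ξ)
    have hs : s ≫ p = 𝟙 _ := pullback.lift_snd _ _ _
    have hs' : s' ≫ p = 𝟙 _ := pullback.lift_snd _ _ _
    haveI : Etale p := inferInstance
    haveI : Etale (s ≫ p) := by rw [hs]; infer_instance
    haveI : Etale s := Etale.of_comp s p
    haveI : Mono (s ≫ p) := by rw [hs]; infer_instance
    haveI : Mono s := mono_of_mono s p
    haveI : IsOpenImmersion s := IsOpenImmersion.of_flat_of_mono _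
    have hr : Set.range s'.base ⊆ Set.range s.base := by
      rintro _ ⟨z, rfl⟩
      exact ⟨default, hab.trans (congrArg s'.base (Subsingleton.elim _ _))⟩
    have ht : IsOpenImmersion.lift s s' hr = 𝟙 _ := by
      have h1 := congrArg (· ≫ p) (IsOpenImmersion.lift_fac s s' hr)
      simp only [Category.assoc, hs, hs', Category.comp_id] at h1
      exact h1
    have h2 := IsOpenImmersion.lift_fac s s' hr
    rw [ht, Category.id_comp] at h2
    have h3 := congrArg (· ≫ pullback.fst f ξ) h2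
    simp only [s, s', pullback.lift_fst] at h3
    exact Subtype.ext h3
  · obtain ⟨l, hl, hl'⟩ := Scheme.exists_fac_of_etale_of_isSepClosed p (𝟙 _) x (Subsingleton.elim _ _)
    refine ⟨⟨l ≫ pullback.fst f ξ, by
      rw [Category.assoc, pullback.condition, ← Category.assoc, show l ≫ pullback.snd f ξ = 𝟙 _ from hl, Category.id_comp]⟩, ?_⟩
    refine Eq.trans (congrArg (fun t : Spec (CommRingCat.of Ω) ⟶ pullback f ξ => t default) ?_) hl'
    refine pullback.hom_ext (pullback.lift_fst _ _ _) ?_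
    rw [pullback.lift_snd]
    exact hl.symm

theorem eq_zero_of_coprime {A : Type*} [AddCommGroup A] {d m : ℕ} (h : Nat.Coprime d m) {a : A} (h1 : d • a = 0)
    (h2 : m • a = 0) : a = 0 := by
  have e := Nat.gcd_eq_gcd_ab d m
  rw [Nat.Coprime.gcd_eq_one h] at e
  have h3 : ((1 : ℕ) : ℤ) • a = (0 : A) := by
    rw [e, add_zsmul, mul_comm, mul_zsmul, natCast_zsmul, h1, zsmul_zero, mul_comm, mul_zsmul, natCast_zsmul, h2,
      zsmul_zero, add_zero]
  simpa using h3

theorem isIso_nsmul {X : Scheme.{u}} {L : Set ℕ} {F : EtCoh.Ab X} (hF : EtAcyc.IsLTorsion L F) {d : ℕ}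
    (hL : ∀ p : ℕ, p.Prime → p ∈ L → ¬ p ∣ d) : IsIso (d • 𝟙 F : F ⟶ F) := by
  have hco : ∀ m, EtAcyc.PrimesIn L m → Nat.Coprime d m := fun m hm =>
    Nat.coprime_of_dvd fun p hp hpd hpm => hL p hp (hm.2 p hp hpm) hpd
  haveI : Mono (d • 𝟙 F : F ⟶ F) := by
    haveI : ∀ U, Mono ((d • 𝟙 F : F ⟶ F).hom.app U) := fun U =>
      (AddCommGrpCat.mono_iff_injective _).2 ((injective_iff_map_eq_zero _).2 fun s hs => by
        rw [EtTransferLib.nsmul_id_app F d U.unop] at hs
        refine res_ext F s 0 fun x => ?_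
        obtain ⟨V, g, m, hv, hm, hms⟩ := hF U.unop s x
        refine ⟨V, g, hv, ?_⟩
        rw [map_zero]
        exact eq_zero_of_coprime (hco m hm) (by rw [← map_nsmul, hs, map_zero]) hms)
    haveI : Mono (d • 𝟙 F : F ⟶ F).hom := NatTrans.mono_of_mono_app _
    exact (sheafToPresheaf _ _).mono_of_mono_map ‹Mono (d • 𝟙 F : F ⟶ F).hom›
  haveI : Epi (d • 𝟙 F : F ⟶ F) := by
    suffices h : Sheaf.IsLocallySurjective (d • 𝟙 F : F ⟶ F) from Sheaf.epi_of_isLocallySurjective _
    refine ⟨fun {U} s => ?_⟩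
    choose V g m hv hm hms using hF U s
    have hmem : Sieve.ofArrows V g ∈ X.smallEtaleTopology U := by
      rw [Scheme.ofArrows_mem_smallEtaleTopology_iff]
      exact Set.eq_univ_of_forall fun x => Set.mem_iUnion.2 ⟨x, hv x⟩
    refine X.smallEtaleTopology.superset_covering ?_ hmem
    rw [Sieve.generate_le_iff]
    rintro _ _ ⟨x⟩
    refine ⟨Nat.gcdA d (m x) • F.obj.map (g x).op s, ?_⟩
    rw [EtTransferLib.nsmul_id_app F d (V x)]
    have e := Nat.gcd_eq_gcd_ab d (m x)
    rw [Nat.Coprime.gcd_eq_one (hco (m x) (hm x))] at e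
    generalize hy : F.obj.map (g x).op s = y
    have hmy : m x • y = 0 := hy ▸ hms x
    calc d • (Nat.gcdA d (m x) • y)
        = ((d : ℤ) * Nat.gcdA d (m x)) • y + ((m x : ℤ) * Nat.gcdB d (m x)) • y := by
          rw [mul_zsmul, natCast_zsmul, mul_comm (m x : ℤ), mul_zsmul, natCast_zsmul, hmy, zsmul_zero, add_zero]
      _ = y := by rw [← add_zsmul, ← e]; simp
  exact isIso_of_mono_of_epi _


/-- Let f : X' → X be finite etale of constant degree d (every geometric fibre has exactly d points), L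
a set of primes such that no prime in L divides d, F an abelian L-torsion sheaf on the small etale
site of X, and q a natural number. If H^q(X', f⁻¹F) = 0, then H^q(X, F) = 0. -/
theorem result {X X' : Scheme.{u}} (f : X' ⟶ X) [IsFinite f] [Etale f]
    (d : ℕ) (hd : ∀ (Ω : Type u) [Field Ω] [IsSepClosed Ω] (ξ : Spec (CommRingCat.of Ω) ⟶ X),
      Nat.card ↥(pullback f ξ) = d)
    (L : Set ℕ) (hL : ∀ p : ℕ, p.Prime → p ∈ L → ¬ p ∣ d) (F : EtCoh.Ab X) (hF : EtAcyc.IsLTorsion L F)
    [PreservesFiniteLimits (EtCoh.pull f)] (q : ℕ)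
    (h : Subsingleton (EtCoh.H X' ((EtCoh.pull f).obj F) q)) :
    Subsingleton (EtCoh.H X F q) := by
  refine subsingleton_of_forall_eq 0 fun α => ?_
  let W : X.Etale := Scheme.Etale.mk f
  haveI : IsFinite W.hom := ‹IsFinite f›
  haveI : PreservesFiniteLimits (EtCoh.pull W.hom) := ‹_›
  have hk := (EtTransferLib.kills_iff (W := W) F q α).1 (h.elim _ _)
  have hd' : ∀ (Ω : Type u) [Field Ω] [IsSepClosed Ω] (ξ : Spec (CommRingCat.of Ω) ⟶ X), Nat.card (Fib ξ W) = d := by
    intro Ω _ _ ξ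
    rw [← hd Ω ξ, ← card_sections f Ω ξ]
    exact Nat.card_congr
      { toFun := fun u => ⟨u.hom, u.w⟩
        invFun := fun l => Fib.mk (U := W) l.1 l.2
        left_inv := fun u => Fib.ext rfl
        right_inv := fun l => rfl }
  have h0 := EtTransferLib.nsmul_eq_zero d hd' α hk
  haveI := isIso_nsmul hF hL
  have h1 : CategoryTheory.Abelian.Ext.comp α (CategoryTheory.Abelian.Ext.mk₀ (d • 𝟙 F)) (add_zero q) = 0 := by
    rw [EtTransferLib.comp_mk₀_nsmul, h0]
  have h2 := congrArg (fun z => CategoryTheory.Abelian.Ext.comp z (CategoryTheory.Abelian.Ext.mk₀ (inv (d • 𝟙 F))) (add_zero q)) h1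
  simpa only [CategoryTheory.Abelian.Ext.comp_assoc_of_second_deg_zero, CategoryTheory.Abelian.Ext.mk₀_comp_mk₀,
    IsIso.hom_inv_id, CategoryTheory.Abelian.Ext.comp_mk₀_id, CategoryTheory.Abelian.Ext.zero_comp] using h2

end Groth.Agent.S8532
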