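import Groth.Statements.S3244
import Groth.Agent.EtKummerLib.Basic
-- import your own Groth.Agent.* helpers here

set_option maxHeartbeats 1000000
set_option backward.isDefEq.respectTransparency false
set_option backward.isDefEq.respectTransparency.types false
set_option autoImplicit false
universe u
open CategoryTheory AlgebraicGeometry
open Dix

namespace Groth.Agent.S3244

/-- Kummer theory at finite level: let n > 0 be an integer invertible on the scheme X (nonzero in every
residue field). Then for every i ≥ 1 the image of H^i(X_ét, μ_n) → H^i(X_ét, G_m), induced by the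
inclusion μ_n → G_m, is exactly the subgroup of elements of H^i(X_ét, G_m) killed by n; in
particular H²(X_ét, μ_n) maps onto the n-torsion of the cohomological Brauer group H²(X_ét, G_m).
(The published statement gives exact sequences obtained as the colimit of these over the powers n =
ℓ^m of a prime ℓ.) -/
theorem result (X : Scheme.{u}) (n : ℕ) (hn : 0 < n) (hX : Dix.InvertibleOn X n) (i : ℕ) (hi : 1 ≤ i) : Set.range ⇑((EtCoh.HF X i).map (EtCoh.muι X n)) = {ξ : (EtCoh.HF X i).obj (EtCoh.Gm X) | n • ξ = 0} := by
  have h := EtKummerLib.kummer_shortExact hX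
  ext ξ
  have e : (Abelian.Ext.comp ξ (Abelian.Ext.mk₀ (EtCoh.powMap X n)) (add_zero i)) = n • (ξ : EtCoh.H X (EtCoh.Gm X) i) :=
    EtTransferLib.comp_mk₀_nsmul ξ n
  constructor
  · rintro ⟨y, rfl⟩
    refine e.symm.trans ?_
    show (Abelian.Ext.comp y (Abelian.Ext.mk₀ (EtCoh.muι X n)) (add_zero i)).comp _ (add_zero i) = 0
    rw [Abelian.Ext.comp_assoc_of_third_deg_zero, Abelian.Ext.mk₀_comp_mk₀]
    exact (congrArg (fun t => Abelian.Ext.comp y (Abelian.Ext.mk₀ t) (add_zero i)) (EtKummerLib.kummer X n).zero).trans
      (by simp)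
  · intro hξ
    obtain ⟨y, hy⟩ := Abelian.Ext.covariant_sequence_exact₂ _ h ξ (e.trans hξ)
    exact ⟨y, hy⟩

end Groth.Agent.S3244
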