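import Groth.Statements.S0149
import Groth.Agent.EtContLib.Push
import Groth.Agent.EtShLib.TorsionCoh

set_option autoImplicit false
set_option backward.isDefEq.respectTransparency false
set_option backward.isDefEq.respectTransparency.types false
set_option maxHeartbeats 400000
universe u
open CategoryTheory CategoryTheory.Limits AlgebraicGeometry Opposite
open EtPBC

namespace Groth.Agent.S0149

/-- If X = lim X_i is a cofiltered limit of quasi-compact quasi-separated schemes with affine transition
morphisms and cd(X_i) <= d for all i, then cd(X) <= d. -/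
theorem result {I : Type u} [SmallCategory I] [IsCofiltered I] (D : I ⥤ Scheme.{u})
    [∀ {i j : I} (a : i ⟶ j), IsAffineHom (D.map a)]
    [∀ i, CompactSpace (D.obj i)] [∀ i, QuasiSeparatedSpace (D.obj i)]
    (c : Cone D) (hc : IsLimit c) (d : ℕ) (h : ∀ i, EtCoh.CohDimLE (D.obj i) d) :
    EtCoh.CohDimLE c.pt d := by
  haveI : ∀ (i j : I) (f : i ⟶ j), IsAffineHom (D.map f) := fun i j f => inferInstance
  intro F hF q hq
  have hC := EtContLib.isLim_pushCoc c F hc
  have hψ := fun {k j : I} (a : k ⟶ j) => EtContLib.pushSys_compat c F a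
  refine subsingleton_of_forall_eq 0 fun ξ => ?_
  obtain ⟨i, x, hx⟩ := EtContLib.Sys.surjective' c (P := EtContLib.pushSys c F) hψ hc hC q ξ
  haveI := isAffineHom_π_app D c hc i
  haveI : PreservesFiniteLimits (EtCoh.push (c.π.app i)) :=
    haveI : PreservesLimitsOfSize.{0, 0} (EtCoh.push (c.π.app i)) :=
      (EtCoh.pullPushAdj (c.π.app i)).rightAdjoint_preservesLimits
    PreservesLimitsOfSize.preservesFiniteLimits _
  have hT : EtCoh.IsTorsion ((EtCoh.push (c.π.app i)).obj F) :=
    Groth.Agent.EtShLib.isTorsion_of_iso (((EtCoh.push (c.π.app i)).rightDerivedZeroIsoSelf).app F)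
      (Groth.Agent.EtShLib.isTorsion_rightDerived_push (c.π.app i) hF 0)
  haveI := h i _ hT q hq
  haveI : Subsingleton (EtCoh.H (D.obj i) ((EtContLib.pushSys c F).F i) q) := h i _ hT q hq
  rw [← hx, Subsingleton.elim x 0]
  exact map_zero _
end Groth.Agent.S0149
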