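import Groth.Statements.S14389
import Groth.Agent.EtAcycLib.Chase
import Groth.Agent.EtSliceLib.Hpull

set_option backward.isDefEq.respectTransparency false
set_option backward.isDefEq.respectTransparency.types false
set_option synthInstance.maxHeartbeats 400000
set_option maxHeartbeats 1000000

set_option autoImplicit false
open CategoryTheory CategoryTheory.Limits AlgebraicGeometry Opposite
universe u
open EtLim

namespace Groth.Agent.S14389

open CategoryTheory.Abelian DescSecLib

theorem hpull_comp {A B C : Scheme.{u}} (a : A ⟶ B) (b : B ⟶ C) (c : A ⟶ C) (w : a ≫ b = c)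
    [PreservesFiniteLimits (EtCoh.pull a)] [PreservesFiniteLimits (EtCoh.pull b)]
    [PreservesFiniteLimits (EtCoh.pull c)] (G : EtCoh.Ab C) (n : ℕ) (x : EtCoh.H C G n) :
    Ext.comp (EtCore.Hpull a ((EtCoh.pull b).obj G) n (EtCore.Hpull b G n x))
        (Ext.mk₀ ((etSys.c a b c w).app G)) (add_zero n) = EtCore.Hpull c G n x := by
  haveI : PreservesFiniteColimits (EtCoh.pull a) := EtCore.pull_preservesFiniteColimits a
  haveI : PreservesFiniteColimits (EtCoh.pull b) := EtCore.pull_preservesFiniteColimits b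
  haveI : PreservesFiniteColimits (EtCoh.pull c) := EtCore.pull_preservesFiniteColimits c
  show Ext.comp ((Ext.mk₀ (EtCore.pullConst a ℤ).inv).comp (Ext.mapExactFunctor (EtCoh.pull a)
      ((Ext.mk₀ (EtCore.pullConst b ℤ).inv).comp (Ext.mapExactFunctor (EtCoh.pull b) x) (zero_add n))) (zero_add n))
      _ _ = (Ext.mk₀ (EtCore.pullConst c ℤ).inv).comp (Ext.mapExactFunctor (EtCoh.pull c) x) (zero_add n)
  rw [EtSliceLib.pullConst_inv_eq_etZ, EtSliceLib.pullConst_inv_eq_etZ, EtSliceLib.pullConst_inv_eq_etZ,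
    Ext.mapExactFunctor_comp, Ext.mapExactFunctor_mk₀, ← mapExactFunctor_compFunctor,
    ← Ext.comp_assoc_of_second_deg_zero, Ext.mk₀_comp_mk₀, Ext.comp_assoc_of_third_deg_zero]
  refine (congrArg (fun t => Ext.comp _ t (zero_add n)) (mapExactFunctor_natTrans (etSys.c a b c w) x)).trans ?_
  rw [← Ext.comp_assoc_of_second_deg_zero, Ext.mk₀_comp_mk₀, Category.assoc]
  exact congrArg (fun t => (Ext.mk₀ t).comp _ (zero_add n)) (etSys.z_comp a b c w)

theorem pushCongr_pc {A B C : Scheme.{u}} (a : A ⟶ B) (b : B ⟶ C) (c : A ⟶ C) (w : c = a ≫ b) (G : EtCoh.Ab A) :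
    (EtCoh.pushCongr w).hom.app G ≫ (etPc a b (a ≫ b) rfl).app G = (etPc a b c w.symm).app G := by
  subst w
  have h : (EtCoh.pushCongr (rfl : a ≫ b = a ≫ b)).hom.app G = 𝟙 _ := by
    refine Sheaf.hom_ext (NatTrans.ext ?_)
    funext U
    simp [EtCoh.pushCongr, Functor.sheafPushforwardContinuousIso]
    refine (congrArg G.obj.map (congrArg Quiver.Hom.op (?_ : _ = 𝟙 _))).trans (G.obj.map_id _)
    refine MorphismProperty.Over.Hom.ext ?_
    apply pullback.hom_ext <;> simp [MorphismProperty.Over.pullbackCongr] <;> exact (Category.id_comp _).symm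
  rw [h, Category.id_comp]

/-- For small étale sites of schemes: let g' ≫ f = f' ≫ g be a commutative square of schemes with f : X
→ Y, g : Y' → Y, f' : X' → Y', g' : X' → X, and let F be an abelian sheaf on the small étale site of
X. For every q and every class ζ in H^q(Y_ét, f_*F), the pullback along g' of the image of ζ under
the canonical map H^q(Y, f_*F) → H^q(X, F) (pull back along f, then apply the counit f⁻¹f_*F → F)
equals the image of g^*ζ ∈ H^q(Y', g⁻¹f_*F) under the map induced by the base-change morphism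
g⁻¹f_*F → f'_*g'⁻¹F followed by the canonical map H^q(Y', f'_*g'⁻¹F) → H^q(X', g'⁻¹F). (The
published statement is for a commutative square of topoi with a chosen isomorphism f_*g'_* ≅
g_*f'_*; this row is the square of étale topoi of schemes. Exactness of pullback of abelian sheaves,
which always holds, is carried as instance hypotheses.) -/
theorem result {X Y X' Y' : Scheme.{u}} (f : X ⟶ Y)
    (g : Y' ⟶ Y) (f' : X' ⟶ Y') (g' : X' ⟶ X) (w : g' ≫ f = f' ≫ g) (F : EtCoh.Ab X) (q : ℕ)
    [PreservesFiniteLimits (EtCoh.pull f)] [PreservesFiniteLimits (EtCoh.pull g)]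
    [PreservesFiniteLimits (EtCoh.pull f')] [PreservesFiniteLimits (EtCoh.pull g')]
    (ζ : EtCoh.H Y ((EtCoh.push f).obj F) q) :
    EtCore.Hpull g' F q (EtLim.HofPush f F q ζ) =
      EtLim.HofPush f' ((EtCoh.pull g').obj F) q
        (((EtCoh.HF Y' q).map (EtCoh.baseChange0 f g f' g' w F)).hom
          (EtCore.Hpull g ((EtCoh.push f).obj F) q ζ)) := by
  haveI : PreservesFiniteLimits (EtCoh.pull (g' ≫ f)) := EtSliceLib.pullExact _
  let C₁ := (etSys.c g' f (g' ≫ f) rfl).app ((EtCoh.push f).obj F)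
  let C₂ := (etSys.c f' g (g' ≫ f) w.symm).app ((EtCoh.push f).obj F)
  haveI : IsIso C₁ := by
    show IsIso ((etSys.c g' f (g' ≫ f) rfl).app _)
    rw [← EtSliceLib.pullComp_inv_eq]
    infer_instance
  obtain ⟨T, hT⟩ : ∃ T : (EtCoh.pull (g' ≫ f)).obj ((EtCoh.push f).obj F) ⟶ (EtCoh.pull g').obj F,
      C₁ ≫ T = (EtCoh.pull g').map ((EtCoh.pullPushAdj f).counit.app F) := ⟨inv C₁ ≫ _, IsIso.hom_inv_id_assoc _ _⟩
  let adj := fun {A B : Scheme.{u}} (a : A ⟶ B) => EtCoh.pullPushAdj a
  have hnat : ∀ {A : Scheme.{u}} (a : X' ⟶ A) (b : A ⟶ Y) (hab : a ≫ b = g' ≫ f),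
      (adj b).homEquiv _ _ ((adj a).homEquiv _ _ ((etSys.c a b (g' ≫ f) hab).app ((EtCoh.push f).obj F) ≫ T)) =
        (adj (g' ≫ f)).homEquiv _ _ T ≫ (etPc a b (g' ≫ f) hab).app _ := by
    intro A a b hab
    rw [Adjunction.homEquiv_naturality_right, Adjunction.homEquiv_naturality_right]
    erw [etSys.homEquiv_c]
    rw [Category.assoc, Adjunction.homEquiv_unit, Category.assoc]
    exact congrArg (fun t => (adj (g' ≫ f)).unit.app _ ≫ t) ((etPc a b (g' ≫ f) hab).naturality T).symm
  have h1 : (adj (g' ≫ f)).homEquiv _ _ T ≫ (etPc g' f (g' ≫ f) rfl).app _ =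
      (EtCoh.push f).map ((adj g').unit.app F) := by
    rw [← hnat g' f rfl]
    show (adj f).homEquiv _ _ ((adj g').homEquiv _ _ (C₁ ≫ T)) = _
    rw [hT]
    refine (congrArg ((adj f).homEquiv _ _) ((Adjunction.homEquiv_unit (adj g') _ _ _).trans
      ((adj g').unit_naturality ((EtCoh.pullPushAdj f).counit.app F)))).trans ?_
    rw [Adjunction.homEquiv_unit, Functor.map_comp]
    exact (adj f).right_triangle_components_assoc F _
  have h2 : C₂ ≫ T = (EtCoh.pull f').map (EtCoh.baseChange0 f g f' g' w F) ≫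
      (adj f').counit.app ((EtCoh.pull g').obj F) := by
    apply ((adj f').homEquiv _ _).injective
    apply ((adj g).homEquiv _ _).injective
    refine (hnat f' g w.symm).trans ?_
    refine Eq.trans ?_ (congrArg ((adj g).homEquiv _ _) (show (adj f').homEquiv _ _
      (((adj f').homEquiv _ _).symm (EtCoh.baseChange0 f g f' g' w F)) = EtCoh.baseChange0 f g f' g' w F from
        Equiv.apply_symm_apply _ _)).symm |>.trans (congrArg (fun t => (adj g).homEquiv _ _ ((adj f').homEquiv _ _ t))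
          (Adjunction.homEquiv_counit (adj f') _ _ _))
    show _ = (adj g).homEquiv _ _ (((adj g).homEquiv _ _).symm _)
    rw [Equiv.apply_symm_apply, ← h1, ← pushCongr_pc f' g (g' ≫ f) w, EtSliceLib.pushComp_inv_eq]
    rw [← EtSliceLib.pushComp_inv_eq f g']
    simp
  have e1 := EtAcycLib.Hpull_postcomp g' ((EtCoh.pullPushAdj f).counit.app F) q (EtCore.Hpull f _ q ζ)
  have e2 := EtAcycLib.Hpull_postcomp f' (EtCoh.baseChange0 f g f' g' w F) q (EtCore.Hpull g _ q ζ)
  have k1 := hpull_comp g' f (g' ≫ f) rfl ((EtCoh.push f).obj F) q ζ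
  have k2 := hpull_comp f' g (g' ≫ f) w.symm ((EtCoh.push f).obj F) q ζ
  refine e1.trans (Eq.trans ?_ (congrArg (fun t => Ext.comp t
    (Ext.mk₀ ((EtCoh.pullPushAdj f').counit.app ((EtCoh.pull g').obj F))) (add_zero q)) e2).symm)
  rw [Ext.comp_assoc_of_second_deg_zero, Ext.mk₀_comp_mk₀]
  refine Eq.trans ?_ (congrArg (fun t => Ext.comp _ (Ext.mk₀ t) (add_zero q)) h2)
  refine (congrArg (fun t => Ext.comp _ (Ext.mk₀ t) (add_zero q)) hT.symm).trans ?_
  rw [← Ext.mk₀_comp_mk₀, ← Ext.mk₀_comp_mk₀, ← Ext.comp_assoc_of_second_deg_zero,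
    ← Ext.comp_assoc_of_second_deg_zero]
  exact congrArg (fun t => Ext.comp t (Ext.mk₀ T) (add_zero q)) (k1.trans k2.symm)

end Groth.Agent.S14389
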