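import Groth.Statements.S3471
import Groth.Agent.EtAcycFibLib.Acyclic
import Groth.Agent.EtAcycFibLib.Trans

set_option autoImplicit false
universe u
open CategoryTheory CategoryTheory.Limits AlgebraicGeometry Opposite
open EtAcyc

namespace Groth.Agent.S3471

/-- Let g : X → Y be a morphism of schemes, L a set of primes containing at least one prime, n a natural
number. Then g is locally n-acyclic for L if and only if for every point x of X and all strict
henselizations R_Y, R_X of the local rings at g x and x with a compatible local map R_Y → R_X, every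
geometric fibre of Spec R_X → Spec R_Y at a separably closed field algebraic over a residue field of
Spec R_Y is an n-acyclic scheme for L. The source does not require L to contain a prime; with L
empty the left side always holds while the right side asks for connected nonempty fibres, so that
hypothesis is added here. -/
theorem result {X Y : Scheme.{u}} (g : X ⟶ Y)
    (L : Set ℕ) (hL : ∃ ℓ ∈ L, ℓ.Prime) (n : ℕ) :
    EtAcyc.IsLocAcyclicN g L n ↔
      EtAcyc.OnStrictLocalizations g (fun _ _ h => EtAcyc.GeomFibresAcyclicN L n h) := by
  constructor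
  · intro h x RY RX _ _ _ _ _ _ _ _ _ _ _ _ hc
    exact Groth.Agent.S8534.result _ L hL n (h x RY RX hc)
  intro h
  have hlift : EtAcyc.OnStrictLocalizations g (fun _ _ f => Function.Surjective f.base) := by
    intro x RY RX _ _ _ _ _ _ _ _ _ _ _ _ hc y
    exact (EtAcycFibLib.isPreconnected_fibre _ (h x RY RX hc) y).1
  induction n using Nat.strong_induction_on with
  | _ m ih =>
    intro x RY RX _ _ _ _ _ _ _ _ _ _ _ _ hc
    refine EtAcycFibLib.isAcyclicN_of_geomFibres _ hL m
      (EtAcycFibLib.onStrictLocalizations_specMap g _ hlift x RY RX hc) (fun k hk => ?_) (h x RY RX hc)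
    refine EtAcycFibLib.onStrictLocalizations_specMap g _ (ih k hk ?_) x RY RX hc
    intro x' RY' RX' _ _ _ _ _ _ _ _ _ _ _ _ hc' y Ω _ _ _ _
    obtain ⟨h1, h2, h3⟩ := h x' RY' RX' hc' y Ω
    exact ⟨h1, h2, fun ℓ hℓ hℓL q hq hqk => h3 ℓ hℓ hℓL q hq (by omega)⟩
end Groth.Agent.S3471
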