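import Groth.Statements.S3637
import Groth.Agent.FMKLib.CMDual
import Groth.Agent.FMKLib.CMStalk
import Groth.Agent.EquidimLib.OpenComponent
import Groth.Agent.DualCxLib.Sch

set_option autoImplicit false
set_option backward.isDefEq.respectTransparency false
set_option backward.isDefEq.respectTransparency.types false
set_option backward.isDefEq.respectTransparency false
set_option backward.isDefEq.respectTransparency.types false
set_option maxHeartbeats 1000000
set_option synthInstance.maxHeartbeats 200000
set_option linter.style.haveILetI false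
universe u
open CategoryTheory CategoryTheory.Limits AlgebraicGeometry
attribute [local instance] HasDerivedCategory.standard
open Dual3

namespace Groth.Agent.S3637

/-- Let X be proper over a field k, with all local rings of X Cohen–Macaulay and all irreducible
components of X of dimension d. Assume the derived pushforward Rf_* along the structure morphism f
exists and preserves complexes with quasi-coherent cohomology (carried as hypotheses), let a be a
right adjoint to Rf_* : D_QCoh(O_X) → D_QCoh(Spec k), and let O be an object of D_QCoh(Spec k)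
isomorphic to the structure sheaf placed in degree 0. Then H^i(a(O)) = 0 for i ≠ −d, so that a(O) =
ω_X[d] with ω_X = H^{−d}(a(O)); and ω_X is a coherent O_X-module whose stalk at every point x is a
nonzero Cohen–Macaulay module over O_{X,x} (in particular its support is all of X). -/
theorem result (k : Type u) [Field k] (X : Scheme.{u}) (f : X ⟶ Spec (CommRingCat.of k)) [IsProper f] (hCM : ∀ x : X, LocCoh.IsCohenMacaulayLocalRing (X.presheaf.stalk x)) (d : ℕ) (hd : ∀ Z : Set X, Z ∈ irreducibleComponents X → topologicalKrullDim ↥Z = (d : WithBot ℕ∞)) [DCoh.HasRpush f] (hf : DCoh.RpushPreservesQCoh f) (a : DCoh.DQCoh (Spec (CommRingCat.of k)) ⥤ DCoh.DQCoh X) (adj : DCoh.RpushQ f hf ⊣ a) (O : DCoh.DQCoh (Spec (CommRingCat.of k))) (hO : Nonempty (O.obj ≅ DCoh.inD (Spec (CommRingCat.of k)) (Coh.structureModule (Spec (CommRingCat.of k))))) : (∀ i : ℤ, i ≠ -(d : ℤ) → IsZero (DCoh.HD (a.obj O).obj i)) ∧ Coh.IsCoh (DCoh.HD (a.obj O).obj (-(d : ℤ))) ∧ ∀ x : X, Nontrivial ((DCoh.HD (a.obj O).obj (-(d : ℤ))).presheaf.stalk x)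 ∧ LocCoh.IsCohenMacaulayModule (X.presheaf.stalk x) ((DCoh.HD (a.obj O).obj (-(d : ℤ))).presheaf.stalk x) := by
  obtain ⟨eO⟩ := hO
  haveI : IsLocallyNoetherian X := LocallyOfFiniteType.isLocallyNoetherian f
  haveI : ∀ (U V : Scheme.{u}) (j : U ⟶ V) [IsOpenImmersion j],
      PreservesFiniteLimits (Scheme.Modules.restrictFunctor j) := fun U V j _ => inferInstance
  haveI : ∀ (B : CommRingCat.{u}), PreservesFiniteLimits (tilde.functor B) := fun B => inferInstance
  obtain ⟨hdual, -, -⟩ := Dual3Lib.amplitude f hf a adj O eO d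
    (EquidimLib.topologicalKrullDim_le_of_components fun Z hZ => (hd Z hZ).le)
  haveI : CompactSpace X := QuasiCompact.compactSpace_of_compactSpace f
  haveI : AlgebraicGeometry.IsNoetherian X := ⟨⟩
  have hc := fun i => Dual3Lib.isCohD_of_isDualizingSch hdual i
  rcases isEmpty_or_nonempty X with hX | hX
  · exact ⟨fun i _ => (DCohRestrLib.isZero_iff_subsingleton_stalks _).2 fun x => isEmptyElim x,
      hc _, fun x => isEmptyElim x⟩
  obtain ⟨x₀⟩ := hX
  have hdim : topologicalKrullDim X = (d : WithBot ℕ∞) :=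
    le_antisymm (EquidimLib.topologicalKrullDim_le_of_components fun Z hZ => (hd Z hZ).le)
      ((hd _ (irreducibleComponent_mem_irreducibleComponents x₀)).ge.trans
        (topologicalKrullDim_subspace_le X _))
  obtain ⟨hwc, ⟨ew⟩⟩ := FMKLib.nonempty_rightAdjoint_iso_single f hf a adj O eO hCM d hdim hd
  have hzero : ∀ i : ℤ, i ≠ -(d : ℤ) → IsZero (DCoh.HD (a.obj O).obj i) := fun i hi =>
    ((DerivedCategory.homologyFunctor X.Modules i).mapIso ew).isZero_iff.2 (by
      rcases lt_or_gt_of_ne hi with h | h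
      · exact DerivedCategory.isZero_of_isGE _ (-(d : ℤ)) i h
      · exact DerivedCategory.isZero_of_isLE _ (-(d : ℤ)) i h)
  refine ⟨hzero, hwc, fun x => ?_⟩
  obtain ⟨A₀, _, _, j, _, p, rfl⟩ := DualCxLib.chart_of_point x
  obtain ⟨ω, hω, ⟨e⟩⟩ := hdual A₀ j
  have hnt : Nontrivial ((DCoh.HD (a.obj O).obj (-(d : ℤ))).presheaf.stalk (j p)) := by
    obtain ⟨i, hi, -⟩ := (DualCxLib.cm_stalk_iff_chart j hω e p).1 (hCM _)
    by_cases hid : i = -(d : ℤ)
    · exact hid ▸ hi
    · exact absurd ((DCohRestrLib.isZero_iff_subsingleton_stalks _).1 (hzero i hid) (j p))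
        (not_subsingleton_iff_nontrivial.2 hi)
  refine ⟨hnt, ?_⟩
  haveI : IsNoetherianRing (CommRingCat.of A₀) := ‹IsNoetherianRing A₀›
  refine FMKLib.isCM_stalk_of_single (A := CommRingCat.of A₀) j hω e (-(d : ℤ)) hwc (fun m hm => ?_) p hnt
  refine Module.subsingleton_of_localization_maximal (R := A₀)
    (fun J _ => LocalizedModule J.primeCompl (Dual.HD A₀ ω m))
    (fun J _ => LocalizedModule.mkLinearMap J.primeCompl _) fun J hJ => ?_
  haveI := (DCohRestrLib.isZero_iff_subsingleton_stalks _).1 (hzero m hm) (j ⟨J, hJ.isPrime⟩)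
  exact (DualCxLib.stalkHD j e ⟨J, hJ.isPrime⟩ m).symm.subsingleton

end Groth.Agent.S3637
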