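import Groth.Statements.S11377
import Groth.Agent.AmpleAffLib.Gen
import Groth.Agent.AmpleAffLib.Coprod
import Groth.Agent.MiscFlat6.AmpleSep
import Groth.Agent.QCohLib.Bound
import Groth.Agent.TwistLib.SpecSections
import Groth.Agent.AtlasCohLib.FiniteCoh

set_option autoImplicit false
universe u
open CategoryTheory CategoryTheory.Limits AlgebraicGeometry TopologicalSpace
open CohDim CategoryTheory CategoryTheory.Limits AlgebraicGeometry

namespace Groth.Agent.S11377

/-- Let S be an integral scheme, separated and of finite type over an algebraically closed field k, with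
all local rings regular, let L be an ample invertible O_S-module with tensor inverse M (so S is
quasi-projective and M^{⊗m} plays the role of O_S(-m)), and let r ≥ 0. If there is m₀ such that
H^i(S, M^{⊗m}) = 0 for every i > r and every m ≥ m₀, then H^i(S, F) = 0 for every i > r and every
coherent O_S-module F. (The published statement takes O_S(1) from a quasi-projective embedding; the
printed proof uses only that F ⊗ O_S(m) is generated by finitely many global sections for m ≫ 0,
which holds for any ample L.) -/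
theorem result (k : Type u) [Field k] [IsAlgClosed k] (S : Scheme.{u})
    [S.Over (Spec (CommRingCat.of k))] [IsSeparated (S ↘ (Spec (CommRingCat.of k)))]
    [LocallyOfFiniteType (S ↘ (Spec (CommRingCat.of k)))] [QuasiCompact (S ↘ (Spec (CommRingCat.of k)))]
    [IsIntegral S] (hreg : ∀ x : S, IsRegularLocalRing (S.presheaf.stalk x))
    (L M : S.Modules) (hL : CohB1.IsAmple L) (hM : ClSub.IsInverseOf M L) (r : ℕ)
    (hneg : ∃ m₀ : ℕ, ∀ m : ℕ, m₀ ≤ m → ∀ i : ℕ, r < i → Subsingleton (Coh.HH S (CohB1.tensorPow M m) i))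
    (F : S.Modules) (hF : Coh.IsCoh F) (i : ℕ) (hi : r < i) :
    Subsingleton (Coh.HH S F i) := by
  obtain ⟨e₀⟩ := hM
  let e : CohB1.tensorMod L M ≅ Coh.structureModule S := HilbPolyLib.swapIso L M ≪≫ e₀
  obtain ⟨m₀, hneg⟩ := hneg
  haveI : CompactSpace S := hL.2.1
  haveI : S.IsSeparated := MiscFlat6.isSeparated_of_isAmple hL
  choose d t hxs hsa using hL.2.2
  have hPinv : ∀ x, PicF.IsInvertible (CohB1.tensorPow L (d x + 1)) := fun x =>
    AmpleThLib.tensorPow_isInvertible hL.1 (d x + 1)
  have hcov := fun x => (AmpleThLib.genLocus_hom (hPinv x) (t x)) ▸ hxs x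
  have haff := fun x => (AmpleThLib.genLocus_hom (hPinv x) (t x)) ▸ hsa x
  obtain ⟨b, hb⟩ := QCohLib.bounded_of_isCompact (X := S) ⊤ (by simpa using isCompact_univ)
  have key : ∀ (j p : ℕ), b ≤ p + j → r < p → ∀ N₀ : S.Modules, Coh.IsQCoh N₀ →
      Subsingleton (Coh.HH S N₀ p) := by
    intro j
    induction j with
    | zero =>
      intro p hp _ N₀ hM
      exact (QCohLib.subsingleton_H_iff _ p).2 (hb N₀ hM p (by omega))
    | succ j ih =>
      intro p hp hp0 N₀ hM
      haveI := hM
      obtain ⟨I, x, N, π, hN, hπ⟩ := AmpleAffLib.exists_epi_sigma hPinv _ hcov haff N₀ m₀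
      let Q : I → S.Modules := fun a => MiscFlat6.dual (CohB1.tensorPow (CohB1.tensorPow L (d (x a) + 1)) (N a))
      have hQ : ∀ a, Coh.IsQCoh (Q a) := fun a => TwistLib.isQCoh_of_isInvertible
        (MiscFlat6.dual_isInvertible (AmpleThLib.tensorPow_isInvertible (hPinv (x a)) (N a)))
      haveI : Coh.IsQCoh (∐ Q) := QCohLib.isQCoh_sigma Q hQ
      have hE : Subsingleton (Coh.HH S (∐ Q) p) := AmpleAffLib.subsingleton_HH_sigma Q hQ fun a => by
        obtain ⟨ψ⟩ := AmpleAffLib.nonempty_dual_powPow hL.1 e (d (x a) + 1) (N a)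
        exact SerreVanLib.subsingleton_HH_of_iso ψ p
          (hneg _ ((hN a).trans (Nat.le_mul_of_pos_left _ (Nat.succ_pos _))) p hp0)
      have hSE : (ShortComplex.mk _ _ (kernel.condition π)).ShortExact :=
        haveI : Epi (ShortComplex.mk _ _ (kernel.condition π)).g := hπ
        { exact := ShortComplex.exact_of_f_is_kernel _ (kernelIsKernel π) }
      have hK := ih (p + 1) (by omega) (by omega) (kernel π) (QCohLib.isQCoh_kernel π)
      refine subsingleton_of_forall_eq 0 fun c => ?_
      obtain ⟨w, rfl⟩ := AtlasCoh.hExact₃ (QCohLib.toAbF_shortExact hSE) p c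
        (@Subsingleton.elim _ hK _ _)
      exact (congrArg _ (@Subsingleton.elim _ hE w 0)).trans (map_zero _)
  exact key b i (by omega) hi F hF.1

end Groth.Agent.S11377
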