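import Groth.Statements.S9690
import Groth.Agent.LocFFLib.Norm

-- import your own Groth.Agent.* helpers here

set_option autoImplicit false
universe u
open CategoryTheory CategoryTheory.Limits AlgebraicGeometry
open Mor

namespace Groth.Agent.S9690

open CategoryTheory CategoryTheory.Limits AlgebraicGeometry TopologicalSpace Opposite Polynomial

/-- A nonzero element of the base acts injectively on a ring all of whose localizations are domains and all of
whose minimal primes meet the base in zero. -/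
theorem eq_zero_of_mul {A B : Type u} [CommRing A] [CommRing B] (φ : A →+* B)
    (hloc : ∀ (p : Ideal B) [p.IsPrime], IsDomain (Localization.AtPrime p))
    (hmin : ∀ q ∈ minimalPrimes B, ∀ a, φ a ∈ q → a = 0) {a : A} (ha : a ≠ 0) {b : B} (h : φ a * b = 0) :
    b = 0 := by
  refine Module.eq_zero_of_localization_maximal (fun (p : Ideal B) _ => Localization.AtPrime p)
    (fun p _ => Algebra.linearMap B (Localization.AtPrime p)) b fun p hp => ?_
  haveI := hloc p
  have h1 : algebraMap B (Localization.AtPrime p) (φ a) * algebraMap B _ b = 0 := by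
    rw [← map_mul, h, map_zero]
  refine (mul_eq_zero.1 h1).resolve_left fun h0 => ?_
  obtain ⟨⟨t, ht⟩, hta⟩ := (IsLocalization.map_eq_zero_iff p.primeCompl _ _).1 h0
  obtain ⟨q, hq, hqp⟩ := Ideal.exists_minimalPrimes_le (bot_le : ⊥ ≤ p)
  have hmem : t * φ a ∈ q := by rw [show t * φ a = 0 from hta]; exact q.zero_mem
  exact ha (hmin q hq a ((hq.1.1.mem_or_mem hmem).resolve_left fun htq => ht (hqp htq)))

/-- Integral fractions of the base lie in such a ring. -/
theorem exists_mul_eq {A B K : Type u} [CommRing A] [CommRing B] [Field K] [Algebra A K]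
    [IsFractionRing A K] [IsDomain A] (φ : A →+* B)
    (hloc : ∀ (p : Ideal B) [p.IsPrime], IsDomain (Localization.AtPrime p) ∧
      IsIntegrallyClosed (Localization.AtPrime p))
    (hmin : ∀ q ∈ minimalPrimes B, ∀ a, φ a ∈ q → a = 0) {x : K} (hx : IsIntegral A x) {c s : A}
    (hs : s ≠ 0) (hcs : x * algebraMap A K s = algebraMap A K c) : ∃ b, φ s * b = φ c := by
  suffices hJ : (Ideal.span {φ s}).colon {φ c} = ⊤ by
    have h1 : (1 : B) ∈ (Ideal.span {φ s}).colon {φ c} := hJ ▸ Submodule.mem_top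
    rw [Submodule.mem_colon_singleton, one_smul, Ideal.mem_span_singleton'] at h1
    obtain ⟨b, hb⟩ := h1
    exact ⟨b, by rw [mul_comm, hb]⟩
  by_contra hne
  obtain ⟨p, hp, hJp⟩ := Ideal.exists_le_maximal _ hne
  let L := Localization.AtPrime p
  haveI := (hloc p).1
  haveI := (hloc p).2
  let F := FractionRing L
  have hinj : Function.Injective ((algebraMap L F).comp ((algebraMap B L).comp φ)) := by
    refine (injective_iff_map_eq_zero _).2 fun a ha => ?_
    by_contra ha0
    have h0 : algebraMap B L (φ a) = 0 := IsFractionRing.injective L F (ha.trans (map_zero _).symm)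
    obtain ⟨⟨t, ht⟩, hta⟩ := (IsLocalization.map_eq_zero_iff p.primeCompl _ _).1 h0
    exact ht (by
      rw [eq_zero_of_mul φ (fun q _ => (hloc q).1) hmin ha0 (b := t) (by rw [mul_comm]; exact hta)]
      exact p.zero_mem)
  let j : K →+* F := IsFractionRing.lift hinj
  have hj : ∀ a, j (algebraMap A K a) = algebraMap L F (algebraMap B L (φ a)) := fun a =>
    IsFractionRing.lift_algebraMap hinj a
  have hjx : IsIntegral L (j x) := by
    obtain ⟨P, hP, hPx⟩ := hx
    refine ⟨P.map ((algebraMap B L).comp φ), hP.map _, ?_⟩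
    rw [eval₂_map, show (algebraMap L F).comp ((algebraMap B L).comp φ) = j.comp (algebraMap A K) from
      RingHom.ext fun a => (hj a).symm, ← hom_eval₂, hPx, map_zero]
  obtain ⟨y, hy⟩ := IsIntegrallyClosed.isIntegral_iff.1 hjx
  obtain ⟨d, t, rfl⟩ := IsLocalization.exists_mk'_eq p.primeCompl y
  have h1 : IsLocalization.mk' L d t * algebraMap B L (φ s) = algebraMap B L (φ c) := by
    refine IsFractionRing.injective L F ?_
    rw [map_mul, hy, ← hj, ← hj, ← map_mul, hcs]
  have h2 : algebraMap B L (d * φ s) = algebraMap B L (t * φ c) := by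
    rw [map_mul, map_mul, ← IsLocalization.mk'_spec L d t, ← h1]
    ring
  obtain ⟨v, hv⟩ := (IsLocalization.eq_iff_exists p.primeCompl L).1 h2
  have : (v : B) * t ∈ (Ideal.span {φ s}).colon {φ c} := by
    rw [Submodule.mem_colon_singleton, Ideal.mem_span_singleton']
    exact ⟨v * d, by rw [smul_eq_mul, mul_assoc, mul_assoc, hv]⟩
  exact (p.primeCompl.mul_mem v.2 t.2) (hJp this)

/-- Extension of a ring map along an integral birational extension. -/
theorem existsUnique_extension {A N B K : Type u} [CommRing A] [CommRing N] [CommRing B] [Field K] [Algebra A K]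
    [IsFractionRing A K] [IsDomain A] (φ : A →+* B)
    (hloc : ∀ (p : Ideal B) [p.IsPrime], IsDomain (Localization.AtPrime p) ∧
      IsIntegrallyClosed (Localization.AtPrime p))
    (hmin : ∀ q ∈ minimalPrimes B, ∀ a, φ a ∈ q → a = 0) (i : A →+* N) (ψ : N →+* K)
    (hψ : Function.Injective ψ) (hψi : ∀ a, ψ (i a) = algebraMap A K a) (hi : i.IsIntegral) :
    ∃! χ : N →+* B, χ.comp i = φ := by
  have hd : ∀ x : N, ∃ c s : A, s ≠ 0 ∧ x * i s = i c := fun x => by
    obtain ⟨c, s, hs, he⟩ := IsFractionRing.div_surjective (A := A) (ψ x)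
    refine ⟨c, s, nonZeroDivisors.ne_zero hs, hψ ?_⟩
    rw [map_mul, hψi, hψi, ← he, div_mul_cancel₀]
    exact IsFractionRing.to_map_ne_zero_of_mem_nonZeroDivisors hs
  have hx : ∀ x : N, IsIntegral A (ψ x) := fun x => by
    obtain ⟨P, hP, hPx⟩ := hi x
    refine ⟨P, hP, ?_⟩
    rw [show algebraMap A K = ψ.comp i from RingHom.ext fun a => (hψi a).symm, ← hom_eval₂, hPx, map_zero]
  have hcancel : ∀ {s : A}, s ≠ 0 → ∀ {b b' : B}, φ s * b = φ s * b' → b = b' := fun hs b b' h =>
    sub_eq_zero.1 (eq_zero_of_mul φ (fun p _ => (hloc p).1) hmin hs (by rw [mul_sub, h, sub_self]))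
  choose c s hs hcs using hd
  have hb : ∀ x, ∃ b, φ (s x) * b = φ (c x) := fun x =>
    exists_mul_eq φ hloc hmin (hx x) (hs x) (by rw [← hψi, ← hψi, ← map_mul, hcs])
  choose χ hχ using hb
  have key : ∀ {x : N} {c' s' : A}, x * i s' = i c' → φ s' * χ x = φ c' := fun {x c' s'} h => by
    refine hcancel (hs x) ?_
    rw [mul_left_comm, hχ, ← map_mul, ← map_mul]
    congr 1
    refine IsFractionRing.injective A K ?_
    rw [← hψi, ← hψi]
    congr 1
    rw [map_mul, map_mul, ← hcs, ← h]
    ring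
  refine ⟨{ toFun := χ
            map_one' := by
              have := key (x := (1 : N)) (c' := 1) (s' := 1) (by rw [map_one, one_mul])
              simpa using this
            map_zero' := by
              have := key (x := (0 : N)) (c' := 0) (s' := 1) (by simp)
              simpa using this
            map_mul' := fun x y => by
              refine hcancel (mul_ne_zero (hs x) (hs y)) ?_
              rw [key (x := x * y) (c' := c x * c y) (s' := s x * s y) (by
                rw [map_mul, map_mul, ← hcs, ← hcs]; ring), map_mul, map_mul, ← hχ x, ← hχ y]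
              ring
            map_add' := fun x y => by
              refine hcancel (mul_ne_zero (hs x) (hs y)) ?_
              rw [key (x := x + y) (c' := c x * s y + c y * s x) (s' := s x * s y) (by
                rw [map_mul, map_add, map_mul, map_mul, ← hcs, ← hcs]; ring), map_add, map_mul, map_mul, map_mul,
                ← hχ x, ← hχ y]
              ring }, RingHom.ext fun a => ?_, fun χ' hχ' => RingHom.ext fun x => ?_⟩
  · have := key (x := i a) (c' := a) (s' := 1) (by simp)
    simpa using this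
  · refine hcancel (hs x) ?_
    change φ (s x) * χ' x = φ (s x) * χ x
    rw [hχ, ← hχ', RingHom.comp_apply, RingHom.comp_apply, ← map_mul, mul_comm, hcs]

variable {X : Scheme.{u}} [IsIntegral X]

/-- Normal, with all maximal points over the generic point. -/
def Good {Z : Scheme.{u}} (g : Z ⟶ X) : Prop :=
  Pi1.IsNormalScheme Z ∧ ∀ z : Z, (∀ y : Z, y ⤳ z → y = z) → g z = genericPoint X

theorem Good.of_isOpenImmersion {Z T : Scheme.{u}} {g : Z ⟶ X} (h : Good g) (j : T ⟶ Z) [IsOpenImmersion j] :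
    Good (j ≫ g) := by
  refine ⟨fun t => ?_, fun t ht => ?_⟩
  · obtain ⟨hd, hc⟩ := h.1 (j t)
    let e := (asIso (j.stalkMap t)).commRingCatIsoToRingEquiv
    exact ⟨e.symm.toMulEquiv.isDomain _, IsIntegrallyClosed.of_equiv e⟩
  · rw [Scheme.Hom.comp_apply]
    refine h.2 _ fun y hy => ?_
    obtain ⟨y', rfl⟩ : y ∈ Set.range j := hy.mem_open j.isOpenEmbedding.isOpen_range ⟨t, rfl⟩
    rw [ht y' (j.isOpenEmbedding.isInducing.specializes_iff.1 hy)]

variable [QuasiCompact (X.fromSpecStalk (genericPoint X))] [QuasiSeparated (X.fromSpecStalk (genericPoint X))]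

/-- The affine local statement. -/
theorem existsUnique_appLE {Z : Scheme.{u}} {g : Z ⟶ X} (hg : Good g) {U : X.Opens} (hU : IsAffineOpen U)
    [Nonempty U] {W : Z.Opens} (hW : IsAffineOpen W) (e : W ≤ g ⁻¹ᵁ U) :
    ∃! χ : Γ(Curv2.normalization X, Curv2.normalizationι X ⁻¹ᵁ U) →+* Γ(Z, W),
      χ.comp ((Curv2.normalizationι X).app U).hom = (g.appLE U W e).hom := by
  obtain ⟨ψ, hψ, hψi, -, -⟩ := NormDimOneLib.exists_chart X ⟨U, hU⟩
  letI : Algebra Γ(X, U) X.functionField := (X.germToFunctionField U).hom.toAlgebra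
  haveI : IsFractionRing Γ(X, U) X.functionField := functionField_isFractionRing_of_isAffineOpen X _ hU
  refine existsUnique_extension (g.appLE U W e).hom (fun p hp => ?_) (fun q hq a ha => ?_)
    _ ψ hψ hψi (IsIntegralHom.isIntegral_app _ U hU)
  · let P : PrimeSpectrum Γ(Z, W) := ⟨p, hp⟩
    have hy : hW.fromSpec P ∈ W := hW.range_fromSpec.subset ⟨P, rfl⟩
    letI := TopCat.Presheaf.algebra_section_stalk Z.presheaf (⟨hW.fromSpec P, hy⟩ : W)
    haveI : IsLocalization.AtPrime (Z.presheaf.stalk (hW.fromSpec P)) p := by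
      have := hW.isLocalization_stalk ⟨hW.fromSpec P, hy⟩
      have e' : (hW.primeIdealOf ⟨hW.fromSpec P, hy⟩).asIdeal = p :=
        congrArg PrimeSpectrum.asIdeal (hW.fromSpec.isOpenEmbedding.injective (hW.fromSpec_primeIdealOf _))
      simp only [e'] at this
      exact this
    obtain ⟨hd, hc⟩ := hg.1 (hW.fromSpec P)
    let E := (IsLocalization.algEquiv p.primeCompl (Z.presheaf.stalk (hW.fromSpec P))
      (Localization.AtPrime p)).toRingEquiv
    exact ⟨E.symm.toMulEquiv.isDomain _, IsIntegrallyClosed.of_equiv E⟩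
  · by_contra ha0
    let Q : PrimeSpectrum Γ(Z, W) := ⟨q, hq.1.1⟩
    have hz : hW.fromSpec Q ∈ W := hW.range_fromSpec.subset ⟨Q, rfl⟩
    have hmax : ∀ y : Z, y ⤳ hW.fromSpec Q → y = hW.fromSpec Q := fun y hy => by
      obtain ⟨y', rfl⟩ : y ∈ Set.range hW.fromSpec := by
        rw [hW.range_fromSpec]
        exact hy.mem_open W.2 hz
      rw [hW.fromSpec.isOpenEmbedding.isInducing.specializes_iff] at hy
      have hle : (show PrimeSpectrum Γ(Z, W) from y') ≤ Q := (PrimeSpectrum.le_iff_specializes _ _).2 hy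
      exact congrArg hW.fromSpec (le_antisymm hle (hq.2 ⟨(show PrimeSpectrum Γ(Z, W) from y').2, bot_le⟩ hle) :)
    have hgz := hg.2 _ hmax
    have hη : g (hW.fromSpec Q) ∈ X.basicOpen a := by
      rw [hgz, X.mem_basicOpen a (genericPoint X) (hgz ▸ e hz)]
      exact (((map_ne_zero_iff _ (germ_injective_of_isIntegral _ _ _)).2 ha0)).isUnit
    have h2 : hW.fromSpec Q ∈ Z.basicOpen (g.appLE U W e a) := by
      rw [Scheme.Hom.appLE, CommRingCat.comp_apply, Scheme.basicOpen_res]
      refine ⟨hz, ?_⟩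
      rw [← Scheme.preimage_basicOpen]
      exact hη
    have h3 : Q ∈ hW.fromSpec ⁻¹ᵁ Z.basicOpen (g.appLE U W e a) := h2
    rw [hW.fromSpec_preimage_basicOpen] at h3
    exact h3 ha

/-- Factorisations are unique. -/
theorem fac_unique {T : Scheme.{u}} {g : T ⟶ X} (hg : Good g) (a b : T ⟶ Curv2.normalization X)
    (ha : a ≫ Curv2.normalizationι X = g) (hb : b ≫ Curv2.normalizationι X = g) : a = b := by
  refine Scheme.Cover.hom_ext (T.openCoverOfIsOpenCover (fun W : {W : T.affineOpens // ∃ U : X.affineOpens, W.1 ≤ g ⁻¹ᵁ U.1} => W.1.1) ?_) _ _ fun W => ?_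
  · refine eq_top_iff.2 fun t _ => ?_
    obtain ⟨U, hU, htU, -⟩ := exists_isAffineOpen_mem_and_subset (x := g t) (U := (⊤ : X.Opens)) trivial
    obtain ⟨W, hW, htW, hWU⟩ := exists_isAffineOpen_mem_and_subset (x := t) (U := g ⁻¹ᵁ U) htU
    exact Opens.mem_iSup.2 ⟨⟨⟨W, hW⟩, ⟨U, hU⟩, hWU⟩, htW⟩
  · obtain ⟨⟨W, hW⟩, ⟨U, hU⟩, e⟩ := W
    change W.ι ≫ a = W.ι ≫ b
    rcases (W : Set T).eq_empty_or_nonempty with h0 | ⟨t, ht⟩
    · haveI : IsEmpty (W : Scheme.{u}) := ⟨fun t => (h0.le t.2 : t.1 ∈ (∅ : Set T))⟩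
      exact isInitialOfIsEmpty.hom_ext _ _
    haveI : Nonempty U := ⟨⟨g t, e ht⟩⟩
    let hV := hU.preimage (Curv2.normalizationι X)
    have key : ∀ (c : T ⟶ Curv2.normalization X) (hc : c ≫ Curv2.normalizationι X = g),
        ∃ χ : Γ(Curv2.normalization X, Curv2.normalizationι X ⁻¹ᵁ U) →+* Γ(T, W),
        χ.comp ((Curv2.normalizationι X).app U).hom = (g.appLE U W e).hom ∧
        hW.fromSpec ≫ c = Spec.map (CommRingCat.ofHom χ) ≫ hV.fromSpec := by
      intro c hc
      subst hc
      refine ⟨(c.appLE (Curv2.normalizationι X ⁻¹ᵁ U) W e).hom, ?_, (IsAffineOpen.SpecMap_appLE_fromSpec c hV hW e).symm⟩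
      rw [← CommRingCat.hom_comp, Scheme.Hom.app_eq_appLE, Scheme.Hom.appLE_comp_appLE]
    obtain ⟨χ₁, h₁, h₁'⟩ := key a ha
    obtain ⟨χ₂, h₂, h₂'⟩ := key b hb
    rw [(existsUnique_appLE hg hU hW e).unique h₁ h₂] at h₁'
    rw [← cancel_epi hW.isoSpec.inv, ← Category.assoc, ← Category.assoc, hW.isoSpec_inv_ι, h₁', h₂']



/-- Part (4): for an integral scheme X: let g : Z ⟶ X be a morphism from a normal scheme Z such that
every irreducible component of Z dominates X, i.e. every generic point of an irreducible component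
of Z maps to the generic point of X. Then g factors uniquely through the normalization X^ν ⟶ X. (The
published statement allows X with locally finitely many irreducible components; this row takes X
integral.) (The quasi-compactness and quasi-separatedness binders on Spec K(X) ⟶ X always hold; they
are only needed to form the normalization.) -/
theorem result (X : Scheme.{u}) [IsIntegral X] [QuasiCompact (X.fromSpecStalk (genericPoint ↥X))] [QuasiSeparated (X.fromSpecStalk (genericPoint ↥X))]
    {Z : Scheme.{u}} (g : Z ⟶ X) (hZ : Pi1.IsNormalScheme Z)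
    (hdom : ∀ z : Z, closure {z} ∈ irreducibleComponents ↥Z → g.base z = genericPoint ↥X) :
    ∃! h : Z ⟶ Curv2.normalization X, h ≫ Curv2.normalizationι X = g := by
  have hg : Good g := ⟨hZ, fun z hz => hdom z ⟨isIrreducible_singleton.closure, fun T hT hle => by
    obtain ⟨y, hy⟩ := QuasiSober.sober hT.closure isClosed_closure
    have hyz : y ⤳ z := hy.specializes (subset_closure (hle (subset_closure rfl)))
    intro t ht
    rw [← hz y hyz]
    exact (hy.symm ▸ subset_closure ht : t ∈ closure {y})⟩⟩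
  let I := {W : Z.affineOpens // ∃ U : X.affineOpens, W.1 ≤ g ⁻¹ᵁ U.1}
  let 𝒰 : Z.OpenCover := Z.openCoverOfIsOpenCover (fun W : I => W.1.1) (eq_top_iff.2 fun t _ => by
    obtain ⟨U, hU, htU, -⟩ := exists_isAffineOpen_mem_and_subset (x := g t) (U := (⊤ : X.Opens)) trivial
    obtain ⟨W, hW, htW, hWU⟩ := exists_isAffineOpen_mem_and_subset (x := t) (U := g ⁻¹ᵁ U) htU
    exact Opens.mem_iSup.2 ⟨⟨⟨W, hW⟩, ⟨U, hU⟩, hWU⟩, htW⟩)
  have hex : ∀ W : I, ∃ h : (W.1.1 : Scheme.{u}) ⟶ Curv2.normalization X,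
      h ≫ Curv2.normalizationι X = W.1.1.ι ≫ g := by
    rintro ⟨⟨W, hW⟩, ⟨U, hU⟩, e⟩
    rcases (W : Set Z).eq_empty_or_nonempty with h0 | ⟨t, ht⟩
    · haveI : IsEmpty (W : Scheme.{u}) := ⟨fun t => (h0.le t.2 : t.1 ∈ (∅ : Set Z))⟩
      exact ⟨isInitialOfIsEmpty.to _, isInitialOfIsEmpty.hom_ext _ _⟩
    haveI : Nonempty U := ⟨⟨g t, e ht⟩⟩
    obtain ⟨χ, hχ, -⟩ := existsUnique_appLE hg hU hW e
    refine ⟨hW.isoSpec.hom ≫ Spec.map (CommRingCat.ofHom χ) ≫ (hU.preimage (Curv2.normalizationι X)).fromSpec, ?_⟩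
    rw [Category.assoc, Category.assoc,
      ← IsAffineOpen.SpecMap_appLE_fromSpec (Curv2.normalizationι X) hU (hU.preimage _) le_rfl, ← Spec.map_comp_assoc,
      ← Scheme.Hom.app_eq_appLE, show (Curv2.normalizationι X).app U ≫ CommRingCat.ofHom χ = g.appLE U W e from
        CommRingCat.hom_ext hχ, IsAffineOpen.SpecMap_appLE_fromSpec g hU hW e, IsAffineOpen.fromSpec,
      Category.assoc, Iso.hom_inv_id_assoc]
  choose h hh using hex
  have hglue : ∀ i j, pullback.fst (𝒰.f i) (𝒰.f j) ≫ h i = pullback.snd (𝒰.f i) (𝒰.f j) ≫ h j := fun i j =>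
    fac_unique (hg.of_isOpenImmersion (pullback.fst (𝒰.f i) (𝒰.f j) ≫ 𝒰.f i)) _ _
      ((Category.assoc _ _ _).trans ((congrArg (_ ≫ ·) (hh i)).trans (Category.assoc _ _ _).symm))
      ((Category.assoc _ _ _).trans ((congrArg (_ ≫ ·) (hh j)).trans ((pullback.condition_assoc g).symm.trans (Category.assoc _ _ _).symm)))
  have hfac : 𝒰.glueMorphisms h hglue ≫ Curv2.normalizationι X = g :=
    Scheme.Cover.hom_ext 𝒰 _ _ fun i => by rw [Scheme.Cover.ι_glueMorphisms_assoc]; exact hh i
  exact ⟨_, hfac, fun k hk => fac_unique hg k _ hk hfac⟩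


end Groth.Agent.S9690
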