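import Groth.Statements.S1177
import Groth.Agent.CohBCLib.Cons
import Groth.Agent.CohBCLib.FreeNhd
import Groth.Agent.AzumayaLib.Descent
import Groth.Agent.PerfHomLib.Retract
import Groth.Agent.KFlatLib.AffinePull
import Groth.Agent.KFlatLib.PerfectPull
import Groth.Agent.MiscFlat6.FreeStalks
-- import your own Groth.Agent.* helpers here

set_option autoImplicit false
open CategoryTheory CategoryTheory.Limits AlgebraicGeometry Opposite
universe u
open Desc

namespace Groth.Agent.S1177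

theorem finProj_top {B : CommRingCat.{u}} (F : (Spec B).Modules) (hF : FlatMod.IsFinLocFree F) :
    Module.Finite Γ(Spec B, ⊤) Γ(F, (⊤ : (Spec B).Opens)) ∧
      Module.Projective Γ(Spec B, ⊤) Γ(F, (⊤ : (Spec B).Opens)) := by
  obtain ⟨h1, h2⟩ := PerfHomLib.projective_finite_sections hF
  have : Module.FinitePresentation B (moduleSpecΓFunctor.obj F) :=
    Module.finitePresentation_of_projective _ _
  have : Module.Flat Γ(Spec B, ⊤) Γ(F, (⊤ : (Spec B).Opens)) :=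
    CohBCLib.flat_sections_of_isFinLocFree F hF (isAffineOpen_top _)
  have : Module.FinitePresentation Γ(Spec B, ⊤) Γ(F, (⊤ : (Spec B).Opens)) :=
    FlatLib.finitePresentation_semilinear (A := B) (M := (moduleSpecΓFunctor.obj F : Type u))
      (Scheme.ΓSpecIso B).inv.hom (ConcreteCategory.bijective_of_isIso (Scheme.ΓSpecIso B).inv).2
      (AddEquiv.refl _) (fun r m => Scheme.Modules.smul_Spec_def r m)
  exact ⟨inferInstance, Module.Flat.projective_of_finitePresentation⟩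

theorem finProj_affine {X X' : Scheme.{u}} (g : X' ⟶ X) [QuasiCompact g] [Flat g] [Surjective g]
    (F : X.Modules) [Coh.IsQCoh F] (h : FlatMod.IsFinLocFree ((Scheme.Modules.pullback g).obj F))
    {U : X.Opens} (hU : IsAffineOpen U) :
    Module.Finite Γ(X, U) Γ(F, U) ∧ Module.Projective Γ(X, U) Γ(F, U) := by
  let P : Scheme.{u} := (g ⁻¹ᵁ U : X'.Opens)
  haveI : CompactSpace P := isCompact_iff_compactSpace.mp
    (QuasiCompact.isCompact_preimage (f := g) U U.2 hU.isCompact)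
  let 𝒰 := P.affineCover.finiteSubcover
  let W : Scheme.{u} := ∐ 𝒰.X
  let q : W ⟶ P := Sigma.desc 𝒰.f
  haveI : ∀ i, IsAffine (𝒰.X i) := fun i => inferInstanceAs (IsAffine (P.affineCover.X _))
  haveI : IsAffine W := inferInstanceAs (IsAffine (∐ 𝒰.X))
  have hq : Function.Surjective q := fun x => by
    obtain ⟨y, hy⟩ := 𝒰.covers x
    refine ⟨Sigma.ι 𝒰.X (𝒰.idx x) y, ?_⟩
    rw [← Scheme.Hom.comp_apply, Sigma.ι_desc]
    exact hy
  haveI : Flat q := by
    refine IsZariskiLocalAtSource.sigmaDesc fun i => ?_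
    infer_instance
  let k : Spec Γ(W, ⊤) ⟶ X' := W.isoSpec.inv ≫ q ≫ (g ⁻¹ᵁ U).ι
  haveI : Flat k := inferInstance
  have hle : (⊤ : (Spec Γ(W, ⊤)).Opens) ≤ (k ≫ g) ⁻¹ᵁ U := fun z _ =>
    (q (W.isoSpec.inv z)).2
  have hk : ∀ y ∈ U, ∃ z, (k ≫ g) z = y := fun y hy => by
    obtain ⟨x, rfl⟩ := g.surjective y
    obtain ⟨w, hw⟩ := hq ⟨x, hy⟩
    obtain ⟨z, rfl⟩ := W.isoSpec.inv.surjective w
    exact ⟨z, congrArg (fun t : P => g t.1) hw⟩
  let φ := (k ≫ g).appLE U ⊤ hle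
  have hflat : φ.hom.Flat :=
    HasRingHomProperty.appLE (P := @Flat) (f := k ≫ g) inferInstance ⟨U, hU⟩ ⟨⊤, isAffineOpen_top _⟩ hle
  have hsur : Function.Surjective (PrimeSpectrum.comap φ.hom) := fun p => by
    obtain ⟨z, hz⟩ := hk (hU.fromSpec p) (hU.range_fromSpec.subset (Set.mem_range_self p))
    obtain ⟨z', rfl⟩ : ∃ z', (isAffineOpen_top (Spec Γ(W, ⊤))).fromSpec z' = z := by
      have : z ∈ Set.range (isAffineOpen_top (Spec Γ(W, ⊤))).fromSpec := by
        rw [IsAffineOpen.range_fromSpec]; trivial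
      exact this
    refine ⟨z', hU.fromSpec.isOpenEmbedding.injective ?_⟩
    rw [← Scheme.Hom.comp_apply, ← IsAffineOpen.SpecMap_appLE_fromSpec (k ≫ g) hU
      (isAffineOpen_top _) hle, Scheme.Hom.comp_apply] at hz
    exact hz
  letI : Algebra Γ(X, U) Γ(Spec Γ(W, ⊤), ⊤) := φ.hom.toAlgebra
  haveI : Module.FaithfullyFlat Γ(X, U) Γ(Spec Γ(W, ⊤), ⊤) :=
    RingHom.FaithfullyFlat.iff_flat_and_comap_surjective.2 ⟨hflat, hsur⟩
  have hG : FlatMod.IsFinLocFree (KFlatLib.pb (k ≫ g) F) :=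
    Groth.Agent.PerfLib.isFinLocFree_of_iso ((Scheme.Modules.pullbackComp k g).app F)
      (KFlatLib.isFinLocFree_pull k h)
  obtain ⟨h1, h2⟩ := finProj_top _ hG
  letI : Module Γ(X, U) Γ(KFlatLib.pb (k ≫ g) F, (⊤ : (Spec Γ(W, ⊤)).Opens)) :=
    Module.compHom _ φ.hom
  haveI : IsScalarTower Γ(X, U) Γ(Spec Γ(W, ⊤), ⊤)
      Γ(KFlatLib.pb (k ≫ g) F, (⊤ : (Spec Γ(W, ⊤)).Opens)) :=
    IsScalarTower.of_algebraMap_smul fun _ _ => rfl
  let ψ : Γ(F, U) →ₗ[Γ(X, U)] Γ(KFlatLib.pb (k ≫ g) F, (⊤ : (Spec Γ(W, ⊤)).Opens)) :=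
    { toFun := KFlatLib.puSecLE (k ≫ g) F hle
      map_add' := fun a b => map_add (KFlatLib.puSecLE (k ≫ g) F hle) a b
      map_smul' := fun r m => KFlatLib.puSecLE_smul (k ≫ g) F hle r m }
  have hb := KFlatLib.isBaseChange_puSec (k ≫ g) F hU (isAffineOpen_top _) hle (fun _ => rfl) ψ
    (fun _ => rfl)
  haveI := Module.Finite.equiv hb.equiv.symm
  haveI := Module.Projective.of_equiv hb.equiv.symm
  exact AzumayaLib.finite_projective_of_faithfullyFlat (S := Γ(Spec Γ(W, ⊤), ⊤)) Γ(F, U)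

/-- Let g : X' ⟶ X be quasi-compact, flat and surjective and F a quasi-coherent O_X-module. If the
pullback g^*F is a finite locally free O_{X'}-module, then F is finite locally free. -/
theorem result {X X' : Scheme.{u}} (g : X' ⟶ X) [QuasiCompact g] [Flat g] [Surjective g]
    (F : X.Modules) [F.IsQuasicoherent] (h : FlatMod.IsFinLocFree ((Scheme.Modules.pullback g).obj F)) :
    FlatMod.IsFinLocFree F := by
  intro x
  obtain ⟨U, hU, hx⟩ := QCohLib.exists_affine_nhd x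
  obtain ⟨h1, h2⟩ := finProj_affine g F h hU
  obtain ⟨V, hV, e⟩ := CohBCLib.exists_free_nhd hU F (hU.primeIdealOf ⟨x, hx⟩) rfl
  rw [hU.fromSpec_primeIdealOf ⟨x, hx⟩] at hV
  exact ⟨V, _, hV, e⟩

end Groth.Agent.S1177
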