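import Groth.Statements.S1063
import Groth.Agent.S1177
import Groth.Agent.CohCmpLib.HomFrame
import Groth.Agent.CohCmpLib.HomLift
import Groth.Agent.ConsLib.ModLoci
import Groth.Agent.QCohLib.Push
import Groth.Agent.QCohLib.SerreCrit
import Groth.Agent.ProjFormLib.Proj
-- import your own Groth.Agent.* helpers here

set_option autoImplicit false
universe u
open CategoryTheory CategoryTheory.Limits AlgebraicGeometry TopologicalSpace Opposite
open Perf
open scoped TensorProduct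

namespace Groth.Agent.S1063

open ProjFormLib (ger res ger_res ger_smul ger_add ger_map exists_ger section_ext IsFrame exists_frame
  phi phi_bijective)
open KFlatLib (tens shTm pb pf puSec stalkTensorLin)
open CohCmpLib (stk homMod homSec hVal happ ger_happ evS evMod exists_hom_of_frame)

noncomputable section

variable {X Y : Scheme.{u}}

/-- The section `1` of the structure module. -/
def oneS (Z : Scheme.{u}) (V : Z.Opens) : Γ(Coh.structureModule Z, V) := (1 : Γ(Z, V))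

theorem oneS_res {Z : Scheme.{u}} {V W : Z.Opens} (h : W ≤ V) :
    res (Coh.structureModule Z) h (oneS Z V) = oneS Z W :=
  map_one (Z.presheaf.map (homOfLE h).op).hom

theorem smul_oneS {Z : Scheme.{u}} {V : Z.Opens} (r : Γ(Z, V)) :
    r • oneS Z V = (show Γ(Coh.structureModule Z, V) from r) := mul_one r

theorem bijective_unitStalk (Z : Scheme.{u}) (y : Z) :
    Function.Bijective (LinearMap.toSpanSingleton (Z.presheaf.stalk y) (stk (Coh.structureModule Z) y)
      (ger (Coh.structureModule Z) y (U := ⊤) trivial (oneS Z ⊤))) := by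
  constructor
  · rw [injective_iff_map_eq_zero]
    intro a ha
    obtain ⟨V, hV, r, rfl⟩ := Z.presheaf.exists_germ_eq (x := y) a
    rw [LinearMap.toSpanSingleton_apply, ← ger_res _ le_top y hV, oneS_res, ← ger_smul, smul_oneS] at ha
    obtain ⟨W, hW, i₁, i₂, e⟩ := (Coh.structureModule Z).presheaf.germ_eq y hV hV _ _
      (ha.trans (CohCmpLib.ger_zero (Coh.structureModule Z) y hV).symm)
    rw [map_zero] at e
    exact ((TopCat.Presheaf.germ_res_apply Z.presheaf i₁ y hW r).symm.trans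
      (congrArg (Z.presheaf.germ W y hW) e)).trans (map_zero _)
  · intro a
    obtain ⟨V, hV, r, rfl⟩ := exists_ger _ y a
    refine ⟨Z.presheaf.germ V y hV r, ?_⟩
    rw [LinearMap.toSpanSingleton_apply, ← ger_res _ le_top y hV, oneS_res, ← ger_smul, smul_oneS]

/-- The stalk of the structure module is the local ring. -/
def ψ (Z : Scheme.{u}) (y : Z) : stk (Coh.structureModule Z) y ≃ₗ[Z.presheaf.stalk y] Z.presheaf.stalk y :=
  (LinearEquiv.ofBijective _ (bijective_unitStalk Z y)).symm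

theorem ψ_ger {Z : Scheme.{u}} {V : Z.Opens} (y : Z) (hy : y ∈ V) (r : Γ(Z, V)) :
    ψ Z y (ger (Coh.structureModule Z) y hy (show Γ(Coh.structureModule Z, V) from r)) =
      Z.presheaf.germ V y hy r := by
  rw [ψ, LinearEquiv.symm_apply_eq]
  change _ = LinearMap.toSpanSingleton _ _ _ (Z.presheaf.germ V y hy r)
  rw [LinearMap.toSpanSingleton_apply]
  rw [← ger_res _ le_top y hy, oneS_res, ← ger_smul, smul_oneS]

theorem isFinLocFree_structureModule (Z : Scheme.{u}) : FlatMod.IsFinLocFree (Coh.structureModule Z) := by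
  refine CohCmpLib.isFinLocFree_of_frames fun x => ⟨⊤, 1, fun _ => oneS Z ⊤, trivial, fun y hy => ?_⟩
  refine (congrArg Function.Bijective (funext fun c => ?_)).mpr
    ((bijective_unitStalk Z y).comp (LinearEquiv.funUnique (Fin 1) (Z.presheaf.stalk y)
      (Z.presheaf.stalk y)).bijective)
  rw [Fintype.linearCombination_apply, Fin.sum_univ_one]
  rfl

theorem isFinLocFree_pf (f : X ⟶ Y) (hf : Mor2.IsFinLocFree f) {E : X.Modules}
    (hE : FlatMod.IsFinLocFree E) : FlatMod.IsFinLocFree (pf f E) := by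
  obtain ⟨h₁, h₂, h₃⟩ := hf
  have : Coh.IsQCoh E := FinLFAnn.isQCoh_of_isFinLocFree hE
  have : Coh.IsQCoh (pf f E) := QCohLib.isQCoh_pushforward f E
  intro y
  obtain ⟨V, hV, hy⟩ := QCohLib.exists_affine_nhd y
  have hV' : IsAffineOpen (f ⁻¹ᵁ V) := hV.preimage f
  obtain ⟨hfin, hproj⟩ := Groth.Agent.S1177.finProj_affine (𝟙 X) E
    (KFlatLib.isFinLocFree_pull (𝟙 X) hE) hV'
  let φ := f.app V
  have h4 : φ.hom.Finite := IsFinite.finite_app f V hV
  have h5 : φ.hom.Flat := by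
    have := HasRingHomProperty.appLE (P := @Flat) (f := f) h₂ ⟨V, hV⟩ ⟨_, hV'⟩ le_rfl
    rwa [← Scheme.Hom.app_eq_appLE] at this
  have h6 : φ.hom.FinitePresentation := by
    have := HasRingHomProperty.appLE (P := @LocallyOfFinitePresentation) (f := f) h₃ ⟨V, hV⟩ ⟨_, hV'⟩ le_rfl
    rwa [← Scheme.Hom.app_eq_appLE] at this
  letI : Algebra Γ(Y, V) Γ(X, f ⁻¹ᵁ V) := φ.hom.toAlgebra
  haveI : Module.Finite Γ(Y, V) Γ(X, f ⁻¹ᵁ V) := h4
  haveI : Module.Flat Γ(Y, V) Γ(X, f ⁻¹ᵁ V) := h5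
  haveI : Algebra.FinitePresentation Γ(Y, V) Γ(X, f ⁻¹ᵁ V) := h6
  haveI : Module.FinitePresentation Γ(Y, V) Γ(X, f ⁻¹ᵁ V) :=
    Module.FinitePresentation.of_finite_of_finitePresentation _ _
  letI : Module Γ(Y, V) Γ(E, f ⁻¹ᵁ V) := Module.compHom _ φ.hom
  haveI : IsScalarTower Γ(Y, V) Γ(X, f ⁻¹ᵁ V) Γ(E, f ⁻¹ᵁ V) :=
    IsScalarTower.of_algebraMap_smul fun _ _ => rfl
  haveI : Module.FinitePresentation Γ(X, f ⁻¹ᵁ V) Γ(E, f ⁻¹ᵁ V) :=
    Module.finitePresentation_of_projective _ _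
  haveI : Module.FinitePresentation Γ(Y, V) Γ(E, f ⁻¹ᵁ V) :=
    Module.FinitePresentation.trans Γ(Y, V) Γ(E, f ⁻¹ᵁ V) Γ(X, f ⁻¹ᵁ V)
  haveI : Module.Flat Γ(Y, V) Γ(E, f ⁻¹ᵁ V) := Module.Flat.trans Γ(Y, V) Γ(X, f ⁻¹ᵁ V) _
  let e : Γ(E, f ⁻¹ᵁ V) ≃ₗ[Γ(Y, V)] Γ(pf f E, V) :=
    { toFun := fun s => s
      invFun := fun s => s
      map_add' := fun _ _ => rfl
      map_smul' := fun _ _ => rfl
      left_inv := fun _ => rfl
      right_inv := fun _ => rfl }
  haveI : Module.Finite Γ(Y, V) Γ(pf f E, V) := Module.Finite.equiv e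
  haveI : Module.Projective Γ(Y, V) Γ(E, f ⁻¹ᵁ V) := Module.Flat.projective_of_finitePresentation
  haveI : Module.Projective Γ(Y, V) Γ(pf f E, V) := Module.Projective.of_equiv e
  obtain ⟨U, hU, hiso⟩ := CohBCLib.exists_free_nhd hV (pf f E) (hV.primeIdealOf ⟨y, hy⟩) rfl
  rw [hV.fromSpec_primeIdealOf ⟨y, hy⟩] at hU
  exact ⟨U, _, hU, hiso⟩

theorem isIso_of_small_affines {M N : Y.Modules} (φ : M ⟶ N)
    (h : ∀ x : Y, ∃ U : Y.Opens, x ∈ U ∧ ∀ V ≤ U, IsAffineOpen V → Function.Bijective (φ.app V)) :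
    IsIso φ := by
  refine KFlatLib.isIso_of_stalks φ fun x => (ConcreteCategory.isIso_iff_bijective _).2 ⟨fun a b hab => ?_, fun b => ?_⟩
  · obtain ⟨U, hxU, hU⟩ := h x
    obtain ⟨W₁, h₁, s, rfl⟩ := exists_ger M x a
    obtain ⟨W₂, h₂, t, rfl⟩ := exists_ger M x b
    obtain ⟨W, hxW, i₁, i₂, hW⟩ := N.presheaf.germ_eq x h₁ h₂ _ _
      ((ger_map φ x h₁ s).symm.trans (hab.trans (ger_map φ x h₂ t)))
    obtain ⟨W', hW', hxW', hle⟩ := exists_isAffineOpen_mem_and_subset (U := W ⊓ U) ⟨hxW, hxU⟩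
    have hWle : W' ≤ W := hle.trans inf_le_left
    have e : res M (hWle.trans i₁.le) s = res M (hWle.trans i₂.le) t := by
      apply (hU W' (hle.trans inf_le_right) hW').1
      rw [QCohLib.app_map, QCohLib.app_map]
      refine Eq.trans ?_ ((congrArg (N.presheaf.map (homOfLE hWle).op) hW).trans ?_)
      · exact ConcreteCategory.congr_hom (N.presheaf.map_comp i₁.op (homOfLE hWle).op) _
      · exact (ConcreteCategory.congr_hom (N.presheaf.map_comp i₂.op (homOfLE hWle).op) _).symm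
    rw [← ger_res M (hWle.trans i₁.le) x hxW' s, e, ger_res]
  · obtain ⟨U, hxU, hU⟩ := h x
    obtain ⟨W, hW, t, rfl⟩ := exists_ger N x b
    obtain ⟨W', hW', hxW', hle⟩ := exists_isAffineOpen_mem_and_subset (U := W ⊓ U) ⟨hW, hxU⟩
    obtain ⟨s, hs⟩ := (hU W' (hle.trans inf_le_right) hW').2 (res N (hle.trans inf_le_left) t)
    exact ⟨ger M x hxW' s, (ger_map φ x _ s).trans (by rw [hs, ger_res])⟩

/-- The pairing of functions upstairs with sections downstairs. -/
def act (f : X ⟶ Y) (M : Y.Modules) (V : Y.Opens) (c : Γ(X, f ⁻¹ᵁ V)) (m : Γ(M, V)) :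
    Γ(pb f M, f ⁻¹ᵁ V) :=
  c • (puSec f m : Γ(pb f M, f ⁻¹ᵁ V))

theorem act_add_left (f : X ⟶ Y) (M : Y.Modules) (V : Y.Opens) (c c' : Γ(X, f ⁻¹ᵁ V)) (m : Γ(M, V)) :
    act f M V (c + c') m = act f M V c m + act f M V c' m := add_smul c c' _

theorem act_add_right (f : X ⟶ Y) (M : Y.Modules) (V : Y.Opens) (c : Γ(X, f ⁻¹ᵁ V)) (m m' : Γ(M, V)) :
    act f M V c (m + m') = act f M V c m + act f M V c m' :=
  (congrArg (fun t : Γ(pb f M, f ⁻¹ᵁ V) => c • t) (map_add (((Scheme.Modules.pullbackPushforwardAdjunction f).unit.app M).app V).hom m m')).trans (smul_add _ _ _)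

theorem act_smul_left (f : X ⟶ Y) (M : Y.Modules) (V : Y.Opens) (r : Γ(Y, V)) (c : Γ(X, f ⁻¹ᵁ V))
    (m : Γ(M, V)) : act f M V (f.app V r * c) m = f.app V r • act f M V c m := mul_smul _ c _

theorem act_smul_right (f : X ⟶ Y) (M : Y.Modules) (V : Y.Opens) (r : Γ(Y, V)) (c : Γ(X, f ⁻¹ᵁ V))
    (m : Γ(M, V)) : act f M V c (r • m) = f.app V r • act f M V c m :=
  (congrArg (c • ·) (KFlatLib.puSec_smul f r m)).trans (smul_comm _ _ _)

theorem act_res (f : X ⟶ Y) (M : Y.Modules) {V W : Y.Opens} (h : V ≤ W) (c : Γ(X, f ⁻¹ᵁ W))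
    (m : Γ(M, W)) : res (pb f M) (fun x hx => h hx : f ⁻¹ᵁ V ≤ f ⁻¹ᵁ W) (act f M W c m) =
      act f M V (X.presheaf.map (homOfLE (fun x hx => h hx : f ⁻¹ᵁ V ≤ f ⁻¹ᵁ W)).op c) (res M h m) :=
  (Scheme.Modules.map_smul _ _ _ _).trans (congrArg (_ • ·) (ProjFormLib.puSec_res f M h m).symm)

theorem isFinLocFree_tens {A B : Y.Modules} (hA : FlatMod.IsFinLocFree A) (hB : FlatMod.IsFinLocFree B) :
    FlatMod.IsFinLocFree (tens A B) := CohCmpLib.isFinLocFree_of_frames fun y => by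
  classical
  obtain ⟨U, n, a, hy, ha⟩ := exists_frame hA y
  obtain ⟨U', k, b, hy', hb⟩ := exists_frame hB y
  let T : Y.Opens := U ⊓ U'
  refine ⟨T, n * k, fun t => shTm (res A (inf_le_left : T ≤ U) (a (finProdFinEquiv.symm t).1))
    (res B (inf_le_right : T ≤ U') (b (finProdFinEquiv.symm t).2)), ⟨hy, hy'⟩, fun z hz => ?_⟩
  let bb := (((ha.basis z hz.1).tensorProduct (hb.basis z hz.2)).map
    (LinearEquiv.ofBijective _ (KFlatLib.stalkTensorLin_bijective (M := A) (N := B) (x := z)))).reindex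
      finProdFinEquiv
  refine (congrArg Function.Bijective (funext fun c => ?_)).mpr bb.equivFun.symm.bijective
  rw [Fintype.linearCombination_apply, Module.Basis.equivFun_symm_apply]
  refine Finset.sum_congr rfl fun t _ => ?_
  rw [Module.Basis.reindex_apply, Module.Basis.map_apply, Module.Basis.tensorProduct_apply',
    LinearEquiv.ofBijective_apply, IsFrame.basis_apply, IsFrame.basis_apply,
    ← ger_res A (inf_le_left : T ≤ U) z hz, ← ger_res B (inf_le_right : T ≤ U') z hz]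
  exact congrArg (c t • ·) (KFlatLib.stalkTensorLin_germ A B z hz _ _).symm

/-- The projection map `f_* O ⊗ M ⟶ f_* f^* M`. -/
theorem exists_proj (f : X ⟶ Y) (hf : Mor2.IsFinLocFree f) (M : Y.Modules) [Coh.IsQCoh M] :
    ∃ P : tens (pf f (Coh.structureModule X)) M ⟶ pf f (pb f M), IsIso P ∧
      ∀ (V : Y.Opens) (m : Γ(M, V)),
        P.app V (shTm (show Γ(pf f (Coh.structureModule X), V) from oneS X (f ⁻¹ᵁ V)) m) =
          (show Γ(pf f (pb f M), V) from puSec f m) := by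
  obtain ⟨P, hP⟩ := GrTildeLib.exists_tens_hom (M := pf f (Coh.structureModule X)) (N := M)
    (P := pf f (pb f M)) (fun V c m => act f M V c m)
    (fun V c c' m => act_add_left f M V c c' m) (fun V c m m' => act_add_right f M V c m m')
    (fun V r c m => act_smul_left f M V r c m) (fun V r c m => act_smul_right f M V r c m)
    (fun V W h c m => act_res f M h c m)
  refine ⟨P, isIso_of_small_affines P fun y => ?_, fun V m => (hP V _ m).trans (one_smul Γ(X, f ⁻¹ᵁ V) (puSec f m : Γ(pb f M, f ⁻¹ᵁ V)))⟩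
  have hB := isFinLocFree_pf f hf (isFinLocFree_structureModule X)
  have : Coh.IsQCoh (pf f (Coh.structureModule X)) := FinLFAnn.isQCoh_of_isFinLocFree hB
  obtain ⟨U, n, e, hy, he⟩ := exists_frame hB y
  refine ⟨U, hy, fun V hVU hV => ?_⟩
  have : IsFinite f := hf.1
  have hV' : IsAffineOpen (f ⁻¹ᵁ V) := hV.preimage f
  letI : Algebra Γ(Y, V) Γ(X, f ⁻¹ᵁ V) := (f.appLE V (f ⁻¹ᵁ V) le_rfl).hom.toAlgebra
  letI : Module Γ(Y, V) Γ(pb f M, f ⁻¹ᵁ V) := Module.compHom _ (f.appLE V (f ⁻¹ᵁ V) le_rfl).hom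
  haveI : IsScalarTower Γ(Y, V) Γ(X, f ⁻¹ᵁ V) Γ(pb f M, f ⁻¹ᵁ V) :=
    IsScalarTower.of_algebraMap_smul fun _ _ => rfl
  let ψ' : Γ(M, V) →ₗ[Γ(Y, V)] Γ(pb f M, f ⁻¹ᵁ V) :=
    { toFun := KFlatLib.puSecLE f M le_rfl
      map_add' := fun a b => map_add (KFlatLib.puSecLE f M le_rfl) a b
      map_smul' := fun r m => KFlatLib.puSecLE_smul f M le_rfl r m }
  have hb := KFlatLib.isBaseChange_puSec f M hV hV' le_rfl (fun _ => rfl) ψ' (fun _ => rfl)
  let α : Γ(pf f (Coh.structureModule X), V) ≃ₗ[Γ(Y, V)] Γ(X, f ⁻¹ᵁ V) :=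
    { toFun := fun s => s
      invFun := fun s => s
      map_add' := fun _ _ => rfl
      map_smul' := fun r s => by
        rw [RingHom.id_apply, Algebra.smul_def, RingHom.algebraMap_toAlgebra, ← Scheme.Hom.app_eq_appLE]
        rfl
      left_inv := fun _ => rfl
      right_inv := fun _ => rfl }
  let b : Module.Basis (Fin n) Γ(Y, V) Γ(X, f ⁻¹ᵁ V) := (Module.Basis.ofEquivFun
    (LinearEquiv.ofBijective _ (PerfHomLib.bijective_linearCombination_of_isFrame hV (he.res hVU))).symm).map α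
  have hbi : ∀ i, b i = (show Γ(X, f ⁻¹ᵁ V) from res (pf f (Coh.structureModule X)) hVU (e i)) := fun i => by
    classical
    rw [Module.Basis.map_apply, Module.Basis.coe_ofEquivFun, LinearEquiv.symm_symm]
    refine congrArg α ((Fintype.linearCombination_apply_single _ _ _ _).trans (one_smul _ _))
  let E : (Fin n → Γ(M, V)) ≃ Γ(pb f M, f ⁻¹ᵁ V) :=
    (Finsupp.linearEquivFunOnFinite Γ(Y, V) Γ(M, V) (Fin n)).symm.toEquiv.trans
      ((TensorProduct.equivFinsuppOfBasisLeft b).symm.toEquiv.trans hb.equiv.toEquiv)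
  refine (Function.Bijective.of_comp_iff (P.app V) (phi_bijective he hVU (M := M))).mp ?_
  refine (congrArg Function.Bijective (funext fun m => ?_)).mpr E.bijective
  refine (map_sum (P.app V).hom _ _).trans ?_
  change _ = hb.equiv ((TensorProduct.equivFinsuppOfBasisLeft b).symm
    ((Finsupp.linearEquivFunOnFinite Γ(Y, V) Γ(M, V) (Fin n)).symm m))
  rw [TensorProduct.equivFinsuppOfBasisLeft_symm_apply, Finsupp.sum_fintype _ _ (fun _ => TensorProduct.tmul_zero _ _),
    map_sum]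
  refine Finset.sum_congr rfl fun i _ => ?_
  rw [IsBaseChange.equiv_tmul, hbi]
  refine (hP V _ (m i)).trans ?_
  refine congrArg (fun t : Γ(pb f M, f ⁻¹ᵁ V) =>
    (show Γ(X, f ⁻¹ᵁ V) from res (pf f (Coh.structureModule X)) hVU (e i)) • t) ?_
  exact (congr($((pb f M).presheaf.map_id _) _)).symm

/-- Contraction `f_* O ⊗ M ⟶ Hom(Hom(f_* O, O), M)`. -/
theorem exists_contract (B M : Y.Modules) :
    ∃ Q : tens B M ⟶ homMod (homMod B (Coh.structureModule Y)) M,
      ∀ (V : Y.Opens) (c : Γ(B, V)) (m : Γ(M, V)) (y : Y) (hy : y ∈ V)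
        (a : stk (homMod B (Coh.structureModule Y)) y),
        hVal (Q.app V (shTm c m)) y hy a =
          ψ Y y (evS (evMod B (Coh.structureModule Y)) y a (ger B y hy c)) • ger M y hy m := by
  let D := homMod B (Coh.structureModule Y)
  let L : ∀ (V : Y.Opens), Γ(B, V) → Γ(M, V) → ∀ y : V, stk D y.1 →ₗ[Y.presheaf.stalk y.1] stk M y.1 :=
    fun V c m y => ((ψ Y y.1).toLinearMap ∘ₗ LinearMap.applyₗ (ger B y.1 y.2 c) ∘ₗ
      evS (evMod B (Coh.structureModule Y)) y.1).smulRight (ger M y.1 y.2 m)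
  have hL : ∀ V c m y a, L V c m y a =
      ψ Y y.1 (evS (evMod B (Coh.structureModule Y)) y.1 a (ger B y.1 y.2 c)) • ger M y.1 y.2 m :=
    fun _ _ _ _ _ => rfl
  have hmem : ∀ V c m, L V c m ∈ homSec D M V := fun V c m T hT h => by
    refine ⟨(show Γ(Y, T) from happ h (res B hT c)) • res M hT m, fun z hz => ?_⟩
    rw [hL, ger_smul, ger_res, CohCmpLib.evS_evMod]
    congr 1
    rw [← ger_res B hT z hz c, ← ger_happ, ψ_ger]
  obtain ⟨Q, hQ⟩ := GrTildeLib.exists_tens_hom (M := B) (N := M) (P := homMod D M)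
    (fun V c m => (show homSec D M V from ⟨L V c m, hmem V c m⟩))
    (fun V c c' m => CohCmpLib.homMod_ext fun y hy => LinearMap.ext fun a => by
      change L V (c + c') m ⟨y, hy⟩ a = L V c m ⟨y, hy⟩ a + L V c' m ⟨y, hy⟩ a
      rw [hL, hL, hL, ger_add, map_add, map_add, add_smul])
    (fun V c m m' => CohCmpLib.homMod_ext fun y hy => LinearMap.ext fun a => by
      change L V c (m + m') ⟨y, hy⟩ a = L V c m ⟨y, hy⟩ a + L V c m' ⟨y, hy⟩ a
      rw [hL, hL, hL, ger_add, smul_add])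
    (fun V r c m => CohCmpLib.homMod_ext fun y hy => LinearMap.ext fun a => by
      rw [CohCmpLib.hVal_smul]
      change L V (r • c) m ⟨y, hy⟩ a = Y.presheaf.germ V y hy r • L V c m ⟨y, hy⟩ a
      rw [hL, hL, ger_smul, map_smul, map_smul, smul_assoc])
    (fun V r c m => CohCmpLib.homMod_ext fun y hy => LinearMap.ext fun a => by
      rw [CohCmpLib.hVal_smul]
      change L V c (r • m) ⟨y, hy⟩ a = Y.presheaf.germ V y hy r • L V c m ⟨y, hy⟩ a
      rw [hL, hL, ger_smul, smul_comm])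
    (fun V W h c m => CohCmpLib.homMod_ext fun y hy => LinearMap.ext fun a => by
      change L W c m ⟨y, h hy⟩ a = L V (res B h c) (res M h m) ⟨y, hy⟩ a
      rw [hL, hL, ger_res, ger_res])
  exact ⟨Q, fun V c m y hy a => (congrArg (fun s => hVal s y hy a) (hQ V c m)).trans (hL V c m ⟨y, hy⟩ a)⟩

/-- Some local functional on `f_* O` takes the value `1` at `1`. -/
theorem exists_functional (f : X ⟶ Y) (hf : Mor2.IsFinLocFree f) [Surjective f] (y : Y) :
    ∃ a : stk (homMod (pf f (Coh.structureModule X)) (Coh.structureModule Y)) y,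
      ψ Y y (evS (evMod (pf f (Coh.structureModule X)) (Coh.structureModule Y)) y a
        (ger (pf f (Coh.structureModule X)) y (U := ⊤) trivial
          (show Γ(pf f (Coh.structureModule X), ⊤) from oneS X (f ⁻¹ᵁ ⊤)))) = 1 := by
  classical
  let B := pf f (Coh.structureModule X)
  have hB := isFinLocFree_pf f hf (isFinLocFree_structureModule X)
  have : Coh.IsQCoh B := FinLFAnn.isQCoh_of_isFinLocFree hB
  obtain ⟨U, n, e₀, hy₀, he₀⟩ := exists_frame hB y
  obtain ⟨W, hW, hy, hWU⟩ := exists_isAffineOpen_mem_and_subset (U := U) hy₀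
  let e : Fin n → Γ(B, W) := fun i => res B hWU (e₀ i)
  have he : IsFrame B e := he₀.res hWU
  let one : Γ(B, W) := oneS X (f ⁻¹ᵁ W)
  obtain ⟨c, hc⟩ := (PerfHomLib.bijective_linearCombination_of_isFrame hW he).2 one
  rw [Fintype.linearCombination_apply] at hc
  obtain ⟨x, rfl⟩ := f.surjective y
  obtain ⟨i, hi⟩ : ∃ i, IsUnit (Y.presheaf.germ W (f x) hy (c i)) := by
    by_contra h
    push_neg at h
    have key := congrArg (fun t : Γ(B, W) =>
      (X.presheaf.germ (f ⁻¹ᵁ W) x hy).hom (show Γ(X, f ⁻¹ᵁ W) from t)) hc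
    have h1 : (1 : X.presheaf.stalk x) ∈ IsLocalRing.maximalIdeal (X.presheaf.stalk x) := by
      rw [← map_one (X.presheaf.germ (f ⁻¹ᵁ W) x hy).hom]
      change (X.presheaf.germ (f ⁻¹ᵁ W) x hy).hom (show Γ(X, f ⁻¹ᵁ W) from one) ∈ _
      rw [← key]
      change (X.presheaf.germ (f ⁻¹ᵁ W) x hy).hom (∑ i, f.app W (c i) * (show Γ(X, f ⁻¹ᵁ W) from e i)) ∈ _
      rw [map_sum]
      refine Ideal.sum_mem _ fun i _ => ?_
      rw [map_mul]
      refine Ideal.mul_mem_right _ _ ?_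
      rw [IsLocalRing.mem_maximalIdeal, mem_nonunits_iff, ← Scheme.Hom.germ_stalkMap_apply f W x hy]
      exact fun hu => h i (isUnit_of_map_unit (f.stalkMap x).hom _ hu)
    exact (IsLocalRing.maximalIdeal.isMaximal _).ne_top ((Ideal.eq_top_iff_one _).mpr h1)
  obtain ⟨h, hh⟩ := exists_hom_of_frame (P := Coh.structureModule Y) he (le_refl W)
    fun j => if j = i then oneS Y W else 0
  refine ⟨(↑hi.unit⁻¹ : Y.presheaf.stalk (f x)) • ger _ (f x) hy h, ?_⟩
  have h1 : ger B (f x) (U := ⊤) trivial (show Γ(B, ⊤) from oneS X (f ⁻¹ᵁ ⊤)) = ger B (f x) hy one := by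
    rw [← ger_res B le_top (f x) hy]
    exact congrArg (ger B (f x) hy) (oneS_res (Z := X) (W := f ⁻¹ᵁ W) le_top)
  change ψ Y (f x) (evS _ (f x) _ (ger B (f x) (U := ⊤) trivial _)) = 1
  rw [h1, map_smul, LinearMap.smul_apply, CohCmpLib.evS_evMod, ← hc, CohCmpLib.ger_sum, map_sum]
  have h2 : ∀ j, hVal h (f x) hy (ger B (f x) hy (c j • e j)) =
      if j = i then Y.presheaf.germ W (f x) hy (c j) • ger _ (f x) hy (oneS Y W) else 0 := fun j => by
    rw [ger_smul, map_smul, hh]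
    split_ifs
    · rfl
    · rw [CohCmpLib.ger_zero, smul_zero]
  rw [Finset.sum_congr rfl fun j _ => h2 j, Finset.sum_ite_eq' Finset.univ i, if_pos (Finset.mem_univ i),
    map_smul, map_smul]
  refine (congrArg (fun t => _ • _ • t) ((ψ_ger (f x) hy (1 : Γ(Y, W))).trans (map_one _))).trans ?_
  rw [smul_eq_mul, smul_eq_mul, mul_one]
  exact hi.val_inv_mul

end

/-- The resolution property descends along a surjective, finite locally free morphism f : X ⟶ Y; if
every finite-type quasi-coherent module on X is a quotient of a vector bundle, the same is true on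
Y. -/
theorem result {X Y : Scheme.{u}} (f : X ⟶ Y) (hf : Mor2.IsFinLocFree f) [Surjective f]
    (hX : PerfAux.HasResolutionProperty X) : PerfAux.HasResolutionProperty Y := by
  intro M hM hFT
  have : Coh.IsQCoh M := hM
  have : IsFinite f := hf.1
  obtain ⟨E, π, hE, hπ⟩ := hX (pb f M) (KFlatLib.isQCoh_pullback f M) (ConsLib.isFT_pullback f M hFT)
  have : Coh.IsQCoh E := FinLFAnn.isQCoh_of_isFinLocFree hE
  have : Coh.IsQCoh (pb f M) := KFlatLib.isQCoh_pullback f M
  let B := pf f (Coh.structureModule X)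
  let D := homMod B (Coh.structureModule Y)
  obtain ⟨P, hP, hPone⟩ := exists_proj f hf M
  obtain ⟨Q, hQ⟩ := exists_contract B M
  let π₁ : pf f E ⟶ pf f (pb f M) := (Scheme.Modules.pushforward f).map π
  have : Epi π₁ := QCohLib.epi_of_surjective_on_affines _ fun V s p hp => by
    obtain ⟨V', hV', hp', hle⟩ := exists_isAffineOpen_mem_and_subset (U := V) hp
    obtain ⟨t, ht⟩ := RichLib.IsFPAffine.appLin_surjective π (hV'.preimage f)
      ((pf f (pb f M)).presheaf.map (homOfLE hle).op s)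
    exact ⟨V', hle, hp', t, ht⟩
  let π₂ : pf f E ⟶ tens B M := π₁ ≫ inv P
  have : Epi π₂ := epi_comp _ _
  let θ : tens D (pf f E) ⟶ M :=
    ((DCoh.tensorBi (X := Y)).obj D).map (π₂ ≫ Q) ≫ evMod D M
  refine ⟨tens D (pf f E), θ, ?_, CohCmpLib.epi_of_stalk_surjective fun y => ?_⟩
  · exact isFinLocFree_tens (CohCmpLib.isFinLocFree_homMod
      (isFinLocFree_pf f hf (isFinLocFree_structureModule X)) (isFinLocFree_structureModule Y))
      (isFinLocFree_pf f hf hE)
  intro mt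
  obtain ⟨V, hy, m, rfl⟩ := exists_ger M y mt
  obtain ⟨a, ha⟩ := exists_functional f hf y
  let one : Γ(B, V) := oneS X (f ⁻¹ᵁ V)
  obtain ⟨s, hs⟩ := (ModuleCat.epi_iff_surjective ((DerSch.stalkFunctor Y y).map π₂)).1 inferInstance
    (ger (tens B M) y hy (shTm one m))
  refine ⟨stalkTensorLin D (pf f E) y (a ⊗ₜ s), ?_⟩
  change evS θ y s a = _
  rw [CohCmpLib.evS_map, Functor.map_comp, ModuleCat.comp_apply, hs, ger_map, CohCmpLib.evS_evMod, hQ]
  have h1 : ger B y (U := ⊤) trivial (show Γ(B, ⊤) from oneS X (f ⁻¹ᵁ ⊤)) = ger B y hy one := by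
    rw [← ger_res B le_top y hy]
    exact congrArg (ger B y hy) (oneS_res (Z := X) (W := f ⁻¹ᵁ V) le_top)
  rw [← h1, ha, one_smul]

end Groth.Agent.S1063
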