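import Groth.Statements.S2122
import Groth.Agent.S1063
import Groth.Agent.TwistLib.Basic
-- import your own Groth.Agent.* helpers here

set_option autoImplicit false
universe u
open CategoryTheory CategoryTheory.Limits AlgebraicGeometry TopologicalSpace Opposite
open scoped TensorProduct
open Mor

namespace Groth.Agent.S2122

open ProjFormLib (ger res ger_res ger_smul ger_add ger_map exists_ger section_ext)
open KFlatLib (tens shTm stalkTensorLin)
open CohCmpLib (stk)
open Groth.Agent.S1063 (ψ ψ_ger)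

variable {X : Scheme.{u}} {L N : X.Modules}

/-- The pairing of stalks. -/
noncomputable def pst (e : tens L N ≅ Coh.structureModule X) (y : X) :
    stk L y ⊗[X.presheaf.stalk y] stk N y →ₗ[X.presheaf.stalk y] X.presheaf.stalk y :=
  (ψ X y).toLinearMap ∘ₗ ((DerSch.stalkFunctor X y).map e.hom).hom ∘ₗ stalkTensorLin L N y

theorem pst_bijective (e : tens L N ≅ Coh.structureModule X) (y : X) : Function.Bijective (pst e y) :=
  (ψ X y).bijective.comp ((ConcreteCategory.bijective_of_isIso ((DerSch.stalkFunctor X y).map e.hom)).comp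
    (KFlatLib.stalkTensorLin_bijective L N y))

theorem pst_ger (e : tens L N ≅ Coh.structureModule X) (y : X) {V : X.Opens} (hy : y ∈ V) (l : Γ(L, V))
    (n : Γ(N, V)) :
    pst e y (ger L y hy l ⊗ₜ ger N y hy n) =
      X.presheaf.germ V y hy (show Γ(X, V) from e.hom.app V (shTm l n)) := by
  refine Eq.trans ?_ (ψ_ger y hy (show Γ(X, V) from e.hom.app V (shTm l n)))
  exact congrArg (ψ X y) ((congrArg ((DerSch.stalkFunctor X y).map e.hom).hom
    (KFlatLib.stalkTensorLin_germ L N y hy l n)).trans (ger_map e.hom y hy _))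

theorem eq_smul_of_pst {y : X} (e : tens L N ≅ Coh.structureModule X) (a : stk L y) (b : stk N y)
    (h : pst e y (a ⊗ₜ b) = 1) (l : stk L y) : l = pst e y (l ⊗ₜ b) • a := by
  have h0 : (l - pst e y (l ⊗ₜ b) • a) ⊗ₜ[X.presheaf.stalk y] b = 0 := (pst_bijective e y).1 (by
    rw [TensorProduct.sub_tmul, map_sub, ← TensorProduct.smul_tmul', map_smul, h, map_zero, smul_eq_mul,
      mul_one, sub_self])
  let F : stk L y ⊗[X.presheaf.stalk y] stk N y →ₗ[X.presheaf.stalk y] stk L y :=
    TensorProduct.lift (LinearMap.flip ((LinearMap.lsmul (X.presheaf.stalk y) (stk L y)) ∘ₗ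
      (TensorProduct.curry (pst e y) a)))
  have h1 := congrArg F h0
  rw [map_zero, TensorProduct.lift.tmul] at h1
  change pst e y (a ⊗ₜ b) • (l - pst e y (l ⊗ₜ b) • a) = 0 at h1
  rw [h, one_smul, sub_eq_zero] at h1
  exact h1

theorem exists_gen (e : tens L N ≅ Coh.structureModule X) (x : X) :
    ∃ (W : X.Opens) (a : Γ(L, W)), x ∈ W ∧ AmpleLib.GenOn L a := by
  obtain ⟨t, ht⟩ := (pst_bijective e x).2 1
  have h1 : ∃ (a : stk L x) (b : stk N x), IsUnit (pst e x (a ⊗ₜ b)) := by
    by_contra h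
    push_neg at h
    have hm : ∀ t, pst e x t ∈ IsLocalRing.maximalIdeal (X.presheaf.stalk x) := fun t => by
      induction t with
      | zero => rw [map_zero]; exact zero_mem _
      | tmul a b => exact h a b
      | add a b ha hb => rw [map_add]; exact add_mem ha hb
    exact (IsLocalRing.maximalIdeal.isMaximal _).ne_top ((Ideal.eq_top_iff_one _).mpr (ht ▸ hm t))
  obtain ⟨ax, bx, hu⟩ := h1
  obtain ⟨V₁, hV₁, a, rfl⟩ := exists_ger L x ax
  obtain ⟨V₂, hV₂, b, rfl⟩ := exists_ger N x bx
  let V := V₁ ⊓ V₂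
  have hxV : x ∈ V := ⟨hV₁, hV₂⟩
  rw [← ger_res L (inf_le_left : V ≤ V₁) x hxV a, ← ger_res N (inf_le_right : V ≤ V₂) x hxV b, pst_ger] at hu
  let u : Γ(X, V) := e.hom.app V (shTm (res L (inf_le_left : V ≤ V₁) a) (res N (inf_le_right : V ≤ V₂) b))
  let W := X.basicOpen u
  have hW : W ≤ V := X.basicOpen_le u
  have hxW : x ∈ W := (X.mem_basicOpen u x hxV).2 hu
  obtain ⟨v, hv⟩ : ∃ v : Γ(X, W), X.presheaf.map (homOfLE hW).op u * v = 1 :=
    (RingedSpace.isUnit_res_basicOpen X.toRingedSpace u).exists_right_inv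
  let a' : Γ(L, W) := v • res L hW (res L (inf_le_left : V ≤ V₁) a)
  let b' : Γ(N, W) := res N hW (res N (inf_le_right : V ≤ V₂) b)
  have hab : ∀ (y : X) (hy : y ∈ W), pst e y (ger L y hy a' ⊗ₜ ger N y hy b') = 1 := fun y hy => by
    rw [show a' = v • res L hW (res L (inf_le_left : V ≤ V₁) a) from rfl, show b' = res N hW (res N (inf_le_right : V ≤ V₂) b) from rfl, ger_smul, ← TensorProduct.smul_tmul', map_smul]
    simp only [ger_res]
    rw [← ger_res L (inf_le_left : V ≤ V₁) y
      (hW hy) a, ← ger_res N (inf_le_right : V ≤ V₂) y (hW hy) b, pst_ger, smul_eq_mul,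
      ← TopCat.Presheaf.germ_res_apply X.presheaf (homOfLE hW) y hy, ← map_mul, mul_comm]
    exact (congrArg (X.presheaf.germ W y hy) hv).trans (map_one _)
  refine ⟨W, a', hxW, fun T hT => ⟨fun r r' hr => ?_, fun l => ?_⟩⟩
  · refine TopCat.Presheaf.section_ext X.sheaf T _ _ fun y hy => ?_
    have := congrArg (fun z : Γ(L, T) => pst e y (ger L y hy z ⊗ₜ ger N y (hT hy) b')) hr
    change pst e y (ger L y hy (r • res L hT a') ⊗ₜ _) = pst e y (ger L y hy (r' • res L hT a') ⊗ₜ _) at this
    rw [ger_smul, ger_smul, ger_res, ← TensorProduct.smul_tmul', ← TensorProduct.smul_tmul', map_smul, map_smul,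
      hab, smul_eq_mul, smul_eq_mul, mul_one, mul_one] at this
    exact this
  · refine ⟨(show Γ(X, T) from e.hom.app T (shTm l (res N hT b'))), section_ext _ _ fun y hy => ?_⟩
    refine Eq.trans ?_ (eq_smul_of_pst e _ _ (hab y (hT hy)) (ger L y hy l)).symm
    change ger L y hy ((show Γ(X, T) from e.hom.app T (shTm l (res N hT b'))) • res L hT a') = _
    rw [ger_smul, ger_res, ← pst_ger, ger_res]

/-- On a scheme X, if an O_X-module L admits an O_X-module N with L ⊗ N ≅ O_X, then L is invertible: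
locally on X it is isomorphic to O_X (locally free of rank one). -/
theorem result {X : Scheme.{u}} (L N : X.Modules)
    (e : CohB1.tensorMod L N ≅ Coh.structureModule X) : PicF.IsInvertible L := by
  have h := exists_gen (L := L) (N := N) e
  choose W a hx ha using h
  exact TwistLib.isInvertible_of_genOn W (fun x => ⟨x, hx x⟩) a ha

end Groth.Agent.S2122
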