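import Groth.Statements.S0827
import Groth.Agent.TowerCohLib.Main
import Groth.Agent.FormalLimVanishLib.Main
import Groth.Agent.KFlatLib.QCohTensor

set_option autoImplicit false
universe u
open Formal2

namespace Groth.Agent.S0827

open Formal2 (towerDiff limOne limZero) in
/-- Transport of a Milnor sequence along compatible isomorphisms. -/
theorem exists_transfer {A A' H H' : ℕ → Type u} [∀ n, AddCommGroup (A n)] [∀ n, AddCommGroup (A' n)]
    [∀ n, AddCommGroup (H n)] [∀ n, AddCommGroup (H' n)]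
    (tA : ∀ n, A (n + 1) →+ A n) (tA' : ∀ n, A' (n + 1) →+ A' n)
    (tH : ∀ n, H (n + 1) →+ H n) (tH' : ∀ n, H' (n + 1) →+ H' n)
    (eA : ∀ n, A n ≃+ A' n) (hA : ∀ n a, eA n (tA n a) = tA' n (eA (n + 1) a))
    (eH : ∀ n, H n ≃+ H' n) (hH : ∀ n a, eH n (tH n a) = tH' n (eH (n + 1) a))
    {L L' : Type u} [AddCommGroup L] [AddCommGroup L'] (eL : L ≃+ L')
    (p : ∀ n, L →+ H n) (pH' : L' →+ limZero H' tH')
    (hp : ∀ n x, (pH' (eL x) : ∀ n, H' n) n = eH n (p n x))
    (h : ∃ α : limOne A' tA' →+ L', Function.Injective α ∧ Function.Surjective pH' ∧ α.range = pH'.ker) :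
    ∃ (α : limOne A tA →+ L) (β : L →+ limZero H tH),
      Function.Injective α ∧ Function.Surjective β ∧ α.range = β.ker ∧ ∀ x n, (β x : ∀ n, H n) n = p n x := by
  obtain ⟨α', hi, hs, hr⟩ := h
  have hpc : ∀ n x, tH n (p (n + 1) x) = p n x := fun n x => (eH n).injective (by
    rw [hH, ← hp, ← hp]
    exact (sub_eq_zero.mp (congr_fun (pH' (eL x)).2 n)).symm)
  let β := TowerCohLib.liftZero p hpc
  let DP : (∀ n, A n) →+ (∀ n, A' n) :=
    AddMonoidHom.mk' (fun z n => eA n (z n)) fun a b => funext fun n => map_add (eA n) (a n) (b n)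
  let L1 : limOne A tA →+ limOne A' tA' := QuotientAddGroup.map _ _ DP (by
    rintro _ ⟨z, rfl⟩
    exact ⟨fun n => eA n (z n), (TowerCohLib.towerDiff_map (fun n => (eA n).toAddMonoidHom) hA z).symm⟩)
  have hL1 : Function.Bijective L1 := by
    constructor
    · refine (injective_iff_map_eq_zero _).mpr fun a ha => ?_
      induction a using QuotientAddGroup.induction_on with | H y => ?_
      obtain ⟨c, hc⟩ := (QuotientAddGroup.eq_zero_iff _).mp ha
      refine (QuotientAddGroup.eq_zero_iff _).mpr ⟨fun n => (eA n).symm (c n), funext fun n => (eA n).injective ?_⟩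
      refine (congr_fun (TowerCohLib.towerDiff_map (fun n => (eA n).toAddMonoidHom) hA fun n => (eA n).symm (c n)) n).trans ?_
      refine Eq.trans ?_ (congr_fun hc n)
      exact congrArg (fun z => towerDiff A' tA' z n) (funext fun k => (eA k).apply_symm_apply (c k))
    · intro a
      induction a using QuotientAddGroup.induction_on with | H y => ?_
      exact ⟨QuotientAddGroup.mk fun n => (eA n).symm (y n),
        congrArg QuotientAddGroup.mk (funext fun n => (eA n).apply_symm_apply (y n))⟩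
  refine ⟨(eL.symm.toAddMonoidHom.comp α').comp L1, β, eL.symm.injective.comp (hi.comp hL1.1), ?_,
    le_antisymm ?_ ?_, fun x n => rfl⟩
  · rintro ⟨z, hz⟩
    obtain ⟨w, hw⟩ := hs ⟨fun n => eH n (z n), funext fun n => by
      show eH n (z n) - tH' n (eH (n + 1) (z (n + 1))) = 0
      rw [← hH, ← map_sub]
      exact (congrArg (eH n) (congr_fun hz n)).trans (map_zero _)⟩
    refine ⟨eL.symm w, Subtype.ext (funext fun n => (eH n).injective ?_)⟩
    show eH n (p n (eL.symm w)) = eH n (z n)
    rw [← hp, AddEquiv.apply_symm_apply, hw]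
  · rintro _ ⟨a, rfl⟩
    refine (TowerCohLib.mem_ker_liftZero p hpc _).mpr fun n => (eH n).injective ?_
    show eH n (p n (eL.symm (α' (L1 a)))) = eH n 0
    rw [← hp, AddEquiv.apply_symm_apply, map_zero]
    have h1 : α' (L1 a) ∈ pH'.ker := hr ▸ ⟨_, rfl⟩
    exact congr_fun (congrArg Subtype.val h1) n
  · intro x hx
    have h1 : eL x ∈ pH'.ker := Subtype.ext (funext fun n =>
      (hp n x).trans ((congrArg (eH n) ((TowerCohLib.mem_ker_liftZero p hpc x).mp hx n)).trans (map_zero _)))
    rw [← hr] at h1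
    obtain ⟨b, hb⟩ := h1
    obtain ⟨a, rfl⟩ := hL1.2 b
    exact ⟨a, (congrArg eL.symm hb).trans (eL.symm_apply_apply x)⟩

open CategoryTheory CategoryTheory.Limits AlgebraicGeometry Opposite TopologicalSpace in
/-- Part (3), for the ideal sheaf generated by an ideal I of a base ring A. Let X be a scheme over Spec
A and (G_n) an inverse system of quasi-coherent O_X-modules with G_n killed by I^(n+1) and G_n =
G_{n+1}/I^(n+1)G_{n+1}. Then for every p there is a short exact sequence 0 → R^1 lim_n H^p(X, G_n) →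
H^(p+1)(X, lim G_n) → lim_n H^(p+1)(X, G_n) → 0 of abelian groups, the second map being induced by
the projections lim G_n → G_n (the degree-0 statement is not restated). -/
theorem result (A : Type u) [CommRing A] (I : Ideal A) (X : Scheme.{u})
    [X.Over (Spec (CommRingCat.of A))] (G : ℕᵒᵖ ⥤ X.Modules) (hG : Formal2.IsQCohFormal I G) (p : ℕ) :
    ∃ (α : Formal2.limOne (fun n => Coh.HH X (G.obj (op n)) p) (Formal2.HHsysMap G p) →+
        Coh.HH X (limit G) (p + 1))
      (β : Coh.HH X (limit G) (p + 1) →+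
        Formal2.limZero (fun n => Coh.HH X (G.obj (op n)) (p + 1)) (Formal2.HHsysMap G (p + 1))),
      Function.Injective α ∧ Function.Surjective β ∧ α.range = β.ker ∧
      ∀ (x : Coh.HH X (limit G) (p + 1)) (n : ℕ),
        (β x : ∀ n, Coh.HH X (G.obj (op n)) (p + 1)) n =
          Sheaf.H.map ((SheafOfModules.toSheaf _).map (limit.π G (op n))) (p + 1) x := by
  obtain ⟨hq, hk, hiso⟩ := hG
  have hsurj : ∀ (n : ℕ) (V : X.Opens), IsAffineOpen V →
      Function.Surjective ((FormalLimVanishLib.tr G n).app V) := by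
    intro n V hV
    obtain ⟨h, hi⟩ := hiso n
    haveI : Epi (FormalLimVanishLib.tr G n) := by
      have e : cokernel.π _ ≫ cokernel.desc _ _ h = FormalLimVanishLib.tr G n := cokernel.π_desc _ _ _
      rw [← e]
      exact @epi_comp _ _ _ _ _ _ coequalizer.π_epi _ (@IsIso.epi_of_iso _ _ _ _ _ hi)
    haveI := hq n
    haveI := hq (n + 1)
    let S : ShortComplex X.Modules := ShortComplex.mk (kernel.ι (FormalLimVanishLib.tr G n))
      (FormalLimVanishLib.tr G n) (kernel.condition _)
    have hS : S.ShortExact :=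
      { exact := ShortComplex.exact_of_f_is_kernel _ (kernelIsKernel _)
        mono_f := inferInstanceAs (Mono (kernel.ι (FormalLimVanishLib.tr G n)))
        epi_g := inferInstanceAs (Epi (FormalLimVanishLib.tr G n)) }
    haveI : Coh.IsQCoh S.X₁ := QCohLib.isQCoh_kernel (FormalLimVanishLib.tr G n)
    exact QCohLib.app_surjective_of_affine hS hV
  let B : Set (Opens X.toTopCat) := {V | IsAffineOpen (X := X) V}
  have hB : TowerCohLib.Basis B := fun U x hx => Opens.isBasis_iff_nbhd.mp X.isBasis_affineOpens hx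
  let M : ℕᵒᵖ ⥤ QCohLib.AbSh X.toTopCat := G ⋙ QCohLib.toAbF X
  have hM : TowerCohLib.Good B M :=
    { acyc := fun n q V hV => haveI := hq n; QCohLib.subsingleton_HU_affine (G.obj (op n)) q hV
      surj := fun n V hV => hsurj n V hV }
  haveI : PreservesLimit G (QCohLib.toAbF X) := by
    haveI : PreservesLimitsOfShape ℕᵒᵖ (SheafOfModules.forget.{u} X.ringCatSheaf) :=
      SheafOfModules.forgetPreservesLimitsOfShape.{u} ℕᵒᵖ X.ringCatSheaf
    haveI : PreservesLimitsOfShape ℕᵒᵖ (SheafOfModules.forget.{u} X.ringCatSheaf ⋙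
        PresheafOfModules.toPresheaf X.ringCatSheaf.obj) := comp_preservesLimitsOfShape _ _
    haveI : PreservesLimitsOfShape ℕᵒᵖ (SheafOfModules.toSheaf.{u} X.ringCatSheaf ⋙ sheafToPresheaf _ _) := this
    haveI : PreservesLimitsOfShape ℕᵒᵖ (SheafOfModules.toSheaf.{u} X.ringCatSheaf) :=
      preservesLimitsOfShape_of_reflects_of_preserves _ (sheafToPresheaf _ _)
    exact @PreservesLimitsOfShape.preservesLimit _ _ _ _ _ _ (QCohLib.toAbF X) (by assumption) G
  let c := preservesLimitIso (QCohLib.toAbF X) G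
  let eL := (QCohLib.hEquiv ((QCohLib.toAbF X).obj (limit G)) (p + 1)).trans
    (Iso.addCommGroupIsoToAddEquiv
      ((Abelian.extFunctorObj (QCohLib.zsh (⊤ : Opens X.toTopCat)) (p + 1)).mapIso c))
  exact exists_transfer (A := fun n => Coh.HH X (G.obj (op n)) p) (A' := fun n => QCohLib.HU (M.obj (op n)) p ⊤)
    (H := fun n => Coh.HH X (G.obj (op n)) (p + 1)) (H' := fun n => QCohLib.HU (M.obj (op n)) (p + 1) ⊤)
    (Formal2.HHsysMap G p) (TowerCohLib.tw M p ⊤) (Formal2.HHsysMap G (p + 1)) (TowerCohLib.tw M (p + 1) ⊤)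
    (fun n => QCohLib.hEquiv _ p) (fun n a => QCohLib.hEquiv_map _ p a)
    (fun n => QCohLib.hEquiv _ (p + 1)) (fun n a => QCohLib.hEquiv_map _ (p + 1) a)
    eL (fun n => Sheaf.H.map ((SheafOfModules.toSheaf _).map (limit.π G (op n))) (p + 1))
    (TowerCohLib.toLimZero M (p + 1) ⊤) (fun n x => by
      refine Eq.trans ?_ (QCohLib.hEquiv_map _ (p + 1) x).symm
      refine (TowerCohLib.hu_hu c.hom (limit.π M (op n)) (p + 1) ⊤ (QCohLib.hEquiv _ (p + 1) x)).trans ?_
      exact congrArg (fun φ => TowerCohLib.hu φ (p + 1) ⊤ (QCohLib.hEquiv _ (p + 1) x))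
        (preservesLimitIso_hom_π (QCohLib.toAbF X) G (op n)))
    (TowerCohLib.milnor hB hM p ⊤)

end Groth.Agent.S0827
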