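import Groth.Statements.S0455
import Groth.Agent.CechLib.Compare

set_option autoImplicit false
universe u
open CategoryTheory
open CohTop

namespace Groth.Agent.S0455

open TopologicalSpace CategoryTheory.Limits in
/-- If F is a flasque abelian sheaf on X, then for any family of opens the Cech cohomology groups of F
in positive degree are zero. -/
theorem result {X : TopCat.{u}} (F : CohTop.Ab X) [TopCat.Sheaf.IsFlasque F]
    {ι : Type u} (U : ι → Opens X) (p : ℕ) : IsZero (CohTop.cechH F.obj U (p + 1)) := by
  refine CategoryTheory.Limits.IsZero.of_iso ?_ (CategoryTheory.Iso.refl _)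
  have := QCohLib.subsingleton_of_isFlasque (X := X) p F (⨆ i, U i)
  obtain ⟨e⟩ := CechLib.nonempty_homology_equiv U (p + 1) F
    (fun n J q => QCohLib.subsingleton_of_isFlasque q F _)
  have := e.toEquiv.subsingleton
  exact AddCommGrpCat.isZero_of_subsingleton _

end Groth.Agent.S0455
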