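import Groth.Statements.S10428
import Groth.Agent.AlgSpLib.DecentTop

set_option autoImplicit false
universe u
open CategoryTheory CategoryTheory.Limits AlgebraicGeometry Topology TopologicalSpace
open AlgSp

namespace Groth.Agent.S10428

/-- The points of a scheme finite over a field number at most its degree. -/
theorem exists_algebra {X : Scheme.{u}} {K : Type u} [Field K]
    (c : X ⟶ Spec (CommRingCat.of K)) [IsFinite c] :
    ∃ (A : Type u) (_ : CommRing A) (_ : Algebra K A), Module.Finite K A ∧
      Nonempty (X ≃ PrimeSpectrum A) ∧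
      c.finrank (IsLocalRing.closedPoint K) = Module.finrank K A := by
  haveI : IsAffine X := isAffine_of_isAffineHom c
  obtain ⟨φ, hφ⟩ := Spec.map_surjective (X.isoSpec.inv ≫ c)
  letI : Algebra K Γ(X, ⊤) := φ.hom.toAlgebra
  haveI : IsFinite (Spec.map φ) := hφ ▸ inferInstance
  haveI : Module.Finite K Γ(X, ⊤) := (IsFinite.SpecMap_iff φ).1 ‹_›
  haveI : Flat c := inferInstance
  refine ⟨Γ(X, ⊤), inferInstance, inferInstance, inferInstance,
    ⟨(Scheme.homeoOfIso X.isoSpec).toEquiv⟩, ?_⟩
  have h1 := Scheme.Hom.finrank_comp_left_of_isIso X.isoSpec.inv c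
  rw [← h1, ← hφ, show φ = CommRingCat.ofHom (algebraMap K Γ(X, ⊤)) from rfl]
  erw [Scheme.Hom.finrank_SpecMap_algebraMap]
  rw [Module.rankAtStalk_eq_finrank_of_free]
  rfl

theorem finite_of_isFinite {X : Scheme.{u}} {K : Type u} [Field K]
    (c : X ⟶ Spec (CommRingCat.of K)) [IsFinite c] : Finite X := by
  obtain ⟨A, _, _, _, ⟨e⟩, -⟩ := exists_algebra c
  haveI : IsArtinianRing A := isArtinian_of_tower K inferInstance
  exact Finite.of_equiv _ e.symm

theorem card_le {X : Scheme.{u}} {K : Type u} [Field K]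
    (c : X ⟶ Spec (CommRingCat.of K)) [IsFinite c] {n : ℕ} (hn : ∀ s, c.finrank s ≤ n) :
    Nat.card X ≤ n := by
  classical
  obtain ⟨A, _, _, _, ⟨e⟩, hr⟩ := exists_algebra c
  haveI : IsArtinianRing A := isArtinian_of_tower K inferInstance
  refine le_trans ?_ (hr ▸ hn _)
  rw [Nat.card_congr (e.trans IsArtinianRing.primeSpectrumEquivMaximalSpectrum)]
  let I : MaximalSpectrum A → Ideal A := fun m => m.asIdeal
  have hI : Pairwise (Function.onFun IsCoprime I) := fun i j h =>
    Ideal.isCoprime_of_isMaximal fun hh => h (MaximalSpectrum.ext hh)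
  let f : A →ₗ[K] ((m : MaximalSpectrum A) → A ⧸ I m) :=
    LinearMap.pi fun m => (Ideal.Quotient.mkₐ K (I m)).toLinearMap
  have hf : Function.Surjective f := fun v =>
    let ⟨a, ha⟩ := Ideal.pi_mkQ_surjective hI v
    ⟨a, ha⟩
  haveI := Fintype.ofFinite (MaximalSpectrum A)
  calc Nat.card (MaximalSpectrum A) = ∑ _m : MaximalSpectrum A, 1 := by simp [Nat.card_eq_fintype_card]
    _ ≤ ∑ m : MaximalSpectrum A, Module.finrank K (A ⧸ I m) := Finset.sum_le_sum fun m _ => by
        haveI : Nontrivial (A ⧸ I m) := Ideal.Quotient.nontrivial_iff.2 m.isMaximal.ne_top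
        exact Module.finrank_pos
    _ = Module.finrank K ((m : MaximalSpectrum A) → A ⧸ I m) := (Module.finrank_pi_fintype K).symm
    _ ≤ _ := LinearMap.finrank_le_finrank_of_surjective hf


/-- Let X be an algebraic space over a scheme S and φ : U ⟶ X a morphism from a scheme with universally
bounded fibres. Then for some integer n, every fibre of |U| → |X| contains at most n elements. -/
theorem result {S : Scheme.{u}} (X : AlgSp.Space S) {U : Over S}
    (φ : (AlgSp.yon S).obj U ⟶ X.obj) (hφ : W4dec.HasUnivBddFibres φ) :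
    ∃ n : ℕ, ∀ x : AlgSp.Points X.obj, (AlgSp.Points.ofPt φ ⁻¹' {x}).encard ≤ n := by
  obtain ⟨n, hn⟩ := hφ
  refine ⟨n, fun x => ?_⟩
  obtain ⟨p, rfl⟩ := Quot.exists_rep x
  obtain ⟨W, fU, fK, sq⟩ := AlgSpLib.exists_isPullback_yon φ p.toHom (X.property.representable_from_yon φ)
  obtain ⟨hfin, hle⟩ := hn p W fK _ sq.flip
  haveI := hfin
  have hc := card_le fK.left (fun s => hle s)
  rw [show Quot.mk _ p = AlgSp.Points.mk p from rfl, AlgSpLib.preimage_mk_eq_range sq]
  haveI := finite_of_isFinite fK.left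
  calc (Set.range fU.left).encard ≤ (Set.univ : Set W.left).encard := by
        rw [← Set.image_univ]; exact Set.encard_image_le _ _
    _ ≤ n := by
        rw [Set.encard_univ, ENat.card_eq_coe_natCard]
        exact_mod_cast hc

end Groth.Agent.S10428
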