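import Groth.Statements.S14547
import Groth.Prelude.Def_ActBC
import Groth.Agent.TorsFpqcLib.Basic
import Mathlib
-- import your own Groth.Agent.* helpers here

set_option autoImplicit false
set_option backward.isDefEq.respectTransparency false
set_option linter.all false
universe u
open CategoryTheory MonoidalCategory CartesianMonoidalCategory MonObj GrpObj AlgebraicGeometry
open PrincBund

namespace Groth.Agent.S14547

open Limits

theorem isIso_of_bc {X X' : Scheme.{u}} (f : X' ⟶ X) [Flat f] [Surjective f] [QuasiCompact f]
    {Y Z : Over X} (g : Y ⟶ Z) (h : IsIso ((Over.pullback f).map g)) : IsIso g := by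
  let gp := (Over.pullback f).map g
  have h1 : gp.left ≫ pullback.fst Z.hom f = pullback.fst Y.hom f ≫ g.left := pullback.lift_fst _ _ _
  have h2 : gp.left ≫ pullback.snd Z.hom f = pullback.snd Y.hom f := pullback.lift_snd _ _ _
  have sq : IsPullback gp.left (pullback.fst Y.hom f) (pullback.fst Z.hom f) g.left := by
    refine (IsPullback.of_bot ?_ h1.symm (IsPullback.of_hasPullback Z.hom f)).flip
    rw [h2, Over.w g]
    exact IsPullback.of_hasPullback Y.hom f
  haveI : IsIso gp.left := (Over.forget X').map_isIso gp
  haveI : Flat (pullback.fst Z.hom f) :=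
    MorphismProperty.of_isPullback (IsPullback.of_hasPullback Z.hom f).flip inferInstance
  haveI : Surjective (pullback.fst Z.hom f) :=
    MorphismProperty.of_isPullback (P := @Surjective) (IsPullback.of_hasPullback Z.hom f).flip inferInstance
  haveI : QuasiCompact (pullback.fst Z.hom f) :=
    MorphismProperty.of_isPullback (P := @QuasiCompact) (IsPullback.of_hasPullback Z.hom f).flip inferInstance
  haveI : IsIso (pullback.fst (pullback.fst Z.hom f) g.left) := by
    rw [← sq.isoPullback_inv_fst]
    infer_instance
  haveI : IsIso g.left :=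
    MorphismProperty.of_pullback_fst_of_descendsAlong (P := MorphismProperty.isomorphisms Scheme)
      (Q := @Surjective ⊓ @Flat ⊓ @QuasiCompact) (f := pullback.fst Z.hom f) (g := g.left)
      ⟨⟨inferInstance, inferInstance⟩, inferInstance⟩ ‹IsIso (pullback.fst (pullback.fst Z.hom f) g.left)›
  haveI : IsIso ((Over.forget X).map g) := ‹IsIso g.left›
  exact isIso_of_reflects_iso g (Over.forget X)


/-- Let f : X' → X be a faithfully flat quasi-compact morphism of schemes, J a group scheme affine over
X with an action a on an X-scheme P, and a' the induced action of the base change J' = J ×_X X' on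
P' = P ×_X X'. Then P with a is a J-torsor for the fpqc topology if and only if P' with a' is a
J'-torsor for the fpqc topology. (The published statement allows any morphism X' → X that is
covering for the fpqc topology, and an action of a pregroupoid; this row is the case of a faithfully
flat quasi-compact X' → X and the trivial pregroupoid.) -/
theorem result {X X' : Scheme.{u}} (f : X' ⟶ X)
    [Flat f] [Surjective f] [QuasiCompact f]
    {J P : Over X} [GrpObj J] [IsAffineHom J.hom] (a : AlgGrp.Action J P)
    (a' : AlgGrp.Action (Red.bc f J) (Red.bc f P))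
    (ha' : Functor.LaxMonoidal.μ (Over.pullback f) J P ≫ (Over.pullback f).map a.act = a'.act) :
    NonAbH1.IsTorsorFor Scheme.fpqcPrecoverage a ↔ NonAbH1.IsTorsorFor Scheme.fpqcPrecoverage a' := by
  have hbc : a' = a.bc f := AlgGrp.Action.ext' (ha'.symm.trans (AlgGrp.Action.bc_act f a).symm)
  subst hbc
  refine ⟨NonAbH1.isTorsorFor_bc f Scheme.fpqcPrecoverage, fun h => ⟨?_, ?_⟩⟩
  · refine isIso_of_bc f _ ?_
    have key : lift (a.bc f).act (snd _ _) ≫ Functor.LaxMonoidal.μ (Over.pullback f) P P =
        Functor.LaxMonoidal.μ (Over.pullback f) J P ≫ (Over.pullback f).map (lift a.act (snd J P)) := by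
      rw [← Functor.Monoidal.lift_μ, comp_lift_assoc, Functor.Monoidal.μ_snd, AlgGrp.Action.bc_act]
    haveI : IsIso (lift (a.bc f).act (snd _ _)) := h.1
    haveI : IsIso (Functor.LaxMonoidal.μ (Over.pullback f) J P ≫ (Over.pullback f).map (lift a.act (snd J P))) := by
      rw [← key]; infer_instance
    exact IsIso.of_isIso_comp_left (Functor.LaxMonoidal.μ (Over.pullback f) J P) _
  · obtain ⟨R, hR, hsec⟩ := h.2
    obtain ⟨E, rfl⟩ := Precoverage.mem_iff_exists_zeroHypercover.mp hR
    have hf : Presieve.ofArrows (fun _ : PUnit.{u + 1} => X') (fun _ => f) ∈ Scheme.fpqcPrecoverage X := by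
      rw [Presieve.ofArrows_pUnit]
      exact f.singleton_mem_fpqcPrecoverage
    refine ⟨_, Precoverage.comp_mem_coverings (fun _ : PUnit.{u + 1} => f) hf (fun _ i => E.f i) (fun _ => E.mem₀), ?_⟩
    rintro S' g ⟨⟨_, i⟩⟩
    obtain ⟨s, hs⟩ := hsec (E.f i) (Presieve.ofArrows.mk i)
    refine ⟨s ≫ pullback.fst P.hom f, ?_⟩
    rw [Category.assoc, pullback.condition, ← Category.assoc]
    exact congrArg (· ≫ f) hs

end Groth.Agent.S14547
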