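import Groth.Statements.S8387
import Groth.Agent.TorusLiftLib.Lift
import Groth.Agent.TorusLiftLib.Glue
import Groth.Agent.TorusLiftLib.Props
import Groth.Agent.S5261

set_option autoImplicit false
universe u
open CategoryTheory MonoidalCategory CartesianMonoidalCategory MonObj GrpObj AlgebraicGeometry
open SGA3x

namespace Groth.Agent.S8387

/-- Over an affine base: let A be a ring, J a finitely generated ideal of A all of whose elements are
nilpotent, S = Spec A, S₀ = Spec(A/J), G an S-group scheme flat and of finite presentation over S,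
and T₀ a central subtorus of G₀ = G ×_S S₀. Then there is a subtorus T of G with T ×_S S₀ = T₀ as
subgroups of G₀; it is unique (any two such are isomorphic over G); and T is central in G. -/
theorem result (A : Type u) [CommRing A] (J : Ideal A) (hJfg : J.FG)
    (hJ : ∀ x ∈ J, IsNilpotent x) (G : Over (Spec (CommRingCat.of A))) [GrpObj G] [Flat G.hom] [QuasiCompact G.hom]
    [QuasiSeparated G.hom] [LocallyOfFinitePresentation G.hom]
    (T₀ : Over (Spec (CommRingCat.of (A ⧸ J)))) [GrpObj T₀] (j₀ : T₀ ⟶ Red.bc (Spec.map (CommRingCat.ofHom (Ideal.Quotient.mk J))) G) [IsMonHom j₀] [Mono j₀]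
    (ht₀ : Red.IsTorus T₀) (hc₀ : (∀ (X : Over _) (x : X ⟶ _) (g : X ⟶ Red.bc (Spec.map (CommRingCat.ofHom (Ideal.Quotient.mk J))) G), (x ≫ j₀) * g = g * (x ≫ j₀))) :
    (∃ (T : Over (Spec (CommRingCat.of A))) (_ : GrpObj T) (j : T ⟶ G), IsMonHom j ∧ Mono j ∧ Red.IsTorus T ∧
      (∃ e : Red.bc (Spec.map (CommRingCat.ofHom (Ideal.Quotient.mk J))) T ≅ T₀, e.hom ≫ j₀ = (Over.pullback (Spec.map (CommRingCat.ofHom (Ideal.Quotient.mk J)))).map j) ∧
      (∀ (X : Over _) (x : X ⟶ _) (g : X ⟶ G), (x ≫ j) * g = g * (x ≫ j)) ∧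
      ∀ (T' : Over (Spec (CommRingCat.of A))) [GrpObj T'] (j' : T' ⟶ G) [IsMonHom j'] [Mono j'], Red.IsTorus T' →
        (∃ e' : Red.bc (Spec.map (CommRingCat.ofHom (Ideal.Quotient.mk J))) T' ≅ T₀, e'.hom ≫ j₀ = (Over.pullback (Spec.map (CommRingCat.ofHom (Ideal.Quotient.mk J)))).map j') →
        ∃ φ : T' ≅ T, φ.hom ≫ j = j') := by
  classical
  obtain ⟨n₀, hn₀⟩ : IsNilpotent J := (Ideal.FG.isNilpotent_iff_le_nilradical hJfg).2 hJ
  have hn : J ^ (n₀ + 1) = ⊥ := by rw [pow_succ, hn₀]; exact zero_mul J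
  obtain ⟨T, iT, hT, φ, hφ⟩ := TorusLift.exists_torus_lift ⟨n₀, hn₀⟩ T₀ ht₀
  haveI := hφ
  have hcj : MultLift.Central (φ.hom ≫ j₀) := fun X g x => by
    rw [← Category.assoc]; exact (hc₀ X (x ≫ φ.hom) g).symm
  obtain ⟨j, ⟨hj, hjr⟩, -⟩ := TorusLift.existsUnique_hom J (φ.hom ≫ j₀) hcj n₀.succ_ne_zero hn hT
  haveI := hj
  have hmono : Mono j := TorusLift.mono_of_reduction hJ hT j (by rw [hjr]; infer_instance)
  refine ⟨T, iT, j, hj, hmono, hT, ⟨φ, hjr.symm⟩, ?_, fun T' _ j' _ _ hT' ⟨e', he'⟩ => ?_⟩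
  · exact TorusLift.central_of_reduction ⟨n₀, hn₀⟩ hT j (by rw [hjr]; exact hcj)
  haveI : IsMonHom e'.hom := by
    haveI : IsMonHom (e'.hom ≫ j₀) := by
      rw [he']
      exact DiagRep.isMonHom_bc_map _ j'
    exact DiagRep.isMonHom_of_comp_mono e'.hom j₀
  haveI : IsMonHom (e' ≪≫ φ.symm).hom := inferInstanceAs (IsMonHom (e'.hom ≫ φ.inv))
  obtain ⟨ψ, hψm, hψ⟩ := TorusLift.exists_iso_lift n₀.succ_ne_zero hn hT' hT (e' ≪≫ φ.symm)
  haveI := hψm
  refine ⟨ψ, ?_⟩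
  have hcj' : MultLift.Central ((Over.pullback (Spec.map (CommRingCat.ofHom (Ideal.Quotient.mk J)))).map j') := fun X g x => by
    rw [← he', ← Category.assoc]; exact (hc₀ X (x ≫ e'.hom) g).symm
  haveI : IsMonHom (M := Red.bc (Spec.map (CommRingCat.ofHom (Ideal.Quotient.mk J))) T')
      (N := Red.bc (Spec.map (CommRingCat.ofHom (Ideal.Quotient.mk J))) G)
      ((Over.pullback (Spec.map (CommRingCat.ofHom (Ideal.Quotient.mk J)))).map j') := DiagRep.isMonHom_bc_map _ j'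
  refine (TorusLift.existsUnique_hom J _ hcj' n₀.succ_ne_zero hn hT').unique ⟨inferInstance, ?_⟩ ⟨inferInstance, rfl⟩
  rw [Functor.map_comp, hψ, hjr, ← he']
  simp

end Groth.Agent.S8387
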