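import Groth.Statements.S5275
import Groth.Agent.MultHomLib.Global

set_option autoImplicit false
open CategoryTheory MonoidalCategory CartesianMonoidalCategory MonObj GrpObj AlgebraicGeometry
universe u
open SGA3x

namespace Groth.Agent.S5275

/-- Let u : G ⟶ H be a homomorphism of S-groups of multiplicative type and of finite type. Then the set
U of points s ∈ S such that u_s : G_s ⟶ H_s is an isomorphism is open and closed in S, and the
homomorphism G|_U ⟶ H|_U induced above U is an isomorphism. -/
theorem result {S : Scheme.{u}} (G H : Over S) [GrpObj G] [GrpObj H]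
    (hG : SGA3x.IsMultTypeFT G) (hH : SGA3x.IsMultTypeFT H) (u : G ⟶ H) [IsMonHom u] :
    ∃ U : S.Opens, IsClosed (U : Set S) ∧
      (∀ s : S, s ∈ U ↔ IsIso ((Over.pullback (S.fromSpecResidueField s)).map u).left) ∧
      IsIso ((Over.pullback U.ι).map u).left := by
  have hG' := Groth.Agent.MultHom.locDiag_of_isMultTypeFT hG
  obtain ⟨U₁, hc₁, hiff₁, hm⟩ := Groth.Agent.MultHom.exists_locus u Groth.Agent.MultHom.descends_mono
    Groth.Agent.MultHom.decided_mono hG' hH
  obtain ⟨U₂, hc₂, hiff₂, hf⟩ := Groth.Agent.MultHom.exists_locus u Groth.Agent.MultHom.descends_fs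
    Groth.Agent.MultHom.decided_fs hG' hH
  haveI := Groth.Agent.MultEq.isAffineHom_of_isMultTypeFT hG
  haveI := Groth.Agent.MultEq.isAffineHom_of_isMultTypeFT hH
  refine ⟨U₁ ⊓ U₂, hc₁.inter hc₂, fun s => ?_, ?_⟩
  · constructor
    · rintro ⟨h₁, h₂⟩
      haveI : Mono ((Over.pullback (S.fromSpecResidueField s)).map u).left := (hiff₁ s).1 h₁
      haveI := Groth.Agent.MultHom.quasiCompact_map u (S.fromSpecResidueField s)
      exact Groth.Agent.MultHom.isIso_of_mono_fs _ ((hiff₂ s).1 h₂)
    · intro h
      haveI := h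
      refine ⟨(hiff₁ s).2 ?_, (hiff₂ s).2 ⟨?_, ?_⟩⟩
      · show Mono ((Over.pullback (S.fromSpecResidueField s)).map u).left
        infer_instance
      · show Flat ((Over.pullback (S.fromSpecResidueField s)).map u).left
        infer_instance
      · show Surjective ((Over.pullback (S.fromSpecResidueField s)).map u).left
        infer_instance
  · have res : ∀ (P : MorphismProperty Scheme.{u}) [P.IsStableUnderBaseChange] (V : S.Opens) (hle : U₁ ⊓ U₂ ≤ V),
        P ((Over.pullback V.ι).map u).left → P ((Over.pullback (U₁ ⊓ U₂).ι).map u).left := by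
      intro P _ V hle h
      rw [← Scheme.homOfLE_ι S hle]
      exact (P.arrow_mk_iso_iff (Arrow.isoMk ((Over.forget _).mapIso ((Over.pullbackComp (S.homOfLE hle) V.ι).app G))
        ((Over.forget _).mapIso ((Over.pullbackComp (S.homOfLE hle) V.ι).app H))
        (congrArg CommaMorphism.left ((Over.pullbackComp (S.homOfLE hle) V.ι).hom.naturality u)).symm)).2
          (MorphismProperty.overPullbackMap _ _ h)
    haveI : Mono ((Over.pullback (U₁ ⊓ U₂).ι).map u).left :=
      res (MorphismProperty.monomorphisms _) U₁ inf_le_left hm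
    haveI := Groth.Agent.MultHom.quasiCompact_map u (U₁ ⊓ U₂).ι
    exact Groth.Agent.MultHom.isIso_of_mono_fs _ (res Groth.Agent.MultHom.FS U₂ inf_le_right hf)

end Groth.Agent.S5275
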