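import Groth.Statements.S6059
import Groth.Agent.MonoLocusLib.Global
import Groth.Agent.S5261
import Groth.Agent.DescHomLib.MultBC
-- import your own Groth.Agent.* helpers here

set_option autoImplicit false
open CategoryTheory MonoidalCategory CartesianMonoidalCategory MonObj GrpObj AlgebraicGeometry
universe u
open SGA3x

namespace Groth.Agent.S6059

/-- Let u : H ⟶ G be a homomorphism of S-groups, with H of multiplicative type and of finite type and G
separated over S, and suppose S locally Noetherian or G locally of finite presentation over S. If s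
∈ S is a point such that u_s : H_s ⟶ G_s is a monomorphism, then there is an open neighbourhood U of
s such that the homomorphism H|_U ⟶ G|_U induced above U is a monomorphism. -/
theorem result {S : Scheme.{u}} (H G : Over S) [GrpObj H] [GrpObj G]
    (hH : SGA3x.IsMultTypeFT H) [IsSeparated G.hom] (hG : IsLocallyNoetherian S ∨ LocallyOfFinitePresentation G.hom)
    (u : H ⟶ G) [IsMonHom u] (s : S)
    (hs : Mono ((Over.pullback (S.fromSpecResidueField s)).map u).left) :
    ∃ U : S.Opens, s ∈ U ∧ Mono ((Over.pullback U.ι).map u).left := by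
  let U : S.Opens := ⟨_, MonoLocus.isOpen_locus u hH⟩
  refine ⟨U, (MonoLocus.mono_map_iff u _).1 hs, ?_⟩
  haveI := DiagRep.isMonHom_bc_map U.ι u
  haveI : IsSeparated (Red.bc U.ι G).hom := inferInstanceAs (IsSeparated (Limits.pullback.snd G.hom U.ι))
  refine S5261.result (Red.bc U.ι H) (Red.bc U.ι G) (DescHom.isMultTypeFT_bc hH U.ι) ?_
    ((Over.pullback U.ι).map u) fun t => ?_
  · rcases hG with h | h
    · haveI := h
      exact Or.inl (LocallyOfFiniteType.isLocallyNoetherian U.ι)
    · haveI := h
      exact Or.inr (inferInstanceAs (LocallyOfFinitePresentation (Limits.pullback.snd G.hom U.ι)))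
  · let κ := (U : Scheme.{u}).fromSpecResidueField t
    haveI hm : Mono ((Over.pullback (κ ≫ U.ι)).map u).left := by
      refine (MonoLocus.mono_map_iff u _).2 ?_
      refine (TrivLocus.triv_field_iff (u := MonoLocus.kin u) _).2 ?_
      have hpt : (κ ≫ U.ι) (IsLocalRing.closedPoint ((U : Scheme.{u}).residueField t)) = U.ι t := by
        rw [Scheme.Hom.comp_apply, Scheme.fromSpecResidueField_apply]
      exact hpt.symm ▸ t.2
    have hnat := (Over.pullbackComp κ U.ι).hom.naturality u
    have h2 : ((Over.pullback κ).map ((Over.pullback U.ι).map u)) =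
        (Over.pullbackComp κ U.ι).inv.app H ≫ (Over.pullback (κ ≫ U.ι)).map u ≫ (Over.pullbackComp κ U.ι).hom.app G := by
      rw [hnat, ← Category.assoc, Iso.inv_hom_id_app, Category.id_comp]
      rfl
    haveI : Mono ((Over.pullback (κ ≫ U.ι)).map u) := Over.mono_of_mono_left _
    haveI hh : Mono ((Over.pullback κ).map ((Over.pullback U.ι).map u)) := by
      rw [h2]
      infer_instance
    exact inferInstanceAs (Mono ((Over.forget _).map ((Over.pullback κ).map ((Over.pullback U.ι).map u))))

end Groth.Agent.S6059
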