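import Groth.Statements.S5423
import Groth.Agent.S7975
import Groth.Agent.S7987
import Groth.Agent.UnipHopfLib.Points
import Groth.Agent.ComodLib.Coeff
-- import your own Groth.Agent.* helpers here

set_option autoImplicit false
universe u
open TensorProduct
open SGA3t2b

open scoped ComodLib TensorProduct

namespace Groth.Agent.S5423

/-- Let k be an algebraically closed field and A a reduced finitely generated commutative Hopf algebra
over k (a smooth affine algebraic k-group G). Then G is unipotent (every non-zero finite-dimensional
representation has a non-zero fixed vector) if and only if every element of G(k) is unipotent, i.e.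
every k-point g : A → k acts on every finite-dimensional comodule V by an endomorphism g_V with g_V
− 1 nilpotent. -/
theorem result (k : Type u) [Field k] [IsAlgClosed k] (A : Type u) [CommRing A] [HopfAlgebra k A] [Algebra.FiniteType k A]
    [IsReduced A] :
    HopfRep.IsUnipotent k A ↔
      ∀ (g : A →ₐ[k] k) (V : Type u) [AddCommGroup V] [Module k V] [HopfRep.Comod k A V],
        Module.Finite k V → IsNilpotent (HopfRep.Comod.act k A V g - LinearMap.id) := by
  classical
  constructor
  · intro hU g V _ _ _ hV
    haveI := hV
    exact Groth.Agent.S7987.result k A hU g V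
  · intro h V _ _ _ hV hnt
    haveI := hV
    haveI := hnt
    let ι : WithConv (A →ₐ[k] k) → ComodLib.Dual' k A := fun g => WithConv.toConv g.ofConv.toLinearMap
    have hι : ∀ g g', ι (g * g') = ι g * ι g' := fun g g' => by
      refine WithConv.ext (LinearMap.ext fun a => ?_)
      show (g * g') a = (ι g * ι g') a
      rw [AlgHom.convMul_apply, LinearMap.convMul_apply]
      generalize CoalgebraStruct.comul (R := k) a = z
      induction z using TensorProduct.induction_on with
      | zero => simp
      | add x y hx hy => simp only [map_add, hx, hy]
      | tmul x y => simp [ι]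
    have hι1 : ι 1 = 1 := by
      refine WithConv.ext (LinearMap.ext fun a => ?_)
      show (1 : WithConv (A →ₐ[k] k)) a = (1 : ComodLib.Dual' k A) a
      rw [AlgHom.convOne_apply, LinearMap.convOne_apply]
    let ρ : Representation k (WithConv (A →ₐ[k] k)) V :=
      { toFun := fun g => ComodLib.actAlgHom k A V (ι g)
        map_one' := by rw [hι1, map_one]
        map_mul' := fun g g' => by rw [hι, map_mul] }
    obtain ⟨v, hv0, hv⟩ := Groth.Agent.S7975.result k (WithConv (A →ₐ[k] k)) V ρ
      fun g => h g.ofConv V hV
    refine (Submodule.ne_bot_iff _).2 ⟨v, ?_, hv0⟩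
    show HopfRep.Comod.coact (k := k) (A := A) v = v ⊗ₜ[k] (1 : A)
    refine ComodLib.ext_sliceL fun φ => ?_
    rw [ComodLib.sliceL_tmul, ← sub_eq_zero]
    refine isNilpotent_iff_eq_zero.1 (Groth.Agent.UnipHopf.isNilpotent_of_forall_point (L := k) fun g => ?_)
    rw [map_sub, map_smul, map_one, smul_eq_mul, mul_one, sub_eq_zero]
    have := congrArg φ (hv (WithConv.toConv g))
    rw [show ρ (WithConv.toConv g) v = ComodLib.slice g.toLinearMap (HopfRep.Comod.coact (k := k) (A := A) v) from rfl,
      ComodLib.apply_slice] at this
    exact this

end Groth.Agent.S5423
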