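import Groth.Statements.S5510
import Groth.Agent.S8402
import Groth.Agent.S3917
import Groth.Agent.BorelLib.RedClosed
import Groth.Agent.TransporterLib.ClosedImm
import Groth.Agent.TransporterLib.Main

set_option autoImplicit false
set_option maxHeartbeats 2000000
set_option backward.isDefEq.respectTransparency false
open CategoryTheory MonoidalCategory CartesianMonoidalCategory MonObj GrpObj AlgebraicGeometry
universe u
open RedSub

attribute [-instance] CategoryTheory.Hom.commGroup

namespace Groth.Agent.S5510

/-- Let G be a reductive S-group. Then the centre of G is representable by a closed subgroup scheme Z of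
G which is of multiplicative type (here: of multiplicative type and of finite type, i.e.
fpqc-locally on the base Zariski-locally isomorphic to some D(M) with M finitely generated, which is
what the split case gives). -/
theorem result {S : Scheme.{u}} (G : Over S) [GrpObj G] (hG : Red.IsReductive G) :
    ∃ (Z : Over S) (_ : GrpObj Z) (j : Z ⟶ G), Red.IsCentre j ∧ IsClosedImmersion j.left ∧ SGA3x.IsMultTypeFT Z := by
  obtain ⟨ha, hs, hf⟩ := id hG
  haveI := ha; haveI := hs
  have hconn : ∀ s : S, _root_.IsConnected (G.hom.base ⁻¹' {s}) := by
    intro s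
    rw [RCentre.conn_fibre_iff]
    haveI : ConnectedSpace ↥(Red.geomFibre s G).left := (hf s).2.2.1
    let a := Spec.map (CommRingCat.ofHom (algebraMap (S.residueField s) (AlgebraicClosure (S.residueField s))))
    haveI : Subsingleton ↥(Spec (S.residueField s)) := inferInstanceAs (Subsingleton (PrimeSpectrum (S.residueField s)))
    haveI : Surjective a := ⟨fun z => ⟨IsLocalRing.closedPoint _, Subsingleton.elim _ _⟩⟩
    let m := (Limits.pullbackLeftPullbackSndIso G.hom (S.fromSpecResidueField s) a).inv ≫ Limits.pullback.fst _ a
    haveI : Surjective m := inferInstanceAs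
      (Surjective ((Limits.pullbackLeftPullbackSndIso G.hom (S.fromSpecResidueField s) a).inv ≫ Limits.pullback.fst _ a))
    haveI : ConnectedSpace ↥(Limits.pullback G.hom (a ≫ S.fromSpecResidueField s)) := ‹ConnectedSpace ↥(Red.geomFibre s G).left›
    exact (Scheme.Hom.surjective m).connectedSpace m.continuous
  have h0 : SGA3x.UnipotentRankZero G := fun s T _ i h => by
    haveI := h.1; haveI := h.2.1
    exact (S3917.result _ (Red.geomFibre s G) (BorelLib.isReductive_of_isReductiveOver (hf s)) T i h.2.2.1).1 h
  obtain ⟨Z, gZ, z, hc, ⟨hzm, hzmono, hmt, -, -⟩⟩ := S8402.result S G hconn h0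
  letI := gZ
  haveI := hzm; haveI := hzmono
  exact ⟨Z, gZ, z, hc, Transporter.isClosedImmersion_of_mono (Transporter.locally_of_isMultTypeFT hmt) ha z, hmt⟩

end Groth.Agent.S5510
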