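import Groth.Statements.S3032
import Mathlib
-- import your own Groth.Agent.* helpers here

set_option autoImplicit false
universe u
open CategoryTheory MonoidalCategory CartesianMonoidalCategory MonObj GrpObj AlgebraicGeometry TensorProduct
open SGA3

open scoped TensorProduct
namespace Groth.Agent.S3032

/-- Let R be a Noetherian commutative ring, C an R-coalgebra which is flat as an R-module, V a
C-comodule and M a finitely generated R-submodule of V. Then M is contained in a subcomodule of V
which is finitely generated over R. -/
theorem result (R : Type u) [CommRing R] [IsNoetherianRing R] (C : Type u) [AddCommGroup C]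
    [Module R C] [Coalgebra R C] [Module.Flat R C] (V : Type u) [AddCommGroup V] [Module R V] [HopfRep.Comod R C V]
    (M : Submodule R V) (hM : M.FG) :
    ∃ W : Submodule R V, HopfRep.IsSubcomod (k := R) (A := C) W ∧ M ≤ W ∧ W.FG := by
  classical
  set ρ := HopfRep.Comod.coact (k := R) (A := C) (V := V)
  obtain ⟨gens, hgens⟩ := hM
  obtain ⟨N, hN, hNle⟩ := TensorProduct.exists_finite_submodule_left_of_setFinite (ρ '' (gens : Set V))
    (gens.finite_toSet.image ρ)
  haveI : IsNoetherian R N := isNoetherian_of_fg_of_noetherian N (Module.Finite.iff_fg.1 hN)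
  let T : V →ₗ[R] (V ⧸ N) ⊗[R] C := N.mkQ.rTensor C ∘ₗ ρ
  let W := LinearMap.ker T
  have hexN : Function.Exact (N.subtype.rTensor C) (N.mkQ.rTensor C) :=
    rTensor_exact C (LinearMap.exact_subtype_mkQ N) N.mkQ_surjective
  have hWN : W ≤ N := fun v hv => by
    obtain ⟨t, ht⟩ := (hexN (ρ v)).1 hv
    have h := congrArg (TensorProduct.rid R V) (LinearMap.congr_fun (HopfRep.Comod.counit_comp (k := R) (A := C) (V := V)) v)
    rw [LinearMap.comp_apply, show HopfRep.Comod.coact (k := R) (A := C) v = ρ v from rfl, ← ht] at h
    simp only [LinearMap.flip_apply, TensorProduct.mk_apply, TensorProduct.rid_tmul, one_smul] at h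
    rw [← h]
    clear h ht
    induction t with
    | zero => simp
    | add x y hx hy => rw [map_add, map_add, map_add]; exact add_mem hx hy
    | tmul x c =>
      simp only [LinearMap.rTensor_tmul, LinearMap.lTensor_tmul, TensorProduct.rid_tmul]
      exact N.smul_mem _ x.2
  refine ⟨W, fun v hv => ?_, ?_, ?_⟩
  · have hexW : Function.Exact (W.subtype.rTensor C) (T.rTensor C) :=
      Module.Flat.rTensor_exact C (LinearMap.exact_subtype_ker_map T)
    refine (hexW (ρ v)).1 ?_
    have hinj : Function.Injective (TensorProduct.assoc R (V ⧸ N) C C) := LinearEquiv.injective _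
    apply hinj
    rw [map_zero]
    have key : ∀ y : (V ⊗[R] C) ⊗[R] C, TensorProduct.assoc R (V ⧸ N) C C ((N.mkQ.rTensor C).rTensor C y) =
        N.mkQ.rTensor (C ⊗[R] C) (TensorProduct.assoc R V C C y) := fun y => by
      induction y with
      | zero => simp
      | add x y hx hy => simp only [map_add, hx, hy]
      | tmul z a =>
        induction z with
        | zero => simp [TensorProduct.zero_tmul]
        | add x y hx hy => simp only [TensorProduct.add_tmul, map_add, hx, hy]
        | tmul x b => simp
    have h := LinearMap.congr_fun (HopfRep.Comod.coassoc (k := R) (A := C) (V := V)) v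
    simp only [LinearMap.comp_apply, LinearEquiv.coe_coe] at h
    have hcomm : ∀ z : V ⊗[R] C, N.mkQ.rTensor (C ⊗[R] C) ((CoalgebraStruct.comul (R := R) (A := C)).lTensor V z) =
        (CoalgebraStruct.comul (R := R) (A := C)).lTensor (V ⧸ N) (N.mkQ.rTensor C z) := fun z => by
      induction z with
      | zero => simp
      | add x y hx hy => simp only [map_add, hx, hy]
      | tmul x a => simp
    show TensorProduct.assoc R (V ⧸ N) C C ((N.mkQ.rTensor C ∘ₗ ρ).rTensor C (ρ v)) = 0
    rw [LinearMap.rTensor_comp_apply, key, h, hcomm, show N.mkQ.rTensor C (ρ v) = 0 from hv, map_zero]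
  · rw [← hgens, Submodule.span_le]
    exact fun m hm => (hexN (ρ m)).2 (hNle ⟨m, hm, rfl⟩)
  · exact Submodule.FG.of_le (Module.Finite.iff_fg.1 hN) hWN

end Groth.Agent.S3032
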