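import Groth.Statements.S14929
import Groth.Agent.S0415

set_option autoImplicit false
universe u
open CategoryTheory CategoryTheory.Limits AlgebraicGeometry
open Variety

namespace Groth.Agent.S14929

/-- Let p be a prime and X a scheme of characteristic p (p is zero in the structure sheaf). Then the
absolute Frobenius F_X : X → X, the identity on the underlying space with g ↦ g^p on sections, is a
universal homeomorphism (every base change of it is a homeomorphism), is integral, and induces a
purely inseparable extension of residue fields κ(x) → κ(x) at every point x of X. -/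
theorem result (p : ℕ) [Fact p.Prime]
    (X : Scheme.{u}) [FrobSch.IsCharP X p] :
    FlatMor.IsUnivHomeo (FrobSch.frob X p) ∧ IsIntegralHom (FrobSch.frob X p) ∧
      ∀ x : X, ((FrobSch.frob X p).residueFieldMap x).hom.IsPurelyInseparable := by
  have hp : p.Prime := Fact.out
  have hint : IsIntegralHom (FrobSch.frob X p) := by
    have : IsAffineHom (FrobSch.frob X p) := ⟨fun U hU => by simpa using hU⟩
    refine ⟨fun U _ => ?_⟩
    intro s
    let t : Γ(X, U) := s
    refine ⟨Polynomial.X ^ p - Polynomial.C t, Polynomial.monic_X_pow_sub_C _ hp.ne_zero, ?_⟩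
    refine ((Polynomial.eval₂_sub ..).trans ?_)
    refine sub_eq_zero.mpr ?_
    refine (Polynomial.eval₂_X_pow ..).trans (Eq.trans ?_ (Polynomial.eval₂_C ..).symm)
    exact (FrobSch.frob_app X p U t).symm
  have hres : ∀ x : X, ((FrobSch.frob X p).residueFieldMap x).hom.IsPurelyInseparable := by
    intro x
    let f := FrobSch.frob X p
    have hker : ((p : ℕ) : X.residueField (f x)) = 0 := by
      have h := FrobSch.natCast_eq_zero_app X p ⊤
      simpa using congrArg (X.evaluation ⊤ (f x) trivial).hom h
    have hc : CharP (X.residueField (f x)) p := (CharP.charP_iff_prime_eq_zero hp).mpr hker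
    have he : ExpChar (X.residueField (f x)) p := ExpChar.prime hp
    unfold RingHom.IsPurelyInseparable
    letI := (f.residueFieldMap x).hom.toAlgebra
    rw [isPurelyInseparable_iff_pow_mem (X.residueField (f x)) p]
    intro a
    obtain ⟨t, rfl⟩ := X.residue_surjective x a
    obtain ⟨U, hxU, s, rfl⟩ := X.presheaf.exists_germ_eq (x := x) t
    refine ⟨1, X.residue (f x) (X.presheaf.germ U (f x) hxU s), ?_⟩
    have h1 := ConcreteCategory.congr_hom (Scheme.residue_residueFieldMap f x)
      (X.presheaf.germ U (f x) hxU s)
    refine h1.trans ?_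
    rw [pow_one, ← map_pow, ← map_pow]
    change X.residue x (f.stalkMap x _) = _
    rw [Scheme.Hom.germ_stalkMap_apply]
    rfl
  have hi : Function.Injective (FrobSch.frob X p) := fun a b h =>
    (FrobSch.frob_apply X p a).symm.trans (h.trans (FrobSch.frob_apply X p b))
  have hinj : UniversallyInjective (FrobSch.frob X p) := by
    have h := (tfae_universallyInjective (FrobSch.frob X p)).out 0 2
    exact h.mpr ⟨hi, hres⟩
  have hsurj : Surjective (FrobSch.frob X p) := ⟨fun y => ⟨y, FrobSch.frob_apply X p y⟩⟩
  exact ⟨(Groth.Agent.S0415.result _).mpr ⟨hint, hinj, hsurj⟩, hint, hres⟩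

end Groth.Agent.S14929
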