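import Groth.Statements.S1178
import Groth.Agent.MiscFlat6.TildeFin
import Groth.Agent.QCohLib.Push
import Groth.Agent.KFlatLib.AffinePull
import Groth.Agent.RichLib.ModFlatGlobal
-- import your own Groth.Agent.* helpers here

set_option autoImplicit false
open CategoryTheory CategoryTheory.Limits AlgebraicGeometry Opposite
universe u
open Desc

namespace Groth.Agent.S1178

theorem finitePresentation_affine {X : Scheme.{u}} (F : X.Modules) [Coh.IsQCoh F] (hF : CohB1.IsFP F)
    {U : X.Opens} (hU : IsAffineOpen U) : Module.FinitePresentation Γ(X, U) Γ(F, U) := by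
  let g := hU.fromSpec
  have hle : (⊤ : (Spec Γ(X, U)).Opens) ≤ g ⁻¹ᵁ U := fun z _ =>
    hU.range_fromSpec.subset (Set.mem_range_self z)
  let φ := g.appLE U ⊤ hle
  have hφ : Function.Bijective φ.hom := by
    have h1 : φ = (Scheme.ΓSpecIso Γ(X, U)).inv := by
      simp only [φ, g, Scheme.Hom.appLE, IsAffineOpen.fromSpec_app_self, Category.assoc]
      rw [← Functor.map_comp]
      exact (congrArg (_ ≫ ·) ((Spec Γ(X, U)).presheaf.map_id _)).trans (Category.comp_id _)
    rw [h1]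
    exact ConcreteCategory.bijective_of_isIso _
  haveI : Coh.IsQCoh (KFlatLib.pb g F) := KFlatLib.isQCoh_pullback g F
  haveI := MiscFlat6.finitePresentation_sections (R := Γ(X, U)) (RichLib.ModFlat.isFP_pullback g hF)
  haveI : Module.FinitePresentation Γ(Spec Γ(X, U), ⊤) Γ(KFlatLib.pb g F, (⊤ : (Spec Γ(X, U)).Opens)) :=
    FlatLib.finitePresentation_semilinear (A := Γ(X, U))
      (M := (moduleSpecΓFunctor.obj (KFlatLib.pb g F) : Type u))
      (Scheme.ΓSpecIso Γ(X, U)).inv.hom (ConcreteCategory.bijective_of_isIso (Scheme.ΓSpecIso Γ(X, U)).inv).2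
      (AddEquiv.refl _) (fun r m => Scheme.Modules.smul_Spec_def r m)
  letI : Algebra Γ(X, U) Γ(Spec Γ(X, U), ⊤) := φ.hom.toAlgebra
  letI : Module Γ(X, U) Γ(KFlatLib.pb g F, (⊤ : (Spec Γ(X, U)).Opens)) := Module.compHom _ φ.hom
  haveI : IsScalarTower Γ(X, U) Γ(Spec Γ(X, U), ⊤) Γ(KFlatLib.pb g F, (⊤ : (Spec Γ(X, U)).Opens)) :=
    IsScalarTower.of_algebraMap_smul fun _ _ => rfl
  let ψ : Γ(F, U) →ₗ[Γ(X, U)] Γ(KFlatLib.pb g F, (⊤ : (Spec Γ(X, U)).Opens)) :=
    { toFun := KFlatLib.puSecLE g F hle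
      map_add' := fun a b => map_add (KFlatLib.puSecLE g F hle) a b
      map_smul' := fun r m => KFlatLib.puSecLE_smul g F hle r m }
  have hb := KFlatLib.isBaseChange_puSec g F hU (isAffineOpen_top _) hle (fun _ => rfl) ψ (fun _ => rfl)
  haveI : Module.FinitePresentation Γ(X, U) Γ(Spec Γ(X, U), ⊤) :=
    Module.FinitePresentation.of_equiv (LinearEquiv.ofBijective (Algebra.linearMap Γ(X, U) Γ(Spec Γ(X, U), ⊤)) hφ)
  haveI : Module.FinitePresentation Γ(X, U) Γ(KFlatLib.pb g F, (⊤ : (Spec Γ(X, U)).Opens)) :=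
    Module.FinitePresentation.trans Γ(X, U) _ Γ(Spec Γ(X, U), ⊤)
  have hψ : Function.Bijective ψ := by
    have h2 : (ψ : _ → _) = hb.equiv ∘ (TensorProduct.mk Γ(X, U) Γ(Spec Γ(X, U), ⊤) Γ(F, U) 1) :=
      funext fun m => ((IsBaseChange.equiv_tmul hb 1 m).trans (one_smul _ _)).symm
    rw [h2]
    refine hb.equiv.bijective.comp ⟨?_, TensorProduct.mk_surjective _ _ _ hφ.2⟩
    haveI : Module.FaithfullyFlat Γ(X, U) Γ(Spec Γ(X, U), ⊤) := Module.FaithfullyFlat.of_linearEquiv Γ(X, U) Γ(X, U)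
      (LinearEquiv.ofBijective (Algebra.linearMap Γ(X, U) Γ(Spec Γ(X, U), ⊤)) hφ).symm
    exact Module.FaithfullyFlat.tensorProduct_mk_injective _
  exact Module.FinitePresentation.of_equiv (LinearEquiv.ofBijective ψ hψ).symm

/-- Let f : X ⟶ Y be finite and locally of finite presentation and F a quasi-coherent O_X-module. Then F
is finitely presented exactly when its pushforward f_*F is a finitely presented O_Y-module. -/
theorem result {X Y : Scheme.{u}} (f : X ⟶ Y) [IsFinite f] [LocallyOfFinitePresentation f]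
    (F : X.Modules) [F.IsQuasicoherent] :
    CohB1.IsFP F ↔ CohB1.IsFP ((Scheme.Modules.pushforward f).obj F) := by
  haveI : Coh.IsQCoh F := ‹F.IsQuasicoherent›
  haveI hq : Coh.IsQCoh ((Scheme.Modules.pushforward f).obj F) := QCohLib.isQCoh_pushforward f F
  have key : ∀ (V : Y.Opens), IsAffineOpen V → (Module.FinitePresentation Γ(X, f ⁻¹ᵁ V) Γ(F, f ⁻¹ᵁ V) ↔
      Module.FinitePresentation Γ(Y, V) Γ((Scheme.Modules.pushforward f).obj F, V)) := by
    intro V hV
    have h6 : (f.app V).hom.FinitePresentation := by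
      have := HasRingHomProperty.appLE (P := @LocallyOfFinitePresentation) (f := f) inferInstance ⟨V, hV⟩
        ⟨_, hV.preimage f⟩ le_rfl
      rwa [← Scheme.Hom.app_eq_appLE] at this
    letI : Algebra Γ(Y, V) Γ(X, f ⁻¹ᵁ V) := (f.app V).hom.toAlgebra
    haveI : Module.Finite Γ(Y, V) Γ(X, f ⁻¹ᵁ V) := IsFinite.finite_app f V hV
    haveI : Algebra.FinitePresentation Γ(Y, V) Γ(X, f ⁻¹ᵁ V) := h6
    haveI : Module.FinitePresentation Γ(Y, V) Γ(X, f ⁻¹ᵁ V) :=
      Module.FinitePresentation.of_finite_of_finitePresentation _ _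
    letI : Module Γ(Y, V) Γ(F, f ⁻¹ᵁ V) := Module.compHom _ (f.app V).hom
    haveI : IsScalarTower Γ(Y, V) Γ(X, f ⁻¹ᵁ V) Γ(F, f ⁻¹ᵁ V) :=
      IsScalarTower.of_algebraMap_smul fun _ _ => rfl
    let e : Γ(F, f ⁻¹ᵁ V) ≃ₗ[Γ(Y, V)] Γ((Scheme.Modules.pushforward f).obj F, V) :=
      { toFun := fun s => s
        invFun := fun s => s
        map_add' := fun _ _ => rfl
        map_smul' := fun _ _ => rfl
        left_inv := fun _ => rfl
        right_inv := fun _ => rfl }
    constructor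
    · intro h
      haveI := Module.FinitePresentation.trans Γ(Y, V) Γ(F, f ⁻¹ᵁ V) Γ(X, f ⁻¹ᵁ V)
      exact Module.FinitePresentation.of_equiv e
    · intro h
      haveI : Module.FinitePresentation Γ(Y, V) Γ(F, f ⁻¹ᵁ V) := Module.FinitePresentation.of_equiv e.symm
      haveI : Module.Finite Γ(X, f ⁻¹ᵁ V) Γ(F, f ⁻¹ᵁ V) :=
        Module.Finite.of_restrictScalars_finite Γ(Y, V) _ _
      obtain ⟨n, p, hp⟩ := Module.Finite.exists_fin' Γ(X, f ⁻¹ᵁ V) Γ(F, f ⁻¹ᵁ V)
      refine Module.finitePresentation_of_surjective p hp ?_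
      have hk := Module.FinitePresentation.fg_ker (p.restrictScalars Γ(Y, V)) hp
      rw [LinearMap.ker_restrictScalars] at hk
      obtain ⟨t, ht⟩ := hk
      refine ⟨t, le_antisymm (Submodule.span_le.mpr fun x hx => ?_) fun x hx => ?_⟩
      · exact ht.le (Submodule.subset_span hx)
      · exact Submodule.span_le_restrictScalars Γ(Y, V) Γ(X, f ⁻¹ᵁ V) _ (ht.ge hx)
  constructor
  · intro h
    refine RichLib.IsFPAffine.isFP_of_finitePresentation _ fun p => ?_
    obtain ⟨V, hV, hp⟩ := QCohLib.exists_affine_nhd p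
    exact ⟨V, hV, hp, (key V hV).1 (finitePresentation_affine F h (hV.preimage f))⟩
  · intro h
    refine RichLib.IsFPAffine.isFP_of_finitePresentation F fun p => ?_
    obtain ⟨V, hV, hp⟩ := QCohLib.exists_affine_nhd (f p)
    exact ⟨f ⁻¹ᵁ V, hV.preimage f, hp, (key V hV).2 (finitePresentation_affine _ h hV)⟩

end Groth.Agent.S1178
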