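import Groth.Statements.S9523
import Groth.Agent.CohExtLib.Subobj
import Groth.Agent.S4666

set_option autoImplicit false
universe u
open CategoryTheory CategoryTheory.Limits AlgebraicGeometry
attribute [local instance] HasDerivedCategory.standard
open Coherent

namespace Groth.Agent.S9523

/-- Let f : Y → X be an affine morphism of schemes, F a quasi-coherent O_Y-module and I a quasi-coherent
sheaf of ideals on X. Then I·f_*F = f_*((f⁻¹I O_Y)·F) as submodules of f_*F: there is an isomorphism
I·f_*F ≅ f_*((f⁻¹I O_Y)·F) whose composite with f_* of the inclusion (f⁻¹I O_Y)·F → F is the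
inclusion I·f_*F → f_*F. (J·M denotes the submodule sheaf Dual3.idealMul J M; f⁻¹I O_Y is the
pulled-back ideal sheaf I.comap f.) -/
theorem result {Y X : Scheme.{u}} (f : Y ⟶ X) [IsAffineHom f]
    (F : Y.Modules) (hF : Coh.IsQCoh F) (I : X.IdealSheafData) :
    ∃ e : (Dual3.idealMul I).obj ((Scheme.Modules.pushforward f).obj F) ≅
        (Scheme.Modules.pushforward f).obj ((Dual3.idealMul (I.comap f)).obj F),
      e.hom ≫ (Scheme.Modules.pushforward f).map (Dual3.idealMulι (I.comap f) F) =
        Dual3.idealMulι I ((Scheme.Modules.pushforward f).obj F) := by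
  haveI := hF
  haveI : Coh.IsQCoh ((Scheme.Modules.pushforward f).obj F) := QCohLib.isQCoh_pushforward f F
  haveI := CohExtLib.isQCoh_idealMul I ((Scheme.Modules.pushforward f).obj F)
  haveI := CohExtLib.isQCoh_idealMul (I.comap f) F
  haveI : Coh.IsQCoh ((Scheme.Modules.pushforward f).obj ((Dual3.idealMul (I.comap f)).obj F)) :=
    QCohLib.isQCoh_pushforward f _
  haveI : PreservesFiniteLimits (Scheme.Modules.pushforward f) :=
    haveI : (Scheme.Modules.pushforward f).IsRightAdjoint :=
      (Scheme.Modules.pullbackPushforwardAdjunction f).isRightAdjoint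
    inferInstance
  have h : Subobject.mk (Dual3.idealMulι I ((Scheme.Modules.pushforward f).obj F)) =
      Subobject.mk ((Scheme.Modules.pushforward f).map (Dual3.idealMulι (I.comap f) F)) := by
    refine CohExtLib.mk_eq_mk _ _ (C := Set.univ) (fun x => ?_) fun V _ => ?_
    · obtain ⟨U, hU, hx⟩ := QCohLib.exists_affine_nhd x
      exact ⟨⟨U, hU⟩, trivial, hx⟩
    · let W : Y.affineOpens := ⟨f ⁻¹ᵁ V.1, V.2.preimage f⟩
      have hK : (I.comap f).ideal W = (I.ideal V).map (f.app V.1).hom := by
        rw [Groth.Agent.S4666.ideal_comap_eq I f V W le_rfl, Scheme.Hom.appLE_eq_app]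
      rw [CohExtLib.range_idealMulι]
      have hR : ∀ z : Γ(F, f ⁻¹ᵁ V.1),
          (∃ w, ((Scheme.Modules.pushforward f).map (Dual3.idealMulι (I.comap f) F)).app V.1 w =
            (show Γ((Scheme.Modules.pushforward f).obj F, V.1) from z)) ↔
          z ∈ (I.comap f).ideal W • (⊤ : Submodule Γ(Y, f ⁻¹ᵁ V.1) Γ(F, f ⁻¹ᵁ V.1)) := fun z => by
        rw [← CohExtLib.range_idealMulι (I.comap f) F W]
        exact Iff.rfl
      refine le_antisymm (Submodule.smul_le.2 fun r hr z _ => ?_) ?_
      · refine (hR _).mpr ?_
        rw [hK]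
        exact (QCohLib.push_smul f F r z).symm ▸ Submodule.smul_mem_smul (Ideal.mem_map_of_mem _ hr) trivial
      · rintro z ⟨w, hw⟩
        have hz := (hR z).mp ⟨w, hw⟩
        rw [hK] at hz
        clear hw
        refine Submodule.smul_induction_on hz (fun b hb m _ => ?_) fun x y hx hy => add_mem hx hy
        suffices ∀ m : Γ(F, f ⁻¹ᵁ V.1), (show Γ((Scheme.Modules.pushforward f).obj F, V.1) from b • m) ∈
            I.ideal V • (⊤ : Submodule Γ(X, V.1) Γ((Scheme.Modules.pushforward f).obj F, V.1)) from this m
        induction hb using Submodule.span_induction with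
        | mem b hb =>
          obtain ⟨r, hr, rfl⟩ := hb
          intro m
          exact (QCohLib.push_smul f F r m) ▸ Submodule.smul_mem_smul hr trivial
        | zero => intro m; rw [zero_smul]; exact zero_mem _
        | add a b _ _ ha hb => intro m; rw [add_smul]; exact add_mem (ha m) (hb m)
        | smul c a _ ha => intro m; rw [smul_eq_mul, mul_comm, mul_smul]; exact ha _
  exact ⟨Subobject.isoOfMkEqMk _ _ h, Subobject.ofMkLEMk_comp _⟩

end Groth.Agent.S9523
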