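import Groth.Statements.S15582
import Mathlib.Topology.Sheaves.SheafCondition.UniqueGluing
import Mathlib.Topology.Sheaves.LocallySurjective
import Mathlib.CategoryTheory.Sites.LocallySurjective
-- import your own Groth.Agent.* helpers here

set_option autoImplicit false
universe u
open CategoryTheory TopologicalSpace
open CohTop

namespace Groth.Agent.S15582

/-- Let `π : X → Y` be a continuous map such that every open set containing a fibre `π⁻¹(y)` contains
the preimage of an open neighbourhood of `y`, and such that every fibre is finite with its points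
separated by pairwise disjoint open sets of `X`. Then the direct image of sheaves of sets along `π`
preserves epimorphisms. -/
theorem result
    {X Y : TopCat.{u}} (π : X ⟶ Y)
    (h1 : ∀ (y : Y) (U : Set X), IsOpen U → π ⁻¹' {y} ⊆ U →
      ∃ V : Set Y, IsOpen V ∧ y ∈ V ∧ π ⁻¹' V ⊆ U)
    (h2 : ∀ y : Y, (π ⁻¹' {y}).Finite ∧ ∃ U : X → Set X,
      (∀ x ∈ π ⁻¹' {y}, IsOpen (U x) ∧ x ∈ U x) ∧ (π ⁻¹' {y}).PairwiseDisjoint U) :
    (TopCat.Sheaf.pushforward (Type u) π).PreservesEpimorphisms := by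
  refine ⟨fun {F G} g hg => ?_⟩
  refine (Sheaf.isLocallySurjective_iff_epi _).mp
    ((TopCat.Presheaf.isLocallySurjective_iff _).mpr ?_)
  intro V s y hy
  obtain ⟨hfin, U, hU, hdisj⟩ := h2 y
  have hls := (TopCat.Presheaf.isLocallySurjective_iff g.hom).mp
    ((Sheaf.isLocallySurjective_iff_epi g).mpr hg)
  have hx : ∀ x : π ⁻¹' {y}, x.1 ∈ (Opens.map π).obj V := fun x => by
    change π x.1 ∈ V
    rw [show π x.1 = y from x.2]
    exact hy
  have h := fun x : π ⁻¹' {y} => hls ((Opens.map π).obj V) s x.1 (hx x)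
  choose W hW hs hxW using h
  choose t ht using hs
  let D : π ⁻¹' {y} → Opens X := fun x => W x ⊓ ⟨U x.1, (hU x.1 x.2).1⟩
  let sf : ∀ x, F.obj.obj (Opposite.op (D x)) := fun x =>
    F.obj.map (homOfLE (inf_le_left : D x ≤ W x)).op (t x)
  have hbot : ∀ (O : Opens X), (∀ p, p ∉ O) → ∀ a b : F.obj.obj (Opposite.op O), a = b := fun O hO a b =>
    TopCat.Sheaf.eq_of_locally_eq' (F : TopCat.Sheaf (Type u) X) (fun e : PEmpty.{u + 1} => e.elim) O
      (fun e => e.elim) (fun p hp => absurd hp (hO p)) a b (fun e => e.elim)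
  have hcomp : TopCat.Presheaf.IsCompatible F.obj D sf := fun x z => by
    rcases eq_or_ne x z with rfl | hne
    · rfl
    · exact hbot _ (fun p (hp : p ∈ D x ⊓ D z) => Set.disjoint_left.mp
        (hdisj x.2 z.2 (Subtype.coe_ne_coe.mpr hne)) hp.1.2 hp.2.2) _ _
  obtain ⟨r, hr, -⟩ := TopCat.Sheaf.existsUnique_gluing (F : TopCat.Sheaf (Type u) X) D sf hcomp
  obtain ⟨V', hV'o, hyV', hsub⟩ := h1 y (iSup D : Opens X) (iSup D).2 fun x hxy =>
    Opens.mem_iSup.mpr ⟨⟨x, hxy⟩, hxW ⟨x, hxy⟩, (hU x hxy).2⟩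
  let W' : Opens Y := ⟨V', hV'o⟩ ⊓ V
  have hle : (Opens.map π).obj W' ≤ iSup D := fun x hx => hsub hx.1
  refine ⟨W', inf_le_right, ⟨F.obj.map (homOfLE hle).op r, ?_⟩, hyV', hy⟩
  change g.hom.app (Opposite.op ((Opens.map π).obj W')) (F.obj.map (homOfLE hle).op r) =
    G.obj.map ((Opens.map π).map (homOfLE inf_le_right)).op s
  have h3 := ConcreteCategory.congr_hom (g.hom.naturality (homOfLE hle).op) r
  refine h3.trans ?_
  refine TopCat.Sheaf.eq_of_locally_eq' (G : TopCat.Sheaf (Type u) X)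
    (fun x => (Opens.map π).obj W' ⊓ D x) _ (fun x => homOfLE inf_le_left)
    (fun p hp => ?_) _ _ fun x => ?_
  · obtain ⟨x, hx⟩ := Opens.mem_iSup.mp (hle hp)
    exact Opens.mem_iSup.mpr ⟨x, hp, hx⟩
  have e1 := ConcreteCategory.congr_hom (g.hom.naturality (homOfLE (le_iSup D x)).op) r
  have e2 := ConcreteCategory.congr_hom (g.hom.naturality (homOfLE (inf_le_left : D x ≤ W x)).op) (t x)
  simp only [ConcreteCategory.comp_apply] at e1 e2 ⊢
  have hr' : F.obj.map (homOfLE (le_iSup D x)).op r = sf x := hr x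
  have e3 : G.obj.map (homOfLE (le_iSup D x)).op (g.hom.app _ r) =
      G.obj.map (homOfLE (inf_le_left : D x ≤ W x)).op (G.obj.map (homOfLE (hW x)).op s) :=
    e1.symm.trans ((congrArg (g.hom.app _) hr').trans (e2.trans (congrArg _ (ht x))))
  have e4 := congrArg (G.obj.map (homOfLE (inf_le_right : (Opens.map π).obj W' ⊓ D x ≤ D x)).op) e3
  have mm : ∀ {A B C : Opens X} (i : B ⟶ A) (j : C ⟶ B) (k : C ⟶ A) (z : G.obj.obj (Opposite.op A)),
      G.obj.map j.op (G.obj.map i.op z) = G.obj.map k.op z := fun i j k z => by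
    rw [← ConcreteCategory.comp_apply, ← Functor.map_comp, ← op_comp, Subsingleton.elim (j ≫ i) k]
  refine (mm _ _ (homOfLE (inf_le_left.trans hle)) _).trans ?_
  refine ((mm _ _ (homOfLE (inf_le_left.trans hle)) _).symm.trans e4).trans ?_
  refine (mm _ _ (homOfLE (inf_le_right.trans inf_le_left)) _).trans ?_
  refine (mm _ _ (homOfLE ((inf_le_right.trans inf_le_left).trans (hW x))) _).trans ?_
  exact (mm ((Opens.map π).map (homOfLE inf_le_right)) _ _ s).symm

end Groth.Agent.S15582
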