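import Groth.Statements.S1654
import Groth.Agent.GalOrbLib.Split
import Groth.Agent.LenInsepLib.PerfectBC
import Groth.Agent.FieldsMiscLib.Basic

set_option autoImplicit false
set_option backward.isDefEq.respectTransparency false
set_option backward.isDefEq.respectTransparency.types false
universe u
open CategoryTheory CategoryTheory.Limits AlgebraicGeometry
open Variety

namespace Groth.Agent.S1654

/-- Let X be a k-scheme locally of finite type, having only finitely many irreducible components. There
is then a finite separable extension k' of k such that every irreducible component of X_{k'}, with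
its reduced induced structure, is geometrically irreducible over k'. -/
theorem result (k : Type u) [Field k] (X : Scheme.{u}) [X.Over (Spec (CommRingCat.of k))] [LocallyOfFiniteType (X ↘ (Spec (CommRingCat.of k)))]
    (hirr : (irreducibleComponents (X : Type u)).Finite) :
    ∃ (k' : Type u) (_ : Field k') (_ : Algebra k k'), FiniteDimensional k k' ∧ Algebra.IsSeparable k k' ∧
      ∀ (T : Set (Curv2.bc k X k')) (hT : T ∈ irreducibleComponents (Curv2.bc k X k' : Type u)),
        GeometricallyIrreducible
          ((Scheme.IdealSheafData.vanishingIdeal ⟨T, isClosed_of_mem_irreducibleComponents T hT⟩).subschemeι ≫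
            Curv2.bcSnd k X k') := by
  haveI := hirr.to_subtype
  let f := X ↘ Spec (CommRingCat.of k)
  have hx : ∀ (Z : Set ↥X) (hZ : Z ∈ irreducibleComponents ↥X),
      FBase.ResidueFieldProp f hZ.1.genericPoint (fun K _ _ => FiniteDimensional k (separableClosure k K)) := by
    intro Z hZ
    obtain ⟨φ, hφ⟩ := Spec.map_surjective (X.fromSpecResidueField hZ.1.genericPoint ≫ f)
    refine ⟨φ.hom, by simpa using hφ, ?_⟩
    have h1 : φ.hom.EssFiniteType := LenInsepLib.essFiniteType_residue f _ φ hφ
    letI := φ.hom.toAlgebra
    haveI : Algebra.EssFiniteType k (X.residueField hZ.1.genericPoint) := h1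
    haveI := FieldsMiscLib.algebraicClosure_finite_of_fg (k := k) (K := X.residueField hZ.1.genericPoint)
      (IntermediateField.fg_top_iff.mpr inferInstance)
    exact FiniteDimensional.of_injective
      (IntermediateField.inclusion (le_algebraicClosure k (X.residueField hZ.1.genericPoint) (separableClosure k _))).toLinearMap
      (fun a b hab => Subtype.ext (congrArg Subtype.val hab :))
  obtain ⟨L, _, _, hfd, hsep, h⟩ := GalOrbLib.exists_splitting f hx
  refine ⟨L, inferInstance, inferInstance, hfd, hsep, fun T hT => ?_⟩
  refine ⟨geometrically_iff_of_commRing_of_isClosedUnderIsomorphisms.mpr fun K _ _ => ?_⟩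
  letI : Algebra k K := ((algebraMap L K).comp (algebraMap k L)).toAlgebra
  haveI : IsScalarTower k L K := IsScalarTower.of_algebraMap_eq fun _ => rfl
  refine GalOrbLib.irreducibleSpace_bc_closed f L K _ ?_
  rw [Scheme.IdealSheafData.range_subschemeι, Scheme.IdealSheafData.coe_support_vanishingIdeal]
  exact GalOrbLib.isIrreducible_bc_preimage f L K (h K T hT)

end Groth.Agent.S1654
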