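import Groth.Statements.S1279
import Groth.Agent.RGFlatLib.Dominate
import Groth.Agent.ModPairLib.Colon
import Groth.Agent.MiscFlat6.FTIdeal

set_option autoImplicit false
universe u
open FlatMor

namespace Groth.Agent.S1279

open AlgebraicGeometry CategoryTheory Limits Topology in
/-- Constructible subsets of quasi-compact quasi-separated schemes are compact. -/
theorem isCompact_of_constructible {Z : Scheme.{u}} [CompactSpace Z] [QuasiSeparatedSpace Z]
    {K : Set Z} (hK : IsConstructible K) : IsCompact K := by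
  haveI : Nonempty Z.affineOpens := ⟨⟨⊥, isAffineOpen_bot Z⟩⟩
  induction K, hK using IsConstructible.induction_of_isTopologicalBasis
    (fun U : Z.affineOpens ↦ (U.1 : Set Z)) with
  | basis =>
    have h := Z.isBasis_affineOpens
    rw [TopologicalSpace.Opens.IsBasis] at h
    convert h using 1
    ext t
    constructor
    · rintro ⟨U, rfl⟩; exact ⟨U.1, U.2, rfl⟩
    · rintro ⟨U, hU, rfl⟩; exact ⟨⟨U, hU⟩, rfl⟩
  | isCompact_basis U => exact U.2.isCompact
  | sdiff U s hs => exact U.2.isCompact.diff (isOpen_biUnion fun V _ ↦ V.1.isOpen)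
  | union s hs t ht hs' ht' => exact hs'.union ht'

open AlgebraicGeometry CategoryTheory Limits Topology in
/-- Let X be a quasi-compact and quasi-separated scheme, U ⊆ X a quasi-compact open, and T₁, T₂ ⊆ U
disjoint subsets which are closed and constructible in U. Then there is a U-admissible blow-up b :
X' → X such that the closures in X' of the preimages of T₁ and T₂ are disjoint. (Part (1), about
strict transforms of closed subschemes, is not stated.) -/
theorem result {X : Scheme.{u}} [CompactSpace X] [QuasiSeparatedSpace X]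
    (U : X.Opens) (hU : IsCompact (U : Set X)) (T₁ T₂ : Set U)
    (h₁ : IsClosed T₁) (h₂ : IsClosed T₂) (c₁ : IsConstructible T₁) (c₂ : IsConstructible T₂) (hd : Disjoint T₁ T₂) :
    ∃ (𝓘 : X.IdealSheafData) (X' : Scheme.{u}) (b : X' ⟶ X), BlowUp.IsBlowUp b 𝓘 ∧ BlowUp.IsAdmissibleFor U 𝓘 ∧
      Disjoint (closure (b.base ⁻¹' (Subtype.val '' T₁))) (closure (b.base ⁻¹' (Subtype.val '' T₂))) := by
  haveI : CompactSpace (U : Scheme.{u}) := isCompact_iff_compactSpace.mp hU
  haveI : QuasiSeparatedSpace (U : Scheme.{u}) := quasiSeparatedSpace_of_quasiSeparated U.ι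
  have hc : ∀ T : Set U, IsClosed T → IsConstructible T → ∃ J : X.IdealSheafData,
      BlowUp.IsFiniteTypeIdeal J ∧ ∀ x, x ∈ (J.support : Set X) ↔ (x ∈ U → ∃ hx : x ∈ U, (⟨x, hx⟩ : U) ∈ T) := by
    intro T hT cT
    let O : X.Opens := ⟨Subtype.val '' Tᶜ, U.isOpen.isOpenMap_subtype_val _ hT.isOpen_compl⟩
    have hO : IsCompact (O : Set X) :=
      (isCompact_of_constructible (Z := (U : Scheme.{u})) cT.compl).image continuous_subtype_val
    obtain ⟨J, hJ, hs⟩ := MiscFlat6.exists_finiteType_idealSheaf O hO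
    refine ⟨J, hJ, fun x => ?_⟩
    rw [hs]
    constructor
    · intro hx hxU
      exact ⟨hxU, by_contra fun hn => hx ⟨⟨x, hxU⟩, hn, rfl⟩⟩
    · rintro h ⟨y, hy, rfl⟩
      obtain ⟨hyU, hyT⟩ := h y.2
      exact hy hyT
  obtain ⟨J₁, hJ₁, hs₁⟩ := hc T₁ h₁ c₁
  obtain ⟨J₂, hJ₂, hs₂⟩ := hc T₂ h₂ c₂
  have hadm : BlowUp.IsAdmissibleFor U (J₁ ⊔ J₂) := by
    refine ⟨ModPairLib.fg_sup hJ₁ hJ₂, Set.disjoint_left.2 fun x hx hxU => ?_⟩
    obtain ⟨_, ha⟩ := (hs₁ x).mp (Scheme.IdealSheafData.support_antitone le_sup_left hx) hxU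
    obtain ⟨_, hb⟩ := (hs₂ x).mp (Scheme.IdealSheafData.support_antitone le_sup_right hx) hxU
    exact Set.disjoint_left.mp hd ha hb
  obtain ⟨X', b, hb⟩ := BlowUpLib.exists_isBlowUp X (J₁ ⊔ J₂)
  obtain ⟨M₁, hM₁⟩ := ModPairLib.exists_mul_eq hb.1 (J := J₁.comap b) (Scheme.IdealSheafData.comap_mono b le_sup_left)
  obtain ⟨M₂, hM₂⟩ := ModPairLib.exists_mul_eq hb.1 (J := J₂.comap b) (Scheme.IdealSheafData.comap_mono b le_sup_right)
  have htop : M₁ ⊔ M₂ = ⊤ := by
    refine ModPairLib.mul_cancel hb.1 ?_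
    refine Scheme.IdealSheafData.ext (funext fun V => ?_)
    have e₁ := congrArg (fun K : X'.IdealSheafData => K.ideal V) hM₁
    have e₂ := congrArg (fun K : X'.IdealSheafData => K.ideal V) hM₂
    simp only [Scheme.IdealSheafData.ideal_mul, Pi.mul_apply] at e₁ e₂
    simp only [Scheme.IdealSheafData.ideal_mul, Pi.mul_apply, Scheme.IdealSheafData.ideal_sup, Pi.sup_apply,
      Scheme.IdealSheafData.ideal_top, Pi.top_apply, Ideal.top_mul, Ideal.sup_mul]
    rw [e₁, e₂, Scheme.IdealSheafData.comap_sup, Scheme.IdealSheafData.ideal_sup, Pi.sup_apply]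
  have key : ∀ (J : X.IdealSheafData) (T : Set U) (M : X'.IdealSheafData),
      M * (J₁ ⊔ J₂).comap b = J.comap b →
      (∀ x, x ∈ (J.support : Set X) ↔ (x ∈ U → ∃ hx : x ∈ U, (⟨x, hx⟩ : U) ∈ T)) →
      closure (b.base ⁻¹' (Subtype.val '' T)) ⊆ (M.support : Set X') := by
    intro J T M hM hs
    refine closure_minimal (fun x hx => ?_) M.support.isClosed
    obtain ⟨y, hy, hyx⟩ := hx
    have h : x ∈ ((J.comap b).support : Set X') := by
      rw [Scheme.IdealSheafData.support_comap]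
      exact (hs (b.base x)).mpr fun _ => ⟨hyx ▸ y.2, (Subtype.ext hyx : y = ⟨b.base x, hyx ▸ y.2⟩) ▸ hy⟩
    rw [← hM, Scheme.IdealSheafData.support_mul] at h
    refine h.resolve_right fun h' => ?_
    rw [SetLike.mem_coe, ← SetLike.mem_coe, Scheme.IdealSheafData.support_comap] at h'
    exact Set.disjoint_left.mp hadm.2 h' (show b.base x ∈ U from hyx ▸ y.2)
  refine ⟨J₁ ⊔ J₂, X', b, hb, hadm, ?_⟩
  refine Disjoint.mono (key J₁ T₁ M₁ hM₁ hs₁) (key J₂ T₂ M₂ hM₂ hs₂) ?_
  refine Set.disjoint_left.2 fun x hx₁ hx₂ => ?_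
  have : x ∈ ((M₁ ⊔ M₂).support : Set X') := by
    obtain ⟨V, hV, hxV, -⟩ := exists_isAffineOpen_mem_and_subset (x := x) (U := (⊤ : X'.Opens)) trivial
    have a₁ := (Scheme.IdealSheafData.mem_support_iff_of_mem (U := ⟨V, hV⟩) hxV).mp hx₁
    have a₂ := (Scheme.IdealSheafData.mem_support_iff_of_mem (U := ⟨V, hV⟩) hxV).mp hx₂
    refine (Scheme.IdealSheafData.mem_support_iff_of_mem (U := ⟨V, hV⟩) hxV).mpr ?_
    rw [Scheme.IdealSheafData.ideal_sup, Pi.sup_apply]
    rw [Scheme.mem_zeroLocus_iff] at a₁ a₂ ⊢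
    intro f hf
    obtain ⟨f₁, hf₁, f₂, hf₂, rfl⟩ := Submodule.mem_sup.mp hf
    intro hc
    have := (X'.toRingedSpace.mem_basicOpen _ x hxV).mp hc
    rw [map_add] at this
    rcases IsLocalRing.isUnit_or_isUnit_of_isUnit_add this with h | h
    · exact a₁ f₁ hf₁ ((X'.toRingedSpace.mem_basicOpen _ x hxV).mpr h)
    · exact a₂ f₂ hf₂ ((X'.toRingedSpace.mem_basicOpen _ x hxV).mpr h)
  simp [htop] at this

end Groth.Agent.S1279
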