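import Groth.Agent.NagataCompLib.Boundary
import Groth.Agent.S1279

/-! Compactifications in which given disjoint closed subsets have disjoint closures. -/

set_option autoImplicit false
set_option backward.isDefEq.respectTransparency false
universe u v
open CategoryTheory CategoryTheory.Limits AlgebraicGeometry TopologicalSpace Topology

namespace CompactSepLib

theorem isConstructible_of_isClosed {α : Type*} [TopologicalSpace α] [NoetherianSpace α] {T : Set α}
    (hT : IsClosed T) : IsConstructible T := by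
  have h : IsConstructible (Tᶜ) :=
    IsRetrocompact.isConstructible hT.isOpen_compl (fun U _ _ => NoetherianSpace.isCompact _)
  simpa using h.compl

/-- Finitely many pairs can be separated simultaneously. -/
theorem exists_finset {X S : Scheme.{u}} (f : X ⟶ S) [IsSeparated f] [QuasiCompact f] [LocallyOfFiniteType f]
    [CompactSpace S] [QuasiSeparatedSpace S] [IsLocallyNoetherian S]
    {ι : Type v} (C₁ C₂ : ι → Set X) (h₁ : ∀ i, IsClosed (C₁ i)) (h₂ : ∀ i, IsClosed (C₂ i))
    (hd : ∀ i, C₁ i ∩ C₂ i = ∅) (s : Finset ι) :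
    ∃ (Y : Scheme.{u}) (j : X ⟶ Y) (p : Y ⟶ S), IsOpenImmersion j ∧ IsProper p ∧ j ≫ p = f ∧
      ∀ i ∈ s, Disjoint (closure (j.base '' C₁ i)) (closure (j.base '' C₂ i)) := by
  classical
  induction s using Finset.induction with
  | empty =>
    obtain ⟨Y, j, p, hj, -, hp, -, e⟩ := NagataCompLib.exists_dense_compactification f
    exact ⟨Y, j, p, hj, hp, e, by simp⟩
  | @insert a s _ ih =>
    obtain ⟨Y, j, p, hj, hp, e, hs⟩ := ih
    haveI := hj
    haveI := hp
    haveI : CompactSpace Y := QuasiCompact.compactSpace_of_compactSpace p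
    haveI : QuasiSeparatedSpace Y := quasiSeparatedSpace_of_quasiSeparated p
    haveI : IsLocallyNoetherian Y := LocallyOfFiniteType.isLocallyNoetherian p
    haveI : CompactSpace X := QuasiCompact.compactSpace_of_compactSpace f
    haveI : AlgebraicGeometry.IsNoetherian Y := { }
    have hU : IsCompact (j.opensRange : Set Y) := NoetherianSpace.isCompact _
    haveI : NoetherianSpace ((j.opensRange : Set Y) : Type u) := NoetherianSpace.set _
    haveI : NoetherianSpace j.opensRange := ‹_›
    let T : Set X → Set j.opensRange := fun C => Subtype.val ⁻¹' closure (j.base '' C)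
    have hT : ∀ C : Set X, IsClosed (T C) := fun C => isClosed_closure.preimage continuous_subtype_val
    have hv : ∀ C : Set X, IsClosed C → Subtype.val '' (T C) = j.base '' C := fun C hC => by
      refine Set.Subset.antisymm ?_ ?_
      · rintro _ ⟨⟨y, ⟨x, rfl⟩⟩, hy, rfl⟩
        refine ⟨x, ?_, rfl⟩
        rw [← hC.closure_eq, j.isOpenEmbedding.isEmbedding.closure_eq_preimage_closure_image]
        exact hy
      · rintro _ ⟨x, hx, rfl⟩
        exact ⟨⟨j.base x, ⟨x, rfl⟩⟩, subset_closure ⟨x, hx, rfl⟩, rfl⟩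
    have hTd : Disjoint (T (C₁ a)) (T (C₂ a)) := by
      rw [← Set.disjoint_image_iff Subtype.val_injective, hv _ (h₁ a), hv _ (h₂ a),
        Set.disjoint_image_iff j.isOpenEmbedding.injective, Set.disjoint_iff_inter_eq_empty]
      exact hd a
    obtain ⟨I, Y', b, hb, ha, hdisj⟩ := Groth.Agent.S1279.result j.opensRange hU (T (C₁ a)) (T (C₂ a))
      (hT _) (hT _) (isConstructible_of_isClosed (hT _)) (isConstructible_of_isClosed (hT _)) hTd
    haveI := NagataCompLib.isIso_restrict_of_admissible hb ha
    haveI := BlowUpLib.isProper_of_isBlowUp hb ha.1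
    let k : X ⟶ Y' := j.isoOpensRange.hom ≫ inv (b ∣_ j.opensRange) ≫ (b ⁻¹ᵁ j.opensRange).ι
    have hk : k ≫ b = j := by
      simp only [k, Category.assoc]
      rw [← morphismRestrict_ι, IsIso.inv_hom_id_assoc]
      simp [Scheme.Hom.isoOpensRange]
    obtain ⟨hko, -⟩ := NagataCompLib.isOpenImmersion_lift j b inferInstance k hk
    refine ⟨Y', k, b ≫ p, hko, inferInstance, by rw [reassoc_of% hk, e], fun i hi => ?_⟩
    have hkj : ∀ x, b.base (k.base x) = j.base x := fun x => by rw [← hk]; rfl
    rcases Finset.mem_insert.1 hi with rfl | hi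
    · refine hdisj.mono (closure_mono ?_) (closure_mono ?_)
      · rintro _ ⟨x, hx, rfl⟩
        rw [Set.mem_preimage, hkj, hv _ (h₁ i)]
        exact ⟨x, hx, rfl⟩
      · rintro _ ⟨x, hx, rfl⟩
        rw [Set.mem_preimage, hkj, hv _ (h₂ i)]
        exact ⟨x, hx, rfl⟩
    · have hsub : ∀ C : Set X, closure (k.base '' C) ⊆ b.base ⁻¹' closure (j.base '' C) := fun C =>
        closure_minimal (by rintro _ ⟨x, hx, rfl⟩; exact subset_closure ⟨x, hx, (hkj x).symm⟩)
          (isClosed_closure.preimage b.continuous)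
      exact ((hs i hi).preimage b.base).mono (hsub _) (hsub _)

/-- The compactification may be taken dense. -/
theorem exists_dense {X S : Scheme.{u}} (f : X ⟶ S) [IsSeparated f] [QuasiCompact f] [LocallyOfFiniteType f]
    [CompactSpace S] [QuasiSeparatedSpace S] [IsLocallyNoetherian S]
    {ι : Type v} [Finite ι] (C₁ C₂ : ι → Set X) (h₁ : ∀ i, IsClosed (C₁ i)) (h₂ : ∀ i, IsClosed (C₂ i))
    (hd : ∀ i, C₁ i ∩ C₂ i = ∅) :
    ∃ (Y : Scheme.{u}) (j : X ⟶ Y) (p : Y ⟶ S), IsProper p ∧ IsOpenImmersion j ∧ DenseRange j.base ∧ j ≫ p = f ∧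
      ∀ i, closure (j.base '' C₁ i) ∩ closure (j.base '' C₂ i) = ∅ := by
  cases nonempty_fintype ι
  obtain ⟨Y, j, p, hj, hp, e, hs⟩ := exists_finset f C₁ C₂ h₁ h₂ hd Finset.univ
  haveI := hj
  haveI := hp
  haveI : CompactSpace X := QuasiCompact.compactSpace_of_compactSpace f
  haveI : QuasiSeparatedSpace Y := quasiSeparatedSpace_of_quasiSeparated p
  haveI : QuasiCompact j := quasiCompact_of_compactSpace j
  refine ⟨j.image, j.toImage, j.imageι ≫ p, inferInstance, inferInstance, NagataCompLib.denseRange_toImage j,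
    by rw [Scheme.Hom.toImage_imageι_assoc, e], fun i => ?_⟩
  have hji : ∀ x, j.imageι.base (j.toImage.base x) = j.base x := fun x => by
    conv_rhs => rw [← Scheme.Hom.toImage_imageι j]
    rfl
  have hsub : ∀ C : Set X, closure (j.toImage.base '' C) ⊆ j.imageι.base ⁻¹' closure (j.base '' C) := fun C =>
    closure_minimal (by rintro _ ⟨x, hx, rfl⟩; exact subset_closure ⟨x, hx, (hji x).symm⟩)
      (isClosed_closure.preimage j.imageι.continuous)
  exact Set.disjoint_iff_inter_eq_empty.1 (((hs i (Finset.mem_univ i)).preimage j.imageι.base).mono (hsub _) (hsub _))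

end CompactSepLib
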