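import Groth.Statements.S10994
import Groth.Agent.FFLib.DegOne

set_option autoImplicit false
open FunFld

namespace Groth.Agent.S10994

/-- A function field of one variable has genus `0` and a place of degree `1` iff it is a rational
function field `k(x)`. -/
theorem result (k K : Type*) [Field k] [Field K] [Algebra k K]
    (hK : FunFld.IsFunctionField k K) :
    (FunFld.genus k K = 0 ∧ ∃ P : FunFld.Place k K, P.deg = 1) ↔
      ∃ x : K, IntermediateField.adjoin k ({x} : Set K) = ⊤ := by
  constructor
  · rintro ⟨hg, P, hP⟩
    refine Groth.Agent.FFLib.exists_generator_of_ell hK hP ?_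
    have := Groth.Agent.FFLib.riemann_ge hK (Finsupp.single P 1 : FunFld.Divisor k K)
    rw [Groth.Agent.FFLib.deg_single, hP, hg] at this
    omega
  · rintro ⟨x, hx⟩
    obtain ⟨P, hP, -⟩ := Groth.Agent.FFLib.exists_single_of_deg_one hK (Groth.Agent.FFLib.pole_nonneg x)
      (Groth.Agent.FFLib.deg_pole_eq_one hK hx)
    exact ⟨Groth.Agent.FFLib.genus_eq_zero_of_top hK hx, P, hP⟩

end Groth.Agent.S10994
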