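import Groth.Statements.S14512
import Groth.Agent.GenusZeroLib.Apps

set_option autoImplicit false
universe u
open CategoryTheory CategoryTheory.Limits AlgebraicGeometry
open Curves

namespace Groth.Agent.S14512

/-- Let k be an algebraically closed field and X a complete curve over k (integral, proper over k, of
dimension one) of arithmetic genus dim_k H^1(X, O_X) = 0. Then X is smooth over k. (Over a
non-closed field an integral proper curve with vanishing H^1 need not be smooth, e.g. a projective
line over an inseparable extension of k viewed over k.) -/
theorem result (k : Type u) [Field k] [IsAlgClosed k] (X : Scheme.{u}) [X.Over (Spec (CommRingCat.of k))]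
    [IsIntegral X] [IsProper (X ↘ (Spec (CommRingCat.of k)))] (hdim : topologicalKrullDim X = 1)
    (hg : Curv2.genus k X = 0) :
    Smooth (X ↘ (Spec (CommRingCat.of k))) := by
  haveI := CurvLib.isNoetherian k (X := X)
  haveI : LocallyOfFinitePresentation (X ↘ (Spec (CommRingCat.of k))) := inferInstance
  haveI : Module.Finite k (Coh.HH X (Coh.structureModule X) 1) :=
    CurvLib.finite_HH (CurvLib.isCoh_of_isInvertible CurvLib.isInvertible_structureModule) 1
  rw [Curv2.genus] at hg
  have h1 : Subsingleton (Coh.HH X (Coh.structureModule X) 1) := (Module.finrank_zero_iff (R := k)).mp hg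
  obtain ⟨w, hw, hsm⟩ := GenusZeroLib.exists_rational_point_mem (X ↘ (Spec (CommRingCat.of k)))
    ⟨genericPoint X, Scheme.Hom.genericPoint_mem_smoothLocus_of_perfectField _⟩
  obtain ⟨e, he⟩ := GenusZeroLib.exists_iso_of_rational hdim h1 w hw (IsLocalRing.closedPoint k)
    (GenusZeroLib.isIntegrallyClosed_of_mem_smoothLocus (hsm _)).2
  exact GenusZeroLib.smooth_of_iso e he

end Groth.Agent.S14512
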