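import Groth.Statements.S6544
import Groth.Agent.GenusZeroLib.Degrees
import Groth.Agent.CurveDualLib.DualField
import Groth.Agent.WeilResLib.GeomConn
import Groth.Agent.SerreVanLib.CurveAmple

set_option autoImplicit false
universe u
open CategoryTheory CategoryTheory.Limits AlgebraicGeometry
open Curves

set_option linter.style.haveILetI false

namespace Groth.Agent.S6544

variable (k : Type u) [Field k] {X : Scheme.{u}} [X.Over (Spec (CommRingCat.of k))]
  [IsProper (X ↘ Spec (CommRingCat.of k))] [IsIntegral X] (hdim : topologicalKrullDim X = 1)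

include hdim in
theorem realised_neg {n : ℤ} (h : GenusZeroLib.Realised k (X := X) n) : GenusZeroLib.Realised k (X := X) (-n) := by
  obtain ⟨L, hL, rfl⟩ := h
  obtain ⟨e⟩ := MiscFlat6.nonempty_dualIso hL
  have hM := MiscFlat6.dual_isInvertible hL
  have h3 := GenusZeroLib.deg_tensor k hdim hL hM
  rw [CurvLib.deg_congr (k := k) e 1,
    show Curv2.deg k X (Coh.structureModule X) 1 = 0 by rw [Curv2.deg]; push_cast; ring] at h3
  exact ⟨_, hM, by omega⟩

include hdim in
theorem realised_nsmul {m : ℤ} (h : GenusZeroLib.Realised k (X := X) m) (n : ℕ) :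
    GenusZeroLib.Realised k (X := X) (n * m) := by
  obtain ⟨L, hL, rfl⟩ := h
  refine ⟨CohB1.tensorPow L n, AmpleThLib.tensorPow_isInvertible hL n, ?_⟩
  have h := SerreVanLib.deg_pow (k := k) hdim hL n
  simp only [Curv2.deg] at h ⊢
  push_cast at h ⊢
  linarith

include hdim in
theorem realised_zsmul {m : ℤ} (h : GenusZeroLib.Realised k (X := X) m) (n : ℤ) :
    GenusZeroLib.Realised k (X := X) (n * m) := by
  rcases n with n | n
  · exact realised_nsmul k hdim h n
  · rw [Int.negSucc_eq, neg_mul]
    exact realised_neg k hdim (realised_nsmul k hdim h (n + 1))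


/-- Let X be a proper curve over the field k (proper, integral, of dimension one) which is smooth and
geometrically irreducible over k, of genus 0. If X has an invertible O_X-module of odd degree, then
X is isomorphic to P^1_k over k. -/
theorem result (k : Type u) [Field k] (X : Scheme.{u}) [X.Over (Spec (CommRingCat.of k))]
    [IsIntegral X] [IsProper (X ↘ (Spec (CommRingCat.of k)))] (hdim : topologicalKrullDim X = 1)
    [Smooth (X ↘ (Spec (CommRingCat.of k)))] [GeometricallyIrreducible (X ↘ (Spec (CommRingCat.of k)))] (hg : Curv2.genus k X = 0)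
    (L : X.Modules) (hL : PicF.IsInvertible L) (hodd : Odd (Curv2.deg k X L 1)) :
    ∃ e : X ≅ CohB1.ProjSpace 1 k, e.hom ≫ CohB1.ProjSpace.toSpec 1 k = X ↘ (Spec (CommRingCat.of k)) := by
  haveI := Groth.Agent.WeilRes.geometricallyConnected_of_geometricallyIrreducible (X ↘ Spec (CommRingCat.of k))
  have hO := CurvLib.isInvertible_structureModule (X := X)
  haveI := CurvLib.finite_HH (k := k) (CurvLib.isCoh_of_isInvertible hO) 1
  have h1 : Subsingleton (Coh.HH X (Coh.structureModule X) 1) :=
    (Module.finrank_zero_iff (R := k)).mp hg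
  have hΩ : GenusZeroLib.Realised k (X := X) (-2) :=
    ⟨_, CurveDualLib.omega_invertible_field k X hdim, by rw [CurveDualLib.deg_omega k X hdim, hg]; norm_num⟩
  obtain ⟨m, hm⟩ := hodd
  obtain ⟨M, hM, hd⟩ := GenusZeroLib.realised_add k hdim ⟨L, hL, rfl⟩ (realised_zsmul k hdim hΩ m)
  exact GenusZeroLib.exists_iso_of_deg_one k hdim h1 hM (by rw [hd, hm]; ring)

end Groth.Agent.S6544
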