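import Groth.Statements.S7180
import Groth.Agent.WEtNormalLib.Local
-- import your own Groth.Agent.* helpers here

set_option autoImplicit false
set_option linter.style.haveILetI false
set_option backward.isDefEq.respectTransparency false
universe u
open FlatMor AlgebraicGeometry CategoryTheory

namespace Groth.Agent.S7180

open AlgebraicGeometry CategoryTheory Limits in
/-- The source of a weakly étale morphism with normal target (all local rings integrally closed domains)
is normal. -/
theorem result {X Y : Scheme.{u}} (f : X ⟶ Y) [WeaklyEtale f] (hY : Pi1.IsNormalScheme Y) :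
    Pi1.IsNormalScheme X := by
  intro x
  obtain ⟨V, hV, hxV, -⟩ := exists_isAffineOpen_mem_and_subset (x := f.base x) (U := ⊤) trivial
  obtain ⟨U, hU, hxU, hUV⟩ := exists_isAffineOpen_mem_and_subset (x := x) (U := f ⁻¹ᵁ V) hxV
  letI := (f.appLE V U hUV).hom.toAlgebra
  haveI := Groth.Agent.WEtReducedLib.weaklyEtale_appLE f hU hV hUV
  let q := (hU.primeIdealOf ⟨x, hxU⟩).asIdeal
  let p := q.comap (algebraMap Γ(Y, V) Γ(X, U))
  let Ap := Localization.AtPrime p
  let Bq := Localization.AtPrime q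
  have hy : hV.fromSpec (⟨p, inferInstance⟩ : PrimeSpectrum Γ(Y, V)) ∈ V := by
    exact hV.range_fromSpec.le ⟨_, rfl⟩
  letI := TopCat.Presheaf.algebra_section_stalk Y.presheaf (⟨_, hy⟩ : V)
  haveI := hV.isLocalization_stalk' ⟨p, inferInstance⟩ hy
  obtain ⟨hd, hi⟩ := hY (hV.fromSpec (⟨p, inferInstance⟩ : PrimeSpectrum Γ(Y, V)))
  let eY := IsLocalization.algEquiv p.primeCompl (Y.presheaf.stalk (hV.fromSpec (⟨p, inferInstance⟩ : PrimeSpectrum Γ(Y, V)))) Ap
  haveI : IsDomain Ap := eY.symm.toMulEquiv.isDomain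
  haveI : IsIntegrallyClosed Ap := IsIntegrallyClosed.of_equiv eY.toRingEquiv
  letI : Algebra Ap Bq := (Localization.localRingHom p q (algebraMap Γ(Y, V) Γ(X, U)) rfl).toAlgebra
  haveI : IsScalarTower Γ(Y, V) Ap Bq := IsScalarTower.of_algebraMap_eq fun r => by
    rw [RingHom.algebraMap_toAlgebra (Localization.localRingHom p q (algebraMap Γ(Y, V) Γ(X, U)) rfl),
      Localization.localRingHom_to_map]
    exact IsScalarTower.algebraMap_apply Γ(Y, V) Γ(X, U) Bq r
  haveI : Algebra.WeaklyEtale Γ(X, U) Bq := Groth.Agent.WEtNormalLib.weaklyEtale_localization _ Bq q.primeCompl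
  haveI : Algebra.WeaklyEtale Γ(Y, V) Ap := Groth.Agent.WEtNormalLib.weaklyEtale_localization _ Ap p.primeCompl
  haveI : Algebra.WeaklyEtale Γ(Y, V) Bq := Algebra.WeaklyEtale.trans _ Γ(X, U) Bq
  haveI : Algebra.WeaklyEtale Ap Bq := Groth.Agent.S7127.result Γ(Y, V) Ap Bq
  obtain ⟨hBd, hBi⟩ := Groth.Agent.WEtNormalLib.normalDomain_of_weaklyEtale Ap Bq
  letI := X.presheaf.algebra_section_stalk (⟨x, hxU⟩ : U)
  haveI := hU.isLocalization_stalk ⟨x, hxU⟩
  let eX := IsLocalization.algEquiv q.primeCompl Bq (X.presheaf.stalk x)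
  haveI : IsDomain (X.presheaf.stalk x) := eX.symm.toMulEquiv.isDomain
  exact ⟨inferInstance, IsIntegrallyClosed.of_equiv eX.toRingEquiv⟩

end Groth.Agent.S7180
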