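import Groth.Statements.S4448
import Groth.Agent.LocFFLib.Norm
import Groth.Agent.AssPointLib.Basic

-- import your own Groth.Agent.* helpers here

set_option autoImplicit false
universe u
open CategoryTheory CategoryTheory.Limits AlgebraicGeometry
open EGA2

namespace Groth.Agent.S4448

open CategoryTheory CategoryTheory.Limits AlgebraicGeometry TopologicalSpace Opposite in
/-- The chart of the relative normalization at a point of the source. -/
theorem exists_chart {X : Scheme.{u}} [IsIntegral X] {K : Type u} [Field K] (φ : X.functionField →+* K)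
    (g : Spec (CommRingCat.of K) ⟶ X)
    (hg : g = Spec.map (CommRingCat.ofHom φ) ≫ X.fromSpecStalk (genericPoint X)) [QuasiCompact g] [QuasiSeparated g]
    (U : X.affineOpens) [Nonempty U.1] (hmem : g.toNormalization (IsLocalRing.closedPoint K) ∈ g.fromNormalization ⁻¹ᵁ U.1) :
    let ψ := (g.normalization.presheaf.germ (g.fromNormalization ⁻¹ᵁ U.1) _ hmem ≫
      Scheme.stalkClosedPointTo g.toNormalization).hom
    letI := (φ.comp (X.germToFunctionField U.1).hom).toAlgebra
    Function.Injective ψ ∧ (∀ a, ψ ((g.fromNormalization.app U.1).hom a) = φ ((X.germToFunctionField U.1).hom a)) ∧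
      ∀ z : K, _root_.IsIntegral Γ(X, U.1) z → z ∈ Set.range ψ := by
  intro ψ
  haveI : IsLocalHom (CommRingCat.ofHom φ).hom := ⟨fun a h => isUnit_iff_ne_zero.2 fun h0 => by
    simp [h0] at h⟩
  let Φ : (X.presheaf.stalk (genericPoint X)) ⟶ CommRingCat.of K := CommRingCat.ofHom φ
  haveI : IsLocalHom Φ.hom := inferInstanceAs (IsLocalHom (CommRingCat.ofHom φ).hom)
  have hgU : g (IsLocalRing.closedPoint K) ∈ U.1 := by
    rw [← g.toNormalization_fromNormalization, Scheme.Hom.comp_apply]
    exact hmem
  have key : ∀ (g' : Spec (CommRingCat.of K) ⟶ X) (_ : g' = g) (hm : g' (IsLocalRing.closedPoint K) ∈ U.1) (a : Γ(X, U.1)),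
      Scheme.stalkClosedPointTo g' (X.presheaf.germ U.1 _ hm a) = φ ((X.germToFunctionField U.1).hom a) := by
    intro g' hg' hm a
    obtain rfl := hg'.trans hg
    exact DFunLike.congr_fun (congrArg CommRingCat.Hom.hom
      (Scheme.germ_stalkClosedPointTo_Spec_fromSpecStalk Φ U.1 hm)) a
  have ha : ∀ a, ψ ((g.fromNormalization.app U.1).hom a) = φ ((X.germToFunctionField U.1).hom a) := fun a => by
    refine Eq.trans ?_ (key (g.toNormalization ≫ g.fromNormalization) g.toNormalization_fromNormalization hmem a)
    rw [Scheme.stalkClosedPointTo_comp]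
    exact congrArg (Scheme.stalkClosedPointTo g.toNormalization).hom
      (Scheme.Hom.germ_stalkMap_apply g.fromNormalization U.1 (g.toNormalization (IsLocalRing.closedPoint K)) hmem a).symm
  letI : Algebra Γ(X, U.1) Γ(Spec (CommRingCat.of K), g ⁻¹ᵁ U.1) := (g.app U.1).hom.toAlgebra
  let i : Γ(g.normalization, g.fromNormalization ⁻¹ᵁ U.1) ≅ CommRingCat.of (integralClosure Γ(X, U.1) Γ(Spec (CommRingCat.of K), g ⁻¹ᵁ U.1)) :=
    g.normalizationObjIso U.2
  let E₁ := (Spec (CommRingCat.of K)).presheaf.map (eqToHom (show g.toNormalization ⁻¹ᵁ g.fromNormalization ⁻¹ᵁ U.1 = g ⁻¹ᵁ U.1 by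
      simp [← Scheme.Hom.comp_preimage])).op
  let J : Γ(Spec (CommRingCat.of K), g ⁻¹ᵁ U.1) ⟶ CommRingCat.of K := E₁ ≫
    ((Spec (CommRingCat.of K)).presheaf.mapIso (eqToIso (Scheme.preimage_eq_top_of_closedPoint_mem g.toNormalization hmem).symm).op ≪≫
      Scheme.ΓSpecIso (CommRingCat.of K)).hom
  haveI : IsIso J := inferInstance
  have hJ : Function.Bijective J.hom := ConcreteCategory.bijective_of_isIso J
  have hψ : ∀ c, ψ c = J.hom ((i.hom.hom c).val) := fun c => by
    change (g.normalization.presheaf.germ _ _ hmem ≫ Scheme.stalkClosedPointTo g.toNormalization) c = _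
    rw [Scheme.germ_stalkClosedPointTo g.toNormalization _ hmem, Scheme.Hom.toNormalization_app_preimage g U]
    rfl
  have hinj : Function.Injective ψ := fun c d h => by
    rw [hψ, hψ] at h
    exact i.commRingCatIsoToRingEquiv.injective (Subtype.ext (hJ.1 h))
  have hE : ∀ a, J.hom ((g.app U.1).hom a) = φ ((X.germToFunctionField U.1).hom a) := fun a => by
    rw [← ha, hψ]
    congr 1
    rw [show g.fromNormalization.app U.1 = CommRingCat.ofHom (algebraMap Γ(X, U.1) (integralClosure Γ(X, U.1) Γ(Spec (CommRingCat.of K), g ⁻¹ᵁ U.1))) ≫ i.inv from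
      g.fromNormalization_app U.2]
    show _ = (i.hom.hom (i.inv.hom _)).val
    rw [← CommRingCat.comp_apply, i.inv_hom_id]
    rfl
  refine ⟨hinj, ha, ?_⟩
  letI := (φ.comp (X.germToFunctionField U.1).hom).toAlgebra
  intro z hz
  let E : Γ(Spec (CommRingCat.of K), g ⁻¹ᵁ U.1) ≃ₐ[Γ(X, U.1)] K :=
    AlgEquiv.ofRingEquiv (f := RingEquiv.ofBijective J.hom hJ) hE
  refine ⟨i.inv.hom ⟨E.symm z, hz.map E.symm.toAlgHom⟩, ?_⟩
  rw [hψ, ← CommRingCat.comp_apply, i.inv_hom_id]
  exact E.apply_symm_apply z



/-- Let X be an integral scheme with field of rational functions k(ξ), K a field extension of k(ξ) (an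
embedding φ), and X' the integral closure of X relative to K, i.e. the normalization of X along the
morphism g : Spec K ⟶ X through the generic point. Then X' is integral and normal, the generic point
ξ' of X' is the only point over ξ, the canonical morphism Spec K ⟶ X' hits ξ', and the field of
rational functions of X' (the local ring at ξ') maps isomorphically onto the algebraic closure of
k(ξ) in K. (The quasi-compactness and quasi-separatedness binders on g always hold; they are needed
only to form the normalization.) -/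
theorem result (X : Scheme.{u}) [IsIntegral X] (K : Type u) [Field K]
    (φ : X.functionField →+* K) (g : Spec (CommRingCat.of K) ⟶ X)
    (hg : g = Spec.map (CommRingCat.ofHom φ) ≫ X.fromSpecStalk (genericPoint X)) [QuasiCompact g] [QuasiSeparated g] :
    ∃ (_ : IsIntegral g.normalization), Pi1.IsNormalScheme g.normalization ∧
      g.fromNormalization.base ⁻¹' {genericPoint X} = {genericPoint g.normalization} ∧
      g.toNormalization.base (IsLocalRing.closedPoint K) = genericPoint g.normalization ∧
      Function.Injective (Scheme.stalkClosedPointTo g.toNormalization).hom ∧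
      Set.range (Scheme.stalkClosedPointTo g.toNormalization).hom =
        {y : K | ∃ q : Polynomial X.functionField, q.Monic ∧ Polynomial.eval₂ φ y q = 0} := by
  haveI hN : IsIntegral g.normalization := inferInstance
  haveI : Subsingleton (Spec (CommRingCat.of K)) := inferInstanceAs (Subsingleton (PrimeSpectrum K))
  set t := g.toNormalization (IsLocalRing.closedPoint K) with htdef
  have ht : t = genericPoint g.normalization := by
    refine IsGenericPoint.eq ?_ (genericPoint_spec _)
    show closure {t} = _
    have : Set.range g.toNormalization = {t} :=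
      Set.eq_singleton_iff_unique_mem.2 ⟨⟨_, rfl⟩, fun _ ⟨q, hq⟩ => hq ▸ congrArg _ (Subsingleton.elim q _)⟩
    rw [← this, g.toNormalization.denseRange.closure_range]
  haveI : Subsingleton (Spec X.functionField) := inferInstanceAs (Subsingleton (PrimeSpectrum X.functionField))
  have hgη : g.fromNormalization t = genericPoint X := by
    rw [← Scheme.Hom.comp_apply, g.toNormalization_fromNormalization, hg, Scheme.Hom.comp_apply,
      Subsingleton.elim (Spec.map (CommRingCat.ofHom φ) _) (IsLocalRing.closedPoint X.functionField),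
      Scheme.fromSpecStalk_closedPoint]
  have hmemU : ∀ U : X.Opens, ∀ x : X, x ∈ U → t ∈ g.fromNormalization ⁻¹ᵁ U := fun U x hx => by
    show g.fromNormalization t ∈ U
    rw [hgη]
    exact ((genericPoint_spec X).mem_open_set_iff U.isOpen).mpr ⟨x, trivial, hx⟩
  refine ⟨hN, fun x => ⟨inferInstance, ?_⟩, Set.eq_singleton_iff_unique_mem.2 ⟨?_, fun z hz => ?_⟩, ht, ?_, ?_⟩
  · obtain ⟨U, hU, hxU, -⟩ := exists_isAffineOpen_mem_and_subset (x := g.fromNormalization x) (U := (⊤ : X.Opens)) trivial
    haveI : Nonempty (⟨U, hU⟩ : X.affineOpens).1 := ⟨⟨_, hxU⟩⟩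
    obtain ⟨hψ, hψa, hψr⟩ := exists_chart φ g hg ⟨U, hU⟩ (hmemU U _ hxU)
    refine LocFFLib.isIntegrallyClosed_stalk (hU.preimage g.fromNormalization) ?_ x hxU
    set C := Γ(g.normalization, g.fromNormalization ⁻¹ᵁ U)
    set ψ := (g.normalization.presheaf.germ (g.fromNormalization ⁻¹ᵁ U) _ (hmemU U _ hxU) ≫
      Scheme.stalkClosedPointTo g.toNormalization).hom
    haveI : Nonempty (g.fromNormalization ⁻¹ᵁ U) := ⟨⟨x, hxU⟩⟩
    letI := (g.fromNormalization.app U).hom.toAlgebra
    letI := (φ.comp (X.germToFunctionField U).hom).toAlgebra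
    letI := ψ.toAlgebra
    haveI : IsScalarTower Γ(X, U) C K := IsScalarTower.of_algebraMap_eq fun a => (hψa a).symm
    haveI : Algebra.IsIntegral Γ(X, U) C := ⟨g.fromNormalization.isIntegral_app U hU⟩
    refine (isIntegrallyClosed_iff (FractionRing C)).2 fun {y} hy => ?_
    let l : FractionRing C →+* K := IsFractionRing.lift hψ
    have hl : ∀ c, l (algebraMap C _ c) = ψ c := fun c => IsFractionRing.lift_algebraMap hψ c
    have hly : _root_.IsIntegral C (l y) := hy.map ({ l with commutes' := hl } : FractionRing C →ₐ[C] K)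
    obtain ⟨c, hc⟩ := hψr _ (isIntegral_trans _ hly)
    exact ⟨c, l.injective ((hl c).trans hc)⟩
  · show g.fromNormalization (genericPoint g.normalization) = genericPoint X
    rw [← ht]; exact hgη
  · obtain ⟨U, hU, hηU, -⟩ := exists_isAffineOpen_mem_and_subset (x := genericPoint X) (U := (⊤ : X.Opens)) trivial
    have hzU : z ∈ g.fromNormalization ⁻¹ᵁ U := by
      show g.fromNormalization z ∈ U
      rw [show g.fromNormalization z = genericPoint X from hz]
      exact hηU
    haveI : Nonempty U := ⟨⟨_, hηU⟩⟩
    haveI : Nonempty (g.fromNormalization ⁻¹ᵁ U) := ⟨⟨z, hzU⟩⟩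
    let hV := hU.preimage g.fromNormalization
    letI := (g.fromNormalization.app U).hom.toAlgebra
    haveI : Algebra.IsIntegral Γ(X, U) Γ(g.normalization, g.fromNormalization ⁻¹ᵁ U) :=
      ⟨g.fromNormalization.isIntegral_app U hU⟩
    have hP : (hV.primeIdealOf ⟨z, hzU⟩).asIdeal = ⊥ := by
      refine Ideal.eq_bot_of_comap_eq_bot (R := Γ(X, U)) (eq_bot_iff.2 fun a ha => ?_)
      by_contra ha0
      have ha0' : a ≠ 0 := fun h => ha0 (h ▸ Ideal.zero_mem _)
      have h1 : z ∈ g.normalization.basicOpen (g.fromNormalization.app U a) := by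
        rw [← Scheme.preimage_basicOpen]
        show g.fromNormalization z ∈ X.basicOpen a
        rw [show g.fromNormalization z = genericPoint X from hz, X.mem_basicOpen a _ hηU]
        exact ((map_ne_zero_iff _ (germ_injective_of_isIntegral _ _ _)).2 ha0').isUnit
      exact (AssPointLib.mem_basicOpen_iff hV hzU _).1 h1 ha
    have htU : genericPoint g.normalization ∈ g.fromNormalization ⁻¹ᵁ U := ht ▸ hmemU U _ hηU
    have hle : hV.primeIdealOf ⟨z, hzU⟩ ⤳ hV.primeIdealOf ⟨_, htU⟩ :=
      (PrimeSpectrum.le_iff_specializes _ _).1 (show (hV.primeIdealOf ⟨z, hzU⟩).asIdeal ≤ _ by rw [hP]; exact bot_le)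
    have := hle.map hV.fromSpec.continuous
    rw [hV.fromSpec_primeIdealOf, hV.fromSpec_primeIdealOf] at this
    exact (this.antisymm ((genericPoint_spec g.normalization).specializes trivial)).eq
  · haveI : IsDomain (g.normalization.presheaf.stalk t) := inferInstance
    have hF : IsField (g.normalization.presheaf.stalk t) := by
      rw [ht]; exact Field.toIsField g.normalization.functionField
    letI := hF.toField
    exact RingHom.injective (Scheme.stalkClosedPointTo g.toNormalization).hom
  · obtain ⟨U, hU, hηU, -⟩ := exists_isAffineOpen_mem_and_subset (x := genericPoint X) (U := (⊤ : X.Opens)) trivial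
    haveI : Nonempty (⟨U, hU⟩ : X.affineOpens).1 := ⟨⟨_, hηU⟩⟩
    haveI : Nonempty U := ⟨⟨_, hηU⟩⟩
    have htU := hmemU U _ hηU
    haveI : Nonempty (g.fromNormalization ⁻¹ᵁ U) := ⟨⟨t, htU⟩⟩
    obtain ⟨hψ, hψa, hψr⟩ := exists_chart φ g hg ⟨U, hU⟩ htU
    letI : Algebra X.functionField K := φ.toAlgebra
    letI : Algebra Γ(X, U) X.functionField := (X.germToFunctionField U).hom.toAlgebra
    letI := (φ.comp (X.germToFunctionField U).hom).toAlgebra
    haveI : IsFractionRing Γ(X, U) X.functionField := functionField_isFractionRing_of_isAffineOpen X _ hU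
    haveI : IsScalarTower Γ(X, U) X.functionField K := .of_algebraMap_eq fun _ => rfl
    have hF : IsField (g.normalization.presheaf.stalk t) := by
      rw [ht]; exact Field.toIsField g.normalization.functionField
    letI := hF.toField
    set σ := (Scheme.stalkClosedPointTo g.toNormalization).hom
    change Set.range σ = {y : K | _root_.IsIntegral X.functionField y}
    refine Set.Subset.antisymm ?_ fun y hy => ?_
    · rintro _ ⟨s, rfl⟩
      let hV := hU.preimage g.fromNormalization
      letI := TopCat.Presheaf.algebra_section_stalk g.normalization.presheaf (⟨t, htU⟩ : (g.fromNormalization ⁻¹ᵁ U : g.normalization.Opens))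
      haveI := hV.isLocalization_stalk ⟨t, htU⟩
      obtain ⟨c, d, hcd⟩ := IsLocalization.exists_mk'_eq (hV.primeIdealOf ⟨t, htU⟩).asIdeal.primeCompl s
      have hint : ∀ c, _root_.IsIntegral X.functionField (σ (g.normalization.presheaf.germ _ t htU c)) := fun c => by
        refine IsIntegral.tower_top (R := Γ(X, U)) ?_
        obtain ⟨q, hq, hq0⟩ := g.fromNormalization.isIntegral_app U hU c
        refine ⟨q, hq, ?_⟩
        change Polynomial.eval₂ _ ((g.normalization.presheaf.germ _ t htU ≫ Scheme.stalkClosedPointTo g.toNormalization).hom c) q = 0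
        rw [show algebraMap Γ(X, U) K = ((g.normalization.presheaf.germ _ t htU ≫
          Scheme.stalkClosedPointTo g.toNormalization).hom).comp (g.fromNormalization.app U).hom from
          RingHom.ext fun a => (hψa a).symm, ← Polynomial.hom_eval₂, hq0, map_zero]
      have h2 : s * g.normalization.presheaf.germ _ t htU d = g.normalization.presheaf.germ _ t htU c := by
        rw [← hcd]; exact IsLocalization.mk'_spec _ c d
      have hd0 : σ (g.normalization.presheaf.germ _ t htU d) ≠ 0 :=
        ((IsLocalization.map_units (g.normalization.presheaf.stalk t) d).map σ).ne_zero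
      have h3 : σ s = σ (g.normalization.presheaf.germ _ t htU c) * (σ (g.normalization.presheaf.germ _ t htU d))⁻¹ := by
        rw [eq_mul_inv_iff_mul_eq₀ hd0, ← map_mul, h2]
      show _root_.IsIntegral X.functionField (σ s)
      rw [h3]
      exact (hint c).mul (hint d).inv
    · obtain ⟨m, hm⟩ := IsIntegral.exists_multiple_integral_of_isLocalization (nonZeroDivisors Γ(X, U)) y hy
      obtain ⟨c, hc⟩ := hψr _ hm
      have h0 : algebraMap Γ(X, U) K (m : Γ(X, U)) ≠ 0 := by
        rw [IsScalarTower.algebraMap_apply Γ(X, U) X.functionField K]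
        exact (map_ne_zero _).2 (IsFractionRing.to_map_ne_zero_of_mem_nonZeroDivisors m.2)
      refine ⟨g.normalization.presheaf.germ _ t htU c * (g.normalization.presheaf.germ _ t htU (g.fromNormalization.app U m))⁻¹, ?_⟩
      rw [map_mul, map_inv₀]
      change (g.normalization.presheaf.germ _ t htU ≫ Scheme.stalkClosedPointTo g.toNormalization).hom c *
        ((g.normalization.presheaf.germ _ t htU ≫ Scheme.stalkClosedPointTo g.toNormalization).hom (g.fromNormalization.app U m))⁻¹ = y
      rw [hψa, hc, Submonoid.smul_def, Algebra.smul_def]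
      exact mul_inv_eq_iff_eq_mul₀ h0 |>.2 (mul_comm _ _)


end Groth.Agent.S4448
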