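import Groth.Statements.S7382
import Groth.Agent.NoethApproxLib.Integral
-- import your own Groth.Agent.* helpers here

set_option autoImplicit false
universe u
open CategoryTheory AlgebraicGeometry
open Lim

namespace Groth.Agent.S7382

/-- Let `f : X → S` be integral with `S` quasi-compact and quasi-separated. Then, in the category of
schemes over `S`, `X` is the limit of a nonempty directed inverse system of schemes `X_i → S` that
are finite and locally of finite presentation. -/
theorem result {X S : Scheme.{u}} (f : X ⟶ S) [IsIntegralHom f]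
    [CompactSpace S] [QuasiSeparatedSpace S] :
    ∃ (I : Type u) (_ : Preorder I) (_ : IsDirected I (fun a b => a ≤ b)) (_ : Nonempty I)
      (D : Iᵒᵖ ⥤ Over S) (c : Limits.Cone D) (_ : Limits.IsLimit c),
      (∀ i, IsFinite (D.obj i).hom ∧ LocallyOfFinitePresentation (D.obj i).hom) ∧
      Nonempty (c.pt ≅ Over.mk f) := by
  haveI : CompactSpace X := QuasiCompact.compactSpace_of_compactSpace f
  haveI : QuasiSeparatedSpace X := quasiSeparatedSpace_of_quasiSeparated f
  obtain ⟨P₀⟩ := NoethApproxLib.exists_system f
  obtain ⟨j₀, h⟩ := P₀.exists_isAffineHom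
  let P := P₀.tail j₀
  haveI : ∀ i, IsAffineHom (P.D.obj i).hom := fun i ↦ h _ (homOfLE i.unop.2).op
  exact ⟨P.FinIdx, inferInstance, inferInstance, inferInstance, P.finDiag, P.finCone,
    P.nonempty_isLimit_finCone.some,
    fun a ↦ ⟨a.unop.isFinite, MorphismProperty.comp_mem @LocallyOfFinitePresentation _ _
      ((P.imageSys _).lfp _) (P.lfp _)⟩, ⟨Iso.refl _⟩⟩

end Groth.Agent.S7382
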