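import Groth.Statements.S0659
import Groth.Agent.EtSliceLib.Hpull

set_option maxHeartbeats 1000000
set_option linter.unusedSectionVars false
set_option backward.isDefEq.respectTransparency false
set_option backward.isDefEq.respectTransparency.types false

set_option autoImplicit false
open CategoryTheory CategoryTheory.Limits AlgebraicGeometry Opposite
universe u
open EtCore

namespace Groth.Agent.S0659

open CategoryTheory.Abelian Groth.Agent.EtShLib EtSliceLib

section MV

variable {X : Scheme.{u}} (U V : X.Opens)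

/-- An open subscheme as an object of the small étale site. -/
noncomputable abbrev openEt (T : X.Opens) : X.Etale := Scheme.Etale.mk T.ι

/-- An inclusion of opens in the small étale site. -/
noncomputable abbrev inclEt {S T : X.Opens} (h : S ≤ T) : openEt S ⟶ openEt T :=
  MorphismProperty.Over.homMk (X.homOfLE h) (X.homOfLE_ι h)

theorem mono_freeMap {A B : X.Etale} (φ : A ⟶ B) [Mono φ.left] : Mono (freeMap φ) := by
  refine (mono_iff_stalks (A := AddCommGrpCat.{u + 1}) _).2 fun Ω _ _ ξ => ?_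
  classical
  let b : Fib ξ B → (AddCommGrpCat.of (ULift.{u + 1} ℤ) ⟶ (stk (A := AddCommGrpCat.{u + 1}) ξ).obj (free A)) := fun v =>
    if h : ∃ a : Fib ξ A, a.map φ = v then extConstSec A ℤ ≫ germ ξ _ A h.choose else 0
  obtain ⟨r, hr, -⟩ := existsUnique_stalk_extConst B ℤ ξ b
  obtain ⟨i, -, hi⟩ := existsUnique_stalk_extConst A ℤ ξ (fun a => extConstSec A ℤ ≫ germ ξ _ A a)
  have h1 : (stk (A := AddCommGrpCat.{u + 1}) ξ).map (freeMap φ) ≫ r = i := hi _ fun a => by
    refine ulift_int_hom_ext ?_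
    have hinj : ∀ a' : Fib ξ A, a'.map φ = a.map φ → a' = a := fun a' h =>
      Fib.ext ((cancel_mono φ.left).1 (congrArg Fib.hom h))
    have hex : ∃ a' : Fib ξ A, a'.map φ = a.map φ := ⟨a, rfl⟩
    have h2 := congrArg (fun t => t (ULift.up 1)) (hr (a.map φ))
    simp only [ConcreteCategory.comp_apply] at h2 ⊢
    show r ((stk (A := AddCommGrpCat.{u + 1}) ξ).map (freeMap φ) (germ (A := AddCommGrpCat.{u + 1}) ξ (free A) A a (gen A))) = _
    rw [germ_natural_apply, freeMap_gen, germ_res_apply]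
    refine h2.trans ?_
    simp only [b, dif_pos hex]
    rw [hinj _ hex.choose_spec]
    rfl
  have h3 : i = 𝟙 _ := (hi _ fun a => by rw [Category.comp_id]).symm
  haveI : Mono ((stk (A := AddCommGrpCat.{u + 1}) ξ).map (freeMap φ) ≫ r) := by rw [h1, h3]; infer_instance
  exact mono_of_mono _ r

/-- The Mayer-Vietoris complex of free sheaves. -/
noncomputable def mvSc : ShortComplex (EtCoh.Ab X) :=
  ShortComplex.mk
    (biprod.lift (freeMap (inclEt (inf_le_left : U ⊓ V ≤ U))) (-freeMap (inclEt (inf_le_right : U ⊓ V ≤ V))))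
    (biprod.desc (toConst (openEt U)) (toConst (openEt V)))
    (by rw [biprod.lift_desc, Preadditive.neg_comp, freeMap_toConst, freeMap_toConst, add_neg_cancel])

variable {U V}

theorem glue (hUV : U ⊔ V = ⊤) (G : EtCoh.Ab X) (s : ToType (G.obj.obj (op (openEt U))))
    (t : ToType (G.obj.obj (op (openEt V))))
    (h : G.obj.map (inclEt (inf_le_left : U ⊓ V ≤ U)).op s = G.obj.map (inclEt (inf_le_right : U ⊓ V ≤ V)).op t) :
    ∃! m : EtCoh.const X ℤ ⟶ G, (toConst (openEt U) ≫ m).hom.app (op (openEt U)) (gen _) = s ∧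
      (toConst (openEt V) ≫ m).hom.app (op (openEt V)) (gen _) = t := by
  let hT := EtCore.topIsTerminal X
  have key : ∀ (T : X.Opens) (m : EtCoh.const X ℤ ⟶ G), (toConst (openEt T) ≫ m).hom.app (op (openEt T)) (gen _) =
      G.obj.map (hT.from (openEt T)).op ((EtCore.gsec X).map m (DescSecLib.etOneSec X ⟨1⟩)) := fun T m => by
    show m.hom.app _ ((toConst (openEt T)).hom.app (op (openEt T)) (gen (openEt T))) = _
    rw [toConst, desc_gen, NatTrans.naturality_apply]
    rfl
  let T : Bool → X.Opens := fun b => cond b U V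
  let π : ∀ b, openEt (T b) ⟶ EtCoh.top X := fun b => hT.from _
  have hπ : ∀ b, (π b).left = (T b).ι := fun b => (Category.comp_id _).symm.trans (MorphismProperty.Over.w (π b))
  have hcov : ∀ x : X, ∃ b, x ∈ T b := fun x => by
    rcases (show x ∈ U ∨ x ∈ V from (show x ∈ U ⊔ V by rw [hUV]; trivial)) with hx | hx
    exacts [⟨true, hx⟩, ⟨false, hx⟩]
  have hmem : Sieve.ofArrows (fun b : Bool => openEt (T b)) π ∈ X.smallEtaleTopology (EtCoh.top X) := by
    rw [Scheme.ofArrows_mem_smallEtaleTopology_iff]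
    refine Set.eq_univ_of_forall fun (x : X) => ?_
    obtain ⟨b, hb⟩ := hcov x
    exact Set.mem_iUnion.2 ⟨b, ⟨x, hb⟩, by rw [hπ]; rfl⟩
  have hsh : (Presieve.ofArrows (fun b : Bool => openEt (T b)) π).IsSheafFor (G.obj ⋙ forget AddCommGrpCat.{u + 1}) := by
    rw [Presieve.isSheafFor_iff_generate]
    exact ((isSheaf_iff_isSheaf_of_type _ _).1
      (GrothendieckTopology.HasSheafCompose.isSheaf G.obj G.property)) _ hmem
  let x : ∀ b, G.obj.obj (op (openEt (T b))) := fun b => Bool.rec (motive := fun b => G.obj.obj (op (openEt (T b)))) t s b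
  have hmono : ∀ (b) {Z : X.Etale} (p q : Z ⟶ openEt (T b)), p = q := fun b Z p q =>
    MorphismProperty.Over.Hom.ext ((cancel_mono (T b).ι).1
      ((MorphismProperty.Over.w p).trans (MorphismProperty.Over.w q).symm))
  have hfac : ∀ {Z : X.Etale} (p : Z ⟶ openEt U) (q : Z ⟶ openEt V), G.obj.map p.op s = G.obj.map q.op t := by
    intro Z p q
    have hr : Set.range Z.hom.base ⊆ Set.range (U ⊓ V).ι.base := by
      rintro _ ⟨z, rfl⟩
      rw [Scheme.Opens.range_ι]
      refine ⟨?_, ?_⟩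
      · rw [← MorphismProperty.Over.w p]; exact (p.left z).2
      · rw [← MorphismProperty.Over.w q]; exact (q.left z).2
    let r : Z ⟶ openEt (U ⊓ V) :=
      MorphismProperty.Over.homMk (IsOpenImmersion.lift (U ⊓ V).ι Z.hom hr) (IsOpenImmersion.lift_fac _ _ _)
    obtain rfl : p = r ≫ inclEt inf_le_left := hmono true _ _
    obtain rfl : q = r ≫ inclEt inf_le_right := hmono false _ _
    rw [op_comp, op_comp, Functor.map_comp, Functor.map_comp, ConcreteCategory.comp_apply,
      ConcreteCategory.comp_apply, h]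
  obtain ⟨g, hg, hg'⟩ := (Presieve.isSheafFor_arrows_iff _ _).1 hsh x (fun a b Z p q _ => by
    cases a <;> cases b
    · obtain rfl := hmono false p q; rfl
    · exact (hfac q p).symm
    · exact hfac p q
    · obtain rfl := hmono true p q; rfl)
  refine ⟨((EtCore.constAdj X).homEquiv _ _).symm (intHom g), ⟨?_, ?_⟩, fun m hm => ?_⟩
  · rw [key, gsec_map_symm, intHom_one]
    exact hg true
  · rw [key, gsec_map_symm, intHom_one]
    exact hg false
  · refine DescSecLib.et_ext_Z _ _ ?_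
    rw [gsec_map_symm, intHom_one]
    refine hg' _ fun b => ?_
    cases b
    · exact (key V m).symm.trans hm.2
    · exact (key U m).symm.trans hm.1

theorem mvSc_shortExact (hUV : U ⊔ V = ⊤) : (mvSc U V).ShortExact := by
  have hh : ∀ {G : EtCoh.Ab X} (a : (mvSc U V).X₂ ⟶ G), (mvSc U V).f ≫ a = 0 →
      ∃! m : EtCoh.const X ℤ ⟶ G, (mvSc U V).g ≫ m = a := by
    intro G a ha
    have ha' : freeMap (inclEt (inf_le_left : U ⊓ V ≤ U)) ≫ biprod.inl ≫ a =
        freeMap (inclEt (inf_le_right : U ⊓ V ≤ V)) ≫ biprod.inr ≫ a := by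
      rw [← sub_eq_zero, ← ha]
      simp [mvSc, biprod.lift_eq, sub_eq_add_neg]
    have h' := congrArg (fun t => t.hom.app (op (openEt (U ⊓ V))) (gen _)) ha'
    simp only [freeMap_app] at h'
    obtain ⟨m, ⟨hm1, hm2⟩, hu⟩ := glue hUV G _ _ h'
    refine ⟨m, biprod.hom_ext' _ _ ?_ ?_, fun m' hm' => hu m' ⟨?_, ?_⟩⟩
    · simp only [mvSc, biprod.inl_desc_assoc]
      exact free_hom_ext _ hm1
    · simp only [mvSc, biprod.inr_desc_assoc]
      exact free_hom_ext _ hm2
    · rw [← hm']; simp [mvSc]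
    · rw [← hm']; simp [mvSc]
  let hc : IsColimit (CokernelCofork.ofπ (mvSc U V).g (mvSc U V).zero) :=
    CokernelCofork.IsColimit.ofπ _ _ (fun a ha => (hh a ha).choose)
        (fun a ha => (hh a ha).choose_spec.1) (fun a ha m hm => (hh a ha).choose_spec.2 m hm)
  haveI : Mono (inclEt (inf_le_left : U ⊓ V ≤ U)).left := inferInstanceAs (Mono (X.homOfLE (inf_le_left : U ⊓ V ≤ U)))
  haveI := mono_freeMap (inclEt (inf_le_left : U ⊓ V ≤ U))
  exact
    { exact := ShortComplex.exact_of_g_is_cokernel _ hc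
      mono_f := by
        haveI : Mono ((mvSc U V).f ≫ biprod.fst) := by
          simp only [mvSc, biprod.lift_fst]
          infer_instance
        exact mono_of_mono _ biprod.fst
      epi_g := Cofork.IsColimit.epi hc }

end MV

/-- Let X = U ∪ V be a union of two open subschemes and F an abelian sheaf on the small etale site of X.
Writing r_U, r_V for the pullback maps H^n(X, F) -> H^n(U, F|_U), H^n(V, F|_V) and d for the
difference of the two further pullbacks to H^n(U ∩ V, F|_{U ∩ V}), there are connecting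
homomorphisms δ_n : H^n(U ∩ V) -> H^{n+1}(X) making the Mayer-Vietoris sequence exact: (r_U, r_V) is
injective in degree 0 and has kernel the image of δ in positive degrees, d has kernel the image of
(r_U, r_V), and δ has kernel the image of d. (Functoriality in F is not stated.) (Exactness of
pullback of abelian sheaves, which always holds, is carried as an instance hypothesis.) -/
theorem result (X : Scheme.{u}) (U V : X.Opens) (hUV : U ⊔ V = ⊤) (F : EtCoh.Ab X)
    [PreservesFiniteLimits (EtCoh.pull U.ι)] [PreservesFiniteLimits (EtCoh.pull V.ι)]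
    [PreservesFiniteLimits (EtCoh.pull (X.homOfLE (inf_le_left : U ⊓ V ≤ U)))]
    [PreservesFiniteLimits (EtCoh.pull (X.homOfLE (inf_le_right : U ⊓ V ≤ V)))] :
    ∃ δ : ∀ n : ℕ, EtCoh.H ↑(U ⊓ V) ((EtCoh.pull (U ⊓ V).ι).obj F) n →+ EtCoh.H X F (n + 1),
      (AddMonoidHom.prod (EtCore.Hpull U.ι F 0) (EtCore.Hpull V.ι F 0)).ker = ⊥ ∧
      (∀ n : ℕ, (AddMonoidHom.prod (EtCore.Hpull U.ι F (n + 1)) (EtCore.Hpull V.ι F (n + 1))).ker = (δ n).range) ∧
      (∀ n : ℕ, (((EtCore.HpullVia (X.homOfLE (inf_le_left : U ⊓ V ≤ U)) U.ι (U ⊓ V).ι (X.homOfLE_ι inf_le_left) F n)).comp (AddMonoidHom.fst _ _) - ((EtCore.HpullVia (X.homOfLE (inf_le_right : U ⊓ V ≤ V)) V.ι (U ⊓ V).ι (X.homOfLE_ι inf_le_right) F n)).comp (AddMonoidHom.snd _ _)).ker =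
        (AddMonoidHom.prod (EtCore.Hpull U.ι F n) (EtCore.Hpull V.ι F n)).range) ∧
      (∀ n : ℕ, (δ n).ker = (((EtCore.HpullVia (X.homOfLE (inf_le_left : U ⊓ V ≤ U)) U.ι (U ⊓ V).ι (X.homOfLE_ι inf_le_left) F n)).comp (AddMonoidHom.fst _ _) - ((EtCore.HpullVia (X.homOfLE (inf_le_right : U ⊓ V ≤ V)) V.ι (U ⊓ V).ι (X.homOfLE_ι inf_le_right) F n)).comp (AddMonoidHom.snd _ _)).range) := by
  let S := mvSc U V
  have hS : S.ShortExact := mvSc_shortExact hUV
  let W := openEt (U ⊓ V)
  let eW : ∀ n, Ext.{u + 1} (free W) F n ≃+ EtCoh.H ↑(U ⊓ V) ((EtCoh.pull (U ⊓ V).ι).obj F) n :=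
    fun n => AddEquiv.ofBijective (psi W F n) (psi_bijective W n F)
  let δ : ∀ n : ℕ, EtCoh.H ↑(U ⊓ V) ((EtCoh.pull (U ⊓ V).ι).obj F) n →+ EtCoh.H X F (n + 1) :=
    fun n => (hS.extClass.precomp F (add_comm 1 n)).comp (eW n).symm.toAddMonoidHom
  have hU : ∀ n e, EtCore.Hpull U.ι F n e = psi (openEt U) F n ((Ext.mk₀ (toConst (openEt U))).comp e (zero_add n)) :=
    fun n e => Hpull_eq_psi (openEt U) F n e
  have hV : ∀ n e, EtCore.Hpull V.ι F n e = psi (openEt V) F n ((Ext.mk₀ (toConst (openEt V))).comp e (zero_add n)) :=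
    fun n e => Hpull_eq_psi (openEt V) F n e
  have hVU : ∀ n y, EtCore.HpullVia (X.homOfLE (inf_le_left : U ⊓ V ≤ U)) U.ι (U ⊓ V).ι (X.homOfLE_ι inf_le_left) F n
      (psi (openEt U) F n y) = psi W F n ((Ext.mk₀ (freeMap (inclEt inf_le_left))).comp y (zero_add n)) :=
    fun n y => HpullVia_eq_psi (inclEt (inf_le_left : U ⊓ V ≤ U)) F n y
  have hVV : ∀ n y, EtCore.HpullVia (X.homOfLE (inf_le_right : U ⊓ V ≤ V)) V.ι (U ⊓ V).ι (X.homOfLE_ι inf_le_right) F n
      (psi (openEt V) F n y) = psi W F n ((Ext.mk₀ (freeMap (inclEt inf_le_right))).comp y (zero_add n)) :=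
    fun n y => HpullVia_eq_psi (inclEt (inf_le_right : U ⊓ V ≤ V)) F n y
  have hg : ∀ n e, AddMonoidHom.prod (EtCore.Hpull U.ι F n) (EtCore.Hpull V.ι F n) e = 0 ↔
      (Ext.mk₀ S.g).comp e (zero_add n) = 0 := by
    intro n e
    rw [AddMonoidHom.prod_apply, Prod.mk_eq_zero, hU, hV]
    constructor
    · rintro ⟨h1, h2⟩
      refine Ext.biprod_ext ?_ ?_
      · rw [← Ext.comp_assoc_of_second_deg_zero, Ext.mk₀_comp_mk₀, Ext.comp_zero]
        simp only [S, mvSc, biprod.inl_desc]
        exact (injective_iff_map_eq_zero _).1 (psi_bijective (openEt U) n F).1 _ h1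
      · rw [← Ext.comp_assoc_of_second_deg_zero, Ext.mk₀_comp_mk₀, Ext.comp_zero]
        simp only [S, mvSc, biprod.inr_desc]
        exact (injective_iff_map_eq_zero _).1 (psi_bijective (openEt V) n F).1 _ h2
    · intro h
      have h1 := congrArg (fun z => (Ext.mk₀ (biprod.inl : free (openEt U) ⟶ S.X₂)).comp z (zero_add n)) h
      have h2 := congrArg (fun z => (Ext.mk₀ (biprod.inr : free (openEt V) ⟶ S.X₂)).comp z (zero_add n)) h
      simp only [← Ext.comp_assoc_of_second_deg_zero, Ext.mk₀_comp_mk₀, Ext.comp_zero, S, mvSc,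
        biprod.inl_desc, biprod.inr_desc] at h1 h2
      rw [h1, h2, map_zero, map_zero]
      exact ⟨rfl, rfl⟩
  refine ⟨δ, ?_, fun n => ?_, fun n => ?_, fun n => ?_⟩
  · refine (AddMonoidHom.ker_eq_bot_iff _).2 ((injective_iff_map_eq_zero _).2 fun e he => ?_)
    obtain ⟨a, rfl⟩ := (Ext.mk₀_bijective _ _).2 e
    have h := (hg 0 _).1 he
    rw [Ext.mk₀_comp_mk₀] at h
    haveI : Epi S.g := hS.epi_g
    rw [← Ext.mk₀_zero] at h
    have h' : S.g ≫ a = S.g ≫ 0 := by rw [comp_zero]; exact (Ext.mk₀_bijective _ _).1 h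
    rw [(cancel_epi S.g).1 h', Ext.mk₀_zero]
  · ext e
    rw [AddMonoidHom.mem_ker, hg]
    constructor
    · intro h
      obtain ⟨z, hz⟩ := Ext.contravariant_sequence_exact₃ hS F e h (add_comm 1 n)
      refine ⟨eW n z, ?_⟩
      show hS.extClass.comp ((eW n).symm (eW n z)) (add_comm 1 n) = e
      rw [AddEquiv.symm_apply_apply]
      exact hz
    · rintro ⟨z, rfl⟩
      show (Ext.mk₀ S.g).comp (hS.extClass.comp ((eW n).symm z) (add_comm 1 n)) (zero_add (n + 1)) = 0
      exact hS.comp_extClass_assoc _ _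
  · ext ⟨a, b⟩
    rw [AddMonoidHom.mem_ker]
    obtain ⟨yu, rfl⟩ := (psi_bijective (openEt U) n F).2 a
    obtain ⟨yv, rfl⟩ := (psi_bijective (openEt V) n F).2 b
    simp only [AddMonoidHom.sub_apply, AddMonoidHom.comp_apply, AddMonoidHom.coe_fst, AddMonoidHom.coe_snd]
    rw [hVU, hVV, ← (psi W F n).map_sub, map_eq_zero_iff _ (psi_bijective W n F).1]
    constructor
    · intro h
      let y : Ext.{u + 1} S.X₂ F n := (Ext.mk₀ biprod.fst).comp yu (zero_add n) + (Ext.mk₀ biprod.snd).comp yv (zero_add n)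
      have hy : (Ext.mk₀ S.f).comp y (zero_add n) = 0 := by
        simp only [y, S, mvSc, Ext.comp_add, ← Ext.comp_assoc_of_second_deg_zero, Ext.mk₀_comp_mk₀,
          biprod.lift_fst, biprod.lift_snd, Ext.mk₀_neg, Ext.neg_comp, ← sub_eq_add_neg]
        exact h
      obtain ⟨e, he⟩ := Ext.contravariant_sequence_exact₂ hS F y hy
      have h1 := congrArg (fun z => (Ext.mk₀ (biprod.inl : free (openEt U) ⟶ S.X₂)).comp z (zero_add n)) he
      have h2 := congrArg (fun z => (Ext.mk₀ (biprod.inr : free (openEt V) ⟶ S.X₂)).comp z (zero_add n)) he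
      simp only [y, S, mvSc, Ext.comp_add, ← Ext.comp_assoc_of_second_deg_zero, Ext.mk₀_comp_mk₀,
        biprod.inl_desc, biprod.inr_desc, biprod.inl_fst, biprod.inl_snd, biprod.inr_fst, biprod.inr_snd,
        Ext.mk₀_id_comp, Ext.mk₀_zero, Ext.zero_comp, add_zero, zero_add] at h1 h2
      refine ⟨e, ?_⟩
      rw [AddMonoidHom.prod_apply, hU, hV, h1, h2]
    · rintro ⟨e, he⟩
      rw [AddMonoidHom.prod_apply, hU, hV, Prod.mk.injEq] at he
      rw [← (psi_bijective (openEt U) n F).1 he.1, ← (psi_bijective (openEt V) n F).1 he.2]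
      simp only [← Ext.comp_assoc_of_second_deg_zero, Ext.mk₀_comp_mk₀, freeMap_toConst, sub_self]
  · ext z
    obtain ⟨z, rfl⟩ := (eW n).surjective z
    rw [AddMonoidHom.mem_ker]
    show hS.extClass.comp ((eW n).symm (eW n z)) (add_comm 1 n) = 0 ↔ _
    rw [AddEquiv.symm_apply_apply]
    constructor
    · intro h
      obtain ⟨y, hy⟩ := Ext.contravariant_sequence_exact₁ hS F z (add_comm 1 n) h
      refine ⟨(psi (openEt U) F n ((Ext.mk₀ biprod.inl).comp y (zero_add n)),
        psi (openEt V) F n ((Ext.mk₀ biprod.inr).comp y (zero_add n))), ?_⟩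
      simp only [AddMonoidHom.sub_apply, AddMonoidHom.comp_apply, AddMonoidHom.coe_fst, AddMonoidHom.coe_snd]
      rw [hVU, hVV, ← (psi W F n).map_sub, ← hy]
      refine congrArg (psi W F n) ?_
      simp only [S, mvSc, ← Ext.comp_assoc_of_second_deg_zero, Ext.mk₀_comp_mk₀, sub_eq_add_neg,
        ← Ext.neg_comp, ← Ext.mk₀_neg, ← Ext.add_comp, ← Ext.mk₀_add, biprod.lift_eq, Preadditive.neg_comp]
    · rintro ⟨⟨a, b⟩, hab⟩
      obtain ⟨yu, rfl⟩ := (psi_bijective (openEt U) n F).2 a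
      obtain ⟨yv, rfl⟩ := (psi_bijective (openEt V) n F).2 b
      simp only [AddMonoidHom.sub_apply, AddMonoidHom.comp_apply, AddMonoidHom.coe_fst, AddMonoidHom.coe_snd] at hab
      rw [hVU, hVV, ← (psi W F n).map_sub] at hab
      have hz : z = (Ext.mk₀ S.f).comp ((Ext.mk₀ biprod.fst).comp yu (zero_add n) +
          (Ext.mk₀ biprod.snd).comp yv (zero_add n)) (zero_add n) := by
        rw [← (psi_bijective W n F).1 hab]
        simp only [S, mvSc, Ext.comp_add, ← Ext.comp_assoc_of_second_deg_zero, Ext.mk₀_comp_mk₀,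
          biprod.lift_fst, biprod.lift_snd, Ext.mk₀_neg, Ext.neg_comp, ← sub_eq_add_neg]
      rw [hz, hS.extClass_comp_assoc]

end Groth.Agent.S0659
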