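import Groth.Statements.S2905
import Groth.Agent.SubmDescLib.Effective
import Groth.Agent.SubmDescLib.QFRefine
-- import your own Groth.Agent.* helpers here

set_option autoImplicit false
open CategoryTheory CategoryTheory.Limits AlgebraicGeometry Opposite
universe u
open SGA1

namespace Groth.Agent.S2905

/-- Let S be locally Noetherian and g : S' ⟶ S universally submersive, of finite type and quasi-finite.
Then every descent datum relative to g whose underlying scheme is etale, separated and quasi-compact
over S' is isomorphic to the canonical descent datum of a scheme etale, separated and quasi-compact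
over S. (Descent data relative to g are taken in functor-of-points form.) -/
theorem result {S' S : Scheme.{u}} [IsLocallyNoetherian S] (g : S' ⟶ S)
    (hg : SGA1.UnivSubmersive g) [LocallyOfFiniteType g] [QuasiCompact g] [LocallyQuasiFinite g]
    (D : Desc.SchDD g) [QuasiCompact D.obj.hom] [IsSeparated D.obj.hom] [Etale D.obj.hom] :
    ∃ U : Over S, QuasiCompact U.hom ∧ IsSeparated U.hom ∧ Etale U.hom ∧ Nonempty ((Desc.toDD g).obj U ≅ D) := by
  refine SubmDescLib.effective_of_complete g hg D ?_
  intro B _ _ _ _ _ s D' _ _ _
  haveI : HenselianLocalRing B := HenselLib.henselianLocalRing_of_henselianRing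
  obtain ⟨X', r, hfin, hsurj⟩ := SubmDescLib.exists_finite_surjective_refinement (Limits.pullback.snd g s)
    (MorphismProperty.pullback_snd g s hg)
  exact SubmDescLib.exists_isQuot_of_finite_refinement D' r

end Groth.Agent.S2905
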