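import Mathlib.AlgebraicTopology.SimplicialObject.Coskeletal
import Mathlib.AlgebraicTopology.SimplexCategory.Basic
import Mathlib.CategoryTheory.Functor.KanExtension.Pointwise
import Mathlib.CategoryTheory.Limits.Shapes.FiniteLimits
import Mathlib.CategoryTheory.Limits.Connected
import Mathlib

set_option autoImplicit false
universe v u

open CategoryTheory CategoryTheory.Limits Opposite

namespace Groth.Agent.CoskFinLib

instance finite_trunc (m : ℕ) : Finite (SimplexCategory.Truncated m) :=
  Finite.of_injective (fun a => (⟨a.obj.len, Nat.lt_succ_of_le a.property⟩ : Fin (m + 1)))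
    fun a b h => by
      have h' : a.obj.len = b.obj.len := congrArg Fin.val h
      ext
      exact h'

instance finite_truncOp (m : ℕ) : Finite (SimplexCategory.Truncated m)ᵒᵖ :=
  Finite.of_equiv _ equivToOpposite

instance finite_hom {m : ℕ} (a b : (SimplexCategory.Truncated m)ᵒᵖ) : Finite (a ⟶ b) :=
  Finite.of_injective (fun f => f.unop.hom) fun f g h => by
    apply Quiver.Hom.unop_inj
    exact ObjectProperty.hom_ext _ h

instance finite_homOp {a b : SimplexCategoryᵒᵖ} : Finite (a ⟶ b) :=
  Finite.of_equiv _ (opEquiv a b).symm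

noncomputable instance finCat_structuredArrow (m : ℕ) (Y : SimplexCategoryᵒᵖ) :
    FinCategory (StructuredArrow Y (SimplexCategory.Truncated.inclusion m).op) := by
  haveI : Finite (StructuredArrow Y (SimplexCategory.Truncated.inclusion m).op) :=
    Finite.of_injective (fun g => (⟨g.right, g.hom⟩ :
      Σ a : (SimplexCategory.Truncated m)ᵒᵖ, (Y ⟶ (SimplexCategory.Truncated.inclusion m).op.obj a)))
      fun g g' h => by
        obtain ⟨⟨⟨⟩⟩, _, _⟩ := g
        obtain ⟨⟨⟨⟩⟩, _, _⟩ := g'
        cases h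
        rfl
  haveI : ∀ g g' : StructuredArrow Y (SimplexCategory.Truncated.inclusion m).op, Finite (g ⟶ g') :=
    fun g g' => Finite.of_injective (fun f => f.right) fun f f' h => StructuredArrow.ext _ _ h
  exact ⟨Fintype.ofFinite _, fun _ _ => Fintype.ofFinite _⟩

noncomputable instance finCat_costructuredArrow (m : ℕ) (Y : SimplexCategoryᵒᵖ) :
    FinCategory (CostructuredArrow (SimplexCategory.Truncated.inclusion m).op Y) := by
  haveI : Finite (CostructuredArrow (SimplexCategory.Truncated.inclusion m).op Y) :=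
    Finite.of_injective (fun g => (⟨g.left, g.hom⟩ :
      Σ a : (SimplexCategory.Truncated m)ᵒᵖ, ((SimplexCategory.Truncated.inclusion m).op.obj a ⟶ Y)))
      fun g g' h => by
        obtain ⟨_, ⟨⟨⟩⟩, _⟩ := g
        obtain ⟨_, ⟨⟨⟩⟩, _⟩ := g'
        cases h
        rfl
  haveI : ∀ g g' : CostructuredArrow (SimplexCategory.Truncated.inclusion m).op Y, Finite (g ⟶ g') :=
    fun g g' => Finite.of_injective (fun f => f.left) fun f f' h => CostructuredArrow.hom_ext _ _ h
  exact ⟨Fintype.ofFinite _, fun _ _ => Fintype.ofFinite _⟩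

variable {C : Type u} [Category.{v} C]

instance hasPointwiseRan [HasFiniteLimits C] (m : ℕ) (U : (SimplexCategory.Truncated m)ᵒᵖ ⥤ C) :
    (SimplexCategory.Truncated.inclusion m).op.HasPointwiseRightKanExtension U := fun Y => by
  haveI : HasLimitsOfShape (StructuredArrow Y (SimplexCategory.Truncated.inclusion m).op) C :=
    HasFiniteLimits.out _
  exact inferInstanceAs (HasLimit _)

instance hasPointwiseLan [HasFiniteColimits C] (m : ℕ) (U : (SimplexCategory.Truncated m)ᵒᵖ ⥤ C) :
    (SimplexCategory.Truncated.inclusion m).op.HasPointwiseLeftKanExtension U := fun Y => by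
  haveI : HasColimitsOfShape (CostructuredArrow (SimplexCategory.Truncated.inclusion m).op Y) C :=
    HasFiniteColimits.out _
  exact inferInstanceAs (HasColimit _)

/-- maps into a term of a coskeletal object are determined by the composites to low terms -/
theorem hom_ext_cosk [HasFiniteLimits C] (U : SimplicialObject C) (n : ℕ) [U.IsCoskeletal n]
    {T : C} (Y : SimplexCategoryᵒᵖ) (a b : T ⟶ U.obj Y)
    (h : ∀ (j : (SimplexCategory.Truncated n)ᵒᵖ)
      (g : Y ⟶ (SimplexCategory.Truncated.inclusion n).op.obj j), a ≫ U.map g = b ≫ U.map g) :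
    a = b := by
  have hpt := Functor.isPointwiseRightKanExtensionOfIsRightKanExtension
    (F := (SimplexCategory.Truncated.inclusion n).op ⋙ U) U (𝟙 _) Y
  refine hpt.hom_ext fun g => ?_
  have := h g.right g.hom
  show a ≫ U.map g.hom ≫ 𝟙 _ = b ≫ U.map g.hom ≫ 𝟙 _
  simp only [Category.comp_id]
  exact this

/-- coskeletal objects stay coskeletal in higher degrees -/
theorem isCoskeletal_mono [HasFiniteLimits C] (U : SimplicialObject C) {n m : ℕ} (h : n ≤ m)
    [U.IsCoskeletal n] : U.IsCoskeletal m := by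
  let incl : SimplexCategory.Truncated n ⥤ SimplexCategory.Truncated m :=
    ObjectProperty.ιOfLE (fun a ha => le_trans ha h)
  let In := (SimplexCategory.Truncated.inclusion n).op
  let Im := (SimplexCategory.Truncated.inclusion m).op
  have key : ∀ (G : SimplicialObject C) (β : Im ⋙ G ⟶ Im ⋙ U),
      ∃ γ : G ⟶ U, ∀ k, γ.app (Im.obj k) = β.app k := by
    intro G β
    let β' : In ⋙ G ⟶ In ⋙ U :=
      { app := fun j => β.app (incl.op.obj j)
        naturality := fun i j f => β.naturality (incl.op.map f) }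
    refine ⟨U.liftOfIsRightKanExtension (L := In) (F := In ⋙ U) (𝟙 (In ⋙ U)) G β', fun k => ?_⟩
    refine hom_ext_cosk U n _ _ _ fun j g => ?_
    have h1 : (U.liftOfIsRightKanExtension (L := In) (F := In ⋙ U) (𝟙 (In ⋙ U)) G β').app (In.obj j)
        ≫ 𝟙 (U.obj (In.obj j)) = β.app (incl.op.obj j) :=
      U.liftOfIsRightKanExtension_fac_app (L := In) (F := In ⋙ U) (𝟙 (In ⋙ U)) G β' j
    rw [Category.comp_id] at h1
    obtain ⟨g', rfl⟩ : ∃ g' : k ⟶ incl.op.obj j, Im.map g' = g := Functor.map_surjective Im (X := k) (Y := incl.op.obj j) g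
    exact ((NatTrans.naturality _ _).symm.trans (congrArg (fun x => _ ≫ x) h1)).trans (β.naturality g')
  have uniq : ∀ (G : SimplicialObject C) (γ γ' : G ⟶ U),
      (∀ k, γ.app (Im.obj k) = γ'.app (Im.obj k)) → γ = γ' := by
    intro G γ γ' hγ
    apply U.hom_ext_of_isRightKanExtension (L := In) (F := In ⋙ U) (𝟙 (In ⋙ U))
    ext j
    show γ.app (In.obj j) ≫ 𝟙 _ = γ'.app (In.obj j) ≫ 𝟙 _
    rw [show γ.app (In.obj j) = γ'.app (In.obj j) from hγ (incl.op.obj j)]
  choose γ hγ using key
  refine ⟨⟨⟨IsTerminal.ofUniqueHom (fun E => CostructuredArrow.homMk (γ E.left E.hom) ?_) (fun E f => ?_)⟩⟩⟩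
  · ext k
    show (γ E.left E.hom).app (Im.obj k) ≫ 𝟙 _ = E.hom.app k
    rw [hγ, Category.comp_id]
  · ext1
    refine uniq _ _ _ fun k => ?_
    have h2 : f.left.app (Im.obj k) ≫ 𝟙 _ = E.hom.app k :=
      congrArg (fun x => NatTrans.app x k) (CostructuredArrow.w f)
    rw [Category.comp_id] at h2
    rw [h2]
    exact (hγ E.left E.hom k).symm

end Groth.Agent.CoskFinLib

namespace Groth.Agent.CoskFinLib

theorem isConnected_structuredArrow {k : ℕ} (hk : 1 ≤ k) (Y : SimplexCategoryᵒᵖ) :
    IsConnected (StructuredArrow Y (SimplexCategory.Truncated.inclusion k).op) := by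
  let t0 : SimplexCategory.Truncated k := ⟨SimplexCategory.mk 0, Nat.zero_le k⟩
  let t1 : SimplexCategory.Truncated k := ⟨SimplexCategory.mk 1, hk⟩
  let vtx : Fin (Y.unop.len + 1) → StructuredArrow Y (SimplexCategory.Truncated.inclusion k).op :=
    fun i => StructuredArrow.mk (Y := op t0)
      (SimplexCategory.const (SimplexCategory.mk 0) Y.unop i).op
  haveI : Nonempty (StructuredArrow Y (SimplexCategory.Truncated.inclusion k).op) := ⟨vtx 0⟩
  have toV : ∀ g : StructuredArrow Y (SimplexCategory.Truncated.inclusion k).op,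
      ∃ i, Nonempty (g ⟶ vtx i) := by
    intro g
    let f : t0 ⟶ g.right.unop :=
      ObjectProperty.homMk (SimplexCategory.const (SimplexCategory.mk 0) g.right.unop.obj 0)
    refine ⟨g.hom.unop.toOrderHom 0, ⟨StructuredArrow.homMk f.op ?_⟩⟩
    apply Quiver.Hom.unop_inj
    ext i
    rfl
  have vv : ∀ i j, i ≤ j → Zigzag (vtx i) (vtx j) := by
    intro i j hij
    let ed : StructuredArrow Y (SimplexCategory.Truncated.inclusion k).op :=
      StructuredArrow.mk (Y := op t1)
        (SimplexCategory.mkOfLe (n := Y.unop.len) i j hij ≫ eqToHom (SimplexCategory.mk_len Y.unop)).op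
    let f : Fin 2 → (t0 ⟶ t1) := fun s =>
      ObjectProperty.homMk (SimplexCategory.const (SimplexCategory.mk 0) (SimplexCategory.mk 1) s)
    have h0 : ed ⟶ vtx i := StructuredArrow.homMk (f 0).op (by
      apply Quiver.Hom.unop_inj
      ext x
      rfl)
    have h1 : ed ⟶ vtx j := StructuredArrow.homMk (f 1).op (by
      apply Quiver.Hom.unop_inj
      ext x
      rfl)
    exact (Zigzag.of_inv h0).trans (Zigzag.of_hom h1)
  refine zigzag_isConnected fun g g' => ?_
  obtain ⟨i, ⟨a⟩⟩ := toV g
  obtain ⟨j, ⟨b⟩⟩ := toV g'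
  refine (Zigzag.of_hom a).trans (Zigzag.trans ?_ (Zigzag.of_inv b))
  rcases le_total i j with h | h
  · exact vv i j h
  · exact Std.Symm.symm _ _ (vv j i h)

theorem isCoskeletal_forget {C : Type u} [Category.{v} C] [HasFiniteLimits C] (X : C) {k : ℕ} (hk : 1 ≤ k)
    (V : SimplicialObject (Over X)) [V.IsCoskeletal k] :
    SimplicialObject.IsCoskeletal (V ⋙ Over.forget X) k := by
  haveI : HasFiniteLimits (Over X) := inferInstance
  have hV := Functor.isPointwiseRightKanExtensionOfIsRightKanExtension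
    (F := (SimplexCategory.Truncated.inclusion k).op ⋙ V) V (𝟙 _)
  have hW : (Functor.RightExtension.mk (V ⋙ Over.forget X)
      (𝟙 ((SimplexCategory.Truncated.inclusion k).op ⋙ V ⋙ Over.forget X))
      ).IsPointwiseRightKanExtension := fun Y => by
    haveI := isConnected_structuredArrow hk Y
    refine IsLimit.ofIsoLimit (isLimitOfPreserves (Over.forget X) (hV Y)) (Cone.ext (Iso.refl _) ?_)
    intro g
    show (V.map g.hom ≫ 𝟙 _).left = 𝟙 _ ≫ (V.map g.hom).left ≫ 𝟙 _
    simp
  exact ⟨hW.isRightKanExtension⟩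

end Groth.Agent.CoskFinLib
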