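import Groth.Statements.S6964
import Groth.Agent.TwoTermLib.Amp

set_option autoImplicit false
universe u
open CategoryTheory CategoryTheory.Limits
attribute [local instance] HasDerivedCategory.standard
open DRing

namespace Groth.Agent.S6964

/-- Let R be a commutative ring, K an object of D(R) and a, b integers. These four conditions are
equivalent: (1) the projective amplitude of K lies in [a, b], meaning K is isomorphic in D(R) to a
complex of projective R-modules vanishing outside [a, b]; (2) Hom(K, N[i]) = 0 in D(R) for every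
R-module N and every integer i outside [-b, -a]; (3) H^n(K) = 0 for all n > b and Hom(K, N[i]) = 0
for every R-module N and every i > -a; (4) H^n(K) = 0 for all n outside [a - 1, b] and Hom(K, N[-a +
1]) = 0 for every R-module N. -/
theorem result (R : Type u) [CommRing R] (K : Dual.D R) (a b : ℤ) :
    [∃ P : DRing.Cx R, DRing.VanishesOutside P a b ∧ (∀ i : ℤ, Module.Projective R (P.X i)) ∧
        Nonempty (DRing.toD P ≅ K),
      ∀ (N : Type u) [AddCommGroup N] [Module R N] (i : ℤ), (i < -b ∨ -a < i) →
        Subsingleton (DRing.ExtD R K (Dual.inD R N) i),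
      (∀ n : ℤ, b < n → Subsingleton (Dual.HD R K n)) ∧
        ∀ (N : Type u) [AddCommGroup N] [Module R N] (i : ℤ), -a < i → Subsingleton (DRing.ExtD R K (Dual.inD R N) i),
      (∀ n : ℤ, (n < a - 1 ∨ b < n) → Subsingleton (Dual.HD R K n)) ∧
        ∀ (N : Type u) [AddCommGroup N] [Module R N], Subsingleton (DRing.ExtD R K (Dual.inD R N) (-a + 1))].TFAE := by
  have conv : ∀ (N : Type u) [AddCommGroup N] [Module R N] (n i : ℤ), i = -n →
      Subsingleton (K ⟶ (Dual.inD R N)⟦i⟧) → Subsingleton (K ⟶ (Dual.inD R N)⟦-n⟧) := by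
    rintro N _ _ n i rfl h
    exact h
  tfae_have 1 → 2 := by
    rintro ⟨P, hv, hP, ⟨e⟩⟩ N _ _ i hi
    obtain ⟨n, rfl⟩ : ∃ n, i = -n := ⟨-i, (neg_neg i).symm⟩
    haveI := Groth.Agent.DRingLib.isKProjective_of_projective P b (fun j hj => hv j (Or.inr hj)) hP
    exact Groth.Agent.TwoTermLib.subsingleton_hom_of_isZero (hv n (by omega)) e
  tfae_have 2 → 3 := by
    intro h
    refine ⟨fun n hn => ModuleCat.subsingleton_of_isZero
      (Groth.Agent.TwoTermLib.isZero_homology_of_vanishing_injective K n
        fun M _ _ => h M (-n) (Or.inl (by omega))), fun N _ _ i hi => h N i (Or.inr hi)⟩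
  tfae_have 3 → 4 := by
    rintro ⟨hb, h⟩
    refine ⟨fun n hn => ?_, fun N _ _ => h N (-a + 1) (by omega)⟩
    rcases hn with hn | hn
    · obtain ⟨P, hPb, hPf, ⟨e⟩⟩ := Groth.Agent.DRingLib.exists_free_rep K b
        fun i hi => @ModuleCat.isZero_of_subsingleton _ _ _ (hb i hi)
      haveI := Groth.Agent.DRingLib.isKProjective_of_free P b hPb hPf
      exact ModuleCat.subsingleton_of_isZero (Groth.Agent.TwoTermLib.isZero_homology_of_vanishing
        e n fun M _ _ => h M (-n) (by omega))
    · exact hb n hn
  tfae_have 4 → 1 := by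
    rintro ⟨hH, h⟩
    obtain ⟨P, hPb, hPf, ⟨e⟩⟩ := Groth.Agent.DRingLib.exists_free_rep K b
      fun i hi => @ModuleCat.isZero_of_subsingleton _ _ _ (hH i (Or.inr hi))
    haveI := Groth.Agent.DRingLib.isKProjective_of_free P b hPb hPf
    have hP : ∀ i, Module.Projective R (P.X i) := fun i => by
      have := hPf i
      exact Module.Projective.of_free
    have hv : ∀ (M : Type u) [AddCommGroup M] [Module R M],
        Subsingleton (K ⟶ (Dual.inD R M)⟦-(a - 1)⟧) := fun M _ _ =>
      conv M (a - 1) (-a + 1) (by omega) (h M)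
    have hC : Module.Projective R (Groth.Agent.TwoTermLib.CK P (a - 1) a) := by
      have := Groth.Agent.TwoTermLib.projective_coker_of_vanishing e (a - 1) (hP _) hv
      rwa [sub_add_cancel] at this
    haveI : P.IsGE a := by
      rw [CochainComplex.isGE_iff]
      intro i hi
      rw [HomologicalComplex.exactAt_iff_isZero_homology]
      refine Limits.IsZero.of_iso ?_ (PQLib.homologyIso e i).symm
      by_cases hi' : i < a - 1
      · exact @ModuleCat.isZero_of_subsingleton _ _ _ (hH i (Or.inl hi'))
      · obtain rfl : i = a - 1 := by omega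
        exact Groth.Agent.TwoTermLib.isZero_homology_of_vanishing e _ hv
    haveI : QuasiIso (P.πTruncGE a) := (CochainComplex.quasiIso_πTruncGE_iff P a).mpr inferInstance
    exact ⟨P.truncGE a, Groth.Agent.DRingLib.vanishesOutside_truncGE hPb a,
      Groth.Agent.TwoTermLib.truncGE_projective hP a (a - 1) (by omega) hC,
      ⟨(asIso (DerivedCategory.Q.map (P.πTruncGE a))).symm ≪≫ e⟩⟩
  tfae_finish

end Groth.Agent.S6964
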