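import Groth.Statements.S0505
import Groth.Agent.HenselLib.Local

set_option autoImplicit false
universe u
open Hensel

namespace Groth.Agent.S0505

/-- A local ring which is finitely generated as a module over a henselian local ring is itself
henselian. -/
theorem result (R : Type u) [CommRing R] [HenselianLocalRing R]
    (S : Type u) [CommRing S] [IsLocalRing S] [Algebra R S] [Module.Finite R S] :
    HenselianLocalRing S := by
  haveI : HenselianRing S ((IsLocalRing.maximalIdeal R).map (algebraMap R S)) :=
    HenselLib.henselianRing_map_of_isIntegral
  haveI : HenselianRing S (IsLocalRing.maximalIdeal S) := by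
    refine HenselLib.henselianRing_of_le_radical (J := (IsLocalRing.maximalIdeal R).map (algebraMap R S)) ?_
    rw [Ideal.radical_eq_sInf]
    refine le_sInf fun P ⟨hP, hPp⟩ => ?_
    haveI := hPp
    have hPm : IsLocalRing.maximalIdeal R = P.comap (algebraMap R S) :=
      (IsLocalRing.maximalIdeal.isMaximal R).eq_of_le (Ideal.IsPrime.comap _).ne_top (Ideal.map_le_iff_le_comap.1 hP)
    haveI : (P.comap (algebraMap R S)).IsMaximal := hPm ▸ IsLocalRing.maximalIdeal.isMaximal R
    exact (IsLocalRing.eq_maximalIdeal (Ideal.isMaximal_of_isIntegral_of_isMaximal_comap P ‹_›)).ge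
  exact HenselLib.henselianLocalRing_of_henselianRing

end Groth.Agent.S0505
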