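import Groth.Statements.S4564
import Groth.Agent.NormalLib.CompleteLocal
import Groth.Agent.CompleteLib.TwoIdeals
import Groth.Agent.HenselLib.Local
import Mathlib.RingTheory.Henselian

set_option autoImplicit false
universe u
open CAlg

namespace Groth.Agent.S4564

theorem exists_pow_le (A C : Type u) [CommRing A] [CommRing C] [IsLocalRing A] [IsLocalRing C] [IsNoetherianRing C]
    [Algebra A C] [Module.Finite A C] :
    (IsLocalRing.maximalIdeal A).map (algebraMap A C) ≤ IsLocalRing.maximalIdeal C ∧
      ∃ k, IsLocalRing.maximalIdeal C ^ k ≤ (IsLocalRing.maximalIdeal A).map (algebraMap A C) := by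
  have := Algebra.IsIntegral.of_finite A C
  refine ⟨Ideal.map_le_iff_le_comap.2 (IsLocalRing.eq_maximalIdeal
    (Ideal.isMaximal_comap_of_isIntegral_of_isMaximal (R := A) (IsLocalRing.maximalIdeal C))).ge,
    Ideal.exists_pow_le_of_le_radical_of_fg ?_ (IsNoetherian.noetherian _)⟩
  rw [Ideal.radical_eq_sInf]
  refine le_sInf fun P ⟨hP, hPp⟩ => ?_
  have := hPp
  have hm : P.comap (algebraMap A C) = IsLocalRing.maximalIdeal A :=
    le_antisymm (IsLocalRing.le_maximalIdeal (Ideal.IsPrime.ne_top inferInstance)) (Ideal.map_le_iff_le_comap.1 hP)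
  exact (IsLocalRing.eq_maximalIdeal
    (Ideal.isMaximal_of_isIntegral_of_isMaximal_comap (R := A) P (hm ▸ IsLocalRing.maximalIdeal.isMaximal A))).ge

theorem isAdicComplete_of_isNilpotent {R : Type u} [CommRing R] (I : Ideal R) (h : IsNilpotent I) : IsAdicComplete I R := by
  obtain ⟨k, hk⟩ := h
  rw [Submodule.zero_eq_bot] at hk
  have hbot : ∀ n, k ≤ n → (I ^ n • ⊤ : Submodule R R) = ⊥ := fun n hn => by
    rw [smul_eq_mul, Ideal.mul_top, eq_bot_iff, ← hk]
    exact Ideal.pow_le_pow_right hn
  refine { haus' := fun x hx => ?_, prec' := fun f hf => ⟨f k, fun n => ?_⟩ }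
  · have := SModEq.sub_mem.1 (hx k)
    rwa [sub_zero, hbot k le_rfl, Submodule.mem_bot] at this
  · rcases le_total n k with h | h
    · exact hf h
    · have h2 := SModEq.sub_mem.1 (hf h)
      rw [hbot k le_rfl, Submodule.mem_bot, sub_eq_zero] at h2
      rw [h2]

/-- Let A be a complete Noetherian local domain with fraction field K and K' a finite extension of K.
Then the integral closure of A in K' is a local ring, complete for the adic topology of its maximal
ideal. -/
theorem result {A K' : Type u} [CommRing A]
    [IsDomain A] [IsLocalRing A] [IsNoetherianRing A] [IsAdicComplete (IsLocalRing.maximalIdeal A) A]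
    [Field K'] [Algebra A K'] [Algebra (FractionRing A) K'] [IsScalarTower A (FractionRing A) K']
    [FiniteDimensional (FractionRing A) K'] :
    ∃ _ : IsLocalRing (integralClosure A K'),
      IsAdicComplete (IsLocalRing.maximalIdeal (integralClosure A K')) (integralClosure A K') := by
  let m := IsLocalRing.maximalIdeal A
  have hfin : Module.Finite A (integralClosure A K') :=
    NormalLib.isN2_of_isAdicComplete_local A K' inferInstance
  have : HenselianLocalRing A :=
    { is_henselian := fun f hf a₀ h₁ h₂ => HenselianRing.is_henselian (I := m) f hf a₀ h₁ (h₂.map _) }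
  obtain ⟨ι, _, B, _, hloc, ⟨e⟩⟩ := HenselLib.exists_pi_local (R := A) (integralClosure A K')
  classical
  have hne : Nonempty ι := by
    by_contra h
    rw [not_nonempty_iff] at h
    exact not_subsingleton (integralClosure A K') e.toEquiv.subsingleton
  have hsub : Subsingleton ι := ⟨fun i j => by
    by_contra hij
    have h0 : e.symm (Pi.single i 1) * e.symm (Pi.single j 1) = 0 := by
      rw [← map_mul, ← map_zero e.symm]
      congr 1
      ext k
      rcases eq_or_ne k i with rfl | hk
      · simp [Pi.single_eq_of_ne hij]
      · simp [Pi.single_eq_of_ne hk]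
    rcases mul_eq_zero.1 h0 with h | h
    · rw [map_eq_zero_iff _ e.symm.injective] at h
      have := hloc i
      exact one_ne_zero (show (1 : B i) = 0 by simpa using congrFun h i)
    · rw [map_eq_zero_iff _ e.symm.injective] at h
      have := hloc j
      exact one_ne_zero (show (1 : B j) = 0 by simpa using congrFun h j)⟩
  let i₀ : ι := hne.some
  have : IsLocalRing (B i₀) := hloc i₀
  have : Unique ι := uniqueOfSubsingleton i₀
  let e' : integralClosure A K' ≃+* B default := e.trans (RingEquiv.piUnique B)
  have : IsLocalRing (B default) := hloc _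
  have hL : IsLocalRing (integralClosure A K') := e'.symm.isLocalRing
  refine ⟨hL, ?_⟩
  let C := integralClosure A K'
  have h1 : IsAdicComplete (m.map (algebraMap A C)) C :=
    (IsAdicComplete.map_algebraMap_iff _ _).2 CompleteLib.isAdicComplete_of_finite
  have hN : IsNoetherianRing C :=
    isNoetherianRing_iff.2 (isNoetherian_of_tower A (isNoetherian_of_isNoetherianRing_of_finite A C))
  obtain ⟨hle, k, hk⟩ := exists_pow_le A C
  have hJ : IsAdicComplete ((IsLocalRing.maximalIdeal C).map (Ideal.Quotient.mk (m.map (algebraMap A C))))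
      (C ⧸ m.map (algebraMap A C)) := isAdicComplete_of_isNilpotent _ ⟨k, by
    rw [Submodule.zero_eq_bot, ← Ideal.map_pow, Ideal.map_eq_bot_iff_le_ker, Ideal.mk_ker]
    exact hk⟩
  exact CompleteLib.isAdicComplete_of_quotient (I := m.map (algebraMap A C)) (J := IsLocalRing.maximalIdeal C)

end Groth.Agent.S4564
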