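import Groth.Statements.S5754
import Mathlib


-- import your own Groth.Agent.* helpers here

set_option autoImplicit false
universe u
open EGA41

namespace Groth.Agent.S5754

/-- Let A be a Noetherian ring, M a finitely generated A-module and t an element of A which is
M-regular. For every associated prime p of M, every prime ideal minimal among those containing p +
tA is an associated prime of M/tM. -/
theorem result (A : Type u) [CommRing A]
    [IsNoetherianRing A] (M : Type u) [AddCommGroup M] [Module A M] [Module.Finite A M] (t : A)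
    (ht : IsSMulRegular M t) (p : Ideal A) (hp : p ∈ associatedPrimes A M) (q : Ideal A)
    (hq : q ∈ (p ⊔ Ideal.span {t}).minimalPrimes) : q ∈ associatedPrimes A (QuotSMulTop t M) := by
  open scoped Pointwise in
  focus
    classical
    obtain ⟨hpp, x, hpx⟩ := isAssociatedPrime_iff.1 hp
    haveI := hq.1.1
    let N : Submodule A M := Submodule.torsionBySet A M (p : Set A)
    have hN : ∀ m, m ∈ N ↔ ∀ a ∈ p, a • m = 0 := fun m => (Submodule.mem_torsionBySet_iff _ _).trans Subtype.forall
    have hxN : x ∈ N := (hN x).2 fun a ha => by simpa [hpx, Submodule.mem_colon_singleton] using ha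
    let g : QuotSMulTop t N →ₗ[A] QuotSMulTop t M := QuotSMulTop.map t N.subtype
    have hg : Function.Injective g := by
      rw [← LinearMap.ker_eq_bot, eq_bot_iff]
      intro z hz
      obtain ⟨n, rfl⟩ := Submodule.mkQ_surjective _ z
      have h1 : (n : M) ∈ t • (⊤ : Submodule A M) := (Submodule.Quotient.mk_eq_zero _).1 hz
      obtain ⟨m, -, hm⟩ := (Submodule.mem_smul_pointwise_iff_exists _ _ _).1 h1
      have hmN : m ∈ N := (hN m).2 fun a ha => ht (show t • (a • m) = t • 0 by rw [smul_comm, hm, (hN _).1 n.2 a ha, smul_zero])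
      exact (Submodule.Quotient.mk_eq_zero _).2 ((Submodule.mem_smul_pointwise_iff_exists _ _ _).2 ⟨⟨m, hmN⟩, Submodule.mem_top, Subtype.ext hm⟩)
    have hle := hq.1.2
    have hsupp : (⟨q, inferInstance⟩ : PrimeSpectrum A) ∈ Module.support A (QuotSMulTop t N) := by
      rw [Module.support_quotSMulTop]
      refine ⟨Module.mem_support_iff'.2 ⟨⟨x, hxN⟩, fun r hr h => hr (hle (Ideal.mem_sup_left ?_))⟩, ?_⟩
      · have e : r • x = 0 := congrArg Subtype.val h
        rw [hpx]; simpa [Submodule.mem_colon_singleton] using e
      · simpa [PrimeSpectrum.mem_zeroLocus] using hle (Ideal.mem_sup_right (Ideal.mem_span_singleton_self t))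
    have hann : p ⊔ Ideal.span {t} ≤ Module.annihilator A (QuotSMulTop t N) := by
      refine sup_le (fun a ha => Module.mem_annihilator.2 fun z => ?_) ((Ideal.span_singleton_le_iff_mem _).2 (Module.mem_annihilator.2 fun z => ?_))
      · obtain ⟨n, rfl⟩ := Submodule.mkQ_surjective _ z
        rw [← map_smul, show a • n = 0 from Subtype.ext ((hN _).1 n.2 a ha), map_zero]
      · obtain ⟨n, rfl⟩ := Submodule.mkQ_surjective _ z
        exact (Submodule.Quotient.mk_eq_zero _).2 (Submodule.smul_mem_pointwise_smul n t ⊤ Submodule.mem_top)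
    have hmin : q ∈ (Module.annihilator A (QuotSMulTop t N)).minimalPrimes := by
      rw [Module.support_eq_zeroLocus] at hsupp
      exact ⟨⟨inferInstance, hsupp⟩, fun r hr hrq => hq.2 ⟨hr.1, hann.trans hr.2⟩ hrq⟩
    exact IsAssociatedPrime.map_of_injective g (Module.associatedPrimes.minimalPrimes_annihilator_subset_associatedPrimes A (QuotSMulTop t N) hmin) hg

end Groth.Agent.S5754
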