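import Groth.Statements.S1760
import Groth.Agent.GorLib.Fibres

set_option autoImplicit false
universe u
open scoped TensorProduct
open Goren

namespace Groth.Agent.S1760

/-- First assertion, written for the local ring B = O_{X,x}. Let k'/k be a finitely generated field
extension, B a Noetherian local k-algebra, and q a prime of B ⊗_k k' lying over the maximal ideal of
B. Then B is Gorenstein if and only if the localization of B ⊗_k k' at q is Gorenstein. -/
theorem result (k k' : Type u) [Field k] [Field k'] [Algebra k k'] (hfg : ∃ s : Finset k', IntermediateField.adjoin k (s : Set k') = ⊤) (B : Type u) [CommRing B] [IsLocalRing B] [IsNoetherianRing B] [Algebra k B] (q : PrimeSpectrum (B ⊗[k] k')) (hq : q.asIdeal.comap (algebraMap B (B ⊗[k] k')) = IsLocalRing.maximalIdeal B) : LocCoh.IsGorensteinLocalRing B ↔ LocCoh.IsGorensteinLocalRing (Localization.AtPrime q.asIdeal) := by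
  haveI : Algebra.EssFiniteType k k' := IntermediateField.fg_top_iff.1 (by obtain ⟨t, ht⟩ := hfg; exact ⟨t, ht⟩)
  haveI : IsNoetherianRing (B ⊗[k] k') := Algebra.EssFiniteType.isNoetherianRing B _
  haveI : Module.Flat B (B ⊗[k] k') := inferInstance
  let m := IsLocalRing.maximalIdeal B
  have hF : LocCoh.IsGorensteinRing (m.Fiber (B ⊗[k] k')) :=
    GorLib.gorensteinRing_of_ringEquiv (Algebra.TensorProduct.cancelBaseChange k B B m.ResidueField k').toRingEquiv
      (GorLib.gorensteinRing_tensor_field hfg GorLib.gorensteinRing_of_field)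
  rw [← GorLib.gorenstein_localization_iff_of_fibre (R := B) q.asIdeal ?_]
  swap
  · have : ∀ (p : Ideal B) [p.IsPrime], p = m → LocCoh.IsGorensteinRing (p.Fiber (B ⊗[k] k')) := by rintro p _ rfl; exact hF
    exact this _ hq
  have e : B ≃+* Localization.AtPrime (q.asIdeal.comap (algebraMap B (B ⊗[k] k'))) := by
    haveI : (q.asIdeal.comap (algebraMap B (B ⊗[k] k'))).IsMaximal := by rw [hq]; infer_instance
    refine RingEquiv.ofBijective (algebraMap B _) ?_
    refine ⟨fun a b hab => ?_, fun z => ?_⟩
    · obtain ⟨c, hc⟩ := (IsLocalization.eq_iff_exists (q.asIdeal.comap (algebraMap B (B ⊗[k] k'))).primeCompl _).1 hab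
      exact (IsLocalRing.notMem_maximalIdeal.1 (fun h => c.2 ((SetLike.ext_iff.1 hq _).2 h))).mul_left_cancel hc
    · obtain ⟨a, s, rfl⟩ := IsLocalization.exists_mk'_eq (q.asIdeal.comap (algebraMap B (B ⊗[k] k'))).primeCompl z
      obtain ⟨u, hu⟩ := IsLocalRing.notMem_maximalIdeal.1 (fun h => s.2 ((SetLike.ext_iff.1 hq _).2 h))
      refine ⟨((u⁻¹ : Bˣ) : B) * a, (IsLocalization.eq_mk'_iff_mul_eq).2 ?_⟩
      rw [← map_mul, ← hu, mul_right_comm, Units.inv_mul, one_mul]
  exact GorLib.gorenstein_congr e

end Groth.Agent.S1760
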