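import Groth.Statements.S1803
import Groth.Agent.GorLib.Fibres

set_option autoImplicit false
universe u
open scoped TensorProduct
open Goren

namespace Groth.Agent.S1803

/-- Let k'/k be any field extension, C a k-algebra of finite type, q a prime of C ⊗_k k' and p its
contraction to C. Then C_p is Gorenstein if and only if (C ⊗_k k')_q is Gorenstein. -/
theorem result (k k' : Type u) [Field k] [Field k'] [Algebra k k'] (C : Type u) [CommRing C] [Algebra k C] [Algebra.FiniteType k C] (q : PrimeSpectrum (C ⊗[k] k')) : LocCoh.IsGorensteinLocalRing (Localization.AtPrime (q.asIdeal.comap (algebraMap C (C ⊗[k] k')))) ↔ LocCoh.IsGorensteinLocalRing (Localization.AtPrime q.asIdeal) := by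
  haveI : IsNoetherianRing C := Algebra.FiniteType.isNoetherianRing k C
  haveI : IsNoetherianRing (C ⊗[k] k') := by
    haveI : Algebra.FiniteType k' (k' ⊗[k] C) := inferInstance
    haveI : IsNoetherianRing (k' ⊗[k] C) := Algebra.FiniteType.isNoetherianRing k' _
    exact isNoetherianRing_of_ringEquiv _ (Algebra.TensorProduct.comm k k' C).toRingEquiv
  refine GorLib.gorenstein_localization_iff_of_fibre (R := C) q.asIdeal ?_
  let p := q.asIdeal.comap (algebraMap C (C ⊗[k] k'))
  show LocCoh.IsGorensteinRing (p.Fiber (C ⊗[k] k'))
  haveI : Algebra.EssFiniteType k p.ResidueField := Algebra.EssFiniteType.comp k C p.ResidueField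
  obtain ⟨s, hs⟩ : ∃ s : Finset p.ResidueField, IntermediateField.adjoin k (s : Set p.ResidueField) = ⊤ :=
    IntermediateField.fg_top_iff.2 inferInstance
  exact GorLib.gorensteinRing_of_ringEquiv
    ((Algebra.TensorProduct.cancelBaseChange k C C p.ResidueField k').toRingEquiv.trans
      (Algebra.TensorProduct.comm k p.ResidueField k').toRingEquiv)
    (GorLib.gorensteinRing_tensor_field ⟨s, hs⟩ GorLib.gorensteinRing_of_field)

end Groth.Agent.S1803
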