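import Groth.Statements.S1186
import Groth.Agent.FerrandEtLib.Main
-- import your own Groth.Agent.* helpers here

set_option autoImplicit false
universe u
open Pi1

namespace Groth.Agent.S1186

open AlgebraicGeometry CategoryTheory CategoryTheory.Limits in
/-- Let i : Z ⟶ X be a closed immersion and j : Z ⟶ Y an integral morphism such that every fibre of j
lies in the preimage under i of some affine open of X, and let a : X ⟶ W, b : Y ⟶ W exhibit W as the
pushout of i and j in the category of schemes. If U is finite étale over X and V is finite étale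
over Y with U ×_X Z ≅ V ×_Y Z over Z, then there is a finite étale cover T of W whose restrictions
to X and to Y are isomorphic to U and to V respectively. (This is the essential-surjectivity part of
an equivalence between finite étale covers of W and the 2-fibre product of the categories of finite
étale covers of X and of Y over that of Z; only the gluing of objects is asserted, and the
compatibility of the two identifications over Z is not asserted.) -/
theorem result {Z X Y W : Scheme.{u}} (i : Z ⟶ X) [IsClosedImmersion i] (j : Z ⟶ Y) [IsIntegralHom j]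
    (h3 : ∀ y : Y, ∃ U : X.Opens, IsAffineOpen U ∧ ∀ z : Z, j.base z = y → i.base z ∈ U)
    (a : X ⟶ W) (b : Y ⟶ W) (hpo : IsPushout i j a b)
    (U : FEt.Cat X) (V : FEt.Cat Y) (e : (FEt.restrict i).obj U ≅ (FEt.restrict j).obj V) :
    ∃ T : FEt.Cat W, Nonempty ((FEt.restrict a).obj T ≅ U) ∧ Nonempty ((FEt.restrict b).obj T ≅ V) := by
  haveI hjU : IsClosedImmersion (pullback.fst U.hom i) := inferInstance
  have hi : IsPullback (pullback.fst U.hom i) (pullback.snd U.hom i) U.hom i := IsPullback.of_hasPullback _ _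
  let eo : ((FEt.restrict i).obj U).left ≅ ((FEt.restrict j).obj V).left :=
    ⟨e.hom.left, e.inv.left, by rw [← MorphismProperty.Comma.comp_left, e.hom_inv_id]; rfl,
      by rw [← MorphismProperty.Comma.comp_left, e.inv_hom_id]; rfl⟩
  let j' : pullback U.hom i ⟶ V.left := eo.hom ≫ pullback.fst V.hom j
  have hj : IsPullback j' (pullback.snd U.hom i) V.hom j :=
    (IsPullback.of_hasPullback V.hom j).of_iso eo.symm (Iso.refl _) (Iso.refl _) (Iso.refl _)
      (by show pullback.fst V.hom j ≫ 𝟙 _ = eo.inv ≫ j'; rw [Category.comp_id]; exact (Iso.inv_hom_id_assoc eo _).symm) (by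
        show pullback.snd V.hom j ≫ 𝟙 Z = eo.inv ≫ pullback.snd U.hom i
        rw [Category.comp_id]
        exact (Over.w e.inv.hom).symm) (by simp) (by simp)
  haveI : IsIntegralHom j' := MorphismProperty.of_isPullback hj.flip ‹IsIntegralHom j›
  have hY : ∀ y : Y, ∃ p : PushLib.Nice i j, y ∈ p.V := fun y => by
    obtain ⟨U₀, hU₀, h⟩ := h3 y
    obtain ⟨p, hp, -⟩ := PushLib.exists_nice i j y U₀ hU₀ h
    exact ⟨p, hp⟩
  have hY' : ∀ v : V.left, ∃ p : PushLib.Nice (pullback.fst U.hom i) j', v ∈ p.V := fun v => by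
    obtain ⟨U₀, hU₀, h⟩ := h3 (V.hom v)
    haveI : IsFinite U.hom := U.prop.1
    obtain ⟨p, hp, -⟩ := PushLib.exists_nice (pullback.fst U.hom i) j' v (U.hom ⁻¹ᵁ U₀) (hU₀.preimage U.hom)
      fun z hz => by
        show U.hom _ ∈ U₀
        rw [← Scheme.Hom.comp_apply, hi.w, Scheme.Hom.comp_apply]
        refine h _ ?_
        rw [← hz]
        show _ = V.hom (j' z)
        rw [← Scheme.Hom.comp_apply, ← Scheme.Hom.comp_apply, hj.w]
    exact ⟨p, hp⟩
  obtain ⟨π, hπ, hA, hB⟩ := FerrandEt.glue_scheme hi hj U.prop V.prop hY hY'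
  let w := PushLib.Nice.iso hY hpo
  have hπw : FEt.prop (π ≫ w.hom) :=
    MorphismProperty.comp_mem _ _ _ hπ ⟨inferInstance, inferInstance⟩
  have hA' : IsPullback (PushLib.Nice.a hY') U.hom (π ≫ w.hom) a :=
    hA.of_iso (Iso.refl _) (Iso.refl _) (Iso.refl _) w (by simp) (by simp) (by simp) (by simp [w, PushLib.Nice.a_iso])
  have hB' : IsPullback (PushLib.Nice.b hY') V.hom (π ≫ w.hom) b :=
    hB.of_iso (Iso.refl _) (Iso.refl _) (Iso.refl _) w (by simp) (by simp) (by simp) (by simp [w, PushLib.Nice.b_iso])
  exact ⟨MorphismProperty.Over.mk ⊤ (π ≫ w.hom) hπw,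
    ⟨MorphismProperty.Over.isoMk hA'.isoPullback.symm hA'.isoPullback_inv_snd⟩,
    ⟨MorphismProperty.Over.isoMk hB'.isoPullback.symm hB'.isoPullback_inv_snd⟩⟩

end Groth.Agent.S1186
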