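import Groth.Statements.S9383
import Mathlib
import Groth.Agent.PushLib.Local
-- import your own Groth.Agent.* helpers here

set_option autoImplicit false
universe u
open QCohSub

namespace Groth.Agent.S9383

open AlgebraicGeometry CategoryTheory Limits Groth.Agent

theorem ker_app_eq {X S : Scheme.{u}} (f : X ⟶ S) [QuasiCompact f] {I : S.IdealSheafData} (h : f.ker = I)
    (U : S.affineOpens) (r : Γ(S, U.1)) : f.app U r = 0 ↔ r ∈ I.ideal U := by
  rw [← h, f.ker_apply U, RingHom.mem_ker]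

theorem isPushout_union {Z X Y P S : Scheme.{u}} (i : Z ⟶ X) (j : Z ⟶ Y) (a : X ⟶ P) (b : Y ⟶ P) (π : P ⟶ S)
    (w : i ≫ a = j ≫ b) [IsClosedImmersion π] [IsClosedImmersion a] [IsClosedImmersion b] [IsClosedImmersion i]
    [IsClosedImmersion j]
    (I J : S.IdealSheafData) (hX : (a ≫ π).ker = I) (hY : (b ≫ π).ker = J) (hZ : (i ≫ a ≫ π).ker = I ⊔ J)
    (hP : π.ker = I ⊓ J) : IsPushout i j a b := by
  refine PushLib.isPushout_of_affine i j a b w (Set.range fun U : S.affineOpens => π ⁻¹ᵁ U.1) ?_ ?_ ?_ ?_ ?_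
  · refine TopologicalSpace.Opens.isBasis_iff_nbhd.2 fun {W x} hx => ?_
    obtain ⟨O, hO, hOW⟩ := π.isClosedEmbedding.isEmbedding.toIsInducing.isOpen_iff.1 W.2
    have hxO : π x ∈ O := by
      have : x ∈ π ⁻¹' O := by rw [hOW]; exact hx
      exact this
    obtain ⟨U, hU, hxU, hUO⟩ := exists_isAffineOpen_mem_and_subset (X := S) (x := π x) (U := ⟨O, hO⟩) hxO
    exact ⟨_, ⟨⟨U, hU⟩, rfl⟩, hxU, fun y hy => by
      have : y ∈ π ⁻¹' O := hUO hy
      rw [hOW] at this; exact this⟩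
  · rintro _ ⟨U, rfl⟩; exact U.2.preimage π
  · rintro _ ⟨U, rfl⟩; exact i.app_surjective _ ((U.2.preimage π).preimage a)
  · rintro _ ⟨U, rfl⟩ x y h1 h2
    obtain ⟨r, rfl⟩ := π.app_surjective U.1 U.2 x
    obtain ⟨s, rfl⟩ := π.app_surjective U.1 U.2 y
    rw [← sub_eq_zero, ← map_sub] at h1 h2 ⊢
    rw [← map_sub] at h1 h2
    rw [ker_app_eq π hP U, Scheme.IdealSheafData.ideal_inf]
    exact ⟨(ker_app_eq (a ≫ π) hX U _).1 (by rw [Scheme.Hom.comp_app]; exact h1),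
      (ker_app_eq (b ≫ π) hY U _).1 (by rw [Scheme.Hom.comp_app]; exact h2)⟩
  · rintro _ ⟨U, rfl⟩ x y h
    obtain ⟨r, rfl⟩ := (a ≫ π).app_surjective U.1 U.2 x
    obtain ⟨s, rfl⟩ := (b ≫ π).app_surjective U.1 U.2 y
    have e : ∀ t : Γ(S, U.1), j.appLE (b ⁻¹ᵁ (π ⁻¹ᵁ U.1)) (i ⁻¹ᵁ (a ⁻¹ᵁ (π ⁻¹ᵁ U.1)))
        (PushLib.preimage_eq_of_w i j a b w _).le ((b ≫ π).app U.1 t) = (i ≫ a ≫ π).app U.1 t := fun t => by
      show ((b ≫ π).app U.1 ≫ j.appLE _ _ _) t = _
      rw [← Scheme.Hom.appLE_eq_app (f := b ≫ π), Scheme.Hom.appLE_comp_appLE, ← Scheme.Hom.appLE_eq_app]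
      have hw : j ≫ b ≫ π = i ≫ a ≫ π := by rw [← Category.assoc, ← w, Category.assoc]
      simp only [hw]
      rfl
    have e2 : ∀ t : Γ(S, U.1), i.app (a ⁻¹ᵁ (π ⁻¹ᵁ U.1)) ((a ≫ π).app U.1 t) = (i ≫ a ≫ π).app U.1 t := fun t => by
      rw [Scheme.Hom.comp_app i (a ≫ π)]; rfl
    have hrs : r - s ∈ (I ⊔ J).ideal U := by
      rw [← ker_app_eq _ hZ U, map_sub, sub_eq_zero]
      exact (e2 r).symm.trans (h.trans (e s))
    rw [Scheme.IdealSheafData.ideal_sup] at hrs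
    obtain ⟨p, hp, q, hq, hpq⟩ := Submodule.mem_sup.1 hrs
    refine ⟨π.app U.1 (r - p), ?_, ?_⟩
    · have := (ker_app_eq (a ≫ π) hX U p).2 hp
      calc a.app _ (π.app U.1 (r - p)) = (a ≫ π).app U.1 (r - p) := by rw [Scheme.Hom.comp_app]; rfl
        _ = _ := by rw [map_sub, this, sub_zero]
    · have := (ker_app_eq (b ≫ π) hY U q).2 hq
      calc b.app _ (π.app U.1 (r - p)) = (b ≫ π).app U.1 (r - p) := by rw [Scheme.Hom.comp_app]; rfl
        _ = _ := by rw [show r - p = s + q by linear_combination -hpq, map_add, this, add_zero]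


open AlgebraicGeometry CategoryTheory in
/-- For closed subschemes X, Y ⊆ S with ideal sheaves I, J, the scheme-theoretic union (ideal sheaf I ⊓
J) is the pushout, in the category of schemes, of X and Y along the scheme-theoretic intersection
(ideal sheaf I ⊔ J). The exact sequence 0 → O_{X∪Y} → O_X × O_Y → O_{X∩Y} → 0 is not stated. -/
theorem result (S : Scheme.{u}) (I J : S.IdealSheafData) :
    IsPushout (Scheme.IdealSheafData.inclusion (le_sup_left : I ≤ I ⊔ J))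
      (Scheme.IdealSheafData.inclusion (le_sup_right : J ≤ I ⊔ J))
      (Scheme.IdealSheafData.inclusion (inf_le_left : I ⊓ J ≤ I))
      (Scheme.IdealSheafData.inclusion (inf_le_right : I ⊓ J ≤ J)) := by
  open Scheme.IdealSheafData in
  have hc : ∀ {A B : S.IdealSheafData} (h : A ≤ B), IsClosedImmersion (inclusion h) := fun {A B} h => by
    have : IsClosedImmersion (inclusion h ≫ A.subschemeι) := by rw [inclusion_subschemeι]; infer_instance
    exact IsClosedImmersion.of_comp _ A.subschemeι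
  haveI := hc (le_sup_left : I ≤ I ⊔ J)
  haveI := hc (le_sup_right : J ≤ I ⊔ J)
  haveI := hc (inf_le_left : I ⊓ J ≤ I)
  haveI := hc (inf_le_right : I ⊓ J ≤ J)
  refine isPushout_union _ _ _ _ (I ⊓ J).subschemeι ?_ I J ?_ ?_ ?_ ?_
  · rw [← cancel_mono (I ⊓ J).subschemeι]; simp
  all_goals simp [Scheme.IdealSheafData.ker_subschemeι]

end Groth.Agent.S9383
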