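import Groth.Statements.S0220
import Groth.Agent.UOpenLib.DimOne
import Groth.Agent.HurwitzLib.Rank
-- import your own Groth.Agent.* helpers here

set_option autoImplicit false
universe u
open CategoryTheory CategoryTheory.Limits AlgebraicGeometry TopologicalSpace
open Curves

namespace Groth.Agent.S0220

/-- A nonconstant morphism between curves over a field (integral, separated, finite type, dimension one)
whose target has integrally closed local domains is flat. -/
theorem result (k : Type u) [Field k] (X Y : Scheme.{u}) (p : X ⟶ Spec (CommRingCat.of k)) (q : Y ⟶ Spec (CommRingCat.of k))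
    [IsIntegral X] [IsIntegral Y] [IsSeparated p] [IsSeparated q] [LocallyOfFiniteType p] [LocallyOfFiniteType q]
    [QuasiCompact p] [QuasiCompact q] (hX : topologicalKrullDim X = 1) (hY : topologicalKrullDim Y = 1)
    (hN : ∀ y : Y, IsDomain (Y.presheaf.stalk y) ∧ IsIntegrallyClosed (Y.presheaf.stalk y))
    (f : X ⟶ Y) (hf : f ≫ q = p) (hnc : (Set.range f.base).Nontrivial) :
    Flat f := by
  haveI : IsLocallyNoetherian Y := LocallyOfFiniteType.isLocallyNoetherian q
  refine UOpenLib.flat_of_dominant_regular_dim_one f (fun y => ⟨HurwitzLib.regular_stalk hY.le hN y, ?_⟩) ?_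
  · haveI := CurveAmpLib.krullDimLE_stalk hY.le y
    exact Ring.krullDimLE_iff.mp inferInstance
  · let a := f (genericPoint X)
    have hr : ∀ x, a ⤳ f x := fun x => ((genericPoint_spec X).specializes trivial).map f.continuous
    by_contra hd
    let Z₁ : TopologicalSpace.IrreducibleCloseds Y :=
      ⟨closure {a}, isIrreducible_singleton.closure, isClosed_closure⟩
    let top : TopologicalSpace.IrreducibleCloseds Y :=
      ⟨Set.univ, IrreducibleSpace.isIrreducible_univ Y, isClosed_univ⟩
    have hne : (Z₁ : Set Y) ≠ Set.univ := fun h => hd fun y => by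
      refine closure_mono (Set.singleton_subset_iff.mpr (Set.mem_range_self (genericPoint X))) ?_
      change y ∈ (Z₁ : Set Y)
      rw [h]; trivial
    have hlt : Z₁ < top := lt_of_le_of_ne (fun _ _ => trivial) fun h => hne (congrArg _ h)
    obtain ⟨y, ⟨x, rfl⟩, hy⟩ : ∃ y ∈ Set.range f.base, y ≠ a := by
      obtain ⟨u, hu, v, hv, huv⟩ := hnc
      by_cases h : u = a
      · exact ⟨v, hv, h ▸ huv.symm⟩
      · exact ⟨u, hu, h⟩
    let Z₀ : TopologicalSpace.IrreducibleCloseds Y :=
      ⟨closure {f x}, isIrreducible_singleton.closure, isClosed_closure⟩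
    have hlt0 : Z₀ < Z₁ := by
      refine lt_of_le_of_ne (closure_minimal (Set.singleton_subset_iff.mpr
        (specializes_iff_mem_closure.mp (hr x))) isClosed_closure) fun h => hy ?_
      exact (specializes_iff_mem_closure.mpr (show a ∈ (Z₀ : Set Y) by
        rw [h]; exact subset_closure rfl)).antisymm (hr x) |>.eq
    rcases Order.krullDim_le_one_iff.mp hY.le Z₁ with hmin | hmax
    · exact hmin.not_lt hlt0
    · exact hmax.not_lt hlt

end Groth.Agent.S0220
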