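import Groth.Statements.S14339
import Groth.Agent.S7843
import Groth.Agent.PlaneCurveLib.DoubleCoverFF
import Groth.Agent.GenusZeroLib.PSmooth
import Groth.Agent.GenusZeroLib.Apps
import Groth.Agent.GenusZeroLib.RatData
import Groth.Agent.ZetaCurveLib.Bridge
-- import your own Groth.Agent.* helpers here

set_option autoImplicit false
universe u
open CategoryTheory CategoryTheory.Limits AlgebraicGeometry
open Curves

namespace Groth.Agent.S14339

attribute [local instance] CurveDualLib.algFF

theorem finrank_h0_projSpace_one (k : Type u) [Field k] :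
    letI : (CohB1.ProjSpace 1 k).Over (Spec (CommRingCat.of k)) := ⟨CohB1.ProjSpace.toSpec 1 k⟩
    Module.finrank k (Coh.HH (CohB1.ProjSpace 1 k) (Coh.structureModule (CohB1.ProjSpace 1 k)) 0) = 1 := by
  classical
  letI : (CohB1.ProjSpace 1 k).Over (Spec (CommRingCat.of k)) := ⟨CohB1.ProjSpace.toSpec 1 k⟩
  obtain ⟨e0⟩ := PicPnLib.twist_zero 1 k
  obtain ⟨e⟩ := PnCohLib.exists_HH_zero (n := 1) (R := k) le_rfl 0
  refine ((CurvLib.hIso (k := k) e0.symm 0).finrank_eq).trans (e.finrank_eq.trans ?_)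
  haveI : Finite (PnCohLib.Deg 1 0) := Nat.finite_of_card_ne_zero (by rw [PnCohLib.card_deg]; norm_num)
  haveI := Fintype.ofFinite (PnCohLib.Deg 1 0)
  rw [Module.finrank_finsupp_self, ← Nat.card_eq_fintype_card, PnCohLib.card_deg]
  rfl

/-- Let k be a field, d ≥ 4, and f a nonzero homogeneous form of degree d in the homogeneous coordinates
of P^2_k whose plane curve X = V_+(f) is smooth over k. Then X is not hyperelliptic: there is no
morphism φ : X → P^1_k over k which is finite and flat of constant rank 2 (a double cover of the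
projective line). -/
theorem result (k : Type u) [Field k] (d : ℕ) (hd : 4 ≤ d) (f : LefPen.Form 2 k d) (hf : f ≠ 0) [Smooth ((LefPen.hypIdeal f).subschemeι ≫ CohB1.ProjSpace.toSpec 2 k)] : ¬ ∃ φ : (LefPen.hypIdeal f).subscheme ⟶ CohB1.ProjSpace 1 k, φ ≫ CohB1.ProjSpace.toSpec 1 k = (LefPen.hypIdeal f).subschemeι ≫ CohB1.ProjSpace.toSpec 2 k ∧ IsFinite φ ∧ Flat φ ∧ ∀ y : ↥(CohB1.ProjSpace 1 k), Scheme.Hom.finrank φ y = 2 := by
  rintro ⟨h, hh, hfin, hflat, hrk⟩
  haveI := hfin
  haveI := hflat
  letI : ((LefPen.hypIdeal f).subscheme).Over (Spec (CommRingCat.of k)) :=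
    ⟨(LefPen.hypIdeal f).subschemeι ≫ CohB1.ProjSpace.toSpec 2 k⟩
  have hinst : (LefPen.hypIdeal f).subscheme ↘ (Spec (CommRingCat.of k)) =
      (LefPen.hypIdeal f).subschemeι ≫ CohB1.ProjSpace.toSpec 2 k := rfl
  haveI : Smooth ((LefPen.hypIdeal f).subscheme ↘ (Spec (CommRingCat.of k))) := by rw [hinst]; infer_instance
  haveI : IsProper ((LefPen.hypIdeal f).subscheme ↘ Spec (CommRingCat.of k)) := by
    haveI : IsProper (CohB1.ProjSpace.toSpec 2 k) := ProjDegLib.toSpec_isProper k 2
    rw [hinst]; infer_instance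
  letI : (CohB1.ProjSpace 1 k).Over (Spec (CommRingCat.of k)) := ⟨CohB1.ProjSpace.toSpec 1 k⟩
  haveI : IsProper (CohB1.ProjSpace 1 k ↘ Spec (CommRingCat.of k)) := ProjDegLib.toSpec_isProper k 1
  haveI : Smooth (CohB1.ProjSpace 1 k ↘ Spec (CommRingCat.of k)) := GenusZeroLib.smooth_toSpec 1 k
  haveI : IsIntegral (CohB1.ProjSpace 1 k) := GenusZeroLib.isIntegral_projSpace k 1
  haveI hconn : ConnectedSpace ↥(LefPen.hypIdeal f).subscheme :=
    PlaneCurveLib.connectedSpace_plane f hf (by omega) hinst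
  haveI : Surjective h := h.one_le_finrank_iff_surjective.1 fun y => by
    show 1 ≤ h.finrank y
    rw [hrk y]; norm_num
  haveI : IsIntegral (LefPen.hypIdeal f).subscheme := S7843.isIntegral_of_smooth (k := k)
  have hP : topologicalKrullDim (CohB1.ProjSpace 1 k) = 1 := GenusZeroLib.dim_projSpace k 1
  have hdimC : topologicalKrullDim (LefPen.hypIdeal f).subscheme = 1 :=
    (AbSchLib.topologicalKrullDim_eq_of_finite_surjective h).trans hP
  have hC := PlaneCurveLib.finrank_HH_plane f hf (by omega) hinst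
  have h0P := finrank_h0_projSpace_one k
  have hKP := CurveDualLib.isFunctionField' (k := k) hP h0P
  have hKC := CurveDualLib.isFunctionField' (k := k) hdimC hC.1
  have hgP : FunFld.genus k (CohB1.ProjSpace 1 k).functionField = 0 := by
    rw [CurveDualLib.genus_eq' hP h0P, Curv2.genus]
    haveI := GradedCechLib.subsingleton_HH_structure (n := 1) (R := k) 0
    exact Module.finrank_zero_of_subsingleton
  have hgC : FunFld.genus k (LefPen.hypIdeal f).subscheme.functionField = (d - 1) * (d - 2) / 2 := by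
    rw [CurveDualLib.genus_eq' hdimC hC.1, Curv2.genus, hC.2]
  have hge : d - 1 ≤ (d - 1) * (d - 2) / 2 := by
    rw [Nat.le_div_iff_mul_le two_pos]
    exact Nat.mul_le_mul le_rfl (by omega)
  obtain ⟨w, hw⟩ := GenusZeroLib.exists_section_projSpace (k := k) 1
  obtain ⟨p⟩ : Nonempty (Spec (CommRingCat.of k)) := inferInstance
  have hcl : IsClosed ({w p} : Set (CohB1.ProjSpace 1 k)) := by
    haveI : IsProper (CohB1.ProjSpace.toSpec 1 k) := ProjDegLib.toSpec_isProper k 1
    haveI : IsClosedImmersion w := by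
      haveI : IsClosedImmersion (w ≫ CohB1.ProjSpace.toSpec 1 k) := by rw [hw]; infer_instance
      exact IsClosedImmersion.of_comp w (CohB1.ProjSpace.toSpec 1 k)
    have := w.isClosedEmbedding.isClosedMap {p} (isClosed_discrete _)
    rwa [Set.image_singleton] at this
  let R₁ : FunFld.Divisor k (CohB1.ProjSpace 1 k).functionField :=
    Finsupp.single (CurveDualLib.ptPlace (k := k) hP hcl) 1
  have hR₁ : R₁.deg = 1 := by
    show FunFld.Divisor.deg (Finsupp.single _ _) = 1
    rw [Groth.Agent.FFLib.deg_single, ← ZetaCurveLib.finrank_residueField hP hcl,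
      GenusZeroLib.finrank_residueField_rational (k := k) w hw p]
    rfl
  obtain ⟨φ, hφ⟩ := PlaneCurveLib.exists_extension (k := k) hdimC hP h hh
  rw [hrk] at hφ
  letI := φ.toRingHom.toAlgebra
  haveI : IsScalarTower k (CohB1.ProjSpace 1 k).functionField (LefPen.hypIdeal f).subscheme.functionField :=
    IsScalarTower.of_algebraMap_eq fun c => (φ.commutes c).symm
  haveI : FiniteDimensional (CohB1.ProjSpace 1 k).functionField (LefPen.hypIdeal f).subscheme.functionField :=
    Module.finite_of_finrank_eq_succ hφ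
  obtain ⟨x, y, D, hD, h1, hx, hy, hgen⟩ := PlaneCurveLib.exists_coords f hf (by omega) hinst hdimC
  refine PlaneCurveLib.not_double_cover' hKP hKC hgP R₁ hR₁ hφ x y D ?_ (by omega) h1 hx hy hgen
  omega

end Groth.Agent.S14339
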