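import Groth.Statements.S1564
import Groth.Agent.SerreVanLib.CurveAmple
import Groth.Agent.SerreVanLib.Main
import Groth.Agent.QCohLib.Coherent

set_option autoImplicit false
universe u
open CategoryTheory CategoryTheory.Limits AlgebraicGeometry
open Curves

namespace Groth.Agent.S1564
open CurvLib QCohLib DevissLib SerreVanLib TopologicalSpace Opposite
open AmpleLib (GenAt GenOn shT)
open TwistLib (genSet)
open AmpleThLib (Gens pS)

section Gen

variable {X : Scheme.{u}}

/-- Every germ of a module supported on finitely many closed points is the germ of a global section. -/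
theorem exists_single (M : X.Modules) {T : Set X} (hT : T.Finite)
    (hTc : ∀ x ∈ T, IsClosed ({x} : Set X)) (hM : CohB1.support M ⊆ T) (x : X)
    (a : (St x).obj M) : ∃ s : Γ(M, ⊤), gm M x (show x ∈ (⊤ : X.Opens) from trivial) s = a ∧
      ∀ y, y ≠ x → gm M y (show y ∈ (⊤ : X.Opens) from trivial) s = 0 := by
  by_cases hx : x ∈ T
  swap
  · have : Subsingleton (M.presheaf.stalk x) := not_not.mp fun h => hx (hM h)
    exact ⟨0, @Subsingleton.elim _ this _ _, fun y _ => gm_zero M y _⟩
  obtain ⟨U, hxU, t, rfl⟩ := exists_gm_eq M x a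
  let D : X.Opens := ⟨(⋃ y ∈ T \ {x}, ({y} : Set X))ᶜ,
    (hT.sdiff.isClosed_biUnion fun y hy => hTc y hy.1).isOpen_compl⟩
  let C : X.Opens := ⟨({x} : Set X)ᶜ, (hTc x hx).isOpen_compl⟩
  have hxD : x ∈ D := fun h => by
    obtain ⟨y, hy, rfl⟩ := Set.mem_iUnion₂.mp h
    exact hy.2 rfl
  let W : ULift.{u} Bool → X.Opens := fun b => if b.down then U ⊓ D else C
  let sf : ∀ b, Γ(M, W b) := fun b => match b with
    | ⟨true⟩ => M.presheaf.map (homOfLE (inf_le_left : U ⊓ D ≤ U)).op t
    | ⟨false⟩ => 0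
  have hzero : ∀ (V : X.Opens) (_ : ∀ y ∈ V, y ∉ T) (s : Γ(M, V)), s = 0 := fun V hV s => by
    refine TopCat.Presheaf.section_ext ((toAbF X).obj M : TopCat.Sheaf AddCommGrpCat X.toTopCat) V _ _
      fun y hy => ?_
    have : Subsingleton (M.presheaf.stalk y) := not_not.mp fun h => hV y hy (hM h)
    exact @Subsingleton.elim _ this _ _
  have hdisj : ∀ y ∈ (U ⊓ D) ⊓ C, y ∉ T := fun y hy hyT =>
    hy.1.2 (Set.mem_biUnion (show y ∈ T \ {x} from ⟨hyT, hy.2⟩) rfl)
  have hcomp : TopCat.Presheaf.IsCompatible M.presheaf W sf := by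
    rintro ⟨_ | _⟩ ⟨_ | _⟩
    · rfl
    · exact (hzero (W ⟨false⟩ ⊓ W ⟨true⟩) (fun y hy => hdisj y ⟨hy.2, hy.1⟩) _).trans
        (hzero (W ⟨false⟩ ⊓ W ⟨true⟩) (fun y hy => hdisj y ⟨hy.2, hy.1⟩) _).symm
    · exact (hzero (W ⟨true⟩ ⊓ W ⟨false⟩) hdisj _).trans (hzero (W ⟨true⟩ ⊓ W ⟨false⟩) hdisj _).symm
    · rfl
  have hcov : (⊤ : X.Opens) ≤ iSup W := fun y _ => by
    by_cases hy : y = x
    · subst hy
      exact Opens.mem_iSup.mpr ⟨⟨true⟩, hxU, hxD⟩
    · exact Opens.mem_iSup.mpr ⟨⟨false⟩, hy⟩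
  obtain ⟨s, hs, -⟩ := TopCat.Sheaf.existsUnique_gluing'
    (F := (⟨M.presheaf, M.isSheaf⟩ : TopCat.Sheaf AddCommGrpCat X.toTopCat))
    W ⊤ (fun b => homOfLE le_top) hcov sf hcomp
  refine ⟨s, ?_, fun y hy => ?_⟩
  swap
  · rw [← gm_map M (le_top : C ≤ ⊤) y hy s]
    exact (congrArg (gm M y _) (hs ⟨false⟩)).trans (gm_zero M y _)
  have h2 := hs ⟨true⟩
  rw [← gm_map M (le_top : U ⊓ D ≤ ⊤) x ⟨hxU, hxD⟩ s, ← gm_map M (inf_le_left : U ⊓ D ≤ U) x ⟨hxU, hxD⟩ t]
  exact congrArg (gm M x _) h2


/-- A family of germs of a module with finite support. -/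
theorem exists_germs (M : X.Modules) {T : Set X} (hT : T.Finite) (hTc : ∀ x ∈ T, IsClosed ({x} : Set X))
    (hM : CohB1.support M ⊆ T) (a : ∀ x : X, (St x).obj M) :
    ∃ s : Γ(M, ⊤), ∀ x ∈ T, gm M x (show x ∈ (⊤ : X.Opens) from trivial) s = a x := by
  classical
  choose f hf hf0 using fun x => exists_single M hT hTc hM x (a x)
  refine ⟨∑ x ∈ hT.toFinset, f x, fun x hx => ?_⟩
  refine (map_sum (M.presheaf.germ ⊤ x trivial).hom _ _).trans ?_
  exact (Finset.sum_eq_single x (fun y _ hy => hf0 y x (Ne.symm hy))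
    fun h => absurd (hT.mem_toFinset.mpr hx) h).trans (hf x)

theorem nonempty_pow_one {L : X.Modules} (hL : PicF.IsInvertible L) :
    Nonempty (CohB1.tensorPow L 1 ≅ L) := by
  obtain ⟨φ, -⟩ := AmpleThLib.exists_iso_gens (fun a : Gens L => a.1) (fun a => pS a.2.1 1) (fun a => a.2.1)
    (AmpleThLib.gens_cover hL) (fun a => AmpleThLib.pS_genOn a.2.2 1) (fun a => a.2.2) (by
    intro a b V ha hb
    obtain ⟨c, hc⟩ := (a.2.2 V ha).2 (AmpleLib.res L hb b.2.1)
    dsimp only at hc
    refine ⟨c, ?_, hc⟩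
    rw [AmpleThLib.pS_res, AmpleThLib.pS_res, ← hc, AmpleThLib.pS_smul, pow_one])
  exact ⟨φ⟩

theorem isAffine_cok_epi {A B : X.Modules} (φ : A ⟶ B)
    (h : ∀ x, Function.Surjective ((St x).map φ).hom) : Epi φ :=
  Abelian.epi_of_cokernel_π_eq_zero φ ((isZero_of_support_empty
    (Set.eq_empty_of_forall_notMem fun x => notMem_support_cokernel φ x (h x))).eq_of_tgt _ _)

end Gen

variable {k : Type u} [Field k] {X : Scheme.{u}} [X.Over (Spec (CommRingCat.of k))]
  [IsIntegral X] [IsProper (X ↘ Spec (CommRingCat.of k))] (hdim : topologicalKrullDim X = 1)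

omit [IsIntegral X] [IsProper (X ↘ Spec (CommRingCat.of k))] in
theorem exists_class (M : X.Modules) (t : Γ(M, ⊤)) :
    ∃ y : Coh.HH X M 0, QCohLib.h0 (QCohLib.hEquiv ((toAbF X).obj M) 0 y) = t :=
  ⟨(QCohLib.hEquiv ((toAbF X).obj M) 0).symm ((QCohLib.h0 (U := (⊤ : Opens X.toTopCat))).symm t), by simp⟩

omit [IsIntegral X] in
theorem sections_surjective_of_h1 {S : ShortComplex X.Modules} (hS : S.ShortExact)
    (hinj : Function.Injective (hMap (k := k) S.f 1)) (t : Γ(S.X₃, ⊤)) : ∃ τ : Γ(S.X₂, ⊤), S.g.app ⊤ τ = t := by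
  obtain ⟨y, rfl⟩ := exists_class S.X₃ t
  have hδ : hDel (k := k) hS 0 y = 0 := hinj (by
    rw [map_zero, ← LinearMap.mem_ker, ← exact₁ hS 0]
    exact ⟨y, rfl⟩)
  obtain ⟨z, rfl⟩ := LinearMap.mem_range.mp (show y ∈ LinearMap.range (hMap (k := k) S.g 0) by
    rw [exact₃ hS 0]; exact hδ)
  exact ⟨_, (hhZero_natural S.g z).symm⟩

omit [IsIntegral X] in
theorem h1_injective_of_sections {S : ShortComplex X.Modules} (hS : S.ShortExact)
    (h : ∀ t : Γ(S.X₃, ⊤), ∃ τ : Γ(S.X₂, ⊤), S.g.app ⊤ τ = t) :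
    Function.Injective (hMap (k := k) S.f 1) := by
  rw [← LinearMap.ker_eq_bot, ← exact₁ hS 0, LinearMap.range_eq_bot]
  ext y
  rw [LinearMap.zero_apply, ← LinearMap.mem_ker, ← exact₃ hS 0]
  obtain ⟨τ, hτ⟩ := h (QCohLib.h0 (QCohLib.hEquiv ((toAbF X).obj S.X₃) 0 y))
  obtain ⟨z, rfl⟩ := exists_class S.X₂ τ
  refine ⟨z, (QCohLib.hEquiv ((toAbF X).obj S.X₃) 0).injective (QCohLib.h0.injective ?_)⟩
  exact (hhZero_natural S.g z).trans hτ

include hdim in
theorem genus_zero_of_eq (h0 : Module.finrank k (Coh.HH X (Coh.structureModule X) 0) = 1)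
    {L : X.Modules} (hL : PicF.IsInvertible L) (hs : Nontrivial (Coh.HH X L 0))
    (heq : (Module.finrank k (Coh.HH X L 0) : ℤ) = Curv2.deg k X L 1 + 1) (hpos : 0 < Curv2.deg k X L 1) :
    Curv2.genus k X = 0 := by
  haveI := CurvLib.isNoetherian k (X := X)
  -- the section and its zeros
  obtain ⟨s, hs0⟩ := exists_hom_ne_zero hs
  let σ : Γ(L, ⊤) := s.app ⊤ (1 : Γ(X, ⊤))
  have hσ : genericPoint X ∈ genSet hL σ := by
    obtain ⟨U, g, hU, hg⟩ := TwistLib.exists_genOn hL (genericPoint X)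
    obtain ⟨c, hc⟩ := AmpleThLib.exists_coeff σ hg
    refine ((AmpleThLib.mem_genSet_coeff hL σ hg hc).ge ((Scheme.mem_basicOpen X c _ hU).mpr ?_)).1
    letI : Field (X.presheaf.stalk (genericPoint X)) := (inferInstance : Field X.functionField)
    refine isUnit_iff_ne_zero.mpr fun h0 => hs0 (?_ : s = 0)
    rcases stalk_dichotomy isInvertible_structureModule hL s with h1 | h1
    · exact eq_zero_of_stalks s h1
    · exfalso
      have h2 : ((St (genericPoint X)).map s).hom
          (gm (Coh.structureModule X) _ (show genericPoint X ∈ (⊤ : X.Opens) from trivial) (1 : Γ(X, ⊤))) = 0 := by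
        refine (DerSch.stalkFunctor_map_germ _ s ⊤ trivial _).trans ?_
        have h3 := congrArg (gm L _ hU) hc
        rw [gm_smul, h0, zero_smul] at h3
        exact (h3.trans (AmpleLib.germ_res L le_top σ hU)).symm
      have h4 := h1 (genericPoint X) (h2.trans (map_zero _).symm)
      have h5 := ((AmpleLib.one_genOn (⊤ : X.Opens)).genAt (x := genericPoint X) trivial).1
        (a₁ := 1) (a₂ := 0) (((one_smul _ _).trans h4).trans (zero_smul _ _).symm)
      exact one_ne_zero h5
  obtain ⟨hT, hTc⟩ := proper_closed_finite k hdim (T := ((genSet hL σ : X.Opens) : Set X)ᶜ)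
    (genSet hL σ).isOpen.isClosed_compl fun h => (h.ge (Set.mem_univ (genericPoint X))) hσ
  -- multiplication by the section
  have hP : ∀ n, PicF.IsInvertible (CohB1.tensorPow L n) := AmpleThLib.tensorPow_isInvertible hL
  choose φ hφ using fun n => exists_mulSection (N := CohB1.tensorPow L n) σ
  have hne : ∀ n, φ n ≠ 0 := fun n h0 => by
    obtain ⟨U, e, hU, he⟩ := TwistLib.exists_genOn (hP n) (genericPoint X)
    have h1 : GenAt (CohB1.tensorMod (CohB1.tensorPow L n) L)
        (shT e (AmpleLib.res L (le_top : U ≤ ⊤) σ)) hU :=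
      (he.genAt hU).tensor ((AmpleLib.genAt_res _ σ hU).mpr hσ)
    have hz : (φ n).app U e = 0 := by rw [h0]; rfl
    rw [hφ] at hz
    exact zero_not_genAt (hz ▸ h1)
  let φ' : ∀ n, CohB1.tensorPow L n ⟶ CohB1.tensorPow L (n + 1) := φ
  have hφsurj : ∀ (n : ℕ) (x : X), x ∈ genSet hL σ → Function.Surjective ((St x).map (φ' n)).hom := by
    intro n x hx z
    obtain ⟨U, e, hU, he⟩ := TwistLib.exists_genOn (hP n) x
    obtain ⟨r, hr⟩ := ((he.genAt hU).tensor ((AmpleLib.genAt_res (le_top : U ≤ ⊤) σ hU).mpr hx)).2 z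
    refine ⟨r • gm (CohB1.tensorPow L n) x hU e, ?_⟩
    rw [map_smul, gm_app]
    refine (congrArg (fun v => r • gm (CohB1.tensorPow L (n + 1)) x hU v) (hφ n U e)).trans ?_
    exact hr
  have hsupp : ∀ n, CohB1.support (cokernel (φ' n)) ⊆ ((genSet hL σ : X.Opens) : Set X)ᶜ := fun n x hx hxσ =>
    notMem_support_cokernel (φ' n) x (hφsurj n x hxσ) hx
  haveI : ∀ n, Mono (φ' n) := fun n => mono_of_ne_zero (hP n) (hP (n + 1)) (hne n)
  let S : ℕ → ShortComplex X.Modules := fun n =>
    ShortComplex.mk (φ' n) (cokernel.π (φ' n)) (cokernel.condition (φ' n))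
  have hS : ∀ n, (S n).ShortExact := fun n =>
    { exact := ShortComplex.exact_of_g_is_cokernel _ (cokernelIsCokernel (φ' n))
      mono_f := inferInstanceAs (Mono (φ' n))
      epi_g := inferInstanceAs (Epi (cokernel.π (φ' n))) }
  have hfin : ∀ n, Module.Finite k (Coh.HH X (CohB1.tensorPow L n) 1) := fun n =>
    finite_HH (isCoh_of_isInvertible (hP n)) 1
  have hh1 : ∀ n, Function.Surjective (hMap (k := k) (φ' n) 1) := fun n y => by
    obtain ⟨hQ, hQd⟩ := cokernel_data (k := k) (hP n) (hP (n + 1)) hdim (hne n)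
    haveI : Subsingleton (Coh.HH X (S n).X₃ 1) :=
      subsingleton_HH_of_support_dim (cokernel (φ' n)) hQ.2 (d := 0) (by exact_mod_cast hQd) 1 Nat.one_pos
    exact LinearMap.mem_range.mp (by
      change y ∈ LinearMap.range (hMap (k := k) (S n).f 1)
      rw [exact₂ (hS n) 1, LinearMap.mem_ker]
      exact Subsingleton.elim _ _)
  -- the first step
  obtain ⟨e1⟩ := nonempty_pow_one hL
  have hg1 : Module.finrank k (Coh.HH X (CohB1.tensorPow L 1) 1) =
      Module.finrank k (Coh.HH X (CohB1.tensorPow L 0) 1) := by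
    have h1 := deg_curve hdim (CohB1.tensorPow L 1) h0
    have h2 : Curv2.deg k X (CohB1.tensorPow L 1) 1 = Curv2.deg k X L 1 := deg_congr e1 1
    have h3 : Module.finrank k (Coh.HH X (CohB1.tensorPow L 1) 0) = Module.finrank k (Coh.HH X L 0) :=
      (hIso (k := k) e1 0).finrank_eq
    have a := deg_curve hdim L h0
    rw [h2, h3] at h1
    show _ = Curv2.genus k X
    omega
  have hbase : ∀ t : Γ(cokernel (φ' 0), ⊤), ∃ τ, (cokernel.π (φ' 0)).app ⊤ τ = t := by
    haveI := hfin 0
    haveI := hfin 1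
    exact sections_surjective_of_h1 (hS 0)
      ((LinearMap.injective_iff_surjective_of_finrank_eq_finrank hg1.symm).mpr (hh1 0))
  -- a section generating at the zeros of the first one
  choose D ed hxD hed using fun x => TwistLib.exists_genOn (hP 1) x
  obtain ⟨q, hq⟩ := exists_germs (cokernel (φ' 0)) hT hTc (hsupp 0)
    fun x => gm (cokernel (φ' 0)) x (hxD x) ((cokernel.π (φ' 0)).app (D x) (ed x))
  obtain ⟨τ₁, hτ₁⟩ := hbase q
  let τ : Γ(L, ⊤) := e1.hom.app ⊤ τ₁
  have hτ : ∀ x, x ∉ genSet hL σ → x ∈ genSet hL τ := by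
    intro x hx
    have hgen : GenAt (CohB1.tensorPow L 1) τ₁ (show x ∈ (⊤ : X.Opens) from trivial) := by
      have hker : ((St x).map (S 0).g).hom
          (gm (CohB1.tensorPow L 1) x (show x ∈ (⊤ : X.Opens) from trivial) τ₁ -
            gm (CohB1.tensorPow L 1) x (hxD x) (ed x)) = 0 := by
        rw [map_sub, sub_eq_zero, gm_app, gm_app]
        exact (congrArg (gm (cokernel (φ' 0)) x _) hτ₁).trans (hq x hx)
      have hx' := (hS 0).map_of_exact (St x)
      obtain ⟨b, hb⟩ := ((ShortComplex.moduleCat_exact_iff _).mp hx'.exact) _ hker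
      obtain ⟨U, g, hxU, hg⟩ := TwistLib.exists_genOn (hP 0) x
      obtain ⟨r, hr⟩ := (hg.genAt hxU).2 b
      obtain ⟨U', g', hxU', hg'⟩ := TwistLib.exists_genOn hL x
      obtain ⟨c, hc⟩ := AmpleThLib.exists_coeff σ hg'
      have hcx : ¬ IsUnit (X.presheaf.germ U' x hxU' c) := fun h => hx
        ((AmpleThLib.mem_genSet_coeff hL σ hg' hc).ge ((Scheme.mem_basicOpen X c x hxU').mpr h)).1
      let E := gm (CohB1.tensorPow L 1) x (hxD x) (ed x)
      obtain ⟨w, hw⟩ := ((hed x).genAt (hxD x)).2 (gm (CohB1.tensorPow L 1) x (⟨hxU, hxU'⟩ : x ∈ U ⊓ U')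
        (shT (AmpleLib.res _ inf_le_left g) (AmpleLib.res _ inf_le_right g')))
      have himg : ((St x).map (φ' 0)).hom (gm (CohB1.tensorPow L 0) x hxU g) =
          (X.presheaf.germ U' x hxU' c * w) • E := by
        rw [mul_smul, ← gm_map (CohB1.tensorPow L 0) (inf_le_left : U ⊓ U' ≤ U) x ⟨hxU, hxU'⟩ g, gm_app]
        refine (congrArg (gm (CohB1.tensorPow L 1) x _) ((hφ 0 _ _).trans ?_)).trans
          ((AmpleLib.germ_smul (CohB1.tensorPow L 1) (X.presheaf.map (homOfLE (inf_le_right : U ⊓ U' ≤ U')).op c)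
            (shT (AmpleLib.res (CohB1.tensorPow L 0) (inf_le_left : U ⊓ U' ≤ U) g)
              (AmpleLib.res L (inf_le_right : U ⊓ U' ≤ U') g')) _).trans ?_)
        · have h6 : AmpleLib.res L (le_top : U ⊓ U' ≤ ⊤) σ =
              X.presheaf.map (homOfLE (inf_le_right : U ⊓ U' ≤ U')).op c • AmpleLib.res L inf_le_right g' := by
            rw [← AmpleLib.res_smul, hc, AmpleLib.res_res]
          rw [h6]
          have h5 := AmpleLib.shT_smul 1 (X.presheaf.map (homOfLE (inf_le_right : U ⊓ U' ≤ U')).op c)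
            (AmpleLib.res (CohB1.tensorPow L 0) (inf_le_left : U ⊓ U' ≤ U) g) (AmpleLib.res L inf_le_right g')
          rw [one_smul, one_mul] at h5
          exact h5
        · rw [TopCat.Presheaf.germ_res_apply]
          exact congrArg (X.presheaf.germ U' x hxU' c • ·) hw.symm
      have hτE : gm (CohB1.tensorPow L 1) x (show x ∈ (⊤ : X.Opens) from trivial) τ₁ =
          (1 + r * (X.presheaf.germ U' x hxU' c * w)) • E := by
        have h1 := hb
        rw [← hr] at h1
        rw [add_smul, one_smul, mul_smul, ← himg]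
        exact (eq_add_of_sub_eq' ((map_smul ((St x).map (S 0).f).hom r (gm (CohB1.tensorPow L 0) x hxU g)).symm.trans h1).symm)
      have hunit : IsUnit (1 + r * (X.presheaf.germ U' x hxU' c * w)) := by
        rw [← IsLocalRing.notMem_maximalIdeal]
        intro h
        refine (IsLocalRing.maximalIdeal.isMaximal (X.presheaf.stalk x)).ne_top ((Ideal.eq_top_iff_one _).mpr ?_)
        simpa using sub_mem h (Ideal.mul_mem_left _ r (Ideal.mul_mem_right w _ ((IsLocalRing.mem_maximalIdeal _).mpr hcx)))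
      change Function.Bijective fun d => d • gm (CohB1.tensorPow L 1) x (show x ∈ (⊤ : X.Opens) from trivial) τ₁
      rw [hτE]
      simp only [smul_smul]
      exact ((hed x).genAt (hxD x)).comp hunit.unit.mulRight.bijective
    let E := ((St x).mapIso e1).toLinearEquiv
    have h7 : (fun d : X.presheaf.stalk x => d • gm L x (show x ∈ (⊤ : X.Opens) from trivial) τ) =
        E ∘ fun d => d • gm (CohB1.tensorPow L 1) x (show x ∈ (⊤ : X.Opens) from trivial) τ₁ := funext fun d => by
      show _ = E (d • _)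
      rw [map_smul]
      exact congrArg (d • ·) (gm_app e1.hom x _ τ₁).symm
    show Function.Bijective fun d => d • gm L x (show x ∈ (⊤ : X.Opens) from trivial) τ
    exact h7 ▸ E.bijective.comp hgen
  -- the induction
  have hind : ∀ n, ∀ t : Γ(cokernel (φ' n), ⊤), ∃ z, (cokernel.π (φ' n)).app ⊤ z = t := by
    intro n
    induction n with
    | zero => exact hbase
    | succ n ih =>
      obtain ⟨ψ, hψ⟩ := exists_mulSection (N := CohB1.tensorPow L n) τ
      let ψ' : CohB1.tensorPow L n ⟶ CohB1.tensorPow L (n + 1) := ψ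
      let Ψ : CohB1.tensorPow L (n + 1) ⟶ CohB1.tensorPow L (n + 1 + 1) :=
        ((DCoh.tensorBi (X := X)).map ψ').app L
      have hΨ : ∀ (V : X.Opens) (a : Γ(CohB1.tensorPow L n, V)) (b : Γ(L, V)),
          Ψ.app V (shT a b) = shT (ψ'.app V a) b := fun V a b => KFlatLib.tensorBi_map₁_shTm ψ' L a b
      have w : φ' n ≫ Ψ = ψ' ≫ φ' (n + 1) := by
        refine Scheme.Modules.hom_ext _ _ fun V => ?_
        ext a
        show Ψ.app V ((φ n).app V a) = (φ (n + 1)).app V (ψ'.app V a)
        rw [hφ, hΨ, hφ]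
      let g := cokernel.map (φ' n) (φ' (n + 1)) ψ' Ψ w
      have hg : ∀ x, Function.Surjective ((St x).map g).hom := by
        intro x c
        obtain ⟨y, rfl⟩ := (ModuleCat.epi_iff_surjective ((St x).map (cokernel.π (φ' (n + 1))))).mp inferInstance c
        by_cases hx : x ∈ genSet hL σ
        · obtain ⟨a, rfl⟩ := hφsurj (n + 1) x hx y
          refine ⟨0, (map_zero _).trans ?_⟩
          rw [← ModuleCat.comp_apply, ← Functor.map_comp, cokernel.condition, Functor.map_zero]
          rfl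
        · obtain ⟨U, a, hU, ha⟩ := TwistLib.exists_genOn (hP n) x
          obtain ⟨U', b, hU', hb⟩ := TwistLib.exists_genOn hL x
          have hV : x ∈ U ⊓ U' := ⟨hU, hU'⟩
          let a' := AmpleLib.res (CohB1.tensorPow L n) (inf_le_left : U ⊓ U' ≤ U) a
          let b' := AmpleLib.res L (inf_le_right : U ⊓ U' ≤ U') b
          have hgen : GenAt (CohB1.tensorPow L (n + 1 + 1)) (Ψ.app (U ⊓ U') (shT a' b')) hV := by
            rw [hΨ]
            refine GenAt.tensor ?_ ((hb.res inf_le_right).genAt hV)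
            show GenAt (CohB1.tensorMod (CohB1.tensorPow L n) L) (ψ.app _ a') hV
            rw [hψ]
            exact ((ha.res inf_le_left).genAt hV).tensor ((AmpleLib.genAt_res _ τ hV).mpr (hτ x hx))
          obtain ⟨r, rfl⟩ := hgen.2 y
          refine ⟨((St x).map (cokernel.π (φ' n))).hom (r • gm (CohB1.tensorPow L (n + 1)) x hV (shT a' b')), ?_⟩
          rw [← ModuleCat.comp_apply, ← Functor.map_comp]
          show ((St x).map (cokernel.π (φ' n) ≫ g)).hom _ = _
          rw [cokernel.π_desc, Functor.map_comp, ModuleCat.comp_apply, map_smul, gm_app]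
          rfl
      haveI : Epi g := isAffine_cok_epi g hg
      obtain ⟨hQ, hQd⟩ := cokernel_data (k := k) (hP n) (hP (n + 1)) hdim (hne n)
      obtain ⟨hQ', -⟩ := cokernel_data (k := k) (hP (n + 1)) (hP (n + 1 + 1)) hdim (hne (n + 1))
      let K : ShortComplex X.Modules := ShortComplex.mk (kernel.ι g) g (kernel.condition g)
      have hK : K.ShortExact :=
        { exact := ShortComplex.exact_of_f_is_kernel _ (kernelIsKernel g)
          mono_f := inferInstanceAs (Mono (kernel.ι g))
          epi_g := inferInstanceAs (Epi g) }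
      have hKc : Coh.IsCoh (kernel g) := by
        haveI := hQ.1
        haveI := hQ'.1
        exact QCohLib.isCoh_of_mono (kernel.ι g) hQ (QCohLib.isQCoh_kernel g)
      have hKd : topologicalKrullDim (CohB1.support (kernel g)) ≤ 0 :=
        (Topology.IsEmbedding.inclusion (support_mono (kernel.ι g))).isInducing.topologicalKrullDim_le.trans hQd
      haveI : Subsingleton (Coh.HH X K.X₁ 1) :=
        subsingleton_HH_of_support_dim (kernel g) hKc.2 (d := 0) (by exact_mod_cast hKd) 1 Nat.one_pos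
      intro t
      obtain ⟨t', rfl⟩ := sections_surjective_of_h1 (k := k) hK (fun a b _ => Subsingleton.elim a b) t
      obtain ⟨z, rfl⟩ := ih t'
      refine ⟨Ψ.app ⊤ z, ?_⟩
      have h8 := congrArg (fun h => Scheme.Modules.Hom.app h ⊤) (cokernel.π_desc (φ' n) (Ψ ≫ cokernel.π (φ' (n + 1)))
        (by rw [← Category.assoc, w, Category.assoc, cokernel.condition, comp_zero]))
      exact (congr($h8 z)).symm
  have hmono : ∀ n, Curv2.genus k X ≤ Module.finrank k (Coh.HH X (CohB1.tensorPow L n) 1) := by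
    intro n
    induction n with
    | zero => exact le_rfl
    | succ n ih =>
      haveI := hfin (n + 1)
      exact ih.trans (LinearMap.finrank_le_finrank_of_injective
        (h1_injective_of_sections (k := k) (hS n) (hind n)))
  obtain ⟨n₀, hn₀⟩ := exists_vanishing (X ↘ Spec (CommRingCat.of k)) hL (isAmple_of_deg_pos hdim hL hpos)
    (Coh.structureModule X) (isCoh_of_isInvertible isInvertible_structureModule)
  obtain ⟨e⟩ : Nonempty (CohB1.tensorMod (CohB1.tensorPow L 0) (CohB1.tensorPow L n₀) ≅ CohB1.tensorPow L (0 + n₀)) :=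
    ⟨AmpleThLib.mulIso hL 0 n₀⟩
  haveI := subsingleton_HH_of_iso e.symm 1 (hn₀ n₀ le_rfl 1 Nat.one_pos)
  have h9 := hmono (0 + n₀)
  rw [Module.finrank_zero_of_subsingleton] at h9
  omega

/-- Let X be a proper curve over a field k (an integral scheme of dimension 1, proper over k) with
H^0(X, O_X) of dimension 1 over k, and L an invertible O_X-module with H^0(X, L) ≠ 0. Then dim_k
H^0(X, L) ≤ deg L + 1, and if equality holds and deg L > 0 then X has genus zero, i.e. H^1(X, O_X) =
0. (This is the statement that a linear series of degree d and dimension r has r ≤ d, with equality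
for d ≥ 1 only in genus zero. The published statement does not exclude r = d = 0 in the equality
clause, where (O_X, H^0(X, O_X)) is a linear series on every such curve and the conclusion fails in
positive genus; the hypothesis 0 < deg L is therefore added to the equality clause here.) -/
theorem result (k : Type u) [Field k] (X : Scheme.{u}) [X.Over (Spec (CommRingCat.of k))]
    [IsIntegral X] [IsProper (X ↘ (Spec (CommRingCat.of k)))] (hdim : topologicalKrullDim X = 1)
    (h0 : Module.finrank k (Coh.HH X (Coh.structureModule X) 0) = 1)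
    (L : X.Modules) (hL : PicF.IsInvertible L) (hs : Nontrivial (Coh.HH X L 0)) :
    (Module.finrank k (Coh.HH X L 0) : ℤ) ≤ Curv2.deg k X L 1 + 1 ∧
      ((Module.finrank k (Coh.HH X L 0) : ℤ) = Curv2.deg k X L 1 + 1 → 0 < Curv2.deg k X L 1 →
        Curv2.genus k X = 0) := by
  obtain ⟨s, hs0⟩ := CurvLib.exists_hom_ne_zero hs
  have h1 := CurvLib.h1_le (k := k) hdim CurvLib.isInvertible_structureModule hL hs0
  have hd := CurvLib.deg_curve hdim L h0
  refine ⟨?_, fun heq hpos => genus_zero_of_eq hdim h0 hL hs heq hpos⟩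
  rw [Curv2.genus] at hd
  omega

end Groth.Agent.S1564
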