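import Groth.Statements.S11004
import Mathlib.FieldTheory.Perfect
import Groth.Agent.GeomFFLib.SepPlaces


-- import your own Groth.Agent.* helpers here

set_option autoImplicit false
universe u v
open FunFld

namespace Groth.Agent.S11004

/-- A geometric function field of one variable has infinitely many places with residue field separable
over `k`. -/
theorem result (k : Type u) (K : Type v) [Field k] [Field K] [Algebra k K]
    (hK : FunFld.IsFunctionField k K) (hg : FunFld.IsGeometric k K) :
    {P : FunFld.Place k K | Algebra.IsSeparable k (IsLocalRing.ResidueField P.O)}.Infinite := by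
  classical
  have hKfg : FFLib.FG1 k K := hK.1
  have hsetinf : ∀ S : Finset (FunFld.Place k K), ∃ R, R ∉ S := fun S => by
    obtain ⟨z, hz⟩ := FFLib.weak_approx_eq S (fun _ => (0 : K)) (fun _ => (1 : ℤ))
    rcases S.eq_empty_or_nonempty with rfl | ⟨P, hP⟩
    · obtain ⟨x, hx, -⟩ := hK.1
      obtain ⟨R, -⟩ := FFLib.exists_zero_of_tr hKfg hx
      exact ⟨R, Finset.notMem_empty R⟩
    have hzP : ∀ R ∈ S, R.1 z < 1 := fun R hR => by
      have := hz R hR
      rw [sub_zero] at this
      rw [this]
      refine lt_of_lt_of_eq (WithZero.exp_lt_exp.2 (?_ : -(1 : ℤ) < (0 : ℤ))) WithZero.exp_zero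
      omega
    have hord : P.ord z ≠ 0 := fun h => by
      have := hz P hP
      rw [sub_zero] at this
      rw [FunFld.Place.ord, this, WithZero.log_exp] at h
      omega
    have hztr := FFLib.transcendental_of_ord hKfg P hord
    have htr : Transcendental k (1 + z) := fun h => hztr (by simpa using h.sub (isAlgebraic_one))
    obtain ⟨R, hR⟩ := FFLib.exists_zero_of_tr hKfg htr
    refine ⟨R, fun hRS => ?_⟩
    rw [FunFld.Place.ord, FFLib.v_one_add_of_lt (hzP R hRS), WithZero.log_one] at hR
    omega
  have hall : PerfectField k → {P : FunFld.Place k K | Algebra.IsSeparable k (IsLocalRing.ResidueField P.O)}.Infinite := by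
    intro _ hfin
    obtain ⟨R, hR⟩ := hsetinf hfin.toFinset
    refine hR (hfin.mem_toFinset.2 ?_)
    have := FFLib.finiteDimensional_residue hKfg R
    show Algebra.IsSeparable k (IsLocalRing.ResidueField R.O)
    have : Algebra.IsAlgebraic k (IsLocalRing.ResidueField R.O) := GeomFFLib.isAlgebraic_residue hKfg R
    exact Algebra.IsAlgebraic.isSeparable_of_perfectField
  rcases finite_or_infinite k with hk | hk
  · exact hall inferInstance
  obtain ⟨x, hxsep⟩ := GeomFFLib.exists_separating hK hg
  have hxt := GeomFFLib.transcendental_of_sep hK hxsep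
  exact GeomFFLib.infinite_separable_of_sep hKfg hxt hxsep

end Groth.Agent.S11004
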