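import Groth.Statements.S2351
import Groth.Agent.LocFFLib.Norm
import Groth.Agent.NormDimOneLib.Cokernel

-- import your own Groth.Agent.* helpers here

set_option autoImplicit false
universe u
open CategoryTheory CategoryTheory.Limits AlgebraicGeometry
open EGA2

namespace Groth.Agent.S2351

theorem surjective_ν (X : Scheme.{u}) [IsIntegral X] [QuasiCompact (X.fromSpecStalk (genericPoint X))]
    [QuasiSeparated (X.fromSpecStalk (genericPoint X))] : Surjective (Curv2.normalizationι X) := by
  haveI := NormDimOneLib.isIntegralHom_normalizationι X
  refine ⟨fun x => ?_⟩
  have hc : IsClosed (Set.range (Curv2.normalizationι X)) := (Curv2.normalizationι X).isClosedMap.isClosed_range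
  have hη : genericPoint X ∈ Set.range (Curv2.normalizationι X) := ⟨_, (LocFFLib.normalization_bir X).1⟩
  exact ((genericPoint_spec X).specializes trivial).mem_closed hc hη


/-- Let X be an integral scheme and X' → X its normalization (integral closure of X in its function
field). Then X' is integral with integrally closed local rings, the morphism X' → X is surjective,
maps the generic point to the generic point and induces a bijection between the residue fields of
the generic points. (The quasi-compactness/quasi-separatedness binders on Spec K(X) → X always hold;
they are only needed to form Mathlib's relative normalization.) -/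
theorem result (X : Scheme.{u}) [IsIntegral X]
    [QuasiCompact (X.fromSpecStalk (genericPoint X))] [QuasiSeparated (X.fromSpecStalk (genericPoint X))] :
    ∃ (_ : IsIntegral (Curv2.normalization X)), Pi1.IsNormalScheme (Curv2.normalization X) ∧ Surjective (Curv2.normalizationι X) ∧
      ∃ hgen : (Curv2.normalizationι X).base (genericPoint (Curv2.normalization X)) = genericPoint X,
        Function.Bijective ((Curv2.normalizationι X).residueFieldMap (genericPoint (Curv2.normalization X))).hom := by
  refine ⟨inferInstance, LocFFLib.normalization_isNormal X, surjective_ν X, (LocFFLib.normalization_bir X).1, ?_⟩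
  haveI := (LocFFLib.normalization_bir X).2
  refine ⟨RingHom.injective _, fun b => ?_⟩
  obtain ⟨b, rfl⟩ := IsLocalRing.residue_surjective b
  obtain ⟨a, rfl⟩ := (ConcreteCategory.bijective_of_isIso
    ((Curv2.normalizationι X).stalkMap (genericPoint (Curv2.normalization X)))).2 b
  exact ⟨IsLocalRing.residue _ a, IsLocalRing.ResidueField.map_residue _ a⟩


end Groth.Agent.S2351
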