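import Groth.Agent.CvgSepLib
import Mathlib.RingTheory.AlgebraicIndependent.TranscendenceBasis
import Mathlib.RingTheory.AlgebraicIndependent.AlgebraicClosure
import Mathlib.RingTheory.TensorProduct.MvPolynomial
import Mathlib.RingTheory.Flat.Basic
import Mathlib.RingTheory.Ideal.GoingUp
import Mathlib.FieldTheory.IsAlgClosed.AlgebraicClosure
import Mathlib.Algebra.MvPolynomial.Funext
import Mathlib.RingTheory.Localization.Away.Basic

/-!
# Covering gonality and arbitrary extensions of the constants

A covering diagram over an extension field `L` of `k` is specialised at an algebraic point of a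
transcendence basis of `L/k`; the transcendence degree forces the coordinate to stay transcendental.
-/

set_option autoImplicit false
set_option linter.style.haveILetI false

universe u v w

open scoped TensorProduct Cardinal
open W4c3irrattreebun IntermediateField

namespace CvgExtLib

theorem exists_eval₂_eq_zero {R R₁ M : Type*} [CommRing R] [CommRing R₁] [Field M] [Algebra R₁ M]
    [FaithfulSMul R₁ M] (f : R →+* M)
    (h : Set.range (algebraMap R₁ M) ⊆ Set.range f) {z : M} (hz : IsAlgebraic R₁ z) :
    ∃ q : Polynomial R, q ≠ 0 ∧ q.eval₂ f z = 0 := by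
  obtain ⟨p, hp0, hp⟩ := hz
  obtain ⟨q, hq⟩ := (Polynomial.mem_lifts (f := f) (p.map (algebraMap R₁ M))).1
    ((Polynomial.lifts_iff_coeff_lifts _).2 fun n => h (by simp [Polynomial.coeff_map]))
  refine ⟨q, fun h0 => ?_, ?_⟩
  · rw [h0, Polynomial.map_zero] at hq
    exact hp0 ((Polynomial.map_eq_zero_iff (FaithfulSMul.algebraMap_injective R₁ M)).1 hq.symm)
  · rw [Polynomial.eval₂_eq_eval_map, hq, ← Polynomial.eval₂_eq_eval_map, ← Polynomial.aeval_def]
    exact hp

/-- Relative algebraic closures are closed under algebraic elements. -/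
theorem mem_closure_of_isAlgebraic {F M : Type*} [Field F] [Field M] [Algebra F M] {z : M}
    (hz : IsAlgebraic (algebraicClosure F M) z) : z ∈ algebraicClosure F M := by
  haveI : Algebra.IsAlgebraic F (algebraicClosure F M) := algebraicClosure.isAlgebraic F M
  exact mem_algebraicClosure_iff.2 (hz.restrictScalars F)

/-- A root of a monic polynomial with coefficients in a relative algebraic closure lies in it. -/
theorem mem_closure_of_isIntegralElem {R O F M : Type*} [CommRing R] [CommRing O] [Field F] [Field M]
    [Algebra F M] (f : R →+* O) (π : O →+* M) (hf : ∀ r, π (f r) ∈ algebraicClosure F M) {y : O}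
    (hy : f.IsIntegralElem y) : π y ∈ algebraicClosure F M := by
  obtain ⟨p, hp, hpy⟩ := hy
  let g : R →+* algebraicClosure F M := (π.comp f).codRestrict (algebraicClosure F M).toSubfield hf
  refine mem_closure_of_isAlgebraic (isAlgebraic_iff_isIntegral.2 ⟨p.map g, hp.map g, ?_⟩)
  rw [Polynomial.eval₂_map, show (algebraMap (algebraicClosure F M) M).comp g = π.comp f from
    RingHom.ext fun _ => rfl, ← Polynomial.hom_eval₂, hpy, map_zero]

section

variable {k : Type u} [Field k]

theorem mem_closure_map {E M L : Type*} [Field E] [Field M] [Field L] [Algebra k E] [Algebra k M]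
    [Algebra k L] [Algebra L M] [IsScalarTower k L M] (f : E →ₐ[k] M) {S : Set E} {S' : Set M}
    (hS : f '' S ⊆ S') {z : E} (hz : IsAlgebraic (Algebra.adjoin k S) z) :
    f z ∈ algebraicClosure (IntermediateField.adjoin L S') M := by
  obtain ⟨p, hp0, hp⟩ := hz
  have hmem : ∀ a : Algebra.adjoin k S, f a ∈ IntermediateField.adjoin L S' := by
    intro a
    have hle : Algebra.adjoin k S ≤
        ((IntermediateField.adjoin L S').restrictScalars k).toSubalgebra.comap f :=
      Algebra.adjoin_le fun x hx => IntermediateField.subset_adjoin _ _ (hS ⟨x, hx, rfl⟩)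
    exact hle a.2
  let g : Algebra.adjoin k S →+* IntermediateField.adjoin L S' :=
    ((f : E →+* M).comp (algebraMap _ E)).codRestrict (IntermediateField.adjoin L S').toSubfield hmem
  have hg : Function.Injective g := fun a b h =>
    Subtype.val_injective ((f : E →+* M).injective (congrArg Subtype.val h))
  refine mem_algebraicClosure_iff.2 ⟨p.map g, (Polynomial.map_ne_zero_iff hg).2 hp0, ?_⟩
  rw [Polynomial.aeval_def, Polynomial.eval₂_map,
    show (algebraMap (IntermediateField.adjoin L S') M).comp g =
      (f : E →+* M).comp (algebraMap _ E) from RingHom.ext fun _ => rfl]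
  change Polynomial.eval₂ _ ((f : E →+* M) z) p = 0
  rw [← Polynomial.hom_eval₂, ← Polynomial.aeval_def, hp, map_zero]

theorem indep_of_tensor {A B C : Type*} [Field A] [Field B] [Field C] [Algebra k A] [Algebra k B]
    [Algebra k C] [Algebra B C] [IsScalarTower k B C] (f : A →ₐ[k] C)
    (hinj : Function.Injective
      (Algebra.TensorProduct.productMap (IsScalarTower.toAlgHom k B C) f))
    {ι : Type*} {x : ι → A} (hx : AlgebraicIndependent k x) :
    AlgebraicIndependent B (f ∘ x) := by
  rw [algebraicIndependent_iff_injective_aeval]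
  let e := MvPolynomial.algebraTensorAlgEquiv k B (σ := ι)
  have key : ∀ q, MvPolynomial.aeval (f ∘ x) (e q) =
      Algebra.TensorProduct.productMap (IsScalarTower.toAlgHom k B C) f
        (LinearMap.lTensor B (MvPolynomial.aeval x : MvPolynomial ι k →ₐ[k] A).toLinearMap q) := by
    intro q
    induction q using TensorProduct.induction_on with
    | zero => simp
    | tmul b p =>
      simp only [LinearMap.lTensor_tmul, AlgHom.toLinearMap_apply,
        Algebra.TensorProduct.productMap_apply_tmul, IsScalarTower.coe_toAlgHom', e,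
        MvPolynomial.algebraTensorAlgEquiv_tmul, Algebra.smul_def]
      rw [map_mul, AlgHom.commutes, MvPolynomial.aeval_map_algebraMap, MvPolynomial.comp_aeval_apply]
      rfl
    | add a b ha hb => simp only [map_add, ha, hb]
  intro p q hpq
  obtain ⟨p, rfl⟩ := e.surjective p
  obtain ⟨q, rfl⟩ := e.surjective q
  rw [key, key] at hpq
  exact congrArg e (Module.Flat.lTensor_preserves_injective_linearMap _
    (algebraicIndependent_iff_injective_aeval.1 hx) (hinj hpq))

theorem card_le_of_indep_of_mem_closure {M : Type v} [Field M] [Algebra k M] {X U : Type v}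
    {x : X → M} (hx : AlgebraicIndependent k x) (w : U → M)
    (h : ∀ i, x i ∈ algebraicClosure (IntermediateField.adjoin k (Set.range w)) M) : #X ≤ #U := by
  let A : IntermediateField k M :=
    (algebraicClosure (IntermediateField.adjoin k (Set.range w)) M).restrictScalars k
  let w' : U → A := fun j => ⟨w j, (algebraicClosure (IntermediateField.adjoin k (Set.range w))
    M).algebraMap_mem ⟨w j, IntermediateField.subset_adjoin _ _ ⟨j, rfl⟩⟩⟩
  let x' : X → A := fun i => ⟨x i, h i⟩
  have hx' : AlgebraicIndependent k x' := AlgebraicIndependent.of_comp A.val hx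
  have hrange : ∀ y ∈ IntermediateField.adjoin k (Set.range w),
      ∃ y' : IntermediateField.adjoin k (Set.range w'), ((y' : A) : M) = y := by
    intro y hy
    have : y ∈ (IntermediateField.adjoin k (Set.range w')).map A.val := by
      rw [IntermediateField.adjoin_map]
      convert hy using 3
      ext; simp [w']
    obtain ⟨y', hy', rfl⟩ := this
    exact ⟨⟨y', hy'⟩, rfl⟩
  haveI : Algebra.IsAlgebraic (IntermediateField.adjoin k (Set.range w')) A := ⟨fun z => by
    obtain ⟨q, hq0, hq⟩ := exists_eval₂_eq_zero
      ((A.val : A →+* M).comp (algebraMap (IntermediateField.adjoin k (Set.range w')) A))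
      (by
        rintro _ ⟨y, rfl⟩
        obtain ⟨y', hy'⟩ := hrange y y.2
        exact ⟨y', hy'⟩)
      (mem_algebraicClosure_iff.1 z.2)
    refine ⟨q, hq0, (A.val : A →+* M).injective ?_⟩
    rw [map_zero, Polynomial.aeval_def, Polynomial.hom_eval₂]
    exact hq⟩
  haveI : Algebra.IsAlgebraic (Algebra.adjoin k (Set.range w')) A :=
    IntermediateField.isAlgebraic_adjoin_iff_top.1 inferInstance
  exact (hx'.cardinalMk_le_trdeg.trans
    (Algebra.IsAlgebraic.trdeg_le_cardinalMk k (Set.range w'))).trans Cardinal.mk_range_le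

end

theorem exists_specialisation {k K C ι : Type u} [Field k] [Field K] [Field C] [Algebra k K]
    [Algebra K C] [Algebra k C] [IsScalarTower k K C] (TC : ι → C) (hTC : AlgebraicIndependent K TC)
    (hC : ∀ y : C, @IsAlgebraic (MvPolynomial ι K) C _ _ (MvPolynomial.aeval TC).toRingHom.toAlgebra y)
    (Y : Finset C) :
    ∃ (O : Subalgebra K C) (C₀ : Type u) (_ : Field C₀) (π : O →+* C₀), (∀ y ∈ Y, y ∈ O) ∧
      (∀ j, ∃ h : TC j ∈ O,
        @IsAlgebraic k C₀ _ _ (π.comp (algebraMap k O)).toAlgebra (π ⟨TC j, h⟩)) ∧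
      (∀ y : O, @IsAlgebraic K C₀ _ _ (π.comp (algebraMap K O)).toAlgebra (π y)) := by
  classical
  let Pn := MvPolynomial ι K
  letI : Algebra Pn C := (MvPolynomial.aeval TC).toRingHom.toAlgebra
  haveI : FaithfulSMul Pn C := (faithfulSMul_iff_algebraMap_injective Pn C).2
    (algebraicIndependent_iff_injective_aeval.1 hTC)
  choose ga hga hgint using fun y => (hC y : IsAlgebraic Pn y).exists_integral_multiple
  let g : Pn := ∏ y ∈ Y, ga y
  have hg : g ≠ 0 := Finset.prod_ne_zero_iff.2 fun y _ => hga y
  -- an algebraic point avoiding `g`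
  let Ω := AlgebraicClosure K
  have hinf : {z : Ω | IsAlgebraic k z}.Infinite := by
    let j : AlgebraicClosure k →ₐ[k] Ω := IsAlgClosed.lift
    refine Set.Infinite.mono ?_ (Set.infinite_range_of_injective (f := j) (RingHom.injective (j : AlgebraicClosure k →+* Ω)))
    rintro _ ⟨z, rfl⟩
    exact (Algebra.IsAlgebraic.isAlgebraic (R := k) z).algHom j
  obtain ⟨τ, hτ, hgτ⟩ : ∃ τ : ι → Ω, (∀ j, IsAlgebraic k (τ j)) ∧ MvPolynomial.aeval τ g ≠ 0 := by
    by_contra h
    push Not at h
    refine hg (MvPolynomial.map_injective _ (algebraMap K Ω).injective ?_)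
    rw [map_zero]
    refine MvPolynomial.funext_set _ (fun _ => hinf) fun τ hτ => ?_
    rw [MvPolynomial.eval_map, ← MvPolynomial.aeval_def, map_zero]
    exact h τ fun j => hτ j (Set.mem_univ j)
  -- specialisation
  let R := Localization.Away g
  have hgC : IsUnit (algebraMap Pn C g) :=
    isUnit_iff_ne_zero.2 ((map_ne_zero_iff _ (FaithfulSMul.algebraMap_injective Pn C)).2 hg)
  letI : Algebra R C := (IsLocalization.Away.lift g hgC).toAlgebra
  haveI : IsScalarTower Pn R C := IsScalarTower.of_algebraMap_eq fun a =>
    (IsLocalization.Away.lift_eq g hgC a).symm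
  let ev : R →+* Ω := IsLocalization.Away.lift (S := R) g
    (g := (MvPolynomial.aeval τ : Pn →ₐ[K] Ω).toRingHom) (isUnit_iff_ne_zero.2 hgτ)
  have hev : ∀ a : Pn, ev (algebraMap Pn R a) = MvPolynomial.aeval τ a := fun a =>
    IsLocalization.Away.lift_eq _ _ a
  have hRinj : Function.Injective (algebraMap R C) :=
    (IsLocalization.lift_injective_iff (M := Submonoid.powers g) _).2 fun a b =>
      ⟨fun h => congrArg (algebraMap Pn C) (IsLocalization.injective R
        (Submonoid.powers_le.2 (mem_nonZeroDivisors_of_ne_zero hg)) h),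
      fun h => congrArg _ (FaithfulSMul.algebraMap_injective Pn C h)⟩
  let O := integralClosure R C
  have hY : ∀ y ∈ Y, y ∈ O := by
    intro y hy
    have hu : IsUnit (algebraMap Pn R (ga y)) :=
      isUnit_of_dvd_unit (map_dvd _ (Finset.dvd_prod_of_mem ga hy))
        (IsLocalization.Away.algebraMap_isUnit g)
    have h1 : IsIntegral R (ga y • y) := (hgint y).tower_top
    have h2 : y = (↑hu.unit⁻¹ : R) • (ga y • y) := by
      rw [Algebra.smul_def, Algebra.smul_def, IsScalarTower.algebraMap_apply Pn R C, ← mul_assoc,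
        ← map_mul, IsUnit.val_inv_mul, map_one, one_mul]
    rw [h2]
    exact h1.smul _
  have hPnO : ∀ a : Pn, algebraMap Pn C a ∈ O := fun a => by
    rw [IsScalarTower.algebraMap_apply Pn R C]; exact O.algebraMap_mem _
  have hKO : ∀ a : K, algebraMap K C a ∈ O := fun a => by
    have := hPnO (MvPolynomial.C a)
    rwa [show algebraMap Pn C (MvPolynomial.C a) = algebraMap K C a from
      MvPolynomial.aeval_C _ _] at this
  haveI : Algebra.IsIntegral R O := integralClosure.AlgebraIsIntegral
  haveI : (RingHom.ker ev).IsPrime := RingHom.ker_isPrime ev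
  obtain ⟨q, -, hqprime, hq⟩ := Ideal.exists_ideal_over_prime_of_isIntegral (RingHom.ker ev)
    (⊥ : Ideal O) (by
      intro r hr
      have h1 : algebraMap R C r = 0 := congrArg Subtype.val hr
      rw [(map_eq_zero_iff _ hRinj).1 h1]
      exact zero_mem _)
  obtain ⟨C₀, instC₀, π, hπq⟩ : ∃ (C₀ : Type u) (_ : Field C₀) (π : O →+* C₀), ∀ z ∈ q, π z = 0 :=
    ⟨FractionRing (O ⧸ q), inferInstance, (algebraMap (O ⧸ q) (FractionRing (O ⧸ q))).comp
      (Ideal.Quotient.mk q), fun z hz => by simp [Ideal.Quotient.eq_zero_iff_mem.2 hz]⟩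
  letI := instC₀
  have hπR : ∀ r : R, ev r = 0 → π (algebraMap R O r) = 0 := fun r hr => hπq _ (by
    have : r ∈ q.comap (algebraMap R O) := by rw [hq]; exact hr
    exact this)
  haveI : IsScalarTower K R C := IsScalarTower.of_algebraMap_eq fun a => by
    rw [IsScalarTower.algebraMap_apply K Pn R a, ← IsScalarTower.algebraMap_apply Pn R C]
    exact (MvPolynomial.aeval_C TC a).symm
  let OK : Subalgebra K C := O.restrictScalars K
  refine ⟨OK, C₀, instC₀, (π : OK →+* C₀), hY, fun j => ⟨?_, ?_⟩, fun y => ?_⟩
  · have := hPnO (MvPolynomial.X j)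
    rwa [show algebraMap Pn C (MvPolynomial.X j) = TC j from MvPolynomial.aeval_X _ _] at this
  all_goals
    letI : Algebra K C₀ := ((π : OK →+* C₀).comp (algebraMap K OK)).toAlgebra
    letI : Algebra k C₀ := ((π : OK →+* C₀).comp (algebraMap k OK)).toAlgebra
    haveI : IsScalarTower k K C₀ := IsScalarTower.of_algebraMap_eq (R := k) (S := K) (A := C₀)
      fun c => congrArg π (Subtype.ext (IsScalarTower.algebraMap_apply k K C c))
    let fPn : Pn →+* O := (algebraMap R O).comp (algebraMap Pn R)
    have hT0 : ∀ j : ι, IsAlgebraic k (π (fPn (MvPolynomial.X j))) := by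
      intro j
      obtain ⟨p, hp0, hp⟩ := hτ j
      refine ⟨p, hp0, ?_⟩
      have h1 : ev (algebraMap Pn R (Polynomial.aeval (MvPolynomial.X j : Pn) p)) = 0 := by
        rw [hev, ← AlgHom.restrictScalars_apply k, ← Polynomial.aeval_algHom_apply,
          AlgHom.restrictScalars_apply, MvPolynomial.aeval_X, hp]
      have h2 := hπR _ h1
      change (π.comp fPn) _ = 0 at h2
      rw [Polynomial.aeval_def, Polynomial.hom_eval₂] at h2
      rw [Polynomial.aeval_def]
      have hcomp : algebraMap k C₀ = (π.comp fPn).comp (algebraMap k Pn) := RingHom.ext fun a => by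
        refine congrArg π (Subtype.ext ?_)
        change algebraMap k C a = algebraMap R C (algebraMap Pn R (algebraMap k Pn a))
        rw [← IsScalarTower.algebraMap_apply Pn R C]
        change _ = MvPolynomial.aeval TC (algebraMap k Pn a)
        rw [IsScalarTower.algebraMap_apply k K Pn, AlgHom.commutes,
          ← IsScalarTower.algebraMap_apply k K C]
      rw [hcomp]
      exact h2
  · have he : ∀ h : TC j ∈ O, π ⟨TC j, h⟩ = π (fPn (MvPolynomial.X j)) := fun h => by
      refine congrArg π (Subtype.ext ?_)
      change TC j = algebraMap R C (algebraMap Pn R (MvPolynomial.X j))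
      rw [← IsScalarTower.algebraMap_apply Pn R C]
      exact (MvPolynomial.aeval_X TC j).symm
    change IsAlgebraic k (π ⟨TC j, _⟩)
    rw [he]
    exact hT0 j
  · refine mem_algebraicClosure_iff.1 (mem_closure_of_isIntegralElem (F := K) (algebraMap R O) π
      (fun r => ?_) (Algebra.IsIntegral.isIntegral (R := R) (⟨y.1, y.2⟩ : O)))
    obtain ⟨⟨a, ⟨_, n, rfl⟩⟩, hr⟩ := IsLocalization.surj (Submonoid.powers g) r
    have hPnA : ∀ a : Pn, π (fPn a) ∈ algebraicClosure K C₀ := by
      intro a
      induction a using MvPolynomial.induction_on with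
      | C c =>
        have : π (fPn (MvPolynomial.C c)) = algebraMap K C₀ c := by
          refine congrArg π (Subtype.ext ?_)
          change algebraMap R C (algebraMap Pn R (MvPolynomial.C c)) = algebraMap K C c
          rw [← IsScalarTower.algebraMap_apply Pn R C]
          exact MvPolynomial.aeval_C _ _
        rw [this]; exact (algebraicClosure K C₀).algebraMap_mem c
      | add p q hp hq => rw [map_add, map_add]; exact add_mem hp hq
      | mul_X p j hp =>
        rw [map_mul, map_mul]
        exact mul_mem hp (mem_algebraicClosure_iff.2 ((hT0 j).tower_top K))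
    have h3 := congrArg (fun z => π (algebraMap R O z)) hr
    simp only [map_mul] at h3
    have h4 : IsUnit (π (fPn (g ^ n))) :=
      ((IsLocalization.map_units R (⟨_, n, rfl⟩ : Submonoid.powers g)).map (algebraMap R O)).map π
    rw [eq_div_of_mul_eq h4.ne_zero h3]
    exact div_mem (hPnA a) (hPnA _)

section

variable {k K L K' : Type u} [Field k] [Field K] [Field L] [Field K']
  [Algebra k K] [Algebra k L] [Algebra K K'] [Algebra L K'] [Algebra k K']
  [IsScalarTower k K K'] [IsScalarTower k L K']

omit [IsScalarTower k L K'] in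
/-- A field finite over `K'` is algebraic over what makes the elements of `K` algebraic. -/
theorem mem_closure_of_gen
    (hgen : ∀ z : K', ∃ a b : K', a ∈ Algebra.adjoin K (Set.range (algebraMap L K')) ∧
      b ∈ Algebra.adjoin K (Set.range (algebraMap L K')) ∧ z = a / b)
    {M : Type u} [Field M] [Algebra K' M] [Module.Finite K' M] [Algebra L M] [IsScalarTower L K' M]
    (S : Set M) (hK : ∀ a : K, algebraMap K' M (algebraMap K K' a) ∈
      algebraicClosure (IntermediateField.adjoin L S) M) (z : M) :
    z ∈ algebraicClosure (IntermediateField.adjoin L S) M := by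
  have hadj : ∀ a ∈ Algebra.adjoin K (Set.range (algebraMap L K')),
      algebraMap K' M a ∈ algebraicClosure (IntermediateField.adjoin L S) M := by
    intro a ha
    induction ha using Algebra.adjoin_induction with
    | mem y hy =>
      obtain ⟨l, rfl⟩ := hy
      rw [← IsScalarTower.algebraMap_apply]
      exact (algebraicClosure (IntermediateField.adjoin L S) M).algebraMap_mem
        (algebraMap L (IntermediateField.adjoin L S) l)
    | algebraMap r => exact hK r
    | add y z _ _ hy hz => rw [map_add]; exact add_mem hy hz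
    | mul y z _ _ hy hz => rw [map_mul]; exact mul_mem hy hz
  refine mem_closure_of_isIntegralElem (algebraMap K' M) (RingHom.id M) (fun a => ?_)
    (Algebra.IsIntegral.isIntegral (R := K') z)
  obtain ⟨a, b, ha, hb, rfl⟩ := hgen a
  rw [RingHom.id_apply, map_div₀]
  exact div_mem (hadj a ha) (hadj b hb)

/-- A transcendence basis of `K/k` is one of every field finite over `K'`, relative to `L`. -/
theorem isTranscendenceBasis_of_gen
    (hgen : ∀ z : K', ∃ a b : K', a ∈ Algebra.adjoin K (Set.range (algebraMap L K')) ∧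
      b ∈ Algebra.adjoin K (Set.range (algebraMap L K')) ∧ z = a / b)
    (hinj : Function.Injective (Algebra.TensorProduct.productMap
      (IsScalarTower.toAlgHom k L K') (IsScalarTower.toAlgHom k K K')))
    {M : Type u} [Field M] [Algebra K' M] [Module.Finite K' M] [Algebra L M] [IsScalarTower L K' M]
    {X : Type u} {x : X → K} (hx : IsTranscendenceBasis k x) :
    IsTranscendenceBasis L (fun i => algebraMap K' M (algebraMap K K' (x i))) := by
  have h1 : AlgebraicIndependent L (fun i => algebraMap K' M (algebraMap K K' (x i))) :=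
    (indep_of_tensor (IsScalarTower.toAlgHom k K K') hinj hx.1).map'
      (f := IsScalarTower.toAlgHom L K' M) (algebraMap K' M).injective
  refine h1.isTranscendenceBasis_iff_isAlgebraic.2
    (IntermediateField.isAlgebraic_adjoin_iff_top.1 ⟨fun z => ?_⟩)
  refine mem_algebraicClosure_iff.1 (mem_closure_of_gen hgen _ (fun a => ?_) z)
  letI : Algebra k M := ((algebraMap K' M).comp (algebraMap k K')).toAlgebra
  haveI : IsScalarTower k L M := IsScalarTower.of_algebraMap_eq fun r => by
    change algebraMap K' M (algebraMap k K' r) = _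
    rw [IsScalarTower.algebraMap_apply k L K', ← IsScalarTower.algebraMap_apply L K' M]
  haveI : IsScalarTower k K' M := IsScalarTower.of_algebraMap_eq fun _ => rfl
  refine mem_closure_map ((IsScalarTower.toAlgHom k K' M).comp (IsScalarTower.toAlgHom k K K'))
    (S := Set.range x) ?_ (hx.isAlgebraic.isAlgebraic a)
  rintro _ ⟨_, ⟨i, rfl⟩, rfl⟩
  exact ⟨i, rfl⟩

set_option maxHeartbeats 1000000 in
/-- A covering diagram of `K/k` gives one of `K'/L` of no larger degree. -/
theorem exists_covDiag_up
    (hgen : ∀ z : K', ∃ a b : K', a ∈ Algebra.adjoin K (Set.range (algebraMap L K')) ∧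
      b ∈ Algebra.adjoin K (Set.range (algebraMap L K')) ∧ z = a / b)
    (hinj : Function.Injective (Algebra.TensorProduct.productMap
      (IsScalarTower.toAlgHom k L K') (IsScalarTower.toAlgHom k K K')))
    {X : Type u} [Finite X] {x : X → K} (hx : IsTranscendenceBasis k x)
    {e : ℕ} (D : CovDiag.{u} k K e) :
    ∃ e' ≤ e, Nonempty (CovDiag.{u} L K' e') := by
  classical
  obtain ⟨m, hm⟩ := Ideal.exists_maximal (K' ⊗[K] D.KC)
  let M := (K' ⊗[K] D.KC) ⧸ m
  letI : Field M := Ideal.Quotient.field m
  let σ : D.KC →ₐ[K] M := (Ideal.Quotient.mkₐ K m).comp Algebra.TensorProduct.includeRight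
  haveI : Module.Finite K' M := Module.Finite.of_surjective (Ideal.Quotient.mkₐ K' m).toLinearMap
    Ideal.Quotient.mk_surjective
  haveI : IsScalarTower L K' M := inferInstance
  -- every element is a `K'`-combination of elements of `σ`
  have hMgen : Submodule.span K' (Set.range σ) = ⊤ := by
    refine eq_top_iff.2 fun z hz => ?_
    clear hz
    obtain ⟨z, rfl⟩ := Ideal.Quotient.mk_surjective z
    induction z using TensorProduct.induction_on with
    | zero => simp
    | tmul a c =>
      have : Ideal.Quotient.mk m (a ⊗ₜ[K] c) = a • σ c := by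
        rw [Algebra.smul_def]
        change _ = Ideal.Quotient.mk m (algebraMap K' _ a) * Ideal.Quotient.mk m (1 ⊗ₜ[K] c)
        rw [← map_mul, Algebra.TensorProduct.algebraMap_apply, Algebra.TensorProduct.tmul_mul_tmul]
        simp
      rw [this]
      exact Submodule.smul_mem _ _ (Submodule.subset_span ⟨c, rfl⟩)
    | add a c ha hc => rw [map_add]; exact Submodule.add_mem _ ha hc
  haveI : IsScalarTower k K' M := inferInstance
  haveI : IsScalarTower k K M := inferInstance
  haveI : IsScalarTower k L M := IsScalarTower.of_algebraMap_eq fun r => by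
    rw [IsScalarTower.algebraMap_apply k K' M, IsScalarTower.algebraMap_apply k L K',
      ← IsScalarTower.algebraMap_apply L K' M]
  -- a transcendence basis of `KC/k` made of one of `KB/k` and `t`
  obtain ⟨U, hu⟩ := exists_isTranscendenceBasis k D.KB
  have hkey : IsTranscendenceBasis D.KB (fun _ : PUnit.{u + 1} => D.t) := by
    refine isTranscendenceBasis_iff_algebraicIndependent_isAlgebraic.2
      ⟨algebraicIndependent_unique_type_iff.2 D.transc,
        IntermediateField.isAlgebraic_adjoin_iff_top.1 ?_⟩
    rw [Set.range_const]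
    infer_instance
  have hw := hu.sumElim_comp hkey
  let w : PUnit.{u + 1} ⊕ U → D.KC :=
    Sum.elim (fun _ => D.t) (algebraMap D.KB D.KC ∘ Subtype.val)
  have hcard : #(PUnit.{u + 1} ⊕ U) = #X := by
    have h1 := isTranscendenceBasis_of_gen (k := k) (K := K) (L := k) (K' := K)
      (fun z => ⟨z, 1, Subalgebra.algebraMap_mem _ z, one_mem _, (div_one z).symm⟩)
      (fun p q h => by
        refine (Algebra.TensorProduct.lid k K).injective ?_
        have : ∀ r : k ⊗[k] K, Algebra.TensorProduct.productMap (IsScalarTower.toAlgHom k k K)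
            (IsScalarTower.toAlgHom k K K) r = Algebra.TensorProduct.lid k K r := by
          intro r
          induction r using TensorProduct.induction_on with
          | zero => simp
          | tmul a b => simp [Algebra.smul_def]
          | add a b ha hb => simp [ha, hb]
        rwa [this, this] at h) (M := D.KC) hx
    exact hw.cardinalMk_eq h1
  haveI : Finite (PUnit.{u + 1} ⊕ U) := by
    rw [← Cardinal.mk_lt_aleph0_iff, hcard]
    exact Cardinal.mk_lt_aleph0
  let w' : PUnit.{u + 1} ⊕ U → M := fun i => σ (w i)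
  have hgenM : ∀ z : M, z ∈ algebraicClosure (IntermediateField.adjoin L (Set.range w')) M := by
    refine mem_closure_of_gen hgen _ fun a => ?_
    rw [← IsScalarTower.algebraMap_apply, ← σ.commutes]
    refine mem_closure_map (σ.restrictScalars k) (S := Set.range w) ?_
      (hw.isAlgebraic.isAlgebraic _)
    rintro _ ⟨_, ⟨i, rfl⟩, rfl⟩
    exact ⟨i, rfl⟩
  haveI : Algebra.IsAlgebraic (Algebra.adjoin L (Set.range w')) M :=
    IntermediateField.isAlgebraic_adjoin_iff_top.1 ⟨fun z => mem_algebraicClosure_iff.1 (hgenM z)⟩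
  have hw' : IsTranscendenceBasis L w' := by
    refine Algebra.IsAlgebraic.isTranscendenceBasis_of_le_trdeg_of_finite L w' ?_
    rw [hcard, (isTranscendenceBasis_of_gen (M := M) hgen hinj hx).cardinalMk_eq_trdeg]
  let u' : U → M := fun j => σ (algebraMap D.KB D.KC j)
  let E₀ := IntermediateField.adjoin L (Set.range u')
  have htE : Transcendental E₀ (σ D.t) := by
    have h2 : AlgebraicIndependent L (Sum.elim (fun _ : PUnit.{u + 1} => σ D.t) u') := by
      convert hw'.1 using 1
      funext i
      rcases i with i | i <;> rfl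
    have h3 := algebraicIndependent_unique_type_iff.1
      (AlgebraicIndependent.sumElim_iff.1 h2).2
    exact IntermediateField.transcendental_adjoin_iff.2 h3
  let B := algebraicClosure E₀ M
  have hKB : ∀ z : D.KB, σ (algebraMap D.KB D.KC z) ∈ B := fun z => by
    refine mem_closure_map ((σ.restrictScalars k).comp (IsScalarTower.toAlgHom k D.KB D.KC))
      (S := Set.range (Subtype.val : U → D.KB)) ?_ (hu.isAlgebraic.isAlgebraic z)
    rintro _ ⟨_, ⟨i, rfl⟩, rfl⟩
    exact ⟨i, rfl⟩
  have htB : Transcendental B (σ D.t) := fun h => htE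
    (mem_algebraicClosure_iff.1 (mem_closure_of_isAlgebraic h))
  haveI : IsScalarTower L B M := IsScalarTower.of_algebraMap_eq fun _ => rfl
  let F := IntermediateField.adjoin B ({σ D.t} : Set M)
  have hFmem : ∀ c ∈ IntermediateField.adjoin D.KB ({D.t} : Set D.KC), σ c ∈ F := by
    intro c hc
    induction hc using IntermediateField.adjoin_induction with
    | mem x hx =>
      rw [Set.mem_singleton_iff] at hx; subst hx
      exact IntermediateField.subset_adjoin _ _ (Set.mem_singleton _)
    | algebraMap x => exact F.algebraMap_mem ⟨_, hKB x⟩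
    | add x y _ _ hx hy => rw [map_add]; exact add_mem hx hy
    | inv x _ hx => rw [map_inv₀]; exact inv_mem hx
    | mul x y _ _ hx hy => rw [map_mul]; exact mul_mem hx hy
  let b := Module.finBasisOfFinrankEq (IntermediateField.adjoin D.KB ({D.t} : Set D.KC)) D.KC
    D.finrank_eq
  let b' : Fin e → M := fun i => σ (b i)
  have hσ : ∀ c : D.KC, σ c ∈ Submodule.span F (Set.range b') := by
    intro c
    rw [← b.sum_repr c, map_sum]
    refine Submodule.sum_mem _ fun i _ => ?_
    rw [IntermediateField.smul_def, smul_eq_mul, map_mul]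
    exact Submodule.smul_mem _ (⟨_, hFmem _ (b.repr c i).2⟩ : F) (Submodule.subset_span ⟨i, rfl⟩)
  have hmul : ∀ x ∈ Submodule.span F (Set.range b'), ∀ c : D.KC,
      σ c * x ∈ Submodule.span F (Set.range b') := by
    intro x hx c
    induction hx using Submodule.span_induction with
    | mem y hy =>
      obtain ⟨i, rfl⟩ := hy
      rw [← map_mul]; exact hσ _
    | zero => simp
    | add y z _ _ hy hz => rw [mul_add]; exact Submodule.add_mem _ hy hz
    | smul a y _ hy => rw [mul_smul_comm]; exact Submodule.smul_mem _ _ hy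
  let A : Subalgebra F M := (Submodule.span F (Set.range b')).toSubalgebra
    (by simpa using hσ 1) fun x y hx hy => by
      induction hx using Submodule.span_induction with
      | mem x hx => obtain ⟨i, rfl⟩ := hx; exact hmul y hy _
      | zero => simp
      | add x z _ _ hx hz => rw [add_mul]; exact Submodule.add_mem _ hx hz
      | smul a x _ hx => rw [smul_mul_assoc]; exact Submodule.smul_mem _ _ hx
  haveI : FiniteDimensional F A :=
    (Module.Finite.span_of_finite F (Set.finite_range b') :
      Module.Finite F (Submodule.span F (Set.range b')))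
  let E : IntermediateField F M := A.toIntermediateField' (isField_of_isIntegral_of_isField'
    (R := F) (S := A) (Field.toIsField F))
  have hadj : ∀ a ∈ Algebra.adjoin K (Set.range (algebraMap L K')), algebraMap K' M a ∈ E := by
    intro a ha
    induction ha using Algebra.adjoin_induction with
    | mem y hy =>
      obtain ⟨l, rfl⟩ := hy
      rw [← IsScalarTower.algebraMap_apply]
      exact E.algebraMap_mem (algebraMap B F (algebraMap L B l))
    | algebraMap r =>
      rw [← IsScalarTower.algebraMap_apply, ← σ.commutes]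
      exact hσ _
    | add y z _ _ hy hz => rw [map_add]; exact add_mem hy hz
    | mul y z _ _ hy hz => rw [map_mul]; exact mul_mem hy hz
  have hspan : ∀ x : M, x ∈ E := by
    intro x
    have hx : x ∈ Submodule.span K' (Set.range σ) := hMgen.symm ▸ Submodule.mem_top
    induction hx using Submodule.span_induction with
    | mem y hy => obtain ⟨c, rfl⟩ := hy; exact hσ c
    | zero => exact zero_mem _
    | add y z _ _ hy hz => exact add_mem hy hz
    | smul a y _ hy =>
      obtain ⟨a, c, ha, hc, rfl⟩ := hgen a
      rw [Algebra.smul_def, map_div₀]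
      exact mul_mem (div_mem (hadj a ha) (hadj c hc)) hy
  have htop : Submodule.span F (Set.range b') = ⊤ := eq_top_iff.2 fun x _ => hspan x
  exact ⟨Module.finrank F M, by
    have h := finrank_range_le_card (R := F) b'
    rw [Set.finrank, htop, finrank_top] at h
    simpa using h,
    ⟨{ KC := M, KB := B, t := σ D.t, transc := htB,
       finiteT := ⟨Submodule.fg_def.2 ⟨Set.range b', Set.finite_range b', htop⟩⟩,
       finrank_eq := rfl }⟩⟩

set_option maxHeartbeats 2000000 in
/-- A covering diagram of `K'/L` gives one of `K/k` of no larger degree. -/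
theorem exists_covDiag_down (hfg : (⊤ : IntermediateField k K).FG)
    (hgen : ∀ z : K', ∃ a b : K', a ∈ Algebra.adjoin K (Set.range (algebraMap L K')) ∧
      b ∈ Algebra.adjoin K (Set.range (algebraMap L K')) ∧ z = a / b)
    (hinj : Function.Injective (Algebra.TensorProduct.productMap
      (IsScalarTower.toAlgHom k L K') (IsScalarTower.toAlgHom k K K')))
    {X : Type u} [Finite X] {x : X → K} (hx : IsTranscendenceBasis k x)
    {e : ℕ} (D : CovDiag.{u} L K' e) :
    ∃ e' ≤ e, Nonempty (CovDiag.{u} k K e') := by
  classical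
  let C := D.KC
  letI : Algebra K C := ((algebraMap K' C).comp (algebraMap K K')).toAlgebra
  haveI : IsScalarTower K K' C := IsScalarTower.of_algebraMap_eq fun _ => rfl
  letI : Algebra k C := ((algebraMap K C).comp (algebraMap k K)).toAlgebra
  haveI : IsScalarTower k K C := IsScalarTower.of_algebraMap_eq fun _ => rfl
  haveI : IsScalarTower k L C := IsScalarTower.of_algebraMap_eq fun r => by
    change algebraMap K' C (algebraMap K K' (algebraMap k K r)) = _
    rw [← IsScalarTower.algebraMap_apply k K K', IsScalarTower.algebraMap_apply k L K',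
      ← IsScalarTower.algebraMap_apply L K' C]
  letI : Algebra k D.KB := ((algebraMap L D.KB).comp (algebraMap k L)).toAlgebra
  haveI : IsScalarTower k L D.KB := IsScalarTower.of_algebraMap_eq fun _ => rfl
  haveI : IsScalarTower k D.KB C := IsScalarTower.of_algebraMap_eq fun r => by
    change _ = algebraMap D.KB C (algebraMap L D.KB (algebraMap k L r))
    rw [← IsScalarTower.algebraMap_apply L D.KB C, ← IsScalarTower.algebraMap_apply k L C]
  -- transcendence bases
  have hxC : IsTranscendenceBasis L (fun i => algebraMap K C (x i)) :=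
    isTranscendenceBasis_of_gen (M := D.KC) hgen hinj hx
  obtain ⟨U, hu⟩ := exists_isTranscendenceBasis L D.KB
  have hut : AlgebraicIndependent L
      (Sum.elim (fun _ : PUnit.{u + 1} => D.t) (algebraMap D.KB C ∘ Subtype.val (p := fun z => z ∈ U))) :=
    hu.1.sumElim_comp (algebraicIndependent_unique_type_iff.2 D.transc)
  have hUX : #PUnit.{u + 1} + #U ≤ #X := by
    rw [Cardinal.add_def, hxC.cardinalMk_eq_trdeg]
    exact hut.cardinalMk_le_trdeg
  haveI : Finite U := by
    rw [← Cardinal.mk_lt_aleph0_iff]
    exact lt_of_le_of_lt (self_le_add_left _ _) (hUX.trans_lt Cardinal.mk_lt_aleph0)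
  haveI := Fintype.ofFinite U
  obtain ⟨T, hT⟩ := exists_isTranscendenceBasis k L
  let ι : Type u := T
  let TC : ι → C := fun j => algebraMap L C j
  have hinj' : Function.Injective (Algebra.TensorProduct.productMap
      (IsScalarTower.toAlgHom k K C) (IsScalarTower.toAlgHom k L C)) := by
    have key : ∀ r : K ⊗[k] L, Algebra.TensorProduct.productMap
        (IsScalarTower.toAlgHom k K C) (IsScalarTower.toAlgHom k L C) r =
        algebraMap K' C (Algebra.TensorProduct.productMap (IsScalarTower.toAlgHom k L K')
          (IsScalarTower.toAlgHom k K K') (Algebra.TensorProduct.comm k K L r)) := by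
      intro r
      induction r using TensorProduct.induction_on with
      | zero => simp
      | tmul a l =>
        simp only [Algebra.TensorProduct.comm_tmul, Algebra.TensorProduct.productMap_apply_tmul,
          IsScalarTower.coe_toAlgHom', map_mul]
        rw [← IsScalarTower.algebraMap_apply L K' C, ← IsScalarTower.algebraMap_apply K K' C,
          mul_comm]
      | add a b ha hb => simp only [map_add, ha, hb]
    intro a b hab
    rw [key, key] at hab
    exact (Algebra.TensorProduct.comm k K L).injective (hinj ((algebraMap K' C).injective hab))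
  have hTC : AlgebraicIndependent K TC :=
    indep_of_tensor (IsScalarTower.toAlgHom k L C) hinj' hT.1
  let Pn := MvPolynomial ι K
  letI : Algebra Pn C := (MvPolynomial.aeval TC).toRingHom.toAlgebra
  haveI : FaithfulSMul Pn C := (faithfulSMul_iff_algebraMap_injective Pn C).2
    (algebraicIndependent_iff_injective_aeval.1 hTC)
  have hCalg : ∀ y : C, IsAlgebraic Pn y := by
    intro y
    have hw := hT.sumElim_comp hxC
    obtain ⟨q, hq0, hq⟩ := exists_eval₂_eq_zero (algebraMap Pn C) (by
      rintro _ ⟨a, rfl⟩
      have hle : Algebra.adjoin k (Set.range (Sum.elim (fun i => algebraMap K C (x i))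
          (algebraMap L C ∘ Subtype.val (p := fun z => z ∈ T)))) ≤
          ((MvPolynomial.aeval TC : Pn →ₐ[K] C).restrictScalars k).range := by
        refine Algebra.adjoin_le ?_
        rintro _ ⟨i | i, rfl⟩
        · exact ⟨MvPolynomial.C (x i), MvPolynomial.aeval_C _ _⟩
        · exact ⟨MvPolynomial.X i, MvPolynomial.aeval_X _ _⟩
      exact hle a.2) (hw.isAlgebraic.isAlgebraic y)
    exact ⟨q, hq0, hq⟩
  -- the finitely many elements that must specialise
  let FD := IntermediateField.adjoin D.KB ({D.t} : Set D.KC)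
  let b := Module.finBasisOfFinrankEq FD D.KC D.finrank_eq
  obtain ⟨s, hs⟩ := hfg
  let Z : Finset C := insert 1 (s.image (algebraMap K C) ∪
    (Finset.univ : Finset (Fin e × Fin e)).image fun p => b p.1 * b p.2)
  have hPQ : ∀ (z : C) (i : Fin e), ∃ P Q : Polynomial D.KB,
      Polynomial.aeval D.t Q ≠ 0 ∧
        ((b.repr z i : FD) : C) = Polynomial.aeval D.t P / Polynomial.aeval D.t Q := by
    intro z i
    obtain ⟨P, Q, hc⟩ := (IntermediateField.mem_adjoin_simple_iff D.KB _).1 (b.repr z i).2
    rcases eq_or_ne (Polynomial.aeval D.t Q) 0 with h0 | h0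
    · exact ⟨0, 1, by simp, by rw [hc, h0]; simp⟩
    · exact ⟨P, Q, h0, hc⟩
  choose P Q hQ hc using hPQ
  let Zc : Finset D.KB := (Z ×ˢ (Finset.univ : Finset (Fin e))).biUnion fun p =>
    (P p.1 p.2).support.image (P p.1 p.2).coeff ∪ (Q p.1 p.2).support.image (Q p.1 p.2).coeff
  let v : U ⊕ T → D.KB := Sum.elim Subtype.val (algebraMap L D.KB ∘ Subtype.val)
  have hv : IsTranscendenceBasis k v := hT.sumElim_comp hu
  let Pv := MvPolynomial (U ⊕ T) k
  letI : Algebra Pv D.KB := (MvPolynomial.aeval v).toRingHom.toAlgebra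
  have hvalg : ∀ z : D.KB, ∃ a : Pv, algebraMap Pv D.KB a ≠ 0 ∧ IsIntegral Pv (a • z) := by
    intro z
    haveI : FaithfulSMul Pv D.KB := (faithfulSMul_iff_algebraMap_injective Pv D.KB).2
      (algebraicIndependent_iff_injective_aeval.1 hv.1)
    obtain ⟨q, hq0, hq⟩ := exists_eval₂_eq_zero (algebraMap Pv D.KB) (by
      rintro _ ⟨a, rfl⟩
      obtain ⟨a, ha⟩ := a
      rw [Algebra.adjoin_range_eq_range_aeval] at ha
      exact ha) (hv.isAlgebraic.isAlgebraic z)
    obtain ⟨a, ha0, ha⟩ := (show IsAlgebraic Pv z from ⟨q, hq0, hq⟩).exists_integral_multiple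
    exact ⟨a, (map_ne_zero_iff _ (FaithfulSMul.algebraMap_injective Pv D.KB)).2 ha0, ha⟩
  choose az haz hazint using hvalg
  let Y : Finset C := insert D.t (Finset.univ.image b ∪ s.image (algebraMap K C) ∪
    Finset.univ.image (fun j : U => algebraMap D.KB C j) ∪ Zc.image (algebraMap D.KB C) ∪
    (Z ×ˢ (Finset.univ : Finset (Fin e))).image (fun p => (Polynomial.aeval D.t (Q p.1 p.2))⁻¹) ∪
    Zc.image (fun z => (algebraMap D.KB C (algebraMap Pv D.KB (az z)))⁻¹))
  obtain ⟨O, C₀, instC₀, π, hY, hT0, hO⟩ := exists_specialisation (k := k) (K := K) TC hTC hCalg Y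
  letI := instC₀
  have hKO : ∀ a : K, algebraMap K C a ∈ O := fun a => O.algebraMap_mem a
  letI : Algebra K C₀ := (π.comp (algebraMap K O)).toAlgebra
  letI : Algebra k C₀ := (π.comp (algebraMap k O)).toAlgebra
  haveI : IsScalarTower k K C₀ := IsScalarTower.of_algebraMap_eq fun a =>
    congrArg π (IsScalarTower.algebraMap_apply k K O a)
  have hkπ : ∀ (a : k) (h : algebraMap k C a ∈ O),
      π ⟨algebraMap k C a, h⟩ = algebraMap k C₀ a := fun _ _ => rfl
  -- images
  have hZcY : ∀ z ∈ Zc, algebraMap D.KB C z ∈ O := fun z hz => hY _ (by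
    simp only [Y, Finset.mem_insert, Finset.mem_union, Finset.mem_image]
    exact Or.inr (Or.inl (Or.inl (Or.inr ⟨z, hz, rfl⟩))))
  have hUY : ∀ j : U, algebraMap D.KB C j ∈ O := fun j => hY _ (by
    simp only [Y, Finset.mem_insert, Finset.mem_union, Finset.mem_image]
    exact Or.inr (Or.inl (Or.inl (Or.inl (Or.inr ⟨j, Finset.mem_univ _, rfl⟩)))))
  have hbY : ∀ i, b i ∈ O := fun i => hY _ (by
    simp only [Y, Finset.mem_insert, Finset.mem_union, Finset.mem_image]
    exact Or.inr (Or.inl (Or.inl (Or.inl (Or.inl (Or.inl ⟨i, Finset.mem_univ _, rfl⟩))))))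
  let tO : O := ⟨D.t, hY _ (Finset.mem_insert_self _ _)⟩
  let bO : Fin e → O := fun i => ⟨b i, hbY i⟩
  let G : Set C₀ := Set.range fun z : Zc => π ⟨_, hZcY z z.2⟩
  let u0 : U → C₀ := fun j => π ⟨_, hUY j⟩
  let Au := algebraicClosure (IntermediateField.adjoin k (Set.range u0)) C₀
  have hGA : ∀ y ∈ G, y ∈ Au := by
    rintro _ ⟨z, rfl⟩
    have hvO : ∀ i, algebraMap D.KB C (v i) ∈ O := by
      rintro (j | j)
      · exact hUY j
      · obtain ⟨this, -⟩ := hT0 j
        rwa [show algebraMap D.KB C (v (Sum.inr j)) = TC j from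
          (IsScalarTower.algebraMap_apply L D.KB C _).symm]
    have hPvO : ∀ a : Pv, algebraMap D.KB C (algebraMap Pv D.KB a) ∈ O := by
      intro a
      induction a using MvPolynomial.induction_on with
      | C c =>
        rw [show algebraMap Pv D.KB (MvPolynomial.C c) = algebraMap k D.KB c from
          MvPolynomial.aeval_C _ _, ← IsScalarTower.algebraMap_apply k D.KB C,
          IsScalarTower.algebraMap_apply k K C]
        exact hKO _
      | add p q hp hq => rw [map_add, map_add]; exact add_mem hp hq
      | mul_X p i hp =>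
        rw [map_mul, map_mul, show algebraMap Pv D.KB (MvPolynomial.X i) = v i from
          MvPolynomial.aeval_X _ _]
        exact mul_mem hp (hvO i)
    let fPv : Pv →+* O := ((algebraMap D.KB C).comp (algebraMap Pv D.KB)).codRestrict O.toSubring hPvO
    have hfPv : ∀ a, π (fPv a) ∈ Au := by
      intro a
      induction a using MvPolynomial.induction_on with
      | C c =>
        have : π (fPv (MvPolynomial.C c)) = algebraMap k C₀ c := by
          rw [← hkπ c (hKO _)]
          refine congrArg π (Subtype.ext ?_)
          change algebraMap D.KB C (algebraMap Pv D.KB (MvPolynomial.C c)) = algebraMap k C c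
          rw [show algebraMap Pv D.KB (MvPolynomial.C c) = algebraMap k D.KB c from
            MvPolynomial.aeval_C _ _, ← IsScalarTower.algebraMap_apply k D.KB C]
        rw [this]
        exact Au.algebraMap_mem (algebraMap k (IntermediateField.adjoin k (Set.range u0)) c)
      | add p q hp hq => rw [map_add, map_add]; exact add_mem hp hq
      | mul_X p i hp =>
        rw [map_mul, map_mul]
        refine mul_mem hp ?_
        rcases i with j | j
        · have : π (fPv (MvPolynomial.X (Sum.inl j))) = u0 j := by
            refine congrArg π (Subtype.ext ?_)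
            change algebraMap D.KB C (MvPolynomial.aeval v (MvPolynomial.X (Sum.inl j) : Pv)) = _
            rw [MvPolynomial.aeval_X]
            rfl
          rw [this]
          exact Au.algebraMap_mem ⟨u0 j, IntermediateField.subset_adjoin _ _ ⟨j, rfl⟩⟩
        · obtain ⟨hTO, halg⟩ := hT0 j
          have : π (fPv (MvPolynomial.X (Sum.inr j))) = π ⟨TC j, hTO⟩ := by
            refine congrArg π (Subtype.ext ?_)
            change algebraMap D.KB C (MvPolynomial.aeval v (MvPolynomial.X (Sum.inr j) : Pv)) = TC j
            rw [MvPolynomial.aeval_X]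
            exact (IsScalarTower.algebraMap_apply L D.KB C _).symm
          rw [this]
          have halg' : IsAlgebraic k (π ⟨TC j, hTO⟩) := halg
          exact mem_algebraicClosure_iff.2 (halg'.tower_top _)
    have hinvO : (algebraMap D.KB C (algebraMap Pv D.KB (az z.1)))⁻¹ ∈ O := hY _ (by
      simp only [Y, Finset.mem_insert, Finset.mem_union, Finset.mem_image]
      exact Or.inr (Or.inr ⟨z.1, z.2, rfl⟩))
    let zO : O := ⟨_, hZcY z z.2⟩
    have hint : fPv.IsIntegralElem (fPv (az z.1) * zO) := by
      obtain ⟨p, hp, hpz⟩ := hazint z.1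
      refine ⟨p, hp, Subtype.val_injective ?_⟩
      have h5 := congrArg (algebraMap D.KB C) hpz
      rw [map_zero, Polynomial.hom_eval₂, Algebra.smul_def, map_mul] at h5
      change O.val.toRingHom (Polynomial.eval₂ fPv _ p) = 0
      rw [Polynomial.hom_eval₂]
      exact h5
    have h6 := mem_closure_of_isIntegralElem (F := IntermediateField.adjoin k (Set.range u0))
      fPv π hfPv hint
    rw [map_mul] at h6
    have h7 : π (fPv (az z.1)) ≠ 0 := by
      intro h0
      have h8 : fPv (az z.1) * ⟨_, hinvO⟩ = 1 :=
        Subtype.ext (mul_inv_cancel₀ ((map_ne_zero (algebraMap D.KB C)).2 (haz z.1)))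
      have := congrArg π h8
      rw [map_mul, h0, zero_mul, map_one] at this
      exact zero_ne_one this
    have h9 := div_mem h6 (hfPv (az z.1))
    rwa [mul_div_cancel_left₀ _ h7] at h9
  -- the spanning family
  let G' : Set C₀ := insert (π tO) G
  let F0 := IntermediateField.adjoin k G'
  let S := Submodule.span F0 (Set.range fun i => π (bO i))
  have hcO : ∀ z ∈ Z, ∀ i, ∃ h : ((b.repr z i : FD) : C) ∈ O,
      π ⟨_, h⟩ ∈ F0 := by
    intro z hz i
    have hmem : (z, i) ∈ Z ×ˢ (Finset.univ : Finset (Fin e)) :=
      Finset.mem_product.2 ⟨hz, Finset.mem_univ _⟩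
    have hpoly : ∀ p : Polynomial D.KB, (∀ n ∈ p.support, p.coeff n ∈ Zc) →
        ∃ h : Polynomial.aeval D.t p ∈ O, π ⟨_, h⟩ ∈ F0 := by
      intro p hp
      have hn : ∀ n ∈ p.support, algebraMap D.KB C (p.coeff n) * D.t ^ n ∈ O := fun n hn =>
        mul_mem (hZcY _ (hp n hn)) (pow_mem tO.2 n)
      let y : O := ∑ n ∈ p.support.attach, ⟨_, hn n n.2⟩
      have hy : (y : C) = Polynomial.aeval D.t p := by
        rw [AddSubmonoidClass.coe_finset_sum, Polynomial.aeval_def, Polynomial.eval₂_eq_sum,
          Polynomial.sum_def]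
        exact p.support.sum_attach fun n => algebraMap D.KB C (p.coeff n) * D.t ^ n
      refine ⟨hy ▸ y.2, ?_⟩
      rw [show (⟨Polynomial.aeval D.t p, hy ▸ y.2⟩ : O) = y from Subtype.ext hy.symm, map_sum]
      refine sum_mem fun n _ => ?_
      rw [show (⟨_, hn n n.2⟩ : O) = ⟨_, hZcY _ (hp n n.2)⟩ * tO ^ (n : ℕ) from rfl, map_mul,
        map_pow]
      exact mul_mem (IntermediateField.subset_adjoin _ _ (Set.mem_insert_of_mem _
        ⟨⟨_, hp n n.2⟩, rfl⟩)) (pow_mem (IntermediateField.subset_adjoin _ _ (Set.mem_insert _ _)) _)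
    obtain ⟨hPO, hPF⟩ := hpoly (P z i) fun n hn => Finset.mem_biUnion.2
      ⟨_, hmem, Finset.mem_union_left _ (Finset.mem_image_of_mem _ hn)⟩
    obtain ⟨hQO, hQF⟩ := hpoly (Q z i) fun n hn => Finset.mem_biUnion.2
      ⟨_, hmem, Finset.mem_union_right _ (Finset.mem_image_of_mem _ hn)⟩
    have hQi : (Polynomial.aeval D.t (Q z i))⁻¹ ∈ O := hY _ (by
      simp only [Y, Finset.mem_insert, Finset.mem_union, Finset.mem_image]
      exact Or.inr (Or.inl (Or.inr ⟨(z, i), hmem, rfl⟩)))
    have h1 : π (⟨_, hQO⟩ : O) * π ⟨_, hQi⟩ = 1 := by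
      rw [← map_mul, show (⟨_, hQO⟩ : O) * ⟨_, hQi⟩ = 1 from
        Subtype.ext (mul_inv_cancel₀ (hQ z i)), map_one]
    have hcm : ((b.repr z i : FD) : C) ∈ O := by
      rw [hc z i, div_eq_mul_inv]; exact mul_mem hPO hQi
    refine ⟨hcm, ?_⟩
    rw [show (⟨_, hcm⟩ : O) = ⟨_, hPO⟩ * ⟨_, hQi⟩ from
      Subtype.ext ((hc z i).trans (div_eq_mul_inv _ _)), map_mul, eq_inv_of_mul_eq_one_right h1]
    exact mul_mem hPF (inv_mem hQF)
  have hZS : ∀ (z : O), (z : C) ∈ Z → π z ∈ S := by
    intro z hz
    choose hcm hcF using hcO _ hz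
    have : z = ∑ i, (⟨_, hcm i⟩ : O) * bO i := by
      refine Subtype.ext ?_
      rw [AddSubmonoidClass.coe_finset_sum]
      exact (b.sum_repr (z : C)).symm
    rw [this, map_sum]
    refine Submodule.sum_mem _ fun i _ => ?_
    rw [map_mul]
    exact Submodule.smul_mem _ (⟨_, hcF i⟩ : F0) (Submodule.subset_span ⟨i, rfl⟩)
  have hbS : ∀ y ∈ S, ∀ i, π (bO i) * y ∈ S := by
    intro y hy i
    induction hy using Submodule.span_induction with
    | mem y hy =>
      obtain ⟨j, rfl⟩ := hy
      rw [← map_mul]
      exact hZS _ (Finset.mem_insert_of_mem (Finset.mem_union_right _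
        (Finset.mem_image.2 ⟨(i, j), Finset.mem_univ _, rfl⟩)))
    | zero => simp
    | add y z _ _ hy hz => rw [mul_add]; exact Submodule.add_mem _ hy hz
    | smul a y _ hy => rw [mul_smul_comm]; exact Submodule.smul_mem _ _ hy
  let A : Subalgebra F0 C₀ := S.toSubalgebra
    (by simpa using hZS 1 (Finset.mem_insert_self _ _)) fun x y hx hy => by
      induction hx using Submodule.span_induction with
      | mem x hx => obtain ⟨i, rfl⟩ := hx; exact hbS y hy i
      | zero => simp
      | add x z _ _ hx hz => rw [add_mul]; exact Submodule.add_mem _ hx hz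
      | smul a x _ hx => rw [smul_mul_assoc]; exact Submodule.smul_mem _ _ hx
  haveI : FiniteDimensional F0 A :=
    (Module.Finite.span_of_finite F0 (Set.finite_range _) : Module.Finite F0 S)
  let E : IntermediateField F0 C₀ := A.toIntermediateField' (isField_of_isIntegral_of_isField'
    (R := F0) (S := A) (Field.toIsField F0))
  have hKE : ∀ a : K, algebraMap K C₀ a ∈ E := by
    intro a
    have ha : a ∈ IntermediateField.adjoin k (s : Set K) := hs.symm ▸ IntermediateField.mem_top
    induction ha using IntermediateField.adjoin_induction with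
    | mem y hy =>
      exact hZS ⟨algebraMap K C y, hKO y⟩ (Finset.mem_insert_of_mem (Finset.mem_union_left _
        (Finset.mem_image_of_mem _ hy)))
    | algebraMap y =>
      rw [← IsScalarTower.algebraMap_apply]
      exact E.algebraMap_mem (algebraMap k F0 y)
    | add y z _ _ hy hz => rw [map_add]; exact add_mem hy hz
    | inv y _ hy => rw [map_inv₀]; exact inv_mem hy
    | mul y z _ _ hy hz => rw [map_mul]; exact mul_mem hy hz
  let Gb : Set C₀ := G' ∪ Set.range fun i => π (bO i)
  let KC := IntermediateField.adjoin K Gb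
  have hKC : ∀ z ∈ KC, z ∈ S := by
    intro z hz
    suffices z ∈ E from this
    induction hz using IntermediateField.adjoin_induction with
    | mem y hy =>
      rcases hy with hy | ⟨i, rfl⟩
      · exact E.algebraMap_mem ⟨y, IntermediateField.subset_adjoin _ _ hy⟩
      · exact Submodule.subset_span ⟨i, rfl⟩
    | algebraMap y => exact hKE y
    | add y z _ _ hy hz => exact add_mem hy hz
    | inv y _ hy => exact inv_mem hy
    | mul y z _ _ hy hz => exact mul_mem hy hz
  haveI : FiniteDimensional K KC := by
    have hfin : Gb.Finite :=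
      ((Set.finite_range _).insert _).union (Set.finite_range _)
    have : Finite Gb := hfin
    refine IntermediateField.finiteDimensional_adjoin fun y hy => ?_
    have hy' : IsAlgebraic K y := by
      rcases hy with (rfl | ⟨z, rfl⟩) | ⟨i, rfl⟩ <;> exact hO _
    exact hy'.isIntegral
  let KB := IntermediateField.adjoin k G
  have hKB : ∀ y ∈ KB, y ∈ KC := fun y hy =>
    (IntermediateField.adjoin_le_iff (T := KC.restrictScalars k)).2 (fun z hz =>
      IntermediateField.subset_adjoin _ _ (Or.inl (Set.mem_insert_of_mem _ hz))) hy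
  letI : Algebra KB KC := ((algebraMap KB C₀).codRestrict KC.toSubfield fun y => hKB y y.2).toAlgebra
  haveI : IsScalarTower k KB KC := IsScalarTower.of_algebraMap_eq fun a => Subtype.ext rfl
  let t0 : KC := ⟨π tO, IntermediateField.subset_adjoin _ _ (Or.inl (Set.mem_insert _ _))⟩
  have ht0 : Transcendental KB t0 := by
    rintro ⟨p, hp0, hp⟩
    have hKBA : ∀ y ∈ KB, y ∈ Au := fun y hy =>
      (IntermediateField.adjoin_le_iff (T := Au.restrictScalars k)).2 hGA hy
    let gA : KB →+* Au := (algebraMap KB C₀).codRestrict Au.toSubfield fun y => hKBA y y.2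
    have htA : π tO ∈ Au := by
      refine mem_closure_of_isAlgebraic ⟨p.map gA,
        (Polynomial.map_ne_zero_iff gA.injective).2 hp0, ?_⟩
      have h2 := congrArg (algebraMap KC C₀) hp
      rw [map_zero, Polynomial.aeval_def, Polynomial.hom_eval₂] at h2
      rw [Polynomial.aeval_def, Polynomial.eval₂_map]
      exact h2
    have hF0A : ∀ y ∈ F0, y ∈ Au := fun y hy =>
      (IntermediateField.adjoin_le_iff (T := Au.restrictScalars k)).2
        (Set.insert_subset htA hGA) hy
    have hxA : ∀ i, algebraMap K C₀ (x i) ∈ Au := by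
      intro i
      have h3 : IsAlgebraic F0 (⟨_, hKE (x i)⟩ : A) := Algebra.IsAlgebraic.isAlgebraic _
      let gF : F0 →+* Au := (algebraMap F0 C₀).codRestrict Au.toSubfield fun y => hF0A y y.2
      obtain ⟨p, hp0, hp⟩ := h3.algHom A.val
      refine mem_closure_of_isAlgebraic ⟨p.map gF,
        (Polynomial.map_ne_zero_iff gF.injective).2 hp0, ?_⟩
      rw [Polynomial.aeval_def, Polynomial.eval₂_map]
      exact hp
    have h4 : #X ≤ #U := card_le_of_indep_of_mem_closure
      (hx.1.map' (f := IsScalarTower.toAlgHom k K C₀) (algebraMap K C₀).injective) u0 hxA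
    have h5 := hUX.trans h4
    rw [Cardinal.mk_punit, Cardinal.mk_fintype U] at h5
    norm_cast at h5
    omega
  let b0 : Fin e → KC := fun i => ⟨π (bO i), IntermediateField.subset_adjoin _ _ (Or.inr ⟨i, rfl⟩)⟩
  let F1 := IntermediateField.adjoin KB ({t0} : Set KC)
  have hF1 : ∀ c ∈ F0, ∃ c' : F1, ((c' : KC) : C₀) = c := by
    intro c hc
    induction hc using IntermediateField.adjoin_induction with
    | mem y hy =>
      rcases hy with rfl | hy
      · exact ⟨⟨t0, IntermediateField.subset_adjoin _ _ (Set.mem_singleton _)⟩, rfl⟩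
      · exact ⟨algebraMap KB F1 ⟨y, IntermediateField.subset_adjoin _ _ hy⟩, rfl⟩
    | algebraMap y => exact ⟨algebraMap KB F1 (algebraMap k KB y), rfl⟩
    | add y z _ _ hy hz =>
      obtain ⟨y', rfl⟩ := hy; obtain ⟨z', rfl⟩ := hz
      exact ⟨y' + z', by push_cast; rfl⟩
    | inv y _ hy =>
      obtain ⟨y', rfl⟩ := hy
      exact ⟨y'⁻¹, by push_cast; rfl⟩
    | mul y z _ _ hy hz =>
      obtain ⟨y', rfl⟩ := hy; obtain ⟨z', rfl⟩ := hz
      exact ⟨y' * z', by push_cast; rfl⟩
  have hspan : ∀ z : KC, z ∈ Submodule.span F1 (Set.range b0) := by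
    intro z
    obtain ⟨c, hc⟩ := (Submodule.mem_span_range_iff_exists_fun F0).1 (hKC (z : C₀) z.2)
    choose c' hc' using fun i => hF1 _ (c i).2
    refine (Submodule.mem_span_range_iff_exists_fun _).2 ⟨c', Subtype.ext ?_⟩
    rw [← hc]
    simp only [IntermediateField.smul_def, smul_eq_mul]
    push_cast
    exact Finset.sum_congr rfl fun i _ => by rw [hc']
  have htop : Submodule.span F1 (Set.range b0) = ⊤ := eq_top_iff.2 fun z _ => hspan z
  exact ⟨Module.finrank F1 KC, by
    have h := finrank_range_le_card (R := F1) b0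
    rw [Set.finrank, htop, finrank_top] at h
    simpa using h,
    ⟨{ KC := KC, KB := KB, t := t0, transc := ht0,
       finiteT := ⟨Submodule.fg_def.2 ⟨Set.range b0, Set.finite_range b0, htop⟩⟩,
       finrank_eq := rfl }⟩⟩

end

/-- The covering gonality is unchanged by an extension of constants. -/
theorem cvg_tensor_eq (k K L K' : Type u) [Field k] [Field K] [Field L]
    [Field K'] [Algebra k K] [Algebra k L]
    (hfg : (⊤ : IntermediateField k K).FG)
    [Algebra (K ⊗[k] L) K'] [IsFractionRing (K ⊗[k] L) K'] [Algebra L K']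
    (hL : ∀ x : L, algebraMap L K' x = algebraMap (K ⊗[k] L) K' ((1 : K) ⊗ₜ[k] x)) :
    cvg L K' = cvg k K := by
  classical
  letI : Algebra K K' := ((algebraMap (K ⊗[k] L) K').comp
    (Algebra.TensorProduct.includeLeftRingHom : K →+* K ⊗[k] L)).toAlgebra
  letI : Algebra k K' := ((algebraMap K K').comp (algebraMap k K)).toAlgebra
  haveI : IsScalarTower k K K' := IsScalarTower.of_algebraMap_eq fun _ => rfl
  haveI : IsScalarTower k L K' := IsScalarTower.of_algebraMap_eq fun a => by
    rw [hL]
    change algebraMap (K ⊗[k] L) K' (algebraMap k K a ⊗ₜ[k] (1 : L)) = _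
    rw [Algebra.TensorProduct.tmul_one_eq_one_tmul]
  have htmul : ∀ (a : K) (l : L), algebraMap (K ⊗[k] L) K' (a ⊗ₜ[k] l) =
      algebraMap K K' a * algebraMap L K' l := by
    intro a l
    rw [hL]
    change _ = algebraMap (K ⊗[k] L) K' (a ⊗ₜ[k] (1 : L)) * _
    rw [← map_mul, Algebra.TensorProduct.tmul_mul_tmul, mul_one, one_mul]
  have htens : ∀ x : K ⊗[k] L, algebraMap (K ⊗[k] L) K' x ∈
      Algebra.adjoin K (Set.range (algebraMap L K')) := by
    intro x
    induction x using TensorProduct.induction_on with
    | zero => rw [map_zero]; exact zero_mem _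
    | tmul a l =>
      rw [htmul]
      exact mul_mem (Subalgebra.algebraMap_mem _ _) (Algebra.subset_adjoin ⟨l, rfl⟩)
    | add a c ha hc => rw [map_add]; exact add_mem ha hc
  have hgen : ∀ z : K', ∃ a b : K', a ∈ Algebra.adjoin K (Set.range (algebraMap L K')) ∧
      b ∈ Algebra.adjoin K (Set.range (algebraMap L K')) ∧ z = a / b := by
    intro z
    obtain ⟨a, s, -, rfl⟩ := IsFractionRing.div_surjective (A := K ⊗[k] L) z
    exact ⟨_, _, htens a, htens s, rfl⟩
  have hinj : Function.Injective (Algebra.TensorProduct.productMap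
      (IsScalarTower.toAlgHom k L K') (IsScalarTower.toAlgHom k K K')) := by
    have key : ∀ r : L ⊗[k] K, Algebra.TensorProduct.productMap (IsScalarTower.toAlgHom k L K')
        (IsScalarTower.toAlgHom k K K') r =
        algebraMap (K ⊗[k] L) K' (Algebra.TensorProduct.comm k L K r) := by
      intro r
      induction r using TensorProduct.induction_on with
      | zero => simp
      | tmul l a => simp [htmul, mul_comm]
      | add a b ha hb => simp only [map_add, ha, hb]
    intro a b hab
    rw [key, key] at hab
    exact (Algebra.TensorProduct.comm k L K).injective (IsFractionRing.injective _ _ hab)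
  obtain ⟨X, hX, x, hx⟩ : ∃ (X : Type u) (_ : Finite X) (x : X → K), IsTranscendenceBasis k x := by
    obtain ⟨s, hs⟩ := hfg
    haveI : Algebra.IsAlgebraic (Algebra.adjoin k (s : Set K)) K := by
      refine IntermediateField.isAlgebraic_adjoin_iff_top.1 ?_
      rw [hs]
      exact ⟨fun z => isAlgebraic_algebraMap (⟨z, IntermediateField.mem_top⟩ : (⊤ : IntermediateField k K))⟩
    obtain ⟨t, hts, ht⟩ := exists_isTranscendenceBasis_subset (R := k) (s : Set K)
    exact ⟨t, (s.finite_toSet.subset hts).to_subtype, _, ht⟩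
  refine CvgSepLib.sInf_eq_of_forall_exists_le ?_ ?_
  · rintro e ⟨D⟩
    obtain ⟨e', he, hD'⟩ := exists_covDiag_down hfg hgen hinj hx D
    exact ⟨e', hD', he⟩
  · rintro e ⟨D⟩
    obtain ⟨e', he, hD'⟩ := exists_covDiag_up hgen hinj hx D
    exact ⟨e', hD', he⟩

end CvgExtLib
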