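import Groth.Prelude.Def_W4c3irrattreebunCvg
import Mathlib.FieldTheory.Relrank
import Mathlib.FieldTheory.AlgebraicClosure
import Mathlib.RingTheory.Algebraic.Integral

/-! Covering gonality and the field of constants. -/

namespace Groth.Agent.CvgLib
open W4c3irrattreebun
universe u

variable (k K : Type u) [Field k] [Field K] [Algebra k K]

theorem forget {e : ℕ} (D : CovDiag.{u} (algebraicClosure k K) K e) :
    ∃ D' : CovDiag.{u} k K e, Algebra.IsSeparable K D.KC → Algebra.IsSeparable K D'.KC := by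
  letI a1 : Algebra k D.KC := ((algebraMap K D.KC).comp (algebraMap k K)).toAlgebra
  letI a2 : Algebra k D.KB := ((algebraMap (algebraicClosure k K) D.KB).comp (algebraMap k (algebraicClosure k K))).toAlgebra
  haveI : IsScalarTower k K D.KC := IsScalarTower.of_algebraMap_eq fun _ => rfl
  haveI : IsScalarTower k D.KB D.KC := IsScalarTower.of_algebraMap_eq fun c => by
    show algebraMap K D.KC (algebraMap k K c) =
      algebraMap D.KB D.KC (algebraMap (algebraicClosure k K) D.KB (algebraMap k (algebraicClosure k K) c))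
    rw [← @IsScalarTower.algebraMap_apply (algebraicClosure k K) D.KB D.KC _ _ _ _ _ D.algkC D.towerB,
      @IsScalarTower.algebraMap_apply (algebraicClosure k K) K D.KC _ _ _ _ _ D.algkC D.towerK]
    rfl
  exact ⟨{ KC := D.KC, KB := D.KB, t := D.t, transc := D.transc, finrank_eq := D.finrank_eq }, fun h => h⟩

theorem extend {e : ℕ} (D : CovDiag.{u} k K e) :
    ∃ e' ≤ e, ∃ D' : CovDiag.{u} (algebraicClosure k K) K e', Algebra.IsSeparable K D.KC → Algebra.IsSeparable K D'.KC := by
  set B := algebraicClosure D.KB D.KC with hB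
  have hmem : ∀ c : algebraicClosure k K, algebraMap K D.KC (c : K) ∈ B := fun c => by
    rw [hB, mem_algebraicClosure_iff]
    have h1 : IsAlgebraic k (c : K) := mem_algebraicClosure_iff.1 c.2
    exact IsAlgebraic.tower_top (K := k) D.KB (h1.algHom (IsScalarTower.toAlgHom k K D.KC))
  letI a2 : Algebra (algebraicClosure k K) B :=
    (((algebraMap K D.KC).comp (algebraMap (algebraicClosure k K) K)).codRestrict B hmem).toAlgebra
  haveI : IsScalarTower (algebraicClosure k K) B D.KC := IsScalarTower.of_algebraMap_eq fun _ => rfl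
  have htr : Transcendental B D.t := fun h => D.transc (h.restrictScalars D.KB)
  set E := IntermediateField.adjoin D.KB ({D.t} : Set D.KC) with hE
  set E' : IntermediateField B D.KC := IntermediateField.adjoin B ({D.t} : Set D.KC) with hE'
  have hle : E ≤ E'.restrictScalars D.KB := by
    rw [hE, IntermediateField.adjoin_simple_le_iff]
    exact IntermediateField.mem_adjoin_simple_self B D.t
  have hmul := IntermediateField.relfinrank_mul_finrank_top hle
  have hpos : 0 < Module.finrank E D.KC := Module.finrank_pos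
  have hfr : Module.finrank (E'.restrictScalars D.KB) D.KC = Module.finrank E' D.KC := rfl
  have hpos' : 0 < Module.finrank E' D.KC := by
    rw [← hfr]
    rcases Nat.eq_zero_or_pos (Module.finrank (E'.restrictScalars D.KB) D.KC) with h | h
    · rw [h, mul_zero] at hmul; omega
    · exact h
  haveI : Module.Finite E' D.KC := Module.finite_of_finrank_pos hpos'
  refine ⟨Module.finrank E' D.KC, ?_, ⟨{ KC := D.KC, KB := B, t := D.t, transc := htr, finrank_eq := rfl }, fun h => h⟩⟩
  exact (hfr ▸ Nat.le_of_dvd hpos (Dvd.intro_left _ hmul)).trans_eq D.finrank_eq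

theorem cvg_eq : cvg k K = cvg (algebraicClosure k K) K := by
  unfold cvg
  rcases Set.eq_empty_or_nonempty {e : ℕ | Nonempty (CovDiag.{u} k K e)} with h | h
  · rw [h, Nat.sInf_empty, Set.eq_empty_of_forall_notMem (s := {e : ℕ | Nonempty (CovDiag.{u} (algebraicClosure k K) K e)}), Nat.sInf_empty]
    rintro e ⟨D⟩
    obtain ⟨D', -⟩ := forget k K D
    exact Set.eq_empty_iff_forall_notMem.1 h e ⟨D'⟩
  · obtain ⟨D⟩ := Nat.sInf_mem h
    obtain ⟨e', he', D', -⟩ := extend k K D
    refine le_antisymm ?_ (le_trans (Nat.sInf_le (show e' ∈ {e : ℕ | Nonempty (CovDiag.{u} (algebraicClosure k K) K e)} from ⟨D'⟩)) he')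
    obtain ⟨D''⟩ := Nat.sInf_mem (s := {e : ℕ | Nonempty (CovDiag.{u} (algebraicClosure k K) K e)}) ⟨e', Nonempty.intro D'⟩
    obtain ⟨D₀, -⟩ := forget k K D''
    exact Nat.sInf_le ⟨D₀⟩

theorem scvg_eq : scvg k K = scvg (algebraicClosure k K) K := by
  unfold scvg
  rcases Set.eq_empty_or_nonempty {e : ℕ | ∃ D : CovDiag.{u} k K e, Algebra.IsSeparable K D.KC} with h | h
  · rw [h, Nat.sInf_empty, Set.eq_empty_of_forall_notMem (s := {e : ℕ | ∃ D : CovDiag.{u} (algebraicClosure k K) K e, Algebra.IsSeparable K D.KC}), Nat.sInf_empty]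
    rintro e ⟨D, hD⟩
    obtain ⟨D', hD'⟩ := forget k K D
    exact Set.eq_empty_iff_forall_notMem.1 h e ⟨D', hD' hD⟩
  · obtain ⟨D, hD⟩ := Nat.sInf_mem h
    obtain ⟨e', he', D', hD'⟩ := extend k K D
    refine le_antisymm ?_ (le_trans (Nat.sInf_le (show e' ∈ {e : ℕ | ∃ D : CovDiag.{u} (algebraicClosure k K) K e, Algebra.IsSeparable K D.KC} from ⟨D', hD' hD⟩)) he')
    obtain ⟨D'', hD''⟩ := Nat.sInf_mem (s := {e : ℕ | ∃ D : CovDiag.{u} (algebraicClosure k K) K e, Algebra.IsSeparable K D.KC}) ⟨e', D', hD' hD⟩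
    obtain ⟨D₀, h₀⟩ := forget k K D''
    exact Nat.sInf_le ⟨D₀, h₀ hD''⟩

end Groth.Agent.CvgLib
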