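import Groth.Prelude.Def_W4c3irrattreebunCvg
import Mathlib.FieldTheory.SeparableClosure
import Mathlib.FieldTheory.IntermediateField.Adjoin.Algebra
import Mathlib.RingTheory.TensorProduct.Free
import Mathlib.RingTheory.Localization.FractionRing
import Mathlib.FieldTheory.AlgebraicClosure
import Mathlib.RingTheory.Finiteness.Basic
import Mathlib.RingTheory.Flat.FaithfullyFlat.Algebra

/-!
# Separable covering gonality and separable algebraic extensions of the constants
-/

set_option autoImplicit false
set_option linter.style.haveILetI false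

universe u

open scoped TensorProduct
open W4c3irrattreebun IntermediateField

namespace CvgSepLib

/-- The least element of two sets of naturals, each minorised by the other, agree. -/
theorem sInf_eq_of_forall_exists_le {S T : Set ℕ} (h₁ : ∀ a ∈ S, ∃ b ∈ T, b ≤ a)
    (h₂ : ∀ a ∈ T, ∃ b ∈ S, b ≤ a) : sInf S = sInf T := by
  rcases S.eq_empty_or_nonempty with hS | hS
  · rcases T.eq_empty_or_nonempty with hT | ⟨a, ha⟩
    · rw [hS, hT]
    · obtain ⟨b, hb, -⟩ := h₂ a ha
      rw [hS] at hb; exact hb.elim
  · obtain ⟨b, hb, hba⟩ := h₁ _ (Nat.sInf_mem hS)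
    obtain ⟨c, hc, hcb⟩ := h₂ _ (Nat.sInf_mem ⟨b, hb⟩)
    have h3 := Nat.sInf_le hb
    have h4 := Nat.sInf_le hc
    omega

/-- A covering diagram from a spanning family. -/
theorem exists_covDiag_le {k K : Type u} [Field k] [Field K] [Algebra k K]
    (KC KB : Type u) [Field KC] [Field KB] [Algebra K KC] [Algebra k KC] [IsScalarTower k K KC]
    [Algebra k KB] [Algebra KB KC] [IsScalarTower k KB KC] [Module.Finite K KC]
    [Algebra.IsSeparable K KC]
    (t : KC) (ht : Transcendental KB t) {n : ℕ} (b : Fin n → KC)
    (hb : ∀ x : KC, x ∈ Submodule.span (IntermediateField.adjoin KB ({t} : Set KC)) (Set.range b)) :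
    ∃ e ≤ n, ∃ D : CovDiag.{u} k K e, Algebra.IsSeparable K D.KC := by
  have htop : Submodule.span (IntermediateField.adjoin KB ({t} : Set KC)) (Set.range b) = ⊤ :=
    eq_top_iff.2 fun x _ => hb x
  have hfin : Module.Finite (IntermediateField.adjoin KB ({t} : Set KC)) KC :=
    ⟨Submodule.fg_def.2 ⟨Set.range b, Set.finite_range b, htop⟩⟩
  refine ⟨Module.finrank (IntermediateField.adjoin KB ({t} : Set KC)) KC, ?_,
    { KC := KC, KB := KB, t := t, transc := ht, finrank_eq := rfl }, ?_⟩
  · have h := finrank_range_le_card (R := IntermediateField.adjoin KB ({t} : Set KC)) b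
    rw [Set.finrank, htop, finrank_top] at h
    simpa using h
  · assumption

section

variable {k K L K' : Type u} [Field k] [Field K] [Field L] [Field K']
  [Algebra k K] [Algebra k L] [Algebra K K'] [Algebra L K'] [Algebra k K']
  [IsScalarTower k K K'] [IsScalarTower k L K'] [Algebra.IsSeparable k L]

/-- A covering diagram of `K/k` gives one of `K'/L` of no larger degree. -/
theorem exists_covDiag_up (hgen : Algebra.adjoin K (Set.range (algebraMap L K')) = ⊤)
    {e : ℕ} (D : CovDiag.{u} k K e) (hD : Algebra.IsSeparable K D.KC) :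
    ∃ e' ≤ e, ∃ D' : CovDiag.{u} L K' e', Algebra.IsSeparable K' D'.KC := by
  classical
  obtain ⟨m, hm⟩ := Ideal.exists_maximal (K' ⊗[K] D.KC)
  let M := (K' ⊗[K] D.KC) ⧸ m
  letI : Field M := Ideal.Quotient.field m
  let σ : D.KC →ₐ[K] M := (Ideal.Quotient.mkₐ K m).comp Algebra.TensorProduct.includeRight
  haveI : Module.Finite K' M := Module.Finite.of_surjective (Ideal.Quotient.mkₐ K' m).toLinearMap
    Ideal.Quotient.mk_surjective
  haveI : IsScalarTower L K' M := inferInstance
  -- every element is a `K'`-combination of elements of `σ`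
  have hMgen : Submodule.span K' (Set.range σ) = ⊤ := by
    refine eq_top_iff.2 fun x hx => ?_
    clear hx
    obtain ⟨x, rfl⟩ := Ideal.Quotient.mk_surjective x
    induction x using TensorProduct.induction_on with
    | zero => simp
    | tmul a c =>
      have : Ideal.Quotient.mk m (a ⊗ₜ[K] c) = a • σ c := by
        rw [Algebra.smul_def]
        change _ = Ideal.Quotient.mk m (algebraMap K' _ a) * Ideal.Quotient.mk m (1 ⊗ₜ[K] c)
        rw [← map_mul, Algebra.TensorProduct.algebraMap_apply, Algebra.TensorProduct.tmul_mul_tmul]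
        simp
      rw [this]
      exact Submodule.smul_mem _ _ (Submodule.subset_span ⟨c, rfl⟩)
    | add a c ha hc => rw [map_add]; exact Submodule.add_mem _ ha hc
  -- separability
  haveI : Algebra.IsSeparable K' M := by
    have hle : ∀ x : M, x ∈ separableClosure K' M := by
      intro x
      have hx : x ∈ Submodule.span K' (Set.range σ) := hMgen.symm ▸ Submodule.mem_top
      induction hx using Submodule.span_induction with
      | mem y hy =>
        obtain ⟨c, rfl⟩ := hy
        have h1 : IsSeparable K (σ c) := by
          have := Algebra.IsSeparable.isSeparable K c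
          rwa [IsSeparable, minpoly.algHom_eq σ (σ : D.KC →+* M).injective]
        exact mem_separableClosure_iff.2 (IsSeparable.tower_top K' h1)
      | zero => exact zero_mem _
      | add y z _ _ hy hz => exact add_mem hy hz
      | smul a y _ hy => exact (separableClosure K' M).smul_mem hy
    exact ⟨fun x => mem_separableClosure_iff.1 (hle x)⟩
  letI : Algebra D.KB M := ((σ : D.KC →+* M).comp (algebraMap D.KB D.KC)).toAlgebra
  let B := algebraicClosure D.KB M
  have hkL : ∀ a : k, algebraMap D.KB M (algebraMap k D.KB a) = algebraMap L M (algebraMap k L a) := by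
    intro a
    have e1 : algebraMap D.KB M (algebraMap k D.KB a) = σ (algebraMap k D.KC a) := by
      change σ (algebraMap D.KB D.KC (algebraMap k D.KB a)) = _
      rw [← IsScalarTower.algebraMap_apply k D.KB D.KC]
    rw [e1, IsScalarTower.algebraMap_apply k K D.KC, AlgHom.commutes,
      IsScalarTower.algebraMap_apply K K' M, ← IsScalarTower.algebraMap_apply k K K',
      IsScalarTower.algebraMap_apply k L K']
    rfl
  have hLB : ∀ l : L, algebraMap L M l ∈ B := by
    intro l
    refine mem_algebraicClosure_iff.2 ?_
    obtain ⟨p, hp0, hp⟩ := (Algebra.IsAlgebraic.isAlgebraic (R := k) l)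
    refine ⟨p.map (algebraMap k D.KB),
      (Polynomial.map_ne_zero_iff (algebraMap k D.KB).injective).2 hp0, ?_⟩
    rw [Polynomial.aeval_def, Polynomial.eval₂_map,
      show (algebraMap D.KB M).comp (algebraMap k D.KB) = (algebraMap L M).comp (algebraMap k L) from
        RingHom.ext hkL, ← Polynomial.hom_eval₂, ← Polynomial.aeval_def, hp, map_zero]
  letI : Algebra L B := ((algebraMap L M).codRestrict B.toSubfield hLB).toAlgebra
  haveI : IsScalarTower L B M := IsScalarTower.of_algebraMap_eq fun _ => rfl
  have htB : Transcendental B (σ D.t) := by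
    intro h
    have h1 : IsAlgebraic D.KB (σ D.t) := by
      haveI : Algebra.IsAlgebraic D.KB B := algebraicClosure.isAlgebraic D.KB M
      exact h.restrictScalars D.KB
    obtain ⟨p, hp0, hp⟩ := h1
    refine D.transc ⟨p, hp0, ?_⟩
    apply (σ : D.KC →+* M).injective
    rw [map_zero, Polynomial.aeval_def, Polynomial.hom_eval₂, ← hp, Polynomial.aeval_def]
    rfl
  let F := IntermediateField.adjoin B ({σ D.t} : Set M)
  have hFmem : ∀ c ∈ IntermediateField.adjoin D.KB ({D.t} : Set D.KC), σ c ∈ F := by
    intro c hc
    induction hc using IntermediateField.adjoin_induction with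
    | mem x hx =>
      rw [Set.mem_singleton_iff] at hx; subst hx
      exact IntermediateField.subset_adjoin _ _ (Set.mem_singleton _)
    | algebraMap x => exact F.algebraMap_mem ⟨algebraMap D.KB M x, B.algebraMap_mem x⟩
    | add x y _ _ hx hy => rw [map_add]; exact add_mem hx hy
    | inv x _ hx => rw [map_inv₀]; exact inv_mem hx
    | mul x y _ _ hx hy => rw [map_mul]; exact mul_mem hx hy
  let b := Module.finBasisOfFinrankEq (IntermediateField.adjoin D.KB ({D.t} : Set D.KC)) D.KC
    D.finrank_eq
  let b' : Fin e → M := fun i => σ (b i)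
  have hσ : ∀ c : D.KC, σ c ∈ Submodule.span F (Set.range b') := by
    intro c
    rw [← b.sum_repr c, map_sum]
    refine Submodule.sum_mem _ fun i _ => ?_
    rw [IntermediateField.smul_def, smul_eq_mul, map_mul]
    exact Submodule.smul_mem _ (⟨_, hFmem _ (b.repr c i).2⟩ : F) (Submodule.subset_span ⟨i, rfl⟩)
  have hmul : ∀ x ∈ Submodule.span F (Set.range b'), ∀ c : D.KC,
      σ c * x ∈ Submodule.span F (Set.range b') := by
    intro x hx c
    induction hx using Submodule.span_induction with
    | mem y hy =>
      obtain ⟨i, rfl⟩ := hy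
      rw [← map_mul]; exact hσ _
    | zero => simp
    | add y z _ _ hy hz => rw [mul_add]; exact Submodule.add_mem _ hy hz
    | smul a y _ hy => rw [mul_smul_comm]; exact Submodule.smul_mem _ _ hy
  have hK' : ∀ a : K', ∀ x ∈ Submodule.span F (Set.range b'),
      algebraMap K' M a * x ∈ Submodule.span F (Set.range b') := by
    intro a
    have ha : a ∈ Algebra.adjoin K (Set.range (algebraMap L K')) := hgen.symm ▸ Algebra.mem_top
    induction ha using Algebra.adjoin_induction with
    | mem y hy =>
      obtain ⟨l, rfl⟩ := hy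
      intro x hx
      exact Submodule.smul_mem _
        (⟨_, F.algebraMap_mem (algebraMap L B l)⟩ : F) hx
    | algebraMap r =>
      intro x hx
      rw [← IsScalarTower.algebraMap_apply, ← σ.commutes]
      exact hmul x hx _
    | add y z _ _ hy hz =>
      intro x hx; rw [map_add, add_mul]; exact Submodule.add_mem _ (hy x hx) (hz x hx)
    | mul y z _ _ hy hz =>
      intro x hx; rw [map_mul, mul_assoc]; exact hy _ (hz x hx)
  have hspan : ∀ x : M, x ∈ Submodule.span F (Set.range b') := by
    intro x
    have hx : x ∈ Submodule.span K' (Set.range σ) := hMgen.symm ▸ Submodule.mem_top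
    induction hx using Submodule.span_induction with
    | mem y hy => obtain ⟨c, rfl⟩ := hy; exact hσ c
    | zero => simp
    | add y z _ _ hy hz => exact Submodule.add_mem _ hy hz
    | smul a y _ hy => rw [Algebra.smul_def]; exact hK' a y hy
  exact exists_covDiag_le M B (σ D.t) htB b' hspan

omit [Algebra.IsSeparable k L] in
/-- A covering diagram of `K'/L` gives one of `K/k` of no larger degree. -/
theorem exists_covDiag_down (hfg : (⊤ : IntermediateField k K).FG)
    [Algebra.IsSeparable K K'] {e : ℕ} (D : CovDiag.{u} L K' e)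
    (hD : Algebra.IsSeparable K' D.KC) :
    ∃ e' ≤ e, ∃ D' : CovDiag.{u} k K e', Algebra.IsSeparable K D'.KC := by
  classical
  let C := D.KC
  letI : Algebra K C := ((algebraMap K' C).comp (algebraMap K K')).toAlgebra
  haveI : IsScalarTower K K' C := IsScalarTower.of_algebraMap_eq fun _ => rfl
  letI : Algebra k C := ((algebraMap K C).comp (algebraMap k K)).toAlgebra
  haveI : IsScalarTower k K C := IsScalarTower.of_algebraMap_eq fun _ => rfl
  haveI : Algebra.IsSeparable K C := Algebra.IsSeparable.trans K K' C
  letI : Algebra k D.KB := ((algebraMap L D.KB).comp (algebraMap k L)).toAlgebra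
  haveI : IsScalarTower k D.KB C := by
    refine IsScalarTower.of_algebraMap_eq fun a => ?_
    change algebraMap K' C (algebraMap K K' (algebraMap k K a)) =
      algebraMap D.KB C (algebraMap L D.KB (algebraMap k L a))
    rw [← IsScalarTower.algebraMap_apply L D.KB C, IsScalarTower.algebraMap_apply L K' C,
      ← IsScalarTower.algebraMap_apply k K K', ← IsScalarTower.algebraMap_apply k L K']
  let FD := IntermediateField.adjoin D.KB ({D.t} : Set D.KC)
  let b := Module.finBasisOfFinrankEq FD D.KC D.finrank_eq
  obtain ⟨s, hs⟩ := hfg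
  let Z : Finset C := insert 1 (s.image (algebraMap K C) ∪
    (Finset.univ : Finset (Fin e × Fin e)).image fun p => b p.1 * b p.2)
  let coeffs : Finset C := Z.biUnion fun z => Finset.univ.image fun i => ((b.repr z i : FD) : C)
  -- finitely many elements of the base
  have hc : ∀ c ∈ FD, ∃ T : Finset D.KB,
      c ∈ IntermediateField.adjoin k (insert D.t (algebraMap D.KB C '' (T : Set D.KB))) := by
    intro c hc
    induction hc using IntermediateField.adjoin_induction with
    | mem x hx =>
      rw [Set.mem_singleton_iff] at hx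
      exact ⟨∅, IntermediateField.subset_adjoin _ _ (by simp [hx])⟩
    | algebraMap x =>
      exact ⟨{x}, IntermediateField.subset_adjoin _ _ (Set.mem_insert_of_mem _ ⟨x, by simp, rfl⟩)⟩
    | add x y _ _ hx hy =>
      obtain ⟨T, hT⟩ := hx
      obtain ⟨U, hU⟩ := hy
      refine ⟨T ∪ U, add_mem (IntermediateField.adjoin.mono k _ _ ?_ hT)
        (IntermediateField.adjoin.mono k _ _ ?_ hU)⟩ <;>
        exact Set.insert_subset_insert (Set.image_mono (by simp))
    | inv x _ hx => obtain ⟨T, hT⟩ := hx; exact ⟨T, inv_mem hT⟩
    | mul x y _ _ hx hy =>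
      obtain ⟨T, hT⟩ := hx
      obtain ⟨U, hU⟩ := hy
      refine ⟨T ∪ U, mul_mem (IntermediateField.adjoin.mono k _ _ ?_ hT)
        (IntermediateField.adjoin.mono k _ _ ?_ hU)⟩ <;>
        exact Set.insert_subset_insert (Set.image_mono (by simp))
  have hcoeffs : ∀ c ∈ coeffs, c ∈ FD := by
    intro c hc
    simp only [coeffs, Finset.mem_biUnion, Finset.mem_image] at hc
    obtain ⟨z, -, i, -, rfl⟩ := hc
    exact (b.repr z i).2
  choose! T hT using hc
  let T0 : Finset D.KB := coeffs.biUnion T
  let G : Set C := insert D.t (algebraMap D.KB C '' (T0 : Set D.KB))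
  let F0 := IntermediateField.adjoin k G
  have hF0 : ∀ c ∈ coeffs, c ∈ F0 := fun c hc => IntermediateField.adjoin.mono k _ _
    (Set.insert_subset_insert (Set.image_mono (Finset.coe_subset.2
      (Finset.subset_biUnion_of_mem T hc)))) (hT c (hcoeffs c hc))
  let S := Submodule.span F0 (Set.range b)
  have hZ : ∀ z ∈ Z, z ∈ S := by
    intro z hz
    rw [← b.sum_repr z]
    refine Submodule.sum_mem _ fun i _ => ?_
    refine Submodule.smul_mem _ (⟨_, hF0 _ ?_⟩ : F0) (Submodule.subset_span ⟨i, rfl⟩)
    exact Finset.mem_biUnion.2 ⟨z, hz, Finset.mem_image.2 ⟨i, Finset.mem_univ _, rfl⟩⟩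
  have hbS : ∀ y ∈ S, ∀ i, b i * y ∈ S := by
    intro y hy i
    induction hy using Submodule.span_induction with
    | mem y hy =>
      obtain ⟨j, rfl⟩ := hy
      exact hZ _ (Finset.mem_insert_of_mem (Finset.mem_union_right _
        (Finset.mem_image.2 ⟨(i, j), Finset.mem_univ _, rfl⟩)))
    | zero => simp
    | add y z _ _ hy hz => rw [mul_add]; exact Submodule.add_mem _ hy hz
    | smul a y _ hy => rw [mul_smul_comm]; exact Submodule.smul_mem _ _ hy
  let A : Subalgebra F0 C := S.toSubalgebra (hZ 1 (Finset.mem_insert_self _ _)) fun x y hx hy => by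
    induction hx using Submodule.span_induction with
    | mem x hx => obtain ⟨i, rfl⟩ := hx; exact hbS y hy i
    | zero => simp
    | add x z _ _ hx hz => rw [add_mul]; exact Submodule.add_mem _ hx hz
    | smul a x _ hx => rw [smul_mul_assoc]; exact Submodule.smul_mem _ _ hx
  haveI : FiniteDimensional F0 A := by
    have : Module.Finite F0 S := Module.Finite.span_of_finite F0 (Set.finite_range b)
    exact this
  let E : IntermediateField F0 C := A.toIntermediateField' (isField_of_isIntegral_of_isField' (R := F0) (S := A)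
    (Field.toIsField F0))
  let P : Set C := G ∪ Set.range b
  let KC := IntermediateField.adjoin K P
  have hKC : ∀ x ∈ KC, x ∈ S := by
    intro x hx
    have hK : ∀ a : K, algebraMap K C a ∈ E := by
      intro a
      have ha : a ∈ IntermediateField.adjoin k (s : Set K) := hs.symm ▸ IntermediateField.mem_top
      induction ha using IntermediateField.adjoin_induction with
      | mem y hy =>
        exact hZ _ (Finset.mem_insert_of_mem (Finset.mem_union_left _ (Finset.mem_image_of_mem _ hy)))
      | algebraMap y =>
        rw [← IsScalarTower.algebraMap_apply]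
        exact E.algebraMap_mem (algebraMap k F0 y)
      | add y z _ _ hy hz => rw [map_add]; exact add_mem hy hz
      | inv y _ hy => rw [map_inv₀]; exact inv_mem hy
      | mul y z _ _ hy hz => rw [map_mul]; exact mul_mem hy hz
    suffices x ∈ E from this
    induction hx using IntermediateField.adjoin_induction with
    | mem y hy =>
      rcases hy with hy | ⟨i, rfl⟩
      · exact E.algebraMap_mem ⟨y, IntermediateField.subset_adjoin _ _ hy⟩
      · exact Submodule.subset_span ⟨i, rfl⟩
    | algebraMap y => exact hK y
    | add y z _ _ hy hz => exact add_mem hy hz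
    | inv y _ hy => exact inv_mem hy
    | mul y z _ _ hy hz => exact mul_mem hy hz
  haveI : FiniteDimensional K KC := by
    have hfin : P.Finite :=
      (((T0 : Set D.KB).toFinite.image _).insert _).union (Set.finite_range b)
    have : Finite P := hfin
    exact IntermediateField.finiteDimensional_adjoin fun x _ =>
      (Algebra.IsSeparable.isSeparable K x).isIntegral
  haveI : Algebra.IsSeparable K KC := Algebra.isSeparable_tower_bot_of_isSeparable K KC C
  let KB := IntermediateField.adjoin k (T0 : Set D.KB)
  have hKB : ∀ x ∈ KB, algebraMap D.KB C x ∈ KC := by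
    intro x hx
    induction hx using IntermediateField.adjoin_induction with
    | mem y hy =>
      exact IntermediateField.subset_adjoin _ _ (Or.inl (Set.mem_insert_of_mem _ ⟨y, hy, rfl⟩))
    | algebraMap y =>
      rw [← IsScalarTower.algebraMap_apply, IsScalarTower.algebraMap_apply k K C]
      exact KC.algebraMap_mem _
    | add y z _ _ hy hz => rw [map_add]; exact add_mem hy hz
    | inv y _ hy => rw [map_inv₀]; exact inv_mem hy
    | mul y z _ _ hy hz => rw [map_mul]; exact mul_mem hy hz
  letI : Algebra KB KC := (((algebraMap D.KB C).comp (algebraMap KB D.KB)).codRestrict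
    KC.toSubfield fun x => hKB x x.2).toAlgebra
  haveI : IsScalarTower k KB KC := IsScalarTower.of_algebraMap_eq fun a => Subtype.ext <| by
    change algebraMap k C a = algebraMap D.KB C (algebraMap k D.KB a)
    rw [← IsScalarTower.algebraMap_apply]
  let t0 : KC := ⟨D.t, IntermediateField.subset_adjoin _ _ (Or.inl (Set.mem_insert _ _))⟩
  have ht0 : Transcendental KB t0 := by
    rintro ⟨p, hp0, hp⟩
    refine D.transc ⟨p.map (algebraMap KB D.KB),
      (Polynomial.map_ne_zero_iff (algebraMap KB D.KB).injective).2 hp0, ?_⟩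
    have h2 := congrArg (algebraMap KC C) hp
    rw [map_zero, Polynomial.aeval_def, Polynomial.hom_eval₂] at h2
    rw [Polynomial.aeval_def, Polynomial.eval₂_map]
    exact h2
  let b0 : Fin e → KC := fun i => ⟨b i, IntermediateField.subset_adjoin _ _ (Or.inr ⟨i, rfl⟩)⟩
  let F1 := IntermediateField.adjoin KB ({t0} : Set KC)
  have hF1 : ∀ c ∈ F0, ∃ c' : F1, ((c' : KC) : C) = c := by
    intro c hc
    induction hc using IntermediateField.adjoin_induction with
    | mem y hy =>
      rcases hy with rfl | ⟨z, hz, rfl⟩
      · exact ⟨⟨t0, IntermediateField.subset_adjoin _ _ (Set.mem_singleton _)⟩, rfl⟩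
      · exact ⟨algebraMap KB F1 ⟨z, IntermediateField.subset_adjoin _ _ hz⟩, rfl⟩
    | algebraMap y =>
      refine ⟨algebraMap KB F1 (algebraMap k KB y), ?_⟩
      change algebraMap D.KB C (algebraMap k D.KB y) = _
      rw [← IsScalarTower.algebraMap_apply]
    | add y z _ _ hy hz =>
      obtain ⟨y', rfl⟩ := hy; obtain ⟨z', rfl⟩ := hz
      exact ⟨y' + z', by push_cast; rfl⟩
    | inv y _ hy =>
      obtain ⟨y', rfl⟩ := hy
      exact ⟨y'⁻¹, by push_cast; rfl⟩
    | mul y z _ _ hy hz =>
      obtain ⟨y', rfl⟩ := hy; obtain ⟨z', rfl⟩ := hz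
      exact ⟨y' * z', by push_cast; rfl⟩
  refine exists_covDiag_le KC KB t0 ht0 b0 fun x => ?_
  have hx := hKC (x : C) x.2
  obtain ⟨c, hc⟩ := (Submodule.mem_span_range_iff_exists_fun F0).1 hx
  choose c' hc' using fun i => hF1 _ (c i).2
  refine (Submodule.mem_span_range_iff_exists_fun _).2 ⟨c', Subtype.ext ?_⟩
  rw [← hc]
  simp only [IntermediateField.smul_def, smul_eq_mul]
  push_cast
  exact Finset.sum_congr rfl fun i _ => by rw [hc']

end

/-- The separable covering gonality is unchanged by a separable algebraic extension of constants. -/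
theorem scvg_tensor_eq (k K L K' : Type u) [Field k] [Field K] [Field L]
    [Field K'] [Algebra k K] [Algebra k L] [Algebra.IsSeparable k L]
    (hfg : (⊤ : IntermediateField k K).FG)
    [Algebra (K ⊗[k] L) K'] [IsFractionRing (K ⊗[k] L) K'] [Algebra L K']
    (hL : ∀ x : L, algebraMap L K' x = algebraMap (K ⊗[k] L) K' ((1 : K) ⊗ₜ[k] x)) :
    scvg L K' = scvg k K := by
  classical
  letI : Algebra K K' := ((algebraMap (K ⊗[k] L) K').comp
    (Algebra.TensorProduct.includeLeftRingHom : K →+* K ⊗[k] L)).toAlgebra
  letI : Algebra k K' := ((algebraMap K K').comp (algebraMap k K)).toAlgebra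
  haveI : IsScalarTower k K K' := IsScalarTower.of_algebraMap_eq fun _ => rfl
  haveI : IsScalarTower k L K' := IsScalarTower.of_algebraMap_eq fun a => by
    rw [hL]
    change algebraMap (K ⊗[k] L) K' (algebraMap k K a ⊗ₜ[k] (1 : L)) = _
    rw [Algebra.TensorProduct.tmul_one_eq_one_tmul]
  let φ : L →ₐ[k] K' := IsScalarTower.toAlgHom k L K'
  have hsepelt : ∀ l : L, algebraMap L K' l ∈ separableClosure K K' := by
    intro l
    have h1 : IsSeparable k (φ l) := by
      have := Algebra.IsSeparable.isSeparable k l
      rwa [IsSeparable, minpoly.algHom_eq φ (φ : L →+* K').injective]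
    exact mem_separableClosure_iff.2 (IsSeparable.tower_top K h1)
  have htens : ∀ x : K ⊗[k] L, algebraMap (K ⊗[k] L) K' x ∈
      Algebra.adjoin K (Set.range (algebraMap L K')) := by
    intro x
    induction x using TensorProduct.induction_on with
    | zero => rw [map_zero]; exact zero_mem _
    | tmul a l =>
      have : algebraMap (K ⊗[k] L) K' (a ⊗ₜ[k] l) = algebraMap K K' a * algebraMap L K' l := by
        rw [hL]
        change _ = algebraMap (K ⊗[k] L) K' (a ⊗ₜ[k] (1 : L)) * _
        rw [← map_mul, Algebra.TensorProduct.tmul_mul_tmul, mul_one, one_mul]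
      rw [this]
      exact mul_mem (Subalgebra.algebraMap_mem _ _) (Algebra.subset_adjoin ⟨l, rfl⟩)
    | add a c ha hc => rw [map_add]; exact add_mem ha hc
  let A := Algebra.adjoin K (Set.range (algebraMap L K'))
  have hAsep : ∀ x ∈ A, x ∈ separableClosure K K' := fun x hx =>
    Algebra.adjoin_le (S := (separableClosure K K').toSubalgebra)
      (by rintro _ ⟨l, rfl⟩; exact hsepelt l) hx
  have hgen : A = ⊤ := by
    refine eq_top_iff.2 fun x _ => ?_
    obtain ⟨a, s, -, rfl⟩ := IsFractionRing.div_surjective (A := K ⊗[k] L) x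
    rw [div_eq_mul_inv]
    refine mul_mem (htens a) ?_
    rcases eq_or_ne (algebraMap (K ⊗[k] L) K' s) 0 with h0 | h0
    · rw [h0, inv_zero]; exact zero_mem _
    · refine A.inv_mem_of_algebraic (x := ⟨_, htens s⟩) ?_
      exact (mem_separableClosure_iff.1 (hAsep _ (htens s))).isIntegral.isAlgebraic
  haveI : Algebra.IsSeparable K K' :=
    ⟨fun x => mem_separableClosure_iff.1 (hAsep x (hgen.symm ▸ Algebra.mem_top))⟩
  refine sInf_eq_of_forall_exists_le ?_ ?_
  · rintro e ⟨D, hD⟩
    obtain ⟨e', he, D', hD'⟩ := exists_covDiag_down hfg D hD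
    exact ⟨e', ⟨D', hD'⟩, he⟩
  · rintro e ⟨D, hD⟩
    obtain ⟨e', he, D', hD'⟩ := exists_covDiag_up hgen D hD
    exact ⟨e', ⟨D', hD'⟩, he⟩

end CvgSepLib
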