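import Groth.Prelude.Def_W4c3biextchowCx
import Mathlib.Algebra.Homology.ConcreteCategory
import Mathlib.Algebra.Homology.QuasiIso
import Mathlib.Algebra.Homology.ShortComplex.ModuleCat
import Mathlib.Algebra.Category.ModuleCat.EpiMono
import Mathlib.Algebra.Category.ModuleCat.Colimits
import Mathlib.Algebra.Category.Grp.Abelian

/-! Homology maps of complexes of modules on elements, and the groupoid of a complex. -/

namespace Groth.Agent.CxGrpdLib
open CategoryTheory W4c3biextchow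

universe v u
variable {R : Type u} [Ring R] {ι : Type*} {c : ComplexShape ι} {C D : HomologicalComplex (ModuleCat.{v} R) c}

theorem iCycles_injective (i : ι) : Function.Injective (C.iCycles i).hom :=
  (ModuleCat.mono_iff_injective _).1 inferInstance

theorem homologyπ_surjective (i : ι) : Function.Surjective (C.homologyπ i).hom :=
  (ModuleCat.epi_iff_surjective _).1 inferInstance

theorem d_iCycles (i j : ι) (z : C.cycles i) : (C.d i j).hom ((C.iCycles i).hom z) = 0 :=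
  (LinearMap.congr_fun (congrArg ModuleCat.Hom.hom (C.iCycles_d i j)) z :)

theorem exists_cycle {i j : ι} (hj : c.next i = j) (x : C.X i) (hx : (C.d i j).hom x = 0) :
    ∃ z : C.cycles i, (C.iCycles i).hom z = x :=
  ⟨C.cyclesMk x j hj hx, C.i_cyclesMk x j hj hx⟩

theorem π_eq_zero_iff {i j : ι} (hi : c.prev j = i) (z : C.cycles j) :
    (C.homologyπ j).hom z = 0 ↔ ∃ u : C.X i, (C.d i j).hom u = (C.iCycles j).hom z := by
  have hS : (ShortComplex.mk (C.toCycles i j) (C.homologyπ j) (C.toCycles_comp_homologyπ i j)).Exact :=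
    ShortComplex.exact_of_g_is_cokernel _ (C.homologyIsCokernel i j hi)
  constructor
  · intro h
    obtain ⟨u, hu⟩ := (ShortComplex.moduleCat_exact_iff _).1 hS z h
    exact ⟨u, by rw [← hu, ← C.toCycles_i i j]; rfl⟩
  · rintro ⟨u, hu⟩
    obtain rfl : z = (C.toCycles i j).hom u :=
      iCycles_injective j (hu.symm.trans (LinearMap.congr_fun (congrArg ModuleCat.Hom.hom (C.toCycles_i i j)) u).symm)
    exact (LinearMap.congr_fun (congrArg ModuleCat.Hom.hom (C.toCycles_comp_homologyπ i j)) u :)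

theorem map_π (f : C ⟶ D) (i : ι) (z : C.cycles i) :
    (HomologicalComplex.homologyMap f i).hom ((C.homologyπ i).hom z) =
      (D.homologyπ i).hom ((HomologicalComplex.cyclesMap f i).hom z) :=
  (LinearMap.congr_fun (congrArg ModuleCat.Hom.hom (HomologicalComplex.homologyπ_naturality f i)) z :)

theorem i_map (f : C ⟶ D) (i : ι) (z : C.cycles i) :
    (D.iCycles i).hom ((HomologicalComplex.cyclesMap f i).hom z) = (f.f i).hom ((C.iCycles i).hom z) :=
  (LinearMap.congr_fun (congrArg ModuleCat.Hom.hom (HomologicalComplex.cyclesMap_i f i)) z :)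

theorem epi_homologyMap_iff (f : C ⟶ D) {i j l : ι} (hi : c.prev j = i) (hl : c.next j = l) :
    Epi (HomologicalComplex.homologyMap f j) ↔
      ∀ y : D.X j, (D.d j l).hom y = 0 → ∃ (x : C.X j) (u : D.X i), (C.d j l).hom x = 0 ∧
        y = (f.f j).hom x + (D.d i j).hom u := by
  rw [ModuleCat.epi_iff_surjective]
  constructor
  · intro h y hy
    obtain ⟨zy, rfl⟩ := exists_cycle hl y hy
    obtain ⟨a, ha⟩ := h ((D.homologyπ j).hom zy)
    obtain ⟨zx, rfl⟩ := homologyπ_surjective j a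
    obtain ⟨u, hu⟩ := (π_eq_zero_iff hi (zy - (HomologicalComplex.cyclesMap f j).hom zx)).1
      (by rw [map_sub, ← map_π, sub_eq_zero]; exact ha.symm)
    refine ⟨(C.iCycles j).hom zx, u, d_iCycles j l zx, ?_⟩
    rw [hu, map_sub, i_map, add_sub_cancel]
  · intro h b
    obtain ⟨zy, rfl⟩ := homologyπ_surjective j b
    obtain ⟨x, u, hx, e⟩ := h _ (d_iCycles j l zy)
    obtain ⟨zx, rfl⟩ := exists_cycle hl x hx
    refine ⟨(C.homologyπ j).hom zx, ?_⟩
    show (HomologicalComplex.homologyMap f j).hom _ = _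
    rw [map_π, eq_comm, ← sub_eq_zero, ← map_sub]
    exact (π_eq_zero_iff hi _).2 ⟨u, by rw [map_sub, i_map, e, add_sub_cancel_left]⟩

theorem mono_homologyMap_iff (f : C ⟶ D) {i j l : ι} (hi : c.prev j = i) (hl : c.next j = l) :
    Mono (HomologicalComplex.homologyMap f j) ↔
      ∀ x : C.X j, (C.d j l).hom x = 0 → (∃ u : D.X i, (D.d i j).hom u = (f.f j).hom x) →
        ∃ w : C.X i, (C.d i j).hom w = x := by
  rw [ModuleCat.mono_iff_injective]
  constructor
  · rintro h x hx ⟨u, hu⟩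
    obtain ⟨zx, rfl⟩ := exists_cycle hl x hx
    exact (π_eq_zero_iff hi zx).1 (h (show (HomologicalComplex.homologyMap f j).hom _ = (HomologicalComplex.homologyMap f j).hom 0 by
      rw [map_zero, map_π, π_eq_zero_iff hi, i_map]; exact ⟨u, hu⟩))
  · intro h
    refine (injective_iff_map_eq_zero (HomologicalComplex.homologyMap f j).hom).2 fun a ha => ?_
    obtain ⟨zx, rfl⟩ := homologyπ_surjective j a
    rw [map_π, π_eq_zero_iff hi, i_map] at ha
    exact (π_eq_zero_iff hi zx).2 (h _ (d_iCycles j l zx) ha)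

section Grpd
variable {A B : ChainComplex (ModuleCat.{v} R) ℕ}

theorem d10_d21 (z : A.X 2) : (A.d 1 0).hom ((A.d 2 1).hom z) = 0 :=
  (LinearMap.congr_fun (congrArg ModuleCat.Hom.hom (A.d_comp_d 2 1 0)) z :)

theorem f_d (f : A ⟶ B) (i j : ℕ) (x : A.X i) : (B.d i j).hom ((f.f i).hom x) = (f.f j).hom ((A.d i j).hom x) :=
  (LinearMap.congr_fun (congrArg ModuleCat.Hom.hom (f.comm i j)) x :)

theorem d00 (x : A.X 0) : (A.d 0 0).hom x = 0 := by
  rw [A.shape 0 0 (by simp)]; rfl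

theorem epi0_iff (f : A ⟶ B) :
    Epi (HomologicalComplex.homologyMap f 0) ↔
      ∀ y : B.X 0, ∃ (x : A.X 0) (u : B.X 1), y = (f.f 0).hom x + (B.d 1 0).hom u := by
  rw [epi_homologyMap_iff f (i := 1) (l := 0) (by simp) (by simp)]
  exact ⟨fun h y => by obtain ⟨x, u, -, e⟩ := h y (d00 y); exact ⟨x, u, e⟩,
    fun h y _ => by obtain ⟨x, u, e⟩ := h y; exact ⟨x, u, d00 x, e⟩⟩

theorem mono0_iff (f : A ⟶ B) :
    Mono (HomologicalComplex.homologyMap f 0) ↔
      ∀ x : A.X 0, (∃ u : B.X 1, (B.d 1 0).hom u = (f.f 0).hom x) → ∃ w : A.X 1, (A.d 1 0).hom w = x := by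
  rw [mono_homologyMap_iff f (i := 1) (l := 0) (by simp) (by simp)]
  exact ⟨fun h x => h x (d00 x), fun h x _ => h x⟩

theorem epi1_iff (f : A ⟶ B) :
    Epi (HomologicalComplex.homologyMap f 1) ↔
      ∀ y : B.X 1, (B.d 1 0).hom y = 0 → ∃ (x : A.X 1) (u : B.X 2), (A.d 1 0).hom x = 0 ∧ y = (f.f 1).hom x + (B.d 2 1).hom u :=
  epi_homologyMap_iff f (by simp) (by simp)

theorem mono1_iff (f : A ⟶ B) :
    Mono (HomologicalComplex.homologyMap f 1) ↔
      ∀ x : A.X 1, (A.d 1 0).hom x = 0 → (∃ u : B.X 2, (B.d 2 1).hom u = (f.f 1).hom x) → ∃ w : A.X 2, (A.d 2 1).hom w = x :=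
  mono_homologyMap_iff f (by simp) (by simp)

theorem faithful_iff (f : A ⟶ B) : (cxFunctor f).Faithful ↔ Mono (HomologicalComplex.homologyMap f 1) := by
  rw [mono1_iff]
  constructor
  · intro h x hx hu
    let a : Obj A := ⟨0⟩
    let φ : a ⟶ a := ⟨Submodule.Quotient.mk x, by rw [delta_mk, hx, sub_self]⟩
    have he : (cxFunctor f).map φ = (cxFunctor f).map (𝟙 a) := Hom.ext (by
      rw [cxFunctor_map_cl, cxFunctor_map_cl, id_cl, map_zero]
      show q1Map f (Submodule.Quotient.mk x) = 0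
      rw [q1Map_mk, Submodule.Quotient.mk_eq_zero]
      exact hu)
    have := congrArg Hom.cl (h.map_injective he)
    exact (Submodule.Quotient.mk_eq_zero _).1 this
  · intro h
    refine ⟨fun {a b φ ψ} e => Hom.ext ?_⟩
    have e' := congrArg Hom.cl e
    rw [cxFunctor_map_cl, cxFunctor_map_cl, ← sub_eq_zero, ← map_sub] at e'
    obtain ⟨x, hx⟩ := Submodule.Quotient.mk_surjective _ ((φ : Hom A a b).cl - (ψ : Hom A a b).cl)
    rw [← hx, q1Map_mk, Submodule.Quotient.mk_eq_zero] at e'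
    have hd : (A.d 1 0).hom x = 0 := by
      rw [← delta_mk, hx, map_sub, (φ : Hom A a b).delta_cl, (ψ : Hom A a b).delta_cl, sub_self]
    rw [← sub_eq_zero, ← hx, Submodule.Quotient.mk_eq_zero]
    exact h x hd e'

theorem full_iff (f : A ⟶ B) : (cxFunctor f).Full ↔
    Epi (HomologicalComplex.homologyMap f 1) ∧ Mono (HomologicalComplex.homologyMap f 0) := by
  rw [epi1_iff, mono0_iff]
  constructor
  · intro h
    refine ⟨fun y hy => ?_, fun x ⟨u, hu⟩ => ?_⟩
    · let a : Obj A := ⟨0⟩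
      let φ : (cxFunctor f).obj a ⟶ (cxFunctor f).obj a := ⟨Submodule.Quotient.mk y, by rw [delta_mk, hy, sub_self]⟩
      obtain ⟨ψ, hψ⟩ := h.map_surjective φ
      obtain ⟨x, hx⟩ := Submodule.Quotient.mk_surjective _ (ψ : Hom A a a).cl
      have e : (Submodule.Quotient.mk y : Q1 B) = Submodule.Quotient.mk ((f.f 1).hom x) := by
        have := congrArg Hom.cl hψ
        rw [cxFunctor_map_cl, ← hx, q1Map_mk] at this
        exact this.symm
      obtain ⟨u, hu⟩ := (Submodule.Quotient.eq _).1 e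
      exact ⟨x, u, by rw [← delta_mk, hx, (ψ : Hom A a a).delta_cl, sub_self], by rw [hu, add_sub_cancel]⟩
    · let a : Obj A := ⟨0⟩
      let b : Obj A := ⟨x⟩
      let φ : (cxFunctor f).obj a ⟶ (cxFunctor f).obj b := ⟨Submodule.Quotient.mk u, by
        rw [delta_mk, hu, cxFunctor_obj_pt, cxFunctor_obj_pt]; simp [a, b]⟩
      obtain ⟨ψ, -⟩ := h.map_surjective φ
      obtain ⟨w, hw⟩ := Submodule.Quotient.mk_surjective _ (ψ : Hom A a b).cl
      exact ⟨w, by rw [← delta_mk, hw, (ψ : Hom A a b).delta_cl]; simp [a, b]⟩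
  · rintro ⟨h1, h0⟩
    refine ⟨fun {a b} φ => ?_⟩
    obtain ⟨y, hy⟩ := Submodule.Quotient.mk_surjective _ (φ : Hom B _ _).cl
    have hd : (B.d 1 0).hom y = (f.f 0).hom (b.pt - a.pt) := by
      rw [← delta_mk, hy, (φ : Hom B _ _).delta_cl, map_sub]; rfl
    obtain ⟨w, hw⟩ := h0 (b.pt - a.pt) ⟨y, hd⟩
    obtain ⟨x, u, hx, e⟩ := h1 (y - (f.f 1).hom w) (by rw [map_sub, hd, f_d, hw, sub_self])
    refine ⟨⟨Submodule.Quotient.mk (w + x), by rw [delta_mk, map_add, hx, add_zero, hw]⟩, Hom.ext ?_⟩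
    rw [cxFunctor_map_cl, ← hy]
    show q1Map f (Submodule.Quotient.mk (w + x)) = _
    rw [q1Map_mk, Submodule.Quotient.eq]
    refine ⟨-u, ?_⟩
    rw [map_neg, map_add, sub_eq_iff_eq_add.1 e]
    abel

theorem essSurj_iff (f : A ⟶ B) : (cxFunctor f).EssSurj ↔ Epi (HomologicalComplex.homologyMap f 0) := by
  rw [epi0_iff]
  constructor
  · intro h y
    obtain ⟨a, ⟨e⟩⟩ := h.mem_essImage (⟨y⟩ : Obj B)
    obtain ⟨u, hu⟩ := Submodule.Quotient.mk_surjective _ (e.hom : Hom B _ _).cl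
    refine ⟨a.pt, u, ?_⟩
    rw [← delta_mk, hu, (e.hom : Hom B _ _).delta_cl, cxFunctor_obj_pt]
    abel
  · intro h
    refine ⟨fun b => ?_⟩
    obtain ⟨x, u, e⟩ := h b.pt
    exact ⟨⟨x⟩, ⟨{ hom := ⟨Submodule.Quotient.mk u, by rw [delta_mk, cxFunctor_obj_pt, e]; abel⟩
                   inv := ⟨-Submodule.Quotient.mk u, by rw [map_neg, delta_mk, cxFunctor_obj_pt, e]; abel⟩
                   hom_inv_id := Hom.ext (by simp)
                   inv_hom_id := Hom.ext (by simp) }⟩⟩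

variable {A' : ChainComplex (ModuleCat.{v} R) ℕ}

theorem natIso_of_quasiIso (f : A' ⟶ A) [QuasiIso f] (h' : A' ⟶ B) (g₁ g₂ : A ⟶ A') (h₁ : f ≫ g₁ = 𝟙 A')
    (h₂ : f ≫ g₂ = 𝟙 A') :
    ∃ N : cxFunctor (g₁ ≫ h') ≅ cxFunctor (g₂ ≫ h'),
      ∀ a : Obj A', (N.hom.app ((cxFunctor f).obj a) : Hom B _ _).cl = 0 := by
  have hs0 : Epi (HomologicalComplex.homologyMap f 0) := inferInstance
  have hi0 : Mono (HomologicalComplex.homologyMap f 0) := inferInstance
  have hs1 : Epi (HomologicalComplex.homologyMap f 1) := inferInstance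
  rw [epi0_iff] at hs0
  rw [mono0_iff] at hi0
  rw [epi1_iff] at hs1
  set Δ : A ⟶ B := g₂ ≫ h' - g₁ ≫ h' with hΔ
  have hq : ∀ x : A.X 1, (Submodule.Quotient.mk ((Δ.f 1).hom x) : Q1 B) =
      q1Map (g₂ ≫ h') (Submodule.Quotient.mk x) - q1Map (g₁ ≫ h') (Submodule.Quotient.mk x) := by
    intro x
    rw [q1Map_mk, q1Map_mk, ← Submodule.Quotient.mk_sub, hΔ]
    rfl
  have hfz : ∀ i (z : A'.X i), (Δ.f i).hom ((f.f i).hom z) = 0 := by
    intro i z
    have : f ≫ Δ = 0 := by rw [hΔ, Preadditive.comp_sub, ← Category.assoc, ← Category.assoc, h₁, h₂, sub_self]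
    exact (LinearMap.congr_fun (congrArg ModuleCat.Hom.hom (HomologicalComplex.congr_hom this i)) z :)
  choose p q hpq using hs0
  let θ : A.X 0 → Q1 B := fun y => Submodule.Quotient.mk ((Δ.f 1).hom (q y))
  have hθ : ∀ (y : A.X 0) (a : A'.X 0) (x : A.X 1), y = (f.f 0).hom a + (A.d 1 0).hom x →
      θ y = Submodule.Quotient.mk ((Δ.f 1).hom x) := by
    intro y a x e
    obtain ⟨z, hz⟩ := hi0 (p y - a) ⟨x - q y, by
      rw [map_sub, map_sub, sub_eq_sub_iff_add_eq_add, add_comm, ← e, ← hpq]⟩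
    obtain ⟨z', u, -, hu⟩ := hs1 (x - q y - (f.f 1).hom z) (by
      rw [map_sub, map_sub, f_d, hz, map_sub, sub_eq_zero, sub_eq_sub_iff_add_eq_add, add_comm, ← e, ← hpq])
    rw [Submodule.Quotient.eq]
    refine ⟨-(Δ.f 2).hom u, ?_⟩
    rw [map_neg, f_d, sub_eq_iff_eq_add.1 (sub_eq_iff_eq_add.1 hu), map_add, map_add, map_add, hfz, hfz]
    abel
  refine ⟨NatIso.ofComponents (fun a => { hom := ⟨θ a.pt, ?_⟩, inv := ⟨-θ a.pt, ?_⟩,
                                          hom_inv_id := Hom.ext (by simp), inv_hom_id := Hom.ext (by simp) }) ?_, fun a => ?_⟩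
  · show delta B (Submodule.Quotient.mk _) = _
    rw [delta_mk, f_d, show (A.d 1 0).hom (q a.pt) = a.pt - (f.f 0).hom (p a.pt) from eq_sub_of_add_eq' (hpq a.pt).symm,
      map_sub, hfz, sub_zero, hΔ]
    rfl
  · show delta B (-Submodule.Quotient.mk _) = _
    rw [map_neg, delta_mk, f_d, show (A.d 1 0).hom (q a.pt) = a.pt - (f.f 0).hom (p a.pt) from eq_sub_of_add_eq' (hpq a.pt).symm,
      map_sub, hfz, sub_zero, hΔ]
    exact neg_sub _ _
  · intro a b φ
    refine Hom.ext ?_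
    obtain ⟨m, hm⟩ := Submodule.Quotient.mk_surjective _ (φ : Hom A a b).cl
    have hb : θ b.pt = Submodule.Quotient.mk ((Δ.f 1).hom (q a.pt + m)) := hθ b.pt (p a.pt) _ (by
      rw [map_add, ← add_assoc, ← hpq, ← delta_mk A m, hm, (φ : Hom A a b).delta_cl, add_sub_cancel])
    show q1Map (g₁ ≫ h') (φ : Hom A a b).cl + θ b.pt = θ a.pt + q1Map (g₂ ≫ h') (φ : Hom A a b).cl
    rw [hb, map_add, Submodule.Quotient.mk_add, hq m, hm]
    show q1Map (g₁ ≫ h') _ + (θ a.pt + _) = _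
    abel
  · show θ ((f.f 0).hom a.pt) = 0
    rw [hθ _ a.pt 0 (by rw [map_zero, add_zero]), map_zero, Submodule.Quotient.mk_zero]

end Grpd

end Groth.Agent.CxGrpdLib
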