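import Groth.Statements.S6482
import Mathlib
-- import your own Groth.Agent.* helpers here

set_option autoImplicit false
universe u
open CategoryTheory AlgebraicGeometry
open CategoryTheory.Limits
open Cyc

namespace Groth.Agent.S6482

/-- Let f : Y → X be an envelope. Then f_* : Z_k(Y) → Z_k(X) is surjective, hence so is f_* : CH_k(Y) →
CH_k(X). An envelope is a proper, completely decomposed morphism (every point of the target has a
point over it with trivial residue field extension; this prelude's Cyc.IsCompletelyDecomposed). Here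
a pair (X, δ) with Cyc.IsSetup plays the role of a scheme locally of finite type over the base (S,
δ) (X locally Noetherian with universally catenary local rings, δ a dimension function), and
Cyc.DeltaCompat records that the dimension function upstairs is the induced one. -/
theorem result (X Y : Scheme.{u}) (δ : X → ℤ) (δY : Y → ℤ) (hX : Cyc.IsSetup X δ) (hY : Cyc.IsSetup Y δY) (f : Y ⟶ X) [IsProper f] (hcd : Cyc.IsCompletelyDecomposed f) (hδ : Cyc.DeltaCompat f δY δ) (k : ℤ) (α : AlgebraicCycle X ℤ) (hα : α ∈ Cyc.Zk X δ k) : ∃ β : AlgebraicCycle Y ℤ, β ∈ Cyc.Zk Y δY k ∧ AlgebraicCycle.map f δY δ β = α := by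
  classical
  choose σ hσ hsurj using hcd
  have htr : ∀ x, ∀ n : ℕ, (letI := (f.residueFieldMap (σ x)).hom.toAlgebra
      Algebra.trdeg (X.residueField (f (σ x))) (Y.residueField (σ x))) = n → n = 0 := by
    intro x n hn
    letI := (f.residueFieldMap (σ x)).hom.toAlgebra
    haveI : Algebra.IsAlgebraic (X.residueField (f (σ x))) (Y.residueField (σ x)) :=
      ⟨fun a => by
        obtain ⟨b, rfl⟩ := hsurj x a
        exact isAlgebraic_algebraMap (R := X.residueField (f (σ x))) b⟩
    have h0 : Algebra.trdeg (X.residueField (f (σ x))) (Y.residueField (σ x)) = 0 :=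
      (trdeg_eq_zero (R := X.residueField (f (σ x))) (A := Y.residueField (σ x)))
    rw [h0] at hn
    exact_mod_cast hn.symm
  have hδσ : ∀ x, δY (σ x) = δ x := by
    intro x
    obtain ⟨n, hn, hδx⟩ := hδ (σ x)
    rw [hδx, hσ x, htr x n hn]
    simp
  have hdeg : ∀ x, f.residueDegree (σ x) = 1 := by
    intro x
    unfold AlgebraicGeometry.Scheme.Hom.residueDegree
    letI := (f.residueFieldMap (σ x)).hom.toAlgebra
    refine finrank_eq_one_iff'.mpr ⟨1, one_ne_zero, fun a => ?_⟩
    obtain ⟨b, rfl⟩ := hsurj x a
    exact ⟨b, by rw [Algebra.smul_def, mul_one]; exact rfl⟩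
  let β : AlgebraicCycle Y ℤ :=
    { toFun := fun y => if σ (f y) = y then α (f y) else 0
      supportWithinDomain' := by simp
      supportLocallyFiniteWithinDomain' := by
        intro y _
        obtain ⟨U, ⟨hUo, hUc⟩, hyU, -⟩ := (PrespectralSpace.isTopologicalBasis (X := X)).exists_subset_of_mem_open
          (Set.mem_univ (f y)) isOpen_univ
        refine ⟨f ⁻¹' U, (hUo.preimage f.continuous).mem_nhds hyU, ?_⟩
        refine ((α.locallyFiniteSupport.finite_inter_support_of_isCompact hUc).image σ).subset ?_
        rintro z ⟨hz, hz'⟩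
        rw [Function.mem_support] at hz'
        split_ifs at hz' with h
        · exact ⟨f z, ⟨hz, hz'⟩, h⟩
        · exact absurd rfl hz' }
  have hβ : ∀ y, β y = if σ (f y) = y then α (f y) else 0 := fun _ => rfl
  refine ⟨β, ?_, ?_⟩
  · intro y hy
    rw [hβ]
    split_ifs with h
    · apply hα
      intro hk
      apply hy
      rw [← h, hδσ, hk]
    · rfl
  · ext x
    refine (Function.locallyFinsupp.map_apply _ _ _ _).trans ?_
    rw [finsum_mem_eq_sum_of_inter_support_eq _ (t := {σ x}) (by
      ext y
      simp only [Set.mem_inter_iff, Set.mem_preimage, Set.mem_singleton_iff, Finset.coe_singleton, Function.mem_support]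
      constructor
      · rintro ⟨h1, h2⟩
        refine ⟨?_, h2⟩
        by_contra hne
        apply h2
        rw [hβ, if_neg (fun e => hne (by rw [← e, h1])), zero_mul]
      · rintro ⟨rfl, h2⟩
        exact ⟨hσ x, h2⟩), Finset.sum_singleton, hβ, hσ, if_pos rfl]
    unfold AlgebraicCycle.mapCoeff
    rw [if_pos (by rw [hδσ]; exact (congrArg δ (hσ x)).symm), hdeg, Nat.cast_one, mul_one]

end Groth.Agent.S6482
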