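import Groth.Statements.S6484
import Mathlib
import Groth.Agent.DimIneqLib.Fibre
-- import your own Groth.Agent.* helpers here

set_option autoImplicit false
universe u
open CategoryTheory AlgebraicGeometry
open CategoryTheory.Limits
open Cyc

namespace Groth.Agent.S6484

/-- If f : Y → X is completely decomposed (this prelude's Cyc.IsCompletelyDecomposed: over every point
of X lies a point of Y with trivial residue field extension) and g : X' → X is any morphism of
schemes, then the base change Y ×_X X' → X' is completely decomposed. Consequently the base change
of an envelope (a proper completely decomposed morphism) is an envelope, properness being preserved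
by base change. (The published envelope statement takes X′ → X between schemes locally of finite
type over a base; this row allows any g.) -/
theorem result (X X' Y : Scheme.{u}) (f : Y ⟶ X) (g : X' ⟶ X) (hcd : Cyc.IsCompletelyDecomposed f) : Cyc.IsCompletelyDecomposed (pullback.snd f g) := by
  intro x'
  obtain ⟨y, hy, hsurj⟩ := hcd (g x')
  haveI : IsIso (f.residueFieldMap y) :=
    (ConcreteCategory.isIso_iff_bijective _).2 ⟨(f.residueFieldMap y).hom.injective, hsurj⟩
  let φ : Y.residueField y ⟶ X'.residueField x' :=
    inv (f.residueFieldMap y) ≫ (X.residueFieldCongr hy).hom ≫ g.residueFieldMap x'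
  let s : Spec (X'.residueField x') ⟶ Y := Spec.map φ ≫ Y.fromSpecResidueField y
  have hs : s ≫ f = X'.fromSpecResidueField x' ≫ g := by
    simp only [s, φ, Category.assoc, ← Scheme.Hom.SpecMap_residueFieldMap_fromSpecResidueField, Spec.map_comp]
    rw [← Spec.map_comp_assoc (f.residueFieldMap y), IsIso.hom_inv_id, Spec.map_id, Category.id_comp,
      Scheme.residueFieldCongr_fromSpecResidueField]
  let L := pullback.lift s (X'.fromSpecResidueField x') hs
  let q : ↥(Spec (X'.residueField x')) := IsLocalRing.closedPoint (X'.residueField x')
  refine ⟨L q, ?_, ?_⟩
  · rw [← Scheme.Hom.comp_apply, pullback.lift_snd]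
    exact Scheme.fromSpecResidueField_apply x' q
  · have hbij : ∀ (j : Spec (X'.residueField x') ⟶ X'), j = X'.fromSpecResidueField x' →
        Function.Bijective (j.residueFieldMap q).hom := by
      rintro _ rfl
      exact DimIneqLib.bijective_residueFieldMap _ q
    have hb := hbij (L ≫ pullback.snd f g) (pullback.lift_snd _ _ _)
    rw [Scheme.residueFieldMap_comp] at hb
    intro b
    obtain ⟨a, ha⟩ := hb.2 ((L.residueFieldMap q).hom b)
    exact ⟨a, (L.residueFieldMap q).hom.injective ha⟩

end Groth.Agent.S6484
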