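import Groth.Statements.S6472
import Groth.Agent.QSecLib.Scheme
import Groth.Agent.FibDimLib.SchemeInv
import Groth.Agent.FibDimLib.Comps
import Groth.Agent.SmoothDimLib.Chart

set_option autoImplicit false
universe u
open CategoryTheory CategoryTheory.Limits AlgebraicGeometry
open IntMult

namespace Groth.Agent.S6472

/-- Let X be a nonsingular variety of dimension n over the algebraically closed field K. Then Δ : X → X
×_K X, the diagonal, is regular of codimension n as an immersion (RegImm.IsRegularImmersionOfCodim
of kind regular: an immersion which, around every point, in an affine open where it is closed, is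
cut out by a regular sequence of length n). Nonsingular variety: X → Spec K smooth, separated,
quasi-compact, X integral; n = Krull dimension of X. -/
theorem result (K : Type u) [Field K] [IsAlgClosed K] (X : Scheme.{u}) (f : X ⟶ Spec (CommRingCat.of K)) [Smooth f] [IsSeparated f] [QuasiCompact f] [IsIntegral X] (n : ℕ) (hn : topologicalKrullDim X = n) : RegImm.IsRegularImmersionOfCodim RegImm.Kind.regular n (pullback.diagonal f) := by
  haveI : IrreducibleSpace ↥X := inferInstance
  haveI : IsOpenImmersion (pullback.diagonal f ≫ pullback.snd f f) := by
    rw [pullback.diagonal_snd]
    infer_instance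
  refine QSecLib.regularOfCodim_of_smooth (pullback.snd f f) (pullback.diagonal f) n fun z => ?_
  rw [FibDimLib.fibreDimAt_baseChange (IsPullback.of_hasPullback f f),
    show (pullback.fst f f).base ((pullback.diagonal f) z) = z from by
      show (pullback.diagonal f ≫ pullback.fst f f).base z = z
      rw [pullback.diagonal_fst]
      rfl,
    SmoothDimLib.fibreDimAt_eq_localDim f z, FibDimLib.localDim_of_irreducible f z, hn]

end Groth.Agent.S6472
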