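import Groth.Statements.S1812
import Groth.Agent.DRingLib.RgammaColim

set_option autoImplicit false
universe u
open CategoryTheory
attribute [local instance] HasDerivedCategory.standard
open LocCoh
set_option backward.isDefEq.respectTransparency false
open CategoryTheory.Limits HomologicalComplex

namespace Groth.Agent.S1812

/-- Let A be a ring, I a finitely generated ideal and K an object of D(A); assume the total right
derived functor RΓ_I of the I-power torsion functor exists. Then for every q the A-module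
H^q(RΓ_I(K)) is isomorphic to the direct limit over n of the A-modules of maps A/I^n → K[q] in D(A). -/
theorem result (A : Type u) [CommRing A] (I : Ideal A) (hI : I.FG) [DRing.HasRgammaI I] (K : Dual.D A) (q : ℤ) : Nonempty (Dual.HD A ((DRing.RgammaI I).obj K) q ≃ₗ[A] Dual2.HDI A I K q) := by
  let C := CochainComplex (ModuleCat.{u} A) ℤ
  let C₀ : C := DerivedCategory.Q.objPreimage K
  obtain ⟨E, f, hE, hf, -⟩ := DerLib.KInjRes.exists_resolution C₀
  haveI := hE
  haveI := (HomologicalComplex.mem_quasiIso_iff _).1 hf.2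
  let eE : DerivedCategory.Q.obj E ≅ K :=
    (asIso (DerivedCategory.Q.map f)).symm ≪≫ DerivedCategory.Q.objObjPreimageIso K
  haveI : (E⟦q⟧).IsKInjective := inferInstance
  let b : DerivedCategory.Q.obj (E⟦q⟧) ≅ K⟦q⟧ :=
    (DerivedCategory.Q.commShiftIso q).app E ≪≫ (shiftFunctor _ q).mapIso eE
  obtain ⟨e₁⟩ := DRingLib.GammaColim.exists_equiv I b
  let α := (DRing.gammaIKh I).totalRightDerivedUnit DerivedCategory.Qh
    (HomotopyCategory.quasiIso (ModuleCat.{u} A) (ComplexShape.up ℤ))
  haveI := DerLib.KInjDerived.isIso_app (DRing.RgammaI I) α (DerLib.KInjDerived.enoughKInj _) E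
  let G := DRingLib.GammaColim.gCx I E
  let G' := DRingLib.GammaColim.gCx I (E⟦q⟧)
  let eR : (DRing.RgammaI I).obj K ≅ DerivedCategory.Q.obj G :=
    (DRing.RgammaI I).mapIso ((DerivedCategory.quotientCompQhIso _).app E ≪≫ eE).symm ≪≫
      (asIso (α.app ((HomotopyCategory.quotient _ _).obj E))).symm ≪≫
      DerivedCategory.Qh.mapIso (((DRing.gammaI I).mapHomotopyCategoryFactors (ComplexShape.up ℤ)).app E) ≪≫
      (DerivedCategory.quotientCompQhIso _).app G
  let eH : (DerivedCategory.homologyFunctor (ModuleCat.{u} A) q).obj ((DRing.RgammaI I).obj K) ≅ DRingLib.GammaColim.H0 I (E⟦q⟧) :=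
    (DerivedCategory.homologyFunctor _ q).mapIso eR ≪≫
      (DerivedCategory.homologyFunctorFactors (ModuleCat.{u} A) q).app G ≪≫
      (((HomologicalComplex.homologyFunctor (ModuleCat.{u} A) (ComplexShape.up ℤ) 0).shiftIso q 0 q
        (add_zero q)).app G).symm ≪≫
      (HomologicalComplex.homologyFunctor (ModuleCat.{u} A) (ComplexShape.up ℤ) 0).mapIso
        ((((DRing.gammaI I).mapHomologicalComplex (ComplexShape.up ℤ)).commShiftIso q).app E).symm ≪≫
      (G'.homologyIsoSc' (-1) 0 1 (by simp) (by simp)) ≪≫ (G'.sc' (-1) 0 1).moduleCatHomologyIso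
  exact ⟨eH.toLinearEquiv.trans e₁⟩

end Groth.Agent.S1812
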