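import Groth.Statements.S7055
import Groth.Agent.DCompLib.LTQuot
-- import your own Groth.Agent.* helpers here

set_option autoImplicit false
set_option linter.style.haveILetI false
universe u
attribute [local instance] HasDerivedCategory.standard
open CategoryTheory
open DRing

namespace Groth.Agent.S7055

open Groth.Agent.DCompLib


/-- For a commutative ring A, a finitely generated ideal I and an object K of D(A) which is derived
complete with respect to I, if K ⊗^L_A A/I vanishes then K vanishes. The derived tensor product with
the module A/I is the total left derived functor, assumed to exist. -/
theorem result {A : Type u} [CommRing A] (I : Ideal A) (hI : I.FG)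
    [DRing.HasLTensor A (ModuleCat.of A (A ⧸ I))]
    (K : Dual.D A) (hc : DRing.IsDerivedComplete I K)
    (h0 : Limits.IsZero ((DRing.LTensor A (ModuleCat.of A (A ⧸ I))).obj K)) : Limits.IsZero K := by
  refine DRingLib.isZero_of_isZero_Hn fun i => ?_
  exact van_of_ltensor I hI K hc (i - 1)
    (fun j _ => (DerivedCategory.homologyFunctor (ModuleCat.{u} A) j).map_isZero h0) i (by omega)

end Groth.Agent.S7055
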