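import Groth.Statements.S6501
import Mathlib


-- import your own Groth.Agent.* helpers here

set_option autoImplicit false
universe u
open DPow

namespace Groth.Agent.S6501

/-- Let A be a commutative ring whose additive group is torsion free and I an ideal of A. Then I carries
at most one divided power structure, and it carries one if and only if I is generated by a set S
such that for every x in S and every n ≥ 1 the power x^n lies in the ideal generated by the products
of n! with elements of I. -/
theorem result {A : Type u} [CommRing A] [IsAddTorsionFree A] (I : Ideal A) :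
    Subsingleton (DividedPowers I) ∧
    (Nonempty (DividedPowers I) ↔ ∃ S : Set A, Ideal.span S = I ∧
      ∀ x ∈ S, ∀ n : ℕ, 1 ≤ n → x ^ n ∈ Ideal.span {(Nat.factorial n : A)} * I) := by
  classical
  have hcancel : ∀ (n : ℕ) {a b : A}, (n.factorial : A) * a = (n.factorial : A) * b → a = b := by
    intro n a b h
    rw [← nsmul_eq_mul, ← nsmul_eq_mul] at h
    exact nsmul_right_injective n.factorial_ne_zero h
  refine ⟨⟨fun γ γ' => DividedPowers.ext γ γ' fun n x hx => hcancel n (by rw [γ.factorial_mul_dpow_eq_pow hx, γ'.factorial_mul_dpow_eq_pow hx])⟩, ⟨fun ⟨γ⟩ => ⟨I, Ideal.span_eq I, fun x hx n hn => ?_⟩, ?_⟩⟩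
  · rw [← γ.factorial_mul_dpow_eq_pow hx]
    exact Ideal.mul_mem_mul (Ideal.mem_span_singleton_self _) (γ.dpow_mem (by omega) hx)
  rintro ⟨S, hS, hpow⟩
  have hex : ∀ x ∈ I, ∀ n : ℕ, n ≠ 0 → ∃ a ∈ I, (n.factorial : A) * a = x ^ n := by
    intro x hx
    rw [← hS] at hx
    induction hx using Submodule.span_induction with
    | mem x hx =>
      intro n hn
      obtain ⟨a, ha, e⟩ := Ideal.mem_span_singleton_mul.1 (hpow x hx n (by omega))
      exact ⟨a, ha, e⟩
    | zero => exact fun n hn => ⟨0, I.zero_mem, by rw [mul_zero, zero_pow hn]⟩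
    | smul r x _ ih =>
      intro n hn
      obtain ⟨a, ha, e⟩ := ih n hn
      exact ⟨r ^ n * a, I.mul_mem_left _ ha, by rw [smul_eq_mul, mul_pow, ← e]; ring⟩
    | add x y _ _ ihx ihy =>
      intro n hn
      have hI : ∀ k ∈ Finset.range (n + 1), ∃ a ∈ I, (n.factorial : A) * a = x ^ k * y ^ (n - k) * (n.choose k : A) := by
        intro k hk
        have hkn : k ≤ n := Nat.lt_succ_iff.1 (Finset.mem_range.1 hk)
        have hfac : (n.choose k : A) * (k.factorial : A) * ((n - k).factorial : A) = (n.factorial : A) := by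
          rw [← Nat.cast_mul, ← Nat.cast_mul, Nat.choose_mul_factorial_mul_factorial hkn]
        by_cases h0 : k = 0
        · subst h0
          obtain ⟨a, ha, e⟩ := ihy n hn
          exact ⟨a, ha, by simp [e]⟩
        by_cases h1 : k = n
        · subst h1
          obtain ⟨a, ha, e⟩ := ihx k hn
          exact ⟨a, ha, by simp [e]⟩
        obtain ⟨a, ha, e⟩ := ihx k h0
        obtain ⟨b, hb, e'⟩ := ihy (n - k) (by omega)
        exact ⟨a * b, I.mul_mem_left _ hb, by rw [← hfac, ← e, ← e']; ring⟩
      choose! a ha e using hI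
      exact ⟨∑ k ∈ Finset.range (n + 1), a k, Submodule.sum_mem _ ha, by rw [Finset.mul_sum, add_pow]; exact Finset.sum_congr rfl e⟩
  let d : ℕ → A → A := fun n x => if hx : x ∈ I then (if hn : n = 0 then 1 else (hex x hx n hn).choose) else 0
  have hd : ∀ {n : ℕ} {x : A}, x ∈ I → (n.factorial : A) * d n x = x ^ n := by
    intro n x hx
    simp only [d, dif_pos hx]
    split_ifs with hn
    · subst hn; simp
    · exact (hex x hx n hn).choose_spec.2
  have hmem : ∀ {n : ℕ} {x : A}, n ≠ 0 → x ∈ I → d n x ∈ I := by
    intro n x hn hx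
    simp only [d, dif_pos hx, dif_neg hn]
    exact (hex x hx n hn).choose_spec.1
  refine ⟨{ dpow := d, dpow_null := ?_, dpow_zero := ?_, dpow_one := ?_, dpow_mem := fun hn hx => hmem hn hx, dpow_add := ?_, dpow_mul := ?_, mul_dpow := ?_, dpow_comp := ?_ }⟩
  · intro n x hx; simp [d, hx]
  · intro x hx; simp [d, hx]
  · intro x hx; simpa using hd (n := 1) hx
  · intro n x y hx hy
    apply hcancel n
    rw [hd (I.add_mem hx hy), Finset.mul_sum, (Commute.all x y).add_pow']
    refine Finset.sum_congr rfl fun k hk => ?_
    have e : k.1 + k.2 = n := Finset.HasAntidiagonal.mem_antidiagonal.1 hk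
    rw [← hd hx, ← hd hy, ← e, nsmul_eq_mul, ← Nat.add_choose_mul_factorial_mul_factorial k.1 k.2]
    rw [Nat.choose_symm_add]
    push_cast
    ring
  · intro n a x hx
    apply hcancel n
    rw [hd (I.mul_mem_left a hx), mul_pow, ← hd hx]; ring
  · intro m n x hx
    apply hcancel m; apply hcancel n
    have e : ((m + n).choose m : A) * (m.factorial : A) * (n.factorial : A) = ((m + n).factorial : A) := by
      rw [← Nat.cast_mul, ← Nat.cast_mul, Nat.choose_symm_add, Nat.add_choose_mul_factorial_mul_factorial]
    calc (n.factorial : A) * ((m.factorial : A) * (d m x * d n x)) = ((m.factorial : A) * d m x) * ((n.factorial : A) * d n x) := by ring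
      _ = x ^ (m + n) := by rw [hd hx, hd hx, pow_add]
      _ = ((m + n).factorial : A) * d (m + n) x := (hd hx).symm
      _ = _ := by rw [← e]; ring
  · intro m n x hn hx
    have e : (m.uniformBell n : A) * (n.factorial : A) ^ m * (m.factorial : A) = ((m * n).factorial : A) := by
      rw [← Nat.cast_pow, ← Nat.cast_mul, ← Nat.cast_mul, Nat.uniformBell_mul_eq m hn]
    have h1 : (m.factorial : A) * ((n.factorial : A) ^ m * d m (d n x)) = (m.factorial : A) * ((n.factorial : A) ^ m * ((m.uniformBell n : A) * d (m * n) x)) := by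
      calc _ = (n.factorial : A) ^ m * ((m.factorial : A) * d m (d n x)) := by ring
        _ = x ^ (m * n) := by rw [hd (hmem hn hx), ← mul_pow, hd hx, ← pow_mul, mul_comm n m]
        _ = ((m * n).factorial : A) * d (m * n) x := (hd hx).symm
        _ = _ := by rw [← e]; ring
    have h2 := hcancel m h1
    rw [← Nat.cast_pow, ← nsmul_eq_mul, ← nsmul_eq_mul] at h2
    exact nsmul_right_injective (pow_ne_zero m n.factorial_ne_zero) h2

end Groth.Agent.S6501
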