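import Groth.Statements.S5217
import Mathlib
import Mathlib
-- import your own Groth.Agent.* helpers here

set_option autoImplicit false
open CategoryTheory CategoryTheory.Limits
universe w v₁ u₁
open ShfCat Opposite

namespace Groth.Agent.S5217

/-- In the category of sheaves of sets on a site, every equivalence relation is universally effective
(its quotient sheaf exists, the relation is the kernel pair of the quotient map, and that map is a
universal effective epimorphism). Stated for sheaves valued in `Type w` whenever sheafification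
exists. -/
theorem result {C : Type u₁} [Category.{v₁} C]
    (J : GrothendieckTopology C) [HasSheafify J (Type w)]
    {R X : Sheaf J (Type w)} (p₁ p₂ : R ⟶ X) [IsEquivalenceRelation p₁ p₂] :
    IsUniversallyEffectiveEquivalenceRelation p₁ p₂ := by
  classical
  obtain ⟨e⟩ := IsEquivalenceRelation.nonempty_equivalenceRelation (p₁ := p₁) (p₂ := p₂)
  -- the relation on sections
  have jm : ∀ (U : Cᵒᵖ) (a b : R.obj.obj U), p₁.hom.app U a = p₁.hom.app U b → p₂.hom.app U a = p₂.hom.app U b → a = b := by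
    intro U a b h₁ h₂
    let Φ := sheafToPresheaf J (Type w) ⋙ (evaluation Cᵒᵖ (Type w)).obj U
    haveI : Mono (prod.lift p₁ p₂) := ⟨fun {T} f g h => e.right_cancellation f g
      (by simpa only [Category.assoc, prod.lift_fst] using h =≫ prod.fst) (by simpa only [Category.assoc, prod.lift_snd] using h =≫ prod.snd)⟩
    let ua : PUnit.{w + 1} ⟶ Φ.obj R := ↾(fun _ => a)
    let ub : PUnit.{w + 1} ⟶ Φ.obj R := ↾(fun _ => b)
    have hab : ua ≫ Φ.map (prod.lift p₁ p₂) = ub ≫ Φ.map (prod.lift p₁ p₂) := by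
      refine BinaryFan.IsLimit.hom_ext (isLimitOfHasBinaryProductOfPreservesLimit Φ X X) ?_ ?_
      all_goals
        rw [Category.assoc, Category.assoc]
        change ua ≫ Φ.map _ ≫ Φ.map _ = ub ≫ Φ.map _ ≫ Φ.map _
        rw [← Φ.map_comp]
        simp only [prod.lift_fst, prod.lift_snd]
        ext
        first
          | exact h₁
          | exact h₂
    exact congr($((cancel_mono _).mp hab) PUnit.unit)
  have heq : ∀ U : Cᵒᵖ, Equivalence (fun x y : X.obj.obj U => ∃ r, p₁.hom.app U r = x ∧ p₂.hom.app U r = y) := fun U => by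
    refine ⟨fun x => ⟨e.r.hom.app U x, congr(($e.reflexivity₁).hom.app U x), congr(($e.reflexivity₂).hom.app U x)⟩, ?_, ?_⟩
    · rintro x y ⟨r, rfl, rfl⟩
      exact ⟨e.s.hom.app U r, congr(($e.symmetry₁).hom.app U r), congr(($e.symmetry₂).hom.app U r)⟩
    · rintro x y z ⟨r, rfl, hr⟩ ⟨r', hr', rfl⟩
      let Φ := sheafToPresheaf J (Type w) ⋙ (evaluation Cᵒᵖ (Type w)).obj U
      have sq := Φ.map_isPullback (IsPullback.of_isLimit e.isLimit)
      obtain ⟨c, hc₁, hc₂⟩ := ((Types.isPullback_iff _ _ _ _).mp sq).2.2 r r' (hr.trans hr'.symm)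
      refine ⟨e.t.hom.app U c, ?_, ?_⟩
      · exact (congr(($e.transitivity₁).hom.app U c)).trans (congrArg (p₁.hom.app U) hc₁)
      · exact (congr(($e.transitivity₂).hom.app U c)).trans (congrArg (p₂.hom.app U) hc₂)
  -- the quotient presheaf
  let rel : ∀ U : Cᵒᵖ, X.obj.obj U → X.obj.obj U → Prop := fun U x y => ∃ r, p₁.hom.app U r = x ∧ p₂.hom.app U r = y
  let Q : Cᵒᵖ ⥤ Type w :=
    { obj := fun U => Quot (rel U)
      map := fun {U V} i => ↾(Quot.map (X.obj.map i) (fun x y ⟨r, h₁, h₂⟩ => ⟨R.obj.map i r,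
        by rw [NatTrans.naturality_apply p₁.hom, h₁], by rw [NatTrans.naturality_apply p₂.hom, h₂]⟩))
      map_id := fun U => by ext ⟨x⟩; exact congrArg (Quot.mk _) (congr($(X.obj.map_id U) x))
      map_comp := fun i j => by ext ⟨x⟩; exact congrArg (Quot.mk _) (congr($(X.obj.map_comp i j) x)) }
  let qm : X.obj ⟶ Q := { app := fun U => ↾(Quot.mk (rel U)), naturality := fun U V i => by ext x; rfl }
  have hw : p₁.hom ≫ qm = p₂.hom ≫ qm := by
    ext U r
    exact Quot.sound ⟨r, rfl, rfl⟩
  have hpb : IsPullback p₁.hom p₂.hom qm qm := IsPullback.of_forall_isPullback_app fun U => by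
    rw [Types.isPullback_iff]
    refine ⟨congr($(hw).app U), fun a b h => jm U a b h.1 h.2, fun x y h => ?_⟩
    exact ((heq U).eqvGen_iff).mp (Quot.eqvGen_exact h)
  have hrefl : ∀ {T : Cᵒᵖ ⥤ Type w} (u v : X.obj ⟶ T), p₁.hom ≫ u = p₂.hom ≫ v → u = v := fun u v h => by
    ext U x
    have := congr(($h).app U (e.r.hom.app U x))
    have h₁ : p₁.hom.app U (e.r.hom.app U x) = x := congr(($e.reflexivity₁).hom.app U x)
    have h₂ : p₂.hom.app U (e.r.hom.app U x) = x := congr(($e.reflexivity₂).hom.app U x)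
    simpa [h₁, h₂] using this
  have hpo : IsPushout p₁.hom p₂.hom qm qm := by
    refine IsPushout.of_isColimit' ⟨hw⟩ (PushoutCocone.IsColimit.mk hw (fun s =>
      { app := fun U => ↾(Quot.lift (s.inl.app U) (fun x y ⟨r, h₁, h₂⟩ => by
          rw [← h₁, ← h₂]
          refine (congr($(s.condition).app U r)).trans ?_
          rw [hrefl s.inl s.inr s.condition]
          rfl))
        naturality := fun U V i => by ext ⟨x⟩; exact NatTrans.naturality_apply s.inl i x })
      (fun s => by ext U x; rfl) (fun s => by ext U x; exact congr(($(hrefl s.inl s.inr s.condition)).app U x))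
      (fun s m h₁ h₂ => by ext U ⟨x⟩; exact congr(($h₁).app U x)))
  -- sheafify
  let G := presheafToSheaf J (Type w)
  let cu := (sheafificationAdjunction J (Type w)).counit
  let π : X ⟶ G.obj Q := inv (cu.app X) ≫ G.map qm
  have hn : ∀ p : R ⟶ X, G.map p.hom ≫ cu.app X = cu.app R ≫ p := fun p => cu.naturality p
  have hπpb : IsPullback p₁ p₂ π π := (G.map_isPullback hpb).of_iso (asIso (cu.app R)) (asIso (cu.app X)) (asIso (cu.app X))
    (Iso.refl _) (hn p₁) (hn p₂) (by simp [π]) (by simp [π])
  have hπpo : IsPushout p₁ p₂ π π := (G.map_isPushout hpo).of_iso (asIso (cu.app R)) (asIso (cu.app X)) (asIso (cu.app X))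
    (Iso.refl _) (hn p₁) (hn p₂) (by simp [π]) (by simp [π])
  haveI : Epi qm := ⟨fun u v h => by ext U ⟨x⟩; exact congr(($h).app U x)⟩
  haveI : Epi (G.map qm) := inferInstance
  haveI : Epi π := inferInstanceAs (Epi (inv (cu.app X) ≫ G.map qm))
  refine ⟨⟨{ toEquivalenceRelation := e, B := G.obj Q, π := π, isKernelPair := hπpb, isPushout := hπpo
             universally_effectiveEpi_π := ?_ }⟩⟩
  intro A' B' i₁ i₂ f' sq
  haveI : Epi f' := by
    have hls : Sheaf.IsLocallySurjective π := (Sheaf.isLocallySurjective_iff_epi π).mpr inferInstance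
    refine (Sheaf.isLocallySurjective_iff_epi f').mp ⟨fun {U} z => ?_⟩
    refine J.superset_covering ?_ (Presheaf.imageSieve_mem J π.hom (i₂.hom.app (op U) z))
    rintro V i ⟨x, hx⟩
    let Φ := sheafToPresheaf J (Type w) ⋙ (evaluation Cᵒᵖ (Type w)).obj (op V)
    have sq' := Φ.map_isPullback sq
    obtain ⟨c, hc, -⟩ := ((Types.isPullback_iff _ _ _ _).mp sq').2.2 (B'.obj.map i.op z) x
      (hx.trans (NatTrans.naturality_apply i₂.hom i.op z).symm).symm
    exact ⟨c, hc⟩
  change EffectiveEpi f'
  rw [← isRegularEpi_iff_effectiveEpi]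
  exact IsRegularEpiCategory.regularEpiOfEpi f'

end Groth.Agent.S5217
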