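import Groth.Statements.S14744
import Groth.Agent.ChevThmLib.Disconn
import Groth.Agent.AVAmpleLib.MulFinite
-- import your own Groth.Agent.* helpers here

set_option autoImplicit false
set_option backward.isDefEq.respectTransparency false
set_option linter.style.haveILetI false
universe u
open CategoryTheory MonoidalCategory CartesianMonoidalCategory MonObj GrpObj AlgebraicGeometry
open AlgGrp

namespace Groth.Agent.S14744

/-- Over an algebraically closed field k, a smooth connected k-group scheme of finite type M whose only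
global functions are the constants (an anti-affine group variety; the largest anti-affine subgroup
of any group variety is of this kind) is divisible: for every n ≥ 1 the n-th power map M → M is
surjective. -/
theorem result (k : Type u) [Field k] [IsAlgClosed k]
    (M : Over (Spec (CommRingCat.of k))) [GrpObj M] [Smooth M.hom] [QuasiCompact M.hom] [ConnectedSpace ↥M.left]
    (hM : Function.Bijective ((Scheme.ΓSpecIso (CommRingCat.of k)).inv ≫ M.hom.appTop).hom)
    (n : ℕ) (hn : 0 < n) :
    Surjective ((𝟙 M) ^ n).left := by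
  haveI : AntiAffLib.IsΓIso (toUnit M) := (AntiAffLib.bijective_iff M).1 hM
  haveI : IsCommMonObj M := AntiAffLib.isCommMonObj_of_antiAff M
  haveI : IsSeparated M.hom := Groth.Agent.GrpField.isSeparated_grp (G := M)
  haveI : Flat M.hom := inferInstance
  haveI : CompactSpace M.left := QuasiCompact.compactSpace_of_compactSpace M.hom
  haveI : IsReduced M.left := AlgSpLib.isReduced_of_smooth M.hom
  let f := (𝟙 M) ^ n
  haveI : IsMonHom f := by
    show IsMonHom ((𝟙 M) ^ n)
    rw [← zpow_natCast]
    exact AbSchLib.isMonHom_zpow M (n : ℤ)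
  haveI : QuasiCompact f.left := by
    haveI : QuasiCompact (f.left ≫ M.hom) := by rw [Over.w f]; infer_instance
    exact QuasiCompact.of_comp f.left M.hom
  obtain ⟨H, _, p, h, hpm, hhm, hph, hpf, hps, -, hhc⟩ :=
    Groth.Agent.GrpHom.exists_fppf_image f (Groth.Agent.GrpField.flat_field _)
  haveI := hhm; haveI := hhc; haveI := hps
  haveI : Mono h := Over.mono_of_mono_left h
  haveI : LocallyOfFiniteType H.hom := by rw [← Over.w h]; infer_instance
  haveI : QuasiCompact H.hom := by rw [← Over.w h]; infer_instance
  haveI : Flat H.hom := Groth.Agent.GrpField.flat_field _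
  obtain ⟨Q, _, r, hrm, hrf, hrs, -, hrk, hQsep, -, hQsm⟩ := Groth.Agent.S3030.result k H M h
    (fun T g m => ⟨m, by rw [_root_.mul_comm g, mul_inv_cancel_right]⟩)
  haveI := hrm; haveI := hrf; haveI := hrs; haveI := hQsm inferInstance; haveI := hQsep
  haveI : CompactSpace Q.left := ⟨by rw [← r.left.surjective.range_eq]; exact isCompact_range r.left.continuous⟩
  haveI : QuasiCompact Q.hom := quasiCompact_of_compactSpace _
  haveI : ConnectedSpace Q.left := Function.Surjective.connectedSpace r.left.surjective r.left.continuous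
  have hfr : f ≫ r = 1 := by rw [← hph, Category.assoc, AntiAffLib.kernel_comp hrk, MonObj.comp_one]
  obtain ⟨N, _, i, hi, hmax⟩ := ChevThmLib.exists_gAff Q
  obtain ⟨B, _, b, hbm, hbf, hbs, hbk, hBp, hBs, hBc⟩ := ChevThmLib.exists_chevalley i hi hmax
  haveI := hbm; haveI := hbf; haveI := hbs; haveI := hBp; haveI := hBs; haveI := hBc; haveI := hi.affine
  haveI : GeometricallyIntegral B.hom := AlbLib.geometricallyIntegral_grp B
  have hB : (𝟙 B) ^ n = 1 := by
    haveI : LocallyOfFinitePresentation r.left := AntiAffLib.lfp_of_lft r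
    haveI : LocallyOfFinitePresentation b.left := AntiAffLib.lfp_of_lft b
    haveI := Groth.Agent.MonoQuot.epi_over r
    haveI := Groth.Agent.MonoQuot.epi_over b
    rw [← cancel_epi b, MonObj.comp_one, MonObj.comp_pow, Category.comp_id, ← cancel_epi r, MonObj.comp_pow,
      MonObj.comp_one, ← MonObj.one_comp b, ← hfr, Category.assoc]
    simp only [f, MonObj.pow_comp, Category.id_comp]
  haveI : Surjective (1 : B ⟶ B).left := by
    rw [← hB, ← zpow_natCast]
    exact AVAmpleLib.surjective_zpow B (Int.natCast_ne_zero.2 hn.ne')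
  haveI : Subsingleton B.left := by
    refine ⟨fun x y => ?_⟩
    obtain ⟨x', rfl⟩ := (1 : B ⟶ B).left.surjective x
    obtain ⟨y', rfl⟩ := (1 : B ⟶ B).left.surjective y
    rw [Hom.one_def, Over.comp_left, Scheme.Hom.comp_apply, Scheme.Hom.comp_apply]
    exact congrArg (η[B]).left (@Subsingleton.elim (PrimeSpectrum k) _ _ _)
  haveI : Nonempty B.left := ⟨(η[B]).left (IsLocalRing.closedPoint k)⟩
  haveI : IsAffine B.left := AntiAffLib.isAffine_of_subsingleton B.left
  haveI : IsAffineHom b.left := ChevThmLib.isAffineHom_of_kernel i b hbk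
  haveI : IsAffine Q.left := isAffine_of_isAffineHom b.left
  have hr1 : r = 1 := AntiAffLib.comp_eq_one r (IsMonHom.one_hom r)
  obtain ⟨l, hl⟩ := AntiAffLib.exists_lift_kernel hrk (𝟙 M) (by rw [Category.id_comp, hr1])
  refine ⟨fun x => ?_⟩
  obtain ⟨y, hy⟩ := p.left.surjective (l.left x)
  refine ⟨y, ?_⟩
  show f.left y = x
  rw [← hph, Over.comp_left, Scheme.Hom.comp_apply, hy, ← Scheme.Hom.comp_apply, ← Over.comp_left, hl]
  rfl
end Groth.Agent.S14744
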