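import Groth.Statements.S18067
import Groth.Agent.SemiAbLib.SemiDescent
import Groth.Agent.SemiAbLib.FinIsog
import Groth.Agent.S14744

set_option autoImplicit false
set_option backward.isDefEq.respectTransparency false
set_option linter.style.haveILetI false
set_option maxHeartbeats 1000000
universe u
open CategoryTheory MonoidalCategory CartesianMonoidalCategory MonObj GrpObj AlgebraicGeometry CategoryTheory.Limits
open AlgGrp

namespace Groth.Agent.S18067

/-- Let k be a field and G an anti-affine algebraic group over k, i.e. a smooth k-group scheme of finite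
type with O(G) = k (hence connected and commutative). Then for every non-zero integer n the n-th
power map G → G, x ↦ x^n, is an isogeny: surjective and finite. -/
theorem result (k : Type u) [Field k]
    (G : Over (Spec (CommRingCat.of k))) [GrpObj G] [Smooth G.hom] [QuasiCompact G.hom]
    (hG : Function.Bijective ((Scheme.ΓSpecIso (CommRingCat.of k)).inv ≫ G.hom.appTop).hom) (n : ℤ) (hn : n ≠ 0) :
    Surjective ((𝟙 G) ^ n).left ∧ IsFinite ((𝟙 G) ^ n).left := by
  haveI h0 : AntiAffLib.IsΓIso (toUnit G) := (AntiAffLib.bijective_iff G).1 hG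
  haveI : IsCommMonObj G := AntiAffLib.isCommMonObj_of_antiAff G
  haveI : ConnectedSpace G.left := AntiAffLib.connectedSpace_of_antiAff G
  haveI : QuasiSeparated G.hom := AntiAffLib.qs_grp G
  haveI : Nonempty G.left := ⟨(η[G]).left (IsLocalRing.closedPoint k)⟩
  haveI : IsMonHom ((𝟙 G) ^ n) := AbSchLib.isMonHom_zpow G n
  suffices hs : Surjective ((𝟙 G) ^ n).left from
    ⟨hs, SemiAbLib.isFinite_of_surjective ((𝟙 G) ^ n)⟩
  have key : ∀ m : ℕ, 0 < m → Surjective ((𝟙 G) ^ m).left := fun m hm => by
    let F := AVAmpleLib.bcF (k := k) (AlgebraicClosure k)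
    letI : GrpObj (F.obj G) := Functor.grpObjObj
    haveI : Smooth (F.obj G).hom := inferInstanceAs (Smooth (pullback.snd G.hom _))
    haveI : QuasiCompact (F.obj G).hom := inferInstanceAs (QuasiCompact (pullback.snd G.hom _))
    haveI := AlbLib.geometricallyIntegral_grp G
    haveI : GeometricallyIntegral (F.obj G).hom := inferInstanceAs (GeometricallyIntegral (pullback.snd G.hom _))
    haveI : ConnectedSpace (F.obj G).left := AlbLib.connectedSpace_gi _
    haveI h1 : AntiAffLib.IsΓIso (toUnit (F.obj G)) := (AntiAffLib.antiAff_bc_iff (AlgebraicClosure k) G).2 h0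
    haveI : Surjective (F.map ((𝟙 G) ^ m)).left := by
      rw [SemiAbLib.map_pow_id (AlgebraicClosure k) G m]
      exact Groth.Agent.S14744.result (AlgebraicClosure k) (F.obj G) ((AntiAffLib.bijective_iff (F.obj G)).2 h1) m hm
    haveI : Surjective (pullback.fst G.hom (Spec.map (CommRingCat.ofHom (algebraMap k (AlgebraicClosure k))))) :=
      MorphismProperty.pullback_fst (P := @Surjective) _ _ (SemiAbLib.surjective_spec _)
    have sq := AVAmpleLib.isPullback_bc (AlgebraicClosure k) ((𝟙 G) ^ m)
    haveI : Surjective (pullback.fst G.hom (Spec.map (CommRingCat.ofHom (algebraMap k (AlgebraicClosure k)))) ≫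
        ((𝟙 G) ^ m).left) := by
      rw [sq.w]
      infer_instance
    exact Surjective.of_comp (pullback.fst G.hom (Spec.map (CommRingCat.ofHom (algebraMap k (AlgebraicClosure k))))) _
  obtain ⟨m, rfl | rfl⟩ := n.eq_nat_or_neg
  · rw [zpow_natCast]
    exact key m (Nat.pos_of_ne_zero fun h => hn (by simp [h]))
  · haveI := key m (Nat.pos_of_ne_zero fun h => hn (by simp [h]))
    have e : (𝟙 G) ^ (-(m : ℤ)) = ((𝟙 G) ^ m) ≫ ι[G] := by
      rw [zpow_neg, zpow_natCast, Hom.inv_def]
    rw [e, Over.comp_left]
    haveI : IsIso (ι[G]).left := inferInstanceAs (IsIso ((Over.forget _).map ι[G]))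
    infer_instance

end Groth.Agent.S18067
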