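import Groth.Statements.S16033
import Groth.Agent.GrpHomLib.FlatImage
import Groth.Agent.AVAmpleLib.KerShear
import Groth.Agent.AbSchLib.MulN
import Groth.Agent.AntiAffLib.Smooth
import Groth.Agent.AntiAffLib.KerSub
import Groth.Agent.AlgSpLib.EtLocProp
import Groth.Agent.S18067
import Groth.Agent.S0082

set_option autoImplicit false
set_option backward.isDefEq.respectTransparency false
universe u
open CategoryTheory CategoryTheory.Limits AlgebraicGeometry MonoidalCategory MonObj
open GrpSch MonoidalCategory CartesianMonoidalCategory MonObj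

namespace Groth.Agent.S16033

section
open CategoryTheory CategoryTheory.Limits AlgebraicGeometry
attribute [-instance] CategoryTheory.Hom.commGroup

open MonoidalCategory CartesianMonoidalCategory MonObj in
theorem descends_affine {k : Type u} [Field k] {X Y : Over (Spec (CommRingCat.of k))} [GrpObj X] [GrpObj Y]
    (f : X ⟶ Y) [IsMonHom f] [Surjective f.left] [Flat f.left] [QuasiCompact f.left]
    {N : Over (Spec (CommRingCat.of k))} (i : N ⟶ X) (hN : AlgGrp.IsKernel i f) [IsAffine N.left] :
    IsAffineHom f.left := by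
  haveI := Groth.Agent.S0082.result.{u}
  haveI : IsAffineHom N.hom := isAffineHom_of_isAffine _
  exact (AVAmpleLib.prop_iff_kernel f i @IsAffineHom (fun sq h =>
    MorphismProperty.of_isPullback_of_descendsAlong (P := @IsAffineHom)
      (Q := (@Surjective ⊓ @Flat ⊓ @QuasiCompact : MorphismProperty Scheme.{u})) sq
      ⟨⟨inferInstanceAs (Surjective f.left), inferInstanceAs (Flat f.left)⟩,
        inferInstanceAs (QuasiCompact f.left)⟩ h) hN).2 ‹_›

end


/-- For a commutative group scheme G of finite type over a field and an integer n > 0, the n-th power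
homomorphism n_G : G ⟶ G is an affine morphism. -/
theorem result
    (k : Type u) [Field k] (G : Over (Spec (CommRingCat.of k))) [GrpObj G] [IsCommMonObj G]
    [LocallyOfFiniteType G.hom] [QuasiCompact G.hom] (n : ℕ) (hn : 0 < n) :
    IsAffineHom ((𝟙 G ^ n : G ⟶ G).left) := by
  haveI : IsSeparated G.hom := Groth.Agent.GrpField.isSeparated_grp (G := G)
  haveI hf : IsMonHom ((𝟙 G : G ⟶ G) ^ n) := by
    have := AbSchLib.isMonHom_zpow G (n : ℤ)
    rwa [zpow_natCast] at this
  haveI : QuasiCompact ((𝟙 G : G ⟶ G) ^ n).left := by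
    haveI : QuasiCompact (((𝟙 G : G ⟶ G) ^ n).left ≫ G.hom) := by rw [Over.w]; infer_instance
    exact QuasiCompact.of_comp _ G.hom
  haveI : Flat G.hom := Groth.Agent.GrpField.flat_field _
  obtain ⟨C, _, p, i, _, _, hpi, _, _, _, _⟩ :=
    Groth.Agent.GrpHom.exists_fppf_image ((𝟙 G : G ⟶ G) ^ n) (Groth.Agent.GrpField.flat_field _)
  haveI : LocallyOfFiniteType C.hom := by rw [← Over.w i]; infer_instance
  haveI : IsSeparated C.hom := Groth.Agent.GrpField.isSeparated_grp (G := C)
  haveI : QuasiCompact p.left := by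
    haveI : QuasiCompact (p.left ≫ C.hom) := by rw [Over.w]; infer_instance
    exact QuasiCompact.of_comp p.left C.hom
  obtain ⟨K, _, j, _, _, hK, -⟩ := AntiAffLib.exists_kernel p
  haveI : LocallyOfFiniteType K.hom := by rw [← Over.w j]; infer_instance
  haveI : QuasiCompact K.hom := by rw [← Over.w j]; infer_instance
  -- the antiaffine part of the kernel is killed by `n`, hence trivial
  let D := AntiAffLib.ker K
  haveI hD : AntiAffLib.IsΓIso (toUnit D) := AntiAffLib.antiAff_ker K
  haveI : Smooth D.hom := AntiAffLib.smooth_of_antiAff D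
  let d : D ⟶ G := AntiAffLib.kerIncl K ≫ j
  haveI : Mono j := Over.mono_of_mono_left j
  haveI : Mono d := mono_comp _ _
  have hd : d ≫ (𝟙 G : G ⟶ G) ^ n = 1 := by
    rw [← hpi, Category.assoc, ← Category.assoc j, show j ≫ p = 1 from by rw [hK.w, Hom.one_def],
      MonObj.one_comp, MonObj.comp_one]
  have hn1 : (𝟙 D : D ⟶ D) ^ n = 1 := by
    rw [← cancel_mono d, MonObj.pow_comp, Category.id_comp, MonObj.one_comp]
    rwa [MonObj.comp_pow, Category.comp_id] at hd
  have hsurj : Surjective (1 : D ⟶ D).left := by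
    have h := (Groth.Agent.S18067.result k D ((AntiAffLib.bijective_iff D).2 hD) (n : ℤ) (by exact_mod_cast hn.ne')).1
    rwa [zpow_natCast, hn1] at h
  haveI : Nonempty D.left := ⟨(η[D]).left (IsLocalRing.closedPoint k)⟩
  haveI : Subsingleton D.left := by
    refine ⟨fun a b => ?_⟩
    obtain ⟨a, rfl⟩ := (1 : D ⟶ D).left.surjective a
    obtain ⟨b, rfl⟩ := (1 : D ⟶ D).left.surjective b
    rw [Hom.one_def, Over.comp_left, Scheme.Hom.comp_apply, Scheme.Hom.comp_apply]
    exact congrArg _ (Subsingleton.elim (α := PrimeSpectrum k) _ _)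
  haveI : IsAffine D.left := AntiAffLib.isAffine_of_subsingleton _
  have hker : AlgGrp.IsKernel (AntiAffLib.kerIncl K) (AntiAffLib.toHull K) := by
    show IsPullback _ (toUnit D) _ η[AntiAffLib.hull K]
    rw [toUnit_unique (toUnit D) (pullback.snd (AntiAffLib.toHull K) η[AntiAffLib.hull K])]
    exact IsPullback.of_hasPullback _ _
  haveI := descends_affine (AntiAffLib.toHull K) (AntiAffLib.kerIncl K) hker
  haveI : IsAffine K.left := isAffine_of_isAffineHom (AntiAffLib.toHull K).left
  haveI := descends_affine p j hK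
  rw [← hpi, Over.comp_left]
  infer_instance

end Groth.Agent.S16033
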