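import Groth.Statements.S18056
import Groth.Agent.PerfectFieldLib.FormallySmooth
import Mathlib.RingTheory.LocalRing.Length
import Mathlib.RingTheory.Ideal.Cotangent
import Mathlib.RingTheory.Artinian.Ring
import Mathlib.Algebra.DualNumber
import Mathlib.Algebra.CharP.Algebra
import Mathlib.FieldTheory.Perfect
import Mathlib.FieldTheory.Finite.Basic
import Mathlib.Algebra.Algebra.Rat
import Mathlib.Algebra.CharP.CharAndCard
-- import your own Groth.Agent.* helpers here

set_option autoImplicit false
universe u v
open STCI

namespace Groth.Agent.S18056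

open Polynomial in
/-- The thickenings `K[X]/(X^(M+2))` of the dual numbers. -/
theorem thickening (F : Type*) (K : Type v) [Field F] [Field K] [Algebra F K] (M : ℕ) :
    ∃ (Q : Type v) (_ : CommRing Q) (_ : Algebra F Q) (g : Q →ₐ[F] DualNumber K),
      Function.Surjective g ∧ IsNilpotent (RingHom.ker (g : Q →+* DualNumber K)) ∧
      ∀ q, g q = DualNumber.eps → q ^ M ≠ 0 := by
  let J : Ideal K[X] := Ideal.span {X ^ (M + 2)}
  have hJ : ∀ p ∈ J, ((aeval (DualNumber.eps : DualNumber K)).restrictScalars F) p = 0 := by
    intro p hp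
    obtain ⟨r, rfl⟩ := Ideal.mem_span_singleton.1 hp
    show aeval (DualNumber.eps : DualNumber K) (X ^ (M + 2) * r) = 0
    rw [map_mul, map_pow, aeval_X, show M + 2 = 2 + M from add_comm _ _, pow_add, pow_two,
      DualNumber.eps_mul_eps, zero_mul, zero_mul]
  let g : (K[X] ⧸ J) →ₐ[F] DualNumber K := Ideal.Quotient.liftₐ J _ hJ
  have gmk : ∀ p : K[X], g (Ideal.Quotient.mk J p) = aeval (DualNumber.eps : DualNumber K) p := fun p => rfl
  have geval : ∀ p : K[X], aeval (DualNumber.eps : DualNumber K) p =
      TrivSqZeroExt.inl (p.coeff 0) + TrivSqZeroExt.inr (p.coeff 1) := by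
    intro p
    induction p using Polynomial.induction_on' with
    | add p q hp hq => simp only [map_add, hp, hq, coeff_add]; ext <;> simp
    | monomial n a =>
      rw [aeval_monomial]
      match n with
      | 0 => ext <;> simp [TrivSqZeroExt.algebraMap_eq_inl]
      | 1 => ext <;> simp [TrivSqZeroExt.algebraMap_eq_inl]
      | n + 2 =>
        rw [pow_add, pow_two, DualNumber.eps_mul_eps, mul_zero]
        ext <;> simp [coeff_monomial]
  refine ⟨K[X] ⧸ J, inferInstance, inferInstance, g, fun z => ⟨Ideal.Quotient.mk J (Polynomial.C z.fst + Polynomial.C z.snd * X),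
    by rw [gmk, geval]; ext <;> simp⟩, ?_, ?_⟩
  · refine ⟨M + 2, le_bot_iff.1 ((Ideal.pow_right_mono (J := Ideal.span {Ideal.Quotient.mk J X}) ?_ _).trans ?_)⟩
    · intro q hq
      obtain ⟨p, rfl⟩ := Ideal.Quotient.mk_surjective q
      have hq' : aeval (DualNumber.eps : DualNumber K) p = 0 := hq
      rw [geval] at hq'
      have h00 : p.coeff 0 = 0 := by
        have := congrArg TrivSqZeroExt.fst hq'
        simpa using this
      obtain ⟨r, rfl⟩ := X_dvd_iff.2 h00
      exact Ideal.mem_span_singleton.2 ⟨Ideal.Quotient.mk J r, map_mul _ _ _⟩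
    · rw [Ideal.span_singleton_pow, ← map_pow, Ideal.span_le, Set.singleton_subset_iff]
      exact Ideal.Quotient.eq_zero_iff_mem.2 (Ideal.mem_span_singleton_self _)
  · intro q hq hq0
    obtain ⟨p, rfl⟩ := Ideal.Quotient.mk_surjective q
    rw [gmk, geval] at hq
    have hp0 : p.coeff 0 = 0 := by simpa using congrArg TrivSqZeroExt.fst hq
    have hp1 : p.coeff 1 = 1 := by simpa using congrArg TrivSqZeroExt.snd hq
    rw [← map_pow, Ideal.Quotient.eq_zero_iff_mem, Ideal.mem_span_singleton] at hq0
    obtain ⟨r, rfl⟩ := X_dvd_iff.2 hp0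
    rw [mul_pow, pow_add] at hq0
    have h2 : X ^ 2 ∣ r ^ M := (mul_dvd_mul_iff_left (pow_ne_zero M X_ne_zero)).1 hq0
    have hr0 : r.coeff 0 = 1 := by rw [coeff_X_mul] at hp1; exact hp1
    have h3 := X_pow_dvd_iff.1 h2 0 (by omega)
    rw [coeff_zero_eq_eval_zero, eval_pow, ← coeff_zero_eq_eval_zero, hr0, one_pow] at h3
    exact one_ne_zero h3

set_option maxHeartbeats 2000000 in
open Polynomial IsLocalRing in
/-- A formally smooth algebra `B` over an Artinian local `A`, itself Artinian local, has `m_A B = m_B`
(for algebras over a perfect field `F`). -/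
theorem map_maximalIdeal (F : Type*) [Field F] [PerfectField F]
    (A : Type u) (B : Type v) [CommRing A] [CommRing B] [IsLocalRing A] [IsLocalRing B]
    [IsArtinianRing B] [Algebra A B] [Algebra.FormallySmooth A B]
    [IsLocalHom (algebraMap A B)] (τ : F →+* ResidueField A) :
    (maximalIdeal A).map (algebraMap A B) = maximalIdeal B := by
  classical
  set I := (maximalIdeal A).map (algebraMap A B) with hI
  have hIle : I ≤ maximalIdeal B :=
    Ideal.map_le_iff_le_comap.2 fun a ha => map_nonunit _ a ha
  by_contra hne
  let C := B ⧸ I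
  have hnt : Nontrivial C := Ideal.Quotient.nontrivial_iff.2 (fun h => by
    exact (maximalIdeal.isMaximal B).ne_top (top_le_iff.1 (h ▸ hIle)))
  have hloc : IsLocalRing C := IsLocalRing.of_surjective' (Ideal.Quotient.mk I) Ideal.Quotient.mk_surjective
  have hart : IsArtinianRing C := Ideal.Quotient.mk_surjective.isArtinianRing
  obtain ⟨M, hM⟩ : IsNilpotent (maximalIdeal C) := by
    rw [← IsLocalRing.jacobson_eq_maximalIdeal ⊥ bot_ne_top]
    exact IsArtinianRing.isNilpotent_jacobson_bot
  have h0 : maximalIdeal C ≠ ⊥ := by
    intro h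
    apply hne
    refine le_antisymm hIle fun b hb => Ideal.Quotient.eq_zero_iff_mem.1 ?_
    have : Ideal.Quotient.mk I b ∈ maximalIdeal C := by
      rw [mem_maximalIdeal, mem_nonunits_iff]
      intro hu
      have := IsLocalHom.of_surjective (Ideal.Quotient.mk I) Ideal.Quotient.mk_surjective
      exact hb (IsUnit.of_map (Ideal.Quotient.mk I) b hu)
    rwa [h] at this
  -- nonzero cotangent space
  have hV : Nontrivial (maximalIdeal C).Cotangent := by
    rw [← not_subsingleton_iff_nontrivial, Ideal.cotangent_subsingleton_iff]
    intro h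
    have key : ∀ k : ℕ, maximalIdeal C ^ (k + 1) = maximalIdeal C := by
      intro k
      induction k with
      | zero => exact pow_one _
      | succ k ih => rw [pow_succ, ih]; exact h
    have h2 := key M
    rw [pow_succ, hM, zero_mul] at h2
    exact h0 h2.symm
  -- structures over `F`
  let κ : ResidueField A →+* C := Ideal.Quotient.lift (maximalIdeal A)
    ((Ideal.Quotient.mk I).comp (algebraMap A B))
    (fun a ha => Ideal.Quotient.eq_zero_iff_mem.2 (Ideal.mem_map_of_mem _ ha))
  let : Algebra F C := (κ.comp τ).toAlgebra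
  let : Algebra F (ResidueField A) := τ.toAlgebra
  let K := C ⧸ maximalIdeal C
  let : Field K := Ideal.Quotient.field _
  have hK : Algebra.FormallySmooth F K := PerfectFieldLib.formallySmooth_of_perfectField F K
  have hk : Algebra.FormallySmooth F (ResidueField A) :=
    PerfectFieldLib.formallySmooth_of_perfectField F _
  obtain ⟨s, hs⟩ := Algebra.FormallySmooth.exists_lift (R := F) (A := K) (maximalIdeal C) ⟨M, hM⟩ (AlgHom.id F K)
  have hs' : ∀ x, Ideal.Quotient.mk (maximalIdeal C) (s x) = x := fun x => AlgHom.congr_fun hs x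
  -- functional on the cotangent space
  obtain ⟨v0, hv0⟩ := exists_ne (0 : (maximalIdeal C).Cotangent)
  let bV := Module.Free.chooseBasis K (maximalIdeal C).Cotangent
  obtain ⟨i, hi⟩ : ∃ i, bV.repr v0 i ≠ 0 := by
    by_contra! h
    exact hv0 (bV.repr.injective (by ext i; simpa using h i))
  let lam : (maximalIdeal C).Cotangent →ₗ[K] K := (bV.repr v0 i)⁻¹ • bV.coord i
  have hlam : lam v0 = 1 := by simp [lam, Module.Basis.coord, hi]
  obtain ⟨c0, hc0⟩ := Ideal.toCotangent_surjective _ v0
  -- the map to the dual numbers
  let π : C →+* K := Ideal.Quotient.mk (maximalIdeal C)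
  let d : C → (maximalIdeal C) := fun c => ⟨c - s (π c), Ideal.Quotient.eq.1 (hs' (π c)).symm⟩
  let μ : C → K := fun c => lam ((maximalIdeal C).toCotangent (d c))
  have μadd : ∀ x y, μ (x + y) = μ x + μ y := by
    intro x y
    simp only [μ, ← map_add]
    congr 2
    apply Subtype.ext
    simp only [d, Submodule.coe_add, map_add]
    ring
  have μmul : ∀ x y, μ (x * y) = π x * μ y + π y * μ x := by
    intro x y
    have e : (maximalIdeal C).toCotangent (d (x * y)) =
        (maximalIdeal C).toCotangent (s (π x) • d y + s (π y) • d x) := by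
      rw [Ideal.toCotangent_eq]
      have : ((d (x * y) : maximalIdeal C) : C) - ((s (π x) • d y + s (π y) • d x : maximalIdeal C) : C) =
          (d x : C) * (d y : C) := by
        simp only [d, Submodule.coe_add, Submodule.coe_smul, map_mul, smul_eq_mul]
        ring
      rw [this, pow_two]
      exact Ideal.mul_mem_mul (d x).2 (d y).2
    simp only [μ, e, map_add, map_smul]
    have hsm : ∀ (r : C) (v : (maximalIdeal C).Cotangent), lam (r • v) = π r * lam v := by
      intro r v
      have : r • v = π r • v := rfl
      rw [this, map_smul, smul_eq_mul]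
    rw [hsm, hsm]
    simp only [π, hs']
  have μone : μ 1 = 0 := by
    have := μmul 1 1
    simp at this
    exact this
  have μzero : μ 0 = 0 := by
    have := μadd 0 0
    simpa using this
  let D : C →+* DualNumber K :=
    { toFun := fun c => TrivSqZeroExt.inl (π c) + TrivSqZeroExt.inr (μ c)
      map_one' := by ext <;> simp [μone]
      map_mul' := fun x y => by
        ext
        · simp
        · simp [μmul]; ring
      map_zero' := by ext <;> simp [μzero]
      map_add' := fun x y => by ext <;> simp [μadd] }
  have hD : D c0 = DualNumber.eps := by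
    have h1 : π c0 = 0 := Ideal.Quotient.eq_zero_iff_mem.2 c0.2
    have h2 : μ c0 = 1 := by
      have : d c0 = c0 := Subtype.ext (by simp [d, h1])
      simp only [μ, this, hc0, hlam]
    ext <;> simp [D, h1, h2]
  -- the thickening
  obtain ⟨Q, _, _, ga, gsurj, hker, hpow⟩ := thickening F K M
  let f0 : ResidueField A →ₐ[F] DualNumber K :=
    { D.comp κ with
      commutes' := fun x => by
        show D (algebraMap F C x) = algebraMap F (DualNumber K) x
        have hd : d (algebraMap F C x) = 0 := Subtype.ext (by
          simp only [d, Submodule.coe_zero]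
          rw [show π (algebraMap F C x) = algebraMap F K x from rfl, AlgHom.commutes, sub_self])
        have hμ : μ (algebraMap F C x) = 0 := by simp [μ, hd]
        ext
        · simp [D, π, TrivSqZeroExt.algebraMap_eq_inl']; rfl
        · simp [D, hμ, TrivSqZeroExt.algebraMap_eq_inl'] }
  let l0 := Algebra.FormallySmooth.liftOfSurjective f0 ga gsurj hker
  let : Algebra A Q := (l0.toRingHom.comp (residue A)).toAlgebra
  let : Algebra A (DualNumber K) := (ga.toRingHom.comp (algebraMap A Q)).toAlgebra
  let ga' : Q →ₐ[A] DualNumber K := { ga.toRingHom with commutes' := fun _ => rfl }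
  let fB : B →ₐ[A] DualNumber K :=
    { D.comp (Ideal.Quotient.mk I) with
      commutes' := fun a => by
        show D (Ideal.Quotient.mk I (algebraMap A B a)) = ga (l0 (residue A a))
        exact (Algebra.FormallySmooth.liftOfSurjective_apply f0 ga gsurj hker (residue A a)).symm }
  have hker'' : IsNilpotent (RingHom.ker (ga' : Q →+* DualNumber K)) := hker
  let h := Algebra.FormallySmooth.liftOfSurjective fB ga' gsurj hker''
  obtain ⟨b, hb⟩ := Ideal.Quotient.mk_surjective (c0 : C)
  have hbM : b ^ M ∈ I := by
    rw [← Ideal.Quotient.eq_zero_iff_mem, map_pow, hb]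
    have := Ideal.pow_mem_pow c0.2 M
    rw [hM] at this
    exact this
  have hI0 : I ≤ RingHom.ker h := Ideal.map_le_iff_le_comap.2 fun a ha => by
    show h (algebraMap A B a) = 0
    rw [AlgHom.commutes]
    show l0 (residue A a) = 0
    rw [(residue_eq_zero_iff a).2 ha, map_zero]
  refine hpow (h b) ?_ (by rw [← map_pow]; exact hI0 hbM)
  refine (Algebra.FormallySmooth.liftOfSurjective_apply fB ga' gsurj hker'' b).trans ?_
  show D (Ideal.Quotient.mk I b) = _
  rw [hb, hD]

/-- Let A → B be a homomorphism of Artinian local rings that is flat and formally smooth, where A has a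
subring that is a field. Then A and B have the same length, each as a module over itself. -/
theorem result (A : Type u) (B : Type v) [CommRing A] [CommRing B]
    [IsLocalRing A] [IsLocalRing B] [IsArtinianRing A] [IsArtinianRing B] [Algebra A B]
    [Module.Flat A B] [Algebra.FormallySmooth A B] (hK : ∃ K : Subring A, IsField K) :
    Module.length A A = Module.length B B := by
  classical
  have hloc : IsLocalHom (algebraMap A B) := by
    refine ⟨fun a ha => ?_⟩
    by_contra hna
    have hnil : IsNilpotent a := by
      have hj : IsNilpotent (IsLocalRing.maximalIdeal A) := by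
        rw [← IsLocalRing.jacobson_eq_maximalIdeal ⊥ bot_ne_top]
        exact IsArtinianRing.isNilpotent_jacobson_bot
      obtain ⟨n, hn⟩ := hj
      exact ⟨n, by simpa [hn] using Ideal.pow_mem_pow (show a ∈ IsLocalRing.maximalIdeal A from hna) n⟩
    exact (hnil.map (algebraMap A B)).not_isUnit ha
  have h : Module.length B (B ⧸ (IsLocalRing.maximalIdeal A).map (algebraMap A B)) = 1 := by
    have : (IsLocalRing.maximalIdeal A).map (algebraMap A B) = IsLocalRing.maximalIdeal B := by
      obtain ⟨p, hp⟩ := CharP.exists (IsLocalRing.ResidueField A)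
      rcases CharP.char_is_prime_or_zero (IsLocalRing.ResidueField A) p with h | h
      · have := Fact.mk h
        exact map_maximalIdeal (ZMod p) A B (ZMod.castHom dvd_rfl _)
      · subst h
        have := CharP.charP_to_charZero (IsLocalRing.ResidueField A)
        exact map_maximalIdeal ℚ A B (algebraMap ℚ _)
    rw [this]
    have : IsSimpleModule B (B ⧸ IsLocalRing.maximalIdeal B) :=
      isSimpleModule_iff_isCoatom.2 (IsLocalRing.maximalIdeal.isMaximal B).out
    exact Module.length_eq_one _ _
  have e := IsLocalRing.length_baseChange A B A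
  rw [h, mul_one, (TensorProduct.AlgebraTensorModule.rid A B B).length_eq] at e
  exact e.symm

end Groth.Agent.S18056
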