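import Groth.Statements.S18057
import Groth.Agent.S18056
import Groth.Agent.AlgSpLib.SmoothFormal
import Mathlib
-- import your own Groth.Agent.* helpers here

set_option autoImplicit false
universe u
open STCI

namespace Groth.Agent.S18057

open AlgebraicGeometry CategoryTheory TopologicalSpace

open AlgebraicGeometry CategoryTheory in
/-- The local ring at a point without proper generalisations is Artinian. -/
theorem isArtinian_stalk_of_maximal {X : Scheme.{u}} [IsLocallyNoetherian X] (η : X)
    (h : ∀ z, z ⤳ η → z = η) : IsArtinianRing (X.presheaf.stalk η) := by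
  have key : ∀ a, X.fromSpecStalk η a = η := fun a =>
    h _ (Scheme.range_fromSpecStalk.subset ⟨a, rfl⟩)
  have : Subsingleton (PrimeSpectrum (X.presheaf.stalk η)) :=
    ⟨fun a b => (X.fromSpecStalk η).isEmbedding.injective ((key a).trans (key b).symm)⟩
  rw [isArtinianRing_iff_krullDimLE_zero]
  exact inferInstanceAs (Order.KrullDimLE 0 (PrimeSpectrum (X.presheaf.stalk η)))

theorem formallySmooth_appLE {X Y : Scheme.{u}} (f : X ⟶ Y) (hf : MoreMor.IsFormallySmoothHom f)
    {V : Y.Opens} (hV : IsAffineOpen V) {U : X.Opens} (hU : IsAffineOpen U) (e : U ≤ f ⁻¹ᵁ V) :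
    (f.appLE V U e).hom.FormallySmooth := by
  apply AlgSpLib.formallySmooth_appLE f hf hV hU e

/-- For a morphism f : X' → X between irreducible Noetherian schemes that is flat and formally smooth,
with X defined over a field (rendered: the ring of global sections of X contains a subring that is a
field, which for nonempty X is the same as giving a morphism from X to the spectrum of a field), the
local rings of X' and X at their generic points η', η (Artinian local rings) satisfy length
O_{X',η'} = length O_{X,η}. Formal smoothness is the infinitesimal lifting property against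
square-zero thickenings of affine schemes. -/
theorem result {X' X : Scheme.{u}} (f : X' ⟶ X)
    [IrreducibleSpace ↥X'] [IrreducibleSpace ↥X] [IsNoetherian X'] [IsNoetherian X] [Flat f]
    (hf : MoreMor.IsFormallySmoothHom f) (hK : ∃ K : Subring Γ(X, ⊤), IsField K) :
    Module.length (X'.presheaf.stalk (genericPoint X')) (X'.presheaf.stalk (genericPoint X'))
      = Module.length (X.presheaf.stalk (genericPoint X)) (X.presheaf.stalk (genericPoint X)) := by
  set x := genericPoint ↥X' with hxdef
  set y := f x with hydef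
  have hy : y = genericPoint ↥X := by
    have h1 : genericPoint ↥X ⤳ y := genericPoint_specializes y
    obtain ⟨z, hz, hzy⟩ := Flat.generalizingMap f h1
    have : z = x := (hz.antisymm (genericPoint_specializes z)).eq
    rw [hydef, ← this, hzy]
  obtain ⟨_, ⟨V, hV, rfl⟩, hyV, -⟩ := X.isBasis_affineOpens.exists_subset_of_mem_open (Set.mem_univ y) isOpen_univ
  obtain ⟨_, ⟨U, hU, rfl⟩, hxU, hUV⟩ := X'.isBasis_affineOpens.exists_subset_of_mem_open
    (show x ∈ f ⁻¹ᵁ V from hyV) (f ⁻¹ᵁ V).2
  have e : U ≤ f ⁻¹ᵁ V := hUV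
  have hyV' : f x ∈ V := hyV
  have hFS := Groth.Agent.S18057.formallySmooth_appLE f hf hV hU e
  have hFlat : (f.stalkMap x).hom.Flat := Flat.stalkMap f x
  have key : Module.length (X'.presheaf.stalk x) (X'.presheaf.stalk x) =
      Module.length (X.presheaf.stalk (f x)) (X.presheaf.stalk (f x)) := by
    letI : Algebra Γ(X, V) Γ(X', U) := (f.appLE V U e).hom.toAlgebra
    haveI : Algebra.FormallySmooth Γ(X, V) Γ(X', U) := hFS
    letI : Algebra Γ(X, V) (X.presheaf.stalk (f x)) := (X.presheaf.germ V (f x) hyV').hom.toAlgebra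
    letI : Algebra Γ(X', U) (X'.presheaf.stalk x) := (X'.presheaf.germ U x hxU).hom.toAlgebra
    letI : Algebra (X.presheaf.stalk (f x)) (X'.presheaf.stalk x) := (f.stalkMap x).hom.toAlgebra
    letI : Algebra Γ(X, V) (X'.presheaf.stalk x) :=
      ((f.stalkMap x).hom.comp (X.presheaf.germ V (f x) hyV').hom).toAlgebra
    haveI : IsScalarTower Γ(X, V) (X.presheaf.stalk (f x)) (X'.presheaf.stalk x) :=
      IsScalarTower.of_algebraMap_eq' rfl
    haveI : IsScalarTower Γ(X, V) Γ(X', U) (X'.presheaf.stalk x) := IsScalarTower.of_algebraMap_eq' (by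
      ext a
      show (f.stalkMap x) (X.presheaf.germ V (f x) hyV' a) = X'.presheaf.germ U x hxU (f.appLE V U e a)
      simp [Scheme.Hom.appLE])
    haveI := hV.isLocalization_stalk ⟨f x, hyV'⟩
    haveI := hU.isLocalization_stalk ⟨x, hxU⟩
    haveI : Algebra.FormallySmooth Γ(X', U) (X'.presheaf.stalk x) :=
      Algebra.FormallySmooth.of_isLocalization (hU.primeIdealOf ⟨x, hxU⟩).asIdeal.primeCompl
    haveI : Algebra.FormallySmooth Γ(X, V) (X'.presheaf.stalk x) :=
      Algebra.FormallySmooth.comp _ Γ(X', U) _
    haveI : Algebra.FormallySmooth (X.presheaf.stalk (f x)) (X'.presheaf.stalk x) :=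
      Algebra.FormallySmooth.localization_base (R := Γ(X, V)) (hV.primeIdealOf ⟨f x, hyV'⟩).asIdeal.primeCompl
    haveI : Module.Flat (X.presheaf.stalk (f x)) (X'.presheaf.stalk x) := hFlat
    haveI : IsArtinianRing (X.presheaf.stalk (f x)) :=
      Groth.Agent.S18057.isArtinian_stalk_of_maximal (f x) fun z hz => by
        exact (hz.antisymm (hy.symm ▸ genericPoint_specializes z : y ⤳ z)).eq
    haveI : IsArtinianRing (X'.presheaf.stalk x) :=
      Groth.Agent.S18057.isArtinian_stalk_of_maximal x fun z hz => (hz.antisymm (genericPoint_specializes z)).eq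
    obtain ⟨K, hK⟩ := hK
    exact (Groth.Agent.S18056.result (X.presheaf.stalk (f x)) (X'.presheaf.stalk x)
      ⟨K.map (X.presheaf.germ ⊤ (f x) trivial).hom, by
        let ρ : K →+* K.map (X.presheaf.germ ⊤ (f x) trivial).hom :=
          ((X.presheaf.germ ⊤ (f x) trivial).hom.comp K.subtype).codRestrict _ fun k => ⟨k, k.2, rfl⟩
        letI := hK.toField
        exact MulEquiv.isField hK (RingEquiv.ofBijective ρ ⟨ρ.injective,
          fun ⟨_, k, hk, rfl⟩ => ⟨⟨k, hk⟩, rfl⟩⟩).symm.toMulEquiv⟩).symm
  have : ∀ z, z = genericPoint ↥X →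
      Module.length (X.presheaf.stalk z) (X.presheaf.stalk z) =
      Module.length (X.presheaf.stalk (genericPoint ↥X)) (X.presheaf.stalk (genericPoint ↥X)) := by
    rintro _ rfl; rfl
  exact key.trans (this _ hy)

end Groth.Agent.S18057
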