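import Groth.Statements.S17486
import Groth.Agent.FittLib.Sheaf
import Groth.Agent.KZeroSecLib.Main
import Groth.Agent.SerreGenLib.Main
import Groth.Agent.CohCmpLib.Eps
import Groth.Agent.QCohLib.FTCrit
import Groth.Agent.RefHullLib.EvalStalk
import Groth.Agent.S9805
import Groth.Agent.FinLFAnnLib.Main
import Groth.Agent.SeesawLib.Pulled
-- import your own Groth.Agent.* helpers here

set_option autoImplicit false
set_option maxHeartbeats 2000000
set_option backward.isDefEq.respectTransparency false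
universe u
open CategoryTheory CategoryTheory.Limits AlgebraicGeometry
open Coherent

namespace Groth.Agent.S17486

open scoped TensorProduct

variable {X : Scheme.{u}}

/-- sections of a morphism, linearly -/
noncomputable def lin {M N : X.Modules} (f : M ⟶ N) (U : X.Opens) : Γ(M, U) →ₗ[Γ(X, U)] Γ(N, U) where
  toFun := f.app U
  map_add' := map_add _
  map_smul' r m := QCohLib.app_smul f U r m

theorem lin_comp {M N P : X.Modules} (f : M ⟶ N) (g : N ⟶ P) (U : X.Opens) :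
    lin (f ≫ g) U = (lin g U).comp (lin f U) := rfl

theorem lin_add {M N : X.Modules} (f g : M ⟶ N) (U : X.Opens) :
    lin (f + g) U = lin f U + lin g U := rfl

theorem lin_id (M : X.Modules) (U : X.Opens) : lin (𝟙 M) U = LinearMap.id := rfl

theorem lin_zero (M N : X.Modules) (U : X.Opens) : lin (0 : M ⟶ N) U = 0 := rfl

theorem exact_sections {M N : X.Modules} [Coh.IsQCoh M] [Coh.IsQCoh N] (f : M ⟶ N)
    {U : X.Opens} (hU : IsAffineOpen U) :
    Function.Exact (lin f U) (lin (cokernel.π f) U) ∧ Function.Surjective (lin (cokernel.π f) U) := by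
  haveI := QCohLib.isQCoh_cokernel f
  refine ⟨fun t => ⟨fun ht => ?_, ?_⟩, SerreGenLib.app_surjective_of_epi (cokernel.π f) hU⟩
  · obtain ⟨k, hk⟩ := CohCmpLib.exists_lift_kernel (cokernel.π f) t ht
    haveI := QCohLib.isQCoh_kernel (cokernel.π f)
    haveI : Epi (kernel.lift (cokernel.π f) f (cokernel.condition f)) :=
      CohCmpLib.epi_kernel_lift (S := ShortComplex.mk f (cokernel.π f) (cokernel.condition f))
        (ShortComplex.exact_of_g_is_cokernel _ (cokernelIsCokernel f))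
    obtain ⟨s, hs⟩ := SerreGenLib.app_surjective_of_epi
      (kernel.lift (cokernel.π f) f (cokernel.condition f)) hU k
    refine ⟨s, ?_⟩
    change f.app U s = t
    rw [← hk, ← hs]
    exact congr(Scheme.Modules.Hom.app $((kernel.lift_ι (cokernel.π f) f (cokernel.condition f)).symm) U s)
  · rintro ⟨s, rfl⟩
    exact congr(Scheme.Modules.Hom.app $(cokernel.condition f) U s)

theorem lt_finrank_fibre {A₁ A₂ B₁ B₂ : X.Modules} [Coh.IsQCoh A₁] [Coh.IsQCoh A₂] [Coh.IsQCoh B₁]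
    [Coh.IsQCoh B₂] {a₁ a₂ b₁ b₂ : ℕ} (φ : (A₁ ⊞ A₂) ⟶ (B₁ ⊞ B₂))
    (h0 : biprod.inr ≫ φ ≫ biprod.fst = 0) {U : X.Opens} (hU : IsAffineOpen U)
    (bA₁ : Module.Basis (Fin a₁) Γ(X, U) Γ(A₁, U)) (bB₁ : Module.Basis (Fin b₁) Γ(X, U) Γ(B₁, U))
    (bB₂ : Module.Basis (Fin b₂) Γ(X, U) Γ(B₂, U)) (hlt : b₂ < a₂) (hab : a₁ + a₂ ≤ b₁ + b₂)
    (K : Type u) [Field K] [Algebra Γ(X, U) K] :
    b₁ + b₂ - (a₁ + a₂) < Module.finrank K (K ⊗[Γ(X, U)] Γ(cokernel φ, U)) := by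
  haveI := QCohLib.isQCoh_biprod A₁ A₂
  haveI := QCohLib.isQCoh_biprod B₁ B₂
  obtain ⟨hex, hsur⟩ := exact_sections φ hU
  haveI := Module.Finite.of_basis bA₁
  haveI := Module.Finite.of_basis bB₁
  haveI := Module.Finite.of_basis bB₂
  haveI : Nontrivial Γ(X, U) := (algebraMap Γ(X, U) K).domain_nontrivial
  have hA1 : Module.finrank K (K ⊗[Γ(X, U)] Γ(A₁, U)) = a₁ := by
    rw [Module.finrank_eq_card_basis (bA₁.baseChange K), Fintype.card_fin]
  have hB1 : Module.finrank K (K ⊗[Γ(X, U)] Γ(B₁, U)) = b₁ := by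
    rw [Module.finrank_eq_card_basis (bB₁.baseChange K), Fintype.card_fin]
  have hB2 : Module.finrank K (K ⊗[Γ(X, U)] Γ(B₂, U)) = b₂ := by
    rw [Module.finrank_eq_card_basis (bB₂.baseChange K), Fintype.card_fin]
  haveI : Module.Finite K (K ⊗[Γ(X, U)] Γ(A₁, U)) := Module.Finite.of_basis (bA₁.baseChange K)
  haveI : Module.Finite K (K ⊗[Γ(X, U)] Γ(B₁, U)) := Module.Finite.of_basis (bB₁.baseChange K)
  haveI : Module.Finite K (K ⊗[Γ(X, U)] Γ(B₂, U)) := Module.Finite.of_basis (bB₂.baseChange K)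
  let T : ∀ {M N : X.Modules}, (M ⟶ N) → (K ⊗[Γ(X, U)] Γ(M, U) →ₗ[K] K ⊗[Γ(X, U)] Γ(N, U)) :=
    fun {M N} f => (lin f U).baseChange K
  have Tc : ∀ {M N P : X.Modules} (f : M ⟶ N) (g : N ⟶ P) (x), T (f ≫ g) x = T g (T f x) := by
    intro M N P f g x
    simp only [T, lin_comp, LinearMap.baseChange_comp, LinearMap.comp_apply]
  have Ta : ∀ {M N : X.Modules} (f g : M ⟶ N) (x), T (f + g) x = T f x + T g x := by
    intro M N f g x
    simp only [T, lin_add, LinearMap.baseChange_add, LinearMap.add_apply]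
  have Ti : ∀ (M : X.Modules) (x), T (𝟙 M) x = x := by
    intro M x
    simp only [T, lin_id, LinearMap.baseChange_id, LinearMap.id_apply]
  have Tz : ∀ (M N : X.Modules) (x), T (0 : M ⟶ N) x = 0 := by
    intro M N x
    simp only [T, lin_zero, LinearMap.baseChange_zero, LinearMap.zero_apply]
  have dec : ∀ {P Q : X.Modules} (y : K ⊗[Γ(X, U)] Γ(P ⊞ Q, U)),
      T biprod.inl (T biprod.fst y) + T biprod.inr (T biprod.snd y) = y := by
    intro P Q y
    rw [← Tc, ← Tc, ← Ta, biprod.total, Ti]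
  let e : (K ⊗[Γ(X, U)] Γ(B₁ ⊞ B₂, U)) ≃ₗ[K] (K ⊗[Γ(X, U)] Γ(B₁, U)) × (K ⊗[Γ(X, U)] Γ(B₂, U)) :=
    LinearEquiv.ofLinear ((T biprod.fst).prod (T biprod.snd)) ((T biprod.inl).coprod (T biprod.inr))
      (LinearMap.ext fun ⟨p, q⟩ => by
        simp only [LinearMap.comp_apply, LinearMap.prod_apply, Pi.prod, Function.prod_apply, Prod.mk_add_mk, LinearMap.coprod_apply, LinearMap.id_apply,
          map_add, ← Tc, biprod.inl_fst, biprod.inr_fst, biprod.inl_snd, biprod.inr_snd, Ti, Tz, add_zero,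
          zero_add])
      (LinearMap.ext fun y => dec y)
  haveI : Module.Finite K (K ⊗[Γ(X, U)] Γ(B₁ ⊞ B₂, U)) := Module.Finite.equiv e.symm
  have hB : Module.finrank K (K ⊗[Γ(X, U)] Γ(B₁ ⊞ B₂, U)) = b₁ + b₂ := by
    rw [e.finrank_eq, Module.finrank_prod, hB1, hB2]
  have hle : LinearMap.range (T φ) ≤
      LinearMap.range ((T φ).comp (T biprod.inl)) ⊔ LinearMap.range (T (biprod.inr : B₂ ⟶ B₁ ⊞ B₂)) := by
    rintro _ ⟨y, rfl⟩
    rw [← dec y, map_add]
    refine Submodule.add_mem_sup ⟨_, rfl⟩ ⟨T biprod.snd (T φ (T biprod.inr (T biprod.snd y))), ?_⟩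
    conv_rhs => rw [← dec (T φ (T biprod.inr (T biprod.snd y)))]
    have hz : T biprod.fst (T φ (T biprod.inr (T biprod.snd y))) = 0 := by
      rw [← Tc φ, ← Tc biprod.inr, h0, Tz]
    rw [hz, map_zero, zero_add]
  have hrange : Module.finrank K (LinearMap.range (T φ)) ≤ a₁ + b₂ := by
    refine (Submodule.finrank_mono hle).trans ((Submodule.finrank_add_le_finrank_add_finrank _ _).trans ?_)
    exact add_le_add ((LinearMap.finrank_range_le _).trans hA1.le) ((LinearMap.finrank_range_le _).trans hB2.le)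
  have hsur' : Function.Surjective (T (cokernel.π φ)) := LinearMap.lTensor_surjective K hsur
  have hex' : Function.Exact (T φ) (T (cokernel.π φ)) := lTensor_exact K hex hsur
  have h1 := LinearMap.finrank_range_add_finrank_ker (T (cokernel.π φ))
  rw [LinearMap.range_eq_top.mpr hsur', finrank_top, hB, (LinearMap.exact_iff.mp hex')] at h1
  omega


/-- Let k be an algebraically closed field of characteristic zero and Y a smooth projective variety over
k (an integral scheme, smooth over k, with a closed immersion into some P^n_k over k). Let A = A₁ ⊕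
A₂ and B = B₁ ⊕ B₂ be finite locally free O_Y-modules with A_i of rank a_i ≥ 1 and B_j of rank b_j ≥
1, a₁ + a₂ ≤ b₁ + b₂, such that the sheaves Hom(A₁, B₁), Hom(A₁, B₂), Hom(A₂, B₂) (right adjoints of
A_i ⊗ -, whose existence is the stated instance hypothesis; it holds) are globally generated while
every morphism A₂ → B₁ is zero (the sheaf Hom(A₂, B₁) has no nonzero global section). For φ : A → B
let Z(φ) ⊆ Y be the closed set where φ drops rank, i.e. where the rank of φ on fibres is less than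
a₁ + a₂: the zero set of the (b₁ + b₂ - a₁ - a₂)-th Fitting ideal sheaf of the cokernel of φ
(locally generated by the maximal minors of φ). If b₂ < a₂, then every φ : A → B drops rank at every
point of Y, i.e. Z(φ) = Y. -/
theorem result
    (k : Type u) [Field k] [IsAlgClosed k] [CharZero k]
    (Y : Scheme.{u}) [Y.Over (Spec (CommRingCat.of k))] [AlgebraicGeometry.IsIntegral Y]
    [Smooth (Y ↘ Spec (CommRingCat.of k))]
    (hproj : ∃ (N : ℕ) (ι : Y ⟶ CohB1.ProjSpace N k), IsClosedImmersion ι ∧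
      ι ≫ CohB1.ProjSpace.toSpec N k = (Y ↘ (Spec (CommRingCat.of k))))
    (A₁ A₂ B₁ B₂ : Y.Modules) (a₁ a₂ b₁ b₂ : ℕ)
    (hA₁ : FlatMod.IsFinLocFreeOfRank a₁ A₁) (hA₂ : FlatMod.IsFinLocFreeOfRank a₂ A₂)
    (hB₁ : FlatMod.IsFinLocFreeOfRank b₁ B₁) (hB₂ : FlatMod.IsFinLocFreeOfRank b₂ B₂)
    (ha₁ : 1 ≤ a₁) (ha₂ : 1 ≤ a₂) (hb₁ : 1 ≤ b₁) (hb₂ : 1 ≤ b₂) (hab : a₁ + a₂ ≤ b₁ + b₂)
    [DCoh.HasSheafHom A₁] [DCoh.HasSheafHom A₂]
    (h₁₁ : Curv2.IsGloballyGenerated ((DCoh.sheafHom A₁).obj B₁))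
    (h₁₂ : Curv2.IsGloballyGenerated ((DCoh.sheafHom A₁).obj B₂))
    (h₂₂ : Curv2.IsGloballyGenerated ((DCoh.sheafHom A₂).obj B₂))
    (h₂₁ : ∀ ψ : A₂ ⟶ B₁, ψ = 0) (hlt : b₂ < a₂) (φ : (A₁ ⊞ A₂) ⟶ (B₁ ⊞ B₂)) :
    (((Fitt.sheafIdeal (cokernel φ) (b₁ + b₂ - (a₁ + a₂))).support : TopologicalSpace.Closeds Y) : Set Y) = Set.univ := by
  have hq : ∀ {n : ℕ} {M : Y.Modules}, FlatMod.IsFinLocFreeOfRank n M → Coh.IsQCoh M := fun h =>
    FinLFAnn.isQCoh_of_isFinLocFree (SeesawLib.isFinLocFree_of_rank h)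
  haveI := hq hA₁; haveI := hq hA₂; haveI := hq hB₁; haveI := hq hB₂
  haveI := QCohLib.isQCoh_biprod A₁ A₂
  haveI := QCohLib.isQCoh_biprod B₁ B₂
  haveI := QCohLib.isQCoh_cokernel φ
  have hft' : ∀ {n : ℕ} {M : Y.Modules}, FlatMod.IsFinLocFreeOfRank n M → CohB1.IsFT M := fun h =>
    haveI := hq h
    RefHullLib.isFT_of_isFP ((Groth.Agent.S9805.result Y _ (hq h)).2 (SeesawLib.isFinLocFree_of_rank h) |>.2)
  have hft : CohB1.IsFT (cokernel φ) :=
    QCohLib.isFT_of_epi (cokernel.π φ) (QCohLib.isFT_biprod (hft' hB₁) (hft' hB₂))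
  refine Set.eq_univ_of_forall fun x => ?_
  obtain ⟨O₁, h1, f1⟩ := KZeroSecLib.exists_basis_nhd hA₁ x
  obtain ⟨O₃, h3, f3⟩ := KZeroSecLib.exists_basis_nhd hB₁ x
  obtain ⟨O₄, h4, f4⟩ := KZeroSecLib.exists_basis_nhd hB₂ x
  obtain ⟨U, hU, hxU, hle⟩ := exists_isAffineOpen_mem_and_subset (U := O₁ ⊓ (O₃ ⊓ O₄)) (x := x) ⟨h1, h3, h4⟩
  obtain ⟨e1⟩ := f1 ⟨U, hU⟩ fun y hy => (hle hy).1
  obtain ⟨e3⟩ := f3 ⟨U, hU⟩ fun y hy => (hle hy).2.1
  obtain ⟨e4⟩ := f4 ⟨U, hU⟩ fun y hy => (hle hy).2.2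
  haveI := QCohLib.finite_of_isFT hft hU
  rw [SetLike.mem_coe, FittLib.mem_support_iff (cokernel φ) hft _ hU hxU]
  by_contra hc
  rw [FittLib.finrank_fibre_le_iff] at hc
  exact absurd hc (not_le.mpr (lt_finrank_fibre φ (by rw [← Category.assoc]; exact h₂₁ _) hU e1 e3 e4 hlt hab
    (hU.primeIdealOf ⟨x, hxU⟩).asIdeal.ResidueField))

end Groth.Agent.S17486
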