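import Groth.Statements.S1562
import Mathlib
import Groth.Agent.DepthLib.GeomRkFin
-- import your own Groth.Agent.* helpers here

set_option autoImplicit false
universe u
open CategoryTheory CategoryTheory.Limits AlgebraicGeometry
open Variety IsLocalRing

namespace Groth.Agent.S1562

/-- Let X be locally of finite type over a field k and x a point of X. Then X is geometrically regular
at x (regular local rings at all points over x after every finitely generated field extension) if
and only if x lies in the smooth locus of X → Spec k. -/
theorem result (k : Type u) [Field k] (X : Scheme.{u}) [X.Over (Spec (CommRingCat.of k))] [LocallyOfFinitePresentation (X ↘ (Spec (CommRingCat.of k)))] (x : X) :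
    Curv2.IsGeomRegularAt k X x ↔ x ∈ (X ↘ (Spec (CommRingCat.of k))).smoothLocus := by
  let f : X ⟶ Spec (CommRingCat.of k) := X ↘ Spec (CommRingCat.of k)
  haveI : LocallyOfFinitePresentation f := ‹LocallyOfFinitePresentation (X ↘ (Spec (CommRingCat.of k)))›
  constructor
  · intro h
    by_contra hx
    haveI : IsLocallyNoetherian X := LocallyOfFiniteType.isLocallyNoetherian f
    haveI : IsNoetherianRing (X.presheaf.stalk x) := inferInstance
    obtain ⟨n, hn⟩ : ∃ n : ℕ, ringKrullDim (X.presheaf.stalk x) ≤ ((n : ℕ∞) : WithBot ℕ∞) :=
      ⟨(maximalIdeal (X.presheaf.stalk x)).height.toNat, by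
        rw [← IsLocalRing.maximalIdeal_height_eq_ringKrullDim, ENat.coe_toNat]
        exact Ideal.height_ne_top (Ideal.IsMaximal.ne_top inferInstance)⟩
    refine (DepthLib.geomRk_fin_iff f x n).1 (fun K _ _ hK y' hy' => ?_) x specializes_rfl hx hn
    haveI := hK
    haveI : IsRegularLocalRing ((FBase.bc f K).presheaf.stalk y') := h K ((IntermediateField.fg_top_iff).2 inferInstance) y' hy'
    intro p hp _
    exact CommAlgDim.isRegularLocalRing_localization _ p
  · intro hx K _ _ _ x' hx'
    let g := Spec.map (CommRingCat.ofHom (algebraMap k K))
    haveI : Flat g := (HasRingHomProperty.Spec_iff (P := @Flat)).2 (RingHom.flat_algebraMap_iff.2 inferInstance)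
    let str : Curv2.bc k X K ⟶ Spec (CommRingCat.of K) := Limits.pullback.snd f g
    haveI : LocallyOfFinitePresentation str := MorphismProperty.pullback_snd _ _ inferInstance
    refine (DepthLib.regular_of_smooth_and_conversely str x').1
      ((DepthLib.mem_smoothLocus_baseChange_scheme f g str (Limits.pullback.fst f g)
        (IsPullback.of_hasPullback f g) (Or.inr inferInstance) x').2 ?_)
    exact hx' ▸ hx

end Groth.Agent.S1562
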