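import Groth.Statements.S1742
import Groth.Agent.CommAlgDim.Depth
-- import your own Groth.Agent.* helpers here

set_option autoImplicit false
universe u
open LocCoh

namespace Groth.Agent.S1742

open CommAlgDim Pointwise in
theorem spread {A : Type u} [CommRing A] [IsNoetherianRing A] (I : Ideal A) (p : Ideal A) [p.IsPrime] :
    ∀ (n : ℕ) (M : Type u) [AddCommGroup M] [Module A M] [Module.Finite A M],
      HasSeqIn (I.map (algebraMap A (Localization.AtPrime p))) (LocalizedModule p.primeCompl M) n →
      ∃ s : A, s ∉ p ∧ ∀ (q : Ideal A) [q.IsPrime], s ∉ q →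
        HasSeqIn (I.map (algebraMap A (Localization.AtPrime q))) (LocalizedModule q.primeCompl M) n := by
  intro n
  induction n with
  | zero => exact fun M _ _ _ _ => ⟨1, fun h => Ideal.IsPrime.ne_top ‹_› ((Ideal.eq_top_iff_one _).2 h),
      fun q _ _ => hasSeqIn_zero _⟩
  | succ n ih =>
    intro M _ _ _ h
    haveI : IsNoetherianRing (Localization.AtPrime p) := IsLocalization.isNoetherianRing p.primeCompl _ inferInstance
    obtain ⟨rs, hl, hm, hr⟩ := h.mono (Nat.le_add_left 1 n)
    obtain ⟨y, rfl⟩ := List.length_eq_one_iff.1 hl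
    rw [RingTheory.Sequence.isWeaklyRegular_singleton_iff] at hr
    obtain ⟨⟨⟨a, ha⟩, t⟩, hat⟩ := (IsLocalization.mem_map_algebraMap_iff p.primeCompl _).1 (hm y (List.mem_singleton_self y))
    have hareg : IsSMulRegular (LocalizedModule p.primeCompl M) (algebraMap A (Localization.AtPrime p) a) := by
      rw [← hat, mul_comm]
      exact ((IsLocalization.map_units (Localization.AtPrime p) t).isSMulRegular _).mul hr
    let K : Submodule A M := LinearMap.ker (LinearMap.lsmul A M a)
    have hK : ∀ x ∈ K, ∃ s : A, s ∉ p ∧ s • x = 0 := by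
      intro x hx
      have hx' : a • x = 0 := hx
      have h0 : LocalizedModule.mkLinearMap p.primeCompl M x = 0 := hareg (by
        show algebraMap A (Localization.AtPrime p) a • _ = algebraMap A (Localization.AtPrime p) a • 0
        rw [smul_zero, algebraMap_smul, ← map_smul, hx', map_zero])
      obtain ⟨s, hs⟩ := (IsLocalizedModule.eq_zero_iff p.primeCompl _).1 h0
      exact ⟨s, s.2, hs⟩
    obtain ⟨T, hT⟩ := (IsNoetherian.noetherian K : K.FG)
    choose s hs hsx using fun x : T => hK x.1 (hT ▸ Submodule.subset_span x.2)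
    let s0 : A := ∏ x : T, s x
    have hs0 : s0 ∉ p := fun hmem => by
      obtain ⟨x, -, hx⟩ := (Ideal.IsPrime.prod_mem_iff (p := p)).1 hmem
      exact hs x hx
    have hs0K : ∀ x ∈ K, s0 • x = 0 := by
      intro x hx
      rw [← hT] at hx
      refine Submodule.span_induction (fun z hz => ?_) (smul_zero _) (fun u v _ _ hu hv => by
        rw [smul_add, hu, hv, add_zero]) (fun c u _ hu => by rw [smul_comm, hu, smul_zero]) hx
      obtain ⟨c, hc⟩ : s ⟨z, hz⟩ ∣ s0 := Finset.dvd_prod_of_mem _ (Finset.mem_univ _)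
      rw [hc, mul_comm, mul_smul]
      exact (congrArg (c • ·) (hsx ⟨z, hz⟩)).trans (smul_zero c)
    obtain ⟨e⟩ := exists_quot_equiv (M := M) p a
    obtain ⟨s1, hs1, hq⟩ := ih (QuotSMulTop a M) (HasSeqIn.congr e.symm
      (h.quotSMulTop (Ideal.mem_map_of_mem _ ha) hareg))
    refine ⟨s0 * s1, fun hmem => (Ideal.IsPrime.mem_or_mem ‹_› hmem).elim hs0 hs1, fun q _ hsq => ?_⟩
    haveI : IsNoetherianRing (Localization.AtPrime q) := IsLocalization.isNoetherianRing q.primeCompl _ inferInstance
    obtain ⟨e'⟩ := exists_quot_equiv (M := M) q a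
    refine hasSeqIn_succ_of_cons (Ideal.mem_map_of_mem _ ha) ?_
      (HasSeqIn.congr e' (hq q fun h' => hsq (q.mul_mem_left _ h')))
    refine IsSMulRegular.of_right_eq_zero_of_smul fun z hz => ?_
    induction z using LocalizedModule.induction_on with | _ m u => ?_
    rw [algebraMap_smul, LocalizedModule.smul'_mk, IsLocalizedModule.mk_eq_mk', IsLocalizedModule.mk'_eq_zero'] at hz
    obtain ⟨w, hw⟩ := hz
    rw [IsLocalizedModule.mk_eq_mk', IsLocalizedModule.mk'_eq_zero']
    refine ⟨⟨s0, fun h' => hsq (q.mul_mem_right _ h')⟩ * w, ?_⟩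
    rw [Submonoid.smul_def, Submonoid.coe_mul, mul_smul]
    exact hs0K _ (show a • ((w : A) • m) = 0 by rw [smul_comm]; exact hw)

/-- Let A be a Noetherian ring, I an ideal, M a finite A-module and p a prime containing I such that the
IA_p-depth of M_p is a finite number e. Then there is an open subset U of Spec A meeting V(p) such
that the IA_q-depth of M_q is at least e for every q in U ∩ V(p). -/
theorem result (A : Type u) [CommRing A] [IsNoetherianRing A] (I : Ideal A) (M : Type u) [AddCommGroup M] [Module A M] [Module.Finite A M] (p : PrimeSpectrum A) (hp : I ≤ p.asIdeal) (e : ℕ) (he : LocCoh.idealDepth (I.map (algebraMap A (Localization.AtPrime p.asIdeal))) (LocalizedModule p.asIdeal.primeCompl M) = e) : ∃ U : Set (PrimeSpectrum A), IsOpen U ∧ (U ∩ PrimeSpectrum.zeroLocus (p.asIdeal : Set A)).Nonempty ∧ ∀ q : PrimeSpectrum A, q ∈ U → p ≤ q → (e : ℕ∞) ≤ LocCoh.idealDepth (I.map (algebraMap A (Localization.AtPrime q.asIdeal))) (LocalizedModule q.asIdeal.primeCompl M) := by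
  haveI : IsNoetherianRing (Localization.AtPrime p.asIdeal) :=
    IsLocalization.isNoetherianRing p.asIdeal.primeCompl _ inferInstance
  obtain ⟨s, hs, hq⟩ := spread I p.asIdeal e M ((CommAlgDim.le_idealDepth_iff _ e).1 he.ge)
  refine ⟨PrimeSpectrum.basicOpen s, PrimeSpectrum.isOpen_basicOpen, ⟨p, hs, fun x hx => hx⟩, fun q hqU _ => ?_⟩
  haveI : IsNoetherianRing (Localization.AtPrime q.asIdeal) :=
    IsLocalization.isNoetherianRing q.asIdeal.primeCompl _ inferInstance
  exact (CommAlgDim.le_idealDepth_iff _ e).2 (hq q.asIdeal hqU)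

end Groth.Agent.S1742
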