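import Groth.Statements.S0015
-- import your own Groth.Agent.* helpers here

set_option autoImplicit false
universe u
open Coherent

namespace Groth.Agent.S0015

open AlgebraicGeometry in
lemma finset_basic (X : Scheme.{u}) (P : X.Opens → Prop) (h₁ : ∀ U : X.Opens, IsAffineOpen U → P U)
    (h₂ : ∀ U V : X.Opens, IsCompact (U : Set X) → IsAffineOpen V → P U → P V → P (U ⊓ V) →
      P (U ⊔ V)) (V : X.Opens) (hV : IsAffineOpen V) :
    ∀ n : ℕ, ∀ s : Finset Γ(X, V), s.card ≤ n → P (⨆ f ∈ s, X.basicOpen f) := by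
  classical
  intro n
  induction n with
  | zero =>
    intro s hs
    obtain rfl : s = ∅ := by simpa using hs
    simpa using h₁ ⊥ (isAffineOpen_bot X)
  | succ n ih =>
    intro s hs
    rcases s.eq_empty_or_nonempty with rfl | ⟨f, hf⟩
    · simpa using h₁ ⊥ (isAffineOpen_bot X)
    · have hcard : (s.erase f).card ≤ n := by
        rw [Finset.card_erase_of_mem hf]; omega
      have e : (⨆ g ∈ s, X.basicOpen g) = (⨆ g ∈ s.erase f, X.basicOpen g) ⊔ X.basicOpen f := by
        conv_lhs => rw [← Finset.insert_erase hf]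
        rw [Finset.iSup_insert, sup_comm]
      rw [e]
      refine h₂ _ _ ?_ (hV.basicOpen f) (ih _ hcard) (h₁ _ (hV.basicOpen f)) ?_
      · rw [TopologicalSpace.Opens.coe_iSup]
        simp only [TopologicalSpace.Opens.coe_iSup]
        exact (s.erase f).isCompact_biUnion fun g _ => (hV.basicOpen g).isCompact
      · have : (⨆ g ∈ s.erase f, X.basicOpen g) ⊓ X.basicOpen f
            = ⨆ g ∈ (s.erase f).image (· * f), X.basicOpen g := by
          rw [Finset.iSup_finset_image, iSup_inf_eq]
          simp only [iSup_inf_eq, Scheme.basicOpen_mul]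
        rw [this]
        exact ih _ (Finset.card_image_le.trans hcard)

open AlgebraicGeometry in
lemma compact_le_affine (X : Scheme.{u}) (P : X.Opens → Prop) (h₁ : ∀ U : X.Opens, IsAffineOpen U → P U)
    (h₂ : ∀ U V : X.Opens, IsCompact (U : Set X) → IsAffineOpen V → P U → P V → P (U ⊓ V) →
      P (U ⊔ V)) (V : X.Opens) (hV : IsAffineOpen V) (W : X.Opens) (hWV : W ≤ V)
    (hW : IsCompact (W : Set X)) : P W := by
  classical
  have hb := fun x : (W : Set X) => hV.exists_basicOpen_le (V := W) ⟨x.1, x.2⟩ (hWV x.2)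
  choose f hfle hxf using hb
  obtain ⟨t, ht⟩ := hW.elim_finite_subcover (fun x => (X.basicOpen (f x) : Set X))
    (fun x => (X.basicOpen (f x)).2) fun x hx => Set.mem_iUnion.mpr ⟨⟨x, hx⟩, hxf ⟨x, hx⟩⟩
  have e : W = ⨆ g ∈ t.image f, X.basicOpen g := by
    rw [Finset.iSup_finset_image]
    refine le_antisymm ?_ (iSup₂_le fun x _ => hfle x)
    intro x hx
    have := ht hx
    simpa using this
  rw [e]
  exact finset_basic X P h₁ h₂ V hV _ _ le_rfl

open AlgebraicGeometry in
/-- Let X be quasi-compact and quasi-separated and P a property of opens of X. If P holds for affine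
opens, and P(U ∪ V) follows from P(U), P(V), P(U ∩ V) whenever U is quasi-compact open and V affine
open, then P holds for every quasi-compact open, in particular for X. -/
theorem result (X : Scheme.{u}) [CompactSpace X] [QuasiSeparatedSpace X]
    (P : X.Opens → Prop) (h₁ : ∀ U : X.Opens, IsAffineOpen U → P U)
    (h₂ : ∀ U V : X.Opens, IsCompact (U : Set X) → IsAffineOpen V → P U → P V → P (U ⊓ V) →
      P (U ⊔ V))
    (U : X.Opens) (hU : IsCompact (U : Set X)) : P U := by
  refine compact_open_induction_on (P := P) U hU (h₁ ⊥ (isAffineOpen_bot X)) fun S hS V ih => ?_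
  refine h₂ S V.1 hS V.2 ih (h₁ _ V.2) ?_
  exact compact_le_affine X P h₁ h₂ V.1 V.2 _ inf_le_right
    (QuasiSeparatedSpace.inter_isCompact _ _ S.2 hS V.1.2 V.2.isCompact)

end Groth.Agent.S0015
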