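import Groth.Statements.S16083
import Groth.Agent.RefHullLib.NormalHull

set_option autoImplicit false
universe u
open CategoryTheory CategoryTheory.Limits AlgebraicGeometry TopologicalSpace
open SDiv
open ModGlueLib (rs rs_rs app_rs exists_glue)

namespace Groth.Agent.S16083

/-- Suppose X is a normal scheme that is integral and locally Noetherian, write η for its generic point,
let F and G be coherent O_X-modules, and let T : G_η → F_η be an O_{X,η}-linear map of generic
stalks. Then T extends to a morphism G ⟶ F^** — there is a morphism ψ whose stalk map at η is T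
followed by the stalk map at η of the canonical map F ⟶ F^** — if and only if for every point x with
dim O_{X,x} = 1 the map T sends the image of G_x in G_η into the image of F_x in F_η. -/
theorem result (X : Scheme.{u}) [IsIntegral X] [IsLocallyNoetherian X]
    (hX : Pi1.IsNormalScheme X) (F G : X.Modules) (hF : Coh.IsCoh F) (hG : Coh.IsCoh G)
    (T : ↑(G.presheaf.stalk (genericPoint ↥X)) →ₗ[↑(X.presheaf.stalk (genericPoint ↥X))]
      ↑(F.presheaf.stalk (genericPoint ↥X))) :
    (∃ ψ : G ⟶ RefHull.ddual F, RefHull.stalkMapₗ ψ (genericPoint ↥X) =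
        (RefHull.stalkMapₗ (RefHull.bidualMap F) (genericPoint ↥X)).comp T) ↔
      ∀ x : ↥X, ringKrullDim ↑(X.presheaf.stalk x) = 1 →
        Set.MapsTo ⇑T
          (Set.range ⇑(G.presheaf.stalkSpecializes ((genericPoint_spec ↥X).specializes (Set.mem_univ x))).hom)
          (Set.range ⇑(F.presheaf.stalkSpecializes ((genericPoint_spec ↥X).specializes (Set.mem_univ x))).hom) := by
  let η := genericPoint ↥X
  let β := RefHull.bidualMap F
  let D : X.Modules := RefHull.ddual F
  have hdF := RefHullLib.isCoh_dual hF
  constructor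
  · rintro ⟨ψ, hψ⟩ x hx _ ⟨w, rfl⟩
    obtain ⟨v, hv⟩ := RefHullLib.surjective_bidual_stalk_of_dim_le_one hX hF hx.le
      (RefHull.stalkMapₗ ψ x w)
    refine ⟨v, (RefHullLib.bijective_bidual_generic hX hF).1 ?_⟩
    have h1 := (RefHullLib.stalkMap_stalkSpecializes β (RefHullLib.specializes_generic x) v).symm.trans
      ((congrArg (D.presheaf.stalkSpecializes (RefHullLib.specializes_generic x)) hv).trans
        (RefHullLib.stalkMap_stalkSpecializes ψ (RefHullLib.specializes_generic x) w))
    exact h1.trans (LinearMap.congr_fun hψ _)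
  · intro h
    obtain ⟨hi, he⟩ := (ZClosLib.isZClosed_iff (ZClosLib.stableUnderSpecialization_dimGe 2)).mp
      (RefHullLib.isZClosed_dual hX hdF)
    -- the target germ at the generic point
    let tgt : ∀ (W : X.Opens) (hη : η ∈ W), Γ(G, W) → D.presheaf.stalk η := fun W hη s =>
      RefHull.stalkMapₗ β η (T (G.presheaf.germ W η hη s))
    have tgt_res : ∀ (W W' : X.Opens) (hle : W' ≤ W) (hη : η ∈ W') (s : Γ(G, W)),
        tgt W' hη (G.presheaf.map (homOfLE hle).op s) = tgt W (hle hη) s := fun W W' hle hη s =>
      congrArg (fun t => RefHull.stalkMapₗ β η (T t))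
        (TopCat.Presheaf.germ_res_apply G.presheaf (homOfLE hle) η hη s)
    have hext : ∀ (W : X.Opens) (a b : Γ(D, W)),
        (∀ hη : η ∈ W, D.presheaf.germ W η hη a = D.presheaf.germ W η hη b) → a = b :=
      fun W a b e => RefHullLib.dual_section_ext hdF a b e
    have hex : ∀ (W : X.Opens) (s : Γ(G, W)), ∃ t : Γ(D, W), ∀ hη : η ∈ W,
        D.presheaf.germ W η hη t = tgt W hη s := by
      intro W s
      let κ := {V : X.Opens // ∃ (hle : V ≤ W) (a : Γ(D, V)), ∀ hη : η ∈ V,
        D.presheaf.germ V η hη a = tgt W (hle hη) s}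
      choose hle a ha using fun V : κ => V.2
      let W' : X.Opens := ⨆ V : κ, V.1
      obtain ⟨g, hg⟩ := exists_glue (M := D) (V := W') (fun V : κ => V.1)
        (fun V => le_iSup (fun V : κ => V.1) V) (fun x hx => Opens.mem_iSup.mp hx) a
        fun V V' => hext _ _ _ fun hη => by
          rw [ZClosLib.germ_rs, ZClosLib.germ_rs, ha, ha]
      have hWle : W' ≤ W := iSup_le hle
      have hloc : ∀ x (hx : x ∈ W), x ∉ ZClos.dimGe X 2 → ∃ V : κ, x ∈ V.1 := fun x hx hxZ => by
        obtain ⟨g, hgx⟩ : ∃ g : D.presheaf.stalk x,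
            D.presheaf.stalkSpecializes (RefHullLib.specializes_generic x) g =
              tgt W (RefHullLib.mem_of_nonempty hx) s := by
          rcases ZClosLib.dim_eq_zero_or_one hxZ with h0 | h1
          · obtain rfl := RefHullLib.eq_generic_of_dim_zero h0
            exact ⟨tgt W hx s, by rw [TopCat.Presheaf.stalkSpecializes_refl]; rfl⟩
          · obtain ⟨v, hv⟩ := h x h1 ⟨G.presheaf.germ W x hx s, rfl⟩
            refine ⟨RefHull.stalkMapₗ β x v,
              (RefHullLib.stalkMap_stalkSpecializes β (RefHullLib.specializes_generic x) v).trans ?_⟩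
            exact congrArg (RefHull.stalkMapₗ β η) (hv.trans (congrArg T
              (TopCat.Presheaf.germ_stalkSpecializes_apply G.presheaf hx
                (RefHullLib.specializes_generic x) s)))
        obtain ⟨U, hxU, c, rfl⟩ := D.presheaf.germ_exist g
        refine ⟨⟨W ⊓ U, inf_le_left, D.presheaf.map (homOfLE (inf_le_right : W ⊓ U ≤ U)).op c,
          fun hη => ?_⟩, ⟨hx, hxU⟩⟩
        rw [TopCat.Presheaf.germ_res_apply, ← hgx]
        exact (TopCat.Presheaf.germ_stalkSpecializes_apply D.presheaf hxU
          (RefHullLib.specializes_generic x) c).symm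
      obtain ⟨t, ht⟩ := he hWle (fun x hx => not_not.mp fun hxZ => hx.2 (by
        obtain ⟨V, hV⟩ := hloc x hx.1 hxZ
        exact Opens.mem_iSup.mpr ⟨V, hV⟩)) g
      refine ⟨t, fun hη => ?_⟩
      have hηZ : η ∉ ZClos.dimGe X 2 := fun hZ => by
        have h2 := RefHullLib.mem_dimGe_two.1 hZ
        rw [ringKrullDim_stalk_eq_coheight, Order.coheight_eq_zero.2 (fun y _ =>
          Scheme.le_iff_specializes.2 (RefHullLib.specializes_generic y))] at h2
        exact absurd h2 (by decide)
      obtain ⟨V, hV⟩ := hloc η hη hηZ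
      have h1 := congrArg (D.presheaf.germ V.1 η hV) (hg V)
      rw [ha, ← ht, rs_rs, ZClosLib.germ_rs] at h1
      exact h1
    choose f hf using hex
    let f' : ∀ W : X.Opens, Γ(G, W) →+ Γ(D, W) := fun W => AddMonoidHom.mk' (f W) fun a b =>
      hext W _ _ fun hη => by
        rw [map_add, hf, hf, hf]
        show RefHull.stalkMapₗ β η (T (G.presheaf.germ W η hη (a + b))) = _
        rw [map_add, map_add, map_add]
    have hsmul : ∀ (W : X.Opens) (r : Γ(X, W)) (s : Γ(G, W)), f' W (r • s) = r • f' W s :=
      fun W r s => hext W _ _ fun hη => by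
        show D.presheaf.germ W η hη (f W (r • s)) = D.presheaf.germ W η hη (r • f W s)
        rw [Mero.germ_smul, hf, hf]
        show RefHull.stalkMapₗ β η (T (G.presheaf.germ W η hη (r • s))) =
          X.presheaf.germ W η hη r • RefHull.stalkMapₗ β η (T (G.presheaf.germ W η hη s))
        rw [Mero.germ_smul, map_smul, map_smul]
    have hres : ∀ (U V : X.Opens) (i : V ⟶ U) (s : Γ(G, U)),
        f' V (G.presheaf.map i.op s) = D.presheaf.map i.op (f' U s) := fun U V i s =>
      hext V _ _ fun hη => by
        show D.presheaf.germ V η hη (f V _) = D.presheaf.germ V η hη (D.presheaf.map i.op (f U s))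
        rw [hf, TopCat.Presheaf.germ_res_apply, hf]
        exact tgt_res U V i.le hη s
    refine ⟨RefHullLib.homMk f' hsmul hres, LinearMap.ext fun v => ?_⟩
    obtain ⟨W, hη, s, rfl⟩ := TopCat.Presheaf.exists_germ_eq G.presheaf (x := η) v
    exact (RefHull.stalkMapₗ_germ _ η hη s).trans (hf W s hη)

end Groth.Agent.S16083
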