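import Groth.Statements.S16086
import Groth.Agent.Ref1Lib.Gen
import Groth.Agent.S16083

set_option autoImplicit false
universe u
open CategoryTheory CategoryTheory.Limits AlgebraicGeometry TopologicalSpace
open SDiv

namespace Groth.Agent.S16086

variable {X : Scheme.{u}} [IsIntegral X] [IsLocallyNoetherian X] (hX : Pi1.IsNormalScheme X)
  {F G : X.Modules} (hF : RefHull.IsRef1 F) (hG : RefHull.IsRef1 G)

include hF in
theorem hom_ext {A : X.Modules} (a b : A ⟶ F)
    (h : RefHull.stalkMapₗ a (genericPoint X) = RefHull.stalkMapₗ b (genericPoint X)) : a = b := by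
  refine RefHullLib.hom_ext_sections a b fun U s => RefHullLib.germ_ext F _ _ fun x hx =>
    Ref1Lib.spec_injective hF x ?_
  rw [Ref1Lib.spec_germ, Ref1Lib.spec_germ, ← RefHull.stalkMapₗ_germ, ← RefHull.stalkMapₗ_germ, h]

include hX hF hG in
/-- A generic map preserving the lattices in codimension one extends. -/
theorem exists_hom (T : F.presheaf.stalk (genericPoint X) →ₗ[X.presheaf.stalk (genericPoint X)]
      G.presheaf.stalk (genericPoint X))
    (h : ∀ x : X, ringKrullDim (X.presheaf.stalk x) = 1 →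
      Set.MapsTo T (Set.range (Ref1Lib.spec F x)) (Set.range (Ref1Lib.spec G x))) :
    ∃ a : F ⟶ G, RefHull.stalkMapₗ a (genericPoint X) = T := by
  obtain ⟨ψ, hψ⟩ := (S16083.result X hX G F hG.1 hF.1 T).2 h
  haveI : IsIso (RefHull.bidualMap G) := hG.2.1
  refine ⟨ψ ≫ inv (RefHull.bidualMap G), LinearMap.ext fun v => ?_⟩
  refine (RefHullLib.bijective_bidual_generic hX hG.1).1 ?_
  rw [← RefHullLib.stalkMap_comp, Category.assoc, IsIso.inv_hom_id, Category.comp_id, hψ]
  rfl

/-- The class map is well defined and injective: fix a scheme X that is integral, normal and locally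
Noetherian, and write η for its generic point; suppose F and G are rank one coherent reflexive
O_X-modules and let s ∈ F_η and t ∈ G_η be nonzero rational sections. At a point x of codimension 1
the stalks F_x, G_x are free of rank one over the discrete valuation ring O_{X,x}, so s and t have
orders ord_{x,F}(s), ord_{x,G}(t). Then F ≅ G if and only if the Weil divisors of s and t are
linearly equivalent: for some nonzero rational function f one has ord_{x,F}(s) = ord_{x,G}(t) +
ord_x(f) at every point x of codimension 1. -/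
theorem result (X : Scheme.{u}) [IsIntegral X] [IsLocallyNoetherian X]
    (hX : Pi1.IsNormalScheme X) (F G : X.Modules) (hF : RefHull.IsRef1 F) (hG : RefHull.IsRef1 G)
    (s : Cyc.secFibre F (genericPoint ↥X)) (hs : s ≠ 0) (t : Cyc.secFibre G (genericPoint ↥X)) (ht : t ≠ 0) :
    Nonempty (F ≅ G) ↔
      ∃ f : ↑X.functionField, f ≠ 0 ∧
        ∀ (x : ↥X), Order.coheight x = 1 →
          Cyc.secOrdAt F (genericPoint ↥X) x ((genericPoint_spec ↥X).specializes (Set.mem_univ x)) s =
            Cyc.secOrdAt G (genericPoint ↥X) x ((genericPoint_spec ↥X).specializes (Set.mem_univ x)) t +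
              Scheme.ord f x := by
  let η := genericPoint ↥X
  obtain ⟨v, rfl⟩ := Submodule.Quotient.mk_surjective _ s
  obtain ⟨w, rfl⟩ := Submodule.Quotient.mk_surjective _ t
  have hv : v ≠ 0 := fun h => hs (by rw [h]; rfl)
  have hw : w ≠ 0 := fun h => ht (by rw [h]; rfl)
  constructor
  · rintro ⟨e⟩
    let T := RefHull.stalkMapₗ e.hom η
    have hTb : ∀ x, Function.Bijective (RefHull.stalkMapₗ e.hom x) :=
      (RefHullLib.isIso_iff_stalk e.hom).1 inferInstance
    obtain ⟨v0, hv0⟩ := Ref1Lib.exists_gen_generic hG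
    obtain ⟨p, hp⟩ := hv0.2 (T v)
    obtain ⟨q, hq⟩ := hv0.2 w
    have hq0 : q ≠ 0 := fun h => hw (by rw [← hq, h]; exact zero_smul _ v0)
    have hTv : T v ≠ 0 := fun h => hv ((hTb η).1 (h.trans (map_zero _).symm))
    have hp0 : p ≠ 0 := fun h => hTv (by rw [← hp, h]; exact zero_smul _ v0)
    let f : X.functionField := (show X.functionField from p) / (show X.functionField from q)
    have hf : f ≠ 0 := div_ne_zero hp0 hq0
    have hfw : (f : X.presheaf.stalk η) • w = T v := by
      rw [← hp, ← hq]
      dsimp only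
      rw [smul_smul]
      exact congrArg (fun c => c • v0) (div_mul_cancel₀ (show X.functionField from p) hq0)
    refine ⟨f, hf, fun x hx => ?_⟩
    obtain ⟨tF, htF, htF0⟩ := Ref1Lib.exists_gen hX hF hx
    obtain ⟨φ, hφ⟩ := Ref1Lib.exists_eq_smul_spec hF htF0 v
    let tG := RefHull.stalkMapₗ e.hom x tF
    have htG : Submodule.span (X.presheaf.stalk x) {tG} = ⊤ := by
      rw [← Set.image_singleton, Submodule.span_image, htF, Submodule.map_top, LinearMap.range_eq_top]
      exact (hTb x).2
    have htG0 : tG ≠ 0 := fun h => htF0 ((hTb x).1 (h.trans (map_zero _).symm))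
    obtain ⟨ψ, hψ⟩ := Ref1Lib.exists_eq_smul_spec hG htG0 w
    have hne : Ref1Lib.spec G x tG ≠ 0 := fun h =>
      htG0 (Ref1Lib.spec_injective hG x (h.trans (map_zero _).symm))
    have hψ0 : ψ ≠ 0 := fun h => hw (by rw [hψ, h, zero_smul])
    have h1 : T v = φ • Ref1Lib.spec G x tG := by
      rw [hφ, map_smul]
      exact congrArg (φ • ·) (RefHullLib.stalkMap_stalkSpecializes e.hom _ tF).symm
    have hφe : φ = ((f * (show X.functionField from ψ) : X.functionField) : X.presheaf.stalk η) :=
      Ref1Lib.smul_left_injective' hne (by rw [← h1, ← hfw, hψ, smul_smul])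
    rw [Ref1Lib.secOrdAt_eq hF hx _ hv htF htF0 hφ, Ref1Lib.secOrdAt_eq hG hx _ hw htG htG0 hψ, hφe,
      Scheme.ord_mul hf hψ0, add_comm]
  · rintro ⟨f, hf, hfx⟩
    obtain ⟨v0, hv0⟩ := Ref1Lib.exists_gen_generic hF
    obtain ⟨w0, hw0⟩ := Ref1Lib.exists_gen_generic hG
    let eF : X.presheaf.stalk η ≃ₗ[X.presheaf.stalk η] F.presheaf.stalk η :=
      LinearEquiv.ofBijective (LinearMap.toSpanSingleton _ _ v0) hv0
    let eG : X.presheaf.stalk η ≃ₗ[X.presheaf.stalk η] G.presheaf.stalk η :=
      LinearEquiv.ofBijective (LinearMap.toSpanSingleton _ _ w0) hw0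
    let c : X.functionField :=
      f * (show X.functionField from eG.symm w) / (show X.functionField from eF.symm v)
    have hp0 : (show X.functionField from eF.symm v) ≠ 0 := eF.symm.map_ne_zero_iff.2 hv
    have hc : c ≠ 0 := div_ne_zero (mul_ne_zero hf (eG.symm.map_ne_zero_iff.2 hw)) hp0
    let T : F.presheaf.stalk η ≃ₗ[X.presheaf.stalk η] G.presheaf.stalk η :=
      (eF.symm.trans (LinearEquiv.smulOfUnit
        (IsUnit.unit (isUnit_iff_ne_zero.2 hc) : (X.functionField)ˣ))).trans eG
    have hTv : T v = (f : X.presheaf.stalk η) • w := by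
      show eG (c * (show X.functionField from eF.symm v)) = _
      rw [div_mul_cancel₀ _ hp0]
      conv_rhs => rw [← eG.apply_symm_apply w, ← map_smul]
      rfl
    have key : ∀ x : X, ringKrullDim (X.presheaf.stalk x) = 1 →
        Set.MapsTo T (Set.range (Ref1Lib.spec F x)) (Set.range (Ref1Lib.spec G x)) ∧
        Set.MapsTo T.symm (Set.range (Ref1Lib.spec G x)) (Set.range (Ref1Lib.spec F x)) := by
      intro x hdim
      rw [ringKrullDim_stalk_eq_coheight] at hdim
      have hx : Order.coheight x = 1 := by exact_mod_cast hdim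
      obtain ⟨tF, htF, htF0⟩ := Ref1Lib.exists_gen hX hF hx
      obtain ⟨tG, htG, htG0⟩ := Ref1Lib.exists_gen hX hG hx
      obtain ⟨φ, hφ⟩ := Ref1Lib.exists_eq_smul_spec hF htF0 v
      obtain ⟨ψ, hψ⟩ := Ref1Lib.exists_eq_smul_spec hG htG0 w
      obtain ⟨θ, hθ⟩ := Ref1Lib.exists_eq_smul_spec hG htG0 (T (Ref1Lib.spec F x tF))
      have hneG : Ref1Lib.spec G x tG ≠ 0 := fun h =>
        htG0 (Ref1Lib.spec_injective hG x (h.trans (map_zero _).symm))
      have hφ0 : φ ≠ 0 := fun h => hv (by rw [hφ, h, zero_smul])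
      have hψ0 : ψ ≠ 0 := fun h => hw (by rw [hψ, h, zero_smul])
      have hθ0 : θ ≠ 0 := fun h => htF0 (Ref1Lib.spec_injective hF x (T.injective (by
        rw [hθ, h, zero_smul]
        exact (map_zero T).symm.trans (congrArg T (map_zero _).symm))))
      have hrel : (show X.functionField from φ) * (show X.functionField from θ) =
          f * (show X.functionField from ψ) := Ref1Lib.smul_left_injective' hneG (by
        rw [← smul_smul, ← hθ, ← map_smul, ← hφ, hTv, hψ, smul_smul])
      have hord := hfx x hx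
      rw [Ref1Lib.secOrdAt_eq hF hx _ hv htF htF0 hφ, Ref1Lib.secOrdAt_eq hG hx _ hw htG htG0 hψ] at hord
      have h2 := congrArg (fun a : X.functionField => Scheme.ord a x) hrel
      simp only at h2
      rw [Scheme.ord_mul hφ0 hθ0, Scheme.ord_mul hf hψ0] at h2
      have e1 : Scheme.ord (φ : X.functionField) x + Scheme.ord (θ : X.functionField) x =
          Scheme.ord f x + Scheme.ord (ψ : X.functionField) x := h2
      have hθ1 : Scheme.ord (θ : X.functionField) x = 0 := by omega
      obtain ⟨⟨a, ha⟩, ⟨b, hb⟩⟩ := (CDivCoreLib.ord_eq_zero_iff hX hx hθ0).1 hθ1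
      refine ⟨?_, ?_⟩
      · rintro _ ⟨z, rfl⟩
        obtain ⟨d, rfl⟩ := Submodule.mem_span_singleton.1 (htF ▸ Submodule.mem_top : z ∈ _)
        refine ⟨(d * a) • tG, ?_⟩
        rw [Ref1Lib.spec_smul, Ref1Lib.spec_smul, map_smul, hθ, smul_smul, map_mul, ha]
      · rintro _ ⟨z, rfl⟩
        obtain ⟨d, rfl⟩ := Submodule.mem_span_singleton.1 (htG ▸ Submodule.mem_top : z ∈ _)
        refine ⟨(d * b) • tF, T.injective ?_⟩
        rw [T.apply_symm_apply, Ref1Lib.spec_smul, Ref1Lib.spec_smul, map_smul, hθ, smul_smul]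
        refine congrArg (fun e => e • Ref1Lib.spec G x tG) ?_
        show algebraMap (X.presheaf.stalk x) X.functionField (d * b) * (show X.functionField from θ) =
          algebraMap (X.presheaf.stalk x) X.functionField d
        rw [map_mul, hb, mul_assoc, inv_mul_cancel₀ hθ0, mul_one]
    obtain ⟨a, ha⟩ := exists_hom hX hF hG T.toLinearMap fun x hx => (key x hx).1
    obtain ⟨b, hb⟩ := exists_hom hX hG hF T.symm.toLinearMap fun x hx => (key x hx).2
    exact ⟨⟨a, b, hom_ext hF _ _ (LinearMap.ext fun z => by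
        rw [RefHullLib.stalkMap_comp, ha, hb, RefHullLib.stalkMap_id]; exact T.symm_apply_apply z),
      hom_ext hG _ _ (LinearMap.ext fun z => by
        rw [RefHullLib.stalkMap_comp, ha, hb, RefHullLib.stalkMap_id]; exact T.apply_symm_apply z)⟩⟩

end Groth.Agent.S16086
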