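import Groth.Statements.S4709
import Groth.Agent.NagataFG.LocalN1
import Groth.Agent.S2657

set_option autoImplicit false
universe u
open EGA4

namespace Groth.Agent.S4709

/-- Let A be a Noetherian ring such that (i) for every maximal ideal m the formal fibres of A_m are
geometrically reduced, and (ii) the regular locus of every A-algebra of finite type is open (A is
J-2). Then A is universally Japanese. -/
theorem result (A : Type u) [CommRing A] [IsNoetherianRing A]
    (h1 : ∀ (m : Ideal A) [m.IsMaximal], EGA4.HasGeomReducedFormalFibres (Localization.AtPrime m))
    (h2 : EGA4.IsJ2 A) : CAlg.IsUniversallyJapanese A := by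
  refine NagataFG.isUniversallyJapanese_of_forall_isN1 A fun T _ _ _ hT => ?_
  have := Algebra.FiniteType.isNoetherianRing A T
  exact NagataFG.isN1_of_local_nagata (fun m _ => Groth.Agent.S2657.result _ (h1 m))
    (NagataFG.exists_normal_away_of_regLocus_open (h2 T hT))

end Groth.Agent.S4709
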