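import Groth.Statements.S9688
import Groth.Agent.LocFFLib.Norm

-- import your own Groth.Agent.* helpers here

set_option autoImplicit false
universe u
open CategoryTheory CategoryTheory.Limits AlgebraicGeometry
open Mor

namespace Groth.Agent.S9688



/-- Let X be an integral Japanese scheme (every nonempty affine open has Japanese, i.e. N-2, coordinate
ring). Then the normalization morphism X^ν ⟶ X is finite. (The quasi-compactness and
quasi-separatedness binders on Spec K(X) ⟶ X always hold; they are only needed to form the
normalization.) -/
theorem result (X : Scheme.{u}) [IsIntegral X] [QuasiCompact (X.fromSpecStalk (genericPoint ↥X))] [QuasiSeparated (X.fromSpecStalk (genericPoint ↥X))]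
    (hJ : ∀ (U : X.Opens), IsAffineOpen U → ∀ (hne : Nonempty ↥U),
      @CAlg.IsN2 ↑Γ(X, U) _ (@IsIntegral.component_integral X _ U hne)) :
    IsFinite (Curv2.normalizationι X) := by
  haveI : IsIntegralHom (Curv2.normalizationι X) := inferInstance
  refine (isFinite_iff _).2 ⟨inferInstance, fun U hU => ?_⟩
  by_cases hne : Nonempty U
  · obtain ⟨ψ, hψ, hψa, -, hint⟩ := NormDimOneLib.exists_chart X ⟨U, hU⟩
    haveI : IsFractionRing Γ(X, U) X.functionField := functionField_isFractionRing_of_isAffineOpen X _ hU
    haveI := @IsIntegral.component_integral X _ U hne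
    letI : Algebra Γ(X, U) X.functionField := (X.germToFunctionField U).hom.toAlgebra
    let e := FractionRing.algEquiv Γ(X, U) X.functionField
    letI : Algebra (FractionRing Γ(X, U)) X.functionField := e.toRingEquiv.toRingHom.toAlgebra
    haveI : IsScalarTower Γ(X, U) (FractionRing Γ(X, U)) X.functionField :=
      IsScalarTower.of_algebraMap_eq fun r => (e.commutes r).symm
    haveI : FiniteDimensional (FractionRing Γ(X, U)) X.functionField :=
      Module.Finite.of_surjective (Algebra.linearMap (FractionRing Γ(X, U)) X.functionField) e.surjective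
    haveI : Module.Finite Γ(X, U) (integralClosure Γ(X, U) X.functionField) :=
      hJ U hU hne X.functionField inferInstance
    letI := ((Curv2.normalizationι X).app U).hom.toAlgebra
    letI := ψ.toAlgebra
    haveI : IsScalarTower Γ(X, U) Γ(Curv2.normalization X, Curv2.normalizationι X ⁻¹ᵁ U) X.functionField :=
      IsScalarTower.of_algebraMap_eq fun a => (hψa a).symm
    let φ := (IsScalarTower.toAlgHom Γ(X, U) Γ(Curv2.normalization X, Curv2.normalizationι X ⁻¹ᵁ U)
      X.functionField).codRestrict (integralClosure Γ(X, U) X.functionField) fun b =>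
        (show _root_.IsIntegral Γ(X, U) b from (Curv2.normalizationι X).isIntegral_app U hU b).algebraMap
    exact Module.Finite.equiv (LinearEquiv.ofBijective φ.toLinearMap
      ⟨fun a b h => hψ (congrArg Subtype.val h), fun z => by
        obtain ⟨b, hb⟩ := hint z.1 z.2
        exact ⟨b, Subtype.ext hb⟩⟩).symm
  · have : IsEmpty (Curv2.normalizationι X ⁻¹ᵁ U : (Curv2.normalization X).Opens) :=
      ⟨fun q => hne ⟨⟨_, q.2⟩⟩⟩
    haveI : Subsingleton Γ(Curv2.normalization X, Curv2.normalizationι X ⁻¹ᵁ U) := by
      constructor
      intro a b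
      exact TopCat.Sheaf.eq_of_locally_eq' (Curv2.normalization X).sheaf (fun i : Empty => i.elim) _
        (fun i => i.elim) (fun q hq => (this.false ⟨q, hq⟩).elim) a b fun i => i.elim
    exact RingHom.Finite.of_surjective _ fun b => ⟨0, Subsingleton.elim _ _⟩


end Groth.Agent.S9688
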