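import Groth.Statements.S9802
import Groth.Agent.NagataFG.Closure
import Groth.Agent.NagataFG.Japanese
import Groth.Agent.S9833

set_option autoImplicit false
universe u
open CategoryTheory AlgebraicGeometry TopologicalSpace
open Props

namespace Groth.Agent.S9802

/-- A locally Noetherian scheme is Nagata (every affine open has a Nagata coordinate ring) if and only
if every integral closed subscheme is Japanese (every nonempty affine open of it has an N-2
coordinate ring). -/
theorem result (X : Scheme.{u})
    [IsLocallyNoetherian X] :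
    (∀ U : X.Opens, IsAffineOpen U → CAlg.IsNagata Γ(X, U)) ↔
      ∀ (Z : Scheme.{u}) (i : Z ⟶ X) [IsClosedImmersion i] [IsIntegral Z]
        (V : Z.Opens) [Nonempty V], IsAffineOpen V → CAlg.IsN2 Γ(Z, V) := by
  constructor
  · intro hX Z i _ _ V _ hV
    let U : X.affineOpens → Z.Opens := fun W => i ⁻¹ᵁ W.1
    have hcov : iSup U = ⊤ := by
      rw [← Scheme.Hom.preimage_iSup, iSup_affineOpens_eq_top X]; rfl
    have hN : ∀ W : X.affineOpens, CAlg.IsNagata Γ(Z, U W) := fun W =>
      NagataFG.isNagata_of_surjective (i.app W.1).hom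
        (i.app_surjective W.1 W.2) (hX W.1 W.2)
    have := Groth.Agent.S9833.result Z U hcov (fun W => W.2.preimage i) hN V hV
    exact NormalLib.isN2_of_ringEquiv (RingEquiv.quotientBot _) (this.2 ⊥)
  · intro h U hU
    refine ⟨IsLocallyNoetherian.component_noetherian (⟨U, hU⟩ : X.affineOpens), fun p hp => ?_⟩
    let W : X.affineOpens := ⟨U, hU⟩
    let x : X := hU.fromSpec ⟨p, hp⟩
    have hx : x ∈ U := hU.range_fromSpec.le ⟨_, rfl⟩
    have hpx : (hU.primeIdealOf ⟨x, hx⟩).asIdeal = p :=
      congrArg PrimeSpectrum.asIdeal (hU.fromSpec.isOpenEmbedding.injective (hU.fromSpec_primeIdealOf ⟨x, hx⟩))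
    let I := NagataFG.closureIdeal x
    have := NagataFG.isIntegral_closure x
    let V : I.subscheme.Opens := I.subschemeι ⁻¹ᵁ U
    have : Nonempty V := by
      obtain ⟨z, hz⟩ := NagataFG.mem_range x
      exact ⟨⟨z, by show I.subschemeι z ∈ U; rw [hz]; exact hx⟩⟩
    have hN2 : CAlg.IsN2 Γ(I.subscheme, V) := h I.subscheme I.subschemeι V (hU.preimage I.subschemeι)
    have hid : I.ideal W = p := (NagataFG.closureIdeal_ideal x W hx).trans hpx
    exact NormalLib.isN2_of_ringEquiv
      ((I.subschemeObjIso W).commRingCatIsoToRingEquiv.trans (Ideal.quotEquivOfEq hid)) hN2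

end Groth.Agent.S9802
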