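import Groth.Statements.S14810
import Mathlib
import Groth.Agent.SurfNumLib.Curve
import Groth.Agent.IntFunLib.NefApps
-- import your own Groth.Agent.* helpers here

set_option autoImplicit false
universe u
open CategoryTheory CategoryTheory.Limits AlgebraicGeometry
open Pic13

namespace Groth.Agent.S14810

/-- Let X be an integral scheme, proper over a field k, such that Γ(X, O_X) is a field, and let L be an
invertible O_X-module which is numerically trivial: its restriction to every closed subscheme of X
which is integral of dimension one has degree 0. If L has a nonzero global section (a nonzero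
morphism O_X → L), then L is isomorphic to O_X. -/
theorem result (k : Type u) [Field k] (X : Scheme.{u})
    [X.Over (Spec (CommRingCat.of k))] [IsProper (X ↘ Spec (CommRingCat.of k))] [IsIntegral X]
    (hfield : IsField (Γ(X, ⊤) : Type u)) (L : X.Modules) (hL : PicF.IsInvertible L)
    (hnum : Pic13.IsNumEquivZero k X L) (s : Coh.structureModule X ⟶ L) (hs : s ≠ 0) :
    Nonempty (L ≅ Coh.structureModule X) := by
  haveI : Mono s := CurvLib.mono_of_ne_zero CurvLib.isInvertible_structureModule hL hs
  rcases (CohB1.support (cokernel s)).eq_empty_or_nonempty with he | hne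
  · haveI : Epi s := Abelian.epi_of_cokernel_π_eq_zero s ((DevissLib.isZero_of_support_empty he).eq_of_tgt _ _)
    haveI : IsIso s := isIso_of_mono_of_epi s
    exact ⟨(asIso s).symm⟩
  · exfalso
    obtain ⟨y, hy, hpos⟩ := SurfNumLib.exists_curve_pos (k := k) hL hs hne
    rw [IntFunLib.N_singleton, IntFunLib.cd_eq_zero_of_numZero hL hnum (IntMultLib.isIntegral_ptIdeal y)
      (by rw [IntFunLib.dim_ptIdeal, hy]; simp)] at hpos
    exact lt_irrefl _ hpos

end Groth.Agent.S14810
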