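import Groth.Statements.S1767
import Groth.Agent.QRlimLib.Trunc

set_option autoImplicit false
universe u
open CategoryTheory CategoryTheory.Limits AlgebraicGeometry
attribute [local instance] HasDerivedCategory.standard
open Dual

namespace Groth.Agent.S1767

/-- Let f : X → Y be a morphism between quasi-compact quasi-separated schemes. Assume the derived direct
image Rf_* exists and preserves quasi-coherence of cohomology sheaves (both known results), so that
it restricts to a functor D_QCoh(O_X) → D_QCoh(O_Y), and let a : D_QCoh(O_Y) → D_QCoh(O_X) be a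
right adjoint of this restricted functor. Then there is an integer N ≥ 0 such that for every K in
D_QCoh(O_Y) and every integer c, if H^i(K) = 0 for all i ≤ c then H^i(a(K)) = 0 for all i ≤ c − N;
in particular a sends bounded-below objects to bounded-below objects. -/
theorem result (X Y : Scheme.{u}) [CompactSpace X] [QuasiSeparatedSpace X] [CompactSpace Y] [QuasiSeparatedSpace Y] (f : X ⟶ Y) [DCoh.HasRpush f] (h : ∀ K : DCoh.D X, DCoh.IsQCohD K → DCoh.IsQCohD ((DCoh.Rpush f).obj K)) (a : DCoh.DQCoh Y ⥤ DCoh.DQCoh X) (adj : (ObjectProperty.lift DCoh.IsQCohD (ObjectProperty.ι DCoh.IsQCohD ⋙ DCoh.Rpush f) (fun K => h K.obj K.property)) ⊣ a) : ∃ N : ℕ, ∀ (K : DCoh.DQCoh Y) (c : ℤ), (∀ i : ℤ, i ≤ c → IsZero (DCoh.HD K.obj i)) → ∀ i : ℤ, i ≤ c - N → IsZero (DCoh.HD (a.obj K).obj i) := by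
  obtain ⟨N, hN⟩ := QRlimLib.exists_uniform_bound f
  refine ⟨N.toNat, fun K c hK i hi => ?_⟩
  haveI : K.obj.IsGE (c + 1) := by
    rw [DerivedCategory.isGE_iff]
    exact fun j hj => hK j (by omega)
  let A := a.obj K
  let b : ℤ := c - (N.toNat : ℤ)
  let L : DCoh.DQCoh X := ⟨(DerivedCategory.TStructure.t.truncLE b).obj A.obj,
    QRlimLib.isQCohD_truncLE A.property b⟩
  let ι : L ⟶ A := ObjectProperty.homMk ((DerivedCategory.TStructure.t.truncLEι b).app A.obj)
  haveI : ((DCoh.Rpush f).obj L.obj).IsLE c := by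
    rw [DerivedCategory.isLE_iff]
    exact fun j hj => hN L.obj L.property b inferInstance j (by omega)
  have hι : ι = 0 := by
    apply (adj.homEquiv L K).symm.injective
    apply ObjectProperty.hom_ext
    have hz : ∀ φ : (DCoh.Rpush f).obj L.obj ⟶ K.obj, φ = 0 := fun φ =>
      DerivedCategory.TStructure.t.zero φ c (c + 1) (by omega)
    exact (hz _).trans (hz _).symm
  have hiso := Groth.Agent.DerLib.Devissage.isIso_homology_truncLEι A.obj b i (by omega)
  rw [IsZero.iff_id_eq_zero]
  rw [← cancel_epi ((DerivedCategory.homologyFunctor X.Modules i).map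
    ((DerivedCategory.TStructure.t.truncLEι b).app A.obj))]
  have h0 : (DerivedCategory.TStructure.t.truncLEι b).app A.obj = 0 :=
    congrArg (fun φ : L ⟶ A => φ.hom) hι
  simp [h0]

end Groth.Agent.S1767
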