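import Groth.Statements.S0535
import Groth.Agent.HenselLib.Local

set_option autoImplicit false
universe u
open Hensel

namespace Groth.Agent.S0535

/-- If `R` is Henselian at `I` and two finitely generated projective `R`-modules become isomorphic after
base change to `R/I`, then they are isomorphic. -/
theorem result (R : Type u) [CommRing R] (I : Ideal R)
    [HenselianRing R I] (P₁ P₂ : Type u) [AddCommGroup P₁] [Module R P₁] [AddCommGroup P₂]
    [Module R P₂] [Module.Finite R P₁] [Module.Projective R P₁] [Module.Finite R P₂]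
    [Module.Projective R P₂]
    (e : TensorProduct R (R ⧸ I) P₁ ≃ₗ[R ⧸ I] TensorProduct R (R ⧸ I) P₂) :
    Nonempty (P₁ ≃ₗ[R] P₂) := by
  have hI : I ≤ Ideal.jacobson ⊥ := HenselianRing.jac
  let π₁ : P₁ →ₗ[R] TensorProduct R (R ⧸ I) P₁ := TensorProduct.mk R (R ⧸ I) P₁ 1
  let π₂ : P₂ →ₗ[R] TensorProduct R (R ⧸ I) P₂ := TensorProduct.mk R (R ⧸ I) P₂ 1
  have hπ₂ : Function.Surjective π₂ := TensorProduct.mk_surjective R P₂ (R ⧸ I) Ideal.Quotient.mk_surjective
  obtain ⟨φ, hφ⟩ := Module.projective_lifting_property π₂ (e.toLinearMap.restrictScalars R ∘ₗ π₁) hπ₂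
  have hπ₁ : Function.Surjective π₁ := TensorProduct.mk_surjective R P₁ (R ⧸ I) Ideal.Quotient.mk_surjective
  obtain ⟨ψ, hψ⟩ := Module.projective_lifting_property π₁ (e.symm.toLinearMap.restrictScalars R ∘ₗ π₂) hπ₁
  have hker : ∀ {P : Type u} [AddCommGroup P] [Module R P] (x : P),
      TensorProduct.mk R (R ⧸ I) P 1 x = 0 → x ∈ I • (⊤ : Submodule R P) := fun {P} _ _ x hx => by
    have h1 := congrArg (TensorProduct.quotTensorEquivQuotSMul P I) hx
    rw [map_zero, TensorProduct.mk_apply, ← map_one (Ideal.Quotient.mk I),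
      TensorProduct.quotTensorEquivQuotSMul_mk_tmul, one_smul] at h1
    exact (Submodule.Quotient.mk_eq_zero _).1 h1
  have surj : ∀ {P : Type u} [AddCommGroup P] [Module R P] [Module.Finite R P] (f : P →ₗ[R] P),
      (∀ x, TensorProduct.mk R (R ⧸ I) P 1 (f x) = TensorProduct.mk R (R ⧸ I) P 1 x) → Function.Bijective f :=
    fun {P} _ _ _ f hf => by
      refine OrzechProperty.bijective_of_surjective_endomorphism f (LinearMap.range_eq_top.1 (top_le_iff.1 ?_))
      refine Submodule.le_of_le_smul_of_le_jacobson_bot Module.Finite.fg_top hI fun x _ => ?_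
      rw [← add_sub_cancel (f x) x]
      exact add_mem (Submodule.mem_sup_left ⟨x, rfl⟩) (Submodule.mem_sup_right (hker _ (by rw [map_sub, hf, sub_self])))
  have hφψ : Function.Bijective (φ ∘ₗ ψ) := surj _ fun x => by
    have h1 : π₂ (φ (ψ x)) = e (π₁ (ψ x)) := LinearMap.congr_fun hφ (ψ x)
    have h2 : π₁ (ψ x) = e.symm (π₂ x) := LinearMap.congr_fun hψ x
    rw [h2, LinearEquiv.apply_symm_apply] at h1
    exact h1
  have hψφ : Function.Bijective (ψ ∘ₗ φ) := surj _ fun x => by
    have h1 : π₁ (ψ (φ x)) = e.symm (π₂ (φ x)) := LinearMap.congr_fun hψ (φ x)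
    have h2 : π₂ (φ x) = e (π₁ x) := LinearMap.congr_fun hφ x
    rw [h2, LinearEquiv.symm_apply_apply] at h1
    exact h1
  exact ⟨LinearEquiv.ofBijective φ ⟨fun a b h => hψφ.1 (congrArg ψ h), fun y => let ⟨x, hx⟩ := hφψ.2 y; ⟨ψ x, hx⟩⟩⟩

end Groth.Agent.S0535
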