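import Groth.Statements.S15383
import Mathlib.AlgebraicGeometry.Morphisms.Finite
import Mathlib.AlgebraicGeometry.Morphisms.Flat
import Mathlib.RingTheory.Spectrum.Prime.FreeLocus
import Mathlib.RingTheory.IsTensorProduct

set_option autoImplicit false
universe u
open GmDual

namespace Groth.Agent.S15383

section
open CategoryTheory CategoryTheory.Limits AlgebraicGeometry Opposite

theorem gmFn_inj {S : Scheme.{u}} {T : Over S} {a b : T ⟶ Red.Gm S} (h : Red.gmFn a = Red.gmFn b) : a = b := by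
  refine Over.OverMorphism.ext (pullback.hom_ext ?_ ((Over.w a).trans (Over.w b).symm))
  haveI : IsAffine (Red.diag (ULift.{u} ℤ) ℤ).left :=
    inferInstanceAs (IsAffine (Spec (CommRingCat.of (MonoidAlgebra (ULift.{u} ℤ) (Multiplicative ℤ)))))
  refine ext_of_isAffine ?_
  have key : ∀ (Z : Type u) [CommRing Z] (x y : MonoidAlgebra (ULift.{u} ℤ) (Multiplicative ℤ) →+* Z),
      x (MonoidAlgebra.single (Multiplicative.ofAdd (1 : ℤ)) 1) = y (MonoidAlgebra.single (Multiplicative.ofAdd (1 : ℤ)) 1) →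
        x = y := by
    intro Z _ x y hxy
    refine MonoidAlgebra.ringHom_ext' ?_ ?_
    · refine RingHom.ext fun r => ?_
      rw [show r = ((r.down : ℤ) : ULift.{u} ℤ) from ULift.ext _ _ (by simp), map_intCast, map_intCast]
    · exact MonoidHom.ext_mint hxy
  let e := Scheme.ΓSpecIso (CommRingCat.of (MonoidAlgebra (ULift.{u} ℤ) (Multiplicative ℤ)))
  refine (cancel_epi (f := e.inv)).1 ?_
  exact CommRingCat.hom_ext (key _ _ _ h)

variable {X X' : Scheme.{u}} (f : X' ⟶ X)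

theorem comp_normPt (N : CGrpSh3.pushGm Scheme.fppfPrecoverage f ⟶ CGrpSh2.Gm Scheme.fppfPrecoverage X)
    {T T' : Over X} (g : T' ⟶ T) (t : (Over.pullback f).obj T ⟶ Red.Gm X') :
    g ≫ CGrpSh3.normPt Scheme.fppfPrecoverage f N T t =
      CGrpSh3.normPt Scheme.fppfPrecoverage f N T' ((Over.pullback f).map g ≫ t) :=
  (congrArg (fun z => z.down.toMul)
    (congr($(N.hom.naturality g.op) (ULift.up (Additive.ofMul t))))).symm

/-- Near every point of an affine open there is a smaller one over which the pushforward is free. -/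
theorem exists_free_chart [IsFinite f] [Flat f] [IsLocallyNoetherian X] {T : Over X} (x : T.left) :
    ∃ V : T.left.Opens, x ∈ V ∧ IsAffineOpen V ∧
      (letI : Algebra Γ((Over.mk (V.ι ≫ T.hom)).left, ⊤) Γ(((Over.pullback f).obj (Over.mk (V.ι ≫ T.hom))).left, ⊤) :=
          (pullback.fst (Over.mk (V.ι ≫ T.hom)).hom f).appTop.hom.toAlgebra;
        Module.Finite Γ((Over.mk (V.ι ≫ T.hom)).left, ⊤) Γ(((Over.pullback f).obj (Over.mk (V.ι ≫ T.hom))).left, ⊤) ∧
        Module.Free Γ((Over.mk (V.ι ≫ T.hom)).left, ⊤) Γ(((Over.pullback f).obj (Over.mk (V.ι ≫ T.hom))).left, ⊤)) := by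
  obtain ⟨U, hU, hxU, -⟩ := exists_isAffineOpen_mem_and_subset (x := T.hom.base x) (U := ⊤) trivial
  haveI : IsAffine (U : Scheme.{u}) := hU
  haveI : IsAffine (f ⁻¹ᵁ U : Scheme.{u}) := hU.preimage f
  haveI : IsNoetherianRing Γ((U : Scheme.{u}), ⊤) :=
    IsLocallyNoetherian.component_noetherian ⟨⊤, isAffineOpen_top _⟩
  letI alg₀ := (f ∣_ U).appTop.hom.toAlgebra
  haveI : IsFinite (f ∣_ U) := MorphismProperty.of_isPullback (P := @IsFinite) (isPullback_morphismRestrict f U).flip ‹IsFinite f›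
  haveI : Flat (f ∣_ U) := MorphismProperty.of_isPullback (P := @Flat) (isPullback_morphismRestrict f U).flip ‹Flat f›
  haveI : Module.Finite Γ((U : Scheme.{u}), ⊤) Γ((f ⁻¹ᵁ U : Scheme.{u}), ⊤) := (f ∣_ U).finite_appTop
  haveI : Module.Flat Γ((U : Scheme.{u}), ⊤) Γ((f ⁻¹ᵁ U : Scheme.{u}), ⊤) :=
    (HasRingHomProperty.iff_of_isAffine (P := @Flat) (f := f ∣_ U)).1 ‹_›
  haveI : Module.FinitePresentation Γ((U : Scheme.{u}), ⊤) Γ((f ⁻¹ᵁ U : Scheme.{u}), ⊤) :=
    Module.finitePresentation_of_finite _ _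
  let p : PrimeSpectrum Γ((U : Scheme.{u}), ⊤) := (U : Scheme.{u}).isoSpec.hom.base ⟨T.hom.base x, hxU⟩
  have hp : p ∈ Module.freeLocus Γ((U : Scheme.{u}), ⊤) Γ((f ⁻¹ᵁ U : Scheme.{u}), ⊤) := by
    rw [Module.freeLocus_eq_univ]
    trivial
  haveI : Module.Free _ _ := hp
  obtain ⟨a, ha, hfree, -⟩ := Module.FinitePresentation.exists_free_localizedModule_powers
    p.asIdeal.primeCompl (LocalizedModule.mkLinearMap p.asIdeal.primeCompl Γ((f ⁻¹ᵁ U : Scheme.{u}), ⊤))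
    (Localization.AtPrime p.asIdeal)
  have hDa : T.hom.base x ∈ U.ι ''ᵁ (U : Scheme.{u}).basicOpen a := by
    refine ⟨⟨T.hom.base x, hxU⟩, ?_, rfl⟩
    rw [← (U : Scheme.{u}).toSpecΓ_preimage_basicOpen a]
    exact ha
  obtain ⟨V, hV, hxV, hVle⟩ := exists_isAffineOpen_mem_and_subset (x := x) (U := T.hom ⁻¹ᵁ (U.ι ''ᵁ (U : Scheme.{u}).basicOpen a)) hDa
  haveI : IsAffine (V : Scheme.{u}) := hV
  haveI : IsAffine (Over.mk (V.ι ≫ T.hom)).left := hV
  have hVU : V ≤ T.hom ⁻¹ᵁ U := fun z hz => by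
    obtain ⟨w, -, hw⟩ := hVle hz
    rw [Scheme.Hom.mem_preimage, ← hw]
    exact w.2
  refine ⟨V, hxV, hV, ?_⟩
  letI alg₁ : Algebra Γ((Over.mk (V.ι ≫ T.hom)).left, ⊤) Γ(((Over.pullback f).obj (Over.mk (V.ι ≫ T.hom))).left, ⊤) :=
    (pullback.fst (Over.mk (V.ι ≫ T.hom)).hom f).appTop.hom.toAlgebra
  let u : (V : Scheme.{u}) ⟶ U := T.hom.resLE U V hVU
  have hu : u ≫ U.ι = (Over.mk (V.ι ≫ T.hom)).hom := T.hom.resLE_comp_ι hVU
  let q := (isPullback_morphismRestrict f U).flip.lift (pullback.snd (Over.mk (V.ι ≫ T.hom)).hom f)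
    (pullback.fst (Over.mk (V.ι ≫ T.hom)).hom f ≫ u) (by rw [Category.assoc, hu, pullback.condition])
  have hsq : IsPullback (pullback.fst (Over.mk (V.ι ≫ T.hom)).hom f) q u (f ∣_ U) := by
    refine IsPullback.flip (IsPullback.of_right ?_ (IsPullback.lift_snd _ _ _ _) (isPullback_morphismRestrict f U).flip)
    rw [show q ≫ (f ⁻¹ᵁ U).ι = pullback.snd (Over.mk (V.ι ≫ T.hom)).hom f from IsPullback.lift_fst _ _ _ _, hu]
    exact (IsPullback.of_hasPullback _ _).flip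
  have hpo := isPushout_appTop_of_isPullback hsq
  letI : Algebra Γ((U : Scheme.{u}), ⊤) Γ((Over.mk (V.ι ≫ T.hom)).left, ⊤) := u.appTop.hom.toAlgebra
  letI : Algebra Γ((f ⁻¹ᵁ U : Scheme.{u}), ⊤) Γ(((Over.pullback f).obj (Over.mk (V.ι ≫ T.hom))).left, ⊤) := q.appTop.hom.toAlgebra
  letI : Algebra Γ((U : Scheme.{u}), ⊤) Γ(((Over.pullback f).obj (Over.mk (V.ι ≫ T.hom))).left, ⊤) :=
    ((pullback.fst (Over.mk (V.ι ≫ T.hom)).hom f).appTop.hom.comp u.appTop.hom).toAlgebra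
  haveI : IsScalarTower Γ((U : Scheme.{u}), ⊤) Γ((Over.mk (V.ι ≫ T.hom)).left, ⊤)
      Γ(((Over.pullback f).obj (Over.mk (V.ι ≫ T.hom))).left, ⊤) := IsScalarTower.of_algebraMap_eq' rfl
  haveI : IsScalarTower Γ((U : Scheme.{u}), ⊤) Γ((f ⁻¹ᵁ U : Scheme.{u}), ⊤)
      Γ(((Over.pullback f).obj (Over.mk (V.ι ≫ T.hom))).left, ⊤) := IsScalarTower.of_algebraMap_eq' (by
    change (pullback.fst (Over.mk (V.ι ≫ T.hom)).hom f).appTop.hom.comp u.appTop.hom = q.appTop.hom.comp (f ∣_ U).appTop.hom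
    rw [← CommRingCat.hom_comp, ← CommRingCat.hom_comp, ← Scheme.Hom.comp_appTop, ← Scheme.Hom.comp_appTop, hsq.w])
  haveI : Algebra.IsPushout Γ((U : Scheme.{u}), ⊤) Γ((Over.mk (V.ι ≫ T.hom)).left, ⊤) Γ((f ⁻¹ᵁ U : Scheme.{u}), ⊤)
      Γ(((Over.pullback f).obj (Over.mk (V.ι ≫ T.hom))).left, ⊤) := CommRingCat.isPushout_iff_isPushout.1 hpo
  let e := (Algebra.IsPushout.equiv Γ((U : Scheme.{u}), ⊤) Γ((Over.mk (V.ι ≫ T.hom)).left, ⊤) Γ((f ⁻¹ᵁ U : Scheme.{u}), ⊤)
      Γ(((Over.pullback f).obj (Over.mk (V.ι ≫ T.hom))).left, ⊤)).toLinearEquiv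
  have hunit : IsUnit (algebraMap Γ((U : Scheme.{u}), ⊤) Γ((Over.mk (V.ι ≫ T.hom)).left, ⊤) a) := by
    change IsUnit (u.appTop a)
    have h1 : u ⁻¹ᵁ (U : Scheme.{u}).basicOpen a = ⊤ := by
      rw [eq_top_iff]
      intro z _
      obtain ⟨w, hw, hw'⟩ := hVle z.2
      have h2 : U.ι.base w = U.ι.base (u.base z) := hw'.trans congr($(hu.symm).base z)
      rw [Scheme.Hom.mem_preimage, ← U.ι.isOpenEmbedding.injective h2]
      exact hw
    rw [Scheme.preimage_basicOpen_top] at h1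
    exact RingedSpace.isUnit_of_isUnit_germ _ ⊤ _ fun z hz =>
      (Scheme.mem_basicOpen _ _ z hz).1 (by rw [h1]; trivial)
  letI := (IsLocalization.Away.lift a hunit : Localization.Away a →+* Γ((Over.mk (V.ι ≫ T.hom)).left, ⊤)).toAlgebra
  haveI : IsScalarTower Γ((U : Scheme.{u}), ⊤) (Localization.Away a) Γ((Over.mk (V.ι ≫ T.hom)).left, ⊤) :=
    IsScalarTower.of_algebraMap_eq fun z => (IsLocalization.Away.lift_eq a hunit z).symm
  haveI : Module.Free (Localization.Away a) (TensorProduct Γ((U : Scheme.{u}), ⊤) (Localization.Away a) Γ((f ⁻¹ᵁ U : Scheme.{u}), ⊤)) :=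
    Module.Free.of_equiv (LocalizedModule.equivTensorProduct (Submonoid.powers a) Γ((f ⁻¹ᵁ U : Scheme.{u}), ⊤))
  let e' := (TensorProduct.AlgebraTensorModule.cancelBaseChange Γ((U : Scheme.{u}), ⊤) (Localization.Away a)
    Γ((Over.mk (V.ι ≫ T.hom)).left, ⊤) Γ((Over.mk (V.ι ≫ T.hom)).left, ⊤) Γ((f ⁻¹ᵁ U : Scheme.{u}), ⊤)).trans e
  exact ⟨Module.Finite.equiv e, Module.Free.of_equiv e'⟩

end

open CategoryTheory AlgebraicGeometry in
/-- Let f : X' ⟶ X be a finite flat morphism of Noetherian schemes (so finite locally free). A morphism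
of abelian sheaves N : f_* 𝔾_{m,X'} ⟶ 𝔾_{m,X} on the big fppf site of X is called a norm map of f
when, on every affine test scheme T over X for which the functions of T ×_X X' form a finite free
algebra over those of T, it sends an invertible function on T ×_X X' to the determinant of
multiplication by it. Two norm maps of f are equal: a norm map is determined by its affine-local
description by determinants. -/
theorem result (X X' : Scheme.{u}) (f : X' ⟶ X) [IsFinite f] [Flat f]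
    [AlgebraicGeometry.IsNoetherian X]
    (N N' : CGrpSh3.pushGm Scheme.fppfPrecoverage f ⟶ CGrpSh2.Gm Scheme.fppfPrecoverage X)
    (hN : CGrpSh3.IsNormMap Scheme.fppfPrecoverage f N) (hN' : CGrpSh3.IsNormMap Scheme.fppfPrecoverage f N') :
    N = N' := by
  refine Sheaf.hom_ext (NatTrans.ext (funext fun T => AddCommGrpCat.ext fun s => ?_))
  obtain ⟨T⟩ := T
  obtain ⟨t⟩ := s
  refine ULift.ext _ _ ?_
  change Additive.ofMul (CGrpSh3.normPt Scheme.fppfPrecoverage f N T t.toMul) =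
    Additive.ofMul (CGrpSh3.normPt Scheme.fppfPrecoverage f N' T t.toMul)
  refine congrArg Additive.ofMul (Over.OverMorphism.ext ?_)
  choose V hxV hV hfr using fun x => exists_free_chart f (T := T) x
  refine Scheme.Cover.hom_ext (T.left.openCoverOfIsOpenCover V
    (eq_top_iff.2 fun x _ => TopologicalSpace.Opens.mem_iSup.2 ⟨x, hxV x⟩)) _ _ fun x => ?_
  let g : Over.mk ((V x).ι ≫ T.hom) ⟶ T := Over.homMk (V x).ι rfl
  suffices g ≫ CGrpSh3.normPt Scheme.fppfPrecoverage f N T t.toMul = g ≫ CGrpSh3.normPt Scheme.fppfPrecoverage f N' T t.toMul from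
    congrArg CommaMorphism.left this
  rw [comp_normPt, comp_normPt]
  refine gmFn_inj ?_
  letI : Algebra Γ((Over.mk ((V x).ι ≫ T.hom)).left, ⊤) Γ(((Over.pullback f).obj (Over.mk ((V x).ι ≫ T.hom))).left, ⊤) :=
    (Limits.pullback.fst (Over.mk ((V x).ι ≫ T.hom)).hom f).appTop.hom.toAlgebra
  haveI := (hfr x).1
  haveI := (hfr x).2
  haveI : IsAffine (Over.mk ((V x).ι ≫ T.hom)).left := hV x
  rw [hN _ (fun _ => rfl), hN' _ (fun _ => rfl)]

end Groth.Agent.S15383
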