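import Groth.Statements.S13964
import Groth.Agent.GmExtLib.FieldLift
import Groth.Agent.BigCohLib.Vanish
-- import your own Groth.Agent.* helpers here

set_option autoImplicit false
universe u
open TateLoc

namespace Groth.Agent.S13964
open CategoryTheory.Limits
open CategoryTheory CategoryTheory.Limits CategoryTheory.Abelian AlgebraicGeometry Opposite in
/-- `H¹` of a direct image vanishes when sections of quotients lift over the source base. -/
theorem subsingleton_H_one_push {S T : Scheme.{u}} (f : T ⟶ S) (F : BigSite.Ab Scheme.fppfPrecoverage T)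
    (hlift : ∀ (P Q : BigSite.Ab Scheme.fppfPrecoverage T) (i : F ⟶ P) (g : P ⟶ Q) (w : i ≫ g = 0),
      (ShortComplex.mk i g w).ShortExact → ∀ σ : Q.obj.obj (op (Over.mk (𝟙 T))),
        ∃ t : P.obj.obj (op (Over.mk (𝟙 T))), g.hom.app _ t = σ) :
    Subsingleton (BigSite.H Scheme.fppfPrecoverage S
      ((BigSite.pushBig Scheme.fppfPrecoverage f AddCommGrpCat.{u+1}).obj F) 1) := by
  let R := BigSite.pushBig Scheme.fppfPrecoverage f AddCommGrpCat.{u+1}
  let L := BigSite.pullBig Scheme.fppfPrecoverage f AddCommGrpCat.{u+1}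
  let adj : L ⊣ R := BigSite.bigAdj Scheme.fppfPrecoverage f AddCommGrpCat.{u+1}
  haveI : R.IsRightAdjoint := adj.isRightAdjoint
  haveI : L.IsRightAdjoint := (BigSite.shriekAbAdj Scheme.fppfPrecoverage f).isRightAdjoint
  haveI : L.PreservesMonomorphisms := Functor.preservesMonomorphisms_of_isRightAdjoint L
  haveI : R.PreservesMonomorphisms := Functor.preservesMonomorphisms_of_isRightAdjoint R
  let D := ShortComplex.mk (Injective.ι F) (cokernel.π _) (cokernel.condition _)
  have hD : D.ShortExact := { exact := ShortComplex.exact_cokernel _ }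
  haveI : Injective (R.obj D.X₂) := Injective.injective_of_adjoint adj D.X₂
  haveI : Mono (R.map D.f) := R.map_mono _
  let C := ShortComplex.mk (R.map D.f) (cokernel.π (R.map D.f)) (cokernel.condition _)
  have hC : C.ShortExact := { exact := ShortComplex.exact_cokernel _ }
  have wR : R.map D.f ≫ R.map D.g = 0 := by rw [← R.map_comp, D.zero, R.map_zero]
  haveI : PreservesLimitsOfSize.{0,0} R := adj.rightAdjoint_preservesLimits
  haveI : Mono (cokernel.desc (R.map D.f) (R.map D.g) wR) :=
    (ShortComplex.exact_iff_mono_cokernel_desc (ShortComplex.mk _ _ wR)).1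
      (hD.exact.map_of_mono_of_preservesKernel R hD.mono_f inferInstance)
  let j : C.X₃ ⟶ R.obj D.X₃ := cokernel.desc (R.map D.f) (R.map D.g) wR
  haveI : Mono j.hom := (sheafToPresheaf _ _).map_mono j
  have hjinj : ∀ U, Function.Injective (j.hom.app U) := fun U => (AddCommGrpCat.mono_iff_injective _).1 inferInstance
  let e : (Over.pullback f).obj (Over.mk (𝟙 S)) ≅ Over.mk (𝟙 T) :=
    ((Over.mkIdTerminal (X := S)).isTerminalObj (Over.pullback f) _).uniqueUpToIso Over.mkIdTerminal
  refine subsingleton_of_forall_eq 0 fun ξ => ?_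
  obtain ⟨h, rfl⟩ := Ext.covariant_sequence_exact₁ _ hC ξ (Ext.eq_zero_of_injective _) (by rfl : 0 + 1 = 1)
  obtain ⟨h, rfl⟩ := (Ext.mk₀_bijective _ _).2 h
  let σ := j.hom.app _ (BigCohLib.homEquivBase C.X₃ h)
  obtain ⟨t, ht⟩ := hlift D.X₂ D.X₃ D.f D.g D.zero hD (D.X₃.obj.map e.inv.op σ)
  let r : (R.obj D.X₂).obj.obj (op (Over.mk (𝟙 S))) := D.X₂.obj.map e.hom.op t
  have hr : C.g.hom.app (op (Over.mk (𝟙 S))) r = BigCohLib.homEquivBase C.X₃ h := hjinj _ (by
    refine Eq.trans (b := (R.map D.g).hom.app (op (Over.mk (𝟙 S))) r) ?_ ?_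
    · exact congrArg (fun k : R.obj D.X₂ ⟶ R.obj D.X₃ => k.hom.app (op (Over.mk (𝟙 S))) r)
        (cokernel.π_desc (R.map D.f) (R.map D.g) wR)
    · show D.g.hom.app (op ((Over.pullback f).obj (Over.mk (𝟙 S)))) (D.X₂.obj.map e.hom.op t) = σ
      rw [NatTrans.naturality_apply D.g.hom e.hom.op t, ht, ← ConcreteCategory.comp_apply, ← Functor.map_comp, ← op_comp,
        e.hom_inv_id, op_id]
      exact ConcreteCategory.congr_hom (D.X₃.obj.map_id _) σ)
  have : h = (BigCohLib.homEquivBase C.X₂).symm r ≫ C.g := (BigCohLib.homEquivBase C.X₃).injective (by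
    rw [BigCohLib.homEquivBase_comp, AddEquiv.apply_symm_apply]
    exact hr.symm)
  rw [this, ← Ext.mk₀_comp_mk₀, Ext.comp_assoc_of_second_deg_zero, ShortComplex.ShortExact.comp_extClass,
    Ext.comp_zero]


open CategoryTheory AlgebraicGeometry in
/-- Take fields k and k' with k' finite and separable over k. The Weil restriction of the multiplicative
group from k' to k, as an abelian sheaf on the big fppf site of Spec k, is the direct image of the
multiplicative group along Spec k' → Spec k; its first cohomology H^1(k, R_{k'/k}(𝔾_m)) vanishes.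
(The published statement is for the Weil restriction of any split k'-torus, a finite product of
copies of this case.) -/
theorem result (k k' : Type u) [Field k] [Field k'] [Algebra k k']
    [FiniteDimensional k k'] [Algebra.IsSeparable k k'] :
    Subsingleton (BigSite.H Scheme.fppfPrecoverage (Spec (CommRingCat.of k)) ((BigSite.pushBig Scheme.fppfPrecoverage (Spec.map (CommRingCat.ofHom (algebraMap k k'))) AddCommGrpCat.{u+1}).obj (CGrpSh2.Gm Scheme.fppfPrecoverage (Spec (CommRingCat.of k')))) 1) := by
  have hk := GmExtLib.pic_of_ufd (CommRingCat.of k')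
  exact subsingleton_H_one_push _ _ fun P Q i g w hC σ => by
    let T0 : Over (Spec (CommRingCat.of k')) := Over.mk (𝟙 _)
    obtain ⟨t, ht⟩ := GmExtLib.exists_lift_of_pic (T := T0) (fun M hM => hk M hM) hC σ
    exact ⟨t, ht⟩


end Groth.Agent.S13964
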