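import Groth.Statements.S4130
import Groth.Agent.UnipHopfLib.Component
import Groth.Agent.UnipHopfLib.Trivial
import Groth.Agent.DiagHopfLib.Torsion
import Groth.Agent.HopfFFLib.Injective

set_option autoImplicit false
universe u
open TensorProduct
open SGA3

namespace Groth.Agent.S4130

open UnipHopf WithConv

theorem isHopfIdeal_map {k : Type u} [Field k] {A B : Type u} [CommRing A] [HopfAlgebra k A] [CommRing B]
    [HopfAlgebra k B] (φ : B →ₐc[k] A) :
    (Ideal.map (φ : B →+* A) (RingHom.ker (Bialgebra.counitAlgHom k B))).IsHopfIdeal k := by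
  set J := Ideal.map (φ : B →+* A) (RingHom.ker (Bialgebra.counitAlgHom k B))
  have hq : ∀ b, Ideal.Quotient.mk J (φ b) = algebraMap k (A ⧸ J) (Coalgebra.counit (R := k) b) := fun b => by
    rw [← Ideal.Quotient.mk_algebraMap, Ideal.Quotient.eq]
    have : φ b - algebraMap k A (Coalgebra.counit (R := k) b) =
        φ (b - algebraMap k B (Coalgebra.counit (R := k) b)) := by rw [map_sub, AlgHomClass.commutes]
    rw [this]
    exact Ideal.mem_map_of_mem (φ : B →+* A) (RingHom.mem_ker.2 (by simp))
  have hε : J ≤ RingHom.ker (Bialgebra.counitAlgHom k A) := Ideal.map_le_iff_le_comap.2 fun b hb => by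
    rw [Ideal.mem_comap, RingHom.mem_ker]
    show Coalgebra.counit (R := k) (φ b) = 0
    rw [CoalgHomClass.counit_comp_apply]
    exact hb
  let M : A →ₐ[k] (A ⧸ J) ⊗[k] (A ⧸ J) :=
    (Algebra.TensorProduct.map (Ideal.Quotient.mkₐ k J) (Ideal.Quotient.mkₐ k J)).comp (Bialgebra.comulAlgHom k A)
  have hM : J ≤ RingHom.ker M := Ideal.map_le_iff_le_comap.2 fun b hb => by
    rw [Ideal.mem_comap, RingHom.mem_ker]
    show Algebra.TensorProduct.map (Ideal.Quotient.mkₐ k J) (Ideal.Quotient.mkₐ k J)
      (CoalgebraStruct.comul (R := k) (φ b)) = 0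
    rw [← CoalgHomClass.map_comp_comul_apply φ]
    have key : ∀ z : B ⊗[k] B, Algebra.TensorProduct.map (Ideal.Quotient.mkₐ k J) (Ideal.Quotient.mkₐ k J)
        (TensorProduct.map (φ : B →ₗ[k] A) (φ : B →ₗ[k] A) z) = algebraMap k _ (Coalgebra.counit (R := k)
          (TensorProduct.lid k B (LinearMap.rTensor B (Coalgebra.counit (R := k)) z))) := fun z => by
      induction z using TensorProduct.induction_on with
      | zero => simp
      | add x y hx hy => simp only [map_add, hx, hy]
      | tmul p q =>
        rw [TensorProduct.map_tmul, Algebra.TensorProduct.map_tmul, Ideal.Quotient.mkₐ_eq_mk,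
          show Ideal.Quotient.mk J ((φ : B →ₗ[k] A) p) = _ from hq p,
          show Ideal.Quotient.mk J ((φ : B →ₗ[k] A) q) = _ from hq q, LinearMap.rTensor_tmul, TensorProduct.lid_tmul,
          map_smul, smul_eq_mul]
        simp [Algebra.algebraMap_eq_smul_one, TensorProduct.smul_tmul', smul_smul, mul_comm,
          Algebra.TensorProduct.one_def]
    rw [key, Coalgebra.rTensor_counit_comul, TensorProduct.lid_tmul, one_smul]
    rw [show Coalgebra.counit (R := k) b = 0 from hb, map_zero]
  have hS : J ≤ J.comap (HopfAlgebra.antipodeAlgHom k A) := Ideal.map_le_iff_le_comap.2 fun b hb => by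
    rw [Ideal.mem_comap, Ideal.mem_comap]
    show HopfAlgebraStruct.antipode (R := k) (φ b) ∈ J
    rw [← HopfFF.map_antipode]
    refine Ideal.mem_map_of_mem (φ : B →+* A) ?_
    rw [RingHom.mem_ker] at hb ⊢
    simpa [HopfAlgebra.counit_antipode] using hb
  haveI : (J.restrictScalars k).IsCoideal := by
    refine ⟨fun x hx => hε hx, fun x hx => ?_⟩
    let e := (Submodule.Quotient.restrictScalarsEquiv k J).symm.toLinearMap
    have h : ∀ z : A ⊗[k] A, TensorProduct.map (J.restrictScalars k).mkQ (J.restrictScalars k).mkQ z =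
        TensorProduct.map e e (Algebra.TensorProduct.map (Ideal.Quotient.mkₐ k J) (Ideal.Quotient.mkₐ k J) z) :=
      fun z => by
        induction z using TensorProduct.induction_on with
        | zero => simp
        | add x y hx hy => simp only [map_add, hx, hy]
        | tmul p q => rfl
    rw [h]
    have h0 : M x = 0 := hM hx
    exact (congrArg (TensorProduct.map e e) h0).trans (map_zero _)
  exact ⟨fun x hx => hS hx⟩

/-- Let A be a finitely generated commutative and cocommutative Hopf algebra over a field k (a
commutative affine algebraic group G = Spec A). Then G has a largest subgroup M of multiplicative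
type and G/M is unipotent: there is a Hopf ideal J of A (defining M) such that A/J is of
multiplicative type (diagonalizable after a faithfully flat extension of k), J is contained in every
Hopf ideal I with A/I of multiplicative type, and J is the ideal generated by the augmentation ideal
of the image of an injective bialgebra map φ : B → A from a Hopf algebra B (so Spec B = G/M) which
is unipotent in the fixed-vector sense. -/
theorem result (k : Type u) [Field k]
    (A : Type u) [CommRing A] [HopfAlgebra k A] [Algebra.FiniteType k A] [Coalgebra.IsCocomm k A] :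
    ∃ (J : Ideal A) (_ : J.IsHopfIdeal k), SGA3b.IsMultTypeConst k (A ⧸ J) ∧
      (∀ (I : Ideal A) [I.IsHopfIdeal k], SGA3b.IsMultTypeConst k (A ⧸ I) → J ≤ I) ∧
      ∃ (B : Type u) (_ : CommRing B) (_ : HopfAlgebra k B) (φ : B →ₐc[k] A), Function.Injective φ ∧
        J = Ideal.map (φ : B →+* A) (RingHom.ker (Bialgebra.counitAlgHom k B)) ∧ HopfRep.IsUnipotent k B := by
  obtain ⟨B, iB, iB', φ, hφ, hrange, hBU⟩ := exists_unipotent_part (k := k) (A := A)
  let J := Ideal.map (φ : B →+* A) (RingHom.ker (Bialgebra.counitAlgHom k B))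
  haveI hJ : J.IsHopfIdeal k := isHopfIdeal_map φ
  refine ⟨J, hJ, ?_, ?_, B, iB, iB', φ, hφ, rfl, hBU⟩
  · let L := AlgebraicClosure k
    haveI := isCocomm_baseChange (k := k) (A := A) L
    have hKJ : ∀ n a, a ∈ K k A n → Ideal.Quotient.mk J a = algebraMap k (A ⧸ J) (Coalgebra.counit (R := k) a) := by
      intro n a ha
      obtain ⟨b, rfl⟩ := (hrange a).2 ⟨n, ha⟩
      rw [← Ideal.Quotient.mk_algebraMap, Ideal.Quotient.eq]
      have : φ b - algebraMap k A (Coalgebra.counit (R := k) (φ b)) =
          φ (b - algebraMap k B (Coalgebra.counit (R := k) b)) := by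
        rw [map_sub, AlgHomClass.commutes, CoalgHomClass.counit_comp_apply]
      rw [this]
      exact Ideal.mem_map_of_mem (φ : B →+* A) (RingHom.mem_ker.2 (by simp))
    have hdiag : HopfRep.IsDiagonalizable L (L ⊗[k] (A ⧸ J)) := by
      rw [HopfRep.IsDiagonalizable, eq_top_iff]
      rintro y -
      obtain ⟨z, rfl⟩ := DiagHopf.quotExt_surjective (R := k) (A := A) (S := L) J y
      have hle : glSpan L (L ⊗[k] A) ≤
          (Submodule.span L {a : L ⊗[k] (A ⧸ J) | IsGroupLikeElem L a}).comap (DiagHopf.quotExt (R := k) (A := A) L J).toLinearMap := by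
        refine Submodule.span_le.2 ?_
        rintro _ ⟨g, u, hg, ⟨n, hu⟩, rfl⟩
        show DiagHopf.quotExt (R := k) L J (g * u) ∈ Submodule.span L {a : L ⊗[k] (A ⧸ J) | IsGroupLikeElem L a}
        obtain ⟨w, rfl⟩ := mem_K_baseChange_iff.1 hu
        rw [map_mul]
        have hgl : IsGroupLikeElem L (DiagHopf.quotExt L J g) :=
          DiagHopf.groupLike_of_isGL (DiagHopf.isGL_quotExt J
            (DiagHopf.isGL_of_groupLike hg.comul_eq_tmul_self hg.counit_eq_one))
        have hsc : ∀ w : L ⊗[k] K k A n, ∃ c : L,
            DiagHopf.quotExt L J ((K k A n).subtype.lTensor L w) = c • 1 := by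
          intro w
          induction w using TensorProduct.induction_on with
          | zero => exact ⟨0, by simp⟩
          | add x y hx hy =>
            obtain ⟨c, hc⟩ := hx
            obtain ⟨d, hd⟩ := hy
            exact ⟨c + d, by rw [map_add, map_add, hc, hd, add_smul]⟩
          | tmul c a =>
            refine ⟨Coalgebra.counit (R := k) (a : A) • c, ?_⟩
            show c ⊗ₜ[k] Ideal.Quotient.mk J (a : A) = _
            rw [hKJ n a a.2, Algebra.algebraMap_eq_smul_one, TensorProduct.tmul_smul, Algebra.TensorProduct.one_def,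
              TensorProduct.smul_tmul', TensorProduct.smul_tmul', smul_eq_mul, mul_one]
        obtain ⟨c, hc⟩ := hsc w
        rw [hc, mul_smul_comm, mul_one]
        exact Submodule.smul_mem _ _ (Submodule.subset_span hgl)
      exact hle (mem_glSpan z)
    obtain ⟨N, iN, ⟨E⟩⟩ := DiagHopf.exists_split_of_isDiagonalizable hdiag
    obtain ⟨e⟩ := DiagHopf.exists_bialgEquiv E
    exact ⟨L, inferInstance, inferInstance, inferInstance, N, iN, ⟨e⟩⟩
  · intro I hI hIM
    obtain ⟨ι, hι⟩ := exists_integral_of_isMultTypeConst hIM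
    let ψ : A →ₗ[k] A ⧸ I := (Ideal.Quotient.mkₐ k I).toLinearMap
    have hψ : ∀ a, ψ a = Ideal.Quotient.mk I a := fun a => rfl
    have hΔ : ∀ a, CoalgebraStruct.comul (R := k) (ψ a) = UnipHopf.sq ψ (CoalgebraStruct.comul (R := k) a) := by
      intro a
      rw [hψ, Bialgebra.Quotient.comul_mk]
      generalize CoalgebraStruct.comul (R := k) a = z
      induction z using TensorProduct.induction_on with
      | zero => simp
      | add x y hx hy => simp only [map_add, hx, hy]
      | tmul p q => rfl
    refine Ideal.map_le_iff_le_comap.2 fun b hb => ?_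
    rw [Ideal.mem_comap]
    obtain ⟨n, hn⟩ := (hrange (φ b)).1 ⟨b, rfl⟩
    have h := eq_counit_of_mem_K ψ (by rw [hψ, map_one]) hΔ ι hι.one hι.left hn
    rw [CoalgHomClass.counit_comp_apply, show Coalgebra.counit (R := k) b = 0 from hb, zero_smul, hψ] at h
    exact Ideal.Quotient.eq_zero_iff_mem.1 h

end Groth.Agent.S4130
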