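import Groth.Statements.S13471
import Groth.Agent.GmVanishLib.FieldAny
import Groth.Agent.GmExtLib.HOneExt

set_option autoImplicit false
set_option backward.isDefEq.respectTransparency false
set_option backward.isDefEq.respectTransparency.types false
set_option maxRecDepth 8000
set_option maxHeartbeats 1000000
universe u
open GmDual

namespace Groth.Agent.S13471

open CategoryTheory AlgebraicGeometry MonObj in
/-- For a field k and an affine commutative k-group scheme G of finite type, the group H^1(k, Ĝ), the
first cohomology on the big fppf site of Spec k of the dual sheaf of G (internal Hom from the sheaf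
of points of G into the multiplicative group), is isomorphic to the group Ext^1(G, G_m) of abelian
fppf sheaves. (The published statement gives a specific isomorphism, canonical up to a universal
sign; this row asserts the existence of an isomorphism of abelian groups only.) -/
theorem result (k : Type u) [Field k]
    (G : Over (Spec (CommRingCat.of k))) [GrpObj G] [IsCommMonObj G] [IsAffine G.left] [LocallyOfFiniteType G.hom] :
    Nonempty (BigSite.H Scheme.fppfPrecoverage (Spec (CommRingCat.of k)) (CGrpSh2.dualSh Scheme.fppfPrecoverage (CGrpSh.pts Scheme.fppfPrecoverage G)) 1 ≃+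
      CGrpSh.ExtS Scheme.fppfPrecoverage G (Red.Gm (Spec (CommRingCat.of k))) 1) := by
  obtain ⟨A, _, _, v, hv, hv'⟩ := DeligneKillLib.exists_sp G
  haveI := hv; haveI := hv'
  haveI : IsCommMonObj (CoactBr.sp k A) := ExtGm.isCommMonObj_of_mono v.hom
  haveI : Coalgebra.IsCocomm k A := ExtGm.isCocomm_of_comm
  haveI : Algebra.FiniteType k A := by
    haveI : IsIso v.hom.left := ((Over.forget _).mapIso v).isIso_hom
    have h : LocallyOfFiniteType (CoactBr.sp k A).hom := by rw [← Over.w v.hom]; infer_instance
    exact RingHom.finiteType_algebraMap.1 ((HasRingHomProperty.Spec_iff (P := @LocallyOfFiniteType)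
      (φ := CommRingCat.ofHom (algebraMap k A))).1 h)
  haveI : IsIso v.inv := inferInstance
  obtain ⟨e⟩ := GmVanishLib.exists_ptsIso v.inv inferInstance
  have hL := (GmVanishLib.liftsFld_affine A).of_iso e
  exact GmExtLib.nonempty_H_one_homSh_addEquiv _ _
    (fun I K i g w hI hses ψ => hL I K i g w hI hses (CommRingCat.of k) (Field.toIsField k) (𝟙 _) ψ)

end Groth.Agent.S13471
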