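import Groth.Statements.S15384
import Groth.Agent.NormGmLib.Main
import Groth.Prelude.Def_GmPts

set_option autoImplicit false
set_option linter.style.haveILetI false
universe u
open GmDual

namespace Groth.Agent.S15384

section
open CategoryTheory CategoryTheory.Limits AlgebraicGeometry Opposite MonoidalCategory CartesianMonoidalCategory
open scoped MonObj
open Groth.Agent

variable {X X' : Scheme.{u}} (f : X' ⟶ X) [IsFinite f] [Flat f] [IsLocallyNoetherian X]

noncomputable def normHom (T : Over X) :
    ((Over.pullback f).obj T ⟶ Red.Gm X') →* (T ⟶ Red.Gm X) :=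
  (GmPts.equiv T).symm.toMonoidHom.comp ((NormGm.nrmUnit f T).comp (GmPts.equiv ((Over.pullback f).obj T)).toMonoidHom)

theorem gmFn_normHom (T : Over X) (t : (Over.pullback f).obj T ⟶ Red.Gm X') :
    Red.gmFn (normHom f T t) = NormGm.nrm f T (Red.gmFn t) := GmPts.gmFn_ptOfUnit _

theorem normHom_natural {T' T : Over X} (g : T' ⟶ T) (t : (Over.pullback f).obj T ⟶ Red.Gm X') :
    normHom f T' ((Over.pullback f).map g ≫ t) = g ≫ normHom f T t := by
  refine GmPts.gmFn_injective ?_
  show Red.gmFn _ = Red.gmFn _
  rw [gmFn_normHom, GmPts.gmFn_comp, GmPts.gmFn_comp, gmFn_normHom]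
  exact (NormGm.nrm_natural f g _).symm

noncomputable def normMap :
    CGrpSh3.pushGm Scheme.fppfPrecoverage f ⟶ CGrpSh2.Gm Scheme.fppfPrecoverage X :=
  ⟨{ app := fun T => AddCommGrpCat.ofHom
      { toFun := fun x => ULift.up (Additive.ofMul (normHom f (unop T) x.down.toMul))
        map_zero' := ULift.ext _ _ (congrArg Additive.ofMul (map_one (normHom f (unop T))))
        map_add' := fun x y => ULift.ext _ _ (congrArg Additive.ofMul (map_mul (normHom f (unop T)) _ _)) }
     naturality := fun T T' g => AddCommGrpCat.ext fun x => ULift.ext _ _ (congrArg Additive.ofMul (normHom_natural f g.unop x.down.toMul)) }⟩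

theorem isNormMap : CGrpSh3.IsNormMap Scheme.fppfPrecoverage f (normMap f) := by
  intro T hT alg hfin hfree halg t
  show Red.gmFn (normHom f T t) = _
  rw [gmFn_normHom]
  obtain rfl : alg = NormGm.prAlg f T := Algebra.algebra_ext _ _ fun a => halg a
  have h := NormGm.isNm_nrm f T (Red.gmFn t) T (𝟙 T) ⟨hT, hfin, hfree⟩
  rw [NormGm.prMap, CategoryTheory.Functor.map_id] at h
  simpa [NormGm.nm] using h

end

open CategoryTheory AlgebraicGeometry in
/-- Let f : X' ⟶ X be a finite flat morphism of Noetherian schemes (so finite locally free). There is a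
morphism of abelian sheaves N : f_* 𝔾_{m,X'} ⟶ 𝔾_{m,X} on the big fppf site of X which is a norm map
of f: on every affine test scheme T over X for which the functions of T ×_X X' form a finite free
algebra over those of T (structure map the pullback of functions along the projection), N sends an
invertible function on T ×_X X' to the determinant of multiplication by it. -/
theorem result (X X' : Scheme.{u}) (f : X' ⟶ X) [IsFinite f] [Flat f]
    [AlgebraicGeometry.IsNoetherian X] :
    ∃ N : CGrpSh3.pushGm Scheme.fppfPrecoverage f ⟶ CGrpSh2.Gm Scheme.fppfPrecoverage X,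
      CGrpSh3.IsNormMap Scheme.fppfPrecoverage f N := by
  exact ⟨normMap f, isNormMap f⟩

end Groth.Agent.S15384
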