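import Groth.Statements.S13965
import Groth.Agent.DualNormLib.Main
import Groth.Agent.DualNormLib.GmExt
import Groth.Agent.S15384
import Groth.Agent.S13471
import Groth.Agent.S13964
import Groth.Agent.GmExtLib.HOneExt
-- import your own Groth.Agent.* helpers here

set_option autoImplicit false
universe u
open TateLoc

namespace Groth.Agent.S13965
open CategoryTheory.Limits
section helpers
open CategoryTheory CategoryTheory.Limits CategoryTheory.Abelian AlgebraicGeometry Opposite

theorem lft_gm (S : Scheme.{u}) : LocallyOfFiniteType (Red.Gm S).hom := by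
  haveI : Algebra.FiniteType (ULift.{u} ℤ) (MonoidAlgebra (ULift.{u} ℤ) (Multiplicative ℤ)) :=
    MonoidAlgebra.finiteType_iff_group_fg.2 inferInstance
  haveI : LocallyOfFiniteType (Red.diag (ULift.{u} ℤ) ℤ).hom :=
    (HasRingHomProperty.Spec_iff (P := @LocallyOfFiniteType)
      (φ := CommRingCat.ofHom (algebraMap (ULift.{u} ℤ) (MonoidAlgebra (ULift.{u} ℤ) (Multiplicative ℤ))))).2
      (RingHom.finiteType_algebraMap.2 inferInstance)
  exact MorphismProperty.pullback_snd (P := @LocallyOfFiniteType) _ _ inferInstance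

theorem isAffine_gm (k : Type u) [Field k] : IsAffine (Red.Gm (Spec (CommRingCat.of k))).left := by
  haveI : IsAffine (Red.diag (ULift.{u} ℤ) ℤ).left :=
    inferInstanceAs (IsAffine (Spec (CommRingCat.of (MonoidAlgebra (ULift.{u} ℤ) (Multiplicative ℤ)))))
  haveI : IsAffineHom (Red.diag (ULift.{u} ℤ) ℤ).hom := isAffineHom_of_isAffine _
  haveI : IsAffineHom (Red.Gm (Spec (CommRingCat.of k))).hom :=
    MorphismProperty.pullback_snd (P := @IsAffineHom) _ _ inferInstance
  exact isAffine_of_isAffineHom (Red.Gm (Spec (CommRingCat.of k))).hom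

theorem lift_of_subsingleton_H_one {S : Scheme.{u}} (F : BigSite.Ab Scheme.fppfPrecoverage S)
    (hH : Subsingleton (BigSite.H Scheme.fppfPrecoverage S F 1)) :
    ∀ (P Q : BigSite.Ab Scheme.fppfPrecoverage S) (i : F ⟶ P) (g : P ⟶ Q) (w : i ≫ g = 0),
      (ShortComplex.mk i g w).ShortExact → ∀ σ : Q.obj.obj (op (Over.mk (𝟙 S))),
        ∃ t : P.obj.obj (op (Over.mk (𝟙 S))), g.hom.app _ t = σ := fun P Q i g w hC σ => by
  obtain ⟨β, hβ⟩ := (GmExtLib.connHom_eq_zero_iff hC _ ((BigCohLib.homEquivBase Q).symm σ)).1
    (hH.elim (GmExtLib.connHom hC _ ((BigCohLib.homEquivBase Q).symm σ)) 0)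
  refine ⟨BigCohLib.homEquivBase P β, ?_⟩
  rw [← BigCohLib.homEquivBase_comp g β, hβ, AddEquiv.apply_symm_apply]

theorem subsingleton_H_of_iso {S : Scheme.{u}} {F G : BigSite.Ab Scheme.fppfPrecoverage S} (e : F ≅ G)
    (h : Subsingleton (BigSite.H Scheme.fppfPrecoverage S F 1)) :
    Subsingleton (BigSite.H Scheme.fppfPrecoverage S G 1) :=
  subsingleton_of_forall_eq 0 fun x => by
    have h1 : x.comp (Ext.mk₀ e.inv) (add_zero 1) = 0 := h.elim _ _
    have h2 := congrArg (fun z => Ext.comp z (Ext.mk₀ e.hom) (add_zero 1)) h1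
    simpa [Ext.comp_assoc_of_second_deg_zero] using h2

end helpers


open CategoryTheory AlgebraicGeometry in
/-- Take a finite separable field extension k'/k, and let R be the Weil restriction of the
multiplicative group from k' to k, i.e. the direct image of the multiplicative group along Spec k' →
Spec k as an abelian sheaf on the big fppf site of Spec k. Then the first cohomology H^1(k, R̂) of
the dual sheaf R̂ (internal Hom from R into the multiplicative group) vanishes. (The published
statement is for the Weil restriction of any split k'-torus, a finite product of copies of this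
case.) -/
theorem result (k k' : Type u) [Field k] [Field k'] [Algebra k k']
    [FiniteDimensional k k'] [Algebra.IsSeparable k k'] :
    Subsingleton (BigSite.H Scheme.fppfPrecoverage (Spec (CommRingCat.of k)) (CGrpSh2.dualSh Scheme.fppfPrecoverage ((BigSite.pushBig Scheme.fppfPrecoverage (Spec.map (CommRingCat.ofHom (algebraMap k k'))) AddCommGrpCat.{u+1}).obj (CGrpSh2.Gm Scheme.fppfPrecoverage (Spec (CommRingCat.of k'))))) 1) := by
  haveI : Etale (Spec.map (CommRingCat.ofHom (algebraMap k k'))) :=
    (HasRingHomProperty.Spec_iff (P := @Etale)).2 ((RingHom.etale_algebraMap (R := k) (S := k')).2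
      { formallyEtale := Algebra.FormallyEtale.of_isSeparable k k', finitePresentation := Algebra.FinitePresentation.of_finiteType.1 inferInstance })
  haveI : IsFinite (Spec.map (CommRingCat.ofHom (algebraMap k k'))) :=
    (IsFinite.SpecMap_iff _).2 (RingHom.finite_algebraMap.2 inferInstance)
  haveI : Flat (Spec.map (CommRingCat.ofHom (algebraMap k k'))) :=
    (HasRingHomProperty.Spec_iff (P := @Flat)).2 (RingHom.flat_algebraMap_iff.2 inferInstance)
  obtain ⟨N, hN⟩ := Groth.Agent.S15384.result _ _ (Spec.map (CommRingCat.ofHom (algebraMap k k')))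
  haveI := DualNormLib.isIso_dualNormMap _ (CGrpSh2.Gm Scheme.fppfPrecoverage (Spec (CommRingCat.of k'))) N hN
  haveI := isAffine_gm k'
  haveI := lft_gm (Spec (CommRingCat.of k'))
  obtain ⟨e⟩ := Groth.Agent.S13471.result k' (Red.Gm (Spec (CommRingCat.of k')))
  haveI := DualNormLib.subsingleton_extS_gm_gm k'
  haveI : Subsingleton (BigSite.H Scheme.fppfPrecoverage (Spec (CommRingCat.of k'))
      (CGrpSh2.dualSh Scheme.fppfPrecoverage (CGrpSh2.Gm Scheme.fppfPrecoverage (Spec (CommRingCat.of k')))) 1) :=
    e.injective.subsingleton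
  have hD := Groth.Agent.S13964.subsingleton_H_one_push (Spec.map (CommRingCat.ofHom (algebraMap k k'))) _
    (lift_of_subsingleton_H_one (S := Spec (CommRingCat.of k'))
      (CGrpSh2.dualSh Scheme.fppfPrecoverage (CGrpSh2.Gm Scheme.fppfPrecoverage (Spec (CommRingCat.of k')))) inferInstance)
  exact subsingleton_H_of_iso (asIso (CGrpSh3.dualNormMap Scheme.fppfPrecoverage _ N _)) hD


end Groth.Agent.S13965
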