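import Groth.Statements.S2933
import Groth.Agent.HartConnLib.Local
import Mathlib.RingTheory.Ideal.MinimalPrime.Noetherian
import Mathlib.RingTheory.Ideal.KrullsHeightTheorem
-- import your own Groth.Agent.* helpers here

set_option autoImplicit false
universe u
open LocCoh

namespace Groth.Agent.S2933

/-- Let A be a Noetherian ring with connected spectrum and d ≥ 1 an integer such that every prime p with
dim A_p ≥ d has depth A_p ≥ 2. Then for any two minimal primes p', p'' of A there is a finite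
sequence of minimal primes starting at p' and ending at p'' such that any two consecutive members
are both contained in some prime of height at most d − 1 (Spec A is connected in codimension d − 1). -/
theorem result (A : Type u) [CommRing A] [IsNoetherianRing A] [ConnectedSpace (PrimeSpectrum A)] (d : ℕ) (hd : 1 ≤ d) (h : ∀ p : PrimeSpectrum A, (d : ℕ∞) ≤ p.asIdeal.height → (2 : ℕ∞) ≤ LocCoh.depth (Localization.AtPrime p.asIdeal) (Localization.AtPrime p.asIdeal)) (p' p'' : PrimeSpectrum A) (hp' : p'.asIdeal ∈ minimalPrimes A) (hp'' : p''.asIdeal ∈ minimalPrimes A) : ∃ l : List (PrimeSpectrum A), l.head? = some p' ∧ l.getLast? = some p'' ∧ (∀ p ∈ l, p.asIdeal ∈ minimalPrimes A) ∧ List.IsChain (fun p q => ∃ r : PrimeSpectrum A, p ≤ r ∧ q ≤ r ∧ r.asIdeal.height ≤ (d - 1 : ℕ)) l := by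
  classical
  let Min : Set (PrimeSpectrum A) := {p | p.asIdeal ∈ minimalPrimes A}
  have hMin : Min.Finite := ((minimalPrimes.finite_of_isNoetherianRing A).preimage fun a _ b _ h => PrimeSpectrum.ext h)
  let rel : PrimeSpectrum A → PrimeSpectrum A → Prop := fun p q =>
    q.asIdeal ∈ minimalPrimes A ∧ ∃ r : PrimeSpectrum A, p ≤ r ∧ q ≤ r ∧ r.asIdeal.height ≤ (d - 1 : ℕ)
  by_cases hreach : Relation.ReflTransGen rel p' p''
  · clear hp''
    suffices ∀ a, a.asIdeal ∈ minimalPrimes A → Relation.ReflTransGen rel a p'' →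
        ∃ l : List (PrimeSpectrum A), l.head? = some a ∧ l.getLast? = some p'' ∧
          (∀ p ∈ l, p.asIdeal ∈ minimalPrimes A) ∧
          List.IsChain (fun p q => ∃ r : PrimeSpectrum A, p ≤ r ∧ q ≤ r ∧ r.asIdeal.height ≤ (d - 1 : ℕ)) l from
      this p' hp' hreach
    intro a ha hab
    induction hab using Relation.ReflTransGen.head_induction_on with
    | refl => exact ⟨[p''], rfl, rfl, by simpa using ha, List.isChain_singleton _⟩
    | head hac _ ih =>
      obtain ⟨l, hl1, hl2, hl3, hl4⟩ := ih hac.1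
      match l, hl1 with
      | c :: l, hl1 =>
        simp only [List.head?_cons, Option.some.injEq] at hl1
        subst hl1
        refine ⟨_ :: c :: l, rfl, ?_, ?_, List.isChain_cons_cons.2 ⟨hac.2, hl4⟩⟩
        · rwa [List.getLast?_cons_cons]
        · intro x hx
          rcases List.mem_cons.1 hx with rfl | hx
          · exact ha
          · exact hl3 x hx
  exfalso
  let S := hMin.toFinset.filter fun p => Relation.ReflTransGen rel p' p
  let U := hMin.toFinset.filter fun p => ¬ Relation.ReflTransGen rel p' p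
  let I : Ideal A := S.inf PrimeSpectrum.asIdeal
  let J : Ideal A := U.inf PrimeSpectrum.asIdeal
  have hcover : ∀ x : PrimeSpectrum A, ∃ p ∈ Min, p.asIdeal ≤ x.asIdeal := fun x => by
    obtain ⟨q, hq, hqx⟩ := Ideal.exists_minimalPrimes_le (bot_le : ⊥ ≤ x.asIdeal)
    exact ⟨⟨q, hq.1.1⟩, hq, hqx⟩
  have hor : ∀ x : PrimeSpectrum A, I ≤ x.asIdeal ∨ J ≤ x.asIdeal := fun x => by
    obtain ⟨p, hp, hpx⟩ := hcover x
    by_cases hpr : Relation.ReflTransGen rel p' p
    · exact Or.inl ((Finset.inf_le (Finset.mem_filter.2 ⟨hMin.mem_toFinset.2 hp, hpr⟩)).trans hpx)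
    · exact Or.inr ((Finset.inf_le (Finset.mem_filter.2 ⟨hMin.mem_toFinset.2 hp, hpr⟩)).trans hpx)
  obtain ⟨x, -, hxI, hxJ⟩ := isPreconnected_closed_iff.1 (isPreconnected_univ (α := PrimeSpectrum A))
    (PrimeSpectrum.zeroLocus (I : Set A)) (PrimeSpectrum.zeroLocus (J : Set A))
    (PrimeSpectrum.isClosed_zeroLocus _) (PrimeSpectrum.isClosed_zeroLocus _)
    (fun y _ => (hor y).imp (fun h => h) (fun h => h))
    ⟨p', trivial, (Finset.inf_le (Finset.mem_filter.2 ⟨hMin.mem_toFinset.2 hp', Relation.ReflTransGen.refl⟩) :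
      I ≤ p'.asIdeal)⟩
    ⟨p'', trivial, (Finset.inf_le (Finset.mem_filter.2 ⟨hMin.mem_toFinset.2 hp'', hreach⟩) : J ≤ p''.asIdeal)⟩
  haveI := x.isPrime
  obtain ⟨Q, hQ, -⟩ := Ideal.exists_minimalPrimes_le (I := I ⊔ J) (J := x.asIdeal) (sup_le hxI hxJ)
  haveI hQp : Q.IsPrime := hQ.1.1
  obtain ⟨p, hpS, hpQ⟩ := hQp.inf_le'.1 (le_sup_left.trans hQ.1.2 : I ≤ Q)
  obtain ⟨q, hqU, hqQ⟩ := hQp.inf_le'.1 (le_sup_right.trans hQ.1.2 : J ≤ Q)
  rw [Finset.mem_filter, hMin.mem_toFinset] at hpS hqU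
  have hht : (d : ℕ∞) ≤ Q.height := by
    by_contra hlt
    rw [not_le] at hlt
    refine hqU.2 (hpS.2.tail ⟨hqU.1, ⟨Q, hQp⟩, hpQ, hqQ, ?_⟩)
    obtain ⟨k, hk⟩ := ENat.ne_top_iff_exists.1 (ne_top_of_lt hlt)
    show Q.height ≤ _
    rw [← hk] at hlt ⊢
    have hkd : k < d := by exact_mod_cast hlt
    exact_mod_cast Nat.le_sub_one_of_lt hkd
  let f := algebraMap A (Localization.AtPrime Q)
  have hIJ : I.map f * J.map f ≤ nilradical (Localization.AtPrime Q) := by
    rw [← Ideal.map_mul, Ideal.map_le_iff_le_comap]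
    intro a ha
    have ha' : IsNilpotent a := by
      rw [← mem_nilradical, nilradical_eq_sInf]
      refine Ideal.mem_sInf.2 fun {P} hP => ?_
      rcases hor ⟨P, hP⟩ with h' | h'
      · exact h' (Ideal.mul_le_left ha)
      · exact h' (Ideal.mul_le_right ha)
    exact mem_nilradical.2 (ha'.map f)
  have hmax : IsLocalRing.maximalIdeal (Localization.AtPrime Q) ≤ (I.map f ⊔ J.map f).radical := by
    rw [Ideal.radical_eq_sInf]
    refine le_sInf fun P ⟨hle, hP⟩ => ?_
    rw [← Ideal.map_sup, Ideal.map_le_iff_le_comap] at hle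
    have hPQ : P.comap f ≤ Q := by
      intro a ha
      by_contra haQ
      exact hP.ne_top (Ideal.eq_top_of_isUnit_mem _ ha (IsLocalization.map_units (Localization.AtPrime Q) (M := Q.primeCompl) ⟨a, haQ⟩))
    have heq : Q ≤ P.comap f := hQ.2 ⟨hP.comap f, hle⟩ hPQ
    rw [← Localization.AtPrime.map_eq_maximalIdeal, Ideal.map_le_iff_le_comap]
    exact heq
  have key : ∀ (K : Ideal A) (c : PrimeSpectrum A), K ≤ c.asIdeal → c.asIdeal ≤ Q →
      IsLocalRing.maximalIdeal (Localization.AtPrime Q) ≤ (K.map f).radical → Q ≤ c.asIdeal := by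
    intro K c hKc hcQ hm a ha
    obtain ⟨n, hn⟩ := hm ((IsLocalization.AtPrime.to_map_mem_maximal_iff (Localization.AtPrime Q) Q a).2 ha)
    rw [← map_pow, IsLocalization.algebraMap_mem_map_algebraMap_iff Q.primeCompl] at hn
    obtain ⟨m, hm', hma⟩ := hn
    exact c.isPrime.mem_of_pow_mem n ((c.isPrime.mem_or_mem (hKc hma)).resolve_left fun h => hm' (hcQ h))
  rcases HartConnLib.no_split (h ⟨Q, hQp⟩ hht) hIJ hmax with hm | hm
  · have hQp' := key I p (Finset.inf_le (Finset.mem_filter.2 ⟨hMin.mem_toFinset.2 hpS.1, hpS.2⟩)) hpQ hm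
    have hqp : q.asIdeal ≤ p.asIdeal := hqQ.trans hQp'
    exact hqU.2 (PrimeSpectrum.ext (le_antisymm hqp (hpS.1.2 ⟨q.isPrime, bot_le⟩ hqp)) ▸ hpS.2)
  · have hQq' := key J q (Finset.inf_le (Finset.mem_filter.2 ⟨hMin.mem_toFinset.2 hqU.1, hqU.2⟩)) hqQ hm
    have hpq : p.asIdeal ≤ q.asIdeal := hpQ.trans hQq'
    exact hqU.2 (PrimeSpectrum.ext (le_antisymm hpq (hqU.1.2 ⟨p.isPrime, bot_le⟩ hpq)) ▸ hpS.2)

end Groth.Agent.S2933
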