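import Groth.Statements.S3567
import Mathlib
import Mathlib
-- import your own Groth.Agent.* helpers here

set_option autoImplicit false
universe u
open CategoryTheory CategoryTheory.Limits AlgebraicGeometry
open EGA2

namespace Groth.Agent.S3567

/-- Let h : U → V be a surjective morphism of schemes such that the map of sheaves of rings O_V → h_*O_U
is an isomorphism and the underlying space of V carries the quotient topology of that of U. Then for
every scheme W, composition with h is a bijection from the morphisms V → W onto the morphisms U → W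
whose underlying map is constant on each fibre of h. -/
theorem result {U V : Scheme.{u}} (h : U ⟶ V) [Surjective h]
    [IsIso h.c] (hq : Topology.IsQuotientMap h.base) (W : Scheme.{u}) :
    (∀ v₁ v₂ : V ⟶ W, h ≫ v₁ = h ≫ v₂ → v₁ = v₂) ∧
      ∀ u : U ⟶ W, (∀ x y : U, h.base x = h.base y → u.base x = u.base y) → ∃ v : V ⟶ W, h ≫ v = u := by
  haveI hiso : ∀ O : V.Opens, IsIso (h.app O) := fun O => inferInstanceAs (IsIso (h.c.app (Opposite.op O)))
  constructor
  · intro v₁ v₂ e
    have hb : v₁.base = v₂.base := by
      ext v
      obtain ⟨x, rfl⟩ := h.surjective v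
      exact congr($(e) x)
    refine Scheme.Hom.ext hb fun O => ?_
    rw [← cancel_mono (h.app (v₂ ⁻¹ᵁ O))]
    have := Scheme.Hom.congr_app e O
    rw [Scheme.Hom.comp_app, Scheme.Hom.comp_app] at this
    rw [Category.assoc, h.naturality, ← Category.assoc, this]
    erw [Category.assoc, ← Functor.map_comp]
    exact (congrArg (fun m => _ ≫ m) ((congrArg U.presheaf.map (Subsingleton.elim _ (𝟙 _))).trans (CategoryTheory.Functor.map_id _ _))).trans (Category.comp_id _)
  · intro u hconst
    let b : (V : TopCat) ⟶ (W : TopCat) := TopCat.ofHom ⟨fun v => u.base (Function.surjInv hq.surjective v),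
      hq.continuous_iff.2 (u.continuous.congr fun x => hconst _ _ (Function.surjInv_eq hq.surjective (h.base x)).symm)⟩
    have hb : h.base ≫ b = u.base := by
      ext x
      exact hconst _ _ (Function.surjInv_eq hq.surjective (h.base x))
    have hpre : ∀ O : W.Opens, h ⁻¹ᵁ ((TopologicalSpace.Opens.map b).obj O) = u ⁻¹ᵁ O := fun O =>
      congr((TopologicalSpace.Opens.map $hb).obj O)
    let c : W.presheaf ⟶ (TopCat.Presheaf.pushforward CommRingCat b).obj V.presheaf :=
      { app := fun O => u.app O.unop ≫ U.presheaf.map (eqToHom (hpre O.unop)).op ≫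
          inv (h.app ((TopologicalSpace.Opens.map b).obj O.unop))
        naturality := fun O O' i => by
          refine (cancel_mono (h.app ((TopologicalSpace.Opens.map b).obj O'.unop))).1 ?_
          simp only [Category.assoc, IsIso.inv_hom_id, Category.comp_id]
          erw [h.naturality, IsIso.inv_hom_id_assoc, u.naturality_assoc, ← Functor.map_comp, ← Functor.map_comp]
          rfl }
    let p : V.toPresheafedSpace ⟶ W.toPresheafedSpace := ⟨b, c⟩
    have hcomp : (h.toLRSHom.toHom : U.toPresheafedSpace ⟶ V.toPresheafedSpace) ≫ p =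
        (u.toLRSHom.toHom : U.toPresheafedSpace ⟶ W.toPresheafedSpace) := by
      refine PresheafedSpace.ext _ _ hb ?_
      refine NatTrans.ext (funext fun O => ?_)
      show ((u.app O.unop ≫ U.presheaf.map (eqToHom (hpre O.unop)).op ≫
          inv (h.app ((TopologicalSpace.Opens.map b).obj O.unop))) ≫ h.app ((TopologicalSpace.Opens.map b).obj O.unop)) ≫
          U.presheaf.map _ = u.app O.unop
      erw [Category.assoc, Category.assoc, Category.assoc, IsIso.inv_hom_id_assoc, ← Functor.map_comp]
      exact (congrArg (fun m => _ ≫ m) ((congrArg U.presheaf.map (Subsingleton.elim _ (𝟙 _))).trans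
        (CategoryTheory.Functor.map_id _ _))).trans (Category.comp_id _)
    have hloc : ∀ v, IsLocalHom (p.stalkMap v).hom := fun v => by
      obtain ⟨x, rfl⟩ := h.surjective v
      have h1 : IsLocalHom ((h.toLRSHom.toHom ≫ p).stalkMap x).hom := by
        rw [PresheafedSpace.stalkMap.congr_hom _ _ hcomp x]
        haveI := u.toLRSHom.prop x
        rw [CommRingCat.hom_comp]
        infer_instance
      rw [PresheafedSpace.stalkMap.comp] at h1
      exact @isLocalHom_of_comp _ _ _ _ _ _ (p.stalkMap (h x)).hom (h.toLRSHom.toHom.stalkMap x).hom h1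
    exact ⟨⟨⟨p, hloc⟩⟩, Scheme.Hom.ext' (LocallyRingedSpace.Hom.ext' hcomp)⟩

end Groth.Agent.S3567
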