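import Groth.Statements.S5734
import Groth.Agent.MiscFlat6.RelProjGlue
import Groth.Agent.EGA2SymLib.PosSurj
import Groth.Agent.EGA2SymLib.Coprod
import Groth.Agent.EGA2SymLib.Gen
-- import your own Groth.Agent.* helpers here

set_option autoImplicit false
universe u
open CategoryTheory CategoryTheory.Limits AlgebraicGeometry TopologicalSpace Opposite
open scoped HomogeneousIdeal
open EGA2

namespace Groth.Agent.S5734

/-- Let E and F be quasi-coherent O_Y-modules with graded symmetric algebras 𝒮E, 𝒮F and let 𝒮 be the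
graded symmetric algebra of E ⊕ F; let πE : 𝒮 → 𝒮E and πF : 𝒮 → 𝒮F be the graded algebra
homomorphisms induced by the two projections of E ⊕ F (compatible with the structure maps from E ⊕
F, E and F), the irrelevant ideal of the target being generated by the image of that of the source
over every affine open (so that the induced morphisms of homogeneous spectra are everywhere
defined). Let P(E ⊕ F), P(E), P(F) be the projective bundles with their charts and hE : P(E) → P(E ⊕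
F), hF : P(F) → P(E ⊕ F) the morphisms chartwise induced by πE and πF. Then the morphism P(E) ⨿ P(F)
→ P(E ⊕ F) which restricts to hE and hF is a closed immersion: the disjoint union of P(E) and P(F)
is a closed subscheme of P(E ⊕ F). -/
theorem result {Y PE PF P : Scheme.{u}} (E F : Y.Modules)
    (hE : Coh.IsQCoh E) (hF : Coh.IsQCoh F) (𝒮E 𝒮F 𝒮 : RelProj.QCGrAlg Y)
    (jE : E ⟶ 𝒮E.toModule) (hjE : RelProj.IsGrSymAlg E 𝒮E jE)
    (jF : F ⟶ 𝒮F.toModule) (hjF : RelProj.IsGrSymAlg F 𝒮F jF)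
    (j : E ⊞ F ⟶ 𝒮.toModule) (hj : RelProj.IsGrSymAlg (E ⊞ F) 𝒮 j)
    (πE : 𝒮.toQCAlg ⟶ 𝒮E.toQCAlg) (hπE : RelProj.IsGradedHom πE)
    (hjπE : j ≫ RelSpec.QCAlg.Hom.toModuleMap πE = biprod.fst ≫ jE)
    (πF : 𝒮.toQCAlg ⟶ 𝒮F.toQCAlg) (hπF : RelProj.IsGradedHom πF)
    (hjπF : j ≫ RelSpec.QCAlg.Hom.toModuleMap πF = biprod.snd ≫ jF)
    (hirrE : ∀ (U : Y.Opens) (hU : IsAffineOpen U),
      (𝒮E.deg U hU)₊ ≤ ((𝒮.deg U hU)₊).map (RelProj.gradedHomAt πE hπE U hU))
    (hirrF : ∀ (U : Y.Opens) (hU : IsAffineOpen U),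
      (𝒮F.deg U hU)₊ ≤ ((𝒮.deg U hU)₊).map (RelProj.gradedHomAt πF hπF U hU))
    (p : P ⟶ Y) (pE : PE ⟶ Y) (pF : PF ⟶ Y)
    (chart : ∀ (U : Y.Opens) (hU : IsAffineOpen U), ((p ⁻¹ᵁ U : P.Opens) : Scheme.{u}) ≅ Proj (𝒮.deg U hU))
    (chartE : ∀ (U : Y.Opens) (hU : IsAffineOpen U), ((pE ⁻¹ᵁ U : PE.Opens) : Scheme.{u}) ≅ Proj (𝒮E.deg U hU))
    (chartF : ∀ (U : Y.Opens) (hU : IsAffineOpen U), ((pF ⁻¹ᵁ U : PF.Opens) : Scheme.{u}) ≅ Proj (𝒮F.deg U hU))
    (hP : RelProj.IsRelProj 𝒮 p chart) (hPE : RelProj.IsRelProj 𝒮E pE chartE) (hPF : RelProj.IsRelProj 𝒮F pF chartF)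
    (hE' : PE ⟶ P) (hhE : RelProj.IsRelProjMap πE hπE hirrE chart chartE hE')
    (hF' : PF ⟶ P) (hhF : RelProj.IsRelProjMap πF hπF hirrF chart chartF hF') :
    IsClosedImmersion (coprod.desc hE' hF') := by
  haveI := hE
  haveI := hF
  haveI hEF : Coh.IsQCoh (E ⊞ F) := QCohLib.isQCoh_biprod E F
  have e1 : ∀ (U : Y.Opens) (a : Γ(E, U)),
      (πE.hom.app (op U)).hom (EGA2SymLib.jS j U ((biprod.inl : E ⟶ E ⊞ F).app U a)) =
        EGA2SymLib.jS jE U a := fun U a => by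
    have h := congr(((biprod.inl : E ⟶ E ⊞ F) ≫ $hjπE).app U a)
    rw [biprod.inl_fst_assoc] at h
    exact h
  have e2 : ∀ (U : Y.Opens) (a : Γ(F, U)),
      (πF.hom.app (op U)).hom (EGA2SymLib.jS j U ((biprod.inr : F ⟶ E ⊞ F).app U a)) =
        EGA2SymLib.jS jF U a := fun U a => by
    have h := congr(((biprod.inr : F ⟶ E ⊞ F) ≫ $hjπF).app U a)
    rw [biprod.inr_snd_assoc] at h
    exact h
  have z1 : ∀ (U : Y.Opens) (a : Γ(E, U)),
      (πF.hom.app (op U)).hom (EGA2SymLib.jS j U ((biprod.inl : E ⟶ E ⊞ F).app U a)) = 0 := fun U a => by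
    have h := congr(((biprod.inl : E ⟶ E ⊞ F) ≫ $hjπF).app U a)
    rw [biprod.inl_snd_assoc, zero_comp] at h
    exact h
  have z2 : ∀ (U : Y.Opens) (a : Γ(F, U)),
      (πE.hom.app (op U)).hom (EGA2SymLib.jS j U ((biprod.inr : F ⟶ E ⊞ F).app U a)) = 0 := fun U a => by
    have h := congr(((biprod.inr : F ⟶ E ⊞ F) ≫ $hjπE).app U a)
    rw [biprod.inr_fst_assoc, zero_comp] at h
    exact h
  haveI : IsClosedImmersion hE' :=
    MiscFlat6.relProjMap_of_local hP hPE hhE @IsClosedImmersion fun U hU =>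
      EGA2SymLib.isClosedImmersion_map _
        (EGA2SymLib.posSurj_of_gen _ (SymGenLib.isGenDegOne hjE U hU) fun b hb => by
          obtain ⟨a, rfl⟩ := EGA2SymLib.exists_of_mem_one hjE U hU hb
          exact ⟨_, hj.2 U hU _, e1 U a⟩) _
  haveI : IsClosedImmersion hF' :=
    MiscFlat6.relProjMap_of_local hP hPF hhF @IsClosedImmersion fun U hU =>
      EGA2SymLib.isClosedImmersion_map _
        (EGA2SymLib.posSurj_of_gen _ (SymGenLib.isGenDegOne hjF U hU) fun b hb => by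
          obtain ⟨a, rfl⟩ := EGA2SymLib.exists_of_mem_one hjF U hU hb
          exact ⟨_, hj.2 U hU _, e2 U a⟩) _
  refine EGA2SymLib.isClosedImmersion_coprodDesc hE' hF' fun x x' hxx => ?_
  obtain ⟨U, hU, hyU, -⟩ := (Opens.isBasis_iff_nbhd.mp Y.isBasis_affineOpens)
    (show p (hE' x) ∈ (⊤ : Y.Opens) from trivial)
  replace hU : IsAffineOpen U := hU
  have hx : x ∈ pE ⁻¹ᵁ U := by
    obtain ⟨V, hV, hyV, -⟩ := (Opens.isBasis_iff_nbhd.mp Y.isBasis_affineOpens)
      (show pE x ∈ (⊤ : Y.Opens) from trivial)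
    have h := congr($(hhE V hV) ≫ p)
    rw [Category.assoc, MiscFlat6.relProjMap_over hP hPE V hV] at h
    show pE x ∈ U
    rwa [show pE x = p (hE' x) from (congr($h ⟨x, hyV⟩)).symm]
  have hx' : x' ∈ pF ⁻¹ᵁ U := by
    obtain ⟨V, hV, hyV, -⟩ := (Opens.isBasis_iff_nbhd.mp Y.isBasis_affineOpens)
      (show pF x' ∈ (⊤ : Y.Opens) from trivial)
    have h := congr($(hhF V hV) ≫ p)
    rw [Category.assoc, MiscFlat6.relProjMap_over hP hPF V hV] at h
    show pF x' ∈ U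
    rwa [show pF x' = p (hE' x) from ((congr($h ⟨x', hyV⟩)).symm).trans (congrArg p hxx.symm)]
  let a := (chartE U hU).hom ⟨x, hx⟩
  let b := (chartF U hU).hom ⟨x', hx'⟩
  let y := Proj.map (RelProj.gradedHomAt πE hπE U hU) (hirrE U hU) a
  have hy : y = Proj.map (RelProj.gradedHomAt πF hπF U hU) (hirrF U hU) b := by
    have h1 : hE' x = (p ⁻¹ᵁ U).ι ((chart U hU).inv y) := congr($(hhE U hU) ⟨x, hx⟩)
    have h2 : hF' x' = (p ⁻¹ᵁ U).ι ((chart U hU).inv
      (Proj.map (RelProj.gradedHomAt πF hπF U hU) (hirrF U hU) b)) := congr($(hhF U hU) ⟨x', hx'⟩)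
    exact (chart U hU).inv.isOpenEmbedding.injective
      ((p ⁻¹ᵁ U).ι.isOpenEmbedding.injective ((h1.symm.trans hxx).trans h2))
  refine y.not_irrelevant_le fun t ht => ?_
  have hle : Ideal.span (Set.range (EGA2SymLib.jS j U)) ≤ y.asHomogeneousIdeal.toIdeal := by
    rw [Ideal.span_le]
    rintro _ ⟨z, rfl⟩
    have hz : z = (biprod.inl : E ⟶ E ⊞ F).app U ((biprod.fst : E ⊞ F ⟶ E).app U z) +
        (biprod.inr : F ⟶ E ⊞ F).app U ((biprod.snd : E ⊞ F ⟶ F).app U z) :=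
      (congr(($(biprod.total (X := E) (Y := F))).app U z)).symm
    have hadd : EGA2SymLib.jS j U z = EGA2SymLib.jS j U _ + EGA2SymLib.jS j U _ :=
      (congrArg (EGA2SymLib.jS j U) hz).trans (map_add (j.app U).hom _ _)
    rw [hadd]
    refine Ideal.add_mem _ ?_ ?_
    · by_contra hn
      have : b ∈ Proj.basicOpen (𝒮F.deg U hU) ((πF.hom.app (op U)).hom
          (EGA2SymLib.jS j U ((biprod.inl : E ⟶ E ⊞ F).app U ((biprod.fst : E ⊞ F ⟶ E).app U z)))) := by
        change y ∈ Proj.basicOpen (𝒮.deg U hU) _ at hn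
        rw [hy] at hn
        exact hn
      rw [z1, Proj.basicOpen_zero] at this
      exact this
    · by_contra hn
      have : a ∈ Proj.basicOpen (𝒮E.deg U hU) ((πE.hom.app (op U)).hom
          (EGA2SymLib.jS j U ((biprod.inr : F ⟶ E ⊞ F).app U ((biprod.snd : E ⊞ F ⟶ F).app U z)))) := hn
      rw [z2, Proj.basicOpen_zero] at this
      exact this
  exact hle (EGA2SymLib.irrelevant_le_span hj U hU ht)

end Groth.Agent.S5734
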