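import Groth.Statements.S12910
import Groth.Agent.HodgeIdxLib.Bound
import Groth.Agent.MumfordLib.Induct
import Groth.Agent.CurvLib.SupportVanish
import Groth.Agent.DevissLib.Basic
import Groth.Agent.DevissLib.Stalk

set_option autoImplicit false
set_option backward.isDefEq.respectTransparency false
set_option backward.isDefEq.respectTransparency.types false
universe u
open CategoryTheory CategoryTheory.Limits AlgebraicGeometry
open Variety

namespace Groth.Agent.S12910

variable {k : Type u} [Field k] {n : ℕ}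

def V (F : (CohB1.ProjSpace n k).Modules) (t : ℤ) (i : ℕ) : Prop :=
  Subsingleton (Coh.HH (CohB1.ProjSpace n k) (CohB1.tensorMod (Twist.twistProjSpace n k t) F) i)

theorem HH_swap {F : (CohB1.ProjSpace n k).Modules} {t : ℤ} {i : ℕ} (h : V F t i) :
    Subsingleton (Coh.HH (CohB1.ProjSpace n k) (CohB1.tensorMod F (Twist.twistProjSpace n k t)) i) :=
  SerreVanLib.subsingleton_HH_of_iso (HilbPolyLib.swapIso _ _) i h

theorem V_reg {F : (CohB1.ProjSpace n k).Modules} {m : ℤ} (h : Curv2.IsMRegular k n F m) {i : ℕ}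
    (hi : 1 ≤ i) : V F (m - i) i := by
  haveI : IsProper (CohB1.ProjSpace n k ↘ Spec (CommRingCat.of k)) := MumfordLib.isProper_projSpace (n := n) k
  haveI := CurvLib.isNoetherian k (X := CohB1.ProjSpace n k)
  by_cases hin : i ≤ n
  · exact SerreVanLib.subsingleton_HH_of_iso (HilbPolyLib.swapIso _ _) i (h i hi hin)
  · exact CurvLib.subsingleton_HH_of_dim_le _ (MumfordLib.dim_le k) i (by omega)

theorem V_supp {F : (CohB1.ProjSpace n k).Modules} (hF : Coh.IsCoh F)
    (hd : topologicalKrullDim (CohB1.support F) ≤ (1 : ℕ)) (t : ℤ) (i : ℕ) (hi : 1 < i) : V F t i := by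
  haveI : IsProper (CohB1.ProjSpace n k ↘ Spec (CommRingCat.of k)) := MumfordLib.isProper_projSpace (n := n) k
  haveI := CurvLib.isNoetherian k (X := CohB1.ProjSpace n k)
  exact CurvLib.subsingleton_HH_of_support_dim _
    (HilbPolyLib.isCoh_tensor (PicPnLib.twist_inv n k t) hF).2 (d := 1)
    (by rw [HilbPolyLib.support_tensor (PicPnLib.twist_inv n k t)]; exact hd) i hi

theorem V_mid {S : ShortComplex (CohB1.ProjSpace n k).Modules} (hS : S.ShortExact) {t : ℤ} {i : ℕ}
    (h₁ : V S.X₁ t i) (h₃ : V S.X₃ t i) : V S.X₂ t i :=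
  have hT := HilbPolyLib.shortExact_tensor (PicPnLib.twist_inv n k t) hS
  subsingleton_of_forall_eq 0 fun x => by
    have hx : x ∈ LinearMap.ker (CurvLib.hMap (k := k) (S.map (CurvLib.tensorLeft' (Twist.twistProjSpace n k t))).g i) :=
      LinearMap.mem_ker.2 (h₃.elim _ _)
    rw [← CurvLib.exact₂ hT i] at hx
    obtain ⟨y, rfl⟩ := hx
    rw [h₁.elim y 0, map_zero]

theorem V_right {S : ShortComplex (CohB1.ProjSpace n k).Modules} (hS : S.ShortExact) {t : ℤ} {i : ℕ}
    (h₂ : V S.X₂ t i) (h₁ : V S.X₁ t (i + 1)) : V S.X₃ t i :=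
  MumfordLib.subsingleton_X₃ k (HilbPolyLib.shortExact_tensor (PicPnLib.twist_inv n k t) hS) h₂ h₁

theorem V_isZero {F : (CohB1.ProjSpace n k).Modules} (hF : IsZero F) (t : ℤ) (i : ℕ) : V F t i := by
  haveI : IsProper (CohB1.ProjSpace n k ↘ Spec (CommRingCat.of k)) := MumfordLib.isProper_projSpace (n := n) k
  have hT : IsZero (CohB1.tensorMod (Twist.twistProjSpace n k t) F) :=
    (CurvLib.tensorLeft' (Twist.twistProjSpace n k t)).map_isZero hF
  haveI := CurvLib.isNoetherian k (X := CohB1.ProjSpace n k)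
  unfold V
  refine subsingleton_of_forall_eq 0 fun x => ?_
  let F' := CohB1.tensorMod (Twist.twistProjSpace n k t) F
  let S : ShortComplex (CohB1.ProjSpace n k).Modules := ShortComplex.mk (𝟙 F') (𝟙 F') (hT.eq_of_src _ _)
  have hS : S.ShortExact :=
    { exact := ShortComplex.exact_of_isZero_X₂ _ hT
      mono_f := inferInstanceAs (Mono (𝟙 F'))
      epi_g := inferInstanceAs (Epi (𝟙 F')) }
  have h : ∀ z, CurvLib.hMap (k := k) (𝟙 F') i z = z := fun z => by
    rw [CurvLib.hMap_apply, CategoryTheory.Functor.map_id, Sheaf.H.map_id_apply]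
  have hz : x ∈ LinearMap.range (CurvLib.hMap (k := k) S.f i) := ⟨x, h x⟩
  rw [CurvLib.exact₂ hS i, LinearMap.mem_ker] at hz
  exact (h x).symm.trans hz

noncomputable def homIso (T : ShortComplex (CohB1.ProjSpace n k).Modules) : cokernel T.abelianImageToKernel ≅ T.homology :=
  (cokernelEpiComp (Abelian.factorThruImage T.f) T.abelianImageToKernel).symm ≪≫
    cokernelIsoOfEq (by rw [← cancel_mono (kernel.ι T.g)]; simp) ≪≫
    (ShortComplex.LeftHomologyData.ofHasKernelOfHasCokernel T).homologyIso.symm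


/-- Let k be a field, d an integer, and E a bounded chain complex ⋯ → E_2 → E_1 → E_0 of coherent
modules on P^n_k (E_s = 0 for s large) such that E_s is (d + s)-regular for every s and, for every i
> 0, the homology sheaf H_i(E) has support of Krull dimension at most 1. Then the cokernel of E_1 →
E_0 is d-regular and the image of E_1 → E_0 is (d + 1)-regular. -/
theorem result (k : Type u) [Field k] (n : ℕ)
    (E : ChainComplex ((CohB1.ProjSpace n k).Modules) ℕ) (t : ℕ) (hbdd : ∀ s : ℕ, t < s → IsZero (E.X s))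
    (hcoh : ∀ s : ℕ, Coh.IsCoh (E.X s)) (d : ℤ)
    (hreg : ∀ s : ℕ, Curv2.IsMRegular k n (E.X s) (d + s))
    (hsupp : ∀ i : ℕ, 0 < i → topologicalKrullDim (CohB1.support (E.homology i)) ≤ 1) :
    Curv2.IsMRegular k n (cokernel (E.d 1 0)) d ∧
      Curv2.IsMRegular k n (Abelian.image (E.d 1 0)) (d + 1) := by
  haveI : IsProper (CohB1.ProjSpace n k ↘ Spec (CommRingCat.of k)) := MumfordLib.isProper_projSpace (n := n) k
  haveI := CurvLib.isNoetherian k (X := CohB1.ProjSpace n k)
  have key : ∀ r s : ℕ, t < s + 1 + r → ∀ i : ℕ, 1 ≤ i →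
      V (Abelian.image (E.d (s + 1) s)) (d + ((s + 1 : ℕ) : ℤ) - i) i := by
    intro r
    induction r with
    | zero =>
      intro s hs i _
      exact V_isZero (IsZero.of_epi (Abelian.factorThruImage (E.d (s + 1) s)) (hbdd _ (by omega))) _ _
    | succ r ih =>
      intro s hs i hi
      have hV₁ : V (kernel (E.d (s + 1) s)) (d + ((s + 1 : ℕ) : ℤ) - i) (i + 1) := by
        have hB : V (Abelian.image (E.d (s + 1 + 1) (s + 1)))
            (d + ((s + 1 : ℕ) : ℤ) - i) (i + 1) := by
          have h := ih (s + 1) (by omega) (i + 1) (by omega)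
          convert h using 1
          push_cast
          ring
        let T : ShortComplex (CohB1.ProjSpace n k).Modules :=
          ShortComplex.mk (E.d (s + 1 + 1) (s + 1)) (E.d (s + 1) s) (E.d_comp_d _ _ _)
        have hH : Coh.IsCoh (cokernel T.abelianImageToKernel) :=
          QCohLib.isCoh_cokernel _ (DevissLib.isCoh_image _ (hcoh _) (hcoh _)).1
            (QCohLib.isCoh_kernel _ (hcoh _) (hcoh _).1)
        have hd' : topologicalKrullDim (CohB1.support (cokernel T.abelianImageToKernel)) ≤ (1 : ℕ) := by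
          rw [DevissLib.support_iso (homIso T ≪≫ (ShortComplex.homologyMapIso (E.isoSc' (s + 1 + 1) (s + 1) s (by simp) (by simp))).symm)]
          exact_mod_cast hsupp (s + 1) (by omega)
        exact V_mid (ShortComplex.ShortExact.mk
          (ShortComplex.exact_cokernel T.abelianImageToKernel)) hB (V_supp hH hd' _ _ (by omega))
      exact V_right (DevissLib.kerImSeq_shortExact (E.d (s + 1) s))
        (V_reg (hreg (s + 1)) hi) hV₁
  have hB : ∀ i : ℕ, 1 ≤ i → V (Abelian.image (E.d 1 0)) (d + 1 - i) i := by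
    intro i hi
    simpa using key t 0 (by omega) i hi
  refine ⟨fun i hi _ => HH_swap (V_right (S := ShortComplex.mk (Abelian.image.ι (E.d 1 0)) (cokernel.π (E.d 1 0))
      (kernel.condition _)) ?_ ?_ ?_), fun i hi _ => HH_swap (hB i hi)⟩
  · exact ShortComplex.ShortExact.mk (ShortComplex.exact_of_f_is_kernel _ (kernelIsKernel _))
  · simpa using V_reg (hreg 0) hi
  · convert hB (i + 1) (by omega) using 1
    push_cast
    ring

end Groth.Agent.S12910
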