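import Groth.Statements.S4269
import Groth.Agent.AmpleAffLib.Gen

set_option autoImplicit false
universe u
open CategoryTheory CategoryTheory.Limits AlgebraicGeometry
attribute [local instance] HasDerivedCategory.standard
open KSix

namespace Groth.Agent.S4269

/-- Let X be a quasi-compact quasi-separated scheme and (L_i) an ample family of invertible O_X-modules
(the affine opens X_s, for s a global section of some L_i^{⊗ n}, n ≥ 1, cover X). Then every
quasi-coherent O_X-module of finite type F receives an epimorphism from a finite direct sum of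
modules of the form L_i^{⊗ -n} with n > 0. (The printed statement uses a single exponent n_i for
each member L_i; the form here, allowing several powers of the same member, is slightly weaker.) -/
theorem result (X : Scheme.{u}) {ι : Type u} (L : ι → X.Modules)
    (hL : KSix.IsAmpleFamily L) (F : X.Modules) (hF : Coh.IsQCoh F) (hF' : CohB1.IsFT F) :
    ∃ (M : X.Modules) (π : M ⟶ F), KSix.InAddL L M ∧ Epi π := by
  haveI : CompactSpace X := hL.1
  haveI : QuasiSeparatedSpace X := hL.2.1
  haveI := hF
  choose i n s hxs hsa using hL.2.2.2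
  have hinv : ∀ x, PicF.IsInvertible (CohB1.tensorPow (L (i x)) (n x + 1)) := fun x =>
    AmpleThLib.tensorPow_isInvertible (hL.2.2.1 (i x)) (n x + 1)
  obtain ⟨k, x, N, π, hN, hπ⟩ := AmpleAffLib.exists_epi_biproduct hinv _
    (fun x => (AmpleThLib.genLocus_hom (hinv x) (s x)) ▸ hxs x)
    (fun x => (AmpleThLib.genLocus_hom (hinv x) (s x)) ▸ hsa x) F hF'
  refine ⟨_, π, ⟨k, _, fun a => ?_, ⟨Iso.refl _⟩⟩, hπ⟩
  obtain ⟨φ, -⟩ := AmpleThLib.exists_powIso (hL.2.2.1 (i (x a))) (n (x a) + 1) (N a)
  obtain ⟨χ⟩ := MiscFlat6.nonempty_dualIso (AmpleThLib.tensorPow_isInvertible (hinv (x a)) (N a))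
  exact ⟨i (x a), (n (x a) + 1) * N a, Nat.mul_pos (Nat.succ_pos _) (hN a),
    ⟨HilbPolyLib.swapIso _ _ ≪≫ HilbPolyLib.congrLeft φ.symm _ ≪≫ χ⟩⟩

end Groth.Agent.S4269
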