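import Groth.Statements.S15333
import Mathlib
import Groth.Agent.CurveVBLib.Fitting
import Groth.Agent.CurveVBLib.Integral
-- import your own Groth.Agent.* helpers here

set_option autoImplicit false
universe u
open CategoryTheory CategoryTheory.Limits AlgebraicGeometry
open VBCurve

namespace Groth.Agent.S15333

/-- Let X be a smooth proper integral curve (integral, smooth and proper of dimension one) over an
algebraically closed field k. Let E and F be finite locally free O_X-modules of ranks r ≥ 1 and s ≥
1 which are slope-semistable and slope-stable (deg G · r ≤ deg E · r' for every finite locally free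
submodule G ⊂ E of rank r' ≥ 1, with strict inequality when r' < r, and likewise for F; degree = χ −
rank·χ(O_X)) and which have the same slope, deg E · s = deg F · r. Then either there is no nonzero
homomorphism E → F or E ≅ F; precisely, every nonzero homomorphism E → F is an isomorphism. -/
theorem result (k : Type u) [Field k] [IsAlgClosed k] (X : Scheme.{u}) [X.Over (Spec (CommRingCat.of k))]
    [IsIntegral X] [IsProper (X ↘ Spec (CommRingCat.of k))] [Smooth (X ↘ Spec (CommRingCat.of k))]
    (hdim : topologicalKrullDim X = 1)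
    (r s : ℕ) (hr : 0 < r) (hs : 0 < s) (E F : X.Modules)
    (hE : FlatMod.IsFinLocFreeOfRank r E) (hF : FlatMod.IsFinLocFreeOfRank s F)
    (hEss : ModFun.IsSlopeSemistable k X E r) (hEst : ModFun.IsSlopeStable k X E r)
    (hFss : ModFun.IsSlopeSemistable k X F s) (hFst : ModFun.IsSlopeStable k X F s)
    (hμ : Curv2.deg k X E r * (s : ℤ) = Curv2.deg k X F s * (r : ℤ))
    (f : E ⟶ F) (hf : f ≠ 0) : IsIso f := by
  rw [CurveVBLib.deg_eq_dg hE, CurveVBLib.deg_eq_dg hF] at hμ
  have hEc := CurvLib.isCoh_of_locFree hE
  have hFc := CurvLib.isCoh_of_locFree hF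
  obtain ⟨hK, hI, hrk, hdg⟩ := CurveVBLib.ker_im_data (k := k) hEc hFc f
  rw [CurveVBLib.genRank_eq hE] at hrk
  obtain ⟨-, -, -, -, hzI⟩ := CurveVBLib.sub_data (k := k) hdim hF (Abelian.image.ι f) hI
  have hI0 : ¬ IsZero (Abelian.image f) := fun hz => hf (by
    rw [← Abelian.image.fac f, hz.eq_of_src (Abelian.image.ι f) 0, comp_zero])
  have h2 := CurveVBLib.sub_le (k := k) hdim hF hFss (Abelian.image.ι f) hI
  have hs' : (0 : ℤ) < s := by exact_mod_cast hs
  have hr' : (0 : ℤ) < r := by exact_mod_cast hr
  have hK0 : IsZero (kernel f) := by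
    by_contra hz
    have hi : ¬ IsIso (kernel.ι f) := fun hi => hf (by
      rw [← cancel_epi (kernel.ι f), kernel.condition, comp_zero])
    have h3 := CurveVBLib.sub_lt (k := k) hdim hE hEst (kernel.ι f) hK hz hi
    have hrZ : (r : ℤ) = CurvLib.genRank (kernel f) + CurvLib.genRank (Abelian.image f) := by exact_mod_cast hrk
    have A := mul_lt_mul_of_pos_right h3 hs'
    have B := mul_le_mul_of_nonneg_left h2 hr'.le
    have C : (r : ℤ) * (CurveVBLib.dg k F * CurvLib.genRank (Abelian.image f)) =
        CurveVBLib.dg k E * s * CurvLib.genRank (Abelian.image f) := by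
      linear_combination -(CurvLib.genRank (Abelian.image f) : ℤ) * hμ
    have D : CurveVBLib.dg k E * r * s = CurveVBLib.dg k (kernel f) * r * s +
        (r : ℤ) * (CurveVBLib.dg k (Abelian.image f) * s) := by rw [hdg]; ring
    have G : CurveVBLib.dg k E * r * s = CurveVBLib.dg k E * CurvLib.genRank (kernel f) * s +
        CurveVBLib.dg k E * s * CurvLib.genRank (Abelian.image f) := by rw [hrZ]; ring
    linarith
  haveI : Mono f := Preadditive.mono_of_cancel_zero _ fun g hg => by
    rw [← kernel.lift_ι f g hg, hK0.eq_of_tgt (kernel.lift f g hg) 0, zero_comp]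
  by_contra hni
  have h4 := CurveVBLib.sub_lt (k := k) hdim hF hFst f hEc (fun hz => hf (hz.eq_of_src _ _)) hni
  rw [CurveVBLib.genRank_eq hE] at h4
  linarith

end Groth.Agent.S15333
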