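import Groth.Statements.S7637
import Groth.Agent.IntMultLib.CompSum

set_option autoImplicit false
universe u
open CategoryTheory CategoryTheory.Limits AlgebraicGeometry
open Variety

namespace Groth.Agent.S7637

/-- Let X be proper of dimension at most one over a field k and let E, V be finite locally free modules
of ranks n and m. Then the degree of E ⊗ V (a module of rank n·m) is n·deg(V) + m·deg(E). -/
theorem result (k : Type u) [Field k] (X : Scheme.{u}) [X.Over (Spec (CommRingCat.of k))] [IsProper (X ↘ (Spec (CommRingCat.of k)))]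
    (hdim : topologicalKrullDim X ≤ 1) (n m : ℕ) (E V : X.Modules)
    (hE : FlatMod.IsFinLocFreeOfRank n E) (hV : FlatMod.IsFinLocFreeOfRank m V) :
    Curv2.deg k X (CohB1.tensorMod E V) (n * m) = n * Curv2.deg k X V m + m * Curv2.deg k X E n := by
  haveI := CurvLib.isNoetherian k (X := X)
  classical
  let dC : (irreducibleComponents (X : Type u)) → ℤ := fun Z =>
    @Curv2.deg k _ (X.irreducibleComponentIdeal Z.1 Z.2).radical.subscheme ⟨(X.irreducibleComponentIdeal Z.1 Z.2).radical.subschemeι ≫ (X ↘ (Spec (CommRingCat.of k)))⟩ ((Scheme.Modules.pullback (X.irreducibleComponentIdeal Z.1 Z.2).radical.subschemeι).obj E) n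
  haveI : Finite (irreducibleComponents (X : Type u)) :=
    TopologicalSpace.NoetherianSpace.finite_irreducibleComponents.to_subtype
  haveI := Fintype.ofFinite (irreducibleComponents (X : Type u))
  have h1 := IntMultLib.euler_tensor_eq_sum k X hdim n E hE V (CurvLib.isCoh_of_locFree hV)
  have h0 := IntMultLib.euler_tensor_eq_sum k X hdim n E hE (Coh.structureModule X)
    (DevissLib.isCoh_structureModule X)
  rw [finsum_eq_sum_of_fintype] at h1 h0
  have hlen : ∀ ξ : X, (Module.length (X.presheaf.stalk ξ) (V.presheaf.stalk ξ)).toNat =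
      m * (Module.length (X.presheaf.stalk ξ) ((Coh.structureModule X).presheaf.stalk ξ)).toNat := fun ξ => by
    obtain ⟨e⟩ := CurvLib.nonempty_stalk_pi_of_locFree hV ξ
    have e1 : Module.length (X.presheaf.stalk ξ) (V.presheaf.stalk ξ) =
        Module.length (X.presheaf.stalk ξ) (Fin m → X.presheaf.stalk ξ) := e.length_eq
    have e2 : Module.length (X.presheaf.stalk ξ) ((Coh.structureModule X).presheaf.stalk ξ) =
        Module.length (X.presheaf.stalk ξ) (X.presheaf.stalk ξ) := (CurvLib.stalkStructureEquiv ξ).length_eq
    rw [e1, e2, Module.length_pi]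
    simp [ENat.toNat_mul]
  have hs : Curv2.euler k X (CohB1.tensorMod V E) - n * Curv2.euler k X V =
      m * (Curv2.euler k X (CohB1.tensorMod (Coh.structureModule X) E) - n * Curv2.euler k X (Coh.structureModule X)) := by
    rw [h1, h0, add_sub_cancel_right, add_sub_cancel_right, Finset.mul_sum]
    refine Finset.sum_congr rfl fun Z _ => ?_
    rw [hlen]
    split_ifs
    · push_cast
      ring
    · ring
  rw [CurvLib.euler_congr (k := k) (HilbPolyLib.unitLeft E),
    CurvLib.euler_congr (k := k) (HilbPolyLib.swapIso V E)] at hs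
  simp only [Curv2.deg]
  push_cast
  linear_combination hs

end Groth.Agent.S7637
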