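import Groth.Statements.S1536
import Groth.Agent.H0Lib.Field
import Groth.Agent.GenusZeroLib.Mult

set_option autoImplicit false
universe u
open CategoryTheory CategoryTheory.Limits AlgebraicGeometry
open Variety

namespace Groth.Agent.S1536

/-- For a proper scheme X over a field k which is geometrically reduced and geometrically connected,
H^0(X, O_X) is one-dimensional over k, i.e. the global functions are the constants. -/
theorem result (k : Type u) [Field k] (X : Scheme.{u}) [X.Over (Spec (CommRingCat.of k))] [IsProper (X ↘ (Spec (CommRingCat.of k)))]
    [GeometricallyReduced (X ↘ (Spec (CommRingCat.of k)))] [GeometricallyConnected (X ↘ (Spec (CommRingCat.of k)))] :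
    Module.finrank k (Coh.HH X (Coh.structureModule X) 0) = 1 := by
  haveI := H0Lib.isIso_appTop_of_field (X ↘ (Spec (CommRingCat.of k)))
  letI := GenusZeroLib.kmod k (X := X) (Coh.structureModule X)
  rw [(GenusZeroLib.e0k k (Coh.structureModule X)).finrank_eq]
  let F := (Scheme.ΓSpecIso (CommRingCat.of k)).inv ≫ (X ↘ Spec (CommRingCat.of k)).appTop
  have hF : Function.Bijective F.hom := ConcreteCategory.bijective_of_isIso F
  refine Eq.trans (LinearEquiv.finrank_eq ?_).symm (Module.finrank_self k)
  refine LinearEquiv.ofBijective
    { toFun := fun r => (show Γ(Coh.structureModule X, ⊤) from F.hom r)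
      map_add' := fun a b => map_add F.hom a b
      map_smul' := fun a b => map_mul F.hom a b } hF

end Groth.Agent.S1536
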