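import Groth.Statements.S5134
import Groth.Agent.S1178
import Groth.Agent.Pi1DescLib.UnivInj
import Groth.Agent.RichLib.ModFlatGlobal

set_option autoImplicit false
open CategoryTheory AlgebraicGeometry
universe u
open SGA1

namespace Groth.Agent.S5134

theorem univInjective_of_faithfullyFlat (R S : Type u) [CommRing R] [CommRing S] [Algebra R S]
    [Module.FaithfullyFlat R S] : Pi1.UnivInjective R S := by
  intro P _ _
  have h2 : Function.Injective ((TensorProduct.comm R P S) ∘ LinearMap.lTensor P (Algebra.linearMap R S) ∘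
      (TensorProduct.rid R P).symm) := by
    have heq : ((TensorProduct.comm R P S) ∘ LinearMap.lTensor P (Algebra.linearMap R S) ∘
        (TensorProduct.rid R P).symm) = fun m => (1 : S) ⊗ₜ[R] m := funext fun m => by simp
    rw [heq]
    exact Module.FaithfullyFlat.tensorProduct_mk_injective _
  intro a b hab
  obtain ⟨a', rfl⟩ := (TensorProduct.rid R P).symm.surjective a
  obtain ⟨b', rfl⟩ := (TensorProduct.rid R P).symm.surjective b
  exact congrArg _ (h2 (congrArg (TensorProduct.comm R P S) hab))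

theorem finitePresentation_of_cover {S W : Scheme.{u}} [IsAffine W] (q : W ⟶ S) [Flat q] (F : S.Modules)
    [Coh.IsQCoh F] (h : CohB1.IsFP ((Scheme.Modules.pullback q).obj F)) {U : S.Opens} (hU : IsAffineOpen U)
    (hrange : Set.range q = (U : Set S)) : Module.FinitePresentation Γ(S, U) Γ(F, U) := by
  have hle : (⊤ : W.Opens) ≤ q ⁻¹ᵁ U := fun z _ => hrange.subset (Set.mem_range_self z)
  haveI : IsAffine (U : Scheme.{u}) := hU
  haveI : IsAffine ((⊤ : W.Opens) : Scheme.{u}) := isAffineOpen_top W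
  let r := q.resLE U ⊤ hle
  haveI : Surjective r := ⟨fun y => by
    obtain ⟨z, hz⟩ := hrange.superset y.2
    exact ⟨⟨z, trivial⟩, Subtype.ext ((congrArg (fun φ : ((⊤ : W.Opens) : Scheme.{u}) ⟶ S => φ ⟨z, trivial⟩)
      (Scheme.Hom.resLE_comp_ι q hle)).trans hz)⟩⟩
  haveI : Flat r := inferInstance
  have hff : (q.appLE U ⊤ hle).hom.FaithfullyFlat :=
    (RingHom.FaithfullyFlat.respectsIso.arrow_mk_iso_iff (arrowResLEAppIso q U ⊤ hle)).1
      ((Flat.flat_and_surjective_iff_faithfullyFlat_of_isAffine r).1 ⟨inferInstance, inferInstance⟩)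
  haveI : Coh.IsQCoh (KFlatLib.pb q F) := KFlatLib.isQCoh_pullback q F
  haveI := Groth.Agent.S1178.finitePresentation_affine (KFlatLib.pb q F) h (isAffineOpen_top W)
  algebraize [(q.appLE U ⊤ hle).hom]
  letI : Module Γ(S, U) Γ(KFlatLib.pb q F, (⊤ : W.Opens)) := Module.compHom _ (q.appLE U ⊤ hle).hom
  haveI : IsScalarTower Γ(S, U) Γ(W, ⊤) Γ(KFlatLib.pb q F, (⊤ : W.Opens)) :=
    IsScalarTower.of_algebraMap_smul fun _ _ => rfl
  let ψ : Γ(F, U) →ₗ[Γ(S, U)] Γ(KFlatLib.pb q F, (⊤ : W.Opens)) :=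
    { toFun := KFlatLib.puSecLE q F hle
      map_add' := fun a b => map_add (KFlatLib.puSecLE q F hle) a b
      map_smul' := fun r m => KFlatLib.puSecLE_smul q F hle r m }
  have hb := KFlatLib.isBaseChange_puSec q F hU (isAffineOpen_top _) hle (fun _ => rfl) ψ (fun _ => rfl)
  haveI : Module.FinitePresentation Γ(W, ⊤) (TensorProduct Γ(S, U) Γ(W, ⊤) Γ(F, U)) :=
    Module.FinitePresentation.of_equiv hb.equiv.symm
  exact Pi1DescLib.finitePresentation_descends (univInjective_of_faithfullyFlat Γ(S, U) Γ(W, ⊤)) _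


/-- For g : S' ⟶ S flat, surjective and quasi-compact and F a quasi-coherent module on S, if the
pullback of F to S' is of finite presentation then F is of finite presentation. -/
theorem result {S S' : Scheme.{u}} (g : S' ⟶ S) [Flat g] [Surjective g] [QuasiCompact g]
    (F : S.Modules) (hF : Coh.IsQCoh F)
    (h : CohB1.IsFP ((Scheme.Modules.pullback g).obj F)) : CohB1.IsFP F := by

  haveI := hF
  refine RichLib.IsFPAffine.isFP_of_finitePresentation F fun p => ?_
  obtain ⟨_, ⟨U, hU, rfl⟩, hp, -⟩ :=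
    S.isBasis_affineOpens.exists_subset_of_mem_open (Set.mem_univ p) isOpen_univ
  refine ⟨U, hU, hp, ?_⟩
  let V : Scheme.{u} := (g ⁻¹ᵁ U : S'.Opens)
  haveI : CompactSpace V := isCompact_iff_compactSpace.mp (g.isCompact_preimage hU.isCompact)
  let 𝒰 := V.affineCover.finiteSubcover
  let c : (∐ fun i => 𝒰.X i) ⟶ V := Limits.Sigma.desc fun i => 𝒰.f i
  haveI : Flat c := IsZariskiLocalAtSource.sigmaDesc fun i => inferInstance
  haveI : Surjective c := ⟨fun x => by
    obtain ⟨i, y, hy⟩ := 𝒰.exists_eq x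
    refine ⟨Limits.Sigma.ι (fun i => 𝒰.X i) i y, ?_⟩
    rw [← Scheme.Hom.comp_apply, Limits.Sigma.ι_desc]
    exact hy⟩
  let q := (c ≫ (g ⁻¹ᵁ U).ι) ≫ g
  have hrange : Set.range q = (U : Set S) := by
    ext y
    constructor
    · rintro ⟨z, rfl⟩
      exact (c z).2
    · intro hy
      obtain ⟨s, hs⟩ := g.surjective y
      obtain ⟨z, hz⟩ := c.surjective ⟨s, show g s ∈ U by rw [hs]; exact hy⟩
      refine ⟨z, ?_⟩
      show g ((g ⁻¹ᵁ U).ι (c z)) = y
      rw [hz]
      exact hs
  have hG : CohB1.IsFP ((Scheme.Modules.pullback q).obj F) :=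
    (SheafOfModules.isFinitePresentation (R := (∐ fun i => 𝒰.X i).ringCatSheaf)).prop_of_iso
      ((Scheme.Modules.pullbackComp (c ≫ (g ⁻¹ᵁ U).ι) g).app F)
      (RichLib.ModFlat.isFP_pullback (c ≫ (g ⁻¹ᵁ U).ι) h)
  exact finitePresentation_of_cover q F hG hU hrange

end Groth.Agent.S5134
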