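import Groth.Statements.S0734
import Groth.Agent.IndEtLib.Basic

set_option autoImplicit false
open CategoryTheory CategoryTheory.Limits AlgebraicGeometry Opposite Topology
universe u
open ProEtW

namespace Groth.Agent.S0734

/-- A composite of two ind-etale ring maps is ind-etale. -/
theorem result (A B C : Type u) [CommRing A] [CommRing B] [CommRing C] [Algebra A B]
    [Algebra B C] [Algebra A C] [IsScalarTower A B C] (hAB : EtPBC.IsIndEtale A B)
    (hBC : EtPBC.IsIndEtale B C) : EtPBC.IsIndEtale A C := by
  rw [IndEtLib.isIndEtale_iff] at hAB hBC ⊢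
  rw [show CommRingCat.ofHom (algebraMap A C) =
      CommRingCat.ofHom (algebraMap A B) ≫ CommRingCat.ofHom (algebraMap B C) by
    rw [IsScalarTower.algebraMap_eq A B C]; rfl]
  exact IndEtLib.ind_comp IndEtLib.Et.{u} IndEtLib.et_le hAB hBC

end Groth.Agent.S0734
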