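import Groth.Statements.S0733
import Mathlib.Algebra.Category.Ring.Under.Limits
import Mathlib.CategoryTheory.Adjunction.Limits
import Mathlib.RingTheory.Etale.Basic
import Mathlib.CategoryTheory.Limits.Preserves.Basic

set_option autoImplicit false
open CategoryTheory CategoryTheory.Limits AlgebraicGeometry Opposite Topology
universe u
open scoped TensorProduct
open ProEtW

namespace Groth.Agent.S0733

/-- If A -> B is ind-etale (a filtered colimit of etale A-algebras) and A -> A' is any ring map, then A'
-> A' (x)_A B is ind-etale. -/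
theorem result (A B A' : Type u) [CommRing A] [CommRing B] [CommRing A']
    [Algebra A B] [Algebra A A'] (h : EtPBC.IsIndEtale A B) :
    EtPBC.IsIndEtale A' (A' ⊗[A] B) := by
  obtain ⟨J, iJ, iF, D, c, hc, het, ⟨e⟩⟩ := h
  let R : CommRingCat.{u} := CommRingCat.of A
  let S : CommRingCat.{u} := CommRingCat.of A'
  letI : Algebra R S := ‹Algebra A A'›
  have : (Under.pushout (CommRingCat.ofHom (algebraMap R S))).IsLeftAdjoint :=
    ⟨_, ⟨Under.mapPushoutAdj _⟩⟩
  have : PreservesColimitsOfSize.{u, u} (CommRingCat.tensorProd R S) :=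
    preservesColimits_of_natIso (CommRingCat.tensorProdIsoPushout R S).symm
  refine ⟨J, iJ, iF, D ⋙ CommRingCat.tensorProd R S, (CommRingCat.tensorProd R S).mapCocone c,
    isColimitOfPreserves (CommRingCat.tensorProd R S) hc, fun j => ?_, ⟨?_⟩⟩
  · letI := (D.obj j).hom.hom.toAlgebra
    haveI : Algebra.Etale A (D.obj j).right := het j
    have h1 : (algebraMap A' (A' ⊗[A] (D.obj j).right)).Etale := RingHom.etale_algebraMap.2 inferInstance
    exact h1
  · refine (CommRingCat.tensorProd R S).mapIso e ≪≫ ?_
    let X : Under R := Under.mk (CommRingCat.ofHom (algebraMap A B))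
    letI : Algebra R X.right := X.hom.hom.toAlgebra
    letI : Algebra R (Under.mk (CommRingCat.ofHom (algebraMap A B))).right := X.hom.hom.toAlgebra
    let eX : X.right ≃ₐ[R] B := AlgEquiv.ofRingEquiv (f := RingEquiv.refl B) fun _ => rfl
    exact AlgEquiv.toUnder (Algebra.TensorProduct.congr (AlgEquiv.refl (R := A') (A₁ := A')) eX)

end Groth.Agent.S0733
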