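import Groth.Statements.S0730
import Mathlib.AlgebraicGeometry.Sites.Proetale
import Mathlib.CategoryTheory.Sites.Continuous
import Mathlib.CategoryTheory.Comma.Over.Pullback
import Mathlib.CategoryTheory.Limits.Preserves.Basic

set_option autoImplicit false
open CategoryTheory CategoryTheory.Limits AlgebraicGeometry Opposite
universe u
open ProEtS

namespace Groth.Agent.S0730

/-- Base changes of pro-étale coverings are pro-étale coverings, in the form used to define the morphism
of sites f_proét : X_proét → Y_proét for a morphism of schemes f : X → Y: the base change functor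
from the small pro-étale site of Y to that of X is continuous. -/
theorem result {X Y : Scheme.{u}} (f : X ⟶ Y) : ProEtS.PCont f := by
  haveI : PreservesLimitsOfShape WalkingCospan (Scheme.ProEt.forget Y ⋙ Over.pullback f) := inferInstance
  haveI : PreservesLimitsOfShape WalkingCospan (bcP f ⋙ Scheme.ProEt.forget X) :=
    preservesLimitsOfShape_of_natIso (NatIso.ofComponents (fun U => Iso.refl _) :
      Scheme.ProEt.forget Y ⋙ Over.pullback f ≅ bcP f ⋙ Scheme.ProEt.forget X)
  haveI : PreservesLimitsOfShape WalkingCospan (bcP f) :=
    preservesLimitsOfShape_of_reflects_of_preserves (bcP f) (Scheme.ProEt.forget X)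
  haveI : ∀ S : Scheme.{u}, PreservesLimitsOfShape WalkingCospan (Scheme.ProEt.forget S ⋙ Over.forget S) :=
    fun S => inferInstance
  haveI : ∀ S : Scheme.{u}, (Scheme.ProEt.precoverage S).IsStableUnderBaseChange := fun S =>
    inferInstanceAs ((Scheme.proetalePrecoverage.comap (Scheme.ProEt.forget S ⋙ Over.forget S)).IsStableUnderBaseChange)
  show (bcP f).IsContinuous (Scheme.ProEt.precoverage Y).toGrothendieck (Scheme.ProEt.precoverage X).toGrothendieck
  haveI : (Scheme.ProEt.precoverage Y).PullbacksPreservedBy (bcP f) := ⟨fun U R _ => inferInstance⟩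
  refine Functor.isContinuous_toGrothendieck_of_pullbacksPreservedBy _ _ _ fun U R hR => ?_
  obtain ⟨ι, V, g, rfl⟩ := Presieve.exists_eq_ofArrows R
  show Presieve.map (Scheme.ProEt.forget X ⋙ Over.forget X) (Presieve.map (bcP f) (Presieve.ofArrows V g)) ∈
    Scheme.proetalePrecoverage.{u} (Limits.pullback U.hom f)
  have hR' : Presieve.map (Scheme.ProEt.forget Y ⋙ Over.forget Y) (Presieve.ofArrows V g) ∈
      Scheme.proetalePrecoverage.{u} U.left := hR
  rw [Presieve.map_ofArrows] at hR'
  rw [Presieve.map_ofArrows, Presieve.map_ofArrows]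
  refine Precoverage.mem_coverings_of_isPullback _ hR' (Limits.pullback.fst U.hom f) _
    (fun i => Limits.pullback.fst (V i).hom f) fun i => ?_
  show IsPullback (Limits.pullback.lift (Limits.pullback.fst (V i).hom f ≫ (g i).left)
    (Limits.pullback.snd (V i).hom f) _) (Limits.pullback.fst (V i).hom f) (Limits.pullback.fst U.hom f) (g i).left
  refine IsPullback.of_right ?_ (Limits.pullback.lift_fst _ _ _) (IsPullback.of_hasPullback U.hom f).flip
  have h1 : (g i).left ≫ U.hom = (V i).hom := MorphismProperty.Over.w (g i)
  erw [Limits.pullback.lift_snd, h1]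
  exact (IsPullback.of_hasPullback (V i).hom f).flip

end Groth.Agent.S0730
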