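import Groth.Statements.S14620
import Mathlib.RingTheory.LocalRing.ResidueField.Basic
import Mathlib.FieldTheory.IsAlgClosed.AlgebraicClosure
import Mathlib.FieldTheory.IsSepClosed
import Mathlib.FieldTheory.PurelyInseparable.Basic
import Groth.Agent.S0505


-- import your own Groth.Agent.* helpers here

set_option autoImplicit false
universe u
open Hensel

namespace Groth.Agent.S14620

/-- In the strictly henselian case, let f : A → B be a finite local homomorphism of local rings. If A is
strictly henselian (henselian local with separably closed residue field), then so is B. -/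
theorem result {A B : Type u} [CommRing A] [IsLocalRing A]
    [CommRing B] [IsLocalRing B] (f : A →+* B) (hf : f.Finite) [IsLocalHom f]
    (hA : EtCoh.IsStrictlyHenselianLocalRing A) : EtCoh.IsStrictlyHenselianLocalRing B := by
  obtain ⟨hh, hsep⟩ := hA
  let := f.toAlgebra
  have : Module.Finite A B := hf
  have hloc : IsLocalHom (algebraMap A B) := inferInstanceAs (IsLocalHom f)
  have := hh
  refine ⟨S0505.result A B, ?_⟩
  let k := IsLocalRing.ResidueField A
  let l := IsLocalRing.ResidueField B
  have : Module.Finite k l := by
    refine Module.Finite.of_restrictScalars_finite A k l (hM := ?_) |> id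
    exact Module.Finite.of_surjective (IsScalarTower.toAlgHom A B l).toLinearMap IsLocalRing.residue_surjective
  have : Algebra.IsAlgebraic k l := Algebra.IsAlgebraic.of_finite k l
  let L := AlgebraicClosure l
  have : Algebra.IsAlgebraic k L := Algebra.IsAlgebraic.trans k l L
  have : IsPurelyInseparable k L := inferInstance
  have : IsPurelyInseparable l L := IsPurelyInseparable.tower_top k l L
  refine IsSepClosed.of_exists_root _ fun g hm hirr hsep' => ?_
  obtain ⟨a, ha⟩ := IsAlgClosed.exists_aeval_eq_zero L g (Polynomial.degree_ne_of_natDegree_ne hirr.natDegree_pos.ne')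
  have hs : IsSeparable l a := hsep'.of_dvd (minpoly.dvd l a ha)
  obtain ⟨c, hc⟩ := IsPurelyInseparable.inseparable l a hs
  refine ⟨c, ?_⟩
  rw [← hc, Polynomial.aeval_algebraMap_apply] at ha
  exact (algebraMap l L).injective (by rw [← Polynomial.coe_aeval_eq_eval, ha, map_zero])

end Groth.Agent.S14620
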