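import Groth.Statements.S13198
import Groth.Agent.HensFormalLib.SepClosed
-- import your own Groth.Agent.* helpers here

set_option autoImplicit false
universe u
open scoped TensorProduct
open Hensel

namespace Groth.Agent.S13198

/-- Let R be a local ring which is strictly henselian (henselian, with separably closed residue field),
A a local ring which is an integral R-algebra with local structure map and whose residue field is
purely inseparable over that of R, and B a local ring with a local homomorphism R → B. Then A ⊗_R B
is a local ring, the map B → A ⊗_R B is local, and the residue field extension of A ⊗_R B over B is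
purely inseparable: every element of A ⊗_R B has a p^n-th power, p the characteristic exponent of
the residue field of B, congruent modulo the maximal ideal to an element 1 ⊗ b. -/
theorem result
    (R A B : Type u) [CommRing R] [HenselianLocalRing R] [IsSepClosed (IsLocalRing.ResidueField R)]
    [CommRing A] [IsLocalRing A] [Algebra R A] [IsLocalHom (algebraMap R A)] [Algebra.IsIntegral R A]
    [IsPurelyInseparable (IsLocalRing.ResidueField R) (IsLocalRing.ResidueField A)]
    [CommRing B] [IsLocalRing B] [Algebra R B] [IsLocalHom (algebraMap R B)] :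
    ∃ _ : IsLocalRing (A ⊗[R] B),
      IsLocalHom (Algebra.TensorProduct.includeRight : B →ₐ[R] A ⊗[R] B).toRingHom ∧
      ∀ x : A ⊗[R] B, ∃ (n : ℕ) (b : B),
        x ^ (ringExpChar (IsLocalRing.ResidueField B)) ^ n - (1 : A) ⊗ₜ[R] b ∈ IsLocalRing.maximalIdeal (A ⊗[R] B) := by
  obtain ⟨q, hq⟩ := ExpChar.exists (IsLocalRing.ResidueField R)
  haveI := hq
  haveI hqB : ExpChar (IsLocalRing.ResidueField B) q :=
    expChar_of_injective_ringHom (algebraMap (IsLocalRing.ResidueField R) (IsLocalRing.ResidueField B)).injective q
  have hins : ∀ a : A, ∃ (n : ℕ) (r : R), a ^ q ^ n - algebraMap R A r ∈ IsLocalRing.maximalIdeal A := fun a => by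
    obtain ⟨n, y, hy⟩ := IsPurelyInseparable.pow_mem (IsLocalRing.ResidueField R) q (IsLocalRing.residue A a)
    obtain ⟨r, rfl⟩ := IsLocalRing.residue_surjective y
    refine ⟨n, r, (IsLocalRing.residue_eq_zero_iff _).1 ?_⟩
    rw [map_sub, map_pow, ← hy]
    exact sub_eq_zero.2 rfl
  let Ω := AlgebraicClosure (IsLocalRing.ResidueField B)
  letI : Algebra (IsLocalRing.ResidueField R) Ω :=
    ((algebraMap (IsLocalRing.ResidueField B) Ω).comp (IsLocalRing.ResidueField.map (algebraMap R B))).toAlgebra
  haveI : Algebra.IsAlgebraic (IsLocalRing.ResidueField R) (IsLocalRing.ResidueField A) := inferInstance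
  let ι : IsLocalRing.ResidueField A →ₐ[IsLocalRing.ResidueField R] Ω := IsAlgClosed.lift
  letI : Algebra R Ω := ((algebraMap (IsLocalRing.ResidueField B) Ω).comp
    ((IsLocalRing.residue B).comp (algebraMap R B))).toAlgebra
  let ψA : A →ₐ[R] Ω := { ι.toRingHom.comp (IsLocalRing.residue A) with
    commutes' := fun r => (ι.commutes (IsLocalRing.residue R r)).trans rfl }
  let ψB : B →ₐ[R] Ω := { (algebraMap (IsLocalRing.ResidueField B) Ω).comp (IsLocalRing.residue B) with
    commutes' := fun r => rfl }
  haveI : Nontrivial (B ⊗[R] A) :=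
    (Algebra.TensorProduct.lift ψB ψA fun _ _ => Commute.all _ _).toRingHom.domain_nontrivial
  haveI := HensFormalLib.isLocalRing_tensor_of_pow R B A q hins
  let e := (Algebra.TensorProduct.comm R B A).toRingEquiv
  haveI hloc : IsLocalRing (A ⊗[R] B) := e.isLocalRing
  have hBloc : IsLocalHom (Algebra.TensorProduct.includeRight : B →ₐ[R] A ⊗[R] B).toRingHom := ⟨fun b hb => by
    have h := hb.map (Algebra.TensorProduct.lift ψA ψB fun _ _ => Commute.all _ _)
    rw [show (Algebra.TensorProduct.includeRight : B →ₐ[R] A ⊗[R] B).toRingHom b = (1 : A) ⊗ₜ[R] b from rfl,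
      Algebra.TensorProduct.lift_tmul, map_one, one_mul] at h
    by_contra hnb
    refine h.ne_zero ?_
    show algebraMap (IsLocalRing.ResidueField B) Ω (IsLocalRing.residue B b) = 0
    rw [(IsLocalRing.residue_eq_zero_iff b).2 hnb, map_zero]⟩
  refine ⟨hloc, hBloc, fun x => ?_⟩
  obtain ⟨n, b, hnb⟩ := HensFormalLib.exists_pow_sub_mem R B A q hins (e.symm x)
  refine ⟨n, b, ?_⟩
  rw [ringExpChar.eq (IsLocalRing.ResidueField B) q]
  intro hu
  refine hnb ?_
  have h := hu.map e.symm.toRingHom
  simpa [e, map_sub, map_pow, Algebra.TensorProduct.algebraMap_apply] using h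

end Groth.Agent.S13198
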