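import Groth.Statements.S16174
import Mathlib.RingTheory.Henselian
import Mathlib.RingTheory.Valuation.ValuationRing
import Mathlib.RingTheory.Localization.AtPrime.Basic
import Mathlib.RingTheory.Polynomial.Basic
import Mathlib.Algebra.Polynomial.Taylor
import Mathlib.Algebra.Polynomial.Lifts
import Mathlib.Algebra.Polynomial.Degree.Lemmas
import Mathlib.Tactic.Ring
import Mathlib.Tactic.Cases
-- import your own Groth.Agent.* helpers here

set_option autoImplicit false
universe u
open Hensel

namespace Groth.Agent.S16174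

open Polynomial IsLocalRing

theorem henselian_quot {R : Type u} [CommRing R] [HenselianLocalRing R] (I : Ideal R) (hI : I ≠ ⊤) :
    HenselianLocalRing (R ⧸ I) := by
  have : Nontrivial (R ⧸ I) := Ideal.Quotient.nontrivial_iff.2 hI
  have : IsLocalRing (R ⧸ I) := IsLocalRing.of_surjective' _ Ideal.Quotient.mk_surjective
  have hloc : IsLocalHom (Ideal.Quotient.mk I) :=
    IsLocalHom.of_surjective _ Ideal.Quotient.mk_surjective
  refine ⟨fun f hf a₀ h₁ h₂ => ?_⟩
  obtain ⟨g, hg, -, hgm⟩ := Polynomial.lifts_and_degree_eq_and_monic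
    (Polynomial.mem_lifts f |>.2 (Polynomial.map_surjective _ Ideal.Quotient.mk_surjective f)) hf
  obtain ⟨b₀, rfl⟩ := Ideal.Quotient.mk_surjective a₀
  subst hg
  rw [Polynomial.eval_map, Polynomial.eval₂_at_apply] at h₁
  rw [Polynomial.derivative_map, Polynomial.eval_map, Polynomial.eval₂_at_apply] at h₂
  obtain ⟨a, ha, ha'⟩ := HenselianLocalRing.is_henselian g hgm b₀
    (fun h => h₁ (h.map _)) (isUnit_of_map_unit _ _ h₂)
  refine ⟨Ideal.Quotient.mk I a, ?_, ?_⟩
  · rw [IsRoot.def, Polynomial.eval_map, Polynomial.eval₂_at_apply, ha, map_zero]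
  · rw [← map_sub]
    exact fun h => ha' (isUnit_of_map_unit _ _ h)

theorem maximal_mem_image {V : Type u} [CommRing V] [IsDomain V] [ValuationRing V] (p : Ideal V) [p.IsPrime]
    {x : Localization.AtPrime p} (hx : x ∈ maximalIdeal (Localization.AtPrime p)) :
    ∃ a ∈ p, algebraMap V (Localization.AtPrime p) a = x := by
  obtain ⟨⟨a, s⟩, rfl⟩ := IsLocalization.mk'_surjective p.primeCompl x
  have ha : a ∈ p := by
    by_contra h
    exact hx ((IsLocalization.AtPrime.isUnit_mk'_iff _ p _ _).2 h)
  rcases ValuationRing.cond (s : V) a with ⟨c, hc | hc⟩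
  · refine ⟨c, ?_, ?_⟩
    · exact ((‹p.IsPrime›.mem_or_mem (hc ▸ ha)).resolve_left s.2)
    · rw [eq_comm, IsLocalization.mk'_eq_iff_eq_mul, ← map_mul, mul_comm, hc]
  · exact absurd (hc ▸ p.mul_mem_right c ha) s.2

theorem henselian_atPrime {V : Type u} [CommRing V] [IsDomain V] [ValuationRing V] [HenselianLocalRing V]
    (p : Ideal V) [p.IsPrime] : HenselianLocalRing (Localization.AtPrime p) := by
  refine ⟨fun f hf a₀ h₁ h₂ => ?_⟩
  let φ := algebraMap V (Localization.AtPrime p)
  set g := taylor a₀ f with hg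
  obtain ⟨c1, hc1⟩ := h₂
  set e : (Localization.AtPrime p) := f.eval a₀ * ↑c1⁻¹
  have he : e ∈ maximalIdeal (Localization.AtPrime p) := Ideal.mul_mem_right _ _ h₁
  have he1 : (c1 : (Localization.AtPrime p)) * e = g.coeff 0 := by
    rw [hg, taylor_coeff_zero]
    simp only [e]
    rw [mul_left_comm, Units.mul_inv, mul_one]
  have hn : 1 ≤ f.natDegree := by
    by_contra h
    rw [hf.natDegree_eq_zero.1 (by omega), derivative_one, eval_zero] at hc1
    exact c1.ne_zero hc1
  obtain ⟨m, hm⟩ := Nat.exists_eq_add_of_le hn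
  -- the coefficients of the normalised polynomial
  choose D hDp hD using fun j : ℕ => maximal_mem_image p
    (Ideal.mul_mem_left _ (g.coeff (j + 2) * (↑c1⁻¹ : (Localization.AtPrime p))) (Ideal.pow_mem_of_mem _ he (j + 1) (by omega)))
  let H : V[X] := X ^ (m + 1) + (X ^ m + ∑ j ∈ Finset.range m, C (D j) * X ^ (m - 1 - j))
  have hH : H.Monic := monic_X_pow_add <| by
    refine (degree_add_le _ _).trans_lt (max_lt ?_ ?_)
    · rw [degree_X_pow]; exact_mod_cast Nat.lt_succ_self m
    · refine (degree_sum_le _ _).trans_lt ((Finset.sup_lt_iff (WithBot.bot_lt_coe _)).2 fun j hj => ?_)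
      exact (degree_C_mul_X_pow_le _ _).trans_lt (by exact_mod_cast (show m - 1 - j < m + 1 by omega))
  have hDm : ∀ j, D j ∈ maximalIdeal V := fun j => IsLocalRing.le_maximalIdeal ‹p.IsPrime›.ne_top (hDp j)
  have hmod : ∀ q : V[X], residue V (q.eval (-1)) = (q.map (residue V)).eval (-1) := fun q => by
    rw [eval_map, ← eval₂_at_apply, map_neg, map_one]
  have hHm : H.map (residue V) = X ^ (m + 1) + X ^ m := by
    simp only [H, Polynomial.map_add, Polynomial.map_pow, map_X, Polynomial.map_sum, Polynomial.map_mul,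
      map_C, (residue_eq_zero_iff _).2 (hDm _), C_0, zero_mul, Finset.sum_const_zero, add_zero]
  have hr1 : H.eval (-1) ∈ maximalIdeal V := by
    rw [← residue_eq_zero_iff, hmod, hHm]
    simp [pow_succ]
  have hr2 : IsUnit (H.derivative.eval (-1)) := by
    rw [← residue_ne_zero_iff_isUnit, hmod, ← derivative_map, hHm]
    rw [show (X ^ (m + 1) + X ^ m : (ResidueField V)[X]) = X ^ m * (X + 1) by ring]
    simp [derivative_mul]
  obtain ⟨u, hu, hu'⟩ := HenselianLocalRing.is_henselian H hH (-1) hr1 hr2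
  have huu : IsUnit u := by
    by_contra h
    have := sub_mem (show u ∈ maximalIdeal V from h) hu'
    rw [sub_sub_cancel] at this
    exact this isUnit_one.neg
  obtain ⟨U, rfl⟩ := huu
  let z : (Localization.AtPrime p) := φ ↑U⁻¹
  refine ⟨a₀ + e * z, ?_, by simpa using Ideal.mul_mem_right _ _ he⟩
  rw [IsRoot.def, ← (isUnit_pow_iff (Nat.succ_ne_zero m)).2 (U.isUnit.map φ) |>.mul_right_eq_zero]
  have hgn : g.natDegree < m + 2 := by rw [hg, natDegree_taylor]; omega
  have h0 : f.eval (a₀ + e * z) = g.eval (e * z) := by rw [hg, taylor_eval, add_comm]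
  have hUz : φ (U : V) * z = 1 := by rw [← map_mul, Units.mul_inv, map_one]
  have hpow : ∀ i ≤ m + 1, φ (U : V) ^ (m + 1) * z ^ i = φ (U : V) ^ (m + 1 - i) := by
    intro i hi
    conv_lhs => rw [← Nat.sub_add_cancel hi, pow_add, mul_assoc, ← mul_pow, hUz, one_pow, mul_one]
  have hsum : φ (U : V) ^ (m + 1) * g.eval (e * z) =
      g.coeff 0 * φ (H.eval (U : V)) := by
    rw [eval_eq_sum_range' hgn, Finset.mul_sum, Finset.sum_range_succ', Finset.sum_range_succ']
    simp only [H, eval_add, eval_pow, eval_X, eval_finset_sum, eval_mul, eval_C, map_add, map_pow,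
      map_sum, map_mul]
    rw [Finset.sum_congr rfl (g := fun j => g.coeff 0 * (φ (D j) * φ (U : V) ^ (m - 1 - j)))
      (fun j hj => ?_)]
    · rw [show g.coeff (0 + 1) = (c1 : (Localization.AtPrime p)) by rw [hg, zero_add, taylor_coeff_one, hc1]]
      rw [← Finset.mul_sum, show (e * z) ^ (0 + 1) = e * z by simp, pow_zero, mul_one,
        show φ (U : V) ^ (m + 1) * ((c1 : (Localization.AtPrime p)) * (e * z)) = g.coeff 0 * (φ (U : V) ^ (m + 1) * z ^ 1) by
          rw [← he1]; ring, hpow 1 (by omega), Nat.add_sub_cancel]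
      ring
    · rw [Finset.mem_range] at hj
      have := hpow (j + 1 + 1) (by omega)
      rw [show m + 1 - (j + 1 + 1) = m - 1 - j by omega] at this
      rw [← this, hD, ← he1, mul_pow]
      calc φ (U : V) ^ (m + 1) * (g.coeff (j + 1 + 1) * (e ^ (j + 1 + 1) * z ^ (j + 1 + 1)))
          = ((c1 : (Localization.AtPrime p)) * ↑c1⁻¹) * (φ (U : V) ^ (m + 1) * (g.coeff (j + 2) * (e ^ (j + 1) * e * z ^ (j + 1 + 1)))) := by
            rw [Units.mul_inv, one_mul, pow_succ e (j + 1)]
        _ = _ := by ring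
  rw [h0, hsum, hu, map_zero, mul_zero]

/-- Let V be a Henselian valuation ring and p a prime ideal of V. Then the local rings V_p (localisation
at p) and V/p are Henselian. (Both are again valuation rings, which is elementary and not restated.) -/
theorem result (V : Type u) [CommRing V]
    [IsDomain V] [ValuationRing V] [HenselianLocalRing V] (p : Ideal V) [p.IsPrime] :
    HenselianLocalRing (Localization.AtPrime p) ∧ HenselianLocalRing (V ⧸ p) := by
  exact ⟨henselian_atPrime p, henselian_quot p ‹p.IsPrime›.ne_top⟩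

end Groth.Agent.S16174
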