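import Groth.Statements.S7286
import Groth.Agent.WCSiteLib.Site
import Groth.Agent.WLocalLib.WContr
import Groth.Agent.IndEtLib.Flat
import Groth.Agent.S0679
-- import your own Groth.Agent.* helpers here

set_option autoImplicit false
set_option backward.isDefEq.respectTransparency false
open CategoryTheory CategoryTheory.Limits AlgebraicGeometry Opposite
universe u
open ProEtS

namespace Groth.Agent.S7286

/-- Transposed to the small pro-etale site: every object U of the small pro-etale site of a scheme X has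
a covering family all of whose members are affine schemes whose rings of global functions are
w-contractible. -/
theorem result {X : Scheme.{u}} (U : X.ProEt) :
    ∃ (ι : Type u) (V : ι → X.ProEt) (g : ∀ i, V i ⟶ U),
      Sieve.generate (Presieve.ofArrows V g) ∈ Scheme.ProEt.topology X U ∧
        ∀ i, IsAffine (V i).left ∧ EtPBC.IsWContractible ↥(Γ((V i).left, ⊤)) := by
  classical
  haveI : WeaklyEtale U.hom := U.prop
  let 𝒰 := U.left.affineOpenCover
  choose D iD aD hff hind hwc using fun i => Groth.Agent.WLocalLib.exists_wContractible (𝒰.X i)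
  let φ : ∀ i, 𝒰.X i ⟶ CommRingCat.of (D i) := fun i =>
    letI := iD i
    letI := aD i
    CommRingCat.ofHom (algebraMap (𝒰.X i) (D i))
  have hwe : ∀ i, WeaklyEtale (Spec.map (φ i)) := fun i => by
    letI := iD i
    letI := aD i
    haveI := _root_.IndEtLib.weaklyEtale_of_isIndEtale _ _ (hind i)
    exact Groth.Agent.WCSiteLib.weaklyEtale_specMap (𝒰.X i) (D i)
  have hsurj : ∀ i, Surjective (Spec.map (φ i)) := fun i => by
    letI := iD i
    letI := aD i
    haveI := hff i
    exact ⟨PrimeSpectrum.comap_surjective_of_faithfullyFlat (A := 𝒰.X i) (B := D i)⟩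
  let Z : 𝒰.I₀ → X.ProEt := fun i =>
    haveI : WeaklyEtale (X := Spec (𝒰.X i)) (Y := U.left) (𝒰.f i) := inferInstance
    Scheme.ProEt.mk (X := Spec (𝒰.X i)) (𝒰.f i ≫ U.hom)
  let g : ∀ i, Z i ⟶ U := fun i => MorphismProperty.Over.homMk (𝒰.f i) rfl
  let V : 𝒰.I₀ → X.ProEt := fun i =>
    haveI := hwe i
    Scheme.ProEt.mk (X := Spec (CommRingCat.of (D i))) (Spec.map (φ i) ≫ 𝒰.f i ≫ U.hom)
  let h : ∀ i, V i ⟶ Z i := fun i => MorphismProperty.Over.homMk (Spec.map (φ i)) rfl
  have hV : ∀ i, IsAffine (V i).left := fun i => inferInstanceAs (IsAffine (Spec (CommRingCat.of (D i))))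
  have hZ : ∀ i, IsAffine (Z i).left := fun i => inferInstanceAs (IsAffine (Spec (𝒰.X i)))
  refine ⟨𝒰.I₀, V, fun i => h i ≫ g i, ?_, fun i => ⟨hV i, ?_⟩⟩
  · have h1 : Sieve.ofArrows Z g ∈ Scheme.ProEt.topology X U :=
      ProEtPtsLib.ofArrows_mem_of_mem Z g
        (Scheme.zariskiPrecoverage_le_propQCPrecoverage _ 𝒰.openCover.mem₀)
    refine (Scheme.ProEt.topology X).transitive h1 _ fun Y f hf => ?_
    obtain ⟨i, a, rfl⟩ := (Sieve.mem_ofArrows_iff _ _ _).1 hf
    rw [Sieve.pullback_comp]
    refine (Scheme.ProEt.topology X).pullback_stable a ?_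
    haveI := hV i
    haveI := hZ i
    refine GrothendieckTopology.superset_covering _ ?_ (Groth.Agent.WCSiteLib.single_mem (h i) (hsurj i))
    intro T q hq
    obtain ⟨-, b, rfl⟩ := (Sieve.mem_ofArrows_iff _ _ _).1 hq
    exact ⟨V i, b, h i ≫ g i, ⟨i⟩, (Category.assoc _ _ _).symm⟩
  · letI := iD i
    let e : D i ≃+* ↥(Γ((V i).left, ⊤)) :=
      (Scheme.ΓSpecIso (CommRingCat.of (D i))).commRingCatIsoToRingEquiv.symm
    letI : Algebra (D i) ↥(Γ((V i).left, ⊤)) := e.toRingHom.toAlgebra
    have hb : Function.Surjective (algebraMap (D i) ↥(Γ((V i).left, ⊤))) := e.surjective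
    haveI : Module.Finite (D i) ↥(Γ((V i).left, ⊤)) := RingHom.Finite.of_surjective _ hb
    haveI : Algebra.FinitePresentation (D i) ↥(Γ((V i).left, ⊤)) := RingHom.FinitePresentation.of_bijective e.bijective
    exact Groth.Agent.S0679.result (D i) _ (hwc i)

end Groth.Agent.S7286
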