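import Groth.Statements.S5014
-- import your own Groth.Agent.* helpers here

set_option autoImplicit false
universe u
open Unram17

namespace Groth.Agent.S5014

/-- Let C be a smooth algebra over a commutative ring A, equipped with an A-algebra map from the
polynomial ring in r variables (images s_i of the variables), and let q be a prime of C. Then C is
etale at q over the polynomial ring if and only if the differentials of the s_i are linearly
independent and generate the module of differentials of the local ring C_q over A, i.e. form a basis
of it. -/
theorem result (A C : Type u) [CommRing A] [CommRing C]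
    [Algebra A C] [Algebra.Smooth A C] (r : ℕ) [Algebra (MvPolynomial (Fin r) A) C]
    [IsScalarTower A (MvPolynomial (Fin r) A) C] (q : Ideal C) [q.IsPrime] :
    Algebra.IsEtaleAt (MvPolynomial (Fin r) A) q ↔
      LinearIndependent (Localization.AtPrime q)
          (fun i : Fin r => KaehlerDifferential.D A (Localization.AtPrime q)
            (algebraMap C (Localization.AtPrime q) (algebraMap (MvPolynomial (Fin r) A) C (MvPolynomial.X i)))) ∧
        Submodule.span (Localization.AtPrime q)
          (Set.range fun i : Fin r => KaehlerDifferential.D A (Localization.AtPrime q)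
            (algebraMap C (Localization.AtPrime q) (algebraMap (MvPolynomial (Fin r) A) C (MvPolynomial.X i)))) = ⊤ := by
  let P := MvPolynomial (Fin r) A
  let L := Localization.AtPrime q
  haveI : Algebra.FormallySmooth A L :=
    haveI : Algebra.FormallySmooth C L := Algebra.FormallySmooth.of_isLocalization q.primeCompl
    Algebra.FormallySmooth.comp A C L
  let φ : TensorProduct P L (KaehlerDifferential A P) →ₗ[L] KaehlerDifferential A L :=
    KaehlerDifferential.mapBaseChange A P L
  let b := Algebra.TensorProduct.basis L (KaehlerDifferential.mvPolynomialBasis A (Fin r))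
  have hb : (fun i : Fin r => KaehlerDifferential.D A L
      (algebraMap C L (algebraMap P C (MvPolynomial.X i)))) = φ ∘ b := funext fun i => by
    show _ = φ (b i)
    rw [Algebra.TensorProduct.basis_apply, KaehlerDifferential.mvPolynomialBasis_apply,
      KaehlerDifferential.mapBaseChange_tmul, one_smul, KaehlerDifferential.map_D,
      ← IsScalarTower.algebraMap_apply P C L]
  have hli : LinearIndependent L (φ ∘ b) ↔ Function.Injective φ :=
    ⟨fun h => (injective_iff_map_eq_zero φ).mpr fun z hz => b.repr.map_eq_zero_iff.mp (by
      refine (linearIndependent_iff.mp h) _ ?_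
      rw [← Finsupp.apply_linearCombination, b.linearCombination_repr, hz]),
      fun h => b.linearIndependent.map' φ (LinearMap.ker_eq_bot.mpr h)⟩
  have hsp : Submodule.span L (Set.range (φ ∘ b)) = ⊤ ↔ Function.Surjective φ := by
    rw [Set.range_comp, ← Submodule.map_span, b.span_eq, Submodule.map_top, LinearMap.range_eq_top]
  show Algebra.FormallyEtale P L ↔ _
  rw [hb, hli, hsp, Algebra.formallyEtale_iff]
  constructor
  · rintro ⟨hK, hH⟩
    refine ⟨(injective_iff_map_eq_zero φ).mpr fun z hz => ?_, fun z => ?_⟩
    · obtain ⟨w, rfl⟩ := (Algebra.H1Cotangent.exact_δ_mapBaseChange A P L z).mp hz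
      rw [Subsingleton.elim w 0, map_zero]
    · exact (KaehlerDifferential.exact_mapBaseChange_map A P L z).mp (Subsingleton.elim _ _)
  · rintro ⟨hi, hs⟩
    refine ⟨⟨fun a c => ?_⟩, ⟨fun a c => ?_⟩⟩
    · obtain ⟨a', rfl⟩ := KaehlerDifferential.map_surjective A P L a
      obtain ⟨c', rfl⟩ := KaehlerDifferential.map_surjective A P L c
      rw [(KaehlerDifferential.exact_mapBaseChange_map A P L a').mpr (hs a'),
        (KaehlerDifferential.exact_mapBaseChange_map A P L c').mpr (hs c')]
    · have hz : ∀ a : Algebra.H1Cotangent P L, a = 0 := fun a => by
        have hδ : Algebra.H1Cotangent.δ A P L a = 0 := hi (by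
          rw [map_zero]
          exact (Algebra.H1Cotangent.exact_δ_mapBaseChange A P L).apply_apply_eq_zero a)
        obtain ⟨e, rfl⟩ := (Algebra.H1Cotangent.exact_map_δ A P L a).mp hδ
        rw [Subsingleton.elim e 0, map_zero]
      rw [hz a, hz c]

end Groth.Agent.S5014
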