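import Groth.Statements.S16430
import Mathlib

set_option autoImplicit false
universe u
open Hensel

namespace Groth.Agent.S16430

/-- For a Noetherian local ring A with residue field k and a finite separable field extension l of k,
there is a local ring E, finite and etale over A with local structure map, whose residue field is
k-isomorphic to l. -/
theorem result (A : Type u)
    [CommRing A] [IsLocalRing A] [IsNoetherianRing A] (l : Type u) [Field l]
    [Algebra (IsLocalRing.ResidueField A) l] [FiniteDimensional (IsLocalRing.ResidueField A) l]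
    [Algebra.IsSeparable (IsLocalRing.ResidueField A) l] :
    ∃ (E : Type u) (_ : CommRing E) (_ : IsLocalRing E) (_ : Algebra A E)
      (_ : IsLocalHom (algebraMap A E)),
      Module.Finite A E ∧ Algebra.Etale A E ∧
        Nonempty (IsLocalRing.ResidueField E ≃ₐ[IsLocalRing.ResidueField A] l) := by
  classical
  let k := IsLocalRing.ResidueField A
  letI : Algebra A l := ((algebraMap k l).comp (algebraMap A k)).toAlgebra
  haveI : IsScalarTower A k l := IsScalarTower.of_algebraMap_eq fun a => rfl
  obtain ⟨α, hα⟩ := Field.exists_primitive_element k l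
  let f₀ := minpoly k α
  have hint : IsIntegral k α := IsIntegral.of_finite k α
  obtain ⟨f, hfmap, -, hf⟩ := Polynomial.lifts_and_degree_eq_and_monic (f := IsLocalRing.residue A) (p := f₀)
    ((Polynomial.lifts_iff_coeff_lifts _).mpr fun n => IsLocalRing.residue_surjective _) (minpoly.monic hint)
  have hev : ∀ g : Polynomial A, Polynomial.aeval α g = Polynomial.aeval α (g.map (IsLocalRing.residue A)) :=
    fun g => (Polynomial.aeval_map_algebraMap k α g).symm
  have hroot : Polynomial.aeval α f = 0 := by rw [hev, hfmap]; exact minpoly.aeval k α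
  let E := AdjoinRoot f
  let θ : E →ₐ[A] l := AdjoinRoot.liftAlgHom f (Algebra.ofId A l) α hroot
  have hθ : ∀ g, θ (AdjoinRoot.mk f g) = Polynomial.aeval α g := fun g => AdjoinRoot.liftAlgHom_mk ..
  haveI : Module.Finite A E := hf.finite_adjoinRoot
  have hsur : Function.Surjective θ := by
    intro z
    have hz : z ∈ Algebra.adjoin k {α} := by
      rw [← IntermediateField.adjoin_simple_toSubalgebra_of_isAlgebraic hint.isAlgebraic, hα]; trivial
    rw [Algebra.adjoin_singleton_eq_range_aeval] at hz
    obtain ⟨g₀, rfl⟩ := hz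
    obtain ⟨g, rfl⟩ := Polynomial.map_surjective (IsLocalRing.residue A) IsLocalRing.residue_surjective g₀
    exact ⟨AdjoinRoot.mk f g, (hθ g).trans (hev g)⟩
  have hker : RingHom.ker θ = (IsLocalRing.maximalIdeal A).map (algebraMap A E) := by
    refine le_antisymm (fun x hx => ?_) (Ideal.map_le_iff_le_comap.mpr fun a ha => ?_)
    · obtain ⟨g, rfl⟩ := AdjoinRoot.mk_surjective x
      rw [RingHom.mem_ker, hθ, hev, ← minpoly.dvd_iff] at hx
      obtain ⟨h₀, hh⟩ := hx
      obtain ⟨h, rfl⟩ := Polynomial.map_surjective (IsLocalRing.residue A) IsLocalRing.residue_surjective h₀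
      have h1 : g - f * h ∈ (IsLocalRing.maximalIdeal A).map Polynomial.C := by
        rw [Ideal.mem_map_C_iff]
        intro n
        rw [← IsLocalRing.residue_eq_zero_iff, ← Polynomial.coeff_map, Polynomial.map_sub, Polynomial.map_mul, hh,
          hfmap, sub_self, Polynomial.coeff_zero]
      have h2 := Ideal.mem_map_of_mem (AdjoinRoot.mk f) h1
      rw [map_sub, map_mul, AdjoinRoot.mk_self, zero_mul, sub_zero, Ideal.map_map] at h2
      exact h2
    · rw [Ideal.mem_comap, RingHom.mem_ker, AlgHom.commutes]
      show algebraMap k l (IsLocalRing.residue A a) = 0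
      rw [(IsLocalRing.residue_eq_zero_iff a).mpr ha, map_zero]
  haveI hmax : (RingHom.ker θ).IsMaximal := RingHom.ker_isMaximal_of_surjective θ hsur
  haveI : Algebra.IsIntegral A E := inferInstance
  haveI : IsLocalRing E := IsLocalRing.of_unique_max_ideal ⟨_, hmax, fun M hM => by
    refine (hmax.eq_of_le hM.ne_top ?_).symm
    rw [hker, Ideal.map_le_iff_le_comap]
    haveI := hM
    exact (IsLocalRing.eq_maximalIdeal (Ideal.isMaximal_comap_of_isIntegral_of_isMaximal M)).ge⟩
  have hkm : IsLocalRing.maximalIdeal E = RingHom.ker θ := (IsLocalRing.eq_maximalIdeal hmax).symm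
  haveI : IsLocalHom (algebraMap A E) := ⟨fun a ha => by
    have h1 := ha.map θ
    rw [θ.commutes] at h1
    by_contra hna
    have h2 : algebraMap A l a = 0 := by
      show algebraMap k l (IsLocalRing.residue A a) = 0
      rw [(IsLocalRing.residue_eq_zero_iff a).mpr ((IsLocalRing.mem_maximalIdeal a).mpr hna), map_zero]
    exact not_isUnit_zero (h2 ▸ h1)⟩
  have hu : IsUnit (AdjoinRoot.mk f (Polynomial.derivative f)) := by
    rw [← IsLocalRing.notMem_maximalIdeal, hkm, RingHom.mem_ker, hθ, hev, ← Polynomial.derivative_map, hfmap]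
    exact (Algebra.IsSeparable.isSeparable k α).aeval_derivative_ne_zero (minpoly.aeval k α)
  obtain ⟨p₁, hp₁⟩ := AdjoinRoot.mk_surjective (↑hu.unit⁻¹ : E)
  obtain ⟨h, hh⟩ := (AdjoinRoot.mk_eq_mk (f := f)).mp
    (show AdjoinRoot.mk f (Polynomial.derivative f * p₁) = AdjoinRoot.mk f 1 by
      rw [map_mul, hp₁, IsUnit.mul_val_inv, map_one])
  let P : StandardEtalePair A :=
    { f := f, monic_f := hf, g := 1, cond := ⟨p₁, -h, 1, by rw [pow_one]; linear_combination hh⟩ }
  have hmap : P.HasMap (AdjoinRoot.root f) := ⟨by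
    show Polynomial.aeval (AdjoinRoot.root f) f = 0
    rw [AdjoinRoot.aeval_eq, AdjoinRoot.mk_self], by simp [P]⟩
  let e : P.Ring ≃ₐ[A] E := AlgEquiv.ofAlgHom (P.lift _ hmap)
    (AdjoinRoot.liftAlgHom f (Algebra.ofId A P.Ring) P.X (StandardEtalePair.hasMap_X (P := P)).1)
    (AdjoinRoot.algHom_ext (by
      rw [AlgHom.comp_apply, AdjoinRoot.liftAlgHom_root, StandardEtalePair.lift_X]; rfl))
    (StandardEtalePair.hom_ext (by
      rw [AlgHom.comp_apply, StandardEtalePair.lift_X]; erw [AdjoinRoot.liftAlgHom_root]; rfl))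
  let r : IsLocalRing.ResidueField E ≃+* l :=
    (Ideal.quotEquivOfEq hkm).trans (RingHom.quotientKerEquivOfSurjective hsur)
  refine ⟨E, inferInstance, inferInstance, inferInstance, inferInstance, inferInstance, Algebra.Etale.of_equiv e,
    ⟨AlgEquiv.ofRingEquiv (f := r) fun x => ?_⟩⟩
  obtain ⟨a, rfl⟩ := IsLocalRing.residue_surjective x
  exact θ.commutes a

end Groth.Agent.S16430
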