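import Groth.Statements.S0843
import Groth.Agent.ProjSecLib.Gamma

set_option autoImplicit false
universe u
open Coherent

namespace Groth.Agent.S0843

open CategoryTheory AlgebraicGeometry in
/-- The case q = 0 and d ≥ 0: for a ring R and n, d ≥ 0, the R-module H^0(P^n_R, O(d)) is isomorphic to
the module of homogeneous polynomials of degree d in T_0, …, T_n over R. (The existing degree-zero
row is the case d = 0.) -/
theorem result (R : Type u) [CommRing R] (n d : ℕ) :
    Nonempty (Coh.HH (CohB1.ProjSpace n R) (Twist.twistProjSpace n R (d : ℤ)) 0 ≃ₗ[R]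
      ↥(MvPolynomial.homogeneousSubmodule (Fin (n + 1)) R d)) := by
  classical
  let 𝒮 := CohB1.polyGrading n R
  let g : 𝒮 d → Γ(Twist.twist 𝒮 (d : ℤ), ⊤) := fun a => Twist.globalOf 𝒮 a
  have hg : Function.Bijective g :=
    ⟨ProjSecLib.globalOf_injective, fun t => ProjSecLib.globalOf_surjective t⟩
  have hsmul : ∀ (r : R) (a : 𝒮 d), g (r • a) =
      (show Γ(Proj 𝒮, ⊤) from Coh.toGlobal (CohB1.ProjSpace.toSpec n R) r) • g a :=
    fun r a => ProjSecLib.globalOf_smul r a
  let e0 := DegPullLib.e0 (Twist.twistProjSpace n R (d : ℤ))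
  let e : Coh.HH (CohB1.ProjSpace n R) (Twist.twistProjSpace n R (d : ℤ)) 0 ≃ 𝒮 d :=
    e0.toEquiv.trans (Equiv.ofBijective g hg).symm
  have hge : ∀ x, g (e x) = e0 x := fun x => (Equiv.ofBijective g hg).apply_symm_apply _
  have hadd : ∀ a b, g (a + b) = g a + g b := fun a b => TwistLib.sec_ext fun x => by
    show Localization.mk ((a : MvPolynomial (Fin (n + 1)) R) + b) _ = Localization.mk _ _ + Localization.mk _ _
    rw [Localization.add_mk_self]
  refine ⟨{ toFun := e, invFun := e.symm, left_inv := e.left_inv, right_inv := e.right_inv,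
            map_add' := fun x y => hg.1 ?_, map_smul' := fun r x => hg.1 ?_ }⟩
  · rw [hadd, hge, hge, hge, map_add]
    rfl
  · refine (hge _).trans ((DegPullLib.e0_smul _ _ x).trans ?_)
    refine Eq.trans ?_ (hsmul r (e x)).symm
    exact congrArg _ (hge x).symm

end Groth.Agent.S0843
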