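import Groth.Statements.S4455
import Groth.Agent.LocFFLib.Norm
import Groth.Agent.S7689
import Groth.Agent.NagataFG.FiniteType
import Groth.Agent.NormalLib.CompleteLocal

-- import your own Groth.Agent.* helpers here

set_option autoImplicit false
universe u
open CategoryTheory CategoryTheory.Limits AlgebraicGeometry
open EGA2

namespace Groth.Agent.S4455

theorem nagata_affines (k : Type u) [Field k] {X : Scheme.{u}} (s : X ⟶ Spec (CommRingCat.of k)) [LocallyOfFiniteType s]
    (U : X.affineOpens) : CAlg.IsNagata Γ(X, (U : X.Opens)) := by
  let sU : (CommRingCat.of k : CommRingCat.{u}) ⟶ Γ(X, U.1) :=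
    (Scheme.ΓSpecIso (CommRingCat.of k)).inv ≫ s.appLE ⊤ U.1 (by simp)
  letI : Algebra k Γ(X, U.1) := sU.hom.toAlgebra
  haveI : Algebra.FiniteType k Γ(X, U.1) := by
    show sU.hom.FiniteType
    simp only [sU, CommRingCat.hom_comp]
    exact (LocallyOfFiniteType.finiteType_appLE s (isAffineOpen_top _) U.2 (by simp)).comp
      (RingHom.FiniteType.of_surjective _
        (Scheme.ΓSpecIso (CommRingCat.of k)).symm.commRingCatIsoToRingEquiv.surjective)
  haveI : IsAdicComplete (IsLocalRing.maximalIdeal k) k := by
    rw [IsLocalRing.isField_iff_maximalIdeal_eq.1 (Field.toIsField k)]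
    infer_instance
  exact NagataFG.isNagata_of_finiteType k (NormalLib.isNagata_of_isAdicComplete_local k) _

theorem isFinite_ν (k : Type u) [Field k] (X : Scheme.{u}) (s : X ⟶ Spec (CommRingCat.of k)) [IsIntegral X]
    [LocallyOfFiniteType s] [QuasiCompact (X.fromSpecStalk (genericPoint X))]
    [QuasiSeparated (X.fromSpecStalk (genericPoint X))] : IsFinite (Curv2.normalizationι X) := by
  haveI := NormDimOneLib.isIntegralHom_normalizationι X
  exact { finite_app := fun U hU => Groth.Agent.S7689.finite_app X (nagata_affines k s) ⟨U, hU⟩ }

theorem surjective_ν (X : Scheme.{u}) [IsIntegral X] [QuasiCompact (X.fromSpecStalk (genericPoint X))]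
    [QuasiSeparated (X.fromSpecStalk (genericPoint X))] : Surjective (Curv2.normalizationι X) := by
  haveI := NormDimOneLib.isIntegralHom_normalizationι X
  refine ⟨fun x => ?_⟩
  have hc : IsClosed (Set.range (Curv2.normalizationι X)) := (Curv2.normalizationι X).isClosedMap.isClosed_range
  have hη : genericPoint X ∈ Set.range (Curv2.normalizationι X) := ⟨_, (LocFFLib.normalization_bir X).1⟩
  exact ((genericPoint_spec X).specializes trivial).mem_closed hc hη


/-- An integral algebraic curve X over a field k is complete (proper over k) if and only if its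
normalization X', with the composite structure morphism X' ⟶ X ⟶ Spec k, is proper over k. (The
quasi-compactness and quasi-separatedness binders on the morphism from the generic point always
hold; they are needed only to form the normalization.) -/
theorem result (k : Type u) [Field k] (X : Scheme.{u})
    [X.Over (Spec (CommRingCat.of k))] [LocallyOfFiniteType (X ↘ (Spec (CommRingCat.of k)))]
    [QuasiCompact (X ↘ (Spec (CommRingCat.of k)))] [IsSeparated (X ↘ (Spec (CommRingCat.of k)))] [IsIntegral X]
    (hX : ∀ x : X, IsClosed ({x} : Set X) → ringKrullDim (X.presheaf.stalk x) = 1)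
    [QuasiCompact (X.fromSpecStalk (genericPoint X))] [QuasiSeparated (X.fromSpecStalk (genericPoint X))] :
    IsProper (X ↘ (Spec (CommRingCat.of k))) ↔ IsProper (Curv2.normalizationι X ≫ (X ↘ (Spec (CommRingCat.of k)))) := by
  let s := X ↘ (Spec (CommRingCat.of k))
  haveI := isFinite_ν k X s
  haveI := surjective_ν X
  refine ⟨fun h => inferInstance, fun h => ?_⟩
  haveI : IsProper (Curv2.normalizationι X ≫ s) := h
  haveI : UniversallyClosed s := UniversallyClosed.of_comp_surjective (Curv2.normalizationι X) s
  exact { }


end Groth.Agent.S4455
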