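import Groth.Statements.S8536
import Groth.Agent.EtAcycLib.Chase
-- import your own Groth.Agent.* helpers here

set_option maxHeartbeats 1000000
set_option backward.isDefEq.respectTransparency false
set_option backward.isDefEq.respectTransparency.types false
set_option autoImplicit false
universe u
open CategoryTheory CategoryTheory.Limits AlgebraicGeometry Opposite
open EtAcyc

namespace Groth.Agent.S8536

/-- Let h : Y → X be a morphism of quasi-compact quasi-separated schemes, L a set of primes and n a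
natural number, and suppose that for every abelian L-torsion sheaf on X the pullback map on etale
cohomology along h is bijective in degrees ≤ n and injective in degree n + 1. Let u : F → G be a
monomorphism of abelian L-torsion sheaves on X and ξ a class in H^{n+1}(Y, h⁻¹F) whose image in
H^{n+1}(Y, h⁻¹G) comes from H^{n+1}(X, G). Then ξ comes from H^{n+1}(X, F). -/
theorem result {X Y : Scheme.{u}} [CompactSpace X] [QuasiSeparatedSpace X]
    [CompactSpace Y] [QuasiSeparatedSpace Y] (h : Y ⟶ X) (L : Set ℕ) (n : ℕ) (hc : EtAcyc.CompN h L n)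
    [PreservesFiniteLimits (EtCoh.pull h)] {F G : EtCoh.Ab X} (u : F ⟶ G) [Mono u]
    (hF : EtAcyc.IsLTorsion L F) (hG : EtAcyc.IsLTorsion L G)
    (ξ : EtCoh.H Y ((EtCoh.pull h).obj F) (n + 1))
    (hξ : (EtCoh.HF Y (n + 1)).map ((EtCoh.pull h).map u) ξ ∈ Set.range (EtCore.Hpull h G (n + 1))) :
    ξ ∈ Set.range (EtCore.Hpull h F (n + 1)) := by
  haveI : PreservesFiniteColimits (EtCoh.pull h) :=
    haveI : PreservesColimitsOfSize.{0, 0} (EtCoh.pull h) := (EtCoh.pullPushAdj h).leftAdjoint_preservesColimits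
    PreservesColimitsOfSize.preservesFiniteColimits _
  let S := ShortComplex.mk u (cokernel.π u) (cokernel.condition u)
  have hS : S.ShortExact := { exact := ShortComplex.exact_of_g_is_cokernel _ (cokernelIsCokernel _) }
  have hS' := hS.map_of_exact (EtCoh.pull h)
  have hC : EtAcyc.IsLTorsion L S.X₃ := EtAcycLib.isLTorsion_of_epi hG (cokernel.π u)
  obtain ⟨η, hη⟩ := hξ
  change EtCoh.H X G (n + 1) at η
  have hη' : EtCore.Hpull h G (n + 1) η = Abelian.Ext.comp ξ (Abelian.Ext.mk₀ ((EtCoh.pull h).map u)) (add_zero (n + 1)) := hη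
  have h0 : Abelian.Ext.comp η (Abelian.Ext.mk₀ S.g) (add_zero (n + 1)) = 0 := by
    apply (hc S.X₃ hC).2
    rw [map_zero, EtAcycLib.Hpull_postcomp, hη', Abelian.Ext.comp_assoc_of_third_deg_zero, Abelian.Ext.mk₀_comp_mk₀,
      ← Functor.map_comp]
    show Abelian.Ext.comp ξ (Abelian.Ext.mk₀ ((EtCoh.pull h).map (u ≫ cokernel.π u))) _ = 0
    rw [cokernel.condition, Functor.map_zero, Abelian.Ext.mk₀_zero, Abelian.Ext.comp_zero]
  obtain ⟨η₁, rfl⟩ := Abelian.Ext.covariant_sequence_exact₂ _ hS η h0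
  change EtCoh.H X F (n + 1) at η₁
  let e : EtCoh.H Y ((EtCoh.pull h).obj F) (n + 1) := ξ - EtCore.Hpull h F (n + 1) η₁
  have h1 : Abelian.Ext.comp e (Abelian.Ext.mk₀ ((EtCoh.pull h).map u)) (add_zero (n + 1)) = 0 := by
    show Abelian.Ext.comp (ξ - EtCore.Hpull h F (n + 1) η₁) (Abelian.Ext.mk₀ ((EtCoh.pull h).map u)) _ = 0
    rw [← Abelian.Ext.bilinearComp_apply_apply, map_sub, AddMonoidHom.sub_apply, Abelian.Ext.bilinearComp_apply_apply,
      Abelian.Ext.bilinearComp_apply_apply, ← EtAcycLib.Hpull_postcomp, ← hη']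
    exact sub_self _
  obtain ⟨c, hc'⟩ := Abelian.Ext.covariant_sequence_exact₁ _ hS' e h1 (n₀ := n) rfl
  obtain ⟨c₁, hc₁⟩ := ((hc S.X₃ hC).1 n le_rfl).2 c
  refine ⟨η₁ + Abelian.Ext.comp c₁ hS.extClass rfl, ?_⟩
  rw [map_add, EtAcycLib.Hpull_delta h hS c₁, hc₁, hc']
  exact add_sub_cancel _ ξ

end Groth.Agent.S8536
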