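import Groth.Statements.S1974
import Groth.Agent.WEtFieldLib.Basic


-- import your own Groth.Agent.* helpers here

set_option autoImplicit false
universe u
open EtAlg

open TensorProduct
namespace Groth.Agent.S1974

/-- Let A -> B be weakly etale and q a prime of B lying over the prime p of A. Then the residue field of
q is a separable algebraic extension of the residue field of p. -/
theorem result (A B : Type u) [CommRing A] [CommRing B] [Algebra A B]
    [Algebra.WeaklyEtale A B] (p : Ideal A) [p.IsPrime] (q : Ideal B) [q.IsPrime] [q.LiesOver p]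
    [Algebra (Localization.AtPrime p) (Localization.AtPrime q)] [Localization.AtPrime.IsLiesOverAlgebra p q] :
    Algebra.IsSeparable p.ResidueField q.ResidueField := by
  let φ : p.ResidueField ⊗[A] B →ₐ[p.ResidueField] q.ResidueField :=
    Algebra.TensorProduct.lift (Algebra.ofId _ _) (IsScalarTower.toAlgHom A B q.ResidueField)
      (fun _ _ => mul_comm _ _)
  let : Algebra (p.ResidueField ⊗[A] B) q.ResidueField := φ.toRingHom.toAlgebra
  have : IsScalarTower p.ResidueField (p.ResidueField ⊗[A] B) q.ResidueField :=
    IsScalarTower.of_algebraMap_eq' φ.comp_algebraMap.symm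
  have : Algebra.IsEpi (p.ResidueField ⊗[A] B) q.ResidueField := WEtFieldLib.isEpi_of_forall_fraction fun a => by
    obtain ⟨x, y, hy, rfl⟩ := IsFractionRing.div_surjective (B ⧸ q) a
    obtain ⟨x, rfl⟩ := Ideal.Quotient.mk_surjective x
    obtain ⟨y, rfl⟩ := Ideal.Quotient.mk_surjective y
    have hb : ∀ b : B, algebraMap (p.ResidueField ⊗[A] B) q.ResidueField (1 ⊗ₜ b) =
        algebraMap (B ⧸ q) q.ResidueField (Ideal.Quotient.mk q b) := fun b => by
      simp [RingHom.algebraMap_toAlgebra, φ, ← IsScalarTower.algebraMap_apply]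
    refine ⟨1 ⊗ₜ x, 1 ⊗ₜ y, ?_, ?_⟩ <;> rw [hb]
    · exact IsFractionRing.to_map_ne_zero_of_mem_nonZeroDivisors hy
    · rw [hb, div_mul_cancel₀]
      exact IsFractionRing.to_map_ne_zero_of_mem_nonZeroDivisors hy
  have : Algebra.WeaklyEtale p.ResidueField q.ResidueField :=
    WEtFieldLib.weaklyEtale_of_epi (B := p.ResidueField ⊗[A] B) _
  exact SweepSix.isSeparable_of_weaklyEtale

end Groth.Agent.S1974
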