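import Groth.Statements.S6977
import Groth.Agent.TwoTermLib.FibreAmp

set_option autoImplicit false
universe u
open CategoryTheory CategoryTheory.Limits
attribute [local instance] HasDerivedCategory.standard
open DRing

namespace Groth.Agent.S6977

/-- Let A → B be a flat local homomorphism of local commutative rings such that B/m_A B is a regular
local ring of dimension d, and assume the derived base change D(A) → D(κ_A) to the residue field of
A exists. Let a, b be integers and K a pseudo-coherent object of D(B) such that H^i((K regarded in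
D(A)) ⊗^L_A κ_A) = 0 for every i outside [a, b]. Then K is perfect as an object of D(B) and has tor
amplitude in [a - d, b] over B. -/
theorem result {A B : Type u} [CommRing A] [CommRing B] [IsLocalRing A]
    [IsLocalRing B] [Algebra A B] [IsLocalHom (algebraMap A B)] [Module.Flat A B] (d : ℕ)
    [IsRegularLocalRing (B ⧸ (IsLocalRing.maximalIdeal A).map (algebraMap A B))]
    (hd : ringKrullDim (B ⧸ (IsLocalRing.maximalIdeal A).map (algebraMap A B)) = d)
    [DRing.HasLBaseChange (IsLocalRing.residue A)] (a b : ℤ) (K : Dual.D B) (hK : DRing.IsPseudoCoherent' B K)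
    (h : ∀ i : ℤ, (i < a ∨ b < i) → Subsingleton (Dual.HD (IsLocalRing.ResidueField A)
      ((DRing.LBaseChange (IsLocalRing.residue A)).obj ((DRing.restrictD (algebraMap A B)).obj K)) i)) :
    DRing.IsPerfect B K ∧ DRing.HasTorAmplitudeIn B (a - d) b K := by
  obtain ⟨P, bK, hPb, hPf, ⟨e⟩⟩ := hK
  have hP : DRing.IsKFlat B P := DRingLib.isKFlat_of_free P bK hPb fun i => (hPf i).2
  let θ := algebraMap A B
  let res := IsLocalRing.residue A
  have hθ : θ.Flat := RingHom.flat_algebraMap_iff.2 inferInstance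
  obtain ⟨C, hC, ⟨eC⟩⟩ := DRingLib.exists_good_rep (DerivedCategory.Q.obj ((DRing.restrictCx θ).obj P))
  let eK : DerivedCategory.Q.obj C ≅ (DRing.restrictD θ).obj K :=
    eC ≪≫ ((ModuleCat.restrictScalars.{u} θ).mapDerivedCategoryFactors.app P).symm ≪≫
      (DRing.restrictD θ).mapIso e
  have hA : ∀ j : ℤ, (j < a ∨ b < j) → IsZero ((KFlatLib.tensorN C
      (ModuleCat.of A (IsLocalRing.ResidueField A))).homology j) := fun j hj => by
    refine (TwoTermLib.Nil.isZero_extCx_tensorN_iff res C (IsLocalRing.ResidueField A)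
      (fun _ _ => rfl) j).1 ((TwoTermLib.FibreAmp.isZero_tensorN_unit_iff j).2 ?_)
    exact (@ModuleCat.isZero_of_subsingleton _ _ _ (h j hj)).of_iso
      ((DerivedCategory.homologyFunctor (ModuleCat.{u} (IsLocalRing.ResidueField A)) j).mapIso
        ((DRing.LBaseChange res).mapIso eK.symm ≪≫ DRingLib.lBaseChangeObjIso res C hC.1) ≪≫
        (DerivedCategory.homologyFunctorFactors
          (ModuleCat.{u} (IsLocalRing.ResidueField A)) j).app _).symm
  let J := (IsLocalRing.maximalIdeal A).map θ
  have hgl : ∀ M : ModuleCat.{u} (B ⧸ J), HasProjectiveDimensionLT M (d + 1) := fun M => by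
    refine ProjLib.hasProjectiveDimensionLT_of_cyclic d (fun I => ?_) M
    refine (CommAlgDim.pdlt_of_isRegularLocalRing (B ⧸ J) ((B ⧸ J) ⧸ I)).mono ?_
    have h1 := IsRegularLocalRing.spanFinrank_maximalIdeal (R := B ⧸ J)
    rw [hd] at h1
    have : (IsLocalRing.maximalIdeal (B ⧸ J)).spanFinrank = d := by exact_mod_cast h1
    omega
  refine TwoTermLib.FibreAmp.perfect_of_fibres hPb hPf e fun m hm i hi => ?_
  obtain rfl : m = IsLocalRing.maximalIdeal B := IsLocalRing.eq_maximalIdeal hm
  have hJ : J ≤ IsLocalRing.maximalIdeal B := ((IsLocalRing.local_hom_TFAE θ).out 0 2 rfl rfl).1 (inferInstanceAs (IsLocalHom (algebraMap A B)))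
  letI : Module (B ⧸ J) (B ⧸ IsLocalRing.maximalIdeal B) :=
    Module.compHom _ (Ideal.Quotient.factor hJ)
  refine TwoTermLib.FibreAmp.isZero_tensorN_of_fibre (Ideal.Quotient.mk J) d hgl hP
    (a := a) (b := b) (fun j hj => ?_) (B ⧸ IsLocalRing.maximalIdeal B) (fun r x => ?_) i hi
  · let e' : (ModuleCat.extendScalars.{u, u, u} θ).obj (ModuleCat.of A (IsLocalRing.ResidueField A)) ≅
        (ModuleCat.restrictScalars.{u} (Ideal.Quotient.mk J)).obj (ModuleCat.of (B ⧸ J) (B ⧸ J)) :=
      ((DRingLib.extendScalarsEquiv (A := A) (B := B)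
        (ModuleCat.of A (IsLocalRing.ResidueField A))).trans
        ((Algebra.TensorProduct.quotIdealMapEquivTensorQuot B
          (IsLocalRing.maximalIdeal A)).toLinearEquiv.symm.trans
        ({ AddEquiv.refl (B ⧸ J) with map_smul' := fun _ _ => rfl } :
          (B ⧸ J) ≃ₗ[B] ((ModuleCat.restrictScalars.{u} (Ideal.Quotient.mk J)).obj
            (ModuleCat.of (B ⧸ J) (B ⧸ J)))))).toModuleIso
    rw [← TwoTermLib.FibreAmp.isZero_homology_tensorN_of_iso P e' j,
      ← TwoTermLib.FibreAmp.isZero_tensorN_ext_of_res θ hθ hP hC.1 eC]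
    exact hA j hj
  · rfl

end Groth.Agent.S6977
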