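import Groth.Statements.S1598
import Groth.Agent.CplFibreLib.Basic

set_option autoImplicit false
set_option backward.isDefEq.respectTransparency false
set_option backward.isDefEq.respectTransparency.types false
universe u
open CategoryTheory CategoryTheory.Limits AlgebraicGeometry
open Resolve

namespace Groth.Agent.S1598

/-- Let A be a Noetherian local ring with completion A^, X locally of finite type over Spec A, Y its
base change to Spec A^, and y a point of Y lying over the closed point of Spec A^ with image x in X.
Then the local ring of Y at y is regular if and only if the local ring of X at x is regular. -/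
theorem result (A : Type u) [CommRing A] [IsLocalRing A] [IsNoetherianRing A]
    (X : Scheme.{u}) (f : X ⟶ Spec (CommRingCat.of A)) [LocallyOfFiniteType f]
    (y : Curv2.bcCpl A f) (hy : (Curv2.bcCplSnd A f).base y = IsLocalRing.closedPoint (Curv2.cpl A)) :
    IsRegularLocalRing ((Curv2.bcCpl A f).presheaf.stalk y) ↔
      IsRegularLocalRing (X.presheaf.stalk ((Curv2.bcCplFst A f).base y)) := by
  obtain ⟨_, _, hlh, -, -⟩ :=
    CohenLib.completion_facts A (IsLocalRing.maximalIdeal A) (IsLocalRing.maximalIdeal.isMaximal A).ne_top
  haveI : IsLocalHom (CommRingCat.ofHom (algebraMap A (Curv2.cpl A))).hom := hlh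
  haveI : IsLocallyNoetherian X := LocallyOfFiniteType.isLocallyNoetherian f
  haveI : LocallyOfFiniteType (Curv2.bcCplSnd A f) := MorphismProperty.pullback_snd _ _ inferInstance
  haveI : IsLocallyNoetherian (Curv2.bcCpl A f) := LocallyOfFiniteType.isLocallyNoetherian (Curv2.bcCplSnd A f)
  haveI : Flat (Spec.map (CommRingCat.ofHom (algebraMap A (Curv2.cpl A)))) :=
    (HasRingHomProperty.Spec_iff (P := @Flat)).2 (RingHom.flat_algebraMap_iff.2 inferInstance)
  haveI : Flat (Curv2.bcCplFst A f) := MorphismProperty.pullback_fst _ _ inferInstance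
  have hq : f (Curv2.bcCplFst A f y) = IsLocalRing.closedPoint A := by
    rw [← Scheme.Hom.comp_apply, pullback.condition, Scheme.Hom.comp_apply]
    show Spec.map _ (Curv2.bcCplSnd A f y) = _
    erw [hy]
    exact IsLocalRing.comap_closedPoint _
  obtain ⟨_, _, h1, h2, -⟩ := CplFibreLib.congrPows_stalkMap A (IsNoetherian.noetherian _) f y hq
  let φ := ((Curv2.bcCplFst A f).stalkMap y).hom
  letI := φ.toAlgebra
  haveI : Module.Flat (X.presheaf.stalk (Curv2.bcCplFst A f y)) ((Curv2.bcCpl A f).presheaf.stalk y) :=
    Flat.stalkMap (Curv2.bcCplFst A f) y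
  haveI : IsLocalHom (algebraMap (X.presheaf.stalk (Curv2.bcCplFst A f y)) ((Curv2.bcCpl A f).presheaf.stalk y)) :=
    inferInstanceAs (IsLocalHom φ)
  exact (CohenLib.isRegularLocalRing_iff_of_flat_unramified _ _ h1 h2).symm

end Groth.Agent.S1598
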