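import Groth.Statements.S1597
import Groth.Agent.S1598
import Groth.Agent.MiscFlat6.ClosedPts

set_option autoImplicit false
set_option backward.isDefEq.respectTransparency false
set_option backward.isDefEq.respectTransparency.types false
universe u
open CategoryTheory CategoryTheory.Limits AlgebraicGeometry
open Resolve

namespace Groth.Agent.S1597
theorem closed_eq {R : Type u} [CommRing R] [IsLocalRing R] (P : PrimeSpectrum R)
    (h : IsClosed ({P} : Set (PrimeSpectrum R))) : P = IsLocalRing.closedPoint R :=
  PrimeSpectrum.ext (IsLocalRing.eq_maximalIdeal ((PrimeSpectrum.isClosed_singleton_iff_isMaximal P).1 h))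

/-- Let A be a Noetherian local ring with completion A^, X a scheme proper over Spec A and Y its base
change to Spec A^. Then all local rings of X are regular if and only if all local rings of Y are
regular. -/
theorem result (A : Type u) [CommRing A] [IsLocalRing A] [IsNoetherianRing A]
    (X : Scheme.{u}) (f : X ⟶ Spec (CommRingCat.of A)) [IsProper f] :
    (∀ x : X, IsRegularLocalRing (X.presheaf.stalk x)) ↔
      ∀ y : Curv2.bcCpl A f, IsRegularLocalRing ((Curv2.bcCpl A f).presheaf.stalk y) := by
  obtain ⟨_, _, hlh, -, -⟩ :=
    CohenLib.completion_facts A (IsLocalRing.maximalIdeal A) (IsLocalRing.maximalIdeal.isMaximal A).ne_top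
  haveI : IsLocalHom (CommRingCat.ofHom (algebraMap A (Curv2.cpl A))).hom := hlh
  haveI : IsLocallyNoetherian X := LocallyOfFiniteType.isLocallyNoetherian f
  haveI : IsProper (Curv2.bcCplSnd A f) := MorphismProperty.pullback_snd _ _ inferInstance
  haveI : IsLocallyNoetherian (Curv2.bcCpl A f) := LocallyOfFiniteType.isLocallyNoetherian (Curv2.bcCplSnd A f)
  rw [MiscFlat6.isRegularLocalRing_stalk_iff, MiscFlat6.isRegularLocalRing_stalk_iff]
  constructor
  · intro h y hy
    have hy' : Curv2.bcCplSnd A f y = IsLocalRing.closedPoint (Curv2.cpl A) :=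
      closed_eq _ (by simpa using (Curv2.bcCplSnd A f).isClosedMap _ hy)
    exact (Groth.Agent.S1598.result A X f y hy').2 ((MiscFlat6.isRegularLocalRing_stalk_iff.2 h) _)
  · intro h x hx
    have hx' : f x = IsLocalRing.closedPoint A := closed_eq _ (by simpa using f.isClosedMap _ hx)
    obtain ⟨y, hy1, hy2⟩ := Scheme.Pullback.exists_preimage_pullback (f := f)
      (g := Spec.map (CommRingCat.ofHom (algebraMap A (Curv2.cpl A)))) x (IsLocalRing.closedPoint (Curv2.cpl A))
      (hx'.trans (IsLocalRing.comap_closedPoint _).symm)
    rw [← hy1]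
    exact (Groth.Agent.S1598.result A X f y hy2).1 ((MiscFlat6.isRegularLocalRing_stalk_iff.2 h) y)

end Groth.Agent.S1597
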