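import Groth.Statements.S6666
import Mathlib

set_option autoImplicit false
universe u
open CategoryTheory AlgebraicGeometry
open Lim

namespace Groth.Agent.S6666
open CategoryTheory CategoryTheory.Limits AlgebraicGeometry

/-- The standard open of `Spec R`. -/
abbrev bo (R : CommRingCat.{u}) (f : R) : (Spec R).Opens := PrimeSpectrum.basicOpen f

/-- Opens of `Spec R` which are standard opens around `p`. -/
abbrev Nhd (R : CommRingCat.{u}) (p : Ideal R) : Type u :=
  {V : (Spec R).Opens // ∃ f : R, f ∉ p ∧ V = bo R f}

theorem nonempty_nhd (R : CommRingCat.{u}) (p : Ideal R) [p.IsPrime] : Nonempty (Nhd R p) :=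
  ⟨⟨⊤, 1, fun h => (inferInstance : p.IsPrime).ne_top ((Ideal.eq_top_iff_one p).mpr h),
    PrimeSpectrum.basicOpen_one.symm⟩⟩

theorem isCodirected_nhd (R : CommRingCat.{u}) (p : Ideal R) [p.IsPrime] : IsCodirectedOrder (Nhd R p) := ⟨by
    rintro ⟨V, f, hf, rfl⟩ ⟨V', g, hg, rfl⟩
    refine ⟨⟨bo R (f * g), f * g,
      fun h => ((inferInstance : p.IsPrime).mem_or_mem h).elim hf hg, rfl⟩, ?_, ?_⟩
    · exact PrimeSpectrum.basicOpen_mul_le_left f g
    · exact PrimeSpectrum.basicOpen_mul_le_right f g⟩

theorem isCofiltered_nhd (R : CommRingCat.{u}) (p : Ideal R) [p.IsPrime] : IsCofiltered (Nhd R p) := by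
  haveI := nonempty_nhd R p
  haveI := isCodirected_nhd R p
  infer_instance

theorem isAffine_nhd (R : CommRingCat.{u}) (p : Ideal R) (V : Nhd R p) : IsAffine (V.1 : Scheme) := by
  obtain ⟨V, f, -, rfl⟩ := V
  exact IsAffineOpen.Spec_basicOpen f

/-- The system of standard neighbourhoods. -/
noncomputable def sys {T : Scheme.{u}} {R : CommRingCat.{u}} (g : Spec R ⟶ T) (p : Ideal R) :
    Nhd R p ⥤ Over T where
  obj V := Over.mk (V.1.ι ≫ g)
  map {V W} m := Over.homMk ((Spec R).homOfLE (leOfHom m)) (by simp)
  map_id V := by ext1; simp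
  map_comp a b := by ext1; simp

theorem isUnit_of_basicOpen_top (X : Scheme.{u}) (a : Γ(X, ⊤)) (h : X.basicOpen a = ⊤) : IsUnit a := by
  obtain ⟨b, hb⟩ := (RingedSpace.isUnit_res_basicOpen X.toRingedSpace a).exists_right_inv
  have hu := RingedSpace.isUnit_res_basicOpen X.toRingedSpace a
  have hiso : IsIso (X.presheaf.map (homOfLE (X.basicOpen_le a)).op) := by
    rw [show (homOfLE (X.basicOpen_le a)).op = eqToHom (by rw [h]) from Subsingleton.elim _ _]
    infer_instance
  exact (isUnit_map_iff (X.presheaf.map (homOfLE (X.basicOpen_le a)).op).hom a).mp hu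

/-- A property passing to limits of affine systems passes from all standard neighbourhoods to the local
scheme at a prime. -/
theorem local_scheme (T : Scheme.{u}) (P : ∀ ⦃T' : Scheme.{u}⦄, (T' ⟶ T) → Prop)
    (h2 : ∀ ⦃I : Type u⦄ [SmallCategory I] [IsCofiltered I] (D : I ⥤ Over T) (c : Limits.Cone D) (_ : Limits.IsLimit c),
      (∀ (i j : I) (m : i ⟶ j), IsAffineHom (D.map m).left) →
      (∀ i, CompactSpace (D.obj i).left ∧ QuasiSeparatedSpace (D.obj i).left) →
      (∀ i, P (D.obj i).hom) → P c.pt.hom)
    {R : CommRingCat.{u}} (g : Spec R ⟶ T) (p : Ideal R) [p.IsPrime]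
    (hP : ∀ f : R, f ∉ p → P ((bo R f).ι ≫ g)) :
    P (Spec.map (CommRingCat.ofHom (algebraMap R (Localization.AtPrime p))) ≫ g) := by
  let A := CommRingCat.of (Localization.AtPrime p)
  let l : Spec A ⟶ Spec R := Spec.map (CommRingCat.ofHom (algebraMap R (Localization.AtPrime p)))
  haveI : Mono l := by
    haveI : IsPreimmersion l := IsPreimmersion.of_isLocalization p.primeCompl
    infer_instance
  haveI := isCofiltered_nhd R p
  haveI := isCodirected_nhd R p
  have hl : ∀ V : Nhd R p, Set.range l ⊆ Set.range V.1.ι := by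
    rintro ⟨V, f, hf, rfl⟩ _ ⟨y, rfl⟩
    rw [Scheme.Opens.range_ι]
    show algebraMap R (Localization.AtPrime p) f ∉ y.asIdeal
    exact fun h => y.isPrime.ne_top (Ideal.eq_top_of_isUnit_mem _ h
      (IsLocalization.map_units (Localization.AtPrime p) (⟨f, hf⟩ : p.primeCompl)))
  let c : Cone (sys g p) :=
    { pt := Over.mk (l ≫ g)
      π :=
        { app := fun (V : Nhd R p) => Over.homMk (U := Over.mk (l ≫ g)) (V := Over.mk (V.1.ι ≫ g)) (IsOpenImmersion.lift V.1.ι l (hl V))
            (by show IsOpenImmersion.lift _ _ _ ≫ V.1.ι ≫ g = l ≫ g; rw [IsOpenImmersion.lift_fac_assoc])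
          naturality := fun V W m => by
            ext1
            show 𝟙 _ ≫ IsOpenImmersion.lift W.1.ι l (hl W) =
              IsOpenImmersion.lift V.1.ι l (hl V) ≫ (Spec R).homOfLE (leOfHom m)
            rw [← cancel_mono W.1.ι]
            simp } }
  let V0 : Nhd R p := (nonempty_nhd R p).some
  have hfac : ∀ s : Cone (sys g p), ∃ w : s.pt.left ⟶ Spec A, w ≫ l = (s.π.app V0).left ≫ V0.1.ι := by
    intro s
    let h0 : s.pt.left ⟶ Spec R := (s.π.app V0).left ≫ V0.1.ι
    have hconst : ∀ V : Nhd R p, (s.π.app V).left ≫ V.1.ι = h0 := by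
      intro V
      obtain ⟨W, hW, hW'⟩ := exists_le_le V V0
      rw [← s.w (homOfLE hW), show h0 = (s.π.app V0).left ≫ V0.1.ι from rfl, ← s.w (homOfLE hW')]
      simp [sys]
    let φ : R ⟶ Γ(s.pt.left, ⊤) := (Scheme.ΓSpecIso R).inv ≫ h0.appTop
    have hunit : ∀ f : p.primeCompl, IsUnit (φ.hom f) := by
      intro f
      have hpre : h0 ⁻¹ᵁ (PrimeSpectrum.basicOpen (f : R)) = ⊤ := by
        rw [eq_top_iff]
        intro x _
        rw [← hconst ⟨_, f.1, f.2, rfl⟩]
        show ((s.π.app _).left ≫ Scheme.Opens.ι _) x ∈ PrimeSpectrum.basicOpen (f : R)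
        exact ((s.π.app (⟨_, f.1, f.2, rfl⟩ : Nhd R p)).left x).2
      rw [← basicOpen_eq_of_affine, Scheme.preimage_basicOpen_top] at hpre
      exact isUnit_of_basicOpen_top s.pt.left _ hpre
    let ψ : A ⟶ Γ(s.pt.left, ⊤) := CommRingCat.ofHom (IsLocalization.lift hunit)
    refine ⟨s.pt.left.toSpecΓ ≫ Spec.map ψ, ?_⟩
    rw [Category.assoc, ← Spec.map_comp]
    have hψ : CommRingCat.ofHom (algebraMap R (Localization.AtPrime p)) ≫ ψ = φ := by
      ext x; exact IsLocalization.lift_eq hunit x
    rw [hψ, show φ = (Scheme.ΓSpecIso R).inv ≫ h0.appTop from rfl, Spec.map_comp,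
      ← Scheme.toSpecΓ_naturality_assoc]
    simp [← SpecMap_ΓSpecIso_hom, ← Spec.map_comp, h0]
  have hc : IsLimit c :=
    { lift := fun s => Over.homMk (hfac s).choose (by
        show (hfac s).choose ≫ l ≫ g = s.pt.hom
        rw [reassoc_of% (hfac s).choose_spec]
        exact Over.w (s.π.app V0))
      fac := fun s V => by
        ext1
        obtain ⟨W, hW, hW'⟩ := exists_le_le V V0
        show (hfac s).choose ≫ IsOpenImmersion.lift V.1.ι l (hl V) = (s.π.app V).left
        rw [← cancel_mono V.1.ι, Category.assoc, IsOpenImmersion.lift_fac, (hfac s).choose_spec,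
          ← s.w (homOfLE hW), ← s.w (homOfLE hW')]
        simp [sys]
      uniq := fun s m hm => by
        ext1
        show m.left = (hfac s).choose
        rw [← cancel_mono l, (hfac s).choose_spec, ← hm V0]
        show m.left ≫ l = (m.left ≫ IsOpenImmersion.lift V0.1.ι l (hl V0)) ≫ V0.1.ι
        rw [Category.assoc, IsOpenImmersion.lift_fac] }
  have := h2 (sys g p) c hc
    (fun V W m => by
      haveI := isAffine_nhd R p V
      haveI := isAffine_nhd R p W
      show IsAffineHom ((Spec R).homOfLE (leOfHom m))
      infer_instance)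
    (fun V => by
      haveI : IsAffine ((sys g p).obj V).left := isAffine_nhd R p V
      exact ⟨inferInstance, inferInstance⟩)
    (fun V => by
      obtain ⟨V, f, hf, rfl⟩ := V
      exact hP f hf)
  exact this

/-- Let T be a nonempty quasi-compact quasi-separated scheme and P a property of schemes over T (applied
to quasi-compact quasi-separated ones). Assume: (1) for every thickening T'' → T' (a surjective
closed immersion) of quasi-compact quasi-separated schemes over T, P(T'') if and only if P(T'); (2)
if a scheme T' over T is a limit (in schemes over T) of a cofiltered system of quasi-compact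
quasi-separated schemes over T with affine transition morphisms and P holds for every member, then
P(T'); (3) if T' is quasi-compact quasi-separated over T with P(T') and Z ⊂ T' is a closed subscheme
whose open complement V is quasi-compact, then P(V) or P(Z). Then P(T) implies P(Spec K → T) for
some field K and some morphism Spec K → T. (The published statement does not require T nonempty; for
T empty and P identically true there is no morphism from the spectrum of a field to T, so
nonemptiness is assumed here.) -/
theorem result (T : Scheme.{u}) [CompactSpace T] [QuasiSeparatedSpace T]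
    [Nonempty T] (P : ∀ ⦃T' : Scheme.{u}⦄, (T' ⟶ T) → Prop)
    (h1 : ∀ ⦃T' T'' : Scheme.{u}⦄ (a : T' ⟶ T) (t : T'' ⟶ T') [IsClosedImmersion t] [Surjective t]
      [CompactSpace T'] [QuasiSeparatedSpace T'] [CompactSpace T''] [QuasiSeparatedSpace T''], P (t ≫ a) ↔ P a)
    (h2 : ∀ ⦃I : Type u⦄ [SmallCategory I] [IsCofiltered I] (D : I ⥤ Over T) (c : Limits.Cone D) (_ : Limits.IsLimit c),
      (∀ (i j : I) (m : i ⟶ j), IsAffineHom (D.map m).left) →
      (∀ i, CompactSpace (D.obj i).left ∧ QuasiSeparatedSpace (D.obj i).left) →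
      (∀ i, P (D.obj i).hom) → P c.pt.hom)
    (h3 : ∀ ⦃T' Z V : Scheme.{u}⦄ (a : T' ⟶ T) [CompactSpace T'] [QuasiSeparatedSpace T'] (i : Z ⟶ T') [IsClosedImmersion i]
      (j : V ⟶ T') [IsOpenImmersion j] [CompactSpace V], Set.range j = (Set.range i)ᶜ → P a → P (j ≫ a) ∨ P (i ≫ a))
    (hT : P (𝟙 T)) :
    ∃ (K : Type u) (_ : Field K) (t : Spec (CommRingCat.of K) ⟶ T), P t := by
  haveI : QuasiSeparatedSpace T := inferInstance
  let S : Set T.IdealSheafData := {I | Nonempty I.subscheme ∧ P I.subschemeι}
  have hbot : (⊥ : T.IdealSheafData) ∈ S := by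
    have hs : Surjective (⊥ : T.IdealSheafData).subschemeι := ⟨fun x => by
      have := (⊥ : T.IdealSheafData).range_subschemeι
      rw [Scheme.IdealSheafData.support_bot] at this
      show x ∈ Set.range _
      rw [this]; trivial⟩
    refine ⟨?_, ?_⟩
    · obtain ⟨x⟩ := ‹Nonempty T›
      exact ⟨(hs.surj x).choose⟩
    · haveI : CompactSpace (⊥ : T.IdealSheafData).subscheme :=
        QuasiCompact.compactSpace_of_compactSpace (⊥ : T.IdealSheafData).subschemeι
      haveI : QuasiSeparatedSpace (⊥ : T.IdealSheafData).subscheme :=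
        quasiSeparatedSpace_of_quasiSeparated (⊥ : T.IdealSheafData).subschemeι
      have := (h1 (𝟙 T) (⊥ : T.IdealSheafData).subschemeι).mpr hT
      rwa [Category.comp_id] at this
  obtain ⟨I, -, ⟨hI, hPI⟩, hmax⟩ : ∃ I, ⊥ ≤ I ∧ I ∈ S ∧ ∀ J ∈ S, I ≤ J → J ≤ I := by
    suffices hub : ∀ c ⊆ S, IsChain (· ≤ ·) c → ∀ y ∈ c, ∃ ub ∈ S, ∀ z ∈ c, z ≤ ub by
      obtain ⟨I, h, hI⟩ := zorn_le_nonempty₀ S hub ⊥ hbot
      exact ⟨I, h, hI.1, fun J hJ h' => hI.2 hJ h'⟩
    intro c hcS hc y hy
    haveI : Nonempty c := ⟨⟨y, hy⟩⟩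
    haveI : IsDirectedOrder c := ⟨fun a b => (hc.total a.2 b.2).elim (fun h => ⟨b, h, le_rfl⟩) fun h => ⟨a, le_rfl, h⟩⟩
    refine ⟨sSup c, ⟨?_, ?_⟩, fun z hz => le_sSup hz⟩
    · have hne : (((sSup c).support : TopologicalSpace.Closeds T) : Set T).Nonempty := by
        rw [Scheme.IdealSheafData.support_sSup, TopologicalSpace.Closeds.coe_iInf]
        simp only [TopologicalSpace.Closeds.coe_iInf]
        rw [Set.iInter_congr (fun z => rfl), ← Set.iInter_subtype (p := (· ∈ c)) (s := fun z => ((z.1.support : TopologicalSpace.Closeds T) : Set T))]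
        refine IsCompact.nonempty_iInter_of_directed_nonempty_isCompact_isClosed _ ?_ ?_ ?_ ?_
        · intro a b
          rcases hc.total a.2 b.2 with h | h
          · exact ⟨b, Scheme.IdealSheafData.support_antitone h, subset_rfl⟩
          · exact ⟨a, subset_rfl, Scheme.IdealSheafData.support_antitone h⟩
        · intro a
          rw [← a.1.range_subschemeι]
          exact Set.range_nonempty_iff_nonempty.mpr (hcS a.2).1
        · exact fun a => a.1.support.isClosed.isCompact
        · exact fun a => a.1.support.isClosed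
      rw [← Scheme.IdealSheafData.range_subschemeι] at hne
      exact Set.range_nonempty_iff_nonempty.mp hne
    · let D : cᵒᵖ ⥤ Over T :=
        { obj := fun a => Over.mk a.unop.1.subschemeι
          map := fun {a b} m => Over.homMk
            (Scheme.IdealSheafData.inclusion (I := b.unop.1) (J := a.unop.1) (leOfHom m.unop)) (by simp)
          map_id := fun a => by ext1; simp
          map_comp := fun f g => by ext1; simp }
      let K := sSup c
      let cn : Cone D :=
        { pt := Over.mk K.subschemeι
          π :=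
            { app := fun a => Over.homMk (Scheme.IdealSheafData.inclusion (le_sSup a.unop.2)) (by simp [D])
              naturality := fun a b m => by ext1; simp [D] } }
      have hker : ∀ s : Cone D, K.subschemeι.ker ≤ s.pt.hom.ker := fun s => by
        rw [Scheme.IdealSheafData.ker_subschemeι]
        refine sSup_le fun z hz => ?_
        exact le_trans (Scheme.IdealSheafData.ker_subschemeι z).ge
          (le_trans (Scheme.Hom.le_ker_comp (s.π.app (Opposite.op ⟨z, hz⟩)).left z.subschemeι)
            (le_of_eq (congrArg Scheme.Hom.ker (Over.w (s.π.app (Opposite.op ⟨z, hz⟩))))))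
      have hcn : IsLimit cn :=
        { lift := fun s => Over.homMk (IsClosedImmersion.lift K.subschemeι s.pt.hom (hker s))
            (IsClosedImmersion.lift_fac _ _ _)
          fac := fun s a => by
            ext1
            rw [← cancel_mono a.unop.1.subschemeι]
            have := Over.w (s.π.app a)
            simp [cn, D] at this ⊢
            exact this.symm
          uniq := fun s m hm => by
            ext1
            show m.left = IsClosedImmersion.lift _ _ _
            rw [← cancel_mono K.subschemeι, IsClosedImmersion.lift_fac]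
            exact Over.w m }
      refine h2 D cn hcn (fun a b m => ?_) (fun a => ?_) fun a => (hcS a.unop.2).2
      · show IsAffineHom (Scheme.IdealSheafData.inclusion _)
        infer_instance
      · exact ⟨QuasiCompact.compactSpace_of_compactSpace a.unop.1.subschemeι,
          quasiSeparatedSpace_of_quasiSeparated a.unop.1.subschemeι⟩
  haveI := hI
  haveI : CompactSpace I.subscheme := QuasiCompact.compactSpace_of_compactSpace I.subschemeι
  haveI : QuasiSeparatedSpace I.subscheme := quasiSeparatedSpace_of_quasiSeparated I.subschemeι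
  have hopen : ∀ {V : Scheme.{u}} (j : V ⟶ I.subscheme) [IsOpenImmersion j] [CompactSpace V] [Nonempty V],
      P (j ≫ I.subschemeι) := by
    intro V j _ _ _
    let C : TopologicalSpace.Closeds I.subscheme := ⟨(Set.range j)ᶜ, j.isOpenEmbedding.isOpen_range.isClosed_compl⟩
    let i := (Scheme.IdealSheafData.vanishingIdeal C).subschemeι
    have hri : Set.range i = (Set.range j)ᶜ := by
      rw [Scheme.IdealSheafData.range_subschemeι, Scheme.IdealSheafData.coe_support_vanishingIdeal]
      rfl
    rcases h3 I.subschemeι i j (by rw [hri, compl_compl]) hPI with h | h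
    · exact h
    haveI : CompactSpace (Scheme.IdealSheafData.vanishingIdeal C).subscheme :=
      QuasiCompact.compactSpace_of_compactSpace i
    haveI : QuasiSeparatedSpace (Scheme.IdealSheafData.vanishingIdeal C).subscheme :=
      quasiSeparatedSpace_of_quasiSeparated i
    by_cases hC : Nonempty (Scheme.IdealSheafData.vanishingIdeal C).subscheme
    · exfalso
      let f := i ≫ I.subschemeι
      haveI : CompactSpace f.image := QuasiCompact.compactSpace_of_compactSpace f.imageι
      haveI : QuasiSeparatedSpace f.image := quasiSeparatedSpace_of_quasiSeparated f.imageι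
      haveI : IsIso f.toImage := inferInstance
      have hJ : f.ker ∈ S := by
        refine ⟨hC.map f.toImage, ?_⟩
        refine (h1 f.ker.subschemeι f.toImage).mp ?_
        rw [show f.toImage ≫ f.ker.subschemeι = f from Scheme.Hom.toImage_imageι f]
        exact h
      have hle : I ≤ f.ker :=
        le_trans (Scheme.IdealSheafData.ker_subschemeι I).ge (Scheme.Hom.le_ker_comp _ _)
      have heq : f.ker = I := le_antisymm (hmax _ hJ hle) hle
      obtain ⟨v⟩ := ‹Nonempty V›
      have h4 : I.subschemeι (j v) ∈ (f.ker.support : Set T) := by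
        rw [heq, ← I.range_subschemeι]; exact Set.mem_range_self _
      rw [Scheme.Hom.support_ker, (f.isClosedEmbedding.isClosed_range).closure_eq] at h4
      obtain ⟨z, hz⟩ := h4
      have h5 : j v ∈ Set.range i := ⟨z, I.subschemeι.isClosedEmbedding.injective hz⟩
      rw [hri] at h5
      exact h5 ⟨v, rfl⟩
    · haveI : Surjective j := ⟨fun x => by
        by_contra hx
        have : x ∈ Set.range i := by rw [hri]; exact hx
        exact hC ⟨this.choose⟩⟩
      haveI : IsIso j := (isIso_iff_isOpenImmersion_and_surjective j).mpr ⟨inferInstance, inferInstance⟩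
      haveI : QuasiSeparatedSpace V := quasiSeparatedSpace_of_quasiSeparated j
      exact (h1 I.subschemeι j).mpr hPI
  obtain ⟨x⟩ := hI
  obtain ⟨U, hU, hxU, -⟩ := exists_isAffineOpen_mem_and_subset (TopologicalSpace.Opens.mem_top x)
  let R := Γ(I.subscheme, U)
  haveI : Nonempty U := ⟨⟨x, hxU⟩⟩
  haveI : Nontrivial R := inferInstance
  obtain ⟨p, hp⟩ := Ideal.nonempty_minimalPrimes (I := (⊥ : Ideal R)) bot_ne_top
  haveI : p.IsPrime := hp.1.1
  let g : Spec R ⟶ T := hU.fromSpec ≫ I.subschemeι
  have hloc := local_scheme T P h2 g p fun f hf => by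
    let j : ((bo R f) : Scheme) ⟶ I.subscheme :=
      (bo R f).ι ≫ hU.fromSpec
    haveI := IsAffineOpen.Spec_basicOpen (R := R) f
    haveI : IsAffine ((bo R f) : Scheme) := this
    haveI : Nonempty ((bo R f) : Scheme) := ⟨⟨⟨p, inferInstance⟩, hf⟩⟩
    have := hopen j
    simpa [j, g] using this
  let A := Localization.AtPrime p
  let t0 : Spec (CommRingCat.of (IsLocalRing.ResidueField A)) ⟶ Spec (CommRingCat.of A) :=
    Spec.map (CommRingCat.ofHom (IsLocalRing.residue A))
  haveI : IsClosedImmersion t0 := IsClosedImmersion.spec_of_surjective _ IsLocalRing.residue_surjective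
  haveI : Surjective t0 := ⟨fun q => by
    refine ⟨⟨⊥, Ideal.bot_prime⟩, PrimeSpectrum.ext ?_⟩
    show Ideal.comap (IsLocalRing.residue A) ⊥ = q.asIdeal
    rw [← RingHom.ker_eq_comap_bot, IsLocalRing.ker_residue]
    have hle : Ideal.comap (algebraMap R A) q.asIdeal ≤ p :=
      (Ideal.comap_mono (IsLocalRing.le_maximalIdeal q.isPrime.ne_top)).trans
        (Localization.AtPrime.comap_maximalIdeal (I := p)).le
    have heq : Ideal.comap (algebraMap R A) q.asIdeal = p :=
      le_antisymm hle (hp.2 ⟨Ideal.IsPrime.comap _, bot_le⟩ hle)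
    calc IsLocalRing.maximalIdeal A
        = Ideal.map (algebraMap R A) (Ideal.comap (algebraMap R A) (IsLocalRing.maximalIdeal A)) :=
          (IsLocalization.map_comap p.primeCompl A _).symm
      _ = Ideal.map (algebraMap R A) (Ideal.comap (algebraMap R A) q.asIdeal) :=
          congrArg _ ((Localization.AtPrime.comap_maximalIdeal (I := p)).trans heq.symm)
      _ = q.asIdeal := IsLocalization.map_comap p.primeCompl A _⟩
  exact ⟨IsLocalRing.ResidueField A, inferInstance, t0 ≫ Spec.map _ ≫ g, (h1 _ t0).mpr hloc⟩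

end Groth.Agent.S6666
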