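import Groth.Statements.S0155
import Groth.Agent.EtProperH0Lib.Main
import Groth.Agent.EtShLib.StrictLocal
import Groth.Agent.EtShLib.SamePoint
import Mathlib.RingTheory.Henselian
import Mathlib.FieldTheory.IsSepClosed

set_option autoImplicit false
universe u
open CategoryTheory CategoryTheory.Limits AlgebraicGeometry Opposite
open EtPBC

namespace Groth.Agent.S0155

/-- Let f : X ⟶ Y be a proper morphism of schemes, ȳ : Spec Ω ⟶ Y a geometric point (Ω a separably
closed field) and F an abelian sheaf on the small étale site of X. Then the stalk (f_* F)_ȳ is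
isomorphic to the group of global sections Γ(X_ȳ, F|X_ȳ) of the pullback of F to the geometric fibre
X_ȳ = X ×_Y Spec Ω. The published statement is stronger: it asserts that the canonical map is
bijective (for sheaves of sets as well); only the existence of an isomorphism of abelian groups is
asserted here. -/
theorem result {X Y : Scheme.{u}} (f : X ⟶ Y) [IsProper f] [EtCoh.BCCont f]
    {Ω : Type u} [Field Ω] [IsSepClosed Ω] (ξ : Spec (CommRingCat.of Ω) ⟶ Y)
    [EtCoh.BCCont (pullback.fst f ξ)] (F : EtCoh.Ab X) :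
    Nonempty ((EtCoh.stalk ξ).obj ((EtCoh.push f).obj F) ≅
      ((EtCoh.pull (pullback.fst f ξ)).obj F).obj.obj (op (EtCoh.top (pullback f ξ)))) := by
  let e := RingEquiv.ofBijective (IsLocalRing.residue Ω)
    ⟨(IsLocalRing.residue Ω).injective, IsLocalRing.residue_surjective⟩
  haveI : IsSepClosed (IsLocalRing.ResidueField Ω) := IsSepClosed.of_exists_root _ fun p hp hirr hsep => by
    obtain ⟨y, hy⟩ := IsSepClosed.exists_root (p.map e.symm.toRingHom)
      (by rw [Polynomial.degree_map]; exact (Polynomial.degree_pos_of_irreducible hirr).ne') hsep.map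
    refine ⟨e y, ?_⟩
    have h := congrArg e.toRingHom hy.eq_zero
    rw [map_zero, Polynomial.eval_map] at h
    rw [Polynomial.hom_eval₂] at h
    rwa [show e.toRingHom.comp e.symm.toRingHom = RingHom.id _ from RingHom.ext e.apply_symm_apply] at h
  let c := Groth.Agent.EtShLib.closedPt Ω
  let H : EtCoh.Ab Y := (EtCoh.push f).obj F
  obtain ⟨a⟩ := Groth.Agent.EtShLib.nonempty_stk_iso_of_eq (A := AddCommGrpCat.{u + 1}) (ξ := ξ) (ξ' := c ≫ ξ)
    (congrArg ξ.base (Subsingleton.elim (c.base default) default))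
  have hc : IsPullback (pullback.fst f ξ) (pullback.snd f ξ) f ξ := IsPullback.of_hasPullback f ξ
  haveI := EtProperH0Lib.isIso_baseChange0 hc F
  let K := (EtCoh.pull ξ).obj H
  haveI : IsIso (Groth.Agent.EtShLib.germ (A := AddCommGrpCat.{u + 1}) c K (EtCoh.top _)
      (Groth.Agent.EtShLib.topPt Ω)) :=
    (ConcreteCategory.isIso_iff_bijective _).2 (Groth.Agent.EtShLib.bijective_germ_top Ω K)
  haveI : IsIso (pullback.snd (𝟙 (Spec (CommRingCat.of Ω))) (pullback.snd f ξ)) :=
    (IsPullback.of_hasPullback (𝟙 _) (pullback.snd f ξ)).isIso_snd_of_isIso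
  let t : (EtCoh.bc (pullback.snd f ξ)).obj (EtCoh.top (Spec (CommRingCat.of Ω))) ≅ EtCoh.top (pullback f ξ) :=
    MorphismProperty.Over.isoMk (@asIso _ _ _ _ (pullback.snd (𝟙 (Spec (CommRingCat.of Ω))) (pullback.snd f ξ)) (IsPullback.of_hasPullback (𝟙 (Spec (CommRingCat.of Ω))) (pullback.snd f ξ)).isIso_snd_of_isIso) (Category.comp_id _)
  exact ⟨a.app H ≪≫ (Groth.Agent.EtShLib.stalkPull ξ c AddCommGrpCat.{u + 1}).app H ≪≫
    (asIso (Groth.Agent.EtShLib.germ (A := AddCommGrpCat.{u + 1}) c K (EtCoh.top _)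
      (Groth.Agent.EtShLib.topPt Ω))).symm ≪≫
    ((sheafToPresheaf _ _).mapIso (asIso (EtCoh.baseChange0 f ξ (pullback.snd f ξ) (pullback.fst f ξ) hc.w F))).app
      (op (EtCoh.top _)) ≪≫
    ((EtCoh.pull (pullback.fst f ξ)).obj F).obj.mapIso t.op.symm⟩

end Groth.Agent.S0155
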