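import Groth.Statements.S9262
import Groth.Agent.HenselDesc.Local
import Groth.Agent.CommAlgDim.Regular
import Groth.Agent.S0507
import Groth.Agent.S0509
import Groth.Agent.S0511
import Groth.Agent.S0538
import Groth.Agent.S0539
import Groth.Agent.S0540

set_option autoImplicit false
universe u
open Hensel

namespace Groth.Agent.S9262

theorem dvr_iff (A : Type u) [CommRing A] [IsLocalRing A] [IsNoetherianRing A] :
    (∃ _ : IsDomain A, IsDiscreteValuationRing A) ↔ (IsRegularLocalRing A ∧ ringKrullDim A = 1) := by
  constructor
  · rintro ⟨_, _⟩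
    exact ⟨inferInstance, IsPrincipalIdealRing.ringKrullDim_eq_one A (IsDiscreteValuationRing.not_isField A)⟩
  · rintro ⟨_, hd⟩
    haveI : IsDomain A := CommAlgDim.isDomain_of_isRegularLocalRing A
    refine ⟨inferInstance, IsLocalRing.finrank_CotangentSpace_eq_one_iff.1 ?_⟩
    have h := (isRegularLocalRing_iff (R := A)).1 inferInstance
    rw [hd, IsLocalRing.spanFinrank_maximalIdeal_eq_finrank_cotangentSpace] at h
    exact_mod_cast h


/-- Let R be a Noetherian local ring with henselization S and strict henselization T. Then R is a
discrete valuation ring exactly when S is one, and exactly when T is one. -/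
theorem result (R S T : Type u)
    [CommRing R] [IsLocalRing R] [IsNoetherianRing R] [CommRing S] [IsLocalRing S] [Algebra R S]
    [IsLocalHom (algebraMap R S)] [Hensel.IsHenselization R S] [CommRing T] [IsLocalRing T]
    [Algebra R T] [IsLocalHom (algebraMap R T)] [Hensel.IsStrictHenselization R T] :
    ((∃ _ : IsDomain R, IsDiscreteValuationRing R) ↔ (∃ _ : IsDomain S, IsDiscreteValuationRing S)) ∧
      ((∃ _ : IsDomain R, IsDiscreteValuationRing R) ↔
        (∃ _ : IsDomain T, IsDiscreteValuationRing T)) := by
  haveI : Module.FaithfullyFlat R S := Groth.Agent.S0509.result R S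
  haveI : IsNoetherianRing S := (Groth.Agent.S0511.result R S).1 inferInstance
  haveI : Module.FaithfullyFlat R T := Groth.Agent.S0539.result R T
  haveI : IsNoetherianRing T := (Groth.Agent.S0540.result R T).1 inferInstance
  have hS := Groth.Agent.S0507.result R S
  have hT := Groth.Agent.S0538.result R T
  rw [dvr_iff R, dvr_iff S, dvr_iff T, HenselDesc.isRegularLocalRing_iff_of_flat_unramified' R S hS,
    HenselDesc.isRegularLocalRing_iff_of_flat_unramified' R T hT,
    CohenLib.ringKrullDim_eq_of_flat_unramified R S hS, CohenLib.ringKrullDim_eq_of_flat_unramified R T hT]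
  exact ⟨Iff.rfl, Iff.rfl⟩

end Groth.Agent.S9262
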