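import Groth.Statements.S8539
import Groth.Agent.SHModelLib.Main
import Groth.Agent.S0541
import Groth.Agent.S2747

set_option autoImplicit false
universe u
open CategoryTheory CategoryTheory.Limits AlgebraicGeometry Opposite
open EtCd

namespace Groth.Agent.S8539

/-- Let X be a scheme of finite type over a field k, x a point of X and A a strict henselization of the
local ring of X at x. Then there are a separably closed field k', a scheme X' of finite type over k'
and a closed point x' of X' such that A is (isomorphic to) a strict henselization of the local ring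
of X' at x': some local algebra structure over that local ring makes A a strict henselization of it. -/
theorem result (k : Type u) [Field k] {X : Scheme.{u}}
    (f : X ⟶ Spec (CommRingCat.of k)) [LocallyOfFiniteType f] [QuasiCompact f] (x : X)
    (A : Type u) [CommRing A] [IsLocalRing A] [Algebra (X.presheaf.stalk x) A]
    [IsLocalHom (algebraMap (X.presheaf.stalk x) A)] [Hensel.IsStrictHenselization (X.presheaf.stalk x) A] :
    ∃ (k' : Type u) (_ : Field k') (_ : IsSepClosed k') (X' : Scheme.{u}) (f' : X' ⟶ Spec (CommRingCat.of k'))
      (_ : LocallyOfFiniteType f') (_ : QuasiCompact f') (x' : X') (_ : IsClosed ({x'} : Set X'))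
      (_ : Algebra (X'.presheaf.stalk x') A) (_ : IsLocalHom (algebraMap (X'.presheaf.stalk x') A)),
      Hensel.IsStrictHenselization (X'.presheaf.stalk x') A := by
  have hx : f.base x = ((IsLocalRing.closedPoint k : PrimeSpectrum k) : ↥(Spec (CommRingCat.of k))) :=
    Subsingleton.elim (α := PrimeSpectrum k) _ _
  obtain ⟨R0, _, _, _, _, i, -, hmax, Rh, _, _, _, _, shR0, X', f', hf1, hf2, x', hcl, -, algX, hlX, shX⟩ :=
    SHModelLib.exists_model k f x hx A
  haveI := shR0
  have hR0 : IsField R0 := by
    rw [IsLocalRing.isField_iff_maximalIdeal_eq, hmax, IsLocalRing.maximalIdeal_eq_bot (R := k), Ideal.map_bot]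
  haveI hd : Ring.KrullDimLE 0 Rh := by
    rw [Ring.krullDimLE_iff, Groth.Agent.S0541.result R0 Rh]
    letI := hR0.toField
    exact (ringKrullDim_eq_zero_of_field R0).le
  haveI : IsReduced Rh := (Groth.Agent.S2747.result R0 Rh).2 inferInstance
  have hRh : IsField Rh := Ring.KrullDimLE.isField_of_isReduced
  let e : Rh ≃+* IsLocalRing.ResidueField Rh := RingEquiv.ofBijective (IsLocalRing.residue Rh)
    ⟨(injective_iff_map_eq_zero _).2 fun a ha => by
      rw [IsLocalRing.residue_eq_zero_iff, IsLocalRing.isField_iff_maximalIdeal_eq.1 hRh, Ideal.mem_bot] at ha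
      exact ha, IsLocalRing.residue_surjective⟩
  haveI := hf1
  haveI := hf2
  haveI : IsIso (Spec.map (CommRingCat.ofHom e.symm.toRingHom)) := by
    have : IsIso (CommRingCat.ofHom e.symm.toRingHom) :=
      (RingEquiv.toCommRingCatIso (e.symm : IsLocalRing.ResidueField Rh ≃+* Rh)).isIso_hom
    exact inferInstance
  exact ⟨IsLocalRing.ResidueField Rh, inferInstance,
    (Hensel.IsStrictHenselization.isSepClosure (R := R0) (S := Rh)).sep_closed, X',
    f' ≫ Spec.map (CommRingCat.ofHom e.symm.toRingHom), inferInstance, inferInstance, x', hcl, algX, hlX, shX⟩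

end Groth.Agent.S8539
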