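import Groth.Statements.S3416
import Groth.Agent.ProperConnLib.Main
import Mathlib

set_option autoImplicit false
open CategoryTheory AlgebraicGeometry
universe u
open EGA43

namespace Groth.Agent.S3416

/-- Let Y be locally Noetherian, f : X ⟶ Y proper and n(z) the geometric number of connected components
of the fibre over z. Let y be a point such that f is universally open at every point of the fibre
over y and that fibre is geometrically reduced over the residue field of y. Then n is constant on a
neighbourhood of y. -/
theorem result {X Y : Scheme.{u}} [IsLocallyNoetherian Y]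
    (f : X ⟶ Y) [IsProper f] (y : Y) (h : ∀ x : X, f.base x = y → EGA43.IsUnivOpenAt f x)
    (hred : GeometricallyReduced (f.fiberToSpecResidueField y)) :
    ∃ V ∈ nhds y, ∀ z ∈ V, MoreMor.nGeomConnComp f z = MoreMor.nGeomConnComp f y := by
  refine ProperConnLib.eventually_nGeomConnComp f y (fun n => n = MoreMor.nGeomConnComp f y) fun y' hy' =>
    le_antisymm (ProperConnLib.le_nGeomConnComp f y h (fun x hx => ?_) hy') (ProperConnLib.nGeomConnComp_le f y h hy')
  have hg : GeometricallyReduced (f.fiberToSpecResidueField (f x)) := by rw [show f x = y from hx]; exact hred
  intro K _ _ x' _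
  haveI : AlgebraicGeometry.IsReduced (FBase.bc (f.fiberToSpecResidueField (f x)) K) :=
    @GeometricallyReduced.geometrically_isReduced _ _ _ hg K _ _ _ _ _ (IsPullback.of_hasPullback _ _)
  infer_instance

end Groth.Agent.S3416
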