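import Groth.Statements.S1364
import Mathlib
import Groth.Agent.ProperFlatModelLib.Basic
import Groth.Agent.S3416

set_option autoImplicit false
universe u
open FlatMor

namespace Groth.Agent.S1364

open AlgebraicGeometry CategoryTheory Limits in
/-- For a flat proper morphism of finite presentation whose geometric fibres are reduced, the function
on the target counting the connected components of the geometric fibres is locally constant. -/
theorem result {X S : Scheme.{u}} (f : X ⟶ S) [IsProper f] [Flat f] [LocallyOfFinitePresentation f] [GeometricallyReduced f] :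
    IsLocallyConstant (fun s : ↑S => MoreMor.nGeomConnComp f s) := by
  rw [IsLocallyConstant.iff_eventually_eq]
  intro s
  obtain ⟨U, hsU, X₀, S₀, f₀, g', g, hpb, hN, hp, hfl, hfp, hz⟩ := ProperFlatModelLib.exists_local_model f s
  haveI : GeometricallyReduced (f ∣_ U) :=
    MorphismProperty.of_isPullback (isPullback_morphismRestrict f U).flip inferInstance
  haveI : GeometricallyReduced ((f ∣_ U).fiberToSpecResidueField ⟨s, hsU⟩) :=
    MorphismProperty.of_isPullback (IsPullback.of_hasPullback _ _) (inferInstance : GeometricallyReduced (f ∣_ U))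
  obtain ⟨V, hV, hVeq⟩ := Groth.Agent.S3416.result f₀ (g ⟨s, hsU⟩)
    (fun x _ => ProperFlatModelLib.isUnivOpenAt f₀ x) (ProperFlatModelLib.gr_fiber_of_isPullback hpb _)
  have h1 : U.ι '' (g ⁻¹' V) ∈ nhds s :=
    U.ι.isOpenEmbedding.isOpenMap.image_mem_nhds
      (x := (⟨s, hsU⟩ : U)) (g.continuous.continuousAt.preimage_mem_nhds hV)
  filter_upwards [h1]
  rintro _ ⟨z, hzV, rfl⟩
  have h2 := hVeq _ hzV
  rw [← hz ⟨s, hsU⟩, ← hz z] at h2
  exact h2

end Groth.Agent.S1364
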