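import Groth.Statements.S5935
import Groth.Agent.RadBoundLib.GrPointwise
import Groth.Agent.RadBoundLib.GrLocus
import Groth.Agent.S1364
import Groth.Agent.SecNhdLib.ProperFibres
-- import your own Groth.Agent.* helpers here

set_option autoImplicit false
open CategoryTheory AlgebraicGeometry
universe u
open EGA43

namespace Groth.Agent.S5935

/-- Let f : X ⟶ Y be a proper, flat morphism of finite presentation and k ≥ 1 a natural number. The set
of points y of Y such that the fibre X_y is geometrically reduced over κ(y) and the geometric number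
of connected components of X_y (the number of connected components after base change to a separable
closure of κ(y)) equals k is open in Y. -/
theorem result {X Y : Scheme.{u}} (f : X ⟶ Y) [IsProper f]
    [Flat f] [LocallyOfFinitePresentation f] (k : ℕ) (hk : 1 ≤ k) :
    IsOpen {y : Y | GeometricallyReduced (f.fiberToSpecResidueField y) ∧ MoreMor.nGeomConnComp f y = k} := by
  let U : Y.Opens := ⟨RadBoundLib.grLocus f, RadBoundLib.isOpen_grLocus_of_isClosedMap f f.isClosedMap⟩
  have h2 : ∀ y, GeometricallyReduced (f.fiberToSpecResidueField y) → y ∈ U := fun y hy => hy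
  have hU : GeometricallyReduced (f ∣_ U) := (RadBoundLib.geometricallyReduced_iff_grLocus _).mpr fun v => by
    rw [RadBoundLib.grLocus_bc f (f ∣_ U) (f ⁻¹ᵁ U).ι U.ι (isPullback_morphismRestrict f U).flip]
    exact v.2
  haveI := hU
  haveI : IsProper (f ∣_ U) := IsZariskiLocalAtTarget.restrict ‹IsProper f› U
  haveI : Flat (f ∣_ U) := IsZariskiLocalAtTarget.restrict ‹Flat f› U
  haveI : LocallyOfFinitePresentation (f ∣_ U) := IsZariskiLocalAtTarget.restrict ‹LocallyOfFinitePresentation f› U
  have hsq := (isPullback_morphismRestrict f U).flip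
  have hlc := Groth.Agent.S1364.result (f ∣_ U)
  have ho := U.ι.isOpenEmbedding.isOpenMap _ (hlc.isOpen_fiber (k : ℕ∞))
  convert ho using 1
  ext y
  constructor
  · rintro ⟨h1, h3⟩
    exact ⟨⟨y, h2 y h1⟩, (SecNhdLib.nGeomConnComp_baseChange hsq ⟨y, h2 y h1⟩).trans h3, rfl⟩
  · rintro ⟨v, hv, rfl⟩
    refine ⟨?_, (SecNhdLib.nGeomConnComp_baseChange hsq v).symm.trans hv⟩
    have h := (RadBoundLib.geometricallyReduced_iff_grLocus _).mp hU v
    rw [RadBoundLib.grLocus_bc f (f ∣_ U) (f ⁻¹ᵁ U).ι U.ι hsq] at h
    exact h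

end Groth.Agent.S5935
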