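import Groth.Statements.S0225
import Groth.Agent.CurveH2Lib.Main

set_option maxHeartbeats 1000000
set_option backward.isDefEq.respectTransparency false
set_option backward.isDefEq.respectTransparency.types false
-- import your own Groth.Agent.* helpers here

set_option autoImplicit false
universe u
open CategoryTheory CategoryTheory.Limits AlgebraicGeometry
open Curves

namespace Groth.Agent.S0225

/-- For a smooth proper curve X over an algebraically closed field k and an integer n ≥ 1 invertible in
k, the étale cohomology group H²(X, ℤ/n) of the constant sheaf ℤ/n is isomorphic to ℤ/n. (The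
published statement is for smooth projective curves; smooth proper is assumed here.) -/
theorem result (k : Type u) [Field k] [IsAlgClosed k] (X : Scheme.{u}) [X.Over (Spec (CommRingCat.of k))]
    (hX : Curve.IsSmoothProperCurve k X (X ↘ Spec (CommRingCat.of k)))
    (n : ℕ) (hn : 1 ≤ n) (hnk : (n : k) ≠ 0) :
    Nonempty (EtCoh.H X (EtCoh.const X (ZMod n)) 2 ≃+ ZMod n) := by
  obtain ⟨_, _, _, hdim⟩ := hX
  obtain ⟨e⟩ := CurveH2Lib.nonempty_H2_mu k X hdim n hnk
  obtain ⟨i⟩ := CurveH2Lib.mu_iso_const k (X ↘ Spec (CommRingCat.of k)) n hnk
  exact ⟨(((EtCoh.HF X 2).mapIso i).addCommGroupIsoToAddEquiv).symm.trans e⟩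

end Groth.Agent.S0225
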