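import Groth.Statements.S1996
import Groth.Agent.SweepSix.FlatCancel
import Mathlib
-- import your own Groth.Agent.* helpers here

set_option autoImplicit false
universe u
open EtAlg
open scoped TensorProduct

namespace Groth.Agent.S1996

/-- Let A -> B -> C be ring maps with B -> C faithfully flat. Weak etaleness of A -> C then implies weak
etaleness of A -> B. -/
theorem result (A B C : Type u) [CommRing A] [CommRing B] [CommRing C] [Algebra A B]
    [Algebra B C] [Algebra A C] [IsScalarTower A B C] [Module.FaithfullyFlat B C] [Algebra.WeaklyEtale A C] :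
    Algebra.WeaklyEtale A B := by
  haveI : Module.Flat A C := Algebra.WeaklyEtale.flat
  haveI hflat : Module.Flat A B := SweepSix.flat_of_faithfullyFlat (A := A) (B := B) (C := C)
  refine ⟨hflat, ?_⟩
  let μB := Algebra.TensorProduct.lmul' A (S := B)
  let μC := Algebra.TensorProduct.lmul' A (S := C)
  let j : B →ₐ[A] C := IsScalarTower.toAlgHom A B C
  let m := Algebra.TensorProduct.map j j
  have hj : j.toRingHom.Flat := RingHom.flat_algebraMap_iff.2 (inferInstance : Module.Flat B C)
  have hm : m.toRingHom.Flat := RingHom.Flat.tensorProductMap hj hj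
  have hcomp : μC.comp m = j.comp μB := by ext <;> simp [μB, μC, m]
  have h2 : (μC.comp m).toRingHom.Flat := RingHom.Flat.comp hm (Algebra.WeaklyEtale.flat_lmul' A C)
  rw [hcomp] at h2
  let := μB.toRingHom.toAlgebra
  let := (j.comp μB).toRingHom.toAlgebra
  have : IsScalarTower (B ⊗[A] B) B C := .of_algebraMap_eq' rfl
  have : Module.Flat (B ⊗[A] B) C := h2
  exact SweepSix.flat_of_faithfullyFlat (A := B ⊗[A] B) (B := B) (C := C)

end Groth.Agent.S1996
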