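import Groth.Statements.S3468
import Groth.Agent.EtProperH0Lib.Connected
import Groth.Agent.EtProperH0Lib.ShFibres
import Groth.Agent.AbSchLib.Flat

set_option autoImplicit false
universe u
open CategoryTheory CategoryTheory.Limits AlgebraicGeometry Opposite
open EtBC

namespace Groth.Agent.S3468

/-- Let X' = X ×_Y Y' be a cartesian square of schemes with f : X → Y quasi-compact and quasi-separated
and g : Y' → Y smooth, projections f' : X' → Y' and g' : X' → X. Then for every sheaf of sets F on
the small etale site of X the base change morphism g^* f_* F → f'_* g'^* F is an isomorphism. -/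
theorem result {X Y X' Y' : Scheme.{u}} (f : X ⟶ Y) (g : Y' ⟶ Y)
    (f' : X' ⟶ Y') (g' : X' ⟶ X) (h : IsPullback g' f' f g) [QuasiCompact f] [QuasiSeparated f] [Smooth g]
    (F : EtDesc.Sh X) : IsIso (EtBC.baseChange0Sh f g f' g' h.w F) := by
  haveI : GeometricallyReduced g := AbSchLib.geometricallyReduced_of_smooth g
  exact EtProperH0Lib.isIso_baseChange0Sh_of_strict h F fun _ _ gB _ gB' _ κ he P hP =>
    EtProperH0Lib.strictBij_of_shConnected hP g (fun x RS _ _ _ _ _ RX _ _ _ _ _ ψ _ hψ Ω _ _ η =>
      EtProperH0Lib.connected_sh_fibre g (Or.inr inferInstance) x RS RX ψ hψ Ω η) gB gB' κ he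

end Groth.Agent.S3468
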