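import Groth.Statements.S3389
import Groth.Agent.FibDimLib.GenericScheme

set_option autoImplicit false
open CategoryTheory AlgebraicGeometry
universe u
open EGA43

namespace Groth.Agent.S3389
theorem piece_dim {X Y : Scheme.{u}} (f : X ⟶ Y) {A B : CommRingCat.{u}} (iY : Spec A ⟶ Y) [IsOpenImmersion iY]
    (c : Spec B ⟶ X) [IsOpenImmersion c] (φ : A ⟶ B) (hφ : Spec.map φ ≫ iY = c ≫ f) (s : Spec A) :
    letI := φ.hom.toAlgebra
    topologicalKrullDim ↥(f.fiberι (iY s) ⁻¹ᵁ c.opensRange) = ringKrullDim (s.asIdeal.Fiber B) := by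
  letI := φ.hom.toAlgebra
  let Z : Set (Spec B) := PrimeSpectrum.comap (algebraMap A B) ⁻¹' {s}
  have hcu : ∀ z, f (c z) = iY (Spec.map φ z) := fun z => by
    rw [← Scheme.Hom.comp_apply, ← hφ, Scheme.Hom.comp_apply]
  have hmem : ∀ z : Z, f (c z.1) = iY s := fun z => (hcu z.1).trans (congrArg iY z.2)
  let j : Z → f.fiber (iY s) := fun z => (f.fiberHomeo (iY s)).symm ⟨c z.1, hmem z⟩
  have hj : Topology.IsEmbedding j := (f.fiberHomeo (iY s)).symm.isEmbedding.comp
    ((c.isOpenEmbedding.isEmbedding.comp Topology.IsEmbedding.subtypeVal).codRestrict (f ⁻¹' {iY s}) hmem)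
  have hr : Set.range j = (f.fiberι (iY s) ⁻¹ᵁ c.opensRange : Set (f.fiber (iY s))) := by
    ext x
    constructor
    · rintro ⟨z, rfl⟩
      exact ⟨z.1, (f.fiberι_fiberHomeo_symm (iY s) ⟨c z.1, hmem z⟩).symm⟩
    · rintro ⟨z, hz⟩
      have hzs : f (c z) = iY s := by
        rw [hz]; exact (f.range_fiberι (iY s)).le ⟨x, rfl⟩
      refine ⟨⟨z, iY.isOpenEmbedding.injective ((hcu z).symm.trans hzs)⟩, (f.fiberHomeo (iY s)).injective ?_⟩
      simp only [j, Homeomorph.apply_symm_apply]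
      exact Subtype.ext (hz.trans (f.fiberHomeo_apply (iY s) x).symm)
  refine ((IsHomeomorph.topologicalKrullDim_eq _ (hj.toHomeomorph.trans (Homeomorph.setCongr hr)).isHomeomorph).symm).trans ?_
  exact (IsHomeomorph.topologicalKrullDim_eq _ (PrimeSpectrum.preimageHomeomorphFiber A B s).isHomeomorph).trans
    (PrimeSpectrum.topologicalKrullDim_eq_ringKrullDim _)

open scoped TensorProduct in
theorem fiber_dim_le {A B : Type u} [CommRing A] [CommRing B] [Algebra A B] {n : ℕ}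
    (σ : MvPolynomial (Fin n) A →ₐ[A] B) (hσ : Function.Surjective σ) (p : Ideal A) [p.IsPrime] :
    ringKrullDim (p.Fiber B) ≤ n := by
  let τ : MvPolynomial (Fin n) p.ResidueField →ₐ[p.ResidueField] p.Fiber B :=
    MvPolynomial.aeval fun i => 1 ⊗ₜ[A] σ (MvPolynomial.X i)
  have hτ : Function.Surjective τ := by
    intro z
    induction z using TensorProduct.induction_on with
    | zero => exact ⟨0, map_zero _⟩
    | add a b ha hb =>
      obtain ⟨a, rfl⟩ := ha
      obtain ⟨b, rfl⟩ := hb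
      exact ⟨a + b, map_add _ _ _⟩
    | tmul c b =>
      obtain ⟨q, rfl⟩ := hσ b
      have hcomp : ((τ.restrictScalars A).comp (MvPolynomial.mapAlgHom (Algebra.ofId A p.ResidueField))) =
          (Algebra.TensorProduct.includeRight : B →ₐ[A] p.Fiber B).comp σ :=
        MvPolynomial.algHom_ext fun i => by simp [τ]
      refine ⟨c • MvPolynomial.map (algebraMap A p.ResidueField) q, ?_⟩
      rw [map_smul, show τ (MvPolynomial.map (algebraMap A p.ResidueField) q) = 1 ⊗ₜ[A] σ q from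
        AlgHom.congr_fun hcomp q, TensorProduct.smul_tmul', smul_eq_mul, mul_one]
  refine (ringKrullDim_le_of_surjective τ.toRingHom hτ).trans ?_
  rw [MvPolynomial.ringKrullDim_of_isNoetherianRing, ringKrullDim_eq_zero_of_field]
  simp


/-- Let Y be a quasi-compact scheme and f : X ⟶ Y a morphism of finite type. Then there is a natural
number n bounding the dimension of every fibre of f. -/
theorem result {X Y : Scheme.{u}} [CompactSpace Y] (f : X ⟶ Y)
    [LocallyOfFiniteType f] [QuasiCompact f] :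
    ∃ n : ℕ, ∀ y : Y, topologicalKrullDim ↥(f.fiber y) ≤ n := by
  haveI : CompactSpace X := QuasiCompact.compactSpace_of_compactSpace f
  have hch : ∀ x : X, ∃ (A B : CommRingCat.{u}) (iY : Spec A ⟶ Y) (c : Spec B ⟶ X) (_ : IsOpenImmersion iY)
      (_ : IsOpenImmersion c) (φ : A ⟶ B) (n : ℕ), x ∈ c.opensRange ∧ Spec.map φ ≫ iY = c ≫ f ∧
      (letI := φ.hom.toAlgebra; ∃ σ : MvPolynomial (Fin n) A →ₐ[A] B, Function.Surjective σ) := by
    intro x
    obtain ⟨_, ⟨V, hV, rfl⟩, hxV, -⟩ := Y.isBasis_affineOpens.exists_subset_of_mem_open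
      (Set.mem_univ (f x)) isOpen_univ
    obtain ⟨_, ⟨U, hU, rfl⟩, hxU, hUV⟩ := X.isBasis_affineOpens.exists_subset_of_mem_open
      (show x ∈ f ⁻¹ᵁ V from hxV) (f ⁻¹ᵁ V).2
    have h := f.finiteType_appLE hV hU hUV
    obtain ⟨n, σ, hσ⟩ := (letI := (f.appLE V U hUV).hom.toAlgebra; Algebra.FiniteType.iff_quotient_mvPolynomial''.1 h)
    exact ⟨Γ(Y, V), Γ(X, U), hV.fromSpec, hU.fromSpec, inferInstance, inferInstance, f.appLE V U hUV, n,
      by rw [← SetLike.mem_coe, Scheme.Hom.coe_opensRange, hU.range_fromSpec]; exact hxU,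
      hV.SpecMap_appLE_fromSpec f hU hUV, σ, hσ⟩
  choose A B iY c hiY hc φ n hx hφ σ hσ using hch
  obtain ⟨t, ht⟩ := isCompact_univ.elim_finite_subcover (fun x : X => ((c x).opensRange : Set X))
    (fun x => (c x).opensRange.2) fun x _ => Set.mem_iUnion.2 ⟨x, hx x⟩
  refine ⟨t.sup n, fun y => ?_⟩
  refine (FibDimLib.topologicalKrullDim_le_iSup (fun i : t => f.fiberι y ⁻¹ᵁ (c i.1).opensRange) fun z => ?_).trans
    (iSup_le fun i => ?_)
  · obtain ⟨i, hi, hz⟩ := Set.mem_iUnion₂.1 (ht (Set.mem_univ (f.fiberι y z)))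
    exact ⟨⟨i, hi⟩, hz⟩
  · by_cases hy : y ∈ Set.range (iY i.1)
    · obtain ⟨s, rfl⟩ := hy
      letI := (φ i.1).hom.toAlgebra
      rw [piece_dim f (iY i.1) (c i.1) (φ i.1) (hφ i.1) s]
      exact (fiber_dim_le (σ i.1) (hσ i.1) s.asIdeal).trans (by exact_mod_cast Finset.le_sup (f := n) i.2)
    · haveI : IsEmpty ↥(f.fiberι y ⁻¹ᵁ (c i.1).opensRange) := by
        refine ⟨fun ⟨z, w, hw⟩ => hy ⟨Spec.map (φ i.1) w, ?_⟩⟩
        rw [← Scheme.Hom.comp_apply, hφ, Scheme.Hom.comp_apply, hw]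
        exact (f.range_fiberι y).le ⟨z, rfl⟩
      haveI : IsEmpty (TopologicalSpace.IrreducibleCloseds ↥(f.fiberι y ⁻¹ᵁ (c i.1).opensRange)) :=
        ⟨fun S => isEmptyElim S.isIrreducible.1.some⟩
      rw [topologicalKrullDim, Order.krullDim_eq_bot]
      exact bot_le

end Groth.Agent.S3389
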