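import Groth.Statements.S0503
import Groth.Agent.HenselLib.FiniteDecomp

set_option autoImplicit false
universe u
open Hensel

namespace Groth.Agent.S0503

/-- A finite-type quasi-finite algebra `S` over a henselian local ring `R` contains an idempotent `e`
such that `S/(1-e)` is finitely generated as an `R`-module and the maximal ideal of `R` generates
the unit ideal of `S/(e)`; in other words `S` is a product of a module-finite algebra and an algebra
whose fibre over the closed point is empty. -/
theorem result (R : Type u) [CommRing R] [HenselianLocalRing R]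
    (S : Type u) [CommRing S] [Algebra R S] [Algebra.FiniteType R S] [Algebra.QuasiFinite R S] :
    ∃ e : S, IsIdempotentElem e ∧ Module.Finite R (S ⧸ Ideal.span ({1 - e} : Set S)) ∧
      Ideal.map (algebraMap R (S ⧸ Ideal.span ({e} : Set S))) (IsLocalRing.maximalIdeal R) = ⊤ := by
  obtain ⟨e, he, hfin, hq⟩ := HenselLib.exists_idem_quasiFinite (A := R) (B := S)
  refine ⟨e, he, hfin, ?_⟩
  by_contra hne
  obtain ⟨q, hq', hle⟩ := Ideal.exists_le_maximal _ hne
  haveI := hq'.isPrime
  exact hq q ⟨((IsLocalRing.maximalIdeal.isMaximal R).eq_of_le (Ideal.comap_isPrime _ _).ne_top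
    (Ideal.map_le_iff_le_comap.1 hle))⟩ inferInstance

end Groth.Agent.S0503
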