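import Groth.Statements.S0510
import Groth.Agent.S0507
import Groth.Agent.S0508
import Groth.Agent.S0509

set_option autoImplicit false
universe u
open Hensel

namespace Groth.Agent.S0510

/-- For a local ring `R` with henselization `S` and every `n`, the natural map from `R` modulo the
`n`-th power of its maximal ideal to `S` modulo the extension of that power is a bijection. -/
theorem result (R : Type u) [CommRing R] [IsLocalRing R] (S : Type u) [CommRing S] [IsLocalRing S]
    [Algebra R S] [IsLocalHom (algebraMap R S)] [Hensel.IsHenselization R S] (n : ℕ) :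
    Function.Bijective (Ideal.quotientMap
      (Ideal.map (algebraMap R S) (IsLocalRing.maximalIdeal R ^ n)) (algebraMap R S)
      Ideal.le_comap_map) := by
  haveI : Module.FaithfullyFlat R S := Groth.Agent.S0509.result R S
  have hm := Groth.Agent.S0507.result R S
  have hres : ∀ a : S, ∃ r : R, a - algebraMap R S r ∈ IsLocalRing.maximalIdeal S := fun a => by
    obtain ⟨x, hx⟩ := (Groth.Agent.S0508.result R S).2 (IsLocalRing.residue S a)
    obtain ⟨r, rfl⟩ := IsLocalRing.residue_surjective x
    rw [IsLocalRing.ResidueField.map_residue] at hx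
    exact ⟨r, by rw [← IsLocalRing.residue_eq_zero_iff, map_sub, hx, sub_self]⟩
  refine ⟨Ideal.quotientMap_injective' (Ideal.comap_map_eq_self_of_faithfullyFlat _).le, fun x => ?_⟩
  obtain ⟨z, rfl⟩ := Ideal.Quotient.mk_surjective x
  have step : ∀ (k : ℕ) (y : S), y ∈ (IsLocalRing.maximalIdeal R ^ k).map (algebraMap R S) →
      ∃ r ∈ IsLocalRing.maximalIdeal R ^ k,
        y - algebraMap R S r ∈ (IsLocalRing.maximalIdeal R ^ (k + 1)).map (algebraMap R S) := by
    intro k y hy
    induction hy using Submodule.span_induction with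
    | mem x hx => obtain ⟨r, hr, rfl⟩ := hx; exact ⟨r, hr, by rw [sub_self]; exact zero_mem _⟩
    | zero => exact ⟨0, zero_mem _, by rw [map_zero, sub_zero]; exact zero_mem _⟩
    | add a b _ _ ha hb =>
      obtain ⟨r, hr, ha⟩ := ha
      obtain ⟨s, hs, hb⟩ := hb
      exact ⟨r + s, add_mem hr hs, by
        rw [map_add, show a + b - (algebraMap R S r + algebraMap R S s) =
          (a - algebraMap R S r) + (b - algebraMap R S s) by ring]
        exact add_mem ha hb⟩
    | smul a y _ ha =>
      obtain ⟨r, hr, ha⟩ := ha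
      obtain ⟨a', ha'⟩ := hres a
      refine ⟨a' * r, Ideal.mul_mem_left _ _ hr, ?_⟩
      rw [smul_eq_mul, map_mul, show a * y - algebraMap R S a' * algebraMap R S r =
        a * (y - algebraMap R S r) + (a - algebraMap R S a') * algebraMap R S r by ring]
      refine add_mem (Ideal.mul_mem_left _ _ ha) ?_
      rw [pow_succ', Ideal.map_mul, hm]
      exact Ideal.mul_mem_mul ha' (Ideal.mem_map_of_mem _ hr)
  have main : ∀ k : ℕ, ∃ r : R, z - algebraMap R S r ∈ (IsLocalRing.maximalIdeal R ^ k).map (algebraMap R S) := by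
    intro k
    induction k with
    | zero => exact ⟨0, by rw [pow_zero, Ideal.one_eq_top, Ideal.map_top]; exact Submodule.mem_top⟩
    | succ k ih =>
      obtain ⟨r, hr⟩ := ih
      obtain ⟨s, -, hs⟩ := step k _ hr
      exact ⟨r + s, by rw [map_add, ← sub_sub]; exact hs⟩
  obtain ⟨r, hr⟩ := main n
  refine ⟨Ideal.Quotient.mk _ r, ?_⟩
  rw [Ideal.quotientMap_mk, Ideal.Quotient.eq, ← neg_mem_iff, neg_sub]
  exact hr

end Groth.Agent.S0510
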