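import Groth.Statements.S5035
import Groth.Agent.GRingFinLib.Cpl

set_option autoImplicit false
universe u
open Hensel

namespace Groth.Agent.S5035

/-- a) iff c') (affine form): a local ring R is henselian if and only if, for every R-algebra S of
finite type and every prime q of S lying over the maximal ideal of R such that S is quasi-finite
over R at q, the local ring S_q is a finitely generated R-module. -/
theorem result (R : Type u) [CommRing R] [IsLocalRing R] :
    HenselianLocalRing R ↔
      ∀ (S : Type u) [CommRing S] [Algebra R S] [Algebra.FiniteType R S] (q : Ideal S) [q.IsPrime],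
        q.LiesOver (IsLocalRing.maximalIdeal R) → Algebra.QuasiFiniteAt R q →
          Module.Finite R (Localization.AtPrime q) := by
  classical
  constructor
  · intro _ S _ _ _ q _ hq hqf
    haveI := hq
    haveI := hqf
    obtain ⟨S', hfg, r, hr, hbij⟩ := Algebra.QuasiFiniteAt.exists_fg_and_exists_notMem_and_awayMap_bijective (R := R) q
    haveI : Module.Finite R S' := Module.Finite.of_fg hfg
    let q' : Ideal S' := q.comap S'.val.toRingHom
    haveI : q'.IsMaximal := by
      refine Ideal.isMaximal_of_isIntegral_of_isMaximal_comap (R := R) q' ?_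
      rw [Ideal.comap_comap, show S'.val.toRingHom.comp (algebraMap R S') = algebraMap R S from rfl]
      have h0 : IsLocalRing.maximalIdeal R = q.comap (algebraMap R S) := hq.over
      rw [← h0]
      infer_instance
    let g : S' →ₐ[R] Localization.AtPrime q := (IsScalarTower.toAlgHom R S _).comp S'.val
    have hgu : ∀ b : S', b ∉ q' → IsUnit (g b) := fun b hb =>
      IsLocalization.map_units (Localization.AtPrime q) (⟨b.1, hb⟩ : q.primeCompl)
    have hx : ∀ x : S, ∃ (a : S') (n : ℕ), algebraMap S (Localization.AtPrime q) x * g r ^ n = g a := by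
      intro x
      obtain ⟨y, hy⟩ := hbij.2 (algebraMap S _ x)
      obtain ⟨a, ⟨_, n, rfl⟩, rfl⟩ := IsLocalization.exists_mk'_eq (Submonoid.powers r) y
      rw [Localization.awayMap, IsLocalization.Away.map, IsLocalization.map_mk', IsLocalization.mk'_eq_iff_eq_mul,
        ← map_mul, IsLocalization.eq_iff_exists (Submonoid.powers (S'.val.toRingHom r))] at hy
      obtain ⟨⟨_, k, rfl⟩, hk⟩ := hy
      refine ⟨r ^ k * a, k + n, ?_⟩
      have hk' := congrArg (algebraMap S (Localization.AtPrime q)) hk
      simp only [map_mul, map_pow, AlgHom.toRingHom_eq_coe, RingHom.coe_coe] at hk'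
      simp only [g, map_mul, map_pow, AlgHom.comp_apply, IsScalarTower.coe_toAlgHom']
      rw [pow_add]
      linear_combination -hk'
    have hsurj : Function.Surjective g := by
      intro z
      obtain ⟨x, t, rfl⟩ := IsLocalization.exists_mk'_eq q.primeCompl z
      obtain ⟨a, n, ha⟩ := hx x
      obtain ⟨b, m, hb⟩ := hx t.1
      have hru : IsUnit (g r) := hgu r hr
      have hbq : b ∉ q' := by
        intro hb'
        have h1 : IsUnit (g b) := by
          rw [← hb]
          exact (IsLocalization.map_units (Localization.AtPrime q) t).mul (hru.pow _)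
        have h2 : g b ∈ IsLocalRing.maximalIdeal (Localization.AtPrime q) :=
          (IsLocalization.AtPrime.to_map_mem_maximal_iff _ q b.1).2 hb'
        exact h2 h1
      have hden : b * r ^ n ∈ q'.primeCompl := q'.primeCompl.mul_mem hbq (q'.primeCompl.pow_mem hr n)
      obtain ⟨c, hc⟩ := GRingFinLib.surjective_localization (R := R) q'
        (IsLocalization.mk' (Localization.AtPrime q') (a * r ^ m) ⟨_, hden⟩)
      rw [IsLocalization.eq_mk'_iff_mul_eq, ← map_mul, IsLocalization.eq_iff_exists q'.primeCompl] at hc
      obtain ⟨⟨w, hw⟩, hwe⟩ := hc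
      refine ⟨c, ?_⟩
      rw [IsLocalization.eq_mk'_iff_mul_eq]
      have h3 := congrArg g hwe
      simp only [map_mul, map_pow] at h3
      have h4 := (hgu w hw).mul_left_cancel h3
      refine ((hru.pow n).mul (hru.pow m)).mul_left_cancel ?_
      calc g r ^ n * g r ^ m * (g c * algebraMap S (Localization.AtPrime q) t.1)
          = g c * ((algebraMap S (Localization.AtPrime q) t.1 * g r ^ m) * g r ^ n) := by ring
        _ = g c * (g b * g r ^ n) := by rw [hb]
        _ = g a * g r ^ m := h4
        _ = algebraMap S (Localization.AtPrime q) x * g r ^ n * g r ^ m := by rw [ha]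
        _ = g r ^ n * g r ^ m * algebraMap S (Localization.AtPrime q) x := by ring
    exact Module.Finite.of_surjective g.toLinearMap hsurj
  · intro h
    refine ⟨fun f hf a₀ h₀ h₁ => ?_⟩
    have hmem : ∀ a, a ∈ IsLocalRing.maximalIdeal R ↔ IsLocalRing.residue R a = 0 := fun a =>
      (IsLocalRing.residue_eq_zero_iff a).symm
    have hev : f.eval₂ (IsLocalRing.residue R) (IsLocalRing.residue R a₀) = 0 := by
      rw [Polynomial.eval₂_at_apply]; exact (hmem _).1 h₀
    let ψ : AdjoinRoot f →+* IsLocalRing.ResidueField R := AdjoinRoot.lift (IsLocalRing.residue R) (IsLocalRing.residue R a₀) hev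
    let q : Ideal (AdjoinRoot f) := RingHom.ker ψ
    haveI : q.IsPrime := RingHom.ker_isPrime ψ
    haveI : Module.Finite R (AdjoinRoot f) := hf.finite_adjoinRoot
    haveI : Module.Free R (AdjoinRoot f) := hf.free_adjoinRoot
    haveI hlo : q.LiesOver (IsLocalRing.maximalIdeal R) := ⟨by
      ext c
      rw [hmem, Ideal.mem_under, RingHom.mem_ker, AdjoinRoot.algebraMap_eq, AdjoinRoot.lift_of]⟩
    haveI := h (AdjoinRoot f) q hlo inferInstance
    let L := Localization.AtPrime q
    let ι : AdjoinRoot f →+* L := algebraMap (AdjoinRoot f) L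
    let M := (IsLocalRing.maximalIdeal R).map (algebraMap R L)
    have hι : ∀ c, ι (algebraMap R (AdjoinRoot f) c) = algebraMap R L c := fun c =>
      (IsScalarTower.algebraMap_apply R (AdjoinRoot f) L c).symm
    let x := AdjoinRoot.root f - algebraMap R _ a₀
    obtain ⟨d, hd⟩ := Polynomial.X_sub_C_dvd_sub_C_eval (p := f) (a := a₀)
    have hd0 : d.eval a₀ = f.derivative.eval a₀ := by
      have := congrArg (fun p => (Polynomial.derivative p).eval a₀) hd
      simp at this
      exact this.symm
    have hx : ι x ∈ M := by
      have hu : IsUnit (ι (AdjoinRoot.mk f d)) := by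
        refine IsLocalization.map_units L (⟨AdjoinRoot.mk f d, ?_⟩ : q.primeCompl)
        show ψ (AdjoinRoot.mk f d) ≠ 0
        rw [AdjoinRoot.lift_mk, Polynomial.eval₂_at_apply, hd0]
        exact (h₁.map (IsLocalRing.residue R)).ne_zero
      have h2 := congrArg (fun p => ι (AdjoinRoot.mk f p)) hd
      simp only [map_sub, map_mul, AdjoinRoot.mk_self, map_zero, zero_sub, AdjoinRoot.mk_X, AdjoinRoot.mk_C] at h2
      refine (Ideal.mul_unit_mem_iff_mem M hu).1 ?_
      have h5 : ι x * ι (AdjoinRoot.mk f d) = -algebraMap R L (f.eval a₀) := by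
        rw [← hι, AdjoinRoot.algebraMap_eq]
        simp only [x, map_sub, AdjoinRoot.algebraMap_eq]
        exact h2.symm.trans (map_neg ι _)
      rw [h5]
      exact M.neg_mem (Ideal.mem_map_of_mem _ h₀)
    have hS : ∀ s : AdjoinRoot f, ∀ c : R, IsLocalRing.residue R c = ψ s → ι s - algebraMap R L c ∈ M := by
      intro s c hc
      induction s using AdjoinRoot.induction_on with
      | _ g =>
        obtain ⟨e, he⟩ := Polynomial.X_sub_C_dvd_sub_C_eval (p := g) (a := a₀)
        have h2 := congrArg (fun p => ι (AdjoinRoot.mk f p)) he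
        simp only [map_sub, map_mul, AdjoinRoot.mk_X, AdjoinRoot.mk_C] at h2
        rw [AdjoinRoot.lift_mk, Polynomial.eval₂_at_apply] at hc
        have h3 : c - g.eval a₀ ∈ IsLocalRing.maximalIdeal R := by rw [hmem, map_sub, hc, sub_self]
        have h4 : ι (AdjoinRoot.mk f g) - algebraMap R L c =
            ι x * ι (AdjoinRoot.mk f e) - algebraMap R L (c - g.eval a₀) := by
          rw [map_sub (algebraMap R L), ← hι c, ← hι (g.eval a₀)]
          simp only [x, map_sub, AdjoinRoot.algebraMap_eq]
          linear_combination h2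
        rw [h4]
        exact M.sub_mem (M.mul_mem_right _ hx) (Ideal.mem_map_of_mem _ h3)
    have hsurj : Function.Surjective (algebraMap R L) := by
      have hle : (⊤ : Submodule R L) ≤ (LinearMap.range (Algebra.linearMap R L)) ⊔ IsLocalRing.maximalIdeal R • ⊤ := by
        intro z _
        obtain ⟨s, t, rfl⟩ := IsLocalization.exists_mk'_eq q.primeCompl z
        obtain ⟨c, hc⟩ := IsLocalRing.residue_surjective (ψ s / ψ t.1)
        obtain ⟨ct, hct⟩ := IsLocalRing.residue_surjective (ψ t.1)
        have hq : ψ (s - algebraMap R _ c * t.1) = 0 := by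
          rw [map_sub, map_mul, AdjoinRoot.algebraMap_eq, AdjoinRoot.lift_of, hc, div_mul_cancel₀ _ t.2, sub_self]
        have hM := hS _ 0 (by rw [map_zero, hq])
        rw [map_zero, sub_zero, map_sub, map_mul, hι] at hM
        refine Submodule.mem_sup.2 ⟨algebraMap R L c, ⟨c, rfl⟩, IsLocalization.mk' L s t - algebraMap R L c, ?_, add_sub_cancel _ _⟩
        rw [Ideal.smul_top_eq_map]
        refine (Ideal.mul_unit_mem_iff_mem M (IsLocalization.map_units L t)).1 ?_
        rw [sub_mul, IsLocalization.mk'_spec]
        exact hM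
      have := Submodule.le_of_le_smul_of_le_jacobson_bot Module.Finite.fg_top
        (IsLocalRing.maximalIdeal_le_jacobson ⊥) hle
      exact fun z => this (Submodule.mem_top (x := z))
    haveI : Module.Flat (AdjoinRoot f) L := IsLocalization.flat L q.primeCompl
    haveI : Module.Flat R L := Module.Flat.trans R (AdjoinRoot f) L
    haveI : IsLocalHom (algebraMap R L) := ⟨fun c hc => by
      by_contra hn
      have h1 : algebraMap R (AdjoinRoot f) c ∈ q := by
        rw [RingHom.mem_ker, AdjoinRoot.algebraMap_eq, AdjoinRoot.lift_of]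
        exact (hmem c).1 hn
      rw [← hι] at hc
      exact (IsLocalization.AtPrime.to_map_mem_maximal_iff L q _).2 h1 hc⟩
    haveI : Module.FaithfullyFlat R L := Module.FaithfullyFlat.of_flat_of_isLocalHom
    have hinj : Function.Injective (algebraMap R L) := FaithfulSMul.algebraMap_injective R L
    obtain ⟨a, ha⟩ := hsurj (ι (AdjoinRoot.root f))
    refine ⟨a, hinj ?_, ?_⟩
    · have h5 : Polynomial.aeval (ι (AdjoinRoot.root f)) f = 0 := by
        rw [show ι (AdjoinRoot.root f) = IsScalarTower.toAlgHom R (AdjoinRoot f) L (AdjoinRoot.root f) from rfl,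
          Polynomial.aeval_algHom_apply, AdjoinRoot.aeval_eq, AdjoinRoot.mk_self, map_zero]
      rw [map_zero, ← Polynomial.aeval_algebraMap_apply_eq_algebraMap_eval, ha, h5]
    · intro hu
      have h6 := hu.map (algebraMap R L)
      rw [map_sub, ha, ← hι a₀, ← map_sub] at h6
      exact (IsLocalization.AtPrime.to_map_mem_maximal_iff L q x).2 (by
        show ψ x = 0
        rw [map_sub, AdjoinRoot.lift_root, AdjoinRoot.algebraMap_eq, AdjoinRoot.lift_of, sub_self]) h6

end Groth.Agent.S5035
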