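import Groth.Statements.S1573
import Groth.Agent.AffCodimLib.Apply

set_option autoImplicit false
universe u
open CategoryTheory CategoryTheory.Limits AlgebraicGeometry
open Divisors

namespace Groth.Agent.S1573

/-- Let X be locally Noetherian and U an open subscheme whose inclusion is an affine morphism. At every
point ξ outside U which is maximal under generisation among points outside U, the local ring of X
has dimension at most one; if U is dense the dimension equals one. -/
theorem result (X : Scheme.{u}) [IsLocallyNoetherian X]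
    (U : X.Opens) [IsAffineHom U.ι] (ξ : X) (hξ : ξ ∉ U) (hgen : ∀ y : X, y ∉ U → y ⤳ ξ → y = ξ) :
    ringKrullDim (X.presheaf.stalk ξ) ≤ 1 ∧ (Dense (U : Set X) → ringKrullDim (X.presheaf.stalk ξ) = 1) := by
  refine ⟨AffCodimLib.dim_le_one_of_affine U ξ hξ hgen, fun hd => ?_⟩
  obtain ⟨d, h⟩ := AffCodimLib.exists_nat_dim ξ
  have h1 := AffCodimLib.dim_le_one_of_affine U ξ hξ hgen
  have h0 := AffCodimLib.dim_ne_zero_of_dense U hd ξ hξ
  rw [h] at h1 h0 ⊢
  have h1' : d ≤ 1 := by exact_mod_cast h1
  have h0' : d ≠ 0 := fun e => h0 (by rw [e]; rfl)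
  obtain rfl : d = 1 := by omega
  rfl

end Groth.Agent.S1573
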