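import Groth.Statements.S16496
import Groth.Agent.FlatHartogsLib.Alg
import Groth.Agent.RefHullLib.NormalHull
import Groth.Agent.RefHullLib.BigOpen
import Groth.Agent.PinchModLib.Sheaf
import Groth.Agent.RGFlatLib.ModSheaf
import Groth.Agent.AVAmpleLib.Degree
import Groth.Agent.DevissLib.ClosedImm

set_option autoImplicit false
set_option linter.all false
universe u
open CategoryTheory AlgebraicGeometry TopologicalSpace
open SGA3

namespace Groth.Agent.S16496

open ModGlueLib (rs rs_rs exists_glue) in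
/-- Sections of the structure sheaf extend over codimension two on a normal scheme. -/
theorem bijective_res_structure {S : Scheme.{u}} [IsLocallyNoetherian S] (hS : Pi1.IsNormalScheme S)
    {U V : S.Opens} (h : V ≤ U)
    (hd : ∀ x : S, x ∈ U → x ∉ V → (2 : WithBot ℕ∞) ≤ ringKrullDim (S.presheaf.stalk x)) :
    Function.Bijective ((Coh.structureModule S).presheaf.map (homOfLE h).op) := by
  refine (RefHullLib.normalSec_iff _).2 ?_ U V h hd
  refine RefHullLib.isZClosed_of_depth (ZClosLib.stableUnderSpecialization_dimGe 2)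
    (DevissLib.isCoh_structureModule _) fun x hx => ?_
  haveI := (hS x).1
  haveI := (hS x).2
  obtain ⟨e⟩ := AVAmpleLib.nonempty_stalk_structureModule S x
  rw [← CommAlgDim.depth_congr e]
  exact RefHullLib.two_le_depth_normal (RefHullLib.mem_dimGe_two.1 hx)

open ModGlueLib (rs rs_rs exists_glue) in
/-- The flat case on an affine open. -/
theorem bijective_res_flat {S : Scheme.{u}} [IsNoetherian S] (hS : Pi1.IsNormalScheme S)
    (A : S.Modules) [Coh.IsQCoh A] (hAfl : FlatMod.IsFlat A) (V W : S.Opens) (hV : IsAffineOpen V)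
    (hWV : W ≤ V) (hd : ∀ x : S, x ∈ V → x ∉ W → (2 : WithBot ℕ∞) ≤ ringKrullDim (S.presheaf.stalk x)) :
    Function.Bijective (rs A hWV : Γ(A, V) → Γ(A, W)) := by
  classical
  haveI := PinchModLib.flat_sections hAfl hV
  obtain ⟨s, hs, hWs⟩ : ∃ s : Set Γ(S, V), s.Finite ∧ W = ⨆ g : s, S.basicOpen (g : Γ(S, V)) := by
    have hc : IsCompact (W : Set S) := NoetherianSpace.isCompact _
    choose g hg hxg using fun x : W => hV.exists_basicOpen_le x (hWV x.2)
    obtain ⟨t, ht⟩ := hc.elim_finite_subcover (fun x : W => (S.basicOpen (g x) : Set S))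
      (fun x => (S.basicOpen _).2) fun x hx => Set.mem_iUnion.mpr ⟨⟨x, hx⟩, hxg _⟩
    refine ⟨g '' (t : Set _), t.finite_toSet.image g, le_antisymm ?_ (iSup_le ?_)⟩
    · intro x hx
      obtain ⟨y, hy, hxy⟩ := Set.mem_iUnion₂.mp (ht hx)
      exact Opens.mem_iSup.mpr ⟨⟨g y, y, hy, rfl⟩, hxy⟩
    · rintro ⟨_, y, hy, rfl⟩
      exact hg y
  haveI : Finite s := hs.to_subtype
  let D : s → S.Opens := fun g => S.basicOpen (g : Γ(S, V))
  let D₂ : s → s → S.Opens := fun g g' => S.basicOpen ((g : Γ(S, V)) * (g' : Γ(S, V)))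
  have hD₂ : ∀ g g', D₂ g g' = D g ⊓ D g' := fun g g' => S.basicOpen_mul _ _
  have hDW : ∀ g, D g ≤ W := fun g => hWs.ge.trans' (le_iSup (fun g : s => D g) g)
  letI mod : ∀ (F : S.Modules) (a : Γ(S, V)), Module Γ(S, V) Γ(F, S.basicOpen a) := fun F a =>
    Module.compHom _ (S.presheaf.map (homOfLE (S.basicOpen_le a)).op).hom
  let lr : ∀ (F : S.Modules) (a : Γ(S, V)), Γ(F, V) →ₗ[Γ(S, V)] Γ(F, S.basicOpen a) := fun F a =>
    RGFlatLib.resLin F (S.basicOpen_le a) (fun _ _ => rfl)
  have hl : ∀ (F : S.Modules), Coh.IsQCoh F → ∀ a, IsLocalizedModule (Submonoid.powers a) (lr F a) :=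
    fun F hF a => RGFlatLib.isLocalizedModule_resLin F hV a (fun _ _ => rfl)
  let tr : ∀ (F : S.Modules) (a b : Γ(S, V)) (h : S.basicOpen b ≤ S.basicOpen a),
      Γ(F, S.basicOpen a) →ₗ[Γ(S, V)] Γ(F, S.basicOpen b) := fun F a b h =>
    { toFun := rs F h
      map_add' := map_add _
      map_smul' := fun r m => by
        refine (QCohLib.map_smul' F (homOfLE h) _ m).trans ?_
        rw [RingHom.id_apply]
        refine Eq.trans ?_ (show (S.presheaf.map (homOfLE (S.basicOpen_le b)).op r) • rs F h m = _ from rfl)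
        congr 1
        change (S.presheaf.map (homOfLE (S.basicOpen_le a)).op ≫ S.presheaf.map (homOfLE h).op) r = _
        rw [← Functor.map_comp]
        rfl }
  have hle₁ : ∀ g g', D₂ g g' ≤ D g := fun g g' => (hD₂ g g').le.trans inf_le_left
  have hle₂ : ∀ g g', D₂ g g' ≤ D g' := fun g g' => (hD₂ g g').le.trans inf_le_right
  have hsep : ∀ (F : S.Modules) (a b : Γ(F, W)), (∀ g, rs F (hDW g) a = rs F (hDW g) b) → a = b := by
    intro F a b hab
    refine ProjFormLib.section_ext a b fun x hx => ?_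
    obtain ⟨g, hxg⟩ := Opens.mem_iSup.mp (hWs.le hx)
    have := congrArg (F.presheaf.germ (D g) x hxg) (hab g)
    rwa [ZClosLib.germ_rs, ZClosLib.germ_rs] at this
  have hglue : ∀ (F : S.Modules) (y : ∀ g, Γ(F, D g)),
      (∀ g g', rs F (hle₁ g g') (y g) = rs F (hle₂ g g') (y g')) →
      ∃ b : Γ(F, W), ∀ g, rs F (hDW g) b = y g := by
    intro F y hy
    refine exists_glue (M := F) D hDW (fun x hx => Opens.mem_iSup.mp (hWs.le hx)) y fun g g' => ?_
    have e := congrArg (rs F (hD₂ g g').ge) (hy g g')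
    rwa [rs_rs, rs_rs] at e
  let O := Coh.structureModule S
  have hO : Coh.IsQCoh O := (DevissLib.isCoh_structureModule S).1
  have hbO := bijective_res_structure hS hWV hd
  have hinjO : ∀ r : Γ(S, V), (∀ g : s, lr O g r = 0) → r = 0 := fun r hr => by
    refine hbO.1 ((hsep O (rs O hWV r) (rs O hWV 0) fun g => ?_))
    rw [rs_rs, rs_rs]
    exact (hr g).trans (map_zero (lr O (g : Γ(S, V)))).symm
  obtain ⟨h1, h2⟩ := Groth.Agent.FlatHartogsLib.bijective_of_flat (M := Γ(A, V))
    (fun g : s => (g : Γ(S, V)))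
    (fun g => (lr O g : Γ(S, V) →ₗ[Γ(S, V)] _)) (fun g => hl O hO _)
    (fun g g' => (lr O ((g : Γ(S, V)) * g') : Γ(S, V) →ₗ[Γ(S, V)] _)) (fun g g' => hl O hO _)
    (fun g => lr A g) (fun g => hl A inferInstance _)
    (fun g g' => lr A ((g : Γ(S, V)) * g')) (fun g g' => hl A inferInstance _)
    (fun g g' => tr O _ _ (hle₁ g g')) (fun g g' r => rs_rs O _ _ (r : Γ(O, V)))
    (fun g g' => tr O _ _ (hle₂ g g')) (fun g g' r => rs_rs O _ _ (r : Γ(O, V)))
    (fun g g' => tr A _ _ (hle₁ g g')) (fun g g' m => rs_rs A _ _ m)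
    (fun g g' => tr A _ _ (hle₂ g g')) (fun g g' m => rs_rs A _ _ m)
    hinjO (fun x hx => by
      obtain ⟨b, hb⟩ := hglue O x hx
      obtain ⟨r, hr⟩ := hbO.2 b
      exact ⟨r, fun g => (rs_rs O (hDW g) hWV r).symm.trans ((congrArg _ hr).trans (hb g))⟩)
  refine ⟨fun a b hab => ?_, fun w => ?_⟩
  · rw [← sub_eq_zero]
    refine h1 _ fun g => ?_
    rw [map_sub, sub_eq_zero]
    exact (rs_rs A (hDW g) hWV a).symm.trans ((congrArg _ hab).trans (rs_rs A (hDW g) hWV b))
  · obtain ⟨m, hm⟩ := h2 (fun g => rs A (hDW g) w) fun g g' =>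
      (rs_rs A _ _ w).trans (rs_rs A _ _ w).symm
    exact ⟨m, hsep A _ _ fun g => (rs_rs A (hDW g) hWV m).trans (hm g)⟩

/-- Let S be a Noetherian normal scheme, A a flat quasi-coherent O_S-module (not assumed of finite type)
and j : U → S the inclusion of an open subscheme containing every point of S whose local ring has
dimension at most 1. Then A = j_* j^* A: the unit A → j_*(A|_U) of the adjunction between
restriction to U and direct image along j is an isomorphism. In the source U is the flatness locus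
of a finite type submodule of A, an open which contains all points of codimension at most 1; the
printed argument uses only this property of U. -/
theorem result (S : Scheme.{u}) [IsNoetherian S]
    (hS : Pi1.IsNormalScheme S) (A : S.Modules) (hA : Coh.IsQCoh A) (hAfl : FlatMod.IsFlat A)
    (U : S.Opens) (hU : ∀ s : S, ringKrullDim (S.presheaf.stalk s) ≤ 1 → s ∈ U) :
    IsIso ((Scheme.Modules.restrictAdjunction U.ι).unit.app A) := by
  haveI := hA
  refine RpushLib.isIso_of_bijective_basis _ (Scheme.isBasis_affineOpens S) fun V hV => ?_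
  rw [Scheme.Modules.restrictAdjunction_unit_app_app]
  refine bijective_res_flat hS A hAfl V _ hV (U.ι.image_preimage_le V) fun x hxV hx => ?_
  have hxU : x ∉ U := fun h => hx ⟨⟨x, h⟩, hxV, rfl⟩
  by_contra hd
  refine hxU (hU x ?_)
  rcases ZClosLib.dim_eq_zero_or_one (fun h => hd (RefHullLib.mem_dimGe_two.1 h)) with h | h <;> simp [h]

end Groth.Agent.S16496
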