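import Mathlib.RingTheory.Smooth.Locus
import Mathlib.RingTheory.Smooth.Field
import Mathlib.RingTheory.Localization.FractionRing
import Mathlib.RingTheory.FiniteStability

/-!
Generic smoothness: a field `K`, formally smooth over a Noetherian ring `R` and generated as a
field by a finite set over `R`, is the fraction field of a smooth finite type `R`-subalgebra.
-/

universe u v

namespace GenSmoothLib

theorem exists_smooth_subalgebra {R : Type v} [CommRing R] [IsNoetherianRing R]
    {K : Type u} [Field K] [Algebra R K] [Algebra.FormallySmooth R K] (s : Finset K)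
    (hs : ∀ x : K, ∃ y ∈ Algebra.adjoin R (↑s : Set K), ∃ z ∈ Algebra.adjoin R (↑s : Set K),
      y / z = x) :
    ∃ A : Subalgebra R K, Algebra.FiniteType R A ∧ Algebra.Smooth R A ∧ IsFractionRing A K := by
  let A₀ := Algebra.adjoin R (↑s : Set K)
  have : Algebra.FiniteType R A₀ :=
    (Subalgebra.fg_iff_finiteType A₀).1 (Subalgebra.fg_adjoin_finset s)
  have : Algebra.FinitePresentation R A₀ := Algebra.FinitePresentation.of_finiteType.1 this
  have hfr : IsFractionRing A₀ K := IsFractionRing.of_field _ _ fun x => by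
    obtain ⟨y, hy, z, hz, rfl⟩ := hs x
    exact ⟨⟨y, hy⟩, ⟨z, hz⟩, rfl⟩
  have hsm : Algebra.IsSmoothAt R (⊥ : Ideal A₀) := by
    have : IsFractionRing A₀ (Localization.AtPrime (⊥ : Ideal A₀)) := by
      unfold IsFractionRing
      rw [← Ideal.primeCompl_bot]
      infer_instance
    exact Algebra.FormallySmooth.of_equiv
      ((IsLocalization.algEquiv (nonZeroDivisors A₀) K
        (Localization.AtPrime (⊥ : Ideal A₀))).restrictScalars R)
  obtain ⟨g, hg, hgs⟩ := Algebra.IsSmoothAt.exists_notMem_smooth R (⊥ : Ideal A₀)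
  have hg0 : g ≠ 0 := by simpa using hg
  let φ : Localization.Away g →ₐ[R] K :=
    IsLocalization.liftAlgHom (M := Submonoid.powers g) (f := A₀.val) (by
      rintro ⟨_, n, rfl⟩
      simpa using (isUnit_iff_ne_zero.2 (pow_ne_zero n (Subtype.coe_injective.ne hg0))))
  have hcomp : ∀ a : A₀, φ (algebraMap A₀ _ a) = (a : K) := fun a => by simp [φ]
  have hinj : Function.Injective φ := by
    rw [injective_iff_map_eq_zero]
    intro x hx
    obtain ⟨⟨a, m⟩, ha⟩ := IsLocalization.surj (Submonoid.powers g) x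
    have h1 : (a : K) = 0 := by rw [← hcomp, ← ha, map_mul, hx, zero_mul]
    have h2 : a = 0 := Subtype.ext h1
    simp only [h2, map_zero] at ha
    exact (IsLocalization.map_units (Localization.Away g) m).mul_left_eq_zero.1 ha
  let e : Localization.Away g ≃ₐ[R] φ.range := AlgEquiv.ofInjective φ hinj
  have hsmooth : Algebra.Smooth R φ.range := Algebra.Smooth.of_equiv e
  refine ⟨φ.range, inferInstance, hsmooth, IsFractionRing.of_field _ _ fun x => ?_⟩
  obtain ⟨y, hy, z, hz, rfl⟩ := hs x
  exact ⟨⟨y, _, hcomp ⟨y, hy⟩⟩, ⟨z, _, hcomp ⟨z, hz⟩⟩, rfl⟩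

theorem essFiniteType_of_div {R : Type v} [CommRing R]
    {K : Type u} [Field K] [Algebra R K] (s : Finset K)
    (hs : ∀ x : K, ∃ y ∈ Algebra.adjoin R (↑s : Set K), ∃ z ∈ Algebra.adjoin R (↑s : Set K),
      y / z = x) : Algebra.EssFiniteType R K := by
  have : Algebra.FiniteType R (Algebra.adjoin R (↑s : Set K)) :=
    (Subalgebra.fg_iff_finiteType _).1 (Subalgebra.fg_adjoin_finset s)
  have : IsFractionRing (Algebra.adjoin R (↑s : Set K)) K := IsFractionRing.of_field _ _ fun x => by
    obtain ⟨y, hy, z, hz, rfl⟩ := hs x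
    exact ⟨⟨y, hy⟩, ⟨z, hz⟩, rfl⟩
  have : Algebra.EssFiniteType (Algebra.adjoin R (↑s : Set K)) K :=
    .of_isLocalization K (nonZeroDivisors _)
  exact .comp R (Algebra.adjoin R (↑s : Set K)) K

/-- Subfield closure elements as quotients in the algebra adjoin. -/
theorem exists_div_of_closure {R : Type v} [CommRing R] {K : Type u} [Field K] [Algebra R K]
    (s : Set K) (hs : Subfield.closure s = ⊤) (x : K) :
    ∃ y ∈ Algebra.adjoin R s, ∃ z ∈ Algebra.adjoin R s, y / z = x := by
  have hx : x ∈ Subfield.closure s := hs ▸ Subfield.mem_top x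
  obtain ⟨y, hy, z, hz, h⟩ := Subfield.mem_closure_iff.1 hx
  have hle : Subring.closure s ≤ (Algebra.adjoin R s).toSubring :=
    Subring.closure_le.2 Algebra.subset_adjoin
  exact ⟨y, hle hy, z, hle hz, h⟩

end GenSmoothLib
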