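import Groth.Statements.S0663
import Groth.Agent.CurveH2Lib.Open
import Groth.Agent.AicVanishLib.Sect

set_option maxHeartbeats 1000000
set_option backward.isDefEq.respectTransparency false
set_option backward.isDefEq.respectTransparency.types false
-- import your own Groth.Agent.* helpers here

set_option autoImplicit false
open CategoryTheory CategoryTheory.Limits AlgebraicGeometry Opposite
universe u
open EtCore

namespace Groth.Agent.S0663

open Groth.Agent.EtShLib TopologicalSpace CategoryTheory.Abelian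

/-- Global sections of a constant sheaf on an irreducible scheme. -/
theorem nonempty_H_zero_const {Y : Scheme.{u}} [IrreducibleSpace Y] (M : Type) [AddCommGroup M] :
    Nonempty (EtCoh.H Y (EtCoh.const Y M) 0 ≃+ M) := by
  obtain ⟨hT⟩ := isTerminal_top Y
  let F := EtCoh.const Y M
  let j : AicVanishLib.zobj (⊤ : Y.Opens) ⟶ EtCoh.top Y := AicVanishLib.toTop _
  obtain ⟨k⟩ := AicVanishLib.exists_zobj_hom (T := EtCoh.top Y) (U := (⊤ : Y.Opens)) (fun x _ => trivial)
  let e : EtCoh.top Y ≅ AicVanishLib.zobj (⊤ : Y.Opens) :=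
    ⟨k, j, AicVanishLib.toTop_ext _ _, AicVanishLib.zobj_hom_ext _ _⟩
  let c : M ≃+ EtCoh.sect F (AicVanishLib.zobj (⊤ : Y.Opens)) := AddEquiv.ofBijective (AicVanishLib.cst M ⊤)
    ⟨fun m m' h => AicVanishLib.cst_injective M (U := ⊤) (x := genericPoint Y) trivial h, fun s => by
      obtain ⟨φ, hφ⟩ := AicVanishLib.exists_fun M s
      refine ⟨φ (genericPoint Y), AicVanishLib.sect_ext F _ _ fun x hx => ?_⟩
      obtain ⟨W, hW, hxW, hres, hconst⟩ := hφ x hx
      refine ⟨W, hW, hxW, ?_⟩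
      rw [hres, AicVanishLib.res_cst, hconst (genericPoint Y) ((genericPoint_specializes x).mem_open W.isOpen hxW)]⟩
  exact ⟨(Sheaf.H.equiv₀ F hT).trans ((F.obj.mapIso e.symm.op).addCommGroupIsoToAddEquiv.trans c.symm)⟩

/-- Let k be an algebraically closed field, Xb a smooth proper curve over k, U the open complement of r
≥ 1 closed points of Xb and n ≥ 1 invertible in k. Then the global sections of the sheaf of n-th
roots of unity on U form a group isomorphic to the n-th roots of unity of k, and H^q(U, μ_n)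
vanishes for q ≥ 2. -/
theorem result (k : Type u) [Field k] [IsAlgClosed k] (Xb : Scheme.{u})
    [Xb.Over (Spec (CommRingCat.of k))] (hXb : Curve.IsSmoothProperCurve k Xb (Xb ↘ Spec (CommRingCat.of k)))
    (U : Xb.Opens) (r : ℕ) (hr : 1 ≤ r) (hUc : ((U : Set Xb)ᶜ).Finite) (hUr : Nat.card ↥((U : Set Xb)ᶜ) = r)
    (n : ℕ) (hn : 1 ≤ n) (hnk : (n : k) ≠ 0) :
    Nonempty (EtCoh.H (↑U : Scheme.{u}) (EtCoh.mu ↑U n) 0 ≃+ Additive ↥(rootsOfUnity n k)) ∧
    ∀ q : ℕ, 2 ≤ q → Subsingleton (EtCoh.H (↑U : Scheme.{u}) (EtCoh.mu ↑U n) q) := by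
  obtain ⟨_, _, _, hdim⟩ := hXb
  let U' : Scheme.{u} := U
  let f := U.ι ≫ (Xb ↘ Spec (CommRingCat.of k))
  have hne : (U : Set Xb).Nonempty := by
    by_contra h
    rw [Set.not_nonempty_iff_eq_empty] at h
    rw [h, Set.compl_empty] at hUc
    haveI : Finite Xb := Set.finite_univ_iff.1 hUc
    exact CurveH2Lib.false_of_finite k Xb hdim
  obtain ⟨y, hy⟩ := hne
  haveI : Nonempty (U : Scheme.{u}) := ⟨⟨y, hy⟩⟩
  haveI : IsIntegral (U : Scheme.{u}) := isIntegral_of_isOpenImmersion U.ι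
  have hclosed : ∀ x ∉ U, IsClosed ({x} : Set Xb) := fun x hx => by
    haveI : JacobsonSpace Xb := LocallyOfFiniteType.jacobsonSpace (Xb ↘ Spec (CommRingCat.of k))
    exact CurvFieldLib.isClosed_singleton_of_mem_finite U.isOpen.isClosed_compl hUc hx
  obtain ⟨s, hs⟩ : ((U : Set Xb)ᶜ).Nonempty := by
    by_contra h
    rw [Set.not_nonempty_iff_eq_empty] at h
    rw [h, Nat.card_coe_set_eq, Set.ncard_empty] at hUr
    omega
  refine ⟨?_, fun q hq => ?_⟩
  · obtain ⟨i⟩ := CurveH2Lib.mu_iso_const k f n hnk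
    obtain ⟨c⟩ := nonempty_H_zero_const (Y := (U : Scheme.{u})) (ZMod n)
    haveI : NeZero n := ⟨by omega⟩
    haveI : NeZero (n : k) := ⟨hnk⟩
    obtain ⟨ζ, hζ⟩ := HasEnoughRootsOfUnity.exists_primitiveRoot k n
    obtain ⟨ζu, rfl⟩ := hζ.isUnit (by omega)
    have hζ' := IsPrimitiveRoot.coe_units_iff.1 hζ
    exact ⟨((((EtCoh.HF _ 0).mapIso i).addCommGroupIsoToAddEquiv).trans c).trans
      (hζ'.zmodEquivZPowers.trans (MulEquiv.toAdditive (MulEquiv.subgroupCongr hζ'.zpowers_eq)))⟩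
  · obtain rfl | hq2 := hq.eq_or_lt
    · exact CurveH2Lib.subsingleton_H2_mu_open k Xb hdim U (hclosed s hs) hs hUc hclosed n hnk
    · exact CurveH2Lib.subsingleton_H_mu_gt_two k Xb hdim U n hn q hq2

end Groth.Agent.S0663
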