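import Groth.Statements.S0761
import Groth.Agent.LocAcycBCLib.Main

set_option autoImplicit false
open CategoryTheory CategoryTheory.Limits AlgebraicGeometry Opposite
open scoped TensorProduct
universe u
open EtRest

namespace Groth.Agent.S0761

/-- In the case of a locally quasi-finite base change and for constant coefficients: if f : X -> S is
locally acyclic and g : S' -> S is locally quasi-finite, then the base change f' : X x_S S' -> S' is
locally acyclic. -/
theorem result {X S S' : Scheme.{u}} (f : X ⟶ S) (g : S' ⟶ S)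
    [LocallyOfFiniteType g] [LocallyQuasiFinite g] (hf : EtRest.IsLocallyAcyclic f) :
    EtRest.IsLocallyAcyclic (pullback.snd f g) := by
  refine LocAcycBCLib.isLocallyAcyclic_baseChange f g (fun s' => ?_) hf
  obtain ⟨U, hU, hs, -⟩ := exists_isAffineOpen_mem_and_subset (x := g.base s') (U := ⊤) trivial
  obtain ⟨V, hV, hsV, e⟩ := exists_isAffineOpen_mem_and_subset (x := s') (U := g ⁻¹ᵁ U) hs
  refine ⟨U, V, hU, hV, e, hsV, ?_⟩
  letI := (g.appLE U V e).hom.toAlgebra
  intro s
  haveI : Algebra.FiniteType Γ(S, U) Γ(S', V) := g.finiteType_appLE hU hV e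
  haveI : Algebra.QuasiFinite Γ(S, U) Γ(S', V) := LocallyQuasiFinite.quasiFinite_appLE hU hV e
  haveI := Algebra.FiniteType.equiv ‹Algebra.FiniteType Γ(S, U) Γ(S', V)› Subalgebra.topEquiv.symm
  exact ⟨⊤, Set.subset_univ _, inferInstance,
    Algebra.QuasiFinite.of_surjective_algHom Subalgebra.topEquiv.symm.toAlgHom Subalgebra.topEquiv.symm.surjective⟩

end Groth.Agent.S0761
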