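import Groth.Statements.S2041
import Groth.Agent.EtIdemLib.Basic

set_option autoImplicit false
universe u
open CAlg

namespace Groth.Agent.S2041

open TensorProduct in
/-- Let `I ⊆ A` be an ideal, `A → B` integral and `ē` an idempotent of `B/IB`. Then there is an étale
`A`-algebra `A'` with `A/I → A'/IA'` bijective and an idempotent of `A' ⊗ B` whose class modulo `I`
agrees with that of any lift of `ē`. -/
theorem result {A B : Type u} [CommRing A] [CommRing B] [Algebra A B]
    [Algebra.IsIntegral A B] (I : Ideal A) (e : B ⧸ I.map (algebraMap A B)) (he : IsIdempotentElem e) :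
    ∃ (A' : Type u) (_ : CommRing A') (_ : Algebra A A'), Algebra.Etale A A' ∧
      Function.Bijective (algebraMap (A ⧸ I) (A' ⧸ I.map (algebraMap A A'))) ∧
      ∃ e' : A' ⊗[A] B, IsIdempotentElem e' ∧
        ∀ b : B, Ideal.Quotient.mk (I.map (algebraMap A B)) b = e →
          e' - 1 ⊗ₜ b ∈ I.map (algebraMap A (A' ⊗[A] B)) := by
  classical
  obtain ⟨b, rfl⟩ := Ideal.Quotient.mk_surjective e
  have hε : b ^ 2 - b ∈ (I • ⊤ : Submodule A B) := by
    rw [Ideal.smul_top_eq_map]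
    rw [pow_two]
    exact (Ideal.Quotient.eq.mp (by rw [map_mul]; exact he))
  have hfin : ∀ z ∈ (I • ⊤ : Submodule A B), ∃ S : Finset B,
      z ∈ I • Subalgebra.toSubmodule (Algebra.adjoin A (S : Set B)) := fun z hz => by
    refine Submodule.smul_induction_on hz (fun a ha c _ => ⟨{c}, Submodule.smul_mem_smul ha
      (Algebra.subset_adjoin (by simp))⟩) fun x y ⟨S, hS⟩ ⟨T, hT⟩ => ⟨S ∪ T, add_mem ?_ ?_⟩
    · exact Submodule.smul_mono le_rfl (Subalgebra.toSubmodule.monotone (Algebra.adjoin_mono (by simp))) hS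
    · exact Submodule.smul_mono le_rfl (Subalgebra.toSubmodule.monotone (Algebra.adjoin_mono (by simp))) hT
  obtain ⟨S, hS⟩ := hfin _ hε
  let B₀ := Algebra.adjoin A ((insert b S : Finset B) : Set B)
  haveI : Module.Finite A B₀ := Module.Finite.iff_fg.mpr
    (fg_adjoin_of_finite (Finset.finite_toSet _) fun x _ => Algebra.IsIntegral.isIntegral x)
  let ε₀ : B₀ := ⟨b ^ 2 - b, sub_mem (pow_mem (Algebra.subset_adjoin (by simp)) 2) (Algebra.subset_adjoin (by simp))⟩
  have hε₀ : ε₀ ∈ (I • ⊤ : Submodule A B₀) := by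
    refine (Submodule.mem_smul_top_iff I (Subalgebra.toSubmodule B₀) ε₀).mpr ?_
    exact Submodule.smul_mono le_rfl (Subalgebra.toSubmodule.monotone (Algebra.adjoin_mono (by simp))) hS
  obtain ⟨p, d, hp, hpI, hp0⟩ := EtIdemLib.exists_map_eq_X_pow (Algebra.lmul A B₀ ε₀) (J := I) (by
    rintro _ ⟨z, rfl⟩
    rw [Ideal.smul_top_eq_map] at hε₀ ⊢
    exact Ideal.mul_mem_right z _ hε₀)
  have hχ0 : Polynomial.aeval (b ^ 2 - b) (p * Polynomial.X) = 0 := by
    have h0 : Polynomial.aeval ε₀ p = 0 := by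
      apply Algebra.lmul_injective (R := A)
      rw [← Polynomial.aeval_algHom_apply, hp0, map_zero]
    rw [map_mul, show (b ^ 2 - b) = B₀.val ε₀ from rfl, Polynomial.aeval_algHom_apply, h0, map_zero, zero_mul]
  obtain ⟨A', _, _, _, hb, w, hw, hw'⟩ := EtIdemLib.exists_idem_poly I (p * Polynomial.X) (hp.mul Polynomial.monic_X) (d + 1)
    d.succ_pos (by rw [Polynomial.map_mul, hpI, Polynomial.map_X, pow_succ])
  refine ⟨A', inferInstance, inferInstance, inferInstance, hb, Polynomial.aeval ((1 : A') ⊗ₜ[A] b) w, ?_, fun b' hb' => ?_⟩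
  · obtain ⟨k, hk⟩ := hw
    have h0 : Polynomial.aeval ((1 : A') ⊗ₜ[A] b) (((p * Polynomial.X).comp (Polynomial.X ^ 2 - Polynomial.X)).map (algebraMap A A')) = 0 := by
      rw [Polynomial.aeval_map_algebraMap, show ((1 : A') ⊗ₜ[A] b) = Algebra.TensorProduct.includeRight b from rfl,
        Polynomial.aeval_algHom_apply, Polynomial.aeval_comp, map_sub, map_pow, Polynomial.aeval_X, hχ0, map_zero]
    have h1 := congrArg (Polynomial.aeval ((1 : A') ⊗ₜ[A] b)) hk
    rw [map_sub, map_pow, map_mul, h0, zero_mul, sub_eq_zero, pow_two] at h1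
    exact h1
  · let C := (A' ⊗[A] B) ⧸ I.map (algebraMap A (A' ⊗[A] B))
    have hle : I.map (algebraMap A A') ≤ (I.map (algebraMap A (A' ⊗[A] B))).comap (algebraMap A' (A' ⊗[A] B)) := by
      rw [Ideal.map_le_iff_le_comap, Ideal.comap_comap, ← IsScalarTower.algebraMap_eq]
      exact Ideal.le_comap_map
    let f : A' ⧸ I.map (algebraMap A A') →+* C := Ideal.quotientMap _ (algebraMap A' (A' ⊗[A] B)) hle
    have hbb : ∀ x : B, x ∈ I.map (algebraMap A B) → (1 : A') ⊗ₜ[A] x ∈ I.map (algebraMap A (A' ⊗[A] B)) := fun x hx => by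
      have := Ideal.mem_map_of_mem (Algebra.TensorProduct.includeRight (R := A) (A := A')).toRingHom hx
      rw [Ideal.map_map] at this
      simpa using this
    obtain ⟨k, hk⟩ := hw'
    have hbI : (1 : A') ⊗ₜ[A] (b - b') ∈ I.map (algebraMap A (A' ⊗[A] B)) := hbb _ (Ideal.Quotient.eq.mp hb'.symm)
    rw [tmul_sub] at hbI
    have h2 := congrArg (Polynomial.eval₂ f (Ideal.Quotient.mk _ ((1 : A') ⊗ₜ[A] b))) hk
    have hidem : Ideal.Quotient.mk (I.map (algebraMap A (A' ⊗[A] B))) ((1 : A') ⊗ₜ[A] b) ^ 2 -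
        Ideal.Quotient.mk _ ((1 : A') ⊗ₜ[A] b) = 0 := by
      rw [← map_pow, ← map_sub, Ideal.Quotient.eq_zero_iff_mem, Algebra.TensorProduct.tmul_pow, one_pow, ← tmul_sub]
      apply hbb
      rw [Ideal.smul_top_eq_map] at hε
      exact hε
    simp only [Polynomial.eval₂_sub, Polynomial.eval₂_mul, Polynomial.eval₂_pow, Polynomial.eval₂_X, hidem, zero_mul,
      Polynomial.eval₂_map] at h2
    rw [show f.comp (Ideal.Quotient.mk (I.map (algebraMap A A'))) =
        (Ideal.Quotient.mk (I.map (algebraMap A (A' ⊗[A] B)))).comp (algebraMap A' (A' ⊗[A] B)) from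
      RingHom.ext fun z => (show Ideal.quotientMap _ (algebraMap A' (A' ⊗[A] B)) hle (Ideal.Quotient.mk _ z) = _ from Ideal.quotientMap_mk), ← Polynomial.hom_eval₂, ← map_sub, Ideal.Quotient.eq_zero_iff_mem] at h2
    rw [show Polynomial.aeval ((1 : A') ⊗ₜ[A] b) w - (1 : A') ⊗ₜ[A] b' =
      (Polynomial.eval₂ (algebraMap A' (A' ⊗[A] B)) ((1 : A') ⊗ₜ[A] b) w - (1 : A') ⊗ₜ[A] b) +
        ((1 : A') ⊗ₜ[A] b - (1 : A') ⊗ₜ[A] b') by rw [Polynomial.aeval_def]; abel]
    exact add_mem h2 hbI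

end Groth.Agent.S2041
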