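import Groth.Statements.S4329
import Groth.Agent.EtShLib.Constructible
import Groth.Agent.BigEtLib.KInj
import Groth.Agent.DerLib.KInjDerived
import Groth.Agent.DerLib.KInjRes

set_option autoImplicit false
universe u
open CategoryTheory CategoryTheory.Limits AlgebraicGeometry Opposite
attribute [local instance] HasDerivedCategory.standard
open EtSix

namespace Groth.Agent.S4329

/-- Composition of derived direct images: for the small etale sites of schemes and abelian sheaves: let
f : X -> Y and g : Y -> Z be morphisms of schemes and assume the unbounded derived direct images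
Rf_*, Rg_* and R(g ∘ f)_* exist (they do; the existence is recorded as instance hypotheses). Then
the canonical morphism R(g ∘ f)_* -> Rg_* ∘ Rf_* of functors D(X_et) -> D(Z_et), induced by (g ∘
f)_* ≅ g_* ∘ f_* through the universal property of R(g ∘ f)_* as a right derived functor, is an
isomorphism. -/
theorem result {X Y Z : Scheme.{u}} (f : X ⟶ Y) (g : Y ⟶ Z)
    [DCoh.HasRpushEt X f] [DCoh.HasRpushEt Y g] [DCoh.HasRpushEt X (f ≫ g)] :
    IsIso (EtSix.compMap f g) := by
  haveI : PreservesFiniteLimits (EtCoh.pull f) := Groth.Agent.EtShLib.preservesFiniteLimits_pullA (A := AddCommGrpCat.{u + 1}) f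
  let adj : EtCoh.pull f ⊣ EtCoh.push f :=
    (EtCoh.bc f).sheafAdjunctionContinuous AddCommGrpCat.{u + 1} Y.smallEtaleTopology X.smallEtaleTopology
  haveI : (EtCoh.pull f).IsLeftAdjoint := adj.isLeftAdjoint
  haveI : PreservesFiniteColimits (EtCoh.pull f) := inferInstance
  haveI : (EtCoh.pull f).Additive := adj.left_adjoint_additive
  haveI : (EtCoh.pull f).PreservesHomology := inferInstance
  have hX : Groth.Agent.DerLib.KInjDerived.EnoughKInj (EtCoh.Ab X) := fun K => by
    haveI : IsGrothendieckAbelian.{u + 1} (EtCoh.Ab X) := inferInstance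
    obtain ⟨I, g, hI, hg, -⟩ := Groth.Agent.DerLib.KInjRes.exists_resolution K
    exact ⟨I, g, hI, (HomologicalComplex.mem_quasiIso_iff _).1 hg.2⟩
  have hY : Groth.Agent.DerLib.KInjDerived.EnoughKInj (EtCoh.Ab Y) := fun K => by
    haveI : IsGrothendieckAbelian.{u + 1} (EtCoh.Ab Y) := inferInstance
    obtain ⟨I, g, hI, hg, -⟩ := Groth.Agent.DerLib.KInjRes.exists_resolution K
    exact ⟨I, g, hI, (HomologicalComplex.mem_quasiIso_iff _).1 hg.2⟩
  rw [EtSix.compMap, ← Functor.isRightDerivedFunctor_iff_isIso_rightDerivedDesc]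
  refine Groth.Agent.DerLib.KInjDerived.isRightDerivedFunctor_of_isIso _ _ hX fun I hI => ?_
  haveI := Groth.Agent.DerLib.KInjDerived.isIso_app (DCoh.RpushEt X f)
    ((DCoh.pushEtKh X f).totalRightDerivedUnit DerivedCategory.Qh _) hX I
  haveI := BigEtLib.isKInjective_map_of_adjunction adj I hI
  haveI : IsIso (((DCoh.pushEtKh Y g).totalRightDerivedUnit DerivedCategory.Qh
      (HomotopyCategory.quasiIso (EtCoh.Ab Y) (ComplexShape.up ℤ))).app
        (((EtCoh.push f).mapHomotopyCategory (ComplexShape.up ℤ)).obj
          ((HomotopyCategory.quotient (EtCoh.Ab X) (ComplexShape.up ℤ)).obj I))) :=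
    Groth.Agent.DerLib.KInjDerived.isIso_app (DCoh.RpushEt Y g) _ hY
      (((EtCoh.push f).mapHomologicalComplex (ComplexShape.up ℤ)).obj I)
  haveI : IsIso (NatTrans.mapHomotopyCategory (EtCoh.pushComp g f).inv (ComplexShape.up ℤ)) :=
      ⟨NatTrans.mapHomotopyCategory (EtCoh.pushComp g f).hom (ComplexShape.up ℤ),
        by rw [← NatTrans.mapHomotopyCategory_comp, Iso.inv_hom_id, NatTrans.mapHomotopyCategory_id],
        by rw [← NatTrans.mapHomotopyCategory_comp, Iso.hom_inv_id, NatTrans.mapHomotopyCategory_id]⟩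
  simp only [EtSix.compUnit, NatTrans.comp_app, Functor.whiskerRight_app, Functor.whiskerLeft_app,
    Functor.associator_hom_app, Functor.associator_inv_app]
  infer_instance

end Groth.Agent.S4329
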