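import Groth.Statements.S3581
import Mathlib.Algebra.MvPolynomial.Division
-- import your own Groth.Agent.* helpers here

set_option autoImplicit false
universe u
open CategoryTheory CategoryTheory.Limits AlgebraicGeometry
open EGA2

namespace Groth.Agent.S3581

/-- Over an affine base Spec A, Proj of the graded polynomial algebra A[T] (T of degree one) is
identified with Spec A by its structure morphism: the structure morphism from projective 0-space
over A to Spec A is an isomorphism. -/
theorem result (A : Type u) [CommRing A] :
    IsIso (CohB1.ProjSpace.toSpec 0 A) := by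
  classical
  let 𝒜 := CohB1.polyGrading 0 A
  let X0 : MvPolynomial (Fin 1) A := MvPolynomial.X 0
  have hX : X0 ∈ 𝒜 1 := (MvPolynomial.mem_homogeneousSubmodule _ _).mpr (MvPolynomial.isHomogeneous_X A 0)
  have htop : Proj.basicOpen 𝒜 X0 = ⊤ := by
    have h := Proj.iSup_basicOpen_eq_top 𝒜 (fun _ : PUnit.{1} => X0) (fun a ha => ?_)
    · simpa using h
    · rw [Set.range_const, Ideal.mem_span_singleton, MvPolynomial.X_dvd_iff_modMonomial_eq_zero]
      ext m
      by_cases hm : Finsupp.single (0 : Fin 1) 1 ≤ m
      · rw [MvPolynomial.coeff_modMonomial_of_le _ hm]; rfl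
      · rw [MvPolynomial.coeff_modMonomial_of_not_le _ hm, MvPolynomial.coeff_zero]
        have h0 : m = 0 := by
          refine Finsupp.ext fun i => ?_
          obtain rfl := Subsingleton.elim i (0 : Fin 1)
          by_contra hne
          refine hm (Finsupp.single_le_iff.mpr ?_)
          simp only [Finsupp.zero_apply] at hne
          omega
        subst h0
        have h' := (HomogeneousIdeal.mem_irrelevant_iff 𝒜 a).mp ha
        rw [GradedRing.proj_apply] at h'
        have h'' := congrArg (MvPolynomial.coeff (0 : Fin 1 →₀ ℕ)) h'
        rw [show (DirectSum.decompose 𝒜 a 0 : MvPolynomial (Fin 1) A) = MvPolynomial.homogeneousComponent 0 a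
          from MvPolynomial.decomposition.decompose'_apply a 0, MvPolynomial.coeff_homogeneousComponent] at h''
        simpa using h''
  let ι := Proj.awayι 𝒜 X0 hX one_pos
  have hι : IsIso ι := by
    have : IsOpenImmersion ι := inferInstance
    have h1 : ι.opensRange = ⊤ := (Proj.opensRange_awayι 𝒜 X0 hX one_pos).trans htop
    have : Epi ι.base := (TopCat.epi_iff_surjective _).mpr fun y =>
      (show y ∈ ι.opensRange by rw [h1]; trivial)
    exact IsOpenImmersion.isIso ι
  have hb : Function.Bijective ((HomogeneousLocalization.fromZeroRingHom 𝒜 (Submonoid.powers X0)).comp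
      (algebraMap A (𝒜 0))) := by
    refine ⟨(injective_iff_map_eq_zero _).mpr fun c hc => ?_, fun z => ?_⟩
    · have h' := congrArg HomogeneousLocalization.val hc
      rw [RingHom.comp_apply, HomogeneousLocalization.fromZeroRingHom, RingHom.coe_mk] at h'
      simp only [MonoidHom.coe_mk, OneHom.coe_mk, HomogeneousLocalization.val_mk,
        HomogeneousLocalization.val_zero] at h'
      rw [← Localization.mk_zero (1 : Submonoid.powers X0), Localization.mk_eq_mk_iff, Localization.r_iff_exists] at h'
      obtain ⟨⟨_, N, rfl⟩, hN⟩ := h'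
      have h2 : X0 ^ N * MvPolynomial.C c = 0 := by simpa using hN
      have h3 := congrArg (MvPolynomial.coeff (Finsupp.single (0 : Fin 1) N)) h2
      rw [mul_comm, MvPolynomial.coeff_C_mul, MvPolynomial.coeff_X_pow] at h3
      simpa using h3
    · obtain ⟨k, a, ha, rfl⟩ := HomogeneousLocalization.Away.mk_surjective 𝒜 hX z
      refine ⟨MvPolynomial.coeff (Finsupp.single 0 k) a, ?_⟩
      have hak : a = MvPolynomial.C (MvPolynomial.coeff (Finsupp.single 0 k) a) * X0 ^ k := by
        ext m
        rw [MvPolynomial.coeff_C_mul, MvPolynomial.coeff_X_pow]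
        by_cases hm : Finsupp.single (0 : Fin 1) k = m
        · rw [if_pos hm, mul_one, hm]
        · rw [if_neg hm, mul_zero]
          by_contra hne
          refine hm ?_
          have hh := ((MvPolynomial.mem_homogeneousSubmodule _ _).mp ha) hne
          simp [Finsupp.weight_apply, Finsupp.sum_fintype] at hh
          refine Finsupp.ext fun i => ?_
          obtain rfl := Subsingleton.elim i (0 : Fin 1)
          simp [hh]
      apply HomogeneousLocalization.val_injective
      rw [RingHom.comp_apply, HomogeneousLocalization.fromZeroRingHom, RingHom.coe_mk,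
        HomogeneousLocalization.Away.val_mk]
      simp only [MonoidHom.coe_mk, OneHom.coe_mk, HomogeneousLocalization.val_mk]
      rw [Localization.mk_eq_mk_iff, Localization.r_iff_exists]
      refine ⟨1, ?_⟩
      conv_rhs => rw [hak]
      simp [MvPolynomial.algebraMap_eq, mul_comm]
  suffices IsIso (ι ≫ CohB1.ProjSpace.toSpec 0 A) from IsIso.of_isIso_comp_left ι _
  have : IsIso (CommRingCat.ofHom ((HomogeneousLocalization.fromZeroRingHom 𝒜 (Submonoid.powers X0)).comp
      (algebraMap A (𝒜 0)))) := (ConcreteCategory.isIso_iff_bijective _).mpr hb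
  have e : ι ≫ CohB1.ProjSpace.toSpec 0 A = Spec.map (CommRingCat.ofHom
      ((HomogeneousLocalization.fromZeroRingHom 𝒜 (Submonoid.powers X0)).comp (algebraMap A (𝒜 0)))) := by
    rw [CommRingCat.ofHom_comp, Spec.map_comp]
    exact Proj.awayι_toSpecZero_assoc 𝒜 X0 hX one_pos _
  rw [e]
  infer_instance

end Groth.Agent.S3581
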