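import Groth.Statements.S1461
import Groth.Agent.FibDimLib.DimLoci
import Groth.Agent.RadBoundLib.GrLocus

set_option autoImplicit false
set_option linter.style.haveILetI false
universe u
open FlatMor

namespace Groth.Agent.S1461

open AlgebraicGeometry CategoryTheory Limits in
/-- Let f : X → S be a morphism of finite presentation between affine schemes whose fibres are
geometrically reduced. Then f is the base change of a morphism of finite type f₀ : X₀ → S₀ between
affine schemes with S₀ of finite type over ℤ, where f₀ can be chosen with the same property. -/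
theorem result {X S : Scheme.{u}} (f : X ⟶ S) [IsAffine X] [IsAffine S] [LocallyOfFinitePresentation f] [GeometricallyReduced f] :
    ∃ (X₀ S₀ : Scheme.{u}) (f₀ : X₀ ⟶ S₀) (g : S ⟶ S₀) (g' : X ⟶ X₀), IsAffine X₀ ∧ IsAffine S₀ ∧ IsPullback g' f f₀ g ∧
      Algebra.FiniteType ℤ Γ(S₀, ⊤) ∧ LocallyOfFiniteType f₀ ∧ GeometricallyReduced f₀ := by
  let A := ConsLib.zSys (Γ(S, ⊤) : Type u)
  haveI : ∀ i j (a : i ⟶ j), IsAffineHom (A.D.map a) := fun _ _ a => A.affine_map a
  obtain ⟨i, N, hN⟩ := ConsLib.exists_affine_model f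
  haveI := N.lfp
  haveI := N.qc
  haveI := N.qs
  haveI : IsNoetherian (A.D.obj i) := ConsLib.zSys_obj _ i
  let e : S ≅ A.c.pt := S.isoSpec ≪≫ (ConsLib.zSysIso _).symm
  have hgr := RadBoundLib.geometricallyReduced_iff_grLocus f |>.1 ‹_›
  have hE := (ProConsLib.isLocallyConstructible_iff_ind_and_pro.mp
    (RadBoundLib.isLocallyConstructible_grLocus N.p)).1
  obtain ⟨j, φ, hφ⟩ := ConsLib.exists_stage_subset A.D A.c A.hc i hE (fun t => by
    show t ∈ (A.c.π.app i).base ⁻¹' RadBoundLib.grLocus N.p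
    rw [← RadBoundLib.grLocus_bc _ _ _ _ N.sq]
    have sq2 : IsPullback (𝟙 X) (f ≫ e.hom) f e.inv := IsPullback.of_horiz_isIso ⟨by simp⟩
    exact (congrArg (t ∈ ·) (RadBoundLib.grLocus_bc f (f ≫ e.hom) (𝟙 X) e.inv sq2)).mpr (hgr _))
  let N' := N.push φ
  haveI := N'.lfp
  haveI : IsAffine N'.Z := @isAffine_of_isAffineHom _ _ (N.pfst φ)
    (MorphismProperty.pullback_fst (P := @IsAffineHom) _ _ inferInstance) hN
  refine ⟨N'.Z, _, N'.p, e.hom ≫ A.c.π.app j, N'.g, inferInstance, ConsLib.zSys_affine j, ?_,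
    ConsLib.zSys_finiteType j, inferInstance, (RadBoundLib.geometricallyReduced_iff_grLocus _).2 fun s₀ => ?_⟩
  · exact N'.sq.of_iso (Iso.refl _) (Iso.refl _) e.symm (Iso.refl _) (by simp) (by simp [e]) (by simp) (by simp [e, A])
  · rw [RadBoundLib.grLocus_bc _ _ _ _ (N.isPullback_pfst φ)]
    exact hφ s₀

end Groth.Agent.S1461
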