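import Groth.Statements.S9759
import Mathlib
import Groth.Agent.RichLib.FlatModel
-- import your own Groth.Agent.* helpers here

set_option autoImplicit false
universe u
open FlatMor

namespace Groth.Agent.S9759

open AlgebraicGeometry CategoryTheory Limits in
/-- Let f : X ⟶ S be a flat morphism of finite presentation between affine schemes. Then f is the base
change of a morphism of finite type f₀ : X₀ ⟶ S₀ between affine schemes with S₀ of finite type over
ℤ and f₀ flat. -/
theorem result {X S : Scheme.{u}} (f : X ⟶ S) [IsAffine X] [IsAffine S] [LocallyOfFinitePresentation f] [Flat f] :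
    ∃ (X₀ S₀ : Scheme.{u}) (f₀ : X₀ ⟶ S₀) (g : S ⟶ S₀) (g' : X ⟶ X₀), IsAffine X₀ ∧ IsAffine S₀ ∧ IsPullback g' f f₀ g ∧
      Algebra.FiniteType ℤ Γ(S₀, ⊤) ∧ LocallyOfFiniteType f₀ ∧ Flat f₀ := by
  have hf : f.appTop.hom.FinitePresentation :=
    (HasRingHomProperty.iff_of_isAffine (P := @LocallyOfFinitePresentation)).mp ‹_›
  have hfl : f.appTop.hom.Flat := (HasRingHomProperty.iff_of_isAffine (P := @Flat)).mp ‹_›
  letI := f.appTop.hom.toAlgebra
  haveI : Algebra.FinitePresentation Γ(S, ⊤) Γ(X, ⊤) := hf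
  haveI : Module.Flat Γ(S, ⊤) Γ(X, ⊤) := hfl
  obtain ⟨A₁, B₁, _, _, _, _, _, _, _, ⟨e⟩⟩ := RichLib.FlatModel.exists_flat_model Γ(S, ⊤) Γ(X, ⊤)
  refine ⟨Spec (CommRingCat.of B₁), Spec (CommRingCat.of A₁), Spec.map (CommRingCat.ofHom (algebraMap A₁ B₁)),
    S.isoSpec.hom ≫ Spec.map (CommRingCat.ofHom (algebraMap A₁ Γ(S, ⊤))),
    X.isoSpec.hom ≫ Spec.map (CommRingCat.ofHom (e.toRingEquiv.toRingHom.comp
      (Algebra.TensorProduct.includeRight : B₁ →ₐ[A₁] _).toRingHom)), inferInstance, inferInstance, ?_, ?_, ?_, ?_⟩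
  · refine IsPullback.of_iso (isPullback_SpecMap_of_isPushout _ _ _ _
      (CommRingCat.isPushout_tensorProduct A₁ Γ(S, ⊤) B₁)).flip
      ((Scheme.Spec.mapIso (RingEquiv.toCommRingCatIso e.toRingEquiv.symm).op) ≪≫ X.isoSpec.symm) (Iso.refl _)
      S.isoSpec.symm (Iso.refl _) ?_ ?_ ?_ ?_
    · simp only [Iso.trans_hom, Iso.symm_hom, Functor.mapIso_hom, Iso.op_hom, Iso.refl_hom,
        Category.comp_id, Scheme.Spec_map, Category.assoc, Iso.inv_hom_id_assoc, ← Spec.map_comp]
      congr 1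
      ext b
      simp
    · simp only [Iso.trans_hom, Iso.symm_hom, Functor.mapIso_hom, Iso.op_hom, Scheme.Spec_map,
        Category.assoc]
      rw [← Scheme.isoSpec_inv_naturality, ← Category.assoc, ← Spec.map_comp]
      congr 2
      refine CommRingCat.hom_ext (RingHom.ext fun a => ?_)
      exact (e.symm.commutes a).symm
    · simp
    · simp
  · exact Algebra.FiniteType.equiv inferInstance
      ((Scheme.ΓSpecIso (CommRingCat.of A₁)).commRingCatIsoToRingEquiv.symm.toIntAlgEquiv)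
  · exact (HasRingHomProperty.Spec_iff (P := @LocallyOfFiniteType)).mpr
      (RingHom.finiteType_algebraMap.mpr inferInstance)
  · exact (HasRingHomProperty.Spec_iff (P := @Flat)).mpr (RingHom.flat_algebraMap_iff.mpr inferInstance)

end Groth.Agent.S9759
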