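import Groth.Statements.S9633
import Mathlib.RingTheory.Spectrum.Prime.Topology
import Groth.Agent.WeakAssLib.Basic
-- import your own Groth.Agent.* helpers here

set_option autoImplicit false
set_option linter.style.haveILetI false
universe u
open CAlg

namespace Groth.Agent.S9633

/-- For a ring R with spectrum X the following are equivalent: (1) X is profinite, i.e. compact,
Hausdorff and totally disconnected; (2) X is Hausdorff; (3) X is totally disconnected; (4) every
quasi-compact open subset of X is closed; (5) there are no nontrivial inclusions among prime ideals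
of R; (6) every prime ideal of R is maximal; (7) every prime ideal of R is a minimal prime; (8)
every standard open D(f) is closed. -/
theorem result {R : Type u} [CommRing R] :
    [CompactSpace (PrimeSpectrum R) ∧ T2Space (PrimeSpectrum R) ∧ TotallyDisconnectedSpace (PrimeSpectrum R),
      T2Space (PrimeSpectrum R),
      TotallyDisconnectedSpace (PrimeSpectrum R),
      ∀ W : Set (PrimeSpectrum R), IsOpen W → IsCompact W → IsClosed W,
      ∀ p q : PrimeSpectrum R, p ≤ q → p = q,
      ∀ p : Ideal R, p.IsPrime → p.IsMaximal,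
      ∀ p : Ideal R, p.IsPrime → p ∈ minimalPrimes R,
      ∀ f : R, IsClosed (PrimeSpectrum.basicOpen f : Set (PrimeSpectrum R))].TFAE := by
  tfae_have 1 → 2 := fun h => h.2.1
  tfae_have 1 → 3 := fun h => h.2.2
  tfae_have 2 → 4 := fun h W _ hWc => hWc.isClosed
  tfae_have 4 → 8 := fun h f => h _ (PrimeSpectrum.basicOpen f).2 (PrimeSpectrum.isCompact_basicOpen f)
  tfae_have 8 → 5 := by
    intro h p q hpq
    refine le_antisymm hpq fun x hx => ?_
    by_contra hxp
    have h1 : q ∈ closure ({p} : Set (PrimeSpectrum R)) :=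
      ((PrimeSpectrum.le_iff_specializes p q).1 hpq).mem_closure
    exact ((PrimeSpectrum.mem_basicOpen x q).1 (closure_minimal (by simpa using hxp) (h x) h1)) hx
  tfae_have 3 → 5 := by
    intro h p q hpq
    have h1 : q ∈ closure ({p} : Set (PrimeSpectrum R)) :=
      ((PrimeSpectrum.le_iff_specializes p q).1 hpq).mem_closure
    have h2 : q ∈ connectedComponent p :=
      (isClosed_connectedComponent.closure_subset_iff.2 (Set.singleton_subset_iff.2 mem_connectedComponent)) h1
    rw [connectedComponent_eq_singleton] at h2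
    exact h2.symm
  tfae_have 5 → 6 := by
    intro h p hp
    obtain ⟨m, hm, hpm⟩ := Ideal.exists_le_maximal p hp.ne_top
    have := h ⟨p, hp⟩ ⟨m, hm.isPrime⟩ hpm
    rwa [show p = m from congrArg PrimeSpectrum.asIdeal this]
  tfae_have 6 → 7 := by
    intro h p hp
    refine ⟨⟨hp, bot_le⟩, ?_⟩
    rintro q ⟨hq, -⟩ hqp
    exact ((h q hq).eq_of_le hp.ne_top hqp).ge
  tfae_have 7 → 5 := fun h p q hpq => le_antisymm hpq ((h q.asIdeal q.2).2 ⟨p.2, bot_le⟩ hpq)
  tfae_have 6 → 1 := by
    intro h
    have sep : ∀ p q : PrimeSpectrum R, p ≠ q → ∃ s t : R,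
        p ∈ PrimeSpectrum.basicOpen s ∧ q ∈ PrimeSpectrum.basicOpen t ∧
          Disjoint (PrimeSpectrum.basicOpen s : Set (PrimeSpectrum R)) (PrimeSpectrum.basicOpen t) := by
      intro p q hpq
      have hne : ¬ p.asIdeal ≤ q.asIdeal := fun hle =>
        hpq (PrimeSpectrum.ext ((h p.asIdeal p.2).eq_of_le q.2.ne_top hle))
      obtain ⟨x, hxp, hxq⟩ := SetLike.not_le_iff_exists.1 hne
      obtain ⟨s, hs, n, hn⟩ := Groth.Agent.WeakAssLib.exists_mul_pow_mem ⊥ p.asIdeal x fun Q hQ _ hle => by
        rw [(h Q hQ).eq_of_le p.2.ne_top hle]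
        exact hxp
      refine ⟨s, x, hs, hxq, Set.disjoint_left.2 fun z hzs hzx => ?_⟩
      rcases z.2.mem_or_mem (show s * x ^ n ∈ z.asIdeal by rw [(Ideal.mem_bot).1 hn]; exact zero_mem _) with h' | h'
      · exact hzs h'
      · exact hzx (z.2.mem_of_pow_mem n h')
    haveI ht2 : T2Space (PrimeSpectrum R) := ⟨fun p q hpq => by
      obtain ⟨s, t, hs, ht, hst⟩ := sep p q hpq
      exact ⟨_, _, (PrimeSpectrum.basicOpen s).2, (PrimeSpectrum.basicOpen t).2, hs, ht, hst⟩⟩
    refine ⟨inferInstance, ht2, ⟨fun S _ hS p hp q hq => ?_⟩⟩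
    by_contra hne
    obtain ⟨s, t, hs, ht, hst⟩ := sep p q hne
    have hc : IsClopen (PrimeSpectrum.basicOpen s : Set (PrimeSpectrum R)) :=
      ⟨(PrimeSpectrum.isCompact_basicOpen s).isClosed, (PrimeSpectrum.basicOpen s).2⟩
    exact Set.disjoint_left.1 hst (hS.subset_isClopen hc ⟨p, hp, hs⟩ hq) ht
  tfae_finish

end Groth.Agent.S9633
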