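import Groth.Statements.S1412
import Groth.Agent.S2758
-- import your own Groth.Agent.* helpers here

set_option autoImplicit false
universe u
open FlatMor

namespace Groth.Agent.S1412


open AlgebraicGeometry CategoryTheory Limits in
theorem flat_lmul_iff {X Y : Scheme.{u}} (f : X ⟶ Y) (x : X) :
    (letI := (f.stalkMap x).hom.toAlgebra
     (Algebra.TensorProduct.lmul' (S := ↑(X.presheaf.stalk x)) (↑(Y.presheaf.stalk (f x)))).toRingHom.Flat) ↔
      Flat (pullback.diagonal (X.fromSpecStalk x ≫ f)) := by
  letI := (f.stalkMap x).hom.toAlgebra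
  let φ := Spec.map (CommRingCat.ofHom (algebraMap (Y.presheaf.stalk (f x)) (X.presheaf.stalk x)))
  let j := Y.fromSpecStalk (f x)
  have hφj : φ ≫ j = X.fromSpecStalk x ≫ f := Scheme.SpecMap_stalkMap_fromSpecStalk f
  let e : pullback φ φ ≅ pullback (φ ≫ j) (φ ≫ j) :=
    { hom := pullback.lift (pullback.fst _ _) (pullback.snd _ _) (by rw [reassoc_of% (pullback.condition (f := φ) (g := φ))])
      inv := pullback.lift (pullback.fst _ _) (pullback.snd _ _) (by
        rw [← cancel_mono j, Category.assoc, Category.assoc]
        exact pullback.condition)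
      hom_inv_id := pullback.hom_ext
        (by erw [Category.assoc, pullback.lift_fst, pullback.lift_fst, Category.id_comp])
        (by erw [Category.assoc, pullback.lift_snd, pullback.lift_snd, Category.id_comp])
      inv_hom_id := pullback.hom_ext
        (by erw [Category.assoc, pullback.lift_fst, pullback.lift_fst, Category.id_comp])
        (by erw [Category.assoc, pullback.lift_snd, pullback.lift_snd, Category.id_comp]) }
  have hd : pullback.diagonal φ ≫ e.hom = pullback.diagonal (φ ≫ j) := by
    refine pullback.hom_ext ?_ ?_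
    · erw [Category.assoc, pullback.lift_fst, pullback.diagonal_fst, pullback.diagonal_fst]
    · erw [Category.assoc, pullback.lift_snd, pullback.diagonal_snd, pullback.diagonal_snd]
  haveI : IsIso e.hom := e.isIso_hom
  rw [← hφj, ← hd, MorphismProperty.cancel_right_of_respectsIso @Flat, diagonal_SpecMap,
    MorphismProperty.cancel_right_of_respectsIso @Flat]
  exact (HasRingHomProperty.Spec_iff (P := @Flat) (φ := CommRingCat.ofHom
    (Algebra.TensorProduct.lmul' (S := ↑(X.presheaf.stalk x)) (↑(Y.presheaf.stalk (f x)))).toRingHom)).symm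

open AlgebraicGeometry CategoryTheory Limits in
/-- A morphism of schemes f : X → Y is weakly étale (flat with flat diagonal) if and only if for every
point x of X the local ring map O_{Y, f(x)} → O_{X, x} is weakly étale, that is, flat and with flat
multiplication map O_{X,x} ⊗_{O_{Y, f(x)}} O_{X,x} → O_{X,x}. -/
theorem result {X Y : Scheme.{u}} (f : X ⟶ Y) :
    WeaklyEtale f ↔ ∀ x : X, (f.stalkMap x).hom.Flat ∧
      (letI := (f.stalkMap x).hom.toAlgebra
       (Algebra.TensorProduct.lmul' (S := ↑(X.presheaf.stalk x)) (↑(Y.presheaf.stalk (f x)))).toRingHom.Flat) := by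
  have key : ∀ x : X, ∃ (k : pullback (X.fromSpecStalk x ≫ f) (X.fromSpecStalk x ≫ f) ⟶ pullback f f),
      (∀ z, IsIso (k.stalkMap z)) ∧
      pullback.diagonal (X.fromSpecStalk x ≫ f) ≫ k = X.fromSpecStalk x ≫ pullback.diagonal f := fun x => by
    haveI : Flat (X.fromSpecStalk x) := AlgSpLib.flat_fromSpecStalk x
    let k := pullback.map (X.fromSpecStalk x ≫ f) (X.fromSpecStalk x ≫ f) f f (X.fromSpecStalk x)
      (X.fromSpecStalk x) (𝟙 Y) (Category.comp_id _) (Category.comp_id _)
    haveI : Flat k := MorphismProperty.pullbackMap (P := @Flat) ‹_› ‹_› rfl rfl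
    haveI : IsPreimmersion k :=
      MorphismProperty.pullbackMap (P := @IsPreimmersion) inferInstance inferInstance rfl rfl
    refine ⟨k, fun z => AffContLib.isIso_stalkMap_of_flat_preimmersion k z, ?_⟩
    refine pullback.hom_ext ?_ ?_
    · erw [Category.assoc, pullback.lift_fst, pullback.diagonal_fst_assoc, Category.assoc,
        pullback.diagonal_fst, Category.comp_id]
    · erw [Category.assoc, pullback.lift_snd, pullback.diagonal_snd_assoc, Category.assoc,
        pullback.diagonal_snd, Category.comp_id]
  simp only [flat_lmul_iff]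
  constructor
  · intro h x
    haveI := h
    haveI : Flat (X.fromSpecStalk x) := AlgSpLib.flat_fromSpecStalk x
    refine ⟨Flat.stalkMap f x, ?_⟩
    obtain ⟨k, hk, hkd⟩ := key x
    haveI : Flat (pullback.diagonal f) := h.flat_diagonal
    refine Flat.of_stalkMap _ fun z => ?_
    have h2 : ((pullback.diagonal (X.fromSpecStalk x ≫ f) ≫ k).stalkMap z).hom.Flat := by
      rw [hkd]
      exact Flat.stalkMap _ z
    rw [Scheme.Hom.stalkMap_comp] at h2
    haveI := hk ((pullback.diagonal (X.fromSpecStalk x ≫ f)).base z)
    have h3 := Groth.Agent.S2758.flat_comp (inv (k.stalkMap _)) _ (RingHom.Flat.of_bijective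
      ((ConcreteCategory.isIso_iff_bijective (inv (k.stalkMap ((pullback.diagonal (X.fromSpecStalk x ≫ f)).base z)))).mp
        inferInstance)) h2
    rwa [IsIso.inv_hom_id_assoc] at h3
  · intro h
    haveI : Flat f := Flat.of_stalkMap _ fun x => (h x).1
    haveI : Flat (pullback.diagonal f) := Flat.of_stalkMap _ fun x => by
      obtain ⟨k, hk, hkd⟩ := key x
      haveI := (h x).2
      haveI : Flat (X.fromSpecStalk x) := AlgSpLib.flat_fromSpecStalk x
      haveI := fun z => hk z
      let c : Spec (X.presheaf.stalk x) := IsLocalRing.closedPoint _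
      have h2 : ((X.fromSpecStalk x ≫ pullback.diagonal f).stalkMap c).hom.Flat := by
        rw [← hkd, Scheme.Hom.stalkMap_comp]
        exact Groth.Agent.S2758.flat_comp _ _ (RingHom.Flat.of_bijective
          ((ConcreteCategory.isIso_iff_bijective _).mp (hk _))) (Flat.stalkMap _ c)
      rw [Scheme.Hom.stalkMap_comp] at h2
      haveI : IsIso ((X.fromSpecStalk x).stalkMap c) :=
        AffContLib.isIso_stalkMap_of_flat_preimmersion _ c
      have h3 := Groth.Agent.S2758.flat_cancel _ _ h2
      have key2 : ∀ y, y = x → ((pullback.diagonal f).stalkMap y).hom.Flat →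
          ((pullback.diagonal f).stalkMap x).hom.Flat := fun y hy hf => by
        subst hy
        exact hf
      exact key2 _ Scheme.fromSpecStalk_closedPoint h3
    exact ⟨inferInstance, inferInstance⟩

end Groth.Agent.S1412
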