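import Groth.Statements.S4672
import Mathlib

-- import your own Groth.Agent.* helpers here

set_option autoImplicit false
open CategoryTheory AlgebraicGeometry
universe u
open FBase

namespace Groth.Agent.S4672

open CategoryTheory CategoryTheory.Limits AlgebraicGeometry Topology

variable {k : Type u} [Field k] {X Y : Scheme.{u}} (f : X ⟶ Spec (CommRingCat.of k)) (g : Y ⟶ Spec (CommRingCat.of k))

theorem flat_of_field {Z : Scheme.{u}} (h : Z ⟶ Spec (CommRingCat.of k)) : Flat h := inferInstance

theorem lift_gen (z : ↥(pullback f g)) (Y' : Set Y) (hY' : IsClosed Y') (hz : pullback.snd f g z ∈ Y') (x' : X)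
    (hx : x' ⤳ pullback.fst f g z) : ∃ z', z' ⤳ z ∧ pullback.fst f g z' = x' ∧ pullback.snd f g z' ∈ Y' := by
  let I := Scheme.IdealSheafData.vanishingIdeal (⟨Y', hY'⟩ : TopologicalSpace.Closeds Y)
  let ι := I.subschemeι
  have hr : Set.range ι = Y' := by
    rw [Scheme.IdealSheafData.range_subschemeι, Scheme.IdealSheafData.coe_support_vanishingIdeal]; rfl
  let q := pullback.fst (pullback.snd f g) ι
  have hq : Set.range q = pullback.snd f g ⁻¹' Y' := by rw [Scheme.Pullback.range_fst, hr]
  obtain ⟨w, rfl⟩ : z ∈ Set.range q := hq ▸ hz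
  haveI : Flat (ι ≫ g) := flat_of_field _
  haveI : Flat (pullback.fst f (ι ≫ g)) := MorphismProperty.pullback_fst _ _ inferInstance
  haveI : Flat (q ≫ pullback.fst f g) := by
    rw [← pullbackLeftPullbackSndIso_hom_fst]; infer_instance
  obtain ⟨w', hw', he⟩ := Flat.generalizingMap (q ≫ pullback.fst f g) (show x' ⤳ (q ≫ pullback.fst f g) w by rw [Scheme.Hom.comp_apply]; exact hx)
  exact ⟨q w', hw'.map q.continuous, by rw [← he, Scheme.Hom.comp_apply], (Set.ext_iff.1 hq (q w')).1 ⟨w', rfl⟩⟩

theorem lift_gen' (z : ↥(pullback f g)) (X' : Set X) (hX' : IsClosed X') (hz : pullback.fst f g z ∈ X') (y' : Y)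
    (hy : y' ⤳ pullback.snd f g z) : ∃ z', z' ⤳ z ∧ pullback.snd f g z' = y' ∧ pullback.fst f g z' ∈ X' := by
  let e := pullbackSymmetry f g
  have h1 : pullback.fst g f (e.hom z) = pullback.snd f g z := by rw [← Scheme.Hom.comp_apply, pullbackSymmetry_hom_comp_fst]
  have h2 : pullback.snd g f (e.hom z) = pullback.fst f g z := by rw [← Scheme.Hom.comp_apply, pullbackSymmetry_hom_comp_snd]
  obtain ⟨z', hz', e1, e2⟩ := lift_gen g f (e.hom z) X' hX' (by rw [h2]; exact hz) y' (by rw [h1]; exact hy)
  refine ⟨e.inv z', ?_, ?_, ?_⟩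
  · have := hz'.map e.inv.continuous
    rw [← Scheme.Hom.comp_apply, e.hom_inv_id] at this
    exact this
  · rw [← Scheme.Hom.comp_apply, pullbackSymmetry_inv_comp_snd]; exact e1
  · rw [← Scheme.Hom.comp_apply, pullbackSymmetry_inv_comp_fst]; exact e2

theorem eq_closure_gen {T : Type*} [TopologicalSpace T] [QuasiSober T] [T0Space T] {A : Set T} (hA : A ∈ irreducibleComponents T) :
    ∃ a, closure {a} = A ∧ ∀ b, b ⤳ a → b = a := by
  obtain ⟨a, ha⟩ := QuasiSober.sober hA.1 (isClosed_of_mem_irreducibleComponents A hA)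
  refine ⟨a, ha, fun b hb => ?_⟩
  have hsub : A ⊆ closure {b} := ha.def ▸ specializes_iff_closure_subset.1 hb
  have : closure {b} ⊆ A := hA.2 isIrreducible_singleton.closure hsub
  exact ((ha.specializes (this (subset_closure rfl))).antisymm hb).eq.symm

theorem mem_components_iff (W : Set ↥(pullback f g)) :
    W ∈ irreducibleComponents ↥(pullback f g) ↔
      ∃ X' ∈ irreducibleComponents ↥X, ∃ Y' ∈ irreducibleComponents ↥Y,
        Maximal (fun V : Set ↥(pullback f g) => IsIrreducible V ∧ V ⊆ ⇑(pullback.fst f g) ⁻¹' X' ∩ ⇑(pullback.snd f g) ⁻¹' Y') W := by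
  constructor
  · intro hW
    obtain ⟨w, rfl, hw⟩ := eq_closure_gen hW
    obtain ⟨X', hX', hxX⟩ := exists_mem_irreducibleComponents_subset_of_isIrreducible _ (isIrreducible_singleton (x := pullback.fst f g w))
    obtain ⟨Y', hY', hyY⟩ := exists_mem_irreducibleComponents_subset_of_isIrreducible _ (isIrreducible_singleton (x := pullback.snd f g w))
    have c1 := isClosed_of_mem_irreducibleComponents X' hX'
    have c2 := isClosed_of_mem_irreducibleComponents Y' hY'
    refine ⟨X', hX', Y', hY', ⟨hW.1, Set.subset_inter ?_ ?_⟩, fun V hV h => hW.2 hV.1 h⟩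
    · exact closure_minimal (Set.singleton_subset_iff.2 (hxX rfl)) (c1.preimage (pullback.fst f g).continuous)
    · exact closure_minimal (Set.singleton_subset_iff.2 (hyY rfl)) (c2.preimage (pullback.snd f g).continuous)
  · rintro ⟨X', hX', Y', hY', ⟨hWi, hWsub⟩, hmax⟩
    have c1 := isClosed_of_mem_irreducibleComponents X' hX'
    have c2 := isClosed_of_mem_irreducibleComponents Y' hY'
    obtain ⟨x', rfl, hx'⟩ := eq_closure_gen hX'
    obtain ⟨y', rfl, hy'⟩ := eq_closure_gen hY'
    set S := ⇑(pullback.fst f g) ⁻¹' closure {x'} ∩ ⇑(pullback.snd f g) ⁻¹' closure {y'}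
    have hS : IsClosed S := (c1.preimage (pullback.fst f g).continuous).inter (c2.preimage (pullback.snd f g).continuous)
    have hWc : W = closure W := le_antisymm subset_closure (hmax ⟨hWi.closure, closure_minimal hWsub hS⟩ subset_closure)
    obtain ⟨w, hw⟩ := QuasiSober.sober hWi (hWc ▸ isClosed_closure)
    obtain ⟨hw1, hw2⟩ := hWsub hw.mem
    have uniq : ∀ z ∈ S, z ⤳ w → z = w := fun z hz hzw => by
      have h := hmax ⟨isIrreducible_singleton.closure, closure_minimal (Set.singleton_subset_iff.2 hz) hS⟩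
        (show W ⊆ closure {z} from hw.def ▸ specializes_iff_closure_subset.1 hzw)
      exact ((hw.specializes (h (subset_closure rfl))).antisymm hzw).eq.symm
    have e1 : pullback.fst f g w = x' := by
      obtain ⟨z, hz, hz1, hz2⟩ := lift_gen f g w _ c2 hw2 x' (specializes_iff_mem_closure.2 hw1)
      rw [← uniq z ⟨hz1 ▸ subset_closure rfl, hz2⟩ hz]; exact hz1
    have e2 : pullback.snd f g w = y' := by
      obtain ⟨z, hz, hz1, hz2⟩ := lift_gen' f g w _ c1 hw1 y' (specializes_iff_mem_closure.2 hw2)
      rw [← uniq z ⟨hz2, hz1 ▸ subset_closure rfl⟩ hz]; exact hz1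
    obtain ⟨W₀, hW₀, hsub⟩ := exists_mem_irreducibleComponents_subset_of_isIrreducible W hWi
    obtain ⟨w₀, rfl, -⟩ := eq_closure_gen hW₀
    have hs : w₀ ⤳ w := specializes_iff_mem_closure.2 (hsub hw.mem)
    have f1 : pullback.fst f g w₀ = x' := hx' _ (e1 ▸ hs.map (pullback.fst f g).continuous)
    have f2 : pullback.snd f g w₀ = y' := hy' _ (e2 ▸ hs.map (pullback.snd f g).continuous)
    have h0 : closure {w₀} ⊆ S := closure_minimal (Set.singleton_subset_iff.2 ⟨f1 ▸ subset_closure rfl, f2 ▸ subset_closure rfl⟩) hS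
    rw [show W = closure {w₀} from le_antisymm hsub (hmax ⟨isIrreducible_singleton.closure, h0⟩ hsub)]
    exact hW₀



open CategoryTheory.Limits in
/-- Let X and Y be locally Noetherian schemes over a field k such that X ×_k Y is locally Noetherian,
with projections p and q. Then a subset W of X ×_k Y is an irreducible component of X ×_k Y if and
only if there exist an irreducible component X' of X and an irreducible component Y' of Y such that
W is a maximal irreducible subset of p⁻¹(X') ∩ q⁻¹(Y') (that is, an irreducible component of the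
space underlying X' ×_k Y' for the reduced structures on X' and Y'). -/
theorem result {k : Type u} [Field k] {X Y : Scheme.{u}}
    (f : X ⟶ Spec (CommRingCat.of k)) (g : Y ⟶ Spec (CommRingCat.of k)) [IsLocallyNoetherian X]
    [IsLocallyNoetherian Y] [IsLocallyNoetherian (pullback f g)] (W : Set ↥(pullback f g)) :
    W ∈ irreducibleComponents ↥(pullback f g) ↔
      ∃ X' ∈ irreducibleComponents ↥X, ∃ Y' ∈ irreducibleComponents ↥Y,
        Maximal (fun V : Set ↥(pullback f g) => IsIrreducible V ∧ V ⊆ ⇑(pullback.fst f g) ⁻¹' X' ∩ ⇑(pullback.snd f g) ⁻¹' Y') W := by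
  exact mem_components_iff f g W

end Groth.Agent.S4672
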