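import Groth.Statements.S9314
import Groth.Agent.AdicFSLib.Completion
import Groth.Agent.GRingLib.RegHom
import Groth.Agent.S9295
-- import your own Groth.Agent.* helpers here

set_option autoImplicit false
universe u
open CAlg

namespace Groth.Agent.S9314

/-- Let `A` and `B` be Noetherian local rings and `A → B` a local ring map, and suppose that the map
from `A` to its completion along the maximal ideal is a regular ring map. If `A → B` is formally
smooth for the adic topology of the maximal ideal of `B`, then `A → B` is a regular ring map: flat,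
with Noetherian fibres that are geometrically regular over the residue fields of `A`. -/
theorem result {A B : Type u}
    [CommRing A] [CommRing B] [IsLocalRing A] [IsLocalRing B] [IsNoetherianRing A]
    [IsNoetherianRing B] [Algebra A B] [IsLocalHom (algebraMap A B)]
    (hA : CAlg.IsRegularHom A (AdicCompletion (IsLocalRing.maximalIdeal A) A))
    (h : CAlgX.IsAdicFormallySmooth A B (IsLocalRing.maximalIdeal B)) :
    CAlg.IsRegularHom A B := by
  haveI := GeomRedFibLib.isNoetherianRing_cpl A
  haveI := GeomRedFibLib.isNoetherianRing_cpl B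
  haveI := GeomRedFibLib.faithfullyFlat_hat B
  haveI := AdicFSLib.flat_of_adicFS h
  let Ah := AdicCompletion (IsLocalRing.maximalIdeal A) A
  let Bh := AdicCompletion (IsLocalRing.maximalIdeal B) B
  obtain ⟨ψ, hψ⟩ := GeomRedFibLib.exists_cplMap A B
  letI := ψ.toAlgebra
  haveI : IsScalarTower A Ah Bh :=
    .of_algebraMap_eq fun a ↦ (RingHom.congr_fun (GeomRedFibLib.comp_eq ψ hψ) a).symm
  haveI : IsLocalHom (algebraMap Ah Bh) := GeomRedFibLib.isLocalHom_cplMap ψ hψ
  have h1 : CAlg.IsRegularHom Ah Bh :=
    AdicFSLib.isRegularHom_of_adicFS_complete (AdicFSLib.adicFS_cpl_source (AdicFSLib.adicFS_cpl_target h))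
  exact Groth.Agent.S9295.result A B Bh (GRingLib.isRegularHom_comp A Ah Bh hA h1)
    (PrimeSpectrum.comap_surjective_of_faithfullyFlat)

end Groth.Agent.S9314
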