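import Groth.Statements.S3739
import Groth.Agent.EtRegAcycLib.Strict
import Groth.Agent.S2704
import Groth.Agent.S0598
import Groth.Agent.ArtLib.Power
import Groth.Agent.EtLocLib.Henselian
import Groth.Agent.WLocalLib.Finite

set_option autoImplicit false
universe u
open CategoryTheory CategoryTheory.Limits AlgebraicGeometry Opposite
open EtDl

namespace Groth.Agent.S3739

attribute [local instance] EtSliceLib.pullExact

theorem isSepClosed_residue {R k : Type u} [CommRing R] [IsLocalRing R] [Field k] [IsSepClosed k]
    (f : R →+* k) (hf : Function.Surjective f) : IsSepClosed (IsLocalRing.ResidueField R) :=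
  Groth.Agent.WLocalLib.isSepClosed_of_equiv ((RingHom.quotientKerEquivOfSurjective hf).symm.trans
    (Ideal.quotEquivOfEq (IsLocalRing.ker_eq_maximalIdeal f hf)))


/-- In characteristic zero, for the regular homomorphism A = k[[x_1, ..., x_m]] -> A' = A[[y_1, ...,
y_r]] of excellent strictly local rings (k algebraically closed of characteristic zero): for every
quasi-compact quasi-separated morphism f : X -> Spec A and every torsion abelian sheaf F on X_et,
the pullback map H^q(X_et, F) -> H^q(X'_et, g'^* F) is bijective for all q, where X' = X x_{Spec A}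
Spec A' and g' : X' -> X is the projection. (The source states it for an arbitrary morphism f and
any regular A -> A'; the exactness of g'^* is carried as an instance hypothesis, as in the prelude's
definition of the pullback map.) (The source states this for excellent schemes of equal
characteristic under a resolution-of-singularities hypothesis, which holds in characteristic zero;
hence the statement here for a formal power series ring over an algebraically closed field of
characteristic zero, which is excellent and strictly local.) -/
theorem result (k : Type u) [Field k] [IsAlgClosed k] [CharZero k]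
    (m r : ℕ) {X : Scheme.{u}} (f : X ⟶ Spec (CommRingCat.of (MvPowerSeries (Fin m) k))) [QuasiCompact f] [QuasiSeparated f]
    (F : EtCoh.Ab X) (hF : EtCoh.IsTorsion F) (q : ℕ)
    [PreservesFiniteLimits (EtCoh.pull (pullback.fst f (Spec.map (CommRingCat.ofHom
      (algebraMap (MvPowerSeries (Fin m) k) (MvPowerSeries (Fin r) (MvPowerSeries (Fin m) k)))))))] :
    Function.Bijective (EtCore.Hpull (pullback.fst f (Spec.map (CommRingCat.ofHom
      (algebraMap (MvPowerSeries (Fin m) k) (MvPowerSeries (Fin r) (MvPowerSeries (Fin m) k)))))) F q) := by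
  let A := MvPowerSeries (Fin m) k
  let A' := MvPowerSeries (Fin r) A
  haveI : IsAdicComplete (IsLocalRing.maximalIdeal k) k := by
    rw [IsLocalRing.maximalIdeal_eq_bot]; infer_instance
  haveI hcA : IsAdicComplete (IsLocalRing.maximalIdeal A) A := ArtLib.isAdicComplete_ps m
  haveI hnA : IsNoetherianRing A := CohenLib.isNoetherianRing_mvPowerSeries (Λ := k) (n := m)
  haveI hcA' : IsAdicComplete (IsLocalRing.maximalIdeal A') A' := ArtLib.isAdicComplete_ps r
  haveI hnA' : IsNoetherianRing A' := CohenLib.isNoetherianRing_mvPowerSeries (Λ := A) (n := r)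
  haveI : HenselianLocalRing A := EtLocLib.henselianLocalRing_of_isAdicComplete A
  haveI : HenselianLocalRing A' := EtLocLib.henselianLocalRing_of_isAdicComplete A'
  haveI : IsSepClosed (IsLocalRing.ResidueField A) :=
    isSepClosed_residue MvPowerSeries.constantCoeff fun c => ⟨MvPowerSeries.C c, MvPowerSeries.constantCoeff_C c⟩
  haveI : IsSepClosed (IsLocalRing.ResidueField A') :=
    isSepClosed_residue ((MvPowerSeries.constantCoeff (σ := Fin m) (R := k)).comp MvPowerSeries.constantCoeff)
      fun c => ⟨MvPowerSeries.C (MvPowerSeries.C c),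
        (RingHom.comp_apply _ _ _).trans
          ((congrArg MvPowerSeries.constantCoeff (MvPowerSeries.constantCoeff_C _)).trans (MvPowerSeries.constantCoeff_C c))⟩
  haveI : IsLocalHom (algebraMap A A') := ⟨fun a ha => by
    have h := ha.map (MvPowerSeries.constantCoeff (σ := Fin r) (R := A))
    rw [show algebraMap A A' a = MvPowerSeries.C a from rfl] at h
    exact (congrArg IsUnit (MvPowerSeries.constantCoeff_C a)).mp h⟩
  have hreg : CAlg.IsRegularHom A A' := Groth.Agent.S2704.result A (Groth.Agent.S0598.result A) r
  let qA : Spec (CommRingCat.of A) ⟶ Spec (CommRingCat.of (ULift.{u} ℚ)) :=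
    Spec.map (CommRingCat.ofHom (((algebraMap k A).comp (algebraMap ℚ k)).comp ULift.ringEquiv.toRingHom))
  have hL : ∀ p : ℕ, p.Prime → p ∈ EtAcyc.primesInvertibleOn (Spec (CommRingCat.of A)) := fun p hp =>
    EtLimSmoothLib.primesInvertibleOn_subset qA (by
      rw [EtLimSmoothLib.primesInvertibleOn_field]
      exact ⟨hp, fun hc => hp.ne_zero (hc.trans (ringChar.eq_iff.2 inferInstance))⟩)
  refine ((EtRegAcycLib.compN_indSmooth (TransLib.indSmooth_of_isRegularHom hreg) f _ (pullback.snd f _)
    (IsPullback.of_hasPullback f _) q) F (fun U s x => ?_)).1 q le_rfl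
  obtain ⟨V, a, hv, hfin⟩ := hF U s x
  exact ⟨V, a, addOrderOf (F.obj.map a.op s), hv, ⟨hfin.addOrderOf_pos, fun p hp _ => hL p hp⟩,
    addOrderOf_nsmul_eq_zero _⟩

end Groth.Agent.S3739
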