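import Groth.Statements.S13499
import Groth.Agent.S7744

set_option maxHeartbeats 1000000
set_option linter.unusedSectionVars false
set_option backward.isDefEq.respectTransparency false
set_option backward.isDefEq.respectTransparency.types false

set_option autoImplicit false
universe u
open CategoryTheory CategoryTheory.Limits AlgebraicGeometry Opposite
open GalCoh

namespace Groth.Agent.S13499

open CategoryTheory.Abelian

variable (k : Type u) [Field k]

/-- The constant sheaf functor. -/
noncomputable abbrev cSh : AddCommGrpCat.{u + 1} ⥤ EtCoh.Ab (Spec (CommRingCat.of k)) :=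
  constantSheaf (Spec (CommRingCat.of k)).smallEtaleTopology AddCommGrpCat.{u + 1}

theorem subsingleton_H_rat (i : ℕ) (hi : 0 < i) :
    Subsingleton (EtCoh.H (Spec (CommRingCat.of k)) (EtCoh.const (Spec (CommRingCat.of k)) ℚ) i) := by
  refine S7744.result k _ (fun n hn => ?_) i hi
  haveI : (EtCore.gsec (Spec (CommRingCat.of k))).Additive := ⟨fun {X Y f g} => rfl⟩
  haveI : (cSh k).Additive := (EtCore.constAdj (Spec (CommRingCat.of k))).left_adjoint_additive
  haveI : IsIso (n • 𝟙 (AddCommGrpCat.of (ULift.{u + 1} ℚ))) := by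
    rw [ConcreteCategory.isIso_iff_bijective]
    have e : ∀ x : ULift.{u + 1} ℚ, (n • 𝟙 (AddCommGrpCat.of (ULift.{u + 1} ℚ))) x = n • x := fun x => by simp
    constructor
    · intro x y h
      rw [e, e] at h
      apply ULift.ext
      have h' := congrArg ULift.down h
      simpa [hn.ne'] using h'
    · intro y
      refine ⟨⟨y.down / n⟩, (e _).trans (ULift.ext _ _ ?_)⟩
      have hn' : (n : ℚ) ≠ 0 := Nat.cast_ne_zero.2 hn.ne'
      simp [field]
  have h2 : n • 𝟙 (EtCoh.const (Spec (CommRingCat.of k)) ℚ) = (cSh k).map (n • 𝟙 (AddCommGrpCat.of (ULift.{u + 1} ℚ))) := by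
    rw [Functor.map_nsmul, CategoryTheory.Functor.map_id]
  rw [h2]
  infer_instance

/-- `0 → ℤ → ℚ → ℚ/ℤ → 0` on the etale site. -/
noncomputable def qzSeq : ShortComplex AddCommGrpCat.{u + 1} :=
  ShortComplex.mk (AddCommGrpCat.uliftFunctor.{u + 1, 0}.map (AddCommGrpCat.ofHom (Int.castAddHom ℚ)))
    (AddCommGrpCat.uliftFunctor.{u + 1, 0}.map (AddCommGrpCat.ofHom (QuotientAddGroup.mk' (AddSubgroup.zmultiples (1 : ℚ)))))
    (by
      ext x
      apply ULift.ext
      show QuotientAddGroup.mk' (AddSubgroup.zmultiples (1 : ℚ)) ((x.down : ℤ) : ℚ) = 0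
      exact (QuotientAddGroup.eq_zero_iff _).2 ⟨x.down, by simp⟩)

theorem qzSeq_shortExact : qzSeq.{u}.ShortExact where
  mono_f := (AddCommGrpCat.mono_iff_injective _).2 fun a b h => ULift.ext _ _ (Int.cast_injective (congrArg ULift.down h :))
  epi_g := (AddCommGrpCat.epi_iff_surjective _).2 fun y => by
    obtain ⟨x, hx⟩ := QuotientAddGroup.mk'_surjective _ y.down
    exact ⟨⟨x⟩, ULift.ext _ _ hx⟩
  exact := by
    rw [ShortComplex.ab_exact_iff]
    intro x hx
    obtain ⟨m, hm⟩ := (QuotientAddGroup.eq_zero_iff (x.down : ℚ)).1 (congrArg ULift.down hx :)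
    exact ⟨⟨m⟩, ULift.ext _ _ ((by simpa using hm : ((m : ℤ) : ℚ) = x.down))⟩


/-- For a field k and i ≥ 2 there is an isomorphism between H^i(Spec k, Z) and H^{i-1}(Spec k, Q/Z),
étale cohomology of Spec k with coefficients in the constant sheaves Z and Q/Z (existence of an
additive isomorphism only; the published statement is for an arbitrary profinite group with trivial
action and identifies the two groups through the boundary map of 0 → Z → Q → Q/Z → 0). -/
theorem result (k : Type u) [Field k] (i : ℕ) (hi : 2 ≤ i) :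
    Nonempty (EtCoh.H (Spec (CommRingCat.of k)) (EtCoh.const (Spec (CommRingCat.of k)) ℤ) i ≃+
      EtCoh.H (Spec (CommRingCat.of k))
        (EtCoh.const (Spec (CommRingCat.of k)) (ℚ ⧸ AddSubgroup.zmultiples (1 : ℚ))) (i - 1)) := by
  haveI : PreservesFiniteColimits (cSh k) :=
    haveI : PreservesColimitsOfSize.{0, 0} (cSh k) := (EtCore.constAdj (Spec (CommRingCat.of k))).leftAdjoint_preservesColimits
    PreservesColimitsOfSize.preservesFiniteColimits _
  haveI : (EtCore.gsec (Spec (CommRingCat.of k))).Additive := ⟨fun {X Y f g} => rfl⟩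
  haveI : (cSh k).Additive := (EtCore.constAdj (Spec (CommRingCat.of k))).left_adjoint_additive
  haveI : PreservesFiniteLimits (cSh k) :=
    comp_preservesFiniteLimits (Functor.const _) (presheafToSheaf (Spec (CommRingCat.of k)).smallEtaleTopology AddCommGrpCat.{u + 1})
  have hS := qzSeq_shortExact.{u}.map_of_exact (cSh k)
  obtain ⟨n, rfl⟩ : ∃ n, i = n + 1 := ⟨i - 1, by omega⟩
  let Z := (cSh k).obj (AddCommGrpCat.of (ULift.{u + 1} ℤ))
  let f : Ext.{u + 1} Z (qzSeq.map (cSh k)).X₃ n →+ Ext.{u + 1} Z (qzSeq.map (cSh k)).X₁ (n + 1) :=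
    hS.extClass.postcomp Z rfl
  have hf : Function.Bijective f := by
    refine ⟨(injective_iff_map_eq_zero _).2 fun x hx => ?_, fun y => ?_⟩
    · obtain ⟨w, rfl⟩ := Ext.covariant_sequence_exact₃ Z hS x rfl hx
      haveI : Subsingleton (Ext.{u + 1} Z (qzSeq.map (cSh k)).X₂ n) := subsingleton_H_rat k n (by omega)
      rw [Subsingleton.elim w 0, Ext.zero_comp]
    · haveI : Subsingleton (Ext.{u + 1} Z (qzSeq.map (cSh k)).X₂ (n + 1)) := subsingleton_H_rat k (n + 1) (by omega)
      exact Ext.covariant_sequence_exact₁ Z hS y (Subsingleton.elim _ _) rfl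
  exact ⟨(AddEquiv.ofBijective f hf).symm⟩

end Groth.Agent.S13499
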