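import Groth.Statements.S8610
import Groth.Agent.EtPBCCdLib.Main
-- import your own Groth.Agent.* helpers here

set_option autoImplicit false
universe u
open CategoryTheory CategoryTheory.Limits AlgebraicGeometry
open SGA4h

namespace Groth.Agent.S8610

/-- Let j₁ : X → P₁ and j₂ : X → P₂ be open immersions of quasi-compact quasi-separated schemes and p :
P₂ → P₁ a proper morphism with p ∘ j₂ = j₁ such that the square is cartesian (X = P₂ ×_{P₁} X, i.e.
p⁻¹(j₁ X) = j₂ X). For every torsion abelian etale sheaf F on X, p_*(j₂! F) is isomorphic to j₁! F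
(existence of an isomorphism only) and R^q p_*(j₂! F) = 0 for q > 0. (The published statement is for
two compactifications of X compared by p; its argument uses that p is an isomorphism above X, which
is the cartesian hypothesis made explicit here.) -/
theorem result {X P₁ P₂ : Scheme.{u}}
    [CompactSpace ↥P₁] [QuasiSeparatedSpace ↥P₁] [CompactSpace ↥P₂] [QuasiSeparatedSpace ↥P₂]
    [CompactSpace ↥X]
    (j₁ : X ⟶ P₁) (j₂ : X ⟶ P₂) [IsOpenImmersion j₁] [IsOpenImmersion j₂] (p : P₂ ⟶ P₁) [IsProper p]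
    (hsq : IsPullback (𝟙 X) j₂ j₁ p) (F : EtCoh.Ab X) (hF : EtCoh.IsTorsion F) :
    Nonempty ((EtCoh.push p).obj ((EtShriek.extZero j₂).obj F) ≅ (EtShriek.extZero j₁).obj F) ∧
      ∀ q : ℕ, 0 < q → IsZero ((EtCoh.Rpush p q).obj ((EtShriek.extZero j₂).obj F)) := by
  have w : j₂ ≫ p = j₁ := by simpa using hsq.w.symm
  haveI : LocallyQuasiFinite (j₂ ≫ p) := by rw [w]; infer_instance
  obtain ⟨e⟩ := EtPBCProperLib.nonempty_lowerShriek_comp j₂ p F
  rw [w] at e
  let c₁ := Groth.Agent.EtShLib.extZeroPreIso j₁ ≪≫ (Groth.Agent.EtShLib.lowerShriekIso j₁).symm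
  let c₂ := Groth.Agent.EtShLib.extZeroPreIso j₂ ≪≫ (Groth.Agent.EtShLib.lowerShriekIso j₂).symm
  exact ⟨⟨(EtCoh.push p).mapIso (c₂.app F) ≪≫ e.symm ≪≫ (c₁.app F).symm⟩, fun q hq =>
    (EtPBCProperLib.isZero_Rpush_lowerShriek j₂ p F hF q hq).of_iso ((EtCoh.Rpush p q).mapIso (c₂.app F))⟩

end Groth.Agent.S8610
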