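import Groth.Statements.S9566
import Groth.Agent.FlatLib.SchemeFlat

set_option autoImplicit false
universe u
open EtLocal

namespace Groth.Agent.S9566

open AlgebraicGeometry CategoryTheory IsLocalRing in
theorem residue_iff {X Y : Scheme.{u}} (f : X ⟶ Y) (x : X) :
    letI := (f.residueFieldMap x).hom.toAlgebra
    letI := (f.stalkMap x).hom.toAlgebra
    letI : IsLocalHom (algebraMap (Y.presheaf.stalk (f x)) (X.presheaf.stalk x)) :=
      inferInstanceAs <| IsLocalHom (f.stalkMap x).hom
    (Module.Finite (Y.residueField (f x)) (X.residueField x) ↔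
      Module.Finite (ResidueField (Y.presheaf.stalk (f x))) (ResidueField (X.presheaf.stalk x))) ∧
    (Algebra.IsSeparable (Y.residueField (f x)) (X.residueField x) ↔
      Algebra.IsSeparable (ResidueField (Y.presheaf.stalk (f x))) (ResidueField (X.presheaf.stalk x))) := by
  let := (f.stalkMap x).hom.toAlgebra
  have : IsLocalHom (algebraMap (Y.presheaf.stalk (f x)) (X.presheaf.stalk x)) :=
    inferInstanceAs <| IsLocalHom (f.stalkMap x).hom
  have e : (f.residueFieldMap x).hom.toAlgebra =
      (inferInstance : Algebra (ResidueField (Y.presheaf.stalk (f x))) (ResidueField (X.presheaf.stalk x))) := by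
    refine Algebra.algebra_ext _ _ fun r => ?_
    obtain ⟨r, rfl⟩ := IsLocalRing.residue_surjective r
    rfl
  rw [e]
  exact ⟨Iff.rfl, Iff.rfl⟩

open AlgebraicGeometry CategoryTheory in
theorem formallyUnramified_stalk_iff {X Y : Scheme.{u}} (f : X ⟶ Y) [LocallyOfFiniteType f] (x : X) :
    (f.stalkMap x).hom.FormallyUnramified ↔
      ((IsLocalRing.maximalIdeal (Y.presheaf.stalk (f x))).map (f.stalkMap x).hom =
          IsLocalRing.maximalIdeal (X.presheaf.stalk x) ∧
        letI := (f.residueFieldMap x).hom.toAlgebra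
        Module.Finite (Y.residueField (f x)) (X.residueField x) ∧
          Algebra.IsSeparable (Y.residueField (f x)) (X.residueField x)) := by
  let := (f.stalkMap x).hom.toAlgebra
  have : IsLocalHom (algebraMap (Y.presheaf.stalk (f x)) (X.presheaf.stalk x)) :=
    inferInstanceAs <| IsLocalHom (f.stalkMap x).hom
  have : Algebra.EssFiniteType (Y.presheaf.stalk (f x)) (X.presheaf.stalk x) := by
    rw [← RingHom.essFiniteType_algebraMap, RingHom.algebraMap_toAlgebra]
    exact LocallyOfFiniteType.stalkMap f x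
  obtain ⟨hfin, hsep⟩ := residue_iff f x
  rw [hfin, hsep]
  change Algebra.FormallyUnramified (Y.presheaf.stalk (f x)) (X.presheaf.stalk x) ↔ _
  constructor
  · intro h
    obtain ⟨h1, h2⟩ := Algebra.FormallyUnramified.iff_map_maximalIdeal_eq.mp h
    exact ⟨h2, inferInstance, h1⟩
  · rintro ⟨h2, -, h1⟩
    exact Algebra.FormallyUnramified.iff_map_maximalIdeal_eq.mpr ⟨h1, h2⟩


open AlgebraicGeometry CategoryTheory in
/-- Let Y be a locally Noetherian scheme, f : X ⟶ Y locally of finite type and x a point of X with image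
y. Then f is étale on some open neighbourhood of x if and only if the map of local rings O_{Y,y} →
O_{X,x} is an étale homomorphism of local rings: it is flat, the maximal ideal of O_{Y,y} generates
that of O_{X,x}, and the residue field of x is a finite separable extension of that of y (O_{X,x} is
automatically essentially of finite type over O_{Y,y}). -/
theorem result {X Y : Scheme.{u}} (f : X ⟶ Y)
    [LocallyOfFiniteType f] [IsLocallyNoetherian Y] (x : X) :
    (∃ U : X.Opens, x ∈ U ∧ Etale (U.ι ≫ f)) ↔
      ((f.stalkMap x).hom.Flat ∧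
        (IsLocalRing.maximalIdeal (Y.presheaf.stalk (f.base x))).map (f.stalkMap x).hom =
          IsLocalRing.maximalIdeal (X.presheaf.stalk x) ∧
        letI := (f.residueFieldMap x).hom.toAlgebra
        Module.Finite (Y.residueField (f.base x)) (X.residueField x) ∧
          Algebra.IsSeparable (Y.residueField (f.base x)) (X.residueField x)) := by
  rw [← formallyUnramified_stalk_iff f x]
  constructor
  · rintro ⟨U, hxU, hU⟩
    have hs := Scheme.Hom.stalkMap_comp U.ι f ⟨x, hxU⟩
    have : IsIso (U.ι.stalkMap ⟨x, hxU⟩) := inferInstance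
    refine ⟨?_, ?_⟩
    · have h := Flat.stalkMap (U.ι ≫ f) ⟨x, hxU⟩
      rw [hs] at h
      exact (RingHom.Flat.respectsIso.cancel_right_isIso (f.stalkMap (U.ι ⟨x, hxU⟩)) (U.ι.stalkMap ⟨x, hxU⟩)).mp h
    · have h := AlgebraicGeometry.FormallyUnramified.stalkMap (U.ι ≫ f) ⟨x, hxU⟩
      rw [hs] at h
      exact (RingHom.FormallyUnramified.respectsIso.cancel_right_isIso (f.stalkMap (U.ι ⟨x, hxU⟩)) (U.ι.stalkMap ⟨x, hxU⟩)).mp h
  · rintro ⟨hflat, hunr⟩
    obtain ⟨U, hU, hxU, -⟩ := exists_isAffineOpen_mem_and_subset (X := Y) (U := ⊤) (x := f x) trivial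
    obtain ⟨V, hV, hxV, hVle⟩ := exists_isAffineOpen_mem_and_subset (X := X)
      (U := f ⁻¹ᵁ U ⊓ ⟨_, FlatLib.isOpen_setOf_flat_stalkMap f⟩) (x := x) ⟨hxU, hflat⟩
    have hVU : V ≤ f ⁻¹ᵁ U := fun z hz => (hVle hz).1
    have hVflat : Flat (V.ι ≫ f) := Flat.of_stalkMap _ fun z => by
      rw [Scheme.Hom.stalkMap_comp]
      exact (RingHom.Flat.respectsIso.cancel_right_isIso _ _).mpr (hVle z.2).2
    let := (f.appLE U V hVU).hom.toAlgebra
    have : Module.Flat Γ(Y, U) Γ(X, V) := by
      have h : Flat (f.resLE U V hVU) := by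
        have h0 : Flat (f.resLE U V hVU ≫ U.ι) := by rwa [Scheme.Hom.resLE_comp_ι]
        exact MorphismProperty.of_postcomp (W := @Flat) (W' := @IsOpenImmersion) _ U.ι inferInstance h0
      have : IsAffine (U : Scheme.{u}) := hU
      have : IsAffine (V : Scheme.{u}) := hV
      rw [HasRingHomProperty.iff_of_isAffine (P := @Flat)] at h
      exact (RingHom.Flat.respectsIso.arrow_mk_iso_iff (arrowResLEAppIso f U V hVU)).mp h
    have : IsNoetherianRing Γ(Y, U) := IsLocallyNoetherian.component_noetherian ⟨U, hU⟩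
    have : Algebra.FiniteType Γ(Y, U) Γ(X, V) := f.finiteType_appLE hU hV hVU
    have : Algebra.FinitePresentation Γ(Y, U) Γ(X, V) := Algebra.FinitePresentation.of_finiteType.mp ‹_›
    let p := (hU.primeIdealOf ⟨f x, hVU hxV⟩).asIdeal
    let q := (hV.primeIdealOf ⟨x, hxV⟩).asIdeal
    have : q.LiesOver p :=
      ⟨congr($(IsAffineOpen.comap_primeIdealOf_appLE U hU V hV hVU hxV).1).symm⟩
    let := Localization.AtPrime.algebraOfLiesOver p q
    have h1 : Algebra.FormallyUnramified (Localization.AtPrime p) (Localization.AtPrime q) :=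
      RingHom.formallyUnramified_algebraMap.mp
        ((RingHom.FormallyUnramified.respectsIso.arrow_mk_iso_iff
          (IsAffineOpen.arrowStalkMapIso f U hU V hV hVU hxV)).mp hunr)
    have : Algebra.IsUnramifiedAt Γ(Y, U) q :=
      Algebra.FormallyUnramified.comp _ (Localization.AtPrime p) _
    have : Algebra.IsEtaleAt Γ(Y, U) q := Algebra.IsEtaleAt.of_isUnramifiedAt_of_flat q
    obtain ⟨a, ha, het⟩ := Algebra.exists_etale_of_isEtaleAt (R := Γ(Y, U)) q
    refine ⟨X.basicOpen a, ?_, ?_⟩
    · have := hV.fromSpec_primeIdealOf ⟨x, hxV⟩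
      have h2 : hV.primeIdealOf ⟨x, hxV⟩ ∈ PrimeSpectrum.basicOpen a := ha
      rw [← hV.fromSpec_preimage_basicOpen] at h2
      change hV.fromSpec (hV.primeIdealOf ⟨x, hxV⟩) ∈ X.basicOpen a at h2
      rwa [this] at h2
    · have hW := hV.basicOpen a
      have hWU : X.basicOpen a ≤ f ⁻¹ᵁ U := (X.basicOpen_le a).trans hVU
      rw [← Scheme.Hom.resLE_comp_ι f hWU]
      have : IsAffine (U : Scheme.{u}) := hU
      have : IsAffine (X.basicOpen a : Scheme.{u}) := hW
      have : Etale (f.resLE U (X.basicOpen a) hWU) := by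
        rw [HasRingHomProperty.iff_of_isAffine (P := @Etale)]
        refine (RingHom.Etale.respectsIso.arrow_mk_iso_iff (arrowResLEAppIso f U _ hWU)).mpr ?_
        let := hV.isLocalization_basicOpen a
        let e := (Localization.algEquiv (Submonoid.powers a) Γ(X, X.basicOpen a))
        have h3 : (f.appLE U (X.basicOpen a) hWU).hom =
            e.toRingEquiv.toRingHom.comp (algebraMap Γ(Y, U) (Localization.Away a)) := by
          ext r
          refine Eq.trans ?_ (((congrArg e (IsScalarTower.algebraMap_apply Γ(Y, U) Γ(X, V) (Localization.Away a) r)).trans (e.commutes _)).symm)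
          exact (congr($(f.appLE_map hVU (homOfLE (X.basicOpen_le a)).op) r)).symm
        rw [h3]
        exact RingHom.Etale.respectsIso.1 _ _ (RingHom.etale_algebraMap.mpr het)
      infer_instance
end Groth.Agent.S9566
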