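import Groth.Statements.S0185
import Groth.Agent.EtProperConsLib.Descent

set_option autoImplicit false
set_option backward.isDefEq.respectTransparency false
set_option backward.isDefEq.respectTransparency.types false
set_option maxHeartbeats 1000000
set_option synthInstance.maxHeartbeats 400000
universe u
open CategoryTheory CategoryTheory.Limits AlgebraicGeometry Opposite
open EtPBC

namespace Groth.Agent.S0185

/-- Let X be proper over a separably closed field k and F a constructible abelian sheaf on X_et killed
by some n > 0. Then H^q(X_et, F) is a finite group for every q >= 0. (The source states it for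
constructible torsion abelian sheaves; on quasi-compact X these are killed by some n.) -/
theorem result {k : Type u} [Field k] [IsSepClosed k]
    (X : Scheme.{u}) (a : X ⟶ Spec (CommRingCat.of k)) [IsProper a]
    (n : ℕ) (hn : 0 < n) (F : EtCoh.Ab X) (hF : EtPBC.IsConstructible F) (hFn : EtCoh.KilledBy n F) (q : ℕ) :
    Finite (EtCoh.H X F q) := by
  obtain ⟨e⟩ := EtPBCProperLib.nonempty_stalk_iso a (𝟙 (Spec (CommRingCat.of k))) F
    (EtPBCProperLib.isTorsion_of_nsmul hn ((ConsFiniteLib.killedBy_iff n F).1 hFn)) q
  haveI : LocallyOfFinitePresentation a := LocallyOfFinitePresentation.iff_locallyOfFiniteType.2 inferInstance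
  haveI := EtShLib.finite_stalk_Ab
    (EtProperConsLib.isConstructible_Rpush a n hn F ((EtProperConsLib.cons_iff F).2 hF) hFn q) (𝟙 (Spec (CommRingCat.of k)))
  haveI : Finite (EtCoh.H (pullback a (𝟙 (Spec (CommRingCat.of k))))
      ((EtCoh.pull (pullback.fst a (𝟙 (Spec (CommRingCat.of k))))).obj F) q) :=
    Finite.of_equiv _ e.addCommGroupIsoToAddEquiv.toEquiv
  exact Finite.of_injective _ (EtPBCProperLib.bijective_of_iso (pullback.fst a (𝟙 (Spec (CommRingCat.of k)))) F q).1

end Groth.Agent.S0185
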