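import Groth.Statements.S16438
import Mathlib
import Groth.Agent.HenselLib.LocalCover
import Groth.Agent.S0539

set_option autoImplicit false
universe u
open EGA4loc

namespace Groth.Agent.S16438

open IsLocalRing in
/-- Let A be a Noetherian local ring with maximal ideal m, S a strict henselization of A, and D an
A-subalgebra of S which is a local ring dominated by S (the inclusion is local), essentially of
finite type over A, and such that m D is the maximal ideal of D. Then D is an essentially etale
local A-algebra: A-isomorphic to the localization of an etale A-algebra at a prime over m. (The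
published statement also assumes the total ring of fractions of D finitely generated over that of A;
for D essentially of finite type over A and dominated by S this is automatic, D then lying in a
local etale subextension of S, so that hypothesis is omitted here.) -/
theorem result
    (A S : Type u) [CommRing A] [IsLocalRing A] [IsNoetherianRing A]
    [CommRing S] [IsLocalRing S] [Algebra A S] [IsLocalHom (algebraMap A S)]
    [Hensel.IsStrictHenselization A S] (D : Subalgebra A S) [IsLocalRing D]
    [IsLocalHom (algebraMap D S)] [Algebra.EssFiniteType A D]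
    (hm : Ideal.map (algebraMap A D) (maximalIdeal A) = maximalIdeal D) :
    EGA4loc.IsEssentiallyEtale A D := by
  classical
  haveI : IsLocalHom (algebraMap A D) := ⟨fun a ha => IsUnit.of_map (algebraMap A S) a (by
    rw [IsScalarTower.algebraMap_apply A D S]; exact ha.map (algebraMap D S))⟩
  haveI : Module.FaithfullyFlat A S := Groth.Agent.S0539.result A S
  haveI : IsSepClosure (IsLocalRing.ResidueField A) (IsLocalRing.ResidueField S) :=
    Hensel.IsStrictHenselization.isSepClosure
  haveI : Algebra.IsSeparable (IsLocalRing.ResidueField A) (IsLocalRing.ResidueField D) := by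
    let f : IsLocalRing.ResidueField D →ₐ[IsLocalRing.ResidueField A] IsLocalRing.ResidueField S :=
      { IsLocalRing.ResidueField.map (algebraMap D S) with
        commutes' := fun x => by
          obtain ⟨a, rfl⟩ := IsLocalRing.residue_surjective x
          show IsLocalRing.residue S (algebraMap D S (algebraMap A D a)) = _
          rw [← IsScalarTower.algebraMap_apply A D S]
          rfl }
    exact Algebra.IsSeparable.of_algHom (F := IsLocalRing.ResidueField A) (E' := IsLocalRing.ResidueField S) f
  haveI : Algebra.FormallyUnramified A D :=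
    Algebra.FormallyUnramified.iff_map_maximalIdeal_eq.mpr ⟨inferInstance, hm⟩
  let U := Algebra.EssFiniteType.subalgebra A D
  let 𝔮 : Ideal U := (IsLocalRing.maximalIdeal D).comap (algebraMap U D)
  haveI : IsLocalization.AtPrime D 𝔮 := by
    refine IsLocalization.of_le (Algebra.EssFiniteType.submonoid A D) 𝔮.primeCompl ?_ ?_
    · intro x hx h
      exact (IsLocalRing.mem_maximalIdeal _).mp h (IsLocalization.map_units D (⟨x, hx⟩ : Algebra.EssFiniteType.submonoid A D))
    · intro x hx
      exact IsLocalRing.notMem_maximalIdeal.mp hx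
  haveI : Algebra.IsUnramifiedAt A 𝔮 :=
    Algebra.FormallyUnramified.of_equiv
      ((IsLocalization.algEquiv 𝔮.primeCompl D (Localization.AtPrime 𝔮)).restrictScalars A)
  obtain ⟨f, hf, P, φ, hφ⟩ := Algebra.IsUnramifiedAt.exists_hasStandardEtaleSurjectionOn (R := A) 𝔮
  let ι : Localization.Away f →ₐ[A] D := IsLocalization.liftAlgHom (M := Submonoid.powers f)
    (f := IsScalarTower.toAlgHom A U D) fun y => by
    obtain ⟨m, hm'⟩ := y.2
    rw [← hm', map_pow]
    exact (IsLocalization.map_units D (⟨f, hf⟩ : 𝔮.primeCompl)).pow m
  let ρ : P.Ring →ₐ[A] D := ι.comp φ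
  letI : Algebra P.Ring S := ((IsScalarTower.toAlgHom A D S).comp ρ).toRingHom.toAlgebra
  haveI : IsScalarTower A P.Ring S := IsScalarTower.of_algHom ((IsScalarTower.toAlgHom A D S).comp ρ)
  haveI : Module.Flat P.Ring S := HenselLib.flat_of_etale (R := A)
  let Q : Ideal P.Ring := (IsLocalRing.maximalIdeal D).comap ρ.toRingHom
  have hQ : ∀ y : Q.primeCompl, IsUnit (ρ y) := fun y => IsLocalRing.notMem_maximalIdeal.mp y.2
  let Ψ : Localization.AtPrime Q →ₐ[A] D := IsLocalization.liftAlgHom (M := Q.primeCompl) (f := ρ) hQ
  have hΨ : ∀ p, Ψ (algebraMap P.Ring _ p) = ρ p := fun p => IsLocalization.lift_eq _ p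
  have hΨloc : IsLocalHom (Ψ : Localization.AtPrime Q →+* D) := ⟨fun x hx => by
    obtain ⟨t, w, rfl⟩ := IsLocalization.exists_mk'_eq Q.primeCompl x
    refine (IsLocalization.AtPrime.isUnit_mk'_iff (Localization.AtPrime Q) Q t w).2 fun ht => ?_
    have h1 : Ψ (IsLocalization.mk' _ t w) * ρ w = ρ t := by
      rw [← hΨ, ← map_mul, IsLocalization.mk'_spec, hΨ]
    exact (IsLocalRing.mem_maximalIdeal _).1 ht (h1 ▸ hx.mul (hQ w))⟩
  have hsurj : Function.Surjective Ψ := by
    intro d
    obtain ⟨u, w, rfl⟩ := IsLocalization.exists_mk'_eq 𝔮.primeCompl d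
    obtain ⟨a, ha⟩ := hφ (algebraMap U _ u)
    obtain ⟨b, hb⟩ := hφ (algebraMap U _ (w : U))
    have hι : ∀ z, ι (algebraMap U (Localization.Away f) z) = algebraMap U D z := fun z => IsLocalization.lift_eq _ z
    have ha' : ρ a = algebraMap U D u := (congrArg ι ha).trans (hι u)
    have hb' : ρ b = algebraMap U D w := (congrArg ι hb).trans (hι w)
    have hbQ : b ∉ Q := fun h => w.2 (by
      show algebraMap U D w ∈ IsLocalRing.maximalIdeal D
      rw [← hb']
      exact h)
    refine ⟨IsLocalization.mk' _ a (⟨b, hbQ⟩ : Q.primeCompl), ((IsLocalization.map_units D w).mul_left_inj).mp ?_⟩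
    rw [IsLocalization.mk'_spec, ← ha', ← hb', ← hΨ b, ← map_mul, ← hΨ a]
    exact congrArg Ψ (IsLocalization.mk'_spec (Localization.AtPrime Q) a (⟨b, hbQ⟩ : Q.primeCompl))
  have hinj : Function.Injective Ψ := by
    letI : Algebra (Localization.AtPrime Q) S :=
      ((algebraMap D S).comp (Ψ : Localization.AtPrime Q →+* D)).toAlgebra
    haveI : IsScalarTower P.Ring (Localization.AtPrime Q) S :=
      IsScalarTower.of_algebraMap_eq fun u => (congrArg (algebraMap D S) (hΨ u)).symm
    haveI : IsLocalHom (algebraMap (Localization.AtPrime Q) S) := ⟨fun x hx =>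
      hΨloc.map_nonunit x (IsUnit.of_map (algebraMap D S) _ hx)⟩
    haveI : Module.Flat (Localization.AtPrime Q) S := by
      rw [Module.flat_iff_of_isLocalization (Localization.AtPrime Q) Q.primeCompl]
      infer_instance
    haveI : Module.FaithfullyFlat (Localization.AtPrime Q) S := Module.FaithfullyFlat.of_flat_of_isLocalHom
    exact fun x y h => FaithfulSMul.algebraMap_injective (Localization.AtPrime Q) S (congrArg (algebraMap D S) h)
  refine ⟨P.Ring, inferInstance, inferInstance, Q, inferInstance, inferInstance, ?_,
    ⟨(AlgEquiv.ofBijective Ψ ⟨hinj, hsurj⟩).symm⟩⟩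
  show ((IsLocalRing.maximalIdeal D).comap ρ.toRingHom).comap (algebraMap A P.Ring) = _
  rw [Ideal.comap_comap, show ρ.toRingHom.comp (algebraMap A P.Ring) = algebraMap A D from ρ.comp_algebraMap]
  exact ((IsLocalRing.local_hom_TFAE (algebraMap A D)).out 0 4 :).mp inferInstance

end Groth.Agent.S16438
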