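import Mathlib
import Groth.Statements.S18472
import Groth.Agent.HopfDerLib.Basic

-- import your own Groth.Agent.* helpers here

set_option autoImplicit false
universe u v
open Hopf

namespace Groth.Agent.S18472

/-- Let R be a commutative ring and A a commutative Hopf algebra over R which is finitely generated and
projective as an R-module (a finite locally free group scheme G = Spec A over Spec R), and let I =
ker ε be its augmentation ideal. Then A is étale over R if and only if I² = I. (The published text
calls G finite flat, meaning that A is finitely generated and projective.) -/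
theorem result
    (R : Type u) [CommRing R] (A : Type v) [CommRing A] [HopfAlgebra R A]
    [Module.Finite R A] [Module.Projective R A] :
    Algebra.Etale R A ↔
      RingHom.ker (Bialgebra.counitAlgHom R A) ^ 2 = RingHom.ker (Bialgebra.counitAlgHom R A) := by
  let I := RingHom.ker (Bialgebra.counitAlgHom R A)
  obtain ⟨π, hπI, hπ1⟩ : ∃ π : A →ₗ[R] I.Cotangent, (∀ x : I, π (x : A) = I.toCotangent x) ∧ π 1 = 0 := by
    let p : A →ₗ[R] I.restrictScalars R :=
      (LinearMap.id - Algebra.linearMap R A ∘ₗ CoalgebraStruct.counit (R := R)).codRestrict _
        (fun x => by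
          rw [Submodule.restrictScalars_mem, RingHom.mem_ker]
          simp)
    refine ⟨I.toCotangent.restrictScalars R ∘ₗ p, fun x => ?_, ?_⟩
    · have h : CoalgebraStruct.counit (R := R) (x : A) = 0 := x.2
      have e : p (x : A) = ⟨x.1, x.2⟩ := Subtype.ext (by simp [p, h])
      show I.toCotangent (p (x : A)) = _
      rw [e]
      rfl
    · have e : p 1 = 0 := Subtype.ext (by simp [p])
      show I.toCotangent (p 1) = _
      rw [e]
      exact map_zero I.toCotangent
  constructor
  · intro hE
    refine (Ideal.cotangent_subsingleton_iff I).1 ?_ |> fun h => by rw [pow_two]; exact h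
    refine ⟨fun a b => ?_⟩
    suffices h : ∀ c : I.Cotangent, c = 0 by rw [h a, h b]
    intro c
    let j : I.Cotangent →ₗ[R] TensorProduct R A I.Cotangent := TensorProduct.mk R A _ 1
    let f : A →ₗ[R] TensorProduct R A I.Cotangent := Groth.Agent.HopfDer.act LinearMap.id (j ∘ₗ π)
    have hleib : ∀ a b, f (a * b) = a • f b + b • f a :=
      Groth.Agent.HopfDer.comp_pi_leibniz π hπI hπ1 j
    let D : Derivation R A (TensorProduct R A I.Cotangent) := Derivation.mk' f hleib
    have hD : D = 0 := by
      have : Subsingleton (KaehlerDifferential R A) := Algebra.FormallyUnramified.subsingleton_kaehlerDifferential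
      rw [← D.liftKaehlerDifferential_comp, show D.liftKaehlerDifferential = 0 from
        LinearMap.ext fun x => by rw [Subsingleton.elim x 0, map_zero, map_zero]]
      ext; simp
    obtain ⟨l, -, hl⟩ := Groth.Agent.HopfDer.existsUnique π hπI hπ1 D
    have h1 := hl j rfl
    have h2 := hl 0 (by
      rw [hD]
      ext x
      simp [Groth.Agent.HopfDer.act_apply])
    have h3 : j c = 0 := by rw [h1, ← h2]; rfl
    have h4 := congrArg (fun z => TensorProduct.lid R _ ((CoalgebraStruct.counit (R := R) (A := A)).rTensor _ z)) h3
    simpa [j] using h4
  · intro hsq
    haveI : Module.Flat R A := inferInstance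
    haveI : Algebra.FinitePresentation R A := by
      haveI := Module.finitePresentation_of_projective R A
      infer_instance
    haveI : Algebra.FormallyUnramified R A := by
      rw [Algebra.formallyUnramified_iff]
      haveI : Subsingleton I.Cotangent := (Ideal.cotangent_subsingleton_iff I).2 (show IsIdempotentElem I by
        show I * I = I
        rw [← pow_two]; exact hsq)
      refine subsingleton_of_forall_eq 0 fun x => ?_
      obtain ⟨l, hl, -⟩ := Groth.Agent.HopfDer.existsUnique π hπI hπ1 (KaehlerDifferential.D R A)
      have h0 : ∀ a, KaehlerDifferential.D R A a = 0 := by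
        intro a
        show (KaehlerDifferential.D R A).toLinearMap a = 0
        rw [← hl, show l = 0 from LinearMap.ext fun c => by rw [Subsingleton.elim c 0, map_zero, map_zero]]
        simp [Groth.Agent.HopfDer.act_apply]
      have : x ∈ Submodule.span A (Set.range (KaehlerDifferential.D R A)) := by
        rw [KaehlerDifferential.span_range_derivation]; trivial
      rw [show Set.range (KaehlerDifferential.D R A) = {0} from Set.ext fun y =>
        ⟨fun ⟨a, ha⟩ => ha ▸ h0 a, fun hy => ⟨0, hy.symm ▸ h0 0⟩⟩, Submodule.span_zero_singleton] at this
      exact this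
    exact Algebra.Etale.of_formallyUnramified_of_flat

end Groth.Agent.S18472
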