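import Mathlib

set_option autoImplicit false
universe u

namespace Groth.Agent.EulerDerLib

open LaurentPolynomial

/-- the Euler operator `t d/dt` as a derivation -/
theorem exists_euler (k : Type u) [Field k] :
    ∃ E : Derivation k (LaurentPolynomial k) (LaurentPolynomial k),
      ∀ (f : LaurentPolynomial k) (n : ℤ), (E f).coeff n = (n : k) * f.coeff n := by
  let L : LaurentPolynomial k →ₗ[k] LaurentPolynomial k :=
    (AddMonoidAlgebra.coeffLinearEquiv k).symm.toLinearMap ∘ₗ
      (Finsupp.lsum k fun n : ℤ => (n : k) • Finsupp.lsingle n) ∘ₗ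
      (AddMonoidAlgebra.coeffLinearEquiv k).toLinearMap
  have hT : ∀ a : ℤ, L (T a) = (a : k) • T a := fun a => by
    ext n
    simp [L, T, AddMonoidAlgebra.coeffLinearEquiv, Finsupp.single_apply, -LaurentPolynomial.single_eq_C_mul_T]
  have hL : ∀ f n, (L f).coeff n = (n : k) * f.coeff n := fun f n => by
    induction f using LaurentPolynomial.induction_on' with
    | add f g hf hg => rw [map_add]; simp [hf, hg, mul_add]
    | C_mul_T a m =>
      rw [← smul_eq_C_mul, map_smul, hT]
      simp [T, Finsupp.single_apply, -LaurentPolynomial.single_eq_C_mul_T]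
      split_ifs with h
      · subst h; ring
      · ring
  refine ⟨Derivation.mk' L (fun f g => ?_), hL⟩
  induction f using LaurentPolynomial.induction_on' with
  | add f f' hf hf' =>
    simp only [add_mul, map_add, hf, hf', smul_eq_mul]; ring
  | C_mul_T a m =>
    induction g using LaurentPolynomial.induction_on' with
    | add g g' hg hg' =>
      simp only [mul_add, map_add, hg, hg', smul_eq_mul]; ring
    | C_mul_T b n =>
      simp only [← smul_eq_C_mul, smul_mul_smul_comm, ← T_add, map_smul, hT, smul_eq_mul,
        smul_smul, ← add_smul]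
      simp only [Int.cast_add, add_comm b a]
      module

end Groth.Agent.EulerDerLib
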