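import Groth.Statements.S6464
import Mathlib.RingTheory.Length
import Mathlib.LinearAlgebra.Isomorphisms
-- import your own Groth.Agent.* helpers here

set_option autoImplicit false
universe u v
open CycAlg

namespace Groth.Agent.S6464

/-- Let (M, N, φ, ψ) be a 2-periodic complex over a ring R with M and N of finite length. Then its
cohomology modules have finite length and e_R(M, N, φ, ψ) = length_R(M) − length_R(N). (The case M =
N, where the conclusion reads e_R(M, φ, ψ) = 0, is the special case and is not restated.) -/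
theorem result {R : Type u} [CommRing R] {M N : Type v} [AddCommGroup M] [Module R M] [AddCommGroup N] [Module R N] (φ : M →ₗ[R] N) (ψ : N →ₗ[R] M) (h : CycAlg.IsPeriodic φ ψ) (hM : Module.length R M < ⊤) (hN : Module.length R N < ⊤) : CycAlg.FinCoh R φ ψ ∧ CycAlg.herbrand R φ ψ = ((Module.length R M).toNat : ℤ) - ((Module.length R N).toNat : ℤ) := by
  obtain ⟨h1, h2⟩ := h
  have key : ∀ {P Q : Type v} [AddCommGroup P] [Module R P] [AddCommGroup Q] [Module R Q]
      (a : P →ₗ[R] Q) (b : Q →ₗ[R] P), a ∘ₗ b = 0 →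
      Module.length R P = Module.length R (LinearMap.range b) + Module.length R (CycAlg.perH a b) + Module.length R (LinearMap.range a) := by
    intro P Q _ _ _ _ a b hab
    have hle : LinearMap.range b ≤ LinearMap.ker a := LinearMap.range_le_ker_iff.mpr hab
    have e1 := Module.length_eq_add_of_exact (LinearMap.ker a).subtype a.rangeRestrict (Submodule.injective_subtype _)
      a.surjective_rangeRestrict (LinearMap.exact_iff.mpr (by rw [LinearMap.ker_rangeRestrict, Submodule.range_subtype]))
    have e2 := Module.length_eq_add_of_exact ((LinearMap.range b).submoduleOf (LinearMap.ker a)).subtype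
      ((LinearMap.range b).submoduleOf (LinearMap.ker a)).mkQ (Submodule.injective_subtype _) (Submodule.mkQ_surjective _)
      (LinearMap.exact_subtype_mkQ _)
    rw [(Submodule.submoduleOfEquivOfLe hle).length_eq] at e2
    rw [e1, e2]
  have eM := key φ ψ h1
  have eN := key ψ φ h2
  have hne : ∀ x : ℕ∞, x < ⊤ → ∃ n : ℕ, x = n := fun x hx => ⟨x.toNat, (ENat.coe_toNat hx.ne).symm⟩
  have hlt : ∀ x y z : ℕ∞, x + y + z < ⊤ → x < ⊤ ∧ y < ⊤ ∧ z < ⊤ := fun x y z h =>
    ⟨(lt_of_le_of_lt (le_self_add.trans le_self_add) h), lt_of_le_of_lt (le_add_self.trans le_self_add) h, lt_of_le_of_lt le_add_self h⟩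
  obtain ⟨a1, a2, a3⟩ := hlt _ _ _ (eM ▸ hM)
  obtain ⟨b1, b2, b3⟩ := hlt _ _ _ (eN ▸ hN)
  refine ⟨⟨a2, b2⟩, ?_⟩
  obtain ⟨p, hp⟩ := hne _ a1
  obtain ⟨q, hq⟩ := hne _ a2
  obtain ⟨r, hr⟩ := hne _ a3
  obtain ⟨s, hs⟩ := hne _ b2
  simp only [CycAlg.herbrand, eM, eN, hp, hq, hr, hs, ← Nat.cast_add, ENat.toNat_coe]
  push_cast
  ring

end Groth.Agent.S6464
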