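import Groth.Statements.S13342
import Groth.Agent.FComplLib.Levels

set_option autoImplicit false
open CategoryTheory CategoryTheory.Limits
universe u
open FCompl

namespace Groth.Agent.S13342

open AlgebraicGeometry in
theorem isPullback_resLE {X Y : Scheme.{u}} (f : X ⟶ Y) (W : Y.Opens) (V : X.Opens) (e : V ≤ f ⁻¹ᵁ W)
    (h : V = f ⁻¹ᵁ W) : IsPullback (f.resLE W V e) V.ι W.ι f := by
  subst h
  rw [Scheme.Hom.resLE_eq_morphismRestrict]
  exact isPullback_morphismRestrict f W


open AlgebraicGeometry in
/-- The formal prescheme induced on an open subset of a formal prescheme (resp. of a locally Noetherian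
formal prescheme, resp. of a Noetherian formal prescheme) is a formal prescheme (resp. a locally
Noetherian formal prescheme, resp. a Noetherian formal prescheme). In the presentation by systems of
thickenings with common underlying space: for an open U, the induced system (the open subschemes of
the levels over U with the restricted transition maps) is again a system of thickenings; it is adic
with locally Noetherian levels when the given system is; and if moreover the common underlying space
is quasi-compact (a Noetherian formal prescheme), so is that of the induced system. -/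
theorem result (𝔛 : FSch.Sys.{u}) (h : 𝔛.IsFormal) (U : (𝔛.X 0).Opens) :
    (𝔛.restrictOpen h U).IsFormal ∧ (𝔛.IsLocNoethFormal → (𝔛.restrictOpen h U).IsLocNoethFormal) ∧
      (𝔛.IsLocNoethFormal → CompactSpace (𝔛.X 0) → CompactSpace ((𝔛.restrictOpen h U).X 0)) := by
  have hp : ∀ n, IsPullback ((𝔛.restrictOpen h U).ι n) (𝔛.lvU h n U).ι (𝔛.lvU h (n + 1) U).ι (𝔛.ι n) :=
    fun n => isPullback_resLE _ _ _ _ (𝔛.lvU_succ h n U).symm
  have hA : FSch.IsAdicHom (𝔛.restrictOpenι h U) := hp
  refine ⟨fun n => ?_, fun hL => ?_, fun hL hc => ?_⟩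
  · have := (h n).1
    have : Surjective (𝔛.ι n) := ⟨(h n).2⟩
    exact ⟨FComplLib.isClosedImmersion_of_isPullback (hp n), (FComplLib.surjective_of_isPullback (hp n)).surj⟩
  · have := hL.2.2 0
    have : IsLocallyNoetherian ((𝔛.restrictOpen h U).X 0) :=
      inferInstanceAs (IsLocallyNoetherian ((𝔛.lvU h 0 U) : Scheme.{u}))
    exact FComplLib.isLocNoethFormal_of_isAdicHom (𝔛.restrictOpenι h U) hL hA
  · have := hL.2.2 0
    have : IsNoetherian (𝔛.X 0) := ⟨⟩
    exact isCompact_iff_compactSpace.mp
      (TopologicalSpace.NoetherianSpace.isCompact ((𝔛.lvU h 0 U) : Set (𝔛.X 0)))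
end Groth.Agent.S13342
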