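import Groth.Statements.S13658
import Groth.Agent.FBlowLib.NzdBlow

set_option autoImplicit false
open CategoryTheory AlgebraicGeometry
universe u
open FBlow

namespace Groth.Agent.S13658

/-- Let R be a base ring of class (N) or (V) for the ideal I and X an admissible formal R-scheme,
presented I-adically: a formal system of thickenings X_0 → X_1 → ⋯ adic over Spf R = (Spec
R/I^(n+1))_n (all squares cartesian), with every level X_n locally of finite presentation over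
R/I^(n+1), structure sheaf O_X = lim O_{X_n} on the common underlying space, and no I-torsion (over
every open, a section of O_X annihilated by the kernel of O_X → O_{X_0} is zero). Let J and K be
coherent open ideals of O_X, X' → X an admissible formal blowing-up of J (universal-property sense)
and X'' → X' an admissible formal blowing-up of the ideal K·O_{X'}. Then the composite X'' → X is an
admissible formal blowing-up of the product ideal J·K. -/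
theorem result
    (R : Type u) [CommRing R] (I : Ideal R) (hR : AdicRing.IsBase R I)
    (𝔛 : FSch.Sys.{u}) (h : 𝔛.IsFormal) (p : 𝔛 ⟶ FSch.spf R I) (hp : FSch.IsAdicHom p)
    (hfp : ∀ n, LocallyOfFinitePresentation ((p : FSch.Hom 𝔛 (FSch.spf R I)).app n))
    (htf : ∀ (U : (𝔛.X 0).Opens) (s : (𝔛.Osh h).obj.obj (Opposite.op U)),
      (∀ a ∈ (FBlow.IdealSh.ker (𝔛.OshProj h 0)).sect U, a * s = 0) → s = 0)
    (J K : FBlow.IdealSh (𝔛.Osh h)) (hJ : FBlow.IsCohOpen 𝔛 h J) (hK : FBlow.IsCohOpen 𝔛 h K)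
    (𝔛' : FSch.Sys.{u}) (h' : 𝔛'.IsFormal) (b : 𝔛' ⟶ 𝔛) (hb : FBlow.IsAdmBlowUp b h' h J)
    (𝔛'' : FSch.Sys.{u}) (h'' : 𝔛''.IsFormal) (b' : 𝔛'' ⟶ 𝔛')
    (hb' : FBlow.IsAdmBlowUp b' h'' h' (FBlow.idealMap b h' h K)) :
    FBlow.IsAdmBlowUp (b' ≫ b) h'' h (FBlow.IdealSh.mul J K) := by
  have hI : I.FG := by
    rcases hR.2 with ⟨hN, -⟩ | ⟨-, -, -, t, -, rfl⟩
    · exact hN.noetherian I
    · exact ⟨{t}, by simp⟩
  have hmulmap : FBlow.idealMap (b' ≫ b) h'' h (FBlow.IdealSh.mul J K) =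
      FBlow.IdealSh.mul (FBlow.idealMap b' h'' h' (FBlow.idealMap b h' h J))
        (FBlow.idealMap b' h'' h' (FBlow.idealMap b h' h K)) := by
    rw [FBlowLib.idealMap_idealMap b' b h'' h' h J, FBlowLib.idealMap_idealMap b' b h'' h' h K]
    exact FBlowLib.map_mul_ideal _ _ J K
  refine ⟨FBlowLib.isAdicHom_comp hb'.1 hb.1, ?_, fun 𝔜 h𝔜 g hg hinv => ?_⟩
  · rw [hmulmap]
    refine FBlowLib.isInvertible_mul ((FBlowLib.isInvertible_iff _).2 fun x => ?_) hb'.2.1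
    obtain ⟨U, hxU, e, he⟩ := (FBlowLib.isInvertible_iff _).1 hb.2.1 ((b' : FSch.Hom 𝔛'' 𝔛').app 0 x)
    obtain ⟨U₀, -, hxU₀, M, hM, -⟩ := FBlowLib.exists_span_of_isCohOpen h p hp hI hJ
      ((b : FSch.Hom 𝔛' 𝔛).app 0 ((b' : FSch.Hom 𝔛'' 𝔛').app 0 x))
    have he' := he.mono (inf_le_left : U ⊓ (b : FSch.Hom 𝔛' 𝔛).app 0 ⁻¹ᵁ U₀ ≤ U)
    generalize FBlowLib.res _ (inf_le_left : U ⊓ (b : FSch.Hom 𝔛' 𝔛).app 0 ⁻¹ᵁ U₀ ≤ U) e = e₀ at he'
    obtain ⟨W, hxW, hW⟩ := FBlowLib.nzd_blowUp h h' h'' p b b' hp hI hK hb.1 hb' e₀ (fun V i => (he'.2 V i).1) M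
      (fun V i r hr => (he'.2 V i).2 _ (by
        rw [← FBlowLib.res_pull h' _ _ (i.trans inf_le_right), ← FBlowLib.pull_sharp h h' p b U₀ r]
        exact (FBlow.idealMap b h' h J).map_mem (i.trans inf_le_right)
          (FBlowLib.img_mem_map _ _ J (hM U₀ le_rfl r hr))))
      x ⟨hxU, hxU₀⟩
    refine ⟨W ⊓ (b' : FSch.Hom 𝔛'' 𝔛').app 0 ⁻¹ᵁ (U ⊓ (b : FSch.Hom 𝔛' 𝔛).app 0 ⁻¹ᵁ U₀), ⟨hxW, hxU, hxU₀⟩,
      FBlowLib.res _ inf_le_right ((FSch.Hom.sharp b' h'' h').hom.app (Opposite.op _) e₀), ?_⟩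
    refine FBlowLib.isGen_of_le _ ((FBlow.idealMap b' h'' h' _).map_mem inf_le_right
      (FBlowLib.img_mem_map _ _ _ he'.1)) (fun V i t ht => ?_) ?_
    · rw [FBlowLib.res, FBlowLib.res, FBlow.IdealSh.map_comp_apply] at ht
      exact hW V (i.trans inf_le_right) (i.trans inf_le_left) t ht
    · refine FBlowLib.ideal_le_trans
        (FBlowLib.map_spanSh_le {e₀} _ _ (FBlowLib.le_spanSh_of_isGen he')) ?_
      refine FBlowLib.ideal_le_trans (FBlowLib.spanSh_le_divSh (FBlowLib.img ((b' : FSch.Hom 𝔛'' 𝔛').app 0).base (FSch.Hom.sharp b' h'' h') _ '' {e₀}) ((FSch.Hom.sharp b' h'' h').hom.app (Opposite.op _) e₀)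
        (fun a ha => by
          obtain ⟨a', rfl, rfl⟩ := ha
          exact ⟨1, (one_mul _).symm⟩)) ?_
      intro V s hs y hy hyU
      obtain ⟨W', i, j, hyW, t, ht⟩ := hs y hy hyU.2
      refine ⟨W' ⊓ (W ⊓ (b' : FSch.Hom 𝔛'' 𝔛').app 0 ⁻¹ᵁ (U ⊓ (b : FSch.Hom 𝔛' 𝔛).app 0 ⁻¹ᵁ U₀)),
        inf_le_left.trans i, inf_le_right, ⟨hyW, hyU⟩, FBlowLib.res _ inf_le_left t, ?_⟩
      have e1 := congrArg ((𝔛''.Osh h'').obj.map (homOfLE (inf_le_left :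
        W' ⊓ (W ⊓ (b' : FSch.Hom 𝔛'' 𝔛').app 0 ⁻¹ᵁ (U ⊓ (b : FSch.Hom 𝔛' 𝔛).app 0 ⁻¹ᵁ U₀)) ≤ W')).op) ht
      simp only [FBlowLib.res, map_mul, FBlow.IdealSh.map_comp_apply] at e1 ⊢
      exact e1
  · have hinv' : (FBlow.IdealSh.mul (FBlow.idealMap g h𝔜 h J) (FBlow.idealMap g h𝔜 h K)).IsInvertible := by
      rw [FBlow.idealMap, FBlowLib.map_mul_ideal] at hinv
      exact hinv
    have hJY := FBlowLib.isInvertible_left_of_mul (FBlowLib.isLocalSh_Osh h𝔜) hinv'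
    have hKY := FBlowLib.isInvertible_right_of_mul (FBlowLib.isLocalSh_Osh h𝔜) hinv'
    obtain ⟨k₁, hk₁, hu₁⟩ := hb.2.2 𝔜 h𝔜 g hg hJY
    have hk₁a : FSch.IsAdicHom k₁ := FBlowLib.isAdicHom_of_comp (hk₁.symm ▸ hg) hb.1
    have hK₁ : (FBlow.idealMap k₁ h𝔜 h' (FBlow.idealMap b h' h K)).IsInvertible := by
      rw [FBlowLib.idealMap_idealMap k₁ b h𝔜 h' h K]
      exact hk₁.symm ▸ hKY
    obtain ⟨k₂, hk₂, hu₂⟩ := hb'.2.2 𝔜 h𝔜 k₁ hk₁a hK₁
    refine ⟨k₂, ?_, fun k hk => hu₂ k (hu₁ (k ≫ b') ?_)⟩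
    · show k₂ ≫ b' ≫ b = g
      rw [← Category.assoc, hk₂, hk₁]
    · show (k ≫ b') ≫ b = g
      rw [Category.assoc]
      exact hk

end Groth.Agent.S13658
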