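import Groth.Statements.S13652
import Groth.Agent.FBlowLib.BlowExists
import Groth.Agent.FBlowLib.BlowLocal

set_option autoImplicit false
open CategoryTheory AlgebraicGeometry
universe u
open FBlow

namespace Groth.Agent.S13652

/-- Let R be a base ring of class (N) or (V) for the ideal I and X an admissible formal R-scheme,
presented I-adically: a formal system of thickenings X_0 → X_1 → ⋯ adic over Spf R = (Spec
R/I^(n+1))_n (all squares cartesian), with every level X_n locally of finite presentation over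
R/I^(n+1), structure sheaf O_X = lim O_{X_n} on the common underlying space, and no I-torsion (over
every open, a section of O_X annihilated by the kernel of O_X → O_{X_0} is zero). Let J be a
coherent open ideal of O_X. Then the formal blowing-up of J on X exists as a formal system X' → X
with the universal property that characterises an admissible formal blowing-up: the morphism is
adic, J·O_{X'} is an invertible ideal, and every adic morphism of formal systems Y → X under which J
generates an invertible ideal of O_Y factors through X' → X in exactly one way. -/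
theorem result
    (R : Type u) [CommRing R] (I : Ideal R) (hR : AdicRing.IsBase R I)
    (𝔛 : FSch.Sys.{u}) (h : 𝔛.IsFormal) (p : 𝔛 ⟶ FSch.spf R I) (hp : FSch.IsAdicHom p)
    (hfp : ∀ n, LocallyOfFinitePresentation ((p : FSch.Hom 𝔛 (FSch.spf R I)).app n))
    (htf : ∀ (U : (𝔛.X 0).Opens) (s : (𝔛.Osh h).obj.obj (Opposite.op U)),
      (∀ a ∈ (FBlow.IdealSh.ker (𝔛.OshProj h 0)).sect U, a * s = 0) → s = 0)
    (J : FBlow.IdealSh (𝔛.Osh h)) (hJ : FBlow.IsCohOpen 𝔛 h J) :
    ∃ (𝔛' : FSch.Sys.{u}) (h' : 𝔛'.IsFormal) (b : 𝔛' ⟶ 𝔛), FBlow.IsAdmBlowUp b h' h J := by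
  have hI : I.FG := by
    rcases hR.2 with ⟨hN, -⟩ | ⟨-, -, -, t, -, rfl⟩
    · exact hN.noetherian I
    · exact ⟨{t}, by simp⟩
  have H : ∀ i : {U // FBlowLib.IsGoodOpen I h p J U}, ∃ (𝔜 : FSch.Sys.{u}) (h𝔜 : 𝔜.IsFormal) (b : 𝔜 ⟶ 𝔛),
      FBlowLib.IsBlowUpOver h J b h𝔜 i.1 := fun i => by
    obtain ⟨𝔜, h𝔜, b, hb⟩ := FBlowLib.exists_isAdmBlowUp_goodOpen hp hI i.2
    exact ⟨𝔜, h𝔜, _, FBlowLib.isBlowUpOver_comp hb⟩
  choose Y hY b hb using H
  let D : FBlowLib.BasisBlowUps h J :=
    ⟨FBlowLib.IsGoodOpen I h p J, fun x U hx => FBlowLib.exists_isGoodOpen hp hI hJ x hx, Y, hY, b, hb⟩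
  exact ⟨D.glSys, D.isFormal_glSys, D.glB, D.isAdmBlowUp_glB p hp hI hJ⟩

end Groth.Agent.S13652
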