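import Groth.Statements.S4652
import Groth.Agent.KFlatLib.PerfectPull
import Groth.Agent.KFlatLib.FPFlatFree
import Groth.Agent.KFlatLib.TorAmpMore
import Groth.Agent.KFlatLib.FlatRes
import Groth.Agent.PerfLib.FiniteType

set_option autoImplicit false
open CategoryTheory AlgebraicGeometry
universe u
open FDesc

namespace Groth.Agent.S4652
open KFlatLib CategoryTheory CategoryTheory.Limits AlgebraicGeometry TopologicalSpace

attribute [local instance] HasDerivedCategory.standard

theorem freeNear_of_flatAt {X : Scheme.{u}} {M : X.Modules} {p q : ℕ}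
    (g : FlatMod.freeMod X p ⟶ FlatMod.freeMod X q) (π : FlatMod.freeMod X q ⟶ M) (w : g ≫ π = 0)
    (hc : IsColimit (CokernelCofork.ofπ π w)) (x : X) (hM : FlatMod.IsFlatAt M x) : FreeNear M x := by
  let R := X.presheaf.stalk x
  let N := (DerSch.stalkFunctor X x).obj M
  have : Epi π := Cofork.IsColimit.epi hc
  have : Module.Finite R N := Module.Finite.of_surjective
    ((stalkFreeModIso X x q).inv ≫ (DerSch.stalkFunctor X x).map π).hom
    ((ModuleCat.epi_iff_surjective _).mp inferInstance)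
  have : Module.Flat R N := hM
  have : Module.Free R N := Module.free_of_flat_of_isLocalRing
  let b := Module.Free.chooseBasis R N
  let b' := b.reindex (Fintype.equivFin _)
  let e := stalkFreeModIso X x _ ≪≫ b'.equivFun.symm.toModuleIso
  obtain ⟨U, hU, k, hk⟩ := exists_lift_pullback x e.hom
  let y : (U : Scheme.{u}) := ⟨x, hU⟩
  let Φ := Scheme.Modules.pullback U.ι
  let ep := pullFreeIso U.ι p
  let eq := pullFreeIso U.ι q
  have : IsIso ((DerSch.stalkFunctor _ y).map k) := by
    rw [hk]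
    infer_instance
  have : IsIso ((DerSch.stalkFunctor _ y).map ((pullFreeIso U.ι _).inv ≫ k)) := by
    rw [Functor.map_comp]
    infer_instance
  have w₀ : Φ.map g ≫ Φ.map π = 0 := by rw [← Functor.map_comp, w, Functor.map_zero]
  have w' : (ep.inv ≫ Φ.map g ≫ eq.hom) ≫ eq.inv ≫ Φ.map π = 0 := by
    rw [Category.assoc, Category.assoc, Iso.hom_inv_id_assoc, w₀, comp_zero]
  exact freeNear_of_pullback y (freeNear_of_stalkIso (ep.inv ≫ Φ.map g ≫ eq.hom) (eq.inv ≫ Φ.map π) w'
    (isColimitConj (g := Φ.map g) (π := Φ.map π) (w := w₀)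
      (CokernelCofork.mapIsColimit _ hc Φ) ep.symm eq.symm w')
    ((pullFreeIso U.ι _).inv ≫ k))

theorem flatAt_of_iso {X : Scheme.{u}} {M N : X.Modules} (e : M ≅ N) (x : X) (h : FlatMod.IsFlatAt M x) :
    FlatMod.IsFlatAt N x := by
  have : Module.Flat (X.presheaf.stalk x) ((DerSch.stalkFunctor X x).obj M) := h
  exact Module.Flat.of_linearEquiv ((DerSch.stalkFunctor X x).mapIso e).toLinearEquiv.symm

theorem flatAt_pullback {X Y : Scheme.{u}} (f : X ⟶ Y) {M : Y.Modules} (x : X) (hM : FlatMod.IsFlatAt M (f x)) :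
    FlatMod.IsFlatAt ((Scheme.Modules.pullback f).obj M) x := by
  have : Module.Flat (Y.presheaf.stalk (f x)) ((DerSch.stalkFunctor Y (f x)).obj M) := hM
  have := flat_extendScalars (f.stalkMap x).hom ((DerSch.stalkFunctor Y (f x)).obj M)
  have h : Module.Flat (X.presheaf.stalk x) ((DerSch.stalkFunctor Y (f x) ⋙
      ModuleCat.extendScalars.{u, u, u} (f.stalkMap x).hom).obj M) := this
  exact Module.Flat.of_linearEquiv ((stalkPullIso f x).app M).toLinearEquiv

open scoped TensorProduct in
theorem flat_of_extendScalars {A B : Type u} [CommRing A] [CommRing B] (φ : A →+* B) (hφ : Function.Bijective φ)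
    (M : ModuleCat.{u} A) (h : Module.Flat B ((ModuleCat.extendScalars.{u, u, u} φ).obj M)) : Module.Flat A M := by
  letI := φ.toAlgebra
  haveI : Module.Flat B (B ⊗[A] M) := h
  let e : A ≃ₗ[A] B := LinearEquiv.ofBijective (Algebra.linearMap A B) hφ
  haveI : Module.Flat A B := Module.Flat.of_linearEquiv e.symm
  haveI : Module.Flat A (B ⊗[A] M) := Module.Flat.trans A B (B ⊗[A] M)
  exact Module.Flat.of_linearEquiv ((TensorProduct.lid A M).symm ≪≫ₗ TensorProduct.congr e (LinearEquiv.refl A M))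

theorem freeNear_of_fp {X : Scheme.{u}} {M : X.Modules} (h : CohB1.IsFP M) (x : X)
    (hM : FlatMod.IsFlatAt M x) : FreeNear M x := by
  obtain ⟨O, P, hxO, hP⟩ := Groth.Agent.PerfLib.exists_presentation_nhd h x
  let M' := M.restrict O.ι
  haveI := hP.isFiniteType_generators
  haveI := hP.isFiniteType_relations
  haveI : Finite P.generators.I := inferInstance
  haveI : Finite P.relations.I := inferInstance
  obtain ⟨q, ⟨eq⟩⟩ := Groth.Agent.PerfLib.isFinFree_free (X := (O : Scheme.{u})) P.generators.I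
  obtain ⟨p, ⟨ep⟩⟩ := Groth.Agent.PerfLib.isFinFree_free (X := (O : Scheme.{u})) P.relations.I
  let π' : (SheafOfModules.free P.generators.I : (O : Scheme.{u}).Modules) ⟶ M' := P.generators.π
  haveI : Epi π' := P.generators.epi
  let ρ : (SheafOfModules.free P.relations.I : (O : Scheme.{u}).Modules) ⟶ kernel π' := P.relations.π
  haveI : Epi ρ := P.relations.epi
  have hc := isCokernelEpiComp (Abelian.epiIsCokernelOfKernel _ (kernelIsKernel π')) ρ
    (h := ρ ≫ kernel.ι π') rfl
  have hw : (ρ ≫ kernel.ι π') ≫ π' = 0 := by rw [Category.assoc, kernel.condition, comp_zero]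
  have hfn := freeNear_of_flatAt _ _ (by
      simp only [Iso.symm_hom, Iso.symm_inv, Category.assoc, Iso.hom_inv_id_assoc]
      erw [← Category.assoc ρ, hw, comp_zero])
    (isColimitConj (w := hw) hc ep.symm eq.symm (by
      simp only [Iso.symm_hom, Iso.symm_inv, Category.assoc, Iso.hom_inv_id_assoc]
      erw [← Category.assoc ρ, hw, comp_zero]))
    (⟨x, hxO⟩ : (O : Scheme.{u})) (flatAt_of_iso ((Scheme.Modules.restrictFunctorIsoPullback O.ι).app M).symm _ (flatAt_pullback O.ι ⟨x, hxO⟩ hM))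
  obtain ⟨W, hW, hfree⟩ := hfn
  exact freeNear_of_pullback (U := O) ⟨x, hxO⟩ ⟨W, hW, isFinFree_of_iso
    ((Scheme.Modules.pullback W.ι).mapIso ((Scheme.Modules.restrictFunctorIsoPullback O.ι).app M)) hfree⟩

/-- Let X be a scheme, F a finitely presented O_X-module and x a point of X. Then F_x is a flat module
over the local ring O_{X,x} if and only if x has an open neighbourhood U such that the restriction
of F to U is finite locally free. -/
theorem result {X : Scheme.{u}} (F : X.Modules) (hF : CohB1.IsFP F) (x : X) :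
    FlatMod.IsFlatAt F x ↔ ∃ U : X.Opens, x ∈ U ∧ FlatMod.IsFinLocFree ((Scheme.Modules.pullback U.ι).obj F) := by
  constructor
  · intro h
    obtain ⟨U, hx, n, ⟨e⟩⟩ := freeNear_of_fp hF x h
    exact ⟨U, hx, fun z => ⟨⊤, n, trivial, ⟨(Scheme.Modules.restrictFunctor (⊤ : (U : Scheme.{u}).Opens).ι).mapIso e ≪≫
      (Scheme.Modules.restrictFunctorIsoPullback _).app _ ≪≫ pullFreeIso _ n⟩⟩⟩
  · rintro ⟨U, hx, hU⟩
    have h : FlatMod.IsFlatAt ((Scheme.Modules.pullback U.ι).obj F) ⟨x, hx⟩ := isFlat_of_isFinLocFree hU _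
    have h' : Module.Flat ((U : Scheme.{u}).presheaf.stalk (⟨x, hx⟩ : (U : Scheme.{u})))
        ((DerSch.stalkFunctor X (U.ι ⟨x, hx⟩) ⋙ ModuleCat.extendScalars.{u, u, u}
          (U.ι.stalkMap ⟨x, hx⟩).hom).obj F) := by
      haveI : Module.Flat ((U : Scheme.{u}).presheaf.stalk (⟨x, hx⟩ : (U : Scheme.{u})))
          ((Scheme.Modules.pullback U.ι ⋙ DerSch.stalkFunctor (U : Scheme.{u}) ⟨x, hx⟩).obj F) := h
      exact Module.Flat.of_linearEquiv ((stalkPullIso U.ι ⟨x, hx⟩).app F).toLinearEquiv.symm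
    exact flat_of_extendScalars _ (ConcreteCategory.bijective_of_isIso (U.ι.stalkMap ⟨x, hx⟩)) _ h'

end Groth.Agent.S4652
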