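import Groth.Statements.S0294
import Mathlib.AlgebraicGeometry.Morphisms.Finite
import Mathlib.AlgebraicGeometry.Morphisms.Affine
import Mathlib.RingTheory.Algebraic.Integral
import Mathlib.FieldTheory.Fixed

set_option autoImplicit false
universe u
open Pi1

namespace Groth.Agent.S0294

open AlgebraicGeometry CategoryTheory CategoryTheory.Limits in
/-- For a finite étale cover Y of a scheme X and a point ξ : Spec Ω → X with values in a field Ω, the
fibre of Y over ξ (the set of Ω-valued points of Y lying over ξ) is finite. -/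
theorem result {X : Scheme.{u}} {Ω : Type u} [Field Ω] (ξ : Spec (CommRingCat.of Ω) ⟶ X) (Y : FEt.Cat X) :
    Finite (FEt.fiberObj ξ Y) := by
  haveI hfin : IsFinite Y.hom := (Y.prop : FEt.prop Y.hom).1
  let P := Limits.pullback Y.hom ξ
  haveI : IsFinite (Limits.pullback.snd Y.hom ξ) :=
    (inferInstance : MorphismProperty.IsStableUnderBaseChange @AlgebraicGeometry.IsFinite.{u}).of_isPullback
      (IsPullback.of_hasPullback Y.hom ξ) hfin
  haveI : IsAffine P := isAffine_of_isAffineHom (Limits.pullback.snd Y.hom ξ)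
  let g : CommRingCat.of Ω ⟶ Γ(P, ⊤) :=
    (Scheme.ΓSpecIso (CommRingCat.of Ω)).inv ≫ (Limits.pullback.snd Y.hom ξ).appTop
  have hg : g.hom.Finite := by
    have h1 : ((Limits.pullback.snd Y.hom ξ).appTop).hom.Finite :=
      Scheme.Hom.finite_app (Limits.pullback.snd Y.hom ξ) ⊤ (isAffineOpen_top _)
    exact h1.comp (RingHom.Finite.of_surjective _
      (Scheme.ΓSpecIso (CommRingCat.of Ω)).symm.commRingCatIsoToRingEquiv.surjective)
  letI : Algebra Ω Γ(P, ⊤) := g.hom.toAlgebra
  haveI : Module.Finite Ω Γ(P, ⊤) := hg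
  let F : FEt.fiberObj ξ Y → (Γ(P, ⊤) →ₐ[Ω] Ω) := fun s =>
    let l : Spec (CommRingCat.of Ω) ⟶ P :=
      Limits.pullback.lift s.1 (𝟙 _) (by rw [Category.id_comp]; exact s.2)
    { toRingHom := (l.appTop ≫ (Scheme.ΓSpecIso (CommRingCat.of Ω)).hom).hom
      commutes' := fun r => by
        have h1 : g ≫ l.appTop ≫ (Scheme.ΓSpecIso (CommRingCat.of Ω)).hom = 𝟙 _ := by
          simp only [g, Category.assoc]
          rw [← Scheme.Hom.comp_appTop_assoc, Limits.pullback.lift_snd, Scheme.Hom.id_appTop,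
            Category.id_comp, Iso.inv_hom_id]
        exact RingHom.congr_fun (congrArg CommRingCat.Hom.hom h1) r }
  refine Finite.of_injective F fun s t hst => Subtype.ext ?_
  let ls : Spec (CommRingCat.of Ω) ⟶ P := Limits.pullback.lift s.1 (𝟙 _) (by rw [Category.id_comp]; exact s.2)
  let lt : Spec (CommRingCat.of Ω) ⟶ P := Limits.pullback.lift t.1 (𝟙 _) (by rw [Category.id_comp]; exact t.2)
  have h1 : ls = lt := by
    refine ext_of_isAffine ?_
    rw [← cancel_mono (Scheme.ΓSpecIso (CommRingCat.of Ω)).hom]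
    exact CommRingCat.hom_ext (congrArg (fun a : Γ(P, ⊤) →ₐ[Ω] Ω => a.toRingHom) hst)
  calc s.1 = ls ≫ Limits.pullback.fst Y.hom ξ := (Limits.pullback.lift_fst _ _ _).symm
    _ = t.1 := by rw [h1]; exact Limits.pullback.lift_fst _ _ _

end Groth.Agent.S0294
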