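import Groth.Statements.S0247
import Mathlib
import Groth.Agent.PurityLib.Extend
-- import your own Groth.Agent.* helpers here

set_option autoImplicit false
universe u
open Pi1

namespace Groth.Agent.S0247

open AlgebraicGeometry CategoryTheory CategoryTheory.Limits in
/-- For a regular local ring A of Krull dimension at least 2, every finite etale cover of the punctured
spectrum of A extends to a finite etale cover of Spec A. -/
theorem result (A : Type u) [CommRing A] [IsRegularLocalRing A] (h : (2 : WithBot ℕ∞) ≤ ringKrullDim A) :
    FEt.PurityHolds A := by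
  have hiso : ∀ x : Spec (CommRingCat.of A), Nonempty (Localization.AtPrime x.asIdeal ≃+* (Spec (CommRingCat.of A)).presheaf.stalk x) :=
    fun x => ⟨(AlgebraicGeometry.Spec.stalkIso (CommRingCat.of A) x).symm.commRingCatIsoToRingEquiv⟩
  refine PurityLib.essSurj_restrict (fun x => ?_) _ (fun x hx => ?_)
  · obtain ⟨e⟩ := hiso x
    haveI := CommAlgDim.isRegularLocalRing_localization A x.asIdeal
    exact IsRegularLocalRing.of_ringEquiv e
  · obtain ⟨e⟩ := hiso x
    have hx' : x = IsLocalRing.closedPoint A := by
      by_contra hne
      exact hx hne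
    rw [← ringKrullDim_eq_of_ringEquiv e,
      IsLocalization.AtPrime.ringKrullDim_eq_height x.asIdeal (Localization.AtPrime x.asIdeal), hx']
    show _ ≤ ((IsLocalRing.maximalIdeal A).height : WithBot ℕ∞)
    rwa [IsLocalRing.maximalIdeal_height_eq_ringKrullDim]

end Groth.Agent.S0247
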