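import Groth.Statements.S0262
import Groth.Agent.PurityDescLib.Scheme
import Groth.Agent.AdicRingLib.Completion
import Mathlib.RingTheory.AdicCompletion.LocalRing
import Mathlib.RingTheory.AdicCompletion.AsTensorProduct
import Mathlib.RingTheory.Flat.FaithfullyFlat.Basic

set_option autoImplicit false
universe u
open Pi1

namespace Groth.Agent.S0262

open AlgebraicGeometry CategoryTheory CategoryTheory.Limits in
/-- Let A be a Noetherian local ring with completion A^, U the punctured spectrum of A and U' its base
change to Spec A^. A finite etale cover V of U is the restriction of a finite etale cover of Spec A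
if and only if the base change of V to U' is the restriction of a finite etale cover of Spec A^. -/
theorem result (A : Type u) [CommRing A] [IsNoetherianRing A] [IsLocalRing A]
    (V : FEt.Cat (FEt.puncturedSpec A : Scheme.{u})) :
    (∃ Y : FEt.Cat (Spec (CommRingCat.of A)),
      Nonempty ((FEt.restrict (FEt.puncturedSpec A).ι).obj Y ≅ V)) ↔
    (∃ Y' : FEt.Cat (Spec (CommRingCat.of (AdicCompletion (IsLocalRing.maximalIdeal A) A))),
      Nonempty ((FEt.restrict (pullback.snd (FEt.puncturedSpec A).ι
        (Spec.map (CommRingCat.ofHom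
          (algebraMap A (AdicCompletion (IsLocalRing.maximalIdeal A) A)))))).obj Y' ≅
        (FEt.restrict (pullback.fst (FEt.puncturedSpec A).ι
        (Spec.map (CommRingCat.ofHom
          (algebraMap A (AdicCompletion (IsLocalRing.maximalIdeal A) A)))))).obj V)) := by
  haveI : Module.FaithfullyFlat A (AdicCompletion (IsLocalRing.maximalIdeal A) A) :=
    Module.FaithfullyFlat.of_flat_of_isLocalHom
  let g : Spec (CommRingCat.of (AdicCompletion (IsLocalRing.maximalIdeal A) A)) ⟶ Spec (CommRingCat.of A) :=
    Spec.map (CommRingCat.ofHom (algebraMap A (AdicCompletion (IsLocalRing.maximalIdeal A) A)))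
  constructor
  · rintro ⟨Y, ⟨e⟩⟩
    refine ⟨(FEt.restrict g).obj Y, ?_⟩
    have hk : IsPullback (e.inv.left ≫ pullback.fst Y.hom (FEt.puncturedSpec A).ι) V.hom Y.hom (FEt.puncturedSpec A).ι :=
      PurityGlueLib.isPullback_of_iso e
    let a : pullback V.hom (pullback.fst (FEt.puncturedSpec A).ι g) ⟶ V.left := pullback.fst _ _
    let b : pullback V.hom (pullback.fst (FEt.puncturedSpec A).ι g) ⟶ pullback (FEt.puncturedSpec A).ι g :=
      pullback.snd _ _
    have h1 : IsPullback (a ≫ e.inv.left ≫ pullback.fst Y.hom (FEt.puncturedSpec A).ι) b Y.hom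
        (pullback.snd (FEt.puncturedSpec A).ι g ≫ g) := by
      rw [← pullback.condition]
      exact (IsPullback.of_hasPullback V.hom _).paste_horiz hk
    let k' : pullback V.hom (pullback.fst (FEt.puncturedSpec A).ι g) ⟶ pullback Y.hom g :=
      pullback.lift (a ≫ e.inv.left ≫ pullback.fst Y.hom (FEt.puncturedSpec A).ι)
        (b ≫ pullback.snd (FEt.puncturedSpec A).ι g) (h1.w.trans (Category.assoc _ _ _).symm)
    refine PurityGlueLib.nonempty_iso_of_isPullback (k := k') ?_
    refine IsPullback.of_right (h₁₂ := pullback.fst Y.hom g) ?_ (pullback.lift_snd _ _ _)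
      (IsPullback.of_hasPullback Y.hom g)
    have h2 : k' ≫ pullback.fst Y.hom g = a ≫ e.inv.left ≫ pullback.fst Y.hom (FEt.puncturedSpec A).ι :=
      pullback.lift_fst _ _ _
    show IsPullback (k' ≫ pullback.fst Y.hom g) b Y.hom _
    rw [h2]
    exact h1
  · rintro ⟨Y', ⟨e'⟩⟩
    refine PurityDescLib.extends_of_extends (IsLocalRing.maximalIdeal A) (FEt.puncturedSpec A)
      (fun k c => AdicRingLib.exists_sub_mem_map_pow (isNoetherian_def.mp inferInstance _) k c) (fun a ha => ?_) V Y' e'
    intro x hx
    rintro (rfl : x = IsLocalRing.closedPoint A)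
    rw [basicOpen_eq_of_affine] at hx
    exact hx ha

end Groth.Agent.S0262
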