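import Groth.Statements.S9481
import Groth.Agent.PurityLiftLib.Main
import Groth.Agent.PicLiftLib.Main

set_option autoImplicit false
universe u
open Pi1

namespace Groth.Agent.S9481
open AlgebraicGeometry CategoryTheory CategoryTheory.Limits in
theorem main (A : Type u) [CommRing A] [IsNoetherianRing A] (f : A)
    [IsAdicComplete (Ideal.span {f}) A] (hnz : f ∈ nonZeroDivisors A) (𝔞 : Ideal A)
    (h1 : Module.Finite A (LocCoh.H 𝔞 1 (A ⧸ Ideal.span {f})))
    (h2 : Module.Finite A (LocCoh.H 𝔞 2 (A ⧸ Ideal.span {f})))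
    (U : (Spec (CommRingCat.of A)).Opens) (hU : U = LocCoh.puncturedOpen A 𝔞)
    (V₀ : FEt.Cat (pullback U.ι (Spec.map (CommRingCat.ofHom (Ideal.Quotient.mk (Ideal.span {f})))))) :
    ∃ (U' : (Spec (CommRingCat.of A)).Opens) (_ : U' ≤ U)
      (u' : pullback U.ι (Spec.map (CommRingCat.ofHom (Ideal.Quotient.mk (Ideal.span {f})))) ⟶ (U' : Scheme.{u}))
      (_ : u' ≫ U'.ι = (pullback.fst U.ι (Spec.map (CommRingCat.ofHom (Ideal.Quotient.mk (Ideal.span {f})))) ≫ U.ι))
      (V' : FEt.Cat (U' : Scheme.{u})), Nonempty ((FEt.restrict u').obj V' ≅ V₀) := by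
  subst hU
  let J := Ideal.span {f}
  let j := (LocCoh.puncturedOpen A 𝔞).ι
  let g := Spec.map (CommRingCat.ofHom (Ideal.Quotient.mk J))
  let q : Spec (CommRingCat.of (A ⧸ J ^ (0 + 1))) ≅ Spec (CommRingCat.of (A ⧸ J)) :=
    Scheme.Spec.mapIso ((Ideal.quotEquivOfEq (show J = J ^ (0 + 1) by rw [zero_add, pow_one])).toCommRingCatIso).op
  have hq : q.hom ≫ g = CohB1.specQuot J 0 := by
    show Spec.map _ ≫ Spec.map _ = _
    rw [← Spec.map_comp]
    rfl
  have hp : IsPullback (CohB1.thickι j J 0) (CohB1.thickToBase j J 0 ≫ q.hom) j g :=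
    (IsPullback.of_hasPullback j (CohB1.specQuot J 0)).of_iso (Iso.refl _) (Iso.refl _) q (Iso.refl _)
      ((Category.id_comp _).trans (Category.comp_id _).symm).symm (Category.id_comp _).symm (by simp)
      ((Category.comp_id _).trans hq.symm)
  let e0 := hp.isoPullback
  obtain ⟨C, ⟨ε⟩⟩ := PurityLiftLib.exists_cov (J := J) (𝔞 := 𝔞) ((FEt.restrict e0.hom).obj V₀)
  obtain ⟨U', hle, v, hv, E, qE, i, hqE, sq⟩ := PurityLiftLib.exists_extension_nhd rfl hnz h1 h2 C
  refine ⟨U', hle, e0.inv ≫ v, ?_, MorphismProperty.Over.mk ⊤ qE hqE, ?_⟩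
  · rw [Category.assoc, hv, ← Category.assoc, hp.isoPullback_inv_fst]
  · let k : C.Y 0 ≅ V₀.left := (MorphismProperty.Over.forget _ _ _ ⋙ Over.forget _).mapIso ε ≪≫
      @asIso _ _ _ _ (pullback.fst V₀.hom e0.hom) (MorphismProperty.of_isPullback (P := MorphismProperty.isomorphisms Scheme) (IsPullback.of_hasPullback V₀.hom e0.hom).flip (e0.isIso_hom))
    have hk : k.hom ≫ V₀.hom = C.y 0 ≫ e0.hom := by
      refine (Category.assoc _ _ _).trans ((congrArg (ε.hom.left ≫ ·) pullback.condition).trans ?_)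
      refine (Category.assoc _ _ _).symm.trans (congrArg (· ≫ e0.hom) ?_)
      exact MorphismProperty.Over.w ε.hom
    have h2 : IsPullback (k.inv ≫ i) V₀.hom qE (e0.inv ≫ v) :=
      sq.of_iso k (Iso.refl _) e0 (Iso.refl _) (by simp) (by simp [hk]) (by simp) (by simp)
    exact ⟨(MorphismProperty.Over.isoMk h2.isoPullback h2.isoPullback_hom_snd).symm⟩


open AlgebraicGeometry CategoryTheory CategoryTheory.Limits in
/-- Essential surjectivity of restriction from the open neighbourhoods: Let A be a Noetherian local ring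
with maximal ideal m, f ∈ m, U the punctured spectrum of A and U₀ that of A/fA (realised as U
×_{Spec A} Spec(A/fA)). Assume A is (f)-adically complete, f is a nonzerodivisor, and H^1_m(A/fA)
and H^2_m(A/fA) are finite A-modules. Then for every finite etale cover V₀ of U₀ there are an open
U' ⊆ U through which U₀ ⟶ Spec A factors (as u') and a finite etale cover V' of U' whose restriction
along u' is isomorphic to V₀. -/
theorem result (A : Type u) [CommRing A] [IsNoetherianRing A] [IsLocalRing A] (f : A) (hf : f ∈ IsLocalRing.maximalIdeal A)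
    [IsAdicComplete (Ideal.span {f}) A] (hnz : f ∈ nonZeroDivisors A)
    (h1 : Module.Finite A (LocCoh.H (IsLocalRing.maximalIdeal A) 1 (A ⧸ Ideal.span {f})))
    (h2 : Module.Finite A (LocCoh.H (IsLocalRing.maximalIdeal A) 2 (A ⧸ Ideal.span {f}))) :
    ∀ V₀ : FEt.Cat (pullback (FEt.puncturedSpec A).ι (Spec.map (CommRingCat.ofHom (Ideal.Quotient.mk (Ideal.span {f}))))),
      ∃ (U' : (Spec (CommRingCat.of A)).Opens) (_ : U' ≤ (FEt.puncturedSpec A)) (u' : pullback (FEt.puncturedSpec A).ι (Spec.map (CommRingCat.ofHom (Ideal.Quotient.mk (Ideal.span {f})))) ⟶ (U' : Scheme.{u}))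
        (_ : u' ≫ U'.ι = (pullback.fst (FEt.puncturedSpec A).ι (Spec.map (CommRingCat.ofHom (Ideal.Quotient.mk (Ideal.span {f})))) ≫ (FEt.puncturedSpec A).ι)) (V' : FEt.Cat (U' : Scheme.{u})),
        Nonempty ((FEt.restrict u').obj V' ≅ V₀) := by
  intro V₀
  exact main A f hnz (IsLocalRing.maximalIdeal A) h1 h2 (FEt.puncturedSpec A) (PicLiftLib.puncturedSpec_eq A) V₀

end Groth.Agent.S9481
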