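import Groth.Statements.S9475
import Groth.Agent.S9481
import Groth.Agent.PurityGlueLib.Step
import Groth.Agent.PurityGlueLib.Equiv
import Groth.Agent.PicLiftLib.Main

set_option autoImplicit false
universe u
open Pi1

namespace Groth.Agent.S9475
open AlgebraicGeometry CategoryTheory CategoryTheory.Limits in
theorem purity_stalk (A : Type u) [CommRing A] (f : A)
    (hp : ∀ P : Ideal (Localization.Away f), ∀ _ : P.IsMaximal, FEt.PurityHolds (Localization.AtPrime P))
    (U : (Spec (CommRingCat.of A)).Opens) (x : (U : Scheme.{u})) (hfx : f ∉ (U.ι x).asIdeal)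
    (hmax : ∀ q : Ideal A, q.IsPrime → (U.ι x).asIdeal ≤ q → f ∉ q → q = (U.ι x).asIdeal) :
    FEt.PurityHolds ((U : Scheme.{u}).presheaf.stalk x) := by
  let q : Ideal A := (U.ι x).asIdeal
  haveI hqp : q.IsPrime := (U.ι x).isPrime
  let L := Localization.Away f
  let P : Ideal L := q.map (algebraMap A L)
  have hd : ∀ r : Ideal A, r.IsPrime → f ∉ r → Disjoint (Submonoid.powers f : Set A) (r : Set A) := fun r hr hfr =>
    Set.disjoint_left.2 fun a ⟨k, hk⟩ ha => hfr (hr.mem_of_pow_mem k ((show f ^ k = a from hk).symm ▸ ha))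
  haveI hP : P.IsPrime :=
    IsLocalization.isPrime_of_isPrime_disjoint (Submonoid.powers f) L q (U.ι x).isPrime (hd q (U.ι x).isPrime hfx)
  have hcm : P.comap (algebraMap A L) = q :=
    IsLocalization.under_map_of_isPrime_disjoint (Submonoid.powers f) L (U.ι x).isPrime (hd q (U.ι x).isPrime hfx)
  have hPm : P.IsMaximal := by
    obtain ⟨M, hM, hPM⟩ := Ideal.exists_le_maximal P hP.ne_top
    suffices h : M ≤ P by rwa [le_antisymm hPM h]
    have hfM : f ∉ M.comap (algebraMap A L) := fun h => hM.ne_top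
      (Ideal.eq_top_of_isUnit_mem _ h (IsLocalization.map_units L (⟨f, Submonoid.mem_powers f⟩ : Submonoid.powers f)))
    have h := hmax (M.comap (algebraMap A L)) (Ideal.IsPrime.comap _)
      (hcm.symm.le.trans (Ideal.comap_mono hPM)) hfM
    exact (IsLocalization.map_under (Submonoid.powers f) L M).symm.le.trans (Ideal.map_mono h.le)
  haveI h0 : IsLocalization.AtPrime (Localization.AtPrime P) (Ideal.comap (algebraMap A L) P) :=
    IsLocalization.isLocalization_isLocalization_atPrime_isLocalization (Submonoid.powers f) (Localization.AtPrime P) P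
  haveI h1 : IsLocalization.AtPrime (Localization.AtPrime P) q := by
    have key : ∀ (P' : Ideal A) [P'.IsPrime], IsLocalization.AtPrime (Localization.AtPrime P) P' → P' = q →
        IsLocalization.AtPrime (Localization.AtPrime P) q := by
      rintro P' _ hP' rfl
      exact hP'
    exact key _ h0 hcm
  let e1 : Localization.AtPrime P ≃+* Localization.AtPrime q :=
    (IsLocalization.algEquiv q.primeCompl (Localization.AtPrime P) (Localization.AtPrime q)).toRingEquiv
  let e2 : (U : Scheme.{u}).presheaf.stalk x ≃+* Localization.AtPrime q :=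
    (U.stalkIso x ≪≫ AlgebraicGeometry.Spec.stalkIso (CommRingCat.of A) (U.ι x)).commRingCatIsoToRingEquiv
  exact PurityGlueLib.purityHolds_of_ringEquiv (e1.trans e2.symm) (hp P hPm)

open AlgebraicGeometry CategoryTheory CategoryTheory.Limits in
theorem main (A : Type u) [CommRing A] [IsNoetherianRing A] [IsLocalRing A] (f : A)
    (hf : f ∈ IsLocalRing.maximalIdeal A)
    (hp : ∀ P : Ideal (Localization.Away f), ∀ _ : P.IsMaximal, FEt.PurityHolds (Localization.AtPrime P))
    (U' : (Spec (CommRingCat.of A)).Opens) (hle : U' ≤ FEt.puncturedSpec A)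
    (u' : pullback (FEt.puncturedSpec A).ι (Spec.map (CommRingCat.ofHom (Ideal.Quotient.mk (Ideal.span {f})))) ⟶ (U' : Scheme.{u}))
    (hu' : u' ≫ U'.ι = (pullback.fst (FEt.puncturedSpec A).ι (Spec.map (CommRingCat.ofHom (Ideal.Quotient.mk (Ideal.span {f})))) ≫ (FEt.puncturedSpec A).ι))
    (V' : FEt.Cat (U' : Scheme.{u})) {V₀ : FEt.Cat (pullback (FEt.puncturedSpec A).ι (Spec.map (CommRingCat.ofHom (Ideal.Quotient.mk (Ideal.span {f})))))}
    (ε : (FEt.restrict u').obj V' ≅ V₀) :
    ∃ Y, Nonempty ((FEt.restrict (pullback.fst (FEt.puncturedSpec A).ι (Spec.map (CommRingCat.ofHom (Ideal.Quotient.mk (Ideal.span {f})))))).obj Y ≅ V₀) := by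
  let U := FEt.puncturedSpec A
  let g := Spec.map (CommRingCat.ofHom (Ideal.Quotient.mk (Ideal.span {f})))
  haveI : IsLocallyNoetherian (U : Scheme.{u}) := LocallyOfFiniteType.isLocallyNoetherian U.ι
  haveI : CompactSpace (U : Scheme.{u}) :=
    isCompact_iff_compactSpace.mp (TopologicalSpace.NoetherianSpace.isCompact _)
  haveI : AlgebraicGeometry.IsNoetherian (U : Scheme.{u}) := {}
  let U'' : (U : Scheme.{u}).Opens := U.ι ⁻¹ᵁ U'
  have hmem : ∀ p : Spec (CommRingCat.of A), p ∈ U → f ∈ p.asIdeal → p ∈ U' := by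
    intro p hpU hfp
    have hr : p ∈ Set.range g := by
      refine (range_comap_of_surjective _ _ (Ideal.Quotient.mk_surjective (I := Ideal.span {f}))).ge ?_
      show ((RingHom.ker (Ideal.Quotient.mk (Ideal.span {f}))) : Set A) ⊆ p.asIdeal
      rw [Ideal.mk_ker]
      exact (Ideal.span_singleton_le_iff_mem _).2 hfp
    obtain ⟨w, hw⟩ := (Scheme.Pullback.range_fst U.ι g).ge (show (⟨p, hpU⟩ : U) ∈ U.ι ⁻¹' Set.range g from hr)
    have h := congrArg (fun φ => φ w) hu'
    simp only [Scheme.Hom.comp_apply] at h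
    rw [hw] at h
    have h2 : U'.ι (u' w) ∈ U' := (u' w).2
    rw [h] at h2
    exact h2
  let ρ : (U'' : Scheme.{u}) ⟶ (U' : Scheme.{u}) := U.ι.resLE U' U'' le_rfl
  have hρ : ρ ≫ U'.ι = U''.ι ≫ U.ι := Scheme.Hom.resLE_comp_ι _ _
  have hq₀ : FEt.prop (pullback.snd V'.hom ρ) := MorphismProperty.pullback_snd _ _ V'.prop
  obtain ⟨E, q, i, hq, sq⟩ := PurityGlueLib.exists_extension (X := (U : Scheme.{u})) U'' (fun x hx => by
    refine purity_stalk A f hp U x (fun hfx => hx (hmem _ x.2 hfx)) fun r hr hxr hfr => ?_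
    by_contra hne
    haveI := hr
    haveI : (U.ι x).asIdeal.IsPrime := (U.ι x).isPrime
    obtain ⟨p, hpp, hxp, hfp, hpm⟩ :=
      PicLiftLib.exists_prime_mem A f hf (lt_of_le_of_ne hxr (Ne.symm hne)) hfr
    refine hx (show U.ι x ∈ U' from Specializes.mem_open ?_ U'.2 (hmem ⟨p, hpp⟩ (fun h => hpm (congrArg PrimeSpectrum.asIdeal h)) hfp))
    exact (PrimeSpectrum.le_iff_specializes (U.ι x) ⟨p, hpp⟩).1 hxp) (pullback.snd V'.hom ρ) hq₀
  let j := pullback.fst U.ι g
  have hjr : Set.range j ⊆ (U'' : Set (U : Scheme.{u})) := by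
    rintro _ ⟨w, rfl⟩
    show (j ≫ U.ι) w ∈ U'
    rw [← hu']
    exact (u' w).2
  let u'' := IsOpenImmersion.lift U''.ι j (by rw [Scheme.Opens.range_ι]; exact hjr)
  have hu'' : u'' ≫ U''.ι = j := IsOpenImmersion.lift_fac _ _ _
  have hρu : u'' ≫ ρ = u' := by
    rw [← cancel_mono U'.ι, Category.assoc, hρ, ← Category.assoc, hu'', hu']
  let l : pullback V'.hom u' ⟶ pullback V'.hom ρ := pullback.lift (pullback.fst V'.hom u')
    (pullback.snd V'.hom u' ≫ u'') (by rw [Category.assoc, hρu, pullback.condition])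
  have s1 : IsPullback l (pullback.snd V'.hom u') (pullback.snd V'.hom ρ) u'' :=
    IsPullback.of_right (by rw [pullback.lift_fst, hρu]; exact IsPullback.of_hasPullback _ _)
      (pullback.lift_snd _ _ _) (IsPullback.of_hasPullback V'.hom ρ)
  have s2 := s1.paste_horiz sq
  rw [hu''] at s2
  exact ⟨MorphismProperty.Over.mk ⊤ q hq,
    ⟨(MorphismProperty.Over.isoMk s2.isoPullback s2.isoPullback_hom_snd :
      (FEt.restrict u').obj V' ≅ (FEt.restrict j).obj (MorphismProperty.Over.mk ⊤ q hq)).symm ≪≫ ε⟩⟩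


open AlgebraicGeometry CategoryTheory CategoryTheory.Limits in
/-- Let A be a Noetherian local ring with maximal ideal m and f an element of m. Assume that A is
complete for the (f)-adic topology, that f is a nonzerodivisor, that the local cohomology modules
H^1_m(A/fA) and H^2_m(A/fA) are finite A-modules, and that purity holds for the local ring of A_f at
each of its maximal ideals. Then restriction of finite etale covers from the punctured spectrum of A
to the punctured spectrum of A/fA is essentially surjective. -/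
theorem result (A : Type u) [CommRing A] [IsNoetherianRing A] [IsLocalRing A] (f : A) (hf : f ∈ IsLocalRing.maximalIdeal A)
    [IsAdicComplete (Ideal.span {f}) A] (hnz : f ∈ nonZeroDivisors A)
    (h1 : Module.Finite A (LocCoh.H (IsLocalRing.maximalIdeal A) 1 (A ⧸ Ideal.span {f})))
    (h2 : Module.Finite A (LocCoh.H (IsLocalRing.maximalIdeal A) 2 (A ⧸ Ideal.span {f})))
    (hp : ∀ P : Ideal (Localization.Away f), ∀ _ : P.IsMaximal, FEt.PurityHolds (Localization.AtPrime P)) :
    (FEt.restrict (pullback.fst (FEt.puncturedSpec A).ι (Spec.map (CommRingCat.ofHom (Ideal.Quotient.mk (Ideal.span {f})))))).EssSurj := by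
  refine ⟨fun V₀ => ?_⟩
  obtain ⟨U', hle, u', hu', V', ⟨ε⟩⟩ := Groth.Agent.S9481.result A f hf hnz h1 h2 V₀
  exact main A f hf hp U' hle u' hu' V' ε

end Groth.Agent.S9475
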