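import Groth.Statements.S9476
import Groth.Agent.S9475
import Groth.Agent.PurityGlueLib.Square

set_option autoImplicit false
universe u
open Pi1

namespace Groth.Agent.S9476
theorem range_comap_injective {A : Type u} [CommRing A] [IsLocalRing A] {I : Ideal A} [IsLocalRing (A ⧸ I)]
    {z : PrimeSpectrum (A ⧸ I)}
    (hz : PrimeSpectrum.comap (Ideal.Quotient.mk I) z = IsLocalRing.closedPoint A) :
    z = IsLocalRing.closedPoint (A ⧸ I) := by
  haveI : IsLocalHom (Ideal.Quotient.mk I) := IsLocalHom.of_surjective _ Ideal.Quotient.mk_surjective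
  refine PrimeSpectrum.comap_injective_of_surjective _ Ideal.Quotient.mk_surjective (hz.trans ?_)
  exact (PrimeSpectrum.ext (IsLocalRing.maximalIdeal_comap (Ideal.Quotient.mk I))).symm


open AlgebraicGeometry CategoryTheory CategoryTheory.Limits in
/-- Let A be a Noetherian local ring with maximal ideal m and f an element of m. Assume that A is
complete for the (f)-adic topology, that f is not a zero divisor, that the local cohomology modules
H^1_m and H^2_m of A/fA are finitely generated over A, that purity holds for the local ring of A_f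
at each of its maximal ideals, and that A itself satisfies purity. Then A/fA satisfies purity as
well (a local ring; this is carried as an instance hypothesis). -/
theorem result (A : Type u) [CommRing A] [IsNoetherianRing A] [IsLocalRing A] (f : A) (hf : f ∈ IsLocalRing.maximalIdeal A)
    [IsAdicComplete (Ideal.span {f}) A] (hnz : f ∈ nonZeroDivisors A)
    (h1 : Module.Finite A (LocCoh.H (IsLocalRing.maximalIdeal A) 1 (A ⧸ Ideal.span {f})))
    (h2 : Module.Finite A (LocCoh.H (IsLocalRing.maximalIdeal A) 2 (A ⧸ Ideal.span {f})))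
    (hp : ∀ P : Ideal (Localization.Away f), ∀ _ : P.IsMaximal, FEt.PurityHolds (Localization.AtPrime P))
    (hA : FEt.PurityHolds A) [IsLocalRing (A ⧸ Ideal.span {f})] :
    FEt.PurityHolds (A ⧸ Ideal.span {f}) := by
  haveI := Groth.Agent.S9475.result A f hf hnz h1 h2 hp
  haveI : (FEt.restrict (FEt.puncturedSpec A).ι).EssSurj := hA
  let U := FEt.puncturedSpec A
  let g := Spec.map (CommRingCat.ofHom (Ideal.Quotient.mk (Ideal.span {f})))
  let P := FEt.puncturedSpec (A ⧸ Ideal.span {f})
  have hpre : g ⁻¹ᵁ U = P := by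
    haveI : IsLocalHom (Ideal.Quotient.mk (Ideal.span {f})) :=
      IsLocalHom.of_surjective _ Ideal.Quotient.mk_surjective
    ext z
    refine not_congr ⟨fun hz => ?_, fun hz => ?_⟩
    · refine (range_comap_injective hz).trans ?_
      rfl
    · subst hz
      exact PrimeSpectrum.ext (IsLocalRing.maximalIdeal_comap (Ideal.Quotient.mk (Ideal.span {f})))
  refine ⟨fun V => ?_⟩
  let ψ : (P : Scheme.{u}) ⟶ (U : Scheme.{u}) := g.resLE U P hpre.ge
  have hψ : IsPullback ψ P.ι U.ι g :=
    IsOpenImmersion.isPullback ψ P.ι U.ι g (Scheme.Hom.resLE_comp_ι _ _).symm (by simpa using hpre)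
  let σ := hψ.isoPullback
  have hσ : σ.hom ≫ pullback.fst U.ι g = ψ := hψ.isoPullback_hom_fst
  let V₀ := (FEt.restrict σ.inv).obj V
  let Y := (FEt.restrict (pullback.fst U.ι g)).objPreimage V₀
  have s1 := PurityGlueLib.isPullback_of_iso ((FEt.restrict (pullback.fst U.ι g)).objObjPreimageIso V₀)
  let Z := (FEt.restrict U.ι).objPreimage Y
  have s2 := PurityGlueLib.isPullback_of_iso ((FEt.restrict U.ι).objObjPreimageIso Y)
  haveI : IsIso (pullback.fst V.hom σ.inv) :=
    MorphismProperty.of_isPullback (P := MorphismProperty.isomorphisms Scheme)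
      (IsPullback.of_hasPullback V.hom σ.inv).flip σ.isIso_inv
  have s0 : IsPullback (inv (pullback.fst V.hom σ.inv)) V.hom V₀.hom σ.hom := by
    refine IsPullback.of_horiz_isIso ⟨?_⟩
    show inv (pullback.fst V.hom σ.inv) ≫ pullback.snd V.hom σ.inv = V.hom ≫ σ.hom
    rw [IsIso.inv_comp_eq, ← Category.assoc, pullback.condition, Category.assoc, σ.inv_hom_id, Category.comp_id]
  have s01 := (s0.paste_horiz s1)
  rw [hσ] at s01
  have big := s01.paste_horiz s2
  rw [hψ.w] at big
  let l : V.left ⟶ pullback Z.hom g := pullback.lift _ (V.hom ≫ P.ι) (big.w.trans (Category.assoc _ _ _).symm)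
  have hs : IsPullback l V.hom (pullback.snd Z.hom g) P.ι :=
    IsPullback.of_right (by rw [pullback.lift_fst]; exact big) (pullback.lift_snd _ _ _)
      (IsPullback.of_hasPullback Z.hom g)
  exact ⟨(FEt.restrict g).obj Z, ⟨(MorphismProperty.Over.isoMk hs.isoPullback hs.isoPullback_hom_snd).symm⟩⟩

end Groth.Agent.S9476
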