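import Groth.Statements.S0272
import Groth.Agent.PurityCILib.Main

set_option autoImplicit false
universe u
open Pi1

namespace Groth.Agent.S0272

open AlgebraicGeometry CategoryTheory CategoryTheory.Limits in
/-- Let A be a Noetherian local ring which is a complete intersection (its completion is a regular local
ring modulo a regular sequence) of dimension at least 3. Then every finite etale cover of the
punctured spectrum of A extends to Spec A. -/
theorem result (A : Type u) [CommRing A] [IsNoetherianRing A] [IsLocalRing A] (hA : Pi1.IsCompleteIntersection A)
    (hd : (3 : WithBot ℕ∞) ≤ ringKrullDim A) : FEt.PurityHolds A := by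
  obtain ⟨B, _, _, rs, -, hreg, ⟨e⟩⟩ := hA
  haveI := CIRingLib.isNoetherianRing_cpl A
  refine PurityCILib.purityHolds_descend A ?_
  refine PurityCILib.purityHolds_ci rs.length B rs rfl hreg _ e ?_
  exact le_of_le_of_eq hd (CatLib.ringKrullDim_cpl A).symm

end Groth.Agent.S0272
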