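import Groth.Statements.S0266
import Groth.Agent.GalFunLib.Unique

set_option autoImplicit false
universe u v w
open Pi1

namespace Groth.Agent.S0266

open CategoryTheory CategoryTheory.Limits in
/-- Transported along the equivalence of a Galois category with finite continuous G-sets : on a Galois
category in Mathlib's sense, every functor to finite sets that preserves finite limits and finite
colimits is isomorphic to the fibre functor. In particular two fibre functors are isomorphic. -/
theorem result {C : Type u} [Category.{v} C] [GaloisCategory C]
    (F : C ⥤ FintypeCat.{w}) [PreGaloisCategory.FiberFunctor F] (F' : C ⥤ FintypeCat.{w})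
    [PreservesFiniteLimits F'] [PreservesFiniteColimits F'] : Nonempty (F' ≅ F) := by
  refine GalFunLib.nonempty_iso F F' fun A hA => ?_
  haveI := GalFunLib.isConnected_terminal F
  haveI := PreGaloisCategory.nonempty_fiber_of_isConnected F A
  haveI : Epi (terminal.from A) := PreGaloisCategory.epi_of_nonempty_of_isConnected F _
  let t : (FintypeCat.of PUnit.{w + 1}) ⟶ F'.obj (⊤_ C) :=
    terminal.from _ ≫ (PreservesTerminal.iso F').inv
  haveI : Epi (FintypeCat.incl.map (F'.map (terminal.from A))) := inferInstance
  obtain ⟨a, -⟩ := surjective_of_epi (FintypeCat.incl.map (F'.map (terminal.from A))) (t PUnit.unit)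
  exact ⟨a⟩

end Groth.Agent.S0266
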