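import Groth.Statements.S0254
import Groth.Agent.SepClNormalLib.Basic

set_option autoImplicit false
universe u
open Pi1

namespace Groth.Agent.S0254

open AlgebraicGeometry CategoryTheory CategoryTheory.Limits in
/-- An integrally closed local domain whose fraction field is separably closed is henselian with
separably closed residue field (i.e. strictly henselian). -/
theorem result (A : Type u) [CommRing A] [IsDomain A] [IsLocalRing A] [IsIntegrallyClosed A]
    [IsSepClosed (FractionRing A)] :
    HenselianLocalRing A ∧ IsSepClosed (IsLocalRing.ResidueField A) := by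
  refine ⟨SepClNormalLib.henselian (FractionRing A), ?_⟩
  by_cases h : IsLocalRing.maximalIdeal A = ⊥
  · have hF : IsField A := IsLocalRing.isField_iff_maximalIdeal_eq.2 h
    letI := hF.toField
    let e : IsLocalRing.ResidueField A ≃+* A :=
      (Ideal.quotEquivOfEq h).trans (RingEquiv.quotientBot A)
    haveI : IsSepClosed A := by
      refine IsSepClosed.of_exists_root _ fun f hf hirr hsep => ?_
      obtain ⟨x, hx⟩ := IsSepClosed.exists_root (f.map (algebraMap A (FractionRing A)))
        (by rw [Polynomial.degree_map]; exact (Polynomial.degree_pos_of_irreducible hirr).ne') (hsep.map)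
      obtain ⟨a, rfl⟩ := (IsField.localization_map_bijective zero_notMem_nonZeroDivisors hF
        (M := nonZeroDivisors A) (Rₘ := FractionRing A)).2 x
      refine ⟨a, IsFractionRing.injective A (FractionRing A) ?_⟩
      rw [map_zero, ← Polynomial.eval₂_at_apply, ← Polynomial.eval_map]
      exact hx
    refine IsSepClosed.of_exists_root _ fun f hf hirr hsep => ?_
    obtain ⟨x, hx⟩ := IsSepClosed.exists_root (f.map e.toRingHom)
      (by rw [Polynomial.degree_map]; exact (Polynomial.degree_pos_of_irreducible hirr).ne') (hsep.map)
    refine ⟨e.symm x, e.injective ?_⟩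
    rw [map_zero]
    show e.toRingHom _ = 0
    rw [← Polynomial.eval₂_at_apply, ← Polynomial.eval_map]
    rw [show e.toRingHom (e.symm x) = x from e.apply_symm_apply x]
    exact hx
  · haveI := SepClNormalLib.isAlgClosed_residueField (R := A) (FractionRing A) h
    infer_instance

end Groth.Agent.S0254
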