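import Groth.Statements.S1360
import Groth.Agent.MiscFlat6.InfNbhdScheme
-- import your own Groth.Agent.* helpers here

set_option autoImplicit false
universe u
open FlatMor

namespace Groth.Agent.S1360

open AlgebraicGeometry CategoryTheory Limits in
/-- Let S be locally Noetherian, f : X → S of finite type, and Z the closed subscheme of S cut out by an
ideal sheaf I. If the base change of f to every infinitesimal neighbourhood of Z is étale, then
every point of X over Z has an open neighbourhood on which f is étale. -/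
theorem result {X S : Scheme.{u}} (f : X ⟶ S) [IsLocallyNoetherian S] [LocallyOfFinitePresentation f] [QuasiCompact f]
    (I : S.IdealSheafData) (h : ∀ n : ℕ, Etale (pullback.snd f (I ^ (n + 1)).subschemeι)) (x : X) (hx : f x ∈ I.support) :
    ∃ U : X.Opens, x ∈ U ∧ Etale (U.ι ≫ f) := by
  haveI : IsLocallyNoetherian X := LocallyOfFiniteType.isLocallyNoetherian f
  obtain ⟨U₀, hU₀, V, hV, e, hxV, hq⟩ := MiscFlat6.exists_chart f I x hx
  letI := (f.appLE U₀ V e).hom.toAlgebra
  haveI : Algebra.FinitePresentation Γ(S, U₀) Γ(X, V) := f.finitePresentation_appLE hU₀ hV e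
  set q := hV.primeIdealOf ⟨x, hxV⟩ with hqdef
  have hsm := MiscFlat6.smooth_chart f I (fun n => have := h n; inferInstance) hU₀ hV e q hq
  have h1 := MiscFlat6.ringHom_of_subscheme @Etale (fun j _ => inferInstance) f (I ^ (0 + 1)) (h 0) hU₀ hV e
    (I.ideal ⟨U₀, hU₀⟩) (by
      show (I ^ (0 + 1)).ideal ⟨U₀, hU₀⟩ = _
      rw [Scheme.IdealSheafData.ideal_pow, zero_add, pow_one])
  haveI := RingHom.etale_algebraMap.mp ((HasRingHomProperty.Spec_iff (P := @Etale)).mp h1)
  have hun : Algebra.IsUnramifiedAt Γ(S, U₀) q.asIdeal :=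
    MiscFlat6.isUnramifiedAt_of_quotient (I.ideal ⟨U₀, hU₀⟩) q.asIdeal hq inferInstance
  have het : q ∈ Algebra.etaleLocus Γ(S, U₀) Γ(X, V) := by
    rw [Algebra.etaleLocus_eq_unramfiedLocus_inter_smoothLocus]
    exact ⟨hun, hsm⟩
  obtain ⟨_, ⟨_, ⟨g, rfl⟩, rfl⟩, hqg, hg⟩ := (PrimeSpectrum.isBasis_basic_opens
    (R := Γ(X, V))).exists_subset_of_mem_open het Algebra.isOpen_etaleLocus
  haveI := Algebra.basicOpen_subset_etaleLocus_iff_etale.mp hg
  refine ⟨X.basicOpen g, ?_, ?_⟩
  · have h2 : q ∈ hV.fromSpec ⁻¹ᵁ X.basicOpen g := by rw [hV.fromSpec_preimage_basicOpen]; exact hqg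
    have e1 : hV.fromSpec.base q = x := hV.fromSpec_primeIdealOf ⟨x, hxV⟩
    exact e1 ▸ (h2 : hV.fromSpec.base q ∈ X.basicOpen g)
  · have hW : IsAffineOpen (X.basicOpen g) := hV.basicOpen g
    have e' : X.basicOpen g ≤ f ⁻¹ᵁ U₀ := (X.basicOpen_le g).trans e
    have he : (X.basicOpen g).ι ≫ f = hW.isoSpec.hom ≫ Spec.map (f.appLE U₀ (X.basicOpen g) e') ≫ hU₀.fromSpec := by
      rw [IsAffineOpen.SpecMap_appLE_fromSpec f hU₀ hW e', hW.isoSpec_hom_fromSpec_assoc]
    rw [he]
    haveI := hV.isLocalization_basicOpen g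
    letI : Algebra Γ(S, U₀) Γ(X, X.basicOpen g) :=
      ((algebraMap Γ(X, V) Γ(X, X.basicOpen g)).comp (algebraMap Γ(S, U₀) Γ(X, V))).toAlgebra
    haveI : IsScalarTower Γ(S, U₀) Γ(X, V) Γ(X, X.basicOpen g) := .of_algebraMap_eq fun _ => rfl
    have hετ : Algebra.Etale Γ(S, U₀) Γ(X, X.basicOpen g) := Algebra.Etale.of_equiv
      ((IsLocalization.algEquiv (Submonoid.powers g) (Localization.Away g) Γ(X, X.basicOpen g)).restrictScalars Γ(S, U₀))
    have hmap : f.appLE U₀ (X.basicOpen g) e' = CommRingCat.ofHom (algebraMap Γ(S, U₀) Γ(X, X.basicOpen g)) := by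
      show _ = f.appLE U₀ V e ≫ X.presheaf.map (homOfLE (X.basicOpen_le g)).op
      rw [Scheme.Hom.appLE_map]
    haveI : Etale (Spec.map (f.appLE U₀ (X.basicOpen g) e')) := by
      rw [HasRingHomProperty.Spec_iff (P := @Etale), hmap]
      exact RingHom.etale_algebraMap.mpr hετ
    infer_instance

end Groth.Agent.S1360
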