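import Groth.Statements.S14792
import Groth.Agent.RzLib.SubtrDesc
import Groth.Agent.DescFP.Main
import Groth.Agent.RichLib.FlatNoethDescent
import Groth.Agent.VCovLib.SubtrNoeth

set_option autoImplicit false
universe u
open CategoryTheory CategoryTheory.Limits AlgebraicGeometry
open Subtr

namespace Groth.Agent.S14792

/-- (i) ⇔ (iii): let A be a commutative ring and f : X ⟶ Spec A a morphism of finite presentation. Then
every base change of f has the lifting property for ordered pairs of points if and only if there are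
a finitely generated subring A₀ ⊆ A, a scheme X₀ and a universally submersive morphism f₀ : X₀ ⟶
Spec A₀ of finite presentation such that f is the base change of f₀ along Spec A ⟶ Spec A₀. -/
theorem result (A : Type u) [CommRing A]
    {X : Scheme.{u}} (f : X ⟶ Spec (CommRingCat.of A))
    [LocallyOfFinitePresentation f] [QuasiCompact f] [QuasiSeparated f] :
    Subtr.UnivSSubtrusive f ↔
      ∃ (A₀ : Subalgebra ℤ A) (_ : A₀.FG) (X₀ : Scheme.{u}) (f₀ : X₀ ⟶ Spec (CommRingCat.of A₀))
        (q : X ⟶ X₀), IsPullback q f f₀ (Spec.map (CommRingCat.ofHom A₀.val.toRingHom)) ∧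
        LocallyOfFinitePresentation f₀ ∧ QuasiCompact f₀ ∧ QuasiSeparated f₀ ∧
        SGA1.UnivSubmersive f₀ := by
  constructor
  · intro hf
    let A' := ConsLib.zSys A
    haveI : ∀ i j (a : i ⟶ j), IsAffineHom (A'.D.map a) := fun _ _ a => A'.affine_map a
    haveI : ∀ i, IsNoetherian (A'.D.obj i) := fun i => ConsLib.zSys_obj _ i
    let f' : X ⟶ A'.c.pt := f
    haveI : LocallyOfFinitePresentation f' := ‹LocallyOfFinitePresentation f›
    haveI : QuasiCompact f' := ‹QuasiCompact f›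
    haveI : QuasiSeparated f' := ‹QuasiSeparated f›
    obtain ⟨i, ⟨M⟩⟩ := DescFP.exists_model A'.hc f'
    haveI := M.lfp
    haveI := M.qc
    obtain ⟨j, φ, hφ⟩ := RzLib.exists_stage_univSSubtrusive A'.D A'.c A'.hc i M.p (𝟙 _) fun V _ _ s => by
      obtain ⟨W, h₁, h₂, ψ, hψ, _k, l, hl⟩ := RzLib.liftVal_of_univSSubtrusive f' hf V (s ≫ pullback.snd _ _)
      let l' : Spec W ⟶ X := l
      refine ⟨W, h₁, h₂, ψ, hψ, PUnit.unit, l' ≫ M.g, ?_⟩
      change (l' ≫ M.g) ≫ M.p = _
      rw [Category.assoc, M.sq.w, ← Category.comp_id (pullback.fst _ _), pullback.condition]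
      have hl' : l' ≫ f' = Spec.map ψ ≫ s ≫ pullback.snd _ _ := hl
      rw [reassoc_of% hl']
    let m : A'.D.obj j ⟶ pullback (𝟙 (A'.D.obj i)) (A'.D.map φ) := pullback.lift (A'.D.map φ) (𝟙 _) (by simp)
    have hS : Subtr.UnivSSubtrusive (M.push φ).p := RzLib.univSSubtrusive_of_liftVal _ fun V _ _ s => by
      obtain ⟨W, h₁, h₂, ψ, hψ, _k, l, hl⟩ := RzLib.liftVal_of_univSSubtrusive _ hφ V (s ≫ m)
      let l' : Spec W ⟶ pullback M.p (pullback.fst (𝟙 (A'.D.obj i)) (A'.D.map φ)) := l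
      have hl' : l' ≫ pullback.snd _ _ = Spec.map ψ ≫ s ≫ m := hl
      refine ⟨W, h₁, h₂, ψ, hψ, PUnit.unit, pullback.lift (l' ≫ pullback.fst _ _) (Spec.map ψ ≫ s) ?_,
        pullback.lift_snd _ _ _⟩
      rw [Category.assoc, pullback.condition, reassoc_of% hl', pullback.lift_fst, Category.assoc]
    haveI := (M.push φ).qc
    haveI := (M.push φ).qs
    exact ⟨RichLib.FlatNoeth.toZ j.unop.1, RichLib.FlatNoeth.fg_toZ _ j.unop.2, (M.push φ).Z, (M.push φ).p,
      (M.push φ).g, (M.push φ).sq, (M.push φ).lfp, (M.push φ).qc, (M.push φ).qs,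
      @VCovLib.univSubmersive_of_univSSubtrusive _ _ _ (M.push φ).qc hS⟩
  · rintro ⟨A₀, hA₀, X₀, f₀, q, hsq, hfp, hqc, hqs, hu⟩
    haveI := hqc
    haveI : Algebra.FiniteType ℤ A₀ := (Subalgebra.fg_iff_finiteType A₀).1 hA₀
    haveI : IsNoetherianRing A₀ := Algebra.FiniteType.isNoetherianRing ℤ A₀
    haveI : IsNoetherianRing ↑(CommRingCat.of A₀) := ‹_›
    exact MorphismProperty.of_isPullback (P := MorphismProperty.universally fun _ _ f => Subtr.IsSSubtrusive f) hsq
      ((VCovLib.univSubmersive_iff_univSSubtrusive f₀).1 hu)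

end Groth.Agent.S14792
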