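import Groth.Statements.S2903
import Groth.Agent.SubmEffLib.General

set_option autoImplicit false
open CategoryTheory CategoryTheory.Limits AlgebraicGeometry Opposite
universe u
open SGA1

set_option backward.isDefEq.respectTransparency false
namespace Groth.Agent.S2903

open CategoryTheory CategoryTheory.Limits AlgebraicGeometry

/-- Let g : S' ⟶ S be proper, surjective and locally of finite presentation. Then every descent datum
relative to g whose underlying scheme is a finite etale cover of S' is isomorphic to the canonical
descent datum of a finite etale cover of S. (Descent data relative to g are taken in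
functor-of-points form.) -/
theorem result {S' S : Scheme.{u}} (g : S' ⟶ S) [IsProper g] [Surjective g]
    [LocallyOfFinitePresentation g] (D : Desc.SchDD g) [IsFinite D.obj.hom] [Etale D.obj.hom] :
    ∃ U : Over S, IsFinite U.hom ∧ Etale U.hom ∧ Nonempty ((Desc.toDD g).obj U ≅ D) := by
  have hg := SubmDescLib.univSubmersive_of_universallyClosed_surjective g
  obtain ⟨U, v, q, hv, hq⟩ := SubmEffLib.effQ_subtrusive g (SubmEffLib.univSSubtrusive_of_universallyClosed g) D
    inferInstance inferInstance inferInstance
  have sq : IsPullback q D.obj.hom v g := by simpa using hq.isPullback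
  haveI := hv
  haveI := FFDescLib.isSeparated_of_isPullback sq.flip hg
  haveI := SubmDescLib.surjective_of_univSubmersive
    (MorphismProperty.of_isPullback (P := SGA1.UnivSubmersive) sq.flip hg)
  haveI : QuasiCompact (q ≫ v) := by rw [sq.w]; infer_instance
  haveI : QuasiCompact v := DescLib.quasiCompact_of_surjective_comp q v
  haveI : IsProper (q ≫ v) := by rw [sq.w]; infer_instance
  haveI : UniversallyClosed v := UniversallyClosed.of_comp_surjective q v
  haveI : LocallyQuasiFinite v := DescLib.lqf_of_unramified v
  haveI : IsProper v := ⟨⟩
  exact ⟨Over.mk v, IsFinite.of_isProper_of_locallyQuasiFinite v, hv, SubmDescLib.iso_of_isQuot hq⟩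

end Groth.Agent.S2903
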