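import Groth.Statements.S1117
import Groth.Agent.PerfBaseLib.Twist
import Groth.Agent.PerfDualLib.Dual

set_option autoImplicit false
set_option backward.isDefEq.respectTransparency false
set_option backward.isDefEq.respectTransparency.types false
universe u
open CategoryTheory CategoryTheory.Limits AlgebraicGeometry Opposite
attribute [local instance] HasDerivedCategory.standard
open Perf

namespace Groth.Agent.S1117

/-- In the case of a single module: let S be Noetherian, f : X ⟶ S locally of finite type, E a cochain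
complex of O_X-modules whose image in D(O_X) is perfect, and G a coherent O_X-module flat over S
with support proper over S. Assuming the derived functors exist, Rf_* RHom(E, G) is a perfect object
of D(O_S). (The source allows a bounded complex of such modules G.) -/
theorem result {X S : Scheme.{u}} [IsNoetherian S] (f : X ⟶ S) [LocallyOfFiniteType f]
    (E : CochainComplex X.Modules ℤ) (hE : DCoh.IsPerfect (DCoh.toD X E)) [DCoh.HasLTensorCx E] [DCoh.HasRSheafHom E] [DCoh.HasRpush f]
    (G : X.Modules) (hG : Coh.IsCoh G) (hflat : FlatMod.IsFlatOver f G) (hsupp : ClSub.IsProperOver f (CohB1.support G)) :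
    DCoh.IsPerfect ((DCoh.Rpush f).obj ((DCoh.RSheafHom E).obj (DCoh.inD X G))) := by
  open Groth.Agent.PerfDualLib in
  obtain ⟨D, hD, ⟨eD⟩⟩ := KFlatLib.exists_good_rep
    ((DCoh.RSheafHom E).obj (DerivedCategory.Q.obj (unitCx X)))
  haveI := KFlatLib.hasLTensorCx D
  have hper : DCoh.IsPerfect (DCoh.toD X D) :=
    Groth.Agent.PerfLib.isPerfect_of_iso eD.symm (Groth.Agent.PerfDualLib.isPerfect_dual E hE)
  obtain ⟨c⟩ := Groth.Agent.PerfDualLib.nonempty_lTensor_dual E hE D eD (DCoh.inD X G)
  let G₀ := (CochainComplex.singleFunctor X.Modules 0).obj G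
  haveI := TensorAssocLib.isIso_cnt D hD.1 G₀
  let e : (DCoh.LTensorCx D).obj (DCoh.inD X G) ≅ DCoh.toD X ((KFlatLib.tensorModCx G).obj D) :=
    (DCoh.LTensorCx D).mapIso ((DerivedCategory.singleFunctorIsoCompQ X.Modules 0).app G) ≪≫
      asIso ((TensorAssocLib.cnt D).app G₀) ≪≫
      DerivedCategory.Q.mapIso (KFlatLib.tCxFlip D G₀ ≪≫
        ((Groth.Agent.PerfDualLib.Gen.tRSingleIso (DCoh.tensorBi (X := X)) G).app D).symm)
  exact Groth.Agent.PerfLib.isPerfect_of_iso ((DCoh.Rpush f).mapIso (e.symm ≪≫ c))
    (PerfBaseLib.isPerfect_rpush_tensorMod f G D hD.1 hper hG hflat hsupp)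

end Groth.Agent.S1117
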