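import Groth.Statements.S2128
import Groth.Agent.LimHomLib.FPColim
import Groth.Agent.FlatFunLimLib.Main
-- import your own Groth.Agent.* helpers here

set_option autoImplicit false
set_option backward.isDefEq.respectTransparency false
set_option linter.all false
set_option maxHeartbeats 2000000
universe u
open CategoryTheory AlgebraicGeometry
open Mor

namespace Groth.Agent.S2128

open CategoryTheory CategoryTheory.Limits AlgebraicGeometry

/-- Let `X` be quasi-compact and quasi-separated and `F` a quasi-coherent `O_X`-module. Then `F` is the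
colimit of a filtered diagram of finitely presented `O_X`-modules: there are a small filtered
category `I`, a diagram of finitely presented modules and a colimit cocone with vertex `F`. -/
theorem result (X : Scheme.{u}) [CompactSpace X] [QuasiSeparatedSpace X] (F : X.Modules)
    (hF : Coh.IsQCoh F) :
    ∃ (I : Type u) (_ : SmallCategory I) (_ : IsFiltered I) (D : I ⥤ X.Modules) (c : Limits.Cocone D)
      (_ : Limits.IsColimit c), (∀ i, CohB1.IsFP (D.obj i)) ∧ c.pt = F := by
  classical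
  haveI := hF
  choose P σ hPq hP a ha using fun p : Σ V : X.affineOpens, Γ(F, V.1) =>
    LimHomLib.exists_fp_through F p.1 p.2
  let I₀ : Type u := Σ V : X.affineOpens, Γ(F, V.1)
  let u : ∀ T : Finset I₀, (∐ fun p : T => P p.1) ⟶ F := fun T => Sigma.desc fun p => σ p.1
  haveI hTq : ∀ T : Finset I₀, Coh.IsQCoh (∐ fun p : T => P p.1) := fun T => QCohLib.isQCoh_sigma _ fun p => hPq p.1
  let inc : ∀ {T T' : Finset I₀} (h : T ⊆ T'), (∐ fun p : T => P p.1) ⟶ ∐ fun p : T' => P p.1 := fun {T T'} h =>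
    Sigma.desc fun p => Sigma.ι (fun p : T' => P p.1) ⟨p.1, h p.2⟩
  have inc_u : ∀ {T T' : Finset I₀} (h : T ⊆ T'), inc h ≫ u T' = u T := fun h =>
    Sigma.hom_ext _ _ fun p => by simp [inc, u]
  have inc_inc : ∀ {T T' T'' : Finset I₀} (h : T ⊆ T') (h' : T' ⊆ T''), inc h ≫ inc h' = inc (h.trans h') :=
    fun h h' => Sigma.hom_ext _ _ fun p => by simp [inc]
  have inc_self : ∀ T : Finset I₀, inc (Finset.Subset.refl T) = 𝟙 _ := fun T =>
    Sigma.hom_ext _ _ fun p => by simp [inc]
  haveI hKq : ∀ T : Finset I₀, Coh.IsQCoh (kernel (u T)) := fun T => QCohLib.isQCoh_kernel (u T)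
  choose Q g hQq hQ b hb using fun r : Σ T : Finset I₀, Σ V : X.affineOpens, Γ(kernel (u T), V.1) =>
    LimHomLib.exists_fp_through (kernel (u r.1)) r.2.1 r.2.2
  let J : Type u := {d : Finset I₀ × Finset (Σ T : Finset I₀, Σ V : X.affineOpens, Γ(kernel (u T), V.1)) //
    ∀ r ∈ d.2, r.1 ⊆ d.1}
  haveI : Nonempty J := ⟨⟨(∅, ∅), fun r hr => absurd hr (Finset.notMem_empty r)⟩⟩
  haveI : IsDirected J (· ≤ ·) := ⟨fun d d' => ⟨⟨(d.1.1 ∪ d'.1.1, d.1.2 ∪ d'.1.2), fun r hr =>
      (Finset.mem_union.1 hr).elim (fun h => (d.2 r h).trans Finset.subset_union_left)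
        (fun h => (d'.2 r h).trans Finset.subset_union_right)⟩,
    ⟨Finset.subset_union_left, Finset.subset_union_left⟩, ⟨Finset.subset_union_right, Finset.subset_union_right⟩⟩⟩
  let w : ∀ d : J, (∐ fun r : d.1.2 => Q r.1) ⟶ ∐ fun p : d.1.1 => P p.1 := fun d =>
    Sigma.desc fun r => g r.1 ≫ kernel.ι (u r.1.1) ≫ inc (d.2 r.1 r.2)
  have hwu : ∀ d : J, w d ≫ u d.1.1 = 0 := fun d => Sigma.hom_ext _ _ fun r => by
    simp only [w, Sigma.ι_desc_assoc, Category.assoc, inc_u, kernel.condition, comp_zero]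
  have hmap : ∀ {d d' : J} (h : d ≤ d'), w d ≫ inc h.1 ≫ cokernel.π (w d') = 0 := fun {d d'} h =>
    Sigma.hom_ext _ _ fun r => by
      rw [comp_zero, ← Category.assoc, Sigma.ι_desc, ← Category.assoc, Category.assoc (g r.1),
        Category.assoc (kernel.ι (u r.1.1)), inc_inc,
        ← Sigma.ι_desc (fun r : d'.1.2 => g r.1 ≫ kernel.ι (u r.1.1) ≫ inc (d'.2 r.1 r.2)) ⟨r.1, h.2 r.2⟩,
        Category.assoc]
      exact (congrArg _ (cokernel.condition (w d'))).trans comp_zero
  let D : J ⥤ X.Modules :=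
    { obj := fun d => cokernel (w d)
      map := fun {d d'} h => cokernel.desc (w d) (inc (leOfHom h).1 ≫ cokernel.π (w d')) (hmap (leOfHom h))
      map_id := fun d => coequalizer.hom_ext (by simp [inc_self])
      map_comp := fun {d d' d''} h h' => coequalizer.hom_ext (by
        simp only [cokernel.π_desc, cokernel.π_desc_assoc, Category.assoc]
        rw [← Category.assoc (inc _), inc_inc]) }
  let ι : D ⟶ (Functor.const J).obj F :=
    { app := fun d => cokernel.desc (w d) (u d.1.1) (hwu d)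
      naturality := fun {d d'} h => coequalizer.hom_ext (by simp [D, inc_u]) }
  haveI : ∀ d : J, Coh.IsQCoh (∐ fun r : d.1.2 => Q r.1) := fun d => QCohLib.isQCoh_sigma _ fun r => hQq r.1
  obtain ⟨hc⟩ : Nonempty (IsColimit (Cocone.mk F ι)) := by
    refine LimHomLib.isColimit_of_stalk (Cocone.mk F ι) (fun x y => ?_) (fun x d z hz => ?_)
    · obtain ⟨U, hxU, s, rfl⟩ := DevissLib.exists_gm_eq F x y
      obtain ⟨V, hV, hxV, hVU⟩ := exists_isAffineOpen_mem_and_subset (X := X) (x := x) (U := U) hxU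
      let p : I₀ := ⟨⟨V, hV⟩, F.presheaf.map (homOfLE (show V ≤ U from fun _ h => hVU h)).op s⟩
      let d : J := ⟨({p}, ∅), fun r hr => absurd hr (Finset.notMem_empty r)⟩
      refine ⟨d, ((DevissLib.St x).map (Sigma.ι (fun q : d.1.1 => P q.1) ⟨p, Finset.mem_singleton_self p⟩ ≫
        cokernel.π (w d))).hom (DevissLib.gm (P p) x hxV (a p)), ?_⟩
      show ((DevissLib.St x).map (cokernel.desc (w d) (u d.1.1) (hwu d))).hom _ = _
      rw [← LinearMap.comp_apply, ← ModuleCat.hom_comp, ← Functor.map_comp, Category.assoc, cokernel.π_desc,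
        Sigma.ι_desc, DevissLib.gm_app, ha p]
      exact DevissLib.gm_map F _ x hxV s
    · obtain ⟨q, rfl⟩ := (ModuleCat.epi_iff_surjective ((DevissLib.St x).map (cokernel.π (w d)))).1 inferInstance z
      have hq : ((DevissLib.St x).map (u d.1.1)).hom q = 0 := by
        rw [← hz]
        show _ = ((DevissLib.St x).map (cokernel.desc (w d) (u d.1.1) (hwu d))).hom _
        rw [← LinearMap.comp_apply, ← ModuleCat.hom_comp, ← Functor.map_comp, cokernel.π_desc]
      obtain ⟨V, hxV, k, hk⟩ := LimHomLib.exists_kernel_section (u d.1.1) x q hq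
      let r : Σ T : Finset I₀, Σ V : X.affineOpens, Γ(kernel (u T), V.1) := ⟨d.1.1, V, k⟩
      let d' : J := ⟨(d.1.1, insert r d.1.2), fun r' hr' => (Finset.mem_insert.1 hr').elim
        (fun h => by subst h; exact Finset.Subset.refl _) (d.2 r')⟩
      have hle : d ≤ d' := ⟨Finset.Subset.refl _, Finset.subset_insert r d.1.2⟩
      refine ⟨d', homOfLE hle, ?_⟩
      show ((DevissLib.St x).map (cokernel.desc (w d) (inc hle.1 ≫ cokernel.π (w d')) _)).hom _ = 0
      rw [← LinearMap.comp_apply, ← ModuleCat.hom_comp, ← Functor.map_comp, cokernel.π_desc, ← hk, DevissLib.gm_app,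
        ← show (g r).app V.1 (b r) = k from hb r]
      show DevissLib.gm _ x hxV ((g r ≫ kernel.ι (u r.1) ≫ inc hle.1 ≫ cokernel.π (w d')).app r.2.1.1 (b r)) = 0
      rw [← Category.assoc (kernel.ι (u r.1)), ← Category.assoc (g r)]
      have h1 : g r ≫ kernel.ι (u r.1) ≫ inc hle.1 =
          Sigma.ι (fun r' : d'.1.2 => Q r'.1) ⟨r, Finset.mem_insert_self r d.1.2⟩ ≫ w d' :=
        (Sigma.ι_desc (fun r' : d'.1.2 => g r'.1 ≫ kernel.ι (u r'.1.1) ≫ inc (d'.2 r'.1 r'.2))
          ⟨r, Finset.mem_insert_self r d.1.2⟩).symm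
      rw [h1, Category.assoc, cokernel.condition, comp_zero]
      exact DevissLib.gm_zero _ x hxV
  exact ⟨J, inferInstance, inferInstance, D, Cocone.mk F ι, hc, fun d =>
    LimHomLib.isFP_cokernel' (FlatFunLimLib.isFT_of_isFP' (LimHomLib.isFP_sigma (fun r : d.1.2 => Q r.1)
      (fun r => hQq r.1) (fun r => hQ r.1))) (LimHomLib.isFP_sigma (fun p : d.1.1 => P p.1) (fun p => hPq p.1) (fun p => hP p.1)) (w d), rfl⟩

end Groth.Agent.S2128
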