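import Groth.Statements.S0239
import Groth.Agent.ClopenFFLib.Basic
import Groth.Agent.ProperClopenLib.HenselGeneral
import Groth.Agent.S0532
import Mathlib.Algebra.Category.Ring.Constructions

set_option autoImplicit false
universe u
open Pi1

namespace Groth.Agent.S0239

open AlgebraicGeometry CategoryTheory CategoryTheory.Limits in
/-- For a henselian pair (A, I) in Mathlib's sense, restricting finite etale covers from Spec A to the
closed subscheme Spec (A/I) is an equivalence of categories. -/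
theorem result (A : Type u) [CommRing A] (I : Ideal A) [HenselianRing A I] :
    (FEt.restrict (Spec.map (CommRingCat.ofHom (Ideal.Quotient.mk I)))).IsEquivalence := by
  let i := Spec.map (CommRingCat.ofHom (Ideal.Quotient.mk I))
  have hbij : ClopenFFLib.ClopenBij i := fun Y C' => by
    haveI : IsFinite (show Y.left ⟶ Spec (CommRingCat.of A) from Y.hom) := Y.prop.1
    obtain ⟨U, ⟨hU, hU'⟩, huniq⟩ := ProperClopenLib.lifts_fst (show Y.left ⟶ Spec (CommRingCat.of A) from Y.hom) I
      (C' : Set ↥(pullback Y.hom i)) C'.isClopen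
    exact ⟨⟨U, hU⟩, hU', fun D hD => SetLike.coe_injective (huniq D ⟨D.isClopen, hD⟩)⟩
  obtain ⟨_, _⟩ := ClopenFFLib.full_faithful i hbij
  haveI : (FEt.restrict i).EssSurj := ⟨fun T => by
    haveI : IsFinite T.hom := T.prop.1
    haveI : Etale T.hom := T.prop.2
    let t : T.left ⟶ Spec (CommRingCat.of (A ⧸ I)) := T.hom
    haveI : IsFinite t := T.prop.1
    haveI : Etale t := T.prop.2
    haveI : IsAffine T.left := isAffine_of_isAffineHom t
    obtain ⟨ψ, hψ⟩ := Spec.map_surjective (T.left.isoSpec.inv ≫ t)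
    letI : Algebra (A ⧸ I) Γ(T.left, ⊤) := ψ.hom.toAlgebra
    haveI : IsFinite (Spec.map ψ) := by rw [hψ]; infer_instance
    haveI : Etale (Spec.map ψ) := by rw [hψ]; infer_instance
    haveI : Module.Finite (A ⧸ I) Γ(T.left, ⊤) := RingHom.finite_algebraMap.1 ((IsFinite.SpecMap_iff (f := ψ)).1 ‹_›)
    haveI : Algebra.Etale (A ⧸ I) Γ(T.left, ⊤) :=
      RingHom.etale_algebraMap.1 ((HasRingHomProperty.Spec_iff (P := @Etale) (φ := ψ)).1 ‹_›)
    obtain ⟨B, _, _, _, _, ⟨e⟩⟩ := Groth.Agent.S0532.result A I Γ(T.left, ⊤)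
    let φ : CommRingCat.of A ⟶ CommRingCat.of B := CommRingCat.ofHom (algebraMap A B)
    haveI : IsFinite (Spec.map φ) := (IsFinite.SpecMap_iff (f := φ)).2 (RingHom.finite_algebraMap.2 ‹_›)
    haveI : Etale (Spec.map φ) := (HasRingHomProperty.Spec_iff (P := @Etale) (φ := φ)).2 (RingHom.etale_algebraMap.2 ‹_›)
    let Y : FEt.Cat (Spec (CommRingCat.of A)) := MorphismProperty.Over.mk ⊤ (Spec.map φ) ⟨inferInstance, inferInstance⟩
    have hP := (isPullback_SpecMap_of_isPushout _ _ _ _ (CommRingCat.isPushout_tensorProduct A (A ⧸ I) B)).flip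
    let η : Spec (CommRingCat.of (TensorProduct A (A ⧸ I) B)) ≅ T.left :=
      Scheme.Spec.mapIso e.toRingEquiv.toCommRingCatIso.op.symm ≪≫ T.left.isoSpec.symm
    refine ⟨Y, ⟨MorphismProperty.Over.isoMk (hP.isoPullback.symm ≪≫ η) ?_⟩⟩
    show (hP.isoPullback.symm ≪≫ η).hom ≫ t = pullback.snd (Spec.map φ) i
    rw [Iso.trans_hom, Category.assoc, ← hP.isoPullback_inv_snd, Iso.symm_hom]
    congr 1
    simp only [η, Iso.trans_hom, Iso.symm_hom, Category.assoc, ← hψ, Functor.mapIso_hom, Scheme.Spec_map]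
    rw [← Spec.map_comp]
    congr 1
    ext a
    first | exact e.symm.commutes a | exact e.commutes a⟩
  exact { }

end Groth.Agent.S0239
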