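import Groth.Statements.S5021
import Groth.Agent.OmegaExistsLib.Main
import Groth.Agent.ConormalInjLib.Main
import Groth.Agent.OmegaAffLib.Rank
import Groth.Agent.S5976
import Groth.Agent.ResPropLib.VB
import Groth.Agent.KFlatLib.PerfectPull
import Groth.Agent.ProjBunLib.Ses

set_option autoImplicit false
universe u
open CategoryTheory CategoryTheory.Limits AlgebraicGeometry TopologicalSpace
open Unram17

namespace Groth.Agent.S5021

theorem finLocFree_omega {X Y : Scheme.{u}} {f : X ⟶ Y} [Smooth f] {Ω : X.Modules} {d : OmegaSh.Der f Ω}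
    (hd : OmegaSh.IsUniversal d) : FlatMod.IsFinLocFree Ω := fun x => by
  obtain ⟨U, n, hx, he, -⟩ := OmegaAffLib.exists_free_fibreDim hd x
  exact ⟨U, n, hx, he⟩

/-- Ranks of stalks add along a short exact sequence of free modules. -/
theorem finrank_of_exact {R A B C : Type u} [CommRing R] [Nontrivial R] [AddCommGroup A] [Module R A] [AddCommGroup B]
    [Module R B] [AddCommGroup C] [Module R C] (a : A →ₗ[R] B) (c : B →ₗ[R] C) (h : Function.Exact a c)
    (ha : Function.Injective a) (hc : Function.Surjective c) [Module.Free R A] [Module.Finite R A]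
    [Module.Free R C] [Module.Finite R C] : Module.finrank R B = Module.finrank R A + Module.finrank R C := by
  obtain ⟨l, hl⟩ := c.exists_rightInverse_of_surjective (LinearMap.range_eq_top.2 hc)
  obtain ⟨e, -⟩ := h.splitSurjectiveEquiv ha ⟨l, hl⟩
  rw [e.finrank_eq, Module.finrank_prod]

theorem rank_add {X : Scheme.{u}} {S : ShortComplex X.Modules} (hS : S.ShortExact) {U₁ U₂ U₃ : X.Opens}
    {k n m : ℕ} {x : X} (hx₁ : x ∈ U₁) (hx₂ : x ∈ U₂) (hx₃ : x ∈ U₃)
    (e₁ : S.X₁.restrict U₁.ι ≅ FlatMod.freeMod (U₁ : Scheme.{u}) k)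
    (e₂ : S.X₂.restrict U₂.ι ≅ FlatMod.freeMod (U₂ : Scheme.{u}) n)
    (e₃ : S.X₃.restrict U₃.ι ≅ FlatMod.freeMod (U₃ : Scheme.{u}) m) : n = k + m := by
  obtain ⟨f₁⟩ := CurveVBLib.nonempty_stalk_pi_on e₁ hx₁
  obtain ⟨f₂⟩ := CurveVBLib.nonempty_stalk_pi_on e₂ hx₂
  obtain ⟨f₃⟩ := CurveVBLib.nonempty_stalk_pi_on e₃ hx₃
  have hT := hS.map_of_exact (DerSch.stalkFunctor X x)
  haveI := hT.mono_f
  haveI := hT.epi_g
  let T := S.map (DerSch.stalkFunctor X x)
  let R := X.presheaf.stalk x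
  haveI : Module.Free R T.X₁ := Module.Free.of_equiv f₁.symm
  haveI : Module.Finite R T.X₁ := Module.Finite.equiv f₁.symm
  haveI : Module.Free R T.X₃ := Module.Free.of_equiv f₃.symm
  haveI : Module.Finite R T.X₃ := Module.Finite.equiv f₃.symm
  have h := finrank_of_exact (R := R) T.f.hom T.g.hom
    ((ShortComplex.ShortExact.moduleCat_exact_iff_function_exact T).1 hT.exact)
    ((ModuleCat.mono_iff_injective T.f).1 hT.mono_f) ((ModuleCat.epi_iff_surjective T.g).1 hT.epi_g)
  have h₁ : Module.finrank R T.X₁ = k := f₁.finrank_eq.trans (Module.finrank_fin_fun _)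
  have h₂ : Module.finrank R T.X₂ = n := f₂.finrank_eq.trans (Module.finrank_fin_fun _)
  have h₃ : Module.finrank R T.X₃ = m := f₃.finrank_eq.trans (Module.finrank_fin_fun _)
  omega

/-- Let f : X ⟶ Y be smooth and j : X' ⟶ X a quasi-compact immersion such that j ≫ f is smooth. Then for
every point x of X' there are an open neighbourhood U of x and an integer n with the conormal sheaf
of j free of rank n on U, and the local dimension at j(x) of the fibre of f through j(x) equals the
local dimension at x of the fibre of j ≫ f through x plus n. (The published statement allows any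
immersion j; this row assumes j quasi-compact, the case in which the conormal sheaf used here is
known to be the conormal sheaf of j.) -/
theorem result {X' X Y : Scheme.{u}} (f : X ⟶ Y) [Smooth f]
    (j : X' ⟶ X) [IsImmersion j] [QuasiCompact j] [Smooth (j ≫ f)] (x : ↥X') :
    ∃ (U : X'.Opens) (n : ℕ), x ∈ U ∧ Nonempty ((Omega.conormal j).restrict U.ι ≅ FlatMod.freeMod (↑U) n) ∧
      FlatMor.fibreDimAt f (j.base x) = FlatMor.fibreDimAt (j ≫ f) x + (n : WithBot ℕ∞) := by
  obtain ⟨Ω, d, hd⟩ := OmegaExistsLib.exists_isUniversal f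
  obtain ⟨Ω', d', hd'⟩ := OmegaExistsLib.exists_isUniversal (j ≫ f)
  obtain ⟨c, hc, -⟩ := OmegaAffLib.existsUnique_diffCompat (b := 𝟙 Y) (h := j) (f' := j ≫ f)
    (Category.comp_id _) d hd d'
  obtain ⟨φ, hφ⟩ := ConormalSecLib.exists_conormalDiff j d
  obtain ⟨hepi, him⟩ := Groth.Agent.S5976.result f j Ω d hd Ω' d' hd' φ hφ c hc
  haveI := hepi
  haveI hmono : Mono φ := ConormalInjLib.mono_of_formallySmooth_charts j f
    (fun hV hU e => ((j ≫ f).smooth_appLE hV hU e).1) hd hφ
  have w : φ ≫ c = 0 := by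
    rw [← imageSubobject_arrow_comp φ, Category.assoc]
    have : (imageSubobject φ).arrow ≫ c = 0 := by
      rw [him, kernelSubobject_arrow_comp]
    rw [this, comp_zero]
  have hS : (ShortComplex.mk φ c w).ShortExact :=
    { exact := (ShortComplex.exact_iff_image_eq_kernel _).2 him }
  obtain ⟨U, n, hxU, ⟨e₂⟩, hn⟩ := OmegaAffLib.exists_free_fibreDim hd (j x)
  obtain ⟨U', m, hxU', ⟨e₃⟩, hm⟩ := OmegaAffLib.exists_free_fibreDim hd' x
  have hC : FlatMod.IsFinLocFree (Omega.conormal j) :=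
    PerfLib.isFinLocFree_of_iso (IsLimit.conePointUniqueUpToIso (limit.isLimit _) hS.fIsKernel)
      (ResPropLib.isFinLocFree_kernel c (KFlatLib.isFinLocFree_pull j (finLocFree_omega hd)) (finLocFree_omega hd'))
  obtain ⟨U₁, k, hxU₁, ⟨e₁⟩⟩ := hC x
  have hnk : n = k + m := rank_add hS (U₂ := j ⁻¹ᵁ U) hxU₁ hxU hxU' e₁
    ((KFlatLib.restrictPullIso j U).app Ω ≪≫
      (Scheme.Modules.pullback (j ∣_ U)).mapIso e₂ ≪≫ KFlatLib.pullFreeIso (j ∣_ U) n) e₃
  refine ⟨U₁, k, hxU₁, ⟨e₁⟩, ?_⟩
  rw [hn, hm, hnk, add_comm k m]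
  norm_cast

end Groth.Agent.S5021
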