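import Groth.Statements.S6962
import Groth.Agent.S5165
import Groth.Agent.S6964
import Groth.Agent.DRingLib.PCohMore
import Groth.Agent.DRingLib.Devissage

set_option autoImplicit false
universe u
open CategoryTheory CategoryTheory.Limits
attribute [local instance] HasDerivedCategory.standard
open DRing

namespace Groth.Agent.S6962

/-- Let R be a regular commutative ring, i.e. R is Noetherian and its localization at every prime ideal
is a regular local ring. Then an R-module M is perfect (M[0] is isomorphic in D(R) to a bounded
complex of finite projective modules) if and only if M is finitely generated. -/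
theorem result (R : Type u) [CommRing R] [IsNoetherianRing R]
    (hreg : ∀ p : PrimeSpectrum R, IsRegularLocalRing (Localization.AtPrime p.asIdeal))
    (M : Type u) [AddCommGroup M] [Module R M] :
    DRing.IsPerfectModule R M ↔ Module.Finite R M := by
  constructor
  · intro h
    have hp := Groth.Agent.DRingLib.isPseudoCoherent_of_isPerfect h 0
    have := Groth.Agent.DRingLib.finite_of_isPseudoCoherent hp fun i hi =>
      PQLib.isZero_homology_single (ModuleCat.of R M) 0 i (by omega)
    exact Module.Finite.equiv (PQLib.homologySingleIso (ModuleCat.of R M) 0).toLinearEquiv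
  · intro hM
    haveI : IsRegularRing R :=
      { isRegularLocalRing_localization := fun p hp => hreg ⟨p, hp⟩ }
    obtain ⟨d, hd⟩ := Groth.Agent.S5165.result R M
    have h4 : (∀ n : ℤ, (n < -(d : ℤ) - 1 ∨ 0 < n) → Subsingleton (Dual.HD R (Dual.inD R M) n)) ∧
        ∀ (N : Type u) [AddCommGroup N] [Module R N],
          Subsingleton (DRing.ExtD R (Dual.inD R M) (Dual.inD R N) (-(-(d : ℤ)) + 1)) := by
      refine ⟨fun n hn => ModuleCat.subsingleton_of_isZero
        (PQLib.isZero_homology_single (ModuleCat.of R M) 0 n (by omega)), fun N _ _ => ?_⟩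
      rw [show (-(-(d : ℤ)) + 1) = ((d + 1 : ℕ) : ℤ) by push_cast; ring]
      haveI := HasProjectiveDimensionLT.subsingleton (ModuleCat.of R M) (d + 1) (d + 1) le_rfl
        (ModuleCat.of R N)
      exact (Abelian.Ext.homEquiv (X := ModuleCat.of R M) (Y := ModuleCat.of R N)
        (n := d + 1)).symm.subsingleton
    obtain ⟨P, hv, hP, e⟩ := ((Groth.Agent.S6964.result R (Dual.inD R M) (-(d : ℤ)) 0).out 3 0).1 h4
    refine Groth.Agent.DRingLib.isPerfect_of_forall_of_amplitude (fun m => ?_)
      (a := -(d : ℤ)) (c := 0) ⟨P, hv, fun i => by have := hP i; infer_instance, e⟩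
    refine Groth.Agent.DRingLib.isPseudoCoherent_of_finite_noetherian (b := 0)
      (fun i hi => PQLib.isZero_homology_single (ModuleCat.of R M) 0 i (by omega)) fun i _ => ?_
    by_cases hi : i = 0
    · subst hi
      exact Module.Finite.equiv (PQLib.homologySingleIso (ModuleCat.of R M) 0).toLinearEquiv.symm
    · exact Groth.Agent.DRingLib.finite_of_isZero
        (PQLib.isZero_homology_single (ModuleCat.of R M) 0 i hi)

end Groth.Agent.S6962
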