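import Groth.Prelude.Def_W4c6instabfans3Fan
import Mathlib.LinearAlgebra.Dimension.Finite
import Mathlib.LinearAlgebra.FiniteDimensional.Basic
import Mathlib.Tactic

/-!
Rational simplicial approximation of real vectors and the Ore condition for cone morphisms.
-/

set_option autoImplicit false

universe u

open CategoryTheory Opposite

namespace Groth.Agent.FanOre

/-- A subspace of the reals has a positive basis. -/
theorem exists_pos_basis (W : Submodule ℚ ℝ) [FiniteDimensional ℚ W] :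
    ∃ (d : ℕ) (b : Module.Basis (Fin d) ℚ W), ∀ l, (0 : ℝ) < ((b l : W) : ℝ) := by
  classical
  obtain ⟨d, ⟨b₀⟩⟩ : ∃ d, Nonempty (Module.Basis (Fin d) ℚ W) := ⟨_, ⟨Module.finBasis ℚ W⟩⟩
  have hσ : ∀ l, IsUnit (if ((b₀ l : W) : ℝ) < 0 then (-1 : ℚ) else 1) := fun l => by
    split_ifs <;> simp
  refine ⟨d, b₀.isUnitSMul hσ, fun l => ?_⟩
  have h0 : ((b₀ l : W) : ℝ) ≠ 0 := fun h => b₀.ne_zero l (Subtype.ext h)
  rw [Module.Basis.isUnitSMul_apply, Submodule.coe_smul, Rat.smul_def]
  split_ifs with h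
  · push_cast; linarith
  · push_cast
    rcases lt_or_gt_of_ne h0 with h1 | h1
    · exact absurd h1 h
    · linarith

/-- A nonnegative real vector is a nonnegative combination of independent nonnegative integral
vectors satisfying every integral linear relation of the vector. -/
theorem exists_simplicial {N : Type} [Fintype N] (u : N → ℝ) (hu : ∀ i, 0 ≤ u i) (hne : u ≠ 0) :
    ∃ (d : ℕ) (B : Fin d → N → ℤ) (μ : Fin d → ℝ),
      (∀ l i, 0 ≤ B l i) ∧ (∀ l, 0 ≤ μ l) ∧
      (∀ i, u i = ∑ l, μ l * (B l i : ℝ)) ∧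
      (∀ x : Fin d → ℤ, (∀ i, ∑ l, x l * B l i = 0) → x = 0) ∧
      (∀ c : N → ℤ, ∑ i, (c i : ℝ) * u i = 0 → ∀ l, ∑ i, c i * B l i = 0) := by
  classical
  obtain ⟨W, hW⟩ : ∃ W : Submodule ℚ ℝ, W = Submodule.span ℚ (Set.range u) := ⟨_, rfl⟩
  haveI : FiniteDimensional ℚ W := hW ▸ FiniteDimensional.span_of_finite ℚ (Set.finite_range u)
  obtain ⟨d, b, hα⟩ := exists_pos_basis W
  have hmem : ∀ i, u i ∈ W := fun i => hW ▸ Submodule.subset_span ⟨i, rfl⟩
  let M : N → Fin d → ℚ := fun i l => b.repr ⟨u i, hmem i⟩ l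
  have hM : ∀ i, u i = ∑ l, (M i l : ℝ) * ((b l : W) : ℝ) := by
    intro i
    have h := congrArg (fun x : W => (x : ℝ)) (b.sum_repr ⟨u i, hmem i⟩)
    simp only [Submodule.coe_sum, Submodule.coe_smul, Rat.smul_def] at h
    exact h.symm
  have hspan : ∀ x : Fin d → ℚ, (∀ i, ∑ l, x l * M i l = 0) → x = 0 := by
    intro x hx
    let g : W →ₗ[ℚ] ℚ := b.constr ℚ x
    have h1 : ∀ i, g ⟨u i, hmem i⟩ = 0 := by
      intro i
      simp only [g, Module.Basis.constr_apply_fintype, Module.Basis.equivFun_apply, smul_eq_mul]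
      rw [← hx i]
      exact Finset.sum_congr rfl fun l _ => mul_comm _ _
    have hg : g = 0 := by
      apply LinearMap.ext_on_range (v := fun i => (⟨u i, hmem i⟩ : W)) ?_ (fun i => by simpa using h1 i)
      apply Submodule.map_injective_of_injective W.injective_subtype
      rw [Submodule.map_span, Submodule.map_top, Submodule.range_subtype]
      rw [← Set.range_comp]
      exact hW.symm
    funext l
    have := LinearMap.congr_fun hg (b l)
    simpa [g] using this
  have hrel : ∀ c : N → ℤ, ∑ i, (c i : ℝ) * u i = 0 → ∀ l, ∑ i, (c i : ℚ) * M i l = 0 := by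
    intro c hc l
    have h : ∑ i, (c i : ℚ) • (⟨u i, hmem i⟩ : W) = 0 := by
      apply Subtype.ext
      simpa [Submodule.coe_sum, Rat.smul_def] using hc
    have := DFunLike.congr_fun (congrArg b.repr h) l
    simp only [map_sum, map_smul, map_zero, Finsupp.coe_finset_sum, Finset.sum_apply,
      Finsupp.smul_apply, Finsupp.zero_apply, smul_eq_mul] at this
    exact this
  have hd : 0 < d := by
    rw [Nat.pos_iff_ne_zero]
    intro h0
    apply hne
    funext i
    rw [hM i, Pi.zero_apply]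
    refine Finset.sum_eq_zero fun l _ => ?_
    exact absurd l.isLt (by omega)
  haveI : Nonempty (Fin d) := ⟨⟨0, hd⟩⟩
  -- choose the margin
  let C : ℝ := 1 + ∑ i, ∑ l, |(M i l : ℝ)|
  have hC : 0 < C := by positivity
  obtain ⟨δ, hδ, hδu, hδα⟩ : ∃ δ : ℝ, 0 < δ ∧ (∀ i, 0 < u i → δ * C < u i) ∧
      (∀ l, δ < ((b l : W) : ℝ)) := by
    let T : Finset ℝ := ((Finset.univ.filter fun i => 0 < u i).image fun i => u i / C) ∪
      (Finset.univ.image fun l : Fin d => ((b l : W) : ℝ))
    have hT : T.Nonempty := by simp [T]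
    have hpos : 0 < T.min' hT := by
      rw [Finset.lt_min'_iff]
      intro y hy
      simp only [T, Finset.mem_union, Finset.mem_image, Finset.mem_filter, Finset.mem_univ,
        true_and] at hy
      rcases hy with ⟨i, hi, rfl⟩ | ⟨l, rfl⟩
      · exact div_pos hi hC
      · exact hα l
    refine ⟨T.min' hT / 2, by linarith, fun i hi => ?_, fun l => ?_⟩
    · have := T.min'_le (u i / C) (by
        simp only [T, Finset.mem_union, Finset.mem_image, Finset.mem_filter, Finset.mem_univ, true_and]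
        exact .inl ⟨i, hi, rfl⟩)
      rw [← lt_div_iff₀ hC]
      linarith
    · have := T.min'_le ((b l : W) : ℝ) (by simp [T])
      linarith
  have hd1 : (1 : ℝ) ≤ d := by exact_mod_cast hd
  let ε : ℝ := δ / (2 * d)
  have hε : 0 < ε := div_pos hδ (by positivity)
  have hq : ∀ l, ∃ q : ℚ, ((b l : W) : ℝ) - ε < q ∧ (q : ℝ) < ((b l : W) : ℝ) :=
    fun l => exists_rat_btwn (by linarith)
  choose q hq1 hq2 using hq
  have hεδ : ε < δ := by
    rw [div_lt_iff₀ (by positivity)]
    nlinarith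
  have hqpos : ∀ l, (0 : ℝ) < q l := fun l => by have := hq1 l; have := hδα l; linarith
  obtain ⟨ρ, hρ1, hρ2⟩ : ∃ ρ : ℚ, ∑ l, (((b l : W) : ℝ) - q l) < ρ ∧ (ρ : ℝ) < δ / 2 := by
    refine exists_rat_btwn (lt_of_lt_of_le (Finset.sum_lt_sum_of_nonempty Finset.univ_nonempty
      (fun l _ => (show ((b l : W) : ℝ) - q l < ε by have := hq1 l; linarith))) ?_)
    simp [ε]
    rw [← mul_div_assoc, div_le_div_iff₀ (by positivity) (by norm_num)]
    linarith
  have hρpos : (0 : ℝ) < ρ :=
    lt_of_le_of_lt (Finset.sum_nonneg fun l _ => (sub_pos.mpr (hq2 l)).le) hρ1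
  let P : Fin d → N → ℚ := fun l i => ∑ j, M i j * (q j + if j = l then ρ else 0)
  have hP : ∀ l i, 0 ≤ P l i ∧ (u i = 0 → P l i = 0) := by
    intro l i
    have h0 : u i = 0 → P l i = 0 := by
      intro hi
      have hz : (⟨u i, hmem i⟩ : W) = 0 := Subtype.ext hi
      simp [P, M, hz]
    refine ⟨?_, h0⟩
    rcases (hu i).lt_or_eq with hi | hi
    · have hb : ∀ j, |((q j + if j = l then ρ else 0 : ℚ) : ℝ) - ((b j : W) : ℝ)| ≤ δ := by
        intro j
        have := hq1 j
        have := hq2 j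
        rw [abs_le]
        split_ifs <;> push_cast <;> constructor <;> linarith
      have key : |(P l i : ℝ) - u i| ≤ δ * C := by
        rw [hM i]
        simp only [P, Rat.cast_sum, Rat.cast_mul, ← Finset.sum_sub_distrib, ← mul_sub]
        refine (Finset.abs_sum_le_sum_abs _ _).trans ?_
        have h1 : ∀ j, |(M i j : ℝ) * (((q j + if j = l then ρ else 0 : ℚ) : ℝ) - ((b j : W) : ℝ))|
            ≤ δ * |(M i j : ℝ)| := fun j => by
          rw [abs_mul, mul_comm δ]
          exact mul_le_mul_of_nonneg_left (hb j) (abs_nonneg _)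
        refine (Finset.sum_le_sum fun j _ => h1 j).trans ?_
        rw [← Finset.mul_sum]
        refine mul_le_mul_of_nonneg_left ?_ hδ.le
        have := Finset.single_le_sum (f := fun i => ∑ l, |(M i l : ℝ)|)
          (fun i _ => Finset.sum_nonneg fun l _ => abs_nonneg _) (Finset.mem_univ i)
        simp only [C]
        linarith
      have := abs_le.mp key
      have := hδu i hi
      exact_mod_cast (show (0 : ℝ) ≤ P l i by linarith)
    · rw [h0 hi.symm]
  let D : ℕ := ∏ p : Fin d × N, (P p.1 p.2).den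
  have hD : ∀ l i, ∃ z : ℤ, (D : ℚ) * P l i = z := by
    intro l i
    obtain ⟨t, ht⟩ : (P l i).den ∣ D := Finset.dvd_prod_of_mem (fun p : Fin d × N => (P p.1 p.2).den)
      (Finset.mem_univ (l, i))
    refine ⟨(t : ℤ) * (P l i).num, ?_⟩
    rw [ht]
    push_cast
    rw [mul_comm ((P l i).den : ℚ) _, mul_assoc, mul_comm ((P l i).den : ℚ), Rat.mul_den_eq_num]
  choose B hB using hD
  have hD0 : (0 : ℚ) < D := by
    have : 0 < D := Finset.prod_pos fun p _ => (P p.1 p.2).den_pos
    exact_mod_cast this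
  let Λ : ℝ := (∑ l, ((b l : W) : ℝ)) / (∑ l, (q l : ℝ) + ρ)
  have hQρ : 0 < ∑ l, (q l : ℝ) + ρ :=
    add_pos_of_nonneg_of_pos (Finset.sum_nonneg fun l _ => (hqpos l).le) hρpos
  have hΛ0 : 0 ≤ Λ := div_nonneg (Finset.sum_nonneg fun l _ => (hα l).le) hQρ.le
  have hΛ1 : Λ ≤ 1 := by
    rw [div_le_one hQρ]
    rw [Finset.sum_sub_distrib] at hρ1
    linarith
  let lam : Fin d → ℝ := fun l => (((b l : W) : ℝ) - Λ * q l) / ρ
  refine ⟨d, B, fun l => lam l / D, fun l i => ?_, fun l => ?_, fun i => ?_, ?_, ?_⟩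
  · have : (0 : ℚ) ≤ B l i := by
      rw [← hB l i]
      exact mul_nonneg hD0.le (hP l i).1
    exact_mod_cast this
  · refine div_nonneg (div_nonneg ?_ hρpos.le) (Nat.cast_nonneg _)
    nlinarith [hq2 l, hqpos l]
  · have hBr : ∀ l, (B l i : ℝ) = (D : ℝ) * P l i := fun l => by
      exact_mod_cast congrArg (fun x : ℚ => (x : ℝ)) (hB l i).symm
    have hDr : (D : ℝ) ≠ 0 := by exact_mod_cast hD0.ne'
    have hsum : ∑ l, lam l = Λ := by
      simp only [lam, ← Finset.sum_div, Finset.sum_sub_distrib, ← Finset.mul_sum, Λ]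
      field_simp
      ring
    have he : ∀ j, ∑ l, lam l * ((q j : ℝ) + if j = l then (ρ : ℝ) else 0) = ((b j : W) : ℝ) := by
      intro j
      simp only [mul_add, Finset.sum_add_distrib, ← Finset.sum_mul, hsum, mul_ite, mul_zero,
        Finset.sum_ite_eq, Finset.mem_univ, if_true, lam, div_mul_cancel₀ _ hρpos.ne']
      ring
    calc u i = ∑ j, (M i j : ℝ) * ((b j : W) : ℝ) := hM i
      _ = ∑ j, ∑ l, lam l * ((M i j : ℝ) * ((q j : ℝ) + if j = l then (ρ : ℝ) else 0)) := by
        refine Finset.sum_congr rfl fun j _ => ?_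
        rw [← he j, Finset.mul_sum]
        exact Finset.sum_congr rfl fun l _ => by ring
      _ = ∑ l, lam l / D * (B l i : ℝ) := by
        rw [Finset.sum_comm]
        refine Finset.sum_congr rfl fun l _ => ?_
        rw [hBr, ← Finset.mul_sum]
        simp only [P, Rat.cast_sum, Rat.cast_mul, Rat.cast_add, apply_ite (Rat.cast (K := ℝ)),
          Rat.cast_zero]
        field_simp
  · intro x hx
    have hx' : ∀ i, ∑ j, ((∑ l, (x l : ℚ)) * q j + (x j : ℚ) * ρ) * M i j = 0 := by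
      intro i
      have h1 : ((∑ l, x l * B l i : ℤ) : ℚ) = 0 := by rw [hx i]; simp
      push_cast at h1
      simp only [← hB, P, Finset.mul_sum] at h1
      rw [Finset.sum_comm] at h1
      apply mul_left_cancel₀ hD0.ne'
      rw [mul_zero, Finset.mul_sum, ← h1]
      refine Finset.sum_congr rfl fun j _ => ?_
      simp only [mul_add, mul_ite, mul_zero, add_mul, Finset.sum_add_distrib, Finset.sum_ite_eq,
        Finset.mem_univ, if_true, Finset.sum_mul, Finset.mul_sum]
      congr 1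
      · exact Finset.sum_congr rfl fun l _ => by ring
      · ring
    have h2 := hspan _ hx'
    have hρ0 : ρ ≠ 0 := by exact_mod_cast hρpos.ne'
    have hX : (∑ l, (x l : ℚ)) * (∑ j, q j + ρ) = 0 := by
      have := congrArg (fun f : Fin d → ℚ => ∑ j, f j) h2
      simp only [Pi.zero_apply, Finset.sum_const_zero, Finset.sum_add_distrib, ← Finset.mul_sum,
        ← Finset.sum_mul] at this
      rw [mul_add]
      exact this
    have hQ0 : (∑ j, q j + ρ) ≠ 0 := by
      intro h
      have := congrArg (fun t : ℚ => (t : ℝ)) h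
      push_cast at this
      linarith
    funext l
    have := congrFun h2 l
    rw [(mul_eq_zero.mp hX).resolve_right hQ0] at this
    simpa [hρ0] using this
  · intro c hc l
    have h := hrel c hc
    have e : ∑ i, (c i : ℚ) * (B l i : ℚ) = 0 := by
      simp only [← hB, P, Finset.mul_sum]
      rw [Finset.sum_comm]
      refine Finset.sum_eq_zero fun j _ => ?_
      calc _ = ((D : ℚ) * (q j + if j = l then ρ else 0)) * ∑ i, (c i : ℚ) * M i j := by
            rw [Finset.mul_sum]; exact Finset.sum_congr rfl fun i _ => by ring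
        _ = 0 := by rw [h j, mul_zero]
    exact_mod_cast e

variable {k n m : Instab.ICone}

theorem toLin_eq_sum (φ : k ⟶ n) (v : Fin k.dim → ℤ) (j : Fin n.dim) :
    φ.toLin v j = ∑ i, φ.toLin (Pi.single i 1) j * v i := by
  have hv : v = ∑ i, v i • Pi.single i (1 : ℤ) := by
    funext i; simp [Finset.sum_apply, Pi.single_apply]
  conv_lhs => rw [hv]
  simp only [map_sum, map_smul, Finset.sum_apply, Pi.smul_apply, smul_eq_mul]
  exact Finset.sum_congr rfl fun i _ => mul_comm _ _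

theorem realMap_comp (α : k ⟶ n) (β : n ⟶ m) (v : Fin k.dim → ℝ) :
    (α ≫ β).realMap v = β.realMap (α.realMap v) := by
  funext j
  simp only [Instab.ICone.Hom.realMap]
  have h : ∀ i, (α ≫ β).toLin (Pi.single i 1) j =
      ∑ l, β.toLin (Pi.single l 1) j * α.toLin (Pi.single i 1) l := fun i => toLin_eq_sum β _ j
  simp only [h, Int.cast_sum, Int.cast_mul, Finset.sum_mul, Finset.mul_sum]
  rw [Finset.sum_comm]
  simp only [mul_assoc]

theorem realMap_id (v : Fin k.dim → ℝ) : (𝟙 k : k ⟶ k).realMap v = v := by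
  funext j
  show ∑ i, (((LinearMap.id : _ →ₗ[ℤ] (Fin k.dim → ℤ)) (Pi.single i 1) j : ℤ) : ℝ) * v i = v j
  simp [Pi.single_apply]

theorem realMap_smul (φ : k ⟶ n) (c : ℝ) (v : Fin k.dim → ℝ) :
    φ.realMap (c • v) = c • φ.realMap v := by
  funext j
  simp only [Instab.ICone.Hom.realMap, Pi.smul_apply, smul_eq_mul, Finset.mul_sum]
  exact Finset.sum_congr rfl fun i _ => by ring

/-- The Ore condition. -/
theorem ore {n₁ n₂ : Instab.ICone} (φ : n₁ ⟶ n) (ψ : n₂ ⟶ n) (v₁ : Instab.Fan.Orth n₁)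
    (v₂ : Instab.Fan.Orth n₂) (h : φ.realMap v₁.1 = ψ.realMap v₂.1) :
    ∃ (m : Instab.ICone) (α : m ⟶ n₁) (β : m ⟶ n₂) (w : Instab.Fan.Orth m),
      α ≫ φ = β ≫ ψ ∧ α.realMap w.1 = v₁.1 ∧ β.realMap w.1 = v₂.1 := by
  classical
  let u : Fin n₁.dim ⊕ Fin n₂.dim → ℝ := Sum.elim v₁.1 v₂.1
  have hu : ∀ i, 0 ≤ u i := by
    rintro (i | i)
    · exact v₁.2.1 i
    · exact v₂.2.1 i
  have hne : u ≠ 0 := fun h0 => v₁.2.2 (funext fun i => congrFun h0 (Sum.inl i))
  obtain ⟨d, B, μ, hB, hμ, hsum, hind, hrel⟩ := exists_simplicial u hu hne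
  have hμne : μ ≠ 0 := fun h0 => hne (funext fun i => by simp [hsum i, h0])
  have hd : 0 < d := by
    rcases Nat.eq_zero_or_pos d with rfl | hd
    · exact absurd (Subsingleton.elim μ 0) hμne
    · exact hd
  let lα : (Fin d → ℤ) →ₗ[ℤ] (Fin n₁.dim → ℤ) := Fintype.linearCombination ℤ (fun l i => B l (Sum.inl i))
  let lβ : (Fin d → ℤ) →ₗ[ℤ] (Fin n₂.dim → ℤ) := Fintype.linearCombination ℤ (fun l i => B l (Sum.inr i))
  have hcol : ∀ l, φ.toLin (fun i => B l (Sum.inl i)) = ψ.toLin (fun i => B l (Sum.inr i)) := by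
    intro l
    funext j
    rw [toLin_eq_sum φ, toLin_eq_sum ψ]
    have := hrel (Sum.elim (fun i => φ.toLin (Pi.single i 1) j) (fun i => -ψ.toLin (Pi.single i 1) j))
      (by
        have hj := congrFun h j
        simp only [Instab.ICone.Hom.realMap] at hj
        simp [Fintype.sum_sum_type, u, hj]) l
    simp only [Fintype.sum_sum_type, Sum.elim_inl, Sum.elim_inr, neg_mul, Finset.sum_neg_distrib] at this
    linarith
  have hcomm : φ.toLin.comp lα = ψ.toLin.comp lβ := by
    refine LinearMap.ext fun x => ?_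
    simp only [LinearMap.comp_apply, lα, lβ, Fintype.linearCombination_apply, map_sum, map_smul, hcol]
  have key : ∀ x, lα x = 0 → lβ x = 0 → x = 0 := by
    intro x h1 h2
    apply hind
    rintro (i | i)
    · have := congrFun h1 i
      simpa [lα, Fintype.linearCombination_apply] using this
    · have := congrFun h2 i
      simpa [lβ, Fintype.linearCombination_apply] using this
  have hαi : Function.Injective lα := by
    refine (injective_iff_map_eq_zero lα).mpr fun x h1 => key x h1 ?_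
    refine ψ.injective ?_
    have := LinearMap.congr_fun hcomm x
    simp only [LinearMap.comp_apply, h1, map_zero] at this
    rw [map_zero, this]
  have hβi : Function.Injective lβ := by
    refine (injective_iff_map_eq_zero lβ).mpr fun x h1 => key x ?_ h1
    refine φ.injective ?_
    have := LinearMap.congr_fun hcomm x
    simp only [LinearMap.comp_apply, h1, map_zero] at this
    rw [map_zero, this]
  let mm : Instab.ICone := ⟨⟨d, hd⟩⟩
  have hαn : ∀ v : Fin d → ℤ, (∀ i, 0 ≤ v i) → ∀ j, 0 ≤ lα v j := fun v hv j => by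
    simp only [lα, Fintype.linearCombination_apply, Finset.sum_apply, Pi.smul_apply, smul_eq_mul]
    exact Finset.sum_nonneg fun l _ => mul_nonneg (hv l) (hB _ _)
  have hβn : ∀ v : Fin d → ℤ, (∀ i, 0 ≤ v i) → ∀ j, 0 ≤ lβ v j := fun v hv j => by
    simp only [lβ, Fintype.linearCombination_apply, Finset.sum_apply, Pi.smul_apply, smul_eq_mul]
    exact Finset.sum_nonneg fun l _ => mul_nonneg (hv l) (hB _ _)
  refine ⟨mm, ⟨lα, hαi, hαn⟩, ⟨lβ, hβi, hβn⟩, ⟨μ, hμ, hμne⟩, Instab.ICone.Hom.ext hcomm, ?_, ?_⟩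
  · funext i
    show ∑ l : Fin d, ((lα (Pi.single l 1) i : ℤ) : ℝ) * μ l = v₁.1 i
    rw [show v₁.1 i = u (Sum.inl i) from rfl, hsum]
    simp [lα, mul_comm]
  · funext i
    show ∑ l : Fin d, ((lβ (Pi.single l 1) i : ℤ) : ℝ) * μ l = v₂.1 i
    rw [show v₂.1 i = u (Sum.inr i) from rfl, hsum]
    simp [lβ, mul_comm]

variable {F G : Instab.Fan.{u}}

/-- Two points are related when they have a common refinement. -/
def Common (x y : Instab.Fan.Pt F) : Prop :=
  ∃ (m : Instab.ICone) (φ : m ⟶ x.1.1) (ψ : m ⟶ y.1.1) (w : Instab.Fan.Orth m) (c c' : ℝ),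
    0 < c ∧ 0 < c' ∧ F.map φ.op x.1.2 = F.map ψ.op y.1.2 ∧
      x.2.1 = c • φ.realMap w.1 ∧ y.2.1 = c' • ψ.realMap w.1

theorem common_of_eqvGen {x y : Instab.Fan.Pt F} (h : Relation.EqvGen (Instab.Fan.Rel F) x y) :
    Common x y := by
  induction h with
  | rel x y h =>
    obtain ⟨φ, ξ, v, w, c, hc, hw⟩ := h
    exact ⟨_, 𝟙 _, φ, v, 1, c, one_pos, hc, by simp, by simp [realMap_id], hw⟩
  | refl x => exact ⟨_, 𝟙 _, 𝟙 _, x.2, 1, 1, one_pos, one_pos, rfl, by simp [realMap_id], by simp [realMap_id]⟩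
  | symm x y _ ih =>
    obtain ⟨m, φ, ψ, w, c, c', hc, hc', e, e1, e2⟩ := ih
    exact ⟨m, ψ, φ, w, c', c, hc', hc, e.symm, e2, e1⟩
  | trans x y z _ _ ih1 ih2 =>
    obtain ⟨m, φ, ψ, w, a, b, ha, hb, e, e1, e2⟩ := ih1
    obtain ⟨m', φ', ψ', w', a', b', ha', hb', e', e1', e2'⟩ := ih2
    let w2 : Instab.Fan.Orth m' := ⟨(a' / b) • w'.1, fun i => mul_nonneg (div_pos ha' hb).le (w'.2.1 i),
      smul_ne_zero (div_pos ha' hb).ne' w'.2.2⟩
    have hh : ψ.realMap w.1 = φ'.realMap w2.1 := by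
      simp only [w2, realMap_smul]
      rw [div_eq_inv_mul, mul_smul, ← e1', e2, inv_smul_smul₀ hb.ne']
    obtain ⟨l, α, β, v, hsq, hv1, hv2⟩ := ore ψ φ' w w2 hh
    refine ⟨l, α ≫ φ, β ≫ ψ', v, a, b' * (b / a'), ha, by positivity, ?_, ?_, ?_⟩
    · rw [op_comp, Functor.map_comp_apply, e, ← Functor.map_comp_apply, ← op_comp, hsq, op_comp,
        Functor.map_comp_apply, e', ← Functor.map_comp_apply, ← op_comp]
    · rw [realMap_comp, hv1, e1]
    · rw [realMap_comp, hv2, e2']
      simp only [w2, realMap_smul, smul_smul]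
      congr 1
      field_simp

theorem eqvGen_of_common {x y : Instab.Fan.Pt F} (h : Common x y) :
    Quot.mk (Instab.Fan.Rel F) x = Quot.mk (Instab.Fan.Rel F) y := by
  obtain ⟨m, φ, ψ, w, c, c', hc, hc', e, e1, e2⟩ := h
  have h1 : Quot.mk (Instab.Fan.Rel F) ⟨⟨m, F.map φ.op x.1.2⟩, w⟩ = Quot.mk _ x :=
    Quot.sound (Instab.Fan.Rel.glue φ x.1.2 w x.2 c hc e1)
  have h2 : Quot.mk (Instab.Fan.Rel F) ⟨⟨m, F.map ψ.op y.1.2⟩, w⟩ = Quot.mk _ y :=
    Quot.sound (Instab.Fan.Rel.glue ψ y.1.2 w y.2 c' hc' e2)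
  rw [← h1, ← h2, e]

end Groth.Agent.FanOre
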