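import Groth.Statements.S14953
import Mathlib

set_option autoImplicit false
universe u
open TensorProduct
open EtAlg

namespace Groth.Agent.S14953

/-- Let B' = B ×_A A' be a fibre product of commutative rings with A' → A surjective and L' a B'-module.
If B ⊗_{B'} L' is a finitely generated B-module and A' ⊗_{B'} L' is a finitely generated A'-module,
then L' is a finitely generated B'-module. (The published statement is about flat modules of finite
type; the finiteness conclusion does not use flatness, which descends separately.) -/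
theorem result (B' B A' A : Type u) [CommRing B'] [CommRing B] [CommRing A'] [CommRing A]
    [Algebra B' B] [Algebra B' A'] [Algebra B A] [Algebra A' A] [Algebra B' A] [IsScalarTower B' B A] [IsScalarTower B' A' A]
    (hsq : EtMil.IsFibreSquare B' B A' A)
    (L' : Type u) [AddCommGroup L'] [Module B' L']
    [Module.Finite B (B ⊗[B'] L')] [Module.Finite A' (A' ⊗[B'] L')] : Module.Finite B' L' := by
  classical
  obtain ⟨hs, hf⟩ := hsq
  have hB : Function.Surjective (algebraMap B' B) := fun b => by
    obtain ⟨a', ha'⟩ := hs (algebraMap B A b)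
    obtain ⟨b', ⟨h1, -⟩, -⟩ := hf b a' ha'.symm
    exact ⟨b', h1⟩
  have hlift : ∀ z : B ⊗[B'] L', ∃ m : L', z = 1 ⊗ₜ m := fun z => by
    induction z using TensorProduct.induction_on with
    | zero => exact ⟨0, by simp⟩
    | add x y hx hy =>
      obtain ⟨a, rfl⟩ := hx
      obtain ⟨c, rfl⟩ := hy
      exact ⟨a + c, by rw [TensorProduct.tmul_add]⟩
    | tmul b a =>
      obtain ⟨b', rfl⟩ := hB b
      exact ⟨b' • a, by rw [Algebra.algebraMap_eq_smul_one, TensorProduct.smul_tmul]⟩
  let K : Ideal B' := RingHom.ker (algebraMap B' B)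
  obtain ⟨s, hs1⟩ := Module.Finite.fg_top (R := B) (M := B ⊗[B'] L')
  choose l hl using hlift
  obtain ⟨t, ht⟩ := Module.Finite.fg_top (R := A') (M := A' ⊗[B'] L')
  choose F hF using fun z : A' ⊗[B'] L' => TensorProduct.exists_finset z
  let G : Finset L' := s.image l ∪ t.biUnion fun z => (F z).image Prod.snd
  let N : Submodule B' L' := Submodule.span B' G
  have hA : ∀ z : A' ⊗[B'] L', z ∈ LinearMap.range (N.subtype.baseChange A') := fun z => by
    have hz : z ∈ Submodule.span A' (t : Set (A' ⊗[B'] L')) := by rw [ht]; trivial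
    refine Submodule.span_le.mpr (fun w hw => ?_) hz
    rw [hF w]
    refine Submodule.sum_mem _ fun p hp => ?_
    exact ⟨p.1 ⊗ₜ (⟨p.2, Submodule.subset_span (by
      simp only [G, Finset.coe_union, Finset.coe_biUnion, Set.mem_union, Set.mem_iUnion,
        Finset.coe_image]
      exact Or.inr ⟨w, hw, p, hp, rfl⟩)⟩ : N), by simp⟩
  have hK : K • (⊤ : Submodule B' L') ≤ N := by
    refine Submodule.smul_le.mpr fun k hk m _ => ?_
    have hex : ∀ a : A', ∃ k' ∈ K, algebraMap B' A' k' = algebraMap B' A' k * a := fun a => by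
      obtain ⟨k', ⟨h1, h2⟩, -⟩ := hf 0 (algebraMap B' A' k * a) (by
        rw [map_zero, map_mul, ← IsScalarTower.algebraMap_apply B' A' A,
          IsScalarTower.algebraMap_apply B' B A, RingHom.mem_ker.mp hk, map_zero, zero_mul])
      exact ⟨k', h1, h2⟩
    choose θ hθK hθ using hex
    have huniq : ∀ x y : B', x ∈ K → y ∈ K → algebraMap B' A' x = algebraMap B' A' y → x = y := by
      intro x y hx hy hxy
      exact (hf 0 (algebraMap B' A' y) (by
        rw [map_zero, ← IsScalarTower.algebraMap_apply B' A' A,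
          IsScalarTower.algebraMap_apply B' B A, RingHom.mem_ker.mp hy, map_zero])).unique
        ⟨hx, hxy⟩ ⟨hy, rfl⟩
    let θl : A' →ₗ[B'] B' :=
      { toFun := θ
        map_add' := fun a c => huniq _ _ (hθK _) (K.add_mem (hθK a) (hθK c))
          (by rw [map_add, hθ, hθ, hθ]; ring)
        map_smul' := fun r a => huniq _ _ (hθK _) (K.mul_mem_left _ (hθK a))
          (by rw [hθ, RingHom.id_apply, smul_eq_mul, map_mul, hθ, Algebra.smul_def]; ring) }
    let ψ : A' ⊗[B'] L' →ₗ[B'] L' :=
      TensorProduct.lift ((LinearMap.lsmul B' L').comp θl)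
    have hψ : ψ (1 ⊗ₜ m) = k • m := by
      simp only [ψ, TensorProduct.lift.tmul, LinearMap.comp_apply, LinearMap.lsmul_apply]
      rw [show θl 1 = k from huniq _ _ (hθK _) hk (by show algebraMap B' A' (θ 1) = _; rw [hθ, mul_one])]
    rw [← hψ]
    obtain ⟨w, hw⟩ := hA (1 ⊗ₜ m)
    rw [← hw]
    clear hw
    induction w using TensorProduct.induction_on with
    | zero => simp
    | add x y hx hy => rw [map_add, map_add]; exact N.add_mem hx hy
    | tmul a n =>
      simp only [LinearMap.baseChange_tmul, Submodule.subtype_apply, ψ, TensorProduct.lift.tmul,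
        LinearMap.comp_apply, LinearMap.lsmul_apply]
      exact N.smul_mem _ n.2
  refine ⟨⟨G, eq_top_iff.mpr fun m _ => ?_⟩⟩
  have hker : ∀ m : L', (1 : B) ⊗ₜ[B'] m = 0 → m ∈ K • (⊤ : Submodule B' L') := by
    intro m hm
    let q : B ⊗[B'] L' →ₗ[B'] L' ⧸ (K • (⊤ : Submodule B' L')) :=
      (TensorProduct.quotTensorEquivQuotSMul L' K).toLinearMap ∘ₗ
        (Ideal.quotientKerAlgEquivOfSurjective (f := Algebra.ofId B' B) hB).symm.toLinearEquiv.toLinearMap.rTensor L'
    have h0 : (Ideal.quotientKerAlgEquivOfSurjective (f := Algebra.ofId B' B) hB).symm 1 = 1 := map_one _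
    have h3 : q ((1 : B) ⊗ₜ[B'] m) = Submodule.Quotient.mk m := by
      show TensorProduct.quotTensorEquivQuotSMul L' K
        ((Ideal.quotientKerAlgEquivOfSurjective (f := Algebra.ofId B' B) hB).symm 1 ⊗ₜ m) = _
      rw [h0]
      show TensorProduct.quotTensorEquivQuotSMul L' K (Ideal.Quotient.mk K 1 ⊗ₜ m) = _
      rw [TensorProduct.quotTensorEquivQuotSMul_mk_tmul, one_smul]
    rwa [hm, map_zero, eq_comm, Submodule.Quotient.mk_eq_zero] at h3
  have hm : (1 : B) ⊗ₜ[B'] m ∈ LinearMap.range (N.subtype.baseChange B) := by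
    have hz : (1 : B) ⊗ₜ[B'] m ∈ Submodule.span B (s : Set (B ⊗[B'] L')) := by rw [hs1]; trivial
    refine Submodule.span_le.mpr (fun w hw => ?_) hz
    exact ⟨1 ⊗ₜ (⟨l w, Submodule.subset_span (by
      simp only [G, Finset.coe_union, Finset.coe_image, Set.mem_union]
      exact Or.inl ⟨w, hw, rfl⟩)⟩ : N), by simp [← hl w]⟩
  obtain ⟨w, hw⟩ := hm
  have h2 : ∀ z : B ⊗[B'] N, ∃ n : N, z = 1 ⊗ₜ n := fun z => by
    induction z using TensorProduct.induction_on with
    | zero => exact ⟨0, by simp⟩
    | add x y hx hy =>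
      obtain ⟨a, rfl⟩ := hx
      obtain ⟨c, rfl⟩ := hy
      exact ⟨a + c, by rw [TensorProduct.tmul_add]⟩
    | tmul b a =>
      obtain ⟨b', rfl⟩ := hB b
      exact ⟨b' • a, by rw [Algebra.algebraMap_eq_smul_one, TensorProduct.smul_tmul]⟩
  obtain ⟨n, rfl⟩ := h2 w
  have := hK (hker (m - n.1) (by
    rw [TensorProduct.tmul_sub]
    simp at hw
    rw [hw, sub_self]))
  simpa using N.add_mem this n.2

end Groth.Agent.S14953
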