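import Groth.Statements.S14954
import Mathlib
import Groth.Agent.MilnorFlatLib.Basic
import Groth.Agent.S14953
-- import your own Groth.Agent.* helpers here

set_option autoImplicit false
universe u
open TensorProduct
open EtAlg

namespace Groth.Agent.S14954

set_option maxHeartbeats 400000

/-- Let B' = B ×_A A' be a fibre product of commutative rings with A' → A surjective and L' a B'-module.
If B ⊗_{B'} L' is flat and finitely presented over B and A' ⊗_{B'} L' is flat and finitely presented
over A', then L' is finitely presented over B'. (Together with descent of flatness, L' is then flat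
of finite presentation, i.e. finite locally free.) -/
theorem result (B' B A' A : Type u) [CommRing B'] [CommRing B] [CommRing A'] [CommRing A]
    [Algebra B' B] [Algebra B' A'] [Algebra B A] [Algebra A' A] [Algebra B' A] [IsScalarTower B' B A] [IsScalarTower B' A' A]
    (hsq : EtMil.IsFibreSquare B' B A' A)
    (L' : Type u) [AddCommGroup L'] [Module B' L']
    [Module.Flat B (B ⊗[B'] L')] [Module.FinitePresentation B (B ⊗[B'] L')]
    [Module.Flat A' (A' ⊗[B'] L')] [Module.FinitePresentation A' (A' ⊗[B'] L')] :
    Module.FinitePresentation B' L' := by
  have : Module.Flat B' L' := Groth.Agent.MilnorFlatLib.flat_of_square L' hsq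
  have : Module.Finite B' L' := Groth.Agent.S14953.result B' B A' A hsq L'
  obtain ⟨n, f, hf⟩ := Module.Finite.exists_fin' B' L'
  let N := LinearMap.ker f
  have key : ∀ (C : Type u) [CommRing C] [Algebra B' C] [Module.FinitePresentation C (C ⊗[B'] L')],
      Module.Finite C (C ⊗[B'] N) := fun C _ _ _ => by
    have hfC : Function.Surjective (f.baseChange C) := LinearMap.lTensor_surjective C hf
    have hex : Function.Exact (N.subtype.baseChange C) (f.baseChange C) :=
      lTensor_exact C (LinearMap.exact_subtype_ker_map f) hf
    have hi : Function.Injective (N.subtype.baseChange C) :=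
      LinearMap.lTensor_injective_of_exact_of_flat f hf N.subtype Subtype.val_injective (LinearMap.exact_subtype_ker_map f) C
    have h1 : (LinearMap.ker (f.baseChange C)).FG :=
      Module.FinitePresentation.fg_ker _ hfC
    rw [hex.linearMap_ker_eq] at h1
    exact Module.Finite.iff_fg.2 h1 |>.equiv (LinearEquiv.ofInjective _ hi).symm
  have := key B
  have := key A'
  have : Module.Finite B' N := Groth.Agent.S14953.result B' B A' A hsq N
  exact Module.finitePresentation_of_surjective f hf (Module.Finite.iff_fg.1 this)

end Groth.Agent.S14954
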