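import Groth.Statements.S6867
import Mathlib.RingTheory.Localization.FractionRing
import Mathlib.RingTheory.Localization.Integer
import Mathlib.Algebra.Module.LocalizedModule.IsLocalization
import Mathlib.LinearAlgebra.FiniteDimensional.Basic
import Mathlib.RingTheory.Localization.Module
import Mathlib.RingTheory.Localization.Finiteness

set_option autoImplicit false
universe u
open CAlg

namespace Groth.Agent.S6867

open scoped nonZeroDivisors in
theorem exists_embedding (R : Type u) [CommRing R] [IsDomain R] (M : Type u)
    [AddCommGroup M] [Module R M] [Module.Finite R M] [Module.IsTorsionFree R M] :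
    ∃ (n : ℕ) (f : M →ₗ[R] (Fin n → R)), Function.Injective f := by
  classical
  let K := FractionRing R
  let ι := LocalizedModule.mkLinearMap R⁰ M
  have hι : Function.Injective ι := by
    rw [injective_iff_map_eq_zero]
    intro x hx
    obtain ⟨s, hs⟩ := (IsLocalizedModule.eq_zero_iff R⁰ ι).1 hx
    exact (smul_eq_zero.1 (hs : (s : R) • x = 0)).resolve_left (nonZeroDivisors.ne_zero s.2)
  let V := LocalizedModule R⁰ M
  have : Module.Finite K V := inferInstance
  let b := Module.finBasis K V
  obtain ⟨s, hs⟩ := (Module.Finite.fg_top : (⊤ : Submodule R M).FG)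
  obtain ⟨d, hd⟩ := IsLocalization.exist_integer_multiples_of_finset R⁰
    ((s ×ˢ (Finset.univ : Finset (Fin (Module.finrank K V)))).image fun z => b.repr (ι z.1) z.2)
  let g : M →ₗ[R] (Fin (Module.finrank K V) → K) :=
    (d : R) • ((b.equivFun.toLinearMap.restrictScalars R).comp ι)
  have hg : ∀ x i, IsLocalization.IsInteger R (g x i) := by
    intro x i
    have hx : x ∈ Submodule.span R (s : Set M) := hs ▸ Submodule.mem_top
    induction hx using Submodule.span_induction with
    | mem y hy => exact hd _ (Finset.mem_image.2 ⟨(y, i), Finset.mem_product.2 ⟨hy, Finset.mem_univ i⟩, rfl⟩)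
    | zero => rw [map_zero]; exact IsLocalization.isInteger_zero
    | add a b _ _ ha hb => rw [map_add]; exact IsLocalization.isInteger_add ha hb
    | smul r a _ ha => rw [map_smul]; exact IsLocalization.isInteger_smul ha
  choose f hf using hg
  refine ⟨_, { toFun := f, map_add' := fun x y => ?_, map_smul' := fun r x => ?_ }, fun x y hxy => ?_⟩
  · funext i
    apply IsFractionRing.injective R K
    simp [hf]
  · funext i
    apply IsFractionRing.injective R K
    simp [hf, Algebra.smul_def]
  · have hxy : f x = f y := hxy
    have h1 : g x = g y := funext fun i => by rw [← hf x i, ← hf y i, hxy]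
    simp only [g, LinearMap.smul_apply] at h1
    have h2 := smul_right_injective (Fin (Module.finrank K V) → K) (nonZeroDivisors.ne_zero d.2) h1
    exact hι (b.equivFun.injective h2)

/-- For a domain `R`, a finite `R`-module `M` is torsion free exactly when it admits an injective
`R`-linear map into `Rⁿ` for some `n`. -/
theorem result (R : Type u) [CommRing R] [IsDomain R] (M : Type u)
    [AddCommGroup M] [Module R M] [Module.Finite R M] :
    Module.IsTorsionFree R M ↔ ∃ (n : ℕ) (f : M →ₗ[R] (Fin n → R)), Function.Injective f := by
  refine ⟨fun _ => exists_embedding R M, fun ⟨n, f, hf⟩ => ?_⟩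
  exact hf.moduleIsTorsionFree f (fun r m => map_smul f r m)

end Groth.Agent.S6867
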