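import Groth.Statements.S12208
import Mathlib
import Groth.Agent.NoethNormLib.Adapted
import Groth.Agent.CommAlgDim.Integral
-- import your own Groth.Agent.* helpers here

set_option autoImplicit false
universe u
open CAlg

namespace Groth.Agent.S12208

/-- Let k be a field and S = k[x_1, …, x_n]/I with I a proper ideal. Then there exist r ≥ 0 and elements
y_1, …, y_r of k[x_1, …, x_n] lying in the subring generated by x_1, …, x_n (polynomials with
integer coefficients) such that the k-algebra map from the polynomial ring k[t_1, …, t_r] to S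
sending t_i to the class of y_i is injective and finite; and for any r ≥ 0 and any y_1, …, y_r in
k[x_1, …, x_n] (with or without the integer-coefficient condition) for which that map is injective
and finite, r is the Krull dimension of S. -/
theorem result (k : Type u) [Field k] (n : ℕ) (I : Ideal (MvPolynomial (Fin n) k))
    (hI : I ≠ ⊤) :
    (∃ (r : ℕ) (y : Fin r → MvPolynomial (Fin n) k),
      (∀ i, y i ∈ Set.range (MvPolynomial.map (Int.castRingHom k) : MvPolynomial (Fin n) ℤ → MvPolynomial (Fin n) k)) ∧
      Function.Injective ((Ideal.Quotient.mkₐ k I).comp (MvPolynomial.aeval y)) ∧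
      ((Ideal.Quotient.mkₐ k I).comp (MvPolynomial.aeval y)).toRingHom.Finite) ∧
    ∀ (r : ℕ) (y : Fin r → MvPolynomial (Fin n) k),
      Function.Injective ((Ideal.Quotient.mkₐ k I).comp (MvPolynomial.aeval y)) →
      ((Ideal.Quotient.mkₐ k I).comp (MvPolynomial.aeval y)).toRingHom.Finite →
      ringKrullDim (MvPolynomial (Fin n) k ⧸ I) = r := by
  classical
  let S := MvPolynomial (Fin n) k ⧸ I
  haveI : Nontrivial S := Ideal.Quotient.nontrivial_iff.mpr hI
  let q : MvPolynomial (Fin n) k →ₐ[k] S := Ideal.Quotient.mkₐ k I
  constructor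
  · let R0 : Subring S :=
      (q.toRingHom.comp (MvPolynomial.map (Int.castRingHom k) : MvPolynomial (Fin n) ℤ →+* MvPolynomial (Fin n) k)).range
    have hx : ∀ i : Fin n, q (MvPolynomial.X i) ∈ R0 := fun i => ⟨MvPolynomial.X i, by simp [q]⟩
    have hsurj : Function.Surjective (MvPolynomial.aeval (fun i => q (MvPolynomial.X i)) : MvPolynomial (Fin n) k →ₐ[k] S) := by
      have h : MvPolynomial.aeval (fun i => q (MvPolynomial.X i)) = q := by
        refine MvPolynomial.algHom_ext fun i => ?_
        simp
      rw [h]
      exact Ideal.Quotient.mkₐ_surjective k I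
    obtain ⟨r, y, hy, hinj, hint⟩ := NoethNormLib.exists_injective_integral_aeval_mem n R0
      (fun i => q (MvPolynomial.X i)) hx (RingHom.isIntegral_of_surjective _ hsurj)
    choose w hw using hy
    refine ⟨r, fun i => MvPolynomial.map (Int.castRingHom k) (w i), fun i => ⟨w i, rfl⟩, ?_⟩
    have h : q.comp (MvPolynomial.aeval (fun i => MvPolynomial.map (Int.castRingHom k) (w i))) =
        MvPolynomial.aeval y := by
      refine MvPolynomial.algHom_ext fun i => ?_
      simp only [AlgHom.comp_apply, MvPolynomial.aeval_X]
      exact hw i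
    rw [show (Ideal.Quotient.mkₐ k I) = q from rfl, h]
    refine ⟨hinj, hint.to_finite ?_⟩
    have hft : (algebraMap k S).FiniteType := RingHom.finiteType_algebraMap.mpr inferInstance
    have he : (MvPolynomial.aeval y : MvPolynomial (Fin r) k →ₐ[k] S).toRingHom.comp
        (algebraMap k (MvPolynomial (Fin r) k)) = algebraMap k S :=
      RingHom.ext fun c => (MvPolynomial.aeval y : MvPolynomial (Fin r) k →ₐ[k] S).commutes c
    exact RingHom.FiniteType.of_comp_finiteType (f := algebraMap k (MvPolynomial (Fin r) k)) (he ▸ hft)
  · intro r y hinj hfin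
    letI := ((Ideal.Quotient.mkₐ k I).comp (MvPolynomial.aeval y)).toRingHom.toAlgebra
    haveI : Module.Finite (MvPolynomial (Fin r) k) (MvPolynomial (Fin n) k ⧸ I) := hfin
    rw [CommAlgDim.ringKrullDim_eq_of_integral (MvPolynomial (Fin r) k) (MvPolynomial (Fin n) k ⧸ I) hinj,
      MvPolynomial.ringKrullDim_of_isNoetherianRing, ringKrullDim_eq_zero_of_field]
    simp

end Groth.Agent.S12208
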