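import Groth.Statements.S2100
import Mathlib
import Groth.Agent.NoethNormLib.Mod
import Groth.Agent.S12208
import Groth.Agent.CommAlgDim.Integral
import Groth.Agent.WeilLib.Dim
-- import your own Groth.Agent.* helpers here

set_option autoImplicit false
universe u
open CAlg

namespace Groth.Agent.S2100

/-- Let `k` be a field, `𝔮` a prime of `k[x_1, …, x_n]` and `r` the transcendence degree of `κ(𝔮)` over
`k`. Then there is a finite `k`-algebra map `φ : k[y_1, …, y_n] → k[x_1, …, x_n]` with `φ⁻¹(𝔮) =
(y_{r+1}, …, y_n)`. -/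
theorem result {k : Type u} [Field k] (n r : ℕ) (q : Ideal (MvPolynomial (Fin n) k))
    [q.IsPrime] (hr : Algebra.trdeg k q.ResidueField = r) :
    ∃ φ : MvPolynomial (Fin n) k →ₐ[k] MvPolynomial (Fin n) k, φ.toRingHom.Finite ∧
      q.comap φ = Ideal.span (Set.range fun i : {i : Fin n // r ≤ (i : ℕ)} => MvPolynomial.X (i : Fin n)) := by
  classical
  have hq : q ≠ ⊤ := Ideal.IsPrime.ne_top inferInstance
  -- normalise the quotient
  obtain ⟨⟨r', t, -, htinj, htfin⟩, hdim⟩ := Groth.Agent.S12208.result k n q hq
  have hdim' := hdim r' t htinj htfin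
  obtain ⟨s, hs, hts⟩ := WeilLib.dim_eq_trdeg k (MvPolynomial (Fin n) k ⧸ q) q.ResidueField
  have hr' : r' = r := by
    rw [hs] at hdim'
    have h1 : s = r' := by exact_mod_cast hdim'
    rw [hr] at hts
    have h2 : r = s := by exact_mod_cast hts
    omega
  subst hr'
  -- integral elements inside `q`
  have hint : ∀ i : Fin n, ∃ P : Polynomial (MvPolynomial (Fin r') k), P.Monic ∧
      P.eval₂ (MvPolynomial.aeval t).toRingHom (MvPolynomial.X i) ∈ q := by
    intro i
    obtain ⟨P, hP, hP0⟩ := htfin.to_isIntegral (Ideal.Quotient.mk q (MvPolynomial.X i))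
    refine ⟨P, hP, ?_⟩
    rw [← Ideal.Quotient.eq_zero_iff_mem, Polynomial.hom_eval₂]
    exact hP0
  choose P hP hPq using hint
  let u : Fin n → MvPolynomial (Fin n) k :=
    fun i => (P i).eval₂ (MvPolynomial.aeval t).toRingHom (MvPolynomial.X i)
  let x : Fin (n + r') → MvPolynomial (Fin n) k := Fin.append u t
  have hxint : (MvPolynomial.aeval x : MvPolynomial (Fin (n + r')) k →ₐ[k] MvPolynomial (Fin n) k).toRingHom.IsIntegral := by
    letI : Algebra (MvPolynomial (Fin (n + r')) k) (MvPolynomial (Fin n) k) :=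
      (MvPolynomial.aeval x).toRingHom.toAlgebra
    let C := integralClosure (MvPolynomial (Fin (n + r')) k) (MvPolynomial (Fin n) k)
    let ι : MvPolynomial (Fin r') k →+* MvPolynomial (Fin (n + r')) k :=
      (MvPolynomial.rename (Fin.natAdd n)).toRingHom
    have hι : (MvPolynomial.aeval x).toRingHom.comp ι = (MvPolynomial.aeval t).toRingHom := by
      refine RingHom.ext fun g => ?_
      show MvPolynomial.aeval x (MvPolynomial.rename (Fin.natAdd n) g) = MvPolynomial.aeval t g
      rw [MvPolynomial.aeval_rename]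
      congr 1
      congr 1
      funext j
      simp [x, Fin.append_right]
    have hX : ∀ i, IsIntegral (MvPolynomial (Fin (n + r')) k) (MvPolynomial.X i : MvPolynomial (Fin n) k) := by
      intro i
      by_cases hd : (P i).natDegree = 0
      · exfalso
        have h1 := hPq i
        rw [(hP i).natDegree_eq_zero.mp hd] at h1
        simp only [Polynomial.eval₂_one] at h1
        exact hq ((Ideal.eq_top_iff_one q).mpr h1)
      refine ⟨(P i).map ι - Polynomial.C (MvPolynomial.X (Fin.castAdd r' i)), ?_, ?_⟩
      · exact ((hP i).map ι).sub_of_left (lt_of_le_of_lt Polynomial.degree_C_le (by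
          rw [(hP i).degree_map]
          exact Polynomial.natDegree_pos_iff_degree_pos.mp (Nat.pos_of_ne_zero hd)))
      · rw [Polynomial.eval₂_sub, Polynomial.eval₂_map, Polynomial.eval₂_C]
        show Polynomial.eval₂ ((MvPolynomial.aeval x).toRingHom.comp ι) _ _ - MvPolynomial.aeval x _ = 0
        rw [hι, MvPolynomial.aeval_X]
        simp [x, u, Fin.append_left]
    intro z
    show IsIntegral (MvPolynomial (Fin (n + r')) k) z
    induction z using MvPolynomial.induction_on with
    | C c =>
      have : (MvPolynomial.C c : MvPolynomial (Fin n) k) =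
          algebraMap (MvPolynomial (Fin (n + r')) k) (MvPolynomial (Fin n) k) (MvPolynomial.C c) := by
        show _ = MvPolynomial.aeval x (MvPolynomial.C c)
        rw [MvPolynomial.aeval_C]; rfl
      rw [this]; exact isIntegral_algebraMap
    | add a b ha hb => exact ha.add hb
    | mul_X a i ha => exact ha.mul (hX i)
  obtain ⟨m, y, hrm, hy1, hy2, hyinj, hyint⟩ := NoethNormLib.exists_injective_integral_aeval_mod
    (n + r') q r' (by omega) t htinj x
    (fun i hi => by
      obtain ⟨i', rfl⟩ : ∃ i' : Fin n, Fin.castAdd r' i' = i := ⟨⟨i.val, by omega⟩, Fin.ext rfl⟩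
      simp only [x, Fin.append_left]
      exact hPq i')
    (fun i j hij => by
      have : i = Fin.natAdd n j := Fin.ext (by simp only [Fin.val_natAdd]; omega)
      subst this
      simp [x, Fin.append_right])
    hxint
  have hm : m = n := by
    letI := (MvPolynomial.aeval y : MvPolynomial (Fin m) k →ₐ[k] MvPolynomial (Fin n) k).toRingHom.toAlgebra
    haveI : Algebra.IsIntegral (MvPolynomial (Fin m) k) (MvPolynomial (Fin n) k) := ⟨hyint⟩
    have h := CommAlgDim.ringKrullDim_eq_of_integral (MvPolynomial (Fin m) k) (MvPolynomial (Fin n) k) hyinj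
    rw [MvPolynomial.ringKrullDim_of_isNoetherianRing, MvPolynomial.ringKrullDim_of_isNoetherianRing,
      ringKrullDim_eq_zero_of_field] at h
    simp only [zero_add, Nat.card_eq_fintype_card, Fintype.card_fin] at h
    exact_mod_cast h.symm
  subst hm
  -- reorder the variables
  let σ : Fin m → Fin m := fun i =>
    if h : i.val < r' then ⟨m - r' + i.val, by omega⟩ else ⟨i.val - r', by omega⟩
  have hσ : Function.Bijective σ := Finite.injective_iff_bijective.mp fun a b hab => by
    simp only [σ] at hab
    split_ifs at hab <;> simp only [Fin.ext_iff] at hab ⊢ <;> omega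
  let φ : MvPolynomial (Fin m) k →ₐ[k] MvPolynomial (Fin m) k := MvPolynomial.aeval (y ∘ σ)
  have hφint : φ.toRingHom.IsIntegral := by
    have hcomp : φ = (MvPolynomial.aeval y).comp (MvPolynomial.rename σ) := by
      refine MvPolynomial.algHom_ext fun i => ?_
      simp [φ]
    have hs : Function.Surjective (MvPolynomial.rename σ : MvPolynomial (Fin m) k →ₐ[k] MvPolynomial (Fin m) k) :=
      (MvPolynomial.renameEquiv k (Equiv.ofBijective σ hσ)).surjective
    rw [hcomp]
    show RingHom.IsIntegral ((MvPolynomial.aeval y : MvPolynomial (Fin m) k →ₐ[k] MvPolynomial (Fin m) k).toRingHom.comp (MvPolynomial.rename σ : MvPolynomial (Fin m) k →ₐ[k] MvPolynomial (Fin m) k).toRingHom)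
    exact RingHom.IsIntegral.trans _ _
      (RingHom.isIntegral_of_surjective (MvPolynomial.rename σ : MvPolynomial (Fin m) k →ₐ[k] MvPolynomial (Fin m) k).toRingHom hs) hyint
  refine ⟨φ, hφint.to_finite ?_, ?_⟩
  · have hft : (algebraMap k (MvPolynomial (Fin m) k)).FiniteType :=
      RingHom.finiteType_algebraMap.mpr inferInstance
    have he : φ.toRingHom.comp (algebraMap k (MvPolynomial (Fin m) k)) = algebraMap k _ :=
      RingHom.ext fun c => φ.commutes c
    exact RingHom.FiniteType.of_comp_finiteType (f := algebraMap k (MvPolynomial (Fin m) k)) (by rw [he]; exact hft)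
  set J := Ideal.span (Set.range fun i : {i : Fin m // r' ≤ (i : ℕ)} => (MvPolynomial.X (i : Fin m) : MvPolynomial (Fin m) k))
  have hJle : J ≤ q.comap φ := by
    rw [Ideal.span_le]
    rintro _ ⟨⟨i, hi⟩, rfl⟩
    show φ (MvPolynomial.X i) ∈ q
    simp only [φ, MvPolynomial.aeval_X, Function.comp_apply, σ]
    rw [dif_neg (by omega)]
    exact hy1 _ (by simp only; omega)
  refine le_antisymm (fun g hg => ?_) hJle
  -- the projection to the first `r'` variables
  let π : MvPolynomial (Fin m) k →ₐ[k] MvPolynomial (Fin r') k :=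
    MvPolynomial.aeval fun i => if h : i.val < r' then MvPolynomial.X ⟨i.val, h⟩ else 0
  let e : MvPolynomial (Fin r') k →ₐ[k] MvPolynomial (Fin m) k := MvPolynomial.rename (Fin.castLE hrm)
  have hge : ∀ g, g - e (π g) ∈ J := by
    intro g
    rw [← Ideal.Quotient.eq]
    show (Ideal.Quotient.mkₐ k J) g = ((Ideal.Quotient.mkₐ k J).comp (e.comp π)) g
    congr 1
    refine MvPolynomial.algHom_ext fun i => ?_
    simp only [AlgHom.comp_apply, π, MvPolynomial.aeval_X, Ideal.Quotient.mkₐ_eq_mk]
    split_ifs with h
    · simp [e]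
    · rw [map_zero, map_zero, Ideal.Quotient.eq_zero_iff_mem]
      exact Ideal.subset_span ⟨⟨i, by omega⟩, rfl⟩
  have hπ : π g = 0 := by
    have h1 : φ (g - e (π g)) ∈ q := hJle (hge g)
    have h2 : φ (e (π g)) ∈ q := by
      have h3 := sub_mem (show φ g ∈ q from hg) h1
      rwa [← map_sub, sub_sub_cancel] at h3
    apply htinj
    rw [map_zero]
    have h4 : (Ideal.Quotient.mkₐ k q).comp (MvPolynomial.aeval t) =
        (Ideal.Quotient.mkₐ k q).comp (φ.comp e) := by
      refine MvPolynomial.algHom_ext fun j => ?_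
      simp only [AlgHom.comp_apply, MvPolynomial.aeval_X, Ideal.Quotient.mkₐ_eq_mk, e,
        MvPolynomial.rename_X, φ, Function.comp_apply, σ]
      rw [dif_pos (show (Fin.castLE hrm j).val < r' from j.isLt)]
      exact (Ideal.Quotient.eq.mpr (hy2 _ j (by simp only [Fin.val_castLE]; omega))).symm
    rw [h4]
    show Ideal.Quotient.mk q (φ (e (π g))) = 0
    rw [Ideal.Quotient.eq_zero_iff_mem]
    exact h2
  have := hge g
  rwa [hπ, map_zero, sub_zero] at this

end Groth.Agent.S2100
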