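import Groth.Statements.S16148
import Mathlib
import Groth.Agent.GrowthLib.TopNonvan
import Groth.Agent.GrowthLib.ProjSec
import Groth.Agent.PicPnLib.Twist
import Groth.Agent.FormalCohLib.ProjAmple
-- import your own Groth.Agent.* helpers here

set_option autoImplicit false
universe u
open CategoryTheory CategoryTheory.Limits AlgebraicGeometry
open Variety

namespace Groth.Agent.S16148

/-- Let k be a characteristic-zero algebraically closed field and G a coherent O-module (quasi-coherent
of finite type) on projective n-space P^n_k whose support, as a subspace of P^n_k, has Krull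
dimension a with a ≥ 1. Then there is an integer m such that H^a(P^n_k, G(m)) ≠ 0, where G(m) = G ⊗
O(m). (The source works over the complex numbers.) -/
theorem result (k : Type u) [Field k] [IsAlgClosed k] [CharZero k]
    (n : ℕ) (G : (CohB1.ProjSpace n k).Modules) (hG : Coh.IsCoh G) (a : ℕ) (ha : 1 ≤ a)
    (hdim : topologicalKrullDim ↥(CohB1.support G) = a) :
    ∃ m : ℤ, Nontrivial (Coh.HH (CohB1.ProjSpace n k) (CohB1.tensorMod G (Twist.twistProjSpace n k m)) a) := by
  haveI : IsProper (CohB1.ProjSpace n k ↘ Spec (CommRingCat.of k)) := FormalCohLib.isProper_projToSpec n k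
  have hA : CohB1.IsAmple (Twist.twistProjSpace n k 1) := FormalCohLib.isAmple_twistProjSpace n k
  have hM := PicPnLib.twist_inv n k (-1)
  obtain ⟨e1⟩ := PicPnLib.twist_add n k 1 (-1)
  obtain ⟨e0⟩ := PicPnLib.twist_zero n k
  let eLM : CohB1.tensorMod (Twist.twistProjSpace n k 1) (Twist.twistProjSpace n k (-1)) ≅
      Coh.structureModule (CohB1.ProjSpace n k) := e1 ≪≫ eqToIso (by norm_num) ≪≫ e0
  have hbs : ∀ x : CohB1.ProjSpace n k, ∃ s : Coh.structureModule (CohB1.ProjSpace n k) ⟶ Twist.twistProjSpace n k 1,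
      x ∈ CohB1.genLocus (Twist.twistProjSpace n k 1) s := by
    intro x
    obtain ⟨i, hi⟩ := TopologicalSpace.Opens.mem_iSup.mp
      ((QCohLib.iSup_stdOpen n k).ge (show x ∈ (⊤ : (CohB1.ProjSpace n k).Opens) from trivial))
    have h1 : Twist.twistProjSpace n k 1 = Twist.twist (CohB1.polyGrading n k) ((1 : ℕ) : ℤ) := by
      rw [Nat.cast_one]; rfl
    rw [h1]
    exact GrowthLib.exists_section_one (CohB1.polyGrading n k) (h1 ▸ hA.1) (MvPolynomial.isHomogeneous_X k i) hi
  obtain ⟨m, hm⟩ := GrowthLib.exists_top_nonvanishing (k := k) hA hM eLM hbs hG (a := a) (by omega) hdim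
  have hp : ∀ j : ℕ, Nonempty (CohB1.tensorPow (Twist.twistProjSpace n k (-1)) j ≅
      Twist.twistProjSpace n k (-(j : ℤ))) := by
    intro j
    induction j with
    | zero =>
      rw [Nat.cast_zero, neg_zero]
      exact ⟨e0.symm⟩
    | succ j ih =>
      obtain ⟨e⟩ := ih
      obtain ⟨e'⟩ := PicPnLib.twist_add n k (-(j : ℤ)) (-1)
      exact ⟨HilbPolyLib.congrLeft e _ ≪≫ e' ≪≫ eqToIso (by push_cast; ring_nf)⟩
  refine ⟨-(m : ℤ), ?_⟩
  by_contra h
  rw [not_nontrivial_iff_subsingleton] at h
  refine hm ?_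
  obtain ⟨e⟩ := hp m
  show HodgeIdxLib.hh k _ a = 0
  rw [HodgeIdxLib.hh_congr (HilbPolyLib.congrLeft e G ≪≫ HilbPolyLib.swapIso _ _) a]
  exact Module.finrank_zero_of_subsingleton

end Groth.Agent.S16148
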