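import Groth.Statements.S9657
import Mathlib
import Groth.Agent.GeomIrrLib.Basic

set_option autoImplicit false
universe u
open CAlg

namespace Groth.Agent.S9657

open TensorProduct Polynomial

section
variable {k K : Type u} [Field k] [Field K] [Algebra k K]
  (kt Kt : Type u) [Field kt] [Field Kt] [Algebra (Polynomial k) kt] [IsFractionRing (Polynomial k) kt]
  [Algebra (Polynomial K) Kt] [IsFractionRing (Polynomial K) Kt] [Algebra kt Kt]
  (hcompat : ∀ p : Polynomial k, algebraMap kt Kt (algebraMap (Polynomial k) kt p) =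
    algebraMap (Polynomial K) Kt (Polynomial.map (algebraMap k K) p))

include hcompat in
theorem mem_range_of_gi
    (h : ∀ α : Kt, IsSeparable kt α → α ∈ Set.range (algebraMap kt Kt)) (a : K) (ha : IsSeparable k a) :
    a ∈ Set.range (algebraMap k K) := by
  let a' := algebraMap (Polynomial K) Kt (C a)
  let η : k →+* kt := (algebraMap (Polynomial k) kt).comp C
  have hsep : IsSeparable kt a' := by
    have h0 : aeval a' ((minpoly k a).map η) = 0 := by
      rw [aeval_def, eval₂_map]
      have he : (algebraMap kt Kt).comp η = ((algebraMap (Polynomial K) Kt).comp C).comp (algebraMap k K) :=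
        RingHom.ext fun c => by simp [η, hcompat]
      rw [he]
      show eval₂ _ (((algebraMap (Polynomial K) Kt).comp C) a) _ = 0
      rw [← hom_eval₂, ← aeval_def, minpoly.aeval, map_zero]
    exact (Polynomial.Separable.map (f := η) ha).of_dvd (minpoly.dvd kt a' h0)
  obtain ⟨y, hy⟩ := h a' hsep
  obtain ⟨p, q, hq, rfl⟩ := IsFractionRing.div_surjective (A := Polynomial k) y
  have hq0 : q ≠ 0 := nonZeroDivisors.ne_zero hq
  rw [map_div₀, hcompat, hcompat, div_eq_iff (by
    rw [Ne, map_eq_zero_iff _ (IsFractionRing.injective (Polynomial K) Kt), Polynomial.map_eq_zero]; exact hq0),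
    ← map_mul] at hy
  have h1 := IsFractionRing.injective (Polynomial K) Kt hy
  obtain ⟨i, hi⟩ : ∃ i, q.coeff i ≠ 0 := by
    by_contra hn; push Not at hn; exact hq0 (Polynomial.ext fun i => by simp [hn i])
  have h2 := congrArg (fun P => Polynomial.coeff P i) h1
  simp only [coeff_map, coeff_C_mul] at h2
  refine ⟨p.coeff i / q.coeff i, ?_⟩
  rw [map_div₀, h2, mul_div_assoc, div_self (by rwa [Ne, map_eq_zero]), _root_.mul_one]

include hcompat in
theorem irreducible_of_gi (h : ∀ (k' : Type u) [Field k'] [Algebra k k'], IrreducibleSpace (PrimeSpectrum (k' ⊗[k] K)))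
    (L : Type u) [Field L] [Algebra kt L] : IrreducibleSpace (PrimeSpectrum (L ⊗[kt] Kt)) := by
  letI : Algebra k kt := ((algebraMap (Polynomial k) kt).comp C).toAlgebra
  letI : Algebra k Kt := ((algebraMap kt Kt).comp (algebraMap k kt)).toAlgebra
  letI : Algebra K Kt := ((algebraMap (Polynomial K) Kt).comp C).toAlgebra
  letI : Algebra k L := ((algebraMap kt L).comp (algebraMap k kt)).toAlgebra
  haveI : IsScalarTower k kt Kt := IsScalarTower.of_algebraMap_eq fun _ => rfl
  haveI : IsScalarTower k kt L := IsScalarTower.of_algebraMap_eq fun _ => rfl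
  haveI : IsScalarTower k K Kt := IsScalarTower.of_algebraMap_eq fun c => by
    simp [RingHom.algebraMap_toAlgebra, hcompat]
  let φ : kt ⊗[k] K →ₐ[kt] Kt :=
    Algebra.TensorProduct.lift (Algebra.ofId kt Kt) (IsScalarTower.toAlgHom k K Kt) fun _ _ => Commute.all _ _
  have hφ : Function.Injective φ := by
    let b := Module.Free.chooseBasis k K
    have hli : LinearIndependent kt (fun i => φ ((1 : kt) ⊗ₜ[k] b i)) := by
      letI : Algebra (Polynomial k) Kt := ((algebraMap kt Kt).comp (algebraMap (Polynomial k) kt)).toAlgebra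
      haveI : IsScalarTower (Polynomial k) kt Kt := IsScalarTower.of_algebraMap_eq fun _ => rfl
      refine (LinearIndependent.iff_fractionRing (Polynomial k) kt).1 (linearIndependent_iff'.2 fun s g hg i hi => ?_)
      refine Polynomial.ext fun m => ?_
      have h1 : algebraMap (Polynomial K) Kt (∑ j ∈ s, Polynomial.map (algebraMap k K) (g j) * C (b j)) = 0 := by
        rw [map_sum, ← hg]
        refine Finset.sum_congr rfl fun j _ => ?_
        simp [φ, Algebra.smul_def, RingHom.algebraMap_toAlgebra, hcompat]
      rw [map_eq_zero_iff _ (IsFractionRing.injective (Polynomial K) Kt)] at h1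
      have h2 := congrArg (fun P => Polynomial.coeff P m) h1
      simp only [finsetSum_coeff, coeff_mul_C, coeff_map, coeff_zero, ← Algebra.smul_def] at h2
      exact linearIndependent_iff'.1 b.linearIndependent s (fun j => (g j).coeff m) h2 i hi
    let B := b.baseChange kt
    refine (LinearMap.ker_eq_bot (f := φ.toLinearMap)).1 (LinearMap.ker_eq_bot'.2 fun z hz => ?_)
    have hl : φ.toLinearMap z = Finsupp.linearCombination kt (fun i => φ ((1 : kt) ⊗ₜ[k] b i)) (B.repr z) := by
      conv_lhs => rw [← B.linearCombination_repr z]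
      rw [Finsupp.apply_linearCombination]
      rw [show (⇑φ.toLinearMap ∘ ⇑B) = fun i => φ ((1 : kt) ⊗ₜ[k] b i) from funext fun i => by simp [B]]
    rw [hl] at hz
    exact B.repr.map_eq_zero_iff.1 (linearIndependent_iff.1 hli _ hz)
  let ψ : L ⊗[k] K →ₐ[L] L ⊗[kt] Kt :=
    Algebra.TensorProduct.lift (Algebra.ofId L (L ⊗[kt] Kt))
      ((Algebra.TensorProduct.includeRight (R := kt) (A := L) (B := Kt)).restrictScalars k |>.comp
        (IsScalarTower.toAlgHom k K Kt)) fun _ _ => Commute.all _ _
  have hψ : Function.Injective ψ := by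
    have he : ψ.toLinearMap = ((φ.toLinearMap.baseChange L)).comp
        (TensorProduct.AlgebraTensorModule.cancelBaseChange k kt L L K).symm.toLinearMap := by
      refine TensorProduct.AlgebraTensorModule.curry_injective ?_
      ext x
      simp [ψ, φ]
    show Function.Injective ψ.toLinearMap
    rw [he]
    exact (Module.Flat.lTensor_preserves_injective_linearMap (M := L) φ.toLinearMap hφ).comp
      (TensorProduct.AlgebraTensorModule.cancelBaseChange k kt L L K).symm.injective
  let ρ : Polynomial K →+* L ⊗[kt] Kt :=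
    (Algebra.TensorProduct.includeRight (R := kt) (A := L) (B := Kt)).toRingHom.comp (algebraMap (Polynomial K) Kt)
  have hρ : ∀ P, ρ P ∈ ψ.toRingHom.range := by
    intro P
    induction P using Polynomial.induction_on' with
    | add p q hp hq => rw [map_add]; exact add_mem hp hq
    | monomial m c =>
      rw [← C_mul_X_pow_eq_monomial, map_mul, map_pow]
      suffices h12 : ρ (C c) ∈ ψ.toRingHom.range ∧ ρ X ∈ ψ.toRingHom.range from mul_mem h12.1 (pow_mem h12.2 _)
      refine ⟨⟨(1 : L) ⊗ₜ[k] c, ?_⟩, ⟨algebraMap kt L (algebraMap (Polynomial k) kt X) ⊗ₜ[k] (1 : K), ?_⟩⟩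
      · simp [ψ, ρ, RingHom.algebraMap_toAlgebra]
      · have hX : algebraMap (Polynomial K) Kt X = algebraMap kt Kt (algebraMap (Polynomial k) kt X) := by
          rw [hcompat, Polynomial.map_X]
        simp [ψ, ρ, hX, Algebra.TensorProduct.algebraMap_apply, Algebra.algebraMap_eq_smul_one (R := kt),
          TensorProduct.smul_tmul]
  have hfrac : ∀ x : L ⊗[kt] Kt, ∃ P : Polynomial K, P ≠ 0 ∧ x * ρ P ∈ ψ.toRingHom.range := by
    intro x
    induction x using TensorProduct.induction_on with
    | zero => exact ⟨1, one_ne_zero, by rw [zero_mul]; exact zero_mem _⟩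
    | add x y hx hy =>
      obtain ⟨P, hP, hxP⟩ := hx
      obtain ⟨Q, hQ, hyQ⟩ := hy
      refine ⟨P * Q, mul_ne_zero hP hQ, ?_⟩
      rw [map_mul, show (x + y) * (ρ P * ρ Q) = x * ρ P * ρ Q + y * ρ Q * ρ P by ring]
      exact add_mem (mul_mem hxP (hρ Q)) (mul_mem hyQ (hρ P))
    | tmul l y =>
      obtain ⟨p, q, hq, rfl⟩ := IsFractionRing.div_surjective (A := Polynomial K) y
      refine ⟨q, nonZeroDivisors.ne_zero hq, ?_⟩
      have hl : l ⊗ₜ[kt] (1 : Kt) = ψ (l ⊗ₜ[k] (1 : K)) := by simp [ψ]
      have hqK : algebraMap (Polynomial K) Kt q ≠ 0 := by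
        rw [Ne, map_eq_zero_iff _ (IsFractionRing.injective (Polynomial K) Kt)]; exact nonZeroDivisors.ne_zero hq
      have he : l ⊗ₜ[kt] (algebraMap (Polynomial K) Kt p / algebraMap (Polynomial K) Kt q) * ρ q =
          ψ (l ⊗ₜ[k] (1 : K)) * ρ p := by
        rw [← hl]
        simp only [ρ, RingHom.comp_apply, AlgHom.toRingHom_eq_coe, RingHom.coe_coe,
          Algebra.TensorProduct.includeRight_apply, Algebra.TensorProduct.tmul_mul_tmul, _root_.mul_one, one_mul,
          div_mul_cancel₀ _ hqK]
      rw [he]
      exact mul_mem ⟨_, rfl⟩ (hρ p)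
  have hunit : ∀ P : Polynomial K, P ≠ 0 → IsUnit (ρ P) := fun P hP =>
    (isUnit_iff_ne_zero.2 ((map_ne_zero_iff _ (IsFractionRing.injective (Polynomial K) Kt)).2 hP)).map
      (Algebra.TensorProduct.includeRight (R := kt) (A := L) (B := Kt))
  haveI : Nontrivial (L ⊗[kt] Kt) :=
    Algebra.TensorProduct.nontrivial_of_algebraMap_injective_of_flat_left (R := kt) (A := L) (B := Kt)
      (algebraMap kt Kt).injective
  have hI := PrimeSpectrum.irreducibleSpace_iff_isPrime_nilradical.1 (h L)
  refine PrimeSpectrum.irreducibleSpace_iff_isPrime_nilradical.2 ⟨?_, fun {x y} hxy => ?_⟩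
  · rw [Ne, Ideal.eq_top_iff_one, mem_nilradical]
    exact not_isNilpotent_one
  · obtain ⟨P, hP, a, ha⟩ := hfrac x
    obtain ⟨Q, hQ, b, hb⟩ := hfrac y
    have hab : a * b ∈ nilradical (L ⊗[k] K) := by
      rw [mem_nilradical] at hxy ⊢
      refine (IsNilpotent.map_iff (f := ψ.toRingHom) hψ).1 ?_
      rw [map_mul, ha, hb, show x * ρ P * (y * ρ Q) = (x * y) * (ρ P * ρ Q) by ring]
      exact (Commute.all _ _).isNilpotent_mul_right hxy
    simp only [mem_nilradical] at hab ⊢
    refine (hI.mem_or_mem (mem_nilradical.2 hab)).imp (fun h1 => ?_) fun h1 => ?_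
    · have h2 := (mem_nilradical.1 h1).map ψ.toRingHom
      rw [ha] at h2
      exact ((hunit P hP).isNilpotent_mul_unit_of_commute_iff (Commute.all _ _)).1 h2
    · have h2 := (mem_nilradical.1 h1).map ψ.toRingHom
      rw [hb] at h2
      exact ((hunit Q hQ).isNilpotent_mul_unit_of_commute_iff (Commute.all _ _)).1 h2

end

open TensorProduct in
/-- Let K/k be a field extension and let k(t) ⊆ K(t) be the purely transcendental extensions in one
variable, realised as fraction fields of k[t] and K[t] compatibly with k[t] → K[t]. Then K is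
geometrically irreducible over k (Spec(k' ⊗_k K) irreducible for every field extension k'/k) if and
only if K(t) is geometrically irreducible over k(t). Here the test fields range over field
extensions of k, respectively of k(t), in the universe of k; this is equivalent to the unrestricted
notions, since an algebraic closure of the base field suffices as a test. -/
theorem result {k K : Type u} [Field k] [Field K] [Algebra k K]
    (kt Kt : Type u) [Field kt] [Field Kt] [Algebra (Polynomial k) kt] [IsFractionRing (Polynomial k) kt] [Algebra (Polynomial K) Kt] [IsFractionRing (Polynomial K) Kt]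
    [Algebra kt Kt] (hcompat : ∀ p : Polynomial k, algebraMap kt Kt (algebraMap (Polynomial k) kt p) = algebraMap (Polynomial K) Kt (Polynomial.map (algebraMap k K) p)) :
    (∀ (k' : Type u) [Field k'] [Algebra k k'], IrreducibleSpace (PrimeSpectrum (k' ⊗[k] K))) ↔
      ∀ (L : Type u) [Field L] [Algebra kt L], IrreducibleSpace (PrimeSpectrum (L ⊗[kt] Kt)) := by
  constructor
  · intro h L _ _
    exact irreducible_of_gi kt Kt hcompat h L
  · intro h
    refine (Groth.Agent.S2150.result (k := k) (K := K)).2 fun a ha => ?_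
    exact mem_range_of_gi kt Kt hcompat ((Groth.Agent.S2150.result (k := kt) (K := Kt)).1 h) a ha

end Groth.Agent.S9657
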