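import Groth.Statements.S0411
import Mathlib
import Groth.Agent.PushLib.Transfer
-- import your own Groth.Agent.* helpers here

set_option autoImplicit false
universe u
open FlatMor

namespace Groth.Agent.S0411

open AlgebraicGeometry CategoryTheory Limits in
/-- For a separated, locally quasi-finite morphism (locally of finite type with discrete fibres) to an
affine scheme, every finite set of points of the source lies in an affine open. -/
theorem result {X Y : Scheme.{u}} (f : X ⟶ Y) [IsAffine Y] [IsSeparated f] [LocallyQuasiFinite f] [LocallyOfFiniteType f] (T : Finset ↑X) :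
    ∃ U : X.Opens, IsAffineOpen U ∧ ∀ x ∈ T, x ∈ U := by
  classical
  choose U hU hxU _h using fun x : X => exists_isAffineOpen_mem_and_subset (X := X) (x := x) (U := ⊤) trivial
  let O : X.Opens := ⨆ x : T, U x
  haveI : CompactSpace ↥(O : Set X) := isCompact_iff_compactSpace.1 (by
    rw [TopologicalSpace.Opens.coe_iSup]; exact isCompact_iUnion fun x : T => (hU x).isCompact)
  haveI : CompactSpace ↥O.toScheme := ‹CompactSpace ↥(O : Set X)›
  haveI : QuasiCompact (O.ι ≫ f) := HasAffineProperty.iff_of_isAffine.2 (by assumption)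
  let n := (O.ι ≫ f).toNormalization
  haveI : IsAffine (O.ι ≫ f).normalization := isAffine_of_isAffineHom (O.ι ≫ f).fromNormalization
  have hT : ∀ x ∈ T, x ∈ O := fun x hx => TopologicalSpace.Opens.mem_iSup.2 ⟨⟨x, hx⟩, hxU x⟩
  let F : Set (O.ι ≫ f).normalization := Set.range fun x : T => n ⟨x, hT x x.2⟩
  obtain ⟨r, hr, hF⟩ := PushLib.exists_basicOpen_finite (isAffineOpen_top (O.ι ≫ f).normalization) F
    (Set.finite_range _) n.opensRange (Set.subset_univ _) (by rintro _ ⟨x, rfl⟩; exact ⟨_, rfl⟩)
  have haff : IsAffineOpen (n ⁻¹ᵁ (O.ι ≫ f).normalization.basicOpen r) :=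
    ((isAffineOpen_top _).basicOpen r).preimage_of_isOpenImmersion n hr
  exact ⟨O.ι ''ᵁ (n ⁻¹ᵁ (O.ι ≫ f).normalization.basicOpen r), haff.image_of_isOpenImmersion O.ι,
    fun x hx => ⟨⟨x, hT x hx⟩, hF ⟨⟨x, hx⟩, rfl⟩, rfl⟩⟩

end Groth.Agent.S0411
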