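import Groth.Statements.S9716
import Groth.Agent.S1063
-- import your own Groth.Agent.* helpers here

set_option autoImplicit false
universe u
open CategoryTheory AlgebraicGeometry
open Mor

namespace Groth.Agent.S9716

/-- (1) ⇔ (2): a morphism f : X ⟶ S is affine with direct image f_*O_X a finite locally free O_S-module
(locally on S isomorphic to a finite direct sum of copies of the structure sheaf, of possibly
varying rank) if and only if f is finite, flat and locally of finite presentation. -/
theorem result {X S : Scheme.{u}} (f : X ⟶ S) :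
    (IsAffineHom f ∧ FlatMod.IsFinLocFree ((Scheme.Modules.pushforward f).obj (Coh.structureModule X))) ↔
      Mor2.IsFinLocFree f := by
  refine ⟨fun ⟨h₁, h₂⟩ => ?_, fun h => ⟨haveI := h.1; inferInstance,
    Groth.Agent.S1063.isFinLocFree_pf f h (Groth.Agent.S1063.isFinLocFree_structureModule X)⟩⟩
  haveI := h₁
  haveI : Coh.IsQCoh ((Scheme.Modules.pushforward f).obj (Coh.structureModule X)) :=
    FinLFAnn.isQCoh_of_isFinLocFree h₂
  have key : ∀ V : S.Opens, IsAffineOpen V →
      (f.app V).hom.Finite ∧ (f.app V).hom.Flat ∧ (f.app V).hom.FinitePresentation := by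
    intro V hV
    obtain ⟨hfin, hproj⟩ := Groth.Agent.S1177.finProj_affine (𝟙 S) _
      (KFlatLib.isFinLocFree_pull (𝟙 S) h₂) hV
    letI : Algebra Γ(S, V) Γ(X, f ⁻¹ᵁ V) := (f.app V).hom.toAlgebra
    let e : Γ((Scheme.Modules.pushforward f).obj (Coh.structureModule X), V) ≃ₗ[Γ(S, V)] Γ(X, f ⁻¹ᵁ V) :=
      { toFun := fun s => s
        invFun := fun s => s
        map_add' := fun _ _ => rfl
        map_smul' := fun r s => by
          rw [RingHom.id_apply, Algebra.smul_def, RingHom.algebraMap_toAlgebra]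
          rfl
        left_inv := fun _ => rfl
        right_inv := fun _ => rfl }
    haveI : Module.Finite Γ(S, V) Γ(X, f ⁻¹ᵁ V) := Module.Finite.equiv e
    haveI : Module.Projective Γ(S, V) Γ(X, f ⁻¹ᵁ V) := Module.Projective.of_equiv e
    haveI : Module.FinitePresentation Γ(S, V) Γ(X, f ⁻¹ᵁ V) := Module.finitePresentation_of_projective _ _
    exact ⟨(inferInstance : Module.Finite Γ(S, V) Γ(X, f ⁻¹ᵁ V)),
      (inferInstance : Module.Flat Γ(S, V) Γ(X, f ⁻¹ᵁ V)), Algebra.FinitePresentation.of_finitePresentation Γ(S, V) Γ(X, f ⁻¹ᵁ V)⟩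
  have hle : ∀ (V : S.Opens) (U : X.Opens) (e : U ≤ f ⁻¹ᵁ V),
      f.appLE V U e = f.app V ≫ (𝟙 X : X ⟶ X).appLE (f ⁻¹ᵁ V) U e := fun V U e => by
    simp [Scheme.Hom.appLE]
    exact congrArg (f.app V ≫ ·) (Category.id_comp _).symm
  refine ⟨{ finite_app := fun V hV => (key V hV).1 }, ?_, ?_⟩
  · rw [HasRingHomProperty.iff_appLE (P := @Flat)]
    intro V U e
    rw [hle, CommRingCat.hom_comp]
    exact RingHom.Flat.comp (key V.1 V.2).2.1 (HasRingHomProperty.appLE (P := @Flat) (f := 𝟙 X) inferInstance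
      ⟨_, V.2.preimage f⟩ U e)
  · rw [HasRingHomProperty.iff_appLE (P := @LocallyOfFinitePresentation)]
    intro V U e
    rw [hle, CommRingCat.hom_comp]
    exact RingHom.FinitePresentation.comp (HasRingHomProperty.appLE (P := @LocallyOfFinitePresentation)
      (f := 𝟙 X) inferInstance ⟨_, V.2.preimage f⟩ U e) (key V.1 V.2).2.2

end Groth.Agent.S9716
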