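import Groth.Statements.S8414
import Groth.Agent.AVAmpleLib.ReducedSub
import Groth.Agent.AntiAffLib.Image
import Groth.Agent.TransporterLib.Factor
import Groth.Agent.GrpSchLib.Cartier
import Groth.Agent.CartanMultLib.Central
import Groth.Agent.SubDescLib.Main
import Groth.Agent.BorelLib.CentralPreimageRel
import Groth.Agent.GrpPatchLib.Fibre
import Groth.Agent.PowEtCentralLib.Split
import Groth.Agent.AlgSpLib.ReducedSmooth

set_option autoImplicit false
set_option backward.isDefEq.respectTransparency false
set_option backward.isDefEq.respectTransparency.types false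
set_option maxHeartbeats 1000000
set_option synthInstance.maxHeartbeats 400000
universe u
open CategoryTheory MonoidalCategory CartesianMonoidalCategory MonObj GrpObj AlgebraicGeometry
open SGA3x CategoryTheory.Limits

attribute [-instance] CategoryTheory.Hom.commGroup
set_option backward.isDefEq.respectTransparency false
namespace Groth.Agent.S8414

theorem exists_grpObj_pullback {S : Scheme.{u}} {G G' H' N : Over S} [GrpObj G] [GrpObj G'] [GrpObj H'] {u : G ⟶ G'}
    [IsMonHom u] {h' : H' ⟶ G'} [IsMonHom h'] [Mono h'] {p : N ⟶ H'} {n : N ⟶ G} (hN : IsPullback p n h' u) :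
    ∃ _ : GrpObj N, IsMonHom n := by
  haveI : Mono n := ⟨fun {Z} a b e => hN.hom_ext (by
    rw [← cancel_mono h', Category.assoc, Category.assoc, hN.w, ← Category.assoc, ← Category.assoc, e]) e⟩
  have hw : ∀ {W : Over S} (a : W ⟶ N), (a ≫ n) ≫ u = (a ≫ p) ≫ h' := fun a => by
    rw [Category.assoc, Category.assoc, hN.w]
  exact SubDesc.exists_grpObj_of_mono n
    ⟨hN.lift ((fst N N ≫ p) * (snd N N ≫ p)) ((fst N N ≫ n) * (snd N N ≫ n))
      (by simp only [MonObj.mul_comp, hw]), hN.lift_snd _ _ _⟩
    ⟨hN.lift 1 1 (by simp only [MonObj.one_comp]), hN.lift_snd _ _ _⟩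
    ⟨hN.lift p⁻¹ n⁻¹ (by simp only [GrpObj.inv_comp, hN.w]), hN.lift_snd _ _ _⟩

section field

variable {k : Type u} [Field k] [IsAlgClosed k] {G G' H' C N : Over (Spec (CommRingCat.of k))}
  [GrpObj G] [GrpObj G'] [GrpObj H']

theorem exists_grpObj {u : G ⟶ G'} [IsMonHom u] {h' : H' ⟶ G'} [IsMonHom h'] [Mono h'] {p : N ⟶ H'} {n : N ⟶ G}
    (hN : IsPullback p n h' u) : ∃ _ : GrpObj N, IsMonHom n ∧ IsMonHom p := by
  obtain ⟨hg, hn⟩ := exists_grpObj_pullback hN
  haveI := hn
  haveI : IsMonHom (p ≫ h') := hN.w ▸ inferInstance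
  exact ⟨hg, hn, DiagRep.isMonHom_of_comp_mono p h'⟩

variable {u : G ⟶ G'} [IsMonHom u] {h' : H' ⟶ G'} [IsMonHom h'] [Mono h'] {p : N ⟶ H'} {n : N ⟶ G} {j : C ⟶ N}
  [LocallyOfFiniteType N.hom] [LocallyOfFiniteType H'.hom]

/-- The preimage of a smooth subgroup is smooth if it contains a smooth scheme containing the kernel. -/
theorem smooth_field [Surjective u.left] [QuasiCompact N.hom] [Smooth C.hom] [Smooth H'.hom] (hN : IsPullback p n h' u)
    (hker : ∀ {W : Over (Spec (CommRingCat.of k))} (z : W ⟶ G), z ≫ u = 1 → ∃ l : W ⟶ C, l ≫ j ≫ n = z) :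
    Smooth N.hom := by
  obtain ⟨hg, hn, hp⟩ := exists_grpObj hN
  letI := hg; haveI := hn; haveI := hp
  haveI : Mono n := ⟨fun {Z} a b e => hN.hom_ext (by
    rw [← cancel_mono h', Category.assoc, Category.assoc, hN.w, ← Category.assoc, ← Category.assoc, e]) e⟩
  obtain ⟨R, hR, i, hi, hic, hred, hlft, hrange⟩ :=
    AVAmpleLib.exists_reduced_subgroup (A := N) (Set.univ) trivial (fun _ _ _ _ => trivial) fun _ _ => trivial
  haveI := hi; haveI := hic; haveI := hred; haveI := hlft
  haveI : Surjective i.left := by
    refine ⟨Set.range_eq_univ.1 (Set.univ_subset_iff.1 ?_)⟩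
    rw [hrange]
    exact (Set.range_id (α := N.left)).ge.trans (AVAmpleLib.range_subset_of_points (A := N) (𝟙 N) isClosed_closure
      fun z => subset_closure ⟨z ≫ 𝟙 N, trivial, rfl⟩)
  haveI : Surjective p.left := MorphismProperty.of_isPullback (hN.map (Over.forget _)).flip ‹Surjective u.left›
  haveI : Surjective (i ≫ p).left := by rw [Over.comp_left]; infer_instance
  haveI : IsReduced H'.left := AlgSpLib.isReduced_of_smooth H'.hom
  haveI : IsReduced C.left := AlgSpLib.isReduced_of_smooth C.hom
  haveI : QuasiCompact R.hom := by rw [← Over.w i]; infer_instance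
  haveI hflat := AntiAffLib.flat_of_surjective (i ≫ p)
  have hW := IsPullback.of_hasPullback p (i ≫ p)
  have hW' := hW.map (Over.forget (Spec (CommRingCat.of k)))
  haveI : Flat (pullback.fst p (i ≫ p)).left := MorphismProperty.of_isPullback hW'.flip hflat
  haveI : Surjective (pullback.fst p (i ≫ p)).left :=
    MorphismProperty.of_isPullback hW'.flip ‹Surjective (i ≫ p).left›
  set a := pullback.fst p (i ≫ p) with ha
  set b := pullback.snd p (i ≫ p) with hb
  have hab : a ≫ p = b ≫ i ≫ p := pullback.condition
  obtain ⟨l, hl⟩ := hker ((a * (b ≫ i)⁻¹) ≫ n) (by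
    rw [Category.assoc, ← hN.w, ← Category.assoc, MonObj.mul_comp, GrpObj.inv_comp, hab, Category.assoc,
      mul_inv_cancel, MonObj.one_comp])
  rw [← Category.assoc, cancel_mono] at hl
  obtain ⟨j', hj'⟩ := AVAmpleLib.exists_lift_of_reduced i.left j.left
    (by rw [i.left.surjective.range_eq]; exact Set.subset_univ _)
  let jj : C ⟶ R := Over.homMk j' (by rw [← Over.w i, ← Category.assoc, hj']; exact Over.w j)
  have hjj : jj ≫ i = j := Over.OverMorphism.ext hj'
  have hfac : ((l ≫ jj) * b) ≫ i = a := by
    rw [MonObj.mul_comp, Category.assoc, hjj, hl, inv_mul_cancel_right]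
  haveI := Transporter.isIso_of_factor i.left a.left ((l ≫ jj) * b).left (by rw [← Over.comp_left, hfac])
  haveI : IsReduced N.left := isReduced_of_isOpenImmersion (CategoryTheory.inv i.left)
  exact GrpSchLib.smooth_of_isAlgClosed_of_isReduced N

/-- The preimage of a connected subgroup is connected if it contains a connected scheme containing the kernel. -/
theorem connected_field [Flat u.left] [Surjective u.left] [LocallyOfFinitePresentation p.left] [ConnectedSpace C.left]
    [ConnectedSpace H'.left] (hN : IsPullback p n h' u)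
    (hker : ∀ {W : Over (Spec (CommRingCat.of k))} (z : W ⟶ G), z ≫ u = 1 → ∃ l : W ⟶ C, l ≫ j ≫ n = z) :
    ConnectedSpace N.left := by
  obtain ⟨hg, hn, hp⟩ := exists_grpObj hN
  letI := hg; haveI := hn; haveI := hp
  haveI : Mono n := ⟨fun {Z} a b e => hN.hom_ext (by
    rw [← cancel_mono h', Category.assoc, Category.assoc, hN.w, ← Category.assoc, ← Category.assoc, e]) e⟩
  haveI : Surjective p.left := MorphismProperty.of_isPullback (hN.map (Over.forget _)).flip ‹Surjective u.left›
  haveI : Flat p.left := MorphismProperty.of_isPullback (hN.map (Over.forget _)).flip ‹Flat u.left›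
  haveI : JacobsonSpace N.left := LocallyOfFiniteType.jacobsonSpace N.hom
  haveI : JacobsonSpace H'.left := LocallyOfFiniteType.jacobsonSpace H'.hom
  have hopen : IsOpenMap p.left.base := p.left.isOpenMap
  have hsame : ∀ x y : N.left, IsClosed ({x} : Set N.left) → IsClosed ({y} : Set N.left) → p.left x = p.left y →
      ∀ A : Set N.left, IsClopen A → x ∈ A → y ∈ A := by
    intro x y hx hy hxy A hA hxA
    let X : 𝟙_ (Over (Spec (CommRingCat.of k))) ⟶ N :=
      Over.homMk (pointOfClosedPoint N.hom x hx) (pointOfClosedPoint_comp _ _ _)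
    let Y : 𝟙_ (Over (Spec (CommRingCat.of k))) ⟶ N :=
      Over.homMk (pointOfClosedPoint N.hom y hy) (pointOfClosedPoint_comp _ _ _)
    have hX : X.left (IsLocalRing.closedPoint k) = x := by simp [X]
    have hY : Y.left (IsLocalRing.closedPoint k) = y := by simp [Y]
    have hXY : X ≫ p = Y ≫ p := by
      refine Over.OverMorphism.ext (ext_of_apply_closedPoint_eq H'.hom (Over.w _) (Over.w _) ?_)
      rw [Over.comp_left, Over.comp_left, Scheme.Hom.comp_apply, Scheme.Hom.comp_apply]
      exact (congrArg p.left.base hX).trans (hxy.trans (congrArg p.left.base hY).symm)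
    obtain ⟨l, hl⟩ := hker ((X⁻¹ * Y) ≫ n) (by
      rw [Category.assoc, ← hN.w, ← Category.assoc, MonObj.mul_comp, GrpObj.inv_comp, hXY, inv_mul_cancel,
        MonObj.one_comp])
    rw [← Category.assoc, cancel_mono] at hl
    obtain ⟨l₁, hl₁⟩ := hker (W := 𝟙_ _) 1 (MonObj.one_comp u)
    have hl₁' : l₁ ≫ j = 1 := by rw [← cancel_mono n, Category.assoc, hl₁, MonObj.one_comp]
    let g : C ⟶ N := (toUnit C ≫ X) * j
    have hg : ∀ c : 𝟙_ (Over (Spec (CommRingCat.of k))) ⟶ C, c ≫ g = X * (c ≫ j) := fun c => by
      rw [MonObj.comp_mul, ← Category.assoc, Subsingleton.elim (c ≫ toUnit C) (𝟙 _), Category.id_comp]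
    have hsub : Set.range g.left ⊆ A := by
      refine (isPreconnected_range g.left.continuous).subset_isClopen hA ⟨x, ?_, hxA⟩
      refine ⟨l₁.left (IsLocalRing.closedPoint k), ?_⟩
      rw [← Scheme.Hom.comp_apply, ← Over.comp_left, hg, hl₁', _root_.mul_one]
      exact hX
    refine hsub ⟨l.left (IsLocalRing.closedPoint k), ?_⟩
    rw [← Scheme.Hom.comp_apply, ← Over.comp_left, hg, hl, mul_inv_cancel_left]
    exact hY
  have hne : Nonempty N.left := ⟨(η[N] : 𝟙_ (Over (Spec (CommRingCat.of k))) ⟶ N).left (IsLocalRing.closedPoint k)⟩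
  haveI := hne
  refine connectedSpace_iff_clopen.2 ⟨hne, fun A hA => ?_⟩
  by_contra h
  rw [not_or] at h
  have hdisj : Disjoint (p.left.base '' A) (p.left.base '' Aᶜ) := by
    rw [Set.disjoint_iff]
    rintro z ⟨hz₁, hz₂⟩
    obtain ⟨w, hw, hwc⟩ := nonempty_inter_closedPoints (X := H'.left)
      (Z := p.left.base '' A ∩ p.left.base '' Aᶜ) ⟨z, hz₁, hz₂⟩
      (((hopen _ hA.2).inter (hopen _ hA.compl.2)).isLocallyClosed)
    have key : ∀ B : Set N.left, IsOpen B → w ∈ p.left.base '' B →
        ∃ x, IsClosed ({x} : Set N.left) ∧ x ∈ B ∧ p.left x = w := by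
      rintro B hB ⟨x, hxB, hxw⟩
      obtain ⟨y, ⟨hy₁, hy₂⟩, hyc⟩ := nonempty_inter_closedPoints (X := N.left) (Z := B ∩ p.left.base ⁻¹' {w})
        ⟨x, hxB, hxw⟩ (hB.isLocallyClosed.inter (hwc.preimage p.left.continuous).isLocallyClosed)
      exact ⟨y, hyc, hy₁, hy₂⟩
    obtain ⟨x, hxc, hxA, hxw⟩ := key A hA.2 hw.1
    obtain ⟨y, hyc, hyA, hyw⟩ := key Aᶜ hA.compl.2 hw.2
    exact hyA (hsame x y hxc hyc (hxw.trans hyw.symm) A hA hxA)
  have hcompl : (p.left.base '' A)ᶜ = p.left.base '' Aᶜ := by
    refine subset_antisymm (fun z hz => ?_) hdisj.subset_compl_left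
    obtain ⟨x, rfl⟩ := p.left.surjective z
    exact ⟨x, fun hx => hz ⟨x, hx, rfl⟩, rfl⟩
  rcases isClopen_iff.1 (show IsClopen (p.left.base '' A) from
      ⟨isOpen_compl_iff.1 (hcompl ▸ hopen _ hA.compl.2), hopen _ hA.2⟩) with e | e
  · exact h.1 (Set.image_eq_empty.1 e)
  · rw [e, Set.compl_univ] at hcompl
    exact h.2 (Set.compl_empty_iff.1 (Set.image_eq_empty.1 hcompl.symm))

end field



/-- Let G, G′ be S-group schemes flat and of finite presentation over S, u : G → G′ a homomorphism which
is faithfully flat, and C′ a subgroup scheme of G′ of finite presentation over S whose inverse image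
C = u⁻¹(C′) is smooth over S (resp. has connected fibres). Then for every subgroup scheme H′ of G′
of finite presentation over S containing C′ and smooth over S (resp. with connected fibres), the
inverse image u⁻¹(H′) is smooth over S (resp. has connected fibres). -/
theorem result (S : Scheme.{u}) (G G' : Over S) [GrpObj G] [GrpObj G']
    [Flat G.hom] [QuasiCompact G.hom] [QuasiSeparated G.hom] [LocallyOfFinitePresentation G.hom]
    [Flat G'.hom] [QuasiCompact G'.hom] [QuasiSeparated G'.hom] [LocallyOfFinitePresentation G'.hom]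
    (u : G ⟶ G') [IsMonHom u] [Flat u.left] [Surjective u.left]
    (C' : Over S) [GrpObj C'] (c' : C' ⟶ G') [IsMonHom c'] [Mono c']
    [QuasiCompact C'.hom] [QuasiSeparated C'.hom] [LocallyOfFinitePresentation C'.hom]
    (H' : Over S) [GrpObj H'] (h' : H' ⟶ G') [IsMonHom h'] [Mono h']
    [QuasiCompact H'.hom] [QuasiSeparated H'.hom] [LocallyOfFinitePresentation H'.hom]
    (hle : ∃ f : C' ⟶ H', f ≫ h' = c') :
    (Smooth (Limits.pullback c' u).hom → Smooth H'.hom → Smooth (Limits.pullback h' u).hom) ∧
    ((∀ s : S, _root_.IsConnected ((Limits.pullback c' u).hom.base ⁻¹' {s})) →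
      (∀ s : S, _root_.IsConnected (H'.hom.base ⁻¹' {s})) →
      ∀ s : S, _root_.IsConnected ((Limits.pullback h' u).hom.base ⁻¹' {s})) := by
  classical
  obtain ⟨f, hf⟩ := hle
  have hN := IsPullback.of_hasPullback h' u
  have hC := IsPullback.of_hasPullback c' u
  let j : Limits.pullback c' u ⟶ Limits.pullback h' u :=
    hN.lift (pullback.fst c' u ≫ f) (pullback.snd c' u) (by rw [Category.assoc, hf]; exact pullback.condition)
  have hj : j ≫ pullback.snd h' u = pullback.snd c' u := hN.lift_snd _ _ _
  haveI : LocallyOfFinitePresentation h'.left := by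
    haveI : LocallyOfFinitePresentation (h'.left ≫ G'.hom) := by rw [Over.w]; infer_instance
    exact AlgSpLib.lfp_of_comp_lft _ G'.hom
  haveI : QuasiCompact h'.left := by
    haveI : QuasiCompact (h'.left ≫ G'.hom) := by rw [Over.w]; infer_instance
    exact QuasiCompact.of_comp h'.left G'.hom
  have hN' := hN.map (Over.forget S)
  haveI : LocallyOfFinitePresentation (pullback.snd h' u).left :=
    MorphismProperty.of_isPullback hN' ‹LocallyOfFinitePresentation h'.left›
  haveI : QuasiCompact (pullback.snd h' u).left := MorphismProperty.of_isPullback hN' ‹QuasiCompact h'.left›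
  haveI : LocallyOfFinitePresentation (Limits.pullback h' u).hom := by
    rw [← Over.w (pullback.snd h' u)]; infer_instance
  haveI : QuasiCompact (Limits.pullback h' u).hom := by
    rw [← Over.w (pullback.snd h' u)]; infer_instance
  haveI : LocallyOfFinitePresentation u.left := by
    haveI : LocallyOfFinitePresentation (u.left ≫ G'.hom) := by rw [Over.w]; infer_instance
    exact AlgSpLib.lfp_of_comp_lft _ G'.hom
  haveI : Flat (pullback.fst h' u).left := MorphismProperty.of_isPullback hN'.flip ‹Flat u.left›
  haveI : LocallyOfFinitePresentation (pullback.fst h' u).left :=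
    MorphismProperty.of_isPullback hN'.flip ‹LocallyOfFinitePresentation u.left›
  -- transport of the data to a geometric fibre
  have hbc : ∀ s : S,
      (Surjective (((Over.pullback (Red.geomPt s)).map u).left) ∧ Flat (((Over.pullback (Red.geomPt s)).map u).left)) ∧
      (LocallyOfFinitePresentation ((Over.pullback (Red.geomPt s)).map (pullback.fst h' u)).left) ∧
      ∀ {W : Over (Spec (CommRingCat.of (AlgebraicClosure (S.residueField s))))} (z : W ⟶ Red.bc (Red.geomPt s) G),
        (haveI := GrpPatchLib.isMonHom_bc_map (Red.geomPt s) u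
         z ≫ (Over.pullback (Red.geomPt s)).map u = (1 : W ⟶ Red.bc (Red.geomPt s) G')) →
        ∃ l : W ⟶ (Over.pullback (Red.geomPt s)).obj (Limits.pullback c' u),
          l ≫ (Over.pullback (Red.geomPt s)).map j ≫ (Over.pullback (Red.geomPt s)).map (pullback.snd h' u) = z := by
    intro s
    let t := Red.geomPt s
    have hsq := PowEtCentralLib.isPullback_map_left t u
    have hsq' := PowEtCentralLib.isPullback_map_left t (pullback.fst h' u)
    refine ⟨⟨MorphismProperty.of_isPullback hsq ‹Surjective u.left›, MorphismProperty.of_isPullback hsq ‹Flat u.left›⟩,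
      MorphismProperty.of_isPullback hsq' ‹LocallyOfFinitePresentation (pullback.fst h' u).left›, ?_⟩
    intro W z hz
    haveI := GrpPatchLib.isMonHom_bc_map t c'
    have hC' := hC.map (Over.pullback t)
    refine ⟨hC'.lift (1 : W ⟶ Red.bc t C') z ((MonObj.one_comp ((Over.pullback t).map c' :
      Red.bc t C' ⟶ Red.bc t G')).trans hz.symm), ?_⟩
    rw [← Functor.map_comp, hj]
    exact hC'.lift_snd _ _ _
  refine ⟨fun hCs hHs => ?_, fun hCc hHc s => ?_⟩
  · haveI := hHs
    haveI : Flat (Limits.pullback h' u).hom := by rw [← Over.w (pullback.fst h' u)]; infer_instance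
    refine BorelLib.CentPre.smooth_of_geom_fibres _ fun s => ?_
    let t := Red.geomPt s
    obtain ⟨⟨hs, -⟩, -, hker⟩ := hbc s
    haveI : LocallyOfFiniteType ((Over.pullback t).obj (Limits.pullback h' u)).hom :=
      MorphismProperty.pullback_snd _ _ inferInstance
    haveI : QuasiCompact ((Over.pullback t).obj (Limits.pullback h' u)).hom :=
      MorphismProperty.pullback_snd _ _ inferInstance
    haveI := GrpPatchLib.isMonHom_bc_map t u
    haveI := GrpPatchLib.isMonHom_bc_map t h'
    haveI : Mono ((Over.pullback t).map h') := GrpPatchLib.mono_bc t h'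
    haveI : Surjective ((Over.pullback t).map u).left := hs
    haveI : Smooth ((Over.pullback t).obj (Limits.pullback c' u)).hom := MorphismProperty.pullback_snd _ _ hCs
    haveI : Smooth (Red.bc t H').hom := MorphismProperty.pullback_snd _ _ hHs
    exact smooth_field (G := Red.bc t G) (G' := Red.bc t G') (H' := Red.bc t H')
      (N := (Over.pullback t).obj (Limits.pullback h' u)) (C := (Over.pullback t).obj (Limits.pullback c' u))
      (u := (Over.pullback t).map u) (h' := (Over.pullback t).map h') (j := (Over.pullback t).map j)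
      (hN.map (Over.pullback t)) hker
  · let t := Red.geomPt s
    obtain ⟨⟨hs, hfl⟩, hlfp, hker⟩ := hbc s
    haveI : LocallyOfFiniteType ((Over.pullback t).obj (Limits.pullback h' u)).hom :=
      MorphismProperty.pullback_snd _ _ inferInstance
    haveI : LocallyOfFiniteType (Red.bc t H').hom := MorphismProperty.pullback_snd _ _ inferInstance
    haveI := GrpPatchLib.isMonHom_bc_map t u
    haveI := GrpPatchLib.isMonHom_bc_map t h'
    haveI : Mono ((Over.pullback t).map h') := GrpPatchLib.mono_bc t h'
    haveI : Surjective ((Over.pullback t).map u).left := hs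
    haveI : Flat ((Over.pullback t).map u).left := hfl
    haveI := hlfp
    haveI : ConnectedSpace ((Over.pullback t).obj (Limits.pullback c' u)).left := by
      obtain ⟨_, _⟩ := exists_grpObj_pullback (u := u) hC
      haveI : LocallyOfFinitePresentation c'.left := by
        haveI : LocallyOfFinitePresentation (c'.left ≫ G'.hom) := by rw [Over.w]; infer_instance
        exact AlgSpLib.lfp_of_comp_lft _ G'.hom
      haveI : LocallyOfFinitePresentation (pullback.snd c' u).left :=
        MorphismProperty.of_isPullback (hC.map (Over.forget S)) ‹LocallyOfFinitePresentation c'.left›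
      haveI : LocallyOfFiniteType (Limits.pullback c' u).hom := by
        rw [← Over.w (pullback.snd c' u)]; infer_instance
      exact CartanMult.connectedSpace_geomFibre _ s (hCc s)
    haveI : ConnectedSpace (Red.bc t H').left := CartanMult.connectedSpace_geomFibre H' s (hHc s)
    have h := connected_field (G := Red.bc t G) (G' := Red.bc t G') (H' := Red.bc t H')
      (N := (Over.pullback t).obj (Limits.pullback h' u)) (C := (Over.pullback t).obj (Limits.pullback c' u))
      (u := (Over.pullback t).map u) (h' := (Over.pullback t).map h') (j := (Over.pullback t).map j)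
      (hN.map (Over.pullback t)) hker
    haveI : ConnectedSpace ↥(pullback (Limits.pullback h' u).hom t) := h
    have e : (Limits.pullback h' u).hom.base ⁻¹' {s} = Set.range (pullback.fst (Limits.pullback h' u).hom t) := by
      rw [Scheme.Pullback.range_fst]
      refine congrArg _ (Eq.symm ?_)
      ext y
      constructor
      · rintro ⟨z, rfl⟩
        rw [Set.mem_singleton_iff, Scheme.Hom.comp_apply]
        exact Scheme.fromSpecResidueField_apply _ _
      · rintro rfl
        refine ⟨IsLocalRing.closedPoint _, ?_⟩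
        rw [Scheme.Hom.comp_apply]
        exact Scheme.fromSpecResidueField_apply _ _
    rw [e]
    exact isConnected_range (pullback.fst (Limits.pullback h' u).hom t).continuous

end Groth.Agent.S8414
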