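import Groth.Statements.S0064
import Mathlib

-- import your own Groth.Agent.* helpers here

set_option autoImplicit false
open CategoryTheory CategoryTheory.Limits AlgebraicGeometry Opposite
universe u
open EtBase

namespace Groth.Agent.S0064

open CategoryTheory Limits AlgebraicGeometry IsLocalRing Topology

theorem locallyQuasiFinite_of_unramified {A B : Scheme.{u}} (f : A ⟶ B) [FormallyUnramified f] [LocallyOfFiniteType f] :
    LocallyQuasiFinite f := by
  rw [HasRingHomProperty.iff_appLE (P := @LocallyQuasiFinite)]
  intro U V e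
  have h1 : (f.appLE U V e).hom.FormallyUnramified := HasRingHomProperty.appLE (P := @FormallyUnramified) f inferInstance U V e
  have h2 : (f.appLE U V e).hom.FiniteType := HasRingHomProperty.appLE (P := @LocallyOfFiniteType) f inferInstance U V e
  algebraize [(f.appLE U V e).hom]
  exact (inferInstance : Algebra.QuasiFinite Γ(B, U) Γ(A, V))

theorem finite_sections (K : Type u) [Field K] {W : Scheme.{u}} (q : W ⟶ Spec (.of K)) [FormallyUnramified q]
    [LocallyOfFiniteType q] [QuasiCompact q] : Finite {a : Spec (.of K) ⟶ W // a ≫ q = 𝟙 _} := by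
  haveI := locallyQuasiFinite_of_unramified q
  haveI : Finite W := Set.finite_univ_iff.1 (by simpa using q.finite_preimage (s := Set.univ) (Set.toFinite _))
  refine Finite.of_injective (fun a => (Scheme.SpecToEquivOfField K W a.1).1) fun a b hab => Subtype.ext ?_
  obtain ⟨⟨x, φ⟩, ha⟩ : ∃ t, Scheme.SpecToEquivOfField K W a.1 = t := ⟨_, rfl⟩
  obtain ⟨⟨x', φ'⟩, hb⟩ : ∃ t, Scheme.SpecToEquivOfField K W b.1 = t := ⟨_, rfl⟩
  simp only [ha, hb] at hab
  obtain rfl : x = x' := hab
  have ea : a.1 = Spec.map φ ≫ W.fromSpecResidueField x := by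
    rw [← (Scheme.SpecToEquivOfField K W).symm_apply_apply a.1, ha]; rfl
  have eb : b.1 = Spec.map φ' ≫ W.fromSpecResidueField x := by
    rw [← (Scheme.SpecToEquivOfField K W).symm_apply_apply b.1, hb]; rfl
  obtain ⟨i, hi⟩ : ∃ i, Spec.map i = W.fromSpecResidueField x ≫ q := ⟨_, Spec.map_preimage _⟩
  have h1 : i ≫ φ = 𝟙 _ := by rw [← Spec.map_inj, Spec.map_comp, hi, ← Category.assoc, ← ea, a.2, Spec.map_id]
  have h2 : i ≫ φ' = 𝟙 _ := by rw [← Spec.map_inj, Spec.map_comp, hi, ← Category.assoc, ← eb, b.2, Spec.map_id]
  rw [ea, eb]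
  congr 1
  congr 1
  ext z
  have hz : z = i (φ z) := φ.hom.injective (congrArg (fun g => g.hom (φ z)) h1).symm
  conv_rhs => rw [hz]
  exact (congrArg (fun g => g.hom (φ z)) h2).symm

theorem finite_lifts {X S : Scheme.{u}} (π : X ⟶ S) [FormallyUnramified π] [LocallyOfFiniteType π] [QuasiCompact π]
    (K : Type u) [Field K] (g : Spec (.of K) ⟶ S) : Finite {a : Spec (.of K) ⟶ X // a ≫ π = g} := by
  haveI : FormallyUnramified (pullback.snd π g) := MorphismProperty.pullback_snd _ _ inferInstance
  haveI := finite_sections K (pullback.snd π g)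
  refine Finite.of_surjective (fun s : {a : Spec (.of K) ⟶ pullback π g // a ≫ pullback.snd π g = 𝟙 _} =>
    (⟨s.1 ≫ pullback.fst π g, by rw [Category.assoc, pullback.condition, ← Category.assoc, s.2, Category.id_comp]⟩ : {a : Spec (.of K) ⟶ X // a ≫ π = g})) ?_
  rintro ⟨a, ha⟩
  exact ⟨⟨pullback.lift a (𝟙 _) (by rw [ha, Category.id_comp]), pullback.lift_snd _ _ _⟩, Subtype.ext (pullback.lift_fst _ _ _)⟩



/-- Let S be a Noetherian scheme, X → S a quasi-compact, separated, unramified morphism (formally
unramified and locally of finite type), and Y a Noetherian scheme with a morphism Y → S. Then there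
are only finitely many S-morphisms Y → X. The published statement does not assume X → S separated;
it is stated here in the separated case. -/
theorem result {X S Y : Scheme.{u}} [IsNoetherian S] [IsNoetherian Y]
    (π : X ⟶ S) [FormallyUnramified π] [LocallyOfFiniteType π] [QuasiCompact π] [IsSeparated π]
    (h : Y ⟶ S) : Set.Finite {f : Y ⟶ X | f ≫ π = h} := by
  haveI : Finite (genericPoints Y) :=
    (genericPoints.finite TopologicalSpace.NoetherianSpace.finite_irreducibleComponents).to_subtype
  haveI : ∀ y : genericPoints Y, Finite {a : Spec (Y.residueField y.1) ⟶ X // a ≫ π = Y.fromSpecResidueField y.1 ≫ h} :=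
    fun y => finite_lifts π (Y.residueField y.1) _
  rw [← Set.finite_coe_iff]
  refine Finite.of_injective (β := ∀ y : genericPoints Y, {a : Spec (Y.residueField y.1) ⟶ X // a ≫ π = Y.fromSpecResidueField y.1 ≫ h})
    (fun f y => ⟨Y.fromSpecResidueField y.1 ≫ f.1, by rw [Category.assoc]; exact congrArg _ f.2⟩) ?_
  rintro ⟨f, hf⟩ ⟨g, hg⟩ hfg
  apply Subtype.ext
  change f ≫ π = h at hf
  change g ≫ π = h at hg
  let L : Y ⟶ pullback π π := pullback.lift f g (hf.trans hg.symm)
  have hsub : Set.range L ⊆ Set.range (pullback.diagonal π) := by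
    have hcl : IsClosed (L ⁻¹' Set.range (pullback.diagonal π)) := (pullback.diagonal π).isClosedEmbedding.isClosed_range.preimage L.continuous
    have hgen : ∀ y ∈ genericPoints Y, y ∈ L ⁻¹' Set.range (pullback.diagonal π) := fun y hy => by
      have e : Y.fromSpecResidueField y ≫ L = (Y.fromSpecResidueField y ≫ f) ≫ pullback.diagonal π := by
        have e' : Y.fromSpecResidueField y ≫ f = Y.fromSpecResidueField y ≫ g := congrArg Subtype.val (congrFun hfg ⟨y, hy⟩)
        apply pullback.hom_ext
        · rw [Category.assoc, pullback.lift_fst, Category.assoc, pullback.diagonal_fst, Category.comp_id]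
        · rw [Category.assoc, pullback.lift_snd, Category.assoc, pullback.diagonal_snd, Category.comp_id, e']
      have pt : Y.fromSpecResidueField y (closedPoint _) = y := Scheme.fromSpecResidueField_apply y _
      refine ⟨(Y.fromSpecResidueField y ≫ f) (closedPoint _), ?_⟩
      rw [← Scheme.Hom.comp_apply, ← e, Scheme.Hom.comp_apply, pt]
    have hu : closure (genericPoints (Y : Type u)) ⊆ L ⁻¹' Set.range (pullback.diagonal π) := hcl.closure_subset_iff.2 hgen
    rw [genericPoints.closure] at hu
    rintro _ ⟨y, rfl⟩; exact hu trivial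
  have e := IsOpenImmersion.lift_fac (pullback.diagonal π) L hsub
  have e1 := congrArg (· ≫ pullback.fst π π) e
  have e2 := congrArg (· ≫ pullback.snd π π) e
  simp only [Category.assoc, pullback.diagonal_fst, pullback.diagonal_snd, Category.comp_id, L, pullback.lift_fst, pullback.lift_snd] at e1 e2
  exact e1.symm.trans e2

end Groth.Agent.S0064
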