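import Groth.Statements.S6279
import Mathlib.RingTheory.Spectrum.Prime.RingHom
import Mathlib.RingTheory.IntegralClosure.IntegrallyClosed

set_option autoImplicit false
universe u
open CAlg

namespace Groth.Agent.S6279

/-- A finite product of normal rings is normal (a ring is normal when every localization at a prime is
an integrally closed domain). -/
theorem result {ι : Type u} [Finite ι] (A : ι → Type u) [∀ i, CommRing (A i)] (hA : ∀ i, EGA4.IsNormalRing (A i)) : EGA4.IsNormalRing (∀ i, A i) := by
  classical
  intro P hP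
  obtain ⟨i, q, hq⟩ := PrimeSpectrum.exists_comap_evalRingHom_eq ⟨P, hP⟩
  have hPq : ∀ x : ∀ i, A i, x ∈ P ↔ x i ∈ q.asIdeal := fun x =>
    (SetLike.ext_iff.1 (congrArg PrimeSpectrum.asIdeal hq) x).symm
  let L := Localization.AtPrime q.asIdeal
  let φ : (∀ i, A i) →+* L := (algebraMap (A i) L).comp (Pi.evalRingHom A i)
  let _ : Algebra (∀ i, A i) L := φ.toAlgebra
  let e : ∀ i, A i := Pi.single i 1
  have he : e ∈ P.primeCompl := fun h => q.isPrime.ne_top ((Ideal.eq_top_iff_one _).2 (by simpa [e] using (hPq e).1 h))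
  have : IsLocalization P.primeCompl L :=
    { map_units := fun s => IsLocalization.map_units L (⟨(s : ∀ i, A i) i, fun h => s.2 ((hPq _).2 h)⟩ : q.asIdeal.primeCompl)
      surj := fun z => by
        obtain ⟨⟨a, s⟩, h⟩ := IsLocalization.surj q.asIdeal.primeCompl z
        refine ⟨⟨Pi.single i a, ⟨Pi.single i (s : A i), fun hs => s.2 (by simpa using (hPq _).1 hs)⟩⟩, ?_⟩
        show z * algebraMap (A i) L ((Pi.single i (s : A i) : ∀ i, A i) i) = algebraMap (A i) L ((Pi.single i a : ∀ i, A i) i)
        rw [Pi.single_eq_same, Pi.single_eq_same]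
        exact h
      exists_of_eq := by
        intro x y hxy
        obtain ⟨c, hc⟩ := IsLocalization.exists_of_eq (M := q.asIdeal.primeCompl) (S := L) (x := x i) (y := y i) hxy
        refine ⟨⟨Pi.single i (c : A i), fun hs => c.2 (by simpa using (hPq _).1 hs)⟩, funext fun j => ?_⟩
        rcases eq_or_ne j i with rfl | hj
        · simpa using hc
        · simp [Pi.single_eq_of_ne hj] }
  let ψ : L ≃+* Localization.AtPrime P := (IsLocalization.algEquiv P.primeCompl L (Localization.AtPrime P)).toRingEquiv
  have := (hA i q.asIdeal).1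
  have := (hA i q.asIdeal).2
  exact ⟨ψ.symm.toMulEquiv.isDomain, IsIntegrallyClosed.of_equiv ψ⟩

end Groth.Agent.S6279
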