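import Groth.Statements.S13432
import Groth.Agent.S1452
import Groth.Agent.S2358
import Groth.Agent.Unram17Lib.SmoothNormal
import Groth.Agent.HensFormalLib.NormalBCUnibranch
import Groth.Agent.SmoothDimLib.Omega
import Groth.Agent.EtSectLib.Main
import Groth.Agent.NeronExtLib.BaseChange
import Groth.Agent.WeilExtLib.Basic
import Groth.Agent.WeilExtLib.Smooth
-- import your own Groth.Agent.* helpers here

set_option autoImplicit false
universe u
open CategoryTheory AlgebraicGeometry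
open NeronHD

namespace Groth.Agent.S13432

set_option backward.isDefEq.respectTransparency false

open CategoryTheory CategoryTheory.Limits AlgebraicGeometry IsLocalRing

/-- A schematically dense open is dense. -/
theorem dense_of_isSchematicallyDense {X : Scheme.{u}} {U : X.Opens} (h : CInt.IsSchematicallyDense U) :
    Dense (U : Set X) := by
  rw [dense_iff_inter_open]
  intro W hW ⟨x, hx⟩
  by_contra hne
  rw [Set.not_nonempty_iff_eq_empty] at hne
  let W' : X.Opens := ⟨W, hW⟩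
  have he : W' ⊓ U = ⊥ := TopologicalSpace.Opens.ext hne
  haveI : Subsingleton Γ(X, W' ⊓ U) := by
    rw [he]; infer_instance
  haveI : Nonempty W' := ⟨⟨x, hx⟩⟩
  exact one_ne_zero (α := Γ(X, W')) (h W' (Subsingleton.elim _ _))

/-- An integrally closed local domain is geometrically unibranch. -/
theorem isGeomUnibranch_of_normal (R : Type u) [CommRing R] [IsLocalRing R] [IsDomain R] [IsIntegrallyClosed R] :
    CAlg2.IsGeomUnibranch R := by
  obtain ⟨q, hq⟩ := ExpChar.exists (ResidueField R)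
  haveI := hq
  exact HensFormalLib.isGeomUnibranch_of_birational R R
    (by simp [nilradical_eq_zero, RingHom.ker_eq_bot_iff_eq_zero])
    (fun s => ⟨1, by simp, s, by simp⟩) q (fun s => ⟨0, s, by simp⟩)

/-- In a normal scheme every point has an integral neighbourhood, again normal. -/
theorem exists_normal_nhd {X : Scheme.{u}} [IsLocallyNoetherian X] (hX : Pi1.IsNormalScheme X) (x : X) :
    ∃ W : X.Opens, x ∈ W ∧ IsIntegral W.toScheme ∧ Pi1.IsNormalScheme W.toScheme := by
  haveI := (hX x).1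
  obtain ⟨W, hxW, -, -, hW⟩ := WeilExtLib.exists_integral_nhd x ⊤ trivial
  exact ⟨W, hxW, hW, fun w => (Unram17Lib.normal_congr (W.stalkIso w).commRingCatIsoToRingEquiv).2 (hX _)⟩

/-- Rational maps from normal schemes to finite schemes over the base are morphisms. -/
theorem exists_extend {Z S T : Scheme.{u}} [IsLocallyNoetherian Z] [IsReduced Z] (hZn : Pi1.IsNormalScheme Z)
    (p : Z ⟶ S) (π : T ⟶ S) [IsFinite π] (V : Z.Opens) (hV : Dense (V : Set Z))
    (g₀ : V.toScheme ⟶ T) (hg₀ : g₀ ≫ π = V.ι ≫ p) : ∃ g : Z ⟶ T, g ≫ π = p ∧ V.ι ≫ g = g₀ := by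
  have key : ∀ z : Z, ∃ (W : Z.Opens) (v : W.toScheme ⟶ T), z ∈ W ∧ v ≫ π = W.ι ≫ p ∧
      Z.homOfLE (inf_le_right : V ⊓ W ≤ W) ≫ v = Z.homOfLE (inf_le_left : V ⊓ W ≤ V) ≫ g₀ := by
    intro z
    obtain ⟨W, hzW, hWint, hWn⟩ := exists_normal_nhd hZn z
    haveI := hWint
    let O : W.toScheme.Opens := W.ι ⁻¹ᵁ V
    haveI : IsFinite (pullback.snd π (W.ι ≫ p)) := MorphismProperty.pullback_snd _ _ inferInstance
    let s : O.toScheme ⟶ pullback π (W.ι ≫ p) := pullback.lift ((W.ι ∣_ V) ≫ g₀) O.ι (by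
      rw [Category.assoc, hg₀]
      exact morphismRestrict_ι_assoc W.ι V p)
    obtain ⟨s', hs', hsO⟩ := Groth.Agent.S2358.result hWn (pullback.snd π (W.ι ≫ p)) O
      (hV.preimage W.ι.isOpenEmbedding.isOpenMap) s (pullback.lift_snd _ _ _)
    refine ⟨W, s' ≫ pullback.fst π (W.ι ≫ p), hzW, ?_, ?_⟩
    · rw [Category.assoc, pullback.condition, reassoc_of% hs']
    let k : (V ⊓ W).toScheme ⟶ O.toScheme := IsOpenImmersion.lift O.ι (Z.homOfLE (inf_le_right : V ⊓ W ≤ W)) (by
      rintro _ ⟨y, rfl⟩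
      rw [Scheme.Opens.range_ι]
      show W.ι (Z.homOfLE (inf_le_right : V ⊓ W ≤ W) y) ∈ V
      rw [← Scheme.Hom.comp_apply, Scheme.homOfLE_ι]
      exact y.2.1)
    have hk : k ≫ O.ι = Z.homOfLE (inf_le_right : V ⊓ W ≤ W) := IsOpenImmersion.lift_fac _ _ _
    have hk' : k ≫ (W.ι ∣_ V) = Z.homOfLE (inf_le_left : V ⊓ W ≤ V) := by
      rw [← cancel_mono V.ι, Category.assoc, morphismRestrict_ι, ← Category.assoc, hk, Scheme.homOfLE_ι,
        Scheme.homOfLE_ι]
    rw [← hk, Category.assoc, reassoc_of% hsO, pullback.lift_fst, ← Category.assoc, hk']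
  choose W v hW hv hagree using key
  let U : Option Z → Z.Opens := fun o => o.elim V W
  let F : ∀ o, (U o).toScheme ⟶ T := fun o => match o with
    | none => g₀
    | some z => v z
  obtain ⟨G, hG, hGj⟩ := WeilExtLib.exists_glue_family p π U F
    (by rintro (_ | z)
        · exact hg₀
        · exact hv z)
    hV g₀ (by rintro (_ | z)
              · rfl
              · exact hagree z)
  have htop : (⊤ : Z.Opens) ≤ ⨆ o, U o := fun z _ => le_iSup U (some z) (hW z)
  refine ⟨Z.topIso.inv ≫ Z.homOfLE htop ≫ G, ?_, ?_⟩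
  · rw [Category.assoc, Category.assoc, hG, Scheme.homOfLE_ι_assoc, ← Scheme.topIso_hom, Iso.inv_hom_id_assoc]
  · have h1 : V.ι ≫ Z.topIso.inv ≫ Z.homOfLE htop = Z.homOfLE (le_iSup U none : V ≤ ⨆ o, U o) := by
      rw [← cancel_mono (⨆ o, U o).ι, Category.assoc, Category.assoc, Scheme.homOfLE_ι, Scheme.homOfLE_ι,
        ← Scheme.topIso_hom, Iso.inv_hom_id, Category.comp_id]
      rfl
    rw [← Category.assoc Z.topIso.inv, ← Category.assoc V.ι, h1]
    exact hGj none

/-- The image of a smooth scheme in a finite scheme over a normal base lies in the etale locus. -/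
theorem mem_smoothLocus {Z S T : Scheme.{u}} [IsLocallyNoetherian T] (hT : Pi1.IsNormalScheme T)
    (p : Z ⟶ S) [Smooth p] (π : T ⟶ S) [IsFinite π] [LocallyOfFinitePresentation π] (g : Z ⟶ T) (hg : g ≫ π = p)
    (z : Z) : g z ∈ π.smoothLocus := by
  have hdisc : ∀ s : S, _root_.IsDiscrete (π ⁻¹' {s}) := fun s => π.isDiscrete_preimage_singleton s
  obtain ⟨O, hO, hOt⟩ := isDiscrete_iff_forall_mem_exists_isOpen.1 (hdisc (π (g z))) (g z) rfl
  let W' : Z.Opens := g ⁻¹ᵁ ⟨O, hO⟩
  have hzW : z ∈ W' := show g z ∈ O from (hOt.ge rfl).1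
  obtain ⟨S', gS, s', hgS, hgs, q, hq⟩ := EtSectLib.exists_section (W'.ι ≫ p) (p z) ⟨⟨z, hzW⟩, rfl⟩
  haveI := hgS
  let f := q ≫ W'.ι ≫ g
  have hf : f ≫ π = gS := by simp only [f, Category.assoc, hg, hq]
  have hft : f s' = g z := by
    have h1 : f s' ∈ O ∩ π ⁻¹' {π (g z)} := by
      refine ⟨(q s').2, ?_⟩
      show π (f s') = π (g z)
      rw [← Scheme.Hom.comp_apply, hf, hgs, ← hg, Scheme.Hom.comp_apply]
    exact (hOt.le h1 : f s' ∈ ({g z} : Set T))
  obtain ⟨T', htT', hT'int, hT'n⟩ := exists_normal_nhd hT (g z)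
  haveI := hT'int
  have hs'T : s' ∈ f ⁻¹ᵁ T' := show f s' ∈ T' from hft.symm ▸ htT'
  let ξ := genericPoint T'.toScheme
  have hξ : T'.ι ξ ⤳ g z :=
    ((genericPoint_spec T'.toScheme).specializes trivial : ξ ⤳ ⟨g z, htT'⟩).map T'.ι.continuous
  obtain ⟨s'', hs'', hgs''⟩ := Flat.generalizingMap gS (a := s') (show π (T'.ι ξ) ⤳ gS s' by
    rw [← hf, Scheme.Hom.comp_apply, hft]; exact hξ.map π.continuous)
  have hs''T : s'' ∈ f ⁻¹ᵁ T' := hs''.mem_open (f ⁻¹ᵁ T').2 hs'T
  haveI : IsDomain (T'.toScheme.presheaf.stalk ((f ∣_ T') ⟨s', hs'T⟩)) := (hT'n _).1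
  haveI : IsIntegrallyClosed (T'.toScheme.presheaf.stalk ((f ∣_ T') ⟨s', hs'T⟩)) := (hT'n _).2
  have hgen : (f ∣_ T') ⟨s'', hs''T⟩ = ξ := by
    refine T'.ι.isOpenEmbedding.injective ?_
    rw [← Scheme.Hom.comp_apply, morphismRestrict_ι, Scheme.Hom.comp_apply]
    show f s'' = T'.ι ξ
    have hsp : T'.ι ξ ⤳ f s'' :=
      ((genericPoint_spec T'.toScheme).specializes trivial : ξ ⤳ ⟨f s'', hs''T⟩).map T'.ι.continuous
    have hfib : π (f s'') = π (T'.ι ξ) := by
      rw [← Scheme.Hom.comp_apply, hf]; exact hgs''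
    obtain ⟨P, hP, hPt⟩ := isDiscrete_iff_forall_mem_exists_isOpen.1 (hdisc (π (T'.ι ξ))) (f s'') hfib
    have h1 : T'.ι ξ ∈ P ∩ π ⁻¹' {π (T'.ι ξ)} := ⟨hsp.mem_open hP (hPt.ge rfl).1, rfl⟩
    exact (hPt.le h1 : T'.ι ξ ∈ ({f s''} : Set T)).symm
  haveI : Etale ((f ∣_ T') ≫ T'.ι ≫ π) := by
    rw [morphismRestrict_ι_assoc, hf]; infer_instance
  obtain ⟨-, U, hU, hUet⟩ := Groth.Agent.S1452.result (f ∣_ T') (T'.ι ≫ π) ⟨s', hs'T⟩
    (isGeomUnibranch_of_normal _) ⟨⊤, trivial, inferInstance⟩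
    ⟨⟨s'', hs''T⟩, (f ⁻¹ᵁ T').ι.isOpenEmbedding.isInducing.specializes_iff.1 hs'', hgen⟩
  refine (SmoothDimLib.mem_smoothLocus_iff_exists (g z)).2 ⟨T'.ι ''ᵁ U, ⟨(f ∣_ T') ⟨s', hs'T⟩, hU, ?_⟩, ?_⟩
  · exact (congrArg (fun m => m ⟨s', hs'T⟩) (morphismRestrict_ι f T') : _).trans hft
  · haveI : Etale (U.ι ≫ T'.ι ≫ π) := hUet
    have : (T'.ι ''ᵁ U).ι ≫ π = (T'.ι.isoImage U).inv ≫ U.ι ≫ T'.ι ≫ π := by
      rw [Scheme.Hom.isoImage_inv_ι_assoc]
    rw [this]; exact inferInstance

/-- Let S be a normal Noetherian scheme over a field of characteristic 0 and S₀ ⊆ S a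
scheme-theoretically dense open. Let π : T → S be finite with T normal, and let N ⊆ T be the open
subscheme where π is smooth (equivalently étale, π being finite). Then N → S has the Néron mapping
property for S₀ ⊆ S: for every smooth S-scheme Z, restriction to S₀ is a bijection from S-morphisms
Z → N onto S₀-morphisms Z|S₀ → N|S₀. (In the published statement T is the normal finite S-scheme
compactifying a given quasi-projective étale S-scheme and N is the maximal quasi-projective étale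
scheme containing it; that origin of T plays no role in this part of the proof, so any finite T → S
with T normal is allowed here. Case of schemes, with smooth test schemes, of a statement about
algebraic spaces.) -/
theorem result {k : Type u} [Field k] [CharZero k] {S : Scheme.{u}} (σ : S ⟶ Spec (CommRingCat.of k)) [IsNoetherian S] (hS : Pi1.IsNormalScheme S) (S₀ : S.Opens) (hS₀ : CInt.IsSchematicallyDense S₀)
    {T : Scheme.{u}} (π : T ⟶ S) [IsFinite π] [LocallyOfFinitePresentation π] (hT : Pi1.IsNormalScheme T) :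
    ∀ Z : Over S, Smooth Z.hom → Function.Bijective (fun g : Z ⟶ Over.mk (π.smoothLocus.ι ≫ π) => (Over.pullback S₀.ι).map g) := by
  intro Z hZ
  haveI := hZ
  haveI : IsLocallyNoetherian T := LocallyOfFiniteType.isLocallyNoetherian π
  haveI : IsLocallyNoetherian Z.left := LocallyOfFiniteType.isLocallyNoetherian Z.hom
  have hZn : Pi1.IsNormalScheme Z.left := fun z => by
    refine (Unram17Lib.normal_stalk_iff_of_smooth Z.hom (x := z) ?_).2 (hS _)
    rw [Scheme.Hom.smoothLocus_eq_top]; trivial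
  haveI : ∀ z : Z.left, _root_.IsReduced (Z.left.presheaf.stalk z) := fun z => by
    haveI := (hZn z).1; infer_instance
  haveI : IsReduced Z.left := isReduced_of_isReduced_stalk _
  let V : Z.left.Opens := Z.hom ⁻¹ᵁ S₀
  have hV : Dense (V : Set Z.left) := (dense_of_isSchematicallyDense hS₀).preimage Z.hom.isOpenMap
  have hrange : Set.range (pullback.fst Z.hom S₀.ι).base = Set.range V.ι.base := by
    rw [Scheme.Opens.range_ι, Scheme.Pullback.range_fst, Scheme.Opens.range_ι]; rfl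
  let e := IsOpenImmersion.isoOfRangeEq (pullback.fst Z.hom S₀.ι) V.ι hrange
  have he : e.hom ≫ V.ι = pullback.fst Z.hom S₀.ι := IsOpenImmersion.isoOfRangeEq_hom_fac _ _ hrange
  haveI : IsDominant V.ι := ⟨by rw [DenseRange, Scheme.Opens.range_ι]; exact hV⟩
  constructor
  · rw [NeronExtLib.injective_iff]
    intro f₁ f₂ h12
    rw [← he, Category.assoc, Category.assoc, cancel_epi] at h12
    haveI : IsSeparated (π.smoothLocus.ι ≫ π) := inferInstance
    exact Over.OverMorphism.ext (ext_of_isDominant_of_isSeparated (π.smoothLocus.ι ≫ π)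
      ((Over.w f₁).trans (Over.w f₂).symm) V.ι h12)
  rw [NeronExtLib.surjective_iff]
  intro ψ hψ
  obtain ⟨g, hg, hgV⟩ := exists_extend hZn Z.hom π V hV (e.inv ≫ ψ ≫ π.smoothLocus.ι) (by
    simp only [Category.assoc]
    rw [show ψ ≫ π.smoothLocus.ι ≫ π = _ from hψ, ← he, Category.assoc, e.inv_hom_id_assoc])
  let g' : Z.left ⟶ π.smoothLocus.toScheme := IsOpenImmersion.lift π.smoothLocus.ι g (by
    rintro _ ⟨z, rfl⟩
    rw [Scheme.Opens.range_ι]
    exact mem_smoothLocus hT Z.hom π g hg z)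
  have hg' : g' ≫ π.smoothLocus.ι = g := IsOpenImmersion.lift_fac _ _ _
  refine ⟨Over.homMk g' (show g' ≫ π.smoothLocus.ι ≫ π = _ by rw [reassoc_of% hg', hg]), ?_⟩
  show pullback.fst Z.hom S₀.ι ≫ g' = ψ
  rw [← cancel_mono π.smoothLocus.ι, Category.assoc, hg', ← he, Category.assoc, hgV, e.hom_inv_id_assoc]

end Groth.Agent.S13432
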