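import Groth.Statements.S5442
import Groth.Agent.FixAvgLib.Top
import Groth.Agent.SubDescLib.Main

set_option autoImplicit false
universe u
open CategoryTheory MonoidalCategory CartesianMonoidalCategory MonObj GrpObj AlgebraicGeometry CategoryTheory.Limits
open SGA3x
set_option backward.isDefEq.respectTransparency false

namespace Groth.Agent.S5442

/-- Let S be a scheme, G an S-group scheme separated and smooth over S, and H an S-group of
multiplicative type and of finite type acting on G by group automorphisms (on points, h · (g g′) =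
(h · g)(h · g′)). Then the functor Z = G^H of invariants (points of G fixed by all points of H after
any base change) is representable by a closed subgroup scheme of G which is smooth over S: there are
an S-group Z and a homomorphism Z → G which is a closed immersion, with Z smooth over S, whose
points are exactly the invariant points. (The published statement allows any S-group of
multiplicative type; this row assumes it moreover of finite type.) -/
theorem result (S : Scheme.{u}) (H G : Over S) [GrpObj H] [GrpObj G] (hH : SGA3x.IsMultTypeFT H)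
    [IsSeparated G.hom] [Smooth G.hom] (a : AlgGrp.Action H G)
    (hmul : ∀ (X : Over S) (h : X ⟶ H) (g g' : X ⟶ G),
      lift h (g * g') ≫ a.act = (lift h g ≫ a.act) * (lift h g' ≫ a.act)) :
    ∃ (Z : Over S) (_ : GrpObj Z) (z : Z ⟶ G) (_ : IsMonHom z), IsClosedImmersion z.left ∧ Smooth Z.hom ∧
      ∀ (X : Over S) (g : X ⟶ G), (∃ x : X ⟶ Z, x ≫ z = g) ↔
        ∀ (X' : Over S) (f : X' ⟶ X) (h : X' ⟶ H), lift h (f ≫ g) ≫ a.act = f ≫ g := by
  obtain ⟨Z, j, hcl, -, hsm, hZ⟩ := FixAvg.exists_fixedLocus hH a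
  haveI := hcl
  haveI : Mono j := (Over.forget S).mono_of_mono_map (inferInstanceAs (Mono j.left))
  have hjP : ∀ {Y : Over S} (b : Y ⟶ Z) (Y' : Over S) (x : Y' ⟶ Y) (h : Y' ⟶ H),
      lift h (x ≫ b ≫ j) ≫ a.act = x ≫ b ≫ j := fun b => (hZ _ _).1 ⟨b, rfl⟩
  obtain ⟨m, hm⟩ := (hZ _ ((fst Z Z ≫ j) * (snd Z Z ≫ j))).2 fun X x h => by
    rw [MonObj.comp_mul, hmul, hjP (fst Z Z) X x h, hjP (snd Z Z) X x h]
  have hone : ∀ (X : Over S) (h : X ⟶ H), lift h (1 : X ⟶ G) ≫ a.act = 1 := fun X h => by
    have e := hmul X h 1 1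
    rw [_root_.one_mul] at e
    exact (mul_eq_left).1 e.symm
  obtain ⟨e, he⟩ := (hZ (𝟙_ (Over S)) 1).2 fun X x h => by
    rw [MonObj.comp_one]
    exact hone X h
  obtain ⟨n, hn⟩ := (hZ Z j⁻¹).2 fun X x h => by
    have e1 := hjP (𝟙 Z) X x h
    rw [Category.id_comp] at e1
    rw [GrpObj.comp_inv]
    exact (map_inv (MonoidHom.mk' (fun g : X ⟶ G => lift h g ≫ a.act) (hmul X h)) (x ≫ j)).trans (congrArg _ e1)
  obtain ⟨I, hI⟩ := SubDesc.exists_grpObj_of_mono j ⟨m, hm⟩ ⟨e, he⟩ ⟨n, hn⟩
  exact ⟨Z, I, j, hI, hcl, hsm, hZ⟩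

end Groth.Agent.S5442
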