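import Groth.Statements.S16791
import Groth.Agent.MaxTorusRankLib.Rank

set_option autoImplicit false
open CategoryTheory MonoidalCategory CartesianMonoidalCategory MonObj GrpObj AlgebraicGeometry
universe u
open Red

namespace Groth.Agent.S16791

/-- For a smooth affine group scheme G over a scheme S, a subtorus T ⊆ G and a surjective morphism S' →
S, T is a maximal torus of G (geometric fibres maximal) if and only if T_{S'} is a maximal torus of
G_{S'}. -/
theorem result {S S' : Scheme.{u}} {G T : Over S} [GrpObj G] [GrpObj T]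
    (hG : Smooth G.hom) (hGa : IsAffineHom G.hom) (i : T ⟶ G) [IsMonHom i] [Mono i] (hT : Red.IsTorus T)
    (f : S' ⟶ S) (hf : Surjective f) :
    Red.IsMaximalTorus i ↔ Red.IsMaximalTorus ((Over.pullback f).map i) := by
  haveI := hG; haveI := hGa
  haveI := RedRank.isAffineHom_bc G f
  haveI : Smooth (Red.bc f G).hom := MorphismProperty.pullback_snd (P := @Smooth) _ _ inferInstance
  haveI : IsMonHom (M := Red.bc f T) (N := Red.bc f G) ((Over.pullback f).map i) := DiagRep.isMonHom_bc_map f i
  haveI : Mono ((Over.pullback f).map i) := by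
    haveI : (Over.pullback f).IsRightAdjoint := (Over.mapPullbackAdj f).isRightAdjoint
    infer_instance
  constructor
  · intro h
    refine MaxTorusRank.isMaximalTorus_of_forall (G := Red.bc f G) (T := Red.bc f T) (RedRank.isTorus_bc hT f)
      fun s m hm => ?_
    exact (MaxTorusRank.has_bc_bc_iff T f _ m).2
      (MaxTorusRank.has_of_isMaximalTorus h _ ((MaxTorusRank.has_bc_bc_iff G f _ m).1 hm))
  · intro h
    refine MaxTorusRank.isMaximalTorus_of_forall hT fun s m hm => ?_
    obtain ⟨s', hs'⟩ := hf.surj s
    have hpt : (Red.geomPt s' ≫ f) (IsLocalRing.closedPoint _) = s := by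
      rw [Scheme.Hom.comp_apply, RedRank.geomPt_apply]; exact hs'
    obtain ⟨r, hr⟩ := MaxTorusRank.exists_rank hT s
    have h1 := (MaxTorusRank.has_bc_bc_iff G f _ m).2
      ((MaxTorusRank.has_congr G (Red.geomPt s) (Red.geomPt s' ≫ f) ((RedRank.geomPt_apply s).trans hpt.symm) m).1 hm)
    have h2 := (MaxTorusRank.has_bc_bc_iff T f _ m).1 (MaxTorusRank.has_of_isMaximalTorus h (Red.geomPt s') h1)
    exact ((hr _ (Red.geomPt s) (RedRank.geomPt_apply s)).1 m).2 (((hr _ _ hpt).1 m).1 h2)

end Groth.Agent.S16791
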