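import Groth.Statements.S16120
import Groth.Agent.SquareLib.PicOpenAffineSpace
import Groth.Agent.CubeConsLib.Hom
import Groth.Agent.AlbLib.AlgClosed
import Groth.Agent.AVRigidLib.Core

set_option autoImplicit false
universe u
open CategoryTheory MonoidalCategory CartesianMonoidalCategory MonObj GrpObj AlgebraicGeometry CategoryTheory.Limits
open PicGrp

namespace Groth.Agent.S16120

set_option backward.isDefEq.respectTransparency false
set_option linter.style.haveILetI false
open Groth.Agent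
open CubeConsLib (clA pullA PicA)

/-- A representative class in the additive group. -/
noncomputable def toA {Z : Scheme.{u}} (c : PicLoc.PicSet Z) : PicA Z :=
  clA (PicGrp.exists_eq_cls c).choose_spec.choose

theorem toA_cls {Z : Scheme.{u}} {L : Z.Modules} (hL : PicF.IsInvertible L) : toA (PicGrp.cls L hL) = clA hL := by
  refine (CubeConsLib.clA_eq_iff _ _).2 ?_
  exact (PicGrp.cls_eq_cls_iff _ hL).1 (PicGrp.exists_eq_cls (PicGrp.cls L hL)).choose_spec.choose_spec.symm

theorem toA_injective {Z : Scheme.{u}} : Function.Injective (toA (Z := Z)) := by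
  intro c d h
  obtain ⟨L, hL, rfl⟩ := PicGrp.exists_eq_cls c
  obtain ⟨M, hM, rfl⟩ := PicGrp.exists_eq_cls d
  rw [toA_cls, toA_cls, CubeConsLib.clA_eq_iff] at h
  exact (PicGrp.cls_eq_cls_iff hL hM).2 h

theorem toA_mul {Z : Scheme.{u}} [PicGrp.Law Z] (c d : PicLoc.PicSet Z) : toA (c * d) = toA c + toA d := by
  obtain ⟨L, hL, rfl⟩ := PicGrp.exists_eq_cls c
  obtain ⟨M, hM, rfl⟩ := PicGrp.exists_eq_cls d
  have e : PicGrp.cls L hL * PicGrp.cls M hM = PicGrp.cls _ (HilbPolyLib.isInvertible_tensor hL hM) :=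
    Subtype.ext (PicGrp.cls_mul_cls_val hL hM)
  rw [e, toA_cls, toA_cls, toA_cls, CubeConsLib.clA_tensor]

theorem toA_pullHom {Z W : Scheme.{u}} [PicGrp.Law Z] [PicGrp.Law W] (g : Z ⟶ W) (h : PicGrp.PullMul g)
    (c : PicLoc.PicSet W) : toA (PicGrp.pullHom g h c) = pullA g (toA c) := by
  obtain ⟨L, hL, rfl⟩ := PicGrp.exists_eq_cls c
  have e : PicGrp.pullHom g h (PicGrp.cls L hL) = PicGrp.cls _ (AmpleDevLib.isInvertible_pb g hL) := Subtype.ext rfl
  rw [e, toA_cls, toA_cls, CubeConsLib.pullA_clA]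

theorem pullA_point {Z W : Scheme.{u}} (f : Z ⟶ W) {L : W.Modules} (hL : PicF.IsInvertible L)
    [Subsingleton Z] [Nonempty Z] : pullA f (clA hL) = 0 := by
  rw [CubeConsLib.pullA_clA, ← CubeConsLib.clA_one, CubeConsLib.clA_eq_iff]
  exact CohCmpLib.nonempty_iso_structureModule_of_point
    ((CohCmpLib.invertible_iff_rank_one _).1 (AmpleDevLib.isInvertible_pb f hL))

/-- Over an algebraically closed field k, let X and Y be normal irreducible varieties (integral normal
separated k-schemes of finite type) and assume X rational: some nonempty open subscheme of X is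
isomorphic over k to an open subscheme of an affine space 𝔸ⁿ_k. Assume the Picard group laws on X, Y
and X × Y, with pullback along the two projections multiplicative. Then the map Pic(X) × Pic(Y) →
Pic(X × Y), (c, d) ↦ p₁^*(c) · p₂^*(d), is bijective. (The published companion assertion on divisor
class groups is not stated here.) -/
theorem result (k : Type u) [Field k] [IsAlgClosed k]
    (X Y : Over (Spec (CommRingCat.of k))) [IsIntegral X.left] [IsSeparated X.hom] [LocallyOfFiniteType X.hom] [QuasiCompact X.hom]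
    [IsIntegral Y.left] [IsSeparated Y.hom] [LocallyOfFiniteType Y.hom] [QuasiCompact Y.hom]
    (hX : Pi1.IsNormalScheme X.left) (hY : Pi1.IsNormalScheme Y.left)
    (hrat : ∃ (U : X.left.Opens) (n : ℕ) (V : (𝔸(ULift.{u} (Fin n); Spec (CommRingCat.of k))).Opens)
      (e : (U : Scheme.{u}) ≅ (V : Scheme.{u})), (U : Set ↥X.left).Nonempty ∧
        e.hom ≫ V.ι ≫ (𝔸(ULift.{u} (Fin n); Spec (CommRingCat.of k)) ↘ Spec (CommRingCat.of k)) = U.ι ≫ X.hom)
    [PicGrp.Law X.left] [PicGrp.Law Y.left] [PicGrp.Law (X ⊗ Y).left]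
    (h₁ : PicGrp.PullMul (fst X Y).left) (h₂ : PicGrp.PullMul (snd X Y).left) :
    Function.Bijective (fun cd : PicLoc.PicSet X.left × PicLoc.PicSet Y.left =>
      PicGrp.pullHom (fst X Y).left h₁ cd.1 * PicGrp.pullHom (snd X Y).left h₂ cd.2) := by
  haveI : IsLocallyNoetherian X.left := LocallyOfFiniteType.isLocallyNoetherian X.hom
  haveI : IsLocallyNoetherian Y.left := LocallyOfFiniteType.isLocallyNoetherian Y.hom
  haveI : CompactSpace Y.left := QuasiCompact.compactSpace_of_compactSpace Y.hom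
  haveI : IsNoetherian Y.left := ⟨⟩
  haveI hYg : GeometricallyIntegral Y.hom := AlbLib.geometricallyIntegral_of_isIntegral Y
  haveI : Flat Y.hom := Groth.Agent.GrpField.flat_field Y.hom
  haveI : Subsingleton ↥(Spec (CommRingCat.of k)) := inferInstanceAs (Subsingleton (PrimeSpectrum k))
  haveI : Nonempty ↥(Spec (CommRingCat.of k)) := inferInstanceAs (Nonempty (PrimeSpectrum k))
  obtain ⟨U, n, V, e, hU, he⟩ := hrat
  let p₁ := (fst X Y).left
  let p₂ := (snd X Y).left
  let str := 𝔸(ULift.{u} (Fin n); Spec (CommRingCat.of k)) ↘ Spec (CommRingCat.of k)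
  -- rational points
  haveI : JacobsonSpace X.left := LocallyOfFiniteType.jacobsonSpace X.hom
  haveI : JacobsonSpace Y.left := LocallyOfFiniteType.jacobsonSpace Y.hom
  obtain ⟨x, hxU, hx⟩ := nonempty_inter_closedPoints hU U.isOpen.isLocallyClosed
  obtain ⟨y, -, hy⟩ := nonempty_inter_closedPoints (Set.univ_nonempty (α := Y.left)) isClosed_univ.isLocallyClosed
  let x₀ := pointOfClosedPoint X.hom x hx
  have hx₀ : x₀ ≫ X.hom = 𝟙 _ := pointOfClosedPoint_comp X.hom x hx
  let y₀ := pointOfClosedPoint Y.hom y hy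
  have hy₀ : y₀ ≫ Y.hom = 𝟙 _ := pointOfClosedPoint_comp Y.hom y hy
  let sX : X.left ⟶ (X ⊗ Y).left := pullback.lift (𝟙 _) (X.hom ≫ y₀) (by
    rw [Category.assoc, hy₀, Category.comp_id, Category.id_comp])
  let sY : Y.left ⟶ (X ⊗ Y).left := pullback.lift (Y.hom ≫ x₀) (𝟙 _) (by
    rw [Category.assoc, hx₀, Category.comp_id, Category.id_comp])
  have hX1 : sX ≫ p₁ = 𝟙 _ := pullback.lift_fst _ _ _
  have hX2 : sX ≫ p₂ = X.hom ≫ y₀ := pullback.lift_snd _ _ _
  have hY1 : sY ≫ p₁ = Y.hom ≫ x₀ := pullback.lift_fst _ _ _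
  have hY2 : sY ≫ p₂ = 𝟙 _ := pullback.lift_snd _ _ _
  constructor
  · rintro ⟨c, d⟩ ⟨c', d'⟩ h
    have h' := congrArg toA h
    simp only [toA_mul, toA_pullHom] at h'
    have hX' := congrArg (pullA sX) h'
    have hY' := congrArg (pullA sY) h'
    have hz : ∀ {Z W : Scheme.{u}} (f : Z ⟶ Spec (CommRingCat.of k)) (g : Spec (CommRingCat.of k) ⟶ W)
        (w : PicLoc.PicSet W), pullA (f ≫ g) (toA w) = 0 := by
      intro Z W f g w
      obtain ⟨L, hL, rfl⟩ := PicGrp.exists_eq_cls w
      rw [toA_cls, ← CubeConsLib.pullA_comp, pullA_point, map_zero]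
    simp only [map_add, CubeConsLib.pullA_comp, p₁, p₂] at hX' hY'
    erw [hX1, hX2] at hX'
    erw [hY1, hY2] at hY'
    simp only [hz, CubeConsLib.pullA_id, add_zero, zero_add] at hX' hY'
    exact Prod.ext (toA_injective hX') (toA_injective hY')
  · intro m₀
    obtain ⟨M, hM, rfl⟩ := PicGrp.exists_eq_cls m₀
    let u₀ : Spec (CommRingCat.of k) ⟶ V.toScheme :=
      IsOpenImmersion.lift U.ι x₀ (by
        rintro _ ⟨z, rfl⟩
        rw [Scheme.Opens.range_ι, Subsingleton.elim z (IsLocalRing.closedPoint k)]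
        show x₀ _ ∈ U
        rw [pointOfClosedPoint_apply]
        exact hxU) ≫ e.hom
    have hu₀ : u₀ ≫ V.ι ≫ str = 𝟙 _ := by
      simp only [u₀, str, Category.assoc, he, IsOpenImmersion.lift_fac_assoc, hx₀]
    let ψ : pullback Y.hom (V.ι ≫ str) ⟶ (X ⊗ Y).left :=
      pullback.lift (pullback.snd _ _ ≫ e.inv ≫ U.ι) (pullback.fst _ _) (by
        rw [Category.assoc, Category.assoc, ← he, Iso.inv_hom_id_assoc]
        exact pullback.condition.symm)
    obtain ⟨c, ⟨⟨N, rfl, hN⟩, hc⟩, -⟩ := SquareLib.pullCl_bijective V Y.hom u₀ hu₀ hY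
      (PicF.pullCl ψ (PicF.cl M)) ⟨_, rfl, AmpleDevLib.isInvertible_pb ψ hM⟩
    have hc' : pullA (pullback.fst Y.hom (V.ι ≫ str)) (clA hN) = pullA ψ (clA hM) := by
      rw [CubeConsLib.pullA_clA, CubeConsLib.pullA_clA, CubeConsLib.clA_eq_iff]
      exact (PicGrp.cl_eq_cl_iff _ _).1 hc
    let M' := CohB1.tensorMod M (MiscFlat6.dual ((Scheme.Modules.pullback p₂).obj N))
    have hN' : PicF.IsInvertible ((Scheme.Modules.pullback p₂).obj N) := AmpleDevLib.isInvertible_pb p₂ hN
    have hM' : PicF.IsInvertible M' := CubeConsLib.isInvertible_tensor_dual hM hN'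
    have hM'e : clA hM' = clA hM - pullA p₂ (clA hN) := by
      show clA (HilbPolyLib.isInvertible_tensor hM (MiscFlat6.dual_isInvertible hN')) = _
      rw [CubeConsLib.clA_tensor hM (MiscFlat6.dual_isInvertible hN'), CubeConsLib.clA_dual hN', CubeConsLib.pullA_clA p₂ hN,
        sub_eq_add_neg]
    haveI : Flat p₁ := MorphismProperty.pullback_fst (P := @Flat) _ _ inferInstance
    have hfib : ∀ z : ↥X.left, IsIntegral (p₁.fiber z) := fun z => by
      haveI : GeometricallyIntegral p₁ := MorphismProperty.pullback_fst (P := @GeometricallyIntegral) _ _ hYg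
      exact GeometricallyIntegral.geometrically_isIntegral (f := p₁) _ _ _ (IsPullback.of_hasPullback p₁ (X.left.fromSpecResidueField z))
    haveI : LocallyOfFiniteType p₁ := MorphismProperty.pullback_fst (P := @LocallyOfFiniteType) _ _ inferInstance
    haveI : IsLocallyNoetherian (X ⊗ Y).left := LocallyOfFiniteType.isLocallyNoetherian p₁
    haveI : IsIntegral (X ⊗ Y).left := AlbLib.isIntegral_tensor X Y
    -- the generic fibre
    let f := p₁.fiberι (genericPoint X.left)
    have hf : Set.range (f ≫ p₁) ⊆ Set.range U.ι := by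
      rintro _ ⟨z, rfl⟩
      rw [Scheme.Opens.range_ι]
      have h1 : f z ∈ Set.range f := ⟨z, rfl⟩
      rw [p₁.range_fiberι] at h1
      show p₁ (f z) ∈ U
      rw [show p₁ (f z) = genericPoint X.left from h1]
      exact (genericPoint_spec X.left).mem_open_set_iff U.isOpen |>.2 (by simpa using hU)
    let w := IsOpenImmersion.lift U.ι (f ≫ p₁) hf
    have hw : w ≫ U.ι = f ≫ p₁ := IsOpenImmersion.lift_fac _ _ _
    let φ : p₁.fiber (genericPoint X.left) ⟶ pullback Y.hom (V.ι ≫ str) := pullback.lift (f ≫ p₂) (w ≫ e.hom) (by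
      simp only [str, Category.assoc, he, reassoc_of% hw]
      exact congrArg (f ≫ ·) pullback.condition.symm)
    have hφ : φ ≫ ψ = f := by
      apply pullback.hom_ext
      · simp only [φ, ψ, Category.assoc, pullback.lift_fst, pullback.lift_snd_assoc, Iso.hom_inv_id_assoc, hw]
        rfl
      · simp only [φ, ψ, Category.assoc, pullback.lift_snd, pullback.lift_fst]
        rfl
    have hψ2 : ψ ≫ p₂ = pullback.fst Y.hom (V.ι ≫ str) := pullback.lift_snd _ _ _
    have hgen : pullA f (clA hM') = 0 := by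
      rw [← hφ, ← CubeConsLib.pullA_comp, hM'e, map_sub, CubeConsLib.pullA_comp ψ p₂, hψ2, hc', sub_self, map_zero]
    rw [CubeConsLib.pullA_clA, ← CubeConsLib.clA_one, CubeConsLib.clA_eq_iff] at hgen
    obtain ⟨NX, hNX, ⟨i⟩⟩ := SquareLib.invertible_eq_pullback p₁ hX hfib (Or.inr inferInstance) M' hM' hgen
    refine ⟨(PicGrp.cls NX hNX, PicGrp.cls N hN), toA_injective ?_⟩
    show toA (_ * _) = _
    rw [toA_mul, toA_pullHom, toA_pullHom, toA_cls, toA_cls, toA_cls]
    have : clA hM' = pullA p₁ (clA hNX) := by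
      rw [CubeConsLib.pullA_clA, CubeConsLib.clA_eq_iff]; exact ⟨i⟩
    rw [← this, hM'e]
    exact sub_add_cancel _ _

end Groth.Agent.S16120
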