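import Groth.Statements.S16121
import Groth.Agent.UnirLib.RationalGrp

set_option autoImplicit false
universe u
open CategoryTheory MonoidalCategory CartesianMonoidalCategory MonObj GrpObj AlgebraicGeometry CategoryTheory.Limits
open AlgGrp

namespace Groth.Agent.S16121

set_option backward.isDefEq.respectTransparency false
set_option linter.style.haveILetI false
open Groth.Agent
attribute [-instance] CategoryTheory.Hom.commGroup

/-- Over an algebraically closed field k, a connected linear algebraic group G (an affine, smooth,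
connected k-group scheme) is a rational variety: there are a nonempty open subscheme U of G, an n,
an open subscheme V of the affine space 𝔸ⁿ_k and an isomorphism U ≅ V compatible with the structure
morphisms to Spec k. -/
theorem result (k : Type u) [Field k] [IsAlgClosed k]
    (G : Over (Spec (CommRingCat.of k))) [GrpObj G] [IsAffine G.left] [Smooth G.hom] [ConnectedSpace ↥G.left] :
    ∃ (U : G.left.Opens) (n : ℕ) (V : (𝔸(ULift.{u} (Fin n); Spec (CommRingCat.of k))).Opens)
      (e : (U : Scheme.{u}) ≅ (V : Scheme.{u})), (U : Set ↥G.left).Nonempty ∧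
        e.hom ≫ V.ι ≫ (𝔸(ULift.{u} (Fin n); Spec (CommRingCat.of k)) ↘ Spec (CommRingCat.of k)) = U.ι ≫ G.hom := by
  haveI : Fact (Nat.Prime 2) := ⟨Nat.prime_two⟩
  obtain ⟨n, V, j, φ, hj, hne, hφ⟩ := Unir.rat_grp G
  haveI := hj; haveI := hφ
  refine ⟨φ.left.opensRange, n, j.left.opensRange,
    φ.left.isoOpensRange.symm ≪≫ j.left.isoOpensRange, ?_, ?_⟩
  · obtain ⟨x⟩ := hne
    exact ⟨φ.left x, x, rfl⟩
  · rw [Iso.trans_hom, Iso.symm_hom, Category.assoc,
      ← Category.assoc j.left.isoOpensRange.hom, Scheme.Hom.isoOpensRange_hom_ι]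
    have h : j.left ≫ (𝔸(ULift.{u} (Fin n); Spec (CommRingCat.of k)) ↘ Spec (CommRingCat.of k)) = φ.left ≫ G.hom := by
      rw [Over.w φ]; exact Over.w j
    erw [h]
    rw [← Category.assoc, Scheme.Hom.isoOpensRange_inv_comp]

end Groth.Agent.S16121
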