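import Groth.Statements.S16119
import Groth.Agent.S16120
import Groth.Agent.S16121
import Groth.Agent.HurwitzLib.SmoothCurve

set_option autoImplicit false
universe u
open CategoryTheory MonoidalCategory CartesianMonoidalCategory MonObj GrpObj AlgebraicGeometry CategoryTheory.Limits
open AlgGrp

namespace Groth.Agent.S16119

set_option backward.isDefEq.respectTransparency false
set_option linter.style.haveILetI false
open Groth.Agent
open CubeConsLib (clA pullA PicA)
open Groth.Agent.S16120 renaming toA → toA, toA_cls → toA_cls, toA_injective → toA_injective, toA_mul → toA_mul, toA_pullHom → toA_pullHom, pullA_point → pullA_point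
attribute [-instance] CategoryTheory.Hom.commGroup

theorem pullMul {Z W : Scheme.{u}} (g : Z ⟶ W) : PicGrp.PullMul g := by
  intro c d ⟨L, hc, hL⟩ ⟨M, hd, hM⟩
  subst hc hd
  have hLM := HilbPolyLib.isInvertible_tensor hL hM
  have hg := HilbPolyLib.isInvertible_tensor (AmpleDevLib.isInvertible_pb g hL) (AmpleDevLib.isInvertible_pb g hM)
  have h : clA (AmpleDevLib.isInvertible_pb g hLM) = clA hg := by
    rw [CubeConsLib.clA_tensor (AmpleDevLib.isInvertible_pb g hL) (AmpleDevLib.isInvertible_pb g hM),
      ← CubeConsLib.pullA_clA g hLM, ← CubeConsLib.pullA_clA g hL, ← CubeConsLib.pullA_clA g hM,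
      CubeConsLib.clA_tensor hL hM, map_add]
  exact (PicGrp.cl_eq_cl_iff _ _).2 ((CubeConsLib.clA_eq_iff _ _).1 h)

/-- Over an algebraically closed field k, let G be a connected linear algebraic group (an affine,
smooth, connected k-group scheme) acting by σ on a normal irreducible variety X (an integral normal
separated k-scheme of finite type); assume the Picard group laws on G, X and G × X, with pullback
along σ and along the projection p₂ : G × X → X multiplicative. Let n be the exponent of the group
Pic(G) (a finite group). Then for every invertible O_X-module L with class c, σ^*(L^{⊗n}) ≅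
p₂^*(L^{⊗n}): σ^*(cⁿ) = p₂^*(cⁿ) in Pic(G × X). (The published statement concludes that L^{⊗n}
admits a G-linearization; its argument establishes the displayed isomorphism, which is equivalent to
G-linearizability of L^{⊗n}; that equivalence is not restated here.) -/
theorem result (k : Type u) [Field k] [IsAlgClosed k]
    (G X : Over (Spec (CommRingCat.of k))) [GrpObj G] [IsAffine G.left] [Smooth G.hom] [ConnectedSpace ↥G.left]
    [IsIntegral X.left] [IsSeparated X.hom] [LocallyOfFiniteType X.hom] [QuasiCompact X.hom]
    (hX : Pi1.IsNormalScheme X.left) (a : AlgGrp.Action G X)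
    [PicGrp.Law G.left] [PicGrp.Law X.left] [PicGrp.Law (G ⊗ X).left]
    (hσ : PicGrp.PullMul a.act.left) (hp : PicGrp.PullMul (snd G X).left) (c : PicLoc.PicSet X.left) :
    PicGrp.pullHom a.act.left hσ (c ^ Monoid.exponent (PicLoc.PicSet G.left)) =
      PicGrp.pullHom (snd G X).left hp (c ^ Monoid.exponent (PicLoc.PicSet G.left)) := by
  haveI : Subsingleton ↥(Spec (CommRingCat.of k)) := inferInstanceAs (Subsingleton (PrimeSpectrum k))
  haveI : Nonempty ↥(Spec (CommRingCat.of k)) := inferInstanceAs (Nonempty (PrimeSpectrum k))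
  haveI := AlbLib.geometricallyIntegral_grp G
  haveI : IsIntegral G.left := GeometricallyIntegral.isIntegral_of_subsingleton G.hom
  letI : G.left.Over (Spec (CommRingCat.of k)) := ⟨G.hom⟩
  haveI : Smooth (G.left ↘ Spec (CommRingCat.of k)) := ‹Smooth G.hom›
  have hG : Pi1.IsNormalScheme G.left := HurwitzLib.isNormalScheme_of_smooth (k := k)
  obtain ⟨⟨A, B⟩, hAB⟩ := (Groth.Agent.S16120.result k G X hG hX (Groth.Agent.S16121.result k G)
    (pullMul _) (pullMul _)).2 (PicGrp.pullHom a.act.left hσ c)
  simp only at hAB
  let s : X ⟶ G ⊗ X := lift (toUnit X ≫ η[G]) (𝟙 X)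
  have hs1 : s.left ≫ (fst G X).left = (toUnit X).left ≫ η[G].left := by
    rw [← Over.comp_left, lift_fst]; rfl
  have hs2 : s.left ≫ (snd G X).left = 𝟙 X.left := by
    rw [← Over.comp_left, lift_snd]; rfl
  have hsa : s.left ≫ a.act.left = 𝟙 X.left := by
    have e : s ≫ a.act = 𝟙 X := by
      have h := congrArg (fun f => (λ_ X).inv ≫ f) a.one_act
      simp only [Iso.inv_hom_id] at h
      refine Eq.trans ?_ h
      rw [← Category.assoc]
      congr 1
      exact CartesianMonoidalCategory.hom_ext _ _ (by simp [s]) (by simp [s])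
    rw [← Over.comp_left, e]; rfl
  have hB : B = c := by
    have h := congrArg (fun d => pullA s.left (toA d)) hAB
    simp only [toA_mul, toA_pullHom, map_add, CubeConsLib.pullA_comp] at h
    erw [hs1, hs2, hsa] at h
    obtain ⟨L, hL, rfl⟩ := PicGrp.exists_eq_cls A
    haveI : Subsingleton ↥(𝟙_ (Over (Spec (CommRingCat.of k)))).left := inferInstanceAs (Subsingleton ↥(Spec (CommRingCat.of k)))
    haveI : Nonempty ↥(𝟙_ (Over (Spec (CommRingCat.of k)))).left := inferInstanceAs (Nonempty ↥(Spec (CommRingCat.of k)))
    rw [toA_cls, ← CubeConsLib.pullA_comp, pullA_point, map_zero, zero_add, CubeConsLib.pullA_id,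
      CubeConsLib.pullA_id] at h
    exact toA_injective h
  rw [map_pow, map_pow, ← hAB, mul_pow, ← map_pow, Monoid.pow_exponent_eq_one, map_one, _root_.one_mul, hB]

end Groth.Agent.S16119
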