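import Groth.Statements.S2144
import Mathlib
import Groth.Agent.FlatLib.StageFF
-- import your own Groth.Agent.* helpers here

set_option autoImplicit false
universe u
open CAlg

namespace Groth.Agent.S2144

set_option synthInstance.maxHeartbeats 200000
set_option maxHeartbeats 1000000

open TensorProduct in
/-- Let `R → A → B` be ring maps with `A → B` faithfully flat and of finite presentation. Then there are
an `R`-algebra `A₀` of finite presentation mapping to `A` and a faithfully flat finitely presented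
`A₀`-algebra `B₀` with `B ≅ A ⊗_{A₀} B₀` as `A`-algebras. -/
theorem result {R A B : Type u} [CommRing R] [CommRing A] [CommRing B] [Algebra R A]
    [Algebra A B] [Algebra.FinitePresentation A B] [Module.FaithfullyFlat A B] :
    ∃ (A₀ B₀ : Type u) (_ : CommRing A₀) (_ : CommRing B₀) (_ : Algebra R A₀) (_ : Algebra A₀ A) (_ : IsScalarTower R A₀ A)
      (_ : Algebra A₀ B₀), Algebra.FinitePresentation R A₀ ∧ Algebra.FinitePresentation A₀ B₀ ∧ Module.FaithfullyFlat A₀ B₀ ∧
      Nonempty (B ≃ₐ[A] A ⊗[A₀] B₀) := by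
  classical
  obtain ⟨σ, hσ, π, hπ, G, hG⟩ := Algebra.FinitePresentation.iff_quotient_mvPolynomial'.{_, _, u}.mp
    (inferInstance : Algebra.FinitePresentation A B)
  let eπ : (MvPolynomial σ A ⧸ Ideal.span (G : Set (MvPolynomial σ A))) ≃ₐ[A] B :=
    (Ideal.quotientEquivAlgOfEq A (hG : Ideal.span (G : Set _) = RingHom.ker π.toRingHom)).trans
      (Ideal.quotientKerAlgEquivOfSurjective hπ)
  obtain ⟨R₁, B₁, iR, iRA, iB, iRB, hnoeth, hfp, hfpB, hflat, ⟨e₀⟩⟩ := FlatLib.exists_noetherian_model G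
    (Module.Flat.of_linearEquiv eπ.toLinearEquiv)
  let e : TensorProduct R₁ A B₁ ≃ₐ[A] B := e₀.trans eπ
  let U : Set (PrimeSpectrum R₁) := Set.range (PrimeSpectrum.comap (algebraMap R₁ B₁))
  have hU : IsOpen U := by
    show IsOpen (Set.range (PrimeSpectrum.comap (algebraMap R₁ B₁)))
    rw [← Set.image_univ]
    exact PrimeSpectrum.isOpenMap_comap_of_hasGoingDown_of_finitePresentation _ isOpen_univ
  obtain ⟨J, hJ⟩ := (PrimeSpectrum.isClosed_iff_zeroLocus_ideal _).mp hU.isClosed_compl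
  have hJA : (1 : A) ∈ J.map (algebraMap R₁ A) := by
    rw [← Ideal.eq_top_iff_one]
    by_contra hne
    obtain ⟨m, hm, hle⟩ := Ideal.exists_le_maximal _ hne
    obtain ⟨P, hP⟩ := PrimeSpectrum.comap_surjective_of_faithfullyFlat (A := A) (B := B) ⟨m, hm.isPrime⟩
    have hin : PrimeSpectrum.comap (algebraMap R₁ A) ⟨m, hm.isPrime⟩ ∈ U := by
      refine ⟨PrimeSpectrum.comap ((e.toAlgHom.toRingHom).comp
        (Algebra.TensorProduct.includeRight (R := R₁) (A := A) (B := B₁)).toRingHom) P, ?_⟩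
      rw [← hP, ← PrimeSpectrum.comap_comp_apply, ← PrimeSpectrum.comap_comp_apply]
      refine congrArg (fun g => PrimeSpectrum.comap g P) (RingHom.ext fun r => ?_)
      show e ((1 : A) ⊗ₜ[R₁] algebraMap R₁ B₁ r) = algebraMap A B (algebraMap R₁ A r)
      rw [← e.commutes]
      refine congrArg e ?_
      show (Algebra.TensorProduct.includeRight (R := R₁) (A := A) (B := B₁)) (algebraMap R₁ B₁ r) = _
      rw [AlgHom.commutes, ← IsScalarTower.algebraMap_apply]
    have hout : PrimeSpectrum.comap (algebraMap R₁ A) ⟨m, hm.isPrime⟩ ∈ PrimeSpectrum.zeroLocus (J : Set R₁) :=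
      fun x hx => hle (Ideal.mem_map_of_mem _ hx)
    rw [← hJ] at hout
    exact hout hin
  haveI : Algebra.FinitePresentation ℤ R₁ := hfp
  haveI : Algebra.FinitePresentation R₁ B₁ := hfpB
  haveI : Module.Flat R₁ B₁ := hflat
  obtain ⟨A₀, iA₀, iRA₀, iA₀A, iT, ψ, hfpA₀, hψ, htop⟩ := FlatLib.exists_unit_base_over R J hJA
  have hsurj : ∀ q : PrimeSpectrum A₀, PrimeSpectrum.comap ψ q ∈ U := by
    intro q
    by_contra hq
    have hq' : PrimeSpectrum.comap ψ q ∈ PrimeSpectrum.zeroLocus (J : Set R₁) := hJ ▸ hq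
    exact q.isPrime.ne_top (top_le_iff.mp (htop ▸ Ideal.map_le_iff_le_comap.mpr hq'))
  obtain ⟨B₀, iB₀, iAB₀, h1, h2, h3⟩ := FlatLib.exists_ff_baseChange (A₀ := A₀) e ψ hψ hsurj
  exact ⟨A₀, B₀, iA₀, iB₀, iRA₀, iA₀A, iT, iAB₀, hfpA₀, h1, h2, h3⟩

end Groth.Agent.S2144
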