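import Groth.Statements.S7386
import Mathlib
import Groth.Agent.DiscExtLib.Chart

set_option autoImplicit false
universe u
open CategoryTheory AlgebraicGeometry
open Mor

namespace Groth.Agent.S7386
/-- A disjoint union of two affine opens is affine. -/
theorem isAffineOpen_sup {X : Scheme.{u}} {V W : X.Opens} (hV : IsAffineOpen V) (hW : IsAffineOpen W)
    (h : Disjoint V W) : IsAffineOpen (V ⊔ W) := by
  haveI : IsAffine (V : Scheme.{u}) := hV
  haveI : IsAffine (W : Scheme.{u}) := hW
  have hc : IsCompl (X.homOfLE (le_sup_left : V ≤ V ⊔ W)).opensRange (X.homOfLE (le_sup_right : W ≤ V ⊔ W)).opensRange := by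
    rw [Scheme.opensRange_homOfLE, Scheme.opensRange_homOfLE]
    refine ⟨disjoint_iff_inf_le.mpr fun z hz => (disjoint_iff_inf_le.mp h ⟨hz.1, hz.2⟩).elim,
      codisjoint_iff_le_sup.mpr fun z _ => z.2⟩
  obtain ⟨H⟩ := nonempty_isColimit_binaryCofanMk_of_isCompl _ _ hc
  exact IsAffine.of_isIso ((Limits.colimit.isoColimitCocone ⟨_, H⟩).inv)

/-- A maximal point outside an affine open has an affine neighbourhood disjoint from it. -/
theorem exists_disjoint {X : Scheme.{u}} [QuasiSeparatedSpace X] {η : X}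
    (hη : closure ({η} : Set X) ∈ irreducibleComponents (X : Type u)) {V : X.Opens} (hV : IsAffineOpen V)
    (hηV : η ∉ V) : ∃ W : X.Opens, IsAffineOpen W ∧ η ∈ W ∧ Disjoint W V := by
  obtain ⟨W, hW, hηW, -⟩ := exists_isAffineOpen_mem_and_subset (x := η) (U := ⊤) trivial
  have hcpt : IsCompact ((W ⊓ V : X.Opens) : Set X) :=
    QuasiSeparatedSpace.inter_isCompact _ _ W.2 hW.isCompact V.2 hV.isCompact
  obtain ⟨g, hηg, hg⟩ := DiscExtLib.exists_basicOpen_disjoint ⟨W, hW⟩ hηW (W ⊓ V) hcpt inf_le_left isClosed_univ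
    fun y hy hyC _ => hηV ((show y = η by
    have h1 : closure ({η} : Set X) ⊆ closure {y} :=
      (isClosed_closure.closure_subset_iff).mpr (Set.singleton_subset_iff.mpr (specializes_iff_mem_closure.mp hy))
    have h2 := hη.2 (isIrreducible_singleton (x := y)).closure h1
    exact (hy.antisymm (specializes_iff_mem_closure.mpr (h2 (subset_closure rfl)))).eq) ▸ hyC.2)
  refine ⟨X.basicOpen g, hW.basicOpen g, hηg, disjoint_iff_inf_le.mpr fun z hz => ?_⟩
  exact (hg z hz.1 ⟨X.basicOpen_le g hz.1, hz.2⟩ trivial).elim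

/-- Let `X` be a quasi-separated scheme, `η_1, …, η_n` generic points of irreducible components of `X`
and `x` any point of `X`. Then some affine open of `X` contains `x` and all the `η_i`. -/
theorem result (X : Scheme.{u}) [QuasiSeparatedSpace X] {n : ℕ}
    (η : Fin n → X) (hη : ∀ i, closure ({η i} : Set X) ∈ irreducibleComponents (X : Type u)) (x : X) :
    ∃ U : X.Opens, IsAffineOpen U ∧ x ∈ U ∧ ∀ i, η i ∈ U := by
  suffices h : ∀ s : Finset (Fin n), ∃ U : X.Opens, IsAffineOpen U ∧ x ∈ U ∧ ∀ i ∈ s, η i ∈ U by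
    obtain ⟨U, hU, hx, h⟩ := h Finset.univ
    exact ⟨U, hU, hx, fun i => h i (Finset.mem_univ i)⟩
  intro s
  induction s using Finset.induction_on with
  | empty =>
    obtain ⟨U, hU, hxU, -⟩ := exists_isAffineOpen_mem_and_subset (x := x) (U := ⊤) trivial
    exact ⟨U, hU, hxU, by simp⟩
  | insert i s _ ih =>
    obtain ⟨V, hV, hxV, hs⟩ := ih
    by_cases hi : η i ∈ V
    · exact ⟨V, hV, hxV, fun j hj => (Finset.mem_insert.mp hj).elim (fun e => e ▸ hi) (hs j)⟩
    obtain ⟨W, hW, hiW, hdisj⟩ := exists_disjoint (hη i) hV hi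
    refine ⟨V ⊔ W, isAffineOpen_sup hV hW hdisj.symm, Or.inl hxV, fun j hj =>
      (Finset.mem_insert.mp hj).elim (fun e => e ▸ Or.inr hiW) fun h => Or.inl (hs j h)⟩

end Groth.Agent.S7386
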