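import Groth.Statements.S2000
import Mathlib.RingTheory.Localization.BaseChange
import Mathlib.LinearAlgebra.TensorProduct.RightExactness
import Mathlib.LinearAlgebra.TensorProduct.Prod
import Mathlib.Tactic.LinearCombination
-- import your own Groth.Agent.* helpers here

set_option autoImplicit false
universe u
open TensorProduct
open EtAlg

namespace Groth.Agent.S2000

open TensorProduct

section
variable {R : Type u} [CommRing R]

theorem pow_smul_bijective {N : Type u} [AddCommGroup N] [Module R N] (f : R)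
    (hf : Function.Bijective fun x : N => f • x) : ∀ k : ℕ, Function.Bijective fun x : N => f ^ k • x
  | 0 => by simp only [pow_zero, one_smul]; exact Function.bijective_id
  | k + 1 => by
    have e : (fun x : N => f ^ (k + 1) • x) = (fun x : N => f • x) ∘ fun x => f ^ k • x :=
      funext fun x => by rw [Function.comp_apply, ← mul_smul, ← pow_succ']
    rw [e]
    exact hf.comp (pow_smul_bijective f hf k)

variable {R' : Type u} [CommRing R'] [Algebra R R'] {f : R}

/-- For a glueing pair every `f`-power torsion element of `R' ⊗ M` comes from one of `M`. -/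
theorem torsion_lift (hRR : EtGlue.IsGlueingPair R R' f) (M : Type u) [AddCommGroup M] [Module R M]
    (t : R' ⊗[R] M) (k : ℕ) (ht : f ^ k • t = 0) :
    ∃ m : M, (1 : R') ⊗ₜ[R] m = t ∧ ∃ j, f ^ j • m = 0 := by
  let Rf := Localization.Away f
  let S := Localization.Away (algebraMap R R' f)
  let p : R →ₗ[R] R' × Rf := (Algebra.linearMap R R').prod (Algebra.linearMap R Rf)
  let aw : Rf →ₗ[R] S :=
    { toFun := Localization.awayMap (algebraMap R R') f
      map_add' := map_add _
      map_smul' := fun r y => by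
        simp only [Algebra.smul_def, map_mul, RingHom.id_apply]
        congr 1
        simp only [Localization.awayMap, IsLocalization.Away.map, IsLocalization.map_eq, Rf]
        exact (IsScalarTower.algebraMap_apply R R' S r).symm }
  let a : R' →ₗ[R] S := (IsScalarTower.toAlgHom R R' S).toLinearMap
  let q : R' × Rf →ₗ[R] S := a.coprod (-aw)
  have hsq : ∀ r, a (algebraMap R R' r) = aw (algebraMap R Rf r) := fun r => by
    show algebraMap R' S (algebraMap R R' r) = Localization.awayMap (algebraMap R R') f (algebraMap R Rf r)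
    simp only [Localization.awayMap, IsLocalization.Away.map, IsLocalization.map_eq, Rf]
    rfl
  have hex : Function.Exact p q := by
    intro z
    constructor
    · intro hz
      obtain ⟨r, h1, h2⟩ := hRR.2.2.1 z.1 z.2 (by
        have : a z.1 + -aw z.2 = 0 := hz
        rwa [← sub_eq_add_neg, sub_eq_zero] at this)
      exact ⟨r, Prod.ext h1 h2⟩
    · rintro ⟨r, rfl⟩
      show a (algebraMap R R' r) + -aw (algebraMap R Rf r) = 0
      rw [hsq, add_neg_cancel]
  have hqs : Function.Surjective q := fun z => by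
    obtain ⟨x, y, hxy⟩ := hRR.2.2.2 z
    exact ⟨(x, y), (sub_eq_add_neg _ _).symm.trans hxy⟩
  let iT : R' ⊗[R] M →ₗ[R] (R' × Rf) ⊗[R] M := (LinearMap.inl R R' Rf).rTensor M
  have h0 : q.rTensor M (iT t) = 0 := by
    have hu : Function.Injective fun z : S ⊗[R] M => f ^ k • z := by
      intro z z' h
      have hunit : IsUnit (algebraMap R S (f ^ k)) := by
        rw [map_pow, IsScalarTower.algebraMap_apply R R' S]
        exact (IsLocalization.Away.algebraMap_isUnit _).pow k
      simp only at h
      rw [← algebraMap_smul S (f ^ k) z, ← algebraMap_smul S (f ^ k) z'] at h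
      exact hunit.smul_left_cancel.1 h
    apply hu
    simp only [← map_smul, ht, map_zero, smul_zero]
  obtain ⟨w, hw⟩ := (rTensor_exact M hex hqs _).1 h0
  obtain ⟨m, rfl⟩ : ∃ m, (1 : R) ⊗ₜ[R] m = w := ⟨TensorProduct.lid R M w, by
    rw [← TensorProduct.lid_symm_apply, LinearEquiv.symm_apply_apply]⟩
  refine ⟨m, ?_, ?_⟩
  · have h := congrArg ((LinearMap.fst R R' Rf).rTensor M) hw
    simp only [iT, ← LinearMap.rTensor_comp_apply, LinearMap.fst_comp_inl, LinearMap.rTensor_id,
      LinearMap.id_apply, LinearMap.rTensor_tmul] at h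
    simpa [p] using h
  · have h := congrArg ((LinearMap.snd R R' Rf).rTensor M) hw
    simp only [iT, ← LinearMap.rTensor_comp_apply, LinearMap.snd_comp_inl, LinearMap.rTensor_zero,
      LinearMap.zero_apply, LinearMap.rTensor_tmul] at h
    have h' : TensorProduct.mk R Rf M 1 m = 0 := by simpa [p] using h
    haveI : IsLocalizedModule (Submonoid.powers f) (TensorProduct.mk R Rf M 1) :=
      (isLocalizedModule_iff_isBaseChange (Submonoid.powers f) Rf _).2 (TensorProduct.isBaseChange R M Rf)
    obtain ⟨⟨_, j, rfl⟩, hj⟩ :=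
      (IsLocalizedModule.eq_zero_iff (Submonoid.powers f) (TensorProduct.mk R Rf M 1)).1 h'
    exact ⟨j, hj⟩

end

/-- Beauville–Laszlo, essential surjectivity with glueability: take a glueing pair (R -> R', f). Fix an
R'-module M', an R-module M₁ on which multiplication by f is bijective (i.e. an R_f-module), and α
an R'-linear isomorphism from the localization of M' at f to R' ⊗_R M₁ (an isomorphism of
R'_f-modules). Then there is an R-module M, glueable for (R -> R', f), with an R'-isomorphism R' ⊗_R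
M ≅ M' and an R-isomorphism M_f ≅ M₁ under which α becomes the canonical identification (R' ⊗_R M)_f
= R' ⊗_R M_f. -/
theorem result (R R' : Type u) [CommRing R] [CommRing R'] [Algebra R R'] (f : R)
    (hRR : EtGlue.IsGlueingPair R R' f) (M' : Type u) [AddCommGroup M'] [Module R' M'] (M₁ : Type u) [AddCommGroup M₁]
    [Module R M₁] (hf : Function.Bijective fun x : M₁ => f • x)
    (α : LocalizedModule (Submonoid.powers (algebraMap R R' f)) M' ≃ₗ[R'] R' ⊗[R] M₁) :
    ∃ (M : Type u) (_ : AddCommGroup M) (_ : Module R M) (_ : EtGlue.IsGlueable R R' f M)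
      (e' : R' ⊗[R] M ≃ₗ[R'] M') (e₁ : LocalizedModule (Submonoid.powers f) M ≃ₗ[R] M₁),
      ∀ m : M, α (LocalizedModule.mkLinearMap (Submonoid.powers (algebraMap R R' f)) M' (e' ((1 : R') ⊗ₜ[R] m))) =
        (1 : R') ⊗ₜ[R] e₁ (LocalizedModule.mkLinearMap (Submonoid.powers f) M m) := by
  letI : Module R M' := Module.compHom M' (algebraMap R R')
  haveI : IsScalarTower R R' M' := ⟨fun r r' x => by
    rw [Algebra.smul_def, mul_smul]; rfl⟩
  let Φ' : M' →ₗ[R'] R' ⊗[R] M₁ :=
    α.toLinearMap ∘ₗ LocalizedModule.mkLinearMap (Submonoid.powers (algebraMap R R' f)) M'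
  let Φ : M' →ₗ[R] R' ⊗[R] M₁ := Φ'.restrictScalars R
  have hfT : ∀ (k : ℕ), Function.Injective fun z : R' ⊗[R] M₁ => f ^ k • z := by
    intro k
    let e : M₁ ≃ₗ[R] M₁ := LinearEquiv.ofBijective (f ^ k • LinearMap.id) (pow_smul_bijective f hf k)
    have he : ⇑(TensorProduct.congr (LinearEquiv.refl R R') e) = fun z => f ^ k • z := by
      funext z
      induction z using TensorProduct.induction_on with
      | zero => simp
      | tmul r m => simp [e]
      | add a b ha hb => simp only [map_add, smul_add, ha, hb]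
    exact he ▸ (TensorProduct.congr (LinearEquiv.refl R R') e).injective
  let M : Submodule R (M' × M₁) :=
    LinearMap.ker (Φ ∘ₗ LinearMap.fst R M' M₁ - TensorProduct.mk R R' M₁ 1 ∘ₗ LinearMap.snd R M' M₁)
  have hM : ∀ z : M' × M₁, z ∈ M ↔ Φ z.1 = (1 : R') ⊗ₜ[R] z.2 := fun z => by
    simp only [M, LinearMap.mem_ker, LinearMap.sub_apply, sub_eq_zero, LinearMap.comp_apply,
      LinearMap.fst_apply, LinearMap.snd_apply, TensorProduct.mk_apply]
  let φ' : M →ₗ[R] M' := LinearMap.fst R M' M₁ ∘ₗ M.subtype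
  let φ₁ : M →ₗ[R] M₁ := LinearMap.snd R M' M₁ ∘ₗ M.subtype
  haveI hloc : IsLocalizedModule (Submonoid.powers f) φ₁ := by
    refine ⟨?_, ?_, ?_⟩
    · rintro ⟨_, k, rfl⟩
      rw [Module.End.isUnit_iff]
      exact pow_smul_bijective f hf k
    · intro y
      obtain ⟨⟨x, ⟨_, k, rfl⟩⟩, hx⟩ :=
        IsLocalizedModule.surj (Submonoid.powers (algebraMap R R' f))
          (LocalizedModule.mkLinearMap (Submonoid.powers (algebraMap R R' f)) M')
          (α.symm ((1 : R') ⊗ₜ[R] y))
      refine ⟨⟨⟨(x, f ^ k • y), (hM _).2 ?_⟩, ⟨f ^ k, k, rfl⟩⟩, rfl⟩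
      show Φ x = (1 : R') ⊗ₜ[R] (f ^ k • y)
      simp only [Submonoid.smul_def] at hx
      show α (LocalizedModule.mkLinearMap _ M' x) = _
      rw [← hx, map_smul, LinearEquiv.apply_symm_apply, tmul_smul, ← map_pow, algebraMap_smul]
    · intro z w hzw
      have h0 : Φ (z.1.1 - w.1.1) = 0 := by
        rw [map_sub, (hM _).1 z.2, (hM _).1 w.2, sub_eq_zero]
        exact congrArg _ hzw
      have h1 : LocalizedModule.mkLinearMap (Submonoid.powers (algebraMap R R' f)) M' (z.1.1 - w.1.1) = 0 :=
        α.injective (h0.trans (map_zero α).symm)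
      obtain ⟨⟨_, k, rfl⟩, hk⟩ := (IsLocalizedModule.eq_zero_iff
        (Submonoid.powers (algebraMap R R' f))
        (LocalizedModule.mkLinearMap (Submonoid.powers (algebraMap R R' f)) M')).1 h1
      simp only [Submonoid.smul_def, smul_sub, sub_eq_zero, ← map_pow, algebraMap_smul] at hk
      exact ⟨⟨f ^ k, k, rfl⟩, Subtype.ext (Prod.ext hk (congrArg (f ^ k • ·) hzw))⟩
  let E : R' ⊗[R] M →ₗ[R'] M' := φ'.liftBaseChange R'
  have hE1 : ∀ m : M, E ((1 : R') ⊗ₜ[R] m) = φ' m := fun m => by simp [E]
  have hdiag : ∀ t : R' ⊗[R] M, Φ' (E t) = φ₁.baseChange R' t := fun t => by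
    induction t using TensorProduct.induction_on with
    | zero => simp
    | add a b ha hb => simp only [map_add, ha, hb]
    | tmul r m =>
      rw [LinearMap.liftBaseChange_tmul, map_smul, LinearMap.baseChange_tmul]
      show r • Φ m.1.1 = _
      rw [(hM _).1 m.2, smul_tmul', smul_eq_mul, mul_one]
      rfl
  haveI : IsLocalizedModule (Submonoid.powers f) (φ₁.lTensor R') := by
    have e : φ₁.lTensor R' = ((TensorProduct.comm R M₁ R').toLinearMap ∘ₗ
        TensorProduct.AlgebraTensorModule.rTensor R R' φ₁) ∘ₗ (TensorProduct.comm R R' M).toLinearMap :=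
      TensorProduct.ext' fun r m => rfl
    rw [e]
    infer_instance
  have htors : ∀ (m : M) (j : ℕ), f ^ j • m = 0 → φ₁ m = 0 := fun m j hj => by
    refine (pow_smul_bijective f hf j).1 ?_
    show f ^ j • φ₁ m = f ^ j • (0 : M₁)
    rw [← map_smul, hj, map_zero, smul_zero]
  have hker : ∀ t : R' ⊗[R] M, E t = 0 → t = 0 := by
    intro t ht
    have h0 : φ₁.lTensor R' t = 0 := by
      have := hdiag t
      rw [ht, map_zero] at this
      exact this.symm
    obtain ⟨⟨_, k, rfl⟩, hk⟩ :=
      (IsLocalizedModule.eq_zero_iff (Submonoid.powers f) (φ₁.lTensor R')).1 h0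
    obtain ⟨m, rfl, j, hj⟩ := torsion_lift hRR M t k hk
    have : m = 0 := Subtype.ext (Prod.ext ((hE1 m).symm.trans ht) (htors m j hj))
    rw [this, tmul_zero]
  have hbij : Function.Bijective E := by
    refine ⟨(injective_iff_map_eq_zero E).2 hker, fun x => ?_⟩
    have key : ∀ w : R' ⊗[R] M₁, ∃ (x' : M') (y : M₁),
        x' ∈ LinearMap.range E ∧ Φ' x' + (1 : R') ⊗ₜ[R] y = w := by
      intro w
      induction w using TensorProduct.induction_on with
      | zero => exact ⟨0, 0, zero_mem _, by simp⟩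
      | add a b ha hb =>
        obtain ⟨x1, y1, h1, e1⟩ := ha
        obtain ⟨x2, y2, h2, e2⟩ := hb
        exact ⟨x1 + x2, y1 + y2, add_mem h1 h2, by rw [map_add, tmul_add, ← e1, ← e2]; abel⟩
      | tmul r y =>
        obtain ⟨⟨m, ⟨_, k, rfl⟩⟩, hm⟩ := IsLocalizedModule.surj (Submonoid.powers f) φ₁ y
        obtain ⟨c, hc⟩ := (hRR.1 (k + 1) k.succ_pos).2 (Ideal.Quotient.mk _ r)
        obtain ⟨c, rfl⟩ := Ideal.Quotient.mk_surjective c
        rw [Ideal.quotientMap_mk, Ideal.Quotient.eq, Ideal.map_span, Set.image_singleton,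
          Ideal.mem_span_singleton'] at hc
        obtain ⟨s, hs⟩ := hc
        refine ⟨(-(s * algebraMap R R' f)) • φ' m, c • y, ⟨_ ⊗ₜ[R] m,
          LinearMap.liftBaseChange_tmul _ _ _ _⟩, ?_⟩
        rw [map_smul]
        show _ • Φ m.1.1 + _ = _
        rw [(hM _).1 m.2, show (m.1.2 : M₁) = f ^ k • y from hm.symm]
        rw [tmul_smul, ← algebraMap_smul R' (f ^ k), smul_tmul', smul_tmul', tmul_smul,
          ← algebraMap_smul R' c, smul_tmul', ← add_tmul]
        congr 1
        simp only [smul_eq_mul, mul_one, map_pow] at hs ⊢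
        linear_combination -hs
    obtain ⟨x', y, ⟨t, ht⟩, hxy⟩ := key (Φ' x)
    have hmem : ((x - x', y) : M' × M₁) ∈ M := (hM _).2 (by
      show Φ' (x - x') = _
      rw [map_sub, ← hxy, add_sub_cancel_left])
    exact ⟨(1 : R') ⊗ₜ[R] ⟨_, hmem⟩ + t, by rw [map_add, hE1, ht]; exact sub_add_cancel x x'⟩
  refine ⟨M, inferInstance, inferInstance, ⟨?_, ?_⟩, LinearEquiv.ofBijective E hbij,
    IsLocalizedModule.iso (Submonoid.powers f) φ₁, fun m => ?_⟩
  · intro m n hmn
    simp only [Prod.mk.injEq] at hmn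
    refine Subtype.ext (Prod.ext ((hE1 m).symm.trans ((congrArg E hmn.1).trans (hE1 n))) ?_)
    have := congrArg (IsLocalizedModule.iso (Submonoid.powers f) φ₁) hmn.2
    simp only [LocalizedModule.mkLinearMap_apply, IsLocalizedModule.iso_mk_one] at this
    exact this
  · intro t y hty
    obtain ⟨⟨m, ⟨_, k, rfl⟩⟩, hm⟩ :=
      IsLocalizedModule.surj (Submonoid.powers f) (LocalizedModule.mkLinearMap (Submonoid.powers f) M) y
    simp only [Submonoid.smul_def] at hm
    -- the difference of `f ^ k • t` and `1 ⊗ m` is torsion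
    have h1 : LocalizedModule.mkLinearMap (Submonoid.powers f) (R' ⊗[R] M)
        (f ^ k • t - (1 : R') ⊗ₜ[R] m) = 0 := by
      rw [map_sub, map_smul]
      have h2 := congrArg (f ^ k • ·) hty
      rw [← map_smul (EtGlue.tensorOfLoc R R' f M), hm] at h2
      rw [show f ^ k • LocalizedModule.mkLinearMap (Submonoid.powers f) (R' ⊗[R] M) t =
        LocalizedModule.mkLinearMap (Submonoid.powers f) (R' ⊗[R] M) ((1 : R') ⊗ₜ[R] m) from
        h2.trans (IsLocalizedModule.map_apply _ _ _ _ _), sub_self]
    obtain ⟨⟨_, j, rfl⟩, hj⟩ := (IsLocalizedModule.eq_zero_iff (Submonoid.powers f)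
      (LocalizedModule.mkLinearMap (Submonoid.powers f) (R' ⊗[R] M))).1 h1
    -- so the image of `t` and the section over `M₁` patch to an element of `M`
    let y₁ := IsLocalizedModule.iso (Submonoid.powers f) φ₁ y
    have hy₁ : f ^ k • y₁ = φ₁ m := by
      rw [← map_smul, hm, LocalizedModule.mkLinearMap_apply, IsLocalizedModule.iso_mk_one]
    have hmem : ((E t, y₁) : M' × M₁) ∈ M := (hM _).2 (by
      show Φ' (E t) = _
      rw [hdiag]
      refine hfT (j + k) ?_
      simp only
      rw [Submonoid.smul_def, smul_sub, sub_eq_zero, smul_smul, ← pow_add] at hj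
      have := congrArg (φ₁.lTensor R') hj
      simp only [map_smul, LinearMap.lTensor_tmul] at this
      rw [pow_add, mul_smul (f ^ j) (f ^ k) ((1 : R') ⊗ₜ[R] y₁), ← tmul_smul (f ^ k), hy₁,
        ← pow_add]
      exact this)
    refine ⟨⟨_, hmem⟩, ?_, ?_⟩
    · rw [← sub_eq_zero]
      apply hker
      rw [map_sub, hE1]
      exact sub_self _
    · apply (IsLocalizedModule.iso (Submonoid.powers f) φ₁).injective
      rw [LocalizedModule.mkLinearMap_apply, IsLocalizedModule.iso_mk_one]
      rfl
  · have h := (hM m.1).1 m.2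
    rw [LinearEquiv.ofBijective_apply, hE1, LocalizedModule.mkLinearMap_apply (Submonoid.powers f),
      IsLocalizedModule.iso_mk_one]
    exact h

end Groth.Agent.S2000
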