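import Groth.Statements.S1208
import Mathlib
import Groth.Agent.FlatInjLib.Main
-- import your own Groth.Agent.* helpers here

set_option autoImplicit false
universe u
open FlatMor

namespace Groth.Agent.S1208

/-- Let S be a finitely presented R-algebra, N a finite S-module and q a prime of S such that N_q is
flat over R. Then N_q is a finitely presented module over S_q. -/
theorem result {R S : Type u} [CommRing R] [CommRing S] [Algebra R S] [Algebra.FinitePresentation R S]
    (N : Type u) [AddCommGroup N] [Module S N] [Module R N] [IsScalarTower R S N] [Module.Finite S N]
    (q : Ideal S) [q.IsPrime] (h : FlatCA.FlatAt R q N) :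
    Module.FinitePresentation (Localization.AtPrime q) (LocalizedModule q.primeCompl N) := by
  let p := q.comap (algebraMap R S)
  letI : Algebra (Localization.AtPrime p) (Localization.AtPrime q) :=
    (Localization.localRingHom p q (algebraMap R S) rfl).toAlgebra
  haveI : IsScalarTower R (Localization.AtPrime p) (Localization.AtPrime q) := IsScalarTower.of_algebraMap_eq fun x => by
    rw [RingHom.algebraMap_toAlgebra, Localization.localRingHom_to_map, ← IsScalarTower.algebraMap_apply]
  haveI : IsLocalHom (algebraMap (Localization.AtPrime p) (Localization.AtPrime q)) :=
    Localization.isLocalHom_localRingHom p q (algebraMap R S) rfl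
  haveI : Algebra.EssFiniteType R (Localization.AtPrime q) := Algebra.EssFiniteType.comp R S (Localization.AtPrime q)
  haveI : Algebra.EssFiniteType (Localization.AtPrime p) (Localization.AtPrime q) :=
    Algebra.EssFiniteType.of_comp R (Localization.AtPrime p) (Localization.AtPrime q)
  let M := LocalizedModule q.primeCompl N
  letI : Module (Localization.AtPrime p) M := Module.compHom M (algebraMap (Localization.AtPrime p) (Localization.AtPrime q))
  haveI : IsScalarTower (Localization.AtPrime p) (Localization.AtPrime q) M := IsScalarTower.of_compHom _ _ _
  haveI : IsScalarTower R (Localization.AtPrime p) M := IsScalarTower.of_algebraMap_smul fun x y => by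
    show algebraMap (Localization.AtPrime p) (Localization.AtPrime q) (algebraMap R _ x) • y = x • y
    rw [← IsScalarTower.algebraMap_apply, IsScalarTower.algebraMap_apply R S (Localization.AtPrime q), algebraMap_smul,
      algebraMap_smul]
  haveI : Module.Flat R M := h
  haveI : Module.Flat (Localization.AtPrime p) M :=
    (Module.flat_iff_of_isLocalization (Localization.AtPrime p) p.primeCompl M).2 inferInstance
  exact FlatInjLib.finitePresentation_of_injective_mod (A := Localization.AtPrime p) (LinearMap.id : M →ₗ[Localization.AtPrime q] M) fun x hx => hx

end Groth.Agent.S1208
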