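import Groth.Statements.S9349
import Groth.Agent.QCohLib.Push
import Groth.Agent.RichLib.IsFPAffine
import Groth.Agent.RGFlatLib.EtaleFlat
-- import your own Groth.Agent.* helpers here

set_option autoImplicit false
set_option backward.isDefEq.respectTransparency false
set_option linter.all false
universe u
open FlatMod

namespace Groth.Agent.S9349

open CategoryTheory CategoryTheory.Limits AlgebraicGeometry TopologicalSpace Opposite

/-- Flatness of a direct image along an affine morphism. -/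
theorem isFlatOver_push_iff {Z P : Scheme.{u}} (j : Z ⟶ P) [IsAffineHom j] {T : Scheme.{u}} (f : P ⟶ T) (G : Z.Modules) [Coh.IsQCoh G] :
    FlatMod.IsFlatOver f ((Scheme.Modules.pushforward j).obj G) ↔ FlatMod.IsFlatOver (j ≫ f) G := by
  haveI : Coh.IsQCoh ((Scheme.Modules.pushforward j).obj G) := QCohLib.isQCoh_pushforward j G
  have key : ∀ {U : T.Opens} {V : P.Opens} (hVU : V ≤ f ⁻¹ᵁ U),
      (j ≫ f).appLE U (j ⁻¹ᵁ V) (j.preimage_mono hVU) = f.appLE U V hVU ≫ j.app V := fun hVU => by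
    rw [← Scheme.Hom.appLE_eq_app, Scheme.Hom.appLE_comp_appLE]
  constructor
  · intro h z
    obtain ⟨U, hU, hzU, -⟩ := exists_isAffineOpen_mem_and_subset (x := f (j z)) (U := ⊤) trivial
    obtain ⟨V, hV, hzV, hVU⟩ := exists_isAffineOpen_mem_and_subset (x := j z) (U := f ⁻¹ᵁ U) hzU
    letI : Algebra Γ(T, U) Γ(P, V) := (f.appLE U V hVU).hom.toAlgebra
    letI : Module Γ(T, U) Γ((Scheme.Modules.pushforward j).obj G, V) := Module.compHom _ (f.appLE U V hVU).hom
    haveI : IsScalarTower Γ(T, U) Γ(P, V) Γ((Scheme.Modules.pushforward j).obj G, V) :=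
      IsScalarTower.of_algebraMap_smul fun _ _ => rfl
    haveI hfl : Module.Flat Γ(T, U) Γ((Scheme.Modules.pushforward j).obj G, V) :=
      RichLib.IsFPAffine.flat_sections f _ hU hV hVU rfl fun w _ => h w
    letI : Algebra Γ(T, U) Γ(Z, j ⁻¹ᵁ V) := ((j ≫ f).appLE U (j ⁻¹ᵁ V) (j.preimage_mono hVU)).hom.toAlgebra
    letI : Module Γ(T, U) Γ(G, j ⁻¹ᵁ V) := Module.compHom _ ((j ≫ f).appLE U (j ⁻¹ᵁ V) (j.preimage_mono hVU)).hom
    haveI : IsScalarTower Γ(T, U) Γ(Z, j ⁻¹ᵁ V) Γ(G, j ⁻¹ᵁ V) := IsScalarTower.of_algebraMap_smul fun _ _ => rfl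
    haveI : Module.Flat Γ(T, U) Γ(G, j ⁻¹ᵁ V) := by
      let e : Γ((Scheme.Modules.pushforward j).obj G, V) ≃ₗ[Γ(T, U)] Γ(G, j ⁻¹ᵁ V) :=
        { toFun := fun x => x
          invFun := fun x => x
          map_add' := fun _ _ => rfl
          map_smul' := fun a x => (QCohLib.push_smul j G (f.appLE U V hVU a) x).trans
            (congrArg (· • (show Γ(G, j ⁻¹ᵁ V) from x)) (congr($(key hVU) a)).symm)
          left_inv := fun _ => rfl
          right_inv := fun _ => rfl }
      exact Module.Flat.of_linearEquiv e.symm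
    exact RGFlatLib.isFlatOverAt_of_flat_sections (j ≫ f) G hU (hV.preimage j) (j.preimage_mono hVU) rfl hzV
  · intro h x
    obtain ⟨U, hU, hxU, -⟩ := exists_isAffineOpen_mem_and_subset (x := f x) (U := ⊤) trivial
    obtain ⟨V, hV, hxV, hVU⟩ := exists_isAffineOpen_mem_and_subset (x := x) (U := f ⁻¹ᵁ U) hxU
    letI : Algebra Γ(T, U) Γ(P, V) := (f.appLE U V hVU).hom.toAlgebra
    letI : Module Γ(T, U) Γ((Scheme.Modules.pushforward j).obj G, V) := Module.compHom _ (f.appLE U V hVU).hom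
    haveI : IsScalarTower Γ(T, U) Γ(P, V) Γ((Scheme.Modules.pushforward j).obj G, V) :=
      IsScalarTower.of_algebraMap_smul fun _ _ => rfl
    letI : Algebra Γ(T, U) Γ(Z, j ⁻¹ᵁ V) := ((j ≫ f).appLE U (j ⁻¹ᵁ V) (j.preimage_mono hVU)).hom.toAlgebra
    letI : Module Γ(T, U) Γ(G, j ⁻¹ᵁ V) := Module.compHom _ ((j ≫ f).appLE U (j ⁻¹ᵁ V) (j.preimage_mono hVU)).hom
    haveI : IsScalarTower Γ(T, U) Γ(Z, j ⁻¹ᵁ V) Γ(G, j ⁻¹ᵁ V) := IsScalarTower.of_algebraMap_smul fun _ _ => rfl
    haveI hfl : Module.Flat Γ(T, U) Γ(G, j ⁻¹ᵁ V) :=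
      RichLib.IsFPAffine.flat_sections (j ≫ f) _ hU (hV.preimage j) (j.preimage_mono hVU) rfl fun w _ => h w
    haveI : Module.Flat Γ(T, U) Γ((Scheme.Modules.pushforward j).obj G, V) := by
      let e : Γ((Scheme.Modules.pushforward j).obj G, V) ≃ₗ[Γ(T, U)] Γ(G, j ⁻¹ᵁ V) :=
        { toFun := fun x => x
          invFun := fun x => x
          map_add' := fun _ _ => rfl
          map_smul' := fun a x => (QCohLib.push_smul j G (f.appLE U V hVU a) x).trans
            (congrArg (· • (show Γ(G, j ⁻¹ᵁ V) from x)) (congr($(key hVU) a)).symm)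
          left_inv := fun _ => rfl
          right_inv := fun _ => rfl }
      exact Module.Flat.of_linearEquiv e
    exact RGFlatLib.isFlatOverAt_of_flat_sections f _ hU hV hVU rfl hxV


open AlgebraicGeometry CategoryTheory in
/-- Let f : X → Y be an affine morphism of S-schemes, with q : Y → S, and F a quasi-coherent O_X-module.
Flatness of F over S (along f ≫ q) is equivalent to flatness of f_*F over S (along q). -/
theorem result {X Y S : Scheme.{u}} (f : X ⟶ Y) [IsAffineHom f] (q : Y ⟶ S)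
    (F : X.Modules) (hF : Coh.IsQCoh F) :
    FlatMod.IsFlatOver (f ≫ q) F ↔ FlatMod.IsFlatOver q ((Coh.push f).obj F) := by
  haveI := hF
  exact (isFlatOver_push_iff f q F).symm

end Groth.Agent.S9349
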