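import Groth.Statements.S9351
import Mathlib

set_option autoImplicit false
universe u
open FlatMod

namespace Groth.Agent.S9351


open CategoryTheory AlgebraicGeometry

section Ring
open PrimeSpectrum

variable {R S : Type u} [CommRing R] [CommRing S]

theorem pure_of_zero_nearby (I : Ideal R)
    (h : ∀ x ∈ I, ∀ m : Ideal R, m.IsPrime → I ≤ m → ∃ t ∉ m, t * x = 0) : I.Pure := by
  refine Ideal.Pure.of_inf_eq_mul I fun J _ => le_antisymm (fun x hx => ?_) Ideal.mul_le_inf
  have key : I ⊔ Submodule.annihilator (Ideal.span {x} : Ideal R) = ⊤ := by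
    by_contra hne
    obtain ⟨m, hm, hle⟩ := Ideal.exists_le_maximal _ hne
    obtain ⟨t, ht, htx⟩ := h x hx.1 m hm.isPrime (le_sup_left.trans hle)
    refine ht (le_sup_right.trans hle ((Submodule.mem_annihilator).2 fun z hz => ?_))
    obtain ⟨c, rfl⟩ := Ideal.mem_span_singleton'.1 hz
    rw [smul_eq_mul, mul_left_comm, htx, mul_zero]
  obtain ⟨y, hy, e, he, hye⟩ := Submodule.mem_sup.1 (key ▸ Submodule.mem_top (x := (1 : R)))
  have hex : e * x = 0 := Submodule.mem_annihilator.1 he x (Ideal.mem_span_singleton_self x)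
  have hxy : y * x = x := by
    calc y * x = (y + e) * x := by rw [add_mul, hex, add_zero]
      _ = x := by rw [hye, one_mul]
  rw [← hxy]
  exact Ideal.mul_mem_mul hy hx.2

theorem zero_nearby_of_pure (I : Ideal R) [I.Pure] {x : R} (hx : x ∈ I) {m : Ideal R}
    (hm : m.IsPrime) (hle : I ≤ m) : ∃ t ∉ m, t * x = 0 := by
  obtain ⟨y, hy, hxy⟩ := Ideal.exists_eq_mul_of_pure hx
  refine ⟨1 - y, fun ht => hm.ne_top ((Ideal.eq_top_iff_one _).2 ?_), ?_⟩
  · simpa using m.add_mem ht (hle hy)
  · rw [sub_mul, one_mul, mul_comm y x, ← hxy, sub_self]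

theorem pure_map (φ : R →+* S) (I : Ideal R) [I.Pure] : (I.map φ).Pure := by
  refine pure_of_zero_nearby _ fun x hx m hm hle => ?_
  induction hx using Submodule.span_induction with
  | mem z hz =>
    obtain ⟨a, ha, rfl⟩ := hz
    obtain ⟨t, ht, hta⟩ := zero_nearby_of_pure I ha (m := m.comap φ) (Ideal.IsPrime.comap φ)
      (Ideal.map_le_iff_le_comap.1 hle)
    exact ⟨φ t, ht, by rw [← map_mul, hta, map_zero]⟩
  | zero => exact ⟨1, hm.one_notMem, mul_zero _⟩
  | add z w _ _ ihz ihw =>
    obtain ⟨t, ht, htz⟩ := ihz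
    obtain ⟨t', ht', htw⟩ := ihw
    exact ⟨t * t', fun hc => (hm.mem_or_mem hc).elim ht ht',
      by rw [mul_add, mul_assoc t t' w, htw, mul_zero, add_zero, mul_right_comm, htz, zero_mul]⟩
  | smul r z _ ihz =>
    obtain ⟨t, ht, htz⟩ := ihz
    exact ⟨t, ht, by rw [smul_eq_mul, mul_left_comm, htz, mul_zero]⟩

/-- The pure ideal with zero locus `Z`. -/
def pureIdeal (Z : Set (PrimeSpectrum R)) : Ideal R where
  carrier := {x | ∀ p ∈ Z, ∃ s ∉ p.asIdeal, s * x = 0}
  zero_mem' := fun p _ => ⟨1, p.isPrime.one_notMem, mul_zero _⟩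
  add_mem' := fun {x y} hx hy p hp => by
    obtain ⟨s, hs, hsx⟩ := hx p hp
    obtain ⟨t, ht, hty⟩ := hy p hp
    exact ⟨s * t, fun hc => (p.isPrime.mem_or_mem hc).elim hs ht,
      by rw [mul_add, mul_assoc s t y, hty, mul_zero, add_zero, mul_right_comm, hsx, zero_mul]⟩
  smul_mem' := fun r x hx p hp => by
    obtain ⟨s, hs, hsx⟩ := hx p hp
    exact ⟨s, hs, by rw [smul_eq_mul, mul_left_comm, hsx, mul_zero]⟩

theorem zeroLocus_pureIdeal {Z : Set (PrimeSpectrum R)} (hc : IsClosed Z)
    (hg : StableUnderGeneralization Z) : zeroLocus (pureIdeal Z : Set R) = Z := by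
  refine le_antisymm (fun p hp => ?_) (fun p hp x hx => ?_)
  · by_contra hpZ
    have key : ∀ z ∈ Z, ∃ a ∉ p.asIdeal, ∃ s ∉ z.asIdeal, s * a = 0 := by
      intro z hz
      by_contra hcon
      push Not at hcon
      have hdis : Disjoint ((⊥ : Ideal R) : Set R)
          (z.asIdeal.primeCompl ⊔ p.asIdeal.primeCompl : Submonoid R) := by
        refine Set.disjoint_left.2 fun x hx hxS => ?_
        obtain ⟨s, hs, t, ht, rfl⟩ := Submonoid.mem_sup.1 hxS
        exact hcon t ht s hs hx
      obtain ⟨q, hq, -, hqS⟩ := Ideal.exists_le_prime_disjoint _ _ hdis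
      have hqz : (⟨q, hq⟩ : PrimeSpectrum R) ≤ z := fun x hx => by
        by_contra hxz
        exact Set.disjoint_left.1 hqS hx (Submonoid.mem_sup_left hxz)
      have hqp : (⟨q, hq⟩ : PrimeSpectrum R) ≤ p := fun x hx => by
        by_contra hxp
        exact Set.disjoint_left.1 hqS hx (Submonoid.mem_sup_right hxp)
      exact hpZ (((le_iff_specializes _ _).1 hqp).mem_closed hc
        (hg ((le_iff_specializes _ _).1 hqz) hz))
    choose a ha s hs hsa using key
    classical
    obtain ⟨t, ht⟩ := hc.isCompact.elim_finite_subcover (fun z : Z => ((basicOpen (s z z.2) : TopologicalSpace.Opens (PrimeSpectrum R)) : Set (PrimeSpectrum R)))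
      (fun z => (basicOpen (s z z.2)).2) (fun z hz => Set.mem_iUnion.2 ⟨⟨z, hz⟩, hs z hz⟩)
    have hmem : (∏ z ∈ t, a z z.2) ∈ pureIdeal Z := fun q hq => by
      obtain ⟨z, hzt, hqz⟩ := Set.mem_iUnion₂.1 (ht hq)
      exact ⟨s z z.2, hqz, by rw [← Finset.mul_prod_erase t _ hzt, ← mul_assoc, hsa, zero_mul]⟩
    obtain ⟨z, -, hz⟩ := (Ideal.IsPrime.prod_mem_iff (hp := p.isPrime)).1 (hp hmem)
    exact ha z z.2 hz
  · obtain ⟨s, hs, hsx⟩ := hx p hp
    exact (p.isPrime.mem_or_mem (hsx ▸ p.asIdeal.zero_mem)).resolve_left hs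

theorem pure_pureIdeal {Z : Set (PrimeSpectrum R)} (hc : IsClosed Z)
    (hg : StableUnderGeneralization Z) : (pureIdeal Z).Pure :=
  pure_of_zero_nearby _ fun x hx m hm hle => hx ⟨m, hm⟩ (by
    rw [← zeroLocus_pureIdeal hc hg]; exact hle)

end Ring

variable {X : Scheme.{u}}

abbrev zset (Z : TopologicalSpace.Closeds X) (U : X.affineOpens) : Set (PrimeSpectrum Γ(X, U.1)) :=
  U.2.fromSpec ⁻¹' (Z : Set X)

theorem isClosed_zset (Z : TopologicalSpace.Closeds X) (U : X.affineOpens) :
    IsClosed (zset Z U) :=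
  Z.2.preimage U.2.fromSpec.continuous

theorem gen_zset {Z : TopologicalSpace.Closeds X} (hZ : StableUnderGeneralization (Z : Set X))
    (U : X.affineOpens) : StableUnderGeneralization (zset Z U) :=
  fun _ _ h hx => hZ (h.map U.2.fromSpec.continuous) hx

theorem map_pureIdeal {Z : TopologicalSpace.Closeds X} (hZ : StableUnderGeneralization (Z : Set X))
    (U V : X.affineOpens) (i : Opposite.op U.1 ⟶ Opposite.op V.1) :
    (pureIdeal (zset Z U)).map (X.presheaf.map i).hom = pureIdeal (zset Z V) := by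
  haveI := pure_pureIdeal (isClosed_zset Z U) (gen_zset hZ U)
  haveI := pure_pureIdeal (isClosed_zset Z V) (gen_zset hZ V)
  haveI := pure_map (X.presheaf.map i).hom (pureIdeal (zset Z U))
  rw [← Ideal.zeroLocus_inj_of_pure, zeroLocus_pureIdeal (isClosed_zset Z V) (gen_zset hZ V)]
  rw [Ideal.map, PrimeSpectrum.zeroLocus_span, ← PrimeSpectrum.preimage_comap_zeroLocus,
    zeroLocus_pureIdeal (isClosed_zset Z U) (gen_zset hZ U)]
  ext q
  have h := U.2.map_fromSpec V.2 i
  show U.2.fromSpec (Spec.map (X.presheaf.map i) q) ∈ (Z : Set X) ↔ V.2.fromSpec q ∈ (Z : Set X)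
  rw [← Scheme.Hom.comp_apply, h]

def idealSheaf (Z : TopologicalSpace.Closeds X) (hZ : StableUnderGeneralization (Z : Set X)) :
    X.IdealSheafData where
  ideal U := pureIdeal (zset Z U)
  map_ideal_basicOpen U f := map_pureIdeal hZ U (X.affineBasicOpen f) _

theorem preimage_support (I : X.IdealSheafData) (U : X.affineOpens) :
    U.2.fromSpec ⁻¹' (I.support : Set X) = PrimeSpectrum.zeroLocus (I.ideal U : Set Γ(X, U.1)) := by
  apply U.2.fromSpec.isOpenEmbedding.injective.image_injective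
  rw [Set.image_preimage_eq_inter_range, U.2.range_fromSpec, I.coe_support_inter U,
    U.2.fromSpec_image_zeroLocus]

theorem pure_of_flat (I : X.IdealSheafData) [Flat I.subschemeι] (U : X.affineOpens) :
    (I.ideal U).Pure := by
  have hflat : (I.subschemeι.app U.1).hom.Flat := by
    rw [Scheme.Hom.app_eq_appLE]
    exact I.subschemeι.flat_appLE U.2 (U.2.preimage I.subschemeι) le_rfl
  let φ := (I.subschemeι.app U.1).hom
  letI := φ.toAlgebra
  haveI : Module.Flat Γ(X, U.1) Γ(I.subscheme, I.subschemeι ⁻¹ᵁ U.1) := hflat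
  have hs : Function.Surjective (Algebra.ofId Γ(X, U.1) Γ(I.subscheme, I.subschemeι ⁻¹ᵁ U.1)) :=
    I.subschemeι_app_surjective U
  have hk : RingHom.ker (Algebra.ofId Γ(X, U.1) Γ(I.subscheme, I.subschemeι ⁻¹ᵁ U.1)) = I.ideal U :=
    I.ker_subschemeι_app U
  exact Module.Flat.of_linearEquiv
    ((Ideal.quotientEquivAlgOfEq _ hk.symm).trans
      (Ideal.quotientKerAlgEquivOfSurjective hs)).toLinearEquiv

theorem flat_of_pure (I : X.IdealSheafData) (h : ∀ U, (I.ideal U).Pure) : Flat I.subschemeι := by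
  rw [HasRingHomProperty.iff_appLE (P := @Flat)]
  intro U V e
  haveI := h U
  have hflat : (I.subschemeι.app U.1).hom.Flat := by
    letI := (I.subschemeι.app U.1).hom.toAlgebra
    have hs : Function.Surjective (Algebra.ofId Γ(X, U.1) Γ(I.subscheme, I.subschemeι ⁻¹ᵁ U.1)) :=
      I.subschemeι_app_surjective U
    have hk : RingHom.ker (Algebra.ofId Γ(X, U.1) Γ(I.subscheme, I.subschemeι ⁻¹ᵁ U.1)) = I.ideal U :=
      I.ker_subschemeι_app U
    exact Module.Flat.of_linearEquiv
      ((Ideal.quotientEquivAlgOfEq _ hk.symm).trans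
        (Ideal.quotientKerAlgEquivOfSurjective hs)).symm.toLinearEquiv
  have hres := (𝟙 I.subscheme : I.subscheme ⟶ I.subscheme).flat_appLE
    (U.2.preimage I.subschemeι) V.2 e
  simp only [Scheme.Hom.appLE] at hres ⊢
  simp only [Scheme.Hom.id_app, CategoryTheory.Category.id_comp] at hres
  exact hflat.comp hres

theorem stable_support (I : X.IdealSheafData) [Flat I.subschemeι] :
    StableUnderGeneralization (I.support : Set X) := by
  rw [← I.range_subschemeι]
  exact (Flat.generalizingMap I.subschemeι).stableUnderGeneralization_range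

theorem le_ker_of_range (I : X.IdealSheafData) [Flat I.subschemeι] {Y : Scheme.{u}} (g : Y ⟶ X)
    (hg : Set.range g ⊆ (I.support : Set X)) : I ≤ g.ker := by
  refine le_sSup ?_
  intro U a ha
  haveI := pure_of_flat I U
  rw [RingHom.mem_ker]
  refine TopCat.Presheaf.section_ext Y.sheaf _ _ _ fun y hy => ?_
  have hy' : g y ∈ U.1 := hy
  obtain ⟨p, hp⟩ : g y ∈ Set.range U.2.fromSpec := by rw [U.2.range_fromSpec]; exact hy'
  have hpI : p ∈ PrimeSpectrum.zeroLocus (I.ideal U : Set Γ(X, U.1)) := by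
    refine Set.ext_iff.1 (preimage_support I U) p |>.1 ?_
    show U.2.fromSpec p ∈ (I.support : Set X)
    rw [hp]
    exact hg ⟨y, rfl⟩
  obtain ⟨t, ht, hta⟩ := zero_nearby_of_pure (I.ideal U) ha p.isPrime hpI
  have htU : IsUnit (Y.presheaf.germ (g ⁻¹ᵁ U.1) y hy ((g.app U.1).hom t)) := by
    have hb : g y ∈ X.basicOpen t := by
      rw [← hp]
      have : p ∈ U.2.fromSpec ⁻¹ᵁ X.basicOpen t := by
        rw [U.2.fromSpec_preimage_basicOpen]; exact ht
      exact this
    have hb' : y ∈ Y.basicOpen ((g.app U.1).hom t) := by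
      rw [← Scheme.preimage_basicOpen]; exact hb
    exact (Y.mem_basicOpen _ y hy).1 hb'
  refine Eq.trans ?_ (map_zero (Y.presheaf.germ (g ⁻¹ᵁ U.1) y hy).hom).symm
  have h0 := congrArg (fun z => Y.presheaf.germ (g ⁻¹ᵁ U.1) y hy ((g.app U.1).hom z)) hta
  simp only [map_mul, map_zero] at h0
  exact (htU.mul_right_eq_zero).1 h0


open AlgebraicGeometry CategoryTheory in
/-- On a scheme X, taking supports is a bijection from the closed subschemes Z ⊆ X with Z → X flat
(indexed by their quasi-coherent ideal sheaves) onto the closed subsets of X stable under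
generalization; and any morphism g : Y → X with image inside such a Z factors through Z. -/
theorem result (X : Scheme.{u}) :
    Set.BijOn (fun I : X.IdealSheafData => I.support) {I : X.IdealSheafData | Flat I.subschemeι}
        {Z : TopologicalSpace.Closeds ↑X | StableUnderGeneralization (Z : Set ↑X)} ∧
      ∀ I : X.IdealSheafData, Flat I.subschemeι → ∀ (Y : Scheme.{u}) (g : Y ⟶ X),
        Set.range g.base ⊆ (I.support : Set ↑X) → ∃ g' : Y ⟶ I.subscheme, g' ≫ I.subschemeι = g := by
  refine ⟨⟨fun I hI => ?_, ?_, ?_⟩, fun I hI Y g hg => ?_⟩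
  · haveI : Flat I.subschemeι := hI
    exact stable_support I
  · intro I hI J hJ hsupp
    haveI : Flat I.subschemeι := hI
    haveI : Flat J.subschemeι := hJ
    ext1
    funext U
    haveI := pure_of_flat I U
    haveI := pure_of_flat J U
    exact Ideal.zeroLocus_inj_of_pure.1 (by rw [← preimage_support, ← preimage_support]; exact congrArg (fun Z : TopologicalSpace.Closeds X => U.2.fromSpec ⁻¹' (Z : Set X)) hsupp)
  · intro Z hZ
    refine ⟨idealSheaf Z hZ, flat_of_pure _ (fun U => pure_pureIdeal (isClosed_zset Z U) (gen_zset hZ U)), ?_⟩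
    refine SetLike.coe_injective (Set.ext fun x => ?_)
    obtain ⟨U, hU, hxU, -⟩ := exists_isAffineOpen_mem_and_subset (X := X) (x := x) (U := ⊤) trivial
    obtain ⟨p, rfl⟩ : x ∈ Set.range hU.fromSpec := by rw [hU.range_fromSpec]; exact hxU
    have h := preimage_support (idealSheaf Z hZ) ⟨U, hU⟩
    have h' : PrimeSpectrum.zeroLocus ((idealSheaf Z hZ).ideal ⟨U, hU⟩ : Set Γ(X, U)) =
        zset Z ⟨U, hU⟩ := zeroLocus_pureIdeal (isClosed_zset Z _) (gen_zset hZ _)
    exact Set.ext_iff.1 (h.trans h') p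
  · haveI : Flat I.subschemeι := hI
    refine ⟨IsClosedImmersion.lift I.subschemeι g ?_, IsClosedImmersion.lift_fac _ _ _⟩
    rw [Scheme.IdealSheafData.ker_subschemeι]
    exact le_ker_of_range I g hg

end Groth.Agent.S9351
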