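import Groth.Statements.S11180
import Groth.Agent.AdicRingLib.Completion
import Mathlib.RingTheory.AdicCompletion.LocalRing
import Mathlib.RingTheory.AdicCompletion.AsTensorProduct
import Mathlib.RingTheory.Flat.FaithfullyFlat.Algebra
import Mathlib.RingTheory.LocalProperties.Submodule
import Mathlib.RingTheory.Localization.BaseChange
-- import your own Groth.Agent.* helpers here

set_option autoImplicit false
set_option linter.style.haveILetI false
universe u
open scoped TensorProduct
open CAlg

namespace Groth.Agent.S11180

/-- Let A be a Noetherian ring and M an A-module. If an element m of M is such that 1 ⊗ m = 0 in B ⊗_A M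
for every A-algebra B which is a complete Noetherian local ring, flat over A, then m = 0.
(Equivalently the natural map from M to the limit of the modules B ⊗_A M over all such B is
injective.) -/
theorem result (A : Type u) [CommRing A] [IsNoetherianRing A] (M : Type u) [AddCommGroup M] [Module A M] (m : M) (h : ∀ (B : Type u) [CommRing B] [Algebra A B] [IsNoetherianRing B] [IsLocalRing B], IsAdicComplete (IsLocalRing.maximalIdeal B) B → Module.Flat A B → (1 : B) ⊗ₜ[A] m = 0) : m = 0 := by
  refine Module.eq_zero_of_localization_maximal _ (fun (P : Ideal A) (_ : P.IsMaximal) => TensorProduct.mk A (Localization.AtPrime P) M 1) m fun P _ => ?_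
  let L := Localization.AtPrime P
  haveI : IsNoetherianRing L := IsLocalization.isNoetherianRing P.primeCompl L inferInstance
  let B := AdicCompletion (IsLocalRing.maximalIdeal L) L
  haveI : IsNoetherianRing B := AdicRingLib.isNoetherianRing_adicCompletion _
  haveI : IsScalarTower A L B := inferInstance
  haveI : Module.Flat A B := Module.Flat.trans A L B
  haveI hB : IsAdicComplete (IsLocalRing.maximalIdeal B) B := by
    rw [AdicCompletion.maximalIdeal_eq_map]
    exact AdicCompletion.isAdicComplete_self _ (IsNoetherian.noetherian _)
  haveI : IsLocalHom (algebraMap L B) := by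
    refine ⟨fun a ha => ?_⟩
    by_contra hna
    have h1 : algebraMap L B a ∈ IsLocalRing.maximalIdeal B := by
      rw [AdicCompletion.maximalIdeal_eq_map]
      exact Ideal.mem_map_of_mem _ ((IsLocalRing.mem_maximalIdeal _).2 hna)
    exact (IsLocalRing.mem_maximalIdeal _).1 h1 ha
  haveI : Module.FaithfullyFlat L B := Module.FaithfullyFlat.of_flat_of_isLocalHom
  have h0 := h B hB inferInstance
  apply Module.FaithfullyFlat.tensorProduct_mk_injective (A := L) (B := B) (TensorProduct A L M)
  rw [map_zero]
  apply (TensorProduct.AlgebraTensorModule.cancelBaseChange A L L B M).injective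
  rw [map_zero, ← h0]
  simp

end Groth.Agent.S11180
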