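import Groth.Statements.S12083
import Groth.Agent.RelFPLib.Basic
-- import your own Groth.Agent.* helpers here

set_option autoImplicit false
set_option linter.style.haveILetI false
universe u
open CAlg

namespace Groth.Agent.S12083

/-- Let `R → A` be a finite type ring map with a surjective presentation `α : R[x_1, …, x_n] → A` and
`M` an `A`-module finitely presented relative to `R` (finitely presented as an `R[x_1, …,
x_n]`-module through `α`). For a ring map `R → R'` let `A' = R' ⊗_R A` (a pushout square) and `γ :
R'[z_1, …, z_k] → A'` any surjective presentation. Then `A' ⊗_A M = R' ⊗_R M` is finitely presented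
relative to `R'`, i.e. finitely presented as an `R'[z_1, …, z_k]`-module through `γ`. -/
theorem result {R A R' A' : Type u} [CommRing R] [CommRing A] [CommRing R'] [CommRing A']
    [Algebra R A] [Algebra R R'] [Algebra A A'] [Algebra R' A'] [Algebra R A'] [IsScalarTower R A A'] [IsScalarTower R R' A']
    [Algebra.IsPushout R A R' A'] [Algebra.FiniteType R A] (M : Type u) [AddCommGroup M] [Module A M] {n k : ℕ}
    (α : MvPolynomial (Fin n) R →ₐ[R] A) (hα : Function.Surjective α)
    (hM : @Module.FinitePresentation (MvPolynomial (Fin n) R) M _ _ (Module.compHom M α.toRingHom))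
    (γ : MvPolynomial (Fin k) R' →ₐ[R'] A') (hγ : Function.Surjective γ) :
    @Module.FinitePresentation (MvPolynomial (Fin k) R') (TensorProduct A A' M) _ _
      (Module.compHom (TensorProduct A A' M) γ.toRingHom) := by
  let P := MvPolynomial (Fin n) R
  let P' := MvPolynomial (Fin n) R'
  letI : Algebra P P' := MvPolynomial.algebraMvPolynomial
  letI : Algebra P A := α.toRingHom.toAlgebra
  haveI : IsScalarTower R P A := IsScalarTower.of_algebraMap_eq fun r => (α.commutes r).symm
  let α' : P' →ₐ[R'] A' := MvPolynomial.aeval fun j => algebraMap A A' (α (MvPolynomial.X j))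
  letI : Algebra P' A' := α'.toRingHom.toAlgebra
  haveI : IsScalarTower R' P' A' := IsScalarTower.of_algebraMap_eq fun r => (α'.commutes r).symm
  letI : Algebra P A' := ((algebraMap A A').comp α.toRingHom).toAlgebra
  haveI : IsScalarTower P A A' := IsScalarTower.of_algebraMap_eq fun _ => rfl
  have hcomp : (algebraMap P' A').comp (algebraMap P P') = algebraMap P A' := by
    refine MvPolynomial.ringHom_ext (fun r => ?_) fun j => ?_
    · show α' (MvPolynomial.map (algebraMap R R') (MvPolynomial.C r)) = algebraMap A A' (α (MvPolynomial.C r))
      rw [MvPolynomial.map_C, MvPolynomial.algHom_C α', MvPolynomial.algHom_C α,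
        ← IsScalarTower.algebraMap_apply, ← IsScalarTower.algebraMap_apply]
    · show α' (MvPolynomial.map (algebraMap R R') (MvPolynomial.X j)) = algebraMap A A' (α (MvPolynomial.X j))
      rw [MvPolynomial.map_X]
      exact MvPolynomial.aeval_X _ _
  haveI : IsScalarTower P P' A' := IsScalarTower.of_algebraMap_eq fun x => (RingHom.congr_fun hcomp x).symm
  haveI : IsScalarTower R P A' := IsScalarTower.of_algebraMap_eq fun r => by
    rw [IsScalarTower.algebraMap_apply R A A', IsScalarTower.algebraMap_apply R P A]
    rfl
  haveI : IsScalarTower R P' A' := IsScalarTower.of_algebraMap_eq fun r => by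
    rw [IsScalarTower.algebraMap_apply R R' A', IsScalarTower.algebraMap_apply R R' P',
      ← IsScalarTower.algebraMap_apply R' P' A']
  haveI h1 : Algebra.IsPushout R R' P P' := inferInstance
  haveI h1s : Algebra.IsPushout R P R' P' := h1.symm
  have h2 : Algebra.IsPushout P P' A A' := by
    have h3 : Algebra.IsPushout R A R' A' := inferInstance
    exact ((Algebra.IsPushout.comp_iff R P R' P').1 h3).symm
  letI : Module P M := Module.compHom M α.toRingHom
  haveI : IsScalarTower P A M := IsScalarTower.of_algebraMap_smul fun _ _ => rfl
  haveI : Module.FinitePresentation P M := hM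
  have hfp : Module.FinitePresentation P' (TensorProduct A A' M) :=
    Module.FinitePresentation.of_equiv (Algebra.IsPushout.cancelBaseChange P P' A A' M).symm
  have hα' : Function.Surjective α' := by
    intro y
    have hy : ∀ y, ∃ p, α' p = y := by
      intro y
      obtain ⟨z, rfl⟩ := (Algebra.IsPushout.symm (inferInstance : Algebra.IsPushout R A R' A')).1.equiv.surjective y
      induction z using TensorProduct.induction_on with
      | zero => exact ⟨0, by simp⟩
      | add z z' hz hz' =>
        obtain ⟨p, hp⟩ := hz
        obtain ⟨p', hp'⟩ := hz'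
        exact ⟨p + p', by rw [map_add, map_add, hp, hp']⟩
      | tmul r a =>
        obtain ⟨q, rfl⟩ := hα a
        refine ⟨MvPolynomial.C r * algebraMap P P' q, ?_⟩
        rw [IsBaseChange.equiv_tmul, map_mul, MvPolynomial.algHom_C α', Algebra.smul_def]
        congr 1
        exact RingHom.congr_fun hcomp q
    exact hy y
  exact (RelFPLib.fpAlong_iff_fpAlong α' hα' γ hγ _).1
    ((RelFPLib.fpAlong_iff α'.toRingHom fun p x => (algebraMap_smul A' p x).symm).2 hfp)

end Groth.Agent.S12083
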