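import Groth.Statements.S9319
import Mathlib
import Groth.Agent.PerfectFieldLib.FormallySmooth

set_option autoImplicit false
universe u
open CAlg

namespace Groth.Agent.S9319


open TensorProduct MvPolynomial Algebra

variable {K L M : Type u} [Field K] [Field L] [Field M] [Algebra K L] [Algebra L M] [Algebra K M]
  [IsScalarTower K L M]

theorem δAux_map (P : Type*) [CommRing P] [Algebra P K] [Algebra P L] [Algebra P M]
    [IsScalarTower P K L] [IsScalarTower P K M] (p : (Generators.self K L).Ring) :
    Generators.H1Cotangent.δAux P (Generators.self K M)
      ((Generators.defaultHom (Generators.self K L) (Generators.self K M)).toAlgHom p) =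
    (IsScalarTower.toAlgHom K L M).toLinearMap.rTensor (Ω[K⁄P])
      (Generators.H1Cotangent.δAux P (Generators.self K L) p) := by
  induction p using MvPolynomial.induction_on with
  | C r =>
    erw [Generators.Hom.toAlgHom_C, Generators.H1Cotangent.δAux_C, Generators.H1Cotangent.δAux_C]
    simp
  | add a b ha hb => simp only [map_add, ha, hb]
  | mul_X p i ih =>
    simp only [map_mul, Generators.Hom.toAlgHom_X, Generators.H1Cotangent.δAux_mul]
    have hv : (Generators.defaultHom (Generators.self K L) (Generators.self K M)).val i =
        X (algebraMap L M i) := rfl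
    rw [hv, Generators.H1Cotangent.δAux_X, Generators.H1Cotangent.δAux_X, smul_zero, smul_zero,
      zero_add, zero_add, ih]
    induction Generators.H1Cotangent.δAux P (Generators.self K L) p using TensorProduct.induction_on with
    | zero => simp
    | add a b ha hb => simp only [map_add, smul_add, ha, hb]
    | tmul l w =>
      simp only [LinearMap.rTensor_tmul, smul_tmul', AlgHom.toLinearMap_apply, IsScalarTower.coe_toAlgHom']
      congr 1
      show aeval _root_.id (X (algebraMap L M i)) * algebraMap L M l =
        algebraMap L M (aeval _root_.id (X i) * l)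
      simp

theorem injective_liftBaseChange (P : Type*) [Field P] [PerfectField P] [Algebra P K] [Algebra P L]
    [Algebra P M] [IsScalarTower P K L] [IsScalarTower P K M] :
    Function.Injective ((Algebra.H1Cotangent.map K K L M).liftBaseChange M) := by
  haveI : Algebra.FormallySmooth P L :=
    Groth.Agent.PerfectFieldLib.formallySmooth_of_perfectField P L
  haveI : Subsingleton (Algebra.H1Cotangent P L) := Algebra.FormallySmooth.subsingleton_h1Cotangent
  let δL := Algebra.H1Cotangent.δ P K L
  let δM := Algebra.H1Cotangent.δ P K M
  have hδ : Function.Injective δL := (injective_iff_map_eq_zero _).2 fun x hx => by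
    obtain ⟨w, rfl⟩ := (Algebra.H1Cotangent.exact_map_δ P K L x).1 hx
    rw [Subsingleton.elim w 0, map_zero]
  let e := TensorProduct.AlgebraTensorModule.cancelBaseChange K L M M (Ω[K⁄P])
  have key : ∀ z, δM ((Algebra.H1Cotangent.map K K L M).liftBaseChange M z) =
      e (δL.lTensor M z) := by
    intro z
    induction z using TensorProduct.induction_on with
    | zero => simp
    | add a b ha hb => simp only [map_add, ha, hb]
    | tmul m x =>
      rw [LinearMap.liftBaseChange_tmul, map_smul, LinearMap.lTensor_tmul]
      obtain ⟨x, hx⟩ := x
      obtain ⟨⟨y, hy⟩, rfl⟩ := Extension.Cotangent.mk_surjective x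
      have h1 : δM (Algebra.H1Cotangent.map K K L M ⟨_, hx⟩) =
          (IsScalarTower.toAlgHom K L M).toLinearMap.rTensor (Ω[K⁄P]) (δL ⟨_, hx⟩) := by
        change Generators.H1Cotangent.δ (Generators.self K M) (Generators.self P K) ⟨_, _⟩ =
          (IsScalarTower.toAlgHom K L M).toLinearMap.rTensor (Ω[K⁄P])
            (Generators.H1Cotangent.δ (Generators.self K L) (Generators.self P K) ⟨_, _⟩)
        simp only [LinearMap.domRestrict_apply, Extension.Cotangent.map_mk,
          Generators.H1Cotangent.δ_eq_δAux]
        exact δAux_map P y
      rw [h1]
      induction δL ⟨_, hx⟩ using TensorProduct.induction_on with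
      | zero => simp
      | add a b ha hb => simp only [map_add, smul_add, tmul_add, ha, hb]
      | tmul l w =>
        simp [e, smul_tmul', Algebra.smul_def, mul_comm]
  intro a b hab
  refine Module.Flat.lTensor_preserves_injective_linearMap (M := M) δL hδ (e.injective ?_)
  rw [← key, ← key, hab]


open TensorProduct in
/-- For a tower of fields `K ⊆ L ⊆ M`, the first map of the Jacobi–Zariski sequence, from `H_1(L_{L/K})
⊗_L M` to `H_1(L_{M/K})`, is injective; here `H_1(L)` denotes the first homology of the naive
cotangent complex and the map is the `M`-linear extension of the functoriality map. (The rest of the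
six-term sequence is exact for any three rings, so for fields it is exact with a zero on the left.) -/
theorem result {K L M : Type u} [Field K] [Field L]
    [Field M] [Algebra K L] [Algebra L M] [Algebra K M] [IsScalarTower K L M] :
    Function.Injective ((Algebra.H1Cotangent.map K K L M).liftBaseChange M) := by
  obtain ⟨p, hp⟩ := CharP.exists K
  rcases CharP.char_is_prime_or_zero K p with hp' | rfl
  · haveI := Fact.mk hp'
    letI := ZMod.algebra K p
    letI : Algebra (ZMod p) L := ((algebraMap K L).comp (algebraMap (ZMod p) K)).toAlgebra
    letI : Algebra (ZMod p) M := ((algebraMap K M).comp (algebraMap (ZMod p) K)).toAlgebra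
    haveI : IsScalarTower (ZMod p) K L := .of_algebraMap_eq' rfl
    haveI : IsScalarTower (ZMod p) K M := .of_algebraMap_eq' rfl
    exact injective_liftBaseChange (ZMod p)
  · haveI := CharP.charP_to_charZero K
    letI : Algebra ℚ L := ((algebraMap K L).comp (algebraMap ℚ K)).toAlgebra
    letI : Algebra ℚ M := ((algebraMap K M).comp (algebraMap ℚ K)).toAlgebra
    haveI : IsScalarTower ℚ K L := .of_algebraMap_eq' rfl
    haveI : IsScalarTower ℚ K M := .of_algebraMap_eq' rfl
    exact injective_liftBaseChange ℚ

end Groth.Agent.S9319
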