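import Groth.Statements.S6485
import Mathlib.LinearAlgebra.Matrix.MvPolynomial
import Mathlib.LinearAlgebra.Matrix.Permutation
import Mathlib.Algebra.MvPolynomial.Variables
import Mathlib.Algebra.MvPolynomial.Monad
import Mathlib.Algebra.Polynomial.Degree.Domain
import Mathlib.RingTheory.MvPolynomial.Basic
import Mathlib.Algebra.MvPolynomial.Nilpotent
-- import your own Groth.Agent.* helpers here

set_option autoImplicit false
universe u
open IntMult

namespace Groth.Agent.S6485

/-- Let k be a field and n ≥ 1. Then the determinant of the generic matrix (x_{ij})_{1 ≤ i, j ≤ n} is an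
irreducible element of the polynomial ring k[x_{ij}] (Mathlib's Matrix.mvPolynomialX is the generic
matrix over MvPolynomial (Fin n × Fin n) k). -/
theorem result (k : Type u) [Field k] (n : ℕ) (hn : 1 ≤ n) : Irreducible (Matrix.mvPolynomialX (Fin n) (Fin n) k).det := by
  classical
  let D : (MvPolynomial (Fin n × Fin n) k) := (Matrix.mvPolynomialX (Fin n) (Fin n) k).det
  have hvars : ∀ v : Fin n × Fin n, v ∈ D.vars := by
    rintro ⟨i, j⟩
    by_contra hv
    let P : Matrix (Fin n) (Fin n) k := fun a b => if Equiv.swap i j a = b then 1 else 0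
    let Q : Matrix (Fin n) (Fin n) k := fun a b => if (a, b) = (i, j) then 0 else P a b
    have hev : ∀ M : Matrix (Fin n) (Fin n) k, MvPolynomial.eval (fun p => M p.1 p.2) D = M.det := fun M => by
      rw [RingHom.map_det]
      congr 1
      ext a b
      simp [Matrix.mvPolynomialX]
    have h1 : MvPolynomial.eval (fun p => P p.1 p.2) D = MvPolynomial.eval (fun p => Q p.1 p.2) D := by
      refine MvPolynomial.eval₂Hom_congr' rfl (fun p hp _ => ?_) rfl
      have : p ≠ (i, j) := fun h => hv (h ▸ hp)
      have h2 : ¬ (p.1 = i ∧ p.2 = j) := fun ⟨h, h'⟩ => this (Prod.ext h h')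
      simp only [Q, Prod.mk.injEq, if_neg h2]
    rw [hev, hev] at h1
    have hP : P.det ≠ 0 := by
      have : P = (Equiv.swap i j).permMatrix k := by
        ext a b
        simp [P, Equiv.Perm.permMatrix, PEquiv.toMatrix_apply, eq_comm]
      rw [this, Matrix.det_permutation]
      rcases Int.units_eq_one_or (Equiv.Perm.sign (Equiv.swap i j)) with h | h <;> simp [h]
    apply hP
    rw [h1]
    refine Matrix.det_eq_zero_of_row_eq_zero i fun b => ?_
    by_cases hb : b = j
    · simp [Q, hb]
    · simp [Q, P, hb, Equiv.swap_apply_left, Ne.symm hb]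
  let φ (d : Fin n × Fin n → Polynomial (MvPolynomial (Fin n × Fin n) k)) : (MvPolynomial (Fin n × Fin n) k) →+* Polynomial (MvPolynomial (Fin n × Fin n) k) :=
    (MvPolynomial.aeval fun p => d p * Polynomial.C (MvPolynomial.X p)).toRingHom
  -- a homogeneous grading in which `D` has degree one
  have hfree : ∀ (S : Finset (Fin n × Fin n)),
      φ (fun p => if p ∈ S then Polynomial.X else 1) D = Polynomial.X * Polynomial.C D →
      ∀ g h : (MvPolynomial (Fin n × Fin n) k), D = g * h → (∀ p ∈ S, p ∉ g.vars) ∨ (∀ p ∈ S, p ∉ h.vars) := by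
    intro S hS g h hgh
    have hD : D ≠ 0 := fun h0 => by
      have := hvars (⟨0, hn⟩, ⟨0, hn⟩)
      rw [h0, MvPolynomial.vars_0] at this
      exact Finset.notMem_empty _ this
    let ψ := φ (fun p => if p ∈ S then Polynomial.X else 1)
    have h1 : ψ g * ψ h = Polynomial.X * Polynomial.C D := by rw [← map_mul, ← hgh]; exact hS
    have hne : (Polynomial.X : Polynomial (MvPolynomial (Fin n × Fin n) k)) * Polynomial.C D ≠ 0 :=
      mul_ne_zero Polynomial.X_ne_zero (by simpa using hD)
    have hg0 : ψ g ≠ 0 := fun h0 => hne (by rw [← h1, h0, zero_mul])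
    have hh0 : ψ h ≠ 0 := fun h0 => hne (by rw [← h1, h0, mul_zero])
    have hdeg := congrArg Polynomial.natDegree h1
    rw [Polynomial.natDegree_mul hg0 hh0, mul_comm, Polynomial.natDegree_C_mul_X D hD] at hdeg
    have hconst : ∀ u : (MvPolynomial (Fin n × Fin n) k), (ψ u).natDegree = 0 → ∀ p ∈ S, p ∉ u.vars := by
      intro u hu p hp
      obtain ⟨c, hc⟩ := Polynomial.natDegree_eq_zero.mp hu
      have e1 : (Polynomial.evalRingHom (1 : (MvPolynomial (Fin n × Fin n) k))).comp ψ = RingHom.id (MvPolynomial (Fin n × Fin n) k) := by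
        refine MvPolynomial.ringHom_ext (fun a => ?_) fun q => ?_
        · simp [ψ, φ]
        · by_cases hq : q ∈ S <;> simp [ψ, φ, hq]
      have e0 : (Polynomial.evalRingHom (0 : (MvPolynomial (Fin n × Fin n) k))).comp ψ =
          (MvPolynomial.bind₁ fun q => if q ∈ S then (0 : (MvPolynomial (Fin n × Fin n) k)) else MvPolynomial.X q).toRingHom := by
        refine MvPolynomial.ringHom_ext (fun a => ?_) fun q => ?_
        · simp [ψ, φ]
        · by_cases hq : q ∈ S <;> simp [ψ, φ, hq]
      have hu' : u = MvPolynomial.bind₁ (fun q => if q ∈ S then (0 : (MvPolynomial (Fin n × Fin n) k)) else MvPolynomial.X q) u := by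
        have a1 := congr($e1 u)
        have a0 := congr($e0 u)
        simp only [RingHom.comp_apply, Polynomial.coe_evalRingHom, RingHom.id_apply] at a1 a0
        rw [← hc, Polynomial.eval_C] at a1 a0
        rw [a1] at a0
        exact a0
      rw [hu']
      intro hmem
      obtain ⟨q, -, hq⟩ := Finset.mem_biUnion.mp (MvPolynomial.vars_bind₁ _ u hmem)
      by_cases hqS : q ∈ S
      · simp [hqS] at hq
      · simp only [hqS, if_false, MvPolynomial.vars_X, Finset.mem_singleton] at hq
        exact hqS (hq ▸ hp)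
    rcases Nat.eq_zero_or_pos (ψ g).natDegree with h0 | h0
    · exact Or.inl (hconst g h0)
    · exact Or.inr (hconst h (by omega))
  have hscale : ∀ (d : Fin n → Polynomial (MvPolynomial (Fin n × Fin n) k)) (q : Fin n × Fin n → Fin n),
      (q = Prod.fst ∨ q = Prod.snd) → φ (fun p => d (q p)) D = (∏ a, d a) * Polynomial.C D := by
    intro d q hq
    have hC : ((Matrix.mvPolynomialX (Fin n) (Fin n) k).map (Polynomial.C : (MvPolynomial (Fin n × Fin n) k) →+* Polynomial (MvPolynomial (Fin n × Fin n) k))).det =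
        Polynomial.C D := (RingHom.map_det _ _).symm
    rw [RingHom.map_det, ← hC, ← Matrix.det_diagonal]
    rcases hq with rfl | rfl
    · rw [← Matrix.det_mul]
      congr 1
      ext a b
      simp [φ, Matrix.mvPolynomialX, Matrix.diagonal_mul]
    · rw [mul_comm, ← Matrix.det_mul]
      congr 1
      ext a b
      simp [φ, Matrix.mvPolynomialX, Matrix.mul_diagonal, mul_comm]
  have hline : ∀ (q : Fin n × Fin n → Fin n), (q = Prod.fst ∨ q = Prod.snd) → ∀ (i : Fin n) (g h : (MvPolynomial (Fin n × Fin n) k)),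
      D = g * h → (∀ p, q p = i → p ∉ g.vars) ∨ (∀ p, q p = i → p ∉ h.vars) := by
    intro q hq i g h hgh
    have := hfree (Finset.univ.filter fun p => q p = i) (by
      have h' := hscale (fun a => if a = i then Polynomial.X else 1) q hq
      rw [Finset.prod_ite_eq' Finset.univ i (fun _ => (Polynomial.X : Polynomial (MvPolynomial (Fin n × Fin n) k)))] at h'
      simpa using h') g h hgh
    simpa using this
  constructor
  · intro hu
    obtain ⟨c, hc⟩ : ∃ c, (Matrix.mvPolynomialX (Fin n) (Fin n) k).det = MvPolynomial.C c :=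
      ⟨_, MvPolynomial.totalDegree_eq_zero_iff_eq_C.mp (MvPolynomial.isUnit_iff_totalDegree_of_isReduced.mp hu).2⟩
    have := hvars (⟨0, hn⟩, ⟨0, hn⟩)
    simp only [D] at this
    rw [hc, MvPolynomial.vars_C] at this
    exact Finset.notMem_empty _ this
  · intro g h hgh
    have hD : D = g * h := hgh
    have hor : ∀ p, p ∈ g.vars ∨ p ∈ h.vars := fun p => by
      have := hvars p
      rw [hD] at this
      exact Finset.mem_union.mp (MvPolynomial.vars_mul g h this)
    have key : ∀ g h : (MvPolynomial (Fin n × Fin n) k), D = g * h → (∀ p, p ∈ g.vars ∨ p ∈ h.vars) →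
        ∀ p₀, p₀ ∈ g.vars → h.vars = ∅ := by
      intro g h hgh hor p₀ hp₀
      have hrow : ∀ p, p.1 = p₀.1 → p ∉ h.vars :=
        (hline Prod.fst (Or.inl rfl) p₀.1 g h hgh).resolve_left fun hh => hh p₀ rfl hp₀
      refine Finset.eq_empty_of_forall_notMem fun p hp => ?_
      have h1 : (p₀.1, p.2) ∈ g.vars := (hor _).resolve_right (hrow _ rfl)
      exact ((hline Prod.snd (Or.inr rfl) p.2 g h hgh).resolve_left fun hh => hh (p₀.1, p.2) rfl h1) p rfl hp
    have hunit : ∀ g h : (MvPolynomial (Fin n × Fin n) k), D = g * h → h.vars = ∅ → IsUnit h := fun g h hgh hh => by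
      have := MvPolynomial.vars_eq_empty_iff_eq_C.mp hh
      rw [this]
      refine (isUnit_iff_ne_zero.mpr fun h0 => ?_).map MvPolynomial.C
      have h2 := hvars (⟨0, hn⟩, ⟨0, hn⟩)
      rw [hgh, this, h0, map_zero, mul_zero, MvPolynomial.vars_0] at h2
      exact Finset.notMem_empty _ h2
    by_cases hg : g.vars = ∅
    · exact Or.inl (hunit h g (hD.trans (mul_comm _ _)) hg)
    · obtain ⟨p₀, hp₀⟩ := Finset.nonempty_of_ne_empty hg
      exact Or.inr (hunit g h hD (key g h hD hor p₀ hp₀))

end Groth.Agent.S6485
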