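import Groth.Statements.S14616
import Groth.Agent.TowerLib.Basic

set_option autoImplicit false
universe u
open Formal2

namespace Groth.Agent.S14616

open CategoryTheory in
/-- Let … → G_2 → G_1 → G_0 be an inverse system of abelian groups with transition maps t_n : G_{n+1} →
G_n which satisfies the Mittag-Leffler condition: for every i there is j ≥ i such that for all k ≥ j
the images of G_k → G_i and G_j → G_i coincide. Then lim¹ G_n = 0, i.e. the map (x_n) ↦ (x_n −
t_n(x_{n+1})) on ∏ G_n is surjective. -/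
theorem result (G : ℕ → Type u) [∀ n, AddCommGroup (G n)]
    (t : ∀ n, G (n + 1) →+ G n)
    (h : (Functor.ofOpSequence (X := fun n => AddCommGrpCat.of (G n))
      (fun n => AddCommGrpCat.ofHom (t n)) ⋙ forget AddCommGrpCat).IsMittagLeffler) :
    Function.Surjective (Formal2.towerDiff G t) := by
  classical
  let R : ∀ n, AddSubgroup (G n) := fun n => ⨅ (m : ℕ) (hm : n ≤ m), (Groth.Agent.TowerLib.T G t hm).range
  have hml : ∀ n, ∃ (m : ℕ) (hm : n ≤ m), (Groth.Agent.TowerLib.T G t hm).range ≤ R n := by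
    intro n
    obtain ⟨m, f, hf⟩ := h ⟨n⟩
    refine ⟨m.unop, leOfHom f.unop, le_iInf₂ fun k hk => ?_⟩
    intro x hx
    exact hf (homOfLE hk).op hx
  choose m hm hle using hml
  have hsur : ∀ n, ∀ a ∈ R n, ∃ b ∈ R (n + 1), t n b = a := by
    intro n a ha
    simp only [R, AddSubgroup.mem_iInf] at ha
    obtain ⟨c, rfl⟩ := ha (m (n + 1)) (n.le_succ.trans (hm (n + 1)))
    exact ⟨_, hle (n + 1) ⟨c, rfl⟩, Groth.Agent.TowerLib.t_T G t (hm (n + 1)) c⟩
  let N : ℕ → ℕ := fun n => max (n + 1) (m n)
  have hN : ∀ k, k + 1 ≤ N k ∧ m k ≤ N k := fun k => ⟨le_max_left _ _, le_max_right _ _⟩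
  intro y
  let z : ∀ n, G n := fun i => Groth.Agent.TowerLib.trunc G t y i (N i)
  have hres : ∀ i, y i - (z i - t i (z (i + 1))) ∈ R i := by
    intro i
    have key : ∀ (k M : ℕ), N k ≤ M → Groth.Agent.TowerLib.trunc G t y k M - Groth.Agent.TowerLib.trunc G t y k (N k) ∈ R k := by
      intro k M hM
      rw [Groth.Agent.TowerLib.trunc_add G t y (by have := hN k; omega) hM]
      refine sum_mem fun n hn => ?_
      rw [Finset.mem_Ico] at hn
      rw [dif_pos (by have := hN k; omega : k ≤ n)]
      refine hle k ⟨Groth.Agent.TowerLib.T G t (by have := hN k; omega : m k ≤ n) (y n), ?_⟩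
      rw [Groth.Agent.TowerLib.T_trans]
    rw [← Groth.Agent.TowerLib.trunc_sub G t y (N := max (N i) (N (i + 1))) (i := i) (by have := hN i; omega)]
    have h1 := key i _ (le_max_left (N i) (N (i + 1)))
    have h2 : t i (Groth.Agent.TowerLib.trunc G t y (i + 1) (max (N i) (N (i + 1))) - z (i + 1)) ∈ R i := by
      have h3 := key (i + 1) _ (le_max_right (N i) (N (i + 1)))
      simp only [R, AddSubgroup.mem_iInf] at h3 ⊢
      intro k hk
      obtain ⟨c, hc⟩ := h3 (k + 1) (by omega)
      refine ⟨t k c, ?_⟩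
      change Groth.Agent.TowerLib.T G t hk (t k c) = _
      rw [← Groth.Agent.TowerLib.T_succ G t k, Groth.Agent.TowerLib.T_trans]
      rw [show z (i + 1) = Groth.Agent.TowerLib.trunc G t y (i + 1) (N (i + 1)) from rfl, ← hc, Groth.Agent.TowerLib.t_T]
    convert (R i).sub_mem h1 h2 using 1
    simp only [z, map_sub]
    abel
  obtain ⟨w, hw⟩ := Groth.Agent.TowerLib.surjective_of_surjective_subtower G t R hsur _ hres
  refine ⟨z + w, funext fun i => ?_⟩
  change (z i + w i) - t i (z (i + 1) + w (i + 1)) = y i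
  rw [map_add, add_sub_add_comm, hw, add_sub_cancel]

end Groth.Agent.S14616
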