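import Groth.Statements.S8797
import Groth.Agent.BootDualLib.Isolated
-- import your own Groth.Agent.* helpers here

set_option autoImplicit false
universe u
open CategoryTheory
open Dual2

namespace Groth.Agent.S8797

/-- Let I ⊆ 𝔞 be ideals of a Noetherian ring A with a dualizing complex, d a natural with cd(A, I) ≤ d,
M a finite A-module and s a natural. Assume (c): for every prime p ∉ V(I) and every prime q ∈ V(p) ∩
V(𝔞), either depth(M_p) > s or depth(M_p) + dim((A/p)_q) > d + s. Then for every q ∈ V(𝔞), writing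
A', I', M' for the I-adic completions of A_q, IA_q, M_q, one has depth(M'_{p'}) > s for every prime
p' of A' not containing I' such that the only primes containing both p' and I' are maximal. (The
published statement concludes that all standing conditions of the setting hold; the others follow at
once from the hypotheses, and this row states only this depth condition on completions.) -/
theorem result (A : Type u) [CommRing A] [IsNoetherianRing A] (hdc : ∃ ω : Dual.D A, Dual.IsDualizing A ω) (I 𝔞 : Ideal A) (hI𝔞 : I ≤ 𝔞) (d : ℕ) (hcd : LocCoh.CdLE A I d) (M : Type u) [AddCommGroup M] [Module A M] [Module.Finite A M] (s : ℕ) (hc : ∀ p q : PrimeSpectrum A, p ≤ q → ¬ I ≤ p.asIdeal → 𝔞 ≤ q.asIdeal → (s : ℕ∞) < LocCoh.depth (Localization.AtPrime p.asIdeal) (LocalizedModule p.asIdeal.primeCompl M) ∨ (((d + s : ℕ) : ℕ∞) : WithBot ℕ∞) < ((LocCoh.depth (Localization.AtPrime p.asIdeal) (LocalizedModule p.asIdeal.primeCompl M) : ℕ∞) : WithBot ℕ∞) + Formal2.dimBetween A p.asIdeal q.asIdeal) (T : Set (PrimeSpectrum A)) (hT : T = PrimeSpectrum.zeroLocus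 ((𝔞 : Ideal A) : Set A)) : ∀ q : PrimeSpectrum A, q ∈ T → ∀ p' : PrimeSpectrum (AdicCompletion (I.map (algebraMap A (Localization.AtPrime q.asIdeal))) (Localization.AtPrime q.asIdeal)), ¬ (I.map (algebraMap A (AdicCompletion (I.map (algebraMap A (Localization.AtPrime q.asIdeal))) (Localization.AtPrime q.asIdeal)))) ≤ p'.asIdeal → (∀ q' : PrimeSpectrum (AdicCompletion (I.map (algebraMap A (Localization.AtPrime q.asIdeal))) (Localization.AtPrime q.asIdeal)), p' ≤ q' → (I.map (algebraMap A (AdicCompletion (I.map (algebraMap A (Localization.AtPrime q.asIdeal))) (Localization.AtPrime q.asIdeal)))) ≤ q'.asIdeal → q'.asIdeal.IsMaximal) → (s : ℕ∞) < LocCoh.depth (Localization.AtPrime p'.asIdeal) (LocalizedModule p'.asIdeal.primeCompl (AdicCompletion (I.map (algebraMap A (Localization.AtPrime q.asIdeal))) (LocalizedModule q.asIdeal.primeCompl M))) := by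
  subst hT
  obtain ⟨ω, hω⟩ := hdc
  intro q hq p' hp' hiso
  have hIq : I ≤ q.asIdeal := hI𝔞.trans hq
  obtain ⟨hloc, hN, hm, -, htr⟩ := BootDualLib.exists_completion_transfer q I hω hIq
  haveI := hloc; haveI := hN
  obtain ⟨δ, n, n', h1, h2, h3, hdep⟩ := htr p'
  rw [hdep M]
  let p : PrimeSpectrum A := PrimeSpectrum.comap (algebraMap A (BootDualLib.Sq I q)) p'
  have hpq : p ≤ q := fun a ha => by
    by_contra haq
    refine p'.isPrime.ne_top (Ideal.eq_top_of_isUnit_mem _ ha ?_)
    rw [IsScalarTower.algebraMap_apply A (Localization.AtPrime q.asIdeal) (BootDualLib.Sq I q)]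
    exact (IsLocalization.map_units (Localization.AtPrime q.asIdeal) (⟨a, haq⟩ : q.asIdeal.primeCompl)).map _
  have hp : ¬ I ≤ p.asIdeal := fun h => hp' (Ideal.map_le_iff_le_comap.2 h)
  rcases hc p q hpq hp hq with h | h
  · exact h.trans_le le_self_add
  have hn : n' ≤ d := BootDualLib.dim_quotient_le_cd
    (ne_top_of_le_ne_top (IsLocalRing.maximalIdeal.isMaximal _).ne_top
      ((Ideal.map_mono hIq).trans (BootDualLib.q_map I q hm).le))
    (LocCohLib.cdLE_map (R' := BootDualLib.Sq I q) (I := I) hcd) p'
    (fun Q hQ1 hQ2 => IsLocalRing.eq_maximalIdeal (hiso Q hQ1 hQ2)) n' h1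
  rw [show Formal2.dimBetween A p.asIdeal q.asIdeal = n from h3, ← h2] at h
  revert h
  change _ → (s : ℕ∞) < LocCoh.depth (Localization.AtPrime p.asIdeal) (LocalizedModule p.asIdeal.primeCompl M) + δ
  generalize LocCoh.depth (Localization.AtPrime p.asIdeal) (LocalizedModule p.asIdeal.primeCompl M) = e
  intro h
  induction e using ENat.recTopCoe with
  | top => rw [top_add]; exact ENat.coe_lt_top s
  | coe e =>
    have h' : d + s < e + (n' + δ) := by exact_mod_cast h
    exact_mod_cast (show s < e + δ by omega)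

end Groth.Agent.S8797
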