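import Groth.Statements.S1390
import Groth.Agent.StdEtCoverLib.Basic
import Mathlib.AlgebraicGeometry.Morphisms.Etale

set_option autoImplicit false
universe u
open FlatMor

namespace Groth.Agent.S1390

open AlgebraicGeometry CategoryTheory Limits in
/-- Let (U, u) be an étale neighbourhood of (S, s), i.e. U → S étale with u over s. Then there are an
affine open neighbourhood V of s and a surjective, finite, flat morphism of finite presentation π :
T → V such that every point t of T over s has an open neighbourhood W_t with an S-morphism W_t → U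
sending t to u. -/
theorem result {U S : Scheme.{u}} (e : U ⟶ S) [Etale e] (u : U) (s : S) (hu : e u = s) :
    ∃ (V : S.Opens) (T : Scheme.{u}) (π : T ⟶ (V : Scheme.{u})), s ∈ V ∧ IsAffineOpen V ∧ Surjective π ∧ IsFinite π ∧ Flat π ∧ LocallyOfFinitePresentation π ∧
      ∀ t : T, V.ι (π t) = s → ∃ (W : T.Opens) (h : (W : Scheme.{u}) ⟶ U), t ∈ W ∧ h ≫ e = W.ι ≫ π ≫ V.ι ∧ ∀ ht : t ∈ W, h ⟨t, ht⟩ = u := by
  classical
  obtain ⟨V, hV, hsV, -⟩ := exists_isAffineOpen_mem_and_subset (X := S) (x := s) (U := ⊤) trivial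
  obtain ⟨U', hU', huU', hU'le⟩ := exists_isAffineOpen_mem_and_subset (X := U) (x := u)
    (U := e ⁻¹ᵁ V) (show e u ∈ V from hu ▸ hsV)
  replace hU'le : U' ≤ e ⁻¹ᵁ V := hU'le
  letI algC : Algebra Γ(S, V) Γ(U, U') := (e.appLE V U' hU'le).hom.toAlgebra
  haveI : Algebra.Etale Γ(S, V) Γ(U, U') := by
    have h := HasRingHomProperty.appLE (P := @Etale) e inferInstance ⟨V, hV⟩ ⟨U', hU'⟩ hU'le
    exact h
  let p := hU'.primeIdealOf ⟨u, huU'⟩
  obtain ⟨r, hr, hstd⟩ := Algebra.IsEtaleAt.exists_isStandardEtale (R := Γ(S, V)) p.asIdeal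
  haveI := hstd
  obtain ⟨q, hq⟩ : p ∈ Set.range (PrimeSpectrum.comap (algebraMap Γ(U, U') (Localization.Away r))) := by
    rw [PrimeSpectrum.localization_away_comap_range (Localization.Away r) r]
    exact hr
  obtain ⟨S', instR, instA, hfin, hfp, hff, hcov⟩ :=
    Groth.Agent.StdEtCoverLib.exists_cover_of_isStandardEtale Γ(S, V) (Localization.Away r)
  let φT : Γ(S, V) ⟶ CommRingCat.of S' := CommRingCat.ofHom (algebraMap Γ(S, V) S')
  let π : Spec (CommRingCat.of S') ⟶ (V : Scheme.{u}) := Spec.map φT ≫ hV.isoSpec.inv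
  haveI : IsFinite (Spec.map φT) := by
    rw [IsFinite.SpecMap_iff]
    exact RingHom.finite_algebraMap.mpr hfin
  haveI : Flat (Spec.map φT) := by
    rw [HasRingHomProperty.Spec_iff (P := @Flat)]
    exact RingHom.flat_algebraMap_iff.mpr inferInstance
  haveI : LocallyOfFinitePresentation (Spec.map φT) := by
    rw [HasRingHomProperty.Spec_iff (P := @LocallyOfFinitePresentation)]
    exact RingHom.finitePresentation_algebraMap.mpr hfp
  haveI : Surjective (Spec.map φT) :=
    ⟨PrimeSpectrum.comap_surjective_of_faithfullyFlat (A := Γ(S, V)) (B := S')⟩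
  have hπ : π ≫ V.ι = Spec.map φT ≫ hV.fromSpec := by
    simp only [π, Category.assoc, hV.isoSpec_inv_ι]
  refine ⟨V, Spec (CommRingCat.of S'), π, hsV, hV, inferInstance, inferInstance, inferInstance,
    inferInstance, fun t ht => ?_⟩
  have hts : Spec.map φT t = hV.primeIdealOf ⟨s, hsV⟩ := by
    refine hV.fromSpec.isOpenEmbedding.injective ?_
    rw [hV.fromSpec_primeIdealOf, ← Scheme.Hom.comp_apply, ← hπ]
    exact ht
  have hps : Spec.map (e.appLE V U' hU'le) p = hV.primeIdealOf ⟨s, hsV⟩ := by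
    refine hV.fromSpec.isOpenEmbedding.injective ?_
    rw [hV.fromSpec_primeIdealOf, ← Scheme.Hom.comp_apply, hV.SpecMap_appLE_fromSpec e hU' hU'le,
      Scheme.Hom.comp_apply, hU'.fromSpec_primeIdealOf]
    exact hu
  have hunder : t.asIdeal.under Γ(S, V) = q.asIdeal.under Γ(S, V) := by
    have h2 : q.asIdeal.under Γ(S, V) = (Spec.map (e.appLE V U' hU'le) p).asIdeal := by
      rw [← hq]
      exact (Ideal.comap_comap _ _).symm
    rw [h2, hps, ← hts]
    rfl
  obtain ⟨g', hg', φ, hφ⟩ := hcov q.asIdeal t.asIdeal hunder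
  let ι : Spec (CommRingCat.of (Localization.Away g')) ⟶ Spec (CommRingCat.of S') :=
    Spec.map (CommRingCat.ofHom (algebraMap S' (Localization.Away g')))
  haveI : IsOpenImmersion ι := IsOpenImmersion.of_isLocalization g'
  let h₀ : Spec (CommRingCat.of (Localization.Away g')) ⟶ U :=
    Spec.map (CommRingCat.ofHom (φ.toRingHom.comp (algebraMap Γ(U, U') (Localization.Away r)))) ≫
      hU'.fromSpec
  have hsq : h₀ ≫ e = ι ≫ π ≫ V.ι := by
    rw [hπ, Category.assoc, ← hV.SpecMap_appLE_fromSpec e hU' hU'le, ← Category.assoc, ← Category.assoc,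
      ← Spec.map_comp, ← Spec.map_comp]
    congr 2
    refine CommRingCat.hom_ext (RingHom.ext fun x => ?_)
    exact ((congrArg φ (IsScalarTower.algebraMap_apply Γ(S, V) Γ(U, U') (Localization.Away r) x).symm).trans
      (φ.commutes x)).trans (IsScalarTower.algebraMap_apply Γ(S, V) S' (Localization.Away g') x)
  let W : (Spec (CommRingCat.of S')).Opens := ι.opensRange
  refine ⟨W, ι.isoOpensRange.inv ≫ h₀, ?_, ?_, fun htW => ?_⟩
  · have : t ∈ Set.range (PrimeSpectrum.comap (algebraMap S' (Localization.Away g'))) := by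
      rw [PrimeSpectrum.localization_away_comap_range (Localization.Away g') g']
      exact hg'
    exact this
  · rw [Category.assoc, hsq, ← Category.assoc, Scheme.Hom.isoOpensRange_inv_comp]
  · have hιt : ι (ι.isoOpensRange.inv ⟨t, htW⟩) = t := by
      rw [← Scheme.Hom.comp_apply, Scheme.Hom.isoOpensRange_inv_comp]
      rfl
    generalize hw : ι.isoOpensRange.inv ⟨t, htW⟩ = w at hιt
    rw [Scheme.Hom.comp_apply, hw]
    have hwq : w.asIdeal = t.asIdeal.map (algebraMap S' (Localization.Away g')) := by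
      rw [← hιt]
      exact (IsLocalization.map_comap (Submonoid.powers g') _ w.asIdeal).symm
    rw [Scheme.Hom.comp_apply]
    refine (congrArg hU'.fromSpec ?_).trans (hU'.fromSpec_primeIdealOf ⟨u, huU'⟩)
    change _ = p
    rw [← hq]
    refine PrimeSpectrum.ext ?_
    change Ideal.comap (φ.toRingHom.comp (algebraMap Γ(U, U') (Localization.Away r))) w.asIdeal = _
    rw [← Ideal.comap_comap, hwq]
    exact congrArg (Ideal.comap _) hφ

end Groth.Agent.S1390
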