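import Groth.Statements.S1656
import Groth.Agent.FieldDualLib.Basic
import Groth.Agent.CurvLib.Euler
import Groth.Agent.EquidimLib.OpenComponent
import Groth.Agent.CurvLib.SupportVanish
import Groth.Agent.QCohLib.Coherent
import Groth.Agent.DevissLib.ClosedImm
import Groth.Agent.EulerRpushLib.Main

set_option autoImplicit false
set_option backward.isDefEq.respectTransparency false
set_option backward.isDefEq.respectTransparency.types false
set_option maxHeartbeats 1000000
set_option linter.style.haveILetI false
universe u
open CategoryTheory CategoryTheory.Limits AlgebraicGeometry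
attribute [local instance] HasDerivedCategory.standard
open Curves

namespace Groth.Agent.S1656

/-- Let X be proper over k, Cohen–Macaulay and equidimensional of dimension one, and let ω_X be its
dualizing module, i.e. the cohomology sheaf in degree -1 of f^! O for f : X → Spec k (assuming the
derived direct image Rf_* on D_QCoh and its right adjoint exist, which is how the shared prelude
presents f^!). Then χ(X, O_X) = -χ(X, ω_X). -/
theorem result (k : Type u) [Field k] (X : Scheme.{u}) [X.Over (Spec (CommRingCat.of k))] [IsProper (X ↘ (Spec (CommRingCat.of k)))]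
    (hCM : ∀ x : X, LocCoh.IsCohenMacaulayLocalRing (X.presheaf.stalk x))
    (hequi : ∀ Z ∈ irreducibleComponents (X : Type u), topologicalKrullDim Z = 1)
    [DCoh.HasRpush (X ↘ (Spec (CommRingCat.of k)))] (h : DCoh.RpushPreservesQCoh (X ↘ (Spec (CommRingCat.of k)))) [DCoh.HasShriek (X ↘ (Spec (CommRingCat.of k))) h]
    (OY : DCoh.DQCoh (Spec (CommRingCat.of k))) (hOY : Nonempty (OY.obj ≅ DCoh.inD (Spec (CommRingCat.of k)) (Coh.structureModule (Spec (CommRingCat.of k))))) :
    Curv2.euler k X (Coh.structureModule X) = - Curv2.euler k X (DCoh.dualizingMod (X ↘ (Spec (CommRingCat.of k))) h OY 1) := by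
  obtain ⟨eO⟩ := hOY
  let f := X ↘ Spec (CommRingCat.of k)
  haveI : IsLocallyNoetherian X := LocallyOfFiniteType.isLocallyNoetherian f
  haveI : CompactSpace X := QuasiCompact.compactSpace_of_compactSpace f
  haveI : AlgebraicGeometry.IsNoetherian X := ⟨⟩
  haveI : TopologicalSpace.NoetherianSpace X := inferInstance
  haveI : EnoughInjectives X.Modules := IsGrothendieckAbelian.enoughInjectives.{u}
  haveI : HasExt.{u} X.Modules := hasExt_of_enoughInjectives.{u} X.Modules
  have hle : topologicalKrullDim X ≤ ((1 : ℕ) : WithBot ℕ∞) :=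
    EquidimLib.topologicalKrullDim_le_of_components fun Z hZ => (hequi Z hZ).le
  have hsum : ∀ M : X.Modules, Curv2.euler k X M =
      (Module.finrank k (Coh.HH X M 0) : ℤ) - Module.finrank k (Coh.HH X M 1) := fun M => by
    rw [CurvLib.euler_eq_sum (d := 2) fun p hp => CurvLib.subsingleton_HH_of_dim_le M hle p hp]
    rw [Finset.sum_range_succ, Finset.sum_range_one]
    ring
  rcases isEmpty_or_nonempty X with hX | hX
  · have hz := EulerRpushLib.subsingleton_HH_of_isEmpty (X := X)
    simp only [hsum]
    haveI := hz
    simp [Module.finrank_zero_of_subsingleton]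
  have hdim : topologicalKrullDim X = ((1 : ℕ) : WithBot ℕ∞) := by
    refine le_antisymm hle ?_
    exact ((hequi _ (irreducibleComponent_mem_irreducibleComponents hX.some)).ge.trans
      (topologicalKrullDim_subspace_le X _))
  obtain ⟨hc, t, ht⟩ := FieldDualLib.exists_duality (k := k) hCM 1 (fun Z hZ => hequi Z hZ) hdim h _
    (DCoh.shriekAdj f h) OY eO
  have key : ∀ j m : ℕ, j + m = 1 →
      Module.finrank k (Coh.HH X (DCoh.dualizingMod f h OY 1) j) =
        Module.finrank k (Coh.HH X (Coh.structureModule X) m) := fun j m hjm => by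
    haveI := CurvLib.finite_HH (k := k) (DevissLib.isCoh_structureModule X) m
    let e := (FieldDualLib.homEquivHH (k := k) (DCoh.dualizingMod f h OY 1) j).symm ≪≫ₗ
      LinearEquiv.ofBijective _ (ht (Coh.structureModule X) QCohLib.isQCoh_unit j m (by omega)) ≪≫ₗ
      (FieldDualLib.homEquivHH (k := k) (Coh.structureModule X) m).symm.dualMap
    exact e.finrank_eq.trans Subspace.dual_finrank_eq
  rw [hsum, hsum, key 0 1 rfl, key 1 0 rfl]
  ring

end Groth.Agent.S1656
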