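import Groth.Statements.S18344
import Groth.Agent.S8919
import Groth.Agent.ConormalInjLib.Main
import Groth.Agent.ChevLib.SqZero
import Groth.Agent.OmegaAffLib.Rank
import Groth.Agent.TwistLib.PullGen
import Groth.Agent.CohCmpLib.LineBundle

set_option autoImplicit false
universe u
open CategoryTheory CategoryTheory.Limits AlgebraicGeometry
open MultCurve

namespace Groth.Agent.S18344

/-- Let C be a scheme and I ⊂ O_C a quasi-coherent ideal with I² = 0, and let D ⊂ C be the closed
subscheme it defines. Then the following are equivalent: (a) every point of C has an affine open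
neighbourhood U on which I(U) is generated by one section z such that every a with a z = 0 lies in
I(U); (b) the conormal sheaf of D in C (the ideal I regarded as an O_D-module, which makes sense
because I² = 0) is an invertible O_D-module. This identifies the line-bundle clause in the
definition of a ribbon with the section-level principal-of-order-two condition. -/
theorem result (C : Scheme.{u}) (I : C.IdealSheafData)
    (hI : I ^ 2 = ⊥) :
    MultCurve.IsPrincipalOfOrder I 2 ↔ PicF.IsInvertible (Omega.conormal I.subschemeι) := by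
  set i := I.subschemeι with hidef
  have hker : i.ker = I := I.ker_subschemeι
  have hsq : i.ker * i.ker = ⊥ := by rw [hker, ← pow_two]; exact hI
  have hsurj : Function.Surjective i.base := fun z => by
    have h : z ∈ Set.range i := by
      rw [Scheme.IdealSheafData.range_subschemeι, ← Scheme.IdealSheafData.support_pow I (n := 2) (by norm_num), hI,
        Scheme.IdealSheafData.support_bot]
      trivial
    exact h
  haveI : Coh.IsQCoh (ClSub.idealMod i.ker) := SweepSix.ConormalSpec.isQCoh_idealMod _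
  haveI : Coh.IsQCoh (Omega.conormal i) := KFlatLib.isQCoh_pullback i (ClSub.idealMod i.ker)
  have hmem : ∀ {V : C.Opens} (hV : IsAffineOpen V) (x : Γ(C, V)), i.app V x = 0 ↔ x ∈ I.ideal ⟨V, hV⟩ :=
    fun {V} hV x => by
      have h := ChevLib.mem_ker_iff i ⟨V, hV⟩ x
      rw [hker] at h
      exact h.symm
  have hzero : ∀ {V : C.Opens} (hV : IsAffineOpen V) (x y : Γ(C, V)), i.app V x = 0 → i.app V y = 0 → x * y = 0 :=
    fun {V} hV x y hx hy => ChevLib.mul_eq_zero_of_sq i hsq ⟨V, hV⟩
      ((ChevLib.mem_ker_iff i ⟨V, hV⟩ x).2 hx) ((ChevLib.mem_ker_iff i ⟨V, hV⟩ y).2 hy)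
  have hsq0 : ∀ {V : C.Opens} (hV : IsAffineOpen V), RingHom.ker (i.app V).hom ^ 2 = ⊥ := fun {V} hV => by
    rw [pow_two, eq_bot_iff, Ideal.mul_le]
    exact fun x hx y hy => (Submodule.mem_bot _).2 (hzero hV x y (RingHom.mem_ker.1 hx) (RingHom.mem_ker.1 hy))
  have hcb : ∀ {V : C.Opens}, V ≤ i.coborderRange := fun {V} x _ => by
    show x ∈ coborder (Set.range i)
    exact subset_coborder (hsurj x)
  constructor
  · intro h
    refine (CohCmpLib.invertible_iff_rank_one _).2 fun d => ?_
    obtain ⟨⟨V, hV⟩, hdV, z, hz, hann⟩ := h (i.base d)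
    rw [show (2 : ℕ) - 1 = 1 from rfl] at hann
    have hz0 : i.app V z = 0 := (hmem hV z).2 (by rw [hz]; exact Ideal.mem_span_singleton_self z)
    obtain ⟨haff, hs⟩ := ConormalInjLib.chart_of_le i hV hcb
    let v := OmegaSh.conormalSect i V (ConormalSecLib.lift i V z hz0)
    let ψ : Γ(I.subscheme, i ⁻¹ᵁ V) →ₗ[Γ(I.subscheme, i ⁻¹ᵁ V)] Γ(Omega.conormal i, i ⁻¹ᵁ V) :=
      LinearMap.toSpanSingleton _ _ v
    have hψ : ∀ a : Γ(C, V), ψ (i.app V a) = OmegaSh.conormalSect i V (a • ConormalSecLib.lift i V z hz0) :=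
      fun a => (OmegaSh.pullSect_smul i _ V a _).symm
    have hid : ∀ a : Γ(C, V), OmegaSh.idealSect i.ker V (a • ConormalSecLib.lift i V z hz0) = a * z := fun a => by
      rw [ConormalSecLib.idealSect_smul, ConormalSecLib.idealSect_lift]
    have hbij : Function.Bijective ψ := by
      refine ⟨(injective_iff_map_eq_zero ψ).mpr fun b hb => ?_, fun m => ?_⟩
      · obtain ⟨a, rfl⟩ := hs b
        rw [hψ] at hb
        have h1 := ConormalInjLib.mem_ker_sq_of_conormalSect_eq_zero i hV hcb _ hb
        rw [hid, hsq0 hV, Submodule.mem_bot] at h1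
        exact (hmem hV a).2 (hann a (by rwa [pow_one]))
      · obtain ⟨s, rfl⟩ := Groth.Agent.S8919.exists_conormalSect_eq i hV hcb m
        obtain ⟨a, ha⟩ := Ideal.mem_span_singleton'.1
          (hz ▸ (hmem hV _).1 (ConormalSecLib.app_idealSect i V s) : OmegaSh.idealSect i.ker V s ∈ Ideal.span {z})
        exact ⟨i.app V a, (hψ a).trans (congrArg _ (ConormalSecLib.idealSect_injective i V ((hid a).trans ha)))⟩
    obtain ⟨e⟩ := OmegaAffLib.nonempty_restrict_iso_freeMod haff (Omega.conormal i)
      ((Module.Basis.singleton (Fin 1) _).map (LinearEquiv.ofBijective ψ hbij))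
    exact ⟨i ⁻¹ᵁ V, hdV, ⟨e⟩⟩
  · intro h x
    obtain ⟨d, rfl⟩ := hsurj x
    obtain ⟨U', e, hdU, he⟩ := TwistLib.exists_genOn h d
    obtain ⟨O, hO, hOU⟩ := i.isClosedEmbedding.isInducing.isOpen_iff.1 U'.2
    obtain ⟨V, hV, hdV, hVO, hVc⟩ := ConormalInjLib.exists_chart i d ⟨O, hO⟩
      (show i.base d ∈ O from (Set.ext_iff.1 hOU d).2 hdU)
    have hle : i ⁻¹ᵁ V ≤ U' := fun y hy => (Set.ext_iff.1 hOU y).1 (hVO hy)
    have hb := he (i ⁻¹ᵁ V) hle
    obtain ⟨haff, hs⟩ := ConormalInjLib.chart_of_le i hV hVc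
    obtain ⟨s, hsv⟩ := Groth.Agent.S8919.exists_conormalSect_eq i hV hVc (AmpleLib.res _ hle e)
    refine ⟨⟨V, hV⟩, hdV, OmegaSh.idealSect i.ker V s, ?_, fun a ha => ?_⟩
    · refine le_antisymm (fun t ht => ?_) ?_
      · have ht0 := (hmem hV t).2 ht
        obtain ⟨b, hbt⟩ := hb.2 (OmegaSh.conormalSect i V (ConormalSecLib.lift i V t ht0))
        obtain ⟨a, rfl⟩ := hs b
        dsimp only at hbt
        rw [← hsv] at hbt
        have h0 : OmegaSh.conormalSect i V (a • s - ConormalSecLib.lift i V t ht0) = 0 := by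
          rw [map_sub, sub_eq_zero, ← hbt]
          exact OmegaSh.pullSect_smul i _ V a s
        have h1 := ConormalInjLib.mem_ker_sq_of_conormalSect_eq_zero i hV hVc _ h0
        rw [hsq0 hV, Submodule.mem_bot, map_sub, ConormalSecLib.idealSect_smul, ConormalSecLib.idealSect_lift,
          sub_eq_zero] at h1
        exact Ideal.mem_span_singleton'.2 ⟨a, h1⟩
      · rw [Ideal.span_singleton_le_iff_mem]
        exact (hmem hV _).1 (ConormalSecLib.app_idealSect i V s)
    · rw [show (2 : ℕ) - 1 = 1 from rfl, pow_one] at ha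
      refine (hmem hV a).1 (hb.1 ?_)
      show i.app V a • AmpleLib.res _ hle e = (0 : Γ(I.subscheme, i ⁻¹ᵁ V)) • AmpleLib.res _ hle e
      rw [zero_smul, ← hsv]
      refine (OmegaSh.pullSect_smul i _ V a s).symm.trans ?_
      rw [show a • s = 0 from ConormalSecLib.idealSect_injective i V
        (by rw [ConormalSecLib.idealSect_smul, ha, map_zero])]
      exact map_zero _

end Groth.Agent.S18344
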