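import Groth.Statements.S18350
import Groth.Agent.CurveDualModLib.Bidual
import Groth.Agent.CurveDualModLib.Setup
import Groth.Agent.CurveDualModLib.Hom
import Groth.Agent.CurvLib.RRBasic
import Groth.Agent.RefHullLib.Coherent
import Groth.Agent.LMLib.End
import Groth.Agent.HomTwistLib.Main
import Groth.Agent.DuFunLib.Main
import Groth.Agent.RelDualLib.Bundle

set_option autoImplicit false
set_option linter.style.haveILetI false
set_option backward.isDefEq.respectTransparency false
set_option backward.isDefEq.respectTransparency.types false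
set_option maxHeartbeats 1000000
set_option synthInstance.maxHeartbeats 400000

universe u
open CategoryTheory CategoryTheory.Limits AlgebraicGeometry
attribute [local instance] HasDerivedCategory.standard
open MultCurve

attribute [local instance] HasDerivedCategory.standard

namespace Groth.Agent.S18350

open CohCmpLib (homMod)

variable {X C : Scheme.{u}}

/-- `ℋom(F, L) ≅ F^∨ ⊗ L` for `L` invertible. -/
theorem nonempty_homMod_invertible (F : X.Modules) {L : X.Modules} (hL : PicF.IsInvertible L) :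
    Nonempty (homMod F L ≅ CohB1.tensorMod (homMod F (Coh.structureModule X)) L) := by
  have hfL : FlatMod.IsFinLocFree L :=
    CurveVBLib.isFinLocFree_of_rank ((CohCmpLib.invertible_iff_rank_one L).1 hL)
  obtain ⟨c⟩ := LMLib.nonempty_homMod_right F (HilbPolyLib.unitLeft L).symm
  exact ⟨c ≪≫ (Groth.Agent.HomTwistLib.homTwistIso F hfL).app (Coh.structureModule X)⟩

/-- `ℋom(G ⊗ L, L) ≅ G^∨` for `L` invertible. -/
theorem nonempty_homMod_cancel (G : X.Modules) {L : X.Modules} (hL : PicF.IsInvertible L) :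
    Nonempty (homMod (CohB1.tensorMod G L) L ≅ homMod G (Coh.structureModule X)) := by
  obtain ⟨e⟩ := nonempty_homMod_invertible L hL
  haveI := (ChernOpLib.exists_du_inv hL).2
  let e' : homMod L L ≅ Coh.structureModule X :=
    e ≪≫ HilbPolyLib.swapIso _ _ ≪≫ asIso (CohCmpLib.evMod L (Coh.structureModule X))
  obtain ⟨c⟩ := LMLib.nonempty_homMod_right G e'
  exact ⟨LMLib.homModLeftIso (HilbPolyLib.swapIso G L) L ≪≫ LMLib.homModTensorIso L G L ≪≫ c⟩

theorem regular_of_ann {A : Type u} [CommRing A] {z t : A} {n : ℕ} (hz : z ^ n = 0)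
    (hp : (Ideal.span {z}).IsPrime) (ht : t ∉ Ideal.span {z})
    (hann : ∀ a : A, a * z ^ (n - 1) = 0 → a ∈ Ideal.span {z}) : IsSMulRegular A t := by
  refine (isSMulRegular_iff_right_eq_zero_of_smul).2 fun a ha => ?_
  rw [smul_eq_mul] at ha
  have key : ∀ j : ℕ, j ≤ n → ∃ b, a = z ^ j * b := by
    intro j
    induction j with
    | zero => exact fun _ => ⟨a, by rw [pow_zero, one_mul]⟩
    | succ j ih =>
      intro hj
      obtain ⟨b, hb⟩ := ih (Nat.le_of_succ_le hj)
      have h0 : t * b * z ^ (n - 1) = 0 := by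
        have hn : n - 1 = j + (n - 1 - j) := (Nat.add_sub_cancel' (by omega)).symm
        rw [hn, pow_add, show t * b * (z ^ j * z ^ (n - 1 - j)) = t * (z ^ j * b) * z ^ (n - 1 - j) by ring,
          ← hb, ha, zero_mul]
      obtain ⟨c, hc⟩ := Ideal.mem_span_singleton.1 ((hp.mem_or_mem (hann _ h0)).resolve_left ht)
      exact ⟨c, by rw [hb, hc, pow_succ, mul_assoc]⟩
  obtain ⟨b, hb⟩ := key n le_rfl
  rw [hb, hz, zero_mul]

theorem surjective_of_pow {i : C ⟶ X} [IsClosedImmersion i] {n : ℕ} (hn : 1 ≤ n) (h : i.ker ^ n = ⊥) :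
    Function.Surjective i.base := fun x => by
  have hx : x ∈ (i.ker.support : Set X) := by
    rw [← Scheme.IdealSheafData.support_pow i.ker (n := n) (by omega), h, Scheme.IdealSheafData.support_bot]
    trivial
  rw [Scheme.Hom.support_ker, (i.isClosedEmbedding.isClosed_range).closure_eq] at hx
  exact hx

theorem isCM_of_primitive [IsLocallyNoetherian X] [IsIntegral C] (hC : topologicalKrullDim C = 1)
    (hX : topologicalKrullDim X = 1) {i : C ⟶ X} {n : ℕ} (hn : 1 ≤ n) (h : MultCurve.IsPrimThick i n) :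
    ∀ x : X, LocCoh.IsCohenMacaulayLocalRing (X.presheaf.stalk x) := by
  haveI := h.1
  refine MiscFlat6.isCohenMacaulayLocalRing_stalk_iff.2 fun x hx => ?_
  rw [CMFlatLib.isCohenMacaulayLocalRing_iff_isCM]
  obtain ⟨⟨U, hU⟩, hxU, z, hI, hann⟩ := h.2.2 x
  have hd : ringKrullDim (X.presheaf.stalk x) ≤ ((1 : ℕ) : WithBot ℕ∞) :=
    (DimIneqLib.stalk_dim_le_dim x).trans hX.le
  have hz : z ^ n = 0 := by
    have h1 : (i.ker ^ n).ideal ⟨U, hU⟩ = ⊥ := by rw [h.2.1]; simp
    rw [Scheme.IdealSheafData.ideal_pow, Pi.pow_apply, hI, Ideal.span_singleton_pow, Ideal.span_singleton_eq_bot] at h1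
    exact h1
  obtain ⟨c, rfl⟩ := surjective_of_pow hn h.2.1 x
  haveI : Nonempty (i ⁻¹ᵁ U : C.Opens) := ⟨⟨c, hxU⟩⟩
  haveI : IsDomain Γ(C, i ⁻¹ᵁ U) := inferInstance
  have hker : RingHom.ker (i.app U).hom = Ideal.span {z} := by
    rw [← hI, Scheme.Hom.ker_apply]
  have hp : (Ideal.span {z}).IsPrime := hker ▸ RingHom.ker_isPrime _
  let m := (hU.primeIdealOf ⟨i c, hxU⟩).asIdeal
  obtain ⟨t, htm, htz⟩ : ∃ t ∈ m, t ∉ Ideal.span {z} := by
    by_contra hno
    push_neg at hno
    have hsub : ∀ d : C, i d ∈ U → d = c := by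
      intro d hd
      have h1 : Ideal.span {z} ≤ (hU.primeIdealOf ⟨i d, hd⟩).asIdeal := by
        rw [Ideal.span_singleton_le_iff_mem]
        by_contra hzm
        have hu := hU.isLocalization_stalk ⟨i d, hd⟩
        have hun : IsUnit (X.presheaf.germ U (i d) hd z) := @IsLocalization.map_units _ _ _ (X.presheaf.stalk (i d)) _
          (X.presheaf.algebra_section_stalk (⟨i d, hd⟩ : U)) hu (⟨z, hzm⟩ : _)
        have h0 : X.presheaf.germ U (i d) hd z ^ n = 0 := by rw [← map_pow, hz, map_zero]
        exact (not_isUnit_zero (M₀ := X.presheaf.stalk (i d))) (h0 ▸ hun.pow n)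
      have hle : hU.primeIdealOf ⟨i c, hxU⟩ ≤ hU.primeIdealOf ⟨i d, hd⟩ := fun a ha => h1 (hno a ha)
      have hs := ((PrimeSpectrum.le_iff_specializes _ _).mp hle).map hU.fromSpec.continuous
      rw [hU.fromSpec_primeIdealOf, hU.fromSpec_primeIdealOf] at hs
      exact i.isClosedEmbedding.injective (hs.mem_closed hx rfl)
    have hop : IsOpen ({c} : Set C) := by
      have : ({c} : Set C) = (i ⁻¹ᵁ U : C.Opens) := Set.ext fun d =>
        ⟨fun hd => (Set.mem_singleton_iff.1 hd).symm ▸ hxU, fun hd => hsub d hd⟩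
      rw [this]; exact (i ⁻¹ᵁ U).2
    have hcl : IsClosed ({c} : Set C) := by
      have : ({c} : Set C) = i.base ⁻¹' {i c} := Set.ext fun d =>
        ⟨fun hd => by rw [Set.mem_singleton_iff.1 hd]; rfl, fun hd => i.isClosedEmbedding.injective hd⟩
      rw [this]; exact hx.preimage i.continuous
    have huniv : ({c} : Set C) = Set.univ := by
      rw [← hcl.closure_eq]
      exact (hop.dense (Set.singleton_nonempty c)).closure_eq
    haveI : Subsingleton C := ⟨fun a b => by
      have ha : a ∈ ({c} : Set C) := huniv ▸ trivial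
      have hb : b ∈ ({c} : Set C) := huniv ▸ trivial
      exact ha.trans hb.symm⟩
    haveI : Subsingleton (TopologicalSpace.IrreducibleCloseds C) := ⟨fun a b => TopologicalSpace.IrreducibleCloseds.ext
      ((Subsingleton.eq_univ_of_nonempty a.isIrreducible.nonempty).trans
        (Subsingleton.eq_univ_of_nonempty b.isIrreducible.nonempty).symm)⟩
    have hd0 : topologicalKrullDim C ≤ 0 := Order.krullDim_nonpos_of_subsingleton
    rw [hC] at hd0
    exact absurd hd0 (not_le.mpr zero_lt_one)
  rw [hI] at hann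
  have hreg := regular_of_ann hz hp htz hann
  let alg := X.presheaf.algebra_section_stalk (⟨i c, hxU⟩ : U)
  have hloc : IsLocalization.AtPrime (X.presheaf.stalk (i c)) m := hU.isLocalization_stalk ⟨i c, hxU⟩
  haveI : Module.Flat Γ(X, U) (X.presheaf.stalk (i c)) := IsLocalization.flat (X.presheaf.stalk (i c)) m.primeCompl
  refine CatLib.isCM_of_hasSeqIn ⟨[algebraMap Γ(X, U) (X.presheaf.stalk (i c)) t], rfl, ?_,
    (RingTheory.Sequence.isWeaklyRegular_singleton_iff (X.presheaf.stalk (i c)) _).mpr hreg.of_flat⟩ hd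
  simpa using (IsLocalization.AtPrime.to_map_mem_maximal_iff (X.presheaf.stalk (i c)) m t).mpr htm

/-- Let k be a field and X a projective primitive multiple curve of multiplicity n ≥ 1 over k: a proper
k-scheme with a closed immersion i : C ⟶ X of a smooth integral curve C whose ideal I satisfies Iⁿ =
0 and is locally generated by one section z with the annihilator of z^(n-1) contained in (z). Let
ω_X be the dualizing module of X over k (the cohomology sheaf in degree -1 of f^! O for the
structure morphism f, with the existence of Rf_* on D_QCoh and of its right adjoint carried as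
hypotheses), assumed invertible, and let F be a coherent reflexive O_X-module (the canonical map
from F to its double dual is an isomorphism). Then dim_k H⁰(X, F) = dim_k H¹(X, F^∨ ⊗ ω_X) and dim_k
H¹(X, F) = dim_k H⁰(X, F^∨ ⊗ ω_X), where F^∨ = Hom(F, O_X) is the dual sheaf. (The published
statement gives functorial isomorphisms H^i(X, F) ≅ H^(1-i)(X, F^∨ ⊗ ω_X)^* for i = 0, 1; this row
records the equality of dimensions. Invertibility of ω_X, asserted in the published text because X
is a local complete intersection, is carried as a hypothesis. Stated over an arbitrary field; the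
published setting is the complex numbers.) -/
theorem result (k : Type u) [Field k] (C X : Scheme.{u})
    [X.Over (Spec (CommRingCat.of k))] [IsProper (X ↘ (Spec (CommRingCat.of k)))] (i : C ⟶ X)
    (n : ℕ) (hn : 1 ≤ n) (h : MultCurve.IsPrimitive k i (X ↘ (Spec (CommRingCat.of k))) n)
    [DCoh.HasRpush (X ↘ (Spec (CommRingCat.of k)))] (hq : DCoh.RpushPreservesQCoh (X ↘ (Spec (CommRingCat.of k))))
    [DCoh.HasShriek (X ↘ (Spec (CommRingCat.of k))) hq]
    (OY : DCoh.DQCoh (Spec (CommRingCat.of k)))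
    (hOY : Nonempty (OY.obj ≅ DCoh.inD (Spec (CommRingCat.of k)) (Coh.structureModule (Spec (CommRingCat.of k)))))
    (hω : PicF.IsInvertible (DCoh.dualizingMod (X ↘ (Spec (CommRingCat.of k))) hq OY 1))
    (F : X.Modules) (hF : Coh.IsCoh F) (hFr : RefHull.IsReflexive F) :
    Module.finrank k (Coh.HH X F 0) =
        Module.finrank k (Coh.HH X (CohB1.tensorMod (RefHull.dual F) (DCoh.dualizingMod (X ↘ (Spec (CommRingCat.of k))) hq OY 1)) 1) ∧
      Module.finrank k (Coh.HH X F 1) =
        Module.finrank k (Coh.HH X (CohB1.tensorMod (RefHull.dual F) (DCoh.dualizingMod (X ↘ (Spec (CommRingCat.of k))) hq OY 1)) 0) := by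
  obtain ⟨hth, hCi, -, hCd⟩ := h
  haveI := hCi
  haveI := hth.1
  haveI : IsLocallyNoetherian X := LocallyOfFiniteType.isLocallyNoetherian (X ↘ Spec (CommRingCat.of k))
  haveI : CompactSpace X := QuasiCompact.compactSpace_of_compactSpace (X ↘ Spec (CommRingCat.of k))
  haveI : QuasiSeparatedSpace X := quasiSeparatedSpace_of_quasiSeparated (X ↘ Spec (CommRingCat.of k))
  have hsurj := surjective_of_pow hn hth.2.1
  have hdim : topologicalKrullDim X = 1 :=
    (IsHomeomorph.topologicalKrullDim_eq _
      (isHomeomorph_iff_isEmbedding_surjective.2 ⟨i.isClosedEmbedding.isEmbedding, hsurj⟩)).symm.trans hCd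
  haveI : IrreducibleSpace X := hsurj.irreducibleSpace i.continuous
  have heq : ∀ Z ∈ irreducibleComponents (X : Type u), topologicalKrullDim Z = 1 := fun Z hZ => by
    rw [irreducibleComponents_eq_singleton, Set.mem_singleton_iff] at hZ
    rw [hZ, (Homeomorph.Set.univ X).isHomeomorph.topologicalKrullDim_eq]
    exact hdim
  obtain ⟨eO⟩ := hOY
  obtain ⟨hωc, t, ht⟩ := FieldDualLib.exists_duality (k := k) (isCM_of_primitive hCd hdim hn hth) 1
    heq hdim hq _ (DCoh.shriekAdj (X ↘ Spec (CommRingCat.of k)) hq) OY eO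
  let ω := DCoh.dualizingMod (X ↘ (Spec (CommRingCat.of k))) hq OY 1
  have key : ∀ G : X.Modules, Coh.IsCoh G → Module.finrank k (Coh.HH X G 1) =
      Module.finrank k (Coh.HH X (RefHull.homSh G ω) 0) := fun G hG => by
    let e₀ : (G ⟶ ω) ≃ₗ[k] (CurveDualModLib.inH G ⟶ CurveDualModLib.inH ω) :=
      LinearEquiv.ofBijective ((DerivedCategory.singleFunctor X.Modules 0).mapLinearMap k)
        ⟨(DerivedCategory.singleFunctor X.Modules 0).map_injective,
          (DerivedCategory.singleFunctor X.Modules 0).map_surjective⟩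
    let e₁ := (Linear.homCongr k (Iso.refl (CurveDualModLib.inH G)) (CurveDualModLib.zH ω).symm).trans
      (LinearEquiv.ofBijective _ (ht G hG.1 0 ((1 : ℕ) : ℤ) (zero_add _)))
    let e₂ := (e₀.trans e₁).trans (FieldDualLib.homEquivHH (k := k) G 1).symm.dualMap
    rw [← CurveDualModLib.finrank_hom_eq G ω k, e₂.finrank_eq, Subspace.dual_finrank_eq]
  let D := RefHull.dual F
  have hDc : Coh.IsCoh D := RefHullLib.isCoh_homSh hF (CurvLib.isCoh_of_isInvertible CurvLib.isInvertible_structureModule)
  obtain ⟨e⟩ := nonempty_homMod_invertible F hω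
  let e2 : RefHull.homSh F ω ≅ CohB1.tensorMod D ω :=
    LMLib.homShIso F ω ≪≫ e ≪≫ HilbPolyLib.congrLeft (LMLib.homShIso F (Coh.structureModule X)).symm ω
  have hG : Coh.IsCoh (CohB1.tensorMod D ω) :=
    QCohLib.isCoh_of_iso e2 (RefHullLib.isCoh_homSh hF hωc)
  haveI : IsIso (RefHull.bidualMap F) := hFr
  obtain ⟨c⟩ := nonempty_homMod_cancel D hω
  let e1 : RefHull.homSh (CohB1.tensorMod D ω) ω ≅ F :=
    LMLib.homShIso _ ω ≪≫ c ≪≫ (LMLib.homShIso D (Coh.structureModule X)).symm ≪≫ (asIso (RefHull.bidualMap F)).symm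
  exact ⟨((key _ hG).trans (CurvLib.hIso (k := k) e1 0).finrank_eq).symm,
    (key F hF).trans (CurvLib.hIso (k := k) e2 0).finrank_eq⟩

end Groth.Agent.S18350
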