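import Groth.Statements.S0395
import Groth.Agent.FlatLib.InjFibre
-- import your own Groth.Agent.* helpers here

set_option autoImplicit false
universe u
open FlatMor

namespace Groth.Agent.S0395
open TensorProduct in

open TensorProduct nonZeroDivisors in
/-- For a flat local homomorphism R → S of Noetherian local rings and an element f of S that is regular
on the fibre ring S/mS, the quotient of S by f is again R-flat and f is regular on S. -/
theorem result {R S : Type u} [CommRing R] [CommRing S] [IsLocalRing R] [IsLocalRing S] [IsNoetherianRing R] [IsNoetherianRing S] [Algebra R S] [IsLocalHom (algebraMap R S)] [Module.Flat R S]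
    (f : S) (hf : Ideal.Quotient.mk ((IsLocalRing.maximalIdeal R).map (algebraMap R S)) f ∈ nonZeroDivisors (S ⧸ ((IsLocalRing.maximalIdeal R).map (algebraMap R S)))) :
    Module.Flat R (S ⧸ Ideal.span {f}) ∧ f ∈ nonZeroDivisors S := by
  let u : S →ₗ[R] S := (LinearMap.mulLeft S f).restrictScalars R
  let J := (IsLocalRing.maximalIdeal R).map (algebraMap R S)
  have h : Function.Injective (u.lTensor (IsLocalRing.ResidueField R)) := by
    let e := TensorProduct.quotTensorEquivQuotSMul S (IsLocalRing.maximalIdeal R)
    refine (injective_iff_map_eq_zero _).mpr fun z hz ↦ ?_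
    obtain ⟨x, rfl⟩ := TensorProduct.mk_surjective R S (IsLocalRing.ResidueField R) IsLocalRing.residue_surjective z
    replace hz : e ((1 : R ⧸ IsLocalRing.maximalIdeal R) ⊗ₜ[R] (f * x)) = 0 :=
      (congr_arg e hz).trans (map_zero e)
    rw [TensorProduct.quotTensorEquivQuotSMul_mk_one_tmul, Submodule.Quotient.mk_eq_zero,
      Ideal.smul_top_eq_map] at hz
    have h0 : Ideal.Quotient.mk J f * Ideal.Quotient.mk J x = 0 := by
      rw [← map_mul]; exact Ideal.Quotient.eq_zero_iff_mem.mpr hz
    have hx : x ∈ J := Ideal.Quotient.eq_zero_iff_mem.mp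
      ((mem_nonZeroDivisors_iff_left.mp hf) _ h0)
    refine e.injective (Eq.trans ?_ (map_zero e).symm)
    show e ((1 : R ⧸ IsLocalRing.maximalIdeal R) ⊗ₜ[R] x) = 0
    rw [TensorProduct.quotTensorEquivQuotSMul_mk_one_tmul, Submodule.Quotient.mk_eq_zero,
      Ideal.smul_top_eq_map]
    exact hx
  obtain ⟨hi, hfl⟩ := FlatLib.injective_and_flat_coker S u h
  have hreg : f ∈ nonZeroDivisors S := mem_nonZeroDivisors_iff_left.mpr fun x hx ↦
    hi (hx.trans (mul_zero f).symm)
  refine ⟨?_, hreg⟩
  have heq : LinearMap.range u = (Ideal.span {f}).restrictScalars R := by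
    ext y
    simp [u, Ideal.mem_span_singleton', mul_comm f]
  exact Module.Flat.of_linearEquiv
    ((Submodule.Quotient.restrictScalarsEquiv R (Ideal.span {f})).symm.trans
      (Submodule.quotEquivOfEq _ _ heq.symm))

end Groth.Agent.S0395
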