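import Groth.Statements.S2047
import Groth.Agent.GRingLib.RegHom
import Groth.Agent.S0598
import Groth.Agent.S4704
import Groth.Agent.GeomRedFibLib.CplFibres
-- import your own Groth.Agent.* helpers here

set_option autoImplicit false
universe u
open CAlg

namespace Groth.Agent.S2047

/-- A Noetherian ring `R` is a G-ring if and only if for every maximal ideal `𝔪` the completion map of
`R_𝔪` is a regular ring map. -/
theorem result {R : Type u} [CommRing R] [IsNoetherianRing R] :
    CAlg.IsGRing R ↔ ∀ (m : Ideal R) [m.IsMaximal],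
      CAlg.IsRegularHom (Localization.AtPrime m)
        (AdicCompletion (IsLocalRing.maximalIdeal (Localization.AtPrime m)) (Localization.AtPrime m)) := by
  refine ⟨fun h m _ ↦ h.2 m, fun h ↦ ⟨inferInstance, fun p _ ↦ ?_⟩⟩
  obtain ⟨m, hm, hpm⟩ := Ideal.exists_le_maximal p (Ideal.IsPrime.ne_top inferInstance)
  haveI := hm
  let Rm := Localization.AtPrime m
  let Ah := EGA4.Cpl Rm
  haveI := GeomRedFibLib.isNoetherianRing_cpl Rm
  haveI := GeomRedFibLib.faithfullyFlat_hat Rm
  haveI := AdicRingLib.isAdicComplete_map (C := Rm) (K := IsLocalRing.maximalIdeal Rm) (IsNoetherian.noetherian _)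
  haveI : IsAdicComplete (IsLocalRing.maximalIdeal Ah) Ah := by
    rw [AdicCompletion.maximalIdeal_eq_map]; infer_instance
  have hd : Disjoint (m.primeCompl : Set R) (p : Set R) := Set.disjoint_left.mpr fun x hx hxp ↦ hx (hpm hxp)
  haveI : (p.map (algebraMap R Rm)).IsPrime := IsLocalization.isPrime_of_isPrime_disjoint m.primeCompl _ p inferInstance hd
  obtain ⟨⟨Q, hQ⟩, hQp⟩ := PrimeSpectrum.comap_surjective_of_faithfullyFlat (A := Rm) (B := Ah)
    ⟨p.map (algebraMap R Rm), inferInstance⟩
  haveI := hQ
  have hQp' : p = Q.comap (algebraMap R Ah) := by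
    rw [IsScalarTower.algebraMap_eq R Rm Ah, ← Ideal.comap_comap,
      show Q.comap (algebraMap Rm Ah) = p.map (algebraMap R Rm) from congrArg PrimeSpectrum.asIdeal hQp]
    exact (IsLocalization.under_map_of_isPrime_disjoint m.primeCompl Rm inferInstance hd).symm
  have hreg : CAlg.IsRegularHom R Ah :=
    GRingLib.isRegularHom_comp R Rm Ah (GRingLib.isRegularHom_of_isLocalization R Rm m.primeCompl) (h m)
  letI : Algebra (Localization.AtPrime p) (Localization.AtPrime Q) :=
    (Localization.localRingHom p Q (algebraMap R Ah) hQp').toAlgebra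
  haveI : IsLocalHom (algebraMap (Localization.AtPrime p) (Localization.AtPrime Q)) :=
    inferInstanceAs (IsLocalHom (Localization.localRingHom p Q (algebraMap R Ah) hQp'))
  haveI : IsScalarTower R (Localization.AtPrime p) (Localization.AtPrime Q) := .of_algebraMap_eq fun x ↦
    (IsScalarTower.algebraMap_apply R Ah (Localization.AtPrime Q) x).trans
      (Localization.localRingHom_to_map p Q (algebraMap R Ah) hQp' x).symm
  exact Groth.Agent.S4704.result _ _ (GRingLib.isRegularHom_localRingHom R Ah hreg Q p)
    ((Groth.Agent.S0598.result Ah).2 Q)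

end Groth.Agent.S2047
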