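import Groth.Statements.S14904
import Groth.Agent.GaModelLib.Algebra
import Groth.Agent.GaModelLib.GaSpec
import Groth.Agent.HomCorrLib.Bridge
import Mathlib.RingTheory.PolynomialAlgebra
import Mathlib.LinearAlgebra.SymmetricAlgebra.Basis
-- import your own Groth.Agent.* helpers here

set_option autoImplicit false
universe u
open CategoryTheory MonoidalCategory CartesianMonoidalCategory MonObj GrpObj AlgebraicGeometry
open Neron

set_option linter.style.haveILetI false
set_option backward.isDefEq.respectTransparency false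
set_option backward.isDefEq.respectTransparency.types false
set_option maxHeartbeats 1000000
open CategoryTheory.Limits MonoidalCategory CartesianMonoidalCategory CoactBr
open Groth.Agent.DiagRep (baseHom bcHom)
open scoped MonObj TensorProduct
open Polynomial (aeval)
attribute [-instance] CategoryTheory.Hom.commGroup

namespace Groth.Agent.S14904

variable {R : Type u} [CommRing R]

noncomputable instance (priority := 10000) gaGrp (K : Type u) [CommRing K] [Algebra R K] (A : Type u) [CommRing A]
    [HopfAlgebra R A] : GrpObj (sp K (K ⊗[R] A)) :=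
  letI : HopfAlgebra K (K ⊗[R] A) := inferInstance
  inferInstance

noncomputable instance (priority := 10000) gaMon (K : Type u) [CommRing K] [Algebra R K] (A : Type u) [CommRing A]
    [HopfAlgebra R A] : MonObj (sp K (K ⊗[R] A)) := (gaGrp K A).toMonObj

theorem comul_comp {A C : Type u} [CommRing A] [CommRing C] [Bialgebra R A] [Bialgebra R C] (φ : A →ₐ[R] C)
    [IsMonHom (pt φ)] :
    (Algebra.TensorProduct.map φ φ).comp (Bialgebra.comulAlgHom R A) = (Bialgebra.comulAlgHom R C).comp φ := by
  refine AlgHom.ext fun a => ?_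
  have h := congrArg (fun x : WithConv (A →ₐ[R] C ⊗[R] C) => x a) (DiagRep.comul_comp_of_isMonHom φ)
  simp only [AlgHom.convMul_apply] at h
  refine Eq.trans ?_ h.symm
  show Algebra.TensorProduct.map φ φ (CoalgebraStruct.comul (R := R) a) = _
  generalize CoalgebraStruct.comul (R := R) a = z
  induction z using TensorProduct.induction_on with
  | zero => simp
  | add x y hx hy => simp only [map_add, hx, hy]
  | tmul x y => simp [Algebra.TensorProduct.tmul_mul_tmul]

theorem aeval_gen_surjective :
    Function.Surjective (aeval (SymmetricAlgebra.ι R R 1) : Polynomial R →ₐ[R] SymmetricAlgebra R R) := by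
  intro z
  induction z using SymmetricAlgebra.induction with
  | algebraMap r => exact ⟨Polynomial.C r, Polynomial.aeval_C _ _⟩
  | «ι» r =>
    refine ⟨Polynomial.C r * Polynomial.X, ?_⟩
    rw [map_mul, Polynomial.aeval_C, Polynomial.aeval_X, ← Algebra.smul_def, ← map_smul, smul_eq_mul, _root_.mul_one]
  | mul a b ha hb => obtain ⟨p, rfl⟩ := ha; obtain ⟨q, rfl⟩ := hb; exact ⟨p * q, map_mul _ _ _⟩
  | add a b ha hb => obtain ⟨p, rfl⟩ := ha; obtain ⟨q, rfl⟩ := hb; exact ⟨p + q, map_add _ _ _⟩

theorem exists_x [IsDomain R] [IsDiscreteValuationRing R] [CharZero (IsLocalRing.ResidueField R)]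
    (K : Type u) [Field K] [Algebra R K] [IsFractionRing R K] {C : Type u} [CommRing C] [HopfAlgebra R C]
    [Algebra.Smooth R C] (Ψ : sp K (SymmetricAlgebra K K) ⟶ sp K (K ⊗[R] C)) [IsIso Ψ] [IsMonHom (inv Ψ)] :
    ∃ x : C, CoalgebraStruct.comul (R := R) x = x ⊗ₜ[R] (1 : C) + (1 : C) ⊗ₜ[R] x ∧
      Function.Bijective (aeval x : Polynomial R →ₐ[R] C) := by
  haveI : Module.Flat R C := inferInstance
  haveI : Algebra.FiniteType R C := inferInstance
  obtain ⟨f, hf⟩ := DiagRep.exists_pt Ψ
  obtain ⟨f', hf'⟩ := DiagRep.exists_pt (inv Ψ)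
  have h1 : f.comp f' = AlgHom.id K _ := pt_injective (by rw [pt_comp, ← hf, ← hf', IsIso.hom_inv_id, pt_id])
  have h2 : f'.comp f = AlgHom.id K _ := pt_injective (by rw [pt_comp, ← hf, ← hf', IsIso.inv_hom_id, pt_id])
  let E : (K ⊗[R] C) ≃ₐ[K] SymmetricAlgebra K K := AlgEquiv.ofAlgHom f f' h1 h2
  haveI : IsDomain (SymmetricAlgebra K K) :=
    MulEquiv.isDomain (MvPolynomial Unit K) (SymmetricAlgebra.equivMvPolynomial (Module.Basis.singleton Unit K)).toMulEquiv
  haveI : IsDomain (K ⊗[R] C) := MulEquiv.isDomain (SymmetricAlgebra K K) E.toMulEquiv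
  haveI : IsMonHom (pt f') := hf' ▸ (inferInstance : IsMonHom (inv Ψ))
  let y : K ⊗[R] C := f' (SymmetricAlgebra.ι K K 1)
  refine GaModel.exists_coordinate K y ?_ ?_ ?_
  · have h := DFunLike.congr_fun (comul_comp f') (SymmetricAlgebra.ι K K 1)
    simp only [AlgHom.comp_apply, Bialgebra.comulAlgHom_apply] at h
    rw [← h]
    simp [y]
  · intro z
    obtain ⟨p, hp⟩ := aeval_gen_surjective (R := K) (E z)
    refine ⟨p, ?_⟩
    rw [Polynomial.aeval_algHom_apply, hp]
    exact E.symm_apply_apply z
  · intro h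
    have h' := congrArg (fun z => SymmetricAlgebra.lift (LinearMap.id : K →ₗ[K] K) (f z)) h
    simp only [y, map_zero, ← AlgHom.comp_apply f f', h1, AlgHom.id_apply, SymmetricAlgebra.lift_ι_apply,
      LinearMap.id_apply, one_ne_zero] at h'

theorem exists_equiv [IsDomain R] {C : Type u} [CommRing C] [HopfAlgebra R C] {x : C}
    (hx : CoalgebraStruct.comul (R := R) x = x ⊗ₜ[R] (1 : C) + (1 : C) ⊗ₜ[R] x)
    (hb : Function.Bijective (aeval x : Polynomial R →ₐ[R] C)) :
    ∃ φ : SymmetricAlgebra R R →ₐ[R] C, IsIso (pt φ) ∧ IsMonHom (pt φ) := by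
  let φ : SymmetricAlgebra R R →ₐ[R] C := SymmetricAlgebra.lift (LinearMap.toSpanSingleton R C x)
  have hφ : φ (SymmetricAlgebra.ι R R 1) = x := by simp [φ]
  have hcomp : ∀ p, φ (aeval (SymmetricAlgebra.ι R R 1) p) = aeval x p := fun p => by
    rw [← Polynomial.aeval_algHom_apply, hφ]
  have hφb : Function.Bijective φ := by
    refine ⟨fun a b hab => ?_, fun c => ?_⟩
    · obtain ⟨p, rfl⟩ := aeval_gen_surjective a
      obtain ⟨q, rfl⟩ := aeval_gen_surjective b
      rw [hcomp, hcomp] at hab
      rw [hb.1 hab]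
    · obtain ⟨p, rfl⟩ := hb.2 c
      exact ⟨_, hcomp p⟩
  let E : SymmetricAlgebra R R ≃ₐ[R] C := AlgEquiv.ofBijective φ hφb
  have hε : Coalgebra.counit (R := R) x = 0 := by
    have h := Coalgebra.rTensor_counit_comul (R := R) x
    rw [hx, map_add, LinearMap.rTensor_tmul, LinearMap.rTensor_tmul, Bialgebra.counit_one, add_eq_right] at h
    have h' := congrArg (TensorProduct.lid R C) h
    simp only [TensorProduct.lid_tmul, map_zero] at h'
    simpa [Algebra.smul_def] using congrArg (Bialgebra.counitAlgHom R C) h'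
  refine ⟨φ, ⟨pt E.symm.toAlgHom,
    by rw [← pt_comp, show φ.comp E.symm.toAlgHom = AlgHom.id R _ from AlgHom.ext fun a => E.apply_symm_apply a]
       exact pt_id,
    by rw [← pt_comp, show E.symm.toAlgHom.comp φ = AlgHom.id R _ from AlgHom.ext fun a => E.symm_apply_apply a]
       exact pt_id⟩, ?_⟩
  refine DiagRep.isMonHom_pt φ (SymmetricAlgebra.algHom_ext (LinearMap.ext_ring ?_))
    (SymmetricAlgebra.algHom_ext (LinearMap.ext_ring ?_))
  · show Bialgebra.counitAlgHom R C (φ (SymmetricAlgebra.ι R R 1)) = _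
    rw [hφ]
    simpa [SymmetricAlgebra.algebraMapInv] using hε
  · show Algebra.TensorProduct.map φ φ (CoalgebraStruct.comul (R := R) (SymmetricAlgebra.ι R R 1)) =
      CoalgebraStruct.comul (R := R) (φ (SymmetricAlgebra.ι R R 1))
    rw [hφ, hx]
    simp [hφ]

theorem connectedSpace_bc (K : Type u) [Field K] [Algebra R K] (G : Over (Spec (CommRingCat.of R))) {C : Type u}
    [CommRing C] [HopfAlgebra R C] (v : sp R C ≅ G) {x : C}
    (hb : Function.Bijective (aeval x : Polynomial R →ₐ[R] C)) :
    ConnectedSpace ↥(Red.bc (baseHom R K) G).left := by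
  let E : Polynomial K ≃ₐ[R] K ⊗[R] C :=
    (polyEquivTensor R K).restrictScalars R |>.trans
      (Algebra.TensorProduct.congr (AlgEquiv.refl (R := R) (A₁ := K)) (AlgEquiv.ofBijective _ hb))
  haveI : IsDomain (K ⊗[R] C) := MulEquiv.isDomain (Polynomial K) E.symm.toMulEquiv
  haveI : ConnectedSpace ↥((Over.forget (Spec (CommRingCat.of K))).obj (sp K (K ⊗[R] C))) :=
    inferInstanceAs (ConnectedSpace (PrimeSpectrum (K ⊗[R] C)))
  let iso : sp K (K ⊗[R] C) ≅ Red.bc (baseHom R K) G :=
    (asIso (bcHom R K C)).symm ≪≫ (Over.pullback (baseHom R K)).mapIso v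
  let H := Scheme.homeoOfIso ((Over.forget _).mapIso iso)
  exact H.surjective.connectedSpace H.continuous


/-- Let R be a complete discrete valuation ring with fraction field K of characteristic 0 and
algebraically closed residue field k of characteristic 0, and let G be an affine smooth R-group
scheme of finite type together with an isomorphism of K-group schemes between its generic fibre and
the additive group over K (an affine smooth R-model of the additive group). Then the special fibre
G_k is connected and G is isomorphic to the additive group over R as an R-group scheme (existence of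
an isomorphism of group schemes). -/
theorem result (R : Type u) [CommRing R] [IsDomain R] [IsDiscreteValuationRing R]
    [IsAdicComplete (IsLocalRing.maximalIdeal R) R] (K : Type u) [Field K] [Algebra R K] [IsFractionRing R K] [CharZero K]
    [IsAlgClosed (IsLocalRing.ResidueField R)] [CharZero (IsLocalRing.ResidueField R)]
    (G : Over (Spec (CommRingCat.of R))) [GrpObj G] [Smooth G.hom] [IsAffineHom G.hom] [LocallyOfFiniteType G.hom]
    (e : Red.bc (Spec.map (CommRingCat.ofHom (algebraMap R K))) G ≅ Red.Ga (Spec (CommRingCat.of K))) [IsMonHom e.hom] :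
    ConnectedSpace ↥(Red.bc (Spec.map (CommRingCat.ofHom (IsLocalRing.residue R))) G).left ∧
      ∃ e' : G ≅ Red.Ga (Spec (CommRingCat.of R)), IsMonHom e'.hom := by
  haveI : IsAffine G.left := isAffine_of_isAffineHom G.hom
  obtain ⟨C, iC, iC', v, hv, hv'⟩ := HomCorr.exists_hopf G
  haveI := hv; haveI := hv'
  haveI : IsIso v.hom.left := (Over.forget _).map_isIso v.hom
  haveI : Algebra.Smooth R C := by
    have h : Smooth (sp R C).hom := by rw [← Over.w v.hom]; infer_instance
    exact RingHom.smooth_algebraMap.1 ((HasRingHomProperty.Spec_iff (P := @Smooth)).1 h)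
  -- the generic fibre
  let P := (Over.pullback (baseHom R K)).map v.hom
  haveI hP : IsMonHom (M := Red.bc (baseHom R K) (sp R C)) (N := Red.bc (baseHom R K) G) P :=
    @Functor.map.instIsMonHom _ _ _ _ _ _ (Over.pullback (baseHom R K)) _ _ _ _ _ v.hom _
  haveI : IsIso P := Functor.map_isIso _ _
  haveI : IsIso (bcHom R K C) := inferInstance
  haveI hB : IsMonHom (asIso (bcHom R K C)).hom := DiagRep.isMonHom_bcHom R K C
  haveI : IsMonHom (asIso (GaModel.toGa K)).hom := inferInstanceAs (IsMonHom (GaModel.toGa K))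
  let Ω : sp K (K ⊗[R] C) ⟶ sp K (SymmetricAlgebra K K) :=
    (asIso (bcHom R K C)).inv ≫ P ≫ e.hom ≫ (asIso (GaModel.toGa K)).inv
  haveI hΩ : IsMonHom Ω := by
    haveI h3 : IsMonHom (e.hom ≫ (asIso (GaModel.toGa K)).inv) := inferInstance
    haveI h2 : IsMonHom (P ≫ e.hom ≫ (asIso (GaModel.toGa K)).inv) := @instIsMonHomComp _ _ _ _ _ _ _ _ _ _ _ hP h3
    exact @instIsMonHomComp _ _ _ _ _ _ _ _ _ _ _ (inferInstance : IsMonHom (asIso (bcHom R K C)).inv) h2
  haveI : IsIso Ω := inferInstanceAs (IsIso ((asIso (bcHom R K C)).inv ≫ P ≫ e.hom ≫ (asIso (GaModel.toGa K)).inv))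
  haveI : IsMonHom (inv (inv Ω)) := by rwa [IsIso.inv_inv]
  obtain ⟨x, hx, hb⟩ := exists_x K (inv Ω)
  obtain ⟨φ, hi, hm⟩ := exists_equiv hx hb
  haveI := hi
  haveI : IsMonHom (asIso (pt φ)).hom := hm
  haveI : IsMonHom (asIso (GaModel.toGa R)).hom := inferInstanceAs (IsMonHom (GaModel.toGa R))
  let e' : G ≅ Red.Ga (Spec (CommRingCat.of R)) := v.symm ≪≫ asIso (pt φ) ≪≫ asIso (GaModel.toGa R)
  have he' : IsMonHom e'.hom := by
    show IsMonHom (v.inv ≫ (asIso (pt φ)).hom ≫ (asIso (GaModel.toGa R)).hom)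
    infer_instance
  exact ⟨connectedSpace_bc (IsLocalRing.ResidueField R) G v hb, e', he'⟩

end Groth.Agent.S14904
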