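import Groth.Statements.S3782
import Mathlib.RingTheory.AdjoinRoot
import Groth.Agent.KRRRegLib.LamAlg
import Groth.Agent.KRRRegLib.Tele
import Groth.Agent.LambdaSpL.PosStr

set_option autoImplicit false
universe v u
open CategoryTheory CategoryTheory.Limits AlgebraicGeometry
attribute [local instance] HasDerivedCategory.standard
open KRR
set_option maxHeartbeats 2000000
set_option linter.all false

namespace Groth.Agent.S3782

theorem esymm_map_mul {B : Type*} [CommRing B] [LambdaRing.LambdaOps B] (w : B) (s : Multiset B) :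
    ∀ n, (s.map fun u => w * u).esymm n = w ^ n * s.esymm n := by
  induction s using Multiset.induction_on with
  | empty =>
    intro n
    cases n with
    | zero => simp [LambdaSpLib.esymm_zero']
    | succ m => simp [LambdaSpLib.esymm_eq_zero_of_card_lt]
  | cons a s ih =>
    intro n
    cases n with
    | zero => simp [LambdaSpLib.esymm_zero']
    | succ m =>
      rw [Multiset.map_cons, LambdaSpLib.esymm_cons_succ, LambdaSpLib.esymm_cons_succ, ih, ih]
      ring

theorem lam_mul_line {B : Type v} [CommRing B] [LambdaRing.LambdaOps B] (P : LambdaRing.PosStructure B)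
    (hP : LambdaRing.HasSplitting B P) {w : B} (hw : P.IsLine w) (x : B) (j : ℕ) :
    LambdaRing.LambdaOps.lam j (w * x) = w ^ j * LambdaRing.LambdaOps.lam j x := by
  have key : ∀ e ∈ P.pos, ∀ j, LambdaRing.LambdaOps.lam j (w * e) = w ^ j * LambdaRing.LambdaOps.lam j e := by
    intro e he j
    obtain ⟨L, f, hf, -, h⟩ := LambdaSpLib.exists_split P hP [e] (by simp [he])
    obtain ⟨s, hs, hse⟩ := h e (by simp)
    have hfw := LambdaSpLib.line_map hf hw
    apply hf.injective
    rw [map_mul, map_pow, hf.isLambdaHom, hf.isLambdaHom, map_mul, ← hse,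
      LambdaSpLib.lam_sum_lines fun u hu => LambdaSpLib.line_lam (hs u hu),
      show f w * s.sum = (s.map fun u => f w * u).sum by rw [Multiset.sum_map_mul_left, Multiset.map_id'],
      ← esymm_map_mul]
    refine LambdaSpLib.lam_sum_lines (fun u hu => ?_) j
    obtain ⟨u', hu', rfl⟩ := Multiset.mem_map.1 hu
    exact LambdaSpLib.line_lam (LambdaSpLib.line_mul hfw (hs u' hu'))
  obtain ⟨e, e', he, he', rfl⟩ := P.exists_sub x
  exact KRRRegLib.lam_line_mul_of_pos (key e' he') (by rw [sub_add_cancel]; exact key e he) j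

/-- Let K be a λ-ring with positive structure having the splitting property, e positive with ε(e) = r +
1, and K_e = K[T]/(p_e) with generator ℓ, equipped with a λ-structure extending that of K with
λ^i(ℓ) = 0 for i ≥ 2 and a positive structure making K ⟶ K_e an extension with ℓ a line element and
again having the splitting property. Then for every k ≥ 0 the γ-filtration of K_e is F^k K_e =
Σ_{i=0}^{r} F^{k-i}K · (ℓ - 1)^i (F^j K = K for j ≤ 0). In particular F^k K_e ∩ K = F^k K. -/
theorem result (K : Type v) [CommRing K] [LambdaRing.LambdaOps K] (P : LambdaRing.PosStructure K) (hK : LambdaRing.HasSplitting K P) (e : K) (he : e ∈ P.pos) (r : ℕ) (hr : P.aug e = r + 1)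
    (inst : LambdaRing.LambdaOps (AdjoinRoot (KRR.extPoly P e))) (Pe : @LambdaRing.PosStructure _ _ inst)
    (hext : @LambdaRing.IsExtension K _ _ _ _ inst P Pe (AdjoinRoot.of (KRR.extPoly P e)))
    (hroot : ∀ i : ℕ, 2 ≤ i → @LambdaRing.LambdaOps.lam _ _ inst i (AdjoinRoot.root (KRR.extPoly P e)) = 0)
    (hline : @LambdaRing.PosStructure.IsLine _ _ inst Pe (AdjoinRoot.root (KRR.extPoly P e)))
    (hsplit : @LambdaRing.HasSplitting _ _ inst Pe) (k : ℕ) :
    @LambdaRing.gammaFiltration _ _ inst Pe k =
      ⨆ i ∈ Finset.range (r + 1), AddSubgroup.map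
        ((AddMonoidHom.mulRight ((AdjoinRoot.root (KRR.extPoly P e) - 1) ^ i)).comp
          (AdjoinRoot.of (KRR.extPoly P e)).toAddMonoidHom)
        (LambdaRing.gammaFiltration P (k - i)) := by
  letI := inst
  let q : K →+* AdjoinRoot (KRR.extPoly P e) := AdjoinRoot.of (KRR.extPoly P e)
  let l := AdjoinRoot.root (KRR.extPoly P e)
  let v := l - 1
  have hql : ∀ i x, q (LambdaRing.LambdaOps.lam i x) = LambdaRing.LambdaOps.lam i (q x) := hext.isLambdaHom
  have hqa : ∀ x, Pe.aug (q x) = P.aug x := hext.aug_comp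
  have hla : Pe.aug l = 1 := hline.2
  have hrN : (P.aug e).toNat = r + 1 := by rw [hr]; omega
  have hroot0 : ∑ i ∈ Finset.range (r + 2), (-1) ^ i * q (LambdaRing.LambdaOps.lam i e) * l ^ (r + 1 - i) = 0 := by
    have h0 := AdjoinRoot.eval₂_root (KRR.extPoly P e)
    have hp : KRR.extPoly P e = ∑ i ∈ Finset.range (r + 1 + 1),
        Polynomial.C ((-1 : K) ^ i * LambdaRing.LambdaOps.lam i e) * Polynomial.X ^ (r + 1 - i) := by
      rw [KRR.extPoly, hrN]
    have h := (congrArg (Polynomial.eval₂ q l) hp).symm.trans h0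
    simp only [Polynomial.eval₂_finsetSum, Polynomial.eval₂_mul, Polynomial.eval₂_C, Polynomial.eval₂_pow,
      Polynomial.eval₂_X, map_mul, map_pow, Polynomial.eval₂_neg, Polynomial.eval₂_one, map_neg, map_one] at h
    exact h
  -- the complement of the root
  have hstep : ∀ i, q (LambdaRing.LambdaOps.lam (i + 1) e) =
      LambdaRing.LambdaOps.lam (i + 1) (q e - l) + LambdaRing.LambdaOps.lam i (q e - l) * l := fun i => by
    rw [hql]
    have h := LambdaSpLib.lam_add_line (a := l) hroot i (q e - l)
    rw [sub_add_cancel] at h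
    rw [h, mul_comm l]
  have hktop : LambdaRing.LambdaOps.lam (r + 1) (q e - l) = 0 := by
    have h := KRRRegLib.root_relation' (fun i => q (LambdaRing.LambdaOps.lam i e))
      (fun i => LambdaRing.LambdaOps.lam i (q e - l)) l r (by simp [LambdaRing.LambdaOps.lam_zero])
      (LambdaRing.LambdaOps.lam_zero _) hstep
    rw [hroot0] at h
    exact (isUnit_one.neg.pow (r + 1)).mul_right_eq_zero.1 h.symm
  have hN : ∀ i : ℕ, r < i → LambdaRing.LambdaOps.lam i (q e - l) = 0 := by
    intro i hi
    induction i, hi using Nat.le_induction with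
    | base => exact hktop
    | succ i hi ih =>
      have h := hstep i
      rw [ih, zero_mul, add_zero, P.lam_eq_zero e he (i + 1) (by rw [hr]; omega), map_zero] at h
      exact h.symm
  have h1 : ∀ j : ℕ, 2 ≤ j → LambdaRing.LambdaOps.lam j (1 : AdjoinRoot (KRR.extPoly P e)) = 0 := LambdaSpLib.lam_one_arg Pe
  have hgv : ∀ j : ℕ, LambdaRing.gamma (j + 2) v = 0 := KRRRegLib.gamma_line_sub_one hroot h1
  let e' : K := e - ((r + 1 : ℕ) : K)
  have he' : P.aug e' = 0 := by simp [e', hr]
  have hvstep : ∀ i, LambdaRing.gamma (i + 1) (q e') =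
      LambdaRing.gamma (i + 1) (q e - l - (r : AdjoinRoot (KRR.extPoly P e))) +
        LambdaRing.gamma i (q e - l - (r : AdjoinRoot (KRR.extPoly P e))) * v := fun i => by
    rw [show q e' = (q e - l - (r : AdjoinRoot (KRR.extPoly P e))) + v by simp [e', v]; ring,
      LambdaSpLib.gamma_add, Finset.sum_range_succ, Finset.sum_range_succ, Nat.sub_self, LambdaSpLib.gamma_zero,
      show i + 1 - i = 1 by omega, LambdaSpLib.gamma_one, mul_one, Finset.sum_eq_zero fun a ha => by
        obtain ⟨c, hc⟩ : ∃ c, i + 1 - a = c + 2 := ⟨i + 1 - a - 2, by have := Finset.mem_range.1 ha; omega⟩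
        rw [hc, hgv, mul_zero]]
    ring
  have hvrel := KRRRegLib.root_relation (fun i => LambdaRing.gamma i (q e'))
    (fun i => LambdaRing.gamma i (q e - l - (r : AdjoinRoot (KRR.extPoly P e)))) v r (LambdaSpLib.gamma_zero _)
    (LambdaSpLib.gamma_zero _) hvstep (LambdaSpLib.gamma_sub_rank_eq_zero h1 hN (Nat.lt_succ_self r))
  rw [Finset.sum_range_succ'] at hvrel
  simp only [pow_zero, one_mul, LambdaSpLib.gamma_zero, Nat.sub_zero] at hvrel
  have hvtop : v ^ (r + 1) = - ∑ a ∈ Finset.range (r + 1),
      (-1) ^ (a + 1) * LambdaRing.gamma (a + 1) (q e') * v ^ (r + 1 - (a + 1)) := eq_neg_of_add_eq_zero_right hvrel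
  -- the right-hand side
  let T : ℕ → AddSubgroup (AdjoinRoot (KRR.extPoly P e)) := fun m => ⨆ i ∈ Finset.range (r + 1), AddSubgroup.map
        ((AddMonoidHom.mulRight (v ^ i)).comp q.toAddMonoidHom) (LambdaRing.gammaFiltration P (m - i))
  have hTgen : ∀ (j m : ℕ) (y : K), y ∈ LambdaRing.gammaFiltration P (m - j) → q y * v ^ j ∈ T m := by
    intro j
    induction j using Nat.strong_induction_on with
    | _ j ih =>
      intro m y hy
      rcases lt_or_ge j (r + 1) with hj | hj
      · exact AddSubgroup.mem_iSup_of_mem j (AddSubgroup.mem_iSup_of_mem (Finset.mem_range.2 hj)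
          (AddSubgroup.mem_map.2 ⟨y, hy, rfl⟩))
      · obtain ⟨c, rfl⟩ := Nat.exists_eq_add_of_le hj
        rw [pow_add, hvtop, neg_mul, mul_neg, Finset.sum_mul, Finset.mul_sum]
        refine neg_mem (sum_mem fun a ha => ?_)
        have ha' : a ≤ r := by have := Finset.mem_range.1 ha; omega
        rw [show q y * ((-1) ^ (a + 1) * LambdaRing.gamma (a + 1) (q e') * v ^ (r + 1 - (a + 1)) * v ^ c) =
          q ((-1) ^ (a + 1) * (y * LambdaRing.gamma (a + 1) e')) * v ^ (r + 1 - (a + 1) + c) by
            rw [map_mul, map_mul, map_pow, map_neg, map_one, LambdaSpLib.gamma_map (f := q) hql, pow_add]; ring]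
        exact ih _ (by omega) m _ (LambdaSpLib.gf_smul_mem P _ _ (LambdaSpLib.gf_anti P (by omega)
          (LambdaSpLib.gf_mul P hy (LambdaSpLib.gamma_mem_gf P he' (a + 1)))))
  have hl1 : l = 1 + v := by simp [v]
  have hlmem : ∀ j : ℕ, l ^ j ∈ KRRRegLib.sFil P q v 0 := by
    intro j
    induction j with
    | zero => rw [pow_zero]; exact KRRRegLib.one_mem_sFil P q v
    | succ j ih =>
      rw [pow_succ]
      refine KRRRegLib.sFil_mul P q v (m := 0) (m' := 0) ih ?_
      rw [hl1]
      exact add_mem (KRRRegLib.one_mem_sFil P q v)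
        (KRRRegLib.sFil_anti P q v (Nat.zero_le 1) (by simpa using KRRRegLib.pow_v_mem P q v 1))
  have hgen : ∀ z, z ∈ KRRRegLib.sFil P q v 0 := by
    intro z
    obtain ⟨p, rfl⟩ := AdjoinRoot.mk_surjective z
    induction p using Polynomial.induction_on' with
    | add a b ha hb => rw [map_add]; exact add_mem ha hb
    | monomial j a =>
      rw [← Polynomial.C_mul_X_pow_eq_monomial, map_mul, map_pow, AdjoinRoot.mk_C, AdjoinRoot.mk_X]
      exact KRRRegLib.sFil_mul P q v (m := 0) (m' := 0)
        (KRRRegLib.pull_mem P q v (by rw [LambdaSpLib.gf_zero]; trivial)) (hlmem j)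
  have hv1 : v ∈ KRRRegLib.sFil P q v 1 := by simpa using KRRRegLib.pow_v_mem P q v 1
  have hlk1 : ∀ j : ℕ, l ^ j - 1 ∈ KRRRegLib.sFil P q v 1 := by
    intro j
    induction j with
    | zero => simp
    | succ j ih =>
      rw [show l ^ (j + 1) - 1 = l * (l ^ j - 1) + v by simp only [v]; ring]
      exact add_mem (KRRRegLib.sFil_smul P q v hgen l ih) hv1
  let G := KRRRegLib.goodSub P q v hgen
  have hgood : ∀ z, z - ((Pe.aug z : ℤ) : AdjoinRoot (KRR.extPoly P e)) ∈ G := by
    intro z
    obtain ⟨p, rfl⟩ := AdjoinRoot.mk_surjective z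
    induction p using Polynomial.induction_on' with
    | add a b ha hb =>
      rw [map_add, map_add, Int.cast_add, add_sub_add_comm]
      exact add_mem ha hb
    | monomial j a =>
      rw [← Polynomial.C_mul_X_pow_eq_monomial, map_mul, map_pow, AdjoinRoot.mk_C, AdjoinRoot.mk_X]
      show q a * l ^ j - _ ∈ G
      rw [map_mul, hqa, map_pow, hla, one_pow, mul_one,
        show q a * l ^ j - ((P.aug a : ℤ) : AdjoinRoot (KRR.extPoly P e)) =
          q (a - (P.aug a : K)) * l ^ j + P.aug a • (l ^ j - 1) by
            rw [map_sub, map_intCast, zsmul_eq_mul]; ring]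
      have hlj : Pe.IsLine (l ^ j) := LambdaSpLib.line_pow hline j
      refine add_mem ?_ (zsmul_mem ?_ _)
      · refine KRRRegLib.good_mul_line P q v hgen hql (by simp) (fun i => ?_) ?_
        · rw [mul_comm]
          exact lam_mul_line Pe hsplit hlj _ i
        · rw [← neg_sub]; exact neg_mem (hlk1 j)
      · exact KRRRegLib.good_line_sub_one P q v hgen (LambdaSpLib.line_lam hlj) h1 (hlk1 j)
  refine le_antisymm (fun x hx => ?_) (iSup₂_le fun i hi => ?_)
  · have hS : x ∈ KRRRegLib.sFil P q v k := by
      rcases eq_or_ne k 0 with rfl | hk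
      · exact hgen x
      refine LambdaSpLib.gf_induction Pe hk (p := (· ∈ KRRRegLib.sFil P q v k)) (fun l hl hs => ?_)
        (zero_mem _) (fun _ _ => add_mem) (fun _ => neg_mem) hx
      refine KRRRegLib.sFil_anti P q v hs ?_
      clear hs
      induction l with
      | nil => exact hgen _
      | cons p l ih =>
        simp only [List.map_cons, List.prod_cons, List.sum_cons]
        have h0 := hl p (by simp)
        have := hgood p.2
        rw [h0, Int.cast_zero, sub_zero] at this
        exact KRRRegLib.sFil_mul P q v (this p.1) (ih fun b hb => hl b (by simp [hb]))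
    show x ∈ T k
    clear hx
    induction hS using AddSubgroup.closure_induction with
    | mem a ha => obtain ⟨j, y, hy, rfl⟩ := ha; exact hTgen j k y hy
    | zero => exact zero_mem _
    | add a b _ _ ha hb => exact add_mem ha hb
    | neg a _ ha => exact neg_mem ha
  · rintro _ ⟨y, hy, rfl⟩
    have hmap : ∀ (m : ℕ) (y : K), y ∈ LambdaRing.gammaFiltration P m → q y ∈ LambdaRing.gammaFiltration Pe m := by
      intro m y hy
      rcases eq_or_ne m 0 with rfl | hm
      · rw [LambdaSpLib.gf_zero]; trivial
      refine LambdaSpLib.gf_induction P hm (p := fun y => q y ∈ LambdaRing.gammaFiltration Pe m) (fun l hl hs => ?_)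
        (by simp) (fun a b ha hb => by rw [map_add]; exact add_mem ha hb) (fun a ha => by rw [map_neg]; exact neg_mem ha) hy
      rw [map_list_prod, List.map_map]
      refine LambdaSpLib.gf_anti Pe hs ?_
      clear hs hy
      induction l with
      | nil => simp [LambdaSpLib.gf_zero]
      | cons p l ih =>
        simp only [List.map_cons, List.prod_cons, List.sum_cons, Function.comp_apply]
        refine LambdaSpLib.gf_mul Pe ?_ (ih fun b hb => hl b (by simp [hb]))
        rw [LambdaSpLib.gamma_map (f := q) hql]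
        exact LambdaSpLib.gamma_mem_gf Pe (by rw [hqa]; exact hl p (by simp)) _
    show q y * v ^ i ∈ _
    exact LambdaSpLib.gf_anti Pe (by omega)
      (LambdaSpLib.gf_mul Pe (hmap _ y hy) (LambdaSpLib.gf_pow Pe (by simp [v, hla]) i))

end Groth.Agent.S3782
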