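import Groth.Statements.S3788
import Groth.Agent.KRRRegLib.Model
import Groth.Agent.KRRRegLib.Tele
import Groth.Agent.NefCurveLib.RankAdd
import Groth.Agent.VBResLib.GGen
import Groth.Agent.VBResLib.Hyp
import Groth.Agent.ProjBunLib.Filt

set_option autoImplicit false
universe v u
open CategoryTheory CategoryTheory.Limits AlgebraicGeometry
attribute [local instance] HasDerivedCategory.standard
open KRR
set_option maxHeartbeats 1000000
set_option linter.all false

namespace Groth.Agent.S3788

/-- The relation satisfied by the tautological class: let X be a connected Noetherian scheme, E finite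
locally free of rank r + 1, and (π : P ⟶ X, O(1), q) its projective bundle P(E) (universal property
for invertible quotients of pull-backs of E), P connected Noetherian. With models of K(X), K(P), g =
π^K, e = [E] and ℓ = [O(1)]: Σ_{i=0}^{r+1} (-1)^i π^K(λ^i e) ℓ^{r+1-i} = 0 in K(P). -/
theorem result (X P : Scheme.{u}) [IsNoetherian X] [ConnectedSpace ↥X] [IsNoetherian P] [ConnectedSpace ↥P]
    (r : ℕ) (E : X.Modules) (hE : FlatMod.IsFinLocFreeOfRank (r + 1) E)
    (π : P ⟶ X) (O1 : P.Modules) (q : (Scheme.Modules.pullback π).obj E ⟶ O1) (hPB : KRR.IsProjBundle π E O1 q)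
    (KX : Type v) [CommRing KX] [LambdaRing.LambdaOps KX] (PX : LambdaRing.PosStructure KX) (φX : SGA6.Kvb X →+ KX) (hKX : KRR.IsModel X KX PX φX)
    (KP : Type v) [CommRing KP] [LambdaRing.LambdaOps KP] (PP : LambdaRing.PosStructure KP) (φP : SGA6.Kvb P →+ KP) (hKP : KRR.IsModel P KP PP φP)
    (g : KX →+ KP) (hg : KRR.IsPull π φX φP g) :
    ∑ i ∈ Finset.range (r + 2), (-1 : KP) ^ i * g (LambdaRing.LambdaOps.lam i (φX (KRR.cl X E))) * φP (KRR.cl P O1) ^ (r + 1 - i) = 0 := by
  obtain ⟨p, hp, hpl, hpa⟩ := KRRRegLib.exists_pullHom π hKP hKX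
  have hgp : ∀ y, g y = p y := fun y => by
    refine KRRRegLib.model_induction hKX (motive := fun y => g y = p y) (fun E hE => ?_) (by simp)
      (fun a b ha hb => by rw [map_add, map_add, ha, hb]) (fun a ha => by rw [map_neg, map_neg, ha]) y
    exact (hg E hE).trans (hp E hE).symm
  have hvE : FlatMod.IsFinLocFree E := SeesawLib.isFinLocFree_of_rank hE
  have hpE := SeesawLib.isFinLocFreeOfRank_pullback π hE
  have hvpE : FlatMod.IsFinLocFree ((Scheme.Modules.pullback π).obj E) := SeesawLib.isFinLocFree_of_rank hpE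
  have hv1 : FlatMod.IsFinLocFree O1 := SeesawLib.isFinLocFree_of_rank hPB.invertible
  haveI := hPB.epi
  let S := ShortComplex.mk (kernel.ι q) q (kernel.condition q)
  have hS : S.ShortExact :=
    { exact := ShortComplex.exact_of_f_is_kernel S (kernelIsKernel q)
      mono_f := inferInstanceAs (Mono (kernel.ι q))
      epi_g := hPB.epi }
  have hK1 : FlatMod.IsFinLocFree (kernel q) := VBResLib.vb_of_pd_zero
    (VBResLib.isCoh_X₁ hS (LocSuppLib.isCoh_of_isFinLocFree hvpE) (LocSuppLib.isCoh_of_isFinLocFree hv1))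
    fun x => VBResLib.PdAt.ker hS (d := 0) (VBResLib.pdAt_of_vb hvpE x 0) (VBResLib.pdAt_of_vb hv1 x 0)
  obtain ⟨s, hs⟩ := VBResLib.exists_rank hK1
  obtain ⟨x₀⟩ := (inferInstance : Nonempty P)
  have hsr := NefCurveLib.rank_add hS hs hpE hPB.invertible x₀
  obtain rfl : s = r := by omega
  let k := φP (KRR.cl P (kernel q))
  let l := φP (KRR.cl P O1)
  have hl : PP.IsLine l := KRRRegLib.isLine_cl hKP hPB.invertible
  have he : g (φX (KRR.cl X E)) = k + l := by
    rw [hg E hvE, ← map_add]
    exact congrArg φP (Groth.Agent.KHeartLib.clSub_add (KRR.vbP P) S hS hK1 hvpE hv1)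
  have hk : LambdaRing.LambdaOps.lam (s + 1) k = 0 := by
    rcases Nat.eq_zero_or_pos s with rfl | hs0
    · have : k = 0 := by
        show φP _ = 0
        rw [show KRR.cl P (kernel q) = 0 from
          Groth.Agent.KHeartLib.clSub_eq_zero (KRR.vbP P) hK1 (ProjBunLib.isZero_of_rank_zero hs), map_zero]
      rw [this]
      exact LambdaSpLib.lam_zero_arg _ le_rfl
    · exact PP.lam_eq_zero k ((hKP.mem_pos_iff _).2 ⟨s, _, hs0, hs, rfl⟩) _ (by rw [hKP.aug_cl s _ hs]; omega)
  have hrel := KRRRegLib.root_relation (fun i => LambdaRing.LambdaOps.lam i (k + l))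
    (fun i => LambdaRing.LambdaOps.lam i k) l s (LambdaRing.LambdaOps.lam_zero _) (LambdaRing.LambdaOps.lam_zero _)
    (fun i => by rw [LambdaSpLib.lam_add_line (LambdaSpLib.line_lam hl) i k, mul_comm l]) hk
  refine Eq.trans (Finset.sum_congr rfl fun i _ => ?_) hrel
  rw [← he, hgp, hgp, hpl]

end Groth.Agent.S3788
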