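import Groth.Statements.S3203
import Groth.Agent.WedgeLib.FiltSheaf
import Groth.Agent.KHeartLib.Classes
import Groth.Agent.HilbPolyLib.Twist
import Groth.Agent.ProjFormLib.Proj
import Groth.Agent.PerfLib.Restrict
import Groth.Agent.GrTildeLib.IsoCrit

set_option autoImplicit false
universe u
open CategoryTheory CategoryTheory.Limits AlgebraicGeometry
attribute [local instance] HasDerivedCategory.standard
open SGA6

namespace Groth.Agent.S3203

set_option backward.isDefEq.respectTransparency false
set_option backward.isDefEq.respectTransparency.types false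
set_option maxHeartbeats 1000000
set_option linter.style.haveILetI false

open Opposite ZeroObject

noncomputable section

abbrev P (X : Scheme.{u}) : ObjectProperty X.Modules := fun M => FlatMod.IsFinLocFree M

theorem isFinLocFree_zero {X : Scheme.{u}} {Z : X.Modules} (hZ : IsZero Z) : FlatMod.IsFinLocFree Z :=
  CohCmpLib.isFinLocFree_of_frames fun x => ⟨⊤, 0, Fin.elim0, trivial, GrassSch.isFrame_of_bijective fun V _ =>
    ⟨fun a b _ => funext fun i => i.elim0, fun y => ⟨0, (map_zero _).trans (by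
      have h := congr($((IsZero.iff_id_eq_zero Z).1 hZ).app V.1 y)
      exact h.symm)⟩⟩⟩

theorem cl_congr {X : Scheme.{u}} {M N : X.Modules} (e : M ≅ N) :
    KZero.clSub (P X) M = KZero.clSub (P X) N := by
  haveI : (P X).IsClosedUnderIsomorphisms := ⟨fun e h => PerfLib.isFinLocFree_of_iso e h⟩
  haveI : (P X).ContainsZero := ⟨_, isZero_zero X.Modules, isFinLocFree_zero (isZero_zero _)⟩
  exact KHeartLib.clSub_congr (P X) e

theorem isFinLocFree_tens {X : Scheme.{u}} {A B : X.Modules} (hA : FlatMod.IsFinLocFree A)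
    (hB : FlatMod.IsFinLocFree B) : FlatMod.IsFinLocFree (((DCoh.tensorBi (X := X)).obj A).obj B) :=
  CohCmpLib.isFinLocFree_of_frames fun x => by
    obtain ⟨U, n, a, hx, ha⟩ := ProjFormLib.exists_frame hA x
    obtain ⟨U', k, b, hx', hb⟩ := ProjFormLib.exists_frame hB x
    exact ⟨U ⊓ U', _, _, ⟨hx, hx'⟩, WedgeLib.isFrame_shT (ha.res inf_le_left) (hb.res inf_le_right)⟩

/-- Exterior powers are unique. -/
theorem extPow_iso {X : Scheme.{u}} {k : ℕ} {E M N : X.Modules} (hM : ExtPow.IsExtPow k E M)
    (hN : ExtPow.IsExtPow k E N) : Nonempty (M ≅ N) := by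
  obtain ⟨φ, hφ⟩ := hM
  obtain ⟨ψ, hψ⟩ := hN
  let f : ∀ U : X.affineOpens, Γ(M, U.1) →ₗ[Γ(X, U.1)] Γ(N, U.1) := fun U => ((φ U).trans (ψ U).symm).toLinearMap
  obtain ⟨g, hg⟩ := WedgeLib.exists_hom_affine f fun U V h t => by
    let D : WedgeLib.ExtData k E M := ⟨φ, hφ⟩
    let D' : WedgeLib.ExtData k E N := ⟨ψ, hψ⟩
    have key : ∀ z, D.r h z = D'.r h z := fun z =>
      LinearMap.congr_fun (LinearMap.ext_on (exteriorPower.ιMulti_span _ k _) (by
        rintro _ ⟨v, rfl⟩
        rw [D.r_ιMulti, D'.r_ιMulti]) : D.r h = D'.r h) z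
    have h1 := D.φ_res h t
    show WedgeLib.rS N h ((ψ U).symm (φ U t)) = (ψ V).symm (φ V (WedgeLib.rS M h t))
    rw [show φ V (WedgeLib.rS M h t) = D.r h (φ U t) from h1, key]
    exact ((ψ V).symm_apply_apply _).symm
  haveI : IsIso g := GrTildeLib.isIso_of_bijective_basis g (fun U : X.affineOpens => U.1)
    (fun V x hx => by
      obtain ⟨A, hA, hxA, hle⟩ := exists_isAffineOpen_mem_and_subset (X := X) (x := x) (U := V) hx
      exact ⟨⟨A, hA⟩, hxA, hle⟩)
    fun U => by
      rw [show ⇑(g.app U.1) = ⇑(f U) from funext (hg U)]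
      exact ((φ U).trans (ψ U).symm).bijective
  exact ⟨asIso g⟩

theorem isExtPow_zero {X : Scheme.{u}} (E : X.Modules) : ExtPow.IsExtPow 0 E (Coh.structureModule X) := by
  let i : ∀ U : X.affineOpens, ((Coh.structureModule X).val.obj (op U.1)) ≃ₗ[Γ(X, U.1)] Γ(X, U.1) := fun U =>
    { toFun := fun r => r
      map_add' := fun _ _ => rfl
      map_smul' := fun _ _ => rfl
      invFun := fun r => r
      left_inv := fun _ => rfl
      right_inv := fun _ => rfl }
  refine ⟨fun U => (i U).trans (exteriorPower.zeroEquiv Γ(X, U.1) (E.val.obj (op U.1))).symm, fun U V h e => ?_⟩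
  rw [LinearEquiv.trans_symm, LinearEquiv.trans_symm, LinearEquiv.trans_apply, LinearEquiv.trans_apply,
    LinearEquiv.symm_symm, LinearEquiv.symm_symm, exteriorPower.zeroEquiv_ιMulti, exteriorPower.zeroEquiv_ιMulti]
  exact map_one (X.presheaf.map (homOfLE h).op).hom

theorem isExtPow_one {X : Scheme.{u}} (E : X.Modules) : ExtPow.IsExtPow 1 E E := by
  refine ⟨fun U => (exteriorPower.oneEquiv Γ(X, U.1) (E.val.obj (op U.1))).symm, fun U V h e => ?_⟩
  rw [LinearEquiv.symm_symm, LinearEquiv.symm_symm, exteriorPower.oneEquiv_ιMulti, exteriorPower.oneEquiv_ιMulti]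

/-- Let X be a scheme such that every finite locally free O_X-module has finite locally free exterior
powers (hypothesis hext, phrased with the affine-local predicate ExtPow.IsExtPow). Then K₀ of finite
locally free O_X-modules carries a biadditive, commutative, associative multiplication with unit
[O_X] such that [E]·[F] = [E ⊗ F], and operations λ^i with λ^i[E] = [Λ^i E], λ⁰ = [O_X], λ¹ = id and
λ^k(x + y) = Σ_{i+j=k} λ^i(x)·λ^j(y): it is a pre-λ-ring. (Such a structure is unique since the
classes of finite locally free modules generate. The identities of a special λ-ring are not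
asserted.) -/
theorem result (X : Scheme.{u})
    (hext : ∀ (i : ℕ) (E : X.Modules), FlatMod.IsFinLocFree E → ∃ L : X.Modules, FlatMod.IsFinLocFree L ∧ ExtPow.IsExtPow i E L) :
    ∃ (mul : SGA6.Kvb X →+ SGA6.Kvb X →+ SGA6.Kvb X) (lam : ℕ → SGA6.Kvb X → SGA6.Kvb X), SGA6.IsLambdaStructureVb X mul lam := by
  classical
  let cl : X.Modules → SGA6.Kvb X := KZero.clSub (P X)
  have hadd : ∀ S : ShortComplex X.Modules, S.ShortExact → P X S.X₁ → P X S.X₂ → P X S.X₃ →
      cl S.X₂ = cl S.X₁ + cl S.X₃ := KHeartLib.clSub_add (P X)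
  -- multiplication
  have hm : ∀ E : X.Modules, ∃ φ : SGA6.Kvb X →+ SGA6.Kvb X, ∀ F, P X F → P X E →
      φ (cl F) = cl (((DCoh.tensorBi (X := X)).obj E).obj F) := by
    intro E
    by_cases hE : P X E
    · obtain ⟨φ, hφ⟩ := KHeartLib.exists_lift_sub (P X) (fun F => cl (((DCoh.tensorBi (X := X)).obj E).obj F))
        fun S hS h1 h2 h3 => hadd _ (ProjFormLib.shortExact_tens hE hS) (isFinLocFree_tens hE h1)
          (isFinLocFree_tens hE h2) (isFinLocFree_tens hE h3)
      exact ⟨φ, fun F hF _ => hφ F hF⟩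
    · exact ⟨0, fun F _ h => absurd h hE⟩
  choose m hm using hm
  have hext' : ∀ {f g : SGA6.Kvb X →+ SGA6.Kvb X}, (∀ F, P X F → f (cl F) = g (cl F)) → f = g := fun h =>
    AddMonoidHom.eq_of_eqOn_dense (KHeartLib.clSub_closure_eq_top (P X)) (by rintro _ ⟨F, hF, rfl⟩; exact h F hF)
  have hswap : ∀ E F : X.Modules, cl (((DCoh.tensorBi (X := X)).obj E).obj F) =
      cl (((DCoh.tensorBi (X := X)).obj F).obj E) := fun E F => cl_congr (KFlatLib.tensSwap F E)
  obtain ⟨mul, hmul⟩ := KHeartLib.exists_lift_sub (P X) m fun S hS h1 h2 h3 => hext' fun F hF => by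
    rw [AddMonoidHom.add_apply, hm _ F hF h1, hm _ F hF h2, hm _ F hF h3, hswap S.X₁, hswap S.X₂, hswap S.X₃]
    exact hadd _ (ProjFormLib.shortExact_tens hF hS) (isFinLocFree_tens hF h1) (isFinLocFree_tens hF h2)
      (isFinLocFree_tens hF h3)
  have hmulcl : ∀ E F, P X E → P X F → mul (cl E) (cl F) = cl (((DCoh.tensorBi (X := X)).obj E).obj F) :=
    fun E F hE hF => by rw [hmul E hE, hm E F hF hE]
  have hO : P X (Coh.structureModule X) := by
    obtain ⟨L₀, hL₀, hL₀'⟩ := hext 0 0 (isFinLocFree_zero (isZero_zero _))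
    obtain ⟨e⟩ := extPow_iso hL₀' (isExtPow_zero _)
    exact PerfLib.isFinLocFree_of_iso e hL₀
  have hcomm : ∀ x y, mul x y = mul y x := fun x y => by
    have h : mul = mul.flip := AddMonoidHom.eq_of_eqOn_dense (KHeartLib.clSub_closure_eq_top (P X)) (by
      rintro _ ⟨E, hE, rfl⟩
      exact hext' fun F hF => by rw [AddMonoidHom.flip_apply, hmulcl E F hE hF, hmulcl F E hF hE, hswap])
    exact congr($h x y)
  have hassoc : ∀ x y z, mul (mul x y) z = mul x (mul y z) := by
    intro x y z
    have hE : ∀ E, P X E → ∀ F, P X F → ∀ w, mul (mul (cl E) (cl F)) w = mul (cl E) (mul (cl F) w) :=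
      fun E hE F hF w => congr($(hext' (f := mul (mul (cl E) (cl F))) (g := (mul (cl E)).comp (mul (cl F)))
        fun G hG => by
          rw [AddMonoidHom.comp_apply, hmulcl E F hE hF, hmulcl F G hF hG,
            hmulcl _ G (isFinLocFree_tens hE hF) hG, hmulcl E _ hE (isFinLocFree_tens hF hG)]
          exact cl_congr (HilbPolyLib.assocIso E F G)) w)
    refine congr($(hext' (f := (mul.flip z).comp (mul.flip y)) (g := mul.flip (mul y z)) fun E hE' => ?_) x)
    show mul (mul (cl E) y) z = mul (cl E) (mul y z)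
    exact congr($(hext' (f := (mul.flip z).comp (mul (cl E))) (g := (mul (cl E)).comp (mul.flip z))
      fun F hF => hE E hE' F hF z) y)
  have hone : ∀ x, mul (cl (Coh.structureModule X)) x = x := fun x =>
    congr($(hext' (f := mul (cl (Coh.structureModule X))) (g := AddMonoidHom.id _) fun F hF => by
      rw [hmulcl _ F hO hF, AddMonoidHom.id_apply]
      exact cl_congr (KFlatLib.tensUnitIso F)) x)
  letI : CommRing (SGA6.Kvb X) :=
    { (inferInstance : AddCommGroup (SGA6.Kvb X)) with
      mul := fun a b => mul a b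
      one := cl (Coh.structureModule X)
      mul_assoc := hassoc
      mul_comm := hcomm
      one_mul := hone
      mul_one := fun a => (hcomm a _).trans (hone a)
      left_distrib := fun a b c => map_add (mul a) b c
      right_distrib := fun a b c => by
        show mul (a + b) c = mul a c + mul b c
        rw [map_add, AddMonoidHom.add_apply]
      zero_mul := fun a => by
        show mul 0 a = 0
        rw [map_zero, AddMonoidHom.zero_apply]
      mul_zero := fun a => map_zero (mul a) }
  -- exterior powers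
  choose Lam hLam hLam' using hext
  let lamE : X.Modules → ℕ → SGA6.Kvb X := fun E i => if hE : P X E then cl (Lam i E hE) else 0
  have hlamE : ∀ i E L, P X E → ExtPow.IsExtPow i E L → lamE E i = cl L := fun i E L hE hL => by
    simp only [lamE, dif_pos hE]
    obtain ⟨e⟩ := extPow_iso (hLam' i E hE) hL
    exact cl_congr e
  let G : Subgroup (PowerSeries (SGA6.Kvb X))ˣ :=
    (Units.map (PowerSeries.constantCoeff (R := SGA6.Kvb X)).toMonoidHom).ker
  have hG : ∀ E, ∃ g : G, P X E → ∀ i, PowerSeries.coeff i ((g : (PowerSeries (SGA6.Kvb X))ˣ) :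
      PowerSeries (SGA6.Kvb X)) = lamE E i := by
    intro E
    by_cases hE : P X E
    · let p : PowerSeries (SGA6.Kvb X) := PowerSeries.mk (lamE E)
      have h0 : PowerSeries.constantCoeff p = 1 := by
        rw [← PowerSeries.coeff_zero_eq_constantCoeff_apply, PowerSeries.coeff_mk]
        exact hlamE 0 E _ hE (isExtPow_zero E)
      obtain ⟨w, hw⟩ : IsUnit p := PowerSeries.isUnit_iff_constantCoeff.2 (h0 ▸ isUnit_one)
      refine ⟨⟨w, Units.ext (show PowerSeries.constantCoeff (w : PowerSeries (SGA6.Kvb X)) = 1 by rw [hw, h0])⟩,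
        fun _ i => ?_⟩
      show PowerSeries.coeff i (w : PowerSeries (SGA6.Kvb X)) = _
      rw [hw, PowerSeries.coeff_mk]
    · exact ⟨1, fun h => absurd h hE⟩
  choose g hg using hG
  obtain ⟨Φ, hΦ⟩ := KHeartLib.exists_lift_sub (M := Additive G) (P X) (fun E => Additive.ofMul (g E))
    fun S hS h1 h2 h3 => Additive.toMul.injective (Subtype.ext (Units.ext (PowerSeries.ext fun k => by
      rw [toMul_ofMul, toMul_add, toMul_ofMul, toMul_ofMul, Subgroup.coe_mul, Units.val_mul,
        PowerSeries.coeff_mul, hg _ h2, Finset.Nat.sum_antidiagonal_eq_sum_range_succ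
          (fun a b => PowerSeries.coeff a ((g S.X₁ : (PowerSeries (SGA6.Kvb X))ˣ) : PowerSeries (SGA6.Kvb X)) *
            PowerSeries.coeff b ((g S.X₃ : (PowerSeries (SGA6.Kvb X))ˣ) : PowerSeries (SGA6.Kvb X))) k]
      simp only [lamE, dif_pos h2]
      refine (WedgeLib.clSub_extPow (L' := fun i => Lam i S.X₁ h1) (L := fun i => Lam i S.X₂ h2)
        (L'' := fun i => Lam i S.X₃ h3) k
        (fun i => ⟨(hLam' i S.X₁ h1).choose, (hLam' i S.X₁ h1).choose_spec⟩)
        (fun i => ⟨(hLam' i S.X₂ h2).choose, (hLam' i S.X₂ h2).choose_spec⟩)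
        (fun i => ⟨(hLam' i S.X₃ h3).choose, (hLam' i S.X₃ h3).choose_spec⟩)
        hS h1 h3 (fun i => hLam i S.X₁ h1) (fun i => hLam i S.X₃ h3)).trans (Finset.sum_congr rfl fun j _ => ?_)
      rw [hg _ h1, hg _ h3]
      simp only [lamE, dif_pos h1, dif_pos h3]
      exact (hmulcl _ _ (hLam j S.X₁ h1) (hLam (k - j) S.X₃ h3)).symm)))
  let ser : SGA6.Kvb X → PowerSeries (SGA6.Kvb X) := fun x =>
    ((Additive.toMul (Φ x) : G) : (PowerSeries (SGA6.Kvb X))ˣ)
  have hser_add : ∀ x y, ser (x + y) = ser x * ser y := fun x y => by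
    simp only [ser, map_add, toMul_add, Subgroup.coe_mul, Units.val_mul]
  have hser0 : ∀ x, PowerSeries.coeff 0 (ser x) = 1 := fun x => by
    rw [PowerSeries.coeff_zero_eq_constantCoeff_apply]
    exact congrArg Units.val (Additive.toMul (Φ x) : G).2
  have hser : ∀ E, P X E → ∀ i, PowerSeries.coeff i (ser (cl E)) = lamE E i := fun E hE i => by
    simp only [ser, show Φ (cl E) = _ from hΦ E hE, toMul_ofMul]
    exact hg E hE i
  refine ⟨mul, fun i x => PowerSeries.coeff i (ser x), hcomm, hassoc, hone, hmulcl,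
    fun i E L hE hL => (hser E hE i).trans (hlamE i E L hE hL), hser0, fun x => ?_, fun k x y => ?_⟩
  · let c1 : SGA6.Kvb X →+ SGA6.Kvb X := AddMonoidHom.mk' (fun x => PowerSeries.coeff 1 (ser x)) fun a b => by
      rw [hser_add, PowerSeries.coeff_one_mul, ← PowerSeries.coeff_zero_eq_constantCoeff_apply,
        ← PowerSeries.coeff_zero_eq_constantCoeff_apply, hser0, hser0, mul_one, mul_one]
      try abel
    exact congr($(hext' (f := c1) (g := AddMonoidHom.id _) fun F hF => by
      show PowerSeries.coeff 1 (ser (cl F)) = cl F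
      rw [hser F hF, hlamE 1 F F hF (isExtPow_one F)]) x)
  · show PowerSeries.coeff k (ser (x + y)) = _
    rw [hser_add, PowerSeries.coeff_mul,
      Finset.Nat.sum_antidiagonal_eq_sum_range_succ (fun a b => PowerSeries.coeff a (ser x) * PowerSeries.coeff b (ser y)) k]
    rfl

end

end Groth.Agent.S3203
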