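import Groth.Statements.S3796
import Groth.Agent.S3203
import Groth.Agent.ExtPowLib.Sheaf
import Groth.Agent.VBResLib.GGen
import Groth.Agent.NefCurveLib.RankAdd
import Groth.Agent.ProjBunLib.Filt
import Groth.Agent.HopfIneqLib.Sections
import Groth.Agent.MiscFlat6.InvDual
import Groth.Agent.PerfLib.Strict
import Groth.Agent.CohCmpLib.LineBundle
import Groth.Agent.SeesawLib.Pulled
import Groth.Agent.KHeartLib.Classes

set_option autoImplicit false
universe v u
open CategoryTheory CategoryTheory.Limits AlgebraicGeometry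
attribute [local instance] HasDerivedCategory.standard
open KRR
open scoped ZeroObject
set_option linter.all false
set_option maxHeartbeats 1000000

namespace Groth.Agent.S3796

/-- For a connected (nonempty) Noetherian scheme X, K(X) = K₀ of finite locally free O_X-modules is a
λ-ring with positive structure: there are a commutative ring K with λ-operations and a positive
structure P, and an additive bijection φ : K₀ ⟶ K, such that [O_X] ↦ 1, [E][F] = [E ⊗ F], λ^i[E] =
[Λ^i E], ε = rank and the positive elements are the classes of bundles of constant rank ≥ 1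
(KRR.IsModel). -/
theorem result (X : Scheme.{u}) [IsNoetherian X] [ConnectedSpace ↥X] :
    ∃ (K : Type (u + 1)) (_ : CommRing K) (_ : LambdaRing.LambdaOps K) (P : LambdaRing.PosStructure K)
      (φ : SGA6.Kvb X →+ K), KRR.IsModel X K P φ := by
  classical
  haveI : (KRR.vbP X).IsClosedUnderIsomorphisms := ⟨fun e h => Groth.Agent.PerfLib.isFinLocFree_of_iso e h⟩
  haveI : (KRR.vbP X).ContainsZero := ⟨⟨0, isZero_zero _, VBResLib.vb_of_isZero (isZero_zero _)⟩⟩
  obtain ⟨mul, lam, hcomm, hassoc, hone, hmul, hlam, hlam0, hlam1, hladd⟩ :=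
    Groth.Agent.S3203.result X fun i E hE => ExtPowLib.exists_isExtPow_vb hE i
  let cl : X.Modules → SGA6.Kvb X := KRR.cl X
  let oneK : SGA6.Kvb X := cl (Coh.structureModule X)
  have hone' : ∀ x, mul x oneK = x := fun x => (hcomm x oneK).trans (hone x)
  letI ringK : CommRing (SGA6.Kvb X) :=
    { (inferInstance : AddCommGroup (SGA6.Kvb X)) with
      mul := fun a b => mul a b
      one := oneK
      mul_assoc := hassoc
      mul_comm := hcomm
      one_mul := hone
      mul_one := hone'
      zero_mul := fun a => show mul 0 a = 0 by rw [map_zero, AddMonoidHom.zero_apply]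
      mul_zero := fun a => show mul a 0 = 0 from map_zero _
      left_distrib := fun a b c => show mul a (b + c) = mul a b + mul a c from map_add _ _ _
      right_distrib := fun a b c => show mul (a + b) c = mul a c + mul b c by rw [map_add, AddMonoidHom.add_apply] }
  letI opsK : LambdaRing.LambdaOps (SGA6.Kvb X) :=
    { lam := lam, lam_zero := hlam0, lam_one := hlam1, lam_add := hladd }
  have hvb : ∀ {n : ℕ} {E : X.Modules}, FlatMod.IsFinLocFreeOfRank n E → FlatMod.IsFinLocFree E := fun h =>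
    SeesawLib.isFinLocFree_of_rank h
  obtain ⟨x₀⟩ := (inferInstance : Nonempty X)
  have huniq : ∀ {n m : ℕ} {E : X.Modules}, FlatMod.IsFinLocFreeOfRank n E → FlatMod.IsFinLocFreeOfRank m E → n = m :=
    fun h h' => SeesawLib.rankSet_unique (SeesawLib.rankSet_of_rank h x₀) (SeesawLib.rankSet_of_rank h' x₀)
  let rk : X.Modules → ℤ := fun E => if h : FlatMod.IsFinLocFree E then ((VBResLib.exists_rank h).choose : ℤ) else 0
  have hrk : ∀ {n : ℕ} {E : X.Modules}, FlatMod.IsFinLocFreeOfRank n E → rk E = n := fun {n E} h => by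
    simp only [rk, dif_pos (hvb h)]
    exact_mod_cast huniq (VBResLib.exists_rank (hvb h)).choose_spec h
  obtain ⟨aug₀, haug₀⟩ := Groth.Agent.KHeartLib.exists_lift_sub (KRR.vbP X) rk fun S hS h₁ h₂ h₃ => by
    obtain ⟨a, ha⟩ := VBResLib.exists_rank h₁
    obtain ⟨b, hb⟩ := VBResLib.exists_rank h₂
    obtain ⟨c, hc⟩ := VBResLib.exists_rank h₃
    rw [hrk ha, hrk hb, hrk hc, NefCurveLib.rank_add hS ha hb hc x₀]
    push_cast
    rfl
  have hO : FlatMod.IsFinLocFreeOfRank 1 (Coh.structureModule X) := CohCmpLib.rank_one_structureModule X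
  have hind : ∀ {motive : SGA6.Kvb X → Prop}, (∀ (n : ℕ) (E : X.Modules), FlatMod.IsFinLocFreeOfRank n E → motive (cl E)) →
      motive 0 → (∀ a b, motive a → motive b → motive (a + b)) → (∀ a, motive a → motive (-a)) → ∀ x, motive x := by
    intro motive hmem h0 hadd hneg x
    have hx : x ∈ AddSubgroup.closure {z | ∃ E, KRR.vbP X E ∧ KZero.clSub (KRR.vbP X) E = z} :=
      (Groth.Agent.KHeartLib.clSub_closure_eq_top (KRR.vbP X)).symm ▸ AddSubgroup.mem_top x
    induction hx using AddSubgroup.closure_induction with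
    | mem a ha =>
      obtain ⟨E, hE, rfl⟩ := ha
      obtain ⟨n, hn⟩ := VBResLib.exists_rank hE
      exact hmem n E hn
    | zero => exact h0
    | add a b _ _ ha hb => exact hadd a b ha hb
    | neg a _ ha => exact hneg a ha
  have hclmul : ∀ {a b : ℕ} {A B : X.Modules}, FlatMod.IsFinLocFreeOfRank a A → FlatMod.IsFinLocFreeOfRank b B →
      cl A * cl B = cl (CohB1.tensorMod A B) := fun hA hB => hmul _ _ (hvb hA) (hvb hB)
  have haug1 : aug₀ 1 = 1 := by
    show aug₀ (cl (Coh.structureModule X)) = 1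
    rw [haug₀ _ (hvb hO), hrk hO]; rfl
  have haugmul : ∀ a b, aug₀ (a * b) = aug₀ a * aug₀ b := by
    intro a b
    refine hind (motive := fun a => aug₀ (a * b) = aug₀ a * aug₀ b) (fun n E hE => ?_) (by simp)
      (fun c d hc hd => by rw [add_mul, map_add, map_add, hc, hd, add_mul])
      (fun c hc => by rw [neg_mul, map_neg, map_neg, hc, neg_mul]) a
    refine hind (motive := fun b => aug₀ (cl E * b) = aug₀ (cl E) * aug₀ b) (fun m F hF => ?_) (by simp)
      (fun c d hc hd => by rw [mul_add, map_add, map_add, hc, hd, mul_add])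
      (fun c hc => by rw [mul_neg, map_neg, map_neg, hc, mul_neg]) b
    rw [hclmul hE hF, haug₀ _ (hvb (HopfIneqLib.locFree_tensor hE hF)), hrk (HopfIneqLib.locFree_tensor hE hF),
      haug₀ _ (hvb hE), hrk hE, haug₀ _ (hvb hF), hrk hF]
    push_cast
    rfl
  let aug : SGA6.Kvb X →+* ℤ := { aug₀ with map_one' := haug1, map_mul' := haugmul }
  have haug : ∀ {n : ℕ} {E : X.Modules}, FlatMod.IsFinLocFreeOfRank n E → aug (cl E) = n := fun h =>
    (haug₀ _ (hvb h)).trans (hrk h)
  have hbip : ∀ {a b : ℕ} {A B : X.Modules}, FlatMod.IsFinLocFreeOfRank a A → FlatMod.IsFinLocFreeOfRank b B →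
      FlatMod.IsFinLocFreeOfRank (a + b) (A ⊞ B) ∧ cl (A ⊞ B) = cl A + cl B := by
    intro a b A B hA hB
    have hAB : FlatMod.IsFinLocFree (A ⊞ B) := Groth.Agent.PerfLib.isFinLocFree_biprod (hvb hA) (hvb hB)
    obtain ⟨c, hc⟩ := VBResLib.exists_rank hAB
    let S := ShortComplex.mk (biprod.inl : A ⟶ A ⊞ B) (biprod.snd : A ⊞ B ⟶ B) (by simp)
    have hS : S.ShortExact := (ShortComplex.Splitting.ofHasBinaryBiproduct A B).shortExact
    have h := NefCurveLib.rank_add (S := S) hS hA hc hB x₀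
    refine ⟨h ▸ hc, ?_⟩
    exact Groth.Agent.KHeartLib.clSub_add (KRR.vbP X) S hS (hvb hA) hAB (hvb hB)
  let pos : Set (SGA6.Kvb X) := {x | ∃ (n : ℕ) (E : X.Modules), 1 ≤ n ∧ FlatMod.IsFinLocFreeOfRank n E ∧ cl E = x}
  have one_pos' : (1 : SGA6.Kvb X) ∈ pos := ⟨1, _, le_rfl, hO, rfl⟩
  have addpos : ∀ e f, e ∈ pos → f ∈ pos → e + f ∈ pos := by
    rintro _ _ ⟨a, A, ha, hA, rfl⟩ ⟨b, B, _, hB, rfl⟩
    exact ⟨a + b, A ⊞ B, by omega, (hbip hA hB).1, (hbip hA hB).2⟩
  have mulpos : ∀ e f, e ∈ pos → f ∈ pos → e * f ∈ pos := by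
    rintro _ _ ⟨a, A, ha, hA, rfl⟩ ⟨b, B, hb, hB, rfl⟩
    exact ⟨a * b, CohB1.tensorMod A B, Nat.mul_pos ha hb, HopfIneqLib.locFree_tensor hA hB, (hclmul hA hB).symm⟩
  have natpos : ∀ n : ℕ, 0 < n → (n : SGA6.Kvb X) ∈ pos := by
    intro n hn
    induction n, hn using Nat.le_induction with
    | base => simpa using one_pos'
    | succ k _ ih => push_cast; exact addpos _ _ ih one_pos'
  have hsub : ∀ x : SGA6.Kvb X, ∃ e f, e ∈ pos ∧ f ∈ pos ∧ x = e - f := by
    refine hind (fun n E hE => ?_) ⟨1, 1, one_pos', one_pos', by ring⟩ ?_ ?_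
    · exact ⟨cl (E ⊞ Coh.structureModule X), 1, ⟨n + 1, _, by omega, (hbip hE hO).1, rfl⟩, one_pos',
        by rw [(hbip hE hO).2]; exact (add_sub_cancel_right _ _).symm⟩
    · rintro a b ⟨e, f, he, hf, rfl⟩ ⟨e', f', he', hf', rfl⟩
      exact ⟨e + e', f + f', addpos _ _ he he', addpos _ _ hf hf', by ring⟩
    · rintro a ⟨e, f, he, hf, rfl⟩
      exact ⟨f, e, hf, he, by ring⟩
  have hlamcl : ∀ {n : ℕ} {E : X.Modules}, FlatMod.IsFinLocFreeOfRank n E → ∀ i : ℕ,
      ∃ L : X.Modules, FlatMod.IsFinLocFreeOfRank (n.choose i) L ∧ lam i (cl E) = cl L := by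
    intro n E hE i
    obtain ⟨L, _, hLx⟩ := ExtPowLib.exists_isExtPow_vb (hvb hE) i
    exact ⟨L, GrassSch.rank_extPow hE hLx, hlam i E L (hvb hE) hLx⟩
  let P : LambdaRing.PosStructure (SGA6.Kvb X) :=
    { aug := aug
      aug_surjective := fun z => ⟨(z : SGA6.Kvb X), by simp⟩
      pos := pos
      add_mem := addpos
      mul_mem := mulpos
      natCast_mem := natpos
      exists_sub := hsub
      aug_pos := by
        rintro _ ⟨n, E, hn, hE, rfl⟩
        rw [haug hE]
        exact_mod_cast hn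
      lam_eq_zero := by
        rintro _ ⟨n, E, hn, hE, rfl⟩ i hi
        rw [haug hE] at hi
        obtain ⟨L, hL, e⟩ := hlamcl hE i
        rw [Nat.choose_eq_zero_of_lt (by exact_mod_cast hi)] at hL
        show lam i (cl E) = 0
        rw [e]
        exact Groth.Agent.KHeartLib.clSub_eq_zero (KRR.vbP X) (hvb hL) (ProjBunLib.isZero_of_rank_zero hL)
      isUnit_lam := by
        rintro _ ⟨n, E, hn, hE, rfl⟩
        obtain ⟨L, hL, e⟩ := hlamcl hE n
        rw [Nat.choose_self] at hL
        have hinv := (CohCmpLib.invertible_iff_rank_one L).2 hL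
        have hD := (CohCmpLib.invertible_iff_rank_one _).1 (MiscFlat6.dual_isInvertible hinv)
        rw [haug hE, Int.toNat_natCast]
        show IsUnit (lam n (cl E))
        rw [e]
        refine IsUnit.of_mul_eq_one (cl (MiscFlat6.dual L)) ?_
        rw [hclmul hL hD]
        exact Groth.Agent.KHeartLib.clSub_congr (KRR.vbP X) (MiscFlat6.nonempty_dualIso hinv).some }
  exact ⟨SGA6.Kvb X, ringK, opsK, P, AddMonoidHom.id _, Function.bijective_id, rfl, fun A B hA hB => hmul A B hA hB,
    fun i E L hE _ hL => hlam i E L hE hL, fun n E hE => haug hE, fun x => Iff.rfl⟩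

end Groth.Agent.S3796
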