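import Groth.Statements.S2081
import Mathlib
import Groth.Agent.S2080
import Groth.Agent.FFDescLib.Closure
import Groth.Agent.EtLocLib.ClosedImmLocus

set_option autoImplicit false
universe u
open CategoryTheory AlgebraicGeometry
open Mor

namespace Groth.Agent.S2081

open CategoryTheory CategoryTheory.Limits AlgebraicGeometry TopologicalSpace

theorem mem_components_of_forall_specializes {α : Type u} [TopologicalSpace α] [QuasiSober α] {η : α}
    (h : ∀ z, z ⤳ η → z = η) : closure {η} ∈ irreducibleComponents α := by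
  refine ⟨isIrreducible_singleton.closure, fun C hC hηC => ?_⟩
  have hg := hC.closure.isGenericPoint_genericPoint isClosed_closure
  have hη : η ∈ closure C := subset_closure (hηC (subset_closure rfl))
  have := h _ (hg.specializes hη)
  rw [← this, hg.def]
  exact subset_closure

theorem eq_of_specializes_generic {α : Type u} [TopologicalSpace α] [T0Space α] {η z : α}
    (hη : closure {η} ∈ irreducibleComponents α) (h : z ⤳ η) : z = η := by
  have h1 := hη.2 isIrreducible_singleton.closure (specializes_iff_closure_subset.1 h)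
  exact (h.antisymm (specializes_iff_closure_subset.2 h1)).eq

theorem exists_finite_nhd {X Y : Scheme.{u}} (f : X ⟶ Y) [LocallyOfFiniteType f] [QuasiCompact f]
    (hX : (irreducibleComponents (X : Type u)).Finite)
    (η : Y) (hη : closure {η} ∈ irreducibleComponents (Y : Type u))
    (hfib : ∀ x : X, f x = η → closure {x} ∈ irreducibleComponents (X : Type u)) :
    ∃ V : Y.Opens, η ∈ V ∧ IsFinite (f ∣_ V) := by
  classical
  obtain ⟨_, ⟨W : Y.Opens, hW, rfl⟩, hηW, -⟩ :=
    Y.isBasis_affineOpens.exists_subset_of_mem_open (Set.mem_univ η) isOpen_univ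
  have hW : IsAffineOpen W := hW
  let F := {x : X // f x = η}
  haveI : Finite (irreducibleComponents (X : Type u)) := hX.to_subtype
  haveI : Finite F := Finite.of_injective
    (fun x : F => (⟨closure {x.1}, hfib x.1 x.2⟩ : irreducibleComponents (X : Type u)))
    (fun x y h => Subtype.ext ((inseparable_iff_closure_eq.mpr (congrArg Subtype.val h)).eq))
  have hU : ∀ x : F, ∃ U : X.Opens, IsAffineOpen U ∧ x.1 ∈ U ∧ U ≤ f ⁻¹ᵁ W ∧
      ∀ C ∈ irreducibleComponents (X : Type u), C ≠ closure {x.1} → ∀ z ∈ U, z ∉ C := by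
    intro x
    let T : Set X := ⋃₀ {C ∈ irreducibleComponents (X : Type u) | C ≠ closure {x.1}}
    have hT : IsClosed T := by
      rw [show T = ⋃₀ {C ∈ irreducibleComponents (X : Type u) | C ≠ closure {x.1}} from rfl, Set.sUnion_eq_biUnion]
      exact (hX.subset fun C hC => hC.1).isClosed_biUnion fun C hC => isClosed_of_mem_irreducibleComponents C hC.1
    have hxT : x.1 ∉ T := by
      rintro ⟨C, ⟨hC, hne⟩, hxC⟩
      have h1 : closure {x.1} ⊆ C :=
        closure_minimal (Set.singleton_subset_iff.mpr hxC) (isClosed_of_mem_irreducibleComponents C hC)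
      exact hne (Set.Subset.antisymm ((hfib x.1 x.2).2 hC.1 h1) h1)
    obtain ⟨U, hU, hxU, hUle⟩ := exists_isAffineOpen_mem_and_subset (X := X) (x := x.1)
      (U := f ⁻¹ᵁ W ⊓ ⟨Tᶜ, hT.isOpen_compl⟩) ⟨by change f x.1 ∈ W; rw [x.2]; exact hηW, hxT⟩
    exact ⟨U, hU, hxU, fun z hz => (hUle hz).1, fun C hC hne z hz hzC => (hUle hz).2 ⟨C, ⟨hC, hne⟩, hzC⟩⟩
  choose U hUaff hxU hUW hUcomp using hU
  let O : X.Opens := ⨆ x, U x
  have hO : IsAffineOpen O := IsAffineOpen.iSup_of_disjoint hUaff fun x y hxy => by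
    change Disjoint (U x) (U y)
    rw [disjoint_iff, eq_bot_iff]
    rintro z ⟨hzx, hzy⟩
    exfalso
    apply hxy
    obtain ⟨C, hC, hzC⟩ : ∃ C ∈ irreducibleComponents (X : Type u), z ∈ C :=
      ⟨irreducibleComponent z, irreducibleComponent_mem_irreducibleComponents z, mem_irreducibleComponent⟩
    have h1 : C = closure {x.1} := by_contra fun h => hUcomp x C hC h z hzx hzC
    have h2 : C = closure {y.1} := by_contra fun h => hUcomp y C hC h z hzy hzC
    exact Subtype.ext (inseparable_iff_closure_eq.mpr (h1.symm.trans h2)).eq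
  have hOW : O ≤ f ⁻¹ᵁ W := iSup_le hUW
  haveI : IsAffine (O : Scheme.{u}) := hO
  haveI : IsAffine (W : Scheme.{u}) := hW
  let g : (O : Scheme.{u}) ⟶ W := f.resLE W O hOW
  haveI : LocallyOfFiniteType (g ≫ W.ι) := by rw [Scheme.Hom.resLE_comp_ι]; infer_instance
  haveI : LocallyOfFiniteType g := locallyOfFiniteType_of_comp g W.ι
  let η₀ : (W : Scheme.{u}) := ⟨η, hηW⟩
  have hη₀ : closure {η₀} ∈ irreducibleComponents (W : Type u) :=
    mem_components_of_forall_specializes fun z hz =>
      Subtype.ext (eq_of_specializes_generic hη ((subtype_specializes_iff _ _).mp hz))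
  have hgf : (g.base ⁻¹' {η₀}).Finite := by
    refine Set.Finite.subset ((Set.finite_range (fun x : F => x.1)).preimage O.ι.isOpenEmbedding.injective.injOn) ?_
    intro z hz
    refine ⟨⟨z.1, ?_⟩, rfl⟩
    have := congrArg (fun m : (O : Scheme.{u}) ⟶ Y => m z) (Scheme.Hom.resLE_comp_ι f hOW)
    change W.ι (g z) = f z.1 at this
    rw [← this, show g z = η₀ from hz]
    rfl
  obtain ⟨V₁, -, hηV₁, hfin⟩ := (Groth.Agent.S2080.result g η₀ hη₀).mp hgf
  let B : Set Y := closure (f '' (O : Set X)ᶜ)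
  have hηB : η ∉ B := fun h => by
    obtain ⟨x, hx, hxη⟩ := FFDescLib.exists_specializes_of_mem_closure_image f O.2.isClosed_compl h
    have hfx : f x = η := eq_of_specializes_generic hη hxη
    exact hx (TopologicalSpace.Opens.mem_iSup.mpr ⟨⟨x, hfx⟩, hxU ⟨x, hfx⟩⟩)
  let V : Y.Opens := (W.ι ''ᵁ V₁) ⊓ ⟨Bᶜ, isClosed_closure.isOpen_compl⟩
  have hVW : V ≤ W := inf_le_left.trans (W.ι_image_le V₁)
  refine ⟨V, ⟨⟨η₀, hηV₁, rfl⟩, hηB⟩, ?_⟩
  have hsub : f ⁻¹ᵁ V ≤ O := fun x hx => by_contra fun h => hx.2 (subset_closure ⟨x, h, rfl⟩)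
  let a : ((f ⁻¹ᵁ V : X.Opens) : Scheme.{u}) ⟶ O := X.homOfLE hsub
  let c : (V : Scheme.{u}) ⟶ W := Y.homOfLE hVW
  have w : a ≫ g = (f ∣_ V) ≫ c := by
    rw [← cancel_mono W.ι]
    simp only [a, c, g, Category.assoc, Scheme.homOfLE_ι, Scheme.Hom.resLE_comp_ι, morphismRestrict_ι,
      Scheme.homOfLE_ι_assoc]
  have ha : a ≫ O.ι = (f ⁻¹ᵁ V).ι := X.homOfLE_ι hsub
  have hP : IsPullback a (f ∣_ V) g c := by
    refine ⟨⟨w⟩, ⟨PullbackCone.IsLimit.mk w
      (fun s => (isPullback_morphismRestrict f V).lift s.snd (s.fst ≫ O.ι) ?_) (fun s => ?_) (fun s => ?_)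
      (fun s m h1 h2 => ?_)⟩⟩
    · have h := s.condition =≫ W.ι
      simp only [g, c, Category.assoc, Scheme.Hom.resLE_comp_ι, Scheme.homOfLE_ι] at h
      exact h.symm.trans (Category.assoc _ _ _).symm
    · rw [← cancel_mono O.ι, Category.assoc, ha]
      exact (isPullback_morphismRestrict f V).lift_snd _ _ _
    · exact (isPullback_morphismRestrict f V).lift_fst _ _ _
    · apply (isPullback_morphismRestrict f V).hom_ext
      · rw [IsPullback.lift_fst]; exact h2
      · rw [IsPullback.lift_snd, ← h1, Category.assoc, ha]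
  let V' : (W : Scheme.{u}).Opens := W.ι ⁻¹ᵁ V
  have hle : V' ≤ V₁ := fun z hz => by
    obtain ⟨z', hz', he⟩ := hz.1
    exact W.ι.isOpenEmbedding.injective he ▸ hz'
  haveI hfV' : IsFinite (g ∣_ V') := EtLocLib.restrict_of_le g @IsFinite hle hfin
  haveI : IsIso (W.ι ∣_ V) := (isIso_iff_isOpenImmersion_and_surjective _).mpr
    ⟨inferInstance, ⟨fun w => ⟨⟨⟨w.1, hVW w.2⟩, w.2⟩, Subtype.ext (morphismRestrict_base_coe W.ι _ _)⟩⟩⟩
  have hc : IsPullback (g ⁻¹ᵁ V').ι (g ∣_ V' ≫ (W.ι ∣_ V)) g c := by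
    refine (isPullback_morphismRestrict g V').flip.of_iso (Iso.refl _) (Iso.refl _) (asIso (W.ι ∣_ V)) (Iso.refl _)
      (by simp) (by simp) (by simp) ?_
    rw [Iso.refl_hom, Category.comp_id, asIso_hom, ← cancel_mono W.ι, Category.assoc, Scheme.homOfLE_ι,
      morphismRestrict_ι]
  haveI : IsFinite (g ∣_ V' ≫ (W.ι ∣_ V)) := inferInstance
  rw [← hP.isoIsPullback_hom_snd _ _ hc]
  infer_instance

/-- Let `f : X → Y` be locally of finite type and quasi-compact. Suppose `X` and `Y` have finitely many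
irreducible components and that a point of `X` is a generic point of an irreducible component
exactly when its image is one in `Y`. Then `f⁻¹(V) → V` is finite for some dense open `V ⊆ Y`. -/
theorem result {X Y : Scheme.{u}} (f : X ⟶ Y) [LocallyOfFiniteType f]
    [QuasiCompact f] (hX : (irreducibleComponents (X : Type u)).Finite) (hY : (irreducibleComponents (Y : Type u)).Finite)
    (hgen : ∀ x : X, closure {x} ∈ irreducibleComponents (X : Type u) ↔
      closure {f.base x} ∈ irreducibleComponents (Y : Type u)) :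
    ∃ V : Y.Opens, Dense (V : Set Y) ∧ IsFinite (f ∣_ V) := by
  classical
  have hgood : ∀ C ∈ irreducibleComponents (Y : Type u), ∃ V : Y.Opens, IsFinite (f ∣_ V) ∧
      ∀ η, closure {η} = C → η ∈ V := by
    intro C hC
    have hg := hC.1.isGenericPoint_genericPoint (isClosed_of_mem_irreducibleComponents C hC)
    have hη : closure {hC.1.genericPoint} ∈ irreducibleComponents (Y : Type u) := by rw [hg.def]; exact hC
    obtain ⟨V, hV, hfin⟩ := exists_finite_nhd f hX hC.1.genericPoint hη fun x hx =>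
      (hgen x).mpr (by rw [hx]; exact hη)
    refine ⟨V, hfin, fun η he => ?_⟩
    rwa [(inseparable_iff_closure_eq.mpr (he.trans hg.def.symm)).eq]
  choose V hV hmem using hgood
  let ι := {U : Y.Opens // IsFinite (f ∣_ U)}
  let T : Y.Opens := ⨆ U : ι, U.1
  refine ⟨T, dense_iff_inter_open.mpr fun O hO hne => ?_, ?_⟩
  · obtain ⟨y, hy⟩ := hne
    have hC := irreducibleComponent_mem_irreducibleComponents y
    have hg := hC.1.isGenericPoint_genericPoint isClosed_irreducibleComponent
    refine ⟨hC.1.genericPoint, (hg.specializes mem_irreducibleComponent).mem_open hO hy, ?_⟩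
    exact TopologicalSpace.Opens.mem_iSup.mpr ⟨⟨V _ hC, hV _ hC⟩, hmem _ hC _ hg.def⟩
  · refine IsZariskiLocalAtTarget.of_iSup_eq_top (P := @IsFinite) (fun U : ι => T.ι ⁻¹ᵁ U.1) ?_ fun U => ?_
    · refine top_le_iff.mp fun z _ => ?_
      obtain ⟨U, hU⟩ := TopologicalSpace.Opens.mem_iSup.mp (show z.1 ∈ T from z.2)
      exact TopologicalSpace.Opens.mem_iSup.mpr ⟨U, hU⟩
    · have e : T.ι ''ᵁ (T.ι ⁻¹ᵁ U.1) = U.1 := by
        rw [Scheme.Hom.image_preimage_eq_opensRange_inf, Scheme.Opens.opensRange_ι]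
        exact inf_eq_right.mpr (le_iSup (fun U : ι => U.1) U)
      rw [MorphismProperty.arrow_mk_iso_iff @IsFinite (morphismRestrictRestrict f T (T.ι ⁻¹ᵁ U.1)), e]
      exact U.2

end Groth.Agent.S2081
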