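import Groth.Statements.S11006
import Mathlib.FieldTheory.IntermediateField.Adjoin.Basic
import Mathlib.RingTheory.TensorProduct.Finite
import Mathlib.RingTheory.Algebraic.Integral
import Mathlib.LinearAlgebra.Dimension.Free
import Mathlib.RingTheory.TensorProduct.Maps
import Mathlib.RingTheory.AdjoinRoot


-- import your own Groth.Agent.* helpers here

set_option autoImplicit false
universe u v
open FunFld TensorProduct

namespace Groth.Agent.S11006

/-- For `K/k` a geometric function field of one variable and `k'/k` finite, the field `K' = k' ⊗_k K` is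
a geometric function field of one variable over `k'`: some element of `K'` is transcendental over
`k'` with `K'` of finite degree over the subfield it generates over `k'`, `k'` is algebraically
closed in `K'`, and `K'` stays a field after tensoring over `k'` with any finite field extension of
`k'`. -/
theorem result (k k' : Type u) (K K' : Type v) [Field k] [Field k'] [Field K] [Field K']
    [Algebra k k'] [FiniteDimensional k k'] [Algebra k K] [Algebra K K'] [Algebra k' K'] [Algebra k K']
    [IsScalarTower k k' K'] [IsScalarTower k K K']
    (h : Function.Bijective (Algebra.TensorProduct.productMap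
      (IsScalarTower.toAlgHom k k' K') (IsScalarTower.toAlgHom k K K')))
    (hK : FunFld.IsFunctionField k K) (hg : FunFld.IsGeometric k K) :
    FunFld.IsFunctionField k' K' ∧ FunFld.IsGeometric k' K' := by
  classical
  obtain ⟨x, hxt, hxfin⟩ := hK.1
  let ψ : k' ⊗[k] K →ₐ[k'] K' :=
    Algebra.TensorProduct.lift (Algebra.ofId k' K') (IsScalarTower.toAlgHom k K K') fun _ _ => Commute.all _ _
  have hψ : Function.Bijective ψ := by
    convert h using 1
    funext z
    induction z using TensorProduct.induction_on with
    | zero => simp
    | tmul a b => simp [ψ]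
    | add a b ha hb => rw [map_add, map_add, ha, hb]
  have hfield : ∀ (L : Type u) [Field L] [Algebra k' L] [FiniteDimensional k' L], IsField (L ⊗[k'] K') := by
    intro L _ _ _
    let : Algebra k L := ((algebraMap k' L).comp (algebraMap k k')).toAlgebra
    have : IsScalarTower k k' L := IsScalarTower.of_algebraMap_eq fun _ => rfl
    have : FiniteDimensional k L := Module.Finite.trans k' L
    let e : L ⊗[k'] K' ≃ₐ[L] L ⊗[k] K :=
      (Algebra.TensorProduct.congr (AlgEquiv.refl : L ≃ₐ[L] L) (AlgEquiv.ofBijective ψ hψ).symm).trans
        (Algebra.TensorProduct.cancelBaseChange k k' L L K)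
    exact e.toMulEquiv.isField (hg L ‹_›)
  have hxt' : Transcendental k' (algebraMap K K' x) := fun halg =>
    hxt ((isAlgebraic_algebraMap_iff (algebraMap K K').injective).1 (halg.restrictScalars k))
  have hKK' : Module.Finite K K' := by
    refine ⟨?_⟩
    let b := Module.finBasis k k'
    refine ⟨Finset.univ.image fun i => algebraMap k' K' (b i), eq_top_iff.2 fun z hz => ?_⟩
    clear hz
    obtain ⟨w, rfl⟩ := hψ.2 z
    induction w using TensorProduct.induction_on with
    | zero => rw [map_zero]; exact zero_mem _
    | add a b ha hb => rw [map_add]; exact add_mem ha hb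
    | tmul a c =>
      have h1 : ψ (a ⊗ₜ c) = algebraMap K K' c * algebraMap k' K' a := by simp [ψ, mul_comm]
      rw [h1, ← b.sum_repr a, map_sum, Finset.mul_sum]
      refine Submodule.sum_mem _ fun i _ => ?_
      have h2 : algebraMap K K' c * algebraMap k' K' (b.repr a i • b i) =
          (c * algebraMap k K (b.repr a i)) • algebraMap k' K' (b i) := by
        rw [Algebra.smul_def, Algebra.smul_def, map_mul, map_mul, ← IsScalarTower.algebraMap_apply,
          ← IsScalarTower.algebraMap_apply, mul_assoc]
      rw [h2]
      exact Submodule.smul_mem _ _ (Submodule.subset_span (by simp))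
  refine ⟨⟨⟨algebraMap K K' x, hxt', ?_⟩, fun y hy => ?_⟩, fun L _ _ hL => hfield L⟩
  · set F := IntermediateField.adjoin k ({x} : Set K)
    set F' := IntermediateField.adjoin k' ({algebraMap K K' x} : Set K')
    have hle : F.map (IsScalarTower.toAlgHom k K K') ≤ F'.restrictScalars k := by
      rw [IntermediateField.adjoin_map, Set.image_singleton, IntermediateField.adjoin_simple_le_iff]
      exact IntermediateField.mem_adjoin_simple_self k' _
    have hmem : ∀ a : F, algebraMap K K' a ∈ F' := fun a => hle ⟨a, a.2, rfl⟩
    let : Algebra F F' := (((algebraMap K K').comp F.val.toRingHom).codRestrict F' hmem).toAlgebra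
    have : IsScalarTower F F' K' := IsScalarTower.of_algebraMap_eq fun a => rfl
    have : Module.Finite F K' := Module.Finite.trans K K'
    exact Module.Finite.of_restrictScalars_finite F F' K'
  · have hint : IsIntegral k' y := hy.isIntegral
    have hirr : Fact (Irreducible (minpoly k' y)) := ⟨minpoly.irreducible hint⟩
    let L := AdjoinRoot (minpoly k' y)
    have : FiniteDimensional k' L := (AdjoinRoot.powerBasis (minpoly.ne_zero hint)).finite
    let := (hfield L).toField
    let μ : L ⊗[k'] K' →ₐ[k'] K' :=
      Algebra.TensorProduct.lift (AdjoinRoot.liftAlgHom (minpoly k' y) (Algebra.ofId k' K') y (minpoly.aeval k' y))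
        (AlgHom.id k' K') fun _ _ => Commute.all _ _
    have hμ : Function.Injective μ := μ.toRingHom.injective
    have heq : (AdjoinRoot.root (minpoly k' y)) ⊗ₜ[k'] (1 : K') = (1 : L) ⊗ₜ[k'] y := hμ (by
      simp only [μ, Algebra.TensorProduct.lift_tmul, map_one, mul_one, one_mul, AlgHom.id_apply]
      exact AdjoinRoot.liftAlgHom_root (minpoly k' y) (Algebra.ofId k' K') y _)
    obtain ⟨φ, hφ⟩ := LinearMap.exists_leftInverse_of_injective (Algebra.linearMap k' L)
      (LinearMap.ker_eq_bot.2 (algebraMap k' L).injective)
    have h1 : φ 1 = 1 := by
      have := LinearMap.congr_fun hφ 1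
      simpa using this
    have h2 := congrArg (fun z => TensorProduct.lid k' K' (LinearMap.rTensor K' φ z)) heq
    simp only [LinearMap.rTensor_tmul, TensorProduct.lid_tmul, h1, one_smul] at h2
    exact ⟨_, (Algebra.algebraMap_eq_smul_one _).trans h2⟩

end Groth.Agent.S11006
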