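import Groth.Statements.S11010
import Groth.Agent.GeomFFLib.SepTensor
import Groth.Agent.FFLib.Basic
import Mathlib.RingTheory.Unramified.Field
import Groth.Agent.S11006


-- import your own Groth.Agent.* helpers here

set_option autoImplicit false
universe u v
open FunFld TensorProduct

namespace Groth.Agent.S11010

/-- A finite separable extension `K'/k'` of a geometric function field of one variable `K/k` (with `k'`
the constant field of `K'`) is again geometric. (The published statement has no separability
hypothesis on `K'/K`; for `k = 𝔽_p(s,t)`, `K = k(x)` and `K' = K(y)` with `y^p = s x^p + t`, the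
field `k` is algebraically closed in `K'` yet `k(s^{1/p}, t^{1/p}) ⊗_k K'` has nonzero nilpotents,
so `K'/K` is taken separable here.) -/
theorem result (k k' : Type u) (K K' : Type v) [Field k] [Field k'] [Field K] [Field K']
    [Algebra k k'] [Algebra k K] [Algebra K K'] [Algebra k' K'] [Algebra k K']
    [IsScalarTower k k' K'] [IsScalarTower k K K'] [FiniteDimensional K K'] [Algebra.IsSeparable K K']
    (hK : FunFld.IsFunctionField k K) (hg : FunFld.IsGeometric k K)
    (hK' : FunFld.IsFunctionField k' K') : FunFld.IsGeometric k' K' := by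
  classical
  obtain ⟨x, hxt, hxfin⟩ := hK.1
  set F := IntermediateField.adjoin k ({x} : Set K)
  have hxt' : Transcendental k (algebraMap K K' x) := fun halg =>
    hxt ((isAlgebraic_algebraMap_iff (algebraMap K K').injective).1 halg)
  have hFG : FFLib.FG1 k K' := by
    refine ⟨_, hxt', ?_⟩
    set F₁ := IntermediateField.adjoin k ({algebraMap K K' x} : Set K')
    have hle : F.map (IsScalarTower.toAlgHom k K K') ≤ F₁ := by
      rw [IntermediateField.adjoin_map, Set.image_singleton]
      exact le_rfl
    let : Algebra F F₁ := (((algebraMap K K').comp F.val.toRingHom).codRestrict F₁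
      fun a => hle ⟨a, a.2, rfl⟩).toAlgebra
    have : IsScalarTower F F₁ K' := IsScalarTower.of_algebraMap_eq fun a => rfl
    have : Module.Finite F K' := Module.Finite.trans K K'
    exact Module.Finite.of_restrictScalars_finite F F₁ K'
  have halg : ∀ y : k', IsAlgebraic k y := fun y => by
    by_contra hy
    obtain ⟨z, hz, hzfin⟩ := hK'.1
    have hy' : Transcendental k (algebraMap k' K' y) := fun h1 =>
      hy ((isAlgebraic_algebraMap_iff (algebraMap k' K').injective).1 h1)
    have hfy := FFLib.finite_adjoin hFG hy'
    set Y := IntermediateField.adjoin k ({algebraMap k' K' y} : Set K')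
    have hle : Y ≤ (IsScalarTower.toAlgHom k k' K').fieldRange :=
      IntermediateField.adjoin_simple_le_iff.2 ⟨y, rfl⟩
    have halgk : Algebra.IsAlgebraic k' K' := by
      refine ⟨fun w => ?_⟩
      obtain ⟨p, hp0, hp⟩ := (IsAlgebraic.of_finite Y w : IsAlgebraic Y w)
      choose g hg' using fun a : Y => hle a.2
      let gh : Y →+* k' :=
        { toFun := g
          map_one' := (algebraMap k' K').injective (by rw [map_one]; exact hg' 1)
          map_mul' := fun a b => (algebraMap k' K').injective (by
            rw [map_mul]; exact (hg' _).trans (by rw [show algebraMap k' K' (g a) = a from hg' a, show algebraMap k' K' (g b) = b from hg' b]; rfl))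
          map_zero' := (algebraMap k' K').injective (by rw [map_zero]; exact hg' 0)
          map_add' := fun a b => (algebraMap k' K').injective (by
            rw [map_add]; exact (hg' _).trans (by rw [show algebraMap k' K' (g a) = a from hg' a, show algebraMap k' K' (g b) = b from hg' b]; rfl)) }
      refine ⟨p.map gh, (Polynomial.map_ne_zero_iff gh.injective).2 hp0, ?_⟩
      rw [Polynomial.aeval_def, Polynomial.eval₂_map, show (algebraMap k' K').comp gh = algebraMap Y K' from
        RingHom.ext hg']
      exact hp
    exact hz (Algebra.IsAlgebraic.isAlgebraic z)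
  have halg' : Algebra.IsAlgebraic k k' := ⟨halg⟩
  have hbound : Module.rank k k' ≤ (Module.finrank K K' : ℕ) := by
    refine rank_le fun s hs => ?_
    let E := IntermediateField.adjoin k (s : Set k')
    have : FiniteDimensional k E := IntermediateField.finiteDimensional_adjoin fun a _ => (halg a).isIntegral
    have hs' : LinearIndependent k fun i : (s : Set k') => (⟨i.1, IntermediateField.subset_adjoin k _ i.2⟩ : E) :=
      LinearIndependent.of_comp E.val.toLinearMap hs
    have hcard : s.card ≤ Module.finrank k E := by
      simpa using hs'.fintype_card_le_finrank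
    refine hcard.trans ?_
    let := (hg E inferInstance).toField
    let Φ : E ⊗[k] K →ₐ[k] K' := Algebra.TensorProduct.productMap
      ((IsScalarTower.toAlgHom k k' K').comp E.val) (IsScalarTower.toAlgHom k K K')
    have hΦ : Function.Injective Φ := Φ.toRingHom.injective
    let b := Module.finBasis k E
    have hli : LinearIndependent K fun i => algebraMap k' K' (b i : k') := by
      rw [Fintype.linearIndependent_iff]
      intro g hg0 i
      have h1 : Φ (∑ j, b j ⊗ₜ g j) = Φ 0 := by
        rw [map_sum, map_zero, ← hg0]
        refine Finset.sum_congr rfl fun j _ => ?_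
        simp [Φ, Algebra.smul_def, mul_comm]
      have h2 : (TensorProduct.comm k E K) (∑ j, b j ⊗ₜ g j) = 0 := by rw [hΦ h1, map_zero]
      have h3 := congrArg (fun z => (Algebra.TensorProduct.basis K b).repr z i) h2
      simpa [Algebra.TensorProduct.basis_repr_tmul, Finsupp.single_apply] using h3
    simpa using hli.fintype_card_le_finrank
  have hkfin : FiniteDimensional k k' :=
    IsNoetherian.iff_fg.1 (IsNoetherian.iff_rank_lt_aleph0.2 (hbound.trans_lt Cardinal.natCast_lt_aleph0))
  let ψ : k' ⊗[k] K →ₐ[k] K' := Algebra.TensorProduct.productMap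
    (IsScalarTower.toAlgHom k k' K') (IsScalarTower.toAlgHom k K K')
  let := (hg k' hkfin).toField
  let K'' : IntermediateField k K' := ψ.fieldRange
  let : Algebra K K'' := ((ψ.comp Algebra.TensorProduct.includeRight).codRestrict K''.toSubalgebra
    fun a => ⟨1 ⊗ₜ a, rfl⟩).toRingHom.toAlgebra
  let : Algebra k' K'' := ((ψ.comp Algebra.TensorProduct.includeLeft).codRestrict K''.toSubalgebra
    fun a => ⟨a ⊗ₜ 1, rfl⟩).toRingHom.toAlgebra
  have : IsScalarTower K K'' K' := IsScalarTower.of_algebraMap_eq fun a => by
    show algebraMap K K' a = ψ (1 ⊗ₜ a)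
    simp [ψ]
  have : IsScalarTower k' K'' K' := IsScalarTower.of_algebraMap_eq fun a => by
    show algebraMap k' K' a = ψ (a ⊗ₜ 1)
    simp [ψ]
  have : IsScalarTower k K K'' := IsScalarTower.of_algebraMap_eq fun c => Subtype.ext (by
    show algebraMap k K' c = ψ (1 ⊗ₜ algebraMap k K c)
    simp [ψ, ← IsScalarTower.algebraMap_apply])
  have : IsScalarTower k k' K'' := IsScalarTower.of_algebraMap_eq fun c => Subtype.ext (by
    show algebraMap k K' c = ψ (algebraMap k k' c ⊗ₜ 1)
    simp [ψ, ← IsScalarTower.algebraMap_apply])
  have hbij : Function.Bijective (Algebra.TensorProduct.productMap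
      (IsScalarTower.toAlgHom k k' K'') (IsScalarTower.toAlgHom k K K'')) := by
    have heq : K''.val.comp (Algebra.TensorProduct.productMap (IsScalarTower.toAlgHom k k' K'')
        (IsScalarTower.toAlgHom k K K'')) = ψ := by
      apply Algebra.TensorProduct.ext'
      intro a b
      simp [ψ]
      show (algebraMap k' K'' a : K') * (algebraMap K K'' b : K') = _
      rw [show (algebraMap k' K'' a : K') = algebraMap k' K' a from (IsScalarTower.algebraMap_apply k' K'' K' a).symm,
        show (algebraMap K K'' b : K') = algebraMap K K' b from (IsScalarTower.algebraMap_apply K K'' K' b).symm]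
    refine ⟨fun a b hab => ψ.toRingHom.injective ?_, fun z => ?_⟩
    · show ψ a = ψ b
      rw [← heq]; simp only [AlgHom.comp_apply, hab]
    · obtain ⟨w, hw⟩ := z.2
      exact ⟨w, Subtype.ext ((DFunLike.congr_fun heq w).trans hw)⟩
  have hgeo := (S11006.result k k' K K'' hbij hK hg).2
  intro L _ _ hL
  have : Algebra.IsSeparable K'' K' := Algebra.isSeparable_tower_top_of_isSeparable K K'' K'
  have : Module.Finite K'' K' := Module.Finite.of_restrictScalars_finite K K'' K'
  have hGf : IsField (K'' ⊗[k'] L) := (Algebra.TensorProduct.comm k' K'' L).toMulEquiv.isField (hgeo L hL)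
  let := hGf.toField
  have : Algebra.FormallyUnramified K'' K' := Algebra.FormallyUnramified.of_isSeparable K'' K'
  have : IsReduced ((K'' ⊗[k'] L) ⊗[K''] K') :=
    Algebra.FormallyUnramified.isReduced_of_field (K'' ⊗[k'] L) _
  let e : L ⊗[k'] K' ≃+* (K'' ⊗[k'] L) ⊗[K''] K' :=
    ((Algebra.TensorProduct.comm k' L K').toRingEquiv.trans
      (Algebra.TensorProduct.cancelBaseChange k' K'' K'' K' L).symm.toRingEquiv).trans
      (Algebra.TensorProduct.comm K'' K' (K'' ⊗[k'] L)).toRingEquiv
  have hred : IsReduced (L ⊗[k'] K') := isReduced_of_injective e.toRingHom e.injective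
  exact GeomFFLib.isField_tensor_of_isReduced hK'.2 L

end Groth.Agent.S11010
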