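import Groth.Statements.S16087
import Groth.Agent.Ref1Lib.DivProps

set_option autoImplicit false
universe u
open CategoryTheory CategoryTheory.Limits AlgebraicGeometry TopologicalSpace
open SDiv

namespace Groth.Agent.S16087

/-- The class map takes values in Weil divisor classes and is surjective: suppose X is a normal scheme
that is integral and locally Noetherian, and denote its generic point by η. For a rank one coherent
reflexive O_X-module F and a nonzero rational section s ∈ F_η write ord_{x,F}(s) for the order of s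
with respect to a generator of the free rank one O_{X,x}-module F_x at a point x of codimension 1.
Then (1) the function sending a codimension-1 point x to ord_{x,F}(s) and every other point to 0 has
locally finite support, so it is a Weil divisor; and (2) every Weil divisor D on X (an
integer-valued function with locally finite support vanishing outside the codimension-1 points)
arises this way: D(x) = ord_{x,F}(s) at all codimension-1 points x for some rank one coherent
reflexive F and nonzero s ∈ F_η. -/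
theorem result (X : Scheme.{u}) [IsIntegral X] [IsLocallyNoetherian X]
    (hX : Pi1.IsNormalScheme X) :
    (∀ (F : X.Modules) (hF : RefHull.IsRef1 F) (s : Cyc.secFibre F (genericPoint ↥X)), s ≠ 0 →
        ∃ D : AlgebraicCycle X ℤ, (∀ x : ↥X, Order.coheight x ≠ 1 → D x = 0) ∧
          ∀ (x : ↥X), Order.coheight x = 1 →
            D x = Cyc.secOrdAt F (genericPoint ↥X) x ((genericPoint_spec ↥X).specializes (Set.mem_univ x)) s) ∧
      ∀ D : AlgebraicCycle X ℤ, (∀ x : ↥X, Order.coheight x ≠ 1 → D x = 0) →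
        ∃ (F : X.Modules) (_ : RefHull.IsRef1 F) (s : Cyc.secFibre F (genericPoint ↥X)), s ≠ 0 ∧
          ∀ (x : ↥X), Order.coheight x = 1 →
            D x = Cyc.secOrdAt F (genericPoint ↥X) x ((genericPoint_spec ↥X).specializes (Set.mem_univ x)) s := by
  let η := genericPoint ↥X
  constructor
  · intro F hF s hs
    obtain ⟨v, rfl⟩ := Submodule.Quotient.mk_surjective _ s
    have hv : v ≠ 0 := fun h => hs (by rw [h]; rfl)
    obtain ⟨W, hηW, σ, hσ⟩ := Ref1Lib.exists_genOn_of_genInvertible hF.2.2
    obtain ⟨c, hc⟩ := (hσ.genAt hηW).2 v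
    have hc0 : c ≠ 0 := fun h => hv (by rw [← hc, h]; exact zero_smul _ _)
    let Dfun : X → ℤ := fun x => if Order.coheight x = 1 then
      Cyc.secOrdAt F η x ((genericPoint_spec ↥X).specializes (Set.mem_univ x)) (Submodule.Quotient.mk v) else 0
    have hoff : ∀ x ∈ W, Order.coheight x = 1 → Dfun x = Scheme.ord (c : X.functionField) x := fun x hx hx1 => by
      have hg := hσ.genAt hx
      have hspan : Submodule.span (X.presheaf.stalk x) {F.presheaf.germ W x hx σ} = ⊤ :=
        eq_top_iff.2 fun z _ => Submodule.mem_span_singleton.2 (hg.2 z)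
      have hne : F.presheaf.germ W x hx σ ≠ 0 := fun h => one_ne_zero (α := X.presheaf.stalk x)
        (hg.1 (by simp only [h, smul_zero]))
      simp only [Dfun, if_pos hx1]
      exact Ref1Lib.secOrdAt_eq hF hx1 _ hv hspan hne
        (hc.symm.trans (congrArg (c • ·) (Ref1Lib.spec_germ F hx σ).symm))
    have hloc : LocallyFiniteSupport Dfun := fun z => by
      obtain ⟨V, hV, hzV, -⟩ := exists_isAffineOpen_mem_and_subset (x := z) (U := (⊤ : X.Opens)) trivial
      refine ⟨V, V.2.mem_nhds hzV, ((Ref1Lib.finite_coheight_one_inter W hηW hV).union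
        (Ref1Lib.finite_ord_affine hX (f := (c : X.functionField)) hc0 hV)).subset ?_⟩
      rintro x ⟨hxV, hx⟩
      by_cases hx1 : Order.coheight x = 1
      · by_cases hxW : x ∈ W
        · exact Or.inr ⟨hx1, hxV, (hoff x hxW hx1) ▸ hx⟩
        · exact Or.inl ⟨hx1, hxV, hxW⟩
      · exact absurd (if_neg hx1) hx
    exact ⟨⟨Dfun, fun _ _ => trivial, fun z _ => hloc z⟩, fun x hx => if_neg hx, fun x hx => if_pos hx⟩
  · intro D hD
    have hM := Ref1Lib.isRef1_divMod hX D
    let M := Ref1Lib.DM hX D
    obtain ⟨U, hU, hηU, -⟩ :=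
      exists_isAffineOpen_mem_and_subset (x := η) (U := (⊤ : X.Opens)) trivial
    classical
    -- a neighbourhood of the generic point avoiding the support
    let B := (Ref1Lib.finite_support_affine D hU).toFinset
    let O : X.Opens := ⟨(U : Set X) ∩ (⋃ x ∈ B, closure {x})ᶜ,
      U.2.inter (isClosed_biUnion_finset fun _ _ => isClosed_closure).isOpen_compl⟩
    have hηO : η ∈ O := ⟨hηU, fun h => by
      obtain ⟨x, hx, hxη⟩ := Set.mem_iUnion₂.1 h
      have hx' := (Set.Finite.mem_toFinset _).1 hx
      exact Ref1Lib.ne_generic_of_coheight (not_not.1 fun h1 => hx'.2 (hD x h1))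
        ((RefHullLib.specializes_generic x).antisymm (specializes_iff_mem_closure.2 hxη)).eq.symm⟩
    have hD0 : ∀ x ∈ O, D x = 0 := fun x hx => not_not.1 fun hne =>
      hx.2 (Set.mem_iUnion₂.2 ⟨x, (Set.Finite.mem_toFinset _).2 ⟨hx.1, hne⟩, subset_closure rfl⟩)
    let one : Γ(M, O) := Ref1Lib.mkSec _ hX 1 fun x hx _ hx1 => by
      rw [hD0 x hx, add_zero]
      exact CDivCoreLib.ord_nonneg_of_reg hX hx1 one_ne_zero ⟨1, map_one _⟩
    let v := M.presheaf.germ O η hηO one
    have hv : v ≠ 0 := fun h => by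
      have h1 := (Ref1Lib.val_germ_eq _ hX hηO hηO one 0).1 (h.trans (map_zero _).symm)
      exact one_ne_zero (α := X.functionField) h1
    refine ⟨M, hM, Submodule.Quotient.mk v, fun h => hv (Ref1Lib.mk_injective M h), fun x hx => ?_⟩
    obtain ⟨t, ht, ht0⟩ := Ref1Lib.exists_gen hX hM hx
    obtain ⟨V, hxV, τ, rfl⟩ := M.presheaf.exists_germ_eq (x := x) t
    obtain ⟨φ, hφ⟩ := Ref1Lib.exists_eq_smul_spec hM ht0 v
    rw [Ref1Lib.secOrdAt_eq hM hx _ hv ht ht0 hφ]
    let ft : X.functionField := Ref1Lib.val _ hX (RefHullLib.mem_of_nonempty hxV) τ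
    -- the relation φ * ft = 1
    have hrel : (φ : X.functionField) * ft = 1 := by
      rw [Ref1Lib.spec_germ] at hφ
      obtain ⟨R, hR, r, hr⟩ := X.presheaf.exists_germ_eq (x := η) φ
      let R' := R ⊓ V
      have hR' : η ∈ R' := ⟨hR, RefHullLib.mem_of_nonempty hxV⟩
      have h1 : M.presheaf.germ O η hηO one = M.presheaf.germ R' η hR'
          (X.presheaf.map (homOfLE (inf_le_left : R' ≤ R)).op r •
            M.presheaf.map (homOfLE (inf_le_right : R' ≤ V)).op τ) := by
        rw [Mero.germ_smul, TopCat.Presheaf.germ_res_apply, TopCat.Presheaf.germ_res_apply, hr]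
        exact hφ
      have h2 := (Ref1Lib.val_germ_eq _ hX hηO hR' _ _).1 h1
      rw [Ref1Lib.val_smul, Ref1Lib.val_res, TopCat.Presheaf.germ_res_apply, hr] at h2
      exact h2.symm
    have hft : ft ≠ 0 := fun h => one_ne_zero (α := X.functionField) (by rw [← hrel, h, mul_zero])
    have hge : -D x ≤ Scheme.ord ft x := by
      have := Ref1Lib.cond_val _ hX (RefHullLib.mem_of_nonempty hxV) τ hxV hft hx
      change 0 ≤ Scheme.ord ft x + D x at this
      omega
    -- an element of order exactly -D x
    haveI := CDivCoreLib.isDVR_of_coheight hX hx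
    obtain ⟨π, hπ⟩ := IsDiscreteValuationRing.exists_irreducible (X.presheaf.stalk x)
    let πK : X.functionField := algebraMap (X.presheaf.stalk x) X.functionField π
    have hπK : πK ≠ 0 :=
      (map_ne_zero_iff _ (IsFractionRing.injective (X.presheaf.stalk x) X.functionField)).2 hπ.ne_zero
    have hπ1 : Scheme.ord πK x = 1 := by
      haveI : Ring.KrullDimLE 1 (X.presheaf.stalk x) := krullDimLE_of_coheight_le hx.le
      rw [Scheme.ord_eq_iff hx hπK]
      exact Ring.ordFrac_irreducible hπ
    have hzpow : ∀ n : ℤ, Scheme.ord (πK ^ n) x = n := by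
      intro n
      cases n with
      | ofNat m => rw [Int.ofNat_eq_natCast, zpow_natCast, Ref1Lib.ord_pow' hπK, hπ1, mul_one]
      | negSucc m =>
        rw [zpow_negSucc, CDivCoreLib.ord_inv (pow_ne_zero _ hπK), Ref1Lib.ord_pow' hπK, hπ1, mul_one]
        rfl
    let g : X.functionField := πK ^ (-D x)
    have hg : g ≠ 0 := zpow_ne_zero _ hπK
    obtain ⟨A, hA, hxA, -⟩ := exists_isAffineOpen_mem_and_subset (x := x) (U := (⊤ : X.Opens)) trivial
    let B' := (((Ref1Lib.finite_ord_affine hX hg hA).union (Ref1Lib.finite_support_affine D hA)).toFinset).filter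
      fun y => y ≠ x ∧ Order.coheight y = 1
    let A' : X.Opens := ⟨(A : Set X) ∩ (⋃ y ∈ B', closure {y})ᶜ,
      A.2.inter (isClosed_biUnion_finset fun _ _ => isClosed_closure).isOpen_compl⟩
    have hxA' : x ∈ A' := ⟨hxA, fun h => by
      obtain ⟨y, hy, hxy⟩ := Set.mem_iUnion₂.1 h
      obtain ⟨-, hne, hy1⟩ := Finset.mem_filter.1 hy
      have hle : x ≤ y := Scheme.le_iff_specializes.2 (specializes_iff_mem_closure.2 hxy)
      by_cases hle' : y ≤ x
      · exact hne ((Scheme.le_iff_specializes.1 hle).antisymm (Scheme.le_iff_specializes.1 hle')).eq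
      · have e : x < y := lt_of_le_not_ge hle hle'
        have h3 := Order.coheight_add_one_le e
        rw [hy1, hx] at h3
        exact absurd h3 (by norm_num)⟩
    let gsec : Γ(M, A') := Ref1Lib.mkSec _ hX g fun y hy _ hy1 => by
      by_cases hyx : y = x
      · subst hyx
        rw [hzpow, neg_add_cancel]
      have hnot := fun h => hy.2 (Set.mem_iUnion₂.2 ⟨y, Finset.mem_filter.2 ⟨h, hyx, hy1⟩, subset_closure rfl⟩)
      have h1 : Scheme.ord g y = 0 := not_not.1 fun h => hnot
        ((Set.Finite.mem_toFinset _).2 (Or.inl ⟨hy1, hy.1, h⟩))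
      have h2 : D y = 0 := not_not.1 fun h => hnot ((Set.Finite.mem_toFinset _).2 (Or.inr ⟨hy.1, h⟩))
      rw [h1, h2, add_zero]
    obtain ⟨a, ha⟩ := Submodule.mem_span_singleton.1
      (ht ▸ Submodule.mem_top : M.presheaf.germ A' x hxA' gsec ∈ _)
    obtain ⟨R, hR, r, rfl⟩ := X.presheaf.exists_germ_eq (x := x) a
    have hR' : x ∈ R ⊓ V := ⟨hR, hxV⟩
    have h3 : M.presheaf.germ (R ⊓ V) x hR'
        (X.presheaf.map (homOfLE (inf_le_left : R ⊓ V ≤ R)).op r •
          M.presheaf.map (homOfLE (inf_le_right : R ⊓ V ≤ V)).op τ) = M.presheaf.germ A' x hxA' gsec := by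
      rw [Mero.germ_smul, TopCat.Presheaf.germ_res_apply, TopCat.Presheaf.germ_res_apply]
      exact ha
    have h4 := (Ref1Lib.val_germ_eq _ hX hR' hxA' _ _).1 h3
    rw [Ref1Lib.val_smul, Ref1Lib.val_res, TopCat.Presheaf.germ_res_apply, Ref1Lib.val_mkSec] at h4
    let rK : X.functionField := X.presheaf.germ R η (RefHullLib.mem_of_nonempty hR) r
    have hrK : rK ≠ 0 := fun h => hg (by
      rw [← h4]
      exact mul_eq_zero.2 (Or.inl h))
    have h5 : Scheme.ord (rK * ft) x = Scheme.ord g x := congrArg (fun e => Scheme.ord e x) h4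
    rw [Scheme.ord_mul hrK hft, hzpow] at h5
    have h6 := CDivCoreLib.ord_nonneg_of_reg hX hx hrK
      ⟨X.presheaf.germ R x hR r, CDivCoreLib.algebraMap_germ hR _ r⟩
    have h7 : Scheme.ord (φ : X.functionField) x + Scheme.ord ft x = 0 := by
      have hφ0 : (φ : X.functionField) ≠ 0 := left_ne_zero_of_mul (by rw [hrel]; exact one_ne_zero)
      rw [← Scheme.ord_mul hφ0 hft, hrel]
      simpa using Ref1Lib.ord_pow' (x := x) hft 0
    omega

end Groth.Agent.S16087
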