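import Groth.Statements.S5105
import Groth.Agent.Ref1Lib.Invertible
import Groth.Agent.Ref1Lib.Factorial
import Groth.Agent.S16087

set_option autoImplicit false
universe u
open CategoryTheory CategoryTheory.Limits AlgebraicGeometry TopologicalSpace
open Div21

namespace Groth.Agent.S5105

open scoped Classical

open IsLocalRing in
theorem ufd_of_ord {X : Scheme.{u}} [IsIntegral X] [IsLocallyNoetherian X] (hX : Pi1.IsNormalScheme X)
    (h : ∀ x₀ : X, Order.coheight x₀ = 1 → ∀ x : X, ∃ f : X.functionField, f ≠ 0 ∧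
      ∀ y, y ⤳ x → Order.coheight y = 1 → Scheme.ord f y = if y = x₀ then 1 else 0) (x : X) :
    UniqueFactorizationMonoid (X.presheaf.stalk x) := by
  refine UniqueFactorizationMonoid.iff_exists_prime_mem_of_isPrime.2 fun q₀ hq₀ hq₀p => ?_
  obtain ⟨a, ha, ha0⟩ := Submodule.exists_mem_ne_zero_of_ne_bot hq₀
  obtain ⟨q, hq, hqle⟩ := Ideal.exists_minimalPrimes_le ((Ideal.span_singleton_le_iff_mem q₀).2 ha)
  haveI : q.IsPrime := hq.1.1
  have haq : a ∈ q := hq.1.2 (Ideal.mem_span_singleton_self a)
  have hqh : q.height = 1 := by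
    refine le_antisymm (Ideal.height_le_one_of_isPrincipal_of_mem_minimalPrimes (Ideal.span {a}) q hq) ?_
    rw [ENat.one_le_iff_ne_zero]
    intro h0
    rw [Ideal.height_eq_zero_iff, IsDomain.minimalPrimes_eq_singleton_bot] at h0
    exact ha0 (by rwa [Set.mem_singleton_iff.1 h0, Ideal.mem_bot] at haq)
  let Q : PrimeSpectrum (X.presheaf.stalk x) := ⟨q, inferInstance⟩
  set z₀ := X.fromSpecStalk x Q with hz₀
  have hz1 : Order.coheight z₀ = 1 := (CDivCoreLib.coheight_fromSpecStalk Q).trans hqh
  obtain ⟨f, hf0, hf⟩ := h z₀ hz1 x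
  obtain ⟨π, hπ⟩ : CDivCoreLib.Reg f x := CDivCoreLib.reg_of_coheight_one hX fun y hy h1 =>
    CDivCoreLib.reg_of_ord_nonneg hX h1 hf0 (by rw [hf y hy h1]; split <;> norm_num)
  have hπ0 : π ≠ 0 := fun e => hf0 (by rw [← hπ, e, map_zero])
  have hπq : π ∈ q := by
    by_contra hc
    have := (CDivCoreLib.ord_pos_iff hX Q hz1 hπ0).2.2 hc
    rw [hπ, hf z₀ (CDivCoreLib.specializes_fromSpecStalk Q) hz1, if_pos rfl] at this
    exact one_ne_zero this
  have hspan : q = Ideal.span {π} := by
    refine le_antisymm (fun g hg => ?_) ((Ideal.span_singleton_le_iff_mem q).2 hπq)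
    by_cases hg0 : g = 0
    · subst hg0; exact zero_mem _
    have hgK : algebraMap (X.presheaf.stalk x) X.functionField g ≠ 0 := by simpa using hg0
    obtain ⟨e, he⟩ : CDivCoreLib.Reg (algebraMap (X.presheaf.stalk x) X.functionField g * f⁻¹) x :=
      CDivCoreLib.reg_of_coheight_one hX fun y hy h1 =>
        CDivCoreLib.reg_of_ord_nonneg hX h1 (mul_ne_zero hgK (inv_ne_zero hf0)) (by
        rw [Scheme.ord_mul hgK (inv_ne_zero hf0), CDivCoreLib.ord_inv hf0, hf y hy h1]
        have h0 := CDivCoreLib.ord_nonneg_of_reg hX h1 hgK (CDivCoreLib.reg_of_specializes hy ⟨g, rfl⟩)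
        split
        · next e =>
          have h2 : Scheme.ord (algebraMap (X.presheaf.stalk x) X.functionField g) y ≠ 0 := by
            subst e
            exact fun h3 => (CDivCoreLib.ord_pos_iff hX Q hz1 hg0).2.1 h3 hg
          omega
        · omega)
    refine Ideal.mem_span_singleton'.2 ⟨e, IsFractionRing.injective (X.presheaf.stalk x) X.functionField ?_⟩
    rw [map_mul, he, hπ, mul_assoc, inv_mul_cancel₀ hf0, mul_one]
  exact ⟨π, hqle hπq, (Ideal.span_singleton_prime hπ0).1 (hspan ▸ inferInstance)⟩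


/-- For an integral scheme (X is locally factorial exactly when the canonical map Pic(X) → Cl(X) is a
bijection; in the presence of (i), being bijective means that each codimension-1 cycle arises as the
Weil divisor of some rational section of an invertible module): suppose X is an integral scheme that
is normal and locally Noetherian. Then these two conditions are equivalent: (1) whenever Z is a
function from the points of X to the integers that is zero away from the points of codimension 1
(coheight 1) and whose support is locally finite, one can find an invertible O_X-module L together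
with a nonzero rational section s of L (a nonzero element of the generic fibre of L) such that, at
each point of codimension 1, the order of s equals the value Z takes there; (2) each local ring of X
is a unique factorisation domain. -/
theorem result (X : Scheme.{u}) [IsIntegral X]
    [IsLocallyNoetherian X] (hX : Pi1.IsNormalScheme X) :
    (∀ Z : ↥X → ℤ, (∀ x : ↥X, Order.coheight x ≠ 1 → Z x = 0) →
        (∀ x : ↥X, ∃ W : X.Opens, x ∈ W ∧ {z : ↥X | z ∈ W ∧ Z z ≠ 0}.Finite) →
        ∃ (L : X.Modules) (_ : PicF.IsInvertible L) (s : Cyc.secFibre L (genericPoint ↥X)), s ≠ 0 ∧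
          ∀ x : ↥X, Order.coheight x = 1 →
            Cyc.secOrdAt L (genericPoint ↥X) x (genericPoint_specializes x) s = Z x) ↔
      ∀ x : ↥X, UniqueFactorizationMonoid ↑(X.presheaf.stalk x) := by
  constructor
  · intro h x
    refine ufd_of_ord hX (fun x₀ hx₀ y => ?_) x
    obtain ⟨L, hL, s, hs, hsD⟩ := h (fun z => if z = x₀ then 1 else 0)
      (fun z hz => if_neg fun (e : z = x₀) => hz (by rw [e]; exact hx₀))
      (fun z => ⟨⊤, trivial, (Set.finite_singleton x₀).subset fun w hw => by
        by_contra hne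
        exact hw.2 (if_neg hne)⟩)
    obtain ⟨v, rfl⟩ := Submodule.Quotient.mk_surjective _ s
    have hv : v ≠ 0 := fun h0 => hs (by rw [h0]; rfl)
    obtain ⟨U, σ, hyU, hσ⟩ := TwistLib.exists_genOn hL y
    obtain ⟨c, hc⟩ := (hσ.genAt (RefHullLib.mem_of_nonempty hyU)).2 v
    have hc0 : c ≠ 0 := fun h0 => hv (hc.symm.trans (by simp only [h0, zero_smul]))
    refine ⟨c, hc0, fun z hz hz1 => ?_⟩
    have hzU := hz.mem_open U.2 hyU
    rw [← hsD z hz1]
    exact (Ref1Lib.secOrdAt_free L hz1 _ hv (hσ.genAt hzU)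
      (by rw [Ref1Lib.spec_germ]; exact hc.symm)).symm
  · intro h Z hZ hfin
    have hloc : LocallyFiniteSupport Z := fun z => by
      obtain ⟨W, hzW, hW⟩ := hfin z
      exact ⟨W, W.2.mem_nhds hzW, hW.subset fun w hw => hw⟩
    obtain ⟨F, hF, s, hs, hsD⟩ := (S16087.result X hX).2 ⟨Z, fun _ _ => trivial, fun z _ => hloc z⟩ hZ
    refine ⟨F, ?_, s, hs, fun x hx => (hsD x hx).symm⟩
    have hg : ∀ x : X, ∃ (U : X.Opens) (_ : x ∈ U) (σ : Γ(F, U)), AmpleLib.GenOn F σ := fun x => by
      haveI := h x
      obtain ⟨t, ht⟩ := Ref1Lib.exists_freeGen_of_ufd hF x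
      exact Ref1Lib.exists_genOn_of_freeGen hF ht
    choose U hU σ hσ using hg
    exact TwistLib.isInvertible_of_genOn U (fun x => ⟨x, hU x⟩) σ hσ

end Groth.Agent.S5105
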