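import Groth.Statements.S9470
import Groth.Agent.HenselBranchLib.EtCovBase
-- import your own Groth.Agent.* helpers here

set_option autoImplicit false
set_option linter.style.haveILetI false
set_option maxHeartbeats 1000000
set_option backward.isDefEq.respectTransparency false
universe u
open Hensel

namespace Groth.Agent.S9470

/-- Let R be a ring, p a prime of R and R^h a henselization of the local ring R_p, regarded as an
R-algebra through R_p. For pairs (S, q) with S an étale R-algebra and q a prime of S over p such
that κ(p) → κ(q) is bijective: (a) there is exactly one R-algebra map f : S → R^h under which the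
maximal ideal pulls back to q; (b) every element of R^h is f(s) for some such pair, map f and s ∈ S;
(c) if such an f sends s to 0, then some R-algebra map S → S' to another such pair (S', q'), pulling
q' back to q, already sends s to 0. Together with filteredness of the category of pairs this
expresses that R^h is canonically the colimit of S over all pairs (S, q). (The published statement
also records the equal colimit of the local rings S_q.) -/
theorem result (R : Type u) [CommRing R]
    (p : Ideal R) [p.IsPrime] (Rh : Type u) [CommRing Rh] [IsLocalRing Rh]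
    [Algebra (Localization.AtPrime p) Rh] [IsLocalHom (algebraMap (Localization.AtPrime p) Rh)]
    [Hensel.IsHenselization (Localization.AtPrime p) Rh] [Algebra R Rh]
    [IsScalarTower R (Localization.AtPrime p) Rh] :
    (∀ (S : Type u) [CommRing S] [Algebra R S] [Algebra.Etale R S] (q : Ideal S) [q.IsPrime]
        (hq : p = q.comap (algebraMap R S)),
        Function.Bijective (Ideal.ResidueField.map p q (algebraMap R S) hq) →
          ∃! f : S →ₐ[R] Rh, (IsLocalRing.maximalIdeal Rh).comap f.toRingHom = q) ∧
    (∀ x : Rh, ∃ (S : Type u) (_ : CommRing S) (_ : Algebra R S) (_ : Algebra.Etale R S) (q : Ideal S)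
        (_ : q.IsPrime) (hq : p = q.comap (algebraMap R S)),
        Function.Bijective (Ideal.ResidueField.map p q (algebraMap R S) hq) ∧
          ∃ (f : S →ₐ[R] Rh) (s : S), (IsLocalRing.maximalIdeal Rh).comap f.toRingHom = q ∧ f s = x) ∧
    (∀ (S : Type u) [CommRing S] [Algebra R S] [Algebra.Etale R S] (q : Ideal S) [q.IsPrime]
        (hq : p = q.comap (algebraMap R S)),
        Function.Bijective (Ideal.ResidueField.map p q (algebraMap R S) hq) →
          ∀ (f : S →ₐ[R] Rh), (IsLocalRing.maximalIdeal Rh).comap f.toRingHom = q → ∀ s : S, f s = 0 →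
            ∃ (S' : Type u) (_ : CommRing S') (_ : Algebra R S') (_ : Algebra.Etale R S') (q' : Ideal S')
              (_ : q'.IsPrime) (hq' : p = q'.comap (algebraMap R S')),
              Function.Bijective (Ideal.ResidueField.map p q' (algebraMap R S') hq') ∧
                ∃ φ : S →ₐ[R] S', q'.comap φ.toRingHom = q ∧ φ s = 0) := by
  haveI : HenselianLocalRing Rh := Hensel.IsHenselization.henselian (R := Localization.AtPrime p)
  haveI := HenselBranchLib.flat_henselization_atPrime p Rh
  refine ⟨?_, ?_, ?_⟩
  · intro S _ _ _ q _ hq hbij
    let β := RingEquiv.ofBijective (Ideal.ResidueField.map p q (algebraMap R S) hq) hbij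
    let ρ : p.ResidueField →+* IsLocalRing.ResidueField Rh :=
      IsLocalRing.ResidueField.map (algebraMap (Localization.AtPrime p) Rh)
    let θ : S →+* IsLocalRing.ResidueField Rh := ρ.comp (β.symm.toRingHom.comp (algebraMap S q.ResidueField))
    have hθq : ∀ s, θ s = 0 ↔ s ∈ q := fun s => by
      show ρ (β.symm (algebraMap S q.ResidueField s)) = 0 ↔ _
      rw [map_eq_zero, map_eq_zero, Ideal.algebraMap_residueField_eq_zero]
    have hθ : θ.comp (algebraMap R S) = (IsLocalRing.residue Rh).comp (algebraMap R Rh) := RingHom.ext fun r => by
      show ρ (β.symm (algebraMap S q.ResidueField (algebraMap R S r))) = _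
      rw [← Ideal.ResidueField.map_algebraMap p q (algebraMap R S) hq r,
        show β.symm (Ideal.ResidueField.map p q (algebraMap R S) hq (algebraMap R p.ResidueField r)) =
          algebraMap R p.ResidueField r from β.injective ((β.apply_symm_apply _).trans rfl), RingHom.comp_apply,
        IsScalarTower.algebraMap_apply R (Localization.AtPrime p) Rh]
      rfl
    obtain ⟨f, hf, hfu⟩ := HenselLib.existsUnique_algHom θ hθ
    refine ⟨f, Ideal.ext fun s => ?_, fun f' hf' => hfu f' fun s => ?_⟩
    · show f s ∈ IsLocalRing.maximalIdeal Rh ↔ _
      rw [← IsLocalRing.residue_eq_zero_iff, hf, hθq]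
    · let F : q.ResidueField →+* IsLocalRing.ResidueField Rh :=
        Ideal.ResidueField.lift q ((IsLocalRing.residue Rh).comp f'.toRingHom)
          (fun u hu => Ideal.Quotient.eq_zero_iff_mem.2 (hf'.ge hu : f' u ∈ IsLocalRing.maximalIdeal Rh))
          (fun u hu => show IsUnit _ from isUnit_iff_ne_zero.2 fun h0 => hu (hf'.le ((IsLocalRing.residue_eq_zero_iff _).1 h0)))
      have hF : ∀ u : S, F (algebraMap S q.ResidueField u) = IsLocalRing.residue Rh (f' u) := fun u =>
        Ideal.ResidueField.lift_algebraMap q _ _ _ u
      have h1 : F.comp β.toRingHom = ρ := Ideal.ResidueField.ringHom_ext (RingHom.ext fun r => by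
        show F (Ideal.ResidueField.map p q (algebraMap R S) hq (algebraMap R p.ResidueField r)) = ρ (algebraMap R p.ResidueField r)
        rw [Ideal.ResidueField.map_algebraMap, hF]
        show IsLocalRing.residue Rh (f' (algebraMap R S r)) = _
        rw [AlgHom.commutes, IsScalarTower.algebraMap_apply R (Localization.AtPrime p) Rh]
        rfl)
      show _ = ρ (β.symm (algebraMap S q.ResidueField s))
      rw [← h1, RingHom.comp_apply, show β.toRingHom (β.symm (algebraMap S q.ResidueField s)) =
        algebraMap S q.ResidueField s from β.apply_symm_apply _, hF]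
  · intro x
    obtain ⟨U, _, _, _, f, u, hu⟩ := HenselBranchLib.etCov_henselization_atPrime p Rh x
    let q := (IsLocalRing.maximalIdeal Rh).comap f.toRingHom
    have hq : p = q.comap (algebraMap R U) := by
      show p = Ideal.comap _ (Ideal.comap f.toRingHom _)
      rw [Ideal.comap_comap, show f.toRingHom.comp (algebraMap R U) = algebraMap R Rh from f.comp_algebraMap]
      exact (HenselBranchLib.comap_maximalIdeal_hens p Rh).symm
    exact ⟨U, inferInstance, inferInstance, inferInstance, q, inferInstance, hq,
      HenselBranchLib.bijective_residue p Rh U f q rfl hq, f, u, rfl, hu⟩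
  · intro S _ _ _ q _ hq hbij f hf s hs
    obtain ⟨a, ha, ha'⟩ := HenselBranchLib.exists_isUnit_mul_eq_zero f.toRingHom
      (HenselBranchLib.flat_of_etale_hom f) s hs
    haveI : Algebra.Etale R (Localization.Away a) := Algebra.Etale.comp R S (Localization.Away a)
    let f' : Localization.Away a →ₐ[R] Rh := IsLocalization.Away.liftAlgHom a (f := f) ha
    let φ : S →ₐ[R] Localization.Away a := IsScalarTower.toAlgHom R S (Localization.Away a)
    have hff : f'.comp φ = f := by ext x; simp [f', φ]
    let q' := (IsLocalRing.maximalIdeal Rh).comap f'.toRingHom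
    have hq' : p = q'.comap (algebraMap R (Localization.Away a)) := by
      show p = Ideal.comap _ (Ideal.comap f'.toRingHom _)
      rw [Ideal.comap_comap, show f'.toRingHom.comp (algebraMap R (Localization.Away a)) = algebraMap R Rh from f'.comp_algebraMap]
      exact (HenselBranchLib.comap_maximalIdeal_hens p Rh).symm
    refine ⟨Localization.Away a, inferInstance, inferInstance, inferInstance, q', inferInstance, hq',
      HenselBranchLib.bijective_residue p Rh _ f' q' rfl hq', φ, ?_, ?_⟩
    · show Ideal.comap φ.toRingHom (Ideal.comap f'.toRingHom _) = q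
      rw [Ideal.comap_comap]
      exact (congrArg (fun g : S →ₐ[R] Rh => (IsLocalRing.maximalIdeal Rh).comap g.toRingHom) hff).trans hf
    · exact (IsLocalization.map_eq_zero_iff (Submonoid.powers a) _ s).2 ⟨⟨a, Submonoid.mem_powers a⟩, ha'⟩

end Groth.Agent.S9470
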