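import Groth.Statements.S4677
import Groth.Agent.GeomRedFieldLib.Points
-- import your own Groth.Agent.* helpers here

set_option autoImplicit false
open scoped TensorProduct
universe u
open FBase

namespace Groth.Agent.S4677

/-- Let K be a finitely generated extension field of a field k. Then there exists a finite purely
inseparable extension k' of k such that, for every maximal ideal m of the ring k' ⊗_k K, the residue
field (k' ⊗_k K)/m is geometrically reduced over k' (a separable, not necessarily algebraic,
extension of k'). -/
theorem result {k K : Type u} [Field k] [Field K] [Algebra k K]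
    [Algebra.EssFiniteType k K] :
    ∃ (k' : Type u) (_ : Field k') (_ : Algebra k k'), FiniteDimensional k k' ∧ IsPurelyInseparable k k' ∧
      ∀ (m : Ideal (k' ⊗[k] K)), m.IsMaximal → Algebra.IsGeometricallyReduced k' ((k' ⊗[k] K) ⧸ m) := by
  obtain ⟨k', i1, i2, h1, h2, h3⟩ := GeomRedFieldLib.exists_finite_purelyInseparable k (fun _ : PUnit.{1} ↦ K)
  refine ⟨k', i1, i2, h1, h2, fun m hm ↦ ?_⟩
  haveI := h2
  haveI := GeomRedFieldLib.subsingleton_primeSpectrum_tensor (k := k) k' K
  haveI := hm.isPrime
  haveI := h3 PUnit.unit
  exact GeomRedFieldLib.isGeometricallyReduced_congr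
    (Ideal.quotientEquivAlgOfEq k' (GeomRedFieldLib.eq_nilradical_of_subsingleton m).symm)

end Groth.Agent.S4677
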