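import Groth.Statements.S18285
import Groth.Agent.MagnetLib.Dominant

set_option autoImplicit false
universe u
open CategoryTheory MonoidalCategory CartesianMonoidalCategory MonObj AlgebraicGeometry Opposite
open Magnet

namespace Groth.Agent.S18285

/-- Let X be an S-scheme separated over S with an action of the diagonalizable monoid scheme A(M)_S of a
commutative monoid M, and N a submonoid of M. Then the canonical map from the attractor X^N to X
(evaluation at the unit section of A(N)_S) is a monomorphism: for every S-scheme T it is injective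
on T-points. (The published statement allows X to be an algebraic space over S; here X is a scheme.) -/
theorem result (S : Scheme.{u}) (M : Type) [AddCommMonoid M]
    (X : Over S) [IsSeparated X.hom] (a : Magnet.MonAct (Magnet.AMonS S M) X) (N : AddSubmonoid M) (T : Over S) :
    Function.Injective (fun φ => (Magnet.attrToX a N).app (op T) φ) := by
  intro φ ψ hφψ
  refine Subtype.ext (MagnetLib.eq_of_map_eq N.subtype Subtype.val_injective ?_)
  apply Magnet.hom_ext_lift₂
  intro R g t
  have key : ∀ χ : (Magnet.attr a N).obj (op T), lift g t ≫ (AMonS.map S N.subtype ▷ T) ≫ χ.1 =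
      lift g (t ≫ (Magnet.attrToX a N).app (op T) χ) ≫ a.act := fun χ => by
    have h := (MonAct.mem_eqvHom_iff χ.1).mp χ.2 R g (1 : R ⟶ AMonS S ↥N) t
    have e : lift g (1 : R ⟶ AMonS S ↥N) ≫ (Magnet.subAct S M N).act = g ≫ AMonS.map S N.subtype :=
      ((MonAct.lift_restrict_act _ _ g (1 : R ⟶ AMonS S ↥N)).trans (MonAct.lift_regular_act _ _)).trans (_root_.mul_one _)
    rw [e] at h
    rw [lift_whiskerRight_assoc, h]
    congr 2
    change _ = t ≫ lift (toUnit _ ≫ η[AMonS S ↥N]) (𝟙 _) ≫ χ.1
    rw [← Hom.one_def, ← Category.assoc, comp_lift, MonObj.comp_one, Category.comp_id]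
  rw [key φ, key ψ]
  exact congrArg (fun w => lift g (t ≫ w) ≫ a.act) hφψ


end Groth.Agent.S18285
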