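import Groth.Statements.S19787
import Groth.Agent.S18285
import Groth.Agent.EqLiftLib.Fam
-- import your own Groth.Agent.* helpers here

set_option autoImplicit false
universe u
open CategoryTheory MonoidalCategory CartesianMonoidalCategory MonObj AlgebraicGeometry Opposite
open GIT

namespace Groth.Agent.S19787

open Opposite

variable {S : Scheme.{u}} {G X : Over S} [GrpObj G] (a : AlgGrp.Action G X) (l : Red.Gm S ⟶ G) [IsMonHom l]

/-- Limit points are fixed. -/
theorem fixed_of_isLimitPt {T : Over S} {x y : T ⟶ X} (hy : HMNum.IsLimitPt a l x y) :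
    ∀ (T' : Over S) (g : T' ⟶ Red.Gm S) (t : T' ⟶ T), lift g (t ≫ y) ≫ (HMNum.gmAct a l).act = t ≫ y := by
  obtain ⟨φ, -, rfl⟩ := hy
  intro T' g t
  let b : T' ⟶ Magnet.AMonS S ↥(⊥ : AddSubmonoid ℤ) := 1
  have hb : t ≫ HMNum.limitPt φ = lift (b ≫ Magnet.AMonS.faceMap S HMNum.isFace_bot) t ≫ φ.1 := by
    rw [HMNum.limitPt_eq, ← Category.assoc, comp_lift, Category.comp_id, ← Category.assoc, comp_toUnit]
    change lift (toUnit T' ≫ η[Magnet.AMonS S ↥(⊥ : AddSubmonoid ℤ)] ≫ _) t ≫ φ.1 = _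
    rw [← Category.assoc, ← Hom.one_def]
  rw [hb, ← (Magnet.MonAct.mem_eqvHom_iff φ.1).mp φ.2]
  congr 2
  refine Eq.trans ((Magnet.MonAct.isEquivariant_iff _ _ _).mp
    (Magnet.isEquivariant_faceMapS S HMNum.isFace_bot) T' g b).symm ?_
  rw [← Category.assoc]
  congr 1
  refine AttrPtLib.chi_ext fun m => ?_
  have hm : m = 0 := Subtype.ext (AddSubmonoid.mem_bot.mp m.2)
  rw [hm, AttrPtLib.chi_zero, AttrPtLib.chi_zero]

/-- A fixed point is its own limit. -/
theorem isLimitPt_self {T : Over S} (y : T ⟶ X)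
    (hy : ∀ (T' : Over S) (g : T' ⟶ Red.Gm S) (t : T' ⟶ T), lift g (t ≫ y) ≫ (HMNum.gmAct a l).act = t ≫ y) :
    HMNum.IsLimitPt a l y y := by
  refine ⟨⟨snd _ _ ≫ y, (Magnet.MonAct.mem_eqvHom_iff _).mpr fun T' g b t => ?_⟩, ?_, ?_⟩
  · rw [← Category.assoc, lift_snd, ← Category.assoc, lift_snd]
    exact (hy T' g t).symm
  · change lift _ (𝟙 T) ≫ snd _ _ ≫ y = y
    rw [← Category.assoc, lift_snd, Category.id_comp]
  · rw [HMNum.limitPt_eq]
    change lift _ (𝟙 T) ≫ snd _ _ ≫ y = y
    rw [← Category.assoc, lift_snd, Category.id_comp]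

/-- Limits are unique on a separated scheme. -/
theorem limit_unique [IsSeparated X.hom] {T : Over S} {x y y' : T ⟶ X} (hy : HMNum.IsLimitPt a l x y)
    (hy' : HMNum.IsLimitPt a l x y') : y = y' := by
  obtain ⟨φ, hφ, rfl⟩ := hy
  obtain ⟨φ', hφ', rfl⟩ := hy'
  exact congrArg _ (Groth.Agent.S18285.result S ℤ X (HMNum.gmAct a l) HMNum.plus T (hφ.trans hφ'.symm))


/-- Let k be an algebraically closed field, G an algebraic group over k (a smooth group scheme of finite
type over k) acting by σ on a scheme X proper over k, L a G-linearised line bundle on X in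
total-space form, x a k-point of X, λ : 𝔾_m → G a one-parameter subgroup, and y the specialization
of λ(u)·x as u → 0 (the value at the origin of the 𝔾_m-equivariant extension to the affine line of
the orbit map u ↦ λ(u)·x). Then μ^L(x, λ) = μ^L(y, λ): the numerical function (the limit exists and
𝔾_m acts on the fibre of L over it with exponent m) takes the same values at (x, λ) and at the fixed
point (y, λ). -/
theorem result (k : Type u) [Field k] [IsAlgClosed k]
    (G X : Over (Spec (CommRingCat.of k))) [GrpObj G] [Smooth G.hom] [QuasiCompact G.hom] [IsProper X.hom]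
    (a : AlgGrp.Action G X) (B : GLinSh.LinBun G a) (x : 𝟙_ (Over (Spec (CommRingCat.of k))) ⟶ X)
    (l : Red.Gm (Spec (CommRingCat.of k)) ⟶ G) [IsMonHom l] (y : 𝟙_ (Over (Spec (CommRingCat.of k))) ⟶ X) (hy : HMNum.IsLimitPt a l x y)
    (m : ℤ) : HMNum.IsMu B l x m ↔ HMNum.IsMu B l y m := by
  have hyy : HMNum.IsLimitPt a l y y := isLimitPt_self a l y (fixed_of_isLimitPt a l hy)
  constructor
  · rintro ⟨y', hy', hw⟩
    obtain rfl := limit_unique a l hy' hy
    exact ⟨y', hyy, hw⟩
  · rintro ⟨y', hy', hw⟩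
    obtain rfl := limit_unique a l hy' hyy
    exact ⟨y', hy, hw⟩

end Groth.Agent.S19787
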