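import Groth.Statements.S15544
import Mathlib
import Groth.Agent.S7803
import Groth.Agent.BiratFPLib.Birational
import Groth.Agent.S9812

set_option autoImplicit false
open CategoryTheory AlgebraicGeometry
universe u
open Coherent

namespace Groth.Agent.S15544

/-- Let X and Y be integral schemes, Y locally Noetherian with all local rings integrally closed, and f
: X ⟶ Y a proper birational morphism (the generic point of X maps to that of Y and the stalk map
there is an isomorphism). Then every fibre of f is connected and nonempty. (The published statement
takes X and Y Noetherian; over a locally Noetherian Y this is the same assertion fibre by fibre.) -/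
theorem result {X Y : Scheme.{u}} [IsIntegral X]
    [IsIntegral Y] [IsLocallyNoetherian Y] (hY : Pi1.IsNormalScheme Y) (f : X ⟶ Y) [IsProper f]
    (hgen : f.base (genericPoint X) = genericPoint Y) (hbir : IsIso (f.stalkMap (genericPoint X)))
    (y : Y) : ConnectedSpace ↥(f.fiber y) := by
  haveI : IsDominant f := ⟨dense_iff_closure_eq.2 (Set.eq_univ_of_univ_subset (by
    rw [← (genericPoint_spec Y).def]
    exact closure_mono (Set.singleton_subset_iff.2 ⟨genericPoint X, hgen⟩)))⟩
  have hX : BiratFPLib.genPts X = {genericPoint X} := by
    ext x
    constructor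
    · exact fun hx => (BiratFPLib.genPts_eq_of_specializes hx (genericPoint_specializes x)).symm
    · rintro rfl
      show closure {genericPoint X} ∈ irreducibleComponents ↥X
      rw [(genericPoint_spec X).def, irreducibleComponents_eq_singleton]
      rfl
  have hY' : BiratFPLib.genPts Y = {genericPoint Y} := by
    ext x
    constructor
    · exact fun hx => (BiratFPLib.genPts_eq_of_specializes hx (genericPoint_specializes x)).symm
    · rintro rfl
      show closure {genericPoint Y} ∈ irreducibleComponents ↥Y
      rw [(genericPoint_spec Y).def, irreducibleComponents_eq_singleton]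
      rfl
  have hbij : Set.BijOn (fun x : X => f.base x) (BiratFPLib.genPts X) (BiratFPLib.genPts Y) := by
    rw [hX, hY', Set.bijOn_singleton]; exact hgen
  have hiso : ∀ x ∈ BiratFPLib.genPts X, IsIso (f.stalkMap x) := fun x hx => by
    rw [hX] at hx; rw [Set.mem_singleton_iff.1 hx]; exact hbir
  obtain ⟨U, hU, hoi, -⟩ := BiratFPLib.exists_dense_isOpenImmersion f
    (by rw [irreducibleComponents_eq_singleton]; exact Set.finite_singleton _) hbij hiso
    (Or.inl ⟨inferInstance, inferInstance⟩)
  haveI := hoi
  obtain ⟨V, hV, hisoV⟩ := BiratFPLib.exists_dense_isIso_restrict f hU hbij hiso (Or.inl inferInstance)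
  have hη : genericPoint Y ∈ V := by
    obtain ⟨v, hv⟩ := hV.nonempty
    exact (genericPoint_specializes v).mem_open V.2 hv
  haveI : IsIso (f.fiberToSpecResidueField (genericPoint Y)) := by
    let t : Spec (Y.residueField (genericPoint Y)) ⟶ V :=
      IsOpenImmersion.lift V.ι (Y.fromSpecResidueField (genericPoint Y)) (by
        rw [Scheme.range_fromSpecResidueField, Scheme.Opens.range_ι]
        exact Set.singleton_subset_iff.2 hη)
    have ht : t ≫ V.ι = Y.fromSpecResidueField (genericPoint Y) := IsOpenImmersion.lift_fac _ _ _
    let s : Spec (Y.residueField (genericPoint Y)) ⟶ X := t ≫ inv (f ∣_ V) ≫ (f ⁻¹ᵁ V).ι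
    have hs : s ≫ f = Y.fromSpecResidueField (genericPoint Y) := by
      simp only [s, Category.assoc, ← morphismRestrict_ι, IsIso.inv_hom_id_assoc, ht]
    have hp : IsPullback s (𝟙 _) f (Y.fromSpecResidueField (genericPoint Y)) := by
      rw [← ht]
      have h2 := (isPullback_morphismRestrict f V).flip
      have h1 : IsPullback (t ≫ inv (f ∣_ V)) (𝟙 _) (f ∣_ V) t :=
        IsPullback.of_vert_isIso ⟨by simp⟩
      simpa [s] using h1.paste_horiz h2
    have : f.fiberToSpecResidueField (genericPoint Y) = hp.isoPullback.inv := by
      have := hp.isoPullback_inv_snd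
      rw [Category.comp_id] at this
      exact this.symm
    rw [this]
    infer_instance
  have hgc : GeometricallyConnected (f.fiberToSpecResidueField (genericPoint Y)) := by
    refine ⟨fun K _ z Z fst snd h => ?_⟩
    haveI : IsIso snd := MorphismProperty.of_isPullback (P := MorphismProperty.isomorphisms Scheme) h
      (inferInstance : IsIso (f.fiberToSpecResidueField (genericPoint Y)))
    show ConnectedSpace Z
    exact (inv snd).surjective.connectedSpace (inv snd).continuous
  haveI := Groth.Agent.S7803.result f (fun s => by
    obtain ⟨h1, h2⟩ := hY s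
    haveI := h1; haveI := h2; exact Groth.Agent.S9812.result (Y.presheaf.stalk s)) hgc
  infer_instance

end Groth.Agent.S15544
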