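import Groth.Statements.S11325
import Groth.Agent.FLILib.Global
import Groth.Agent.FLILib.Invertible
import Groth.Agent.FLILib.LciPn
import Groth.Agent.ExtShLib.Dualizing

set_option autoImplicit false
set_option backward.isDefEq.respectTransparency false
set_option backward.isDefEq.respectTransparency.types false
universe u
open CategoryTheory CategoryTheory.Limits AlgebraicGeometry
attribute [local instance] HasDerivedCategory.standard
open ProjDual

namespace Groth.Agent.S11325

/-- Let k be a field, P = P^N_k and ι : X → P a closed immersion which makes X a local complete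
intersection of codimension r in P: every irreducible component of X has dimension N - r, and every
point of X has an affine open neighbourhood U in P on which the ideal of X is generated by r
sections. Let C be an r-th exterior power of the conormal sheaf of X in P (a locally free O_X-module
of rank one; its internal Hom functor is assumed to exist, which it does) and put M = ι^* O_P(-N-1)
⊗ Hom_{O_X}(C, O_X), that is ω_P ⊗ (∧^r of the conormal sheaf)^∨. Then M is a dualizing sheaf for X:
with n = N - r there is a k-linear map t : H^n(X, M) → k such that for every coherent O_X-module F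
and every k-linear form ψ on H^n(X, F) there is exactly one morphism φ : F → M with ψ = t ∘ H^n(φ).
(The published statement says that the dualizing sheaf of X is isomorphic to M, and in particular is
invertible; by uniqueness of dualizing sheaves this is the same assertion.) -/
theorem result
    (k : Type u) [Field k] (N r : ℕ) (hr : r ≤ N) (X : Scheme.{u}) [X.Over (Spec (CommRingCat.of k))]
    (ι : X ⟶ CohB1.ProjSpace N k) [IsClosedImmersion ι] (hι : ι ≫ CohB1.ProjSpace.toSpec N k = X ↘ Spec (CommRingCat.of k))
    (heq : ∀ Z : Set ↥X, Z ∈ irreducibleComponents ↥X → topologicalKrullDim ↥Z = ((N - r : ℕ) : WithBot ℕ∞))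
    (hgen : ∀ x : X, ∃ U : (CohB1.ProjSpace N k).affineOpens, ι.base x ∈ (U : (CohB1.ProjSpace N k).Opens) ∧
      ∃ f : Fin r → Γ(CohB1.ProjSpace N k, (U : (CohB1.ProjSpace N k).Opens)), ι.ker.ideal U = Ideal.span (Set.range f))
    (C : X.Modules) (hC : ExtPow.IsExtPow r (Omega.conormal ι) C) [DCoh.HasSheafHom C] :
    ∃ t : Coh.HH X (CohB1.tensorMod ((Scheme.Modules.pullback ι).obj (Twist.twistProjSpace N k (-((N : ℤ) + 1))))
        ((DCoh.sheafHom C).obj (Coh.structureModule X))) (N - r) →ₗ[k] k,
      ∀ F : X.Modules, Coh.IsCoh F → ∀ ψ : Coh.HH X F (N - r) →ₗ[k] k,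
        ∃! φ : F ⟶ (CohB1.tensorMod ((Scheme.Modules.pullback ι).obj (Twist.twistProjSpace N k (-((N : ℤ) + 1)))) ((DCoh.sheafHom C).obj (Coh.structureModule X))), ∀ x : Coh.HH X F (N - r),
          ψ x = t (Sheaf.H.map ((SheafOfModules.toSheaf X.ringCatSheaf).map φ) (N - r) x) := by
  let P := CohB1.ProjSpace N k
  let W := Twist.twistProjSpace N k (-((N : ℤ) + 1))
  haveI := PnCohLib.isLocallyNoetherian_projSpace (n := N) k
  haveI : HasInjectiveResolutions (ModSite.Mod P.sheaf) := inferInstanceAs (HasInjectiveResolutions P.Modules)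
  haveI : ModSite.HasSheafHom (O := P.sheaf) (ExtShLib.pO ι) := FLI.hasSheafHom _
  have hreg := FLI.regularOfCodim_lci k N r hr ι heq hgen
  have hcov := FLI.exists_chart hreg
  obtain ⟨φ₀, hφ⟩ := id hC
  let I : InjectiveResolution W := injectiveResolution W
  obtain ⟨a⟩ := FLI.nonempty_iso (I := I) φ₀ hφ hcov
  obtain ⟨b⟩ := ExtShLib.nonempty_extSh_iso I (ExtShLib.pO ι) r
  obtain ⟨c⟩ := FLI.nonempty_tensor_dual_iso (FLI.isInvertible_det hC hcov) ((Scheme.Modules.pullback ι).obj W)
  refine ExtShLib.exists_trace_of_extSh k N ι hι (N - r) (Nat.sub_le N r)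
    (fun q hq => ExtShLib.isZero_low_of_dim_le k N ι (N - r) (ExtShLib.dim_le_of_pure (N - r) heq) q hq) _ ?_
  rw [Nat.sub_sub_self hr]
  exact ⟨(Scheme.Modules.pushforward ι).mapIso
    (((DCoh.tensorBi (X := X)).obj _).mapIso (HomCohLib.sheafHomIso C (Coh.structureModule X)) ≪≫ c) ≪≫ a ≪≫ b.symm⟩

end Groth.Agent.S11325
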