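import Groth.Statements.S2005
import Mathlib
import Groth.Agent.GlueFlatLib.Basic
-- import your own Groth.Agent.* helpers here

set_option autoImplicit false
universe u
open TensorProduct
open EtAlg

namespace Groth.Agent.S2005

set_option maxHeartbeats 400000

/-- Let R -> R' induce bijections R/f^n R -> R'/f^n R' for all n > 0 and let M be an R-module. Then M is
glueable for (R -> R', f) if and only if m ↦ 1 ⊗ m maps the f-power torsion of M bijectively onto
the f-power torsion of R' ⊗_R M; and if (R -> R', f) is a glueing pair, injectivity on the f-power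
torsion already suffices. -/
theorem result (R R' : Type u) [CommRing R] [CommRing R'] [Algebra R R'] (f : R)
    (hq : EtGlue.QuotPowBijective R R' f) (M : Type u) [AddCommGroup M] [Module R M] :
    (EtGlue.IsGlueable R R' f M ↔
      ((∀ m : M, (∃ n : ℕ, f ^ n • m = 0) → (1 : R') ⊗ₜ[R] m = 0 → m = 0) ∧
       (∀ x : R' ⊗[R] M, (∃ n : ℕ, f ^ n • x = 0) → ∃ m : M, (∃ n : ℕ, f ^ n • m = 0) ∧ (1 : R') ⊗ₜ[R] m = x))) ∧
    (EtGlue.IsGlueingPair R R' f →
      (EtGlue.IsGlueable R R' f M ↔ ∀ m : M, (∃ n : ℕ, f ^ n • m = 0) → (1 : R') ⊗ₜ[R] m = 0 → m = 0)) := by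
  let S := Submonoid.powers f
  have hfwd : EtGlue.IsGlueable R R' f M →
      (∀ m : M, (∃ n : ℕ, f ^ n • m = 0) → (1 : R') ⊗ₜ[R] m = 0 → m = 0) := fun h m ⟨n, hn⟩ hm =>
    h.1 (Prod.ext (by simpa using hm) (by
      change LocalizedModule.mkLinearMap S M m = LocalizedModule.mkLinearMap S M 0
      rw [map_zero, IsLocalizedModule.eq_zero_iff S (LocalizedModule.mkLinearMap S M)]
      exact ⟨⟨f ^ n, n, rfl⟩, hn⟩))
  have hbwd : (∀ m : M, (∃ n : ℕ, f ^ n • m = 0) → (1 : R') ⊗ₜ[R] m = 0 → m = 0) →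
      (∀ x : R' ⊗[R] M, (∃ n : ℕ, f ^ n • x = 0) →
        ∃ m : M, (∃ n : ℕ, f ^ n • m = 0) ∧ (1 : R') ⊗ₜ[R] m = x) →
      EtGlue.IsGlueable R R' f M := by
    intro hi hs
    refine ⟨fun a b hab => ?_, fun x y hxy => ?_⟩
    · simp only [Prod.mk.injEq] at hab
      obtain ⟨⟨_, k, rfl⟩, hk⟩ := IsLocalizedModule.exists_of_eq (S := S) hab.2
      rw [← sub_eq_zero]
      refine hi _ ⟨k, ?_⟩ (by rw [TensorProduct.tmul_sub, hab.1, sub_self])
      rw [smul_sub, sub_eq_zero]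
      exact hk
    · induction y using LocalizedModule.induction_on with | h a s => ?_
      obtain ⟨s, n, rfl⟩ := s
      simp only [EtGlue.tensorOfLoc, EtGlue.locOfTensor, LocalizedModule.mkLinearMap_apply,
        IsLocalizedModule.map_LocalizedModules, TensorProduct.mk_apply, LocalizedModule.mk_eq,
        Submonoid.smul_def, OneMemClass.coe_one, one_smul] at hxy
      obtain ⟨⟨_, k, rfl⟩, hk⟩ := hxy
      rw [smul_smul, ← pow_add, ← TensorProduct.tmul_smul] at hk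
      have hC : ∀ q : M ⧸ (LinearMap.range (LinearMap.lsmul R M (f ^ (k + n)))),
          ∃ j : ℕ, f ^ j • q = 0 := fun q => by
        obtain ⟨b, rfl⟩ := Submodule.mkQ_surjective _ q
        exact ⟨k + n, by rw [← map_smul]; exact (Submodule.Quotient.mk_eq_zero _).2 ⟨b, rfl⟩⟩
      obtain ⟨_, _⟩ := Groth.Agent.GlueFlatLib.exists_module_of_torsion (R' := R') hq _ hC
      let μ := ((LinearMap.range (LinearMap.lsmul R M (f ^ (k + n)))).mkQ.liftBaseChange R').restrictScalars R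
      have h2 := congrArg μ hk
      rw [map_smul] at h2
      have h3 : ∀ q : M ⧸ (LinearMap.range (LinearMap.lsmul R M (f ^ (k + n)))),
          f ^ (k + n) • q = 0 := fun q => by
        obtain ⟨b, rfl⟩ := Submodule.mkQ_surjective _ q
        rw [← map_smul]; exact (Submodule.Quotient.mk_eq_zero _).2 ⟨b, rfl⟩
      rw [h3, show μ ((1 : R') ⊗ₜ (f ^ k • a)) = Submodule.mkQ _ (f ^ k • a) by simp [μ]] at h2
      obtain ⟨m₀, hm₀⟩ := (Submodule.Quotient.mk_eq_zero _).1 h2.symm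
      rw [LinearMap.lsmul_apply] at hm₀
      obtain ⟨t, ⟨j, hj⟩, ht⟩ := hs (x - (1 : R') ⊗ₜ[R] m₀) ⟨k + n, by
        rw [smul_sub, hk, ← TensorProduct.tmul_smul, hm₀, sub_self]⟩
      refine ⟨m₀ + t, by rw [TensorProduct.tmul_add, ht, add_sub_cancel], ?_⟩
      rw [LocalizedModule.mkLinearMap_apply, LocalizedModule.mk_eq]
      refine ⟨⟨f ^ (k + j), k + j, rfl⟩, ?_⟩
      simp only [Submonoid.smul_def, one_smul]
      rw [smul_add (f ^ n), smul_add]
      have e1 : f ^ (k + j) • f ^ n • m₀ = f ^ (k + j) • a := by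
        rw [smul_smul, ← pow_add, show k + j + n = j + (k + n) by ring, pow_add, mul_smul, hm₀,
          smul_smul, ← pow_add, add_comm j k]
      have e2 : f ^ (k + j) • f ^ n • t = 0 := by
        rw [smul_smul, ← pow_add, show k + j + n = k + n + j by ring, pow_add, mul_smul, hj, smul_zero]
      rw [e1, e2, add_zero]
  have hsurj : EtGlue.IsGlueable R R' f M →
      ∀ x : R' ⊗[R] M, (∃ n : ℕ, f ^ n • x = 0) →
        ∃ m : M, (∃ n : ℕ, f ^ n • m = 0) ∧ (1 : R') ⊗ₜ[R] m = x := fun h x ⟨n, hn⟩ => by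
    obtain ⟨m, h1, h2⟩ := h.2 x 0 (by
      rw [map_zero, IsLocalizedModule.eq_zero_iff S (EtGlue.locOfTensor R R' f M)]
      exact ⟨⟨f ^ n, n, rfl⟩, hn⟩)
    obtain ⟨⟨_, k, rfl⟩, hk⟩ :=
      (IsLocalizedModule.eq_zero_iff S (LocalizedModule.mkLinearMap S M)).1 h2
    exact ⟨m, ⟨k, hk⟩, h1⟩
  refine ⟨⟨fun h => ⟨hfwd h, hsurj h⟩, fun h => hbwd h.1 h.2⟩, fun hRR =>
    ⟨hfwd, fun h => hbwd h fun x ⟨n, hn⟩ => ?_⟩⟩
  obtain ⟨m, hm, j, hj⟩ := Groth.Agent.S2000.torsion_lift hRR M x n hn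
  exact ⟨m, ⟨j, hj⟩, hm⟩

end Groth.Agent.S2005
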