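import Groth.Statements.S10727
import Mathlib
import Groth.Agent.S2000
-- import your own Groth.Agent.* helpers here

set_option autoImplicit false
universe u
open TensorProduct
open EtAlg

namespace Groth.Agent.S10727

set_option maxHeartbeats 400000

open TensorProduct in
/-- The fibre product `A' ×_{R' ⊗ A₁} A₁` as an algebra. -/
noncomputable def glued {R R' A₁ A' : Type u} [CommRing R] [CommRing R'] [Algebra R R'] [CommRing A₁]
    [Algebra R A₁] [CommRing A'] [Algebra R A'] {L : Type u} [CommRing L] [Algebra A' L] [Algebra R' L]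
    [Algebra R L] [IsScalarTower R A' L]
    (φ : L →ₐ[R] R' ⊗[R] A₁) : Subalgebra R (A' × A₁) :=
  AlgHom.equalizer (φ.comp ((IsScalarTower.toAlgHom R A' L).comp (AlgHom.fst R A' A₁)))
    ((Algebra.TensorProduct.includeRight : A₁ →ₐ[R] R' ⊗[R] A₁).comp (AlgHom.snd R A' A₁))

open TensorProduct in
theorem mem_glued {R R' A₁ A' : Type u} [CommRing R] [CommRing R'] [Algebra R R'] [CommRing A₁]
    [Algebra R A₁] [CommRing A'] [Algebra R A'] {L : Type u} [CommRing L] [Algebra A' L] [Algebra R' L]
    [Algebra R L] [IsScalarTower R A' L]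
    (φ : L →ₐ[R] R' ⊗[R] A₁) (z : A' × A₁) :
    z ∈ glued φ ↔ φ (algebraMap A' L z.1) = (1 : R') ⊗ₜ[R] z.2 := Iff.rfl

/-- Glueing affine schemes along a glueing pair, stated for their coordinate rings. Let `(R → R', f)` be
a glueing pair, `A₁` an `R`-algebra in which `f` is invertible, `A'` an `R'`-algebra and `φ : A'_f ≅
R' ⊗_R A₁` an isomorphism of `R'`-algebras. Then there is an `R`-algebra `A`, glueable as an
`R`-module, with isomorphisms `A_f ≅ A₁` of `R`-algebras and `R' ⊗_R A ≅ A'` of `R'`-algebras under
which `φ` is the canonical identification `(R' ⊗_R A)_f = R' ⊗_R A_f`. (The published statement is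
that base change is an equivalence between affine schemes over `Spec R` that are glueable and
triples of affine schemes over `Spec R_f`, `Spec R'_f`, `Spec R'` with cartesian squares; this row
states only that every such triple arises, on coordinate rings.) -/
theorem result (R : Type u) [CommRing R] (R' : Type u) [CommRing R'] [Algebra R R']
    (f : R) (hRR' : EtGlue.IsGlueingPair R R' f) (A₁ : Type u) [CommRing A₁] [Algebra R A₁]
    (h₁ : IsUnit (algebraMap R A₁ f)) (A' : Type u) [CommRing A'] [Algebra R A'] [Algebra R' A']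
    [IsScalarTower R R' A'] (φ : Localization.Away (algebraMap R A' f) ≃ₐ[R'] R' ⊗[R] A₁) :
    ∃ (A : Type u) (_ : CommRing A) (_ : Algebra R A) (_ : EtGlue.IsGlueable R R' f A)
      (e₁ : Localization.Away (algebraMap R A f) ≃ₐ[R] A₁) (e' : R' ⊗[R] A ≃ₐ[R'] A'),
      ∀ a : A, φ (algebraMap A' (Localization.Away (algebraMap R A' f)) (e' ((1 : R') ⊗ₜ[R] a))) =
        (1 : R') ⊗ₜ[R] e₁ (algebraMap A (Localization.Away (algebraMap R A f)) a) := by
  have : IsScalarTower R R' (Localization.Away (algebraMap R A' f)) :=
    IsScalarTower.of_algebraMap_eq fun r => by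
      rw [IsScalarTower.algebraMap_apply R A' (Localization.Away (algebraMap R A' f)) r,
        IsScalarTower.algebraMap_apply R' A' (Localization.Away (algebraMap R A' f)),
        ← IsScalarTower.algebraMap_apply R R' A']
  let l : A' →ₗ[R'] Localization.Away (algebraMap R A' f) :=
    (IsScalarTower.toAlgHom R' A' _).toLinearMap
  have : IsLocalizedModule (Submonoid.powers (algebraMap R R' f)) l := by
    have : IsLocalization (Algebra.algebraMapSubmonoid A' (Submonoid.powers (algebraMap R R' f)))
        (Localization.Away (algebraMap R A' f)) := by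
      rw [Algebra.algebraMapSubmonoid, Submonoid.map_powers, ← IsScalarTower.algebraMap_apply]
      infer_instance
    exact isLocalizedModule_iff_isLocalization.2 this
  have hf : Function.Bijective fun x : A₁ => f • x := by
    obtain ⟨u, hu⟩ := h₁
    exact ⟨fun x y h => by
      simp only [Algebra.smul_def, ← hu] at h
      exact u.mul_right_inj.1 h, fun y => ⟨↑u⁻¹ * y, by
      simp only [Algebra.smul_def, ← hu]; exact u.mul_inv_cancel_left y⟩⟩
  let il := IsLocalizedModule.iso (Submonoid.powers (algebraMap R R' f)) l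
  obtain ⟨M, _, _, hM, e', e₁, hcomp⟩ :=
    Groth.Agent.S2000.result R R' f hRR' A' A₁ hf (il.trans φ.toLinearEquiv)
  have hcomp' : ∀ m : M, φ (algebraMap A' _ (e' ((1 : R') ⊗ₜ[R] m))) =
      (1 : R') ⊗ₜ[R] e₁ (LocalizedModule.mkLinearMap (Submonoid.powers f) M m) := fun m => by
    rw [← hcomp m, LinearEquiv.trans_apply]
    simp only [il, LocalizedModule.mkLinearMap_apply, IsLocalizedModule.iso_mk_one]
    rfl
  let φR : Localization.Away (algebraMap R A' f) →ₐ[R] R' ⊗[R] A₁ := φ.toAlgHom.restrictScalars R
  let A := glued (A' := A') φR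
  let ι : M →ₗ[R] A :=
    LinearMap.codRestrict A.toSubmodule
      (((e'.toLinearMap.restrictScalars R) ∘ₗ TensorProduct.mk R R' M 1).prod
        (e₁.toLinearMap ∘ₗ LocalizedModule.mkLinearMap (Submonoid.powers f) M))
      fun m => (mem_glued _ _).2 (hcomp' m)
  have hι : Function.Bijective ι := by
    refine ⟨fun m n h => hM.1 (Prod.ext
      (e'.injective (congrArg (fun z : A => z.1.1) h))
      (e₁.injective (congrArg (fun z : A => z.1.2) h))), fun ⟨⟨x, y⟩, hxy⟩ => ?_⟩
    have hxy' : φ (algebraMap A' _ x) = (1 : R') ⊗ₜ[R] y := (mem_glued _ _).1 hxy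
    obtain ⟨⟨m, ⟨_, n, rfl⟩⟩, hm⟩ := IsLocalizedModule.surj (Submonoid.powers f)
      (LocalizedModule.mkLinearMap (Submonoid.powers f) M) (e₁.symm y)
    simp only [Submonoid.smul_def] at hm
    have h0 : algebraMap A' (Localization.Away (algebraMap R A' f)) (f ^ n • x) =
        algebraMap A' _ (e' ((1 : R') ⊗ₜ[R] m)) := by
      apply φ.injective
      rw [hcomp', ← hm, map_smul e₁, e₁.apply_symm_apply, TensorProduct.tmul_smul, ← hxy',
        Algebra.smul_def, map_mul, ← IsScalarTower.algebraMap_apply R A' _]
      change φR (algebraMap R _ (f ^ n) * algebraMap A' _ x) = f ^ n • φR (algebraMap A' _ x)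
      rw [← Algebra.smul_def, map_smul]
    obtain ⟨⟨_, k, rfl⟩, hk⟩ :=
      IsLocalization.exists_of_eq (M := Submonoid.powers (algebraMap R A' f)) h0
    obtain ⟨m', h1, h2⟩ := hM.2 (e'.symm x) (e₁.symm y) (by
      obtain ⟨z, hz⟩ := e'.surjective x
      subst hz
      rw [e'.symm_apply_apply]
      have h' : f ^ k • (f ^ n • z) = f ^ k • ((1 : R') ⊗ₜ[R] m) := by
        apply e'.injective
        rw [← algebraMap_smul R' (f ^ k), ← algebraMap_smul R' (f ^ k) ((1 : R') ⊗ₜ[R] m),
          ← algebraMap_smul R' (f ^ n), map_smul, map_smul, map_smul, algebraMap_smul, algebraMap_smul,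
          algebraMap_smul, Algebra.smul_def, Algebra.smul_def, Algebra.smul_def, map_pow, map_pow]
        simp only [Algebra.smul_def, map_pow] at hk
        exact hk
      have hy : e₁.symm y = LocalizedModule.mk m (⟨f ^ n, n, rfl⟩ : Submonoid.powers f) := by
        have hu : IsUnit (algebraMap R (Module.End R (LocalizedModule (Submonoid.powers f) M)) (f ^ n)) :=
          IsLocalizedModule.map_units (LocalizedModule.mkLinearMap (Submonoid.powers f) M)
            (⟨f ^ n, n, rfl⟩ : Submonoid.powers f)
        rw [Module.End.isUnit_iff] at hu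
        apply hu.1
        simp only [Module.algebraMap_end_apply]
        rw [hm, LocalizedModule.smul'_mk, LocalizedModule.mkLinearMap_apply]
        exact (LocalizedModule.mk_cancel (⟨f ^ n, n, rfl⟩ : Submonoid.powers f) m).symm
      rw [hy]
      simp only [EtGlue.tensorOfLoc, EtGlue.locOfTensor, LocalizedModule.mkLinearMap_apply,
        IsLocalizedModule.map_LocalizedModules, TensorProduct.mk_apply]
      rw [LocalizedModule.mk_eq]
      refine ⟨⟨f ^ k, k, rfl⟩, ?_⟩
      simp only [Submonoid.smul_def, one_smul]
      exact h')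
    refine ⟨m', Subtype.ext (Prod.ext ?_ ?_)⟩
    · change e' ((1 : R') ⊗ₜ[R] m') = x
      rw [h1, e'.apply_symm_apply]
    · change e₁ (LocalizedModule.mkLinearMap (Submonoid.powers f) M m') = y
      rw [h2, e₁.apply_symm_apply]
  let E : M ≃ₗ[R] A := LinearEquiv.ofBijective ι hι
  have hAglue : EtGlue.IsGlueable R R' f A := by
    refine ⟨fun a b h => ?_, fun x y hxy => ?_⟩
    · simp only [Prod.mk.injEq] at h
      obtain ⟨m, rfl⟩ := E.surjective a
      obtain ⟨n, rfl⟩ := E.surjective b
      refine congrArg E (hM.1 (Prod.ext ?_ ?_))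
      · have := congrArg (E.symm.toLinearMap.lTensor R') h.1
        simpa using this
      · have := congrArg (IsLocalizedModule.map (Submonoid.powers f)
          (LocalizedModule.mkLinearMap (Submonoid.powers f) A)
          (LocalizedModule.mkLinearMap (Submonoid.powers f) M) E.symm.toLinearMap) h.2
        simpa only [IsLocalizedModule.map_apply, LinearEquiv.coe_coe, E.symm_apply_apply] using this
    · induction y using LocalizedModule.induction_on with | h a s => ?_
      obtain ⟨m, rfl⟩ := E.surjective a
      simp only [EtGlue.tensorOfLoc, EtGlue.locOfTensor, LocalizedModule.mkLinearMap_apply,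
        IsLocalizedModule.map_LocalizedModules, TensorProduct.mk_apply, LocalizedModule.mk_eq,
        Submonoid.smul_def, OneMemClass.coe_one, one_smul] at hxy
      obtain ⟨c, hc⟩ := hxy
      have hc' := congrArg (E.symm.toLinearMap.lTensor R') hc
      simp only [map_smul, LinearMap.lTensor_tmul, LinearEquiv.coe_coe, E.symm_apply_apply] at hc'
      obtain ⟨m', h1, h2⟩ := hM.2 (E.symm.toLinearMap.lTensor R' x) (LocalizedModule.mk m s) (by
        simp only [EtGlue.tensorOfLoc, EtGlue.locOfTensor, LocalizedModule.mkLinearMap_apply,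
          IsLocalizedModule.map_LocalizedModules, TensorProduct.mk_apply, LocalizedModule.mk_eq,
          Submonoid.smul_def, OneMemClass.coe_one, one_smul]
        exact ⟨c, hc'⟩)
      refine ⟨E m', ?_, ?_⟩
      · have := congrArg (E.toLinearMap.lTensor R') h1
        rw [LinearMap.lTensor_tmul, ← LinearMap.lTensor_comp_apply] at this
        simpa using this
      · have := congrArg (IsLocalizedModule.map (Submonoid.powers f)
          (LocalizedModule.mkLinearMap (Submonoid.powers f) M)
          (LocalizedModule.mkLinearMap (Submonoid.powers f) A) E.toLinearMap) h2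
        rw [IsLocalizedModule.map_apply, IsLocalizedModule.map_LocalizedModules] at this
        exact this
  -- the two projections
  let π₁ : A →ₐ[R] A' := (AlgHom.fst R A' A₁).comp A.val
  let π₂ : A →ₐ[R] A₁ := (AlgHom.snd R A' A₁).comp A.val
  let ψ : R' ⊗[R] A →ₐ[R'] A' :=
    Algebra.TensorProduct.lift (Algebra.ofId R' A') π₁ fun _ _ => Commute.all _ _
  have hψ : Function.Bijective ψ := by
    have : ⇑ψ = e' ∘ (E.symm.toLinearMap.lTensor R') := funext fun t => by
      induction t using TensorProduct.induction_on with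
      | zero => simp
      | add a b ha hb => rw [map_add, ha, hb, Function.comp_apply, Function.comp_apply,
          Function.comp_apply, map_add, map_add]
      | tmul r a =>
        obtain ⟨m, rfl⟩ := E.surjective a
        rw [Function.comp_apply, LinearMap.lTensor_tmul, LinearEquiv.coe_coe, E.symm_apply_apply,
          show r ⊗ₜ[R] m = r • ((1 : R') ⊗ₜ[R] m) by rw [TensorProduct.smul_tmul', smul_eq_mul, mul_one],
          map_smul, Algebra.smul_def]
        change algebraMap R' A' r * π₁ (E m) = _
        rfl
    rw [this]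
    exact e'.bijective.comp (LinearEquiv.lTensor R' E.symm).bijective
  let := π₂.toRingHom.toAlgebra
  have : IsScalarTower R A A₁ := IsScalarTower.of_algebraMap_eq fun r => (π₂.commutes r).symm
  have : IsLocalization.Away (algebraMap R A f) A₁ := by
    refine ⟨?_, ?_, ?_⟩
    · rintro ⟨_, n, rfl⟩
      rw [map_pow, ← IsScalarTower.algebraMap_apply R A A₁]
      exact h₁.pow n
    · intro y
      obtain ⟨⟨m, ⟨_, n, rfl⟩⟩, hm⟩ := IsLocalizedModule.surj (Submonoid.powers f)
        (LocalizedModule.mkLinearMap (Submonoid.powers f) M) (e₁.symm y)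
      refine ⟨⟨E m, ⟨_, n, rfl⟩⟩, ?_⟩
      change y * algebraMap A A₁ (algebraMap R A f ^ n) = π₂ (E m)
      change _ = e₁ (LocalizedModule.mkLinearMap (Submonoid.powers f) M m)
      rw [← hm, Submonoid.smul_def, map_smul, e₁.apply_symm_apply, map_pow,
        ← IsScalarTower.algebraMap_apply, Algebra.smul_def, map_pow, mul_comm]
    · intro a b hab
      obtain ⟨m, rfl⟩ := E.surjective a
      obtain ⟨n, rfl⟩ := E.surjective b
      have := e₁.injective (show e₁ (LocalizedModule.mkLinearMap (Submonoid.powers f) M m) =
        e₁ (LocalizedModule.mkLinearMap (Submonoid.powers f) M n) from hab)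
      obtain ⟨⟨_, k, rfl⟩, hk⟩ := IsLocalizedModule.exists_of_eq (S := Submonoid.powers f) this
      refine ⟨⟨_, k, rfl⟩, ?_⟩
      have h := congrArg E hk
      simp only [Submonoid.smul_def, map_smul, Algebra.smul_def, map_pow] at h
      exact h
  let E₁ : Localization.Away (algebraMap R A f) ≃ₐ[R] A₁ :=
    (IsLocalization.algEquiv (Submonoid.powers (algebraMap R A f)) _ A₁).restrictScalars R
  refine ⟨A, inferInstance, inferInstance, hAglue, E₁, AlgEquiv.ofBijective ψ hψ, fun a => ?_⟩
  have h₂ : E₁ (algebraMap A _ a) = π₂ a :=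
    (IsLocalization.algEquiv (Submonoid.powers (algebraMap R A f))
      (Localization.Away (algebraMap R A f)) A₁).commutes a
  rw [h₂, AlgEquiv.ofBijective_apply, Algebra.TensorProduct.lift_tmul, map_one, one_mul]
  exact (mem_glued φR a.1).1 a.2

end Groth.Agent.S10727
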