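import Groth.Statements.S13465
import Groth.Agent.GaBidualLib.Sheaf
import Groth.Agent.GaBidualLib.CharP

set_option autoImplicit false
set_option backward.isDefEq.respectTransparency false
set_option backward.isDefEq.respectTransparency.types false
set_option maxRecDepth 8000
set_option maxHeartbeats 1000000
universe u
open GaDual

namespace Groth.Agent.S13465

open CategoryTheory AlgebraicGeometry in
/-- For a scheme X over the prime field with p elements (p = 0 in the global sections of X), the
canonical map from the additive group to its double dual, as abelian sheaves on the big fppf site of
X with the dual taken as internal Hom into the multiplicative group, is an isomorphism. (The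
published statement also covers schemes over the rationals; that case is a separate row.) -/
theorem result (X : Scheme.{u}) (p : ℕ) [Fact p.Prime]
    (hp : (p : Γ(X, ⊤)) = 0) :
    IsIso (CGrpSh2.toDoubleDual Scheme.fppfPrecoverage (CGrpSh2.Ga Scheme.fppfPrecoverage X)) := by
  refine GaBidualLib.isIso_toDoubleDual_Ga fun A c Θ => ?_
  have hA : (p : A) = 0 := by
    have h := congrArg (fun s => (Scheme.ΓSpecIso A).hom (c.appTop s)) hp
    simpa using h
  exact Θ.exists_eq_eval_of_charP p hA

end Groth.Agent.S13465
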