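import Groth.Statements.S13466
import Groth.Agent.GaBidualLib.Sheaf
import Groth.Agent.GaBidualLib.CharZero

set_option autoImplicit false
set_option backward.isDefEq.respectTransparency false
set_option backward.isDefEq.respectTransparency.types false
set_option maxRecDepth 8000
set_option maxHeartbeats 1000000
universe u
open GaDual

namespace Groth.Agent.S13466

open CategoryTheory AlgebraicGeometry in
/-- For a scheme X over the rationals (every positive integer invertible in the global sections of X),
the canonical map from the additive group to its double dual, as abelian sheaves on the big fppf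
site of X with the dual taken as internal Hom into the multiplicative group, is an isomorphism. (The
published statement also covers schemes over a prime field; that case is a separate row.) -/
theorem result (X : Scheme.{u})
    (hQ : ∀ n : ℕ, 0 < n → IsUnit ((n : Γ(X, ⊤)))) :
    IsIso (CGrpSh2.toDoubleDual Scheme.fppfPrecoverage (CGrpSh2.Ga Scheme.fppfPrecoverage X)) := by
  refine GaBidualLib.isIso_toDoubleDual_Ga fun A c Θ => ?_
  have hu : ∀ n : ℕ, 0 < n → IsUnit (n : A) := fun n hn => by
    simpa using ((hQ n hn).map c.appTop.hom).map (Scheme.ΓSpecIso A).hom.hom
  have hz : ∀ y : nonZeroDivisors ℤ, IsUnit (algebraMap ℤ A y) := fun y => by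
    have h := hu (y : ℤ).natAbs (Int.natAbs_pos.2 (nonZeroDivisors.ne_zero y.2))
    rcases Int.natAbs_eq (y : ℤ) with h1 | h1 <;> rw [h1]
    · simpa only [eq_intCast, Int.cast_natCast] using h
    · simpa only [eq_intCast, Int.cast_neg, Int.cast_natCast, IsUnit.neg_iff] using h
  letI : Algebra ℚ A := (IsLocalization.lift (S := ℚ) hz).toAlgebra
  exact Θ.exists_eq_eval_of_rat

end Groth.Agent.S13466
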