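import Groth.Statements.S4059
import Groth.Agent.UnipKerLib.PowFibre
import Groth.Agent.UnipKerLib.NoGa
import Groth.Agent.ChowLib.SchDom
import Groth.Agent.CubeConsLib.FieldHom

set_option autoImplicit false
set_option backward.isDefEq.respectTransparency false
set_option maxHeartbeats 2000000
universe u
open CategoryTheory CategoryTheory.Limits MonoidalCategory CartesianMonoidalCategory AlgebraicGeometry MonObj
open SGA7

namespace Groth.Agent.S4059

/-- A flat group scheme with commutative schematically dense restriction is commutative. -/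
theorem isCommMonObj_of_generic {S T : Scheme.{u}} (G : Over S) [GrpObj G] [IsSeparated G.hom] [Flat (G ⊗ G).hom]
    (ξ : T ⟶ S) [IsSchemeTheoreticallyDominant ξ] [QuasiCompact ξ]
    [h : letI : GrpObj ((Over.pullback ξ).obj G) := Functor.grpObjObj
      IsCommMonObj ((Over.pullback ξ).obj G)] : IsCommMonObj G := by
  letI : GrpObj ((Over.pullback ξ).obj G) := Functor.grpObjObj
  refine ⟨Over.OverMorphism.ext (ChowLib.hom_ext_of_schDom (Limits.pullback.fst (G ⊗ G).hom ξ) G.hom ?_ ?_)⟩
  · rw [Over.w, Over.w]
  · let T' : Over T := Over.mk (Limits.pullback.snd (G ⊗ G).hom ξ)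
    let j : (Over.map ξ).obj T' ⟶ G ⊗ G := Over.homMk (Limits.pullback.fst (G ⊗ G).hom ξ) Limits.pullback.condition
    suffices h : j ≫ (β_ G G).hom ≫ μ[G] = j ≫ μ[G] from congrArg CommaMorphism.left h
    let g := j ≫ fst G G
    let g' := j ≫ snd G G
    have e1 : j ≫ μ[G] = g * g' := by rw [Hom.mul_def, ← comp_lift, lift_fst_snd, Category.comp_id]
    have e2 : j ≫ (β_ G G).hom ≫ μ[G] = g' * g := by
      rw [Hom.mul_def, show (β_ G G).hom = lift (snd G G) (fst G G) from
        CartesianMonoidalCategory.hom_ext _ _ (by simp) (by simp), ← Category.assoc, comp_lift]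
    rw [e1, e2]
    let e := (Over.mapPullbackAdj ξ).homEquiv T' G
    have he : ∀ a b : (Over.map ξ).obj T' ⟶ G, e (a * b) = (e a : T' ⟶ (Over.pullback ξ).obj G) * e b := fun a b => by
      simp only [e, Adjunction.homEquiv_unit, Functor.map_mul, MonObj.comp_mul]
    refine e.injective ?_
    rw [he, he]
    exact _root_.mul_comm _ _

/-- The four equivalent conditions, for a group scheme with the properties of the identity component of
a Néron model: let R be a discrete valuation ring with fraction field K and G a smooth separated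
group scheme of finite type over Spec R with connected fibres whose generic fibre is an abelian
variety over K (proper and geometrically integral); let m > 0 and write [m] : G -> G for the m-th
power morphism. The following are equivalent: (i) [m] is flat; (ii) [m] is surjective; (iii) [m] is
locally quasi-finite; (iv) m is invertible in the residue field of R, or the geometric special fibre
of G contains no copy of the additive group. -/
theorem result (R K : Type u) [CommRing R] [IsDomain R] [IsDiscreteValuationRing R] [Field K]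
    [Algebra R K] [IsFractionRing R K]
    (G : Over (Spec (CommRingCat.of R))) [GrpObj G] [Smooth G.hom] [IsSeparated G.hom] [QuasiCompact G.hom]
    (hconn : ∀ s : ↥(Spec (CommRingCat.of R)), ConnectedSpace ↥(Red.bc ((Spec (CommRingCat.of R)).fromSpecResidueField s) G).left)
    [IsProper ((SGA7.genFib R K).obj G).hom] [GeometricallyIntegral ((SGA7.genFib R K).obj G).hom]
    (m : ℕ) (hm : 0 < m) :
    [Flat ((𝟙 G : G ⟶ G) ^ m).left, Surjective ((𝟙 G : G ⟶ G) ^ m).left,
      LocallyQuasiFinite ((𝟙 G : G ⟶ G) ^ m).left,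
      (m : IsLocalRing.ResidueField R) ≠ 0 ∨
        SGA7.FibreUnipotentRankZero (IsLocalRing.closedPoint R) G].TFAE := by
  let ξK := Spec.map (CommRingCat.ofHom (algebraMap R K))
  haveI : IsDominant ξK := ⟨by
    show DenseRange (PrimeSpectrum.comap (algebraMap R K))
    rw [PrimeSpectrum.denseRange_comap_iff_ker_le_nilRadical,
      (RingHom.injective_iff_ker_eq_bot _).1 (IsFractionRing.injective R K)]
    exact bot_le⟩
  haveI : IsSchemeTheoreticallyDominant ξK := IsSchemeTheoreticallyDominant.of_isDominant ξK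
  haveI : Flat (G ⊗ G).hom := by
    have h : Flat ((fst G G).left ≫ G.hom) := by
      haveI : Flat (fst G G).left := inferInstanceAs (Flat (Limits.pullback.fst G.hom G.hom))
      infer_instance
    rwa [Over.w] at h
  letI : GrpObj ((SGA7.genFib R K).obj G) := Functor.grpObjObj
  haveI hcK : IsCommMonObj ((SGA7.genFib R K).obj G) := CubeConsLib.isCommMonObj_field
  haveI : IsCommMonObj G := isCommMonObj_of_generic G ξK
  let f := ((𝟙 G : G ⟶ G) ^ m).left
  haveI : LocallyOfFiniteType (f ≫ G.hom) := by rw [Over.w]; infer_instance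
  haveI : LocallyOfFiniteType f := locallyOfFiniteType_of_comp f G.hom
  -- geometric fibres
  have hdata : ∀ (L : Type u) [Field L] [IsAlgClosed L] (ξ : Spec (CommRingCat.of L) ⟶ Spec (CommRingCat.of R)),
      ConnectedSpace ↥((Over.pullback ξ).obj G).left := by
    intro L _ _ ξ
    let x := ξ.base (IsLocalRing.closedPoint L)
    obtain ⟨ε, hε⟩ := WeightLib.exists_eq_specMap_fromSpecResidueField ξ (x := x) rfl
    let b := (Spec (CommRingCat.of R)).fromSpecResidueField x
    haveI : ConnectedSpace ↥((Over.pullback b).obj G).left := hconn x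
    letI : GrpObj ((Over.pullback b).obj G) := Functor.grpObjObj
    haveI : Smooth ((Over.pullback b).obj G).hom := inferInstanceAs (Smooth (pullback.snd G.hom b))
    haveI : QuasiCompact ((Over.pullback b).obj G).hom := inferInstanceAs (QuasiCompact (pullback.snd G.hom b))
    haveI : GeometricallyIntegral ((Over.pullback b).obj G).hom :=
      AlbLib.geometricallyIntegral_grp (k := (Spec (CommRingCat.of R)).residueField x) ((Over.pullback b).obj G)
    haveI : GeometricallyIntegral (Red.bc (Spec.map ε) (Red.bc b G)).hom :=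
      inferInstanceAs (GeometricallyIntegral (pullback.snd ((Over.pullback b).obj G).hom (Spec.map ε)))
    haveI : ConnectedSpace ↥(Red.bc (Spec.map ε) (Red.bc b G)).left := AlbLib.connectedSpace_gi _
    obtain ⟨e, -⟩ := AlbLib.exists_bc_comp (Spec.map ε) b G
    rw [hε] at e
    haveI : IsIso e.inv.left := inferInstance
    exact e.inv.left.homeomorph.surjective.connectedSpace e.inv.left.continuous
  have hgen : ∀ (L : Type u) [Field L] [IsAlgClosed L] (ξ : Spec (CommRingCat.of L) ⟶ Spec (CommRingCat.of R)),
      (ξ.base (IsLocalRing.closedPoint L)).asIdeal = ⊥ → Surjective ((Over.pullback ξ).map ((𝟙 G : G ⟶ G) ^ m)).left := by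
    intro L _ _ ξ hx
    let ψ := Spec.preimage ξ
    have hψ : Function.Injective ψ.hom := by
      rw [RingHom.injective_iff_ker_eq_bot, RingHom.ker_eq_comap_bot, ← IsLocalRing.maximalIdeal_eq_bot]
      rw [show ξ = Spec.map ψ from (Spec.map_preimage ξ).symm] at hx
      exact hx
    let g := Spec.map (CommRingCat.ofHom (IsFractionRing.lift (K := K) hψ))
    have hg : g ≫ ξK = ξ := by
      rw [← Spec.map_preimage ξ, ← Spec.map_comp]
      congr 1
      exact CommRingCat.hom_ext (RingHom.ext fun r => IsFractionRing.lift_algebraMap hψ r)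
    let GLf := (Over.pullback ξ).obj G
    letI : GrpObj GLf := Functor.grpObjObj
    obtain ⟨e, -⟩ := AlbLib.exists_bc_comp g ξK G
    rw [hg] at e
    haveI hp : IsProper (Red.bc g (Red.bc ξK G)).hom :=
      inferInstanceAs (IsProper (pullback.snd ((SGA7.genFib R K).obj G).hom g))
    haveI hgi : GeometricallyIntegral (Red.bc g (Red.bc ξK G)).hom :=
      inferInstanceAs (GeometricallyIntegral (pullback.snd ((SGA7.genFib R K).obj G).hom g))
    haveI : IsIso e.hom.left := inferInstance
    haveI : IsProper GLf.hom := by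
      rw [← Over.w e.hom]; exact (MorphismProperty.cancel_left_of_respectsIso @IsProper _ _).2 hp
    haveI : GeometricallyIntegral GLf.hom := by
      rw [← Over.w e.hom]; exact (MorphismProperty.cancel_left_of_respectsIso @GeometricallyIntegral _ _).2 hgi
    rw [UnipKerLib.pullback_map_pow, ← zpow_natCast]
    exact AVAmpleLib.surjective_zpow GLf (Int.natCast_ne_zero.2 hm.ne')
  -- fibrewise criteria
  have hspec : ∀ (L : Type u) [Field L] [IsAlgClosed L] (ξ : Spec (CommRingCat.of L) ⟶ Spec (CommRingCat.of R)),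
      (Flat ((Over.pullback ξ).map ((𝟙 G : G ⟶ G) ^ m)).left → Surjective ((Over.pullback ξ).map ((𝟙 G : G ⟶ G) ^ m)).left) ∧
      (Surjective ((Over.pullback ξ).map ((𝟙 G : G ⟶ G) ^ m)).left →
        Flat ((Over.pullback ξ).map ((𝟙 G : G ⟶ G) ^ m)).left ∧
        LocallyQuasiFinite ((Over.pullback ξ).map ((𝟙 G : G ⟶ G) ^ m)).left) ∧
      (LocallyQuasiFinite ((Over.pullback ξ).map ((𝟙 G : G ⟶ G) ^ m)).left →
        Surjective ((Over.pullback ξ).map ((𝟙 G : G ⟶ G) ^ m)).left) := by
    intro L _ _ ξ
    letI : GrpObj ((Over.pullback ξ).obj G) := Functor.grpObjObj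
    haveI : IsCommMonObj ((Over.pullback ξ).obj G) := Functor.isCommMonObj_obj (F := Over.pullback ξ)
    haveI : Smooth ((Over.pullback ξ).obj G).hom := inferInstanceAs (Smooth (pullback.snd G.hom ξ))
    haveI : QuasiCompact ((Over.pullback ξ).obj G).hom := inferInstanceAs (QuasiCompact (pullback.snd G.hom ξ))
    haveI := hdata L ξ
    haveI : IsMonHom ((𝟙 G : G ⟶ G) ^ m) := by
      rw [← zpow_natCast]; exact AbSchLib.isMonHom_zpow G (m : ℤ)
    haveI := AbSchLib.isMonHom_pullback_map ξ ((𝟙 G : G ⟶ G) ^ m)
    exact UnipKerLib.endo_spec _ ((Over.pullback ξ).map ((𝟙 G : G ⟶ G) ^ m))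
  have hup : (∀ (L : Type u) [Field L] [IsAlgClosed L] (ξ : Spec (CommRingCat.of L) ⟶ Spec (CommRingCat.of R)),
      Surjective ((Over.pullback ξ).map ((𝟙 G : G ⟶ G) ^ m)).left) →
      Flat f ∧ Surjective f ∧ LocallyQuasiFinite f := by
    intro h
    refine ⟨AbSchLib.flat_of_geometric_fibres _ fun L _ _ ξ => ((hspec L ξ).2.1 (h L ξ)).1, ⟨fun y => ?_⟩,
      (AlgSpLib.lqf_iff_fibreDimAt_eq_zero _).2 fun x => ?_⟩
    · let s := G.hom.base y
      let ξ := Red.geomPt s
      have sq := NeronQFLib.isPullback_map ξ ((𝟙 G : G ⟶ G) ^ m)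
      obtain ⟨z, hz, -⟩ := NeronQFLib.exists_preimage (IsPullback.of_hasPullback G.hom ξ) y
        (IsLocalRing.closedPoint _) (Scheme.fromSpecResidueField_apply s _).symm
      obtain ⟨w, hw⟩ := (h _ ξ).surj z
      exact ⟨(pullback.fst G.hom ξ).base w, by
        rw [← Scheme.Hom.comp_apply, sq.w, Scheme.Hom.comp_apply]
        exact (congrArg (pullback.fst G.hom ξ).base hw).trans hz⟩
    · let s := G.hom.base x
      let ξ := Red.geomPt s
      obtain ⟨z, hz, -⟩ := NeronQFLib.exists_preimage (IsPullback.of_hasPullback G.hom ξ) x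
        (IsLocalRing.closedPoint _) (Scheme.fromSpecResidueField_apply s _).symm
      haveI := ((hspec _ ξ).2.1 (h _ ξ)).2
      haveI : LocallyOfFiniteType ((Over.pullback ξ).map ((𝟙 G : G ⟶ G) ^ m)).left :=
        MorphismProperty.of_isPullback (NeronQFLib.isPullback_map ξ ((𝟙 G : G ⟶ G) ^ m)) ‹LocallyOfFiniteType f›
      rw [← hz, ← FibDimLib.fibreDimAt_baseChange (NeronQFLib.isPullback_map ξ ((𝟙 G : G ⟶ G) ^ m)) z]
      exact (AlgSpLib.lqf_iff_fibreDimAt_eq_zero _).1 inferInstance z
  have hcast : ∀ (L : Type u) [Field L] (ξ : Spec (CommRingCat.of L) ⟶ Spec (CommRingCat.of R)),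
      ξ.base (IsLocalRing.closedPoint L) = IsLocalRing.closedPoint R →
        ((m : IsLocalRing.ResidueField R) = 0 ↔ (m : L) = 0) := by
    intro L _ ξ hx
    let ψ := Spec.preimage ξ
    have hker : RingHom.ker ψ.hom = IsLocalRing.maximalIdeal R := by
      rw [show ξ = Spec.map ψ from (Spec.map_preimage ξ).symm] at hx
      rw [RingHom.ker_eq_comap_bot, ← IsLocalRing.maximalIdeal_eq_bot]
      exact congrArg PrimeSpectrum.asIdeal hx
    rw [← map_natCast (IsLocalRing.residue R), IsLocalRing.residue_eq_zero_iff, ← hker, RingHom.mem_ker, map_natCast]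
  tfae_have 1 → 2 := fun h => (hup fun L _ _ ξ => (hspec L ξ).1
    (MorphismProperty.of_isPullback (NeronQFLib.isPullback_map ξ ((𝟙 G : G ⟶ G) ^ m)) h)).2.1
  tfae_have 2 → 3 := fun h => (hup fun L _ _ ξ =>
    MorphismProperty.of_isPullback (NeronQFLib.isPullback_map ξ ((𝟙 G : G ⟶ G) ^ m)) h).2.2
  tfae_have 3 → 4 := fun h => by
    by_cases hm0 : (m : IsLocalRing.ResidueField R) = 0
    · refine Or.inr fun j hj hjc => ?_
      let sp : ↥(Spec (CommRingCat.of R)) := IsLocalRing.closedPoint R
      let ξ := Red.geomPt sp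
      let L := AlgebraicClosure ((Spec (CommRingCat.of R)).residueField sp)
      letI : GrpObj ((Over.pullback ξ).obj G) := Functor.grpObjObj
      haveI : IsCommMonObj ((Over.pullback ξ).obj G) := Functor.isCommMonObj_obj (F := Over.pullback ξ)
      haveI : Smooth ((Over.pullback ξ).obj G).hom := inferInstanceAs (Smooth (pullback.snd G.hom ξ))
      haveI : QuasiCompact ((Over.pullback ξ).obj G).hom := inferInstanceAs (QuasiCompact (pullback.snd G.hom ξ))
      haveI := hdata L ξ
      have hxi : ξ.base (IsLocalRing.closedPoint L) = sp := by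
        refine (Scheme.Hom.comp_apply _ _ _).trans ?_
        exact Scheme.fromSpecResidueField_apply sp _
      have hm0' := (hcast L ξ hxi).1 hm0
      have hq : LocallyQuasiFinite ((Over.pullback ξ).map ((𝟙 G : G ⟶ G) ^ m)).left :=
        MorphismProperty.of_isPullback (NeronQFLib.isPullback_map ξ ((𝟙 G : G ⟶ G) ^ m)) h
      rw [UnipKerLib.pullback_map_pow] at hq
      haveI := hq
      exact UnipKerLib.noGa_of_pow (k := L) ((Over.pullback ξ).obj G) m hm0' j hj hjc
    · exact Or.inl hm0
  tfae_have 4 → 1 := fun h => (hup fun L _ _ ξ => by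
    let x := ξ.base (IsLocalRing.closedPoint L)
    by_cases hx : x.asIdeal = ⊥
    · exact hgen L ξ hx
    · have hxc : x = IsLocalRing.closedPoint R :=
        PrimeSpectrum.ext (IsLocalRing.eq_maximalIdeal (x.isPrime.isMaximal hx))
      letI : GrpObj ((Over.pullback ξ).obj G) := Functor.grpObjObj
      haveI : IsCommMonObj ((Over.pullback ξ).obj G) := Functor.isCommMonObj_obj (F := Over.pullback ξ)
      haveI : Smooth ((Over.pullback ξ).obj G).hom := inferInstanceAs (Smooth (pullback.snd G.hom ξ))
      haveI : QuasiCompact ((Over.pullback ξ).obj G).hom := inferInstanceAs (QuasiCompact (pullback.snd G.hom ξ))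
      haveI := hdata L ξ
      rcases h with h | h
      · have hmL : (m : L) ≠ 0 := fun h0 => h ((hcast L ξ hxc).2 h0)
        refine (hspec L ξ).1 ?_
        rw [UnipKerLib.pullback_map_pow]
        haveI := WeilResLib.etale_pow ((Over.pullback ξ).obj G) m hmL
        infer_instance
      · rw [UnipKerLib.pullback_map_pow]
        exact ((SemiAbLib.isSemiAb_of_no_ga fun j hj hjc =>
          UnipKerLib.noGa_point L G h ξ hxc j hj hjc).pow_spec hm.ne').2.1).1
  tfae_finish

end Groth.Agent.S4059
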