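import Groth.Statements.S12545
import Groth.Agent.GLinMuLib.Basic
import Mathlib


-- import your own Groth.Agent.* helpers here

set_option autoImplicit false
universe u
open TensorProduct LaurentPolynomial
open GIT

namespace Groth.Agent.S12545

/-- Let a commutative bialgebra A over a field k coact linearly on affine ι-space, let λ be a
one-parameter subgroup (a bialgebra map to the Laurent polynomial ring) and v ≠ 0 a vector; write
μ(v, λ) = m when t^m · (v moved by λ(t)) extends to the affine line with non-zero value at t = 0.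
Then v moved by λ(t) has no limit as t → 0 exactly when μ(v, λ) > 0, has a limit different from the
origin exactly when μ(v, λ) = 0, and tends to the origin exactly when μ(v, λ) < 0. -/
theorem result (k : Type u) [Field k] (A : Type u) [CommRing A] [Bialgebra k A]
    (ι : Type u) [Fintype ι] [HopfRep.Comod k A (MvPolynomial ι k)] [GLin.IsCoactAlg k A (MvPolynomial ι k)]
    (hlin : GLin.IsLinear k A ι) (lam : A →ₐc[k] k[T;T⁻¹]) (v : ι → k) (hv : v ≠ 0) :
    (¬ GLin.HasLimit k A lam (GLin.vecPt k ι v) ↔ ∃ m : ℤ, GLin.IsMu k A lam v m ∧ 0 < m) ∧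
      ((GLin.HasLimit k A lam (GLin.vecPt k ι v) ∧
          ¬ GLin.IsLimit k A lam (GLin.vecPt k ι v) (GLin.vecPt k ι (fun _ => (0 : k)))) ↔
        GLin.IsMu k A lam v 0) ∧
      (GLin.IsLimit k A lam (GLin.vecPt k ι v) (GLin.vecPt k ι (fun _ => (0 : k))) ↔
        ∃ m : ℤ, GLin.IsMu k A lam v m ∧ m < 0) := by
  open Groth.Agent.GLinMu in
  obtain ⟨m, hm, hu⟩ := existsUnique_isMu lam hv
  obtain ⟨hlt, i₀, hi₀⟩ := (isMu_iff lam v m).1 hm
  have hex : ∀ P : ℤ → Prop, (∃ n, GLin.IsMu k A lam v n ∧ P n) ↔ P m := fun P =>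
    ⟨fun ⟨n, h1, h2⟩ => hu n h1 ▸ h2, fun h => ⟨m, hm, h⟩⟩
  have hL : GLin.HasLimit k A lam (GLin.vecPt k ι v) ↔ m ≤ 0 := by
    rw [hasLimit_iff]
    refine ⟨fun h => not_lt.1 fun h0 => hi₀ (h i₀ _ (by omega)), fun h i n hn => hlt i n (by omega)⟩
  have hZ : GLin.IsLimit k A lam (GLin.vecPt k ι v) (GLin.vecPt k ι (fun _ => (0 : k))) ↔ m < 0 := by
    rw [isLimit_iff]
    constructor
    · rintro ⟨h1, h2⟩
      rcases lt_trichotomy m 0 with h | h | h
      · exact h
      · subst h; exact absurd (h2 i₀) (by simpa using hi₀)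
      · exact absurd (h1 i₀ _ (show -m < 0 by omega)) hi₀
    · exact fun h => ⟨fun i n hn => hlt i n (by omega), fun i => hlt i 0 (by omega)⟩
  refine ⟨?_, ?_, ?_⟩
  · rw [hex (fun n => 0 < n), hL, not_le]
  · rw [hL, hZ, not_lt]
    refine ⟨fun h => ?_, fun h => (le_antisymm_iff).1 (hu 0 h).symm⟩
    have : m = 0 := le_antisymm h.1 h.2
    exact this ▸ hm
  · rw [hex (fun n => n < 0), hZ]

end Groth.Agent.S12545
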