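import Groth.Statements.S19603
import Mathlib
import Groth.Agent.GLinFinLib.Linear
-- import your own Groth.Agent.* helpers here

set_option autoImplicit false
universe u
open GIT

namespace Groth.Agent.S19603

/-- For the whole projective space U = P(V), let k be an algebraically closed field of arbitrary
characteristic and G = Spec A a linearly reductive affine algebraic group acting linearly on affine
ι-space, and let v be a vector. Then some invariant homogeneous polynomial of positive degree is
non-zero at v (the point of v is semistable) if and only if the origin is not in the closure of the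
orbit of v. -/
theorem result (k : Type u) [Field k] [IsAlgClosed k]
    (A : Type u) [CommRing A] [HopfAlgebra k A] [Algebra.FiniteType k A] (hG : HopfRep.IsLinearlyReductive k A)
    (ι : Type u) [Fintype ι] [HopfRep.Comod k A (MvPolynomial ι k)] [GLin.IsCoactAlg k A (MvPolynomial ι k)]
    (hlin : GLin.IsLinear k A ι) (v : ι → k) :
    GLin.IsSemistableVec k A v ↔
      ¬ GLin.InOrbitClosure k A (GLin.vecPt k ι v) (GLin.vecPt k ι (fun _ => (0 : k))) := by
  classical
  set o := GLin.vecPt k ι (fun _ => (0 : k)) with ho
  constructor
  · intro hss hcl
    refine hss fun F hF d hd hFd => ?_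
    have h1 := GLinFinLib.point_eq_of_inOrbitClosure hcl hF
    show MvPolynomial.eval v F = 0
    have h2 : o F = 0 := by
      rw [ho]
      show MvPolynomial.aeval (fun _ => (0 : k)) F = 0
      rw [show (fun _ : ι => (0 : k)) = 0 from rfl, MvPolynomial.aeval_zero]
      have := MvPolynomial.IsHomogeneous.coeff_eq_zero hFd (d := 0) (by simp; omega)
      simp [MvPolynomial.constantCoeff_eq, this]
    rw [← MvPolynomial.aeval_eq_eval]
    exact h1.symm.trans h2
  · intro hno hnull
    apply hno
    have hagree : ∀ f ∈ GLin.invariants k A (MvPolynomial ι k), GLin.vecPt k ι v f = o f := by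
      intro f hf
      conv_lhs => rw [← MvPolynomial.sum_homogeneousComponent f]
      conv_rhs => rw [← MvPolynomial.sum_homogeneousComponent f]
      rw [map_sum, map_sum]
      refine Finset.sum_congr rfl fun j _ => ?_
      rcases Nat.eq_zero_or_pos j with rfl | hj
      · rw [MvPolynomial.homogeneousComponent_zero, ho]; simp
      · have h0 := hnull _ (GLinFinLib.homogeneousComponent_mem_invariants hlin j hf) j hj
          (MvPolynomial.homogeneousComponent_isHomogeneous j f)
        have hz : MvPolynomial.coeff 0 (MvPolynomial.homogeneousComponent j f) = 0 :=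
          (MvPolynomial.homogeneousComponent_isHomogeneous j f).coeff_eq_zero (by simp; omega)
        have h2 : o (MvPolynomial.homogeneousComponent j f) = 0 := by
          rw [ho]
          show MvPolynomial.aeval (fun _ => (0 : k)) _ = 0
          rw [show (fun _ : ι => (0 : k)) = 0 from rfl, MvPolynomial.aeval_zero]
          simp [MvPolynomial.constantCoeff_eq, hz]
        rw [h2]
        exact h0
    obtain ⟨z, hz₁, hz₂⟩ := GLinFinLib.exists_common_closure hG (GLin.vecPt k ι v) o hagree
    intro f hf
    have hf' : z f = 0 := hz₁ hf
    have hco : ∀ g, z g = o g := fun g => by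
      have h1 : g - algebraMap k _ (o g) ∈ RingHom.ker (GLin.orbitHom k A o) := by
        rw [RingHom.mem_ker, map_sub, AlgHom.commutes, ho, GLinFinLib.orbitHom_origin hlin]
        exact sub_self _
      have h2 : z (g - algebraMap k _ (o g)) = 0 := hz₂ h1
      rwa [map_sub, AlgHom.commutes, Algebra.algebraMap_self_apply, sub_eq_zero] at h2
    rw [RingHom.mem_ker, ← hco, hf']

end Groth.Agent.S19603
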