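import Groth.Statements.S7297
import Mathlib
import Groth.Agent.ModifLib.Basic
-- import your own Groth.Agent.* helpers here

set_option autoImplicit false
universe u
open CategoryTheory CategoryTheory.Limits AlgebraicGeometry
open Resolve

namespace Groth.Agent.S7297

/-- Let A be a local normal Nagata domain of dimension two defining a rational singularity, and f : X →
Spec A a proper morphism from an integral normal scheme which is an isomorphism over some nonempty
open of Spec A. Then H^p(X, F) = 0 for every quasi-coherent O_X-module F and every p ≥ 2. -/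
theorem result (A : Type u) [CommRing A] [IsDomain A] [IsLocalRing A] [IsNoetherianRing A]
    [IsIntegrallyClosed A] (hN : CAlg.IsNagata A) (hdim : ringKrullDim A = 2) (hA : Curv2.IsRationalSing A)
    (X : Scheme.{u}) (f : X ⟶ Spec (CommRingCat.of A)) [IsProper f] [IsIntegral X] (hXn : Pi1.IsNormalScheme X)
    (hbir : ∃ U : (Spec (CommRingCat.of A)).Opens, (U : Set (Spec (CommRingCat.of A))).Nonempty ∧ IsIso (f ∣_ U))
    (F : X.Modules) (hF : Coh.IsQCoh F) (p : ℕ) (hp : 2 ≤ p) : Subsingleton (Coh.HH X F p) := by
  obtain ⟨U, hU, hi⟩ := hbir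
  haveI := hi
  obtain ⟨V, hV, -, hvan⟩ := FibVanLib.exists_nhd_vanish f (IsLocalRing.closedPoint A) 1
    (ModifLib.dim_closedFiber_le_one hdim f hU)
  have e : V = ⊤ := top_le_iff.1 fun s _ => (IsLocalRing.specializes_closedPoint s).mem_open V.2 hV
  haveI : Coh.IsQCoh F := hF
  exact FibVanLib.subsingleton_HH_of_iso (X.topIso.symm ≪≫ X.isoOfEq (f.preimage_top).symm)
    (fun M hM => hvan ⊤ (isAffineOpen_top _) (le_of_eq e.symm) M hM p (by omega)) F

end Groth.Agent.S7297
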