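import Groth.Statements.S1650
import Mathlib
import Groth.Agent.RatModLib.Normal
-- import your own Groth.Agent.* helpers here

set_option autoImplicit false
universe u
open CategoryTheory CategoryTheory.Limits AlgebraicGeometry
open Resolve

namespace Groth.Agent.S1650

/-- Let A be a local normal Nagata domain of dimension two defining a rational singularity and b : X →
Spec A a blowing up in the maximal ideal. Then X is a normal scheme. -/
theorem result (A : Type u) [CommRing A] [IsDomain A] [IsLocalRing A] [IsNoetherianRing A]
    [IsIntegrallyClosed A] (hN : CAlg.IsNagata A) (hdim : ringKrullDim A = 2) (hA : Curv2.IsRationalSing A)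
    (X : Scheme.{u}) (b : X ⟶ Spec (CommRingCat.of A)) (hb : BlowUp.IsBlowUp b (Curv2.idealSheaf A (IsLocalRing.maximalIdeal A))) :
    Pi1.IsNormalScheme X := by
  have hM := RatModLib.exists_principal_modification A hN hdim hA
  have hb' : BlowUp.IsBlowUp b (BlowUpLib.specIdeal (IsLocalRing.maximalIdeal A)) := hb
  intro x
  obtain ⟨a, ha, c, hc, ⟨q, rfl⟩, -⟩ := BlowUpLib.exists_chart_spec (IsLocalRing.maximalIdeal A) hb' x
  haveI := hc
  have ha0 : a ≠ 0 := by
    rintro rfl
    haveI : Subsingleton (Localization.Away (0 : A)) :=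
      IsLocalization.subsingleton (M := Submonoid.powers (0 : A)) (Submonoid.mem_powers 0)
    exact q.2.ne_top (Ideal.eq_top_iff_one _ |>.2 (by
      have h1 : (1 : BlowUp.affineAlgebra A (IsLocalRing.maximalIdeal A) (0 : A)) = 0 := Subtype.ext (Subsingleton.elim _ _)
      rw [h1]
      exact zero_mem _))
  haveI := RatModLib.isIntegrallyClosed_chart _ ha ha0 hM
  haveI : IsDomain (Localization.Away a) :=
    IsLocalization.isDomain_localization (powers_le_nonZeroDivisors_of_noZeroDivisors ha0)
  obtain ⟨h1, h2⟩ := ParaFLib.isNormal_spec (A := BlowUp.affineAlgebra A (IsLocalRing.maximalIdeal A) a) q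
  haveI := h1
  haveI := h2
  let e := (asIso (c.stalkMap q)).commRingCatIsoToRingEquiv
  exact ⟨e.injective.isDomain e.toRingHom, IsIntegrallyClosed.of_equiv e.symm⟩

end Groth.Agent.S1650
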