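import Groth.Statements.S3630
import Groth.Agent.ProjClosedImmLib.Stalk
import Groth.Agent.ModSiteLib.Colimits
-- import your own Groth.Agent.* helpers here

set_option autoImplicit false
universe u
open CategoryTheory CategoryTheory.Limits AlgebraicGeometry
attribute [local instance] HasDerivedCategory.standard
open Dual3

namespace Groth.Agent.S3630

/-- For a closed immersion of schemes i : Z → X. The direct image functor i_* from O_Z-modules to
O_X-modules is a left adjoint: it has a right adjoint, the functor sending F to the O_Z-module of
sections of F annihilated by the ideal of Z. -/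
theorem result (Z X : Scheme.{u}) (i : Z ⟶ X) [IsClosedImmersion i] : Dual3.HasHomO i := by
  haveI : PreservesColimitsOfSize.{u, u} (Scheme.Modules.pushforward i) := by
    refine ⟨fun {J} _ => ⟨fun {K} => ⟨fun {c} hc => ⟨?_⟩⟩⟩⟩
    let P := Scheme.Modules.pushforward i
    let d := colimit.desc (K ⋙ P) (P.mapCocone c)
    have : IsIso d := by
      refine ProjClosedImmLib.isIso_of_abStalk d fun y => ?_
      haveI : PreservesColimitsOfSize.{u, u} (P ⋙ ProjClosedImmLib.abStalk X y) := by
        by_cases hy : y ∈ Set.range ⇑i
        · obtain ⟨x, rfl⟩ := hy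
          exact preservesColimits_of_natIso (ProjClosedImmLib.pushStalkIso i x).symm
        · have hz : IsZero (P ⋙ ProjClosedImmLib.abStalk X y) := (Functor.isZero _ fun M => by
            have := ProjClosedImmLib.subsingleton_stalk i M hy
            exact AddCommGrpCat.isZero_of_subsingleton
              (AddCommGrpCat.of ((KFlatLib.pf i M).presheaf.stalk y)))
          exact Functor.preservesColimitsOfSize_of_isZero _ hz
      have h₁ := isColimitOfPreserves (P ⋙ ProjClosedImmLib.abStalk X y) hc
      have h₂ := isColimitOfPreserves (ProjClosedImmLib.abStalk X y) (colimit.isColimit (K ⋙ P))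
      let e := h₂.coconePointUniqueUpToIso (t := (P ⋙ ProjClosedImmLib.abStalk X y).mapCocone c) h₁
      have he : (ProjClosedImmLib.abStalk X y).map d = e.hom := h₂.hom_ext fun j => by
        refine Eq.trans ?_ (h₂.comp_coconePointUniqueUpToIso_hom h₁ j).symm
        change (ProjClosedImmLib.abStalk X y).map (colimit.ι (K ⋙ P) j) ≫ (ProjClosedImmLib.abStalk X y).map d =
          (ProjClosedImmLib.abStalk X y).map (P.map (c.ι.app j))
        rw [← Functor.map_comp]
        exact congrArg (ProjClosedImmLib.abStalk X y).map (colimit.ι_desc _ j)
      rw [he]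
      infer_instance
    exact @IsColimit.ofPointIso _ _ _ _ _ _ _ (colimit.isColimit (K ⋙ P)) ‹IsIso d›
  let G : SheafOfModules.{u} Z.ringCatSheaf ⥤ SheafOfModules.{u} X.ringCatSheaf := Scheme.Modules.pushforward i
  haveI : PreservesColimitsOfSize.{u, u} G := ‹_›
  exact ModSiteLib.isLeftAdjoint_of_preservesColimits G

end Groth.Agent.S3630
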