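import Groth.Statements.S3612
import Groth.Agent.ShriekAffLib.Stalk
import Groth.Agent.S1790
import Groth.Agent.RelFlatLib.Affine
import Groth.Agent.RelFlatLib.Local
import Groth.Agent.HensSchLib.Flat

set_option autoImplicit false
set_option backward.isDefEq.respectTransparency false
set_option backward.isDefEq.respectTransparency.types false
set_option linter.style.haveILetI false
set_option maxHeartbeats 1000000
universe u
open CategoryTheory CategoryTheory.Limits AlgebraicGeometry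
attribute [local instance] HasDerivedCategory.standard
open Dual3
open Groth.Agent Topology

namespace Groth.Agent.S3612

/-- Let S be a Noetherian scheme, X and Y schemes separated and of finite type over S and f : X → Y a
morphism over S; compute f^! through a compactification f = j ∘ p (j : X → X' an open immersion, p :
X' → Y proper, Rp_* on D_QCoh assumed to exist and to preserve quasi-coherence of cohomology, a a
right adjoint of Rp_*, restriction of modules to opens assumed exact), so that f^!K = a(K)|_X.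
Assume f is flat and let O be the structure sheaf of Y in degree 0. (i) For a point x and n ≥
dim_x(X_{f(x)}): if the stalk of H^i(f^!O) at x is nonzero then -n ≤ i ≤ 0. (ii) If every fibre of f
has dimension at most d, then f^!O has tor amplitude in [-d, 0] relative to Y: it is represented by
a complex of O_X-modules flat over Y placed in degrees [-d, 0]. -/
theorem result (S X Y : Scheme.{u}) [IsNoetherian S] (p : X ⟶ S) (q : Y ⟶ S) [Dual3.IsSepFT p] [Dual3.IsSepFT q] (f : X ⟶ Y) (w : f ≫ q = p) [Flat f] (c : DEt.Compactification f) [DCoh.HasRpush c.fbar] (hc : DCoh.RpushPreservesQCoh c.fbar) (a : DCoh.DQCoh Y ⥤ DCoh.DQCoh c.Xbar) (adj : DCoh.RpushQ c.fbar hc ⊣ a) [∀ (U V : Scheme.{u}) (j : U ⟶ V) [IsOpenImmersion j], PreservesFiniteLimits (Scheme.Modules.restrictFunctor j)] (O : DCoh.DQCoh Y) (hO : Nonempty (O.obj ≅ DCoh.inD Y (Coh.structureModule Y))) : (∀ (x : X) (n : ℕ), Dual3.localFibreDim f x ≤ (n : WithBot ℕ∞) → ∀ i : ℤ, Nontrivial ((DCoh.HD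 ((Dual3.shriekC c a).obj O) i).presheaf.stalk x) → -(n : ℤ) ≤ i ∧ i ≤ 0) ∧ ∀ d : ℕ, Dual3.FibreDimLE f d → DCoh.HasRelFlatAmplitudeIn f (-(d : ℤ)) 0 ((Dual3.shriekC c a).obj O) := by
  haveI : IsLocallyNoetherian Y := LocallyOfFiniteType.isLocallyNoetherian q
  haveI : CompactSpace Y := QuasiCompact.compactSpace_of_compactSpace q
  haveI : IsNoetherian Y := ⟨⟩
  haveI : ∀ R : CommRingCat.{u}, PreservesFiniteLimits (tilde.functor R) :=
    fun R => HensSchLib.tilde_preservesFiniteLimits R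
  haveI := ShriekAffLib.isNoetherian_source c.j c.fbar
  have hloc : ∀ x : X, ∃ (W : Y.Opens) (hW : IsAffineOpen W) (V : X.Opens) (hV : IsAffineOpen V)
      (hVW : V ≤ f ⁻¹ᵁ W) (P : PrimeSpectrum Γ(X, V)), hV.fromSpec P = x := fun x => by
    obtain ⟨W, hW, V, hV, hVW, hxV, -⟩ := ShriekAffLib.exists_charts f x ⊤ trivial
    exact ⟨W, hW, V, hV, hVW, _, hV.fromSpec_primeIdealOf ⟨x, hxV⟩⟩
  refine ⟨fun x n hn i hi => ?_, fun d hd => ?_⟩
  · obtain ⟨W, hW, V, hV, hVW, P, rfl⟩ := hloc x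
    obtain ⟨m, ψ, hψ, _, Rψ, adjψ, ⟨e⟩⟩ :=
      ShriekAffLib.exists_affine_model f c.j c.fbar c.fac hc a adj O hO W hW V hV hVW
    haveI : IsNoetherianRing Γ(Y, W) := IsLocallyNoetherian.component_noetherian ⟨W, hW⟩
    haveI : IsNoetherianRing Γ(X, V) := IsLocallyNoetherian.component_noetherian ⟨V, hV⟩
    letI : Algebra Γ(Y, W) Γ(X, V) := (f.appLE W V hVW).hom.toAlgebra
    haveI : Module.Flat Γ(Y, W) Γ(X, V) := f.flat_appLE hW hV hVW
    obtain ⟨d, hd, hdn⟩ := ShriekAffLib.exists_eq_of_le ((NodalLib.localFibreDim_eq f _).symm ▸ hn)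
      (ShriekAffLib.fibreDimAt_ne_bot f _)
    have h := (Groth.Agent.S1790.result Γ(Y, W) Γ(X, V) m ψ hψ Rψ adjψ d).1 P
      ((ShriekAffLib.fibreDimAt_fromSpec f hW hV hVW P).trans hd) i
      ((Groth.Agent.DualCxLib.stalkHD hV.fromSpec e P i).nontrivial_congr.1 hi)
    exact ⟨by omega, h.2⟩
  · let K := (Dual3.shriekC c a).obj O
    let eF := DerivedCategory.Q.objObjPreimageIso K
    suffices hamp : ∀ x : X, RelFlatLib.AmpD f (-(d : ℤ)) 0 K x by
      obtain ⟨E, h1, h2, ⟨e⟩⟩ := RelFlatLib.relFlatAmp_of_amp f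
        (F := DerivedCategory.Q.objPreimage K) (a := -(d : ℤ)) (b := 0)
        fun x => (RelFlatLib.ampD_rep f eF x).1 (hamp x)
      exact ⟨E, h1, h2, ⟨e ≪≫ eF⟩⟩
    intro x
    obtain ⟨W, hW, V, hV, hVW, P, rfl⟩ := hloc x
    obtain ⟨m, ψ, hψ, _, Rψ, adjψ, ⟨e⟩⟩ :=
      ShriekAffLib.exists_affine_model f c.j c.fbar c.fac hc a adj O hO W hW V hV hVW
    haveI : IsNoetherianRing Γ(Y, W) := IsLocallyNoetherian.component_noetherian ⟨W, hW⟩
    haveI : IsNoetherianRing Γ(X, V) := IsLocallyNoetherian.component_noetherian ⟨V, hV⟩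
    letI : Algebra Γ(Y, W) Γ(X, V) := (f.appLE W V hVW).hom.toAlgebra
    haveI : Module.Flat Γ(Y, W) Γ(X, V) := f.flat_appLE hW hV hVW
    refine (RelFlatLib.ampD_chart_iff f hV hW hVW _ _ K P).1 ?_
    have h := (RelFlatLib.relFlatAmp_tildeD_iff (R := Γ(Y, W)) (A := Γ(X, V)) _ _ _).2
      ((Groth.Agent.S1790.result Γ(Y, W) Γ(X, V) m ψ hψ Rψ adjψ d).2 fun q => by
        refine le_of_eq_of_le (ShriekAffLib.fibreDimAt_fromSpec f hW hV hVW q) ?_
        rw [← NodalLib.localFibreDim_eq]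
        exact (iInf₂_le ⊤ trivial).trans ((IsInducing.subtypeVal.topologicalKrullDim_le).trans (hd _)))
    obtain ⟨E, h1, h2, ⟨e'⟩⟩ := h
    exact (RelFlatLib.ampD_rep _ (e' ≪≫ e.symm) P).2 (RelFlatLib.amp_of_relFlatAmp _ ⟨E, h1, h2, ⟨Iso.refl _⟩⟩ P)

end Groth.Agent.S3612
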