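import Groth.Statements.S3614
import Groth.Agent.ShriekAffLib.FibreChart
import Groth.Agent.FibDimLib.ClosureDim

set_option autoImplicit false
set_option backward.isDefEq.respectTransparency false
set_option backward.isDefEq.respectTransparency.types false
set_option linter.style.haveILetI false
set_option maxHeartbeats 1000000
universe u
open CategoryTheory CategoryTheory.Limits AlgebraicGeometry
attribute [local instance] HasDerivedCategory.standard
open Dual3
open Groth.Agent

namespace Groth.Agent.S3614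

/-- Let S be a Noetherian scheme, X and Y schemes separated and of finite type over S and f : X → Y a
morphism over S; compute f^! through a compactification f = j ∘ p (j : X → X' an open immersion, p :
X' → Y proper, Rp_* on D_QCoh assumed to exist and to preserve quasi-coherence of cohomology, a a
right adjoint of Rp_*, restriction of modules to opens assumed exact), so that f^!K = a(K)|_X.
Assume f is Cohen–Macaulay at every point and every irreducible component of every fibre of f has
dimension d, and let O be the structure sheaf of Y in degree 0. Then H^i(f^!O) = 0 for i ≠ -d and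
H^{-d}(f^!O) is a coherent O_X-module flat over Y; that is, f^!O = ω[d] for a coherent Y-flat module
ω. -/
theorem result (S X Y : Scheme.{u}) [IsNoetherian S] (p : X ⟶ S) (q : Y ⟶ S) [Dual3.IsSepFT p] [Dual3.IsSepFT q] (f : X ⟶ Y) (w : f ≫ q = p) (hCM : ∀ x : X, MoreMor.IsCMAt f x) (d : ℕ) (hd : ∀ (y : Y) (Z : Set ↥(f.fiber y)), Z ∈ irreducibleComponents ↥(f.fiber y) → topologicalKrullDim ↥Z = (d : WithBot ℕ∞)) (c : DEt.Compactification f) [DCoh.HasRpush c.fbar] (hc : DCoh.RpushPreservesQCoh c.fbar) (a : DCoh.DQCoh Y ⥤ DCoh.DQCoh c.Xbar) (adj : DCoh.RpushQ c.fbar hc ⊣ a) [∀ (U V : Scheme.{u}) (j : U ⟶ V) [IsOpenImmersion j], PreservesFiniteLimits (Scheme.Modules.restrictFunctor j)] (O : DCoh.DQCoh Y) (hO : Nonempty (O.obj ≅ DCoh.inD Y (Coh.structureModule Y))) : (∀ i : ℤ, i ≠ -(d : ℤ) → IsZero (DCoh.HD ((Dual3.shriekC c a).obj O) i)) ∧ Coh.IsCoh (DCoh.HD ((Dual3.shriekC c a).obj O) (-(d : ℤ))) ∧ FlatMod.IsFlatOver f (DCoh.HD ((Dual3.shriekC c a).obj O) (-(d : ℤ))) := by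
  haveI : IsLocallyNoetherian Y := LocallyOfFiniteType.isLocallyNoetherian q
  haveI : CompactSpace Y := QuasiCompact.compactSpace_of_compactSpace q
  haveI : IsNoetherian Y := ⟨⟩
  haveI : Flat f := (Flat.iff_flat_stalkMap f).2 fun x => (hCM x).1
  haveI : ∀ R : CommRingCat.{u}, PreservesFiniteLimits (tilde.functor R) :=
    fun R => HensSchLib.tilde_preservesFiniteLimits R
  haveI := ShriekAffLib.isNoetherian_source c.j c.fbar
  haveI : LocallyOfFiniteType f := by rw [← c.fac]; infer_instance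
  haveI : LocallyOfFinitePresentation f := ⟨fun {U} hU {V} hV e => by
    haveI : IsNoetherianRing Γ(Y, U) := IsLocallyNoetherian.component_noetherian ⟨U, hU⟩
    exact RingHom.FinitePresentation.of_finiteType.mp (LocallyOfFiniteType.finiteType_appLE f hU hV e)⟩
  haveI : ∀ y : Y, DCoh.HasLpull (f.fiberι y) := fun y => KFlatLib.hasLpull _
  let K := (DCoh.restrictD c.j).obj (a.obj O).obj
  obtain ⟨eO⟩ := hO
  have hOz : ∀ i : ℤ, i ≠ 0 → IsZero (DCoh.HD O.obj i) := fun i hi => by
    haveI : O.obj.IsGE 0 := DerivedCategory.TStructure.t.isGE_of_iso eO.symm 0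
    haveI : O.obj.IsLE 0 := DerivedCategory.TStructure.t.isLE_of_iso eO.symm 0
    rcases lt_or_gt_of_ne hi with h | h
    · exact DerivedCategory.isZero_of_isGE O.obj 0 i h
    · exact DerivedCategory.isZero_of_isLE O.obj 0 i h
  have hOc : ∀ i : ℤ, Coh.IsCoh (DCoh.HD O.obj i) := fun i =>
    QCohLib.isCoh_of_iso ((DerivedCategory.homologyFunctor Y.Modules i).mapIso eO.symm)
      (KiehlLib.isCohD_single_noeth 0 (DevissLib.isCoh_structureModule Y) i)
  have hcoh : ∀ i, Coh.IsCoh (DCoh.HD K i) := (Groth.Agent.S11145.result S X Y p q f w c hc a adj O 0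
    (fun i hi => hOz i (by omega)) hOc).2
  haveI := ShriekAffLib.isLE_zero f c.j c.fbar c.fac hc a adj O ⟨eO⟩
  have hpc : ∀ m, DCoh.IsPseudoCoherentD m K := fun m => PerfDualLib.isPC_of_isCohD K 0 m hcoh
  have key : ∀ x : X, (∀ i : ℤ, i ≠ -(d : ℤ) → Subsingleton ((DCoh.HD K i).presheaf.stalk x)) ∧
      FlatMod.IsFlatOverAt f (DCoh.HD K (-(d : ℤ))) x := fun x => by
    obtain ⟨C, _, _, y, ε, _, Q, ω, hω, hQ, -, ⟨eC⟩, hmax, -⟩ :=
      ShriekAffLib.exists_fibre_chart f c.j c.fbar c.fac hc a adj O ⟨eO⟩ ⊤ x trivial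
    subst hQ
    obtain ⟨n, hn, huniq⟩ := (DualCxLib.cm_stalk_iff_chart ε hω eC Q).1
      ((ShriekAffLib.fiber_stalk_iff f (fun A [CommRing A] => LocCoh.IsCohenMacaulayLocalRing A) y (ε Q)).2 (hCM _).2)
    obtain ⟨q₀, hq₀, -, hne⟩ := ShriekAffLib.exists_minimal_deg hω Q
    have hn0 : DualCxLib.deg hω q₀ = n := huniq _ ((DualCxLib.stalkHD ε eC Q _).nontrivial_congr.2 hne)
    haveI : LocallyOfFiniteType (f.fiberToSpecResidueField y) :=
      MorphismProperty.pullback_snd (P := @LocallyOfFiniteType) _ _ inferInstance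
    have hdim : ringKrullDim (C ⧸ q₀.asIdeal) = (d : WithBot ℕ∞) := by
      rw [← FibDimLib.topologicalKrullDim_closure_prime]
      rw [FibDimLib.topologicalKrullDim_closure_of_isOpenEmbedding (f.fiberToSpecResidueField y) ε.isOpenEmbedding q₀]
      exact hd y _ (ShriekAffLib.closure_mem_irreducibleComponents ε q₀ hq₀)
    obtain rfl : n = -(d : ℤ) := hn0 ▸ ShriekAffLib.deg_eq_neg_of_dim hω hmax q₀ d hdim
    exact ShriekAffLib.stalk_concentrated f y (ε Q) K hpc _
      fun i hi => not_nontrivial_iff_subsingleton.1 fun h => hi (huniq i h)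
  exact ⟨fun i hi => (DCohRestrLib.isZero_iff_subsingleton_stalks _).2 fun x => (key x).1 i hi,
    hcoh _, fun x => (key x).2⟩

end Groth.Agent.S3614
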