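import Groth.Statements.S3616
import Groth.Agent.ShriekAffLib.Stalk
import Groth.Agent.ShriekAffLib.Fibre
import Groth.Agent.ShriekAffLib.FibrePoints
import Groth.Agent.ShriekAffLib.InvChart
import Groth.Agent.ShriekRingLib.GorFibres
import Groth.Agent.S3617

set_option autoImplicit false
set_option backward.isDefEq.respectTransparency false
set_option backward.isDefEq.respectTransparency.types false
set_option linter.style.haveILetI false
set_option maxHeartbeats 1000000
universe u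
open CategoryTheory CategoryTheory.Limits AlgebraicGeometry
attribute [local instance] HasDerivedCategory.standard
open Dual3
open Groth.Agent
open scoped TensorProduct

namespace Groth.Agent.S3616

/-- Let S be a Noetherian scheme, X and Y schemes separated and of finite type over S and f : X → Y a
morphism over S; compute f^! through a compactification f = j ∘ p (j : X → X' an open immersion, p :
X' → Y proper, Rp_* on D_QCoh assumed to exist and to preserve quasi-coherence of cohomology, a a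
right adjoint of Rp_*, restriction of modules to opens assumed exact), so that f^!K = a(K)|_X.
Assume f is flat and let O be the structure sheaf of Y in degree 0. Then f is Gorenstein at a point
x (flat at x with Gorenstein local ring of the fibre) if and only if x has an open neighbourhood U
such that (f^!O)|_U is an invertible object of D(O_U); and the Gorenstein locus of f is an open
subset of X. -/
theorem result (S X Y : Scheme.{u}) [IsNoetherian S] (p : X ⟶ S) (q : Y ⟶ S) [Dual3.IsSepFT p] [Dual3.IsSepFT q] (f : X ⟶ Y) (w : f ≫ q = p) [Flat f] (c : DEt.Compactification f) [DCoh.HasRpush c.fbar] (hc : DCoh.RpushPreservesQCoh c.fbar) (a : DCoh.DQCoh Y ⥤ DCoh.DQCoh c.Xbar) (adj : DCoh.RpushQ c.fbar hc ⊣ a) [∀ (U V : Scheme.{u}) (j : U ⟶ V) [IsOpenImmersion j], PreservesFiniteLimits (Scheme.Modules.restrictFunctor j)] (O : DCoh.DQCoh Y) (hO : Nonempty (O.obj ≅ DCoh.inD Y (Coh.structureModule Y))) : (∀ x : X, Dual3.IsGorensteinAt f x ↔ ∃ U : X.Opens, x ∈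 U ∧ Dual3.IsInvertibleD ((DCoh.restrictD U.ι).obj ((Dual3.shriekC c a).obj O))) ∧ IsOpen {x : X | Dual3.IsGorensteinAt f x} := by
  haveI : IsLocallyNoetherian Y := LocallyOfFiniteType.isLocallyNoetherian q
  haveI : CompactSpace Y := QuasiCompact.compactSpace_of_compactSpace q
  haveI : IsNoetherian Y := ⟨⟩
  haveI : ∀ R : CommRingCat.{u}, PreservesFiniteLimits (tilde.functor R) :=
    fun R => HensSchLib.tilde_preservesFiniteLimits R
  haveI := ShriekAffLib.isNoetherian_source c.j c.fbar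
  haveI : LocallyOfFiniteType f := by rw [← c.fac]; infer_instance
  haveI : LocallyOfFinitePresentation f := ⟨fun {U} hU {V} hV e => by
    haveI : IsNoetherianRing Γ(Y, U) := IsLocallyNoetherian.component_noetherian ⟨U, hU⟩
    exact RingHom.FinitePresentation.of_finiteType.mp (LocallyOfFiniteType.finiteType_appLE f hU hV e)⟩
  have hopen := Groth.Agent.S3617.result X Y f
  refine ⟨fun x => ⟨fun hx => ?_, fun hx => ?_⟩, hopen⟩
  · obtain ⟨W, hW, V, hV, hVW, hxV, hVG⟩ := ShriekAffLib.exists_charts f x ⟨_, hopen⟩ hx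
    haveI : IsNoetherianRing Γ(Y, W) := IsLocallyNoetherian.component_noetherian ⟨W, hW⟩
    haveI : IsNoetherianRing Γ(X, V) := IsLocallyNoetherian.component_noetherian ⟨V, hV⟩
    letI : Algebra Γ(Y, W) Γ(X, V) := (f.appLE W V hVW).hom.toAlgebra
    haveI : Module.Flat Γ(Y, W) Γ(X, V) := f.flat_appLE hW hV hVW
    obtain ⟨m, ψ, hψ, _, Rψ, adjψ, ⟨e⟩⟩ :=
      ShriekAffLib.exists_affine_model f c.j c.fbar c.fac hc a adj O hO W hW V hV hVW
    haveI hL : ∀ g : Γ(X, V), DRing.HasLBaseChange (algebraMap Γ(X, V) (Localization.Away g)) :=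
      fun g => DRingLib.hasLBaseChange _
    obtain ⟨P, rfl⟩ : ∃ P, hV.fromSpec P = x := ⟨_, hV.fromSpec_primeIdealOf ⟨x, hxV⟩⟩
    let p : PrimeSpectrum Γ(Y, W) := ⟨P.asIdeal.comap (algebraMap Γ(Y, W) Γ(X, V)), inferInstance⟩
    obtain ⟨σ, hσi, hσ⟩ := WeilRes.isIso_comp_residue hW.fromSpec p
    haveI := hσi
    obtain ⟨ε, hε, hει, -, -⟩ := WeilRes.exists_fibreChart f hW.fromSpec hV.fromSpec
      ((hW.SpecMap_appLE_fromSpec f hV hVW).symm) p.asIdeal.ResidueField _ σ hσ
    haveI := hε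
    haveI : Algebra.FiniteType Γ(Y, W) Γ(X, V) := f.finiteType_appLE hW hV hVW
    haveI : IsNoetherianRing (p.asIdeal.ResidueField ⊗[Γ(Y, W)] Γ(X, V)) :=
      Algebra.FiniteType.isNoetherianRing p.asIdeal.ResidueField _
    have hgor : LocCoh.IsGorensteinRing (p.asIdeal.ResidueField ⊗[Γ(Y, W)] Γ(X, V)) :=
      { toIsNoetherian := inferInstance
        isGorensteinLocalRing_localization := fun Q hQ => by
          refine (ShriekAffLib.gorenstein_localization_iff f _ ε ⟨Q, hQ⟩).2 (hVG ?_)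
          rw [← Scheme.Hom.comp_apply, hει, Scheme.Hom.comp_apply]
          exact hV.range_fromSpec.le ⟨_, rfl⟩ }
    obtain ⟨t, ht, n, ⟨z⟩⟩ := ShriekRingLib.invertible_of_gorenstein_fibre _ _ m ψ hψ adjψ P hgor
    obtain ⟨Z, η, hu, -, ⟨d⟩⟩ := DualCxLib.exists_chart_loc (S := Localization.Away t) (Submonoid.powers t)
      hV.fromSpec e
    obtain ⟨η₀, hη₀⟩ := TorIndBCLib.exists_univ_base (algebraMap Γ(X, V) (Localization.Away t))
      (Dual2.shriekVia m Rψ (Dual.inD Γ(Y, W) Γ(Y, W)))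
    obtain ⟨k, -⟩ := ShriekRingLib.exists_iso_univ hu hη₀
    refine ⟨(DualCxLib.basicι t ≫ hV.fromSpec).opensRange, ?_,
      ShriekAffLib.isInvertibleD_range (DualCxLib.basicι t ≫ hV.fromSpec) _ n
        (d ≪≫ (DCoh.tildeD _).mapIso (k ≪≫ z))⟩
    obtain ⟨y, hy⟩ := (DualCxLib.mem_range_basicι t P).2 ht
    exact ⟨y, (Scheme.Hom.comp_apply _ _ _).trans (congrArg _ hy)⟩
  · obtain ⟨U, hxU, hinv⟩ := hx
    obtain ⟨T, n, hxT, hT⟩ := ShriekAffLib.exists_open_iso_shift hinv x hxU
    obtain ⟨W, hW, V, hV, hVW, hxV, hVT⟩ := ShriekAffLib.exists_charts f x T hxT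
    haveI : IsNoetherianRing Γ(Y, W) := IsLocallyNoetherian.component_noetherian ⟨W, hW⟩
    haveI : IsNoetherianRing Γ(X, V) := IsLocallyNoetherian.component_noetherian ⟨V, hV⟩
    letI : Algebra Γ(Y, W) Γ(X, V) := (f.appLE W V hVW).hom.toAlgebra
    haveI : Module.Flat Γ(Y, W) Γ(X, V) := f.flat_appLE hW hV hVW
    obtain ⟨m, ψ, hψ, _, Rψ, adjψ, ⟨e⟩⟩ :=
      ShriekAffLib.exists_affine_model f c.j c.fbar c.fac hc a adj O hO W hW V hV hVW
    obtain ⟨z⟩ := hT Γ(X, V) hV.fromSpec _ e (hV.range_fromSpec.le.trans hVT)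
    obtain ⟨P, rfl⟩ : ∃ P, hV.fromSpec P = x := ⟨_, hV.fromSpec_primeIdealOf ⟨x, hxV⟩⟩
    let p : PrimeSpectrum Γ(Y, W) := ⟨P.asIdeal.comap (algebraMap Γ(Y, W) Γ(X, V)), inferInstance⟩
    let k := p.asIdeal.ResidueField
    obtain ⟨σ, hσi, hσ⟩ := WeilRes.isIso_comp_residue hW.fromSpec p
    haveI := hσi
    obtain ⟨ε, hε, hει, -, hr⟩ := WeilRes.exists_fibreChart f hW.fromSpec hV.fromSpec
      ((hW.SpecMap_appLE_fromSpec f hV hVW).symm) k _ σ hσ
    haveI := hε
    have hs : f (hV.fromSpec P) = hW.fromSpec p := by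
      rw [← Scheme.Hom.comp_apply, ← hW.SpecMap_appLE_fromSpec f hV hVW, Scheme.Hom.comp_apply]
      rfl
    obtain ⟨v, hv⟩ : ∃ v, f.fiberι (hW.fromSpec p) v = hV.fromSpec P := by
      have : hV.fromSpec P ∈ Set.range (f.fiberι (hW.fromSpec p)) := (f.range_fiberι _).ge hs
      exact this
    obtain ⟨Q, rfl⟩ := hr v (by rw [hv]; exact ⟨P, rfl⟩)
    let ι := (Algebra.TensorProduct.includeRight : Γ(X, V) →ₐ[Γ(Y, W)] k ⊗[Γ(Y, W)] Γ(X, V)).toRingHom
    haveI := DRingLib.hasLBaseChange ι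
    have hd := ShriekRingLib.isDualizing_fibre _ _ m ψ hψ adjψ k
    haveI := hd.isNoetherianRing
    obtain ⟨η₀, hη₀⟩ := TorIndBCLib.exists_univ_base ι (Dual2.shriekVia m Rψ (Dual.inD Γ(Y, W) Γ(Y, W)))
    obtain ⟨z'⟩ := ShriekRingLib.nonempty_univ_shift_iso hη₀ n z
    rw [← hv]
    exact (ShriekAffLib.gorenstein_localization_iff f _ ε Q).1
      (DualCxLib.gorenstein_atPrime_of_iso hd n z' Q)

end Groth.Agent.S3616
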