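import Groth.Statements.S4286
import Mathlib
import Groth.Agent.QuotSchLib.BddFam
import Groth.Agent.QuotSchLib.RegBounded
import Groth.Agent.RpushLib.BCMap
import Groth.Agent.QuotSchLib.Src
-- import your own Groth.Agent.* helpers here

set_option autoImplicit false
universe u
open CategoryTheory CategoryTheory.Limits AlgebraicGeometry
open Pic13

namespace Groth.Agent.S4286

/-- (i) implies (iii), over the base S = Spec k with k algebraically closed: let X ⊆ P^n_k be a closed
subscheme and P a bounded family of coherent O_X-modules. Then there is an integer m such that every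
member of P is m-regular, and the Hilbert polynomials d ↦ χ(F(d)) of the members of P form a finite
set. -/
theorem result (k : Type u) [Field k] [IsAlgClosed k] (n : ℕ) (X : Scheme.{u}) [X.Over (Spec (CommRingCat.of k))]
    (i : X ⟶ CohB1.ProjSpace n k) [IsClosedImmersion i] (hi : i ≫ CohB1.ProjSpace.toSpec n k = X ↘ Spec (CommRingCat.of k))
    (P : X.Modules → Prop) (hP : ∀ F, P F → Coh.IsCoh F) (hb : Pic13.IsBounded k X P) :
    (∃ m : ℤ, ∀ F, P F → Pic13.IsMRegular k i F m) ∧
      ∃ s : Finset (Polynomial ℚ), ∀ F, P F → ∃ φ ∈ s, ∀ d : ℤ, (FGA.eulerCharLE k X (Pic13.twistOn k i F d) n : ℚ) = φ.eval (d : ℚ) := by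
  obtain ⟨T, q, hT, hq, F, hF, hcl⟩ := hb
  let Pn := CohB1.ProjSpace n k
  let O' := Twist.twistProjSpace n k
  let G := Scheme.Modules.pushforward i
  let S := Spec (CommRingCat.of k)
  haveI := MumfordLib.isProper_projSpace (n := n) k
  haveI : IsLocallyNoetherian Pn := (CurvLib.isNoetherian k (X := Pn)).toIsLocallyNoetherian
  haveI : IsLocallyNoetherian T := LocallyOfFiniteType.isLocallyNoetherian q
  haveI : CompactSpace T := QuasiCompact.compactSpace_of_compactSpace q
  haveI : AlgebraicGeometry.IsNoetherian T := {}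
  haveI := QuotSchLib.isLocallyNoetherian_projSpaceOver n T
  obtain ⟨σ, Hσ, hσtw⟩ := PicPnLib.exists_square n k (𝟙 S)
  haveI : IsIso σ := Hσ.isIso_fst_of_isIso
  let a₀ : CohB1.ProjSpaceOver n T ⟶ Pn := FGA.projMap n q ≫ inv σ
  have hPT : IsPullback a₀ (CohB1.ProjSpaceOver.toBase n T) (CohB1.ProjSpace.toSpec n k) q := by
    have h1 : IsPullback (inv σ) (CohB1.ProjSpaceOver.toBase n S) (CohB1.ProjSpace.toSpec n k) (𝟙 S) :=
      IsPullback.of_horiz_isIso ⟨by
        rw [Category.comp_id, IsIso.inv_comp_eq]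
        exact ((Category.comp_id _).symm.trans Hσ.w.symm)⟩
    have h2 := (QuotSchLib.isPullback_projMap (n := n) q).paste_horiz h1
    rwa [Category.comp_id] at h2
  let XT := Pic13.prodK k X q
  let fX : XT ⟶ X := pullback.fst (X ↘ S) q
  let sX : XT ⟶ T := pullback.snd (X ↘ S) q
  let pX : XT ⟶ CohB1.ProjSpaceOver n T := hPT.lift (fX ≫ i) sX (by rw [Category.assoc, hi]; exact pullback.condition)
  have hpa : pX ≫ a₀ = fX ≫ i := hPT.lift_fst _ _ _
  have hpb : pX ≫ CohB1.ProjSpaceOver.toBase n T = sX := hPT.lift_snd _ _ _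
  have Hp : IsPullback fX pX i a₀ := by
    refine IsPullback.of_bot ?_ hpa.symm hPT
    rw [hpb, hi]
    exact IsPullback.of_hasPullback _ _
  haveI : IsClosedImmersion pX := MorphismProperty.of_isPullback Hp inferInstance
  have hFM : Coh.IsCoh ((Scheme.Modules.pushforward pX).obj F) := QCohLib.isCoh_push_finite pX F hF
  obtain ⟨m, s, hms⟩ := QuotSchLib.exists_bound ((Scheme.Modules.pushforward pX).obj F) hFM
  have key : ∀ L, P L → Curv2.IsMRegular k n (G.obj L) m ∧
      ∃ Ψ ∈ s, ∀ d : ℤ, (MumfordLib.chi k (G.obj L) d : ℚ) = Ψ.eval (d : ℚ) := fun L hL => by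
    obtain ⟨t, ht, ⟨e⟩⟩ := hcl L hL
    let sl := Pic13.sliceAt k X q t ht
    have hw : 𝟙 Pn ≫ CohB1.ProjSpace.toSpec n k = (CohB1.ProjSpace.toSpec n k ≫ t) ≫ q := by
      rw [Category.id_comp, Category.assoc, ht]
      exact (Category.comp_id _).symm
    let j : Pn ⟶ CohB1.ProjSpaceOver n T := hPT.lift (𝟙 Pn) (CohB1.ProjSpace.toSpec n k ≫ t) hw
    have hja : j ≫ a₀ = 𝟙 Pn := hPT.lift_fst _ _ _
    have hjσ : j ≫ FGA.projMap n q = σ := by
      have h := hja =≫ σ
      simpa [a₀] using h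
    have H : IsPullback j (CohB1.ProjSpace.toSpec n k) (CohB1.ProjSpaceOver.toBase n T) t := by
      refine IsPullback.of_right ?_ (hPT.lift_snd _ _ _) hPT
      rw [hja, ht]
      exact IsPullback.id_horiz _
    have hj : ∀ d : ℤ, Nonempty ((Scheme.Modules.pullback j).obj (Twist.twistOver n T d) ≅ O' d) := fun d =>
      ⟨(Scheme.Modules.pullback j).mapIso (QuotSchLib.nonempty_projMap_twist q d).some.symm ≪≫
        (Scheme.Modules.pullbackComp _ _).app _ ≪≫ (Scheme.Modules.pullbackCongr hjσ).app _ ≪≫ (hσtw d).some⟩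
    have hs1 : sl ≫ fX = 𝟙 X := pullback.lift_fst _ _ _
    have Hs : IsPullback sl i pX j := by
      refine IsPullback.of_right ?_ ?_ Hp
      · rw [hs1, hja]
        exact IsPullback.id_horiz i
      · apply hPT.hom_ext
        · rw [Category.assoc, hpa, ← Category.assoc, hs1, Category.assoc, hja, Category.id_comp, Category.comp_id]
        · rw [Category.assoc, hpb, Category.assoc, hPT.lift_snd, ← Category.assoc, hi]
          exact pullback.lift_snd _ _ _
    haveI := hF.1
    haveI : Coh.IsQCoh ((Scheme.Modules.pushforward pX).obj F) := QCohLib.isQCoh_pushforward pX F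
    have hbc := RpushLib.isIso_bcMap_of Hs F fun US UT hUS hUT hg => RpushLib.bijective_bc_affine Hs F hUS hUT hg
    let ε : (Scheme.Modules.pullback j).obj ((Scheme.Modules.pushforward pX).obj F) ≅ G.obj L :=
      @asIso _ _ _ _ _ hbc ≪≫ G.mapIso e
    obtain ⟨hreg, Ψ, hΨ, hchi⟩ := hms k t j H hj
    refine ⟨fun a ha han => SerreVanLib.subsingleton_HH_of_iso (HilbPolyLib.congrLeft ε.symm _) a (hreg a ha han),
      Ψ, hΨ, fun d => ?_⟩
    rw [← MumfordLib.chi_congr k ε d]
    exact hchi d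
  have hiso : ∀ (L : X.Modules) (d : ℤ),
      Nonempty (CohB1.tensorMod (G.obj L) (O' d) ≅ G.obj (Pic13.twistOn k i L d)) := fun L d => by
    have hLf : FlatMod.IsFinLocFree (O' d) :=
      CurveVBLib.isFinLocFree_of_rank (CurvLib.locFree_of_isInvertible (PicPnLib.twist_inv n k d))
    exact ⟨HilbPolyLib.swapIso _ _ ≪≫ @asIso _ _ _ _ (ProjFormLib.projApp i (O' d) L) (ProjFormLib.isIso_projApp i hLf L) ≪≫
      G.mapIso (HilbPolyLib.swapIso _ _)⟩
  have hq' : ∀ (L : X.Modules), P L → ∀ d : ℤ, Coh.IsQCoh (Pic13.twistOn k i L d) := fun L hL d =>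
    haveI := (hP L hL).1
    MiscFlat6.isQCoh_tensor (AmpleDevLib.isInvertible_pb i (PicPnLib.twist_inv n k d))
  refine ⟨⟨m, fun L hL a ha => ?_⟩, s, fun L hL => ?_⟩
  · haveI := hq' L hL (m - a)
    haveI := (hP L hL).1
    obtain ⟨E'⟩ := QCohLib.nonempty_HH_push i (Pic13.twistOn k i L (m - a)) a
    haveI : Subsingleton (Coh.HH Pn (G.obj (Pic13.twistOn k i L (m - a))) a) := by
      refine SerreVanLib.subsingleton_HH_of_iso (hiso L _).some.symm a ?_
      haveI : Coh.IsQCoh (G.obj L) := QCohLib.isQCoh_pushforward i L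
      rcases Nat.lt_or_ge n a with h | h
      · exact PnCohLib.subsingleton_HH_of_big k _ inferInstance _ a h
      · exact (key L hL).1 a ha h
    first
    | exact E'.toEquiv.subsingleton
    | exact E'.symm.toEquiv.subsingleton
  · obtain ⟨Ψ, hΨ, hchi⟩ := (key L hL).2
    refine ⟨Ψ, hΨ, fun d => ?_⟩
    haveI := hq' L hL d
    rw [← hchi d]
    congr 1
    unfold MumfordLib.chi FGA.eulerCharLE
    refine Finset.sum_congr rfl fun a _ => ?_
    rw [(CurvLib.hIso (k := k) (hiso L d).some a).finrank_eq,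
      (PushLinLib.euler_push k i hi (Pic13.twistOn k i L d)).1 a]

end Groth.Agent.S4286
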