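import Groth.Statements.S5985
import Groth.Agent.EtLocLib.Finite
-- import your own Groth.Agent.* helpers here

set_option autoImplicit false
universe u
open CategoryTheory AlgebraicGeometry
open Unram

namespace Groth.Agent.S5985

/-- Let f : X ⟶ Y be separated and locally of finite type, and y a point of Y whose fibre f⁻¹(y) is
finite (hence discrete). Then there are an étale morphism g : Y' ⟶ Y, a point y' of Y' with g(y') =
y inducing an isomorphism of residue fields κ(y) ≅ κ(y'), and two complementary open subschemes V, W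
of X' = X ×_Y Y' such that V ⟶ Y' is finite and W contains no point of X' lying over y'. -/
theorem result {X Y : Scheme.{u}} (f : X ⟶ Y)
    [LocallyOfFiniteType f] [IsSeparated f] (y : Y) (hfin : (f ⁻¹' {y}).Finite) :
    ∃ (Y' : Scheme.{u}) (g : Y' ⟶ Y) (y' : Y'), Etale g ∧ g y' = y ∧
      IsIso (g.residueFieldMap y') ∧
      ∃ (V W : (Limits.pullback f g).Opens), IsCompl V W ∧
        IsFinite (V.ι ≫ Limits.pullback.snd f g) ∧
        ∀ x : ↥(Limits.pullback f g), Limits.pullback.snd f g x = y' → x ∈ V := by
  have hq : ∀ x ∈ f ⁻¹' {y}, f.QuasiFiniteAt x := by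
    rintro x hx
    obtain rfl : f x = y := hx
    have : Finite (f.fiber (f x)) := by
      haveI := hfin.to_subtype
      exact (f.fiberHomeo (f x)).finite_iff.mpr ‹_›
    exact Scheme.Hom.quasiFiniteAt_iff_isOpen_singleton_asFiber.mpr (isOpen_discrete _)
  obtain ⟨U, g, hg, σ, hσ, V, hVc, hVf, hV⟩ :=
    EtLocLib.exists_elementary_finite f y _ hfin (fun x hx => hx) hq
  obtain ⟨hu, hbij⟩ := EtLocLib.bijective_of_section g σ hσ
  refine ⟨U, g, σ.base (IsLocalRing.closedPoint _), hg, hu, (ConcreteCategory.isIso_iff_bijective _).mpr hbij,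
    V, ⟨(V : Set ↥(Limits.pullback f g))ᶜ, hVc.isOpen_compl⟩, ?_, hVf, fun x hx => hV x hx ?_⟩
  · refine IsCompl.of_eq ?_ ?_
    · exact TopologicalSpace.Opens.ext (Set.inter_compl_self _)
    · exact TopologicalSpace.Opens.ext (Set.union_compl_self _)
  · show f ((Limits.pullback.fst f g) x) = y
    rw [← Scheme.Hom.comp_apply, Limits.pullback.condition, Scheme.Hom.comp_apply, hx, hu]

end Groth.Agent.S5985
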