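import Groth.Statements.S8431
import Groth.Agent.TorusPairLib.Comm
import Groth.Agent.Unram17Lib.FibreMap
-- import your own Groth.Agent.* helpers here

set_option autoImplicit false
set_option backward.isDefEq.respectTransparency false
universe u
open CategoryTheory MonoidalCategory CartesianMonoidalCategory MonObj GrpObj AlgebraicGeometry
open SGA3x

attribute [-instance] CategoryTheory.Hom.commGroup

namespace Groth.Agent.S8431

/-- Let G be an algebraic group over a field k and Z a central algebraic subgroup such that G′ = G/Z is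
a torus. Then G is commutative. Here q : G → G′ is a homomorphism representing the fppf quotient of
G by Z, and G′ is a k-torus. -/
theorem result (k : Type u) [Field k]
    (G : Over (Spec (CommRingCat.of k))) [GrpObj G] [QuasiCompact G.hom] [LocallyOfFiniteType G.hom]
    (Z : Over (Spec (CommRingCat.of k))) [GrpObj Z] (z : Z ⟶ G) [IsMonHom z] [Mono z]
    (hz : ∀ (X : Over (Spec (CommRingCat.of k))) (x : X ⟶ Z) (g : X ⟶ G), (x ≫ z) * g = g * (x ≫ z))
    (G' : Over (Spec (CommRingCat.of k))) [GrpObj G'] (q : G ⟶ G') [IsMonHom q] (hq : RedSub.IsQuotient z q) (hT : Red.IsTorus G') :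
    ∀ (X : Over (Spec (CommRingCat.of k))) (g h : X ⟶ G), g * h = h * g := by
  haveI : IsSeparated G.hom := GrpField.isSeparated_grp
  obtain ⟨h1, h2, h3, hsq⟩ := hq
  haveI := h1; haveI := h2; haveI := h3
  refine TorusPair.comm_of_quotient hT q fun {X} z₀ hz₀ g => ?_
  have e : (1 : X ⟶ G) ≫ q = z₀ ≫ q := by rw [hz₀, MonObj.one_comp]
  have hmul : (G ◁ z) ≫ μ[G] = fst G Z * (snd G Z ≫ z) := by
    rw [Hom.mul_def]
    congr 1
  have hf := hsq.lift_snd 1 z₀ e
  replace hf := (congrArg (hsq.lift 1 z₀ e ≫ ·) hmul.symm).trans hf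
  simp only [MonObj.comp_mul] at hf
  rw [hsq.lift_fst, _root_.one_mul, ← Category.assoc] at hf
  rw [← hf]
  exact hz X _ g

end Groth.Agent.S8431
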