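import Groth.Statements.S18834
import Mathlib
import Groth.Agent.GLinFinLib.Basic
import Groth.Agent.GLinFinLib.Tame
-- import your own Groth.Agent.* helpers here

set_option autoImplicit false
universe u
open TensorProduct
open GIT

namespace Groth.Agent.S18834

/-- Let k be an algebraically closed field of characteristic zero, G = Spec A a linearly reductive
affine group over k (A a commutative Hopf algebra whose finite-dimensional comodules are semisimple)
acting on an affine k-scheme Spec R of finite type (a multiplicative coaction of A on R), and R^G
the ring of invariants. Then for every ideal I of R^G the ideal I·R of R generated by I satisfies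
(I·R) ∩ R^G = I. (The section also assumes Spec R irreducible; that hypothesis plays no role here
and is not carried.) -/
theorem result (k : Type u) [Field k] [IsAlgClosed k] [CharZero k]
    (A : Type u) [CommRing A] [HopfAlgebra k A] (hG : HopfRep.IsLinearlyReductive k A)
    (R : Type u) [CommRing R] [Algebra k R] [Algebra.FiniteType k R]
    [HopfRep.Comod k A R] [GLin.IsCoactAlg k A R]
    (I : Ideal (GLin.invariants k A R)) :
    Ideal.comap (GLin.invariants k A R).val.toRingHom
        (Ideal.map (GLin.invariants k A R).val.toRingHom I) = I := by
  obtain ⟨β, hβ, h1⟩ := ComodLib.exists_invariant_of_isLinearlyReductive hG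
  refine le_antisymm (fun u hu => ?_) Ideal.le_comap_map
  have hu' : (u : R) ∈ Submodule.span R ((GLin.invariants k A R).val '' (I : Set (GLin.invariants k A R))) := hu
  obtain ⟨n, f, g, h⟩ := Submodule.mem_span_set'.1 hu'
  choose y hy hyg using fun i => (g i).2
  have h2 : u = ∑ i, (⟨ComodLib.reynolds R β (f i), ComodLib.reynolds_mem hβ _⟩ : GLin.invariants k A R) * y i := by
    apply Subtype.ext
    have h3 := congrArg (ComodLib.reynolds R β) h
    rw [map_sum, ComodLib.reynolds_fixed h1 u.2] at h3
    rw [← h3, AddSubmonoidClass.coe_finsetSum]
    refine Finset.sum_congr rfl fun i _ => ?_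
    rw [← hyg i]
    exact GLinFinLib.reynolds_smul_fixed (M := R) β (f i) (y i).2
  rw [h2]
  exact sum_mem fun i _ => Ideal.mul_mem_left _ _ (hy i)

end Groth.Agent.S18834
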