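import Groth.Statements.S0516
import Groth.Agent.S0503
import Groth.Agent.HenselLib.FiniteDecomp
import Mathlib.RingTheory.Unramified.Field
import Mathlib.RingTheory.Etale.QuasiFinite

set_option autoImplicit false
universe u
open Hensel

namespace Groth.Agent.S0516

/-- An unramified algebra `S` (formally unramified of finite type) over a strictly henselian local ring
`R` is isomorphic over `R` to a product of finitely many quotient rings of `R` and an `R`-algebra in
which the maximal ideal of `R` generates the unit ideal. -/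
theorem result (R : Type u) [CommRing R]
    [HenselianLocalRing R] [IsSepClosed (IsLocalRing.ResidueField R)] (S : Type u) [CommRing S] [Algebra R S]
    [Algebra.Unramified R S] :
    ∃ (ι : Type u) (_ : Fintype ι) (A : ι → Type u) (_ : ∀ i, CommRing (A i))
      (_ : ∀ i, Algebra R (A i)) (B : Type u) (_ : CommRing B) (_ : Algebra R B),
      (∀ i, Function.Surjective (algebraMap R (A i))) ∧
      Ideal.map (algebraMap R B) (IsLocalRing.maximalIdeal R) = ⊤ ∧
      Nonempty (S ≃ₐ[R] ((∀ i, A i) × B)) := by
  classical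
  haveI : Algebra.FiniteType R S := Algebra.Unramified.finiteType
  haveI : Algebra.QuasiFinite R S := inferInstance
  obtain ⟨e, he, hfin, htop⟩ := Groth.Agent.S0503.result R S
  let F := S ⧸ Ideal.span ({1 - e} : Set S)
  haveI : Module.Finite R F := hfin
  obtain ⟨ι, hι, L, hL0, hL, ⟨ε⟩⟩ := HenselLib.exists_pi_local (R := R) F
  letI hA : ∀ i, Algebra R (L i) := fun i => (((Pi.evalRingHom L i).comp ε.toRingHom).comp (algebraMap R F)).toAlgebra
  let π : ∀ i, F →ₐ[R] L i := fun i =>
    { ((Pi.evalRingHom L i).comp ε.toRingHom) with commutes' := fun r => rfl }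
  have hπ : ∀ i, Function.Surjective (π i) := fun i x => ⟨ε.symm (Pi.single i x), by
    show ε (ε.symm _) i = x
    rw [RingEquiv.apply_symm_apply, Pi.single_eq_same]⟩
  let c : S ≃ₐ[R] F × (S ⧸ Ideal.span ({e} : Set S)) := AlgEquiv.ofBijective
    ((Ideal.Quotient.mkₐ R (Ideal.span ({1 - e} : Set S))).prod (Ideal.Quotient.mkₐ R (Ideal.span ({e} : Set S)))) (by
      refine ⟨fun a b h => ?_, fun ⟨x, y⟩ => ?_⟩
      · simp only [AlgHom.prod_apply, Ideal.Quotient.mkₐ_eq_mk, Prod.mk.injEq, Ideal.Quotient.eq,
          Ideal.mem_span_singleton'] at h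
        obtain ⟨⟨u, hu⟩, v, hv⟩ := h
        rw [← sub_eq_zero]
        linear_combination (-e) * hu + (-(1 - e)) * hv + (u + v) * (-he.eq)
      · obtain ⟨a, rfl⟩ := Ideal.Quotient.mk_surjective x
        obtain ⟨b, rfl⟩ := Ideal.Quotient.mk_surjective y
        refine ⟨e * a + (1 - e) * b, Prod.ext ?_ ?_⟩
        · show Ideal.Quotient.mk _ _ = Ideal.Quotient.mk _ a
          rw [Ideal.Quotient.eq, Ideal.mem_span_singleton']
          exact ⟨b - a, by ring⟩
        · show Ideal.Quotient.mk _ _ = Ideal.Quotient.mk _ b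
          rw [Ideal.Quotient.eq, Ideal.mem_span_singleton']
          exact ⟨a - b, by ring⟩)
  let ε' : F ≃ₐ[R] ∀ i, L i := AlgEquiv.ofRingEquiv (f := ε) fun r => rfl
  refine ⟨ι, hι, L, hL0, hA, S ⧸ Ideal.span ({e} : Set S), inferInstance, inferInstance, fun i => ?_, htop,
    ⟨c.trans (ε'.prodCongr AlgEquiv.refl)⟩⟩
  haveI := hL i
  haveI : Module.Finite R (L i) := Module.Finite.of_surjective (π i).toLinearMap (hπ i)
  haveI : Algebra.FormallyUnramified R F := inferInstance
  haveI : Algebra.FormallyUnramified R (L i) := Algebra.FormallyUnramified.of_surjective (π i) (hπ i)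
  let m := IsLocalRing.maximalIdeal R
  let k := R ⧸ m
  letI : Field k := Ideal.Quotient.field m
  haveI : IsSepClosed k := ‹IsSepClosed (IsLocalRing.ResidueField R)›
  let V := L i ⧸ m.map (algebraMap R (L i))
  haveI : Nontrivial V := Ideal.Quotient.nontrivial_iff.2 fun h => by
    have h2 : m.map (algebraMap R (L i)) ≤ Ideal.jacobson ⊥ :=
      HenselLib.map_le_jacobson_bot (IsLocalRing.maximalIdeal_le_jacobson _)
    rw [h, top_le_iff, Ideal.jacobson_eq_top_iff] at h2
    exact bot_ne_top h2
  haveI : Algebra.FormallyUnramified k V := Algebra.FormallyUnramified.of_restrictScalars R k V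
  haveI : Algebra.EssFiniteType k V := Algebra.EssFiniteType.of_comp R k V
  haveI : IsReduced V := Algebra.FormallyUnramified.isReduced_of_field k V
  haveI : Module.Finite k V := Algebra.FormallyUnramified.finite_of_free k V
  haveI : IsArtinianRing V := IsArtinianRing.of_finite k V
  haveI : IsLocalRing V := IsLocalRing.of_surjective' _ Ideal.Quotient.mk_surjective
  letI : Field V := (IsArtinianRing.isField_of_isReduced_of_isLocalRing V).toField
  haveI : Algebra.IsSeparable k V := Algebra.FormallyUnramified.isSeparable k V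
  have hsurj : Function.Surjective (algebraMap k V) := IsSepClosed.algebraMap_surjective k V
  refine HenselLib.surjective_algebraMap_of_le (I := m) (IsLocalRing.maximalIdeal_le_jacobson _) fun b => ?_
  obtain ⟨x, hx⟩ := hsurj (Ideal.Quotient.mk _ b)
  obtain ⟨a, rfl⟩ := Ideal.Quotient.mk_surjective x
  exact ⟨a, Ideal.Quotient.eq.1 hx.symm⟩

end Groth.Agent.S0516
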