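import Groth.Statements.S0555
import Mathlib
import Groth.Agent.DimIneqLib.Equality

set_option autoImplicit false
universe u
open CAlg

namespace Groth.Agent.S0555

/-- In the situation of the dimension formula, if the Noetherian base ring is universally catenary then
equality holds. -/
theorem result (R : Type u) [CommRing R] [IsDomain R]
    (hR : CAlg.IsUniversallyCatenary R) (S : Type u) [CommRing S] [IsDomain S] [Algebra R S]
    [FaithfulSMul R S] [Algebra.FiniteType R S] (p : Ideal R) [p.IsPrime] (q : Ideal S) [q.IsPrime]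
    [q.LiesOver p] :
    (q.height : Cardinal.{u}) + Algebra.trdeg (R ⧸ p) (S ⧸ q) =
      (p.height : Cardinal.{u}) + Algebra.trdeg R S := by
  haveI : Algebra.FiniteType R (S ⧸ q) := Algebra.FiniteType.of_surjective (Ideal.Quotient.mkₐ R q) Ideal.Quotient.mk_surjective
  haveI : Algebra.FiniteType (R ⧸ p) (S ⧸ q) := Algebra.FiniteType.of_restrictScalars_finiteType R (R ⧸ p) (S ⧸ q)
  have h := congrArg Cardinal.ofENat (DimIneqLib.main_eq (R := R) hR q p)
  rw [Cardinal.ofENat_add, Cardinal.ofENat_add, DimIneqLib.ofENat_tr, DimIneqLib.ofENat_tr] at h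
  exact h

end Groth.Agent.S0555
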