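import Groth.Statements.S8543
import Groth.Agent.SHModelLib.Main
import Groth.Agent.S0506
import Groth.Agent.S9262

set_option autoImplicit false
universe u
open CategoryTheory CategoryTheory.Limits AlgebraicGeometry Opposite
open EtCd

namespace Groth.Agent.S8543

/-- Let R be a discrete valuation ring, X a scheme of finite type over Spec R, x a point of X over the
closed point of Spec R, and A a strict henselization of the local ring of X at x. Then there are a
strictly henselian discrete valuation ring R' (henselian, with separably closed residue field), a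
scheme X' of finite type over Spec R', a closed point x' of X' over the closed point of Spec R', and
a local algebra structure over the local ring of X' at x' for which A is a strict henselization of
that local ring. -/
theorem result (R : Type u) [CommRing R] [IsDomain R]
    [IsDiscreteValuationRing R] {X : Scheme.{u}} (f : X ⟶ Spec (CommRingCat.of R)) [LocallyOfFiniteType f]
    [QuasiCompact f] (x : X)
    (hx : f.base x = ((IsLocalRing.closedPoint R : PrimeSpectrum R) : ↥(Spec (CommRingCat.of R))))
    (A : Type u) [CommRing A] [IsLocalRing A] [Algebra (X.presheaf.stalk x) A]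
    [IsLocalHom (algebraMap (X.presheaf.stalk x) A)] [Hensel.IsStrictHenselization (X.presheaf.stalk x) A] :
    ∃ (R' : Type u) (_ : CommRing R') (_ : IsDomain R') (_ : IsDiscreteValuationRing R') (_ : HenselianLocalRing R')
      (_ : IsSepClosed (IsLocalRing.ResidueField R'))
      (X' : Scheme.{u}) (f' : X' ⟶ Spec (CommRingCat.of R')) (_ : LocallyOfFiniteType f') (_ : QuasiCompact f')
      (x' : X') (_ : IsClosed ({x'} : Set X'))
      (_ : f'.base x' = ((IsLocalRing.closedPoint R' : PrimeSpectrum R') : ↥(Spec (CommRingCat.of R'))))
      (_ : Algebra (X'.presheaf.stalk x') A) (_ : IsLocalHom (algebraMap (X'.presheaf.stalk x') A)),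
      Hensel.IsStrictHenselization (X'.presheaf.stalk x') A := by
  obtain ⟨R0, _, _, _, _, i, hi, hmax, Rh, _, _, _, _, shR0, X', f', hf1, hf2, x', hcl, hbase, algX, hlX, shX⟩ :=
    SHModelLib.exists_model R f x hx A
  haveI := shR0
  obtain ⟨π, hπ⟩ := IsDiscreteValuationRing.exists_irreducible R
  have hp : IsLocalRing.maximalIdeal R0 = Ideal.span {i π} := by
    rw [hmax, hπ.maximalIdeal_eq, Ideal.map_span, Set.image_singleton]
  have hnf : ¬ IsField R0 := by
    rw [IsLocalRing.isField_iff_maximalIdeal_eq, hp, Ideal.span_singleton_eq_bot]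
    exact fun h => hπ.ne_zero (hi (h.trans (map_zero i).symm))
  have hiff : (IsLocalRing.maximalIdeal R0).IsPrincipal ↔ IsDiscreteValuationRing R0 :=
    (IsDiscreteValuationRing.TFAE R0 hnf).out 4 0
  have hdvr : IsDiscreteValuationRing R0 := hiff.1 ⟨⟨i π, hp⟩⟩
  obtain ⟨H, _, _, _, _, shH⟩ := Groth.Agent.S0506.result R0
  haveI := shH
  obtain ⟨hdom, hdvr'⟩ := (Groth.Agent.S9262.result R0 H Rh).2.1 ⟨inferInstance, hdvr⟩
  exact ⟨Rh, inferInstance, hdom, hdvr', Hensel.IsStrictHenselization.henselian (R := R0) (S := Rh),
    (Hensel.IsStrictHenselization.isSepClosure (R := R0) (S := Rh)).sep_closed, X', f', hf1, hf2, x', hcl, hbase,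
    algX, hlX, shX⟩

end Groth.Agent.S8543
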