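import Groth.Statements.S19864
import Groth.Agent.AdicFSLib.Completion
import Groth.Agent.AdicFSLib.Pointwise
import Groth.Agent.S9259
-- import your own Groth.Agent.* helpers here

set_option autoImplicit false
universe u
open CAlg

namespace Groth.Agent.S19864

/-- Let A and B be Noetherian rings and B an A-algebra. Then A → B is a regular homomorphism (flat with
Noetherian, geometrically regular fibres) if and only if for every prime q of B lying over the prime
p of A the induced local homomorphism A_p → B_q is formally smooth for the adic topologies of the
maximal ideals (equivalently, for the adic topology of the maximal ideal of B_q). -/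
theorem result (A B : Type u)
    [CommRing A] [CommRing B] [Algebra A B] [IsNoetherianRing A] [IsNoetherianRing B] :
    CAlg.IsRegularHom A B ↔
      ∀ (q : Ideal B) [q.IsPrime],
        letI := (Localization.localRingHom (Ideal.comap (algebraMap A B) q) q (algebraMap A B) rfl).toAlgebra
        CAlgX.IsAdicFormallySmooth (Localization.AtPrime (Ideal.comap (algebraMap A B) q))
          (Localization.AtPrime q) (IsLocalRing.maximalIdeal (Localization.AtPrime q)) := by
  constructor
  · intro h q _
    letI := (Localization.localRingHom (Ideal.comap (algebraMap A B) q) q (algebraMap A B) rfl).toAlgebra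
    haveI : IsLocalHom (algebraMap (Localization.AtPrime (Ideal.comap (algebraMap A B) q)) (Localization.AtPrime q)) :=
      inferInstanceAs (IsLocalHom (Localization.localRingHom (Ideal.comap (algebraMap A B) q) q (algebraMap A B) rfl))
    have h1 := (Groth.Agent.S9259.result A B).1.1 h q
    haveI := h1.1
    exact AdicFSLib.adicFS_of_flat (h1.2 _).2
  · intro h
    refine AdicFSLib.isRegularHom_of_forall_fibre A B fun q _ => ?_
    letI := (Localization.localRingHom (Ideal.comap (algebraMap A B) q) q (algebraMap A B) rfl).toAlgebra
    haveI : IsLocalHom (algebraMap (Localization.AtPrime (Ideal.comap (algebraMap A B) q)) (Localization.AtPrime q)) :=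
      inferInstanceAs (IsLocalHom (Localization.localRingHom (Ideal.comap (algebraMap A B) q) q (algebraMap A B) rfl))
    exact ⟨AdicFSLib.flat_of_adicFS (h q), AdicFSLib.isGeometricallyRegular_fibre_of_adicFS (h q)⟩

end Groth.Agent.S19864
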