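import Groth.Statements.S9294
import Groth.Agent.GRingLib.RegHom
-- import your own Groth.Agent.* helpers here

set_option autoImplicit false
universe u
open CAlg

namespace Groth.Agent.S9294

/-- If A → B and B → C are regular ring maps and every fibre ring of the composite A → C is Noetherian,
the composite is regular. -/
theorem result (A B C : Type u) [CommRing A] [CommRing B] [CommRing C]
    [Algebra A B] [Algebra B C] [Algebra A C] [IsScalarTower A B C]
    (hAB : CAlg.IsRegularHom A B) (hBC : CAlg.IsRegularHom B C)
    (hN : ∀ (p : Ideal A) [p.IsPrime], IsNoetherianRing (p.Fiber C)) :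
    CAlg.IsRegularHom A C := by
  haveI := hAB.1
  haveI := hBC.1
  refine ⟨Module.Flat.trans A B C, fun p _ ↦ ⟨hN p, ?_⟩⟩
  haveI := hN p
  haveI := (hAB.2 p).1
  letI : Algebra p.ResidueField (TensorProduct A B p.ResidueField) :=
    (Algebra.TensorProduct.includeRight (R := A) (A := B) (B := p.ResidueField)).toRingHom.toAlgebra
  let e0 : p.Fiber B ≃ₐ[p.ResidueField] TensorProduct A B p.ResidueField :=
    AlgEquiv.ofRingEquiv (f := (Algebra.TensorProduct.comm A p.ResidueField B).toRingEquiv) fun x ↦ rfl
  have : IsNoetherianRing (TensorProduct A B p.ResidueField) := isNoetherianRing_of_ringEquiv _ e0.toRingEquiv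
  have hB' : CAlg.IsGeometricallyRegular p.ResidueField (TensorProduct A B p.ResidueField) := fun k' _ _ hk ↦
    haveI := (hAB.2 p).2 k' hk
    IsRegularRing.of_ringEquiv (R := TensorProduct p.ResidueField k' (p.Fiber B))
      (Algebra.TensorProduct.congr (AlgEquiv.refl (R := p.ResidueField) (A₁ := k')) e0).toRingEquiv
  let ε := GeomRedFibLib.tensorEquiv A B C p.ResidueField
  haveI : IsNoetherianRing (TensorProduct B (TensorProduct A B p.ResidueField) C) :=
    isNoetherianRing_of_ringEquiv (p.Fiber C) ε.symm
  have hB'C' : CAlg.IsRegularHom (TensorProduct A B p.ResidueField)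
      (TensorProduct B (TensorProduct A B p.ResidueField) C) :=
    ⟨inferInstance, fun q _ ↦ ⟨GeomRedFibLib.isNoetherianRing_fiber _ _ q,
      (GeomRedFibLib.isGeometricallyRegular_fiber_iff AlgEquiv.refl (q.comap (algebraMap B _)) q
        ((Ideal.surjectiveOnStalks_residueField p).baseChange (S := B)) rfl).mpr (hBC.2 _).2⟩⟩
  have hC' := GRingLib.isGeometricallyRegular_comp p.ResidueField (TensorProduct A B p.ResidueField)
    (TensorProduct B (TensorProduct A B p.ResidueField) C) hB' hB'C'
  let e1 : TensorProduct B (TensorProduct A B p.ResidueField) C ≃ₐ[p.ResidueField] p.Fiber C :=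
    AlgEquiv.ofRingEquiv (f := ε) fun x ↦ by
      simp [ε, GeomRedFibLib.tensorEquiv, RingHom.algebraMap_toAlgebra, Algebra.TensorProduct.algebraMap_apply]
  intro k' _ _ hk
  haveI := hC' k' hk
  exact IsRegularRing.of_ringEquiv
    (R := TensorProduct p.ResidueField k' (TensorProduct B (TensorProduct A B p.ResidueField) C))
    (Algebra.TensorProduct.congr (AlgEquiv.refl (R := p.ResidueField) (A₁ := k')) e1).toRingEquiv

end Groth.Agent.S9294
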