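import Groth.Statements.S18404
import Mathlib.LinearAlgebra.Matrix.NonsingularInverse
import Mathlib.LinearAlgebra.Matrix.Determinant.Basic
import Mathlib.Tactic.LinearCombination
import Mathlib.Tactic.FinCases

set_option autoImplicit false
universe u
open Cubic

namespace Groth.Agent.S18404

open MvPolynomial

private lemma eval_form (k : ℂ) (v : Fin 3 → ℂ) :
    eval v (HesseCubic.form k) = v 0 ^ 3 + v 1 ^ 3 + v 2 ^ 3 - 3 * k * (v 0 * v 1 * v 2) := by
  simp [HesseCubic.form]

private def gW (k : ℂ) (v w : Fin 3 → ℂ) : ℂ :=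
  (v 0 ^ 2 - k * v 1 * v 2) * w 0 + (v 1 ^ 2 - k * v 2 * v 0) * w 1 + (v 2 ^ 2 - k * v 0 * v 1) * w 2

private def qW (k : ℂ) (v w : Fin 3 → ℂ) : ℂ :=
  v 0 * w 0 ^ 2 + v 1 * w 1 ^ 2 + v 2 * w 2 ^ 2
    - k * (v 2 * w 0 * w 1 + v 0 * w 1 * w 2 + v 1 * w 2 * w 0)

private lemma expand (k : ℂ) (v w : Fin 3 → ℂ) (t : ℂ) :
    eval (v + t • w) (HesseCubic.form k) =
      eval v (HesseCubic.form k) + 3 * t * gW k v w + 3 * t ^ 2 * qW k v w + t ^ 3 * eval w (HesseCubic.form k) := by
  simp only [eval_form, gW, qW, Pi.add_apply, Pi.smul_apply, smul_eq_mul]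
  ring

private lemma flex_iff (k : ℂ) (v w : Fin 3 → ℂ) (hCv : eval v (HesseCubic.form k) = 0) :
    (∀ t : ℂ, eval (v + t • w) (HesseCubic.form k) = t ^ 3 * eval w (HesseCubic.form k)) ↔
      gW k v w = 0 ∧ qW k v w = 0 := by
  simp only [expand, hCv]
  refine ⟨fun h => ?_, fun h t => by rw [h.1, h.2]; ring⟩
  have h1 := h 1
  have h2 := h (-1)
  constructor
  · linear_combination (1 / 6 : ℂ) * h1 - (1 / 6 : ℂ) * h2
  · linear_combination (1 / 6 : ℂ) * h1 + (1 / 6 : ℂ) * h2

private lemma prod_eq_zero (k : ℂ) (hk : k ^ 3 ≠ 1) (v w : Fin 3 → ℂ)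
    (hC : eval v (HesseCubic.form k) = 0) (hli : LinearIndependent ℂ ![v, w])
    (hg : gW k v w = 0) (hq : qW k v w = 0) : v 0 * v 1 * v 2 = 0 := by
  rw [eval_form] at hC
  rw [gW] at hg
  rw [qW] at hq
  rw [LinearIndependent.pair_iff] at hli
  let H : Matrix (Fin 3) (Fin 3) ℂ :=
    !![2 * v 0, -(k * v 2), -(k * v 1); -(k * v 2), 2 * v 1, -(k * v 0); -(k * v 1), -(k * v 0), 2 * v 2]
  have hdetH : H.det = 8 * (1 - k ^ 3) * (v 0 * v 1 * v 2) := by
    simp only [H, Matrix.det_fin_three, Matrix.of_apply, Matrix.cons_val', Matrix.cons_val_zero,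
      Matrix.cons_val_one, Matrix.cons_val, Matrix.empty_val', Matrix.cons_val_fin_one]
    linear_combination (-2 * k ^ 2) * hC
  have key : ∀ u : Fin 3 → ℂ, (Matrix.of ![v, w, u]).det = 0 ∨ H.det = 0 := by
    intro u
    have h0 : (Matrix.of ![v, w, u] * H * (Matrix.of ![v, w, u]).transpose).det = 0 := by
      have e00 : (Matrix.of ![v, w, u] * H * (Matrix.of ![v, w, u]).transpose) 0 0 = 0 := by
        simp only [H, Matrix.mul_apply, Fin.sum_univ_three, Matrix.transpose_apply, Matrix.of_apply, Matrix.cons_val',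
          Matrix.cons_val_zero, Matrix.cons_val_one, Matrix.cons_val, Matrix.cons_val_fin_one]
        linear_combination 2 * hC
      have e01 : (Matrix.of ![v, w, u] * H * (Matrix.of ![v, w, u]).transpose) 0 1 = 0 := by
        simp only [H, Matrix.mul_apply, Fin.sum_univ_three, Matrix.transpose_apply, Matrix.of_apply, Matrix.cons_val',
          Matrix.cons_val_zero, Matrix.cons_val_one, Matrix.cons_val, Matrix.cons_val_fin_one]
        linear_combination 2 * hg
      have e10 : (Matrix.of ![v, w, u] * H * (Matrix.of ![v, w, u]).transpose) 1 0 = 0 := by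
        simp only [H, Matrix.mul_apply, Fin.sum_univ_three, Matrix.transpose_apply, Matrix.of_apply, Matrix.cons_val',
          Matrix.cons_val_zero, Matrix.cons_val_one, Matrix.cons_val, Matrix.cons_val_fin_one]
        linear_combination 2 * hg
      have e11 : (Matrix.of ![v, w, u] * H * (Matrix.of ![v, w, u]).transpose) 1 1 = 0 := by
        simp only [H, Matrix.mul_apply, Fin.sum_univ_three, Matrix.transpose_apply, Matrix.of_apply, Matrix.cons_val',
          Matrix.cons_val_zero, Matrix.cons_val_one, Matrix.cons_val, Matrix.cons_val_fin_one]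
        linear_combination 2 * hq
      rw [Matrix.det_fin_three, e00, e01, e10, e11]
      ring
    rw [Matrix.det_mul, Matrix.det_mul, Matrix.det_transpose] at h0
    rcases mul_eq_zero.1 h0 with h | h
    · exact mul_eq_zero.1 h
    · exact Or.inl h
  have hH : H.det = 0 := by
    by_contra hH
    have k0 := (key ![1, 0, 0]).resolve_right hH
    have k1 := (key ![0, 1, 0]).resolve_right hH
    have k2 := (key ![0, 0, 1]).resolve_right hH
    simp [Matrix.det_fin_three] at k0 k1 k2
    have contra : ∀ i, v i = 0 := by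
      intro i
      have := hli (w i) (-(v i)) (by
        funext j
        simp only [Pi.add_apply, Pi.smul_apply, smul_eq_mul, Pi.zero_apply]
        fin_cases i <;> fin_cases j <;> simp only [Fin.isValue, Fin.zero_eta, Fin.mk_one, Fin.reduceFinMk] <;>
          first
            | ring1
            | linear_combination k0
            | linear_combination -k0
            | linear_combination k1
            | linear_combination -k1
            | linear_combination k2
            | linear_combination -k2)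
      simpa using this.2
    exact absurd (hli 1 0 (by funext j; simp [contra j])).1 one_ne_zero
  rw [hdetH] at hH
  rcases mul_eq_zero.1 hH with h | h
  · exact absurd (sub_eq_zero.1 ((mul_eq_zero.1 h).resolve_left (by norm_num))).symm hk
  · exact h

open MvPolynomial in
/-- Let k ∈ ℂ with k³ ≠ 1 and let h = X₀³ + X₁³ + X₂³ − 3k·X₀X₁X₂ be the Hesse cubic. For a nonzero
vector v with h(v) = 0, the corresponding point is a flex of the plane curve of h — some line
through it meets the curve there with multiplicity three, i.e. there is a vector w linearly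
independent from v with h(v + t·w) = t³·h(w) for every t — exactly when v is a scalar multiple of
one of the nine vectors (0, 1, −γ), (−γ, 0, 1), (1, −γ, 0) with γ³ = 1. -/
theorem result (k : ℂ) (hk : k ^ 3 ≠ 1) (v : Fin 3 → ℂ) (hv : v ≠ 0)
    (hCv : eval v (HesseCubic.form k) = 0) :
    (∃ w : Fin 3 → ℂ, LinearIndependent ℂ ![v, w] ∧
        ∀ t : ℂ, eval (v + t • w) (HesseCubic.form k) = t ^ 3 * eval w (HesseCubic.form k)) ↔
      ∃ γ c : ℂ, γ ^ 3 = 1 ∧ (v = c • ![0, 1, -γ] ∨ v = c • ![-γ, 0, 1] ∨ v = c • ![1, -γ, 0]) := by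
  constructor
  · rintro ⟨w, hli, hw⟩
    obtain ⟨hg, hq⟩ := (flex_iff k v w hCv).1 hw
    have habc := prod_eq_zero k hk v w hCv hli hg hq
    rw [eval_form, habc] at hCv
    have aux : ∀ p q : ℂ, p ^ 3 + q ^ 3 = 0 → (p ≠ 0 ∨ q ≠ 0) → p ≠ 0 ∧ (-(q / p)) ^ 3 = 1 ∧ q = p * (q / p) := by
      intro p q h hpq
      have hp : p ≠ 0 := by
        rintro rfl
        have : q = 0 := by simpa using h
        simp [this] at hpq
      refine ⟨hp, ?_, (mul_div_cancel₀ q hp).symm⟩
      rw [← sub_eq_zero]
      field_simp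
      linear_combination -h
    have hne : v 0 ≠ 0 ∨ v 1 ≠ 0 ∨ v 2 ≠ 0 := by
      by_contra! h
      exact hv (funext fun i => by fin_cases i <;> simp [h.1, h.2.1, h.2.2])
    simp only [mul_eq_zero] at habc
    rcases habc with (h | h) | h
    · obtain ⟨hp, hγ, hqp⟩ := aux (v 1) (v 2) (by rw [h] at hCv; linear_combination hCv) (by simpa [h] using hne)
      refine ⟨-(v 2 / v 1), v 1, hγ, Or.inl (funext fun i => ?_)⟩
      fin_cases i <;> simp [h, ← hqp]
    · obtain ⟨hp, hγ, hqp⟩ := aux (v 2) (v 0) (by rw [h] at hCv; linear_combination hCv) (by simpa [h, or_comm] using hne)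
      refine ⟨-(v 0 / v 2), v 2, hγ, Or.inr (Or.inl (funext fun i => ?_))⟩
      fin_cases i <;> simp [h, ← hqp]
    · obtain ⟨hp, hγ, hqp⟩ := aux (v 0) (v 1) (by rw [h] at hCv; linear_combination hCv) (by simpa [h] using hne)
      refine ⟨-(v 1 / v 0), v 0, hγ, Or.inr (Or.inr (funext fun i => ?_))⟩
      fin_cases i <;> simp [h, ← hqp]
  · rintro ⟨γ, c, hγ, h⟩
    have hc : c ≠ 0 := by
      rintro rfl
      rcases h with h | h | h <;> exact hv (by simpa using h)
    have hγ0 : γ ≠ 0 := by rintro rfl; simp at hγ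
    rcases h with rfl | rfl | rfl
    · refine ⟨![1, -(k * γ), 0], LinearIndependent.pair_iff.2 (fun s t hst => ?_), (flex_iff k _ _ hCv).2 ⟨?_, ?_⟩⟩
      · have h0 := congrFun hst 0
        have h2 := congrFun hst 2
        simp [hc, hγ0] at h0 h2
        exact ⟨h2, h0⟩
      · simp [gW]; ring
      · simp [qW]; ring
    · refine ⟨![0, 1, -(k * γ)], LinearIndependent.pair_iff.2 (fun s t hst => ?_), (flex_iff k _ _ hCv).2 ⟨?_, ?_⟩⟩
      · have h1 := congrFun hst 1
        have h0 := congrFun hst 0
        simp [hc, hγ0] at h0 h1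
        exact ⟨h0, h1⟩
      · simp [gW]; ring
      · simp [qW]; ring
    · refine ⟨![-(k * γ), 0, 1], LinearIndependent.pair_iff.2 (fun s t hst => ?_), (flex_iff k _ _ hCv).2 ⟨?_, ?_⟩⟩
      · have h2 := congrFun hst 2
        have h1 := congrFun hst 1
        simp [hc, hγ0] at h1 h2
        exact ⟨h1, h2⟩
      · simp [gW]; ring
      · simp [qW]; ring

end Groth.Agent.S18404
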