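import Groth.Statements.S11449
import Groth.Agent.HBLib.Basic
import Groth.Agent.DepthLib.AB
import Groth.Agent.SkOpenLib.Local
import Groth.Agent.RegUFDLib.Basic
import Groth.Agent.KunzLib.Basic

set_option autoImplicit false
universe u
open DefT

namespace Groth.Agent.S11449


open CommAlgDim in
/-- The syzygy module of generators of a perfect ideal of codimension two is free. -/
theorem projective_syzygies {A : Type u} [CommRing A] [IsRegularLocalRing A] (I : Ideal A)
    [LocCoh.IsCohenMacaulayLocalRing (A ⧸ I)] {m : ℕ} (hm : ringKrullDim (A ⧸ I) = m)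
    (hd : ringKrullDim A = (m + 2 : ℕ)) {F : Type u} [AddCommGroup F] [Module A F] [Module.Projective A F]
    (π : F →ₗ[A] I) (hπ : Function.Surjective π) : Module.Projective A (LinearMap.ker π) := by
  have hdep : LocCoh.depth A (A ⧸ I) = m := by
    rw [SkOpenLib.depth_of_surjective (R := A) (S := A ⧸ I) Ideal.Quotient.mk_surjective]
    have h := LocCoh.IsCohenMacaulayLocalRing.supportDim_eq_depth (R := A ⧸ I)
    rw [Module.supportDim_self_eq_ringKrullDim, hm] at h
    exact_mod_cast h.symm
  have h3 : PDLT A (A ⧸ I) 3 := by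
    have := (DepthLib.le_depth_iff_pdlt A (A ⧸ I) hd (n := m) (by omega)).1 hdep.ge
    rwa [show m + 2 + 1 - m = 3 by omega] at this
  have h2 : PDLT A I 2 :=
    ((pdlt_ker_iff (Submodule.mkQ I) (Submodule.mkQ_surjective I) 1).1 h3).of_equiv
      (LinearEquiv.ofEq _ _ (Submodule.ker_mkQ I))
  exact pdlt_one_iff.1 ((pdlt_ker_iff π hπ 0).1 h2)

/-- Let A be a regular local ring and I an ideal such that A/I is a Cohen–Macaulay local ring whose
Krull dimension is dim A − 2. Then for some r there is an (r+1) × r matrix φ with entries in A such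
that, writing f_i for (−1)^i times the determinant of φ with its i-th row removed (i = 0, …, r), the
elements f_0, …, f_r generate I, no family of fewer than r + 1 elements generates I, multiplication
by φ is an injective map A^r → A^{r+1}, and the image of that map is exactly the kernel of the map
A^{r+1} → A sending v to Σ_i v_i f_i; together with A → A/I this is a free resolution 0 → A^r →
A^{r+1} → A → A/I → 0. -/
theorem result
    (A : Type u) [CommRing A] [IsRegularLocalRing A] (I : Ideal A)
    [LocCoh.IsCohenMacaulayLocalRing (A ⧸ I)]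
    (hcodim : ringKrullDim (A ⧸ I) + 2 = ringKrullDim A) :
    ∃ (r : ℕ) (φ : Matrix (Fin (r + 1)) (Fin r) A),
      Ideal.span (Set.range (fun i : Fin (r + 1) => (-1 : A) ^ (i : ℕ) * (φ.submatrix i.succAbove id).det)) = I ∧
      I.spanFinrank = r + 1 ∧
      Function.Injective φ.mulVecLin ∧
      LinearMap.range φ.mulVecLin =
        LinearMap.ker (Fintype.linearCombination A (fun i : Fin (r + 1) => (-1 : A) ^ (i : ℕ) * (φ.submatrix i.succAbove id).det)) := by
  classical
  haveI : IsDomain A := CommAlgDim.isDomain_of_isRegularLocalRing A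
  haveI := RegUFDLib.uniqueFactorizationMonoid A
  obtain ⟨m, hm⟩ : ∃ m : ℕ, ringKrullDim (A ⧸ I) = m := by
    obtain ⟨x, hx⟩ := WithBot.ne_bot_iff_exists.1 (ringKrullDim_ne_bot (R := A ⧸ I))
    have hlt : ringKrullDim (A ⧸ I) < ⊤ := ringKrullDim_lt_top
    rw [← hx] at hlt ⊢
    obtain ⟨m, hm⟩ := ENat.ne_top_iff_exists.1 (show x ≠ ⊤ from fun h => hlt.ne (by rw [h]; rfl))
    exact ⟨m, by rw [← hm]; rfl⟩
  have hd : ringKrullDim A = (m + 2 : ℕ) := by rw [← hcodim, hm]; norm_cast
  have hI0 : I ≠ ⊥ := by
    rintro rfl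
    have h := (ringKrullDim_eq_of_ringEquiv (RingEquiv.quotientBot A)).symm.trans hm
    rw [hd] at h
    norm_cast at h
    omega
  have hI1 : I ≠ ⊤ := fun h => by
    haveI : Subsingleton (A ⧸ I) := Ideal.Quotient.subsingleton_iff.2 h
    rw [ringKrullDim_eq_bot_of_subsingleton] at hm
    exact WithBot.bot_ne_coe hm
  have hcop : ∀ q : A, (∀ a ∈ I, q ∣ a) → IsUnit q := by
    intro q hq
    by_contra hqu
    have h1 : ringKrullDim (A ⧸ Ideal.span {q}) ≤ m := by
      rw [← hm]
      exact ringKrullDim_le_of_surjective (Ideal.Quotient.factor fun a ha => Ideal.mem_span_singleton.2 (hq a ha))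
        (Ideal.Quotient.factor_surjective _)
    have h2 := ringKrullDim_le_ringKrullDim_quotient_add_card {q} (by
      simp only [Finset.coe_singleton, Set.singleton_subset_iff, IsLocalRing.ringJacobson_eq_maximalIdeal]
      exact hqu)
    rw [Finset.coe_singleton, hd, Finset.card_singleton] at h2
    have := h2.trans (add_le_add h1 le_rfl)
    norm_cast at this
    omega
  obtain ⟨n, hn⟩ : ∃ n, n = I.spanFinrank := ⟨_, rfl⟩
  obtain ⟨g, hg⟩ : ∃ g : Fin n → A, Ideal.span (Set.range g) = I := by
    obtain ⟨s, hs, hspan⟩ := Submodule.FG.exists_span_finset_card_eq_spanFinrank (IsNoetherian.noetherian I)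
    subst hn
    refine ⟨fun i => (s.equivFin.symm (Fin.cast hs.symm i) : A), ?_⟩
    refine (congrArg Ideal.span (Set.ext fun y => ?_)).trans hspan
    constructor
    · rintro ⟨i, rfl⟩
      exact (s.equivFin.symm _).2
    · intro hy
      exact ⟨Fin.cast hs (s.equivFin ⟨y, hy⟩), by simp⟩
  let π : (Fin n → A) →ₗ[A] I := (Fintype.linearCombination A g).codRestrict I fun c => by
    rw [Fintype.linearCombination_apply, ← hg]
    exact sum_mem fun i _ => Ideal.mul_mem_left _ _ (Ideal.subset_span ⟨i, rfl⟩)
  have hπ : Function.Surjective π := fun ⟨x, hx⟩ => by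
    rw [← hg, Ideal.mem_span_range_iff_exists_fun] at hx
    obtain ⟨c, hc⟩ := hx
    exact ⟨c, Subtype.ext ((Fintype.linearCombination_apply A g c).trans hc)⟩
  haveI := projective_syzygies I hm hd π hπ
  haveI : Module.Free A (LinearMap.ker π) := Module.free_of_flat_of_isLocalRing
  have hrk : Module.finrank A (LinearMap.ker π) + 1 = n := by
    have h1 := Submodule.finrank_quotient_add_finrank (LinearMap.ker π)
    rw [(π.quotKerEquivOfSurjective hπ).finrank_eq, Module.finrank_fin_fun] at h1
    have h2 : Module.finrank A I = 1 := by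
      refine le_antisymm ((Submodule.finrank_le I).trans_eq (Module.finrank_self A)) ?_
      haveI : Nontrivial I := Submodule.nontrivial_iff_ne_bot.2 hI0
      exact Module.finrank_pos
    omega
  generalize hr : Module.finrank A (LinearMap.ker π) = r at hrk
  subst hrk
  let b : Module.Basis (Fin r) A (LinearMap.ker π) := Module.finBasisOfFinrankEq A _ hr
  let L : (Fin r → A) →ₗ[A] (Fin (r + 1) → A) := (LinearMap.ker π).subtype.comp b.equivFun.symm.toLinearMap
  let φ : Matrix (Fin (r + 1)) (Fin r) A := LinearMap.toMatrix' L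
  have hφL : φ.mulVecLin = L := by
    rw [show φ.mulVecLin = Matrix.toLin' φ from rfl, Matrix.toLin'_toMatrix']
  have hφi : Function.Injective φ.mulVecLin := by
    rw [hφL]; exact Subtype.val_injective.comp b.equivFun.symm.injective
  have hφr : LinearMap.range φ.mulVecLin = LinearMap.ker (Fintype.linearCombination A g) := by
    rw [hφL, LinearMap.range_comp_of_range_eq_top _ (LinearEquiv.range _), Submodule.range_subtype]
    exact LinearMap.ker_codRestrict _ _ _
  obtain ⟨l, hl⟩ := HBLib.minor_eq_unit_mul φ g hφi hφr (by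
      by_contra h
      push Not at h
      exact hI0 (hg ▸ Ideal.span_eq_bot.2 (by rintro _ ⟨i, rfl⟩; exact h i)))
    (fun q hq => hcop q fun a ha => by
      rw [← hg, Ideal.mem_span_range_iff_exists_fun] at ha
      obtain ⟨c, rfl⟩ := ha
      exact Finset.dvd_sum fun i _ => (hq i).mul_left _)
    (fun hF => by
      have := ringKrullDim_eq_zero_of_isField hF
      rw [hd] at this
      norm_cast at this)
  have hr0 : 0 < r := by
    rcases Nat.eq_zero_or_pos r with rfl | h
    · refine absurd ?_ hI1
      rw [← hg, Ideal.eq_top_iff_one]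
      have h0 := hl 0
      simp only [HBLib.minor, Fin.val_zero, pow_zero, one_mul, Matrix.det_fin_zero] at h0
      rw [h0]
      exact Ideal.mul_mem_left _ _ (Ideal.subset_span ⟨0, rfl⟩)
    · exact h
  obtain ⟨ψ, hψ, hψr, hψi⟩ := HBLib.exists_rescale φ l hr0
  have hgψ : (fun i : Fin (r + 1) => (-1 : A) ^ (i : ℕ) * (ψ.submatrix i.succAbove id).det) = g :=
    funext fun i => l.mul_right_inj.1 ((hψ i).symm.trans (hl i))
  refine ⟨r, ψ, ?_, hn.symm, hψi hφi, ?_⟩ <;> rw [hgψ]
  · exact hg
  · rw [hψr, hφr]

end Groth.Agent.S11449
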