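import Groth.Statements.S11460
import Groth.Agent.HBLib.Spread
import Groth.Agent.FComplLib.Modules
import Groth.Agent.CMFlatLib.Open
import Groth.Agent.S11449
import Groth.Agent.S1535

set_option autoImplicit false
universe u
open CategoryTheory AlgebraicGeometry
open DefT

namespace Groth.Agent.S11460


/-- Passing from a resolution over a localization to one defined over the ring. -/
theorem exists_model {B L : Type u} [CommRing B] [CommRing L] [Algebra B L] (T : Submonoid B) [IsLocalization T L]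
    {r : ℕ} (φ : Matrix (Fin (r + 1)) (Fin r) L) (I : Ideal L)
    (hI : Ideal.span (Set.range (HBLib.minor φ)) = I) (hinj : Function.Injective φ.mulVecLin)
    (hex : LinearMap.range φ.mulVecLin = LinearMap.ker (Fintype.linearCombination L (HBLib.minor φ))) :
    ∃ ψ : Matrix (Fin (r + 1)) (Fin r) B,
      Ideal.span (Set.range (HBLib.minor (ψ.map (algebraMap B L)))) = I ∧
      Function.Injective (ψ.map (algebraMap B L)).mulVecLin ∧
      LinearMap.range (ψ.map (algebraMap B L)).mulVecLin =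
        LinearMap.ker (Fintype.linearCombination L (HBLib.minor (ψ.map (algebraMap B L)))) := by
  obtain ⟨ψ, s, hψ⟩ := HBLib.exists_matrix_model T L φ
  have hlin : (ψ.map (algebraMap B L)).mulVecLin = (s : L) • φ.mulVecLin := by
    rw [hψ]
    refine LinearMap.ext fun v => ?_
    rw [Matrix.mulVecLin_apply, LinearMap.smul_apply, Matrix.mulVecLin_apply, Matrix.smul_mulVec]
  refine ⟨ψ, ?_, ?_, ?_⟩
  · rw [← hI, hψ, HBLib.minor_smul]
    refine le_antisymm (Ideal.span_le.2 (Set.range_subset_iff.2 fun i => ?_)) (Ideal.span_le.2 (Set.range_subset_iff.2 fun i => ?_))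
    · rw [SetLike.mem_coe, Pi.smul_apply, smul_eq_mul]
      exact Ideal.mul_mem_left _ _ (Ideal.subset_span ⟨i, rfl⟩)
    · refine (Ideal.unit_mul_mem_iff_mem _ (s.isUnit.pow r)).1 ?_
      exact Ideal.subset_span ⟨i, rfl⟩
  · rw [hlin]
    exact fun a b h => hinj (s.isUnit.smul_left_cancel.1 h)
  · refine (show _ = LinearMap.range φ.mulVecLin from ?_).trans (hex.trans ?_)
    · rw [hlin]
      refine le_antisymm ?_ ?_
      · rintro _ ⟨v, rfl⟩
        exact ⟨(s : L) • v, map_smul _ _ _⟩
      · rintro _ ⟨v, rfl⟩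
        refine ⟨(↑s⁻¹ : L) • v, ?_⟩
        rw [LinearMap.smul_apply, map_smul, smul_smul, Units.mul_inv, one_smul]
    · rw [hψ, HBLib.minor_smul]
      ext x
      simp only [LinearMap.mem_ker, Fintype.linearCombination_apply, Pi.smul_apply, smul_eq_mul]
      rw [show ∑ i, x i * ((s : L) ^ r * HBLib.minor φ i) = (s : L) ^ r * ∑ i, x i * HBLib.minor φ i by
        rw [Finset.mul_sum]; exact Finset.sum_congr rfl fun i _ => by ring, (s.isUnit.pow r).mul_right_eq_zero]

/-- Let X be smooth over a field k and Y ⊆ X a closed subscheme which is Cohen–Macaulay of codimension 2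
(all local rings of Y Cohen–Macaulay, and dim O_{X,y} = dim O_{Y,y} + 2 at every point y of Y). Then
each point of Y has an affine open neighbourhood U in X and an (r+1) × r matrix φ of functions on U
whose signed maximal minors f_i generate the ideal of Y ∩ U and give an exact sequence 0 → O(U)^r →
O(U)^{r+1} → O(U), hence a resolution of O_{Y ∩ U} on the affine U. -/
theorem result (k : Type u) [Field k]
    (X Y : Scheme.{u}) (f : X ⟶ Spec (CommRingCat.of k)) [Smooth f] (ι : Y ⟶ X) [IsClosedImmersion ι]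
    (hCM : ∀ y : Y, LocCoh.IsCohenMacaulayLocalRing (Y.presheaf.stalk y))
    (hcodim : ∀ y : Y, ringKrullDim (Y.presheaf.stalk y) + 2 = ringKrullDim (X.presheaf.stalk (ι.base y)))
    (y : Y) :
    ∃ U : X.affineOpens, ι.base y ∈ (U : X.Opens) ∧ ∃ (r : ℕ) (φ : Matrix (Fin (r + 1)) (Fin r) Γ(X, U)),
      (Ideal.span (Set.range (fun i : Fin (r + 1) => (-1 : Γ(X, U)) ^ (i : ℕ) * ((φ).submatrix i.succAbove id).det)) = ι.ker.ideal U ∧
        Function.Injective (φ).mulVecLin ∧
        LinearMap.range (φ).mulVecLin = LinearMap.ker (Fintype.linearCombination Γ(X, U) (fun i : Fin (r + 1) => (-1 : Γ(X, U)) ^ (i : ℕ) * ((φ).submatrix i.succAbove id).det))) := by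
  letI : X.Over (Spec (CommRingCat.of k)) := ⟨f⟩
  haveI : Smooth (X ↘ Spec (CommRingCat.of k)) := ‹Smooth f›
  haveI : IsLocallyNoetherian X := LocallyOfFiniteType.isLocallyNoetherian f
  obtain ⟨_, ⟨U0, hU0, rfl⟩, hxU, -⟩ :=
    X.isBasis_affineOpens.exists_subset_of_mem_open (Set.mem_univ (ι.base y)) isOpen_univ
  let U : X.affineOpens := ⟨U0, hU0⟩
  haveI : IsNoetherianRing Γ(X, U0) := IsLocallyNoetherian.component_noetherian U
  letI := X.presheaf.algebra_section_stalk (⟨ι.base y, hxU⟩ : U0)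
  let p := hU0.primeIdealOf ⟨ι.base y, hxU⟩
  haveI : IsLocalization.AtPrime (X.presheaf.stalk (ι.base y)) p.asIdeal := hU0.isLocalization_stalk ⟨ι.base y, hxU⟩
  haveI : IsRegularLocalRing (X.presheaf.stalk (ι.base y)) := Groth.Agent.S1535.result k X (ι.base y)
  let J : Ideal (X.presheaf.stalk (ι.base y)) := (ι.ker.ideal U).map (algebraMap Γ(X, U0) (X.presheaf.stalk (ι.base y)))
  have hker : RingHom.ker (ι.stalkMap y).hom = J := FComplLib.ker_stalkMap ι y U hxU
  let e : (X.presheaf.stalk (ι.base y) ⧸ J) ≃+* Y.presheaf.stalk y :=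
    (Ideal.quotEquivOfEq hker.symm).trans (RingHom.quotientKerEquivOfSurjective (ι.stalkMap_surjective y))
  haveI : LocCoh.IsCohenMacaulayLocalRing (X.presheaf.stalk (ι.base y) ⧸ J) :=
    (CMFlatLib.isCohenMacaulayLocalRing_congr e).2 (hCM y)
  obtain ⟨r, φ, hgen, -, hinj, hex⟩ := Groth.Agent.S11449.result (X.presheaf.stalk (ι.base y)) J
    (by rw [ringKrullDim_eq_of_ringEquiv e]; exact hcodim y)
  obtain ⟨ψ, h1, h2, h3⟩ := exists_model p.asIdeal.primeCompl φ J hgen hinj hex
  obtain ⟨g, hg, hspread⟩ := HBLib.exists_spread p.asIdeal (X.presheaf.stalk (ι.base y)) (ι.ker.ideal U) ψ h1 h2 h3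
  haveI : IsLocalization.Away g Γ(X, X.basicOpen g) := hU0.isLocalization_basicOpen g
  obtain ⟨k1, k2, k3⟩ := hspread Γ(X, X.basicOpen g)
  have hmem : ι.base y ∈ X.basicOpen g := by
    have e := hU0.fromSpec_primeIdealOf ⟨ι.base y, hxU⟩
    change hU0.fromSpec _ = ι.base y at e
    rw [← e, ← Scheme.Hom.mem_preimage, hU0.fromSpec_preimage_basicOpen]
    exact (PrimeSpectrum.mem_basicOpen _ _).2 hg
  refine ⟨X.affineBasicOpen (U := U) g, hmem, r, ψ.map (algebraMap Γ(X, U0) Γ(X, X.basicOpen g)), ?_, k2, k3⟩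
  exact k1.trans (ι.ker.map_ideal_basicOpen U g)

end Groth.Agent.S11460
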