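import Groth.Statements.S16948
import Groth.Agent.CohCmpLib.PullOnComp
import Groth.Agent.CohCmpLib.Eps

set_option autoImplicit false
universe u
open Coherent

namespace Groth.Agent.S16948

open AlgebraicGeometry CategoryTheory Scheme.Modules in
/-- Take two cartesian squares of schemes side by side, f : X → Y over φ : U → V (vertical maps ξ : X →
U and η : Y → V, f ≫ η = ξ ≫ φ) and g : Y → Z over ψ : V → W (vertical map ζ : Z → W, g ≫ ζ = η ≫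
ψ), a quasi-coherent O_Z-module L and a natural number p. Write β for the degree-p base change maps
of higher direct images (R^p the p-th right derived functor of direct image on O-modules; the maps
are the pinned ones of the structure GenBC relative to pinned comparison data for ζ, η and ξ): B₂
for the right square, B₁ for the left square, B for the outer square. Then the composite of the
composition isomorphism φ^* ψ^* R^p ζ_* L ≅ (φ ≫ ψ)^* R^p ζ_* L with β_B(L) equals φ^* β_{B₂}(L)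
followed by β_{B₁}(g^* L) followed by R^p ξ_* of the composition isomorphism f^* g^* L ≅ (f ≫ g)^*
L. The source states this for arbitrary ζ and η; its verification evaluates both sides on sections
of R^p ζ_* L and R^p η_*(g^* L) over affine opens, identified with cohomology classes over their
preimages, and that identification is the one available for ζ and η quasi-compact and
quasi-separated, which are therefore assumed here. -/
theorem result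
    {X Y Z U V W : Scheme.{u}} (f : X ⟶ Y) (g : Y ⟶ Z) (ξ : X ⟶ U) (η : Y ⟶ V) (ζ : Z ⟶ W)
    (φ : U ⟶ V) (ψ : V ⟶ W) (h₁ : IsPullback f ξ η φ) (h₂ : IsPullback g η ζ ψ)
    (hw : (f ≫ g) ≫ ζ = ξ ≫ (φ ≫ ψ))
    [QuasiCompact ζ] [QuasiSeparated ζ] [QuasiCompact η] [QuasiSeparated η]
    [HasInjectiveResolutions X.Modules] [HasInjectiveResolutions Y.Modules] [HasInjectiveResolutions Z.Modules]
    (L : Z.Modules) [Coh.IsQCoh L] (p : ℕ)
    {Δζ : RDer.DerivedLES (pushforward ζ)} {Δη : RDer.DerivedLES (pushforward η)} {Δξ : RDer.DerivedLES (pushforward ξ)}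
    (Eζ : CohCmp.SectCmp ζ Δζ) (Eη : CohCmp.SectCmp η Δη) (Eξ : CohCmp.SectCmp ξ Δξ)
    (B₂ : CohCmp.GenBC ζ ψ η g h₂.w Eζ Eη) (B₁ : CohCmp.GenBC η φ ξ f h₁.w Eη Eξ)
    (B : CohCmp.GenBC ζ (φ ≫ ψ) ξ (f ≫ g) hw Eζ Eξ) :
    (pullbackComp φ ψ).hom.app ((Coh.Rpush ζ p).obj L) ≫ B.bc p L =
      (pullback φ).map (B₂.bc p L) ≫ B₁.bc p ((pullback g).obj L) ≫
        (Coh.Rpush ξ p).map ((pullbackComp f g).hom.app L) := by
  have hbc : ∀ {X₁ S₁ X₂ S₂ : Scheme.{u}} {a : X₁ ⟶ S₁} {b : S₂ ⟶ S₁} {a' : X₂ ⟶ S₂} {b' : X₂ ⟶ X₁}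
      {w : b' ≫ a = a' ≫ b} [HasInjectiveResolutions X₁.Modules] [HasInjectiveResolutions X₂.Modules]
      {D : RDer.DerivedLES (pushforward a)} {D' : RDer.DerivedLES (pushforward a')}
      {E₁ : CohCmp.SectCmp a D} {E₂ : CohCmp.SectCmp a' D'} (C : CohCmp.GenBC a b a' b' w E₁ E₂)
      (q : ℕ) (M : X₁.Modules) (V : S₁.Opens) (s : Γ((Coh.Rpush a q).obj M, V)),
      (C.bc q M).app (b ⁻¹ᵁ V) (KFlatLib.puSec b s) = (C.φ q M).app V s := by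
    intro X₁ S₁ X₂ S₂ a b a' b' w _ _ D D' E₁ E₂ C q M V s
    exact congr(Scheme.Modules.Hom.app $(((pullbackPushforwardAdjunction b).homEquiv_unit _ _ _).symm.trans
      (Equiv.apply_symm_apply _ _)) V s)
  refine CohCmpLib.hom_ext_puSec₂ _ _ fun V s => ?_
  let T := (Coh.Rpush ξ p).obj ((pullback (f ≫ g)).obj L)
  let R : (Coh.Rpush η p).obj ((pullback g).obj L) ⟶
      (pushforward φ).obj ((Coh.Rpush ξ p).obj ((pullback f).obj ((pullback g).obj L))) := B₁.φ p _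
  let ν := (Coh.Rpush ξ p).map ((pullbackComp f g).hom.app L)
  let F₂ : (Coh.Rpush ζ p).obj L ⟶ (pushforward ψ).obj ((pushforward φ).obj T) :=
    B₂.φ p L ≫ (pushforward ψ).map (R ≫ (pushforward φ).map ν)
  suffices hm : (B.φ p L).app V s = F₂.app V s by
    refine Eq.trans ?_ (congrArg (ν.app (φ ⁻¹ᵁ (ψ ⁻¹ᵁ V)))
      ((congrArg ((B₁.bc p _).app (φ ⁻¹ᵁ (ψ ⁻¹ᵁ V)))
        ((KFlatLib.puSec_natural φ (B₂.bc p L) (KFlatLib.puSec ψ s)).trans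
          (congrArg (KFlatLib.puSec φ) (hbc B₂ p L V s)))).trans (hbc B₁ p _ (ψ ⁻¹ᵁ V) _))).symm
    exact ((congrArg ((B.bc p L).app ((φ ≫ ψ) ⁻¹ᵁ V))
      (CohCmpLib.pullbackComp_puSec φ ψ _ s)).trans (hbc B p L V s)).trans hm
  choose O hW hyW x hx using fun y (hy : y ∈ V) => CohCmpLib.eps_locally_surjective Eζ p L V s hy
  have key : ∀ y (hy : y ∈ V), (B.φ p L).app (O y hy) (CohCmpLib.eps Eζ (O y hy) L p (x y hy)) =
      F₂.app (O y hy) (CohCmpLib.eps Eζ (O y hy) L p (x y hy)) := fun y hy => by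
    let O' := O y hy
    have o₂ : η ⁻¹ᵁ (ψ ⁻¹ᵁ O') ≤ g ⁻¹ᵁ (ζ ⁻¹ᵁ O') := CohCmp.sqLE ζ ψ η g h₂.w O'
    have o₁ : ξ ⁻¹ᵁ (φ ⁻¹ᵁ (ψ ⁻¹ᵁ O')) ≤ f ⁻¹ᵁ (η ⁻¹ᵁ (ψ ⁻¹ᵁ O')) := CohCmp.sqLE η φ ξ f h₁.w (ψ ⁻¹ᵁ O')
    have o : ξ ⁻¹ᵁ ((φ ≫ ψ) ⁻¹ᵁ O') ≤ (f ≫ g) ⁻¹ᵁ (ζ ⁻¹ᵁ O') := CohCmp.sqLE ζ (φ ≫ ψ) ξ (f ≫ g) hw O'
    let x₀ := x y hy
    let u := CohCmpLib.hpo g o₂ L p x₀
    let v := CohCmpLib.hpo f o₁ _ p u
    refine (B.compat O' L p x₀).trans ?_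
    refine Eq.trans (b := CohCmpLib.eps Eξ (φ ⁻¹ᵁ (ψ ⁻¹ᵁ O')) _ p
      (CohCmpLib.hm ((restrictFunctor (ξ ⁻¹ᵁ (φ ⁻¹ᵁ (ψ ⁻¹ᵁ O'))).ι).map ((pullbackComp f g).hom.app L)) p v)) ?_ ?_
    · exact congrArg (CohCmpLib.eps Eξ ((φ ≫ ψ) ⁻¹ᵁ O') _ p) (CohCmpLib.hpo_hpo f g o₂ o₁ o L p x₀).symm
    · refine (CohCmpLib.eps_natural Eξ _ ((pullbackComp f g).hom.app L) p v).trans ?_
      refine congrArg (ν.app (φ ⁻¹ᵁ (ψ ⁻¹ᵁ O'))) ?_
      exact (B₁.compat (ψ ⁻¹ᵁ O') _ p u).symm.trans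
        (congrArg ((B₁.φ p _).app (ψ ⁻¹ᵁ O')) (B₂.compat O' L p x₀).symm)
  let N : W.Modules := (pushforward (φ ≫ ψ)).obj T
  refine TopCat.Sheaf.eq_of_locally_eq' ⟨N.presheaf, N.isSheaf⟩ (fun i : {y // y ∈ V} => O i.1 i.2) V
    (fun i => homOfLE (hW i.1 i.2)) (fun y hy => TopologicalSpace.Opens.mem_iSup.mpr ⟨⟨y, hy⟩, hyW y hy⟩)
    _ _ fun i => ?_
  refine (QCohLib.app_map (B.φ p L) (homOfLE (hW i.1 i.2)) s).symm.trans ?_
  refine Eq.trans ?_ (QCohLib.app_map F₂ (homOfLE (hW i.1 i.2)) s)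
  exact (congrArg ((B.φ p L).app (O i.1 i.2)) (hx i.1 i.2)).symm.trans
    ((key i.1 i.2).trans (congrArg (F₂.app (O i.1 i.2)) (hx i.1 i.2)))

end Groth.Agent.S16948
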