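import Groth.Statements.S4407
import Groth.Agent.QCohLib.QcqsSections
import Groth.Agent.AmpleThLib.Ample

set_option autoImplicit false
universe u
open CategoryTheory CategoryTheory.Limits AlgebraicGeometry
open EGA2

namespace Groth.Agent.S4407

/-- (a) ⇒ (e): let X be a quasi-affine scheme. Then every quasi-coherent O_X-module is generated by its
global sections (it is a quotient of a free O_X-module on some index set). -/
theorem result (X : Scheme.{u}) [X.IsQuasiAffine] (F : X.Modules)
    (hF : Coh.IsQCoh F) : Curv2.IsGloballyGenerated F := by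
  have := hF
  refine ⟨Γ(F, ⊤), F.freeHomEquiv.symm (fun j => QCohLib.toSections F j),
    Preadditive.epi_of_cancel_zero _ fun {N : X.Modules} (q : F ⟶ N) hq => ?_⟩
  have hglob : ∀ j : Γ(F, ⊤), q.app ⊤ j = 0 := fun j => by
    have h1 : QCohLib.unitHom F j ≫ q = 0 := by
      rw [← QCohLib.ιFree_comp (fun j : Γ(F, ⊤) => j) j]
      exact (Category.assoc _ _ _).trans ((congr_arg _ hq).trans comp_zero)
    have h2 := congr_arg (fun φ : Coh.structureModule X ⟶ N => φ.app ⊤ (1 : Γ(X, ⊤))) h1
    change q.app ⊤ ((QCohLib.unitHom F j).app ⊤ (1 : Γ(X, ⊤))) = 0 at h2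
    rwa [QCohLib.unitHom_app, one_smul, show F.presheaf.map (homOfLE (le_top : ⊤ ≤ (⊤ : X.Opens))).op j
      = j from QCohLib.toSections_top F j] at h2
  apply Scheme.Modules.hom_ext
  intro V
  refine ConcreteCategory.hom_ext _ _ fun t => TwistLib.mod_ext N fun x hx => ?_
  obtain ⟨_, ⟨f, -, rfl⟩, hxf, hfV⟩ :=
    TopologicalSpace.Opens.isBasis_iff_nbhd.mp (Scheme.IsQuasiAffine.isBasis_basicOpen X) hx
  obtain ⟨n, j, hj⟩ := (QCohLib.localizingAt_of_qcqs F (W := ⊤) isCompact_univ isQuasiSeparated_univ f).exists_extend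
    (F.presheaf.map (homOfLE hfV).op t)
  have hu : IsUnit (X.presheaf.map (homOfLE (X.basicOpen_le f)).op f) :=
    RingedSpace.isUnit_res_basicOpen _ f
  have h3 := congrArg (q.app (X.basicOpen f)) hj
  rw [QCohLib.app_map, hglob, map_zero, QCohLib.app_smul, QCohLib.app_map] at h3
  change N.presheaf.germ V x hx (q.app V t) = N.presheaf.germ V x hx 0
  rw [map_zero, ← AmpleLib.germ_res N hfV (q.app V t) hxf]
  refine (congrArg _ (show AmpleLib.res N hfV (q.app V t) = 0 from ?_)).trans (map_zero _)
  exact (hu.pow n).smul_eq_zero.mp h3.symm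

end Groth.Agent.S4407
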