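import Groth.Agent.FlatLib.GenericFree
import Groth.Agent.FittLib.LocFree
import Mathlib.RingTheory.Spectrum.Prime.FreeLocus
import Mathlib.RingTheory.Spectrum.Prime.Noetherian
import Mathlib.Algebra.DirectSum.Decomposition

/-! The stratum of constant Hilbert function of a graded module. -/

set_option linter.unusedSectionVars false
set_option linter.style.haveILetI false

universe u

open scoped TensorProduct

namespace HilbStratLib

section Bridge

variable {B : Type u} [CommRing B] {N : Type u} [AddCommGroup N] [Module B N] [Module.FinitePresentation B N]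

theorem map_ideal_prime [Module.Projective B N] (p : PrimeSpectrum B) (k : ℕ) :
    (Fitt.ideal B N k).map (algebraMap B (Localization.AtPrime p.asIdeal)) =
      if Module.rankAtStalk N p ≤ k then ⊤ else ⊥ := by
  haveI : Module.Free (Localization.AtPrime p.asIdeal) (LocalizedModule p.asIdeal.primeCompl N) :=
    Module.free_of_flat_of_isLocalRing
  rw [← FittLib.ideal_localized,
    FittLib.ideal_of_basis (Module.finBasis (Localization.AtPrime p.asIdeal) (LocalizedModule p.asIdeal.primeCompl N)) k,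
    Fintype.card_fin]
  rfl

theorem ideals_of_rank [Module.Projective B N] {r : ℕ} (hr : ∀ p : PrimeSpectrum B, Module.rankAtStalk N p = r) :
    (∀ k, k < r → Fitt.ideal B N k = ⊥) ∧ (∀ k, r ≤ k → Fitt.ideal B N k = ⊤) := by
  refine ⟨fun k hk => eq_bot_iff.2 fun x hx => ?_, fun k hk => ?_⟩
  · refine Module.eq_zero_of_localization_maximal (R := B) (fun P _ => LocalizedModule P.primeCompl B)
      (fun P _ => LocalizedModule.mkLinearMap P.primeCompl B) x fun P hP => ?_
    have h := Ideal.mem_map_of_mem (algebraMap B (Localization.AtPrime P)) hx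
    rw [map_ideal_prime (N := N) ⟨P, hP.isPrime⟩ k, hr, if_neg (by omega), Ideal.mem_bot] at h
    obtain ⟨⟨s, hs⟩, hsx⟩ := (IsLocalization.map_eq_zero_iff P.primeCompl _ x).1 h
    exact (IsLocalizedModule.eq_zero_iff P.primeCompl _).2 ⟨⟨s, hs⟩, hsx⟩
  · by_contra hne
    obtain ⟨P, hP, hle⟩ := Ideal.exists_le_maximal _ hne
    have h := Ideal.map_mono (f := algebraMap B (Localization.AtPrime P)) hle
    rw [map_ideal_prime (N := N) ⟨P, hP.isPrime⟩ k, hr, if_pos hk, Localization.AtPrime.map_eq_maximalIdeal,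
      top_le_iff] at h
    exact (IsLocalRing.maximalIdeal.isMaximal _).ne_top h

theorem rank_of_ideals {r : ℕ} (h1 : ∀ k, k < r → Fitt.ideal B N k = ⊥) (h2 : ∀ k, r ≤ k → Fitt.ideal B N k = ⊤) :
    Module.Projective B N ∧ ∀ p : PrimeSpectrum B, Module.rankAtStalk N p = r := by
  have hproj : Module.Projective B N := by
    rw [← Module.freeLocus_eq_univ_iff, Set.eq_univ_iff_forall]
    intro p
    obtain ⟨f, hf, hfree, -⟩ := FittLib.localFree_of_ideals (M := N) r h1 (h2 r le_rfl) p.asIdeal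
    exact Module.basicOpen_subset_freeLocus_iff.2 (Module.Projective.of_free) hf
  refine ⟨hproj, fun p => ?_⟩
  have a := map_ideal_prime (N := N) p
  rcases lt_trichotomy (Module.rankAtStalk N p) r with h | h | h
  · have := a (Module.rankAtStalk N p)
    rw [if_pos le_rfl, h1 _ h, Ideal.map_bot] at this
    exact absurd this bot_ne_top
  · exact h
  · have := a r
    rw [if_neg (by omega), h2 r le_rfl, Ideal.map_top] at this
    exact absurd this.symm bot_ne_top

theorem ideal_bot_or_top [IsDomain B] [Module.Projective B N] (k : ℕ) :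
    Fitt.ideal B N k = ⊥ ∨ Fitt.ideal B N k = ⊤ := by
  let p₀ : PrimeSpectrum B := ⟨⊥, Ideal.isPrime_bot⟩
  have hr : ∀ p : PrimeSpectrum B, Module.rankAtStalk N p = Module.rankAtStalk N p₀ := fun p =>
    Module.isLocallyConstant_rankAtStalk.apply_eq_of_preconnectedSpace p p₀
  rcases Nat.lt_or_ge k (Module.rankAtStalk N p₀) with h | h
  · exact Or.inl ((ideals_of_rank hr).1 k h)
  · exact Or.inr ((ideals_of_rank hr).2 k h)

end Bridge

section Graded

variable {A : Type u} [CommRing A] [IsNoetherianRing A] {R : Type u} [CommRing R] [Algebra A R]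
  [Algebra.FiniteType A R] {M : Type u} [AddCommGroup M] [Module A M] [Module R M] [IsScalarTower A R M]
  [Module.Finite R M] {ι : Type*} [DecidableEq ι] (ℳ : ι → Submodule A M) [DirectSum.Decomposition ℳ]

/-- projection to a graded piece -/
noncomputable def proj (v : ι) : M →ₗ[A] ↥(ℳ v) :=
  (DirectSum.component A ι (fun i => ↥(ℳ i)) v).comp (DirectSum.decomposeLinearEquiv ℳ).toLinearMap

theorem proj_comp (v : ι) : (proj ℳ v).comp (ℳ v).subtype = LinearMap.id := by
  refine LinearMap.ext fun x => ?_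
  simp [proj]

variable (R)
include R

/-- the base change of `M` to an algebra is finite over the base changed ring -/
theorem gfree_baseChange (p : Ideal A) [p.IsPrime] :
    FlatLib.GFree (A ⧸ p) ((A ⧸ p) ⊗[A] M) := by
  let φ : (A ⧸ p) ⊗[A] R →ₐ[A ⧸ p] Module.End (A ⧸ p) ((A ⧸ p) ⊗[A] M) :=
    Algebra.TensorProduct.lift (Algebra.ofId _ _)
      ((Module.End.baseChangeHom A (A ⧸ p) M).comp (Algebra.lsmul A A M (A := R)))
      fun a r => Algebra.commutes a _
  let N := (A ⧸ p) ⊗[A] M
  let := Module.compHom N φ.toRingHom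
  have hsmul : ∀ (s : (A ⧸ p) ⊗[A] R) (x : N), s • x = φ s x := fun _ _ => rfl
  have : IsScalarTower (A ⧸ p) ((A ⧸ p) ⊗[A] R) N := ⟨fun a s x => by
    rw [hsmul, hsmul, map_smul]; rfl⟩
  have : Module.Finite ((A ⧸ p) ⊗[A] R) N := by
    classical
    obtain ⟨s, hs⟩ := Module.Finite.fg_top (R := R) (M := M)
    refine ⟨s.image fun m => (1 : A ⧸ p) ⊗ₜ[A] m, Submodule.eq_top_iff'.2 fun x => ?_⟩
    induction x using TensorProduct.induction_on with
    | zero => exact zero_mem _
    | add x y hx hy => exact add_mem hx hy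
    | tmul a m =>
      have hm : m ∈ Submodule.span R (s : Set M) := hs ▸ Submodule.mem_top
      induction hm using Submodule.span_induction generalizing a with
      | mem m hm =>
        have : a ⊗ₜ[A] m = (a ⊗ₜ[A] (1 : R)) • (1 : A ⧸ p) ⊗ₜ[A] m := by
          rw [hsmul]
          simp [φ, Algebra.TensorProduct.lift_tmul, Algebra.ofId_apply, Module.algebraMap_end_apply,
            TensorProduct.smul_tmul']
        rw [this]
        exact Submodule.smul_mem _ _ (Submodule.subset_span (Finset.mem_image_of_mem _ hm))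
      | zero => rw [TensorProduct.tmul_zero]; exact zero_mem _
      | add m m' _ _ h h' => rw [TensorProduct.tmul_add]; exact add_mem (h a) (h' a)
      | smul r m _ h =>
        have : a ⊗ₜ[A] (r • m) = ((1 : A ⧸ p) ⊗ₜ[A] r) • (a ⊗ₜ[A] m) := by
          rw [hsmul]
          simp [φ, Algebra.TensorProduct.lift_tmul]
          rfl
        rw [this]
        exact Submodule.smul_mem _ _ (h a)
  exact FlatLib.gfree_of_finite ((A ⧸ p) ⊗[A] R) N

theorem exists_const (p : Ideal A) [p.IsPrime] (h : ι → ℕ) (hfg : ∀ v, Module.Finite A ↥(ℳ v))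
    (hp : ∀ v, ¬ Fitt.ideal A ↥(ℳ v) (h v) ≤ p) :
    ∃ f : A, f ∉ p ∧ ∀ (v : ι) (q : Ideal A), q.IsPrime → p ≤ q → f ∉ q → ¬ Fitt.ideal A ↥(ℳ v) (h v) ≤ q := by
  obtain ⟨f₀, hf₀, hfree⟩ := gfree_baseChange R (M := M) p
  obtain ⟨f, rfl⟩ := Ideal.Quotient.mk_surjective f₀
  have hfp : f ∉ p := fun hm => hf₀ (Ideal.Quotient.eq_zero_iff_mem.2 hm)
  refine ⟨f, hfp, fun v q hq hpq hfq => ?_⟩
  let T := Localization.Away (Ideal.Quotient.mk p f)
  have hdom : IsDomain T := IsLocalization.isDomain_localization (powers_le_nonZeroDivisors_of_noZeroDivisors hf₀)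
  haveI : Module.Free T (T ⊗[A] M) :=
    Module.Free.of_equiv (TensorProduct.AlgebraTensorModule.cancelBaseChange A (A ⧸ p) T T M)
  haveI := hfg v
  haveI : Module.FinitePresentation A ↥(ℳ v) := Module.finitePresentation_of_finite A _
  haveI : Module.Projective T (T ⊗[A] ↥(ℳ v)) :=
    Module.Projective.of_split ((ℳ v).subtype.baseChange T) ((proj ℳ v).baseChange T)
      (by rw [← LinearMap.baseChange_comp, proj_comp, LinearMap.baseChange_id])
  have hker : ∀ x : A, algebraMap A T x = 0 → x ∈ p := fun x hx => by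
    rw [IsScalarTower.algebraMap_apply A (A ⧸ p) T] at hx
    have := IsLocalization.injective T (powers_le_nonZeroDivisors_of_noZeroDivisors hf₀)
      (hx.trans (map_zero _).symm)
    exact Ideal.Quotient.eq_zero_iff_mem.1 this
  have htop : (Fitt.ideal A ↥(ℳ v) (h v)).map (algebraMap A T) = ⊤ := by
    rw [← FittLib.ideal_tensor]
    refine (ideal_bot_or_top (N := T ⊗[A] ↥(ℳ v)) (h v)).resolve_left fun hbot => hp v fun x hx => hker x ?_
    have := Ideal.mem_map_of_mem (algebraMap A T) hx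
    rwa [← FittLib.ideal_tensor, hbot, Ideal.mem_bot] at this
  intro hle
  let q' : Ideal (A ⧸ p) := q.map (Ideal.Quotient.mk p)
  have hcomap : q'.comap (Ideal.Quotient.mk p) = q := by
    rw [Ideal.comap_map_of_surjective _ Ideal.Quotient.mk_surjective, ← RingHom.ker_eq_comap_bot, Ideal.mk_ker,
      sup_eq_left.2 hpq]
  haveI : q'.IsPrime := Ideal.map_isPrime_of_surjective Ideal.Quotient.mk_surjective (by rwa [Ideal.mk_ker])
  have hne : q'.map (algebraMap (A ⧸ p) T) ≠ ⊤ := by
    refine (IsLocalization.map_algebraMap_ne_top_iff_disjoint (Submonoid.powers (Ideal.Quotient.mk p f)) T q').2 ?_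
    refine Set.disjoint_left.2 ?_
    rintro _ ⟨j, rfl⟩ hj
    refine hfq ?_
    rw [← hcomap, Ideal.mem_comap]
    exact ‹q'.IsPrime›.mem_of_pow_mem j hj
  refine hne (top_le_iff.1 ?_)
  rw [← htop, IsScalarTower.algebraMap_eq A (A ⧸ p) T, ← Ideal.map_map]
  exact Ideal.map_mono (Ideal.map_mono hle)

/-- the primes over `a` at which some graded piece is too big -/
def bad (a : Ideal A) (h : ι → ℕ) : Set (PrimeSpectrum A) :=
  {q | a ≤ q.asIdeal ∧ ∃ v, Fitt.ideal A ↥(ℳ v) (h v) ≤ q.asIdeal}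

theorem isClosed_bad (a : Ideal A) (h : ι → ℕ) (hfg : ∀ v, Module.Finite A ↥(ℳ v)) : IsClosed (bad ℳ a h) := by
  have key : ∀ J : Ideal A, IsClosed (PrimeSpectrum.zeroLocus (J : Set A) ∩ bad ℳ a h) := by
    intro J
    induction J using WellFoundedGT.induction with
    | ind J ih =>
      by_cases htop : J = ⊤
      · subst htop
        rw [PrimeSpectrum.zeroLocus_empty_of_one_mem (show (1 : A) ∈ ((⊤ : Ideal A) : Set A) from Submodule.mem_top),
          Set.empty_inter]
        exact isClosed_empty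
      have hz : ∀ x : A, x ∉ J → IsClosed (PrimeSpectrum.zeroLocus ((J ⊔ Ideal.span {x} : Ideal A) : Set A) ∩ bad ℳ a h) :=
        fun x hx => ih _ (lt_of_le_of_ne le_sup_left fun heq => hx
          (heq ▸ Ideal.mem_sup_right (Ideal.mem_span_singleton_self x)))
      by_cases hJ : J.IsPrime
      swap
      · obtain ⟨x, hx, y, hy, hxy⟩ : ∃ x, x ∉ J ∧ ∃ y, y ∉ J ∧ x * y ∈ J := by
          by_contra hc
          push Not at hc
          exact hJ ⟨htop, fun {x y} hxy => or_iff_not_imp_left.2 fun hx => by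
            by_contra hy; exact hc x hx y hy hxy⟩
        convert! (hz x hx).union (hz y hy) using 1
        ext q
        simp only [Set.mem_inter_iff, Set.mem_union, PrimeSpectrum.mem_zeroLocus, SetLike.coe_subset_coe, sup_le_iff,
          Ideal.span_singleton_le_iff_mem]
        constructor
        · rintro ⟨hJq, hq⟩
          rcases q.isPrime.mem_or_mem (hJq hxy) with h1 | h1
          · exact Or.inl ⟨⟨hJq, h1⟩, hq⟩
          · exact Or.inr ⟨⟨hJq, h1⟩, hq⟩
        · rintro (⟨⟨hJq, -⟩, hq⟩ | ⟨⟨hJq, -⟩, hq⟩) <;> exact ⟨hJq, hq⟩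
      by_cases hbad : a ≤ J ∧ ∃ v, Fitt.ideal A ↥(ℳ v) (h v) ≤ J
      · convert! PrimeSpectrum.isClosed_zeroLocus (J : Set A) using 1
        refine Set.inter_eq_left.2 fun q hq => ?_
        rw [PrimeSpectrum.mem_zeroLocus, SetLike.coe_subset_coe] at hq
        obtain ⟨h1, v, h2⟩ := hbad
        exact ⟨h1.trans hq, v, h2.trans hq⟩
      by_cases hea : a ≤ J
      · obtain ⟨f, hf, hconst⟩ := exists_const R ℳ J h hfg fun v hv => hbad ⟨hea, v, hv⟩
        convert! hz f hf using 1
        ext q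
        simp only [Set.mem_inter_iff, PrimeSpectrum.mem_zeroLocus, SetLike.coe_subset_coe, sup_le_iff,
          Ideal.span_singleton_le_iff_mem]
        constructor
        · rintro ⟨hJq, hq⟩
          refine ⟨⟨hJq, ?_⟩, hq⟩
          by_contra hfq
          obtain ⟨-, v, hv⟩ := hq
          exact hconst v q.asIdeal q.isPrime hJq hfq hv
        · rintro ⟨⟨hJq, -⟩, hq⟩
          exact ⟨hJq, hq⟩
      · obtain ⟨x, hxa, hxJ⟩ := SetLike.not_le_iff_exists.1 hea
        convert! hz x hxJ using 1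
        ext q
        simp only [Set.mem_inter_iff, PrimeSpectrum.mem_zeroLocus, SetLike.coe_subset_coe, sup_le_iff,
          Ideal.span_singleton_le_iff_mem]
        exact ⟨fun ⟨h1, h2⟩ => ⟨⟨h1, h2.1 hxa⟩, h2⟩, fun ⟨⟨h1, _⟩, h2⟩ => ⟨h1, h2⟩⟩
  have := key ⊥
  rwa [show PrimeSpectrum.zeroLocus ((⊥ : Ideal A) : Set A) = Set.univ from PrimeSpectrum.zeroLocus_bot,
    Set.univ_inter] at this

variable (h : ι → ℕ)

/-- the closed conditions -/
noncomputable def idealA : Ideal A := ⨆ (v : ι) (k : Fin (h v)), Fitt.ideal A ↥(ℳ v) k.val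

/-- the complement of the open conditions -/
noncomputable def idealB : Ideal A := PrimeSpectrum.vanishingIdeal (bad ℳ (idealA ℳ h) h)

theorem iff_ideals (hfg : ∀ v, Module.Finite A ↥(ℳ v)) (B : Type u) [CommRing B] [Algebra A B] :
    (∀ v, Module.Finite B (B ⊗[A] ↥(ℳ v)) ∧ Module.Projective B (B ⊗[A] ↥(ℳ v)) ∧
        ∀ p : PrimeSpectrum B, Module.rankAtStalk (B ⊗[A] ↥(ℳ v)) p = h v) ↔
      ((idealA ℳ h).map (algebraMap A B) = ⊥ ∧ (idealB ℳ h).map (algebraMap A B) = ⊤) := by
  haveI := hfg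
  haveI : ∀ v, Module.FinitePresentation A ↥(ℳ v) := fun v => Module.finitePresentation_of_finite A _
  have hclosed := isClosed_bad R ℳ (idealA ℳ h) h hfg
  have hbadmem : ∀ P : PrimeSpectrum A, idealB ℳ h ≤ P.asIdeal ↔ P ∈ bad ℳ (idealA ℳ h) h := fun P => by
    conv_rhs => rw [← hclosed.closure_eq, ← PrimeSpectrum.zeroLocus_vanishingIdeal_eq_closure]
    rw [PrimeSpectrum.mem_zeroLocus, SetLike.coe_subset_coe]
    rfl
  constructor
  · intro hall
    have hF : ∀ v, (∀ k, k < h v → (Fitt.ideal A ↥(ℳ v) k).map (algebraMap A B) = ⊥) ∧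
        (Fitt.ideal A ↥(ℳ v) (h v)).map (algebraMap A B) = ⊤ := fun v => by
      obtain ⟨-, hp, hr⟩ := hall v
      have := ideals_of_rank (B := B) (N := B ⊗[A] ↥(ℳ v)) hr
      simp only [FittLib.ideal_tensor] at this
      exact ⟨this.1, this.2 _ le_rfl⟩
    refine ⟨?_, ?_⟩
    · rw [Ideal.map_eq_bot_iff_le_ker, idealA]
      exact iSup_le fun v => iSup_le fun k => (Ideal.map_eq_bot_iff_le_ker _).1 ((hF v).1 k.val k.isLt)
    · by_contra hne
      obtain ⟨q, hq, hle⟩ := Ideal.exists_le_maximal _ hne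
      haveI := hq.isPrime
      obtain ⟨-, v, hv⟩ := (hbadmem ⟨q.comap (algebraMap A B), Ideal.IsPrime.comap _⟩).1 (Ideal.map_le_iff_le_comap.1 hle)
      exact hq.ne_top (top_le_iff.1 ((hF v).2 ▸ Ideal.map_le_iff_le_comap.2 hv))
  · rintro ⟨ha, hb⟩ v
    have h1 : ∀ k, k < h v → Fitt.ideal B (B ⊗[A] ↥(ℳ v)) k = ⊥ := fun k hk => by
      rw [FittLib.ideal_tensor, eq_bot_iff, ← ha]
      exact Ideal.map_mono (le_iSup_of_le v (le_iSup_of_le (⟨k, hk⟩ : Fin (h v)) le_rfl))
    have h2 : Fitt.ideal B (B ⊗[A] ↥(ℳ v)) (h v) = ⊤ := by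
      rw [FittLib.ideal_tensor]
      by_contra hne
      obtain ⟨q, hq, hle⟩ := Ideal.exists_le_maximal _ hne
      haveI := hq.isPrime
      have hP : idealB ℳ h ≤ q.comap (algebraMap A B) :=
        (hbadmem ⟨q.comap (algebraMap A B), Ideal.IsPrime.comap _⟩).2
          ⟨Ideal.map_le_iff_le_comap.1 (ha.le.trans bot_le), v, Ideal.map_le_iff_le_comap.1 hle⟩
      exact hq.ne_top (top_le_iff.1 (hb ▸ Ideal.map_le_iff_le_comap.2 hP))
    obtain ⟨hp, hr⟩ := rank_of_ideals h1 fun k hk => top_le_iff.1 (h2 ▸ FittLib.ideal_monotone hk)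
    exact ⟨inferInstance, hp, hr⟩

end Graded

end HilbStratLib
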