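import Groth.Statements.S14049
import Groth.Agent.S0440
-- import your own Groth.Agent.* helpers here

set_option autoImplicit false
universe u
open CategoryTheory AlgebraicGeometry
open LocStr

namespace Groth.Agent.S14049

theorem surjective_of_nilpotent {A B : Type*} [CommRing A] [CommRing B] (φ : A →+* B)
    (J : Ideal B) (n : ℕ) (hn : J ^ n = ⊥) (h : ∀ b, ∃ a, b - φ a ∈ J ^ 2) :
    Function.Surjective φ := by
  have step : ∀ k : ℕ, 1 ≤ k → ∀ x ∈ J ^ k, ∃ a, φ a ∈ J ^ k ∧ x - φ a ∈ J ^ (k + 1) := by
    intro k hk
    induction k, hk using Nat.le_induction with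
    | base =>
      intro x hx
      obtain ⟨a, ha⟩ := h x
      refine ⟨a, ?_, ha⟩
      rw [pow_one] at hx ⊢
      have : x - φ a ∈ J := Ideal.pow_le_self (two_ne_zero) ha
      simpa using J.sub_mem hx this
    | succ k hk ih =>
      intro x hx
      rw [pow_succ] at hx
      induction hx using Submodule.mul_induction_on' with
      | mem_mul_mem u hu v hv =>
        obtain ⟨a, ha, ha'⟩ := ih u hu
        obtain ⟨c, hc⟩ := h v
        have hcJ : φ c ∈ J := by
          have : v - φ c ∈ J := Ideal.pow_le_self (two_ne_zero) hc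
          simpa using J.sub_mem hv this
        refine ⟨a * c, ?_, ?_⟩
        · rw [map_mul, pow_succ]; exact Ideal.mul_mem_mul ha hcJ
        · have : u * v - φ (a * c) = (u - φ a) * v + φ a * (v - φ c) := by
            rw [map_mul]; ring
          rw [this]
          refine Ideal.add_mem _ ?_ ?_
          · rw [pow_succ]; exact Ideal.mul_mem_mul ha' hv
          · have := Ideal.mul_mem_mul ha hc
            rwa [← pow_add] at this
      | add u _ v _ hu hv =>
        obtain ⟨a, ha, ha'⟩ := hu
        obtain ⟨c, hc, hc'⟩ := hv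
        refine ⟨a + c, by rw [map_add]; exact Ideal.add_mem _ ha hc, ?_⟩
        rw [map_add, add_sub_add_comm]
        exact Ideal.add_mem _ ha' hc'
  have key : ∀ k : ℕ, ∀ b, ∃ a, b - φ a ∈ J ^ (k + 1) := by
    intro k
    induction k with
    | zero =>
      intro b
      obtain ⟨a, ha⟩ := h b
      exact ⟨a, Ideal.pow_le_pow_right (by norm_num) ha⟩
    | succ k ih =>
      intro b
      obtain ⟨a, ha⟩ := ih b
      obtain ⟨c, -, hc⟩ := step (k + 1) (by omega) _ ha
      refine ⟨a + c, ?_⟩
      rw [map_add, ← sub_sub]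
      exact hc
  intro b
  obtain ⟨a, ha⟩ := key n b
  refine ⟨a, ?_⟩
  have : b - φ a ∈ J ^ n := Ideal.pow_le_pow_right (Nat.le_succ n) ha
  rw [hn, Submodule.mem_bot, sub_eq_zero] at this
  exact this.symm

/-- For schemes. Let f : X → Y be a morphism of schemes and let I be a quasi-coherent sheaf of ideals on
X which is nilpotent (some power of I is zero). Let X₁ ⊆ X be the closed subscheme defined by I².
Then f is a closed immersion as soon as the composite X₁ → X → Y is one. (The published statement is
the same assertion for a morphism of algebraic stacks; it is stated here for schemes.) -/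
theorem result (X Y : Scheme.{u}) (f : X ⟶ Y)
    (I : X.IdealSheafData) (hI : IsNilpotent I)
    (h : IsClosedImmersion ((I ^ 2).subschemeι ≫ f)) :
    IsClosedImmersion f := by

  obtain ⟨n, hn⟩ := hI
  set ι := (I ^ 2).subschemeι with hι
  have hsurj : Function.Surjective ι := by
    intro x
    have hx : x ∈ Set.range (I ^ 2).subschemeι := by
      rw [(I ^ 2).range_subschemeι, Scheme.IdealSheafData.support_pow _ 2 (by norm_num)]
      have h0 : I.support = ⊤ := by
        rcases Nat.eq_zero_or_pos n with h0 | h0
        · subst h0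
          have htop : (⊤ : X.IdealSheafData) = ⊥ := by
            ext1
            funext U
            have := congrArg (fun J : X.IdealSheafData => J.ideal U) hn
            simpa [← Ideal.one_eq_top] using this
          have h2 := congrArg Scheme.IdealSheafData.support htop
          rw [Scheme.IdealSheafData.support_top, Scheme.IdealSheafData.support_bot] at h2
          exact top_unique (h2 ▸ bot_le)
        · have := congrArg Scheme.IdealSheafData.support hn
          rw [Scheme.IdealSheafData.support_pow _ n (by omega)] at this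
          rw [this]
          exact Scheme.IdealSheafData.support_bot
      simp [h0]
    exact hx
  haveI : IsClosedImmersion (ι ≫ f) := h
  have haff : ∀ V : Y.Opens, IsAffineOpen V → IsAffineOpen (f ⁻¹ᵁ V) := by
    intro V hV
    have h1 : IsAffineOpen (ι ⁻¹ᵁ (f ⁻¹ᵁ V)) := hV.preimage (ι ≫ f)
    haveI : IsAffine (ι ⁻¹ᵁ (f ⁻¹ᵁ V)).toScheme := h1
    refine Groth.Agent.S0440.result (ι ∣_ (f ⁻¹ᵁ V)) ?_
    intro x
    obtain ⟨z, hz⟩ := hsurj x.1
    refine ⟨⟨z, ?_⟩, ?_⟩
    · show ι z ∈ f ⁻¹ᵁ V
      rw [hz]; exact x.2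
    · apply Subtype.ext
      exact (morphismRestrict_base_coe ι (f ⁻¹ᵁ V) _).trans hz
  rw [isClosedImmersion_iff_isAffineHom]
  refine ⟨⟨haff⟩, fun V hV => ?_⟩
  let U : X.affineOpens := ⟨f ⁻¹ᵁ V, haff V hV⟩
  have hc : Function.Surjective ((ι ≫ f).app V) := Scheme.Hom.app_surjective _ V hV
  have hker : RingHom.ker (ι.app U.1).hom = (I.ideal U) ^ 2 := by
    rw [hι, (I ^ 2).ker_subschemeι_app U]; rfl
  have hJn : (I.ideal U) ^ n = ⊥ := by
    have := congrArg (fun J : X.IdealSheafData => J.ideal U) hn
    simpa using this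
  refine surjective_of_nilpotent (f.app V).hom (I.ideal U) n hJn fun b => ?_
  obtain ⟨a, ha⟩ := hc (ι.app U.1 b)
  refine ⟨a, ?_⟩
  rw [← hker, RingHom.mem_ker, map_sub, sub_eq_zero]
  rw [Scheme.Hom.comp_app] at ha
  exact ha.symm


end Groth.Agent.S14049
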