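import Groth.Statements.S16548
import Groth.Agent.HurwitzLib.Fiber
import Mathlib.RingTheory.Kaehler.Basic
import Mathlib.RingTheory.Unramified.LocalRing
import Mathlib.RingTheory.Unramified.Field
import Mathlib.RingTheory.RingHom.StandardSmooth
import Mathlib.RingTheory.Etale.Kaehler
-- import your own Groth.Agent.* helpers here

set_option autoImplicit false
universe u
open CategoryTheory CategoryTheory.Limits AlgebraicGeometry
attribute [local instance] Curv2.resAlgebra
open Curves

namespace Groth.Agent.S16548

open IsLocalRing KaehlerDifferential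

/-- If the differentials coming from `A` generate those of `B`, then `Ω_{B/A}` vanishes. -/
theorem subsingleton_of_span {k A B : Type u} [CommRing k] [CommRing A] [CommRing B] [Algebra k A]
    [Algebra k B] [Algebra A B] [IsScalarTower k A B]
    (h : Submodule.span B (Set.range fun a : A => D k B (algebraMap A B a)) = ⊤) :
    Subsingleton Ω[B⁄A] := by
  have h0 : LinearMap.ker (KaehlerDifferential.map k A B B) = ⊤ := by
    rw [eq_top_iff, ← h, Submodule.span_le]
    rintro _ ⟨a, rfl⟩
    rw [SetLike.mem_coe, LinearMap.mem_ker, KaehlerDifferential.map_D, Algebra.algebraMap_self,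
      RingHom.id_apply, Derivation.map_algebraMap]
  refine ⟨fun x y => ?_⟩
  obtain ⟨x, rfl⟩ := KaehlerDifferential.map_surjective k A B x
  obtain ⟨y, rfl⟩ := KaehlerDifferential.map_surjective k A B y
  rw [LinearMap.mem_ker.mp (h0.ge trivial), LinearMap.mem_ker.mp (h0.ge (trivial : y ∈ ⊤))]

/-- If `Ω_{B/A}` vanishes, the differentials coming from `A` generate those of `B`. -/
theorem span_of_subsingleton {k A B : Type u} [CommRing k] [CommRing A] [CommRing B] [Algebra k A]
    [Algebra k B] [Algebra A B] [IsScalarTower k A B] [Subsingleton Ω[B⁄A]] :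
    Submodule.span B (Set.range fun a : A => D k B (algebraMap A B a)) = ⊤ := by
  rw [eq_top_iff]
  intro z hz0
  clear hz0
  have hz : z ∈ LinearMap.range (mapBaseChange k A B) := by
    rw [range_mapBaseChange, LinearMap.mem_ker]
    exact Subsingleton.elim _ _
  obtain ⟨t, rfl⟩ := hz
  induction t with
  | zero => rw [map_zero]; exact zero_mem _
  | tmul r w =>
    rw [mapBaseChange_tmul]
    refine Submodule.smul_mem _ _ ?_
    obtain ⟨c, rfl⟩ := linearCombination_surjective k A w
    induction c using Finsupp.induction_linear with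
    | zero => simp
    | add c d hc hd => rw [map_add, map_add]; exact add_mem hc hd
    | single a r =>
      rw [Finsupp.linearCombination_single, map_smul, map_D, ← algebraMap_smul B r]
      exact Submodule.smul_mem _ _ (Submodule.subset_span ⟨a, rfl⟩)
  | add a b ha hb => rw [map_add]; exact add_mem ha hb

/-- The key local statement. -/
theorem separable_of_tame {k A B : Type u} [Field k] [CommRing A] [CommRing B] [IsLocalRing A]
    [IsLocalRing B] [Algebra k A] [Algebra k B] [Algebra A B] [IsScalarTower k A B]
    [IsLocalHom (algebraMap A B)] [Algebra.EssFiniteType k B] [Algebra.EssFiniteType k (ResidueField B)]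
    (T : B) (hT : Submodule.span B {D k B T} = ⊤) (hB : maximalIdeal B ≠ ⊥) (e : ℕ) (h2 : 2 ≤ e)
    (he : (maximalIdeal A).map (algebraMap A B) = maximalIdeal B ^ e)
    [Algebra.IsSeparable (ResidueField A) (ResidueField B)] :
    Algebra.IsSeparable k (ResidueField B) := by
  by_contra hns
  have hO : ¬ Algebra.FormallyUnramified k (ResidueField B) := fun h =>
    hns ((Algebra.FormallyUnramified.iff_isSeparable k (ResidueField B)).mp h)
  let δ : Ω[B⁄k] →ₗ[B] Ω[ResidueField B⁄k] := KaehlerDifferential.map k k B (ResidueField B)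
  haveI : Algebra.FormallyUnramified (ResidueField A) (ResidueField B) :=
    Algebra.FormallyUnramified.of_isSeparable _ _
  obtain ⟨a, ha⟩ : ∃ a : A, δ (D k B (algebraMap A B a)) ≠ 0 := by
    by_contra hall
    push Not at hall
    refine hO ⟨⟨fun x y => ?_⟩⟩
    have htop := span_of_subsingleton (k := k) (A := ResidueField A) (B := ResidueField B)
    have hz : Submodule.span (ResidueField B) (Set.range fun c : ResidueField A =>
        D k (ResidueField B) (algebraMap (ResidueField A) (ResidueField B) c)) ≤ ⊥ := by
      rw [Submodule.span_le]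
      rintro _ ⟨c, rfl⟩
      obtain ⟨c, rfl⟩ := IsLocalRing.residue_surjective c
      have := hall c
      rw [map_D] at this
      exact this
    rw [htop] at hz
    rw [(Submodule.mem_bot _).mp (hz (Submodule.mem_top : x ∈ ⊤)),
      (Submodule.mem_bot _).mp (hz (Submodule.mem_top : y ∈ ⊤))]
  obtain ⟨c, hc⟩ := Submodule.mem_span_singleton.mp (hT.ge (Submodule.mem_top : D k B (algebraMap A B a) ∈ ⊤))
  have hcu : IsUnit c := by
    by_contra hcm
    apply ha
    rw [← hc, map_smul, ← algebraMap_smul (ResidueField B) c,
      show algebraMap B (ResidueField B) c = 0 from (residue_eq_zero_iff c).mpr hcm, zero_smul]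
  haveI : Algebra.EssFiniteType A B := Algebra.EssFiniteType.of_comp k A B
  haveI : Algebra.FormallyUnramified A B := ⟨subsingleton_of_span (k := k) (by
    rw [eq_top_iff, ← hT, Submodule.span_le, Set.singleton_subset_iff]
    obtain ⟨u, rfl⟩ := hcu
    have h1 : D k B T = (↑u⁻¹ : B) • D k B (algebraMap A B a) := by
      rw [← hc, smul_smul, Units.inv_mul, one_smul]
    rw [h1]
    exact Submodule.smul_mem _ _ (Submodule.subset_span ⟨a, rfl⟩))⟩
  haveI : IsNoetherianRing B := Algebra.EssFiniteType.isNoetherianRing k B
  have hm := Algebra.FormallyUnramified.map_maximalIdeal (R := A) (S := B)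
  rw [he] at hm
  refine hB ((Submodule.eq_bot_of_le_smul_of_le_jacobson_bot (maximalIdeal B) (maximalIdeal B)
    (IsNoetherian.noetherian _) ?_ (maximalIdeal_le_jacobson _)))
  calc maximalIdeal B = maximalIdeal B ^ e := hm.symm
    _ ≤ maximalIdeal B ^ 2 := Ideal.pow_le_pow_right h2
    _ = maximalIdeal B • maximalIdeal B := by rw [pow_two, smul_eq_mul]


/-- Let k be a field, X and Y smooth over k of relative dimension one (not necessarily proper), f : X ->
Y a finite k-morphism and x a closed point of X, with y = f(x). Suppose f is tamely ramified at x: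
m_y O_{X,x} = m_x^e for an integer e ≥ 2 prime to the characteristic of k, and κ(x) is separable
over κ(y). Then κ(x) is separable over k. (Consequently the field generated over k by the residue
fields of all such points is Galois over k.) -/
theorem result (k : Type u) [Field k]
    (X Y : Scheme.{u}) [X.Over (Spec (CommRingCat.of k))] [Y.Over (Spec (CommRingCat.of k))]
    [SmoothOfRelativeDimension 1 (X ↘ Spec (CommRingCat.of k))]
    [SmoothOfRelativeDimension 1 (Y ↘ Spec (CommRingCat.of k))]
    (f : X ⟶ Y) [IsFinite f] (hf : f ≫ (Y ↘ Spec (CommRingCat.of k)) = X ↘ Spec (CommRingCat.of k))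
    (x : X) (hx : IsClosed ({x} : Set X)) (e : ℕ)
    (he : (IsLocalRing.maximalIdeal (Y.presheaf.stalk (f.base x))).map (f.stalkMap x).hom =
      IsLocalRing.maximalIdeal (X.presheaf.stalk x) ^ e)
    (h2 : 2 ≤ e) (hp : ¬ ringChar k ∣ e)
    (hsep : @Algebra.IsSeparable (Y.residueField (f.base x)) (X.residueField x) _ _
      (f.residueFieldMap x).hom.toAlgebra) :
    Algebra.IsSeparable k (X.residueField x) := by
  classical
  let p := X ↘ Spec (CommRingCat.of k)
  haveI : Smooth p := SmoothOfRelativeDimension.smooth 1 p
  obtain ⟨U, hU, V, hV, hxV, hVU, hstd⟩ :=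
    SmoothOfRelativeDimension.exists_isStandardSmoothOfRelativeDimension (n := 1) (f := p) x
  obtain rfl : U = ⊤ := eq_top_iff.mpr fun q _ => (Subsingleton.elim (α := PrimeSpectrum k) q (p x)) ▸ hVU hxV
  letI algkV : Algebra k Γ(X, V) :=
    ((p.appLE ⊤ V hVU).hom.comp (Scheme.ΓSpecIso (CommRingCat.of k)).inv.hom).toAlgebra
  have hstd' : (algebraMap k Γ(X, V)).IsStandardSmoothOfRelativeDimension 1 :=
    (RingHom.isStandardSmoothOfRelativeDimension_respectsIso (n := 1)).2 _
      (Scheme.ΓSpecIso (CommRingCat.of k)).symm.commRingCatIsoToRingEquiv hstd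
  obtain ⟨g, hgC, hget⟩ := hstd'.exists_etale_mvPolynomial
  let R := MvPolynomial (Fin 1) k
  letI algRV : Algebra R Γ(X, V) := g.toAlgebra
  haveI : IsScalarTower k R Γ(X, V) := IsScalarTower.of_algebraMap_eq fun c => (RingHom.congr_fun hgC c).symm
  haveI : Algebra.Etale R Γ(X, V) := hget
  haveI : Algebra.FiniteType k Γ(X, V) := Algebra.FiniteType.trans (R := k) (S := R) inferInstance inferInstance
  letI := X.presheaf.algebra_section_stalk (⟨x, hxV⟩ : V)
  haveI := hV.isLocalization_stalk ⟨x, hxV⟩
  letI algkB : Algebra k (X.presheaf.stalk x) := Curv2.stalkAlgebra k X x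
  haveI : IsScalarTower k Γ(X, V) (X.presheaf.stalk x) := IsScalarTower.of_algebraMap_eq fun c => by
    change X.presheaf.germ ⊤ x trivial _ = X.presheaf.germ V x hxV (p.appLE ⊤ V hVU _)
    rw [Scheme.Hom.appLE, CommRingCat.comp_apply, TopCat.Presheaf.germ_res_apply]
    rfl
  haveI : Algebra.EssFiniteType Γ(X, V) (X.presheaf.stalk x) :=
    Algebra.EssFiniteType.of_isLocalization _ (hV.primeIdealOf ⟨x, hxV⟩).asIdeal.primeCompl
  haveI : Algebra.EssFiniteType k (X.presheaf.stalk x) := Algebra.EssFiniteType.comp k Γ(X, V) _
  letI algRB : Algebra R (X.presheaf.stalk x) :=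
    ((algebraMap Γ(X, V) (X.presheaf.stalk x)).comp (algebraMap R Γ(X, V))).toAlgebra
  haveI : IsScalarTower R Γ(X, V) (X.presheaf.stalk x) := IsScalarTower.of_algebraMap_eq fun _ => rfl
  haveI : IsScalarTower k R (X.presheaf.stalk x) := IsScalarTower.of_algebraMap_eq fun c => by
    rw [IsScalarTower.algebraMap_apply k Γ(X, V) (X.presheaf.stalk x),
      IsScalarTower.algebraMap_apply k R Γ(X, V)]
    rfl
  haveI : Algebra.FormallyUnramified Γ(X, V) (X.presheaf.stalk x) :=
    Algebra.FormallyUnramified.of_isLocalization (hV.primeIdealOf ⟨x, hxV⟩).asIdeal.primeCompl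
  haveI : Algebra.FormallyUnramified R (X.presheaf.stalk x) :=
    Algebra.FormallyUnramified.comp R Γ(X, V) _
  let T : X.presheaf.stalk x := algebraMap R _ (MvPolynomial.X 0)
  have hT : Submodule.span (X.presheaf.stalk x) {D k (X.presheaf.stalk x) T} = ⊤ := by
    rw [eq_top_iff, ← span_of_subsingleton (k := k) (A := R) (B := X.presheaf.stalk x), Submodule.span_le]
    rintro _ ⟨r, rfl⟩
    induction r using MvPolynomial.induction_on with
    | C c =>
      dsimp only
      rw [← MvPolynomial.algebraMap_eq, ← IsScalarTower.algebraMap_apply, Derivation.map_algebraMap]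
      exact zero_mem _
    | add a b ha hb =>
      dsimp only
      rw [map_add, map_add]
      exact add_mem ha hb
    | mul_X a i ha =>
      dsimp only
      rw [map_mul, Derivation.leibniz, Subsingleton.elim i 0]
      exact add_mem (Submodule.smul_mem _ _ (Submodule.subset_span rfl)) (Submodule.smul_mem _ _ ha)
  haveI hfin : @Module.Finite k (X.residueField x) _ _ (Curv2.resAlgebra k X x).toModule :=
    HurwitzLib.finite_residueField hx
  have hB : maximalIdeal (X.presheaf.stalk x) ≠ ⊥ := by
    intro hb
    haveI : Module.Flat R Γ(X, V) := inferInstance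
    haveI : Module.Flat Γ(X, V) (X.presheaf.stalk x) :=
      IsLocalization.flat _ (hV.primeIdealOf ⟨x, hxV⟩).asIdeal.primeCompl
    haveI : Module.Flat R (X.presheaf.stalk x) := Module.Flat.trans R Γ(X, V) _
    let hF := (IsLocalRing.isField_iff_maximalIdeal_eq.mpr hb)
    letI := hF.toField
    have hinj : Function.Injective (algebraMap R (X.presheaf.stalk x)) := by
      rw [injective_iff_map_eq_zero]
      intro r hr
      by_contra hr0
      have hreg := Module.Flat.isSMulRegular_of_nonZeroDivisors (M := X.presheaf.stalk x)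
        (mem_nonZeroDivisors_of_ne_zero hr0)
      refine one_ne_zero (α := X.presheaf.stalk x) (hreg ?_)
      simp only [Algebra.smul_def, hr, zero_mul]
    letI := Curv2.resAlgebra k X x
    let ρ : X.presheaf.stalk x →ₐ[k] X.residueField x :=
      { (X.residue x).hom with commutes' := fun _ => rfl }
    let ψ : R →ₐ[k] X.residueField x := ρ.comp (IsScalarTower.toAlgHom k R _)
    have hψ : Function.Injective ψ := (RingHom.injective (X.residue x).hom).comp hinj
    haveI : Module.Finite k R := Module.Finite.of_injective ψ.toLinearMap hψ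
    haveI : Algebra.IsIntegral k R := Algebra.IsIntegral.of_finite k R
    exact MvPolynomial.transcendental_X k (0 : Fin 1)
      (Algebra.IsIntegral.isIntegral (R := k) (MvPolynomial.X (0 : Fin 1) : R)).isAlgebraic
  let y := f.base x
  letI algkA : Algebra k (Y.presheaf.stalk (f.base x)) := Curv2.stalkAlgebra k Y (f.base x)
  letI algAB : Algebra (Y.presheaf.stalk (f.base x)) (X.presheaf.stalk x) := (f.stalkMap x).hom.toAlgebra
  haveI : IsScalarTower k (Y.presheaf.stalk (f.base x)) (X.presheaf.stalk x) :=
    IsScalarTower.of_algebraMap_eq fun c => by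
      refine (HurwitzLib.stalkTo_stalkMap hf rfl c).symm.trans ?_
      rw [HurwitzLib.stalkTo_rfl]
      rfl
  haveI : IsLocalHom (algebraMap (Y.presheaf.stalk (f.base x)) (X.presheaf.stalk x)) :=
    inferInstanceAs (IsLocalHom (f.stalkMap x).hom)
  haveI : Algebra.IsSeparable (ResidueField (Y.presheaf.stalk (f.base x))) (ResidueField (X.presheaf.stalk x)) := by
    letI := (f.residueFieldMap x).hom.toAlgebra
    haveI : Algebra.IsSeparable (Y.residueField (f.base x)) (X.residueField x) := hsep
    refine Algebra.IsSeparable.of_equiv_equiv (RingEquiv.refl (Y.residueField (f.base x)))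
      (RingEquiv.refl (X.residueField x)) (RingHom.ext fun c => ?_)
    obtain ⟨c, rfl⟩ := IsLocalRing.residue_surjective c
    rfl
  haveI : Algebra.EssFiniteType k (ResidueField (X.presheaf.stalk x)) :=
    Algebra.EssFiniteType.comp k (X.presheaf.stalk x) _
  exact separable_of_tame T hT hB e h2 he

end Groth.Agent.S16548
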