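import Groth.Statements.S7635
import Groth.Agent.KunnethDiagLib.Geom
import Groth.Agent.CohBCLib.Univ

set_option autoImplicit false
universe u
open CategoryTheory CategoryTheory.Limits AlgebraicGeometry
open scoped TensorProduct
open Variety

namespace Groth.Agent.S7635

/-- A finite good cover of a quasi-compact scheme with affine diagonal over an affine base. -/
theorem exists_cover {A : Type u} [CommRing A] {X : Scheme.{u}} [CompactSpace ↥X]
    (f : X ⟶ Spec (CommRingCat.of A)) [IsAffineHom (pullback.diagonal f)] :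
    ∃ (ι : Type u) (_ : Fintype ι) (U : ι → X.Opens), (⨆ i, U i) = ⊤ ∧
      ∀ t : Finset ι, t.Nonempty → IsAffineOpen (t.inf U) := by
  classical
  have hinf : ∀ {U V : X.Opens}, IsAffineOpen U → IsAffineOpen V → IsAffineOpen (U ⊓ V) := fun {U V} hU hV =>
    (isAffineHom_diagonal_iff (f := f)).mp inferInstance ⊤ (isAffineOpen_top _) U (by simp) V (by simp) hU hV
  let 𝒰 := X.affineCover.finiteSubcover
  have : Fintype 𝒰.I₀ := Fintype.ofFinite _
  let U : 𝒰.I₀ → X.Opens := fun i => (𝒰.f i).opensRange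
  have hU : ∀ i, IsAffineOpen (U i) := fun i => isAffineOpen_opensRange _
  refine ⟨ULift.{u} (Fin (Fintype.card 𝒰.I₀)), inferInstance,
    fun i => U ((Fintype.equivFin 𝒰.I₀).symm i.down), ?_, fun t ht => ?_⟩
  · rw [eq_top_iff]
    refine le_trans (le_of_eq 𝒰.iSup_opensRange.symm) (iSup_le fun i => ?_)
    exact le_iSup_of_le ⟨Fintype.equivFin 𝒰.I₀ i⟩ (by simp [U])
  · induction ht using Finset.Nonempty.cons_induction with
    | singleton a => rw [Finset.inf_singleton]; exact hU _
    | cons a s ha hs ih => rw [Finset.inf_cons]; exact hinf (hU _) ih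

/-- Let X and Y be quasi-compact schemes over a field k whose diagonal morphisms over k are affine (for
instance X and Y separated over k), F a quasi-coherent O_X-module and G a quasi-coherent O_Y-module.
Then for every n ≥ 0 the k-vector space H^n(X ×_k Y, pr_1^*F ⊗ pr_2^*G) is isomorphic to ⊕_{p+q=n}
H^p(X, F) ⊗_k H^q(Y, G). (The published statement asserts that the canonical map built from
pullbacks and cup products is an isomorphism; this row asserts only that some k-linear isomorphism
exists.) -/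
theorem result (k : Type u) [Field k] (X : Scheme.{u}) [X.Over (Spec (CommRingCat.of k))] [CompactSpace ↥X] [IsAffineHom (pullback.diagonal (X ↘ (Spec (CommRingCat.of k))))]
    (Y : Scheme.{u}) [Y.Over (Spec (CommRingCat.of k))] [CompactSpace ↥Y] [IsAffineHom (pullback.diagonal (Y ↘ (Spec (CommRingCat.of k))))]
    (F : X.Modules) (hF : Coh.IsQCoh F) (G : Y.Modules) (hG : Coh.IsQCoh G) (n : ℕ) :
    letI : (pullback (X ↘ (Spec (CommRingCat.of k))) (Y ↘ (Spec (CommRingCat.of k)))).Over (Spec (CommRingCat.of k)) := ⟨pullback.fst (X ↘ (Spec (CommRingCat.of k))) (Y ↘ (Spec (CommRingCat.of k))) ≫ (X ↘ (Spec (CommRingCat.of k)))⟩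
    Nonempty ((Π p : Fin (n + 1), Coh.HH X F (p : ℕ) ⊗[k] Coh.HH Y G (n - (p : ℕ))) ≃ₗ[k]
      Coh.HH (pullback (X ↘ (Spec (CommRingCat.of k))) (Y ↘ (Spec (CommRingCat.of k)))) (CohB1.tensorMod ((Scheme.Modules.pullback (pullback.fst (X ↘ (Spec (CommRingCat.of k))) (Y ↘ (Spec (CommRingCat.of k))))).obj F)
        ((Scheme.Modules.pullback (pullback.snd (X ↘ (Spec (CommRingCat.of k))) (Y ↘ (Spec (CommRingCat.of k))))).obj G)) n) := by
  classical
  let f₁ := X ↘ (Spec (CommRingCat.of k))
  let f₂ := Y ↘ (Spec (CommRingCat.of k))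
  obtain ⟨ι, _, U, hU, hinfU⟩ := exists_cover f₁
  obtain ⟨κ, _, V, hV, hinfV⟩ := exists_cover f₂
  obtain ⟨e⟩ := KunnethDiagLib.nonempty_kunneth_HA (f := pullback.fst f₁ f₂ ≫ f₁) rfl pullback.condition.symm
    F G U V (IsPullback.of_hasPullback f₁ f₂) hU hV hinfU hinfV
    (fun S _ => inferInstance) (fun _ => inferInstance) (fun _ => inferInstance) n
  let φ : Finset.HasAntidiagonal.antidiagonal n → Type u := fun pq =>
    ((CohBCLib.HA f₁ pq.1.1).obj F : Type u) ⊗[k] ((CohBCLib.HA f₂ pq.1.2).obj G : Type u)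
  exact ⟨(e.trans ((DirectSum.linearEquivFunOnFintype k _ φ).trans
    (LinearEquiv.piCongrLeft' k φ (Finset.Nat.antidiagonalEquivFin n)))).symm⟩

end Groth.Agent.S7635
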