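import Groth.Statements.S15294
import Mathlib
import Mathlib
-- import your own Groth.Agent.* helpers here

set_option autoImplicit false
universe u
open DeRham

namespace Groth.Agent.S15294

open exteriorPower in
/-- The map of de Rham complexes attached to a square of ring maps is compatible with the differentials.
Precisely: let R → A and S → B be ring maps with B an algebra over A (and over R, compatibly), let d
and d' be de Rham differentials of the Kähler differentials of A over R and of B over S, and let ψ
be a family of additive maps from p-forms of A over R to p-forms of B over S which is the induced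
map for the structure map g : A → B, sending b₀ db₁ ∧ … ∧ db_p to g(b₀) d(g b₁) ∧ … ∧ d(g b_p). Then
ψ in degree p+1 composed with d equals d' composed with ψ in degree p. (The published statement is
for a commutative square of ring maps R → S, A → B; once the family ψ is given the conclusion holds
for any ring maps, the square being needed only to produce ψ.) -/
theorem result (R S A B : Type u) [CommRing R] [CommRing S] [CommRing A] [CommRing B]
    [Algebra R A] [Algebra S B] [Algebra A B] [Algebra R B] [IsScalarTower R A B]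
    (d : ∀ p : ℕ, ↥(⋀[A]^p (Ω[A⁄R])) →ₗ[R] ↥(⋀[A]^(p + 1) (Ω[A⁄R])))
    (hd : DeRham.IsDiff (KaehlerDifferential.D R A) d)
    (d' : ∀ p : ℕ, ↥(⋀[B]^p (Ω[B⁄S])) →ₗ[S] ↥(⋀[B]^(p + 1) (Ω[B⁄S])))
    (hd' : DeRham.IsDiff (KaehlerDifferential.D S B) d')
    (ψ : ∀ p : ℕ, ↥(⋀[A]^p (Ω[A⁄R])) →+ ↥(⋀[B]^p (Ω[B⁄S])))
    (hψ : DeRham.IsCxMap (KaehlerDifferential.D R A) (KaehlerDifferential.D S B) (algebraMap A B) ψ)
    (p : ℕ) (x : ↥(⋀[A]^p (Ω[A⁄R]))) :
    ψ (p + 1) (d p x) = d' p (ψ p x) := by
  classical
  let Q : AddSubgroup ↥(⋀[A]^p (Ω[A⁄R])) :=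
    { carrier := {x | ψ (p + 1) (d p x) = d' p (ψ p x)}
      zero_mem' := by simp
      add_mem' := fun {a b} ha hb => by
        show ψ (p + 1) (d p (a + b)) = d' p (ψ p (a + b))
        simp only [map_add]
        exact congrArg₂ (· + ·) ha hb
      neg_mem' := fun {a} ha => by
        show ψ (p + 1) (d p (-a)) = d' p (ψ p (-a))
        simp only [map_neg]
        exact congrArg Neg.neg ha }
  suffices h : x ∈ Q from h
  have hspan := exteriorPower.ιMulti_span_of_span A p (Ω[A⁄R]) (KaehlerDifferential.span_range_derivation R A)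
  have hx : x ∈ Submodule.span A ((exteriorPower.ιMulti A p) '' {a : Fin p → Ω[A⁄R] | Set.range a ⊆ Set.range (KaehlerDifferential.D R A)}) := by
    rw [hspan]; exact Submodule.mem_top
  rw [Submodule.mem_span_set'] at hx
  obtain ⟨n, c, g, rfl⟩ := hx
  refine Q.sum_mem fun j _ => ?_
  obtain ⟨v, hv, hvg⟩ := (g j).2
  choose a ha using fun i => hv (Set.mem_range_self i)
  obtain rfl : (fun i => KaehlerDifferential.D R A (a i)) = v := funext ha
  show ψ (p + 1) (d p (c j • (g j : ↥(⋀[A]^p (Ω[A⁄R]))))) = d' p (ψ p (c j • (g j : ↥(⋀[A]^p (Ω[A⁄R])))))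
  rw [← hvg, show c j • exteriorPower.ιMulti A p (fun i => KaehlerDifferential.D R A (a i)) = DeRham.gen (KaehlerDifferential.D R A) p (c j) a from rfl,
    hd.1 p (c j) a, hψ p (c j) a, hd'.1 p]
  have h2 := hψ (p + 1) 1 (Fin.cons (c j) a)
  simp only [DeRham.gen, one_smul, map_one] at h2
  convert h2 using 2
  · congr 1
    funext l
    induction l using Fin.cases <;> simp
  · funext l
    induction l using Fin.cases <;> simp

end Groth.Agent.S15294
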