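import Groth.Statements.S3882
import Groth.Agent.HypercovLib.Refine

set_option autoImplicit false
universe u
open CategoryTheory
open Hyper

namespace Groth.Agent.S3882

open Opposite CategoryTheory.Limits in
/-- The statement its proof reduces the result to (hypercoverings of an object X of a small site with
fibre products; coskeleta assumed to exist): let N be a presheaf of abelian groups whose associated
sheaf is zero, K a hypercovering of X and ξ a class in the p-th Cech cohomology group of N with
respect to K. Then there is a morphism of hypercoverings f : L -> K such that ξ maps to zero in the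
p-th Cech cohomology group of N with respect to L. (So Cech cohomology over all hypercoverings up to
homotopy kills such presheaves in every degree.) -/
theorem result {C : Type u} [SmallCategory C] [HasPullbacks C]
    (J : GrothendieckTopology C) (X : C)
    [∀ (n : ℕ) (F : (SimplexCategory.Truncated n)ᵒᵖ ⥤ Limits.FormalCoproduct.{u} (Over X)),
      (SimplexCategory.Truncated.inclusion n).op.HasRightKanExtension F]
    (K : SimplicialObject (FormalCoproduct.{u} (Over X))) (hK : Hyper.IsHypercovering J X K)
    (N : Cᵒᵖ ⥤ AddCommGrpCat.{u}) (hN : IsZero ((presheafToSheaf J AddCommGrpCat.{u}).obj N))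
    (p : ℕ) (ξ : Hyper.cechH X K N p) :
    ∃ (L : SimplicialObject (FormalCoproduct.{u} (Over X))) (f : L ⟶ K),
      Hyper.IsHypercovering J X L ∧ Hyper.cechHMap X f N p ξ = 0 := by
  classical
  let A := K.obj (op (SimplexCategory.mk p))
  let cxK := Hyper.cechCx X K N
  obtain ⟨z, rfl⟩ := (AddCommGrpCat.epi_iff_surjective (cxK.homologyπ p)).1 inferInstance ξ
  let c := cxK.iCycles p z
  let x : ∀ i : A.I, N.obj (op (A.obj i).left) := fun i => Pi.π (fun i => N.obj (op (A.obj i).left)) i c
  let Z : FormalCoproduct.{u} (Over X) :=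
    ⟨Σ i : A.I, Σ V : Over X, {r : V ⟶ A.obj i // N.map r.left.op (x i) = 0}, fun q => q.2.1⟩
  let uZ : Z ⟶ A := { f := fun q => q.1, φ := fun q => q.2.2.1 }
  have hcov : Hyper.IsSRCovering (J.over X) uZ := by
    refine (HypercovLib.locLift_iff _ _).1 fun U b => ?_
    let i := b.f PUnit.unit
    let r₀ : U ⟶ A.obj i := b.φ PUnit.unit
    have hz : Presheaf.equalizerSieve (X := op U.left) (N.map r₀.left.op (x i)) 0 ∈ J U.left :=
      Presheaf.equalizerSieve_mem J (toSheafify J N) _ _ (by
        haveI : Subsingleton (((presheafToSheaf J AddCommGrpCat.{u}).obj N).obj.obj (op U.left)) :=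
          AddCommGrpCat.subsingleton_of_isZero
            ((((sheafToPresheaf J AddCommGrpCat.{u}).map_isZero hN)).obj (op U.left))
        exact Subsingleton.elim (α := ((presheafToSheaf J AddCommGrpCat.{u}).obj N).obj.obj (op U.left)) _ _)
    refine ⟨(Sieve.overEquiv U).symm (Presheaf.equalizerSieve (X := op U.left) (N.map r₀.left.op (x i)) 0), ?_, fun V g hg => ?_⟩
    · rw [GrothendieckTopology.mem_over_iff]
      rw [OrderIso.apply_symm_apply]
      exact hz
    · rw [Sieve.overEquiv_symm_iff] at hg
      have h0 : N.map (g ≫ r₀).left.op (x i) = 0 := by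
        rw [Over.comp_left, op_comp, N.map_comp]
        exact hg.trans (map_zero _)
      exact ⟨{ f := fun _ => ⟨i, V, ⟨g ≫ r₀, h0⟩⟩, φ := fun _ => 𝟙 V },
        FormalCoproduct.hom_ext rfl fun _ => (Category.comp_id _).trans (Category.id_comp _)⟩
  let L := HypercovLib.refineObj K uZ
  let f : L ⟶ K := HypercovLib.refineFst K uZ
  refine ⟨L, f, HypercovLib.refine_isHypercovering K uZ J hK hcov, ?_⟩
  let cxL := Hyper.cechCx X L N
  have hc : (Hyper.cechMap X f N).f p c = 0 := by
    refine Concrete.limit_ext _ _ _ fun ⟨i⟩ => ?_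
    let B := L.obj (op (SimplexCategory.mk p))
    show (Pi.lift (fun j : B.I => Pi.π (fun i => N.obj (op (A.obj i).left)) ((f.app (op (SimplexCategory.mk p))).f j) ≫
      N.map ((f.app (op (SimplexCategory.mk p))).φ j).left.op) ≫ Pi.π _ i) c = _
    rw [Pi.lift_π]
    refine Eq.trans ?_ (map_zero _).symm
    let g : L.obj (op (SimplexCategory.mk p)) ⟶ Z := HypercovLib.refineVal K uZ (𝟙 _)
    obtain ⟨hf, hφ⟩ := (FormalCoproduct.hom_ext_iff' _ _).1 (HypercovLib.refineVal_id_comp K uZ) i
    have key : ∀ (j : A.I) (e : (g.f i).1 = j) (ψ : B.obj i ⟶ A.obj j),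
        g.φ i ≫ (g.f i).2.2.1 ≫ eqToHom (congrArg A.obj e) = ψ → N.map ψ.left.op (x j) = 0 := by
      rintro j rfl ψ rfl
      rw [eqToHom_refl, Category.comp_id, Over.comp_left, op_comp, N.map_comp]
      show N.map (g.φ i).left.op (N.map (g.f i).2.2.1.left.op (x (g.f i).1)) = 0
      rw [(g.f i).2.2.2]
      exact map_zero _
    exact key _ hf _ (by rw [← hφ]; exact (Category.assoc _ _ _).symm)
  show (HomologicalComplex.homologyMap (Hyper.cechMap X f N) p) (cxK.homologyπ p z) = 0
  rw [← ConcreteCategory.comp_apply, HomologicalComplex.homologyπ_naturality, ConcreteCategory.comp_apply]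
  refine Eq.trans (congrArg (cxL.homologyπ p) ?_) (map_zero _)
  refine (AddCommGrpCat.mono_iff_injective (cxL.iCycles p)).1 inferInstance ?_
  rw [← ConcreteCategory.comp_apply, HomologicalComplex.cyclesMap_i, ConcreteCategory.comp_apply, map_zero]
  exact hc

end Groth.Agent.S3882
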