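import Groth.Statements.S6504
import Groth.Agent.HypercovLib.Fill
import Groth.Agent.HypercovLib.Elem
import Mathlib

set_option autoImplicit false
universe u
open CategoryTheory
open Hyper

namespace Groth.Agent.S6504

open Opposite CategoryTheory.Limits in
/-- Read on the localized site C/X (so that the represented presheaf h_X is the final object and fibre
products over h_X are products): let C be a small site with fibre products and K a hypercovering of
an object X. Then the associated simplicial presheaf F(K) on C/X satisfies: F(K_0) → * is locally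
surjective, F(K_1) → F(K_0) × F(K_0) (the two face maps) is locally surjective, and for every n ≥ 1
the map F(K_{n+1}) → F((cosk_n sk_n K)_{n+1}) is locally surjective; that is, K is a hypercovering
of the final object of the topos of C/X in Verdier's sense. -/
theorem result {C : Type u} [SmallCategory C] [HasPullbacks C]
    (J : GrothendieckTopology C) (X : C) (K : SimplicialObject (FormalCoproduct.{u} (Over X)))
    [∀ (n : ℕ) (F : (SimplexCategory.Truncated n)ᵒᵖ ⥤ FormalCoproduct.{u} (Over X)),
      (SimplexCategory.Truncated.inclusion n).op.HasRightKanExtension F]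
    (hK : Hyper.IsHypercovering J X K) : Hyper.IsHypercoveringSite (J.over X) K := by
  classical
  refine ⟨⟨fun {W} s => ?_⟩, ⟨fun {W} s => ?_⟩, fun n _ => HypercovLib.isLocallySurjective _ _ (hK.2 n)⟩
  · rw [GrothendieckTopology.mem_over_iff]
    refine J.superset_covering ?_ (J.pullback_stable W.hom hK.1)
    intro Z h hh
    obtain ⟨_, γ, _, ⟨i⟩, hγ⟩ := hh
    rw [Sieve.overEquiv_iff]
    have hsub : ∀ (V : Over X) (a b : (⊤_ ((Over X)ᵒᵖ ⥤ Type u)).obj (op V)), a = b := fun V a b =>
      yonedaEquiv.symm.injective (terminal.hom_ext _ _)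
    exact ⟨HypercovLib.el (K.obj (op (SimplexCategory.mk 0))) i
      (Over.homMk γ hγ : Over.mk (h ≫ W.hom) ⟶ _), hsub _ _ _⟩
  · let K₀ := K.obj (op (SimplexCategory.mk 0))
    let K₁ := K.obj (op (SimplexCategory.mk 1))
    let Y₀ := FormalCoproduct.yoneda.obj K₀
    obtain ⟨i, g, hg⟩ := HypercovLib.exists_el K₀ ((prod.fst : Y₀ ⨯ Y₀ ⟶ Y₀).app (op W) s)
    obtain ⟨j, g', hg'⟩ := HypercovLib.exists_el K₀ ((prod.snd : Y₀ ⨯ Y₀ ⟶ Y₀).app (op W) s)
    let a : (FormalCoproduct.incl (Over X)).obj W ⟶ K₀ := { f := fun _ => i, φ := fun _ => g }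
    let b : (FormalCoproduct.incl (Over X)).obj W ⟶ K₀ := { f := fun _ => j, φ := fun _ => g' }
    obtain ⟨c, hc⟩ := HypercovLib.exists_pair K a b
    refine (J.over X).superset_covering ?_ ((J.over X).pullback_stable (c.φ PUnit.unit) (hK.2 0 (c.f PUnit.unit)))
    intro V h hh
    obtain ⟨_, γ, _, ⟨i'⟩, hγ⟩ := hh
    let e : (FormalCoproduct.incl (Over X)).obj V ⟶ K₁ := { f := fun _ => i'.1, φ := fun _ => γ }
    obtain ⟨h1, h0⟩ := hc h e ((FormalCoproduct.hom_ext_iff' _ _).2 fun _ => ⟨i'.2, by
      refine Eq.trans ?_ hγ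
      exact Category.assoc _ _ _⟩)
    have hkey : ∀ (k : Fin 2) (d : (FormalCoproduct.incl (Over X)).obj W ⟶ K₀),
        e ≫ K.δ k = (FormalCoproduct.incl (Over X)).map h ≫ d →
        (FormalCoproduct.yoneda.map (K.δ k)).app (op V) (HypercovLib.el K₁ i'.1 γ) =
          HypercovLib.el K₀ (d.f PUnit.unit) (h ≫ d.φ PUnit.unit) := fun k d hd => by
      rw [HypercovLib.map_el]
      obtain ⟨q1, q2⟩ := (FormalCoproduct.hom_ext_iff' _ _).1 hd PUnit.unit
      refine (HypercovLib.el_congr K₀ q1 _).trans ?_
      exact congrArg _ q2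
    refine ⟨HypercovLib.el K₁ i'.1 γ, HypercovLib.prod_ext ?_ ?_⟩
    · rw [← NatTrans.comp_app_apply, prod.lift_fst, NatTrans.naturality_apply, ← hg, HypercovLib.restrict_el]
      exact hkey 1 a h1
    · rw [← NatTrans.comp_app_apply, prod.lift_snd, NatTrans.naturality_apply, ← hg', HypercovLib.restrict_el]
      exact hkey 0 b h0
end Groth.Agent.S6504
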