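import Groth.Statements.S3893
import Groth.Agent.HypercovLib.Shift
import Groth.Agent.S0895
import Groth.Agent.CohLib.Sections
import Groth.Agent.CohLib.ExtShift
import Groth.Agent.CohLib.ExtInjective

set_option autoImplicit false
universe u
open CategoryTheory
open Hyper

namespace Groth.Agent.S3893

open Opposite CategoryTheory.Limits in
/-- (Degenerate case of the spectral sequence of a hypercovering; hypercoverings of an object X of a
small site with fibre products, coskeleta assumed to exist.) Let F be an abelian sheaf with H^q(U,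
F) = 0 for every object U of the site and every q > 0. Then for every hypercovering K of X the Cech
cohomology groups of F with respect to K vanish in positive degrees. -/
theorem result {C : Type u} [SmallCategory C] [HasPullbacks C]
    (J : GrothendieckTopology C) (X : C)
    [∀ (n : ℕ) (F : (SimplexCategory.Truncated n)ᵒᵖ ⥤ Limits.FormalCoproduct.{u} (Over X)),
      (SimplexCategory.Truncated.inclusion n).op.HasRightKanExtension F]
    (F : Sheaf J AddCommGrpCat.{u}) (hF : ∀ (U : C) (q : ℕ), Subsingleton (CohSite.HU F (q + 1) U))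
    (K : SimplicialObject (FormalCoproduct.{u} (Over X))) (hK : Hyper.IsHypercovering J X K) (p : ℕ) :
    IsZero (Hyper.cechH X K F.obj (p + 1)) := by
  rw [← HomologicalComplex.exactAt_iff_isZero_homology]
  induction p using Nat.strong_induction_on generalizing F with
  | _ p ih =>
    let S := CohLib.injSC F
    have hS : S.ShortExact := CohLib.injSC_shortExact F
    let Λ : Sheaf J AddCommGrpCat.{u} → ((Over X)ᵒᵖ ⥤ AddCommGrpCat.{u}) := fun G => (Over.forget X).op ⋙ G.obj
    let α : Λ S.X₁ ⟶ Λ S.X₂ := (Over.forget X).op.whiskerLeft S.f.hom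
    let β : Λ S.X₂ ⟶ Λ S.X₃ := (Over.forget X).op.whiskerLeft S.g.hom
    have hsec : ∀ U : Cᵒᵖ, Function.Injective (S.f.hom.app U) ∧
        ∀ a, S.g.hom.app U a = 0 → ∃ b, S.f.hom.app U b = a := fun U => by
      let E := sheafToPresheaf J AddCommGrpCat.{u} ⋙ (evaluation Cᵒᵖ AddCommGrpCat.{u}).obj U
      haveI := hS.mono_f
      haveI : E.PreservesZeroMorphisms := ⟨fun _ _ => rfl⟩
      have h := hS.exact.map_of_mono_of_preservesKernel E hS.mono_f inferInstance
      rw [ShortComplex.ab_exact_iff] at h
      exact ⟨(AddCommGrpCat.mono_iff_injective _).1 (inferInstanceAs (Mono (E.map S.f))), h⟩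
    have hsurj : ∀ U : C, Function.Surjective (S.g.hom.app (op U)) := fun U => by
      haveI : Subsingleton (CohSite.HU S.X₁ 1 U) := hF U 0
      exact CohLib.surjective_sections_of_HU hS U
    have hα : ∀ U, Function.Injective (α.app U) := fun U => (hsec _).1
    have hk : ∀ U a, β.app U a = 0 → ∃ b, α.app U b = a := fun U a ha => (hsec _).2 a ha
    have hβ : ∀ U, Function.Surjective (β.app U) := fun U => hsurj _
    rw [HomologicalComplex.exactAt_iff' _ p (p + 1) (p + 2) (by simp) (by simp), ShortComplex.ab_exact_iff]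
    intro x hx
    change (Hyper.cechCxSite K (Λ S.X₁)).X (p + 1) at x
    change (Hyper.cechCxSite K (Λ S.X₁)).d (p + 1) (p + 2) x = 0 at hx
    haveI : Injective S.X₂ := inferInstanceAs (Injective (Injective.under F))
    have hI := Groth.Agent.S0895.result J X K hK S.X₂ p
    rw [← HomologicalComplex.exactAt_iff_isZero_homology,
      HomologicalComplex.exactAt_iff' _ p (p + 1) (p + 2) (by simp) (by simp), ShortComplex.ab_exact_iff] at hI
    obtain ⟨z, hz⟩ := hI ((HypercovLib.cxMap K α).f (p + 1) x) (by
      refine (HypercovLib.cxMap_d K α x).symm.trans ?_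
      rw [hx]
      exact map_zero _)
    change (Hyper.cechCxSite K (Λ S.X₂)).X p at z
    change (Hyper.cechCxSite K (Λ S.X₂)).d p (p + 1) z = (HypercovLib.cxMap K α).f (p + 1) x at hz
    suffices hlift : ∃ z₀, (Hyper.cechCxSite K (Λ S.X₂)).d p (p + 1) z₀ = 0 ∧
        (HypercovLib.cxMap K β).f p z₀ = (HypercovLib.cxMap K β).f p z by
      obtain ⟨z₀, h₀, h₁⟩ := hlift
      exact HypercovLib.exists_boundary_shift K α β hα hk x z z₀ hz h₀ h₁
    have hw : (Hyper.cechCxSite K (Λ S.X₃)).d p (p + 1) ((HypercovLib.cxMap K β).f p z) = 0 := by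
      rw [← HypercovLib.cxMap_d, hz]
      refine HypercovLib.ext_comp K fun i => ?_
      rw [HypercovLib.comp_cxMap, HypercovLib.comp_cxMap]
      refine Eq.trans ?_ (map_zero _).symm
      exact congrArg (fun k => k.hom.app _ (HypercovLib.comp K (Λ S.X₁) x i)) S.zero
    cases p with
    | zero =>
      obtain ⟨s, hs⟩ := HypercovLib.exists_glue K J hK S.X₃ _ hw
      obtain ⟨t, ht⟩ := hsurj X s
      refine ⟨HypercovLib.res0 K S.X₂.obj t, HypercovLib.d_res0 K S.X₂.obj t, ?_⟩
      rw [← hs]
      refine HypercovLib.ext_comp K fun i => ?_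
      rw [HypercovLib.comp_cxMap, HypercovLib.comp_res0, HypercovLib.comp_res0, ← ht]
      exact NatTrans.naturality_apply S.g.hom _ t
    | succ p =>
      have hQ : ∀ (U : C) (q : ℕ), Subsingleton (CohSite.HU S.X₃ (q + 1) U) := fun U q => by
        let Z := (presheafToSheaf J AddCommGrpCat.{u}).obj (yoneda.obj U ⋙ AddCommGrpCat.free.{u})
        haveI : Subsingleton (Abelian.Ext Z S.X₁ (q + 1 + 1)) := hF U (q + 1)
        haveI : Subsingleton (Abelian.Ext Z S.X₂ (q + 1)) := CohLib.subsingleton_ext_injective _ S.X₂ q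
        exact CohLib.subsingleton_ext_of_shift' hS (X := Z)
      have h := ih p (Nat.lt_succ_self p) S.X₃ hQ
      rw [HomologicalComplex.exactAt_iff' _ p (p + 1) (p + 2) (by simp) (by simp), ShortComplex.ab_exact_iff] at h
      obtain ⟨w, hw'⟩ := h _ hw
      obtain ⟨w', rfl⟩ := HypercovLib.cxMap_surjective K β hβ p w
      refine ⟨(Hyper.cechCxSite K (Λ S.X₂)).d p (p + 1) w', ?_, ?_⟩
      · rw [← ConcreteCategory.comp_apply, HomologicalComplex.d_comp_d]
        rfl
      · rw [HypercovLib.cxMap_d]
        exact hw'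
end Groth.Agent.S3893
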