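import Groth.Statements.S2111
import Groth.Agent.NormalLib.Serre

set_option autoImplicit false
universe u
open CAlg

namespace Groth.Agent.S2111

/-- Let `R` be a Noetherian normal domain with fraction field `K`. An element of `K` which lies in `R_𝔭`
for every prime `𝔭` of height one lies in `R`. -/
theorem result {R : Type u} [CommRing R] [IsDomain R] [IsNoetherianRing R]
    [IsIntegrallyClosed R] (x : FractionRing R)
    (hx : ∀ (p : Ideal R) [p.IsPrime], p.height = 1 →
      x ∈ Set.range (algebraMap (Localization.AtPrime p) (FractionRing R))) :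
    x ∈ Set.range (algebraMap R (FractionRing R)) := by
  obtain ⟨⟨b, a⟩, hab⟩ := IsLocalization.surj (nonZeroDivisors R) x
  suffices (a : R) ∣ b by
    obtain ⟨y, hy⟩ := this
    refine ⟨y, (IsLocalization.map_units (FractionRing R) a).mul_left_injective ?_⟩
    show algebraMap R (FractionRing R) y * algebraMap R _ a = x * algebraMap R _ a
    rw [hab, ← map_mul, hy, mul_comm]
  refine NormalLib.dvd_of_forall_associatedPrimes fun P hP => ?_
  have := hP.isPrime
  obtain ⟨z, hz⟩ := hx P (NormalLib.height_eq_one_of_mem_associatedPrimes (nonZeroDivisors.coe_ne_zero a) hP)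
  obtain ⟨d, s, rfl⟩ := IsLocalization.exists_mk'_eq P.primeCompl z
  refine ⟨s, s.2, d, IsFractionRing.injective R (FractionRing R) ?_⟩
  rw [map_mul, map_mul, ← hab, ← hz]
  simp only [IsScalarTower.algebraMap_apply R (Localization.AtPrime P) (FractionRing R)]
  rw [← map_mul, ← map_mul, ← map_mul]
  refine congrArg _ ?_
  rw [← IsLocalization.mk'_spec (Localization.AtPrime P) d s]
  ring

end Groth.Agent.S2111
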