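import Groth.Statements.S18161
import Groth.Agent.EtTransferLib.PointTorsion
import Groth.Agent.CycBivLib.Disjoint
import Groth.Agent.HomRepLib.Descent
import Groth.Agent.FFDescLib.EtaleGraph
import Groth.Agent.MultSubFTLib.LevelQuot
import Mathlib.AlgebraicGeometry.Morphisms.FlatRank
import Mathlib.RingTheory.Etale.Field
import Mathlib.FieldTheory.IsAlgClosed.AlgebraicClosure
-- import your own Groth.Agent.* helpers here

set_option autoImplicit false
universe u
open BSB
open CategoryTheory AlgebraicGeometry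

namespace Groth.Agent.S18161
open CategoryTheory.Limits
set_option maxHeartbeats 1600000
set_option backward.isDefEq.respectTransparency false

section
/-- The image of a point with values in an extension of the residue field. -/
theorem residue_pt {X : Scheme.{u}} (x : X) (Ω : Type u) [Field Ω] [Algebra (X.residueField x) Ω] :
    (Spec.map (CommRingCat.ofHom (algebraMap (X.residueField x) Ω)) ≫ X.fromSpecResidueField x)
      (IsLocalRing.closedPoint Ω) = x := by
  rw [Scheme.Hom.comp_apply]
  exact Scheme.fromSpecResidueField_apply _ _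

variable {T S : Scheme.{u}} (f : T ⟶ S) [Etale f] [QuasiCompact f]

theorem finrank_spec {k : Type u} [Field k] {X : Scheme.{u}} (π : X ⟶ Spec (CommRingCat.of k)) [IsFinite π]
    (x : Spec (CommRingCat.of k)) (B : Type u) [CommRing B] [Algebra k B] [Module.Finite k B]
    (e : X ≅ Spec (CommRingCat.of B)) (he : e.hom ≫ Spec.map (CommRingCat.ofHom (algebraMap k B)) = π) :
    Scheme.Hom.finrank π x = Module.finrank k B := by
  haveI : IsFinite (Spec.map (CommRingCat.ofHom (algebraMap k B))) :=
    (IsFinite.SpecMap_iff _).2 (RingHom.finite_algebraMap.2 inferInstance)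
  haveI : Flat (Spec.map (CommRingCat.ofHom (algebraMap k B))) :=
    (Flat.SpecMap_iff).2 (RingHom.flat_algebraMap_iff.2 inferInstance)
  rw [← he, Scheme.Hom.finrank_comp_left_of_isIso]
  rw [Scheme.Hom.finrank_SpecMap_algebraMap k B x, Module.rankAtStalk_eq_finrank_of_free]
  rfl

variable {d : ℕ} (hd : ∀ s : S, Module.finrank (S.residueField s) Γ(f.fiber s, ⊤) = d)
include hd

/-- The geometric fibres have exactly `d` points. -/
theorem exists_geom {Ω : Type u} [Field Ω] [IsAlgClosed Ω] (x : Spec (CommRingCat.of Ω) ⟶ S) :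
    ∃ t : Fin d → (Spec (CommRingCat.of Ω) ⟶ T), Function.Injective t ∧ (∀ i, t i ≫ f = x) ∧
      ∀ q : ↥(pullback f x), ∃ (i : Fin d) (l : Spec (CommRingCat.of Ω) ⟶ pullback f x),
        l ≫ pullback.fst f x = t i ∧ l ≫ pullback.snd f x = 𝟙 _ ∧ l (IsLocalRing.closedPoint Ω) = q := by
  let pt : ↥(Spec (CommRingCat.of Ω)) := IsLocalRing.closedPoint Ω
  let s : S := x pt
  -- the scheme theoretic fibre
  let π : f.fiber s ⟶ Spec (S.residueField s) := f.fiberToSpecResidueField s
  haveI : CompactSpace ↥(f.fiber s) := inferInstance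
  haveI : Etale π := inferInstanceAs (Etale (pullback.snd f (S.fromSpecResidueField s)))
  haveI : IsFinite π := EtTransferLib.isFinite_of_etale_compact (k := S.residueField s) π
  haveI : IsAffine (f.fiber s) := isAffine_of_isAffineHom π
  letI : Algebra ↑(S.residueField s) ↑Γ(f.fiber s, ⊤) := inferInstance
  have he : (f.fiber s).isoSpec.hom ≫
      Spec.map (CommRingCat.ofHom (algebraMap (S.residueField s) Γ(f.fiber s, ⊤))) = π := by
    rw [show CommRingCat.ofHom (algebraMap (S.residueField s) Γ(f.fiber s, ⊤)) =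
      (Scheme.ΓSpecIso (S.residueField s)).inv ≫ π.appTop from rfl, Spec.map_comp, Scheme.isoSpec_hom,
      ← Scheme.toSpecΓ_naturality_assoc, toSpecΓ_SpecMap_ΓSpecIso_inv, Category.comp_id]
  haveI : Module.Finite (S.residueField s) Γ(f.fiber s, ⊤) := by
    haveI : IsFinite (Spec.map (CommRingCat.ofHom (algebraMap (S.residueField s) Γ(f.fiber s, ⊤)))) := by
      have : IsFinite ((f.fiber s).isoSpec.hom ≫
        Spec.map (CommRingCat.ofHom (algebraMap (S.residueField s) Γ(f.fiber s, ⊤)))) := he.symm ▸ ‹IsFinite π›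
      exact (MorphismProperty.cancel_left_of_respectsIso @IsFinite _ _).1 this
    exact RingHom.finite_algebraMap.1 ((IsFinite.SpecMap_iff _).1 this)
  have hrank : ∀ q, Scheme.Hom.finrank π q = d := fun q =>
    (finrank_spec (k := ↑(S.residueField s)) π q Γ(f.fiber s, ⊤) (f.fiber s).isoSpec he).trans (hd s)
  -- the geometric fibre
  obtain ⟨x', hx'⟩ : ∃ x' : Spec (CommRingCat.of Ω) ⟶ Spec (S.residueField s), x' ≫ S.fromSpecResidueField s = x :=
    ⟨Spec.map ((Scheme.SpecToEquivOfField Ω S) x).2,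
      (Scheme.SpecToEquivOfField Ω S).symm_apply_apply x⟩
  let P := pullback π x'
  let ρ : P ⟶ Spec (CommRingCat.of Ω) := pullback.snd π x'
  haveI : Etale ρ := inferInstanceAs (Etale (pullback.snd π x'))
  haveI : IsFinite ρ := inferInstanceAs (IsFinite (pullback.snd π x'))
  haveI : IsAffine P := isAffine_of_isAffineHom ρ
  let B := Γ(P, ⊤)
  letI : Algebra Ω B := ((Scheme.ΓSpecIso (CommRingCat.of Ω)).inv ≫ ρ.appTop).hom.toAlgebra
  have heB : P.isoSpec.hom ≫ Spec.map (CommRingCat.ofHom (algebraMap Ω B)) = ρ := by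
    rw [show CommRingCat.ofHom (algebraMap Ω B) = (Scheme.ΓSpecIso (CommRingCat.of Ω)).inv ≫ ρ.appTop from rfl,
      Spec.map_comp, Scheme.isoSpec_hom, ← Scheme.toSpecΓ_naturality_assoc, toSpecΓ_SpecMap_ΓSpecIso_inv,
      Category.comp_id]
  have heB' : Etale (Spec.map (CommRingCat.ofHom (algebraMap Ω B))) ∧
      IsFinite (Spec.map (CommRingCat.ofHom (algebraMap Ω B))) := by
    constructor
    · have : Etale (P.isoSpec.hom ≫ Spec.map (CommRingCat.ofHom (algebraMap Ω B))) := heB.symm ▸ ‹Etale ρ›
      exact (MorphismProperty.cancel_left_of_respectsIso @Etale _ _).1 this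
    · have : IsFinite (P.isoSpec.hom ≫ Spec.map (CommRingCat.ofHom (algebraMap Ω B))) := heB.symm ▸ ‹IsFinite ρ›
      exact (MorphismProperty.cancel_left_of_respectsIso @IsFinite _ _).1 this
  haveI : Module.Finite Ω B := RingHom.finite_algebraMap.1 ((IsFinite.SpecMap_iff _).1 heB'.2)
  haveI : Algebra.Etale Ω B := RingHom.etale_algebraMap.1
    ((HasRingHomProperty.Spec_iff (P := @Etale)).1 heB'.1)
  have hB : Module.finrank Ω B = d := by
    rw [← finrank_spec ρ pt B P.isoSpec heB, Scheme.Hom.finrank_pullback_snd, hrank]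
  obtain ⟨I, _, Ai, _, _, e, hA⟩ := (Algebra.Etale.iff_exists_algEquiv_prod Ω B).1 inferInstance
  haveI : Fintype I := Fintype.ofFinite I
  haveI : ∀ i, Module.Finite Ω (Ai i) := fun i => (hA i).1
  have hbij : ∀ i, Function.Bijective (algebraMap Ω (Ai i)) := fun i =>
    IsAlgClosed.algebraMap_bijective_of_isIntegral
  have hI : Fintype.card I = d := by
    rw [← hB, e.toLinearEquiv.finrank_eq, Module.finrank_pi_fintype,
      Finset.sum_congr rfl (fun i _ => show Module.finrank Ω (Ai i) = 1 from
        ((AlgEquiv.ofBijective (Algebra.ofId Ω (Ai i)) (hbij i)).toLinearEquiv.finrank_eq).symm.trans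
          (Module.finrank_self Ω))]
    simp
  let eI : Fin d ≃ I := ((Fintype.equivFinOfCardEq hI)).symm
  let χ : I → (B →ₐ[Ω] Ω) := fun i =>
    ((AlgEquiv.ofBijective (Algebra.ofId Ω (Ai i)) (hbij i)).symm.toAlgHom.comp (Pi.evalAlgHom Ω Ai i)).comp
      e.toAlgHom
  have hχ : Function.Injective χ := fun i j hij => by
    classical
    by_contra hne
    have := DFunLike.congr_fun hij (e.symm (Pi.single i 1))
    simp [χ, Pi.single_eq_of_ne (Ne.symm hne)] at this
  let sec : (B →ₐ[Ω] Ω) → (Spec (CommRingCat.of Ω) ⟶ P) := fun φ =>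
    Spec.map (CommRingCat.ofHom φ.toRingHom) ≫ P.isoSpec.inv
  have hsec : ∀ φ, sec φ ≫ ρ = 𝟙 _ := fun φ => by
    rw [← heB, Category.assoc, Iso.inv_hom_id_assoc, ← Spec.map_comp, ← Spec.map_id]
    exact congrArg Spec.map (CommRingCat.hom_ext φ.comp_algebraMap)
  have hsec' : ∀ φ, (sec φ ≫ pullback.fst π x') ≫ π = x' := fun φ => by
    rw [Category.assoc, pullback.condition, ← Category.assoc]
    exact (congrArg (· ≫ x') (hsec φ)).trans (Category.id_comp x')
  let g : P ⟶ T := pullback.fst π x' ≫ f.fiberι s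
  have hg : g ≫ f = ρ ≫ x := by
    rw [Category.assoc, show f.fiberι s ≫ f = π ≫ S.fromSpecResidueField s from pullback.condition,
      ← Category.assoc, pullback.condition, Category.assoc, hx']
  refine ⟨fun i => sec (χ (eI i)) ≫ g, fun i j hij => ?_, fun i => ?_, fun q₀ => ?_⟩
  · have h1 : sec (χ (eI i)) = sec (χ (eI j)) := by
      refine pullback.hom_ext ?_ ((hsec _).trans (hsec _).symm)
      refine pullback.hom_ext ?_ ?_
      · simpa [g, Scheme.Hom.fiberι] using hij
      · exact (hsec' _).trans (hsec' _).symm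
    have h2 := Spec.map_injective ((cancel_mono P.isoSpec.inv).1 h1)
    exact eI.injective (hχ (AlgHom.ext fun b => ConcreteCategory.congr_hom h2 b))
  · rw [Category.assoc, hg, ← Category.assoc, hsec, Category.id_comp]
  · let toF : pullback f x ⟶ f.fiber s := pullback.lift (pullback.fst f x) (pullback.snd f x ≫ x') (by
      rw [pullback.condition, Category.assoc, hx'])
    let φ : pullback f x ⟶ P := pullback.lift toF (pullback.snd f x) (pullback.lift_snd _ _ _)
    let β : P ⟶ pullback f x := pullback.lift g ρ hg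
    have hφβ : φ ≫ β = 𝟙 _ := by
      refine pullback.hom_ext ?_ ?_
      · simp only [φ, β, g, toF, Category.assoc, pullback.lift_fst, pullback.lift_fst_assoc, Category.id_comp]
        exact pullback.lift_fst _ _ _
      · simp only [φ, β, ρ, Category.assoc, pullback.lift_snd, Category.id_comp]
    let w := φ q₀
    let q : PrimeSpectrum B := P.isoSpec.hom w
    obtain ⟨⟨i, r⟩, hr⟩ := (PrimeSpectrum.sigmaToPi_bijective Ai).2
      (PrimeSpectrum.comap (e.symm : (Π i, Ai i) →+* B) q)
    refine ⟨eI.symm i, ?_⟩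
    have hq : Spec.map (CommRingCat.ofHom (χ i).toRingHom) pt = P.isoSpec.hom w := by
      refine PrimeSpectrum.ext (Ideal.ext fun b => ?_)
      show χ i b ∈ (IsLocalRing.maximalIdeal Ω) ↔ b ∈ q.asIdeal
      rw [IsLocalRing.mem_maximalIdeal, mem_nonunits_iff, isUnit_iff_ne_zero, not_not]
      have h3 := SetLike.ext_iff.1 (congrArg PrimeSpectrum.asIdeal hr) (e b)
      haveI : Subsingleton (PrimeSpectrum (Ai i)) := inferInstance
      simp only [PrimeSpectrum.sigmaToPi, PrimeSpectrum.comap_asIdeal, Ideal.mem_comap, Pi.evalRingHom_apply,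
        AlgEquiv.symm_apply_apply, RingHom.coe_coe] at h3
      rw [← h3, show r.asIdeal = ⊥ from (r.asIdeal.eq_bot_or_top).resolve_right r.isPrime.ne_top, Ideal.mem_bot]
      exact map_eq_zero_iff (AlgEquiv.ofBijective (Algebra.ofId Ω (Ai i)) (hbij i)).symm (AlgEquiv.injective _)
    refine ⟨sec (χ i) ≫ β, ?_, ?_, ?_⟩
    · rw [Category.assoc, pullback.lift_fst]
      show sec (χ i) ≫ g = sec (χ (eI (eI.symm i))) ≫ g
      rw [Equiv.apply_symm_apply]
    · rw [Category.assoc, pullback.lift_snd, hsec]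
    · show β (P.isoSpec.inv (Spec.map (CommRingCat.ofHom (χ i).toRingHom) pt)) = q₀
      rw [hq, ← Scheme.Hom.comp_apply P.isoSpec.hom, Iso.hom_inv_id]
      show β (φ q₀) = q₀
      rw [← Scheme.Hom.comp_apply, hφβ]
      rfl

omit hd in
theorem exists_power : ∀ n : ℕ, ∃ (E : Scheme.{u}) (e : E ⟶ S) (p : Fin n → (E ⟶ T)), Etale e ∧ QuasiCompact e ∧
    (∀ i, p i ≫ f = e) ∧ ∀ (Y : Scheme.{u}) (y : Y ⟶ S) (t : Fin n → (Y ⟶ T)), (∀ i, t i ≫ f = y) →
      ∃ h : Y ⟶ E, h ≫ e = y ∧ ∀ i, h ≫ p i = t i
  | 0 => ⟨S, 𝟙 S, Fin.elim0, inferInstance, inferInstance, fun i => i.elim0,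
      fun Y y t _ => ⟨y, Category.comp_id y, fun i => i.elim0⟩⟩
  | n + 1 => by
    obtain ⟨E, e, p, he, hq, hp, hu⟩ := exists_power n
    refine ⟨pullback e f, pullback.fst e f ≫ e, Fin.cons (pullback.snd e f) (fun i => pullback.fst e f ≫ p i),
      inferInstance, inferInstance, ?_, fun Y y t ht => ?_⟩
    · refine Fin.cases ?_ (fun i => ?_)
      · simp [pullback.condition]
      · simp [hp]
    · obtain ⟨h, h1, h2⟩ := hu Y y (fun i => t i.succ) (fun i => ht _)
      refine ⟨pullback.lift h (t 0) (h1.trans (ht 0).symm), by simp [h1], ?_⟩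
      refine Fin.cases ?_ (fun i => ?_)
      · simp
      · simp [h2]

theorem isFinite_of_geom [UniversallyClosed f] : IsFinite f := by
  obtain ⟨E, e, p, he, hqe, hp, hu⟩ := exists_power f d
  let π : pullback f e ⟶ E := pullback.snd f e
  let σ : Fin d → (E ⟶ pullback f e) := fun i => pullback.lift (p i) (𝟙 E) (by rw [hp, Category.id_comp])
  have hσ : ∀ i, σ i ≫ π = 𝟙 E := fun i => pullback.lift_snd _ _ _
  haveI : Etale π := inferInstanceAs (Etale (pullback.snd f e))
  haveI hσo : ∀ i, IsOpenImmersion (σ i) := fun i =>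
    FFDescLib.isOpenImmersion_of_section π (σ i) (hσ i)
  let W : (pullback f e).Opens := ⨆ i, (σ i).opensRange
  have hc : IsClosed (π '' ((W : Set ↥(pullback f e))ᶜ)) := π.isClosedMap _ W.isOpen.isClosed_compl
  let V : E.Opens := ⟨(π '' ((W : Set ↥(pullback f e))ᶜ))ᶜ, hc.isOpen_compl⟩
  have hcov : ∀ w, π w ∈ V → ∃ i, σ i (π w) = w := fun w hw => by
    have hw' : w ∈ W := by_contra fun h => hw ⟨w, h, rfl⟩
    obtain ⟨i, c, rfl⟩ := TopologicalSpace.Opens.mem_iSup.1 hw'
    exact ⟨i, congrArg (σ i) (congrArg (fun m => m c) (hσ i))⟩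
  -- geometric points of the fibres over V
  have hlift : ∀ (v : E), v ∈ V → Function.Injective (fun i => σ i v) := fun v hv => by
    let Ω := AlgebraicClosure (E.residueField v)
    let x : Spec (CommRingCat.of Ω) ⟶ E :=
      Spec.map (CommRingCat.ofHom (algebraMap (E.residueField v) Ω)) ≫ E.fromSpecResidueField v
    obtain ⟨t, htinj, htf, -⟩ := exists_geom f hd (x ≫ e)
    have hidx : ∀ j, ∃ i, x ≫ p i = t j := fun j => by
      let t' : Spec (CommRingCat.of Ω) ⟶ pullback f e := pullback.lift (t j) x (htf j)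
      have ht' : t' ≫ π = x := pullback.lift_snd _ _ _
      obtain ⟨i, hi⟩ := hcov (t' (IsLocalRing.closedPoint Ω)) (by
        rw [← Scheme.Hom.comp_apply, ht']
        rw [residue_pt]; exact hv)
      have hr : Set.range t' ⊆ Set.range (σ i) := by
        rintro _ ⟨c, rfl⟩
        exact ⟨_, by rw [Subsingleton.elim (α := PrimeSpectrum Ω) c (IsLocalRing.closedPoint Ω)]; exact hi⟩
      let l := IsOpenImmersion.lift (σ i) t' hr
      have hl : l ≫ σ i = t' := IsOpenImmersion.lift_fac _ _ _
      have hlx : l = x := by rw [← ht', ← hl, Category.assoc, hσ, Category.comp_id]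
      refine ⟨i, ?_⟩
      rw [show t j = t' ≫ pullback.fst f e from (pullback.lift_fst _ _ _).symm, ← hl, hlx, Category.assoc]
      exact congrArg (x ≫ ·) (pullback.lift_fst _ _ _).symm
    choose idx hidx using hidx
    have hidx_inj : Function.Injective (fun j => σ (idx j) v) := fun j j' hjj => by
      refine htinj ?_
      let y : Spec (CommRingCat.of Ω) ⟶ E := x
      have key : ∀ i i', σ i v = σ i' v → x ≫ p i = x ≫ p i' := fun i i' h => by
        have hr : Set.range (x ≫ σ i) ⊆ Set.range (σ i') := by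
          rintro _ ⟨c, rfl⟩
          exact ⟨v, by
            rw [← h, Scheme.Hom.comp_apply]
            congr 1
            rw [show c = IsLocalRing.closedPoint Ω from Subsingleton.elim (α := PrimeSpectrum Ω) _ _, residue_pt]⟩
        let l := IsOpenImmersion.lift (σ i') (x ≫ σ i) hr
        have hl : l ≫ σ i' = x ≫ σ i := IsOpenImmersion.lift_fac _ _ _
        have hlx : l = x := by simpa [hσ] using congrArg (· ≫ π) hl
        have := congrArg (· ≫ pullback.fst f e) (hlx ▸ hl)
        simpa [σ, pullback.lift_fst] using this.symm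
      rw [← hidx j, ← hidx j']
      exact key _ _ hjj
    have hbij : Function.Bijective idx :=
      ⟨fun j j' h => hidx_inj (by simp only [h]), Finite.injective_iff_surjective.1
        (fun j j' h => hidx_inj (by simp only [h]))⟩
    intro i i' h
    obtain ⟨j, rfl⟩ := hbij.2 i
    obtain ⟨j', rfl⟩ := hbij.2 i'
    exact congrArg idx (hidx_inj h)
  haveI : Surjective (V.ι ≫ e) := ⟨fun s => by
    let Ω := AlgebraicClosure (S.residueField s)
    let x : Spec (CommRingCat.of Ω) ⟶ S :=
      Spec.map (CommRingCat.ofHom (algebraMap (S.residueField s) Ω)) ≫ S.fromSpecResidueField s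
    obtain ⟨t, -, htf, htcov⟩ := exists_geom f hd x
    obtain ⟨h, h1, h2⟩ := hu _ x t htf
    let v := h (IsLocalRing.closedPoint Ω)
    have hev : e v = s := by
      rw [← Scheme.Hom.comp_apply, h1]
      exact residue_pt s Ω
    have hv : v ∈ V := by
      rintro ⟨w, hw, hwv⟩
      apply hw
      obtain ⟨q, hq1, -⟩ := Scheme.Pullback.exists_preimage_pullback (f := π) (g := h) w
        (IsLocalRing.closedPoint Ω) hwv
      let φ : pullback π h ⟶ pullback f x := pullback.lift (pullback.fst π h ≫ pullback.fst f e) (pullback.snd π h) (by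
        rw [Category.assoc, pullback.condition, ← Category.assoc, pullback.condition, Category.assoc, h1])
      let ψ : pullback f x ⟶ pullback f e := pullback.lift (pullback.fst f x) (pullback.snd f x ≫ h) (by
        rw [pullback.condition, Category.assoc, h1])
      have hφψ : φ ≫ ψ = pullback.fst π h := by
        refine pullback.hom_ext ?_ ?_
        · simp only [φ, ψ, Category.assoc, pullback.lift_fst]
        · simp only [φ, ψ, Category.assoc, pullback.lift_snd, pullback.lift_snd_assoc]
          exact pullback.condition.symm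
      obtain ⟨i, l, hl1, hl2, hl3⟩ := htcov (φ q)
      have hlψ : l ≫ ψ = h ≫ σ i := by
        refine pullback.hom_ext ?_ ?_
        · simp only [ψ, σ, Category.assoc, pullback.lift_fst, hl1, h2]
        · simp only [ψ, σ, Category.assoc, pullback.lift_snd, reassoc_of% hl2, Category.comp_id]
      refine TopologicalSpace.Opens.mem_iSup.2 ⟨i, v, ?_⟩
      rw [← hq1, ← hφψ, Scheme.Hom.comp_apply, ← hl3]
      show (h ≫ σ i) (IsLocalRing.closedPoint Ω) = (l ≫ ψ) (IsLocalRing.closedPoint Ω)
      rw [hlψ]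
    exact ⟨⟨v, hv⟩, hev⟩⟩
  -- over V the sections trivialise π
  let Q : (pullback f e).Opens := π ⁻¹ᵁ V
  have hrange : ∀ i, Set.range (V.ι ≫ σ i) ⊆ Set.range Q.ι := fun i => by
    rw [Scheme.Opens.range_ι]
    rintro _ ⟨c, rfl⟩
    show π (σ i (V.ι c)) ∈ V
    rw [← Scheme.Hom.comp_apply, hσ]
    exact c.2
  let τ : ULift.{u} (Fin d) → (V.toScheme ⟶ Q.toScheme) := fun i => IsOpenImmersion.lift Q.ι (V.ι ≫ σ i.down) (hrange _)
  have hτ : ∀ i, τ i ≫ Q.ι = V.ι ≫ σ i.down := fun i => IsOpenImmersion.lift_fac _ _ _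
  have hτπ : ∀ i, τ i ≫ π ∣_ V = 𝟙 _ := fun i => by
    rw [← cancel_mono V.ι, Category.assoc, morphismRestrict_ι, reassoc_of% hτ i, hσ, Category.comp_id, Category.id_comp]
  have hτv : ∀ i c, (τ i c).1 = σ i.down c.1 := fun i c => congrArg (fun m => m c) (hτ i)
  haveI : ∀ i, IsOpenImmersion (τ i) := fun i => by
    haveI : IsOpenImmersion (τ i ≫ Q.ι) := by rw [hτ]; infer_instance
    exact IsOpenImmersion.of_comp (τ i) Q.ι
  have hdisj : Pairwise (Function.onFun Disjoint (fun i => Set.range (τ i))) := fun i i' hne => by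
    refine Set.disjoint_left.2 ?_
    rintro _ ⟨a, rfl⟩ ⟨b, hb⟩
    have h1 : σ i'.down b.1 = σ i.down a.1 := by rw [← hτv, ← hτv, hb]
    have h2 : b.1 = a.1 := by
      have := congrArg π h1
      rwa [← Scheme.Hom.comp_apply, ← Scheme.Hom.comp_apply, hσ, hσ] at this
    rw [h2] at h1
    exact hne (ULift.down_injective (hlift a.1 a.2 h1)).symm
  let q : (∐ fun _ : ULift.{u} (Fin d) => V.toScheme) ⟶ Q.toScheme := Sigma.desc τ
  haveI : IsOpenImmersion q := isOpenImmersion_sigmaDesc _ τ hdisj
  haveI : Surjective q := ⟨fun w => by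
    obtain ⟨i, hi⟩ := hcov w.1 w.2
    refine ⟨Sigma.ι (fun _ : ULift.{u} (Fin d) => V.toScheme) ⟨i⟩ ⟨π w.1, w.2⟩, ?_⟩
    rw [← Scheme.Hom.comp_apply, Sigma.ι_desc]
    exact Subtype.ext ((hτv _ _).trans hi)⟩
  haveI : Epi q.base := (TopCat.epi_iff_surjective _).2 q.surjective
  haveI : IsIso q := IsOpenImmersion.isIso q
  haveI : IsFinite (π ∣_ V) := by
    have e1 : q ≫ π ∣_ V = Sigma.desc (fun _ : ULift.{u} (Fin d) => 𝟙 V.toScheme) :=
      Sigma.hom_ext _ _ fun i => by simp [q, hτπ]
    have h2 : IsFinite (Sigma.desc (fun _ : ULift.{u} (Fin d) => 𝟙 V.toScheme)) :=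
      CycBivLib.isFinite_sigmaDesc _ fun y => ⟨⊤, trivial, Set.toFinite _⟩
    rw [← e1] at h2
    exact (MorphismProperty.cancel_left_of_respectsIso @IsFinite q _).1 h2
  haveI : DescLib.Fpqc (V.ι ≫ e) := MultSubFTLib.fpqc_of_open _ (V.ι ≫ e).isOpenMap
  exact Groth.Agent.HomRep.prop_of_isPullback_fpqc @IsFinite
    ((isPullback_morphismRestrict π V).flip.paste_horiz (IsPullback.of_hasPullback f e)) ‹_›

end


open AlgebraicGeometry CategoryTheory in
/-- Let f : T ⟶ S be an étale, quasi-compact, quasi-separated and universally closed morphism of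
schemes, and suppose that for some natural number d the global functions of every scheme-theoretic
fibre of f form a d-dimensional vector space over the residue field of the corresponding point of S.
Then f is finite. (Separatedness of f is not assumed.) -/
theorem result {T S : Scheme.{u}} (f : T ⟶ S)
    [Etale f] [QuasiCompact f] [QuasiSeparated f] [UniversallyClosed f] (d : ℕ)
    (hd : ∀ s : S, Module.finrank (S.residueField s) Γ(f.fiber s, ⊤) = d) :
    IsFinite f := by
  exact isFinite_of_geom f hd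


end Groth.Agent.S18161
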