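import Groth.Statements.S1487
import Groth.Agent.FSmLib.Geom
import Groth.Agent.AlgSpLib.FormalRows

set_option autoImplicit false
universe u
open FlatMor

namespace Groth.Agent.S1487

open AlgebraicGeometry CategoryTheory Limits in
/-- (1) ⇔ (3): a morphism f : X → Y is formally étale (unique lifting against first order thickenings of
affine schemes, rings in the same universe) if and only if for all affine opens U ⊆ f⁻¹(V) the ring
map O_Y(V) → O_X(U) is formally étale. -/
theorem result {X Y : Scheme.{u}} (f : X ⟶ Y) :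
    MoreMor.IsFormallyEtaleHom f ↔ ∀ (U : X.Opens) (V : Y.Opens) (hU : IsAffineOpen U) (hV : IsAffineOpen V) (hUV : U ≤ f ⁻¹ᵁ V),
      letI := (f.appLE V U hUV).hom.toAlgebra
      Algebra.FormallyEtale Γ(Y, V) Γ(X, U) := by
  constructor
  · intro hf U V hU hV hUV
    exact AlgSpLib.formallyEtale_appLE f hf hV hU hUV
  · intro hf A _ I hI a b w
    have hsm : ∀ (U : X.Opens) (V : Y.Opens) (_ : IsAffineOpen U) (_ : IsAffineOpen V)
        (hUV : U ≤ f ⁻¹ᵁ V), letI := (f.appLE V U hUV).hom.toAlgebra;
        Algebra.FormallySmooth Γ(Y, V) Γ(X, U) := fun U V hU hV hUV ↦ by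
      let _ := (f.appLE V U hUV).hom.toAlgebra
      have := hf U V hU hV hUV
      exact inferInstance
    obtain ⟨c, hc⟩ := FSmLib.exists_lift f hsm hI a b w.symm
    refine ⟨c, hc, fun c' hc' ↦ ?_⟩
    obtain ⟨n, g, U, V, hg, hUV⟩ := FSmLib.exists_cover f hI a b w.symm
    let D : Fin n → (Spec (CommRingCat.of A)).Opens := fun k ↦ PrimeSpectrum.basicOpen (g k)
    refine (Scheme.openCoverOfIsOpenCover (Spec (CommRingCat.of A))
      (fun k ↦ PrimeSpectrum.basicOpen (g k))
      (PrimeSpectrum.iSup_basicOpen_eq_top_iff.mpr hg)).hom_ext _ _ fun k ↦ ?_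
    change (D k).ι ≫ c' =
      (D k).ι ≫ c
    obtain ⟨hUk, hVk, e, hbV, haU⟩ := hUV k
    let B := Localization.Away (g k)
    let J : Ideal B := I.map (algebraMap A B)
    let ε : Spec (CommRingCat.of B) ⟶ Spec (CommRingCat.of A) :=
      Spec.map (CommRingCat.ofHom (algebraMap A B))
    haveI : IsOpenImmersion ε := IsOpenImmersion.of_isLocalization (g k)
    have hran : Set.range ε = (PrimeSpectrum.basicOpen (g k) : Set (PrimeSpectrum A)) :=
      PrimeSpectrum.localization_away_comap_range B (g k)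
    have hJ : J ^ 2 = ⊥ := by rw [← Ideal.map_pow, hI, Ideal.map_bot]
    let εI : Spec (CommRingCat.of (B ⧸ J)) ⟶ Spec (CommRingCat.of (A ⧸ I)) :=
      Spec.map (CommRingCat.ofHom (Ideal.quotientMap J (algebraMap A B) Ideal.le_comap_map))
    have hεI : εI ≫ FSmLib.jI I = FSmLib.jI J ≫ ε := by
      simp only [εI, ε, ← Spec.map_comp, ← CommRingCat.ofHom_comp]
      rfl
    have hrange : ∀ d : Spec (CommRingCat.of A) ⟶ X, FSmLib.jI I ≫ d = a →
        Set.range (ε ≫ d) ⊆ Set.range hUk.fromSpec := by
      rintro d hd _ ⟨p, rfl⟩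
      obtain ⟨q, rfl⟩ := FSmLib.surjective_jI hJ p
      have h2 : (ε ≫ d) (FSmLib.jI J q) = a (εI q) := by
        rw [← Scheme.Hom.comp_apply, ← Category.assoc, ← hεI, Category.assoc, hd, Scheme.Hom.comp_apply]
      rw [hUk.range_fromSpec, h2]
      refine haU _ ?_
      rw [← Scheme.Hom.comp_apply, hεI, Scheme.Hom.comp_apply]
      show ε (FSmLib.jI J q) ∈ (PrimeSpectrum.basicOpen (g k) : Set (PrimeSpectrum A))
      rw [← hran]
      exact ⟨_, rfl⟩
    have hbran : Set.range (ε ≫ b) ⊆ Set.range hVk.fromSpec := by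
      rintro _ ⟨p, rfl⟩
      rw [hVk.range_fromSpec, Scheme.Hom.comp_apply]
      refine hbV _ ?_
      show ε p ∈ (PrimeSpectrum.basicOpen (g k) : Set (PrimeSpectrum A))
      rw [← hran]
      exact ⟨_, rfl⟩
    have key : ε ≫ c' = ε ≫ c := by
      let l' := IsOpenImmersion.lift hUk.fromSpec _ (hrange c' hc'.1)
      let l := IsOpenImmersion.lift hUk.fromSpec _ (hrange c hc.1)
      let v := IsOpenImmersion.lift hVk.fromSpec _ hbran
      have hl' : l' ≫ hUk.fromSpec = ε ≫ c' := IsOpenImmersion.lift_fac _ _ _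
      have hl : l ≫ hUk.fromSpec = ε ≫ c := IsOpenImmersion.lift_fac _ _ _
      have hv : v ≫ hVk.fromSpec = ε ≫ b := IsOpenImmersion.lift_fac _ _ _
      let _ := (f.appLE (V k) (U k) e).hom.toAlgebra
      let _ : Algebra Γ(Y, V k) B := (Spec.preimage v).hom.toAlgebra
      have hcomm : ∀ (d : Spec (CommRingCat.of A) ⟶ X) (m : Spec (CommRingCat.of B) ⟶ Spec Γ(X, U k)),
          m ≫ hUk.fromSpec = ε ≫ d → d ≫ f = b →
          f.appLE (V k) (U k) e ≫ Spec.preimage m = Spec.preimage v := by
        intro d m hm hd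
        apply Spec.map_injective
        rw [← cancel_mono hVk.fromSpec, Spec.map_comp, Category.assoc,
          hVk.SpecMap_appLE_fromSpec f hUk e, ← Category.assoc, Spec.map_preimage, hm,
          Category.assoc, hd, Spec.map_preimage, hv]
      let φ' : Γ(X, U k) →ₐ[Γ(Y, V k)] B :=
        { (Spec.preimage l').hom with
          commutes' := fun r ↦ congrArg (fun t ↦ t.hom r) (hcomm c' l' hl' hc'.2) }
      let φ : Γ(X, U k) →ₐ[Γ(Y, V k)] B :=
        { (Spec.preimage l).hom with
          commutes' := fun r ↦ congrArg (fun t ↦ t.hom r) (hcomm c l hl hc.2) }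
      have := hf (U k) (V k) hUk hVk e
      have heq : φ' = φ := by
        refine Algebra.FormallyUnramified.comp_injective J hJ (AlgHom.ext fun x ↦ ?_)
        have : Spec.preimage l' ≫ CommRingCat.ofHom (Ideal.Quotient.mk J) =
            Spec.preimage l ≫ CommRingCat.ofHom (Ideal.Quotient.mk J) := Spec.map_injective (by
          rw [← cancel_mono hUk.fromSpec, Spec.map_comp, Spec.map_comp, Category.assoc,
            Category.assoc, Spec.map_preimage, Spec.map_preimage, hl, hl', ← Category.assoc,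
            ← Category.assoc, ← hεI, Category.assoc, Category.assoc, hc'.1, hc.1])
        exact congrArg (fun t ↦ t.hom x) this
      rw [← hl', ← hl, ← Spec.map_preimage l', ← Spec.map_preimage l]
      congr 2
      exact CommRingCat.hom_ext (congrArg AlgHom.toRingHom heq)
    rw [← IsOpenImmersion.lift_fac ε
      (D k).ι (by
        rw [Scheme.Opens.range_ι, hran]; rfl), Category.assoc, Category.assoc, key]

end Groth.Agent.S1487
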