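import Groth.Statements.S6840
import Groth.Agent.ModSiteLib.HomColim
-- import your own Groth.Agent.* helpers here

set_option autoImplicit false
universe u
open CategoryTheory CategoryTheory.Limits TopologicalSpace
open ModSite

namespace Groth.Agent.S6840

set_option backward.isDefEq.respectTransparency false

open Opposite Groth.Agent.GlobalSectionsColimLib

theorem qc_of_detecting {C : Type u} [SmallCategory C] {J : GrothendieckTopology C} {K : Sheaf J (Type u)}
    {κ : Type u} [Finite κ] (W : κ → C) (q : ∀ i, K.obj.obj (op (W i)))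
    (hq : CohCx.JointlySurjective fun i => secMap (q i)) (hW : ∀ i, CohCx.IsQcObject (aY J (W i))) :
    CohCx.IsQcObject K := by
  classical
  intro I L f hf
  haveI := Fintype.ofFinite κ
  have step : ∀ i, ∃ t : Finset I, ∀ (V : C) (s : (aY J (W i)).obj.obj (op V)),
      ∃ R ∈ J V, ∀ (Z : C) (g : Z ⟶ V), R g → ∃ l ∈ t, ∃ z : (L l).obj.obj (op Z),
        (f l).hom.app (op Z) z = K.obj.map g.op ((secMap (q i)).hom.app (op V) s) := by
    intro i
    let P : Type u := Σ V : C, {s : (aY J (W i)).obj.obj (op V) //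
      ∃ l, ∃ z : (L l).obj.obj (op V), (f l).hom.app (op V) z = (secMap (q i)).hom.app (op V) s}
    have hsurj : CohCx.JointlySurjective fun p : P => secMap p.2.1 := by
      intro V s
      obtain ⟨R, hR, hR'⟩ := hf V ((secMap (q i)).hom.app (op V) s)
      refine ⟨R, hR, fun Z g hg => ?_⟩
      obtain ⟨l, z, hz⟩ := hR' Z g hg
      exact ⟨⟨Z, _, l, z, hz.trans (NatTrans.naturality_apply (secMap (q i)).hom g.op s).symm⟩, _, secMap_id _⟩
    obtain ⟨t, ht⟩ := hW i P _ _ hsurj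
    refine ⟨t.image fun p => p.2.2.choose, fun V s => ?_⟩
    obtain ⟨R, hR, hR'⟩ := ht V s
    refine ⟨R, hR, fun Z g hg => ?_⟩
    obtain ⟨p, w, hw⟩ := hR' Z g hg
    obtain ⟨z, hz⟩ := p.1.2.2.choose_spec
    refine ⟨_, Finset.mem_image_of_mem _ p.2,
      (secMap z).hom.app (op Z) w, ?_⟩
    rw [← NatTrans.naturality_apply, ← hw]
    have e : secMap z ≫ f _ = secMap p.1.2.1 ≫ secMap (q i) := by
      rw [secMap_comp, secMap_comp, hz]
    exact ConcreteCategory.congr_hom (NatTrans.congr_app (congrArg (fun t => t.hom) e) (op Z)) w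
  choose t ht using step
  refine ⟨Finset.univ.biUnion t, fun V s => ?_⟩
  obtain ⟨R, hR, hR'⟩ := hq V s
  choose i w hw using hR'
  choose T hT hT' using fun Z g (hg : R g) => ht (i Z g hg) Z (w Z g hg)
  refine ⟨Sieve.bind R.1 T, J.bind_covering hR hT, ?_⟩
  rintro Z _ ⟨Y, g, r, hr, hg, rfl⟩
  obtain ⟨l, hl, z, hz⟩ := hT' Y r hr Z g hg
  refine ⟨⟨l, Finset.mem_biUnion.2 ⟨_, Finset.mem_univ _, hl⟩⟩, z, hz.trans ?_⟩
  rw [hw Y r hr, ← Functor.map_comp_apply]
  rfl

theorem qc_of_isCompact {X : TopCat.{u}} (W : Opens X) (hW : IsCompact (W : Set X)) :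
    CohCx.IsQcObject (aY (Opens.grothendieckTopology X) W) := by
  classical
  intro I L f hf
  let J := Opens.grothendieckTopology X
  let one : (aY J W).obj.obj (op W) := (toSheafify J (yoneda.obj W)).app (op W) (𝟙 W)
  obtain ⟨R, hR, hR'⟩ := hf W one
  choose V g hg hx using fun x : W => (hR x.1 x.2)
  obtain ⟨t, ht⟩ := hW.elim_finite_subcover (fun x : W => ((V x : Opens X) : Set X)) (fun x => (V x).2)
    (fun x hx' => Set.mem_iUnion.2 ⟨⟨x, hx'⟩, hx ⟨x, hx'⟩⟩)
  choose l z hz using fun x : W => hR' (V x) (g x) (hg x)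
  refine ⟨t.image l, fun U s => ?_⟩
  let R₀ := Presheaf.imageSieve (toSheafify J (yoneda.obj W)) s
  refine ⟨Sieve.bind R₀.arrows (fun Y r (hr : R₀ r) =>
      (Sieve.ofArrows (fun k : t => V k.1) (fun k => g k.1)).pullback (show Y ⟶ W from hr.choose)),
    J.bind_covering (Presheaf.imageSieve_mem J (toSheafify J (yoneda.obj W)) s)
      (fun Y r hr => J.pullback_stable _ ?_), ?_⟩
  · intro y hy
    obtain ⟨k, hk, hyk⟩ := Set.mem_iUnion₂.1 (ht hy)
    exact ⟨V k, g k, Sieve.ofArrows_mk _ (fun k : t => g k.1) ⟨k, hk⟩, hyk⟩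
  rintro Z _ ⟨Y₁, a, r, hr, ⟨_, b, _, ⟨k⟩, -⟩, rfl⟩
  refine ⟨⟨l k.1, Finset.mem_image_of_mem l k.2⟩, (L (l k.1)).obj.map b.op (z k.1), ?_⟩
  rw [NatTrans.naturality_apply, hz, op_comp, Functor.map_comp_apply, ← hr.choose_spec]
  change (aY J W).obj.map b.op ((aY J W).obj.map (g k.1).op ((toSheafify J (yoneda.obj W)).app (op W) (𝟙 W))) =
    (aY J W).obj.map a.op ((toSheafify J (yoneda.obj W)).app (op Y₁) hr.choose)
  rw [← NatTrans.naturality_apply, ← NatTrans.naturality_apply, ← NatTrans.naturality_apply]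
  exact congrArg _ (Subsingleton.elim (α := (Z ⟶ W)) _ _)

/-- Let (X, O) be a ringed space such that every open covering of X is refined by a finite open covering
X = ⋃ U_j whose pairwise intersections U_j ∩ U_{j'} are quasi-compact. Let I be a directed
preordered set (nonempty, with upper bounds), (F_i) a system of O-modules over I, and G an O-module
of finite presentation. Then colim_i Hom(G, F_i) → Hom(G, colim_i F_i) is bijective, i.e. Hom(G, −)
preserves the colimit of the system. -/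
theorem result {X : TopCat.{u}} (O : TopCat.Sheaf CommRingCat.{u} X)
    (hX : ∀ (ι : Type u) (V : ι → Opens X), iSup V = ⊤ →
      ∃ (J : Type u) (_ : Finite J) (U : J → Opens X), iSup U = ⊤ ∧ (∀ j, ∃ i, U j ≤ V i) ∧
        ∀ j j', IsCompact ((U j ⊓ U j' : Opens X) : Set X))
    {I : Type u} [Preorder I] [Nonempty I] [IsDirected I (· ≤ ·)] (D : I ⥤ ModSite.Mod O)
    (G : ModSite.Mod O) [SheafOfModules.IsFinitePresentation (R := ModSite.ringSh O) G] :
    PreservesColimit D (coyoneda.obj (Opposite.op G)) := by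
  refine ModSiteLib.preservesColimit_coyoneda_of_isFinitePresentation
    {K | CohCx.IsQcObject (K ⨯ K)} (fun F hF => ?_) (fun K hK => hK) G D
  let T := Opens.grothendieckTopology X
  obtain ⟨κ, hκ, U, hU, hle, hUc⟩ := hX {V : Opens X // Nonempty (F.obj.obj (op V))} Subtype.val (by
    refine eq_top_iff.2 fun x _ => ?_
    obtain ⟨R, hR, hne⟩ := cover_of_epi_terminal hF (⊤ : Opens X)
    obtain ⟨V, g, hg, hxV⟩ := hR x trivial
    exact Opens.mem_iSup.2 ⟨⟨V, hne g hg⟩, hxV⟩)
  choose i hi using hle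
  let s (j : κ) : F.obj.obj (op (U j)) := F.obj.map (homOfLE (hi j)).op (i j).2.some
  let P : (Opens X)ᵒᵖ ⥤ Type u :=
    { obj := fun V => Σ j : κ, (unop V ⟶ U j)
      map := fun g => TypeCat.ofHom fun z => ⟨z.1, g.unop ≫ z.2⟩ }
  let K := (presheafToSheaf T (Type u)).obj P
  let η {V : Opens X} (j : κ) (h : V ≤ U j) : K.obj.obj (op V) := (toSheafify T P).app (op V) ⟨j, homOfLE h⟩
  have hη : ∀ {V V' : Opens X} (g : V' ⟶ V) (j : κ) (h : V ≤ U j),
      K.obj.map g.op (η j h) = η j ((leOfHom g).trans h) := fun g j h =>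
    (NatTrans.naturality_apply (toSheafify T P) g.op _).symm
  have hloc : ∀ (V : Opens X) (k : K.obj.obj (op V)) (x : X), x ∈ V → ∃ (W : Opens X) (g : W ⟶ V) (j : κ)
      (h : W ≤ U j), x ∈ W ∧ K.obj.map g.op k = η j h := by
    intro V k x hx
    obtain ⟨W, g, ⟨⟨j, a⟩, ha⟩, hxW⟩ := Presheaf.imageSieve_mem T (toSheafify T P) k x hx
    exact ⟨W, g, j, leOfHom a, hxW, ha.symm⟩
  refine ⟨K, ?_, ?_, ⟨((sheafificationAdjunction T (Type u)).homEquiv P F).symm
    { app := fun V => TypeCat.ofHom fun z => F.obj.map z.2.op (s z.1)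
      naturality := fun {V V'} g => ConcreteCategory.hom_ext _ _ fun z =>
        (ConcreteCategory.congr_hom (F.obj.map_comp z.2.op g) (s z.1)) }⟩⟩
  · let W (p : κ × κ) : Opens X := U p.1 ⊓ U p.2
    let q (p : κ × κ) : (K ⨯ K).obj.obj (op (W p)) :=
      (prod.lift (secMap (η p.1 (inf_le_left : W p ≤ U p.1))) (secMap (η p.2 (inf_le_right : W p ≤ U p.2)))).hom.app
        (op (W p)) ((toSheafify T (yoneda.obj (W p))).app (op (W p)) (𝟙 (W p)))
    refine qc_of_detecting W q (fun V v => ?_) (fun p => qc_of_isCompact _ (hUc p.1 p.2))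
    have key : ∀ x ∈ V, ∃ (Z : Opens X) (g : Z ⟶ V), x ∈ Z ∧ ∃ (p : κ × κ) (h : Z ⟶ W p),
        (K ⨯ K).obj.map h.op (q p) = (K ⨯ K).obj.map g.op v := by
      intro x hx
      obtain ⟨A, a, j₁, h₁, hxA, e₁⟩ := hloc V ((prod.fst : K ⨯ K ⟶ K).hom.app (op V) v) x hx
      obtain ⟨B, b, j₂, h₂, hxB, e₂⟩ := hloc A (K.obj.map a.op ((prod.snd : K ⨯ K ⟶ K).hom.app (op V) v)) x hxA
      refine ⟨B, b ≫ a, hxB, ⟨j₁, j₂⟩, homOfLE (le_inf ((leOfHom b).trans h₁) h₂), ?_⟩
      have hext : ∀ u u' : (K ⨯ K).obj.obj (op B),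
          (prod.fst : K ⨯ K ⟶ K).hom.app (op B) u = (prod.fst : K ⨯ K ⟶ K).hom.app (op B) u' →
          (prod.snd : K ⨯ K ⟶ K).hom.app (op B) u = (prod.snd : K ⨯ K ⟶ K).hom.app (op B) u' → u = u' := by
        intro u u' e e'
        have h : secMap u = secMap u' := prod.hom_ext (by rw [secMap_comp, secMap_comp, e])
          (by rw [secMap_comp, secMap_comp, e'])
        rw [← secMap_id u, h, secMap_id]
      have hfst : ∀ p, (prod.fst : K ⨯ K ⟶ K).hom.app (op (W p)) (q p) = η p.1 (inf_le_left : W p ≤ U p.1) :=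
        fun p => (ConcreteCategory.congr_hom (NatTrans.congr_app (congrArg (fun t => t.hom)
          (prod.lift_fst (secMap (η p.1 (inf_le_left : W p ≤ U p.1))) (secMap (η p.2 (inf_le_right : W p ≤ U p.2))))) (op (W p))) _).trans
          (secMap_id _)
      have hsnd : ∀ p, (prod.snd : K ⨯ K ⟶ K).hom.app (op (W p)) (q p) = η p.2 (inf_le_right : W p ≤ U p.2) :=
        fun p => (ConcreteCategory.congr_hom (NatTrans.congr_app (congrArg (fun t => t.hom)
          (prod.lift_snd (secMap (η p.1 (inf_le_left : W p ≤ U p.1))) (secMap (η p.2 (inf_le_right : W p ≤ U p.2))))) (op (W p))) _).trans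
          (secMap_id _)
      apply hext
      · rw [NatTrans.naturality_apply, NatTrans.naturality_apply, hfst, hη, op_comp, Functor.map_comp_apply,
          e₁, hη]
      · rw [NatTrans.naturality_apply, NatTrans.naturality_apply, hsnd, hη, op_comp, Functor.map_comp_apply,
          e₂]
    choose Z g hxZ p h hp using key
    refine ⟨Sieve.ofArrows (fun x : V => Z x.1 x.2) (fun x => g x.1 x.2), fun x hx =>
      ⟨_, _, Sieve.ofArrows_mk _ (fun x : V => g x.1 x.2) ⟨x, hx⟩, hxZ x hx⟩, ?_⟩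
    rintro Y₁ _ ⟨_, a, _, ⟨x⟩, rfl⟩
    refine ⟨p x.1 x.2, (toSheafify T (yoneda.obj (W (p x.1 x.2)))).app (op Y₁) (a ≫ h x.1 x.2), ?_⟩
    rw [secMap_apply, op_comp, Functor.map_comp_apply, hp, op_comp, Functor.map_comp_apply]
  · refine epi_terminal_of_cover fun V => ?_
    let R : Sieve V :=
      { arrows := fun W _ => ∃ j, W ≤ U j
        downward_closed := fun ⟨j, hj⟩ g => ⟨j, (leOfHom g).trans hj⟩ }
    refine ⟨R, fun x hx => ?_, fun W g ⟨j, hj⟩ => ⟨η j hj⟩⟩
    obtain ⟨j, hj⟩ := Opens.mem_iSup.1 (hU.ge (trivial : x ∈ (⊤ : Opens X)))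
    exact ⟨V ⊓ U j, homOfLE inf_le_left, ⟨j, inf_le_right⟩, hx, hj⟩

end Groth.Agent.S6840
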