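import Groth.Statements.S8855
import Groth.Agent.RegImmKindLib.Mor
import Groth.Agent.S5033

set_option autoImplicit false
universe u
open CategoryTheory CategoryTheory.Limits AlgebraicGeometry TopologicalSpace
open SDiv

namespace Groth.Agent.S8855

/-- Let i : Z ⟶ X be an immersion of schemes with Z and X regular (locally Noetherian, all local rings
regular local rings). Then i is a regular immersion. -/
theorem result {Z X : Scheme.{u}} (i : Z ⟶ X) [IsImmersion i]
    [IsLocallyNoetherian X] [IsLocallyNoetherian Z]
    (hX : ∀ x : ↥X, IsRegularLocalRing ↑(X.presheaf.stalk x)) (hZ : ∀ z : ↥Z, IsRegularLocalRing ↑(Z.presheaf.stalk z)) :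
    RegImm.IsRegularImmersion RegImm.Kind.regular i := by
  refine ⟨inferInstance, fun z => (RegImmKindLib.isRegularImmersionAt_iff i .regular z).2 ?_⟩
  haveI := hX (i z)
  haveI := hZ z
  haveI : IsRegularLocalRing (X.presheaf.stalk (i z) ⧸ RingHom.ker (i.stalkMap z).hom) :=
    IsRegularLocalRing.of_ringEquiv (RingHom.quotientKerEquivOfSurjective (i.stalkMap_surjective z)).symm
  obtain ⟨rs, h, e⟩ := (Groth.Agent.S5033.result _ (RingHom.ker (i.stalkMap z).hom)).1 inferInstance
  exact ⟨rs, h, e.symm⟩

end Groth.Agent.S8855
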