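import Groth.Statements.S9045
import Mathlib
import Groth.Agent.ModSiteLib.FreeOn
-- import your own Groth.Agent.* helpers here

set_option autoImplicit false
universe u
open CategoryTheory CategoryTheory.Limits Opposite
open ModSite

namespace Groth.Agent.S9045

namespace aux

variable {C : Type u} [SmallCategory C] {J : GrothendieckTopology C}

/-- maps out of the terminal sheaf are the sections -/
noncomputable def termEquiv (F : Sheaf J (Type u)) : (⊤_ (Sheaf J (Type u)) ⟶ F) ≃ F.obj.sections :=
  haveI : PreservesLimit (Functor.empty.{0} (Sheaf J (Type u))) (sheafToPresheaf J (Type u)) := inferInstance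
  let hT : IsTerminal (⊤_ (Sheaf J (Type u))).obj :=
    IsTerminal.isTerminalObj (sheafToPresheaf J (Type u)) _ terminalIsTerminal
  let pt : ∀ U, (⊤_ (Sheaf J (Type u))).obj.obj U := fun U =>
    (hT.from ((Functor.const Cᵒᵖ).obj PUnit.{u + 1})).app U PUnit.unit
  have hsub : ∀ (U : Cᵒᵖ) (x : (⊤_ (Sheaf J (Type u))).obj.obj U), x = pt U := fun U x =>
    haveI : Unique ((⊤_ (Sheaf J (Type u))).obj.obj U) :=
      (Types.isTerminalEquivUnique _) (IsTerminal.isTerminalObj ((evaluation Cᵒᵖ (Type u)).obj U) _ hT)
    Subsingleton.elim _ _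
  { toFun := fun a => ⟨fun U => a.hom.app U (pt U), fun {U V} i =>
      (congr($(a.hom.naturality i) (pt U))).symm.trans (congrArg (fun z => a.hom.app V z) (hsub V _))⟩
    invFun := fun s => ⟨{ app := fun U => TypeCat.ofHom fun _ => s.1 U
                          naturality := fun U V i => by
                            ext
                            exact (s.2 i).symm }⟩
    left_inv := fun a => by
      apply ObjectProperty.hom_ext
      ext U x
      exact congrArg (fun z => a.hom.app U z) (hsub U x).symm
    right_inv := fun s => rfl }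

theorem termEquiv_comp {F G : Sheaf J (Type u)} (a : ⊤_ (Sheaf J (Type u)) ⟶ F) (φ : F ⟶ G) (U : Cᵒᵖ) :
    (termEquiv G (a ≫ φ)).1 U = φ.hom.app U ((termEquiv F a).1 U) := rfl

variable {D : Type u} [SmallCategory D] {K : GrothendieckTopology D}
  {O_C : Sheaf J CommRingCat.{u}} {O_D : Sheaf K CommRingCat.{u}}

/-- the underlying sheaf of sets -/
noncomputable abbrev sets (M : ModSite.Mod O_C) : Sheaf J (Type u) :=
  (sheafCompose J (forget AddCommGrpCat.{u})).obj (ModSite.toAb M)

/-- the sections of a direct image are the sections -/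
noncomputable def sectionsPush (f : ModSite.RMor O_C O_D) (M : ModSite.Mod O_C) :
    (f.push.obj M).sections ≃ M.sections :=
  haveI : IsIso (terminalComparison (f.fn.sheafPullback (Type u) K J)) := inferInstance
  let A := f.fn.sheafAdjunctionContinuous (Type u) K J
  let j := PreservesTerminal.iso (f.fn.sheafPullback (Type u) K J)
  let e : ((⊤_ (Sheaf K (Type u))) ⟶ sets (f.push.obj M)) ≃ ((⊤_ (Sheaf J (Type u))) ⟶ sets M) :=
    (A.homEquiv (⊤_ _) (sets M)).symm.trans
      { toFun := fun x => j.inv ≫ x
        invFun := fun y => j.hom ≫ y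
        left_inv := fun x => Iso.hom_inv_id_assoc j x
        right_inv := fun y => Iso.inv_hom_id_assoc j y }
  ((termEquiv (J := K) (sets (f.push.obj M))).symm.trans e).trans (termEquiv (sets M))

theorem sectionsPush_map (f : ModSite.RMor O_C O_D) {M N : ModSite.Mod O_C} (p : M ⟶ N)
    (s : (f.push.obj M).sections) :
    sectionsPush f N (SheafOfModules.sectionsMap (f.push.map p) s) =
      SheafOfModules.sectionsMap p (sectionsPush f M s) := by
  obtain ⟨a, rfl⟩ := (termEquiv (J := K) (sets (f.push.obj M))).surjective s
  let φ : sets M ⟶ sets N := (sheafCompose J (forget AddCommGrpCat.{u})).map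
    ((SheafOfModules.toSheaf (ModSite.ringSh O_C)).map p)
  have h1 : SheafOfModules.sectionsMap (f.push.map p) (termEquiv (J := K) (sets (f.push.obj M)) a) =
      termEquiv (J := K) (sets (f.push.obj N)) (a ≫ (f.fn.sheafPushforwardContinuous (Type u) K J).map φ) :=
    Subtype.ext (funext fun U => rfl)
  rw [h1]
  let A := f.fn.sheafAdjunctionContinuous (Type u) K J
  let j := (PreservesTerminal.iso (f.fn.sheafPullback (Type u) K J))
  have h2 : ∀ (N' : ModSite.Mod O_C) (b), sectionsPush f N' (termEquiv (J := K) (sets (f.push.obj N')) b) =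
      termEquiv (sets N') (j.inv ≫ (A.homEquiv (⊤_ _) (sets N')).symm b) := fun N' b => by
    exact congrArg (fun z => termEquiv (sets N') (j.inv ≫ (A.homEquiv _ _).symm z))
      ((termEquiv (J := K) (sets (f.push.obj N'))).symm_apply_apply b)
  refine (h2 N _).trans ?_
  refine Eq.trans ?_ (congrArg (SheafOfModules.sectionsMap p) (h2 M a)).symm
  erw [A.homEquiv_naturality_right_symm, ← Category.assoc]
  exact Subtype.ext (funext fun U => rfl)

/-- the inverse image of the structure sheaf -/
noncomputable def pullUnit (f : ModSite.RMor O_C O_D) :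
    f.pull.obj (SheafOfModules.unit (ModSite.ringSh O_D)) ≅ SheafOfModules.unit (ModSite.ringSh O_C) :=
  ModSiteLib.isoOfHomEquiv
    (fun M => (((f.adj.homEquiv _ M).trans (f.push.obj M).unitHomEquiv).trans (sectionsPush f M)).trans
      M.unitHomEquiv.symm)
    (fun {M N} a p => by
      apply N.unitHomEquiv.injective
      rw [SheafOfModules.unitHomEquiv_comp_apply]
      simp only [Equiv.trans_apply, Equiv.apply_symm_apply]
      rw [f.adj.homEquiv_naturality_right, SheafOfModules.unitHomEquiv_comp_apply, sectionsPush_map])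

end aux

/-- Let f be a morphism of ringed sites from (C, O_C) to (D, O_D) and E a strictly perfect complex of
O_D-modules (bounded, with each term a direct summand of a finite free module). Then f^* E, the
module pullback applied termwise, is a strictly perfect complex of O_C-modules. Stated for morphisms
of ringed sites; the published statement is for morphisms of ringed topoi. -/
theorem result
    {C : Type u} [SmallCategory C] {J : GrothendieckTopology C} {O_C : Sheaf J CommRingCat.{u}}
    {D : Type u} [SmallCategory D] {K : GrothendieckTopology D} {O_D : Sheaf K CommRingCat.{u}}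
    (f : ModSite.RMor O_C O_D) (E : CochainComplex (ModSite.Mod O_D) ℤ)
    (hE : DCoh.IsStrictlyPerfectMod (ModSite.ringSh O_D) E) :
    DCoh.IsStrictlyPerfectMod (ModSite.ringSh O_C) ((f.pull.mapHomologicalComplex (ComplexShape.up ℤ)).obj E) := by
  obtain ⟨⟨a, b, hab⟩, hs⟩ := hE
  haveI : f.pull.IsLeftAdjoint := ⟨_, ⟨f.adj⟩⟩
  haveI : PreservesColimitsOfSize.{u, u} f.pull := f.adj.leftAdjoint_preservesColimits
  let η := aux.pullUnit f
  refine ⟨⟨a, b, fun i hi => f.pull.map_isZero (hab i hi)⟩, fun i => ?_⟩
  obtain ⟨n, s, p, hsp⟩ := hs i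
  let e := SheafOfModules.mapFreeIso f.pull (ULift.{u} (Fin n)) η.symm
  refine ⟨n, f.pull.map s ≫ e.inv, e.hom ≫ f.pull.map p, ?_⟩
  rw [Category.assoc, Iso.inv_hom_id_assoc]
  exact (f.pull.map_comp s p).symm.trans ((congrArg f.pull.map hsp).trans (f.pull.map_id _))


end Groth.Agent.S9045
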