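import Groth.Statements.S14124
import Groth.Agent.AVIndexLib.Square
import Groth.Agent.CubeConsLib.Transpose
-- import your own Groth.Agent.* helpers here

set_option autoImplicit false
universe u
open CategoryTheory CategoryTheory.Limits MonoidalCategory CartesianMonoidalCategory MonObj GrpObj AlgebraicGeometry
open AbVar

namespace Groth.Agent.S14124

/-- Let k be an algebraically closed field, A an abelian variety over k (a proper smooth k-group scheme
with geometrically connected fibres) and L an ample invertible O_A-module. Then the cohomology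
groups H^j(A, L) vanish for all j > 0, and H^0(A, L) is non-zero. -/
theorem result (k : Type u) [Field k] [IsAlgClosed k]
    (A : Over (Spec (CommRingCat.of k))) [GrpObj A] [IsProper A.hom] [Smooth A.hom] [GeometricallyConnected A.hom]
    (L : A.left.Modules) (hLa : CohB1.IsAmple L) :
    (∀ j : ℕ, 0 < j → Subsingleton (Coh.HH A.left L j)) ∧ Nontrivial (Coh.HH A.left L 0) := by
  haveI := CubeConsLib.geometricallyIntegral_of_smooth_group A
  have hL : PicF.IsInvertible L := hLa.1
  have hnd := AVAmpleLib.finite_translationFixing hL hLa
  haveI : IsIntegral A.left := GeometricallyIntegral.isIntegral_of_subsingleton A.hom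
  obtain ⟨g, hg⟩ := AVAmpleLib.exists_dim A
  obtain ⟨i, j, -, hi, -, hvan, -⟩ := AVIndexLib.exists_index hL hg hnd (CubeConsLib.clA_dual hL)
  obtain ⟨n₀, hn₀⟩ := SerreVanLib.exists_vanishing A.hom hL hLa (Coh.structureModule A.left)
    (DevissLib.isCoh_structureModule _)
  obtain rfl : i = 0 := by
    by_contra h0
    refine hi ((AVIndexLib.index_square hL hnd (n := n₀ + 1) (by omega) i).2 ?_)
    exact SerreVanLib.subsingleton_HH_of_iso (HilbPolyLib.unitLeft _).symm i
      (hn₀ _ (by nlinarith) i (Nat.pos_of_ne_zero h0))
  exact ⟨fun j hj => hvan j (by omega), not_subsingleton_iff_nontrivial.1 hi⟩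

end Groth.Agent.S14124
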