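import Groth.Statements.S3747
import Groth.Agent.VBResLib.KFunct
import Groth.Agent.VBResLib.KPull
-- import your own Groth.Agent.* helpers here

set_option autoImplicit false
universe v u
open CategoryTheory CategoryTheory.Limits AlgebraicGeometry
attribute [local instance] HasDerivedCategory.standard
open KRR

namespace Groth.Agent.S3747

/-- Let f : X ⟶ Y be a regular closed imbedding of connected Noetherian schemes, where on Y every
coherent module is a quotient of a finite locally free one. Let (KX, PX, φX), (KY, PY, φY) be models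
of the λ-rings K(X), K(Y); let g : K(Y) ⟶ K(X) be the pull-back f^K ([E] ↦ [f^*E]) and h : K(X) ⟶
K(Y) the push-forward f_K ([F] ↦ alternating sum of the terms of a finite locally free resolution of
f_*F). Then h (x · g y) = h x · y for all x, y. -/
theorem result {X Y : Scheme.{u}} (f : X ⟶ Y) (hf : Mor2.IsRegularClosedImmersion f)
    [IsNoetherian X] [ConnectedSpace ↥X] [IsNoetherian Y] [ConnectedSpace ↥Y] (hYe : KRR.HasEnoughLocFree Y)
    (KX : Type v) [CommRing KX] [LambdaRing.LambdaOps KX] (PX : LambdaRing.PosStructure KX) (φX : SGA6.Kvb X →+ KX) (hKX : KRR.IsModel X KX PX φX)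
    (KY : Type v) [CommRing KY] [LambdaRing.LambdaOps KY] (PY : LambdaRing.PosStructure KY) (φY : SGA6.Kvb Y →+ KY) (hKY : KRR.IsModel Y KY PY φY)
    (g : KY →+ KX) (hg : KRR.IsPull f φY φX g) (h : KX →+ KY) (hh : KRR.IsPushCl f φX φY h)
    (x : KX) (y : KY) : h (x * g y) = h x * y := by
  have := hf.1
  haveI := VBResLib.resP_closedUnderIso hYe
  haveI := VBResLib.resP_containsZero hYe
  suffices key : ∀ F : X.Modules, FlatMod.IsFinLocFree F → ∀ E : Y.Modules, FlatMod.IsFinLocFree E →
      h (φX (KRR.cl X F) * g (φY (KRR.cl Y E))) = h (φX (KRR.cl X F)) * φY (KRR.cl Y E) by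
    obtain ⟨x, rfl⟩ := hKX.bijective.2 x
    obtain ⟨y, rfl⟩ := hKY.bijective.2 y
    have h1 : ∀ F : X.Modules, FlatMod.IsFinLocFree F → ∀ y, h (φX (KRR.cl X F) * g (φY y)) = h (φX (KRR.cl X F)) * φY y := by
      intro F hF y
      have : y ∈ AddSubgroup.closure {y | ∃ E, KRR.vbP Y E ∧ KZero.clSub (KRR.vbP Y) E = y} :=
        (Groth.Agent.KHeartLib.clSub_closure_eq_top (KRR.vbP Y)).symm ▸ AddSubgroup.mem_top y
      induction this using AddSubgroup.closure_induction with
      | mem z hz => obtain ⟨E, hE, rfl⟩ := hz; exact key F hF E hE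
      | zero => simp
      | add a b _ _ ha hb => simp only [map_add, mul_add, ha, hb]
      | neg a _ ha => simp only [map_neg, mul_neg, ha]
    have : x ∈ AddSubgroup.closure {x | ∃ F, KRR.vbP X F ∧ KZero.clSub (KRR.vbP X) F = x} :=
      (Groth.Agent.KHeartLib.clSub_closure_eq_top (KRR.vbP X)).symm ▸ AddSubgroup.mem_top x
    induction this using AddSubgroup.closure_induction with
    | mem z hz => obtain ⟨F, hF, rfl⟩ := hz; exact h1 F hF y
    | zero => simp
    | add a b _ _ ha hb => simp only [map_add, add_mul, ha, hb]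
    | neg a _ ha => simp only [map_neg, neg_mul, ha]
  intro F hF E hE
  let P := CurvLib.tensorLeft' E
  have hP : ∀ S : ShortComplex Y.Modules, S.ShortExact → (S.map P).ShortExact := fun S hS =>
    VBResLib.shortExact_tensor_vb E hE hS
  have hvb : ∀ A, FlatMod.IsFinLocFree A → VBResLib.resP Y (P.obj A) := fun A hA =>
    VBResLib.resP_of_vb hYe (VBResLib.vb_tensor A hE hA)
  have hcoh : ∀ M, Coh.IsCoh M → Coh.IsCoh (P.obj M) := fun M hM => by
    haveI := (VBResLib.isCoh_of_vb hE).1
    haveI := hM.1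
    exact ⟨(Groth.Agent.S2297.result E M).1, (Groth.Agent.S2297.result E M).2 (VBResLib.isCoh_of_vb hE).2 hM.2⟩
  have hres : ∀ M, VBResLib.resP Y M → VBResLib.resP Y (P.obj M) := fun M hM =>
    VBResLib.resP_map P hYe hYe hP hcoh hvb hM
  have hpE : FlatMod.IsFinLocFree ((Scheme.Modules.pullback f).obj E) := KFlatLib.isFinLocFree_pull f hE
  have hFE := VBResLib.vb_tensor ((Scheme.Modules.pullback f).obj E) hF hpE
  have hfF : VBResLib.resP Y ((Scheme.Modules.pushforward f).obj F) :=
    (VBResLib.resP_iff hYe).2 ⟨VBResLib.isCoh_push_of_isClosedImmersion f (VBResLib.isCoh_of_vb hF),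
      VBResLib.exists_pd_push hYe hf hF⟩
  obtain ⟨n, L, π, hL⟩ := hfF.2
  let e : P.obj ((Scheme.Modules.pushforward f).obj F) ≅
      (Scheme.Modules.pushforward f).obj (((DCoh.tensorBi (X := X)).obj F).obj ((Scheme.Modules.pullback f).obj E)) :=
    KFlatLib.tensSwap _ _ ≪≫ @asIso _ _ _ _ (ProjClosedImmLib.projR f F E) (ProjClosedImmLib.isIso_projR f F E)
  have hM' : VBResLib.resP Y ((Scheme.Modules.pushforward f).obj
      (((DCoh.tensorBi (X := X)).obj F).obj ((Scheme.Modules.pullback f).obj E))) :=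
    (VBResLib.resP Y).prop_of_iso e (hres _ hfF)
  obtain ⟨m, M, σ, hM⟩ := hM'.2
  have key : (∑ j ∈ Finset.range (m + 1), (-1 : ℤ) ^ j • KRR.cl Y (M.X j)) =
      ∑ k ∈ Finset.range (n + 1), (-1 : ℤ) ^ k • KRR.cl Y (((DCoh.tensorBi (X := Y)).obj (L.X k)).obj E) := by
    apply VBResLib.toRes_injective hYe
    rw [VBResLib.toRes_euler hYe hM' hM, map_sum, ← Groth.Agent.KHeartLib.clSub_congr (VBResLib.resP Y) e,
      VBResLib.clSub_map_euler P hYe hP hres hfF hL]
    refine Finset.sum_congr rfl fun k _ => ?_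
    rw [map_zsmul, VBResLib.toRes_cl hYe (VBResLib.vb_tensor E (hL.finLocFree k) hE)]
    exact congrArg _ (Groth.Agent.KHeartLib.clSub_congr (VBResLib.resP Y) (KFlatLib.tensSwap _ _))
  rw [hg E hE, hKX.map_mul F _ hF hpE, hh _ hFE m M σ hM, hh F hF n L π hL, Finset.sum_mul]
  have := congrArg φY key
  simp only [map_sum, map_zsmul] at this
  rw [this]
  refine Finset.sum_congr rfl fun k _ => ?_
  rw [← hKY.map_mul _ _ (hL.finLocFree k) hE, smul_mul_assoc]

end Groth.Agent.S3747
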