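import Groth.Statements.S3748
import Groth.Agent.VBResLib.KFunct
-- import your own Groth.Agent.* helpers here

set_option autoImplicit false
universe v u
open CategoryTheory CategoryTheory.Limits AlgebraicGeometry
attribute [local instance] HasDerivedCategory.standard
open KRR

namespace Groth.Agent.S3748

/-- Let f : X ⟶ Y and g : Y ⟶ Z be regular closed imbeddings of connected Noetherian schemes, where on Y
and on Z every coherent module is a quotient of a finite locally free one. With models of K(X),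
K(Y), K(Z) and push-forwards a = f_K, b = g_K, c = (f ≫ g)_K (each defined through finite locally
free resolutions of direct images of bundles), one has c = b ∘ a. -/
theorem result {X Y Z : Scheme.{u}} (f : X ⟶ Y) (g : Y ⟶ Z)
    (hf : Mor2.IsRegularClosedImmersion f) (hg : Mor2.IsRegularClosedImmersion g)
    [IsNoetherian X] [ConnectedSpace ↥X] [IsNoetherian Y] [ConnectedSpace ↥Y] (hYe : KRR.HasEnoughLocFree Y) [IsNoetherian Z] [ConnectedSpace ↥Z] (hZe : KRR.HasEnoughLocFree Z)
    (KX : Type v) [CommRing KX] [LambdaRing.LambdaOps KX] (PX : LambdaRing.PosStructure KX) (φX : SGA6.Kvb X →+ KX) (hKX : KRR.IsModel X KX PX φX)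
    (KY : Type v) [CommRing KY] [LambdaRing.LambdaOps KY] (PY : LambdaRing.PosStructure KY) (φY : SGA6.Kvb Y →+ KY) (hKY : KRR.IsModel Y KY PY φY)
    (KZ : Type v) [CommRing KZ] [LambdaRing.LambdaOps KZ] (PZ : LambdaRing.PosStructure KZ) (φZ : SGA6.Kvb Z →+ KZ) (hKZ : KRR.IsModel Z KZ PZ φZ)
    (a : KX →+ KY) (ha : KRR.IsPushCl f φX φY a) (b : KY →+ KZ) (hb : KRR.IsPushCl g φY φZ b)
    (c : KX →+ KZ) (hc : KRR.IsPushCl (f ≫ g) φX φZ c) : c = b.comp a := by
  have := hf.1
  have := hg.1
  haveI := VBResLib.resP_closedUnderIso hZe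
  haveI := VBResLib.resP_containsZero hZe
  haveI : PreservesFiniteColimits (Scheme.Modules.pushforward g) :=
    PreservesColimitsOfSize.preservesFiniteColimits.{0, 0} _
  let P := Scheme.Modules.pushforward g
  have hP : ∀ S : ShortComplex Y.Modules, S.ShortExact → (S.map P).ShortExact := fun S hS => hS.map_of_exact P
  have hvb : ∀ E, FlatMod.IsFinLocFree E → VBResLib.resP Z (P.obj E) := fun E hE =>
    (VBResLib.resP_iff hZe).2 ⟨VBResLib.isCoh_push_of_isClosedImmersion g (VBResLib.isCoh_of_vb hE),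
      VBResLib.exists_pd_push hZe hg hE⟩
  have hres : ∀ M, VBResLib.resP Y M → VBResLib.resP Z (P.obj M) := fun M hM =>
    VBResLib.resP_map P hYe hZe hP (fun M hM => VBResLib.isCoh_push_of_isClosedImmersion g hM) hvb hM
  suffices key : c.comp φX = (b.comp a).comp φX by
    ext x
    obtain ⟨x, rfl⟩ := hKX.bijective.2 x
    exact DFunLike.congr_fun key x
  refine AddMonoidHom.eq_of_eqOn_dense (Groth.Agent.KHeartLib.clSub_closure_eq_top (KRR.vbP X)) ?_
  rintro _ ⟨F, hF, rfl⟩
  have hfF : VBResLib.resP Y ((Scheme.Modules.pushforward f).obj F) :=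
    (VBResLib.resP_iff hYe).2 ⟨VBResLib.isCoh_push_of_isClosedImmersion f (VBResLib.isCoh_of_vb hF),
      VBResLib.exists_pd_push hYe hf hF⟩
  obtain ⟨n, L, π, hL⟩ := hfF.2
  let e := (Scheme.Modules.pushforwardComp f g).app F
  have hgfF : VBResLib.resP Z ((Scheme.Modules.pushforward (f ≫ g)).obj F) :=
    (VBResLib.resP Z).prop_of_iso e (hres _ hfF)
  obtain ⟨m, M, σ, hM⟩ := hgfF.2
  have hterm : ∀ k, ∃ (N : ℕ) (R : ChainComplex Z.Modules ℕ) (ρ : R ⟶ (ChainComplex.single₀ Z.Modules).obj (P.obj (L.X k))),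
      KRR.IsLFRes (P.obj (L.X k)) N R ρ := fun k => (hvb _ (hL.finLocFree k)).2
  choose N R ρ hR using hterm
  have key : (∑ j ∈ Finset.range (m + 1), (-1 : ℤ) ^ j • KRR.cl Z (M.X j)) =
      ∑ k ∈ Finset.range (n + 1), (-1 : ℤ) ^ k •
        ∑ j ∈ Finset.range (N k + 1), (-1 : ℤ) ^ j • KRR.cl Z ((R k).X j) := by
    apply VBResLib.toRes_injective hZe
    rw [VBResLib.toRes_euler hZe hgfF hM, map_sum,
      ← Groth.Agent.KHeartLib.clSub_congr (VBResLib.resP Z) e, show (Scheme.Modules.pushforward f ⋙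
        Scheme.Modules.pushforward g).obj F = P.obj ((Scheme.Modules.pushforward f).obj F) from rfl,
      VBResLib.clSub_map_euler P hYe hP hres hfF hL]
    refine Finset.sum_congr rfl fun k _ => ?_
    rw [map_zsmul, VBResLib.toRes_euler hZe (hvb _ (hL.finLocFree k)) (hR k)]
  simp only [AddMonoidHom.coe_comp, Function.comp_apply]
  refine (hc F hF m M σ hM).trans (Eq.trans ?_ (congrArg b (ha F hF n L π hL)).symm)
  have := congrArg φZ key
  simp only [map_sum, map_zsmul] at this ⊢
  rw [this]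
  refine Finset.sum_congr rfl fun k _ => congrArg _ ?_
  rw [hb (L.X k) (hL.finLocFree k) (N k) (R k) (ρ k) (hR k)]

end Groth.Agent.S3748
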