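import Groth.Statements.S3200
import Groth.Agent.K0ResLib.Dim
-- import your own Groth.Agent.* helpers here

set_option autoImplicit false
universe v u
open CategoryTheory CategoryTheory.Limits
open SGA6
open Groth.Agent K0ResLib

namespace Groth.Agent.S3200

/-- Let C be an abelian category and P₀ ≤ P₁ two isomorphism-closed classes of objects, both stable
under extensions, such that: (i) for every short exact sequence 0 → A' → A → A'' → 0 with A, A'' in
P₀ (resp. P₁), A' is in P₀ (resp. P₁); (ii) for u : A ⟶ B an epimorphism and v : D ⟶ B with A, B, D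
in P₁ there are L in P₀, an epimorphism u' : L ⟶ D and v' : L ⟶ A with u' ≫ v = v' ≫ u; (iii) for
every A in P₁ there is d such that for every resolution L of A by objects of P₀ (a chain complex of
objects of P₀, exact in positive degrees, with H₀(L) ≅ A) the object of cycles Z_{d+1}(L) =
ker(L_{d+1} → L_d) is in P₀. Then the homomorphism K₀(P₀) ⟶ K₀(P₁) induced by the inclusion is
bijective. (Two deviations from the published statement. Stability of P₀ and P₁ under extensions is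
assumed here in addition to (i)–(iii); without it the conclusion can fail. In (iii) the published
statement asks that Z_d(L) be in P₀; asking it of Z_{d+1}(L) is equivalent given (i), and avoids
degree 0, where the cycles of the complex L in Mathlib's sense are L₀ itself rather than the kernel
of the augmentation L₀ → A.) -/
theorem result {C : Type u} [Category.{v} C] [Abelian C]
    (P₀ P₁ : ObjectProperty C) [P₀.IsClosedUnderIsomorphisms] [P₁.IsClosedUnderIsomorphisms] (hle : ∀ X, P₀ X → P₁ X)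
    (hext₀ : ∀ S : ShortComplex C, S.ShortExact → P₀ S.X₁ → P₀ S.X₃ → P₀ S.X₂)
    (hext₁ : ∀ S : ShortComplex C, S.ShortExact → P₁ S.X₁ → P₁ S.X₃ → P₁ S.X₂)
    (h1₀ : ∀ S : ShortComplex C, S.ShortExact → P₀ S.X₂ → P₀ S.X₃ → P₀ S.X₁)
    (h1₁ : ∀ S : ShortComplex C, S.ShortExact → P₁ S.X₂ → P₁ S.X₃ → P₁ S.X₁)
    (h2 : ∀ (A B D : C) (u : A ⟶ B) (v : D ⟶ B), Epi u → P₁ A → P₁ B → P₁ D →
      ∃ (L : C) (u' : L ⟶ D) (v' : L ⟶ A), P₀ L ∧ Epi u' ∧ u' ≫ v = v' ≫ u)
    (h3 : ∀ A : C, P₁ A → ∃ d : ℕ, ∀ L : ChainComplex C ℕ, (∀ i, P₀ (L.X i)) → (∀ i, 1 ≤ i → L.ExactAt i) →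
      Nonempty (L.homology 0 ≅ A) → P₀ (L.cycles (d + 1))) :
    Function.Bijective (SGA6.mapSub (𝟭 C) P₀ P₁ hle) := by
  classical
  have H : Hyp P₀ P₁ := ⟨hle, hext₀, hext₁, h1₀, h1₁, h2⟩
  have hdim : ∀ A : C, P₁ A → ∃ n, Dim P₀ P₁ n A := by
    intro A hA
    obtain ⟨d, hd⟩ := h3 A hA
    refine ⟨d + 2, ?_⟩
    by_contra hnot
    have hstep : ∀ (j : ℕ) (X : {X : C // P₁ X}), ∃ c : Cover P₀ X.1,
        ¬ Dim P₀ P₁ (j + 1) X.1 → ¬ Dim P₀ P₁ j (kernel c.π) := by
      intro j X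
      by_cases h : Dim P₀ P₁ (j + 1) X.1
      · obtain ⟨c⟩ := exists_cover H X.2
        exact ⟨c, fun h' => absurd h h'⟩
      · have : ¬ ∀ c : Cover P₀ X.1, Dim P₀ P₁ j (kernel c.π) := fun h' => h ⟨X.2, h'⟩
        obtain ⟨c, hc⟩ := not_forall.1 this
        exact ⟨c, fun _ => hc⟩
    choose f hf using hstep
    let K : ℕ → {X : C // P₁ X} := fun i => Nat.rec (motive := fun _ => {X : C // P₁ X}) ⟨A, hA⟩
      (fun i X => ⟨kernel (f (d + 1 - i) X).π, ker_mem₁ H _ (H.hle _ (f (d + 1 - i) X).hL) X.2⟩) i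
    let c : ∀ i, Cover P₀ (K i).1 := fun i => f (d + 1 - i) (K i)
    have hK : ∀ i, i ≤ d + 2 → ¬ Dim P₀ P₁ (d + 2 - i) (K i).1 := by
      intro i
      induction i with
      | zero => intro _; exact hnot
      | succ i ih =>
        intro hi
        have e : d + 2 - (i + 1) = d + 1 - i := by omega
        rw [e]
        refine hf (d + 1 - i) (K i) ?_
        rw [show d + 1 - i + 1 = d + 2 - i by omega]
        exact ih (by omega)
    let g : ∀ i, (K (i + 1)).1 ⟶ (c i).L := fun i => kernel.ι (c i).π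
    have hg : ∀ i, g i ≫ (c i).π = 0 := fun i => kernel.condition _
    have : ∀ i, Mono (g i) := fun i => by dsimp [g]; infer_instance
    let L : ChainComplex C ℕ := ChainComplex.of (fun i => (c i).L) (fun i => (c (i + 1)).π ≫ g i)
      (fun i => by erw [Category.assoc, ← Category.assoc (g (i + 1)), hg, zero_comp, comp_zero])
    have hd' : ∀ i, L.d (i + 1) i = (c (i + 1)).π ≫ g i := fun i =>
      ChainComplex.of_d (fun i => (c i).L) (fun i => (c (i + 1)).π ≫ g i) i
    have hex : ∀ i, 1 ≤ i → L.ExactAt i := by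
      intro i hi
      obtain ⟨i, rfl⟩ := Nat.exists_eq_add_of_le' hi
      rw [HomologicalComplex.exactAt_iff' L (i + 2) (i + 1) i (by simp) (by simp),
        ShortComplex.exact_iff_exact_up_to_refinements]
      intro T x hx
      change x ≫ L.d (i + 1) i = 0 at hx
      rw [hd'] at hx
      replace hx : x ≫ (c (i + 1)).π = 0 :=
        (cancel_mono (g i)).1 (((Category.assoc _ _ _).trans hx).trans zero_comp.symm)
      obtain ⟨T', π, hπ, y, hy⟩ := surjective_up_to_refinements_of_epi (c (i + 2)).π (kernel.lift _ x hx : T ⟶ (K (i + 2)).1)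
      refine ⟨T', π, hπ, y, ?_⟩
      refine Eq.trans ?_ (y ≫= hd' (i + 1)).symm
      refine Eq.trans ?_ (Category.assoc _ _ _)
      refine Eq.trans ?_ (hy =≫ g (i + 1))
      exact ((Category.assoc _ _ _).trans (π ≫= kernel.lift_ι _ _ _)).symm
    have hS : (ShortComplex.mk (L.d 1 0) (c 0).π (((hd' 0) =≫ (c 0).π).trans ((Category.assoc _ _ _).trans (((c 1).π ≫= hg 0).trans comp_zero)))).Exact := by
      rw [ShortComplex.exact_iff_exact_up_to_refinements]
      intro T x hx
      obtain ⟨T', π, hπ, y, hy⟩ := surjective_up_to_refinements_of_epi (c 1).π (kernel.lift _ x hx : T ⟶ (K 1).1)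
      refine ⟨T', π, hπ, y, ?_⟩
      refine Eq.trans ?_ (y ≫= hd' 0).symm
      refine Eq.trans ?_ (Category.assoc _ _ _)
      refine Eq.trans ?_ (hy =≫ g 0)
      exact ((Category.assoc _ _ _).trans (π ≫= kernel.lift_ι _ _ _)).symm
    have hH : Nonempty (L.homology 0 ≅ A) :=
      ⟨L.isoHomologyι 0 0 (by simp) (L.shape _ _ (by simp)) ≪≫
        (L.opcyclesIsCokernel 1 0 (by simp)).coconePointUniqueUpToIso
          (@ShortComplex.Exact.gIsCokernel _ _ _ _ _ hS (c 0).epi)⟩
    have hcyc := hd L (fun i => (c i).hL) hex hH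
    refine hK (d + 2) le_rfl ?_
    rw [Nat.sub_self]
    refine P₀.prop_of_iso ?_ hcyc
    exact (L.cyclesIsKernel (d + 1) d (by simp)).conePointUniqueUpToIso (kernelIsKernel _) ≪≫
      kernelIsoOfEq (hd' d) ≪≫ kernelCompMono _ _
  choose N hN using fun A : {A : C // P₁ A} => hdim A.1 A.2
  let c : C → KZero.K0sub P₀ := fun A => if h : P₁ A then chi P₀ (N ⟨A, h⟩) A else 0
  have hc : ∀ {n : ℕ} {A : C}, Dim P₀ P₁ n A → c A = chi P₀ n A := by
    intro n A hA
    have h1 := dim_mem₁ H hA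
    simp only [c, dif_pos h1]
    rcases le_total n (N ⟨A, h1⟩) with h | h
    · exact chi_mono H h hA
    · exact (chi_mono H h (hN ⟨A, h1⟩)).symm
  obtain ⟨φ, hφ⟩ := KHeartLib.exists_lift_sub P₁ c (fun S hS h₁ h₂ h₃ => by
    let n := max (N ⟨_, h₁⟩) (max (N ⟨_, h₂⟩) (N ⟨_, h₃⟩))
    have d₁ := dim_mono H (le_max_left _ _ : N ⟨_, h₁⟩ ≤ n) (hN ⟨_, h₁⟩)
    have d₂ := dim_mono H (le_trans (le_max_left _ _) (le_max_right _ _) : N ⟨_, h₂⟩ ≤ n) (hN ⟨_, h₂⟩)
    have d₃ := dim_mono H (le_trans (le_max_right _ _) (le_max_right _ _) : N ⟨_, h₃⟩ ≤ n) (hN ⟨_, h₃⟩)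
    rw [hc d₁, hc d₂, hc d₃]
    exact chi_add H S hS d₁ d₂ d₃)
  set ι := SGA6.mapSub (𝟭 C) P₀ P₁ hle with hι
  have hιc : ∀ X, P₀ X → ι (KZero.clSub P₀ X) = KZero.clSub P₁ X := by
    intro X hX
    rw [KHeartLib.clSub_of P₀ hX, KHeartLib.clSub_of P₁ (hle _ hX)]
    simp [hι, SGA6.mapSub, SGA6.objMap, FreeAbelianGroup.map_of_apply]
  have hchi : ∀ (n : ℕ) (A : C), Dim P₀ P₁ n A → ι (chi P₀ n A) = KZero.clSub P₁ A := by
    intro n
    induction n with
    | zero => exact fun A hA => hιc A hA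
    | succ n ih =>
      intro A hA
      obtain ⟨e⟩ := exists_cover H hA.1
      rw [chi_eq H hA e, map_sub, hιc _ e.hL, ih _ (hA.2 e)]
      have h := KHeartLib.clSub_add P₁ _ (kerSeq_shortExact e.π) (ker_mem₁ H e.π (hle _ e.hL) hA.1) (hle _ e.hL) hA.1
      dsimp [kerSeq] at h
      rw [h, add_sub_cancel_left]
  have h₀ : ∀ x, φ (ι x) = x := by
    intro x
    have hx : x ∈ AddSubgroup.closure {x | ∃ X : C, P₀ X ∧ KZero.clSub P₀ X = x} := by
      rw [KHeartLib.clSub_closure_eq_top]; trivial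
    induction hx using AddSubgroup.closure_induction with
    | mem x hx =>
      obtain ⟨X, hX, rfl⟩ := hx
      rw [hιc X hX, hφ X (hle _ hX), hc (n := 0) hX]
      rfl
    | zero => rw [map_zero, map_zero]
    | add x y _ _ hx hy => rw [map_add, map_add, hx, hy]
    | neg x _ hx => rw [map_neg, map_neg, hx]
  have h₁ : ∀ x, ι (φ x) = x := by
    intro x
    have hx : x ∈ AddSubgroup.closure {x | ∃ X : C, P₁ X ∧ KZero.clSub P₁ X = x} := by
      rw [KHeartLib.clSub_closure_eq_top]; trivial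
    induction hx using AddSubgroup.closure_induction with
    | mem x hx =>
      obtain ⟨X, hX, rfl⟩ := hx
      rw [hφ X hX, hc (hN ⟨X, hX⟩)]
      exact hchi _ X (hN ⟨X, hX⟩)
    | zero => rw [map_zero, map_zero]
    | add x y _ _ hx hy => rw [map_add, map_add, hx, hy]
    | neg x _ hx => rw [map_neg, map_neg, hx]
  exact ⟨Function.LeftInverse.injective h₀, Function.RightInverse.surjective h₁⟩

end Groth.Agent.S3200
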