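import Groth.Statements.S3745
import Groth.Agent.VBResLib.Hyp
import Groth.Agent.S3200
-- import your own Groth.Agent.* helpers here

set_option autoImplicit false
universe v u
open CategoryTheory CategoryTheory.Limits AlgebraicGeometry
attribute [local instance] HasDerivedCategory.standard
open KRR

namespace Groth.Agent.S3745

/-- Let X be a Noetherian scheme on which every coherent module is a quotient of a finite locally free
module. Then the homomorphism from K₀ of finite locally free O_X-modules to K₀ of the coherent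
O_X-modules admitting a finite resolution by finite locally free modules, induced by the inclusion
of categories (the argument h records that inclusion), is bijective. (Its inverse sends the class of
such a module to the alternating sum of the classes of the terms of any finite locally free
resolution. The source's standing connectedness assumption plays no role here and is omitted.) -/
theorem result (X : Scheme.{u}) [IsNoetherian X] (hX : KRR.HasEnoughLocFree X)
    (h : ∀ M : X.Modules, FlatMod.IsFinLocFree M → Coh.IsCoh M ∧ KRR.HasLFRes M) :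
    Function.Bijective (SGA6.mapSub (𝟭 X.Modules) (KRR.vbP X) (fun M : X.Modules => Coh.IsCoh M ∧ KRR.HasLFRes M) h) := by
  let P₁ : ObjectProperty X.Modules := fun M => Coh.IsCoh M ∧ KRR.HasLFRes M
  have hiff : ∀ {M : X.Modules}, P₁ M ↔ Coh.IsCoh M ∧ ∃ d, VBResLib.Pd d M := fun {M} =>
    ⟨fun h' => ⟨h'.1, VBResLib.exists_pd_of_hasLFRes h'.2⟩,
      fun ⟨h1, d, hd⟩ => ⟨h1, VBResLib.hasLFRes_of_pd hX h1 hd⟩⟩
  have : P₁.IsClosedUnderIsomorphisms := ⟨fun e h' => by
    obtain ⟨h1, d, hd⟩ := hiff.1 h'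
    exact hiff.2 ⟨QCohLib.isCoh_of_iso e h1, d, fun x => (hd x).of_iso e⟩⟩
  have hext₁ : ∀ S : ShortComplex X.Modules, S.ShortExact → P₁ S.X₁ → P₁ S.X₃ → P₁ S.X₂ := by
    intro S hS h₁ h₃
    obtain ⟨c₁, d₁, hd₁⟩ := hiff.1 h₁
    obtain ⟨c₃, d₃, hd₃⟩ := hiff.1 h₃
    exact hiff.2 ⟨Groth.Agent.KHeartLib.isCoh_of_shortExact hS c₁ c₃, max d₁ d₃, fun x =>
      VBResLib.PdAt.ext hS ((hd₁ x).mono (le_max_left _ _)) ((hd₃ x).mono (le_max_right _ _))⟩
  have h1₁ : ∀ S : ShortComplex X.Modules, S.ShortExact → P₁ S.X₂ → P₁ S.X₃ → P₁ S.X₁ := by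
    intro S hS h₂ h₃
    obtain ⟨c₂, d₂, hd₂⟩ := hiff.1 h₂
    obtain ⟨c₃, d₃, hd₃⟩ := hiff.1 h₃
    refine hiff.2 ⟨VBResLib.isCoh_X₁ hS c₂ c₃, max d₂ d₃, fun x => ?_⟩
    exact VBResLib.PdAt.ker hS (d := max d₂ d₃ + 1) ((hd₂ x).mono (le_max_left _ _))
      ((hd₃ x).mono (le_trans (le_max_right _ _) (Nat.le_succ _)))
  have H := VBResLib.hyp_of_class hX P₁ h (fun M hM => hM.1) hext₁ h1₁
  refine Groth.Agent.S3200.result (KRR.vbP X) P₁ h H.hext₀ hext₁ H.h1₀ h1₁ H.h2 fun A hA => ?_
  obtain ⟨-, d, hd⟩ := hiff.1 hA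
  exact ⟨d, fun L hL hex ⟨e⟩ => VBResLib.vb_cycles hd L hL hex e⟩

end Groth.Agent.S3745
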