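import Groth.Statements.S3799
import Groth.Agent.VBResLib.KPush
-- import your own Groth.Agent.* helpers here

set_option autoImplicit false
universe v u
open CategoryTheory CategoryTheory.Limits AlgebraicGeometry
attribute [local instance] HasDerivedCategory.standard
open KRR

namespace Groth.Agent.S3799

/-- Let f : X ⟶ Y be a regular closed imbedding of connected Noetherian schemes, where every coherent
module on Y is a quotient of a finite locally free one, and (KX, PX, φX), (KY, PY, φY) models of
K(X), K(Y). Then there is a unique additive map h : K(X) ⟶ K(Y) such that h[F] = Σ_k (-1)^k [L_k]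
for every finite locally free F on X and every finite resolution L of f_* F by finite locally free
modules (the push-forward f_K). -/
theorem result {X Y : Scheme.{u}} (f : X ⟶ Y) (hf : Mor2.IsRegularClosedImmersion f)
    [IsNoetherian X] [ConnectedSpace ↥X] [IsNoetherian Y] [ConnectedSpace ↥Y] (hYe : KRR.HasEnoughLocFree Y)
    (KX : Type v) [CommRing KX] [LambdaRing.LambdaOps KX] (PX : LambdaRing.PosStructure KX) (φX : SGA6.Kvb X →+ KX) (hKX : KRR.IsModel X KX PX φX)
    (KY : Type v) [CommRing KY] [LambdaRing.LambdaOps KY] (PY : LambdaRing.PosStructure KY) (φY : SGA6.Kvb Y →+ KY) (hKY : KRR.IsModel Y KY PY φY) :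
    ∃! h : KX →+ KY, KRR.IsPushCl f φX φY h := by
  have := hf.1
  obtain ⟨ψ, hψ⟩ := VBResLib.exists_kPush f hf hYe
  let eX := AddEquiv.ofBijective φX hKX.bijective
  refine ⟨φY.comp (ψ.comp eX.symm.toAddMonoidHom), fun F hF n L π hres => ?_, fun h hh => ?_⟩
  · have : eX.symm (φX (KRR.cl X F)) = KRR.cl X F := eX.symm_apply_apply _
    simp only [AddMonoidHom.coe_comp, AddEquiv.coe_toAddMonoidHom, Function.comp_apply, this,
      hψ F hF n L π hres, map_sum, map_zsmul]
  · suffices key : h.comp φX = φY.comp ψ by
      ext x
      obtain ⟨y, rfl⟩ := hKX.bijective.2 x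
      have : eX.symm (φX y) = y := eX.symm_apply_apply _
      simp only [AddMonoidHom.coe_comp, AddEquiv.coe_toAddMonoidHom, Function.comp_apply, this]
      exact DFunLike.congr_fun key y
    refine AddMonoidHom.eq_of_eqOn_dense (Groth.Agent.KHeartLib.clSub_closure_eq_top (KRR.vbP X)) ?_
    rintro _ ⟨F, hF, rfl⟩
    obtain ⟨n, L, π, hres⟩ := VBResLib.hasLFRes_of_pd hYe
      (VBResLib.isCoh_push_of_isClosedImmersion f (VBResLib.isCoh_of_vb hF))
      (VBResLib.exists_pd_push hYe hf hF).choose_spec
    simp only [AddMonoidHom.coe_comp, Function.comp_apply]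
    exact (hh F hF n L π hres).trans (by rw [hψ F hF n L π hres]; simp [map_sum, map_zsmul])

end Groth.Agent.S3799
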