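import Groth.Statements.S15241
import Groth.Agent.KleimanFlatLib.Translate
import Groth.Agent.DevissLib.ClosedImm

set_option autoImplicit false
universe u
open CategoryTheory CategoryTheory.Limits MonoidalCategory CartesianMonoidalCategory MonObj GrpObj AlgebraicGeometry
open AGF

namespace Groth.Agent.S15241

open CartesianMonoidalCategory Limits TopologicalSpace

theorem exists_subvariety (k : Type u) [Field k] (X : Over (Spec (CommRingCat.of k)))
    [LocallyOfFiniteType X.hom] [QuasiCompact X.hom] (Y₁ : Set ↥X.left) (hc : IsClosed Y₁) (hi : IsIrreducible Y₁) :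
    ∃ (Y : Over (Spec (CommRingCat.of k))) (f : Y ⟶ X), IsClosedImmersion f.left ∧ IsIntegral Y.left ∧
      QuasiCompact Y.hom ∧ LocallyOfFiniteType Y.hom ∧ Set.range f.left.base = Y₁ ∧
      topologicalKrullDim ↥Y.left = topologicalKrullDim ↥Y₁ := by
  let I := Scheme.IdealSheafData.vanishingIdeal (⟨Y₁, hc⟩ : Closeds X.left)
  haveI : AlgebraicGeometry.IsReduced I.subscheme := DevissLib.isReduced_vanishingIdeal' _
  have hr : Set.range I.subschemeι = Y₁ := by
    rw [Scheme.IdealSheafData.range_subschemeι, Scheme.IdealSheafData.coe_support_vanishingIdeal]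
    rfl
  let e : ↥I.subscheme ≃ₜ ↥Y₁ :=
    I.subschemeι.isClosedEmbedding.isEmbedding.toHomeomorph.trans (Homeomorph.setCongr hr)
  haveI : IrreducibleSpace ↥Y₁ := Subtype.irreducibleSpace hi
  haveI : IrreducibleSpace ↥I.subscheme := e.irreducibleSpace_iff.mpr inferInstance
  exact ⟨Over.mk (I.subschemeι ≫ X.hom), Over.homMk I.subschemeι rfl, inferInstanceAs (IsClosedImmersion I.subschemeι),
    isIntegral_of_irreducibleSpace_of_isReduced I.subscheme, inferInstanceAs (QuasiCompact (I.subschemeι ≫ X.hom)),
    inferInstanceAs (LocallyOfFiniteType (I.subschemeι ≫ X.hom)), hr, e.isHomeomorph.topologicalKrullDim_eq _⟩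

/-- Let k be an algebraically closed field of characteristic zero, G a group variety over k (an
integral, separated k-group scheme of finite type) acting on a variety X over k (integral,
separated, of finite type) of dimension n such that G(k) acts transitively on X(k), and let Y₁, Y₂
be closed irreducible subsets of X of dimensions r and s. Then for g in a nonempty open subset of G
the translate g · Y₁ meets Y₂ properly: there is a nonempty open V ⊆ G such that for every k-point g
of G lying in V, the intersection of Y₂ with the image of Y₁ under x ↦ g · x is either empty or has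
every irreducible component of dimension exactly r + s − n (and then n ≤ r + s). (The published
statement also asserts multiplicity one along each component, which is not stated here. The
published setting is over the complex numbers with G affine; this row assumes an algebraically
closed field of characteristic zero and any group variety, which is all the printed argument uses.) -/
theorem result (k : Type u) [Field k] [IsAlgClosed k] [CharZero k]
    (G X : Over (Spec (CommRingCat.of k))) [GrpObj G] (a : AlgGrp.Action G X)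
    [IsIntegral G.left] [IsSeparated G.hom] [LocallyOfFiniteType G.hom] [QuasiCompact G.hom]
    [IsIntegral X.left] [IsSeparated X.hom] [LocallyOfFiniteType X.hom] [QuasiCompact X.hom]
    (htrans : ∀ x x' : 𝟙_ (Over (Spec (CommRingCat.of k))) ⟶ X,
      ∃ σ : 𝟙_ (Over (Spec (CommRingCat.of k))) ⟶ G, CartesianMonoidalCategory.lift σ x ≫ a.act = x')
    (Y₁ Y₂ : Set ↥X.left) (h₁c : IsClosed Y₁) (h₁i : IsIrreducible Y₁) (h₂c : IsClosed Y₂) (h₂i : IsIrreducible Y₂)
    (n r s : ℕ) (hn : topologicalKrullDim ↥X.left = n) (hr : topologicalKrullDim ↥Y₁ = r)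
    (hs : topologicalKrullDim ↥Y₂ = s) :
    ∃ V : G.left.Opens, (V : Set ↥G.left).Nonempty ∧
      ∀ σ : 𝟙_ (Over (Spec (CommRingCat.of k))) ⟶ G, Set.range ⇑σ.left.base ⊆ (V : Set ↥G.left) →
        ⇑(CartesianMonoidalCategory.lift (CartesianMonoidalCategory.toUnit X ≫ σ) (𝟙 X) ≫ a.act).left.base '' Y₁ ∩ Y₂ = ∅ ∨
        (n ≤ r + s ∧ ∀ C ∈ irreducibleComponents
            ↥(⇑(CartesianMonoidalCategory.lift (CartesianMonoidalCategory.toUnit X ≫ σ) (𝟙 X) ≫ a.act).left.base '' Y₁ ∩ Y₂),
          topologicalKrullDim ↥C = ((r + s - n : ℕ) : WithBot ℕ∞)) := by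
  classical
  obtain ⟨Y, f, hfc, hYi, hYq, hYl, hYr, hYd⟩ := exists_subvariety k X Y₁ h₁c h₁i
  obtain ⟨Z, g, hgc, hZi, hZq, hZl, hZr, hZd⟩ := exists_subvariety k X Y₂ h₂c h₂i
  obtain ⟨V, hV, hfib⟩ := KleimanFlatLib.dim_translate_inter G X a htrans Y Z f g n r s hn
    (hYd.trans hr) (hZd.trans hs)
  refine ⟨V, hV, fun σ hσ ↦ ?_⟩
  let τ := KleimanFlatLib.tr a σ
  have hτf : f ≫ τ = lift (toUnit Y ≫ σ) f ≫ a.act := by
    show f ≫ lift (toUnit X ≫ σ) (𝟙 X) ≫ a.act = _
    rw [← Category.assoc, comp_lift, Category.comp_id, ← Category.assoc f, comp_toUnit]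
  haveI : IsIso τ.left := inferInstanceAs (IsIso ((Over.forget _).map τ))
  let fσ : Y.left ⟶ X.left := (lift (toUnit Y ≫ σ) f ≫ a.act).left
  have hfσ : fσ = f.left ≫ τ.left := by rw [← Over.comp_left, hτf]
  haveI : IsClosedImmersion fσ := by rw [hfσ]; infer_instance
  let φ : pullback fσ g.left ⟶ X.left := pullback.fst fσ g.left ≫ fσ
  haveI : IsClosedImmersion φ := inferInstance
  have himg : Set.range fσ.base = ⇑τ.left.base '' Y₁ := by
    rw [hfσ, ← hYr, ← Set.range_comp]; rfl
  have hrange : Set.range φ.base = ⇑τ.left.base '' Y₁ ∩ Y₂ := by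
    rw [← himg, ← hZr]
    show Set.range (fσ.base ∘ (pullback.fst fσ g.left).base) = _
    rw [Set.range_comp, Scheme.Pullback.range_fst, Set.image_preimage_eq_range_inter]
  show ⇑τ.left.base '' Y₁ ∩ Y₂ = ∅ ∨ (n ≤ r + s ∧ ∀ C ∈ irreducibleComponents ↥(⇑τ.left.base '' Y₁ ∩ Y₂),
    topologicalKrullDim ↥C = ((r + s - n : ℕ) : WithBot ℕ∞))
  rw [← hrange]
  rcases isEmpty_or_nonempty ↥(pullback fσ g.left) with he | ⟨⟨p₀⟩⟩
  · exact Or.inl (Set.range_eq_empty_iff.mpr he)
  refine Or.inr ⟨(hfib σ hσ fσ rfl p₀).1, fun C hC ↦ ?_⟩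
  haveI : IsLocallyNoetherian X.left := LocallyOfFiniteType.isLocallyNoetherian X.hom
  haveI : CompactSpace X.left := QuasiCompact.compactSpace_of_compactSpace X.hom
  haveI : IsNoetherian X.left := {}
  haveI : NoetherianSpace ↥(pullback fσ g.left) := φ.isClosedEmbedding.isInducing.noetherianSpace
  let e := φ.isClosedEmbedding.isEmbedding.toHomeomorph
  have hC' : e ⁻¹' C ∈ irreducibleComponents ↥(pullback fσ g.left) :=
    (preimage_mem_irreducibleComponents hC e.isOpenEmbedding (by
      rw [e.surjective.range_eq, Set.inter_univ]; exact hC.1.nonempty))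
  have h1 := KleimanFlatLib.topologicalKrullDim_component (fun p ↦ (hfib σ hσ fσ rfl p).2) hC'
  rw [← h1]
  exact ((e.sets rfl).isHomeomorph.topologicalKrullDim_eq _).symm
end Groth.Agent.S15241
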