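import Groth.Statements.S17777
import Groth.Agent.LocCohLib.Cech

set_option autoImplicit false
universe u
open CategoryTheory CategoryTheory.Limits
attribute [local instance] HasDerivedCategory.standard
open LocCoh

namespace Groth.Agent.S17777

open CategoryTheory Limits CochainComplex LocCohLib

variable {R : Type u} [CommRing R] {M : ModuleCat.{u} R} (f : R)

theorem smul_iso_congr {X Y : ModuleCat.{u} R} (e : X ≅ Y) (h : IsIso (f • 𝟙 X)) : IsIso (f • 𝟙 Y) := by
  have : f • 𝟙 Y = e.inv ≫ (f • 𝟙 X) ≫ e.hom := by
    rw [Linear.smul_comp, Category.id_comp, Linear.comp_smul, Iso.inv_hom_id]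
  rw [this]
  infer_instance

theorem isIso_smul_loc (S : Submonoid R) (X : ModuleCat.{u} R) (h : IsIso (f • 𝟙 X)) :
    IsIso (f • 𝟙 ((DerCA.locFunctor S).obj X)) := by
  have hb : Function.Bijective fun x : X => f • x := (ConcreteCategory.isIso_iff_bijective _).1 h
  suffices hs : Function.Bijective (fun y : LocalizedModule S X => f • y) from
    (ConcreteCategory.isIso_iff_bijective _).2 hs
  refine ⟨fun a b hab => ?_, fun y => ?_⟩
  · change f • a = f • b at hab
    induction a using LocalizedModule.induction_on with
    | h x s =>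
      induction b using LocalizedModule.induction_on with
      | h x' s' =>
        rw [LocalizedModule.smul'_mk, LocalizedModule.smul'_mk, LocalizedModule.mk_eq] at hab
        obtain ⟨u, hu⟩ := hab
        refine LocalizedModule.mk_eq.2 ⟨u, hb.1 ?_⟩
        simp only [smul_comm f] at hu ⊢
        exact hu
  · induction y using LocalizedModule.induction_on with
    | h x s =>
      obtain ⟨x', hx'⟩ := hb.2 x
      exact ⟨LocalizedModule.mk x' s, (LocalizedModule.smul'_mk f x' s).trans (congrArg (LocalizedModule.mk · s) hx')⟩

theorem isIso_smul_biprod (X Y : ModuleCat.{u} R) (hX : IsIso (f • 𝟙 X)) (hY : IsIso (f • 𝟙 Y)) :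
    IsIso (f • 𝟙 (X ⊞ Y)) := by
  have h5 : f • 𝟙 (X ⊞ Y) = biprod.map (f • 𝟙 X) (f • 𝟙 Y) := by
    apply biprod.hom_ext <;> simp
  rw [h5]
  haveI := hX
  haveI := hY
  exact (biprod.mapIso (asIso (f • 𝟙 X)) (asIso (f • 𝟙 Y))).isIso_hom

theorem isIso_smul_cocone {K L : DRing.Cx R} (φ : K ⟶ L) (hK : ∀ n, IsIso (f • 𝟙 (K.X n)))
    (hL : ∀ n, IsIso (f • 𝟙 (L.X n))) (n : ℤ) : IsIso (f • 𝟙 ((mappingCocone φ).X n)) :=
  smul_iso_congr f (DerCA.mappingCoconeXIso φ n).symm (isIso_smul_biprod f _ _ (hK n) (hL (n - 1)))

theorem isIso_smul_X (hi : IsIso (f • 𝟙 M)) : ∀ (l : List R) (n : ℤ), IsIso (f • 𝟙 ((DerCA.extCech M l).X n))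
  | [], n => by
    rcases eq_or_ne n 0 with rfl | hn
    · exact smul_iso_congr f (HomologicalComplex.singleObjXSelf (ComplexShape.up ℤ) 0 M).symm hi
    · have hz : IsZero ((DerCA.extCech M []).X n) := HomologicalComplex.isZero_single_obj_X _ _ _ _ hn
      exact isIso_of_source_target_iso_zero _ hz.isoZero hz.isoZero
  | g :: l, n => isIso_smul_cocone f (DerCA.locCxUnit (Submonoid.powers g) (DerCA.extCech M l))
      (isIso_smul_X hi l) (fun k => isIso_smul_loc f (Submonoid.powers g) ((DerCA.extCech M l).X k) (isIso_smul_X hi l k)) n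

theorem homologyMap_smul_id (K : DRing.Cx R) (m : ℤ) :
    HomologicalComplex.homologyMap (f • 𝟙 K) m = f • 𝟙 (K.homology m) := by
  rw [← cancel_epi (K.homologyπ m), HomologicalComplex.homologyπ_naturality]
  have h1 : HomologicalComplex.cyclesMap (f • 𝟙 K) m = f • 𝟙 (K.cycles m) := by
    rw [← cancel_mono (K.iCycles m), HomologicalComplex.cyclesMap_i, HomologicalComplex.smul_f_apply,
      HomologicalComplex.id_f, Linear.comp_smul, Category.comp_id, Linear.smul_comp, Category.id_comp]
  rw [h1, Linear.smul_comp, Category.id_comp, Linear.comp_smul, Category.comp_id]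

theorem bijective_smul (hi : IsIso (f • 𝟙 M)) (l : List R) (m : ℤ) :
    Function.Bijective fun y : (DerCA.extCech M l).homology m => f • y := by
  have h0 := isIso_smul_X f hi l
  haveI : ∀ n, IsIso ((f • 𝟙 (DerCA.extCech M l) : DerCA.extCech M l ⟶ DerCA.extCech M l).f n) := h0
  haveI : IsIso (f • 𝟙 (DerCA.extCech M l)) := HomologicalComplex.Hom.isIso_of_components _
  have h : IsIso (HomologicalComplex.homologyMap (f • 𝟙 (DerCA.extCech M l)) m) :=
    inferInstanceAs (IsIso ((HomologicalComplex.homologyFunctor _ _ m).map (f • 𝟙 (DerCA.extCech M l))))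
  have h1 := homologyMap_smul_id f (DerCA.extCech M l) m
  rw [h1] at h
  exact (ConcreteCategory.isIso_iff_bijective _).1 h

theorem isZero_cocone_of_iso {K L : DRing.Cx R} (φ : K ⟶ L) (n : ℤ) [IsIso (HomologicalComplex.homologyMap φ n)]
    [IsIso (HomologicalComplex.homologyMap φ (n + 1))] : IsZero ((mappingCocone φ).homology (n + 1)) := by
  refine IsZero.of_iso ?_ (coconeHomologyIso φ (n + 1) n (by omega))
  refine (exact_δ φ n).isZero_of_both_zeros ?_ ?_
  · show HomologicalComplex.homologyMap (mappingCone.inr φ) n = 0
    rw [← cancel_epi (HomologicalComplex.homologyMap φ n), comp_zero]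
    exact homologyMap_comp_inr φ n
  · show HomologicalComplex.homologyMap (coneδ φ) n = 0
    rw [← cancel_mono ((shiftHomologyIso K 1 n (n + 1) (by omega)).hom ≫ HomologicalComplex.homologyMap φ (n + 1)),
      zero_comp, ← shiftHomologyIso_naturality, ← Category.assoc,
      show HomologicalComplex.homologyMap (coneδ φ) n ≫ HomologicalComplex.homologyMap (φ⟦(1:ℤ)⟧') n = 0 from
        comp_zero_of_dist (mappingCone.triangle φ).rotate.rotate (rotate_dist _ (rotate_dist _ (cone_dist φ))) n |>
          (fun h => neg_eq_zero.1 ((Preadditive.comp_neg _ _).symm.trans ((congrArg (_ ≫ ·) (Functor.map_neg (HomologicalComplex.homologyFunctor _ _ n)).symm).trans h))),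
      zero_comp]

theorem main (hu : Function.Bijective (fun m : M => f • m)) :
    ∀ fs : List R, f ∈ fs → ∀ q : ℤ, IsZero ((DerCA.extCech M fs).homology q)
  | [], hf, _ => by simp at hf
  | g :: l, hf, q => by
    obtain ⟨n, rfl⟩ : ∃ n : ℤ, q = n + 1 := ⟨q - 1, by omega⟩
    rcases List.mem_cons.1 hf with rfl | hfl
    · have hi : IsIso (f • 𝟙 M) := (ConcreteCategory.isIso_iff_bijective _).2 hu
      have hb := bijective_smul f hi l
      have hI : ∀ m : ℤ, IsIso (HomologicalComplex.homologyMap
          (DerCA.locCxUnit (Submonoid.powers f) (DerCA.extCech M l)) m) := fun m => by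
        obtain ⟨u, v, h⟩ := exists_iso_homologyMap_locCxUnit (Submonoid.powers f) (DerCA.extCech M l) m
        have hloc : IsLocalizedModule (Submonoid.powers f)
            (LinearMap.id : (DerCA.extCech M l).homology m →ₗ[R] (DerCA.extCech M l).homology m) :=
          { map_units := by
              rintro ⟨_, k, rfl⟩
              have h1 : IsUnit (algebraMap R (Module.End R ((DerCA.extCech M l).homology m)) f) :=
                (Module.End.isUnit_iff _).2 (hb m)
              simpa using h1.pow k
            surj := fun y => ⟨⟨y, 1⟩, one_smul _ y⟩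
            exists_of_eq := fun {a b} hab => ⟨1, congrArg ((1 : Submonoid.powers f) • ·) hab⟩ }
        have hloc' : IsIso ((DerCA.locUnit (Submonoid.powers f)).app ((DerCA.extCech M l).homology m)) := by
          refine (ConcreteCategory.isIso_iff_bijective _).2 ?_
          have he : ∀ y, LocalizedModule.mkLinearMap (Submonoid.powers f) ((DerCA.extCech M l).homology m) y = IsLocalizedModule.linearEquiv (Submonoid.powers f)
              (LinearMap.id : (DerCA.extCech M l).homology m →ₗ[R] _) (LocalizedModule.mkLinearMap (Submonoid.powers f) ((DerCA.extCech M l).homology m)) y := fun y =>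
            (IsLocalizedModule.linearEquiv_apply (Submonoid.powers f) (LinearMap.id : (DerCA.extCech M l).homology m →ₗ[R] _)
              (LocalizedModule.mkLinearMap (Submonoid.powers f) ((DerCA.extCech M l).homology m)) y).symm
          have hbij := (IsLocalizedModule.linearEquiv (Submonoid.powers f)
              (LinearMap.id : (DerCA.extCech M l).homology m →ₗ[R] _) (LocalizedModule.mkLinearMap (Submonoid.powers f) ((DerCA.extCech M l).homology m))).bijective
          exact (funext he : (⇑(LocalizedModule.mkLinearMap (Submonoid.powers f) ((DerCA.extCech M l).homology m)) : _ → _) = _).symm ▸ hbij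
        rw [h]
        infer_instance
      haveI := hI n
      haveI := hI (n + 1)
      exact isZero_cocone_of_iso _ n
    · exact isZero_cocone' _ n (main hu l hfl (n + 1)) (isZero_homology_locCx _ _ _ (main hu l hfl n))


/-- Let R be an arbitrary commutative ring, x_1, …, x_n a finite list of elements of R and M an R-module
such that some x_i acts bijectively on M (so M is an R_{x_i}-module). Then every cohomology module
of the extended Čech complex of M on x_1, …, x_n is zero, in all degrees. -/
theorem result (R : Type u) [CommRing R] (fs : List R) (M : Type u) [AddCommGroup M] [Module R M] (f : R) (hf : f ∈ fs) (hu : Function.Bijective (fun m : M => f • m)) (q : ℤ) : IsZero (DerCA.extCechH fs (ModuleCat.of R M) q) := by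
  refine main f hu fs hf q

end Groth.Agent.S17777
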