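import Groth.Statements.S16235
import Mathlib.RingTheory.Ideal.KrullsHeightTheorem
import Mathlib.RingTheory.Regular.RegularSequence
import Mathlib.RingTheory.Ideal.MinimalPrime.Localization
-- import your own Groth.Agent.* helpers here

set_option autoImplicit false
universe u
open CAlg

namespace Groth.Agent.S16235

/-- Let A be a Noetherian commutative ring and x_1, …, x_r a regular sequence on A (each x_i a
non-zero-divisor on A/(x_1, …, x_{i-1})) generating an ideal I ≠ A. Then the height of I, the
infimum of the heights of the minimal primes over I, equals r. -/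
theorem result (A : Type u) [CommRing A] [IsNoetherianRing A]
    (r : ℕ) (x : Fin r → A) (hx : RingTheory.Sequence.IsWeaklyRegular A (List.ofFn x))
    (hI : Ideal.span (Set.range x) ≠ ⊤) :
    (Ideal.span (Set.range x)).height = r := by
  classical
  refine le_antisymm ?_ ?_
  · refine (Ideal.height_le_spanFinrank _ hI).trans ?_
    have h1 : Submodule.spanFinrank (Submodule.span A (Set.range x)) ≤ (Set.range x).ncard :=
      Submodule.spanFinrank_span_le_ncard_of_finite (Set.finite_range x)
    have h2 : (Set.range x).ncard ≤ r := by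
      rw [← Set.image_univ]
      exact (Set.ncard_image_le Set.finite_univ).trans (by simp [Set.ncard_univ])
    exact_mod_cast h1.trans h2
  have key : ∀ i : ℕ, i ≤ r → ∀ P : Ideal A, P.IsPrime → (∀ j : Fin r, (j : ℕ) < i → x j ∈ P) → (i : ℕ∞) ≤ P.height := by
    intro i
    induction i with
    | zero => intros; simp
    | succ i ih =>
      intro hi P hP hmem
      haveI := hP
      let L : List A := (List.ofFn x).take i
      have hLP : Ideal.ofList L ≤ P := Ideal.span_le.mpr fun a ha => by
        obtain ⟨j, hj, rfl⟩ := List.mem_iff_getElem.mp ha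
        simp only [L, List.length_take, List.length_ofFn] at hj
        simp only [L, List.getElem_take, List.getElem_ofFn]
        exact hmem ⟨j, by omega⟩ (by simp; omega)
      obtain ⟨Q, hQ, hQP⟩ := Ideal.exists_minimalPrimes_le hLP
      haveI := hQ.isPrime
      have hQi : (i : ℕ∞) ≤ Q.height := ih (by omega) Q hQ.isPrime fun j hj => hQ.le (Ideal.subset_span (by
        show x j ∈ L
        rw [List.mem_iff_getElem]
        exact ⟨j, by simp [L]; omega, by simp [L]⟩))
      have hx1 := hx.regular_mod_prev i (by simp; omega)
      simp only [List.getElem_ofFn, smul_eq_mul] at hx1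
      set xi := x ⟨i, by omega⟩
      have hxi : xi ∉ Q := by
        intro hxQ
        set I' := Ideal.ofList L
        have hnz : Ideal.Quotient.mk I' xi ∈ nonZeroDivisors (A ⧸ I') := by
          rw [← isRegular_iff_mem_nonZeroDivisors, isRegular_iff_eq_zero_of_mul]
          have h0 : ∀ z : A ⧸ I', Ideal.Quotient.mk I' xi * z = 0 → z = 0 := fun z hz => by
            obtain ⟨a, rfl⟩ := Ideal.Quotient.mk_surjective z
            rw [Ideal.Quotient.eq_zero_iff_mem]
            have hza : xi * a ∈ I' := by
              rwa [← map_mul, Ideal.Quotient.eq_zero_iff_mem] at hz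
            refine Ideal.mul_le_left (J := ⊤) ((Submodule.Quotient.mk_eq_zero _).mp (@hx1 (Submodule.Quotient.mk a) 0 ?_))
            show xi • (Submodule.Quotient.mk a : A ⧸ (I' * ⊤ : Ideal A)) = xi • 0
            rw [smul_zero, ← Submodule.Quotient.mk_smul, Submodule.Quotient.mk_eq_zero, Ideal.mul_top]
            exact hza
          exact ⟨fun z hz => h0 z hz, fun z hz => h0 z (by rwa [mul_comm])⟩
        haveI : (Q.map (Ideal.Quotient.mk I')).IsPrime :=
          Ideal.map_isPrime_of_surjective Ideal.Quotient.mk_surjective (by rw [Ideal.mk_ker]; exact hQ.le)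
        have hmin : Q.map (Ideal.Quotient.mk I') ∈ minimalPrimes (A ⧸ I') := by
          refine ⟨⟨inferInstance, bot_le⟩, fun q hq hqQ => ?_⟩
          haveI := hq.1
          have h1 : q.comap (Ideal.Quotient.mk I') ≤ Q := by
            refine (Ideal.comap_mono hqQ).trans ?_
            rw [Ideal.comap_map_of_surjective _ Ideal.Quotient.mk_surjective, ← RingHom.ker_eq_comap_bot, Ideal.mk_ker]
            exact sup_le le_rfl hQ.le
          have h2 : Q ≤ q.comap (Ideal.Quotient.mk I') :=
            hQ.2 ⟨Ideal.IsPrime.comap _, fun a ha => by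
              rw [Ideal.mem_comap, Ideal.Quotient.eq_zero_iff_mem.mpr ha]; exact q.zero_mem⟩ h1
          rw [Ideal.map_le_iff_le_comap]
          exact h2
        exact Set.disjoint_left.mp (Ideal.disjoint_nonZeroDivisors_of_mem_minimalPrimes hmin)
          (Ideal.mem_map_of_mem _ hxQ) hnz
      have hlt : Q < P := lt_of_le_of_ne hQP fun e => hxi (e ▸ hmem ⟨i, by omega⟩ (Nat.lt_succ_self i))
      push_cast
      calc (i : ℕ∞) + 1 ≤ Q.height + 1 := by gcongr
        _ ≤ P.height := Ideal.height_add_one_le_of_lt_of_isPrime hlt
  rw [Ideal.height_eq_inf_minimalPrimes]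
  refine le_iInf₂ fun P hP => key r le_rfl P hP.isPrime fun j _ => hP.le (Ideal.subset_span ⟨j, rfl⟩)

end Groth.Agent.S16235
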