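import Mathlib

universe u

namespace Groth.Agent.RegPowLib

open RingTheory.Sequence

variable {A : Type u} [CommRing A]

/-- weakly regular on the ends of a short exact sequence implies on the middle -/
theorem of_exact (rs : List A) : ∀ {M N P : Type u} [AddCommGroup M] [Module A M] [AddCommGroup N] [Module A N]
    [AddCommGroup P] [Module A P] (f : M →ₗ[A] N) (g : N →ₗ[A] P), Function.Injective f → Function.Exact f g →
    Function.Surjective g → IsWeaklyRegular M rs → IsWeaklyRegular P rs → IsWeaklyRegular N rs := by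
  induction rs with
  | nil => intros; exact IsWeaklyRegular.nil A _
  | cons r rs ih =>
    intro M N P _ _ _ _ _ _ f g hf hfg hg hM hP
    rw [isWeaklyRegular_cons_iff] at hM hP ⊢
    have hN : IsSMulRegular N r := by
      intro x y hxy
      rw [← sub_eq_zero]
      have h0 : r • (x - y) = 0 := by rw [smul_sub]; exact sub_eq_zero.2 hxy
      have h1 : g (x - y) = 0 := hP.1 (show r • g (x - y) = r • 0 by rw [← map_smul, h0, map_zero, smul_zero])
      obtain ⟨m, hm⟩ := (hfg _).1 h1
      have h2 : m = 0 := hM.1 (hf (by simp [map_smul, hm, h0]))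
      rw [← hm, h2, map_zero]
    refine ⟨hN, ih (QuotSMulTop.map r f) (QuotSMulTop.map r g) ?_ (QuotSMulTop.map_exact r hfg hg)
      (QuotSMulTop.map_surjective r hg) hM.2 hP.2⟩
    intro a b hab
    obtain ⟨a, rfl⟩ := Submodule.mkQ_surjective _ a
    obtain ⟨b, rfl⟩ := Submodule.mkQ_surjective _ b
    rw [Submodule.mkQ_apply, Submodule.mkQ_apply, QuotSMulTop.map_apply_mk, QuotSMulTop.map_apply_mk, Submodule.Quotient.eq,
      Submodule.mem_smul_pointwise_iff_exists] at hab
    obtain ⟨n, -, hn⟩ := hab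
    rw [Submodule.mkQ_apply, Submodule.mkQ_apply, Submodule.Quotient.eq, Submodule.mem_smul_pointwise_iff_exists]
    have h1 : g n = 0 := hP.1 (by
      simp only [smul_zero, ← map_smul, hn]
      rw [← map_sub]; exact hfg.apply_apply_eq_zero _)
    obtain ⟨m, hm⟩ := (hfg _).1 h1
    exact ⟨m, trivial, hf (by rw [map_smul, hm, hn, map_sub])⟩

theorem quot_pow {M : Type u} [AddCommGroup M] [Module A M] {r : A} (hr : IsSMulRegular M r) (rs : List A)
    (h : IsWeaklyRegular (QuotSMulTop r M) rs) : ∀ e, IsWeaklyRegular (QuotSMulTop (r ^ (e + 1)) M) rs := by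
  intro e
  induction e with
  | zero => rwa [zero_add, pow_one]
  | succ e ih =>
    let f : QuotSMulTop (r ^ (e + 1)) M →ₗ[A] QuotSMulTop (r ^ (e + 1 + 1)) M :=
      Submodule.mapQ _ _ (LinearMap.lsmul A M r) (by
        intro x hx
        obtain ⟨y, -, rfl⟩ := (Submodule.mem_smul_pointwise_iff_exists _ _ _).1 hx
        refine (Submodule.mem_smul_pointwise_iff_exists _ _ _).2 ⟨y, trivial, ?_⟩
        simp [smul_smul, pow_succ' r (e + 1), mul_comm])
    let g : QuotSMulTop (r ^ (e + 1 + 1)) M →ₗ[A] QuotSMulTop r M :=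
      Submodule.mapQ _ _ LinearMap.id (by
        intro x hx
        obtain ⟨y, -, rfl⟩ := (Submodule.mem_smul_pointwise_iff_exists _ _ _).1 hx
        refine (Submodule.mem_smul_pointwise_iff_exists _ _ _).2 ⟨r ^ (e + 1) • y, trivial, ?_⟩
        simp [smul_smul, pow_succ' r (e + 1)])
    refine of_exact rs f g ?_ ?_ ?_ ih h
    · intro a b hab
      obtain ⟨a, rfl⟩ := Submodule.mkQ_surjective _ a
      obtain ⟨b, rfl⟩ := Submodule.mkQ_surjective _ b
      simp only [f, Submodule.mkQ_apply, Submodule.mapQ_apply, LinearMap.lsmul_apply, Submodule.Quotient.eq,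
        Submodule.mem_smul_pointwise_iff_exists] at hab
      obtain ⟨y, -, hy⟩ := hab
      rw [Submodule.mkQ_apply, Submodule.mkQ_apply, Submodule.Quotient.eq, Submodule.mem_smul_pointwise_iff_exists]
      refine ⟨y, trivial, hr ?_⟩
      simp only [← smul_sub, pow_succ' r (e + 1), mul_smul] at hy
      exact hy
    · intro x
      obtain ⟨x, rfl⟩ := Submodule.mkQ_surjective _ x
      simp only [g, Submodule.mkQ_apply, Submodule.mapQ_apply, LinearMap.id_apply, Set.mem_range]
      rw [Submodule.Quotient.mk_eq_zero, Submodule.mem_smul_pointwise_iff_exists]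
      constructor
      · rintro ⟨y, -, rfl⟩
        exact ⟨Submodule.Quotient.mk y, rfl⟩
      · rintro ⟨y, hy⟩
        obtain ⟨y, rfl⟩ := Submodule.mkQ_surjective _ y
        simp only [f, Submodule.mkQ_apply, Submodule.mapQ_apply, LinearMap.lsmul_apply, Submodule.Quotient.eq,
          Submodule.mem_smul_pointwise_iff_exists] at hy
        obtain ⟨z, -, hz⟩ := hy
        exact ⟨y - r ^ (e + 1) • z, trivial, by rw [smul_sub, smul_smul, ← pow_succ', hz, sub_sub_cancel]⟩
    · intro x
      obtain ⟨x, rfl⟩ := Submodule.mkQ_surjective _ x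
      exact ⟨Submodule.Quotient.mk x, rfl⟩

theorem pow_seq : ∀ {M : Type u} [AddCommGroup M] [Module A M] (n : ℕ) (f : Fin n → A) (v : Fin n → ℕ),
    (∀ i, 1 ≤ v i) → IsWeaklyRegular M (List.ofFn f) → IsWeaklyRegular M (List.ofFn fun i => f i ^ v i) := by
  intro M _ _ n
  induction n generalizing M with
  | zero => intros; simp
  | succ n ih =>
    intro f v hv h
    rw [List.ofFn_succ, isWeaklyRegular_cons_iff] at h ⊢
    refine ⟨h.1.pow _, ?_⟩
    obtain ⟨e, he⟩ := Nat.exists_eq_succ_of_ne_zero (Nat.one_le_iff_ne_zero.1 (hv 0))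
    rw [he]
    exact quot_pow h.1 _ (ih (fun i => f i.succ) (fun i => v i.succ) (fun i => hv _) h.2) e

end Groth.Agent.RegPowLib
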