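import Groth.Statements.S9845
import Mathlib
-- import your own Groth.Agent.* helpers here

set_option autoImplicit false
open CategoryTheory CategoryTheory.Limits AlgebraicGeometry Opposite
universe u
open Desc

namespace Groth.Agent.S9845

theorem isOpenMap_of_mem {X : Scheme.{u}} {R : Presieve X} (hR : R ∈ Scheme.fppfPrecoverage X) {U : Scheme.{u}}
    {g : U ⟶ X} (hg : R g) : Flat g ∧ UniversallyOpen g := by
  obtain ⟨h1, h2⟩ : Flat g ∧ LocallyOfFinitePresentation g := hR.2 hg
  exact ⟨h1, inferInstance⟩

theorem exists_mem {X : Scheme.{u}} {R : Presieve X} (hR : R ∈ Scheme.fppfPrecoverage X) (x : X) :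
    ∃ (U : Scheme.{u}) (g : U ⟶ X), R g ∧ x ∈ Set.range g := by
  obtain ⟨E, rfl⟩ := Precoverage.mem_iff_exists_zeroHypercover.1 hR
  obtain ⟨i, hi⟩ := (Scheme.presieve₀_mem_precoverage_iff _).1 E.mem₀ |>.1 x
  exact ⟨_, E.f i, ⟨i⟩, hi⟩

/-- Being an open morphism (open underlying map) is fppf local on the source: for every fppf covering
family g i : X i ⟶ X, a morphism f : X ⟶ Y has open underlying map if and only if every composite g
i ≫ f does. -/
theorem result :
    MorphismProperty.IsLocalAtSource (topologically (fun f => IsOpenMap f) : MorphismProperty Scheme.{u})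
      Scheme.fppfPrecoverage := by
  have : MorphismProperty.RespectsIso (topologically (fun f => IsOpenMap f) : MorphismProperty Scheme.{u}) :=
    topologically_respectsIso _ (fun e => e.isOpenMap) (fun _ _ hf hg => hg.comp hf)
  constructor
  · intro X Y f R hR U g hg hf
    have := (isOpenMap_of_mem hR hg).2
    show IsOpenMap (g ≫ f)
    exact (show IsOpenMap f from hf).comp g.isOpenMap
  · intro X Y f R hR h
    show IsOpenMap f
    intro O hO
    refine isOpen_iff_forall_mem_open.2 ?_
    rintro _ ⟨x, hx, rfl⟩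
    obtain ⟨U, g, hg, u₀, rfl⟩ := exists_mem hR x
    refine ⟨(g ≫ f) '' (g ⁻¹' O), ?_, (show IsOpenMap (g ≫ f) from h hg) _ (hO.preimage g.continuous),
      ⟨u₀, hx, rfl⟩⟩
    rintro _ ⟨u, hu, rfl⟩
    exact ⟨g u, hu, rfl⟩

end Groth.Agent.S9845
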