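import Groth.Statements.S8934
import Groth.Agent.LcCxLib.LBaseRgamma

set_option autoImplicit false
universe u
open CategoryTheory CategoryTheory.Limits
attribute [local instance] HasDerivedCategory.standard
open LocCoh

namespace Groth.Agent.S8934

open Groth.Agent.DRingLib

theorem isTors_pow_iff {A : Type u} [CommRing A] {p : ℕ} (hp : 0 < p) (l : List A) (T : Dual.D A) :
    IsTors (l.map (· ^ p)) T ↔ IsTors l T := by
  refine ⟨fun h g hg i x => ?_, fun h g hg i x => ?_⟩
  · obtain ⟨n, hn⟩ := h (g ^ p) (List.mem_map.2 ⟨g, hg, rfl⟩) i x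
    exact ⟨p * n, by rw [pow_mul]; exact hn⟩
  · obtain ⟨g', hg', rfl⟩ := List.mem_map.1 hg
    obtain ⟨n, hn⟩ := h g' hg' i x
    refine ⟨n, ?_⟩
    obtain ⟨k, hk⟩ := Nat.exists_eq_add_of_le (Nat.le_mul_of_pos_left n hp)
    rw [← pow_mul, hk, pow_add, mul_comm, mul_smul, hn, smul_zero]

theorem flat_single {A : Type u} [CommRing A] (M : ModuleCat.{u} A) (hM : Module.Flat A M) (i : ℤ) :
    Module.Flat A (((HomologicalComplex.single (ModuleCat.{u} A) (ComplexShape.up ℤ) 0).obj M).X i) := by
  by_cases hi : i = 0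
  · subst hi
    exact Module.Flat.of_linearEquiv (HomologicalComplex.singleObjXSelf (ComplexShape.up ℤ) 0 M).toLinearEquiv
  · haveI := ModuleCat.subsingleton_of_isZero
      (HomologicalComplex.isZero_single_obj_X (ComplexShape.up ℤ) 0 M i hi)
    exact @Module.Flat.of_free A _ _ _ _ (Module.Free.of_subsingleton A _)

theorem exists_lBase_inD {A B : Type u} [CommRing A] [CommRing B] (φ : A →+* B) [DRing.HasLBaseChange φ] :
    Nonempty ((DRing.LBaseChange φ).obj (Dual.inD A A) ≅ Dual.inD B B) := by
  let P := (CochainComplex.singleFunctor (ModuleCat.{u} A) 0).obj (ModuleCat.of A A)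
  have hP : DRing.IsKFlat A P := KFlatLib.isKFlat_of_bounded_flat P 0
    (fun i hi => HomologicalComplex.isZero_single_obj_X _ _ _ _ (ne_of_gt hi))
    (flat_single (ModuleCat.of A A) inferInstance)
  exact ⟨lBaseChangeObjIso φ P hP ≪≫ DerivedCategory.Q.mapIso
    ((HomologicalComplex.singleMapHomologicalComplex (ModuleCat.extendScalars.{u, u, u} φ)
      (ComplexShape.up ℤ) 0).app (ModuleCat.of A A) ≪≫
      (HomologicalComplex.single _ _ 0).mapIso
        (Functor.Monoidal.εIso (ModuleCat.extendScalars.{u, u, u} φ)).symm)⟩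

/-- Let p be a prime, A a Noetherian ring of characteristic p with Frobenius endomorphism F, and I an
ideal of A. Then the derived base change of RΓ_I(A) along F is isomorphic to RΓ_I(A) in D(A)
(existence of an isomorphism only; RΓ_I, the derived I-power torsion functor, and the derived base
change along F are assumed to exist). (The published statement is for any ring and a finitely
generated ideal, with local cohomology RΓ_Z; this row takes A Noetherian, where RΓ_Z is the derived
functor of I-power torsion.) -/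
theorem result (p : ℕ) [Fact p.Prime] (A : Type u) [CommRing A] [IsNoetherianRing A] [CharP A p] (I : Ideal A) [DRing.HasRgammaI I] [DRing.HasLBaseChange (frobenius A p)] : Nonempty ((DRing.LBaseChange (frobenius A p)).obj ((DRing.RgammaI I).obj (Dual.inD A A)) ≅ (DRing.RgammaI I).obj (Dual.inD A A)) := by
  obtain ⟨l, hl⟩ := exists_list_span' I
  obtain ⟨R, u, hu, hu'⟩ := LcCxLib.isCoref_lBase_exists (frobenius A p) l (Dual.inD A A)
  obtain ⟨e, -⟩ := (isCoref_RgammaIε l I hl (Dual.inD A A)).exists_iso hu
  obtain ⟨a⟩ := exists_lBase_inD (frobenius A p)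
  have hp : 0 < p := (Fact.out : p.Prime).pos
  have hm : l.map (frobenius A p) = l.map (· ^ p) := List.map_congr_left fun g _ => frobenius_def p g
  have hv : IsCoref l ((DRing.LBaseChange (frobenius A p)).map u ≫ a.hom) := by
    refine ⟨(isTors_pow_iff hp l _).1 (hm ▸ hu'.1), fun T hT => ?_⟩
    have hb := a.homToEquiv.bijective.comp (hu'.2 T (hm ▸ (isTors_pow_iff hp l T).2 hT))
    convert hb using 1
    funext t
    simp [Iso.homToEquiv]
  obtain ⟨e', -⟩ := hv.exists_iso (isCoref_RgammaIε l I hl (Dual.inD A A))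
  exact ⟨(DRing.LBaseChange (frobenius A p)).mapIso e ≪≫ e'⟩

end Groth.Agent.S8934
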