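import Groth.Statements.S1726
import Groth.Agent.S2669
import Groth.Agent.DimIneqLib.Equality
import Mathlib.RingTheory.Ideal.GoingUp
import Mathlib.Data.ENat.Lattice

set_option autoImplicit false
universe u
open LocCoh
set_option linter.style.haveILetI false

namespace Groth.Agent.S1726

theorem height_map_eq {A : Type u} [CommRing A] (p r : PrimeSpectrum A) (h : p ≤ r) :
    (r.asIdeal.map (Ideal.Quotient.mk p.asIdeal)).height = Order.height (⟨r, h⟩ : Set.Ici p) := by
  have hker : RingHom.ker (Ideal.Quotient.mk p.asIdeal) ≤ r.asIdeal := by rw [Ideal.mk_ker]; exact h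
  haveI := Ideal.map_isPrime_of_surjective Ideal.Quotient.mk_surjective hker
  let c := PrimeSpectrum.comap (Ideal.Quotient.mk p.asIdeal)
  have hc : Topology.IsClosedEmbedding c :=
    PrimeSpectrum.isClosedEmbedding_comap_of_surjective _ _ Ideal.Quotient.mk_surjective
  have hrange : ∀ x, x ∈ Set.range c ↔ x ∈ Set.Ici p := fun x => by
    rw [range_comap_of_surjective _ _ Ideal.Quotient.mk_surjective, Ideal.mk_ker]
    rfl
  let e : PrimeSpectrum (A ⧸ p.asIdeal) ≃o Set.Ici p :=
    { toEquiv := Equiv.ofBijective (fun x => (⟨c x, (hrange _).1 ⟨x, rfl⟩⟩ : Set.Ici p))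
        ⟨fun x y h => hc.injective (congrArg Subtype.val h),
          fun y => ((hrange y.1).2 y.2).imp fun x hx => Subtype.ext hx⟩
      map_rel_iff' := fun {x y} => by
        show c x ≤ c y ↔ x ≤ y
        rw [PrimeSpectrum.le_iff_specializes, PrimeSpectrum.le_iff_specializes,
          hc.isInducing.specializes_iff] }
  let x : PrimeSpectrum (A ⧸ p.asIdeal) := ⟨r.asIdeal.map (Ideal.Quotient.mk p.asIdeal), inferInstance⟩
  have hx : e x = ⟨r, h⟩ := Subtype.ext (PrimeSpectrum.ext (by
    show (r.asIdeal.map (Ideal.Quotient.mk p.asIdeal)).comap (Ideal.Quotient.mk p.asIdeal) = r.asIdeal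
    rw [Ideal.comap_map_quotientMk]
    exact sup_eq_right.2 h))
  rw [← hx, Order.height_orderIso, PrimeSpectrum.height_eq_orderHeight x]

/-- Relative heights are preserved by a finite algebra over a universally catenary ring. -/
theorem height_eq {A B : Type u} [CommRing A] [CommRing B] [Algebra A B] [Module.Finite A B]
    (hA : CAlg.IsUniversallyCatenary A) (P Q : PrimeSpectrum B) (p q : PrimeSpectrum A) (hPQ : P ≤ Q) (hpq : p ≤ q)
    (hPp : P.asIdeal.comap (algebraMap A B) = p.asIdeal) (hQq : Q.asIdeal.comap (algebraMap A B) = q.asIdeal) :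
    Order.height (⟨Q, hPQ⟩ : Set.Ici P) = Order.height (⟨q, hpq⟩ : Set.Ici p) := by
  rw [← height_map_eq, ← height_map_eq]
  haveI : P.asIdeal.LiesOver p.asIdeal := ⟨hPp.symm⟩
  haveI hp' : (q.asIdeal.map (Ideal.Quotient.mk p.asIdeal)).IsPrime :=
    Ideal.map_isPrime_of_surjective Ideal.Quotient.mk_surjective (by rw [Ideal.mk_ker]; exact hpq)
  haveI hq' : (Q.asIdeal.map (Ideal.Quotient.mk P.asIdeal)).IsPrime :=
    Ideal.map_isPrime_of_surjective Ideal.Quotient.mk_surjective (by rw [Ideal.mk_ker]; exact hPQ)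
  haveI : (Q.asIdeal.map (Ideal.Quotient.mk P.asIdeal)).LiesOver (q.asIdeal.map (Ideal.Quotient.mk p.asIdeal)) := ⟨by
    refine Ideal.comap_injective_of_surjective (Ideal.Quotient.mk p.asIdeal) Ideal.Quotient.mk_surjective ?_
    rw [Ideal.under_def, Ideal.comap_comap,
      show (algebraMap (A ⧸ p.asIdeal) (B ⧸ P.asIdeal)).comp (Ideal.Quotient.mk p.asIdeal) =
        (Ideal.Quotient.mk P.asIdeal).comp (algebraMap A B) from rfl, ← Ideal.comap_comap,
      Ideal.comap_map_quotientMk, Ideal.comap_map_quotientMk, sup_eq_right.2 (show P.asIdeal ≤ Q.asIdeal from hPQ), sup_eq_right.2 (show p.asIdeal ≤ q.asIdeal from hpq), hQq]⟩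
  haveI : Module.Finite A (B ⧸ P.asIdeal) :=
    Module.Finite.of_surjective (Ideal.Quotient.mkₐ A P.asIdeal).toLinearMap Ideal.Quotient.mk_surjective
  haveI : Module.Finite (A ⧸ p.asIdeal) (B ⧸ P.asIdeal) := Module.Finite.of_restrictScalars_finite A _ _
  haveI : FaithfulSMul (A ⧸ p.asIdeal) (B ⧸ P.asIdeal) := (faithfulSMul_iff_algebraMap_injective _ _).2 (by
    rw [injective_iff_map_eq_zero]
    intro a
    obtain ⟨a, rfl⟩ := Ideal.Quotient.mk_surjective a
    intro ha
    refine Ideal.Quotient.eq_zero_iff_mem.2 (hPp.le ?_)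
    have ha' : Ideal.Quotient.mk P.asIdeal (algebraMap A B a) = 0 := ha
    exact Ideal.mem_comap.2 (Ideal.Quotient.eq_zero_iff_mem.1 ha'))
  have hR : CAlg.IsUniversallyCatenary (A ⧸ p.asIdeal) := by
    haveI := hA.1
    refine ⟨inferInstance, fun T _ _ hT => ?_⟩
    letI : Algebra A T := ((algebraMap (A ⧸ p.asIdeal) T).comp (algebraMap A (A ⧸ p.asIdeal))).toAlgebra
    haveI : IsScalarTower A (A ⧸ p.asIdeal) T := IsScalarTower.of_algebraMap_eq fun _ => rfl
    exact hA.2 T (Algebra.FiniteType.trans (S := A ⧸ p.asIdeal) inferInstance hT)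
  have h := DimIneqLib.main_eq hR (Q.asIdeal.map (Ideal.Quotient.mk P.asIdeal)) (q.asIdeal.map (Ideal.Quotient.mk p.asIdeal))
  haveI : Algebra.IsAlgebraic (A ⧸ p.asIdeal) (B ⧸ P.asIdeal) := Algebra.IsAlgebraic.of_finite _ _
  haveI : Algebra.IsIntegral (A ⧸ p.asIdeal) (B ⧸ P.asIdeal) := Algebra.IsIntegral.of_finite _ _
  haveI : Nontrivial ((A ⧸ p.asIdeal) ⧸ q.asIdeal.map (Ideal.Quotient.mk p.asIdeal)) :=
    Ideal.Quotient.nontrivial_iff.2 hp'.ne_top
  haveI : Algebra.IsAlgebraic ((A ⧸ p.asIdeal) ⧸ q.asIdeal.map (Ideal.Quotient.mk p.asIdeal))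
      ((B ⧸ P.asIdeal) ⧸ Q.asIdeal.map (Ideal.Quotient.mk P.asIdeal)) := Algebra.IsIntegral.isAlgebraic
  rwa [DimIneqLib.tr_eq_zero, DimIneqLib.tr_eq_zero, add_zero, add_zero] at h


/-- Let A → B be a finite homomorphism of Noetherian rings with A universally catenary, I an ideal of A
and M a finite B-module. Then s_{B, IB}(M) = s_{A, I}(M), where M is regarded as an A-module by
restriction of scalars. -/
theorem result (A B : Type u) [CommRing A] [CommRing B] [Algebra A B] [IsNoetherianRing A] [IsNoetherianRing B] [Module.Finite A B] (hA : CAlg.IsUniversallyCatenary A) (I : Ideal A) (M : Type u) [AddCommGroup M] [Module B M] [Module A M] [IsScalarTower A B M] [Module.Finite B M] : Dual2.cutoff B (I.map (algebraMap A B)) M = Dual2.cutoff A I M := by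
  haveI : IsNoetherianRing B := inferInstance
  haveI : Module.Finite A M := Module.Finite.trans B M
  haveI : Algebra.IsIntegral A B := Algebra.IsIntegral.of_finite A B
  have hsupp : ∀ P : PrimeSpectrum B, P ∉ Module.support B M →
      LocCoh.depth (Localization.AtPrime P.asIdeal) (LocalizedModule P.asIdeal.primeCompl M) = ⊤ := fun P hP => by
    rw [(S2669.result B B M P.asIdeal).2]
    refine iInf₂_eq_top.2 fun P' hP' => absurd hP'.2 ?_
    rwa [show P' = P from PrimeSpectrum.ext (by simpa using hP'.1)]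
  refine le_antisymm ?_ ?_
  · refine le_iInf₂ fun p q => le_iInf₂ fun hpq hp => le_iInf fun hq => ?_
    rw [(S2669.result A B M p.asIdeal).2]
    simp only [ENat.iInf_add]
    refine le_iInf₂ fun P hP => ?_
    obtain ⟨Q, hPQ, hQ, hQq⟩ := Ideal.exists_ideal_over_prime_of_isIntegral_of_isPrime q.asIdeal P.asIdeal
      (hP.1.le.trans hpq)
    refine le_trans (iInf₂_le P ⟨Q, hQ⟩) (le_trans (iInf₂_le (show P ≤ ⟨Q, hQ⟩ from hPQ) ?_) (iInf_le_of_le ?_ ?_))
    · intro hI
      exact hp (hP.1 ▸ Ideal.map_le_iff_le_comap.1 hI)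
    · exact Ideal.map_le_iff_le_comap.2 (hQq ▸ hq)
    · rw [height_eq hA P ⟨Q, hQ⟩ p q hPQ hpq hP.1 hQq]
  · refine le_iInf₂ fun P Q => le_iInf₂ fun hPQ hP => le_iInf fun hQ => ?_
    by_cases hs : P ∈ Module.support B M
    swap
    · rw [hsupp P hs, top_add]; exact le_top
    let p : PrimeSpectrum A := PrimeSpectrum.comap (algebraMap A B) P
    let q : PrimeSpectrum A := PrimeSpectrum.comap (algebraMap A B) Q
    have hpq : p ≤ q := Ideal.comap_mono hPQ
    refine le_trans (iInf₂_le p q) (le_trans (iInf₂_le hpq ?_) (iInf_le_of_le ?_ ?_))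
    · exact fun hI => hP (Ideal.map_le_iff_le_comap.2 hI)
    · exact Ideal.map_le_iff_le_comap.1 hQ
    · rw [← height_eq hA P Q p q hPQ hpq rfl rfl, (S2669.result A B M p.asIdeal).2]
      gcongr
      exact iInf₂_le P ⟨rfl, hs⟩

end Groth.Agent.S1726
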