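import Groth.Statements.S5756
import Groth.Agent.CommAlgDim.Depth
import Mathlib


-- import your own Groth.Agent.* helpers here

set_option autoImplicit false
universe u
open EGA41

namespace Groth.Agent.S5756

/-- Suppose A and B are Noetherian local rings and ρ : A → B is a local homomorphism. Given a B-module M
that, viewed as an A-module through ρ, is finitely generated, the depth of M over A coincides with
the depth of M over B. -/
theorem result (A B : Type u) [CommRing A] [CommRing B] [IsLocalRing A]
    [IsLocalRing B] [IsNoetherianRing A] [IsNoetherianRing B] [Algebra A B] [IsLocalHom (algebraMap A B)]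
    (M : Type u) [AddCommGroup M] [Module B M] [Module A M] [IsScalarTower A B M] [Module.Finite A M] :
    LocCoh.depth A M = LocCoh.depth B M := by
  open scoped Pointwise in
  focus
    classical
    let a : Ideal A := IsLocalRing.maximalIdeal A
    let aB : Ideal B := IsLocalRing.maximalIdeal B
    have key : ∀ (n : ℕ) (N : Type u) [AddCommGroup N] [Module B N] [Module A N] [IsScalarTower A B N] [Module.Finite A N], CommAlgDim.HasSeqIn a N n ↔ CommAlgDim.HasSeqIn aB N n := by
      intro n
      induction n with
      | zero => intro N _ _ _ _ _; exact ⟨fun _ => CommAlgDim.hasSeqIn_zero _, fun _ => CommAlgDim.hasSeqIn_zero _⟩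
      | succ n ih =>
        intro N _ _ _ _ _
        haveI : Module.Finite B N := Module.Finite.of_restrictScalars_finite A B N
        have hreg : ∀ x : A, IsSMulRegular N x ↔ IsSMulRegular N (algebraMap A B x) := fun x => by
          simp only [IsSMulRegular, Function.Injective, algebraMap_smul]
        have hq : ∀ x : A, Nonempty (QuotSMulTop x N ≃ₗ[A] QuotSMulTop (algebraMap A B x) N) := fun x => by
          let L : Submodule B N := algebraMap A B x • (⊤ : Submodule B N)
          let e2 : (N ⧸ L.restrictScalars A) ≃ₗ[A] (N ⧸ L) := Submodule.Quotient.restrictScalarsEquiv A L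
          have e1 : (x • (⊤ : Submodule A N)) = L.restrictScalars A := ?_
          exact ⟨(Submodule.quotEquivOfEq (x • (⊤ : Submodule A N)) (L.restrictScalars A) e1).trans e2⟩
          ext z
          change z ∈ x • (⊤ : Submodule A N) ↔ z ∈ L
          simp only [L, Submodule.mem_smul_pointwise_iff_exists, Submodule.mem_top, true_and, algebraMap_smul]
        constructor
        · intro h
          obtain ⟨x, hxa, hx⟩ := CommAlgDim.exists_isSMulRegular_mem ((CommAlgDim.hasSeqIn_one_iff a).1 (h.mono (by omega)))
          obtain ⟨e⟩ := hq x
          exact CommAlgDim.hasSeqIn_succ_of_cons (map_nonunit (algebraMap A B) x hxa) ((hreg x).1 hx) ((ih _).1 ((h.quotSMulTop hxa hx).congr e))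
        · intro h
          have hne : ∀ q ∈ associatedPrimes B N, ¬ a ≤ Ideal.comap (algebraMap A B) q := fun q hq' hle => by
            refine (CommAlgDim.hasSeqIn_one_iff aB).1 (h.mono (by omega)) q hq' ?_
            haveI : q.IsPrime := hq'.isPrime
            obtain ⟨G, hG⟩ := (inferInstance : Module.Finite B N).fg_top
            let φ : B →ₗ[A] (G → N) :=
              { toFun := fun b g => b • (g : N)
                map_add' := fun b c => funext fun g => add_smul b c _
                map_smul' := fun r b => funext fun g => smul_assoc r b _ }
            have hker : LinearMap.ker φ ≤ q.restrictScalars A := fun b hb => by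
              refine hq'.annihilator_le (Submodule.mem_annihilator.2 fun m hmem => ?_)
              clear hmem
              have hm : m ∈ Submodule.span B (G : Set N) := hG ▸ Submodule.mem_top
              induction hm using Submodule.span_induction with
              | mem x hx => exact congrFun hb ⟨x, hx⟩
              | zero => exact smul_zero _
              | add x y _ _ hx hy => rw [smul_add, hx, hy, add_zero]
              | smul c x _ hx => rw [smul_comm, hx, smul_zero]
            haveI : Module.Finite A (B ⧸ LinearMap.ker φ) := Module.Finite.equiv φ.quotKerEquivRange.symm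
            haveI : Module.Finite A (B ⧸ q) :=
              Module.Finite.of_surjective ((Submodule.Quotient.restrictScalarsEquiv A q).toLinearMap ∘ₗ Submodule.factor hker) ((Submodule.Quotient.restrictScalarsEquiv A q).surjective.comp (Submodule.factor_surjective hker))
            haveI : Algebra.IsIntegral A (B ⧸ q) := Algebra.IsIntegral.of_finite A _
            have hmax : (q.comap (algebraMap A B)).IsMaximal := by
              rw [← (IsLocalRing.maximalIdeal.isMaximal A).eq_of_le (Ideal.IsPrime.comap (algebraMap A B) (K := q)).ne_top hle]
              infer_instance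
            have hmax' : (⊥ : Ideal (B ⧸ q)).IsMaximal := Ideal.isMaximal_of_isIntegral_of_isMaximal_comap (R := A) ⊥ (by
              rw [show Ideal.comap (algebraMap A (B ⧸ q)) ⊥ = q.comap (algebraMap A B) by
                rw [IsScalarTower.algebraMap_eq A B (B ⧸ q), ← Ideal.comap_comap, ← RingHom.ker_eq_comap_bot, Ideal.Quotient.algebraMap_eq, Ideal.mk_ker]]
              exact hmax)
            haveI : q.IsMaximal := by
              rw [← Ideal.mk_ker (I := q), RingHom.ker_eq_comap_bot]
              exact Ideal.comap_isMaximal_of_surjective _ Ideal.Quotient.mk_surjective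
            exact (IsLocalRing.eq_maximalIdeal (I := q) inferInstance).ge
          obtain ⟨x, hxa, hx⟩ : ∃ x ∈ a, IsSMulRegular N (algebraMap A B x) := by
            by_contra hcon
            push Not at hcon
            have hfin := associatedPrimes.finite B N
            have hsub : (a : Set A) ⊆ ⋃ q ∈ hfin.toFinset, (Ideal.comap (algebraMap A B) q : Set A) := fun x hx => by
              have h1 : algebraMap A B x ∈ {r : B | IsSMulRegular N r}ᶜ := hcon x hx
              rw [← biUnion_associatedPrimes_eq_compl_regular B N] at h1
              simpa using h1
            obtain ⟨q, hq', hle⟩ := (Ideal.subset_union_prime ⊥ ⊥ (fun i hi _ _ => (hfin.mem_toFinset.1 hi).isPrime.comap _)).1 hsub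
            exact hne q (hfin.mem_toFinset.1 hq') hle
          obtain ⟨e⟩ := hq x
          exact CommAlgDim.hasSeqIn_succ_of_cons hxa ((hreg x).2 hx) (((ih _).2 (h.quotSMulTop (map_nonunit (algebraMap A B) x hxa) hx)).congr e.symm)
    haveI : Module.Finite B M := Module.Finite.of_restrictScalars_finite A B M
    refine le_antisymm ?_ ?_ <;> refine ENat.forall_natCast_le_iff_le.1 fun n hn => ?_
    · exact (CommAlgDim.le_idealDepth_iff _ n).2 ((key n M).1 ((CommAlgDim.le_idealDepth_iff _ n).1 hn))
    · exact (CommAlgDim.le_idealDepth_iff _ n).2 ((key n M).2 ((CommAlgDim.le_idealDepth_iff _ n).1 hn))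

end Groth.Agent.S5756
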