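import Groth.Statements.S0546
import Mathlib.RingTheory.AdicCompletion.Basic
import Mathlib.RingTheory.Finiteness.Basic
import Mathlib.RingTheory.Finiteness.Ideal
-- import your own Groth.Agent.* helpers here

set_option autoImplicit false
universe u
open CAlg

namespace Groth.Agent.S0546

/-- If `I ≤ J` are ideals with `I` finitely generated and `M` is `J`-adically complete, then `M` is
`I`-adically complete. -/
theorem result (A : Type u) [CommRing A] (I J : Ideal A) (hIJ : I ≤ J)
    (hI : I.FG) (M : Type u) [AddCommGroup M] [Module A M] [IsAdicComplete J M] :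
    IsAdicComplete I M := by
  classical
  have le : ∀ n, I ^ n • (⊤ : Submodule A M) ≤ J ^ n • ⊤ := fun n => Submodule.smul_mono (Ideal.pow_right_mono hIJ n) le_rfl
  haveI : IsHausdorff I M := ⟨fun x hx => IsHausdorff.haus (I := J) inferInstance x fun n => (hx n).mono (le n)⟩
  have series : ∀ t : ℕ → M, (∀ k, t k ∈ J ^ k • (⊤ : Submodule A M)) →
      ∃ z : M, ∀ N, z - ∑ k ∈ Finset.range N, t k ∈ J ^ N • (⊤ : Submodule A M) := by
    intro t ht
    have hc : ∀ {a b : ℕ}, a ≤ b → (∑ k ∈ Finset.range a, t k) ≡ (∑ k ∈ Finset.range b, t k) [SMOD (J ^ a • ⊤ : Submodule A M)] := by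
      intro a b hab
      rw [SModEq.sub_mem, ← Finset.sum_range_add_sum_Ico t hab, sub_add_cancel_left]
      exact Submodule.neg_mem _ (Submodule.sum_mem _ fun k hk =>
        Submodule.smul_mono (Ideal.pow_le_pow_right (Finset.mem_Ico.mp hk).1) le_rfl (ht k))
    obtain ⟨z, hz⟩ := IsPrecomplete.prec (I := J) inferInstance hc
    exact ⟨z, fun N => SModEq.sub_mem.mp (hz N).symm⟩
  haveI : IsPrecomplete I M := ⟨fun {x} hx => by
    have hd : ∀ k, x (k + 1) - x k ∈ I ^ k • (⊤ : Submodule A M) := fun k =>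
      (SModEq.sub_mem).mp (hx (Nat.le_succ k)).symm
    obtain ⟨z, hz⟩ := series _ fun k => le k (hd k)
    refine ⟨x 0 + z, fun n => SModEq.symm (SModEq.sub_mem.mpr ?_)⟩
    obtain ⟨G, hG⟩ : ∃ G : Finset A, Ideal.span (G : Set A) = I ^ n := Ideal.FG.pow (n := n) hI
    have dec : ∀ N : Submodule A M, ∀ y ∈ I ^ n • N, ∃ l : A → M, (∀ g, l g ∈ N) ∧ y = ∑ g ∈ G, g • l g := by
      intro N y hy
      refine Submodule.smul_induction_on hy (fun r hr w hw => ?_) (fun a b ha hb => ?_)
      · rw [← hG, Ideal.span, Submodule.mem_span_finset] at hr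
        obtain ⟨c, -, rfl⟩ := hr
        refine ⟨fun g => c g • w, fun g => N.smul_mem _ hw, ?_⟩
        rw [Finset.sum_smul]
        exact Finset.sum_congr rfl fun g _ => by rw [smul_eq_mul, mul_comm, mul_smul]
      · obtain ⟨l, hl, rfl⟩ := ha
        obtain ⟨l', hl', rfl⟩ := hb
        exact ⟨l + l', fun g => N.add_mem (hl g) (hl' g), by simp only [Pi.add_apply, smul_add, Finset.sum_add_distrib]⟩
    have key : ∀ k, ∃ l : A → M, (∀ g, l g ∈ I ^ k • (⊤ : Submodule A M)) ∧
        x (n + k + 1) - x (n + k) = ∑ g ∈ G, g • l g := fun k =>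
      dec _ _ (by rw [← mul_smul, ← pow_add]; exact hd (n + k))
    choose l hl hsum using key
    choose w hw using fun g => series (fun k => l k g) (fun k => le k (hl k g))
    have hsn : x 0 + z - x n = ∑ g ∈ G, g • w g := by
      rw [← sub_eq_zero]
      refine IsHausdorff.haus (I := J) inferInstance _ fun m => ?_
      rw [SModEq.sub_mem, sub_zero]
      have e1 := Submodule.smul_mono (Ideal.pow_le_pow_right (show m ≤ n + m by omega)) le_rfl (hz (n + m))
      have e2 : (∑ g ∈ G, g • w g) - ∑ g ∈ G, g • ∑ k ∈ Finset.range m, l k g ∈ J ^ m • (⊤ : Submodule A M) := by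
        rw [← Finset.sum_sub_distrib]
        exact Submodule.sum_mem _ fun g _ => by rw [← smul_sub]; exact Submodule.smul_mem _ _ (hw g m)
      have e3 : ∑ g ∈ G, g • ∑ k ∈ Finset.range m, l k g = x (n + m) - x n := by
        simp only [Finset.smul_sum]
        rw [Finset.sum_comm, ← Finset.sum_congr rfl fun k _ => hsum k]
        simpa [add_assoc] using Finset.sum_range_sub (fun k => x (n + k)) m
      rw [Finset.sum_range_sub] at e1
      convert Submodule.sub_mem _ e1 e2 using 1
      rw [e3]
      abel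
    rw [hsn]
    exact Submodule.sum_mem _ fun g hg => Submodule.smul_mem_smul (hG ▸ Ideal.subset_span hg) trivial⟩
  exact { }

end Groth.Agent.S0546
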