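import Groth.Statements.S3353
import Groth.Agent.PicLiftLib.CIPic

set_option autoImplicit false
universe u
open AlgebraicGeometry
open ParaF

namespace Groth.Agent.S3353

/-- Let A be a Noetherian local ring of Krull dimension at least 4 which is a complete intersection: A
is isomorphic to the quotient of a regular local ring by an ideal generated by a regular sequence
contained in the maximal ideal. Then A is parafactorial: for every open V of Spec A, restriction of
invertible modules from V to V minus the closed point is fully faithful and essentially surjective. -/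
theorem result (A : Type u) [CommRing A] [IsLocalRing A] [IsNoetherianRing A] (hA : SGA2.IsAbsCompleteIntersection A) (hdim : (4 : WithBot ℕ∞) ≤ ringKrullDim A) : ParaF.IsParafactorialLocalRing A := by
  obtain ⟨B, _, _, rs, -, hreg, ⟨e⟩⟩ := hA
  change A ≃+* B ⧸ Ideal.ofList rs at e
  haveI : IsLocalRing (B ⧸ Ideal.ofList rs) := e.isLocalRing
  have hC : CommAlgDim.IsCM A :=
    CatLib.isCM_of_ringEquiv e.symm
      (PicLiftLib.isCM_quot _ B rs rfl (CommAlgDim.isCM_of_isRegularLocalRing B) hreg)
  rw [ParaFLib.isParafactorialLocalRing_iff, ← ParaFLib.h0_puncturedSpec_iff]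
  exact ⟨(ParaFLib.h0_iff_depth A).2 (PicLiftLib.two_le_depth_of_isCM hC hdim),
    PicLiftLib.picTrivial_ci rs.length B rs rfl hreg A e hdim⟩
end Groth.Agent.S3353
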