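import Groth.Statements.S5182
import Mathlib

set_option autoImplicit false
universe u
open CInt

namespace Groth.Agent.S5182

open RingTheory.Sequence

variable {A : Type u} [CommRing A]

/-- Weakly regular sequences pass to extensions. -/
theorem weaklyRegular_extension (rs : List A) : ∀ {M' M M'' : Type u} [AddCommGroup M'] [Module A M']
    [AddCommGroup M] [Module A M] [AddCommGroup M''] [Module A M''] (f : M' →ₗ[A] M) (g : M →ₗ[A] M''),
    Function.Injective f → Function.Exact f g → Function.Surjective g →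
    IsWeaklyRegular M' rs → IsWeaklyRegular M'' rs → IsWeaklyRegular M rs := by
  induction rs with
  | nil => intros; exact IsWeaklyRegular.nil A _
  | cons r rs ih =>
    intro M' M M'' _ _ _ _ _ _ f g hf hfg hg h' h''
    rw [isWeaklyRegular_cons_iff] at h' h''
    refine IsWeaklyRegular.cons ?_ (ih (QuotSMulTop.map r f) (QuotSMulTop.map r g) ?_
      (QuotSMulTop.map_exact r hfg hg) (QuotSMulTop.map_surjective r hg) h'.2 h''.2)
    · refine isSMulRegular_iff_right_eq_zero_of_smul.2 fun m hm => ?_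
      obtain ⟨n, rfl⟩ := (hfg m).1 (h''.1.right_eq_zero_of_smul (by rw [← map_smul, hm, map_zero]))
      rw [← map_smul, map_eq_zero_iff f hf] at hm
      rw [h'.1.right_eq_zero_of_smul hm, map_zero]
    · refine (injective_iff_map_eq_zero _).2 fun x hx => ?_
      obtain ⟨m', rfl⟩ := Submodule.Quotient.mk_surjective _ x
      rw [QuotSMulTop.map_apply_mk, Submodule.Quotient.mk_eq_zero,
        Submodule.mem_smul_pointwise_iff_exists] at hx
      obtain ⟨m, -, hm⟩ := hx
      obtain ⟨n, rfl⟩ := (hfg m).1 (h''.1.right_eq_zero_of_smul (by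
        rw [← map_smul, hm]; exact hfg.apply_apply_eq_zero m'))
      rw [← map_smul] at hm
      rw [← hf hm, Submodule.Quotient.mk_eq_zero]
      exact Submodule.smul_mem_pointwise_smul n r ⊤ trivial

variable (J : Ideal A)

theorem mem_smul_top_iff (I : Ideal A) (m : ℕ) (x : ↥(J ^ m)) :
    x ∈ I • (⊤ : Submodule A ↥(J ^ m)) ↔ (x : A) ∈ I * J ^ m := by
  have h : Submodule.map (Submodule.subtype (J ^ m)) (I • (⊤ : Submodule A ↥(J ^ m))) = I * J ^ m := by
    rw [Submodule.map_smul'', Submodule.map_top, Submodule.range_subtype]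
    rfl
  rw [← h]
  exact (Function.Injective.mem_set_image (f := Submodule.subtype (J ^ m)) Subtype.val_injective).symm

/-- The associated graded pieces. -/
theorem weaklyRegular_gr (fs : List A) (hreg : IsWeaklyRegular (A ⧸ J) fs) (k : ℕ)
    [Module.Flat (A ⧸ J) (↥(J ^ k) ⧸ (J • (⊤ : Submodule A ↥(J ^ k))))] :
    IsWeaklyRegular (↥(J ^ k) ⧸ (J • (⊤ : Submodule A ↥(J ^ k)))) fs := by
  let G := ↥(J ^ k) ⧸ (J • (⊤ : Submodule A ↥(J ^ k)))
  have h1 := ((isWeaklyRegular_map_algebraMap_iff (R := A) (A ⧸ J) (A ⧸ J) fs).2 hreg).isWeaklyRegular_rTensor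
    (M₂ := G)
  exact (isWeaklyRegular_map_algebraMap_iff (R := A) (A ⧸ J) G fs).1
    (((TensorProduct.lid (A ⧸ J) G).isWeaklyRegular_congr _).1 h1)

/-- Truncations of a power of `J`. -/
theorem weaklyRegular_trunc (fs : List A) (hgr : ∀ m, IsWeaklyRegular (↥(J ^ m) ⧸ (J • (⊤ : Submodule A ↥(J ^ m)))) fs)
    (k : ℕ) : ∀ j, IsWeaklyRegular (↥(J ^ k) ⧸ (J ^ (j + 1) • (⊤ : Submodule A ↥(J ^ k)))) fs
  | 0 => ((Submodule.quotEquivOfEq _ _ (by rw [zero_add, pow_one])).isWeaklyRegular_congr fs).2 (hgr k)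
  | j + 1 => by
    let incl : ↥(J ^ (k + (j + 1))) →ₗ[A] ↥(J ^ k) :=
      Submodule.inclusion (Ideal.pow_le_pow_right (Nat.le_add_right _ _))
    have hincl : J • (⊤ : Submodule A ↥(J ^ (k + (j + 1)))) ≤
        (J ^ (j + 1 + 1) • (⊤ : Submodule A ↥(J ^ k))).comap incl := fun x hx => by
      rw [mem_smul_top_iff] at hx
      have he : J ^ (j + 1 + 1) * J ^ k = J * J ^ (k + (j + 1)) := by rw [← pow_succ', ← pow_add]; ring_nf
      rw [Submodule.mem_comap, mem_smul_top_iff, he]
      exact hx
    have hle : J ^ (j + 1 + 1) • (⊤ : Submodule A ↥(J ^ k)) ≤ J ^ (j + 1) • ⊤ :=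
      Submodule.smul_mono_left (Ideal.pow_le_pow_right (by omega))
    refine weaklyRegular_extension fs (Submodule.mapQ _ _ incl hincl) (Submodule.factor hle) ?_ ?_
      (Submodule.factor_surjective hle) (hgr _) (weaklyRegular_trunc fs hgr k j)
    · refine (injective_iff_map_eq_zero _).2 fun x hx => ?_
      obtain ⟨x, rfl⟩ := Submodule.Quotient.mk_surjective _ x
      rw [Submodule.mapQ_apply, Submodule.Quotient.mk_eq_zero, mem_smul_top_iff] at hx
      have he : J ^ (j + 1 + 1) * J ^ k = J * J ^ (k + (j + 1)) := by rw [← pow_succ', ← pow_add]; ring_nf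
      rw [he] at hx
      rw [Submodule.Quotient.mk_eq_zero, mem_smul_top_iff]
      exact hx
    · intro y
      obtain ⟨y, rfl⟩ := Submodule.Quotient.mk_surjective _ y
      show (Submodule.Quotient.mk y : _ ⧸ J ^ (j + 1) • (⊤ : Submodule A ↥(J ^ k))) = 0 ↔ _
      rw [Submodule.Quotient.mk_eq_zero, mem_smul_top_iff]
      constructor
      · intro hy
        rw [← pow_add, show j + 1 + k = k + (j + 1) by omega] at hy
        exact ⟨Submodule.Quotient.mk ⟨y.1, hy⟩, rfl⟩
      · rintro ⟨x, hx⟩
        obtain ⟨x, rfl⟩ := Submodule.Quotient.mk_surjective _ x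
        rw [Submodule.mapQ_apply, Submodule.Quotient.eq] at hx
        have h1 := (mem_smul_top_iff J _ k _).1 (hle hx)
        have h2 : (x : A) ∈ J ^ (j + 1) * J ^ k := by
          rw [← pow_add, show j + 1 + k = k + (j + 1) by omega]; exact x.2
        have h3 := Ideal.sub_mem _ h2 h1
        simpa [incl] using h3


/-- In the local algebraic form to which its proof reduces. Let A be a Noetherian local ring, J a proper
ideal such that A is normally flat along J, i.e. every J^k/J^{k+1} is a flat (equivalently free)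
A/J-module, and f_1, …, f_r elements of A whose images form a weakly regular sequence on A/J (each
f_i a non-zero-divisor on A/J modulo the preceding ones). Then for every k ≥ 0 the f_i form a weakly
regular sequence on the A-module J^k and on the A-module J^k/J^{k+1}; in particular (k = 0) on A
itself, so that they are regular on the Rees algebra ⊕ J^k and on the associated graded ring ⊕
J^k/J^{k+1}. -/
theorem result (A : Type u) [CommRing A] [IsLocalRing A] [IsNoetherianRing A] (J : Ideal A) (hJ : J ≠ ⊤) (hflat : ∀ k : ℕ, Module.Flat (A ⧸ J) (↥(J ^ k) ⧸ (J • (⊤ : Submodule A ↥(J ^ k))))) (fs : List A) (hreg : RingTheory.Sequence.IsWeaklyRegular (A ⧸ J) fs) (k : ℕ) : RingTheory.Sequence.IsWeaklyRegular (↥(J ^ k)) fs ∧ RingTheory.Sequence.IsWeaklyRegular (↥(J ^ k) ⧸ (J • (⊤ : Submodule A ↥(J ^ k)))) fs := by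
  have hgr : ∀ m, RingTheory.Sequence.IsWeaklyRegular (↥(J ^ m) ⧸ (J • (⊤ : Submodule A ↥(J ^ m)))) fs :=
    fun m => haveI := hflat m; weaklyRegular_gr J fs hreg m
  refine ⟨⟨fun i hi => ?_⟩, hgr k⟩
  rw [isSMulRegular_quotient_iff_mem_of_smul_mem]
  intro m hm
  set P : Submodule A ↥(J ^ k) := Ideal.ofList (fs.take i) • ⊤ with hP
  have hlim : Submodule.Quotient.mk (p := P) m ∈ ⨅ j : ℕ, J ^ j • (⊤ : Submodule A (↥(J ^ k) ⧸ P)) := by
    refine Submodule.mem_iInf _ |>.2 fun j => ?_
    refine Submodule.smul_mono_left (Ideal.pow_le_pow_right (Nat.le_succ j)) ?_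
    have hreg' := (weaklyRegular_trunc J fs hgr k j).regular_mod_prev i hi
    rw [isSMulRegular_quotient_iff_mem_of_smul_mem] at hreg'
    let π := (J ^ (j + 1) • (⊤ : Submodule A ↥(J ^ k))).mkQ
    have hπ : Submodule.map π P = Ideal.ofList (fs.take i) • ⊤ := by
      rw [hP, Submodule.map_smul'', Submodule.map_top, LinearMap.range_eq_top.2 (Submodule.mkQ_surjective _)]
    have h1 : π m ∈ Ideal.ofList (fs.take i) • (⊤ : Submodule A _) := hreg' _ (by
      rw [← map_smul, ← hπ]
      exact Submodule.mem_map_of_mem hm)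
    rw [← hπ] at h1
    obtain ⟨p, hp, hpm⟩ := h1
    have h2 : m - p ∈ J ^ (j + 1) • (⊤ : Submodule A ↥(J ^ k)) := (Submodule.Quotient.eq _).1 hpm.symm
    have h3 := Submodule.mem_map_of_mem (f := P.mkQ) h2
    rw [Submodule.map_smul'', Submodule.map_top, LinearMap.range_eq_top.2 (Submodule.mkQ_surjective _),
      map_sub, show P.mkQ p = 0 from (Submodule.Quotient.mk_eq_zero P).2 hp, sub_zero] at h3
    exact h3
  haveI : Module.Finite A ↥(J ^ k) := Module.Finite.of_fg (IsNoetherian.noetherian _)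
  rw [Ideal.iInf_pow_smul_eq_bot_of_isLocalRing J hJ] at hlim
  exact (Submodule.Quotient.mk_eq_zero P).1 ((Submodule.mem_bot A).1 hlim)

end Groth.Agent.S5182
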