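import Mathlib.Algebra.Homology.DerivedCategory.Basic
import Mathlib.Algebra.Homology.HomotopyCategory.MappingCocone
import Mathlib.Algebra.Homology.Embedding.CochainComplex
import Mathlib.CategoryTheory.ObjectProperty.ClosedUnderIsomorphisms
import Groth.Agent.AcycResLib.LeftRes

/-!
# A split direct system of left resolutions of the truncations of a complex
-/

set_option autoImplicit false
set_option linter.style.haveILetI false
set_option backward.isDefEq.respectTransparency false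
set_option backward.isDefEq.respectTransparency.types false

universe v u

open CategoryTheory CategoryTheory.Limits HomologicalComplex CochainComplex CochainComplex.HomComplex

namespace Groth.Agent.LeftSysLib

variable {A : Type u} [Category.{v} A] [Abelian A]

section hEquiv

variable {Q T : CochainComplex A ℤ} (f : Q ⟶ T)

lemma δ_cocone_snd :
    δ (-1) 0 (mappingCocone.snd f) = -Cochain.ofHom (mappingCocone.fst f ≫ f) := by
  have h : mappingCocone.snd f = mappingCocone.descCochain f 0 (Cochain.ofHom (𝟙 T)) (neg_add_cancel 1) := by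
    ext p q hpq
    rw [← cancel_epi (𝟙 _), ← mappingCocone.id_X f p q hpq]
    simp
  rw [h, mappingCocone.δ_descCochain _ _ _ _ 1 rfl]
  simp

lemma δ_cocone_inl :
    δ 0 1 (mappingCocone.inl f) =
      -(Cochain.ofHom f).comp (mappingCocone.inr f).1 (zero_add 1) := by
  have h : mappingCocone.inl f =
      mappingCocone.liftCochain f (Cochain.ofHom (𝟙 Q)) 0 (neg_add_cancel 1) := by
    ext p
    rw [← cancel_mono (𝟙 _), ← mappingCocone.id_X f p (p + -1) rfl]
    simp [← Category.assoc]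
  rw [h, mappingCocone.δ_liftCochain _ _ _ _ 1 rfl]
  simp

/-- The canonical map to the target from the cone of the projection of the cocone. -/
noncomputable def toTgt : mappingCone (mappingCocone.fst f) ⟶ T :=
  mappingCone.desc _ (-mappingCocone.snd f) f (by simp [δ_cocone_snd])

/-- Its section. -/
noncomputable def fromTgt : T ⟶ mappingCone (mappingCocone.fst f) :=
  Cocycle.homOf (Cocycle.mk
    (-(mappingCocone.inr f).1.comp (mappingCone.inl (mappingCocone.fst f)) (add_neg_cancel 1)) 1 (zero_add 1)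
    (by
      ext p q hpq
      simp [δ_comp _ _ (add_neg_cancel (1:ℤ)) 2 0 1 rfl rfl rfl, Cochain.comp_v (n₁ := 1) (n₂ := 0) _ _ _ p q q hpq (add_zero q)]))

lemma fromTgt_f (p : ℤ) :
    (fromTgt f).f p = -((mappingCocone.inr f).1.v p (p + 1) rfl ≫
      (mappingCone.inl (mappingCocone.fst f)).v (p + 1) p (by omega)) := by
  simp [fromTgt, Cochain.comp_v (n₁ := 1) (n₂ := -1) _ _ _ p (p + 1) p rfl (by omega)]

lemma fromTgt_toTgt : fromTgt f ≫ toTgt f = 𝟙 T := by
  ext p
  simp [fromTgt_f, toTgt]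

/-- The homotopy equivalence. -/
noncomputable def toTgtEquiv : HomotopyEquiv (mappingCone (mappingCocone.fst f)) T where
  hom := toTgt f
  inv := fromTgt f
  homotopyInvHomId := Homotopy.ofEq (fromTgt_toTgt f)
  homotopyHomInvId := (mappingCone.descHomotopy _ _ _ 0
    ((mappingCocone.inl f).comp (mappingCone.inl (mappingCocone.fst f)) (zero_add (-1)))
    (by
      ext p q hpq
      have e := mappingCocone.id_X f p q hpq
      simp [toTgt, fromTgt_f, Cochain.comp_v (n₁ := (0:ℤ)) (n₂ := -1) _ _ _ p p q (add_zero p) hpq]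
      obtain rfl : p = q + 1 := by omega
      conv_lhs => rw [← Category.id_comp ((mappingCone.inl (mappingCocone.fst f)).v (q+1) q hpq), ← e]
      simp [Preadditive.add_comp])
    (by
      ext p
      simp [toTgt, fromTgt_f, δ_comp _ _ (zero_add (-1:ℤ)) 1 0 0 rfl rfl rfl, δ_cocone_inl,
        Cochain.comp_v (n₁ := (0:ℤ)) (n₂ := 0) _ _ _ p p p (add_zero p) (add_zero p),
        Cochain.comp_v (n₁ := 1) (n₂ := -1) _ _ _ p (p + 1) p rfl (by omega),
        Cochain.comp_v (n₁ := (0:ℤ)) (n₂ := 1) _ _ _ p p (p+1) (add_zero p) rfl]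
      )).symm

end hEquiv

variable (P : ObjectProperty A) [P.IsClosedUnderIsomorphisms]
  (hP0 : ∃ Z : A, IsZero Z ∧ P Z) (hPsum : ∀ X Y : A, P X → P Y → P (X ⊞ Y))
  (hP : ∀ X : A, ∃ (Y : A) (π : Y ⟶ X), P Y ∧ Epi π)

/-- A left resolution of a complex by a bounded above complex with terms in `P`. -/
structure Res (T : CochainComplex A ℤ) where
  Q : CochainComplex A ℤ
  π : Q ⟶ T
  qis : QuasiIso π
  epi : ∀ i, Epi (π.f i)
  bound : ∃ b : ℤ, Q.IsStrictlyLE b
  mem : ∀ i, P (Q.X i)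

include hP0 hPsum hP

lemma step {T : CochainComplex A ℤ} (Q : CochainComplex A ℤ) (f : Q ⟶ T) (hQ : ∀ i, P (Q.X i))
    (hb : ∃ b : ℤ, Q.IsStrictlyLE b) (n : ℤ) [T.IsStrictlyLE n] :
    ∃ (R : Res P T) (ι : Q ⟶ R.Q), ι ≫ R.π = f ∧
      ∀ i, (∃ r : R.Q.X i ⟶ Q.X i, ι.f i ≫ r = 𝟙 _) ∧ P (cokernel (ι.f i)) := by
  obtain ⟨b, hb⟩ := hb
  let m : ℤ := max b (n + 1)
  have hC : (mappingCocone f).IsStrictlyLE m := by
    rw [CochainComplex.isStrictlyLE_iff]
    intro i hi
    rw [IsZero.iff_id_eq_zero, ← mappingCocone.id_X f i (i + -1) rfl,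
      (Q.isZero_of_isStrictlyLE b i (by omega)).eq_of_tgt ((mappingCocone.fst f).f i) 0,
      (T.isZero_of_isStrictlyLE n (i + -1) (by omega)).eq_of_tgt ((mappingCocone.snd f).v i (i + -1) rfl) 0,
      zero_comp, zero_comp, add_zero]
  obtain ⟨R, ρ, hRle, hR, hρe, hρq⟩ := Groth.Agent.AcycResLib.exists_left_resolution
    (fun X => P X) hP0 hP (mappingCocone f) m
  let g : R ⟶ Q := ρ ≫ mappingCocone.fst f
  have hg : g ≫ 𝟙 Q = ρ ≫ mappingCocone.fst f := Category.comp_id _
  let π : mappingCone g ⟶ T :=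
    mappingCone.map g (mappingCocone.fst f) ρ (𝟙 Q) hg ≫ toTgt f
  have hmap : QuasiIso (mappingCone.map g (mappingCocone.fst f) ρ (𝟙 Q) hg) := by
    letI := HasDerivedCategory.standard A
    rw [← DerivedCategory.isIso_Q_map_iff_quasiIso]
    exact Pretriangulated.isIso₃_of_isIso₁₂
      (DerivedCategory.Q.mapTriangle.map (mappingCone.triangleMap g (mappingCocone.fst f) ρ (𝟙 Q) hg))
      (DerivedCategory.mappingCone_triangle_distinguished _)
      (DerivedCategory.mappingCone_triangle_distinguished _)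
      (show IsIso (DerivedCategory.Q.map ρ) by rw [DerivedCategory.isIso_Q_map_iff_quasiIso]; exact hρq)
      (show IsIso (DerivedCategory.Q.map (𝟙 Q)) by infer_instance)
  have hπe : ∀ i, Epi (π.f i) := by
    intro i
    have h1 : (mappingCone.inl g).v (i + 1) i (by omega) ≫ π.f i =
        -(ρ.f (i + 1) ≫ (mappingCocone.snd f).v (i + 1) i (by omega)) := by
      simp [π, mappingCone.map, toTgt]
    have : Epi ((mappingCocone.snd f).v (i + 1) i (by omega)) :=
      epi_of_epi_fac (mappingCocone.inr_v_snd_v f i (i + 1) rfl)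
    have := hρe (i + 1)
    haveI : Epi ((mappingCone.inl g).v (i + 1) i (by omega) ≫ π.f i) := by
      rw [h1]
      infer_instance
    exact epi_of_epi ((mappingCone.inl g).v (i + 1) i _) (π.f i)
  have hπq : QuasiIso π := by
    have : QuasiIso (toTgt f) := (toTgtEquiv f).quasiIso_hom
    infer_instance
  let S : ∀ i, ShortComplex A := fun i => ShortComplex.mk ((mappingCone.inr g).f i)
    ((mappingCone.fst g).1.v i (i + 1) rfl) (by simp)
  let s : ∀ i, (S i).Splitting := fun i =>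
    { r := (mappingCone.snd g).v i i (add_zero i)
      s := (mappingCone.inl g).v (i + 1) i (by omega)
      f_r := by simp [S]
      s_g := by simp [S]
      id := by
        have := mappingCone.id_X g i (i + 1) rfl
        dsimp [S]
        rw [add_comm, this] }
  have hmem : ∀ i, P ((mappingCone g).X i) := fun i =>
    P.prop_of_iso (s i).isoBinaryBiproduct.symm (hPsum _ _ (hQ i) (hR (i + 1)))
  have hbd : (mappingCone g).IsStrictlyLE m := by
    rw [CochainComplex.isStrictlyLE_iff]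
    intro i hi
    exact (mappingCone.isZero_X_iff _ _).2
      ⟨R.isZero_of_isStrictlyLE m _ (by omega), Q.isZero_of_isStrictlyLE b _ (by omega)⟩
  refine ⟨⟨_, π, hπq, hπe, ⟨m, hbd⟩, hmem⟩, mappingCone.inr g, ?_, fun i => ⟨⟨_, (s i).f_r⟩, ?_⟩⟩
  · simp [π, mappingCone.map, toTgt]
  · exact P.prop_of_iso ((cokernelIsCokernel _).coconePointUniqueUpToIso (s i).gIsCokernel).symm
      (hR (i + 1))

lemma exists_system (K : CochainComplex A ℤ) :
    ∃ (Q : ℕ → CochainComplex A ℤ) (ι : ∀ n, Q n ⟶ Q (n + 1)) (π : ∀ n : ℕ, Q n ⟶ K.truncLE (n : ℤ)),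
      (∀ n, QuasiIso (π n) ∧ ∀ i, Epi ((π n).f i)) ∧
      (∀ n, ∃ b : ℤ, (Q n).IsStrictlyLE b) ∧ (∀ n i, P ((Q n).X i)) ∧
      (∀ n i, (∃ r : (Q (n + 1)).X i ⟶ (Q n).X i, (ι n).f i ≫ r = 𝟙 _) ∧ P (cokernel ((ι n).f i))) ∧
      (∀ n : ℕ, π n ≫ K.ιTruncLE (n : ℤ) = ι n ≫ π (n + 1) ≫ K.ιTruncLE ((n + 1 : ℕ) : ℤ)) := by
  have ht : ∀ n : ℕ, ∃ t : K.truncLE (n : ℤ) ⟶ K.truncLE ((n + 1 : ℕ) : ℤ),
      t ≫ K.ιTruncLE _ = K.ιTruncLE _ := by
    intro n
    haveI : (K.truncLE (n : ℤ)).IsStrictlyLE ((n + 1 : ℕ) : ℤ) :=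
      CochainComplex.isStrictlyLE_of_le _ (n : ℤ) _ (by omega)
    refine ⟨inv ((K.truncLE (n : ℤ)).ιTruncLE ((n + 1 : ℕ) : ℤ)) ≫
      CochainComplex.truncLEMap (K.ιTruncLE (n : ℤ)) _, ?_⟩
    simp [CochainComplex.ιTruncLE_naturality]
  choose t ht using ht
  obtain ⟨Q₀, α, hle, hmem, hepi, hq⟩ := Groth.Agent.AcycResLib.exists_left_resolution
    (fun X => P X) hP0 hP (K.truncLE ((0 : ℕ) : ℤ)) ((0 : ℕ) : ℤ)
  have hstep := fun (n : ℕ) (R : Res P (K.truncLE (n : ℤ))) =>
    step P hP0 hPsum hP R.Q (R.π ≫ t n) R.mem R.bound ((n + 1 : ℕ) : ℤ)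
  choose next ι hι hsp using hstep
  let R : ∀ n : ℕ, Res P (K.truncLE (n : ℤ)) := fun n =>
    Nat.rec (motive := fun n => Res P (K.truncLE (n : ℤ))) ⟨Q₀, α, hq, hepi, ⟨_, hle⟩, hmem⟩ next n
  refine ⟨fun n => (R n).Q, fun n => ι n (R n), fun n => (R n).π, fun n => ⟨(R n).qis, (R n).epi⟩,
    fun n => (R n).bound, fun n => (R n).mem, fun n i => hsp n (R n) i, fun n => ?_⟩
  show _ = ι n (R n) ≫ (next n (R n)).π ≫ _
  rw [← Category.assoc, hι, Category.assoc, ht]

end Groth.Agent.LeftSysLib
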