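import Groth.Statements.S17383
import Groth.Agent.LinSysLib.QProj
import Groth.Agent.S17381
import Groth.Agent.S17382
import Groth.Agent.LocImmLib.Graph
import Groth.Agent.RGFlatLib.CommonTarget

set_option autoImplicit false
universe u
open FlatMor

namespace Groth.Agent.S17383

open AlgebraicGeometry CategoryTheory Limits in
/-- Let S be a quasi-compact quasi-separated scheme, f : X → S a separated morphism of finite type, and
U ⊆ X a quasi-compact dense open subscheme which is quasi-projective over S (of finite type with a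
relatively ample invertible module). Then there are a blowing up q : X' → X in a quasi-coherent
ideal of finite type with support disjoint from U, a projective morphism g : P → S (P the relative
homogeneous spectrum of a quasi-coherent graded algebra generated in degree one with degree-one part
of finite type) and an open immersion j : X' → P with dense image such that j ≫ g = q ≫ f. The
centre of the blow-up misses the prescribed open U. -/
theorem result
    {X S : Scheme.{u}} [CompactSpace S] [QuasiSeparatedSpace S]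
    (f : X ⟶ S) [IsSeparated f] [QuasiCompact f] [LocallyOfFiniteType f]
    (U : X.Opens) (hU : IsCompact (U : Set X)) (hUd : Dense (U : Set X))
    (hq : RelProj.IsQuasiProjective (U.ι ≫ f)) :
    ∃ (𝓘 : X.IdealSheafData) (X' P : Scheme.{u}) (q : X' ⟶ X) (j : X' ⟶ P) (g : P ⟶ S),
      BlowUp.IsBlowUp q 𝓘 ∧ BlowUp.IsAdmissibleFor U 𝓘 ∧ RelProj.IsProjective g ∧
      IsOpenImmersion j ∧ IsDominant j ∧ j ≫ g = q ≫ f := by
  obtain ⟨P₀, j₀, g₀, hj₀, hj₀q, hj₀d, hg₀, hjg₀⟩ := LinSysLib.exists_projective_compactification hq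
  haveI := hj₀
  haveI := hj₀q
  haveI := hj₀d
  haveI := RelProjLib.isProper_of_isProjective hg₀
  haveI : IsDominant j₀ := inferInstance
  haveI : CompactSpace X := QuasiCompact.compactSpace_of_compactSpace f
  haveI : QuasiSeparatedSpace X := quasiSeparatedSpace_of_quasiSeparated f
  haveI : CompactSpace P₀ := QuasiCompact.compactSpace_of_compactSpace g₀
  haveI : QuasiSeparatedSpace P₀ := quasiSeparatedSpace_of_quasiSeparated g₀
  haveI : QuasiCompact (U.ι ≫ f) := hq.2.1
  haveI : QuasiCompact U.ι := QuasiCompact.of_comp U.ι f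
  let σ : U.toScheme ⟶ pullback f g₀ := pullback.lift U.ι j₀ hjg₀.symm
  have hσ₁ : σ ≫ pullback.fst f g₀ = U.ι := pullback.lift_fst _ _ _
  have hσ₂ : σ ≫ pullback.snd f g₀ = j₀ := pullback.lift_snd _ _ _
  haveI : QuasiCompact (σ ≫ pullback.fst f g₀) := by rw [hσ₁]; infer_instance
  haveI : QuasiCompact σ := QuasiCompact.of_comp σ (pullback.fst f g₀)
  let φ₁ : σ.image ⟶ X := σ.imageι ≫ pullback.fst f g₀
  let φ₂ : σ.image ⟶ P₀ := σ.imageι ≫ pullback.snd f g₀
  have hφ : φ₁ ≫ f = φ₂ ≫ g₀ := by simp only [φ₁, φ₂, Category.assoc, pullback.condition]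
  haveI hφ₁ : IsIso (φ₁ ∣_ U) := by
    have h := RGFlatLib.isIso_image_of_section σ _ U.ι hσ₁
    rwa [Scheme.Opens.opensRange_ι] at h
  have hU₁ : ((φ₁ ⁻¹ᵁ U : σ.image.Opens) : Set σ.image) = Set.range σ.toImage := by
    have h := RGFlatLib.preimage_opensRange_eq σ _ U.ι hσ₁
    rwa [Scheme.Opens.opensRange_ι] at h
  haveI hφ₂ : IsIso (φ₂ ∣_ j₀.opensRange) := RGFlatLib.isIso_image_of_section σ _ j₀ hσ₂
  have hpre : φ₂ ⁻¹ᵁ j₀.opensRange = φ₁ ⁻¹ᵁ U :=
    SetLike.coe_injective ((RGFlatLib.preimage_opensRange_eq σ _ j₀ hσ₂).trans hU₁.symm)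
  have hd₁ : Dense ((φ₁ ⁻¹ᵁ U : σ.image.Opens) : Set σ.image) := by rw [hU₁]; exact σ.toImage.denseRange
  obtain ⟨I', K₁, Z', c', hc', ha', hc₁, ha₁⟩ := Groth.Agent.S17381.result φ₁ U hU hUd hd₁
  haveI := BlowUpLib.isProper_of_isBlowUp hc' ha'.1
  let ψ : Z' ⟶ P₀ := c' ≫ φ₂
  haveI : IsIso (ψ ∣_ j₀.opensRange) := by
    haveI : IsIso (c' ∣_ φ₂ ⁻¹ᵁ j₀.opensRange) := by
      rw [hpre]
      exact EffCartLib.isIso_off_center I' c' hc' _ fun _ hx hx' => Set.disjoint_left.mp ha'.2 hx' hx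
    show IsIso ((c' ≫ φ₂) ∣_ j₀.opensRange)
    rw [morphismRestrict_comp]
    exact @IsIso.comp_isIso _ _ _ _ _ _ _ this hφ₂
  have hψ : ψ ⁻¹ᵁ j₀.opensRange = (c' ≫ φ₁) ⁻¹ᵁ U := by
    simp only [ψ, Scheme.Hom.comp_preimage, hpre]
  have hψd : Dense ((ψ ⁻¹ᵁ j₀.opensRange : Z'.Opens) : Set Z') := by
    rw [hψ, Scheme.Hom.comp_preimage]
    exact Groth.Agent.LocImmLib.dense_preimage_blowUp hc' hd₁ ha'.2
  have hVc : IsCompact (j₀.opensRange : Set P₀) := by
    haveI : CompactSpace U.toScheme := isCompact_iff_compactSpace.mp hU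
    rw [Scheme.Hom.coe_opensRange]
    exact isCompact_range j₀.continuous
  have hVd : Dense (j₀.opensRange : Set P₀) := by
    rw [Scheme.Hom.coe_opensRange]; exact j₀.denseRange
  obtain ⟨J, D, Z'', P', b, c, j, hb, hab, hc, hac, hj, hjc⟩ :=
    Groth.Agent.S17382.result ψ j₀.opensRange hVc hVd hψd
  obtain ⟨K, hK, hKb⟩ := RGFlatLib.exists_admissible_comp hc₁ ha₁ hb (hψ ▸ hab)
  haveI := hj
  haveI := BlowUpLib.isProper_of_isBlowUp hb hab.1
  have hcP : RelProj.IsProjective c := LinSysLib.isProjective_of_isBlowUp hc hac.1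
  haveI := RelProjLib.isProper_of_isProjective hcP
  haveI : QuasiCompact (j ≫ c) := by rw [hjc]; infer_instance
  haveI : QuasiCompact j := QuasiCompact.of_comp j c
  refine ⟨K, Z'', j.image, b ≫ c' ≫ φ₁, j.toImage, j.imageι ≫ c ≫ g₀, hKb, hK,
    LinSysLib.isProjective_closedImmersion_comp j.imageι (LinSysLib.isProjective_comp hcP hg₀),
    inferInstance, inferInstance, ?_⟩
  rw [Scheme.Hom.toImage_imageι_assoc, ← Category.assoc, hjc]
  simp only [ψ, Category.assoc, hφ]

end Groth.Agent.S17383
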