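import Groth.Statements.S2337
import Groth.Agent.MiscFlat6.QALocus
import Groth.Agent.AmpleDevLib.Components
-- import your own Groth.Agent.* helpers here

set_option autoImplicit false
universe u
open CategoryTheory CategoryTheory.Limits AlgebraicGeometry
open EGA2

namespace Groth.Agent.S2337

/-- Let f : X → Y be quasi-compact. Then f is quasi-affine (preimages of affine opens are quasi-affine)
if and only if O_X is ample relative to f. -/
theorem result {X Y : Scheme.{u}} (f : X ⟶ Y) [QuasiCompact f] :
    Mor2.IsQuasiAffine f ↔ RelAmple.IsRelAmple f (Coh.structureModule X) := by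
  constructor
  · intro hf
    refine ⟨‹_›, fun V => ?_⟩
    haveI := hf.2 V.1 V.2
    exact AmpleThLib.isAmple_of_isQuasiAffine
      (AmpleThLib.restrict_isInvertible (MiscFlat6.isInvertible_structureModule X) (f ⁻¹ᵁ V.1).ι)
  · intro hf
    refine ⟨‹_›, fun V hV => ?_⟩
    obtain ⟨e⟩ := MiscFlat6.nonempty_restrict_structureModule (X := X) (f ⁻¹ᵁ V).ι
    exact MiscFlat6.isQuasiAffine_of_isAmple_structureModule _
      (AmpleDevLib.isAmple_of_iso (hf.2 ⟨V, hV⟩).1 (MiscFlat6.isInvertible_structureModule _) e (hf.2 ⟨V, hV⟩))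

end Groth.Agent.S2337
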