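import Groth.Statements.S13927
import Groth.Agent.GrassLib.Linked
import Groth.Agent.GrassLib.Closed

set_option autoImplicit false
set_option linter.style.haveILetI false
universe u
open W4c1limliniiii

namespace Groth.Agent.S13927

open AlgebraicGeometry CategoryTheory in
/-- Let R be a commutative ring, d, r and n natural numbers, and for each i < n let f_i and g_i be
R-linear maps forward and backward between the i-th and (i+1)-st of n + 1 copies of the free module
R^d. The linked Grassmannian functor sends an R-algebra A to the set of tuples of submodules V_0, …,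
V_n of A^d whose quotients are locally free of rank d − r (sub-bundles of rank r) such that the base
change of f_i carries V_i into V_{i+1} and that of g_i carries V_{i+1} into V_i. Then this functor
is representable by a scheme X over Spec R — there are bijections, one for each R-algebra A, between
Spec R-morphisms Spec A → X and the A-valued points, compatible with base change along R-algebra
maps on every Grassmannian component — and X is proper over Spec R. (The published statement is over
an arbitrary base scheme with vector bundles of rank d and gives X as a closed subscheme of the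
product of the Grassmannians, projective over the base; this row takes the base affine and the
bundles trivial, and records properness.) -/
theorem result (R : Type u) [CommRing R]
    (d r n : ℕ) (f g : Fin n → ((Fin d → R) →ₗ[R] (Fin d → R))) :
    ∃ (X : Over (Spec (CommRingCat.of R)))
      (e : ∀ A : CommAlgCat.{u} R,
        (Over.mk (Spec.map (CommRingCat.ofHom (algebraMap R A))) ⟶ X) ≃
          W4c1limliniiii.LGPoints R d r n f g A),
      (∀ (A B : CommAlgCat.{u} R) (φ : A ⟶ B)
        (x : Over.mk (Spec.map (CommRingCat.ofHom (algebraMap R A))) ⟶ X)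
        (x' : Over.mk (Spec.map (CommRingCat.ofHom (algebraMap R B))) ⟶ X),
        x'.left = Spec.map (CommRingCat.ofHom φ.hom.toRingHom) ≫ x.left →
          ∀ i, (e B x').1 i = Module.Grassmannian.map φ.hom ((e A x).1 i)) ∧
      IsProper X.hom := by
  classical
  obtain ⟨G, eG, heG⟩ := GrassLib.exists_rep R (Fin d → R) (d - r)
  let P : GrassLib.RepPair R (Fin d → R) (d - r) := ⟨G, eG, heG⟩
  haveI : IsProper P.X.hom := GrassLib.isProper_free (Nat.sub_le d r) P
  obtain ⟨T, hT⟩ := GrassLib.exists_tupRep P (n + 1)
  haveI := hT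
  let val : ∀ A : CommAlgCat.{u} R, GrassLib.APt T.X.hom A → Fin (n + 1) → GrassLib.Pt R (Fin d → R) (d - r) A :=
    fun A a => T.e A (Over.homMk a.hom a.over)
  let J : ∀ A : CommAlgCat.{u} R, GrassLib.APt T.X.hom A → Ideal A := fun A a => ⨆ i : Fin n,
    (GrassLib.mapsIdeal (f i) (val A a i.castSucc) (val A a i.succ) ⊔
      GrassLib.mapsIdeal (g i) (val A a i.succ) (val A a i.castSucc))
  obtain ⟨Z, ι, hι, hZ⟩ := GrassLib.exists_closed_of_ideal J (fun A B φ a => by
    show (⨆ i : Fin n, _) = Ideal.map φ.toRingHom (⨆ i : Fin n, _)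
    rw [Ideal.map_iSup]
    refine iSup_congr fun i => ?_
    have h : ∀ j, val B (a.res φ) j = Module.Grassmannian.map φ (val A a j) :=
      T.he A B φ (Over.homMk a.hom a.over) (Over.homMk (a.res φ).hom (a.res φ).over) rfl
    rw [h, h, GrassLib.mapsIdeal_map, GrassLib.mapsIdeal_map, Ideal.map_sup])
  haveI := hι
  have hmem : ∀ (A : CommAlgCat.{u} R) (a : GrassLib.APt T.X.hom A),
      J A a = ⊥ ↔ val A a ∈ W4c1limliniiii.LGPoints R d r n f g A := fun A a => by
    show (⨆ i : Fin n, _) = ⊥ ↔ _
    rw [iSup_eq_bot]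
    refine forall_congr' fun i => ?_
    rw [sup_eq_bot_iff, GrassLib.mapsIdeal_eq_bot_iff, GrassLib.mapsIdeal_eq_bot_iff]
  let push : ∀ A : CommAlgCat.{u} R, (Over.mk (GrassLib.sp A) ⟶ Over.mk (ι ≫ T.X.hom)) → (Over.mk (GrassLib.sp A) ⟶ T.X) :=
    fun A x => x ≫ Over.homMk ι rfl
  have hin : ∀ (A : CommAlgCat.{u} R) x, T.e A (push A x) ∈ W4c1limliniiii.LGPoints R d r n f g A := fun A x => by
    have h := (hmem A ⟨(push A x).left, Over.w (push A x)⟩).1 ((hZ A _).1 ⟨x.left, rfl⟩)
    exact h
  have hinj : ∀ A : CommAlgCat.{u} R, Function.Injective (push A) := fun A x y h => Over.OverMorphism.ext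
    ((cancel_mono ι).1 (congrArg CommaMorphism.left h :))
  have hsur : ∀ (A : CommAlgCat.{u} R) (y : Over.mk (GrassLib.sp A) ⟶ T.X),
      T.e A y ∈ W4c1limliniiii.LGPoints R d r n f g A → ∃ x, push A x = y := fun A y hy => by
    obtain ⟨h, hh⟩ := (hZ A ⟨y.left, Over.w y⟩).2 ((hmem A ⟨y.left, Over.w y⟩).2 hy)
    have hh' : h ≫ ι = y.left := hh
    exact ⟨Over.homMk h (by show h ≫ ι ≫ T.X.hom = _; rw [← Category.assoc, hh']; exact Over.w y),
      Over.OverMorphism.ext hh'⟩
  let E : ∀ A : CommAlgCat.{u} R, (Over.mk (GrassLib.sp A) ⟶ Over.mk (ι ≫ T.X.hom)) ≃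
      W4c1limliniiii.LGPoints R d r n f g A := fun A =>
    Equiv.ofBijective (fun x => ⟨T.e A (push A x), hin A x⟩)
      ⟨fun x y h => hinj A ((T.e A).injective (congrArg Subtype.val h)), fun V => by
        obtain ⟨x, hx⟩ := hsur A ((T.e A).symm V.1) (by rw [Equiv.apply_symm_apply]; exact V.2)
        exact ⟨x, Subtype.ext ((congrArg (T.e A) hx).trans ((T.e A).apply_symm_apply V.1))⟩⟩
  refine ⟨Over.mk (ι ≫ T.X.hom), E, fun A B φ x x' hx i => ?_, ?_⟩
  · refine T.he A B φ.hom (push A x) (push B x') ?_ i
    show x'.left ≫ ι = GrassLib.spHom φ.hom ≫ x.left ≫ ι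
    rw [← Category.assoc]
    exact congrArg (· ≫ ι) hx
  · show IsProper (ι ≫ T.X.hom)
    infer_instance


end Groth.Agent.S13927
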