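import Groth.Statements.S18205
import Groth.Agent.LocImmLib.Basic

set_option autoImplicit false
universe u
open LocImm

namespace Groth.Agent.S18205

open TopologicalSpace in
theorem isOpen_of_isClosed_of_stableUnderGeneralization {T : Type*} [TopologicalSpace T] [NoetherianSpace T]
    [QuasiSober T] {C : Set T} (hc : IsClosed C) (hs : StableUnderGeneralization C) : IsOpen C := by
  rw [← isClosed_compl_iff]
  let F : Set (Set T) := {K ∈ irreducibleComponents T | (K ∩ Cᶜ).Nonempty}
  suffices h : Cᶜ = ⋃₀ F by
    rw [h]
    exact (NoetherianSpace.finite_irreducibleComponents.subset fun K hK => hK.1).isClosed_biUnion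
      (fun K hK => isClosed_of_mem_irreducibleComponents K hK.1) |> (Set.sUnion_eq_biUnion ▸ ·)
  refine Set.Subset.antisymm (fun x hx => ⟨irreducibleComponent x,
    ⟨irreducibleComponent_mem_irreducibleComponents x, x, mem_irreducibleComponent, hx⟩, mem_irreducibleComponent⟩) ?_
  rintro x ⟨K, ⟨hK, hne⟩, hxK⟩ hxC
  have hη := hK.1.isGenericPoint_genericPoint (isClosed_of_mem_irreducibleComponents K hK)
  exact hη.mem_open_set_iff hc.isOpen_compl |>.mpr hne (hs (hη.specializes hxK) hxC)


open CategoryTheory AlgebraicGeometry in
/-- Let `f : X ⟶ Y` be a localizing immersion (localizing and injective on points) of Noetherian schemes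
whose image is closed. Then `f` is an open immersion (so its image is open and closed and `f` is an
isomorphism onto a union of connected components of `Y`); in particular a surjective localizing
immersion is an isomorphism. -/
theorem result {X Y : Scheme.{u}} [IsNoetherian X] [IsNoetherian Y]
    (f : X ⟶ Y) (hf : LocImm.IsLocImmersion f) (hc : IsClosed (Set.range (fun x => f x))) : IsOpenImmersion f := by
  exact IsOpenImmersion.iff_isIso_stalkMap.mpr ⟨⟨Groth.Agent.LocImmLib.isEmbedding hf,
    isOpen_of_isClosed_of_stableUnderGeneralization hc (Groth.Agent.LocImmLib.stableUnderGeneralization_range hf.1)⟩,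
    Groth.Agent.LocImmLib.isIso_stalkMap hf.1⟩

end Groth.Agent.S18205
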