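import Groth.Statements.S18195
import Groth.Agent.LocImmLib.Basic

set_option autoImplicit false
universe u
open LocImm

namespace Groth.Agent.S18195

open CategoryTheory AlgebraicGeometry in
/-- Let `f : X ⟶ Y` and `g : Y ⟶ Z` be morphisms of Noetherian schemes with `g` separated and `f ≫ g` a
localizing immersion (localizing and injective on points). If `f` has schematically dense image,
i.e. each ring map `Γ(Y, U) → Γ(X, f⁻¹U)` is injective, then `f` is a localizing immersion. -/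
theorem result {X Y Z : Scheme.{u}} [IsNoetherian X] [IsNoetherian Y] [IsNoetherian Z]
    (f : X ⟶ Y) (g : Y ⟶ Z) (hfg : LocImm.IsLocImmersion (f ≫ g)) [IsSeparated g]
    (hd : ∀ U : Y.Opens, Function.Injective (f.app U).hom) : LocImm.IsLocImmersion f := by
  refine ⟨fun x => ?_, fun a b hab => hfg.2 (congrArg g.base hab)⟩
  obtain ⟨(Q : Z.Opens), hQ, hxQ, -⟩ := TopologicalSpace.Opens.isBasis_iff_nbhd.mp Z.isBasis_affineOpens (show g (f x) ∈ (⊤ : Z.Opens) from trivial)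
  obtain ⟨(V : Y.Opens), hV, hxV, hVQ⟩ := TopologicalSpace.Opens.isBasis_iff_nbhd.mp Y.isBasis_affineOpens (show f x ∈ g ⁻¹ᵁ Q from hxQ)
  obtain ⟨W, hxW, hWQ, hW, hWP, hWp, hl⟩ := Groth.Agent.LocImmLib.exists_nhd hfg x (f ⁻¹ᵁ V) hxV Q hxQ
  have hV' : IsAffineOpen (V ⊓ g ⁻¹ᵁ W) := by
    have : IsAffine (V : Y.Opens) := hV
    have : IsAffine (Q : Z.Opens) := hQ
    have hA : IsAffineOpen (g.resLE Q V hVQ ⁻¹ᵁ (Q.ι ⁻¹ᵁ W)) :=
      IsAffineOpen.preimage (hW.preimage_of_isOpenImmersion Q.ι (by rw [Scheme.Opens.opensRange_ι]; exact hWQ)) _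
    rw [← Scheme.Hom.comp_preimage, Scheme.Hom.resLE_comp_ι, Scheme.Hom.comp_preimage] at hA
    have := hA.image_of_isOpenImmersion V.ι
    rwa [Scheme.Hom.image_preimage_eq_opensRange_inf, Scheme.Opens.opensRange_ι] at this
  have hp : f ⁻¹ᵁ (V ⊓ g ⁻¹ᵁ W) = (f ≫ g) ⁻¹ᵁ W := inf_eq_right.mpr hWP
  have hp' : IsAffineOpen (f ⁻¹ᵁ (V ⊓ g ⁻¹ᵁ W)) := by rw [hp]; exact hWp
  refine ⟨⟨_, hV'⟩, ⟨_, hp'⟩, show x ∈ f ⁻¹ᵁ (V ⊓ g ⁻¹ᵁ W) from ⟨hWP (show x ∈ (f ≫ g) ⁻¹ᵁ W from hxW), hxW⟩, le_rfl, ?_⟩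
  rw [← Scheme.Hom.app_eq_appLE]
  refine Groth.Agent.LocImmLib.isLocHom_of_comp_injective (g.appLE W (V ⊓ g ⁻¹ᵁ W) inf_le_right).hom _ ?_ (hd _)
  have key : ∀ {A : X.Opens} (e : A ≤ (f ≫ g) ⁻¹ᵁ W), A = (f ≫ g) ⁻¹ᵁ W →
      LocImm.IsLocHom ((f ≫ g).appLE W A e).hom := by
    rintro A e rfl
    rwa [← Scheme.Hom.app_eq_appLE]
  have := key hp.le hp
  rw [← CommRingCat.hom_comp, Scheme.Hom.app_eq_appLE, Scheme.Hom.appLE_comp_appLE]
  exact this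

end Groth.Agent.S18195
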