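import Groth.Statements.S18202
import Groth.Agent.LocImmLib.Basic

set_option autoImplicit false
universe u
open LocImm

namespace Groth.Agent.S18202

open CategoryTheory AlgebraicGeometry Limits in
/-- Let `f : X ⟶ Y` be a localizing immersion (localizing and injective on points) of Noetherian schemes
and `g : Y' ⟶ Y` a morphism with `Y'` Noetherian. Then the base change `X ×_Y Y' ⟶ Y'` is a
localizing immersion. -/
theorem result {X Y Y' : Scheme.{u}} [IsNoetherian X] [IsNoetherian Y] [IsNoetherian Y']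
    (f : X ⟶ Y) (g : Y' ⟶ Y) (hf : LocImm.IsLocImmersion f) : LocImm.IsLocImmersion (pullback.snd f g) := by
  refine ⟨fun p => ?_, fun p q hpq => ?_⟩
  · obtain ⟨U, hxU, _, hU, _, hV, hl⟩ := Groth.Agent.LocImmLib.exists_nhd hf (pullback.fst f g p) ⊤ trivial ⊤ trivial
    have hy : pullback.snd f g p ∈ g ⁻¹ᵁ U := by
      change g (pullback.snd f g p) ∈ U
      rw [← Scheme.Hom.comp_apply, ← pullback.condition]
      exact hxU
    obtain ⟨U', hU', hyU', hle⟩ := TopologicalSpace.Opens.isBasis_iff_nbhd.mp Y'.isBasis_affineOpens hy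
    have heq : pullback.snd f g ⁻¹ᵁ U' = pullback.fst f g ⁻¹ᵁ (f ⁻¹ᵁ U) ⊓ pullback.snd f g ⁻¹ᵁ U' := by
      refine (inf_eq_right.mpr ?_).symm
      rw [← Scheme.Hom.comp_preimage, pullback.condition, Scheme.Hom.comp_preimage]
      exact fun z hz => hle hz
    have h := (isIso_pushoutSection_iff (IsPullback.of_hasPullback f g) hle le_rfl heq).mp
      (isIso_pushoutSection_of_isAffineOpen _ _ _ _ hU hU' hV)
    have haff : IsAffineOpen (pullback.snd f g ⁻¹ᵁ U') := by
      have : IsAffine (f ⁻¹ᵁ U : X.Opens) := hV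
      have : IsAffine (U' : Y'.Opens) := hU'
      have : IsAffine (U : Y.Opens) := hU
      exact .of_isIso (Scheme.Hom.isPullback_resLE (IsPullback.of_hasPullback f g) hle le_rfl heq).isoPullback.hom
    refine ⟨⟨U', hU'⟩, ⟨_, haff⟩, hyU', le_rfl, ?_⟩
    exact Groth.Agent.LocImmLib.isLocHom_of_isPushout h (by rw [← Scheme.Hom.app_eq_appLE]; exact hl)
  · have := Groth.Agent.LocImmLib.isPreimmersion hf
    exact (pullback.snd f g).isEmbedding.injective hpq

end Groth.Agent.S18202
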