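import Groth.Agent.CatLib.LocLimits
import Mathlib.CategoryTheory.Comma.Over.Basic
import Mathlib.CategoryTheory.ObjectProperty.FullSubcategory

/-! Localization of a full subcategory of a slice category stable under the weak equivalences. -/

set_option autoImplicit false
universe v₁ v₂ v₃ u₁ u₂ u₃
open CategoryTheory

namespace LocOverSubLib

variable {C : Type u₁} [Category.{v₁} C] (W : MorphismProperty C) [W.HasRightCalculusOfFractions] (S : C)
  (P : ObjectProperty (Over S))
  (hP : ∀ (A : Over S) (Z : C) (s : Z ⟶ A.left), W s → P A → P (Over.mk (s ≫ A.hom)))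

/-- The weak equivalences of the subcategory. -/
abbrev WP : MorphismProperty P.FullSubcategory := (W.inverseImage (Over.forget S)).inverseImage P.ι

include hP in
theorem hasRightCalculus : (WP W S P).HasRightCalculusOfFractions where
  toIsMultiplicative := inferInstance
  exists_rightFraction A B φ := by
    obtain ⟨ψ, hψ⟩ := (MorphismProperty.LeftFraction.mk φ.f.hom.left φ.s.hom.left φ.hs).exists_rightFraction
    refine ⟨MorphismProperty.RightFraction.mk (X' := (⟨Over.mk (ψ.s ≫ A.obj.hom), hP _ _ _ ψ.hs A.property⟩ :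
        P.FullSubcategory)) (ObjectProperty.homMk (Over.homMk ψ.s)) ψ.hs
      (ObjectProperty.homMk (Over.homMk ψ.f ?_)), ObjectProperty.hom_ext _ (Over.OverMorphism.ext hψ)⟩
    change ψ.f ≫ B.obj.hom = ψ.s ≫ A.obj.hom
    rw [← Over.w φ.s.hom, ← Over.w φ.f.hom, ← Category.assoc, ← Category.assoc]
    exact congrArg (· ≫ φ.Y'.obj.hom) hψ.symm
  ext A B B' f₁ f₂ s hs h := by
    obtain ⟨X', t, ht, h'⟩ := MorphismProperty.HasRightCalculusOfFractions.ext f₁.hom.left f₂.hom.left s.hom.left hs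
      (congrArg (fun m => m.hom.left) h)
    exact ⟨⟨Over.mk (t ≫ A.obj.hom), hP _ _ _ ht A.property⟩, ObjectProperty.homMk (Over.homMk t), ht,
      ObjectProperty.hom_ext _ (Over.OverMorphism.ext h')⟩

include hP in
theorem full_faithful {D : Type u₂} [Category.{v₂} D] (L : C ⥤ D) [L.IsLocalization W]
    {E : Type u₃} [Category.{v₃} E] (L' : P.FullSubcategory ⥤ E) [L'.IsLocalization (WP W S P)]
    (Φ : E ⥤ Over (L.obj S)) (e : L' ⋙ Φ ≅ P.ι ⋙ Over.post L) : Φ.Full ∧ Φ.Faithful := by
  haveI := hasRightCalculus W S P hP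
  haveI := Localization.essSurj L' (WP W S P)
  haveI := Localization.essSurj L W
  let G : P.FullSubcategory ⥤ Over (L.obj S) := P.ι ⋙ Over.post L
  have hmap : ∀ {A B : P.FullSubcategory} (k : A ⟶ B),
      Φ.map (L'.map k) = e.hom.app A ≫ G.map k ≫ e.inv.app B := fun {A B} k => by
    have h := e.hom.naturality k
    change Φ.map (L'.map k) ≫ _ = _ at h
    rw [← Category.assoc, ← h, Category.assoc, e.hom_inv_id_app]
    exact (Category.comp_id _).symm
  have hfull : ∀ (A B : P.FullSubcategory) (g : G.obj A ⟶ G.obj B),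
      ∃ m : L'.obj A ⟶ L'.obj B, e.inv.app A ≫ Φ.map m ≫ e.hom.app B = g := by
    intro A B g
    obtain ⟨Z, s, hs, k, hk⟩ := LocLimits.exists_frac L W g.left
    have h : L.map (k ≫ B.obj.hom) = L.map (s ≫ A.obj.hom) := by
      rw [L.map_comp, L.map_comp, ← hk, Category.assoc]
      exact congrArg (L.map s ≫ ·) (Over.w g)
    obtain ⟨Z', t, ht, h'⟩ := (MorphismProperty.map_eq_iff_precomp L W _ _).mp h
    let A' : P.FullSubcategory := ⟨Over.mk ((t ≫ s) ≫ A.obj.hom), hP _ _ _ (W.comp_mem t s ht hs) A.property⟩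
    let σ : A' ⟶ A := ObjectProperty.homMk (Over.homMk (t ≫ s))
    let κ : A' ⟶ B := ObjectProperty.homMk (Over.homMk (t ≫ k) (by simpa [A'] using h'))
    have hσ : (WP W S P) σ := W.comp_mem t s ht hs
    haveI : IsIso (L'.map σ) := Localization.inverts L' (WP W S P) σ hσ
    haveI : IsIso (L.map (t ≫ s)) := Localization.inverts L W _ (W.comp_mem t s ht hs)
    refine ⟨inv (L'.map σ) ≫ L'.map κ, ?_⟩
    have hg : G.map σ ≫ g = G.map κ := by
      refine Over.OverMorphism.ext ?_
      change L.map (t ≫ s) ≫ g.left = L.map (t ≫ k)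
      rw [L.map_comp, L.map_comp, Category.assoc]
      exact congrArg (L.map t ≫ ·) hk
    haveI : IsIso (Φ.map (L'.map σ)) := inferInstance
    rw [Φ.map_comp, Functor.map_inv, Category.assoc]
    rw [← cancel_epi (e.hom.app A), e.hom_inv_id_app_assoc, IsIso.inv_comp_eq, hmap, hmap, ← hg]
    simp [G]
  have hfaith : ∀ (A B : P.FullSubcategory) (m m' : L'.obj A ⟶ L'.obj B), Φ.map m = Φ.map m' → m = m' := by
    intro A B m m' h
    obtain ⟨A', r, hr, k, k', hk, hk'⟩ := LocLimits.exists_frac₂ L' (WP W S P) m m'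
    refine LocLimits.cancel_map L' (WP W S P) hr ?_
    rw [hk, hk']
    have h2 : G.map k = G.map k' := by
      have h1 : Φ.map (L'.map k) = Φ.map (L'.map k') := by
        rw [← hk, ← hk', Φ.map_comp, Φ.map_comp, h]
      rw [hmap, hmap, cancel_epi] at h1
      exact (cancel_mono _).mp h1
    have h3 : L.map k.hom.left = L.map k'.hom.left := congrArg CommaMorphism.left h2
    obtain ⟨Z, t, ht, h'⟩ := (MorphismProperty.map_eq_iff_precomp L W _ _).mp h3
    let Z' : P.FullSubcategory := ⟨Over.mk (t ≫ A'.obj.hom), hP _ _ _ ht A'.property⟩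
    let τ : Z' ⟶ A' := ObjectProperty.homMk (Over.homMk t)
    have hτ : (WP W S P) τ := ht
    refine LocLimits.cancel_map L' (WP W S P) hτ ?_
    rw [← L'.map_comp, ← L'.map_comp]
    exact congrArg L'.map (ObjectProperty.hom_ext _ (Over.OverMorphism.ext h'))
  refine ⟨⟨fun {A B} g => ?_⟩, ⟨fun {A B} m m' h => ?_⟩⟩
  · let a := L'.objObjPreimageIso A
    let b := L'.objObjPreimageIso B
    obtain ⟨m, hm⟩ := hfull _ _ (e.inv.app _ ≫ Φ.map a.hom ≫ g ≫ Φ.map b.inv ≫ e.hom.app _)
    refine ⟨a.inv ≫ m ≫ b.hom, ?_⟩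
    rw [cancel_epi, ← Category.assoc (Φ.map a.hom), ← Category.assoc (Φ.map a.hom ≫ g)] at hm
    have hm' := (cancel_mono _).mp hm
    rw [Φ.map_comp, Φ.map_comp, hm']
    simp
  · let a := L'.objObjPreimageIso A
    let b := L'.objObjPreimageIso B
    have := hfaith _ _ (a.hom ≫ m ≫ b.inv) (a.hom ≫ m' ≫ b.inv) (by simp [h])
    simpa using this

end LocOverSubLib
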