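import Groth.Statements.S0481
import Groth.Agent.DerLib.KInjUse
-- import your own Groth.Agent.* helpers here

set_option autoImplicit false
universe v u
open CategoryTheory
open CohDer

namespace Groth.Agent.S0481

open CategoryTheory.Limits in
/-- Let u : A ⥤ B be right adjoint to an exact additive functor w : B ⥤ A between abelian categories.
Then u applied termwise sends K-injective complexes to K-injective complexes. -/
theorem result {A : Type u} [Category.{v} A] [Abelian A]
    {B : Type u} [Category.{v} B] [Abelian B] (u : A ⥤ B) (w : B ⥤ A) (adj : w ⊣ u)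
    [u.Additive] [w.Additive] [PreservesFiniteLimits w] [PreservesFiniteColimits w]
    (I : CochainComplex A ℤ) (h : I.IsKInjective) :
    CochainComplex.IsKInjective ((u.mapHomologicalComplex (ComplexShape.up ℤ)).obj I) := by
  haveI := h
  refine ⟨fun {K} f hK => ?_⟩
  let K' := (w.mapHomologicalComplex (ComplexShape.up ℤ)).obj K
  have hK' : K'.Acyclic := fun i => (hK i).map w
  let f' : K' ⟶ I :=
    { f := fun n => (adj.homEquiv (K.X n) (I.X n)).symm (f.f n)
      comm' := fun i j _ => by
        apply (adj.homEquiv _ _).injective
        refine (adj.homEquiv_naturality_right _ _).trans (Eq.trans ?_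
          (adj.homEquiv_naturality_left (K.d i j) _).symm)
        rw [Equiv.apply_symm_apply, Equiv.apply_symm_apply]
        exact f.comm i j }
  let η : K ⟶ (u.mapHomologicalComplex (ComplexShape.up ℤ)).obj K' :=
    { f := fun n => adj.unit.app (K.X n)
      comm' := fun i j _ => (adj.unit.naturality (K.d i j)).symm }
  have e : η ≫ (u.mapHomologicalComplex (ComplexShape.up ℤ)).map f' = f := by
    ext n
    exact (adj.homEquiv_unit _ _ _).symm.trans ((adj.homEquiv _ _).apply_symm_apply _)
  have H := (u.mapHomotopy (CochainComplex.IsKInjective.homotopyZero f' hK')).compLeft η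
  rw [e, Functor.map_zero, comp_zero] at H
  exact ⟨H⟩

end Groth.Agent.S0481
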