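import Groth.Statements.S0488
import Groth.Agent.S0481
import Groth.Agent.CohLib.OverCoh
import Mathlib.Topology.Sheaves.Over
-- import your own Groth.Agent.* helpers here

set_option autoImplicit false
universe u
open CohTop

namespace Groth.Agent.S0488

open TopologicalSpace in
/-- For an open U of X, restriction to U sends K-injective complexes of abelian sheaves on X to
K-injective complexes on U. -/
theorem result {X : TopCat.{u}} (U : Opens X) (I : CochainComplex (CohTop.Ab X) ℤ)
    (h : I.IsKInjective) :
    CochainComplex.IsKInjective (((CohTop.restrFunctor U).mapHomologicalComplex (ComplexShape.up ℤ)).obj I) := by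
  have h1 := CohLib.isKInjective_restrOver (Opens.grothendieckTopology X) U I h
  let e := U.sheafEquivOver (A := AddCommGrpCat.{u})
  have : e.functor.Additive := CategoryTheory.Functor.additive_of_preserves_binary_products _
  have : e.inverse.Additive := CategoryTheory.Functor.additive_of_preserves_binary_products _
  exact Groth.Agent.S0481.result e.functor e.inverse e.symm.toAdjunction _ h1

end Groth.Agent.S0488
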