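import Groth.Statements.S16611
import Groth.Agent.MultHomLib.Global
import Groth.Agent.RedRankLib.Tori
import Groth.Agent.TorusFieldLib.Scheme

set_option autoImplicit false
open CategoryTheory MonoidalCategory CartesianMonoidalCategory MonObj GrpObj AlgebraicGeometry
universe u
open SGA3x CoactBr CategoryTheory.Limits
attribute [local instance] CoactBr.braidedAlgSpecOf
open Groth.Agent.MultHom Groth.Agent.RedRank

namespace Groth.Agent.S16611

/-- Over a field: a monomorphism between split tori of the same rank is invertible. -/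
theorem isIso_of_split {K : Type u} [Field K] {r : ℕ} {A B : Over (Spec (CommRingCat.of K))} [GrpObj A] [GrpObj B]
    (g : A ⟶ B) [IsMonHom g] [Mono g] (hA : Red.IsSplitTorusWith (Fin r → ℤ) A)
    (hB : Red.IsSplitTorusWith (Fin r → ℤ) B) : IsIso g := by
  obtain ⟨w, hw, hw'⟩ := TorusField.exists_DS_iso K (Fin r → ℤ)
  haveI := hw
  haveI := hw'
  obtain ⟨eA⟩ := hA
  obtain ⟨eB⟩ := hB
  let a : A ≅ Red.DS (Spec (CommRingCat.of K)) (Fin r → ℤ) := (Grp.forget _).mapIso eA
  let b : B ≅ Red.DS (Spec (CommRingCat.of K)) (Fin r → ℤ) := (Grp.forget _).mapIso eB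
  haveI : IsMonHom a.inv := inferInstanceAs (IsMonHom eA.inv.hom.hom)
  haveI : IsMonHom b.hom := inferInstanceAs (IsMonHom eB.hom.hom.hom)
  haveI : Mono (w.hom ≫ a.inv ≫ g ≫ b.hom ≫ w.inv) := inferInstance
  have h := (le_and_isIso_of_mono (w.hom ≫ a.inv ≫ g ≫ b.hom ≫ w.inv)).2 rfl
  have e : g = a.hom ≫ w.inv ≫ (w.hom ≫ a.inv ≫ g ≫ b.hom ≫ w.inv) ≫ w.hom ≫ b.inv := by simp
  rw [e]
  infer_instance

/-- Over an arbitrary scheme S, a monomorphism f : T ⟶ T' of S-tori with the same rank function (at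
every point of S the geometric fibres of T and T' are split tori of the same rank) is an
isomorphism. -/
theorem result {S : Scheme.{u}} {T T' : Over S} [GrpObj T] [GrpObj T']
    (hT : Red.IsTorus T) (hT' : Red.IsTorus T') (f : T ⟶ T') [IsMonHom f] [Mono f]
    (hrk : ∀ s : ↥S, ∃ r : ℕ, Red.IsSplitTorusWith (Fin r → ℤ) (Red.geomFibre s T) ∧
      Red.IsSplitTorusWith (Fin r → ℤ) (Red.geomFibre s T')) : IsIso f := by
  have mt : ∀ {R : Over S} [GrpObj R], Red.IsTorus R → SGA3x.IsMultTypeFT R := by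
    intro R _ hR
    obtain ⟨S', p, h1, h2, h3, hloc⟩ := hR
    refine ⟨S', p, h1, h2, h3, fun z => ?_⟩
    obtain ⟨U, hU, r, h⟩ := hloc z
    exact ⟨U, hU, Fin r → ℤ, inferInstance, Module.Finite.iff_addGroup_fg.1 inferInstance, h⟩
  haveI := Groth.Agent.MultEq.isAffineHom_of_isMultTypeFT (mt hT)
  haveI := Groth.Agent.MultEq.isAffineHom_of_isMultTypeFT (mt hT')
  obtain ⟨U₁, -, hiff₁, hm⟩ := exists_locus f descends_mono decided_mono (locDiag_of_isMultTypeFT (mt hT)) (mt hT')
  obtain ⟨U₂, -, hiff₂, hf⟩ := exists_locus f descends_fs decided_fs (locDiag_of_isMultTypeFT (mt hT)) (mt hT')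
  have geo : ∀ s : S, IsIso ((Over.pullback (Red.geomPt s)).map f).left := fun s => by
    obtain ⟨r, h1, h2⟩ := hrk s
    haveI : IsMonHom (M := Red.geomFibre s T) (N := Red.geomFibre s T') ((Over.pullback (Red.geomPt s)).map f) :=
      Groth.Agent.DiagRep.isMonHom_bc_map _ f
    haveI := isIso_of_split (A := Red.geomFibre s T) (B := Red.geomFibre s T')
      ((Over.pullback (Red.geomPt s)).map f) h1 h2
    exact inferInstanceAs (IsIso ((Over.forget _).map ((Over.pullback (Red.geomPt s)).map f)))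
  have pt : ∀ s : S, Red.geomPt s (IsLocalRing.closedPoint (AlgebraicClosure (S.residueField s))) = s := fun s => by
    rw [Scheme.Hom.comp_apply]
    exact Scheme.fromSpecResidueField_apply _ _
  have fsd : FS ((Over.pullback (𝟙 S)).map f).left := of_family descends_fs f (𝟙 S) (I := PUnit.{u + 1})
    (fun _ => U₂.ι) (fun _ => inferInstance) (fun s => ⟨PUnit.unit, by
      have := geo s
      have h : FS ((Over.pullback (Red.geomPt s)).map f).left := ⟨inferInstance, inferInstance⟩
      have h2 := (field_iff descends_fs f (Red.geomPt s)).1 h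
      rw [pt s] at h2
      exact Scheme.Opens.range_ι U₂ ▸ (hiff₂ s).2 h2⟩) (fun _ => by rw [Category.comp_id]; exact hf)
  haveI : QuasiCompact ((Over.pullback (𝟙 S)).map f).left := quasiCompact_map f (𝟙 S)
  haveI : IsIso ((Over.forget S).map ((Over.pullback (𝟙 S)).map f)) := isIso_of_mono_fs ((Over.pullback (𝟙 S)).map f).left fsd
  haveI := isIso_of_reflects_iso ((Over.pullback (𝟙 S)).map f) (Over.forget S)
  rw [show f = Over.pullbackId.inv.app T ≫ (Over.pullback (𝟙 S)).map f ≫ Over.pullbackId.hom.app T' from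
    (NatIso.naturality_1 Over.pullbackId f).symm]
  infer_instance

end Groth.Agent.S16611
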