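import Groth.Statements.S4149
import Groth.Agent.MultNilpLib.Main
import Groth.Agent.CentreRedLib.Main
import Groth.Agent.GrpHomLib.Field

set_option autoImplicit false
universe u
open CategoryTheory MonoidalCategory CartesianMonoidalCategory MonObj GrpObj AlgebraicGeometry CategoryTheory.Limits
open SGA3x

namespace Groth.Agent.S4149

/-- Let G be an affine, connected algebraic group over a field k which is nilpotent (for some n the n-th
term of the lower central series of G(X) is trivial for every k-scheme X). Then G has a largest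
subgroup of multiplicative type M — a closed subgroup scheme of multiplicative type and of finite
type through which every such subgroup factors — and M is central in G. (The source adds that M is
characteristic and G/M unipotent.) -/
theorem result (k : Type u) [Field k] (G : Over (Spec (CommRingCat.of k)))
    [GrpObj G] [IsAffine G.left] [LocallyOfFiniteType G.hom] [ConnectedSpace ↥G.left]
    (hnil : ∃ n : ℕ, ∀ X : Over (Spec (CommRingCat.of k)), (⊤ : Subgroup (X ⟶ G)).lowerCentralSeries n = ⊥) :
    ∃ (M : Over (Spec (CommRingCat.of k))) (_ : GrpObj M) (m : M ⟶ G), IsMonHom m ∧ IsClosedImmersion m.left ∧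
      SGA3x.IsMultTypeFT M ∧
      (∀ (M' : Over (Spec (CommRingCat.of k))) [GrpObj M'] (m' : M' ⟶ G) [IsMonHom m'] [Mono m'],
        SGA3x.IsMultTypeFT M' → ∃ f : M' ⟶ M, f ≫ m = m') ∧
      ∀ (X : Over (Spec (CommRingCat.of k))) (x : X ⟶ M) (g : X ⟶ G), (x ≫ m) * g = g * (x ≫ m) := by
  obtain ⟨Z, _, z, hzm, hzmono, hZ, hc, hu⟩ := CentreRed.exists_reductiveCentre G
  haveI := hzm
  haveI := hzmono
  haveI := MultEq.isAffineHom_of_isMultTypeFT hZ
  haveI := MultEq.lfp_of_isMultTypeFT hZ
  haveI : IsAffine Z.left := isAffine_of_isAffineHom Z.hom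
  haveI : Mono z.left := (Over.forget _).map_mono z
  refine ⟨Z, inferInstance, z, hzm, GrpHom.isClosedImmersion_of_mono (u := z), hZ,
    fun M' _ m' _ _ hM' => ?_, hc⟩
  let π := 𝟙 (Spec (CommRingCat.of k))
  haveI : IsMonHom (M := Red.bc π M') (N := Red.bc π G) ((Over.pullback π).map m') := DiagRep.isMonHom_bc_map π m'
  obtain ⟨w, hw⟩ := hu _ π (Red.bc π M') ((Over.pullback π).map m') (DescHom.isMultTypeFT_bc hM' π)
    fun X x g => by
      obtain ⟨x₀, rfl⟩ := ((Over.mapPullbackAdj π).homEquiv X M').surjective x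
      obtain ⟨g₀, rfl⟩ := ((Over.mapPullbackAdj π).homEquiv X G).surjective g
      exact (CentLocus.map_comm_iff m' π g₀ x₀).2 (MultNilp.central_of_nilpotent hnil m' hM' _ _ _)
  let e : Red.bc π M' ≅ M' := (Over.pullbackId).app M'
  refine ⟨e.inv ≫ w ≫ (Over.pullbackId.hom.app Z), ?_⟩
  rw [Category.assoc, Category.assoc]
  erw [← Over.pullbackId.hom.naturality z]
  show e.inv ≫ w ≫ (Over.pullback π).map z ≫ _ = m'
  rw [reassoc_of% hw]
  erw [Over.pullbackId.hom.naturality m']
  exact e.inv_hom_id_assoc m'

end Groth.Agent.S4149
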