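import Groth.Statements.S5256
import Groth.Agent.FibTrivLib.Scheme

set_option autoImplicit false
open CategoryTheory MonoidalCategory CartesianMonoidalCategory MonObj GrpObj AlgebraicGeometry
universe u
open SGA3x

namespace Groth.Agent.S5256

/-- Let u : H ⟶ G be a homomorphism of S-groups, with H of multiplicative type and of finite type and G
of finite presentation over S (locally of finite presentation, quasi-compact and quasi-separated).
If for every s ∈ S the homomorphism u_s : H_s ⟶ G_s induced on the fibres at s is central (every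
point of G_s commutes with the image of every point of H_s), then u is central. -/
theorem result {S : Scheme.{u}} (H G : Over S) [GrpObj H] [GrpObj G]
    (hH : SGA3x.IsMultTypeFT H) [LocallyOfFinitePresentation G.hom] [QuasiCompact G.hom] [QuasiSeparated G.hom]
    (u : H ⟶ G) [IsMonHom u]
    (hfib : ∀ (s : S) (X : Over (Spec (S.residueField s))) (g : X ⟶ Red.bc (S.fromSpecResidueField s) G)
      (h : X ⟶ Red.bc (S.fromSpecResidueField s) H),
      g * (h ≫ (Over.pullback (S.fromSpecResidueField s)).map u) = (h ≫ (Over.pullback (S.fromSpecResidueField s)).map u) * g) :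
    ∀ (X : Over S) (g : X ⟶ G) (h : X ⟶ H), g * (h ≫ u) = (h ≫ u) * g := by
  obtain ⟨S', f, hf₁, hf₂, -, hloc⟩ := hH
  have hloc' : ∀ s' : S', ∃ U : S'.Opens, s' ∈ U ∧ ∃ (M : Type) (_ : AddCommGroup M),
      Nonempty (Grp.mk (Red.bc (U.ι ≫ f) H) ≅ Grp.mk (Red.DS (U : Scheme.{u}) M)) := fun s' => by
    obtain ⟨U, hU, M, hM, -, he⟩ := hloc s'
    exact ⟨U, hU, M, hM, he⟩
  have e := FibTriv.act_eq_snd ⟨S', f, hf₁, hf₂, hloc'⟩ (TrivNil.conjAction u) ?_
  · intro X g h
    have h1 := TrivNil.comp_conjAction_act u h g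
    rw [e, lift_snd, eq_mul_inv_iff_mul_eq] at h1
    exact h1
  intro K _ κ Y g x q hq
  rw [TrivNil.comp_conjAction_act, mul_inv_eq_iff_eq_mul]
  let s : S := κ (IsLocalRing.closedPoint K)
  let d : Spec (CommRingCat.of K) ⟶ Spec (S.residueField s) :=
    Spec.map (S.descResidueField (Scheme.stalkClosedPointTo κ))
  have hd : d ≫ S.fromSpecResidueField s = κ :=
    Scheme.descResidueField_stalkClosedPointTo_fromSpecResidueField K S κ
  let Y' : Over (Spec (S.residueField s)) := Over.mk (q ≫ d)
  let ι' : (Over.map (S.fromSpecResidueField s)).obj Y' ⟶ Y := Over.homMk (𝟙 Y.left) (by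
    show 𝟙 Y.left ≫ Y.hom = (q ≫ d) ≫ S.fromSpecResidueField s
    rw [Category.id_comp, Category.assoc, hd, hq])
  haveI : IsIso ((Over.forget S).map ι') := inferInstanceAs (IsIso (𝟙 Y.left))
  haveI : IsIso ι' := isIso_of_reflects_iso ι' (Over.forget S)
  rw [← cancel_epi ι', MonObj.comp_mul, MonObj.comp_mul]
  let adj := Over.mapPullbackAdj (S.fromSpecResidueField s)
  have h2 := hfib s Y' (adj.homEquiv _ _ (ι' ≫ x)) (adj.homEquiv _ _ (ι' ≫ g))
  apply (adj.homEquiv Y' G).injective
  rw [AlgGrp.Action.homEquiv_mul, AlgGrp.Action.homEquiv_mul, ← Category.assoc,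
    Adjunction.homEquiv_naturality_right]
  exact h2.symm

end Groth.Agent.S5256
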