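import Groth.Statements.S8409
import Groth.Agent.BorelLib.NonAffTori
import Groth.Agent.BorelLib.MaxTorGeom
import Groth.Agent.RCentreLib.Nilp
import Groth.Agent.S3929
-- import your own Groth.Agent.* helpers here

set_option autoImplicit false
set_option maxHeartbeats 2000000
set_option synthInstance.maxHeartbeats 400000
set_option backward.isDefEq.respectTransparency false
universe u
open CategoryTheory MonoidalCategory CartesianMonoidalCategory MonObj GrpObj AlgebraicGeometry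
open SGA3x

namespace Groth.Agent.S8409

attribute [-instance] CategoryTheory.Hom.commGroup
attribute [local instance] BorelLib.pTop BorelLib.pTopTensor

open Groth.Agent.BorelLib

variable {k : Type u} [Field k] [IsAlgClosed k] {G : Over (Spec (CommRingCat.of k))} [GrpObj G] [Smooth G.hom]
  [QuasiCompact G.hom] [ConnectedSpace ↥G.left]

/-- The points are nilpotent exactly when those of the affine part are. -/
theorem isNilpotent_iff (S : NA.Split G) :
    Group.IsNilpotent (RPt G) ↔ Group.IsNilpotent (RPt S.L) := by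
  haveI : Mono S.l := DiagRep.mono_of_isClosedImmersion S.l inferInstance
  constructor
  · intro h
    let f : RPt S.L →* RPt G := MonoidHom.mk' (fun a => a ≫ S.l) fun a b => MonObj.mul_comp a b S.l
    have hf : Function.Injective f := fun a b hab => (cancel_mono S.l).1 hab
    exact Group.nilpotent_of_mulEquiv (MonoidHom.ofInjective hf).symm
  · intro h
    letI : CommGroup (RPt S.D) := { (inferInstance : Group (RPt S.D)) with mul_comm := S.comm_D }
    let f : RPt S.L × RPt S.D →* RPt G := MonoidHom.mk' (fun p => (p.1 ≫ S.l) * (p.2 ≫ S.d)) fun p q => by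
      simp only [Prod.fst_mul, Prod.snd_mul, MonObj.mul_comp]
      rw [_root_.mul_assoc, _root_.mul_assoc, ← _root_.mul_assoc (q.1 ≫ S.l), ← S.hcentral _ p.2 (q.1 ≫ S.l),
        _root_.mul_assoc]
    exact Group.nilpotent_of_surjective f fun g => by
      obtain ⟨a, b, h⟩ := S.hmul g
      exact ⟨(a, b), h⟩

/-- Tori of a group with nilpotent affine part are central. -/
theorem central_of_nilpotent (S : NA.Split G) (h : Group.IsNilpotent (RPt S.L))
    {T : Over (Spec (CommRingCat.of k))} [GrpObj T] (j : T ⟶ G) [IsMonHom j] [Mono j] (hT : Red.IsTorus T)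
    (X : Over (Spec (CommRingCat.of k))) (t : X ⟶ T) (g : X ⟶ G) : (t ≫ j) * g = g * (t ≫ j) := by
  haveI : Mono S.l := DiagRep.mono_of_isClosedImmersion S.l inferInstance
  obtain ⟨j₀, rfl, hj₀, hj₀'⟩ := NA.exists_lift_torus S j hT
  haveI := hj₀; haveI := hj₀'
  haveI := S.haff; haveI := S.hLs; haveI := S.hLconn
  obtain ⟨-, -, -, -, -, hcl⟩ := NA.torus_props (j₀ ≫ S.l) hT
  haveI : IsSeparated G.hom := Groth.Agent.GrpField.isSeparated_grp (G := G)
  obtain ⟨⟨Z, _, z, hz, hzc, hzs⟩, -⟩ := Groth.Agent.S3006.result _ G T (j₀ ≫ S.l) hcl hT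
  haveI := hzc
  haveI : AlgebraicGeometry.IsReduced G.left := AlgSpLib.isReduced_of_smooth G.hom
  obtain ⟨f, hf⟩ := NA.exists_factor_of_pts (𝟙 G) z fun g₀ => by
    obtain ⟨a, b, rfl⟩ := S.hmul g₀
    obtain ⟨w, hw⟩ := (hz.2.2 _ ((a ≫ S.l) * (b ≫ S.d))).2 fun X' x u => by
      refine (NA.commutes_iff S j₀ a b).2 (fun X'' x' u' => ?_) X' x u
      exact (RCentre.torus_central_of_nilpotent S.L h hT j₀ X'' u' (x' ≫ a)).symm
    exact ⟨w, by rw [Category.comp_id, hw]⟩
  have hall := (hz.2.2 G (𝟙 G)).1 ⟨f, hf⟩ X g t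
  rw [Category.comp_id] at hall
  exact hall.symm

/-- Let G be a smooth connected algebraic group (not necessarily affine) over an algebraically closed
field k. Then G is nilpotent (the group G(k) is nilpotent) if and only if every torus in G is
central, if and only if G has only one maximal torus. (The published statement adds that the unique
maximal torus is then the largest subtorus of G; this row omits that clause.) -/
theorem result (k : Type u) [Field k] [IsAlgClosed k]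
    (G : Over (Spec (CommRingCat.of k))) [GrpObj G] [Smooth G.hom] [QuasiCompact G.hom] [ConnectedSpace ↥G.left] :
    (Group.IsNilpotent (𝟙_ (Over (Spec (CommRingCat.of k))) ⟶ G) ↔
      ∀ (T : Over (Spec (CommRingCat.of k))) [GrpObj T] (j : T ⟶ G) [IsMonHom j] [Mono j], Red.IsTorus T →
        ∀ (X : Over (Spec (CommRingCat.of k))) (t : X ⟶ T) (g : X ⟶ G), (t ≫ j) * g = g * (t ≫ j)) ∧
    (Group.IsNilpotent (𝟙_ (Over (Spec (CommRingCat.of k))) ⟶ G) ↔
      ∀ (T₁ T₂ : Over (Spec (CommRingCat.of k))) [GrpObj T₁] [GrpObj T₂] (i₁ : T₁ ⟶ G) (i₂ : T₂ ⟶ G),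
        Red.IsMaximalTorus i₁ → Red.IsMaximalTorus i₂ → ∃ φ : T₁ ≅ T₂, φ.hom ≫ i₂ = i₁) := by
  obtain ⟨S⟩ := NA.exists_split (G := G)
  haveI := S.haff; haveI := S.hLs; haveI := S.hLconn
  haveI : Mono S.l := DiagRep.mono_of_isClosedImmersion S.l inferInstance
  have hTU : (∀ (T : Over (Spec (CommRingCat.of k))) [GrpObj T] (j : T ⟶ G) [IsMonHom j] [Mono j], Red.IsTorus T →
        ∀ (X : Over (Spec (CommRingCat.of k))) (t : X ⟶ T) (g : X ⟶ G), (t ≫ j) * g = g * (t ≫ j)) →
      ∀ (T₁ T₂ : Over (Spec (CommRingCat.of k))) [GrpObj T₁] [GrpObj T₂] (i₁ : T₁ ⟶ G) (i₂ : T₂ ⟶ G),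
        Red.IsMaximalTorus i₁ → Red.IsMaximalTorus i₂ → ∃ φ : T₁ ≅ T₂, φ.hom ≫ i₂ = i₁ := by
    intro hc T₁ T₂ _ _ i₁ i₂ h₁ h₂
    haveI := h₁.1; haveI := h₁.2.1
    obtain ⟨g, φ, hφ⟩ := NA.maxTorus_conj (isMaxTorus_of_isMaximalTorus h₁) (isMaxTorus_of_isMaximalTorus h₂)
    refine ⟨φ, ?_⟩
    have h := hc T₁ i₁ h₁.2.2.1 T₁ (𝟙 T₁) (toUnit T₁ ≫ g)
    rw [Category.id_comp] at h
    rw [← hφ, ← h, mul_inv_cancel_right]
  have hUN : (∀ (T₁ T₂ : Over (Spec (CommRingCat.of k))) [GrpObj T₁] [GrpObj T₂] (i₁ : T₁ ⟶ G) (i₂ : T₂ ⟶ G),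
        Red.IsMaximalTorus i₁ → Red.IsMaximalTorus i₂ → ∃ φ : T₁ ≅ T₂, φ.hom ≫ i₂ = i₁) →
      Group.IsNilpotent (RPt G) := by
    intro hu
    refine (isNilpotent_iff S).2 ?_
    obtain ⟨n, hn⟩ := S3929.result k S.L fun T T' _ _ iT iT' h h' => by
      haveI := h.1; haveI := h'.1; haveI := h.2.1; haveI := h'.2.1
      obtain ⟨φ, hφ⟩ := hu T T' (iT ≫ S.l) (iT' ≫ S.l)
        (isMaximalTorus_of_isMaxTorus ((NA.isMaxTorus_iff S).2 h))
        (isMaximalTorus_of_isMaxTorus ((NA.isMaxTorus_iff S).2 h'))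
      exact ⟨φ, by rw [← cancel_mono S.l, Category.assoc, hφ]⟩
    exact ⟨⟨n, hn _⟩⟩
  have hNT : Group.IsNilpotent (RPt G) → ∀ (T : Over (Spec (CommRingCat.of k))) [GrpObj T] (j : T ⟶ G) [IsMonHom j] [Mono j],
      Red.IsTorus T → ∀ (X : Over (Spec (CommRingCat.of k))) (t : X ⟶ T) (g : X ⟶ G), (t ≫ j) * g = g * (t ≫ j) :=
    fun hn T _ j _ _ hT X t g => central_of_nilpotent S ((isNilpotent_iff S).1 hn) j hT X t g
  exact ⟨⟨hNT, fun h => hUN (hTU h)⟩, ⟨fun h => hTU (hNT h), hUN⟩⟩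

end Groth.Agent.S8409
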