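import Groth.Statements.S19547
import Mathlib

set_option autoImplicit false
universe u
open TensorProduct
open Desc

namespace Groth.Agent.S19547

/-- Let A → A' be a faithfully flat homomorphism of commutative rings, M' an A'-module and φ : M' ⊗_A A'
→ A' ⊗_A M' an isomorphism of (A' ⊗_A A')-modules for the diagonal actions (x ⊗ y)(u ⊗ z) = xu ⊗ yz
and (x ⊗ y)(z ⊗ u) = xz ⊗ yu, satisfying the cocycle condition φ_13 = φ_23 ∘ φ_12 between the three
pullbacks to A' ⊗_A A' ⊗_A A'. Here linearity over A' ⊗_A A' is stated on the generators x ⊗ 1 and 1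
⊗ y, and the cocycle condition on pure tensors u ⊗ a ⊗ b: writing φ(u ⊗ a) = Σ a_i ⊗ u_i, it says Σ
a_i ⊗ φ(u_i ⊗ b) = Σ b_j ⊗ a ⊗ u'_j where φ(u ⊗ b) = Σ b_j ⊗ u'_j. Let M = {u ∈ M' : φ(u ⊗ 1) = 1 ⊗
u}, an A-submodule of M'. Then the canonical map λ : A' ⊗_A M → M', x ⊗ u ↦ xu, is an isomorphism. -/
theorem result (A A' : Type u) [CommRing A] [CommRing A']
    [Algebra A A'] [Module.FaithfullyFlat A A'] (M' : Type u) [AddCommGroup M'] [Module A M']
    [Module A' M'] [IsScalarTower A A' M']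
    (φ : M' ⊗[A] A' →ₗ[A] A' ⊗[A] M') (hφ : Function.Bijective φ)
    (h1 : ∀ (x : A') (u : M') (z : A'),
      φ ((x • u) ⊗ₜ[A] z) = LinearMap.rTensor M' (LinearMap.mulLeft A x) (φ (u ⊗ₜ[A] z)))
    (h2 : ∀ (y : A') (u : M') (z : A'),
      φ (u ⊗ₜ[A] (y * z)) = LinearMap.lTensor A' (Algebra.lsmul A A M' y) (φ (u ⊗ₜ[A] z)))
    (hcoc : ∀ (u : M') (a b : A'),
      LinearMap.lTensor A' φ (TensorProduct.assoc A A' M' A' (LinearMap.rTensor A' φ ((u ⊗ₜ[A] a) ⊗ₜ[A] b))) =
        LinearMap.lTensor A' (TensorProduct.mk A A' M' a) (φ (u ⊗ₜ[A] b)))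
    (M : Submodule A M') (hM : ∀ u : M', u ∈ M ↔ φ (u ⊗ₜ[A] (1 : A')) = (1 : A') ⊗ₜ[A] u) :
    Function.Bijective
      ((TensorProduct.lift (Algebra.lsmul A A M').toLinearMap) ∘ₗ (LinearMap.lTensor A' M.subtype)) := by
  let ι₀ : M' →ₗ[A] A' ⊗[A] M' := φ ∘ₗ (TensorProduct.mk A M' A').flip 1
  let one' : M' →ₗ[A] A' ⊗[A] M' := TensorProduct.mk A A' M' 1
  let α := ι₀ - one'
  let μ : A' ⊗[A] M' →ₗ[A] M' := TensorProduct.lift (Algebra.lsmul A A M').toLinearMap
  have hμ : ∀ a v, μ (a ⊗ₜ[A] v) = a • v := fun a v => rfl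
  let q : A' ⊗[A] (A' ⊗[A] M') →ₗ[A] A' ⊗[A] M' :=
    TensorProduct.lift (LinearMap.mk₂ A (fun a z => LinearMap.rTensor M' (LinearMap.mulLeft A a) z)
      (fun a b z => by
        induction z with
        | zero => simp
        | tmul c v => simp [add_mul, TensorProduct.add_tmul]
        | add x y hx hy => simp only [map_add, hx, hy]; abel)
      (fun c a z => by
        induction z with
        | zero => simp
        | tmul b v => simp [TensorProduct.smul_tmul']
        | add x y hx hy => simp only [map_add, smul_add, hx, hy])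
      (fun a y z => map_add _ y z) (fun c a z => map_smul _ c z))
  have hqι : ∀ z, q (LinearMap.lTensor A' ι₀ z) = ι₀ (μ z) := fun z => by
    induction z with
    | zero => simp
    | tmul a v =>
      rw [hμ]
      show LinearMap.rTensor M' (LinearMap.mulLeft A a) (φ (v ⊗ₜ[A] 1)) = φ ((a • v) ⊗ₜ[A] 1)
      rw [h1]
    | add x y hx hy => simp only [map_add, hx, hy]
  have hq1 : ∀ z, q (LinearMap.lTensor A' one' z) = z := fun z => by
    induction z with
    | zero => simp
    | tmul a v => simp [q, one']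
    | add x y hx hy => simp only [map_add, hx, hy]
  have hK : ∀ z, LinearMap.lTensor A' α z = 0 ↔ LinearMap.lTensor A' ι₀ z = LinearMap.lTensor A' one' z := fun z => by
    rw [LinearMap.lTensor_sub, LinearMap.sub_apply, sub_eq_zero]
  have hback : ∀ z, LinearMap.lTensor A' α z = 0 → ι₀ (μ z) = z := fun z hz => by
    rw [← hqι, (hK z).1 hz, hq1]
  have hι : ∀ u, LinearMap.lTensor A' α (ι₀ u) = 0 := fun u => by
    rw [hK]
    have key : ∀ z : A' ⊗[A] M', TensorProduct.assoc A A' M' A' (z ⊗ₜ[A] (1 : A')) =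
        LinearMap.lTensor A' ((TensorProduct.mk A M' A').flip 1) z := fun z => by
      induction z with
      | zero => simp
      | tmul a v => rfl
      | add x y hx hy => rw [TensorProduct.add_tmul, map_add, map_add, hx, hy]
    have h := hcoc u 1 1
    rw [LinearMap.rTensor_tmul, key, ← LinearMap.lTensor_comp_apply] at h
    exact h
  have hμι : ∀ u, μ (ι₀ u) = u := fun u => by
    have h : ι₀ (μ (ι₀ u)) = ι₀ u := hback _ (hι u)
    have h' := hφ.1 h
    refine sub_eq_zero.1 ?_
    refine (Module.FaithfullyFlat.one_tmul_eq_zero_iff A M' (A := A') _).1 ?_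
    apply (TensorProduct.comm A A' M').injective
    rw [map_zero, TensorProduct.comm_tmul, TensorProduct.sub_tmul, sub_eq_zero]
    exact h'
  have hMK : M = LinearMap.ker α := SetLike.ext fun u => by
    rw [hM, LinearMap.mem_ker, LinearMap.sub_apply, sub_eq_zero]
    rfl
  have hex : Function.Exact (LinearMap.lTensor A' M.subtype) (LinearMap.lTensor A' α) :=
    Module.Flat.lTensor_exact A' (LinearMap.exact_iff.2 (by rw [Submodule.range_subtype, hMK]))
  refine ⟨fun x y hxy => ?_, fun u => ?_⟩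
  · apply Module.Flat.lTensor_preserves_injective_linearMap (M := A') M.subtype (Submodule.injective_subtype M)
    rw [← hback _ ((hex _).2 ⟨x, rfl⟩), ← hback _ ((hex _).2 ⟨y, rfl⟩)]
    exact congrArg ι₀ hxy
  · obtain ⟨x, hx⟩ := (hex _).1 (hι u)
    exact ⟨x, show μ (LinearMap.lTensor A' M.subtype x) = u by rw [hx, hμι]⟩
end Groth.Agent.S19547
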