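import Groth.Statements.S18745
import Groth.Agent.ModPairLib.AmbientStage

set_option backward.isDefEq.respectTransparency false
set_option backward.isDefEq.respectTransparency.types false

set_option autoImplicit false
universe u
open CategoryTheory CategoryTheory.Limits AlgebraicGeometry TopologicalSpace
open ModPair

namespace Groth.Agent.S18745

/-- Let S be a quasi-compact quasi-separated scheme, (X_i, I_i) a cofiltered system of S-schemes, all
quasi-compact and quasi-separated, carrying quasi-coherent ideal sheaves of effective Cartier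
divisors, with affine and minimal transition morphisms, and let X be its limit (as an S-scheme) with
projections π_i and modulus I = I_i.comap π_i for every i. Let Y ⟶ S be locally of finite type with
Y quasi-compact and quasi-separated, carrying the ideal sheaf I_Y of an effective Cartier divisor.
Assume that either every transition morphism is scheme-theoretically dominant, or Y ⟶ S is locally
of finite presentation. Then every S-morphism φ : X ⟶ Y satisfying the modulus condition I ≤
I_Y.comap φ descends: for some i there is an S-morphism φ_i : X_i ⟶ Y satisfying the modulus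
condition I_i ≤ I_Y.comap φ_i with π_i ≫ φ_i = φ. (The base is taken to be a scheme, that is the
base modulus pair with empty modulus; morphisms over an arbitrary base modulus pair are among
these.) -/
theorem result {S : Scheme.{u}}
    [CompactSpace S] [QuasiSeparatedSpace S] {I : Type u} [SmallCategory I] [IsCofiltered I]
    (D : I ⥤ Over S) (c : Cone D) (hc : IsLimit c)
    [∀ (i j : I) (t : i ⟶ j), IsAffineHom (D.map t).left]
    [∀ i, CompactSpace (D.obj i).left] [∀ i, QuasiSeparatedSpace (D.obj i).left]
    (J : ∀ i, (D.obj i).left.IdealSheafData) (hJ : ∀ i, BlowUp.IsEffCartierIdeal (J i))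
    (hmin : ∀ (i j : I) (t : i ⟶ j), ModPair.IsMinimal (J i) (J j) (D.map t).left)
    (IX : c.pt.left.IdealSheafData) (hIX : ∀ i, IX = (J i).comap (c.π.app i).left)
    (Y : Over S) [CompactSpace Y.left] [QuasiSeparatedSpace Y.left] [LocallyOfFiniteType Y.hom]
    (IY : Y.left.IdealSheafData) (hY : BlowUp.IsEffCartierIdeal IY)
    (h : (∀ (i j : I) (t : i ⟶ j), IsSchemeTheoreticallyDominant (D.map t).left) ∨
      LocallyOfFinitePresentation Y.hom)
    (φ : c.pt ⟶ Y) (hφ : ModPair.IsAmbient IX IY φ.left) :
    ∃ (i : I) (φi : D.obj i ⟶ Y), ModPair.IsAmbient (J i) IY φi.left ∧ c.π.app i ≫ φi = φ := by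
  obtain ⟨i, φ₀, hφ₀⟩ : ∃ (i : I) (φi : D.obj i ⟶ Y), c.π.app i ≫ φi = φ := by
    rcases h with h | h
    · haveI := h
      exact ModPairLib.exists_stage_of_dominant D c hc Y φ
    · haveI := h
      obtain ⟨i, g, hg, hgf⟩ := ModPairLib.exists_stage_of_fp D c hc Y.hom φ.left (Over.w φ)
      exact ⟨i, Over.homMk g hgf, Over.OverMorphism.ext hg⟩
  haveI := IsCofiltered.isConnected I
  haveI : ∀ (a b : I) (t : a ⟶ b), IsAffineHom ((D ⋙ Over.forget S).map t) := fun a b t =>
    inferInstanceAs (IsAffineHom (D.map t).left)
  haveI : CompactSpace ((D ⋙ Over.forget S).obj i) := inferInstanceAs (CompactSpace (D.obj i).left)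
  haveI : LocallyOfFinitePresentation (J i).subschemeι :=
    SmoothStrat.lfp_subschemeι _ (ModPairLib.fg_of_isEffCartier (hJ i))
  have hle : (J i).comap (c.π.app i).left ≤ (IY.comap φ₀.left).comap (c.π.app i).left := by
    rw [← Scheme.IdealSheafData.comap_comp, ← Over.comp_left, hφ₀, ← hIX i]
    exact hφ
  obtain ⟨j, t, ht⟩ := ModPairLib.exists_comap_le (D ⋙ Over.forget S) _
    (isLimitOfPreserves (Over.forget S) hc) i (J i) (IY.comap φ₀.left) hle
  refine ⟨j, D.map t ≫ φ₀, ?_, by rw [c.w_assoc t, hφ₀]⟩
  show J j ≤ IY.comap ((D.map t).left ≫ φ₀.left)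
  rw [Scheme.IdealSheafData.comap_comp, (hmin j i t : J j = _)]
  exact ht

end Groth.Agent.S18745
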