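import Groth.Statements.S19345
import Mathlib


set_option autoImplicit false
universe u v
open CategoryTheory CategoryTheory.Limits AlgebraicGeometry TopologicalSpace
open ModPair

namespace Groth.Agent.S19345


def ZLoc (P : Scheme.{u}) : Prop :=
  ∀ (X : Scheme.{u}) (R : Presieve X), R ∈ Scheme.precoverage (@IsOpenImmersion ⊓ @QuasiCompact) X →
    ∀ g : P ⟶ X, ∃ (Y : Scheme.{u}) (w : Y ⟶ X) (h : P ⟶ Y), R w ∧ h ≫ w = g

def FLoc (P : Scheme.{u}) : Prop :=
  ∀ (X : Scheme.{u}) (R : Presieve X), R ∈ Scheme.precoverage @IsFinite X →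
    ∀ g : P ⟶ X, ∃ (Y : Scheme.{u}) (w : Y ⟶ X) (h : P ⟶ Y), R w ∧ h ≫ w = g

theorem lift_ofArrows {P X : Scheme.{u}} {ι : Type v} {Y : ι → Scheme.{u}} (f : ∀ i, Y i ⟶ X)
    (g : P ⟶ X) (h : ∃ (Z : Scheme.{u}) (w : Z ⟶ X) (h : P ⟶ Z), Presieve.ofArrows Y f w ∧ h ≫ w = g) :
    ∃ i, ∃ h : P ⟶ Y i, h ≫ f i = g := by
  obtain ⟨Z, w, h, hw, e⟩ := h
  obtain ⟨i⟩ := hw
  exact ⟨i, h, e⟩

theorem ZLoc.of_iso {P Q : Scheme.{u}} (e : P ≅ Q) (hP : ZLoc P) : ZLoc Q := fun X R hR g => by
  obtain ⟨Y, w, h, hw, h'⟩ := hP X R hR (e.hom ≫ g)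
  exact ⟨Y, w, e.inv ≫ h, hw, by rw [Category.assoc, h', Iso.inv_hom_id_assoc]⟩

theorem FLoc.of_iso {P Q : Scheme.{u}} (e : P ≅ Q) (hP : FLoc P) : FLoc Q := fun X R hR g => by
  obtain ⟨Y, w, h, hw, h'⟩ := hP X R hR (e.hom ≫ g)
  exact ⟨Y, w, e.inv ≫ h, hw, by rw [Category.assoc, h', Iso.inv_hom_id_assoc]⟩

theorem nonempty_of_zLoc {P : Scheme.{u}} (hP : ZLoc P) : Nonempty P := by
  by_contra h
  haveI : IsEmpty P := not_nonempty_iff.1 h
  obtain ⟨_, _, _, hw, -⟩ := hP P ⊥ (Scheme.bot_mem_precoverage _ P) (𝟙 P)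
  exact hw

theorem isAffine_of_zLoc {P : Scheme.{u}} [QuasiSeparatedSpace P] (hP : ZLoc P) : IsAffine P := by
  have hmem : Presieve.ofArrows (fun U : P.affineOpens => (U.1 : Scheme.{u})) (fun U => U.1.ι) ∈
      Scheme.precoverage (@IsOpenImmersion ⊓ @QuasiCompact) P := by
    rw [Scheme.ofArrows_mem_precoverage_iff]
    refine ⟨fun x => ?_, fun U => ⟨inferInstance, ?_⟩⟩
    · obtain ⟨U, hU, hx, -⟩ := exists_isAffineOpen_mem_and_subset (X := P) (x := x) (U := ⊤) trivial
      exact ⟨⟨U, hU⟩, by simpa using hx⟩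
    · haveI : IsAffine (U.1 : Scheme.{u}) := U.2
      exact inferInstance
  obtain ⟨U, h, e⟩ := lift_ofArrows _ (𝟙 P) (hP P _ hmem (𝟙 P))
  haveI : IsSplitEpi U.1.ι := ⟨⟨⟨h, e⟩⟩⟩
  haveI : IsIso U.1.ι := isIso_of_mono_of_isSplitEpi _
  haveI : IsAffine (U.1 : Scheme.{u}) := U.2
  exact .of_isIso (inv U.1.ι)

variable {R : CommRingCat.{u}}

theorem isLocalRing_of_zLoc (hP : ZLoc (Spec R)) : IsLocalRing R := by
  obtain ⟨x⟩ := nonempty_of_zLoc hP
  haveI : Nontrivial R := PrimeSpectrum.nontrivial x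
  refine IsLocalRing.of_isUnit_or_isUnit_one_sub_self fun a => ?_
  let c : Bool → R := fun b => if b then a else 1 - a
  let f : ∀ b, Spec (CommRingCat.of (Localization.Away (c b))) ⟶ Spec R := fun b =>
    Spec.map (CommRingCat.ofHom (algebraMap R (Localization.Away (c b))))
  have hmem : Presieve.ofArrows _ f ∈ Scheme.precoverage (@IsOpenImmersion ⊓ @QuasiCompact) (Spec R) := by
    rw [Scheme.ofArrows_mem_precoverage_iff]
    refine ⟨fun y => ?_, fun b => ⟨IsOpenImmersion.of_isLocalization (c b), inferInstance⟩⟩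
    have hy : a ∉ y.asIdeal ∨ 1 - a ∉ y.asIdeal := by
      by_contra hcon
      push Not at hcon
      have h1 := y.asIdeal.add_mem hcon.1 hcon.2
      rw [add_sub_cancel] at h1
      exact y.isPrime.ne_top ((Ideal.eq_top_iff_one _).2 h1)
    have key : ∀ b, c b ∉ y.asIdeal → y ∈ Set.range (f b) := fun b hb => by
      change y ∈ Set.range (PrimeSpectrum.comap (algebraMap R (Localization.Away (c b))))
      rw [PrimeSpectrum.localization_away_comap_range (Localization.Away (c b)) (c b)]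
      exact hb
    rcases hy with hy | hy
    · exact ⟨true, key true hy⟩
    · exact ⟨false, key false hy⟩
  obtain ⟨b, h, e⟩ := lift_ofArrows _ (𝟙 _) (hP _ _ hmem (𝟙 _))
  obtain ⟨σ, rfl⟩ := Spec.map_surjective h
  rw [← Spec.map_comp, ← Spec.map_id] at e
  have e' := Spec.map_injective e
  have hu : IsUnit (c b) := by
    have h1 := (IsLocalization.Away.algebraMap_isUnit (S := Localization.Away (c b)) (c b)).map σ.hom
    have h2 : σ.hom (algebraMap R (Localization.Away (c b)) (c b)) = c b :=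
      congrArg (fun φ => CommRingCat.Hom.hom φ (c b)) e'
    rwa [h2] at h1
  cases b
  · exact Or.inr hu
  · exact Or.inl hu

theorem noZeroDivisors_of_fLoc (hP : FLoc (Spec R)) : NoZeroDivisors R := by
  refine ⟨fun {a b} hab => ?_⟩
  let c : Bool → R := fun t => if t then a else b
  let f : ∀ t, Spec (CommRingCat.of (R ⧸ Ideal.span {c t})) ⟶ Spec R := fun t =>
    Spec.map (CommRingCat.ofHom (Ideal.Quotient.mk (Ideal.span {c t})))
  have hmem : Presieve.ofArrows _ f ∈ Scheme.precoverage @IsFinite (Spec R) := by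
    rw [Scheme.ofArrows_mem_precoverage_iff]
    refine ⟨fun y => ?_, fun t => ?_⟩
    · have key : ∀ t, c t ∈ y.asIdeal → y ∈ Set.range (f t) := fun t ht => by
        change y ∈ Set.range (PrimeSpectrum.comap (Ideal.Quotient.mk (Ideal.span {c t})))
        rw [_root_.range_comap_of_surjective _ _ Ideal.Quotient.mk_surjective, Ideal.mk_ker]
        exact SetLike.coe_subset_coe.2 ((Ideal.span_singleton_le_iff_mem (I := y.asIdeal)).2 ht)
      rcases y.isPrime.mem_or_mem (show a * b ∈ y.asIdeal by rw [hab]; exact zero_mem _) with h | h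
      · exact ⟨true, key true h⟩
      · exact ⟨false, key false h⟩
    · exact (IsFinite.SpecMap_iff _).2 (RingHom.Finite.of_surjective _ Ideal.Quotient.mk_surjective)
  obtain ⟨t, h, e⟩ := lift_ofArrows _ (𝟙 _) (hP _ _ hmem (𝟙 _))
  obtain ⟨σ, rfl⟩ := Spec.map_surjective h
  rw [← Spec.map_comp, ← Spec.map_id] at e
  have e' := congrArg (fun φ => CommRingCat.Hom.hom φ (c t)) (Spec.map_injective e)
  have h0 : Ideal.Quotient.mk (Ideal.span {c t}) (c t) = 0 :=
    Ideal.Quotient.eq_zero_iff_mem.2 (Ideal.mem_span_singleton_self _)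
  have hc : c t = 0 := by
    refine Eq.trans e'.symm ?_
    show σ.hom (Ideal.Quotient.mk (Ideal.span {c t}) (c t)) = 0
    rw [h0, map_zero]
  cases t
  · exact Or.inr hc
  · exact Or.inl hc

theorem isAIC_of_fLoc [IsDomain R] (hP : FLoc (Spec R)) : Curves.IsAIC R := by
  intro p hp hd
  let f := Spec.map (CommRingCat.ofHom (AdjoinRoot.of p))
  have hfin : (AdjoinRoot.of p).Finite := by
    haveI := hp.finite_adjoinRoot
    exact RingHom.finite_algebraMap.2 this
  have hmem : Presieve.ofArrows (fun _ : PUnit.{1} => Spec (CommRingCat.of (AdjoinRoot p))) (fun _ => f) ∈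
      Scheme.precoverage @IsFinite (Spec R) := by
    rw [Scheme.ofArrows_mem_precoverage_iff]
    refine ⟨fun y => ⟨⟨⟩, ?_⟩, fun _ => (IsFinite.SpecMap_iff _).2 hfin⟩
    have hinj : Function.Injective (AdjoinRoot.of p) :=
      AdjoinRoot.of.injective_of_degree_ne_zero (by
        intro h
        rw [Polynomial.degree_eq_natDegree hp.ne_zero] at h
        have h' : p.natDegree = 0 := by exact_mod_cast h
        omega)
    exact RingHom.IsIntegral.comap_surjective hfin.to_isIntegral hinj y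
  obtain ⟨t, h, e⟩ := lift_ofArrows _ (𝟙 _) (hP _ _ hmem (𝟙 _))
  obtain ⟨σ, rfl⟩ := Spec.map_surjective h
  rw [← Spec.map_comp, ← Spec.map_id] at e
  have e' := Spec.map_injective e
  have hid : σ.hom.comp (AdjoinRoot.of p) = RingHom.id R := congrArg CommRingCat.Hom.hom e'
  refine ⟨σ.hom (AdjoinRoot.root p), ?_⟩
  have h1 := Polynomial.hom_eval₂ p (AdjoinRoot.of p) σ.hom (AdjoinRoot.root p)
  rw [AdjoinRoot.eval₂_root, map_zero, hid] at h1
  exact h1.symm

/-- Over an absolutely integrally closed ring, a root of a monic polynomial in a domain comes from the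
ring. -/
theorem mem_range_of_root {A D : Type u} [CommRing A] [Nontrivial A] [CommRing D] [IsDomain D]
    (hA : Curves.IsAIC A) (φ : A →+* D) (b : D) :
    ∀ (n : ℕ) (p : Polynomial A), p.natDegree = n → p.Monic → p.eval₂ φ b = 0 → b ∈ φ.range := by
  intro n
  induction n with
  | zero =>
    intro p hn hp hb
    rw [(Polynomial.Monic.natDegree_eq_zero hp).1 hn] at hb
    simp at hb
  | succ m ih =>
    intro p hn hp hb
    obtain ⟨r, hr⟩ := hA p hp (by omega)
    have hdvd := Polynomial.mul_divByMonic_eq_iff_isRoot.2 (show p.IsRoot r from hr)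
    have hqm : (p /ₘ (Polynomial.X - Polynomial.C r)).Monic :=
      (Polynomial.monic_X_sub_C r).of_mul_monic_left (by rwa [hdvd])
    have hdeg : (p /ₘ (Polynomial.X - Polynomial.C r)).natDegree = m := by
      rw [Polynomial.natDegree_divByMonic p (Polynomial.monic_X_sub_C r),
        Polynomial.natDegree_X_sub_C]
      omega
    rw [← hdvd, Polynomial.eval₂_mul, Polynomial.eval₂_sub, Polynomial.eval₂_X,
      Polynomial.eval₂_C] at hb
    rcases mul_eq_zero.1 hb with h | h
    · exact ⟨r, (sub_eq_zero.1 h).symm⟩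
    · exact ih _ hdeg hqm h

theorem exists_retraction [IsLocalRing R] [IsDomain R] (hA : Curves.IsAIC R) {B : CommRingCat.{u}}
    (φ : R ⟶ B) (hφ : φ.hom.Finite) (q : PrimeSpectrum B)
    (hq : q.asIdeal.comap φ.hom = ⊥) : ∃ σ : B ⟶ R, φ ≫ σ = 𝟙 R := by
  let ψ : R →+* B ⧸ q.asIdeal := (Ideal.Quotient.mk q.asIdeal).comp φ.hom
  have hinj : Function.Injective ψ := by
    rw [RingHom.injective_iff_ker_eq_bot, ← RingHom.comap_ker, Ideal.mk_ker, hq]
  have hsurj : Function.Surjective ψ := fun d => by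
    obtain ⟨b, rfl⟩ := Ideal.Quotient.mk_surjective d
    obtain ⟨p, hp, hb⟩ := hφ.to_isIntegral b
    refine RingHom.mem_range.1 (mem_range_of_root hA ψ _ _ p rfl hp ?_)
    rw [← Polynomial.hom_eval₂, hb, map_zero]
  let e := RingEquiv.ofBijective ψ ⟨hinj, hsurj⟩
  refine ⟨CommRingCat.ofHom (e.symm.toRingHom.comp (Ideal.Quotient.mk q.asIdeal)), ?_⟩
  ext x
  change e.symm (Ideal.Quotient.mk q.asIdeal (φ.hom x)) = x
  exact e.symm_apply_apply x

theorem zLoc_of_isLocalRing [IsLocalRing R] : ZLoc (Spec R) := by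
  intro X S hS g
  obtain ⟨ι, Y, f, rfl⟩ := S.exists_eq_ofArrows
  rw [Scheme.ofArrows_mem_precoverage_iff] at hS
  obtain ⟨i, hi⟩ := hS.1 (g (IsLocalRing.closedPoint R))
  haveI : IsOpenImmersion (f i) := (hS.2 i).1
  have hall : Set.range g ⊆ Set.range (f i) := by
    rintro _ ⟨y, rfl⟩
    have h1 : g y ⤳ g (IsLocalRing.closedPoint R) :=
      (IsLocalRing.specializes_closedPoint (R := R) y).map g.continuous
    exact h1.mem_open (f i).isOpenEmbedding.isOpen_range hi
  exact ⟨Y i, f i, IsOpenImmersion.lift (f i) g hall, ⟨i⟩, IsOpenImmersion.lift_fac _ _ _⟩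

theorem fLoc_of_isAIC [IsLocalRing R] [IsDomain R] (hA : Curves.IsAIC R) : FLoc (Spec R) := by
  intro X S hS g
  obtain ⟨ι, Y, f, rfl⟩ := S.exists_eq_ofArrows
  rw [Scheme.ofArrows_mem_precoverage_iff] at hS
  let η : PrimeSpectrum R := ⟨⊥, Ideal.isPrime_bot⟩
  obtain ⟨i, hi⟩ := hS.1 (g η)
  haveI : IsFinite (f i) := hS.2 i
  haveI : IsAffine (pullback (f i) g) := isAffine_of_isAffineHom (pullback.snd (f i) g)
  let W := pullback (f i) g
  have hη : η ∈ Set.range (pullback.snd (f i) g) := by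
    rw [Scheme.Pullback.range_snd]
    exact hi
  obtain ⟨w, hw⟩ := hη
  let f' := W.isoSpec.inv ≫ pullback.snd (f i) g
  obtain ⟨φ, hφ⟩ := Spec.map_surjective f'
  have hfin : φ.hom.Finite := by
    refine (IsFinite.SpecMap_iff φ).1 ?_
    rw [hφ]
    infer_instance
  let q : PrimeSpectrum Γ(W, ⊤) := W.isoSpec.hom w
  have hq : q.asIdeal.comap φ.hom = ⊥ := by
    have h1 : Spec.map φ q = η := by
      rw [hφ, ← hw, ← Scheme.Hom.comp_apply, Iso.hom_inv_id_assoc]
    exact congrArg PrimeSpectrum.asIdeal h1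
  obtain ⟨σ, hσ⟩ := exists_retraction hA φ hfin q hq
  have hsec : (Spec.map σ ≫ W.isoSpec.inv) ≫ pullback.snd (f i) g = 𝟙 _ := by
    rw [Category.assoc, show W.isoSpec.inv ≫ pullback.snd (f i) g = Spec.map φ from hφ.symm,
      ← Spec.map_comp, hσ, Spec.map_id]
  refine ⟨Y i, f i, (Spec.map σ ≫ W.isoSpec.inv) ≫ pullback.fst (f i) g, ⟨i⟩, ?_⟩
  rw [Category.assoc, pullback.condition, ← Category.assoc, hsec, Category.id_comp]


/-- Let P be a quasi-separated scheme. Then P is local for Zariski coverings (for every scheme X, every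
jointly surjective family of quasi-compact open immersions into X and every morphism P ⟶ X, the
morphism factors through a member) and for finite coverings (the same for jointly surjective
families of finite morphisms) — which together is locality for the rqfh coverings, the finite
composites of coverings of these two kinds — if and only if P is affine and Γ(P) is a local integral
domain in which every monic polynomial of positive degree has a root, i.e. the spectrum of an
absolutely integrally closed local domain. The published statement allows any scheme P; this row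
assumes P quasi-separated. -/
theorem result (P : Scheme.{u}) [QuasiSeparatedSpace P] :
    ((∀ (X : Scheme.{u}) (R : Presieve X), R ∈ Scheme.precoverage (@IsOpenImmersion ⊓ @QuasiCompact) X →
        ∀ g : P ⟶ X, ∃ (Y : Scheme.{u}) (w : Y ⟶ X) (h : P ⟶ Y), R w ∧ h ≫ w = g) ∧
      (∀ (X : Scheme.{u}) (R : Presieve X), R ∈ Scheme.precoverage @IsFinite X →
        ∀ g : P ⟶ X, ∃ (Y : Scheme.{u}) (w : Y ⟶ X) (h : P ⟶ Y), R w ∧ h ≫ w = g)) ↔
    (IsAffine P ∧ IsLocalRing Γ(P, ⊤) ∧ IsDomain Γ(P, ⊤) ∧ Curves.IsAIC Γ(P, ⊤)) := by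
  constructor
  · rintro ⟨h₁, h₂⟩
    haveI : IsAffine P := isAffine_of_zLoc h₁
    haveI hl : IsLocalRing Γ(P, ⊤) := isLocalRing_of_zLoc (ZLoc.of_iso P.isoSpec h₁)
    have hF := FLoc.of_iso P.isoSpec h₂
    haveI := noZeroDivisors_of_fLoc hF
    haveI hd : IsDomain Γ(P, ⊤) := NoZeroDivisors.to_isDomain _
    exact ⟨inferInstance, hl, hd, isAIC_of_fLoc hF⟩
  · rintro ⟨_, _, _, hA⟩
    exact ⟨ZLoc.of_iso P.isoSpec.symm zLoc_of_isLocalRing,
      FLoc.of_iso P.isoSpec.symm (fLoc_of_isAIC hA)⟩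

end Groth.Agent.S19345
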