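import Groth.Statements.S17018
import Mathlib

set_option autoImplicit false
universe u
open CategoryTheory CategoryTheory.Limits AlgebraicGeometry
open scoped TensorProduct
open Models

namespace Groth.Agent.S17018
open IsLocalRing in
theorem ker_stalkMap_le {R : Type u} [CommRing R] [IsLocalRing R] {X Xs : Scheme.{u}}
    (f : X ⟶ Spec (CommRingCat.of R)) (gs : Xs ⟶ X) (fs : Xs ⟶ Spec (CommRingCat.of (ResidueField R)))
    (hs : IsPullback gs fs f (Spec.map (CommRingCat.ofHom (residue R)))) (ξ : Xs)
    (φ : R →+* X.presheaf.stalk (gs ξ))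
    (hφ : φ = (X.presheaf.germ ⊤ (gs ξ) trivial).hom.comp (Coh.toGlobal f))
    (hne : (maximalIdeal R).map φ ≠ ⊤) :
    RingHom.ker (gs.stalkMap ξ).hom ≤ (maximalIdeal R).map φ := by
  haveI : IsClosedImmersion (Spec.map (CommRingCat.ofHom (residue R))) :=
    IsClosedImmersion.spec_of_surjective _ residue_surjective
  haveI : IsClosedImmersion gs := MorphismProperty.of_isPullback hs.flip inferInstance
  haveI : Nontrivial (X.presheaf.stalk (gs ξ) ⧸ (maximalIdeal R).map φ) := Ideal.Quotient.nontrivial_iff.2 hne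
  haveI : IsLocalRing (X.presheaf.stalk (gs ξ) ⧸ (maximalIdeal R).map φ) :=
    IsLocalRing.of_surjective' (Ideal.Quotient.mk _) Ideal.Quotient.mk_surjective
  let Q : CommRingCat.{u} := CommRingCat.of (X.presheaf.stalk (gs ξ) ⧸ (maximalIdeal R).map φ)
  haveI : IsLocalRing Q := ‹IsLocalRing (X.presheaf.stalk (gs ξ) ⧸ (maximalIdeal R).map φ)›
  let q : X.presheaf.stalk (gs ξ) ⟶ Q := CommRingCat.ofHom (Ideal.Quotient.mk ((maximalIdeal R).map φ))
  haveI : IsLocalHom q.hom := Function.Surjective.isLocalHom _ Ideal.Quotient.mk_surjective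
  let χ : ResidueField R →+* Q := Ideal.Quotient.lift (maximalIdeal R) (q.hom.comp φ)
    fun a ha => Ideal.Quotient.eq_zero_iff_mem.2 (Ideal.mem_map_of_mem φ ha)
  have hT : (Spec.map q ≫ X.fromSpecStalk (gs ξ)) ≫ f =
      Spec.map (CommRingCat.ofHom χ) ≫ Spec.map (CommRingCat.ofHom (residue R)) := by
    rw [← Spec.map_comp]
    refine ext_of_isAffine (CommRingCat.hom_ext (RingHom.ext fun a => ?_))
    apply (Scheme.ΓSpecIso Q).commRingCatIsoToRingEquiv.injective
    obtain ⟨a, rfl⟩ := (Scheme.ΓSpecIso (CommRingCat.of R)).symm.commRingCatIsoToRingEquiv.surjective a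
    have h1 : ∀ b, (Scheme.ΓSpecIso Q).hom ((Spec.map q).appTop b) = q ((Scheme.ΓSpecIso _).hom b) := fun b =>
      ConcreteCategory.congr_hom (Scheme.ΓSpecIso_naturality q) b
    have h2 : ∀ b, (Scheme.ΓSpecIso Q).hom ((Spec.map (CommRingCat.ofHom (residue R) ≫ CommRingCat.ofHom χ)).appTop b) =
        χ (residue R ((Scheme.ΓSpecIso _).hom b)) := fun b =>
      ConcreteCategory.congr_hom (Scheme.ΓSpecIso_naturality (CommRingCat.ofHom (residue R) ≫ CommRingCat.ofHom χ)) b
    show (Scheme.ΓSpecIso Q).hom ((Spec.map q).appTop ((X.fromSpecStalk (gs ξ)).appTop (f.appTop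
      ((Scheme.ΓSpecIso (CommRingCat.of R)).inv a)))) = (Scheme.ΓSpecIso Q).hom
        ((Spec.map (CommRingCat.ofHom (residue R) ≫ CommRingCat.ofHom χ)).appTop
          ((Scheme.ΓSpecIso (CommRingCat.of R)).inv a))
    rw [h1, h2, Iso.inv_hom_id_apply, Scheme.fromSpecStalk_appTop]
    simp only [CommRingCat.comp_apply, homOfLE_refl, op_id, CategoryTheory.Functor.map_id, CommRingCat.id_apply, Iso.inv_hom_id_apply]
    subst hφ
    rfl
  let g : Spec Q ⟶ Xs := hs.lift _ _ hT
  have hg : g ≫ gs = Spec.map q ≫ X.fromSpecStalk (gs ξ) := hs.lift_fst _ _ _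
  have hgz : g (closedPoint Q) = ξ := by
    refine gs.isClosedEmbedding.injective ((congrArg (fun h : Spec Q ⟶ X => h (closedPoint Q)) hg).trans ?_)
    exact (congrArg (X.fromSpecStalk (gs ξ)) (Spec_closedPoint (f := q))).trans Scheme.fromSpecStalk_closedPoint
  intro a ha
  obtain ⟨V, hV, a₁, rfl⟩ := TopCat.Presheaf.exists_germ_eq X.presheaf (x := gs ξ) a
  have ha' : Xs.presheaf.germ (gs ⁻¹ᵁ V) ξ hV (gs.app V a₁) = 0 := by
    rw [← Scheme.Hom.germ_stalkMap_apply]; exact ha
  obtain ⟨W, hzW, iW, iW', hW⟩ := TopCat.Presheaf.germ_eq (U := gs ⁻¹ᵁ V) (V := gs ⁻¹ᵁ V) Xs.presheaf ξ hV hV _ 0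
    (by rw [ha', map_zero])
  rw [map_zero] at hW
  have hgV : g (closedPoint Q) ∈ gs ⁻¹ᵁ V := by rw [hgz]; exact hV
  have hgW : g (closedPoint Q) ∈ W := by rw [hgz]; exact hzW
  have key : ∀ (h : Spec Q ⟶ X) (_ : h = Spec.map q ≫ X.fromSpecStalk (gs ξ)) (hc : h (closedPoint Q) ∈ V),
      Scheme.stalkClosedPointTo h (X.presheaf.germ V _ hc a₁) = q (X.presheaf.germ V (gs ξ) hV a₁) := by
    rintro h rfl hc
    exact ConcreteCategory.congr_hom (Scheme.germ_stalkClosedPointTo_Spec_fromSpecStalk q V hc) a₁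
  have e3 := key (g ≫ gs) hg hgV
  rw [Scheme.stalkClosedPointTo_comp] at e3
  replace e3 : Scheme.stalkClosedPointTo g (gs.stalkMap (g (closedPoint Q))
      (X.presheaf.germ V (gs (g (closedPoint Q))) hgV a₁)) = q (X.presheaf.germ V (gs ξ) hV a₁) := e3
  rw [Scheme.Hom.germ_stalkMap_apply gs V (g (closedPoint Q)) hgV a₁,
    ← TopCat.Presheaf.germ_res_apply Xs.presheaf iW _ hgW, hW, map_zero, map_zero] at e3
  exact Ideal.Quotient.eq_zero_iff_mem.1 e3.symm

/-- Let R be a discrete valuation ring with algebraically closed residue field and f : X → Spec R a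
proper flat morphism whose generic fibre (base change to the fraction field of R) is smooth of
relative dimension 1 and connected and whose special fibre (base change to the residue field) is
connected and reduced; let ξ be the generic point of an irreducible component of the special fibre
and B a discrete valuation ring given with an isomorphism from the local ring of X at ξ under which
R → B is the map induced by f. Then the maximal ideal of B is the extension of the maximal ideal of
R: a uniformizer of R maps to a uniformizer of B. (The published setting takes everything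
essentially of finite type over a field of characteristic zero; the printed argument does not use
this and it is not imposed here.) -/
theorem result
    (R : Type u) [CommRing R] [IsDomain R] [IsDiscreteValuationRing R]
    [IsAlgClosed (IsLocalRing.ResidueField R)]
    (X : Scheme.{u}) (f : X ⟶ Spec (CommRingCat.of R)) [IsProper f] [Flat f]
    (XK : Scheme.{u}) (gK : XK ⟶ X) (fK : XK ⟶ Spec (CommRingCat.of (FractionRing R)))
    (hK : IsPullback gK fK f (Spec.map (CommRingCat.ofHom (algebraMap R (FractionRing R)))))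
    [SmoothOfRelativeDimension 1 fK] [ConnectedSpace XK]
    (Xs : Scheme.{u}) (gs : Xs ⟶ X) (fs : Xs ⟶ Spec (CommRingCat.of (IsLocalRing.ResidueField R)))
    (hs : IsPullback gs fs f (Spec.map (CommRingCat.ofHom (IsLocalRing.residue R))))
    [ConnectedSpace Xs] [IsReduced Xs]
    (ξ : Xs) (hξ : closure ({ξ} : Set Xs) ∈ irreducibleComponents Xs)
    (B : Type u) [CommRing B] [IsDomain B] [IsDiscreteValuationRing B] [Algebra R B]
    (e : X.presheaf.stalk (gs.base ξ) ≅ CommRingCat.of B)
    (he : e.hom.hom.comp ((X.presheaf.germ ⊤ (gs.base ξ) trivial).hom.comp (Coh.toGlobal f)) =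
      algebraMap R B) :
    IsLocalRing.maximalIdeal B = Ideal.map (algebraMap R B) (IsLocalRing.maximalIdeal R) := by
  refine le_antisymm ?_ ?_
  · by_cases hne : (IsLocalRing.maximalIdeal R).map
        ((X.presheaf.germ ⊤ (gs ξ) trivial).hom.comp (Coh.toGlobal f)) = ⊤
    · rw [← he, ← Ideal.map_map, hne, Ideal.map_top]
      exact le_top
    have h1 := ker_stalkMap_le f gs fs hs ξ _ rfl hne
    have hF : IsField (Xs.presheaf.stalk ξ) := isField_stalk_of_closure_mem_irreducibleComponents Xs ξ hξ
    haveI : IsLocalHom (gs.stalkMap ξ).hom := inferInstance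
    intro b hb
    rw [← he, ← Ideal.map_map]
    have hb' : e.inv b ∈ RingHom.ker (gs.stalkMap ξ).hom := by
      by_contra hne'
      letI := hF.toField
      have hu : IsUnit (e.inv b) := isUnit_of_map_unit (gs.stalkMap ξ).hom _ (IsUnit.mk0 _ hne')
      exact (IsLocalRing.mem_maximalIdeal b).1 hb ((e.inv_hom_id_apply b) ▸ hu.map e.hom.hom)
    have h2 := Ideal.mem_map_of_mem e.hom.hom (h1 hb')
    rwa [e.inv_hom_id_apply] at h2
  · rw [← he, ← Ideal.map_map]
    haveI : IsClosedImmersion (Spec.map (CommRingCat.ofHom (IsLocalRing.residue R))) :=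
      IsClosedImmersion.spec_of_surjective _ IsLocalRing.residue_surjective
    refine Ideal.map_le_iff_le_comap.2 (Ideal.map_le_iff_le_comap.2 fun r hr => ?_)
    show e.hom _ ∈ IsLocalRing.maximalIdeal B
    rw [IsLocalRing.mem_maximalIdeal, mem_nonunits_iff]
    intro hu
    have hu' := hu.map e.inv.hom
    have hu2 := (e.hom_inv_id_apply _ ▸ hu').map (gs.stalkMap ξ).hom
    refine hu2.ne_zero ?_
    show gs.stalkMap ξ (X.presheaf.germ ⊤ (gs ξ) trivial (Coh.toGlobal f r)) = 0
    refine (Scheme.Hom.germ_stalkMap_apply gs ⊤ ξ trivial (Coh.toGlobal f r)).trans ?_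
    have h3 : gs.appTop (Coh.toGlobal f r) = 0 := by
      show (gs ≫ f).appTop ((Scheme.ΓSpecIso (CommRingCat.of R)).inv r) = 0
      rw [hs.w]
      show fs.appTop ((Spec.map (CommRingCat.ofHom (IsLocalRing.residue R))).appTop
        ((Scheme.ΓSpecIso (CommRingCat.of R)).inv r)) = 0
      rw [show (Spec.map (CommRingCat.ofHom (IsLocalRing.residue R))).appTop
        ((Scheme.ΓSpecIso (CommRingCat.of R)).inv r) =
          (Scheme.ΓSpecIso _).inv (IsLocalRing.residue R r) from
        (ConcreteCategory.congr_hom (Scheme.ΓSpecIso_inv_naturality (CommRingCat.ofHom (IsLocalRing.residue R))) r).symm,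
        (IsLocalRing.residue_eq_zero_iff r).2 hr, map_zero, map_zero]
    exact (congrArg (Xs.presheaf.germ ⊤ ξ trivial) h3).trans (map_zero _)

end Groth.Agent.S17018
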