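import Groth.Statements.S10302
import Groth.Agent.AlgSpLib.LocP
import Groth.Agent.AlgSpLib.Points

set_option autoImplicit false
universe u
open CategoryTheory CategoryTheory.Limits AlgebraicGeometry
open AlgSp

namespace Groth.Agent.S10302

theorem isMax_iff {U : Scheme.{u}} (u : U) : ringKrullDim (U.presheaf.stalk u) = 0 ↔ IsMax u := by
  rw [ringKrullDim_stalk_eq_coheight, ← Order.coheight_eq_zero]
  exact WithBot.coe_eq_zero


/-- A flat morphism of algebraic spaces maps points of codimension 0 to points of codimension 0. -/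
theorem result {S : Scheme.{u}} {X Y : AlgSp.Space S} (f : X ⟶ Y) (hf : AlgSp.LocP @Flat f.hom)
    (x : AlgSp.Points X.obj) (hx : AlgSp.HasAt (fun U u => ringKrullDim ↥(U.presheaf.stalk u) = 0) X.obj x) :
    AlgSp.HasAt (fun U u => ringKrullDim ↥(U.presheaf.stalk u) = 0) Y.obj (AlgSp.Points.map f.hom x) := by
  obtain ⟨U, a, u, ha, rfl, hu⟩ := hx
  obtain ⟨V, b, hb, hbs⟩ := Y.property.atlas
  obtain ⟨W, r, q, sq⟩ : ∃ (W : Over S) (r : W ⟶ V) (q : W ⟶ U),
      IsPullback ((AlgSp.yon S).map r) ((AlgSp.yon S).map q) b (a ≫ f.hom) :=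
    AlgSpLib.exists_isPullback_yon b (a ≫ f.hom) hb.rep
  have hq : AlgSp.RepWith @Etale ((AlgSp.yon S).map q) := AlgSpLib.repWith_of_isPullback sq hb
  have : Etale q.left := AlgSpLib.etale_left hq
  have : Surjective q.left := AlgSpLib.surjective_left (AlgSpLib.repWith_of_isPullback sq hbs)
  obtain ⟨w, rfl⟩ := q.left.surjective u
  refine ⟨V, b, r.left w, hb, ?_, ?_⟩
  · rw [Points.map_ofPt, ← AlgSpLib.ofPt_yon_comp q, ← sq.w, AlgSpLib.ofPt_yon_comp]
  · change ringKrullDim _ = 0
    rw [isMax_iff]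
    have hfl : Flat r.left := hf ((AlgSp.yon S).map q ≫ a) b r (AlgSpLib.repWith_comp hq ha) hb
      (by rw [Category.assoc, ← sq.w])
    have hu' : IsMax (q.left w) := (isMax_iff _).1 hu
    intro y hy
    obtain ⟨w', hw', rfl⟩ := Flat.generalizingMap r.left (show y ⤳ r.left w from hy)
    have h1 : q.left w' ⤳ q.left w := hw'.map q.left.continuous
    have h2 : q.left w' = q.left w := (Specializes.antisymm h1 (hu' h1)).eq
    have := AlgSpLib.locallyQuasiFinite_of_etale q.left
    have hd : _root_.IsDiscrete (q.left ⁻¹' {q.left w}) := q.left.isDiscrete_preimage_singleton _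
    have hsub : (⟨w', h2⟩ : q.left ⁻¹' {q.left w}) ⤳ ⟨w, rfl⟩ := (subtype_specializes_iff _ _).2 hw'
    have := hd.to_subtype
    exact (congrArg r.left (congrArg Subtype.val (specializes_iff_eq.1 hsub))).symm ▸ le_rfl

end Groth.Agent.S10302
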