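import Groth.Statements.S1546
import Mathlib
import Groth.Agent.RichLib.FieldExtComponents

set_option autoImplicit false
universe u
open CategoryTheory CategoryTheory.Limits AlgebraicGeometry
open Variety

namespace Groth.Agent.S1546

/-- For a field extension K of k and a scheme X over k, the image in X of an irreducible component of
X_K is an irreducible component of X, and every irreducible component of X is such an image. -/
theorem result (k : Type u) [Field k] (X : Scheme.{u}) [X.Over (Spec (CommRingCat.of k))] (K : Type u) [Field K] [Algebra k K] :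
    (∀ T ∈ irreducibleComponents (Curv2.bc k X K : Type u), (Curv2.bcFst k X K).base '' T ∈ irreducibleComponents (X : Type u)) ∧
    (∀ Z ∈ irreducibleComponents (X : Type u), ∃ T ∈ irreducibleComponents (Curv2.bc k X K : Type u), (Curv2.bcFst k X K).base '' T = Z) := by
  let g := Spec.map (CommRingCat.ofHom (algebraMap k K))
  let f := Curv2.bcFst k X K
  haveI : Flat g := by
    rw [HasRingHomProperty.Spec_iff (P := @Flat)]
    show RingHom.Flat (algebraMap k K)
    rw [RingHom.flat_algebraMap_iff]
    infer_instance
  haveI : Surjective g := ⟨fun x => ⟨Classical.arbitrary _, Subsingleton.elim _ _⟩⟩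
  haveI : Flat f := inferInstanceAs (Flat (pullback.fst _ g))
  haveI : Surjective f := inferInstanceAs (Surjective (pullback.fst _ g))
  have hgen : ∀ {Y : Scheme.{u}} (T : Set Y), T ∈ irreducibleComponents (Y : Type u) →
      ∃ y : Y, T = closure {y} ∧ ∀ y', y' ⤳ y → y' = y := by
    intro Y T hT
    have hc := isClosed_of_mem_irreducibleComponents T hT
    obtain ⟨y, hy⟩ := QuasiSober.sober hT.1 hc
    refine ⟨y, hy.def.symm, fun y' hy' => ?_⟩
    have h1 : T ⊆ closure {y'} := by
      rw [← hy.def]; exact (specializes_iff_closure_subset.mp hy')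
    have h2 : closure {y'} = T := ((hT.2 (isIrreducible_singleton.closure) h1).antisymm h1)
    exact IsGenericPoint.eq h2 hy
  have hmax : ∀ (y : Curv2.bc k X K), (∀ y', y' ⤳ y → y' = y) → ∀ ξ, ξ ⤳ f.base y → ξ = f.base y := by
    intro y hy ξ hξ
    obtain ⟨y', hy', rfl⟩ := Flat.generalizingMap f hξ
    rw [hy y' hy']
  have himg : ∀ (y : Curv2.bc k X K), (∀ y', y' ⤳ y → y' = y) →
      f.base '' closure {y} = closure {f.base y} := by
    intro y hy
    refine (Set.Subset.antisymm ?_ ?_)
    · rintro _ ⟨w, hw, rfl⟩
      exact specializes_iff_mem_closure.mp ((specializes_iff_mem_closure.mpr hw).map f.continuous)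
    · intro z hz
      obtain ⟨y', h1, h2⟩ := RichLib.FieldExtComp.exists_specializes_over _ K y hy z
        (specializes_iff_mem_closure.mpr hz)
      exact ⟨y', specializes_iff_mem_closure.mp h1, h2⟩
  refine ⟨fun T hT => ?_, fun Z hZ => ?_⟩
  · obtain ⟨y, rfl, hy⟩ := hgen T hT
    show f.base '' closure {y} ∈ _
    rw [himg y hy]
    refine ⟨isIrreducible_singleton.closure, fun S hS hle => ?_⟩
    have hS' : IsIrreducible (closure S) := hS.closure
    obtain ⟨s, hs⟩ := QuasiSober.sober hS' isClosed_closure
    have h1 : s ⤳ f.base y := hs.specializes (subset_closure (hle (subset_closure rfl)))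
    rw [← hmax y hy s h1, hs.def]
    exact subset_closure
  · obtain ⟨ξ, rfl, hξ⟩ := hgen Z hZ
    obtain ⟨w, rfl⟩ := f.surjective ξ
    obtain ⟨y, hy1, hy⟩ := hgen _ (irreducibleComponent_mem_irreducibleComponents w)
    refine ⟨closure {y}, hy1 ▸ irreducibleComponent_mem_irreducibleComponents w, ?_⟩
    show f.base '' closure {y} = closure {f.base w}
    rw [himg y hy]
    have hyw : y ⤳ w := specializes_iff_mem_closure.mpr (hy1 ▸ mem_irreducibleComponent)
    rw [hξ _ (hyw.map f.continuous)]

end Groth.Agent.S1546
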