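import Groth.Statements.S4673
import Mathlib
import Groth.Agent.FibDimLib.Comps
import Groth.Agent.S1546
-- import your own Groth.Agent.* helpers here

set_option autoImplicit false
open CategoryTheory AlgebraicGeometry
universe u
open FBase

namespace Groth.Agent.S4673

/-- Let X be a scheme locally of finite type over a field k and K an extension field of k. Then the set
of dimensions of the irreducible components of X ⊗_k K is equal to the set of dimensions of the
irreducible components of X (Krull dimensions of the underlying spaces, valued in WithBot ℕ∞). -/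
theorem result {k K : Type u} [Field k] [Field K] [Algebra k K]
    {X : Scheme.{u}} (f : X ⟶ Spec (CommRingCat.of k)) [LocallyOfFiniteType f] :
    (fun Z : Set ↥(FBase.bc f K) => topologicalKrullDim ↥Z) '' irreducibleComponents ↥(FBase.bc f K) =
      (fun Z : Set ↥X => topologicalKrullDim ↥Z) '' irreducibleComponents ↥X := by
  letI : X.Over (Spec (CommRingCat.of k)) := ⟨f⟩
  obtain ⟨h1, h2⟩ := Groth.Agent.S1546.result k X K
  let p : FBase.bc f K ⟶ X := CategoryTheory.Limits.pullback.fst f (Spec.map (CommRingCat.ofHom (algebraMap k K)))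
  have key : ∀ T ∈ irreducibleComponents ↥(FBase.bc f K), topologicalKrullDim ↥T = topologicalKrullDim ↥(p.base '' T) := by
    intro T hT
    have hZ : p.base '' T ∈ irreducibleComponents ↥X := h1 T hT
    have hTs : T ⊆ p.base ⁻¹' (p.base '' T) := Set.subset_preimage_image _ _
    let W : Set ↥(p.base ⁻¹' (p.base '' T)) := Subtype.val ⁻¹' T
    have hWT : Subtype.val '' W = T := by
      rw [Subtype.image_preimage_coe, Set.inter_eq_right.mpr hTs]
    have hW : W ∈ irreducibleComponents ↥(p.base ⁻¹' (p.base '' T)) := by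
      refine ⟨?_, fun W' hW' hle => ?_⟩
      · refine ⟨?_, ?_⟩
        · obtain ⟨x, hx⟩ := hT.1.1
          exact ⟨⟨x, hTs hx⟩, hx⟩
        · rintro U V hU hV ⟨a, haW, haU⟩ ⟨b, hbW, hbV⟩
          obtain ⟨U', hU', rfl⟩ := isOpen_induced_iff.mp hU
          obtain ⟨V', hV', rfl⟩ := isOpen_induced_iff.mp hV
          obtain ⟨x, hxT, hxU, hxV⟩ := hT.1.2 U' V' hU' hV' ⟨a.1, haW, haU⟩ ⟨b.1, hbW, hbV⟩
          exact ⟨⟨x, hTs hxT⟩, hxT, hxU, hxV⟩
      · have h3 : Subtype.val '' W' ≤ T := hT.2 (hW'.image _ continuous_subtype_val.continuousOn)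
          (hWT.symm.trans_le (Set.image_mono hle))
        exact Set.image_subset_iff.mp h3
    refine Eq.trans ?_ (FibDimLib.topologicalKrullDim_component_bc f
      (isClosed_of_mem_irreducibleComponents _ hZ) hZ.1 W hW)
    exact (IsHomeomorph.topologicalKrullDim_eq _ ((Homeomorph.setCongr hWT.symm).trans
      (Topology.IsEmbedding.subtypeVal.homeomorphImage W).symm).isHomeomorph)
  apply Set.Subset.antisymm
  · rintro _ ⟨T, hT, rfl⟩
    exact ⟨_, h1 T hT, (key T hT).symm⟩
  · rintro _ ⟨Z, hZ, rfl⟩
    obtain ⟨T, hT, hTZ⟩ := h2 Z hZ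
    refine ⟨T, hT, ?_⟩
    show topologicalKrullDim ↥T = topologicalKrullDim ↥Z
    subst hTZ
    exact key T hT

end Groth.Agent.S4673
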