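import Groth.Statements.S10193
import Groth.Agent.AlgSpLib.Descend
import Groth.Agent.AlgSpLib.Points

set_option autoImplicit false
universe u
open CategoryTheory CategoryTheory.Limits AlgebraicGeometry Topology TopologicalSpace
open AlgSp

namespace Groth.Agent.S10193

/-- Let X, Y be algebraic spaces over a scheme S, i : Z ⟶ X a closed subspace (a morphism representable
by closed immersions) and assume Y is reduced. Then a morphism f : Y ⟶ X factors through Z if and
only if |f|(|Y|) is contained in |Z|. -/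
theorem result {S : Scheme.{u}} {X Y Z : AlgSp.Space S}
    (i : Z ⟶ X) (hi : AlgSp.RepWith @IsClosedImmersion i.hom) (hY : AlgSp.IsReducedSp Y.obj) (f : Y ⟶ X) :
    (∃ g : Y ⟶ Z, g ≫ i = f) ↔
      Set.range (AlgSp.Points.map f.hom) ⊆ Set.range (AlgSp.Points.map i.hom) := by
  constructor
  · rintro ⟨g, rfl⟩ _ ⟨y, rfl⟩
    exact ⟨Points.map g.hom y, (Points.map_comp g.hom i.hom y).symm⟩
  · intro h
    obtain ⟨V, b, hb, hbs, hV⟩ := hY
    obtain ⟨W, p, q, sq⟩ : ∃ (W : Over S) (q : (AlgSp.yon S).obj W ⟶ Z.obj) (r : W ⟶ V),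
        IsPullback q ((AlgSp.yon S).map r) i.hom (b ≫ f.hom) :=
      ⟨_, hi.rep.fst _, hi.rep.snd _, hi.rep.isPullback _⟩
    have : IsClosedImmersion q.left := hi.property _ _ _ sq
    have : Surjective q.left := ⟨fun v => by
      obtain ⟨z, hz⟩ := h ⟨Points.ofPt b v, rfl⟩
      rw [Points.map_ofPt, AlgSpLib.ofPt_comp_ofScheme] at hz
      obtain ⟨w, -, h2⟩ := AlgSpLib.exists_point_isPullback sq z _ hz
      obtain ⟨w, rfl⟩ := (Points.schemeHomeo W).surjective w
      rw [Points.map_yon_map_apply] at h2
      exact ⟨w, (Points.schemeHomeo V).injective h2⟩⟩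
    have hV' : IsReduced V.left := hV
    have : IsIso q.left := isIso_of_isClosedImmersion_of_surjective q.left
    have : IsIso ((Over.forget S).map q) := this
    have : IsIso q := isIso_of_reflects_iso q (Over.forget S)
    have hm : Mono i.hom := AlgSpLib.mono_of_repWith (fun g (_ : IsClosedImmersion g) => inferInstance) hi
    have hx : ((AlgSp.yon S).map (inv q) ≫ p) ≫ i.hom = b ≫ f.hom := by
      rw [Category.assoc, sq.w, ← Functor.map_comp_assoc, IsIso.inv_hom_id, CategoryTheory.Functor.map_id,
        Category.id_comp]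
    obtain ⟨y, hy⟩ := AlgSpLib.exists_desc_of_atlas hb hbs ((AlgSp.yon S).map (inv q) ≫ p) (fun T g g' e => by
      rw [← cancel_mono i.hom, Category.assoc, hx, Category.assoc ((AlgSp.yon S).map g'), hx, ← Category.assoc, e,
        Category.assoc])
    refine ⟨ObjectProperty.homMk y, InducedCategory.hom_ext ?_⟩
    change y ≫ i.hom = f.hom
    refine AlgSpLib.hom_ext_of_atlas hb hbs ?_
    rw [← Category.assoc, hy, hx]

end Groth.Agent.S10193
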