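import Groth.Statements.S16489
import Groth.Agent.RefHullLib.Hartogs

set_option autoImplicit false
universe u
open CategoryTheory CategoryTheory.Limits AlgebraicGeometry TopologicalSpace
open VBPn

namespace Groth.Agent.S16489

/-- Let X be an integral locally Noetherian scheme all of whose local rings are regular, and F a
coherent O_X-module. Call F normal when for all open subsets V ⊆ U of X such that every point of U
not in V has local ring O_{X,x} of dimension at least 2, the restriction map F(U) → F(V) is
bijective. Then F is reflexive (the canonical map F → F^** is an isomorphism) if and only if F is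
torsion-free (each stalk F_x is a torsion-free O_{X,x}-module) and normal. The published statement
is for coherent analytic sheaves on a complex manifold, a sheaf being called normal when for every
open U and every analytic subset A ⊆ U of codimension at least 2 the restriction F(U) → F(U ∖ A) is
bijective; this row is its statement for coherent sheaves on a regular integral locally Noetherian
scheme, with normality phrased through open subsets V ⊆ U whose complement in U consists of points
with local ring of dimension at least 2, where the same argument applies. -/
theorem result (X : Scheme.{u}) [IsIntegral X] [IsLocallyNoetherian X]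
    (hreg : ∀ x : X, IsRegularLocalRing (X.presheaf.stalk x)) (F : X.Modules) (hF : Coh.IsCoh F) :
    RefHull.IsReflexive F ↔
      TorSh.IsTorsionFree F ∧
      (∀ (U V : X.Opens) (hVU : V ≤ U), (∀ x : X, x ∈ U → x ∉ V → (2 : WithBot ℕ∞) ≤ ringKrullDim (X.presheaf.stalk x)) →
        Function.Bijective (F.presheaf.map (homOfLE hVU).op)) := by
  haveI := hF.1
  have hfin : ∀ x, Module.Finite (X.presheaf.stalk x) (F.presheaf.stalk x) :=
    fun x => DepthLib.finite_stalk F hF.2 x
  have hZ := ZClosLib.stableUnderSpecialization_dimGe (X := X) 2
  show RefHull.IsReflexive F ↔ TorSh.IsTorsionFree F ∧ RefHullLib.NormalSec F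
  rw [RefHullLib.normalSec_iff]
  constructor
  · intro h
    have hst := (RefHullLib.isReflexive_iff hF).1 h
    refine ⟨fun x => ?_, RefHullLib.isZClosed_of_depth hZ hF fun x hx => ?_⟩
    · haveI : Module.IsReflexive (X.presheaf.stalk x) (F.presheaf.stalk x) := hst x
      exact RefHullLib.torsionFree_of_isReflexive _
    · haveI := hreg x
      haveI := hfin x
      haveI : Module.IsReflexive (X.presheaf.stalk x) (F.presheaf.stalk x) := hst x
      exact RefHullLib.depth_reflexive _ (RefHullLib.mem_dimGe_two.1 hx)
  · rintro ⟨htf, hn⟩
    have hD := RefHullLib.isCoh_dual hF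
    have hDD := RefHullLib.isCoh_dual hD
    refine RefHullLib.isIso_of_off hZ (RefHull.bidualMap F) hn ?_ fun x hx => ?_
    · refine ((ZClosLib.isZClosed_iff hZ).1 (RefHullLib.isZClosed_of_depth hZ hDD fun x hx => ?_)).1
      haveI := hreg x
      haveI := hD.1
      haveI := hDD.1
      haveI := DepthLib.finite_stalk (RefHull.dual F) hD.2 x
      haveI := DepthLib.finite_stalk (RefHull.ddual F) hDD.2 x
      haveI := ReflexLib.isReflexive_dual (A := X.presheaf.stalk x) (M := (RefHull.dual F).presheaf.stalk x)
      obtain ⟨e⟩ := RefHullLib.nonempty_stalk_unit X x
      haveI : Module.IsReflexive (X.presheaf.stalk x) ((RefHull.ddual F).presheaf.stalk x) :=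
        Module.equiv ((LinearEquiv.ofBijective _
          (RefHullLib.evalStalk_bijective (G := Coh.structureModule X) (QCohLib.isFP_of_isCoh _ hD) x)).trans
          (LinearEquiv.congrRight e.symm)).symm
      exact RefHullLib.depth_reflexive _ (RefHullLib.mem_dimGe_two.1 hx)
    · haveI := hreg x
      haveI := hfin x
      haveI := htf x
      exact (RefHullLib.bijective_stalk_bidual_iff hF x).2
        (RefHullLib.reflexive_of_torsionFree_of_dim_le_one _ fun h => hx (RefHullLib.mem_dimGe_two.2 h))

end Groth.Agent.S16489
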