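import Groth.Statements.S5550
import Groth.Agent.BorelLib.RedGeom
import Groth.Agent.TorsTupleLib.SepPoints
import Groth.Agent.TransporterLib.Main
import Groth.Agent.TransporterLib.ClosedImm
import Groth.Agent.S3006

set_option autoImplicit false
set_option backward.isDefEq.respectTransparency false
set_option backward.isDefEq.respectTransparency.types false
set_option maxHeartbeats 1000000
set_option synthInstance.maxHeartbeats 400000
open CategoryTheory MonoidalCategory CartesianMonoidalCategory MonObj GrpObj AlgebraicGeometry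
universe u
open RedSub

attribute [-instance] CategoryTheory.Hom.commGroup
attribute [local instance] Groth.Agent.BorelLib.pTop Groth.Agent.BorelLib.pTopTensor
namespace Groth.Agent.S5550

open Groth.Agent.BorelLib in
/-- Over an algebraically closed field: the centraliser of a torus is reductive and contains a maximal torus. -/
theorem field_case {K : Type u} [Field K] [IsAlgClosed K] {G Q C : Over (Spec (CommRingCat.of K))}
    [GrpObj G] [GrpObj Q] [GrpObj C] (hG : Red.IsReductiveOver K G) (q : Q ⟶ G) [IsMonHom q] [Mono q]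
    (hQ : Red.IsTorus Q) (c : C ⟶ G) (hc : Red.IsCentralizerOf q c) :
    Red.IsReductiveOver K C ∧ ∃ (T : Over (Spec (CommRingCat.of K))) (_ : GrpObj T) (t : T ⟶ C),
      IsMonHom t ∧ Red.IsMaximalTorus (t ≫ c) := by
  obtain ⟨ha, hs, hconn, -⟩ := id hG
  haveI := ha; haveI := hs; haveI := hconn; haveI := hc.1; haveI := hc.2.1
  obtain ⟨A, _, _, v, hv, hA, hAr⟩ := BorelLib.exists_setup G
  haveI := hv; haveI := hA
  obtain ⟨hCs, hCcl, hp⟩ := BorelLib.centralizer_facts v q hQ hc
  haveI := hCs; haveI := hCcl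
  obtain ⟨-, hCconn⟩ := BorelLib.centralizer_connected q hQ hc
  haveI := hCconn
  haveI : IsAffine C.left := isAffine_of_isAffineHom c.left
  have hC : Red.IsReductiveOver K C := by
    refine BorelLib.isReductiveOver_of_isRedSub v c ?_
    rw [hp]
    exact (BorelLib.isRedPts_of_isReductiveOver v hG).centralizer_isRedSub
      (BorelLib.isPreconnected_univ_of_connected v) (BorelLib.isTor_ptsSub v q hQ)
  refine ⟨hC, ?_⟩
  obtain ⟨T, _, t, ht⟩ := TorsTuple.exists_maximalTorus_sepClosed (BorelLib.isReductive_of_isReductiveOver hC)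
  haveI := ht.1; haveI := ht.2.1
  refine ⟨T, inferInstance, t, ht.1, BorelLib.isMaximalTorus_of_isMaxTorus ⟨inferInstance, mono_comp _ _, ht.2.2.1,
    fun T' _ j _ _ f hT' hf => ?_⟩⟩
  -- the torus `Q` lies in `T`
  obtain ⟨qC, hqC⟩ := (hc.2.2 Q q).2 fun X' x h => by
    rw [← MonObj.mul_comp, ← MonObj.mul_comp, TorsTuple.commute_torus hQ x h]
  obtain ⟨a, haq⟩ := ((TorsTuple.isCentralizerOf_self_of_isReductiveOver hC ht).2.2 Q qC).2 fun X' x h => by
    refine (cancel_mono c).1 ?_
    rw [MonObj.mul_comp, MonObj.mul_comp, Category.assoc, hqC]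
    exact ((hc.2.2 X' ((h ≫ t) ≫ c)).1 ⟨h ≫ t, rfl⟩ X' (𝟙 _) x |>.symm).trans
      (by rw [Category.id_comp]) |>.trans (by simp only [Category.id_comp])
  -- `T'` centralises `Q`
  obtain ⟨l, hl⟩ := (hc.2.2 T' j).2 fun X' x h => by
    have e : h ≫ q = (h ≫ a ≫ f) ≫ j := by
      rw [← hqC, ← haq]; simp only [Category.assoc, hf]
    rw [e, ← MonObj.mul_comp, ← MonObj.mul_comp, TorsTuple.commute_torus hT' x (h ≫ a ≫ f)]
  haveI : IsMonHom (l ≫ c) := by rw [hl]; infer_instance
  haveI : IsMonHom l := DiagRep.isMonHom_of_comp_mono l c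
  haveI : Mono (l ≫ c) := by rw [hl]; infer_instance
  haveI : Mono l := mono_of_mono l c
  exact (BorelLib.isMaxTorus_of_isMaximalTorus ht).2.2.2 T' l f hT'
    ((cancel_mono c).1 (by rw [Category.assoc, hl, hf]))



/-- First assertion. Let G be a reductive S-group and q : Q ⟶ G a subtorus. Then the centraliser of Q in
G is representable by a subgroup of type (R) of G which is itself a reductive S-group. -/
theorem result {S : Scheme.{u}} {G Q : Over S} [GrpObj G] [GrpObj Q]
    (hG : Red.IsReductive G) (q : Q ⟶ G) [IsMonHom q] [Mono q] (hQ : Red.IsTorus Q) :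
    ∃ (Z : Over S) (_ : GrpObj Z) (z : Z ⟶ G), Red.IsCentralizerOf q z ∧ RedSub.IsTypeR z ∧ Red.IsReductive Z := by
  haveI := hG.1; haveI := hG.2.1
  haveI : IsClosedImmersion q.left :=
    Transporter.isClosedImmersion_of_mono (RedRank.locally_of_isTorus hQ) ‹IsAffineHom G.hom› q
  obtain ⟨⟨Z, _, z, hz, hzc, hzs⟩, -⟩ := Groth.Agent.S3006.result S G Q q inferInstance hQ
  haveI := hzc; haveI := hzs; haveI := hz.1; haveI := hz.2.1
  haveI : IsAffineHom Z.hom := by rw [← Over.w z]; infer_instance
  have key : ∀ s : S, Red.IsReductiveOver (AlgebraicClosure (S.residueField s)) (Red.geomFibre s Z) ∧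
      ∃ (T : Over (Spec (CommRingCat.of (AlgebraicClosure (S.residueField s))))) (_ : GrpObj T)
        (t : T ⟶ Red.geomFibre s Z), IsMonHom t ∧ Red.IsMaximalTorus (t ≫ (Over.pullback (Red.geomPt s)).map z) := by
    intro s
    haveI := DiagRep.isMonHom_bc_map (Red.geomPt s) q
    haveI := BorelLib.mono_bc (Red.geomPt s) q
    exact field_case (hG.2.2 s) ((Over.pullback (Red.geomPt s)).map q) (RedRank.isTorus_bc hQ _) _
      (BorelLib.isCentralizerOf_bc (Red.geomPt s) hz)
  refine ⟨Z, inferInstance, z, hz, ⟨⟨hz.1, inferInstance⟩, hzs, inferInstance, fun s => ?_, fun s => (key s).2⟩,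
    inferInstance, hzs, fun s => (key s).1⟩
  haveI : ConnectedSpace ↥(Red.geomFibre s Z).left := (key s).1.2.2.1
  exact BorelLib.CentPre.isConnected_fibre_of_geom Z s

end Groth.Agent.S5550
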