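import Groth.Statements.S8401
import Groth.Agent.CartanMultLib.Inter

set_option autoImplicit false
universe u
open CategoryTheory MonoidalCategory CartesianMonoidalCategory MonObj GrpObj AlgebraicGeometry
open SGA3x

attribute [-instance] CategoryTheory.Hom.commGroup

namespace Groth.Agent.S8401

/-- Let G be an affine, smooth, connected algebraic group over an algebraically closed field k, and Z
its reductive centre. Then Z is the scheme-theoretic intersection of the maximal tori of G: a point
of G with values in a k-scheme X factors through Z if and only if it factors through every maximal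
torus of G. -/
theorem result (k : Type u) [Field k] [IsAlgClosed k]
    (G : Over (Spec (CommRingCat.of k))) [GrpObj G] [Smooth G.hom] [QuasiCompact G.hom] [IsAffine G.left] [ConnectedSpace ↥G.left]
    (Z : Over (Spec (CommRingCat.of k))) [GrpObj Z] (z : Z ⟶ G)
    (hZ : (IsMonHom z ∧ Mono z ∧ SGA3x.IsMultTypeFT Z ∧
      (∀ (X : Over (Spec (CommRingCat.of k))) (x : X ⟶ Z) (g : X ⟶ G), (x ≫ z) * g = g * (x ≫ z)) ∧
      ∀ (S' : Scheme.{u}) (f : S' ⟶ (Spec (CommRingCat.of k))) (H : Over S') [GrpObj H] (v : H ⟶ Red.bc f G) [IsMonHom v],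
        SGA3x.IsMultTypeFT H →
        (∀ (X : Over S') (x : X ⟶ H) (g : X ⟶ Red.bc f G), (x ≫ v) * g = g * (x ≫ v)) →
        ∃ w : H ⟶ Red.bc f Z, w ≫ (Over.pullback f).map z = v)) (X : Over (Spec (CommRingCat.of k))) (g : X ⟶ G) :
    (∃ x : X ⟶ Z, x ≫ z = g) ↔
      ∀ (T : Over (Spec (CommRingCat.of k))) [GrpObj T] (i : T ⟶ G), Red.IsMaximalTorus i → ∃ t : X ⟶ T, t ≫ i = g := by
  obtain ⟨hzm, -, hZT, hzc, huniv⟩ := hZ
  haveI := hzm
  haveI : IsAffineHom G.hom := inferInstance
  haveI : Subsingleton ↥(Spec (CommRingCat.of k)) := inferInstanceAs (Subsingleton (PrimeSpectrum k))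
  constructor
  · rintro ⟨x, rfl⟩ T _ i hi
    have hconn : ∀ s : ↥(Spec (CommRingCat.of k)), _root_.IsConnected (G.hom.base ⁻¹' {s}) := fun s => by
      rw [show G.hom.base ⁻¹' {s} = Set.univ from Set.eq_univ_of_forall fun y => Subsingleton.elim _ s]
      exact isConnected_univ
    obtain ⟨w, hw⟩ := CartanMult.exists_factor_central G hconn hi hZT z hzc
    exact ⟨x ≫ w, by rw [Category.assoc, hw]⟩
  · intro hg
    obtain ⟨N, _, j, hj, hN, hiff, hjc⟩ := CartanMult.exists_inter (G := G)
    haveI := hj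
    obtain ⟨x, rfl⟩ := (hiff g).2 hg
    obtain ⟨w, hw⟩ := CartanMult.exists_factor_through (z := z) huniv hN j hjc
    exact ⟨x ≫ w, by rw [Category.assoc, hw]⟩

end Groth.Agent.S8401
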