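import Groth.Statements.S19141
import Groth.Agent.DSImgLib.Fpqc
import Groth.Agent.DSImgLib.Image

set_option autoImplicit false
set_option linter.style.haveILetI false
set_option backward.isDefEq.respectTransparency false
set_option backward.isDefEq.respectTransparency.types false
set_option synthInstance.maxHeartbeats 200000
set_option maxHeartbeats 800000
open CategoryTheory MonoidalCategory CartesianMonoidalCategory MonObj GrpObj AlgebraicGeometry
universe u
open SGA3x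

attribute [-instance] CategoryTheory.Hom.commGroup

namespace Groth.Agent.S19141

open Limits in
theorem quasiCompact_of_split {S : Scheme.{u}} (H : Over S) [GrpObj H]
    (hH : TwC.Locally S TwC.Topology.fpqc (fun S' g => ∃ (M : Type) (_ : AddCommGroup M),
      Nonempty (Grp.mk (Red.bc g H) ≅ Grp.mk (Red.DS S' M)))) : QuasiCompact H.hom := by
  obtain ⟨S', g, -, -, hqc, hloc⟩ := hH
  choose U hU M hM e using hloc
  refine quasiCompact_iff_forall_isAffineOpen.2 fun V hV => ?_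
  obtain ⟨W, hWc, hW⟩ := hqc V hV
  have hA : ∀ w : W, ∃ A : (U w.1 : Scheme.{u}).Opens, IsAffineOpen A ∧ (⟨w.1, hU w.1⟩ : U w.1) ∈ A ∧
      ∀ a ∈ A, a.1 ∈ W := fun w => by
    obtain ⟨A, hA, hwA, hAW⟩ := exists_isAffineOpen_mem_and_subset (X := (U w.1 : Scheme.{u}))
      (x := ⟨w.1, hU w.1⟩) (U := (U w.1).ι ⁻¹ᵁ W) w.2
    exact ⟨A, hA, hwA, fun a ha => hAW ha⟩
  choose A hA hwA hAW using hA
  obtain ⟨J, hJ⟩ := hWc.elim_finite_subcover (fun w : W => (Subtype.val '' (A w : Set (U w.1)) : Set S'))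
    (fun w => (U w.1).2.isOpenMap_subtype_val _ (A w).2) fun y hy => Set.mem_iUnion.2 ⟨⟨y, hy⟩, _, hwA ⟨y, hy⟩, rfl⟩
  let π : ∀ w : W, (U w.1 : Scheme.{u}) ⟶ S := fun w => (U w.1).ι ≫ g
  have heq : (H.hom ⁻¹ᵁ V : Set H.left) =
      ⋃ w ∈ J, pullback.fst H.hom (π w) '' (pullback.snd H.hom (π w) ⁻¹' (A w : Set (U w.1))) := by
    ext x
    refine ⟨fun hx => ?_, fun hx => ?_⟩
    · obtain ⟨y, hy, hyx⟩ : H.hom x ∈ g.base '' (W : Set S') := hW ▸ hx
      obtain ⟨w, hw, a, ha, rfl⟩ := Set.mem_iUnion₂.1 (hJ hy)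
      obtain ⟨z, hz1, hz2⟩ := Scheme.Pullback.exists_preimage_pullback (f := H.hom) (g := π w) x a hyx.symm
      exact Set.mem_iUnion₂.2 ⟨w, hw, z, by rw [Set.mem_preimage, hz2]; exact ha, hz1⟩
    · obtain ⟨w, -, z, hz, rfl⟩ := Set.mem_iUnion₂.1 hx
      show H.hom (pullback.fst H.hom (π w) z) ∈ V
      rw [← Scheme.Hom.comp_apply, pullback.condition, Scheme.Hom.comp_apply]
      have : g.base ((pullback.snd H.hom (π w) z).1) ∈ g.base '' (W : Set S') := ⟨_, hAW w _ hz, rfl⟩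
      rw [hW] at this
      exact this
  rw [heq]
  refine J.isCompact_biUnion fun w _ => IsCompact.image ?_ (pullback.fst H.hom (π w)).continuous
  letI := hM w.1
  haveI : QuasiCompact (pullback.snd H.hom (π w)) := by
    haveI : IsAffineHom (Red.DS (U w.1 : Scheme.{u}) (M w.1)).hom := MultEq.isAffineHom_DS _ _
    have E := (e w.1).some
    let φ : Red.bc ((U w.1).ι ≫ g) H ⟶ Red.DS (U w.1 : Scheme.{u}) (M w.1) := E.hom.hom.hom
    haveI : IsIso φ.left :=
      inferInstanceAs (IsIso ((Over.forget _).map ((Grp.forget _).map E.hom)))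
    have h1 : QuasiCompact (φ.left ≫ (Red.DS (U w.1 : Scheme.{u}) (M w.1)).hom) := by infer_instance
    show QuasiCompact (Red.bc ((U w.1).ι ≫ g) H).hom
    rw [← Over.w φ]
    exact h1
  exact (pullback.snd H.hom (π w)).isCompact_preimage (hA w).isCompact

/-- Let f : H ⟶ G be a homomorphism of S-group schemes, with H of multiplicative type (of arbitrary
type) and G separated and of finite presentation over S. Then there is a closed subgroup scheme Q of
G, of multiplicative type, such that f factors through a faithfully flat (flat and surjective)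
homomorphism f' : H ⟶ Q; and the pair (Q, f') is unique: for any other such factorization f = f'' ≫
j'' through a closed subgroup Q'' of multiplicative type there is an isomorphism Q ≅ Q'' over S
carrying j to j'' and f' to f''. (Q is called the image of f.) -/
theorem result {S : Scheme.{u}} (H G : Over S) [GrpObj H] [GrpObj G]
    (hH : TwC.Locally S TwC.Topology.fpqc (fun S' g => ∃ (M : Type) (_ : AddCommGroup M), Nonempty (Grp.mk (Red.bc g H) ≅ Grp.mk (Red.DS S' M))))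
    [IsSeparated G.hom] [QuasiCompact G.hom] [LocallyOfFinitePresentation G.hom] (f : H ⟶ G) [IsMonHom f] :
    (∃ (Q : Over S) (_ : GrpObj Q) (j : Q ⟶ G) (_ : IsMonHom j) (f' : H ⟶ Q) (_ : IsMonHom f'),
      IsClosedImmersion j.left ∧ TwC.Locally S TwC.Topology.fpqc (fun S' g => ∃ (M : Type) (_ : AddCommGroup M), Nonempty (Grp.mk (Red.bc g Q) ≅ Grp.mk (Red.DS S' M))) ∧
      Flat f'.left ∧ Surjective f'.left ∧ f' ≫ j = f) ∧
    (∀ (Q₁ Q₂ : Over S) [GrpObj Q₁] [GrpObj Q₂] (j₁ : Q₁ ⟶ G) (j₂ : Q₂ ⟶ G) [IsMonHom j₁] [IsMonHom j₂]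
      (f₁ : H ⟶ Q₁) (f₂ : H ⟶ Q₂) [IsMonHom f₁] [IsMonHom f₂],
      IsClosedImmersion j₁.left → IsClosedImmersion j₂.left →
      TwC.Locally S TwC.Topology.fpqc (fun S' g => ∃ (M : Type) (_ : AddCommGroup M), Nonempty (Grp.mk (Red.bc g Q₁) ≅ Grp.mk (Red.DS S' M))) →
      TwC.Locally S TwC.Topology.fpqc (fun S' g => ∃ (M : Type) (_ : AddCommGroup M), Nonempty (Grp.mk (Red.bc g Q₂) ≅ Grp.mk (Red.DS S' M))) →
      Flat f₁.left → Surjective f₁.left → f₁ ≫ j₁ = f →
      Flat f₂.left → Surjective f₂.left → f₂ ≫ j₂ = f →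
      ∃ e : Q₁ ≅ Q₂, e.hom ≫ j₂ = j₁ ∧ f₁ ≫ e.hom = f₂) := by
  refine ⟨?_, ?_⟩
  · haveI := quasiCompact_of_split H hH
    haveI : QuasiCompact f.left := by
      haveI : QuasiCompact (f.left ≫ G.hom) := by rw [Over.w f]; infer_instance
      exact QuasiCompact.of_comp f.left G.hom
    obtain ⟨S', g, hgf, hgs, hqc, hloc⟩ := hH
    choose U hU M hM e using hloc
    have hl : ∀ s' : S', _ := fun s' =>
      @DSImg.exists_local_image_split S S' g H G _ _ _ _ _ f _ (U s') (M s') (hM s') (e s').some s' (hU s')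
    choose U' hU' Λ p j hjm hjc hpf hps hfac using hl
    obtain ⟨Q, hQ, jQ, hjQ, f', hf', h1, h2, h3, h4, h5⟩ := DSImg.exists_image f (I := S')
      (fun s' => (U' s').ι ≫ g) (fun s' => inferInstance)
      (fun s => by obtain ⟨s', rfl⟩ := g.surjective s; exact ⟨s', ⟨s', hU' s'⟩, rfl⟩)
      (fun s' => by letI := hM s'; exact Grp.mk (Red.DS (U' s' : Scheme.{u}) (Λ s'))) p j hjm hjc hpf hps hfac
    refine ⟨Q, hQ, jQ, hjQ, f', hf', h1, ⟨S', g, hgf, hgs, hqc, fun s' => ?_⟩, h2, h3, h4⟩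
    letI := hM s'
    exact ⟨U' s', hU' s', Λ s', inferInstance, h5 s'⟩
  · intro Q₁ Q₂ _ _ j₁ j₂ _ _ f₁ f₂ _ _ hj₁ hj₂ _ _ hf₁ hf₁' h₁ hf₂ hf₂' h₂
    haveI := hj₁; haveI := hj₂; haveI := hf₁; haveI := hf₁'; haveI := hf₂; haveI := hf₂'
    obtain ⟨e, he⟩ := DSImg.exists_iso_of_ker_eq j₁ j₂
      ((DSImg.ker_eq_of_fac f₁ j₁ h₁).symm.trans (DSImg.ker_eq_of_fac f₂ j₂ h₂))
    haveI : Mono j₂ := Over.mono_of_mono_left j₂
    exact ⟨e, he, by rw [← cancel_mono j₂, Category.assoc, he, h₁, h₂]⟩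

end Groth.Agent.S19141
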