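import Groth.Statements.S2966
import Mathlib
import Groth.Agent.UnipHopfLib.Trivial
import Groth.Agent.S7951
import Groth.Agent.DiagHopfLib.Basic
-- import your own Groth.Agent.* helpers here

set_option autoImplicit false
universe u
open scoped TensorProduct
open SGA3t2b

open scoped ComodLib TensorProduct

namespace Groth.Agent.S2966

/-- In Hopf-algebra form (with unipotent taken in the representation-theoretic sense: affine and every
non-zero finite-dimensional representation has a non-zero fixed vector): let k be a field, A_M the
coordinate Hopf algebra of an affine k-group M of finite type which is of multiplicative type in the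
sense that it becomes diagonalisable over an algebraic closure of k, and A_U that of a unipotent
affine k-group U of finite type. Then (i) every homomorphism M -> U and (ii) every homomorphism U ->
M is trivial: every bialgebra map A_U -> A_M, resp. A_M -> A_U, factors through the counit. -/
theorem result {k : Type u} [Field k] {AM AU : Type u} [CommRing AM] [CommRing AU]
    [HopfAlgebra k AM] [HopfAlgebra k AU] [Algebra.FiniteType k AM] [Algebra.FiniteType k AU]
    (hM : HopfRep.IsDiagonalizable (AlgebraicClosure k) (AlgebraicClosure k ⊗[k] AM)) (hU : HopfRep.IsUnipotent k AU) :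
    (∀ φ : AU →ₐc[k] AM, SGA3t2b.IsTrivialBialgHom φ) ∧ (∀ ψ : AM →ₐc[k] AU, SGA3t2b.IsTrivialBialgHom ψ) := by
  refine ⟨fun φ => ?_, fun ψ => ?_⟩
  · intro a
    obtain ⟨ι, hι⟩ := Groth.Agent.UnipHopf.exists_integral_of_isDiagonalizable_algClosure hM
    obtain ⟨n, hn⟩ := Groth.Agent.UnipHopf.exhaustive_of_isUnipotent hU a
    have hΔ : ∀ x, CoalgebraStruct.comul (R := k) (φ x) =
        Groth.Agent.UnipHopf.sq (φ : AU →ₗ[k] AM) (CoalgebraStruct.comul (R := k) x) := fun x => by
      rw [← CoalgHomClass.map_comp_comul_apply φ]
      generalize CoalgebraStruct.comul (R := k) x = z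
      induction z using TensorProduct.induction_on with
      | zero => simp
      | add x y hx hy => simp only [map_add, hx, hy]
      | tmul p q => rw [Groth.Agent.UnipHopf.sq_tmul]; rfl
    have h := Groth.Agent.UnipHopf.eq_counit_of_mem_K (R := k) (φ : AU →ₗ[k] AM) (map_one φ) hΔ ι hι.one
      (fun c => hι.left c) hn
    rw [Algebra.algebraMap_eq_smul_one]
    exact h
  · intro a
    apply Groth.Agent.DiagHopfLib.one_tmul_injective (k := k) (A := AU) (AlgebraicClosure k)
    have hU' := (Groth.Agent.S7951.result k (AlgebraicClosure k) AU).1 hU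
    let Ψ : AlgebraicClosure k ⊗[k] AM →ₗ[AlgebraicClosure k] AlgebraicClosure k ⊗[k] AU :=
      (ψ : AM →ₗ[k] AU).baseChange (AlgebraicClosure k)
    have hgl : ∀ γ : AlgebraicClosure k ⊗[k] AM, IsGroupLikeElem (AlgebraicClosure k) γ → Ψ γ = 1 := by
      intro γ hγ
      let ψ' := Bialgebra.TensorProduct.map (R := k) (BialgHom.id (AlgebraicClosure k) (AlgebraicClosure k)) ψ
      have hΨ : ∀ x, Ψ x = ψ' x := fun x => by
        induction x using TensorProduct.induction_on with
        | zero => simp
        | add x y hx hy => rw [map_add, map_add, hx, hy]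
        | tmul p q => rfl
      have hg : IsGroupLikeElem (AlgebraicClosure k) (Ψ γ) := by rw [hΨ]; exact hγ.map ψ'
      obtain ⟨n, hn⟩ := Groth.Agent.UnipHopf.exhaustive_of_isUnipotent hU' (Ψ γ)
      by_contra hne
      have hsep : ∀ m, Ψ γ ∈ Groth.Agent.UnipHopf.K (AlgebraicClosure k) (AlgebraicClosure k ⊗[k] AU) m → False := by
        intro m
        induction m with
        | zero =>
          intro h
          rw [Groth.Agent.UnipHopf.K_zero, Submodule.mem_bot] at h
          have := hg.counit_eq_one
          rw [h, map_zero] at this
          exact zero_ne_one this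
        | succ m ih =>
          intro h
          obtain ⟨g, hg'⟩ := ComodLib.exists_dual_ne (k := AlgebraicClosure k) (sub_ne_zero.2 hne)
          let f : ComodLib.Dual' (AlgebraicClosure k) (AlgebraicClosure k ⊗[k] AU) := WithConv.toConv g
          have h2 := Groth.Agent.UnipHopf.mem_K_succ.1 h _ (Groth.Agent.UnipHopf.sub_εF_one f)
          rw [Groth.Agent.UnipHopf.sub_εF_smul, Groth.Agent.DiagHopfLib.smul_groupLike hg, ← sub_smul] at h2
          refine ih ((Submodule.smul_mem_iff _ ?_).1 h2)
          intro e
          apply hg'
          rw [map_sub]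
          exact e
      exact hsep n hn
    have hzero : ∀ x, Ψ x = CoalgebraStruct.counit (R := AlgebraicClosure k) x • 1 := by
      intro x
      have hx : x ∈ Submodule.span (AlgebraicClosure k) {γ | IsGroupLikeElem (AlgebraicClosure k) γ} := by
        rw [hM]; trivial
      induction hx using Submodule.span_induction with
      | mem γ hγ => rw [hgl γ hγ, hγ.counit_eq_one, one_smul]
      | zero => simp
      | add x y _ _ hx hy => rw [map_add, map_add, hx, hy, add_smul]
      | smul c x _ hx => rw [map_smul, map_smul, hx, smul_assoc]
    show (1 : AlgebraicClosure k) ⊗ₜ[k] ψ a = (1 : AlgebraicClosure k) ⊗ₜ[k] algebraMap k AU (CoalgebraStruct.counit (R := k) a)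
    have h := hzero ((1 : AlgebraicClosure k) ⊗ₜ[k] a)
    rw [LinearMap.baseChange_tmul] at h
    refine h.trans ?_
    rw [TensorProduct.counit_tmul, CommSemiring.counit_apply, Algebra.algebraMap_eq_smul_one, TensorProduct.tmul_smul,
      Algebra.TensorProduct.one_def, smul_assoc, one_smul]

end Groth.Agent.S2966
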