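import Groth.Statements.S5299
import Groth.Agent.HomLiftLib.TorsionLocal
import Groth.Agent.HomLiftLib.HopfModelFP
import Groth.Agent.FlatLib.OpenFP
import Groth.Agent.QIsoLib.ModNil

set_option autoImplicit false
universe u
open TensorProduct SGA3b
open SGA3b

namespace Groth.Agent.S5299

open Groth.Agent Groth.Agent.TorusField Groth.Agent.DiagHopf

theorem isMultType_bialgEquiv {R A F : Type u} [CommRing R] [CommRing A] [HopfAlgebra R A] [CommRing F]
    [HopfAlgebra R F] (e : F ≃ₐc[R] A) (h : IsMultType R F) : IsMultType R A := by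
  obtain ⟨s, hs, H⟩ := exists_cover_split h
  refine ⟨s, hs, fun f hf => ?_⟩
  obtain ⟨S, _, _, _, _, N, _, hff, ⟨E⟩⟩ := H f hf
  obtain ⟨E'⟩ := HomLift.exists_split_equiv e E
  obtain ⟨E₁⟩ := exists_split_transfer' (R' := Localization.Away f) E'
  exact ⟨S, inferInstance, inferInstance, hff, N, inferInstance, exists_bialgEquiv E₁⟩

/-- Some element congruent to one cuts out flat points. -/
theorem exists_flat_away {R C : Type u} [CommRing R] [CommRing C] [Algebra R C] [Algebra.FinitePresentation R C]
    (m : Ideal R)
    (hfl : ∀ (q : Ideal C) [q.IsPrime], Ideal.map (algebraMap R C) m ≤ q → Module.Flat R (Localization.AtPrime q)) :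
    ∃ g : C, 1 - g ∈ m.map (algebraMap R C) ∧ Module.Flat R (Localization.Away g) := by
  have hmem : ∀ q : PrimeSpectrum C, q ∈ FlatLib.flatLocus R C C ↔ Module.Flat R (Localization.AtPrime q.asIdeal) := fun q =>
    let e : LocalizedModule q.asIdeal.primeCompl C ≃ₗ[C] Localization.AtPrime q.asIdeal :=
      IsLocalizedModule.iso q.asIdeal.primeCompl (Algebra.linearMap C (Localization.AtPrime q.asIdeal))
    ⟨fun h => @Module.Flat.of_linearEquiv _ _ _ _ _ _ _ _ h (e.restrictScalars R).symm,
      fun h => @Module.Flat.of_linearEquiv _ _ _ _ _ _ _ _ h (e.restrictScalars R)⟩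
  obtain ⟨J, hJ⟩ := (PrimeSpectrum.isClosed_iff_zeroLocus_ideal _).1
    (FlatLib.isOpen_flatLocus_fp (R := R) (S := C) (M := C)).isClosed_compl
  have htop : J ⊔ m.map (algebraMap R C) = ⊤ := by
    by_contra h
    obtain ⟨q, hq, hle⟩ := Ideal.exists_le_maximal _ h
    haveI := hq.isPrime
    have h1 : (⟨q, inferInstance⟩ : PrimeSpectrum C) ∈ (FlatLib.flatLocus R C C)ᶜ := by
      rw [hJ]; exact le_sup_left.trans hle
    exact h1 ((hmem _).2 (hfl q (le_sup_right.trans hle)))
  obtain ⟨g, hg, n, hn, hgn⟩ := Submodule.mem_sup.1 (htop.symm ▸ Submodule.mem_top : (1 : C) ∈ J ⊔ m.map (algebraMap R C))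
  refine ⟨g, by rw [← hgn, add_sub_cancel_left]; exact hn, ?_⟩
  haveI : ∀ P : Ideal (Localization.Away g), P.IsMaximal → True := fun _ _ => trivial
  refine Module.flat_of_isLocalized_maximal (R := R) (Localization.Away g) (Localization.Away g) _
    (fun P _ => Algebra.linearMap (Localization.Away g) (Localization.AtPrime P)) fun P hP => ?_
  let q := P.comap (algebraMap C (Localization.Away g))
  haveI : q.IsPrime := Ideal.comap_isPrime _ P
  have hgq : g ∉ q := fun h => hP.ne_top (P.eq_top_of_isUnit_mem h (IsLocalization.Away.algebraMap_isUnit g))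
  have h : Module.Flat R (Localization.AtPrime q) := by
    refine (hmem ⟨q, inferInstance⟩).1 ?_
    by_contra h
    have h1 : (⟨q, inferInstance⟩ : PrimeSpectrum C) ∈ (FlatLib.flatLocus R C C)ᶜ := h
    rw [hJ] at h1
    exact hgq (h1 hg)
  haveI : IsLocalization.AtPrime (Localization.AtPrime P) q :=
    IsLocalization.isLocalization_isLocalization_atPrime_isLocalization (Submonoid.powers g) (Localization.AtPrime P) P
  haveI := h
  exact Module.Flat.of_linearEquiv
    ((IsLocalization.algEquiv q.primeCompl (Localization.AtPrime P) (Localization.AtPrime q)).restrictScalars R).toLinearEquiv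

/-- Flatness at the points over the closed one, after any base change. -/
theorem flat_atPrime_of_away {R₂ B : Type u} [CommRing R₂] [CommRing B] [Algebra R₂ B] (g : B)
    [Module.Flat R₂ (Localization.Away g)] (A₀ : Type u) [CommRing A₀] [Algebra R₂ A₀] (Q : Ideal (A₀ ⊗[R₂] B))
    [Q.IsPrime] (hg : (1 : A₀) ⊗ₜ[R₂] g ∉ Q) : Module.Flat A₀ (Localization.AtPrime Q) := by
  let W := Localization.Away ((1 : A₀) ⊗ₜ[R₂] g)
  haveI : Module.Flat A₀ W :=
    Module.Flat.of_linearEquiv (IsLocalization.Away.tensorProductEquivTMulRight R₂ A₀ g (Localization.Away g)).symm.toLinearEquiv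
  have hle : Submonoid.powers ((1 : A₀) ⊗ₜ[R₂] g) ≤ Q.primeCompl :=
    Submonoid.powers_le.2 hg
  let f : W →+* Localization.AtPrime Q :=
    IsLocalization.map (M := Submonoid.powers ((1 : A₀) ⊗ₜ[R₂] g)) (T := Q.primeCompl) _ (RingHom.id _) hle
  letI : Algebra W (Localization.AtPrime Q) := f.toAlgebra
  haveI : IsScalarTower (A₀ ⊗[R₂] B) W (Localization.AtPrime Q) :=
    IsScalarTower.of_algebraMap_eq fun c => (IsLocalization.map_eq (g := RingHom.id _) hle c).symm
  haveI : IsScalarTower A₀ W (Localization.AtPrime Q) :=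
    IsScalarTower.of_algebraMap_eq fun r => by
      rw [IsScalarTower.algebraMap_apply A₀ (A₀ ⊗[R₂] B) (Localization.AtPrime Q),
        IsScalarTower.algebraMap_apply A₀ (A₀ ⊗[R₂] B) W,
        ← IsScalarTower.algebraMap_apply (A₀ ⊗[R₂] B) W (Localization.AtPrime Q)]
  haveI : IsLocalization ((Q.primeCompl).map (algebraMap (A₀ ⊗[R₂] B) W)) (Localization.AtPrime Q) :=
    IsLocalization.isLocalization_of_submonoid_le W (Localization.AtPrime Q) _ _ hle
  haveI : Module.Flat W (Localization.AtPrime Q) :=
    IsLocalization.flat _ ((Q.primeCompl).map (algebraMap (A₀ ⊗[R₂] B) W))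
  exact Module.Flat.trans A₀ W (Localization.AtPrime Q)


/-- Condition (b) (over a local base). Let R be a local ring with maximal ideal 𝔪 and residue field k,
and H = Spec C a commutative affine R-group (C cocommutative) with C of finite presentation over R,
flat over R at the points of the closed fibre (C localised at any prime containing 𝔪C is flat over
R), whose closed fibre Spec (k ⊗ C) is a k-group of multiplicative type, and such that for every n >
0 the kernel ₙH = Spec (C/Jₙ) of the n-th power map is finite over R (Jₙ the ideal generated by the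
image of the augmentation ideal under the n-th power endomorphism). Then H is of multiplicative
type. (Affine group schemes over an affine base are taken in Hopf-algebra form; base change is the
tensor product; a homomorphism of groups Spec A ⟶ Spec C is a bialgebra map C → A.) -/
theorem result (R : Type u) [CommRing R] [IsLocalRing R]
    (C : Type u) [CommRing C] [HopfAlgebra R C] [Coalgebra.IsCocomm R C] (hfp : Algebra.FinitePresentation R C)
    (hfl : ∀ (q : Ideal C) [q.IsPrime], Ideal.map (algebraMap R C) (IsLocalRing.maximalIdeal R) ≤ q → Module.Flat R (Localization.AtPrime q))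
    (hs : IsMultType (IsLocalRing.ResidueField R) (IsLocalRing.ResidueField R ⊗[R] C))
    (hfin : ∀ n : ℕ, 0 < n → Module.Finite R (C ⧸ torsionIdeal R C n)) :
    IsMultType R C := by
  classical
  haveI := hfp
  let m := IsLocalRing.maximalIdeal R
  letI : Algebra (IsLocalRing.ResidueField R) m.ResidueField :=
    (Ideal.Quotient.lift m (algebraMap R m.ResidueField) (fun r hr => Ideal.algebraMap_residueField_eq_zero.2 hr) :
      R ⧸ m →+* m.ResidueField).toAlgebra
  haveI : IsScalarTower R (IsLocalRing.ResidueField R) m.ResidueField := IsScalarTower.of_algebraMap_eq fun _ => rfl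
  have hs' : IsMultType m.ResidueField (m.ResidueField ⊗[R] C) :=
    isMultType_bialgEquiv (HomLift.cancelBC R (IsLocalRing.ResidueField R) m.ResidueField C)
      (QIso.isMultType_baseChange hs m.ResidueField)
  obtain ⟨g, hg1, hgfl⟩ := exists_flat_away m hfl
  obtain ⟨R₂, _, _, B, _, _, e, g₂, hft, hBfp, heg, hg₂fl⟩ := HomLift.exists_hopf_model_fp hfp g hgfl
  haveI := hBfp; haveI := hg₂fl
  haveI : IsNoetherianRing R₂ := Algebra.FiniteType.isNoetherianRing ℤ R₂
  obtain ⟨M, _, T, _, _, _, _, hM, het, hff, ⟨E⟩⟩ :=
    HomLift.exists_split_local_torsion_of_flatAt e m hs' hfin fun A₀ _ _ Q _ hQ =>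
      flat_atPrime_of_away g₂ A₀ Q fun hmem => by
        -- a common field over the two points
        let p₂ := m.comap (algebraMap R₂ R)
        let q := Q.comap (Algebra.TensorProduct.includeRight : B →ₐ[R₂] A₀ ⊗[R₂] B).toRingHom
        haveI : q.IsPrime := Ideal.comap_isPrime _ Q
        have hq : q.comap (algebraMap R₂ B) = p₂ := by
          rw [Ideal.comap_comap]
          refine (congrArg Q.comap ?_).trans hQ
          exact RingHom.ext fun x => (Algebra.TensorProduct.includeRight : B →ₐ[R₂] A₀ ⊗[R₂] B).commutes x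
        let u : p₂.ResidueField →ₐ[R₂] q.ResidueField := Ideal.ResidueField.mapₐ p₂ q (Algebra.ofId R₂ B) hq.symm
        let v : p₂.ResidueField →ₐ[R₂] m.ResidueField := Ideal.ResidueField.mapₐ p₂ m (Algebra.ofId R₂ R) rfl
        letI : Algebra p₂.ResidueField q.ResidueField := u.toRingHom.toAlgebra
        letI : Algebra p₂.ResidueField m.ResidueField := v.toRingHom.toAlgebra
        haveI : IsScalarTower R₂ p₂.ResidueField q.ResidueField :=
          IsScalarTower.of_algebraMap_eq fun x => (u.commutes x).symm
        haveI : IsScalarTower R₂ p₂.ResidueField m.ResidueField :=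
          IsScalarTower.of_algebraMap_eq fun x => (v.commutes x).symm
        haveI : Nontrivial (m.ResidueField ⊗[p₂.ResidueField] q.ResidueField) :=
          Module.FaithfullyFlat.rTensor_nontrivial p₂.ResidueField q.ResidueField m.ResidueField
        obtain ⟨n, hn⟩ := Ideal.exists_maximal (m.ResidueField ⊗[p₂.ResidueField] q.ResidueField)
        let fB : B →ₐ[R₂] (m.ResidueField ⊗[p₂.ResidueField] q.ResidueField) ⧸ n :=
          (Ideal.Quotient.mkₐ R₂ n).comp
            (((Algebra.TensorProduct.includeRight : q.ResidueField →ₐ[p₂.ResidueField] _).restrictScalars R₂).comp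
              (IsScalarTower.toAlgHom R₂ B q.ResidueField))
        let φ : C →ₐ[R] (m.ResidueField ⊗[p₂.ResidueField] q.ResidueField) ⧸ n :=
          (Algebra.TensorProduct.lift (Algebra.ofId R _) fB fun _ _ => Commute.all _ _).comp
            e.symm.toAlgEquiv.toAlgHom
        have hφ : φ g = 0 := by
          have hg' : e.symm g = (1 : R) ⊗ₜ[R₂] g₂ := by rw [← heg]; exact e.toAlgEquiv.symm_apply_apply _
          show Algebra.TensorProduct.lift (Algebra.ofId R _) fB (fun _ _ => Commute.all _ _) (e.symm g) = 0
          rw [hg', Algebra.TensorProduct.lift_tmul, map_one, one_mul]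
          show Ideal.Quotient.mk n ((1 : m.ResidueField) ⊗ₜ algebraMap B q.ResidueField g₂) = 0
          rw [Ideal.algebraMap_residueField_eq_zero.2 (show g₂ ∈ q from hmem), TensorProduct.tmul_zero, map_zero]
        have hle : Ideal.map (algebraMap R C) m ≤ RingHom.ker φ.toRingHom := Ideal.map_le_iff_le_comap.2 fun r hr => by
          show φ (algebraMap R C r) = 0
          rw [AlgHom.commutes]
          show Ideal.Quotient.mk n ((algebraMap R m.ResidueField r) ⊗ₜ 1) = 0
          rw [Ideal.algebraMap_residueField_eq_zero.2 hr, TensorProduct.zero_tmul, map_zero]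
        have h1 : φ (1 - g) = 0 := hle hg1
        rw [map_sub, map_one, hφ, sub_zero] at h1
        haveI := Ideal.Quotient.nontrivial_iff.2 hn.ne_top
        exact one_ne_zero h1
  haveI := hM; haveI := het; haveI := hff
  let O := Localization.AtPrime m
  let eO : R ≃ₐ[R] O := IsLocalization.atUnits R m.primeCompl fun x hx => IsLocalRing.notMem_maximalIdeal.1 hx
  haveI : Module.FaithfullyFlat R O := Module.FaithfullyFlat.of_linearEquiv R R eO.symm.toLinearEquiv
  letI : Algebra R T := ((algebraMap O T).comp (algebraMap R O)).toAlgebra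
  haveI : IsScalarTower R O T := IsScalarTower.of_algebraMap_eq fun _ => rfl
  haveI : IsScalarTower R₂ R T := IsScalarTower.of_algebraMap_eq fun x => by
    rw [IsScalarTower.algebraMap_apply R₂ O T, IsScalarTower.algebraMap_apply R₂ R O]
    rfl
  haveI : Module.FaithfullyFlat R T := Module.FaithfullyFlat.trans R O T
  obtain ⟨E₁⟩ := exists_split_transfer' (R' := R) E
  obtain ⟨E₂⟩ := HomLift.exists_split_equiv e E₁
  exact isMultType_of_split E₂

end Groth.Agent.S5299
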