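import Groth.Statements.S5298
import Groth.Agent.HomLiftLib.FlatGroup
import Groth.Agent.HomLiftLib.MultType
import Groth.Agent.HomLiftLib.Cancel
import Groth.Agent.QIsoLib.ModNil

set_option autoImplicit false
universe u
open TensorProduct SGA3b
open SGA3b

namespace Groth.Agent.S5298

open Groth.Agent Groth.Agent.TorusField Groth.Agent.DiagHopf

theorem isMultType_bialgEquiv {R A F : Type u} [CommRing R] [CommRing A] [HopfAlgebra R A] [CommRing F]
    [HopfAlgebra R F] (e : F ≃ₐc[R] A) (h : IsMultType R F) : IsMultType R A := by
  obtain ⟨s, hs, H⟩ := exists_cover_split h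
  refine ⟨s, hs, fun f hf => ?_⟩
  obtain ⟨S, _, _, _, _, N, _, hff, ⟨E⟩⟩ := H f hf
  obtain ⟨E'⟩ := HomLift.exists_split_equiv e E
  obtain ⟨E₁⟩ := exists_split_transfer' (R' := Localization.Away f) E'
  exact ⟨S, inferInstance, inferInstance, hff, N, inferInstance, exists_bialgEquiv E₁⟩

theorem flat_of_le {R C : Type u} [CommRing R] [CommRing C] [Algebra R C] {q' q : Ideal C} [q'.IsPrime]
    [q.IsPrime] (hle : q' ≤ q) (hq : Module.Flat R (Localization.AtPrime q)) :
    Module.Flat R (Localization.AtPrime q') := by
  have hsub : q.primeCompl ≤ q'.primeCompl := fun x hx h => hx (hle h)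
  let g : Localization.AtPrime q →+* Localization.AtPrime q' :=
    IsLocalization.map (M := q.primeCompl) (T := q'.primeCompl) _ (RingHom.id C) hsub
  letI : Algebra (Localization.AtPrime q) (Localization.AtPrime q') := g.toAlgebra
  haveI : IsScalarTower C (Localization.AtPrime q) (Localization.AtPrime q') :=
    IsScalarTower.of_algebraMap_eq fun c => (IsLocalization.map_eq (g := RingHom.id C) hsub c).symm
  haveI : IsScalarTower R (Localization.AtPrime q) (Localization.AtPrime q') :=
    IsScalarTower.of_algebraMap_eq fun r => by
      rw [IsScalarTower.algebraMap_apply R C (Localization.AtPrime q'),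
        IsScalarTower.algebraMap_apply R C (Localization.AtPrime q),
        ← IsScalarTower.algebraMap_apply C (Localization.AtPrime q) (Localization.AtPrime q')]
  haveI : IsLocalization ((q'.primeCompl).map (algebraMap C (Localization.AtPrime q))) (Localization.AtPrime q') :=
    IsLocalization.isLocalization_of_submonoid_le (Localization.AtPrime q) (Localization.AtPrime q') q.primeCompl
      q'.primeCompl hsub
  haveI : Module.Flat (Localization.AtPrime q) (Localization.AtPrime q') :=
    IsLocalization.flat _ ((q'.primeCompl).map (algebraMap C (Localization.AtPrime q)))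
  haveI := hq
  exact Module.Flat.trans R (Localization.AtPrime q) (Localization.AtPrime q')

/-- Condition (c) (over a local base, where every point is a generization of the closed point and an
open neighbourhood of the closed point is the whole base). Let R be a local ring with maximal ideal
𝔪 and residue field k, and H = Spec C an affine R-group with C of finite presentation over R, flat
over R at the points of the closed fibre (C localised at any prime containing 𝔪C is flat over R),
whose closed fibre Spec (k ⊗ C) is a k-group of multiplicative type, and such that every fibre Spec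
(κ(p) ⊗ C) is connected. Then H is of multiplicative type. (Affine group schemes over an affine base
are taken in Hopf-algebra form; base change is the tensor product; a homomorphism of groups Spec A ⟶
Spec C is a bialgebra map C → A.) -/
theorem result (R : Type u) [CommRing R] [IsLocalRing R]
    (C : Type u) [CommRing C] [HopfAlgebra R C] (hfp : Algebra.FinitePresentation R C)
    (hfl : ∀ (q : Ideal C) [q.IsPrime], Ideal.map (algebraMap R C) (IsLocalRing.maximalIdeal R) ≤ q → Module.Flat R (Localization.AtPrime q))
    (hs : IsMultType (IsLocalRing.ResidueField R) (IsLocalRing.ResidueField R ⊗[R] C))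
    (hconn : ∀ (p : Ideal R) [p.IsPrime], ConnectedSpace (PrimeSpectrum (p.ResidueField ⊗[R] C))) :
    IsMultType R C := by
  classical
  haveI := hfp
  let m := IsLocalRing.maximalIdeal R
  haveI : Module.Flat R C := by
    refine HomLift.flat_of_fibres_connected (fun p _ => ?_) hconn
    let q := m.comap (Bialgebra.counitAlgHom R C).toRingHom
    let q' := p.comap (Bialgebra.counitAlgHom R C).toRingHom
    haveI : q.IsPrime := Ideal.comap_isPrime _ m
    haveI : q'.IsPrime := Ideal.comap_isPrime _ p
    have hle : q' ≤ q := Ideal.comap_mono (IsLocalRing.le_maximalIdeal (Ideal.IsPrime.ne_top ‹_›))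
    have hq : Module.Flat R (Localization.AtPrime q) := hfl q <| Ideal.map_le_iff_le_comap.2 fun r hr => by
      show Bialgebra.counitAlgHom R C (algebraMap R C r) ∈ m
      rw [AlgHom.commutes]
      exact hr
    exact flat_of_le hle hq
  letI : Algebra (IsLocalRing.ResidueField R) m.ResidueField :=
    (Ideal.Quotient.lift m (algebraMap R m.ResidueField) (fun r hr => Ideal.algebraMap_residueField_eq_zero.2 hr) :
      R ⧸ m →+* m.ResidueField).toAlgebra
  haveI : IsScalarTower R (IsLocalRing.ResidueField R) m.ResidueField := IsScalarTower.of_algebraMap_eq fun _ => rfl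
  have hs' : IsMultType m.ResidueField (m.ResidueField ⊗[R] C) :=
    isMultType_bialgEquiv (HomLift.cancelBC R (IsLocalRing.ResidueField R) m.ResidueField C)
      (QIso.isMultType_baseChange hs m.ResidueField)
  obtain ⟨R₂, _, _, B, _, _, hft, -, hfl₂, hBfp, ⟨e⟩⟩ := HomLift.exists_hopf_model R C hfp
  haveI := hfl₂; haveI := hBfp
  haveI : IsNoetherianRing R₂ := Algebra.FiniteType.isNoetherianRing ℤ R₂
  obtain ⟨M, _, T, _, _, _, _, hM, het, hff, ⟨E⟩⟩ :=
    HomLift.exists_split_local e m hs' fun p _ => hconn p
  haveI := hM; haveI := het; haveI := hff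
  obtain ⟨f, hf, S, _, _, _, _, hSff, ⟨ES⟩⟩ := HomLift.exists_split_away m E
  letI : Algebra R S := ((algebraMap (Localization.Away f) S).comp (algebraMap R (Localization.Away f))).toAlgebra
  haveI : IsScalarTower R (Localization.Away f) S := IsScalarTower.of_algebraMap_eq fun _ => rfl
  haveI : IsScalarTower R₂ R S := IsScalarTower.of_algebraMap_eq fun x => by
    rw [IsScalarTower.algebraMap_apply R₂ (Localization.Away f) S,
      IsScalarTower.algebraMap_apply R₂ R (Localization.Away f)]
    rfl
  obtain ⟨E₁⟩ := exists_split_transfer' (R' := R) ES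
  obtain ⟨E₂⟩ := HomLift.exists_split_equiv e E₁
  obtain ⟨E₃⟩ := exists_split_transfer' (R' := Localization.Away f) E₂
  refine ⟨{f}, Ideal.span_singleton_eq_top.2 (IsLocalRing.notMem_maximalIdeal.1 hf), ?_⟩
  rintro _ rfl
  exact ⟨S, inferInstance, inferInstance, hSff, M, inferInstance, exists_bialgEquiv E₃⟩

end Groth.Agent.S5298
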