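import Groth.Statements.S5248
import Groth.Agent.TransporterLib.SubTop
import Groth.Agent.SubDescLib.Main

set_option autoImplicit false
open CategoryTheory MonoidalCategory CartesianMonoidalCategory MonObj GrpObj AlgebraicGeometry
universe u
open SGA3x
set_option backward.isDefEq.respectTransparency false

namespace Groth.Agent.S5248

/-- Let G be an S-group smooth and affine over S and i : H ⟶ G a subgroup scheme of G of multiplicative
type (H of multiplicative type and of finite type, which is automatic here since G is affine and of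
finite type over S). Then the normalizer of H in G (the subfunctor of points g of G with g H g⁻¹ ⊆ H
and g⁻¹ H g ⊆ H after every base change) is representable by a closed subgroup scheme of G which is
smooth over S. -/
theorem result {S : Scheme.{u}} (H G : Over S) [GrpObj H] [GrpObj G]
    (hH : SGA3x.IsMultTypeFT H) (hG : Smooth G.hom) (hGa : IsAffineHom G.hom) (i : H ⟶ G) [IsMonHom i] [Mono i] :
    ∃ (N : Over S) (_ : GrpObj N) (j : N ⟶ G), Red.IsNormalizerOf i j ∧ IsClosedImmersion j.left ∧ Smooth N.hom := by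
  obtain ⟨N, j, hj, hsm, hN⟩ := Transporter.exists_smooth_subgroupTransporter hH hH hG hGa i i
  haveI := hj
  haveI : Mono j.left := inferInstance
  haveI : Mono j := (Over.forget S).mono_of_mono_map (inferInstanceAs (Mono j.left))
  have hjP : ∀ {Y : Over S} (a : Y ⟶ N), Transporter.ConjPts i i (a ≫ j) := fun a => (hN _ _).1 ⟨a, rfl⟩
  obtain ⟨m, hm⟩ := (hN _ ((fst N N ≫ j) * (snd N N ≫ j))).2 fun X x => by
    obtain ⟨a1, a2⟩ := hjP (fst N N) X x
    obtain ⟨b1, b2⟩ := hjP (snd N N) X x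
    rw [MonObj.comp_mul]
    refine ⟨fun h => ?_, fun h => ?_⟩
    · obtain ⟨h', e1⟩ := b1 h
      obtain ⟨h'', e2⟩ := a1 h'
      refine ⟨h'', ?_⟩
      rw [← e2, ← e1]
      simp only [_root_.mul_inv_rev, _root_.mul_assoc]
    · obtain ⟨h', e1⟩ := a2 h
      obtain ⟨h'', e2⟩ := b2 h'
      refine ⟨h'', ?_⟩
      rw [← e2, ← e1]
      simp only [_root_.mul_inv_rev, _root_.mul_assoc]
  obtain ⟨e, he⟩ := (hN (𝟙_ (Over S)) 1).2 fun X x => by
    rw [MonObj.comp_one]
    exact ⟨fun h => ⟨h, by simp⟩, fun h => ⟨h, by simp⟩⟩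
  obtain ⟨n, hn⟩ := (hN N j⁻¹).2 fun X x => by
    obtain ⟨a1, a2⟩ := hjP (𝟙 N) X x
    rw [Category.id_comp] at a1 a2
    rw [GrpObj.comp_inv, _root_.inv_inv]
    exact ⟨a2, a1⟩
  obtain ⟨I, hI⟩ := SubDesc.exists_grpObj_of_mono j ⟨m, hm⟩ ⟨e, he⟩ ⟨n, hn⟩
  exact ⟨N, I, j, ⟨hI, inferInstance, fun X g => (hN X g).trans
    ⟨fun h X' x a => ⟨(h X' x).1 a, (h X' x).2 a⟩, fun h X' x => ⟨fun a => (h X' x a).1, fun a => (h X' x a).2⟩⟩⟩, hj, hsm⟩

end Groth.Agent.S5248
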