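import Groth.Statements.S5249
import Groth.Agent.TransporterLib.SubTop
import Groth.Agent.TransporterLib.Comm
import Groth.Agent.MultEqLib.Global
import Groth.Agent.CentLocusLib.Com
import Groth.Agent.DescHomLib.MultBC

set_option autoImplicit false
open CategoryTheory MonoidalCategory CartesianMonoidalCategory MonObj GrpObj AlgebraicGeometry
universe u
open SGA3x
set_option backward.isDefEq.respectTransparency false

namespace Groth.Agent.S5249

/-- Let G be an S-group smooth and affine over S, i : H ⟶ G a subgroup scheme of multiplicative type (H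
of multiplicative type and of finite type), j : Z ⟶ G the centralizer and k : N ⟶ G the normalizer
of H in G. Then Z ⟶ G factors through N by a morphism which is an open and closed immersion: the
centralizer is an open and closed subgroup scheme of the normalizer. -/
theorem result {S : Scheme.{u}} (H G Z N : Over S) [GrpObj H] [GrpObj G] [GrpObj Z] [GrpObj N]
    (hH : SGA3x.IsMultTypeFT H) (hG : Smooth G.hom) (hGa : IsAffineHom G.hom) (i : H ⟶ G) [IsMonHom i] [Mono i]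
    (j : Z ⟶ G) (k : N ⟶ G) (hj : Red.IsCentralizerOf i j) (hk : Red.IsNormalizerOf i k) :
    ∃ f : Z ⟶ N, f ≫ k = j ∧ IsOpenImmersion f.left ∧ IsClosedImmersion f.left := by
  haveI := hG
  haveI := hGa
  obtain ⟨hjm, hjmono, hjC⟩ := hj
  obtain ⟨hkm, hkmono, hkN⟩ := hk
  haveI := hjm; haveI := hjmono; haveI := hkm; haveI := hkmono
  -- the centralizer normalizes
  obtain ⟨f, hf⟩ := (hkN Z j).2 fun X' x h => by
    have hc := (hjC Z j).1 ⟨𝟙 Z, Category.id_comp j⟩ X' x h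
    refine ⟨⟨h, ?_⟩, ⟨h, ?_⟩⟩
    · rw [hc]; simp only [_root_.mul_assoc, mul_inv_cancel, _root_.mul_one]
    · rw [_root_.mul_assoc, ← hc]; simp only [inv_mul_cancel_left]
  haveI : Mono (f ≫ k) := hf ▸ hjmono
  haveI : Mono f := mono_of_mono f k
  -- over the normalizer
  let p : N.left ⟶ S := N.hom
  let adj := Over.mapPullbackAdj p
  let H₁ : Over N.left := Red.bc p H
  let ι₁ : H₁ ⟶ Red.bc p G := (Over.pullback p).map i
  haveI : IsMonHom ι₁ := DiagRep.isMonHom_bc_map p i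
  haveI : Mono ι₁ := inferInstanceAs (Mono ((Over.pullback p).map i))
  let n₀ : (Over.map p).obj (𝟙_ (Over N.left)) ⟶ N := Over.homMk (𝟙 N.left)
  let g : 𝟙_ (Over N.left) ⟶ Red.bc p G := adj.homEquiv _ G (n₀ ≫ k)
  have hconj : Transporter.ConjPts i i (n₀ ≫ k) := fun X' x =>
    ⟨fun h => ((hkN _ (n₀ ≫ k)).1 ⟨n₀, rfl⟩ X' x h).1, fun h => ((hkN _ (n₀ ≫ k)).1 ⟨n₀, rfl⟩ X' x h).2⟩
  obtain ⟨φ, hφ⟩ := Transporter.conjBy_of_conjPts ((Transporter.conjPts_bc p i i (n₀ ≫ k)).2 hconj)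
  let α : H₁ ⟶ H₁ := φ.hom
  have hα : ∀ {Y : Over N.left} (h : Y ⟶ H₁), h ≫ α ≫ ι₁ = (toUnit Y ≫ g) * (h ≫ ι₁) * (toUnit Y ≫ g)⁻¹ := by
    intro Y h
    rw [show α ≫ ι₁ = _ from hφ.symm, MonObj.comp_mul, MonObj.comp_mul, GrpObj.comp_inv, ← Category.assoc,
      toUnit_unique (h ≫ toUnit _) (toUnit Y)]
  have hfix : ∀ {Y : Over N.left} (h : Y ⟶ H₁), h ≫ α = h ↔ (h ≫ ι₁) * (toUnit Y ≫ g) = (toUnit Y ≫ g) * (h ≫ ι₁) := by
    intro Y h
    rw [← cancel_mono ι₁, Category.assoc, hα, mul_inv_eq_iff_eq_mul]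
    exact ⟨fun e => e.symm, fun e => e.symm⟩
  haveI : IsMonHom (α ≫ ι₁) := by
    haveI : IsMonHom (AGF.conjBy g (𝟙 (Red.bc p G))) := DiagRep.isMonHom_conjBy g
    rw [show α ≫ ι₁ = AGF.conjBy g ι₁ from hφ.symm, DiagRep.conjBy_eq_comp g ι₁]
    infer_instance
  haveI : IsMonHom α :=
    { one_hom := by
        rw [← cancel_mono ι₁, Category.assoc, IsMonHom.one_hom (f := α ≫ ι₁), IsMonHom.one_hom (f := ι₁)]
      mul_hom := by
        rw [← cancel_mono ι₁, Category.assoc, Category.assoc, IsMonHom.mul_hom (f := α ≫ ι₁),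
          IsMonHom.mul_hom (f := ι₁), MonoidalCategory.tensorHom_comp_tensorHom_assoc] }
  let dd : H₁ ⟶ H₁ ⊗ H₁ := lift (𝟙 H₁) (𝟙 H₁)
  let dα : H₁ ⟶ H₁ ⊗ H₁ := lift (𝟙 H₁) α
  haveI : Mono dd := mono_of_mono_fac (lift_fst (𝟙 H₁) (𝟙 H₁))
  haveI : Mono dα := mono_of_mono_fac (lift_fst (𝟙 H₁) α)
  haveI hFT : SGA3x.IsMultTypeFT H₁ := DescHom.isMultTypeFT_bc hH p
  have hcomm : ConjAvg.Comm H₁ := Transporter.comm_of_locally_fpqc (Transporter.locally_of_isMultTypeFT hFT)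
  haveI : IsMonHom dd := inferInstanceAs (IsMonHom (lift (𝟙 H₁) (𝟙 H₁)))
  haveI : IsMonHom dα := inferInstanceAs (IsMonHom (lift (𝟙 H₁) α))
  haveI := MultEq.isAffineHom_of_isMultTypeFT hFT
  haveI := MultEq.lfp_of_isMultTypeFT hFT
  have hsec : ∀ β : H₁ ⟶ H₁, IsClosedImmersion (lift (𝟙 H₁) β).left := fun β => by
    have h1 : (lift (𝟙 H₁) β).left ≫ (fst H₁ H₁).left = 𝟙 _ := by rw [← Over.comp_left, lift_fst]; rfl
    haveI : IsSeparated (fst H₁ H₁).left := inferInstanceAs (IsSeparated (Limits.pullback.fst H₁.hom H₁.hom))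
    haveI : IsClosedImmersion ((lift (𝟙 H₁) β).left ≫ (fst H₁ H₁).left) := by rw [h1]; infer_instance
    exact IsClosedImmersion.of_comp _ (fst H₁ H₁).left
  haveI : IsClosedImmersion dd.left := hsec _
  haveI : IsClosedImmersion dα.left := hsec _
  haveI : IsSeparated (H₁ ⊗ H₁).hom := inferInstanceAs (IsSeparated (Limits.pullback.fst H₁.hom H₁.hom ≫ H₁.hom))
  have hfpT : LocallyOfFinitePresentation (H₁ ⊗ H₁).hom :=
    inferInstanceAs (LocallyOfFinitePresentation (Limits.pullback.fst H₁.hom H₁.hom ≫ H₁.hom))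
  have hcdd : MultLift.Central dd := fun X x h => by
    refine CartesianMonoidalCategory.hom_ext _ _ ?_ ?_
    · rw [MonObj.mul_comp, MonObj.mul_comp]; exact hcomm _ _ _
    · rw [MonObj.mul_comp, MonObj.mul_comp]; exact hcomm _ _ _
  obtain ⟨U, hUcl, hUiff, hU1, hU2⟩ := MultEq.exists_locus (i := dd) (i' := dα) (Or.inr hfpT) hFT hFT hcdd
  have hLE : ∀ {Y : Over N.left}, (∀ h : Y ⟶ H₁, h ≫ α = h) ↔
      ∀ h : Y ⟶ H₁, ∃ h' : Y ⟶ H₁, h' ≫ dα = h ≫ dd := by
    intro Y
    constructor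
    · intro e h
      exact ⟨h, by simp [dα, dd, e h]⟩
    · intro e h
      obtain ⟨h', hh'⟩ := e h
      have a1 := congrArg (· ≫ fst H₁ H₁) hh'
      have a2 := congrArg (· ≫ snd H₁ H₁) hh'
      simp only [dα, dd, Category.assoc, lift_fst, lift_snd, Category.comp_id] at a1 a2
      rwa [a1] at a2
  -- the centralizer lies in the locus
  have hfixZ : ∀ (Y : Over N.left) (q : Y.left ⟶ Z.left), q ≫ f.left = Y.hom → ∀ h : Y ⟶ H₁, h ≫ α = h := by
    intro Y q hq h
    obtain ⟨h₀, rfl⟩ := (adj.homEquiv Y H).surjective h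
    rw [hfix, show toUnit Y ≫ g = adj.homEquiv Y G ((Over.map p).map (toUnit Y) ≫ n₀ ≫ k) from
      (adj.homEquiv_naturality_left _ _).symm]
    refine (CentLocus.map_comm_iff i p _ h₀).2 ?_
    let x : (Over.map p).obj Y ⟶ Z := Over.homMk q (by
      show q ≫ Z.hom = Y.hom ≫ p
      rw [← hq, Category.assoc, Over.w f])
    have hx : (Over.map p).map (toUnit Y) ≫ n₀ ≫ k = x ≫ j := by
      rw [← hf, ← Category.assoc, ← Category.assoc]
      refine congrArg (· ≫ k) (Over.OverMorphism.ext ?_)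
      show (toUnit Y).left ≫ 𝟙 N.left = q ≫ f.left
      rw [hq]
      exact Over.w (toUnit Y)
    rw [hx]
    exact ((hjC Z j).1 ⟨𝟙 Z, Category.id_comp j⟩ _ x h₀).symm
  have hrange : ∀ z : Z.left, f.left z ∈ U := by
    intro z
    let κ : Spec (Z.left.residueField z) ⟶ N.left := Z.left.fromSpecResidueField z ≫ f.left
    have e : κ (IsLocalRing.closedPoint (Z.left.residueField z)) = f.left z := by
      rw [Scheme.Hom.comp_apply, Scheme.fromSpecResidueField_apply]
    have hκ : ∀ (Y : Over N.left) (q : Y.left ⟶ Spec (Z.left.residueField z)), q ≫ κ = Y.hom →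
        ∀ h : Y ⟶ H₁, h ≫ α = h := fun Y q hq => hfixZ Y (q ≫ Z.left.fromSpecResidueField z) (by
      rw [Category.assoc]; exact hq)
    rw [← e]
    exact (hUiff _).2 ⟨(MultEq.le_field_iff κ).1 fun Y q hq h => hLE.1 (hκ Y q hq) h,
      (MultEq.le_field_iff κ).1 fun Y q hq h => ⟨h, by simp [dα, dd, hκ Y q hq h]⟩⟩
  let l : Z.left ⟶ (U : Scheme.{u}) := IsOpenImmersion.lift U.ι f.left (by
    rintro _ ⟨z, rfl⟩
    rw [Scheme.Opens.range_ι]
    exact hrange z)
  have hl : l ≫ U.ι = f.left := IsOpenImmersion.lift_fac _ _ _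
  -- the locus lies in the centralizer
  let U' : Over S := Over.mk (U.ι ≫ N.hom)
  let e : U' ⟶ N := Over.homMk U.ι
  obtain ⟨z, hz⟩ := (hjC U' (e ≫ k)).2 fun X' x h => by
    let Y : Over N.left := Over.mk (x.left ≫ U.ι)
    let ε : (Over.map p).obj Y ⟶ X' := Over.homMk (𝟙 _) (by
      show 𝟙 _ ≫ X'.hom = (x.left ≫ U.ι) ≫ p
      rw [Category.id_comp, Category.assoc, ← Over.w x]
      rfl)
    haveI : IsIso ((Over.forget _).map ε) := inferInstanceAs (IsIso (𝟙 _))
    haveI : IsIso ε := isIso_of_reflects_iso _ (Over.forget _)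
    have h1 : adj.homEquiv Y H (ε ≫ h) ≫ α = adj.homEquiv Y H (ε ≫ h) :=
      hLE.2 (fun h' => hU1 Y x.left rfl h') _
    rw [hfix, show toUnit Y ≫ g = adj.homEquiv Y G ((Over.map p).map (toUnit Y) ≫ n₀ ≫ k) from
      (adj.homEquiv_naturality_left _ _).symm] at h1
    have h2 := (CentLocus.map_comm_iff i p _ (ε ≫ h)).1 h1
    have hx : (Over.map p).map (toUnit Y) ≫ n₀ ≫ k = ε ≫ x ≫ e ≫ k := by
      rw [← Category.assoc, ← Category.assoc x, ← Category.assoc ε]
      refine congrArg (· ≫ k) (Over.OverMorphism.ext ?_)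
      show (toUnit Y).left ≫ 𝟙 N.left = 𝟙 _ ≫ x.left ≫ U.ι
      rw [Category.id_comp (x.left ≫ U.ι)]
      exact Over.w (toUnit Y)
    rw [hx, Category.assoc ε h i, ← MonObj.comp_mul, ← MonObj.comp_mul] at h2
    exact ((cancel_epi ε).1 h2).symm
  have hze : z ≫ f = e := by rw [← cancel_mono k, Category.assoc, hf, hz]
  haveI : IsIso l := ⟨z.left, by
    let l' : Z ⟶ U' := Over.homMk l (by
      show l ≫ U.ι ≫ N.hom = Z.hom
      rw [← Category.assoc, hl, Over.w f])
    have h' : l' ≫ z = 𝟙 Z := by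
      rw [← cancel_mono f, Category.assoc, hze, Category.id_comp]
      exact Over.OverMorphism.ext hl
    exact congrArg CommaMorphism.left h', by
    rw [← cancel_mono U.ι, Category.assoc, hl, Category.id_comp]
    exact congrArg CommaMorphism.left hze⟩
  refine ⟨f, hf, ?_, ?_⟩
  · rw [← hl]; infer_instance
  · rw [← hl]
    haveI : IsClosedImmersion U.ι := IsClosedImmersion.of_isPreimmersion U.ι (by rw [Scheme.Opens.range_ι]; exact hUcl)
    infer_instance

end Groth.Agent.S5249
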