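import Groth.Statements.S7654
import Groth.Agent.DeltaBCLib.Basic
import Groth.Agent.S0507
import Groth.Agent.S0508
import Groth.Agent.S0509
import Groth.Agent.S0511
import Groth.Agent.S0538
import Groth.Agent.S0539
import Groth.Agent.S0540
import Groth.Agent.S0543
import Mathlib.RingTheory.AdicCompletion.LocalRing
import Mathlib.RingTheory.AdicCompletion.AsTensorProduct

set_option autoImplicit false
universe u
open CategoryTheory CategoryTheory.Limits AlgebraicGeometry
open Variety

namespace Groth.Agent.S7654

/-- For a reduced local Nagata ring A of Krull dimension one, the δ-invariant does not change on passing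
to a henselization of A, to a strict henselization of A, or to the completion of A. -/
theorem result (A : Type u) [CommRing A] [IsLocalRing A]
    [IsReduced A] (hN : CAlg.IsNagata A) (hdim : ringKrullDim A = 1) :
    (∀ (B : Type u) [CommRing B] [IsLocalRing B] [Algebra A B] [IsLocalHom (algebraMap A B)],
        Hensel.IsHenselization A B → Curv2.deltaInv B = Curv2.deltaInv A) ∧
      (∀ (B : Type u) [CommRing B] [IsLocalRing B] [Algebra A B] [IsLocalHom (algebraMap A B)],
        Hensel.IsStrictHenselization A B → Curv2.deltaInv B = Curv2.deltaInv A) ∧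
      Curv2.deltaInv (Curv2.cpl A) = Curv2.deltaInv A := by
  haveI := hN.1
  refine ⟨fun B _ _ _ _ _ => ?_, fun B _ _ _ _ _ => ?_, ?_⟩
  · haveI : Module.FaithfullyFlat A B := Groth.Agent.S0509.result A B
    haveI : IsNoetherianRing B := (Groth.Agent.S0511.result A B).1 inferInstance
    haveI : Algebra.IsSeparable (IsLocalRing.ResidueField A) (IsLocalRing.ResidueField B) := ⟨fun x => by
      obtain ⟨y, rfl⟩ := (Groth.Agent.S0508.result A B).2 x
      exact isSeparable_algebraMap y⟩
    exact DeltaBCLib.deltaInv_eq hN hdim (Groth.Agent.S0507.result A B)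
  · haveI : Module.FaithfullyFlat A B := Groth.Agent.S0539.result A B
    haveI : IsNoetherianRing B := (Groth.Agent.S0540.result A B).1 inferInstance
    haveI : Algebra.IsSeparable (IsLocalRing.ResidueField A) (IsLocalRing.ResidueField B) :=
      (Hensel.IsStrictHenselization.isSepClosure (R := A) (S := B)).separable
    exact DeltaBCLib.deltaInv_eq hN hdim (Groth.Agent.S0538.result A B)
  · haveI : IsNoetherianRing (Curv2.cpl A) := Groth.Agent.S0543.result A (IsLocalRing.maximalIdeal A)
    haveI : Algebra.IsSeparable (IsLocalRing.ResidueField A) (IsLocalRing.ResidueField (Curv2.cpl A)) := ⟨fun x => by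
      obtain ⟨y, rfl⟩ := (AdicCompletion.residueField_map_bijective A).2 x
      exact isSeparable_algebraMap y⟩
    exact DeltaBCLib.deltaInv_eq hN hdim (AdicCompletion.maximalIdeal_eq_map (R := A)).symm

end Groth.Agent.S7654
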