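import Groth.Statements.S16742
import Groth.Agent.LangQLib.Field

set_option autoImplicit false
universe u
open CAlg

namespace Groth.Agent.S16742

/-- The equivalence in affine form, with flatness of the reduction in place of smoothness. Let p be a
prime, A~ a commutative ring flat over Z/p^2 and B~ an A~-algebra such that B~/pB~ is flat over
A~/pA~. Then B~ is flat over A~ if and only if every element of B~ killed by p is a multiple of p;
equivalently multiplication by p identifies B~/pB~ with pB~. (The published statement assumes the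
reduction smooth over A~/pA~ and the schemes noetherian, and phrases (b) as B~ being a lifting, that
is flat over A~; the statement here assumes only that the reduction is flat, where the equivalence
still holds by the local flatness criterion for the square-zero ideal generated by p.) -/
theorem result (p : ℕ) [Fact p.Prime]
    (Al : Type u) [CommRing Al] [Algebra (ZMod (p ^ 2)) Al] [Module.Flat (ZMod (p ^ 2)) Al]
    (Bl : Type u) [CommRing Bl] [Algebra Al Bl]
    (hB : Module.Flat (Al ⧸ Ideal.span {(p : Al)})
      (Bl ⧸ (Ideal.span {(p : Al)}).map (algebraMap Al Bl))) :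
    Module.Flat Al Bl ↔ ∀ b : Bl, (p : Bl) * b = 0 → b ∈ Ideal.span {(p : Bl)} := by
  classical
  have hp2 : (p : Al) * p = 0 := by
    have h : ((p : ZMod (p ^ 2)) * p) = 0 := by rw [← pow_two, ← Nat.cast_pow, ZMod.natCast_self]
    have := congrArg (algebraMap (ZMod (p ^ 2)) Al) h
    rwa [map_mul, map_natCast, map_zero] at this
  have hp2B : ∀ b : Bl, (p : Bl) * ((p : Bl) * b) = 0 := fun b => by
    rw [← mul_assoc, ← map_natCast (algebraMap Al Bl), ← map_mul, hp2, map_zero, zero_mul]
  constructor
  · intro hflat b hb
    have hA : ∀ a : Al, (p : Al) * a = 0 → a ∈ Ideal.span {(p : Al)} := by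
      intro a ha
      obtain ⟨n, c, y, hy, hc⟩ := Module.Flat.isTrivialRelation_of_sum_smul_eq_zero (R := ZMod (p ^ 2)) (M := Al)
        (f := fun _ : Fin 1 => (p : ZMod (p ^ 2))) (x := fun _ => a) (by
          rw [Fin.sum_univ_one, Algebra.smul_def, map_natCast]; exact ha)
      have hya : a = ∑ j, c 0 j • y j := hy 0
      rw [hya]
      refine Submodule.sum_mem _ fun j _ => ?_
      have h := hc j
      rw [Fin.sum_univ_one] at h
      obtain ⟨m, hm⟩ := ZMod.natCast_zmod_surjective (c 0 j)
      rw [← hm, ← Nat.cast_mul, ZMod.natCast_eq_zero_iff, pow_two, Nat.mul_dvd_mul_iff_left (Fact.out : p.Prime).pos] at h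
      obtain ⟨m', rfl⟩ := h
      rw [← hm, Algebra.smul_def, map_natCast, Nat.cast_mul, mul_assoc]
      exact Ideal.mul_mem_right _ _ (Ideal.mem_span_singleton_self _)
    obtain ⟨n, c, y, hy, hc⟩ := Module.Flat.isTrivialRelation_of_sum_smul_eq_zero (R := Al) (M := Bl)
      (f := fun _ : Fin 1 => (p : Al)) (x := fun _ => b) (by
        rw [Fin.sum_univ_one, Algebra.smul_def, map_natCast]; exact hb)
    have hyb : b = ∑ j, c 0 j • y j := hy 0
    rw [hyb]
    refine Submodule.sum_mem _ fun j _ => ?_
    have h := hc j
    rw [Fin.sum_univ_one] at h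
    obtain ⟨a', ha'⟩ := Ideal.mem_span_singleton'.1 (hA _ h)
    rw [← ha', Algebra.smul_def, map_mul, map_natCast, mul_comm ((algebraMap Al Bl) a'), mul_assoc]
    exact Ideal.mul_mem_right _ _ (Ideal.mem_span_singleton_self _)
  · intro htor
    set I := Ideal.span {(p : Al)}
    set J := I.map (algebraMap Al Bl) with hJdef
    have hJ : ∀ b, b ∈ J ↔ ∃ z, b = (p : Bl) * z := fun b => by
      rw [hJdef, Ideal.map_span, Set.image_singleton, map_natCast, Ideal.mem_span_singleton]
      exact Iff.rfl
    have hI : ∀ a, a ∈ I ↔ ∃ z, a = (p : Al) * z := fun a => Ideal.mem_span_singleton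
    have key : ∀ {ι : Type} [Fintype ι] (f : ι → Al) (x : ι → Bl), (∑ i, algebraMap Al Bl (f i) * x i ∈ J) →
        ∃ (n : ℕ) (a : ι → Fin n → Al) (y : Fin n → Bl) (z : ι → Bl),
          (∀ i, x i = ∑ j, algebraMap Al Bl (a i j) * y j + (p : Bl) * z i) ∧
          ∀ j, ∃ g, ∑ i, f i * a i j = (p : Al) * g := by
      intro ι _ f x h
      obtain ⟨n, a, y, hy, ha⟩ := Module.Flat.isTrivialRelation_of_sum_smul_eq_zero (R := Al ⧸ I) (M := Bl ⧸ J)
        (f := fun i => Ideal.Quotient.mk I (f i)) (x := fun i => Ideal.Quotient.mk J (x i)) (by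
          rw [← Ideal.Quotient.eq_zero_iff_mem, map_sum] at h
          refine Eq.trans (Finset.sum_congr rfl fun i _ => ?_) h
          rw [map_mul, Algebra.smul_def]; rfl)
      choose a' ha' using fun i j => Ideal.Quotient.mk_surjective (a i j)
      choose y' hy' using fun j => Ideal.Quotient.mk_surjective (y j)
      have hz : ∀ i, ∃ z, x i - ∑ j, algebraMap Al Bl (a' i j) * y' j = (p : Bl) * z := fun i => by
        rw [← hJ, ← Ideal.Quotient.eq, map_sum]
        refine (hy i).trans ?_
        refine Finset.sum_congr rfl fun j _ => ?_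
        rw [← ha' i j, ← hy' j, map_mul, Algebra.smul_def]; rfl
      choose z hz using hz
      refine ⟨n, a', y', z, fun i => by rw [← hz i]; ring, fun j => ?_⟩
      rw [← hI, ← Ideal.Quotient.eq_zero_iff_mem, map_sum]
      refine Eq.trans (Finset.sum_congr rfl fun i _ => ?_) (ha j)
      rw [map_mul, ha' i j]
    refine Module.Flat.iff_forall_isTrivialRelation.2 fun {l f x} hrel => ?_
    simp only [Algebra.smul_def] at hrel
    obtain ⟨n, a, y, z, hx, hg⟩ := key f x (hrel ▸ J.zero_mem)
    choose g hg using hg
    have h2 : (p : Bl) * (∑ j, algebraMap Al Bl (g j) * y j + ∑ i, algebraMap Al Bl (f i) * z i) = 0 := by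
      rw [← hrel, mul_add, Finset.mul_sum, Finset.mul_sum]
      simp only [hx, mul_add, Finset.mul_sum, Finset.sum_add_distrib]
      congr 1
      · rw [Finset.sum_comm]
        refine Finset.sum_congr rfl fun j _ => ?_
        rw [← mul_assoc, ← map_natCast (algebraMap Al Bl), ← map_mul, ← hg j, map_sum, Finset.sum_mul]
        exact Finset.sum_congr rfl fun i _ => by rw [map_mul]; ring
      · exact Finset.sum_congr rfl fun i _ => by ring
    obtain ⟨w, hw⟩ := Ideal.mem_span_singleton'.1 (htor _ h2)
    obtain ⟨m, c, u, z', hu, hh⟩ := key (Sum.elim g f) (Sum.elim y z) (by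
      rw [Fintype.sum_sum_type, hJ]
      exact ⟨w, by simp only [Sum.elim_inl, Sum.elim_inr]; rw [← hw]; ring⟩)
    choose hc hhc using hh
    refine ⟨m + n, fun i => Fin.append (fun t => ∑ j, a i j * c (Sum.inl j) t + (p : Al) * c (Sum.inr i) t)
      (fun j => (p : Al) * a i j), Fin.append u (fun j => z' (Sum.inl j)), fun i => ?_, fun t => ?_⟩
    · rw [Fin.sum_univ_add]
      simp only [Fin.append_left, Fin.append_right, Algebra.smul_def, map_add, map_sum, map_mul, map_natCast]
      rw [hx i, show z i = _ from hu (Sum.inr i), mul_add, hp2B, add_zero]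
      simp only [show ∀ j, y j = _ from fun j => hu (Sum.inl j), mul_add, Finset.sum_add_distrib, Finset.mul_sum,
        add_mul, Finset.sum_mul]
      rw [Finset.sum_comm]
      simp only [mul_assoc, mul_left_comm (p : Bl)]
      ring
    · refine Fin.addCases (fun t => ?_) (fun j => ?_) t
      · simp only [Fin.append_left, mul_add, Finset.sum_add_distrib, Finset.mul_sum]
        rw [Finset.sum_comm]
        have e1 : ∀ j, ∑ i, f i * (a i j * c (Sum.inl j) t) = (p : Al) * (g j * c (Sum.inl j) t) := fun j => by
          rw [← mul_assoc, ← hg j, Finset.sum_mul]; exact Finset.sum_congr rfl fun i _ => by ring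
        have e2 : ∀ i, f i * ((p : Al) * c (Sum.inr i) t) = (p : Al) * (f i * c (Sum.inr i) t) := fun i => by ring
        simp only [e1, e2, ← Finset.mul_sum, ← mul_add]
        have e3 := hhc t
        rw [Fintype.sum_sum_type] at e3
        simp only [Sum.elim_inl, Sum.elim_inr] at e3
        rw [e3, ← mul_assoc, hp2, zero_mul]
      · simp only [Fin.append_right]
        calc ∑ i, f i * ((p : Al) * a i j) = (p : Al) * ∑ i, f i * a i j := by
              rw [Finset.mul_sum]; exact Finset.sum_congr rfl fun i _ => by ring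
          _ = 0 := by rw [hg j, ← mul_assoc, hp2, zero_mul]

end Groth.Agent.S16742
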