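import Groth.Statements.S14930
import Groth.Agent.S14929
import Groth.Agent.S0415
-- import your own Groth.Agent.* helpers here

set_option autoImplicit false
universe u
open CategoryTheory CategoryTheory.Limits AlgebraicGeometry
open Variety

namespace Groth.Agent.S14930

/-- The relative Frobenius is integral, universally injective and surjective. -/
theorem relFrob_props (p : ℕ) [Fact p.Prime] {X S : Scheme.{u}} [FrobSch.IsCharP S p] (f : X ⟶ S) :
    IsIntegralHom (FrobSch.relFrob f p) ∧ UniversallyInjective (FrobSch.relFrob f p) ∧
      Surjective (FrobSch.relFrob f p) := by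
  haveI : FrobSch.IsCharP X p := FrobSch.IsCharP.of_hom f p
  obtain ⟨hS, hSi, -⟩ := Groth.Agent.S14929.result p S
  obtain ⟨hX, hXi, -⟩ := Groth.Agent.S14929.result p X
  obtain ⟨-, hSu, hSs⟩ := (Groth.Agent.S0415.result _).mp hS
  obtain ⟨-, hXu, hXs⟩ := (Groth.Agent.S0415.result _).mp hX
  let π := pullback.fst f (FrobSch.frob S p)
  haveI : IsIntegralHom π := inferInstance
  haveI : IsIntegralHom (FrobSch.relFrob f p ≫ π) := by rw [FrobSch.relFrob_fst]; exact hXi
  haveI : UniversallyInjective (FrobSch.relFrob f p ≫ π) := by rw [FrobSch.relFrob_fst]; exact hXu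
  have hu : UniversallyInjective (FrobSch.relFrob f p) := by
    have h1 : UniversallyInjective (FrobSch.relFrob f p ≫ π) ↔ _ :=
      (tfae_universallyInjective (FrobSch.relFrob f p ≫ π)).out 0 1
    have h2 : UniversallyInjective (FrobSch.relFrob f p) ↔ _ :=
      (tfae_universallyInjective (FrobSch.relFrob f p)).out 0 1
    refine h2.mpr fun K _ g g' h => (h1.mp inferInstance) K ?_
    dsimp only at h ⊢
    rw [← Category.assoc, h, Category.assoc]
  refine ⟨IsIntegralHom.of_comp (FrobSch.relFrob f p) π, hu, ⟨fun y => ⟨π y, ?_⟩⟩⟩
  haveI : UniversallyInjective π := MorphismProperty.pullback_fst _ _ hSu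
  have h := ConcreteCategory.congr_hom (congrArg (fun g : X ⟶ X => g.base) (FrobSch.relFrob_fst f p)) (π y)
  exact π.injective h

/-- Let p be a prime, S a scheme of characteristic p (p is zero in the structure sheaf) and f : X → S a
morphism of schemes. Then the relative Frobenius F_{X/S} : X → X^(p), where X^(p) = X ×_{S,F_S} S is
the base change of X along the absolute Frobenius of S and F_{X/S} is the morphism over S whose
composite with the projection X^(p) → X is the absolute Frobenius of X, is a universal homeomorphism
(every base change of it is a homeomorphism), is integral, and induces a purely inseparable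
extension of residue fields at every point of X. -/
theorem result (p : ℕ) [Fact p.Prime]
    {X S : Scheme.{u}} [FrobSch.IsCharP S p] (f : X ⟶ S) :
    FlatMor.IsUnivHomeo (FrobSch.relFrob f p) ∧ IsIntegralHom (FrobSch.relFrob f p) ∧
      ∀ x : X, ((FrobSch.relFrob f p).residueFieldMap x).hom.IsPurelyInseparable := by
  obtain ⟨h1, h2, h3⟩ := relFrob_props p f
  have h4 : UniversallyInjective (FrobSch.relFrob f p) ↔ _ :=
    (tfae_universallyInjective (FrobSch.relFrob f p)).out 0 2
  exact ⟨(Groth.Agent.S0415.result _).mpr ⟨h1, h2, h3⟩, h1, (h4.mp h2).2⟩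

end Groth.Agent.S14930
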