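import Groth.Statements.S2121
import Groth.Agent.DvrDom.Dense

set_option autoImplicit false
universe u
open CategoryTheory AlgebraicGeometry
open Mor

namespace Groth.Agent.S2121

/-- Let `f : X → Y` be quasi-compact and `z` a point in the closure of `f(X)` (the underlying set of the
scheme theoretic image). Then there are a valuation ring `A` with fraction field `K` and morphisms
`Spec K → X`, `Spec A → Y` forming a commutative square with `f` and `Spec K → Spec A`, such that
the closed point of `Spec A` maps to `z`. -/
theorem result {X Y : Scheme.{u}} (f : X ⟶ Y) [QuasiCompact f] (z : Y)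
    (hz : z ∈ closure (Set.range f.base)) :
    ∃ (A : Type u) (_ : CommRing A) (_ : IsDomain A) (_ : ValuationRing A)
      (x : Spec (CommRingCat.of (FractionRing A)) ⟶ X) (y : Spec (CommRingCat.of A) ⟶ Y),
      x ≫ f = Spec.map (CommRingCat.ofHom (algebraMap A (FractionRing A))) ≫ y ∧
      y.base (IsLocalRing.closedPoint A) = z := by
  obtain ⟨x, hx⟩ := DvrDomLib.exists_specializes_of_mem_closure_range f z hz
  let θ : Y.presheaf.stalk z ⟶ X.residueField x :=
    Y.presheaf.stalkSpecializes hx ≫ f.stalkMap x ≫ X.residue x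
  obtain ⟨A, hA, hloc⟩ := IsLocalRing.exists_factor_valuationRing θ.hom
  obtain ⟨a, ha, ha'⟩ := DvrDomLib.exists_specIso_fractionRing A (X.residueField x)
  let φ : Y.presheaf.stalk z →+* A := θ.hom.codRestrict A.toSubring hA
  refine ⟨A, inferInstance, inferInstance, inferInstance, a.hom ≫ X.fromSpecResidueField x,
    Spec.map (CommRingCat.ofHom φ) ≫ Y.fromSpecStalk z, ?_, ?_⟩
  · rw [Category.assoc, ← ha, Category.assoc]
    congr 1
    show _ = Spec.map (CommRingCat.ofHom A.subtype) ≫ Spec.map (CommRingCat.ofHom φ) ≫ _
    rw [← Spec.map_comp_assoc]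
    show _ = Spec.map θ ≫ _
    simp only [θ, Spec.map_comp, Category.assoc, Scheme.fromSpecResidueField,
      Scheme.SpecMap_stalkSpecializes_fromSpecStalk, Scheme.SpecMap_stalkMap_fromSpecStalk]
  · show (Spec.map (CommRingCat.ofHom φ) ≫ Y.fromSpecStalk z) (IsLocalRing.closedPoint A) = z
    erw [Scheme.Hom.comp_apply]
    refine (congrArg (Y.fromSpecStalk z) ?_).trans Scheme.fromSpecStalk_closedPoint
    have : IsLocalHom φ := hloc
    exact IsLocalRing.comap_closedPoint φ

end Groth.Agent.S2121
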