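import Groth.Statements.S4932
import Mathlib
import Groth.Agent.ValFibLib.Dim
import Groth.Agent.FibDimLib.Semicont
-- import your own Groth.Agent.* helpers here

set_option autoImplicit false
open CategoryTheory AlgebraicGeometry
universe u v w
open EGA43

namespace Groth.Agent.S4932

/-- Let A be a valuation ring (not necessarily discrete), X an irreducible scheme and f : X ⟶ Spec A a
dominant morphism of finite type. If the fibre X_0 of f over the closed point is nonempty, then dim
X_0 = dim X_1, where X_1 is the fibre over the generic point. -/
theorem result {A : Type u} [CommRing A] [IsDomain A]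
    [ValuationRing A] {X : Scheme.{u}} [IrreducibleSpace X] (f : X ⟶ Spec (CommRingCat.of A))
    [LocallyOfFiniteType f] [QuasiCompact f] [IsDominant f]
    (h0 : Nonempty ↥(f.fiber (IsLocalRing.closedPoint A))) :
    topologicalKrullDim ↥(f.fiber (IsLocalRing.closedPoint A)) =
      topologicalKrullDim ↥(f.fiber (genericPoint (Spec (CommRingCat.of A)))) := by
  have hη : f.base (genericPoint X) = genericPoint (Spec (CommRingCat.of A)) :=
    ((genericPoint_spec X).image f.continuous).eq (by
      rw [Set.image_univ, f.denseRange.closure_eq]; exact genericPoint_spec _)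
  refine le_antisymm (ValFibLib.fiber_dim_le_generic f _ fun x _ => ⟨genericPoint X, genericPoint_specializes x, hη⟩) ?_
  obtain ⟨z⟩ := h0
  have hz : f.base ((f.fiberι (IsLocalRing.closedPoint A)).base z) = IsLocalRing.closedPoint A :=
    (f.range_fiberι _).le ⟨z, rfl⟩
  refine (FibDimLib.generic_fiber_dim_le f ((f.fiberι (IsLocalRing.closedPoint A)).base z)).trans ?_
  exact (FibDimLib.fibreDimAt_le_fiber f _).trans (by rw [hz])

end Groth.Agent.S4932
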