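import Groth.Statements.S0760
import Groth.Agent.ConstHLib.Strict

set_option autoImplicit false
open CategoryTheory CategoryTheory.Limits AlgebraicGeometry Opposite
open scoped TensorProduct
universe u
open EtRest

namespace Groth.Agent.S0760

/-- Let f : X -> S be locally acyclic and F a locally constant abelian sheaf on X_et all of whose
geometric stalks are torsion groups whose elements have order prime to the residue characteristic.
Then f is locally acyclic relative to F: for every point x, strict henselizations R_S -> R_X of the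
local rings at f(x) and x (compatible with f), separably closed field Om under R_S, and every q,
pulling back along the variety of vanishing cycles Spec(R_X (x)_{R_S} Om) -> Spec R_X induces a
bijection H^q(Spec R_X, F|) -> H^q(Spec(R_X (x) Om), F|). (Left exactness of the pullback functor
carried as a binder.) -/
theorem result {X S : Scheme.{u}} (f : X ⟶ S)
    (hf : EtRest.IsLocallyAcyclic f) (F : EtCoh.Ab X) (hF : EtRest.IsLocallyConstant F)
    (htor : ∀ (Ω : Type u) [Field Ω] [IsSepClosed Ω] (ξ : Spec (CommRingCat.of Ω) ⟶ X)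
      (s : (EtCoh.stalk ξ).obj F), ∃ n : ℕ, 0 < n ∧ (n : Ω) ≠ 0 ∧ n • s = 0)
    (x : ↥X) (RS RX : Type u) [CommRing RS] [CommRing RX] [IsLocalRing RS] [IsLocalRing RX]
    [Algebra (S.presheaf.stalk (f.base x)) RS] [IsLocalHom (algebraMap (S.presheaf.stalk (f.base x)) RS)]
    [Hensel.IsStrictHenselization (S.presheaf.stalk (f.base x)) RS]
    [Algebra (X.presheaf.stalk x) RX] [IsLocalHom (algebraMap (X.presheaf.stalk x) RX)]
    [Hensel.IsStrictHenselization (X.presheaf.stalk x) RX]
    [Algebra RS RX] [IsLocalHom (algebraMap RS RX)]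
    (hc : (algebraMap RS RX).comp (algebraMap (S.presheaf.stalk (f.base x)) RS) =
      (algebraMap (X.presheaf.stalk x) RX).comp (f.stalkMap x).hom)
    (Ω : Type u) [Field Ω] [IsSepClosed Ω] [Algebra RS Ω]
    [PreservesFiniteLimits (EtCoh.pull
      (Spec.map (CommRingCat.ofHom (algebraMap RX (EtRest.vcRing RS RX Ω)))))] (q : ℕ) :
    Function.Bijective (EtCore.HpullVia
      (Spec.map (CommRingCat.ofHom (algebraMap RX (EtRest.vcRing RS RX Ω)))) (Hens2.specOf X x RX)
      (Spec.map (CommRingCat.ofHom (algebraMap RX (EtRest.vcRing RS RX Ω))) ≫ Hens2.specOf X x RX)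
      rfl F q) := by
  let k := X.residueField x
  let K := IsLocalRing.ResidueField RX
  haveI : HenselianLocalRing RX := Hensel.IsStrictHenselization.henselian (X.presheaf.stalk x)
  haveI : IsSepClosed K :=
    haveI : IsSepClosure (IsLocalRing.ResidueField (X.presheaf.stalk x)) K :=
      Hensel.IsStrictHenselization.isSepClosure
    IsSepClosure.sep_closed (IsLocalRing.ResidueField (X.presheaf.stalk x))
  let t := Hens2.specOf X x RX
  let g : Spec (CommRingCat.of (EtRest.vcRing RS RX Ω)) ⟶ Spec (CommRingCat.of RX) :=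
    Spec.map (CommRingCat.ofHom (algebraMap RX (EtRest.vcRing RS RX Ω)))
  let G := (EtCoh.pull t).obj F
  have hG : EtRest.IsLocallyConstant G :=
    (Groth.Agent.EtShLib.isLC_iff G).2 (((Groth.Agent.EtShLib.isLC_iff F).1 hF).pull (f := t))
  obtain ⟨e⟩ := ConstHLib.exists_iso_const hG
  let φ : k →+* K := IsLocalRing.ResidueField.map (algebraMap (X.presheaf.stalk x) RX)
  let ok : ℕ → Prop := fun n => (n : k) ≠ 0
  have hdvd : ∀ a b : ℕ, ok b → a ∣ b → ok a := fun a b hb hab ha => by
    obtain ⟨c, rfl⟩ := hab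
    exact hb (by rw [Nat.cast_mul, ha, zero_mul])
  obtain ⟨ℓ, hℓ, hℓp⟩ : ∃ ℓ : ℕ, ℓ.Prime ∧ (ℓ : k) ≠ 0 := by
    by_cases h2 : ((2 : ℕ) : k) = 0
    · refine ⟨3, Nat.prime_three, fun h3 => one_ne_zero (α := k) ?_⟩
      calc (1 : k) = ((3 : ℕ) : k) - ((2 : ℕ) : k) := by norm_num
        _ = 0 := by rw [h2, h3, sub_zero]
    · exact ⟨2, Nat.prime_two, h2⟩
  let Y := Spec (CommRingCat.of (EtRest.vcRing RS RX Ω))
  haveI : Nonempty Y := by
    by_contra hne
    rw [not_nonempty_iff] at hne
    obtain ⟨-, ⟨e0⟩⟩ := hf x RS RX hc Ω ℓ hℓp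
    haveI : Fact ℓ.Prime := ⟨hℓ⟩
    haveI : Subsingleton (EtCoh.H Y (EtCoh.const Y (ZMod ℓ)) 0) := by
      refine subsingleton_of_forall_eq 0 fun a => ?_
      obtain ⟨α, rfl⟩ := (Abelian.Ext.mk₀_bijective _ _).2 a
      rw [← Abelian.Ext.mk₀_zero]
      refine congrArg Abelian.Ext.mk₀ (Sheaf.hom_ext (NatTrans.ext (funext fun W => ?_)))
      ext s
      refine Groth.Agent.EtShLib.eq_of_germ _ _ _ fun _ _ _ ξ _ => ?_
      exact (IsEmpty.false (ξ.base default)).elim
    exact one_ne_zero (α := ZMod ℓ) (e0.symm.injective (Subsingleton.elim _ _))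
  have hgood : ConstHLib.Good Y ((Groth.Agent.EtShLib.stk (A := AddCommGrpCat.{u + 1})
      (Groth.Agent.EtShLib.closedPt RX)).obj G) := by
    refine ConstHLib.good_of_torsion (ok := ok) Y hdvd (fun n hn hok => ?_) _ fun m => ?_
    · haveI : NeZero n := ⟨hn.ne'⟩
      obtain ⟨h1, ⟨h0⟩⟩ := hf x RS RX hc Ω n hok
      exact ConstHLib.good_zmod Y n h1 h0
    · let s := (Groth.Agent.EtShLib.stalkPull t (Groth.Agent.EtShLib.closedPt RX) AddCommGrpCat.{u + 1}).app F
      obtain ⟨n, hn, hnK, hns⟩ := htor K (Groth.Agent.EtShLib.closedPt RX ≫ t) (s.inv m)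
      refine ⟨n, hn, fun h => hnK (by rw [← map_natCast φ, h, map_zero]), ?_⟩
      have h2 := congrArg s.hom hns
      rw [map_nsmul, map_zero, ← ConcreteCategory.comp_apply, s.inv_hom_id] at h2
      exact h2
  have hb := ConstHLib.bijective_Hpull g e hgood q
  exact (ConcreteCategory.bijective_of_isIso
    ((EtCoh.HF Y q).map (((EtCore.pullComp g t).symm ≪≫ EtCore.pullCongr rfl).app F).hom)).comp hb
end Groth.Agent.S0760
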