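import Groth.Statements.S4079
-- import your own Groth.Agent.* helpers here
import Groth.Agent.NearbyCdLib.Slope

set_option autoImplicit false
universe u
open CategoryTheory CategoryTheory.Limits AlgebraicGeometry MonObj
open SGA7

namespace Groth.Agent.S4079

attribute [local instance] EtSliceLib.pullExact

/-- Let V be a henselian discrete valuation ring with separably closed residue field, K its fraction
field, Ω a separable closure of K, and m a natural number whose image in the residue field of V is
nonzero. Let f : X -> Spec V be a morphism of finite type (locally of finite type and quasi-compact)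
whose generic fibre X ×_V Spec K has dimension at most n. Let x be a point of the special fibre
whose closure (inside X, equivalently inside the special fibre) has dimension at least k, with k ≤
n, and Osh a strict henselisation of the local ring of X at x. Then the nearby-cycle groups
H^i(Spec(Osh) ×_V Spec Ω, ℤ/m) vanish for i > n − k. -/
theorem result (V K Ω : Type u) [CommRing V] [IsDomain V] [IsDiscreteValuationRing V] [HenselianLocalRing V]
    [IsSepClosed (IsLocalRing.ResidueField V)] [Field K] [Algebra V K] [IsFractionRing V K]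
    [Field Ω] [Algebra K Ω] [IsSepClosure K Ω] [Algebra V Ω] [IsScalarTower V K Ω]
    (m : ℕ) (hm : (m : IsLocalRing.ResidueField V) ≠ 0)
    {X : Scheme.{u}} (f : X ⟶ Spec (CommRingCat.of V)) [LocallyOfFiniteType f] [QuasiCompact f] (n : ℕ)
    (hn : topologicalKrullDim ↥(pullback f (Spec.map (CommRingCat.ofHom (algebraMap V K)))) ≤ n)
    (x : ↥X) (hx : f.base x = IsLocalRing.closedPoint V) (k : ℕ) (hkn : k ≤ n)
    (hk : (k : WithBot ℕ∞) ≤ topologicalKrullDim ↥(closure ({x} : Set ↥X)))
    (Osh : Type u) [CommRing Osh] [IsLocalRing Osh] [Algebra ↑(X.presheaf.stalk x) Osh]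
    [IsLocalHom (algebraMap ↑(X.presheaf.stalk x) Osh)] [Hensel.IsStrictHenselization ↑(X.presheaf.stalk x) Osh]
    (i : ℕ) (hi : n - k < i) :
    Subsingleton (EtCoh.H (SGA7.nearbyFibre f x Osh Ω)
      (EtCoh.const (SGA7.nearbyFibre f x Osh Ω) (ZMod m)) i) := by
  haveI : IsSepClosed Ω := IsSepClosure.sep_closed K
  have hm0 : m ≠ 0 := fun h => hm (by simp [h])
  haveI : NeZero m := ⟨hm0⟩
  have hk' := NearbyCdLib.natCast_le_resTrdeg f x hx k hk
  refine CdFieldLib.subsingleton_H_killed (X := SGA7.nearbyFibre f x Osh Ω) (Nat.pos_of_ne_zero hm0)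
    (fun p hp hpm => ?_) _ (CdOneLib.nsmul_id_const m) i hi
  have hu : (p : IsLocalRing.ResidueField V) ≠ 0 := fun h => hm (by
    obtain ⟨c, rfl⟩ := hpm
    rw [Nat.cast_mul, h, zero_mul])
  have hc := NearbyCdLib.cdK_slope f hn x hx k hkn hk' Osh hp hu (Ω := Ω)
  simpa only [SGA7.nearbyFibre, Hens2.specOf, Category.assoc] using hc

end Groth.Agent.S4079
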