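import Groth.Statements.S0605
import Mathlib.RingTheory.LocalRing.Module
import Groth.Agent.DepthLib.RegAB


-- import your own Groth.Agent.* helpers here

set_option autoImplicit false
universe u
open CAlg

namespace Groth.Agent.S0605

/-- Over a regular local ring, a finitely generated module whose depth equals the dimension of the ring
(a maximal Cohen–Macaulay module) is free. -/
theorem result (R : Type u) [CommRing R]
    [IsRegularLocalRing R] (M : Type u) [AddCommGroup M] [Module R M] [Module.Finite R M]
    (h : ((LocCoh.depth R M : ℕ∞) : WithBot ℕ∞) = ringKrullDim R) : Module.Free R M := by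
  rcases subsingleton_or_nontrivial M with hM | hM
  · infer_instance
  · obtain ⟨d, hd⟩ : ∃ d : ℕ, ringKrullDim R = d :=
      ⟨_, ((isRegularLocalRing_iff R).1 inferInstance).symm⟩
    obtain ⟨b, hbd, hb, hpd⟩ := DepthLib.depth_add_projectiveDimension R M hd
    rw [hb, hd] at h
    have hbd' : b = d := by exact_mod_cast h
    rw [hbd', Nat.sub_self] at hpd
    have h0 : CategoryTheory.HasProjectiveDimensionLE (ModuleCat.of R M) 0 :=
      (CategoryTheory.projectiveDimension_le_iff _ 0).1 hpd.le
    have hp : CategoryTheory.Projective (ModuleCat.of R M) :=
      (CategoryTheory.projective_iff_hasProjectiveDimensionLE_zero _).2 h0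
    have : Module.Projective R M := (IsProjective.iff_projective _).2 hp
    have : Module.FinitePresentation R M := Module.finitePresentation_of_finite R M
    exact Module.free_of_flat_of_isLocalRing

end Groth.Agent.S0605
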