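import Groth.Statements.S16491
import Groth.Agent.RefHullLib.RankOne
import Groth.Agent.S1688

set_option autoImplicit false
universe u
open CategoryTheory CategoryTheory.Limits AlgebraicGeometry TopologicalSpace
open VBPn

namespace Groth.Agent.S16491

open AlgebraicGeometry CategoryTheory TopologicalSpace

theorem isInvertible_of_rank_one {X : Scheme.{u}} {L : X.Modules} (h : FlatMod.IsFinLocFreeOfRank 1 L) :
    PicF.IsInvertible L := fun x => by
  obtain ⟨U, hU, ⟨e⟩⟩ := h x
  exact ⟨U, hU, ⟨e ≪≫
    { hom := Limits.Sigma.desc fun _ => 𝟙 _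
      inv := Limits.Sigma.ι (fun _ : Fin 1 => Coh.structureModule (U : Scheme.{u})) 0
      hom_inv_id := Limits.Sigma.hom_ext _ _ fun i => by fin_cases i; simp
      inv_hom_id := Limits.Sigma.ι_desc _ _ }⟩⟩

theorem genRank_eq_one {X : Scheme.{u}} [IsIntegral X] {F : X.Modules} (h : RefHull.GenInvertible F) :
    CurvLib.genRank F = 1 := by
  obtain ⟨U, hUd, hinv⟩ := h
  obtain ⟨y, hy⟩ := hUd.nonempty
  obtain ⟨V, hyV, ⟨e⟩⟩ := hinv ⟨y, hy⟩
  let W : X.Opens := U.ι ''ᵁ V
  let k := U.ι.isoImage V
  have hk : k.inv ≫ V.ι ≫ U.ι = W.ι := by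
    rw [Iso.inv_comp_eq]
    exact (U.ι.isoImage_hom_ι V).symm
  have hη : genericPoint X ∈ W :=
    ((genericPoint_spec X).mem_open_set_iff W.isOpen).mpr ⟨y, trivial, ⟨⟨y, hy⟩, hyV, rfl⟩⟩
  let e₁ : F.restrict W.ι ≅ FlatMod.freeMod (W : Scheme.{u}) 1 :=
    (Scheme.Modules.restrictFunctorCongr hk.symm).app F ≪≫
      (Scheme.Modules.restrictFunctorComp k.inv (V.ι ≫ U.ι)).app F ≪≫
      (Scheme.Modules.restrictFunctor k.inv).mapIso
        ((Scheme.Modules.restrictFunctorComp V.ι U.ι).app F ≪≫ e) ≪≫
      Scheme.Modules.restrictUnitIso k.inv ≪≫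
    { hom := Limits.Sigma.ι (fun _ : Fin 1 => Coh.structureModule (W : Scheme.{u})) 0
      inv := Limits.Sigma.desc fun _ => 𝟙 _
      hom_inv_id := Limits.Sigma.ι_desc _ _
      inv_hom_id := Limits.Sigma.hom_ext _ _ fun i => by
        rw [Limits.Sigma.ι_desc_assoc, Category.id_comp, Category.comp_id, Subsingleton.elim (0 : Fin 1) i] }
  letI : Field (X.presheaf.stalk (genericPoint X)) := (inferInstance : Field X.functionField)
  obtain ⟨e'⟩ := CurveVBLib.nonempty_stalk_pi_on e₁ hη
  exact e'.finrank_eq.trans (Module.finrank_fin_fun _)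

theorem free_stalk {X : Scheme.{u}} [IsIntegral X] [IsLocallyNoetherian X] {F : X.Modules}
    (hF : Coh.IsCoh F) (hrefl : RefHull.IsReflexive F) (h1 : CurvLib.genRank F = 1) (x : X)
    [IsRegularLocalRing (X.presheaf.stalk x)] :
    Module.Free (X.presheaf.stalk x) (F.presheaf.stalk x) := by
  haveI := hF.1
  haveI := DepthLib.finite_stalk F hF.2 x
  haveI : Module.IsReflexive (X.presheaf.stalk x) (F.presheaf.stalk x) :=
    (RefHullLib.isReflexive_iff hF).1 hrefl x
  haveI := RegUFDLib.uniqueFactorizationMonoid (X.presheaf.stalk x)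
  let η := genericPoint X
  have hsp : η ⤳ x := (genericPoint_spec X).specializes trivial
  letI : Module (X.presheaf.stalk x) (F.presheaf.stalk η) :=
    Module.compHom (F.presheaf.stalk η) (algebraMap (X.presheaf.stalk x) X.functionField)
  haveI : IsScalarTower (X.presheaf.stalk x) X.functionField (F.presheaf.stalk η) :=
    IsScalarTower.of_algebraMap_smul fun _ _ => rfl
  obtain ⟨U, hU, hxU, -⟩ := exists_isAffineOpen_mem_and_subset (x := x) (U := (⊤ : X.Opens)) trivial
  have hηU : η ∈ U := hsp.mem_open U.2 hxU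
  let l : F.presheaf.stalk x →ₗ[X.presheaf.stalk x] F.presheaf.stalk η :=
    { toFun := F.presheaf.stalkSpecializes hsp
      map_add' := map_add _
      map_smul' := fun a v => by
        obtain ⟨Ua, ha, r, rfl⟩ := TopCat.Presheaf.exists_germ_eq X.presheaf (x := x) a
        obtain ⟨Uv, hv, m, rfl⟩ := TopCat.Presheaf.exists_germ_eq F.presheaf (x := x) v
        rw [← TopCat.Presheaf.germ_res_apply X.presheaf (homOfLE (inf_le_left : Ua ⊓ Uv ≤ Ua)) x ⟨ha, hv⟩,
          ← TopCat.Presheaf.germ_res_apply F.presheaf (homOfLE (inf_le_right : Ua ⊓ Uv ≤ Uv)) x ⟨ha, hv⟩,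
          ← Mero.germ_smul, TopCat.Presheaf.germ_stalkSpecializes_apply,
          TopCat.Presheaf.germ_stalkSpecializes_apply, Mero.germ_smul]
        refine congrArg (· • _) ?_
        exact (TopCat.Presheaf.germ_stalkSpecializes_apply X.presheaf (U := Ua ⊓ Uv) ⟨ha, hv⟩ hsp _).symm }
  have hl : Function.Injective l := by
    refine (injective_iff_map_eq_zero l).2 fun v hv => ?_
    letI := Module.compHom (F.presheaf.stalk x) (X.presheaf.germ U x hxU).hom
    letI := Module.compHom (F.presheaf.stalk η) (X.presheaf.germ U η hηU).hom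
    haveI := FlatLib.isLocalizedModule_germLin F hU hxU
    haveI := FlatLib.isLocalizedModule_germLin F hU hηU
    obtain ⟨⟨a, s⟩, hs⟩ := IsLocalizedModule.surj (hU.primeIdealOf ⟨x, hxU⟩).asIdeal.primeCompl
      (FlatLib.germLin F hxU) v
    change X.presheaf.germ U x hxU (s : Γ(X, U)) • v = F.presheaf.germ U x hxU a at hs
    have h0 : F.presheaf.germ U η hηU a = 0 := by
      have h2 := congrArg l hs
      rw [map_smul, hv, smul_zero] at h2
      exact (TopCat.Presheaf.germ_stalkSpecializes_apply F.presheaf hxU hsp a).symm.trans h2.symm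
    obtain ⟨w, hw⟩ := (IsLocalizedModule.eq_zero_iff (hU.primeIdealOf ⟨η, hηU⟩).asIdeal.primeCompl
      (FlatLib.germLin F hηU) (m := a)).1 h0
    haveI : Nonempty U := ⟨⟨x, hxU⟩⟩
    have hne : ∀ r : Γ(X, U), r ≠ 0 → X.presheaf.germ U x hxU r ≠ 0 := fun r hr h =>
      hr (germ_injective_of_isIntegral X x hxU (h.trans (map_zero _).symm))
    have hne' : ∀ (P : Ideal Γ(X, U)) [P.IsPrime] (r : P.primeCompl), (r : Γ(X, U)) ≠ 0 := fun P _ r h => r.2 (by
      rw [h]; exact P.zero_mem)
    have h3 := congrArg (F.presheaf.germ U x hxU) hw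
    change F.presheaf.germ U x hxU ((w : Γ(X, U)) • a) = F.presheaf.germ U x hxU 0 at h3
    rw [Mero.germ_smul, map_zero, ← hs] at h3
    rcases smul_eq_zero.1 h3 with h4 | h4
    · exact absurd h4 (hne _ (hne' _ w))
    · rcases smul_eq_zero.1 h4 with h5 | h5
      · exact absurd h5 (hne _ (hne' _ s))
      · exact h5
  obtain ⟨I, ⟨e⟩⟩ := RefHullLib.exists_equiv_ideal (K := X.functionField) _ l hl h1
  exact RefHullLib.free_of_isReflexive_of_ideal _ e

/-- Let X be an integral locally Noetherian scheme all of whose local rings are regular, and F a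
coherent O_X-module which is reflexive (the canonical map F → F^** is an isomorphism) and of rank 1
(F restricts to an invertible module on some dense open subset of X). Then F is invertible: every
point has an open neighbourhood on which F is isomorphic to the structure sheaf. The published
statement is for reflexive coherent analytic sheaves of rank 1 on a complex manifold; this row is
its statement on a regular integral locally Noetherian scheme, whose local rings are factorial as
the argument requires. -/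
theorem result (X : Scheme.{u}) [IsIntegral X] [IsLocallyNoetherian X]
    (hreg : ∀ x : X, IsRegularLocalRing (X.presheaf.stalk x)) (F : X.Modules) (hF : Coh.IsCoh F)
    (hrefl : RefHull.IsReflexive F) (hrk : RefHull.GenInvertible F) :
    PicF.IsInvertible F := by
  have h1 := genRank_eq_one hrk
  have hflat : FlatMod.IsFlat F := fun x => by
    haveI := hreg x
    haveI := free_stalk hF hrefl h1 x
    exact (inferInstance : Module.Flat (X.presheaf.stalk x) (F.presheaf.stalk x))
  have hfl := CurveVBLib.rank_genRank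
    (Groth.Agent.S1688.isFinLocFree_of_isFP_of_flat (QCohLib.isFP_of_isCoh F hF) hflat)
  rw [h1] at hfl
  exact isInvertible_of_rank_one hfl

end Groth.Agent.S16491
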