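import Groth.Statements.S4956
import Groth.Agent.SecNhdLib.DimOpen
import Mathlib

set_option autoImplicit false
open CategoryTheory AlgebraicGeometry
universe u v w
open EGA43

namespace Groth.Agent.S4956

/-- Let f : X ⟶ Y be a morphism of finite presentation with a section g, X_y^0 the connected component
of f⁻¹(y) containing g y, every X_y^0 geometrically irreducible over κ(y), and y₀ a point of Y such
that f is universally open at the generic point of X_{y₀}^0. Suppose moreover that either (α) the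
fibre over y₀ is geometrically reduced at g y₀ and the local ring O_{Y,y₀} is Noetherian, or (β) dim
X_{y'} = dim X_{y'}^0 for the generic point y' of every irreducible component of Y containing y₀.
Then y ↦ dim X_y^0 is constant on a neighbourhood of y₀. -/
theorem result {X Y : Scheme.{u}} (f : X ⟶ Y)
    [LocallyOfFinitePresentation f] [QuasiCompact f] [QuasiSeparated f] (g : Y ⟶ X) (hg : g ≫ f = 𝟙 Y)
    (hirr : ∀ y : Y, (∀ (K : Type u) [Field K] [Algebra (IsLocalRing.ResidueField (Y.presheaf.stalk y)) K],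
        IsIrreducible ((FBase.bcπ (f.fiberToSpecResidueField y) K ≫ f.fiberι y).base ⁻¹' connectedComponentIn (f.base ⁻¹' {y}) (g.base y))))
    (y₀ : Y) (hopen : ∀ ξ ∈ connectedComponentIn (f.base ⁻¹' {y₀}) (g.base y₀), connectedComponentIn (f.base ⁻¹' {y₀}) (g.base y₀) ⊆ closure {ξ} → EGA43.IsUnivOpenAt f ξ)
    (hαβ : (FBase.IsGeomReducedAt (f.fiberToSpecResidueField (f.base (g.base y₀))) (f.asFiber (g.base y₀)) ∧
        IsNoetherianRing (Y.presheaf.stalk y₀)) ∨
      (∀ y' : Y, y₀ ∈ closure {y'} → closure {y'} ∈ irreducibleComponents (Y : Type u) →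
        topologicalKrullDim ↥(f.fiber y') = topologicalKrullDim ↥(connectedComponentIn (f.base ⁻¹' {y'}) (g.base y')))) :
    ∃ V ∈ nhds y₀, ∀ z ∈ V, topologicalKrullDim ↥(connectedComponentIn (f.base ⁻¹' {z}) (g.base z)) = topologicalKrullDim ↥(connectedComponentIn (f.base ⁻¹' {y₀}) (g.base y₀)) := by
  have hgi : ∀ y, SecCompLib.GeomIrred f g y := hirr
  have hi := fun y => (hgi y).isIrreducible
  refine SecNhdLib.exists_nhd_dim_const hg hi fun y' hy' => ?_
  rcases hαβ with ⟨hred, hN⟩ | h
  · haveI := hN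
    let h₀ := Y.fromSpecStalk y₀
    obtain ⟨t, ht⟩ : y' ∈ Set.range h₀ := Y.range_fromSpecStalk.ge hy'
    obtain ⟨s, hs⟩ : y₀ ∈ Set.range h₀ := Y.range_fromSpecStalk.ge specializes_rfl
    have hts : t ⤳ s := h₀.isEmbedding.isInducing.specializes_iff.mp (by rw [ht, hs]; exact hy')
    let f' := Limits.pullback.snd f h₀
    let p := Limits.pullback.fst f h₀
    let g' := SecNhdLib.secBC f g hg h₀
    have sq : IsPullback p f' f h₀ := IsPullback.of_hasPullback f h₀
    have hg' : g' ≫ f' = 𝟙 _ := Limits.pullback.lift_snd _ _ _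
    have hgp : g' ≫ p = h₀ ≫ g := Limits.pullback.lift_fst _ _ _
    haveI : LocallyOfFiniteType f' := MorphismProperty.pullback_snd _ _ (inferInstance : LocallyOfFiniteType f)
    have hd := fun z => (SecNhdLib.baseChange_data f g hg h₀ z (hgi _))
    have hps : p (g' s) = g y₀ := by rw [← Scheme.Hom.comp_apply, hgp, Scheme.Hom.comp_apply, hs]
    have key := SecNhdLib.dim_eq_of_geomReduced hg' (fun z => (hd z).1) hts (fun ξ hξ hC => ?_)
      (EquidimLib.isGeomReducedAt_baseChange f _ hred sq (g' s) hps)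
    · rw [(hd t).2, (hd s).2, ht, hs] at key
      exact key
    · obtain ⟨η, hη, hηC⟩ := SecCompLib.exists_generic_comp hg (hi y₀)
      have hmem : ∀ w, f' w = s → (w ∈ SecCompLib.comp f' g' s ↔ p w ∈ SecCompLib.comp f g y₀) := fun w hw => by
        rw [SecCompLib.mem_comp_baseChange_iff hg sq hg' hgp hw, hs]
      obtain ⟨η', hη', hη's⟩ := UOpenLib.image_fst_snd sq η s ((SecCompLib.map_of_mem hη).trans hs.symm)
      have h1 : ξ ⤳ η' := specializes_iff_mem_closure.mpr (hC ((hmem η' hη's).mpr (hη'.symm ▸ hη)))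
      have h2 : p ξ = η := by
        have ha : p ξ ∈ SecCompLib.comp f g y₀ := (hmem ξ (SecCompLib.map_of_mem hξ)).mp hξ
        have hb : p ξ ⤳ η := hη' ▸ h1.map p.continuous
        exact (hb.antisymm (specializes_iff_mem_closure.mpr (hηC ▸ ha : _ ∈ closure {η} ∩ _).1)).eq
      exact UOpenLib.IsUnivOpenAt.of_isPullback (hopen η hη (hηC.le.trans Set.inter_subset_left)) sq ξ h2
  · exact SecNhdLib.dim_eq_of_generic_fibres hg hi hy' hopen h

end Groth.Agent.S4956
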