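import Groth.Agent.MultiSecLib.Global
import Groth.Agent.AlgSpLib.QcQs
import Groth.Agent.WeightLib.Stratum

/-! # A quasi-compact chart lifting all points over Henselian local rings -/

set_option autoImplicit false
set_option backward.isDefEq.respectTransparency false
set_option backward.isDefEq.respectTransparency.types false
set_option linter.style.haveILetI false

universe u

open CategoryTheory CategoryTheory.Limits AlgebraicGeometry Opposite AlgSp AlgSpLib MultiSecLib

noncomputable section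

namespace NisChartLib

variable {S : Scheme.{u}} {X : Sp S} {U : Over S} {p : (yon S).obj U ⟶ X} [IsSeparated U.hom]

theorem isOpen_eqSet {n : ℕ} (τ : Tup p (n + 1)) (hX : IsAlgSpace X) (hp : RepWith @Etale p) (i j : Fin (n + 1)) :
    IsOpen (τ.eqSet i j) := by
  obtain ⟨W, a, b, sq⟩ := exists_isPullback_yon p p (hX.representable_from_yon p)
  haveI : Etale b.left := (repWith_yon_map_iff (P := (@Etale : MorphismProperty Scheme.{u})) b).1
    (repWith_of_isPullback sq hp)
  obtain ⟨δ, hδ⟩ := (yon S).map_surjective (sq.lift (𝟙 _) (𝟙 _) rfl)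
  have hδa : δ ≫ a = 𝟙 U := (yon S).map_injective (by rw [Functor.map_comp, hδ, sq.lift_fst, CategoryTheory.Functor.map_id])
  have hδb : δ ≫ b = 𝟙 U := (yon S).map_injective (by rw [Functor.map_comp, hδ, sq.lift_snd, CategoryTheory.Functor.map_id])
  obtain ⟨g, hg⟩ := (yon S).map_surjective (sq.lift ((yon S).map (τ.π i)) ((yon S).map (τ.π j)) (by rw [τ.w, τ.w]))
  have hga : g ≫ a = τ.π i := (yon S).map_injective (by rw [Functor.map_comp, hg, sq.lift_fst])
  have hgb : g ≫ b = τ.π j := (yon S).map_injective (by rw [Functor.map_comp, hg, sq.lift_snd])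
  haveI : Etale (δ.left ≫ b.left) := by
    rw [← Over.comp_left, hδb]; exact inferInstanceAs (Etale (𝟙 U.left))
  haveI : Etale δ.left := Etale.of_comp δ.left b.left
  have hopen : IsOpen (Set.range δ.left) := δ.left.isOpenMap.isOpen_range
  suffices he : τ.eqSet i j = g.left ⁻¹' Set.range δ.left by
    rw [he]; exact hopen.preimage g.left.continuous
  ext v
  constructor
  · rintro ⟨x, rfl⟩
    have h : equalizer.ι (τ.π i) (τ.π j) ≫ g = (equalizer.ι (τ.π i) (τ.π j) ≫ τ.π i) ≫ δ := by
      refine (yon S).map_injective (sq.hom_ext ?_ ?_)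
      · rw [← Functor.map_comp, ← Functor.map_comp, Category.assoc, hga, Category.assoc, hδa, Category.comp_id]
      · rw [← Functor.map_comp, ← Functor.map_comp, Category.assoc, hgb, Category.assoc, hδb, Category.comp_id,
          equalizer.condition]
    refine ⟨(equalizer.ι (τ.π i) (τ.π j) ≫ τ.π i).left x, ?_⟩
    rw [← Scheme.Hom.comp_apply, ← Over.comp_left, ← h]
    rfl
  · rintro ⟨y, hy⟩
    obtain ⟨P, r, s, sqP⟩ : ∃ (P : Over S) (r : P ⟶ τ.V) (s : P ⟶ U), IsPullback r s g δ :=
      ⟨_, _, _, IsPullback.of_hasPullback g δ⟩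
    obtain ⟨x, hx, -⟩ := Scheme.exists_preimage_of_isPullback (left_isPullback g δ) v y hy.symm
    have hr : pullback.fst g δ ≫ τ.π i = pullback.fst g δ ≫ τ.π j := by
      rw [← hga, ← hgb, ← Category.assoc, ← Category.assoc, pullback.condition, Category.assoc, hδa, Category.assoc, hδb]
    refine ⟨(equalizer.lift (pullback.fst g δ) hr).left x, ?_⟩
    rw [← Scheme.Hom.comp_apply, ← Over.comp_left, equalizer.lift_ι]
    exact hx

theorem compact_V [QuasiSeparatedSpace ↥S] (hX : IsAlgSpace X) (hqs : IsQuasiSeparatedSp X) (hp : RepWith @Etale p)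
    [CompactSpace ↥U.left] : ∀ (n : ℕ) (τ : Tup p (n + 1)), CompactSpace ↥τ.V.left := by
  intro n
  induction n with
  | zero =>
    intro τ
    obtain ⟨g, hg⟩ := (τ.existsUnique U (fun _ => 𝟙 U) p fun _ => by rw [CategoryTheory.Functor.map_id, Category.id_comp]).exists
    have h : τ.π 0 ≫ g = 𝟙 τ.V := τ.hom_ext fun i => by
      rw [Category.assoc, hg, Category.comp_id, Category.id_comp, Fin.fin_one_eq_zero i]
    exact ⟨by
      have := isCompact_range g.left.continuous
      rwa [Set.range_eq_univ.2 fun v => ⟨(τ.π 0).left v, by rw [← Scheme.Hom.comp_apply, ← Over.comp_left, h]; rfl⟩] at this⟩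
  | succ n ih =>
    intro τ'
    obtain ⟨τ⟩ := exists_tup hX hp n
    haveI := ih τ
    obtain ⟨W, a, b, sq⟩ := exists_isPullback_yon p τ.q (hX.representable_from_yon p)
    have hqc : IsQuasiCompactMor p :=
      isQuasiCompactMor_of_qcSp_qsSp (IsAlgSpace.yon_obj U) hX p (isQuasiCompactSp_yon U) hqs
    have hW : IsQuasiCompactSp ((yon S).obj W) :=
      hqc (IsAlgSpace.yon_obj τ.V) (isQuasiCompactSp_yon τ.V) τ.q _ _ sq
    haveI := (isQuasiCompactSp_iff (IsAlgSpace.yon_obj _)).1 hW
    haveI : CompactSpace ↥W.left := (Points.schemeHomeo W).symm.compactSpace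
    obtain ⟨φ, hφ⟩ := (τ'.existsUnique W (Fin.cases a fun i => b ≫ τ.π i) ((yon S).map a ≫ p)
      (Fin.cases rfl fun i => by rw [Fin.cases_succ, Functor.map_comp, Category.assoc, τ.w, ← sq.w])).exists
    obtain ⟨g, hg, -⟩ := τ.existsUnique τ'.V (fun i => τ'.π i.succ) τ'.q fun i => τ'.w _
    obtain ⟨ψ, hψ⟩ := (yon S).map_surjective (sq.lift ((yon S).map (τ'.π 0)) ((yon S).map g) (by
      rw [τ'.w, ← τ.w 0, ← Functor.map_comp_assoc, hg, τ'.w]))
    have hψa : ψ ≫ a = τ'.π 0 := (yon S).map_injective (by rw [Functor.map_comp, hψ, sq.lift_fst])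
    have hψb : ψ ≫ b = g := (yon S).map_injective (by rw [Functor.map_comp, hψ, sq.lift_snd])
    have h : ψ ≫ φ = 𝟙 τ'.V := τ'.hom_ext (Fin.cases (by rw [Category.assoc, hφ, Fin.cases_zero, hψa, Category.id_comp])
      fun i => by rw [Category.assoc, hφ, Fin.cases_succ, ← Category.assoc, hψb, hg, Category.id_comp])
    exact ⟨by
      have := isCompact_range φ.left.continuous
      rwa [Set.range_eq_univ.2 fun v => ⟨ψ.left v, by rw [← Scheme.Hom.comp_apply, ← Over.comp_left, h]; rfl⟩] at this⟩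

theorem exists_bound [QuasiSeparatedSpace ↥S] (hX : IsAlgSpace X) (hqs : IsQuasiSeparatedSp X) (hp : RepWith @Etale p)
    [CompactSpace ↥U.left] : ∃ N, ∀ n, N ≤ n → ∀ (τ : Tup p (n + 1)) (v : τ.V.left), v ∉ τ.D := by
  classical
  obtain ⟨W, a, b, sq⟩ := exists_isPullback_yon p p (hX.representable_from_yon p)
  haveI : Etale b.left := (repWith_yon_map_iff (P := (@Etale : MorphismProperty Scheme.{u})) b).1
    (repWith_of_isPullback sq hp)
  have hW : IsQuasiCompactSp ((yon S).obj W) :=
    isQuasiCompactMor_of_qcSp_qsSp (IsAlgSpace.yon_obj U) hX p (isQuasiCompactSp_yon U) hqs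
      (IsAlgSpace.yon_obj U) (isQuasiCompactSp_yon U) p _ _ sq
  haveI := (isQuasiCompactSp_iff (IsAlgSpace.yon_obj _)).1 hW
  haveI : CompactSpace ↥W.left := (Points.schemeHomeo W).symm.compactSpace
  haveI := locallyQuasiFinite_of_etale b.left
  obtain ⟨d, hd⟩ := WeightLib.exists_gpts_bound b.left
  refine ⟨d, fun n hn τ v hv => ?_⟩
  let K := AlgebraicClosure (τ.V.left.residueField v)
  let ξ : Spec (CommRingCat.of K) ⟶ τ.V.left :=
    Spec.map (CommRingCat.ofHom (algebraMap (τ.V.left.residueField v) K)) ≫ τ.V.left.fromSpecResidueField v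
  have hξ : ξ (IsLocalRing.closedPoint K) = v := by
    exact (Scheme.Hom.comp_apply _ _ _).trans (Scheme.fromSpecResidueField_apply _ _)
  have hinj := (τ.mem_D_iff ξ).1 (hξ.symm ▸ hv)
  let ξo : Over.mk (ξ ≫ τ.V.hom) ⟶ τ.V := Over.homMk ξ rfl
  have ht : ∀ i, ∃ t : Over.mk (ξ ≫ τ.V.hom) ⟶ W, t ≫ a = ξo ≫ τ.π i ∧ t ≫ b = ξo ≫ τ.π 0 := fun i => by
    obtain ⟨t, ht⟩ := (yon S).map_surjective (sq.lift ((yon S).map (ξo ≫ τ.π i)) ((yon S).map (ξo ≫ τ.π 0)) (by
      simp only [Functor.map_comp, Category.assoc, τ.w]))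
    exact ⟨t, (yon S).map_injective (by rw [Functor.map_comp, ht, sq.lift_fst]),
      (yon S).map_injective (by rw [Functor.map_comp, ht, sq.lift_snd])⟩
  choose t hta htb using ht
  obtain ⟨hfin, hcard⟩ := hd K ((ξo ≫ τ.π 0).left)
  haveI := hfin
  let f : Fin (n + 1) → WeightLib.GPts b.left ((ξo ≫ τ.π 0).left) := fun i =>
    ⟨(t i).left, by rw [← Over.comp_left, htb]⟩
  have hf : Function.Injective f := fun i j hij => hinj (by
    have h : t i = t j := Over.OverMorphism.ext (congrArg Subtype.val hij)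
    have h' := congrArg (fun k => (k ≫ a).left) h
    simp only [hta] at h'
    simp only [Over.comp_left] at h'
    exact h')
  have := (Nat.card_le_card_of_injective f hf).trans hcard
  rw [Nat.card_eq_fintype_card, Fintype.card_fin] at this
  omega

theorem exists_finite_pieces [QuasiSeparatedSpace ↥S] [IsAffine U.left] (hX : IsAlgSpace X)
    (hqs : IsQuasiSeparatedSp X) (hp : RepWith @Etale p) :
    ∃ (N : ℕ) (Q : ∀ n, Set (Piece (tup hX hp n))),
      (∀ n, ∀ v ∈ (tup hX hp n).D, ∃ P ∈ Q n, v ∈ P.O) ∧ (∀ n, (Q n).Finite) ∧ ∀ n, N ≤ n → Q n = ∅ := by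
  classical
  obtain ⟨N, hN⟩ := exists_bound hX hqs hp
  have hcov : ∀ n, ∃ Q : Set (Piece (tup hX hp n)), Q.Finite ∧ (∀ v ∈ (tup hX hp n).D, ∃ P ∈ Q, v ∈ P.O) ∧
      (N ≤ n → Q = ∅) := by
    intro n
    by_cases hn : N ≤ n
    · exact ⟨∅, Set.finite_empty, fun v hv => absurd hv (hN n hn _ v), fun _ => rfl⟩
    · let τ := tup hX hp n
      haveI := compact_V hX hqs hp n τ
      have hbad : IsOpen τ.badSet := isOpen_iUnion fun ij => isOpen_eqSet τ hX hp _ _
      have hD : IsCompact (τ.D : Set τ.V.left) := hbad.isClosed_compl.isCompact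
      have hex : ∀ v : τ.D, ∃ P : Piece τ, v.1 ∈ P.O := fun v => by
        obtain ⟨P, hP⟩ := exists_piece τ v.1 v.2
        have := hP 1
        rw [τ.act_one] at this
        exact ⟨P, this⟩
      choose P hP using hex
      obtain ⟨t, ht⟩ := hD.elim_finite_subcover (fun v : τ.D => ((P v).O : Set τ.V.left)) (fun v => (P v).O.2)
        fun v hv => Set.mem_iUnion.2 ⟨⟨v, hv⟩, hP ⟨v, hv⟩⟩
      refine ⟨P '' {w | w ∈ t}, t.finite_toSet.image _, fun v hv => ?_, fun h => absurd h hn⟩
      obtain ⟨w, hw, hvw⟩ := Set.mem_iUnion₂.1 (ht hv)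
      exact ⟨P w, ⟨w, hw, rfl⟩, hvw⟩
  choose Q h1 h2 h3 using hcov
  exact ⟨N, Q, h2, h1, h3⟩

variable (hX : IsAlgSpace X) (hp : RepWith @Etale p)

/-- A point over a Henselian local ring meeting the image of an affine chart lifts to a multisection chart. -/
theorem exists_piece_lift_cov [IsAffine U.left]
    (Q : ∀ n, Set (Piece (tup hX hp n))) (hQ : ∀ n, ∀ v ∈ (tup hX hp n).D, ∃ P ∈ Q n, v ∈ P.O) (A : Type u) [CommRing A] [HenselianLocalRing A]
    (str : Spec (CommRingCat.of A) ⟶ S) (z : (yon S).obj (Over.mk str) ⟶ X) {W : Over S} {a : W ⟶ U}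
    {b : W ⟶ Over.mk str} (sq : IsPullback ((yon S).map a) ((yon S).map b) p z) (w : W.left)
    (hw : b.left w = IsLocalRing.closedPoint A) :
    ∃ (n : ℕ) (P : Piece (tup hX hp n)) (g : Over.mk str ⟶ P.Z), P ∈ Q n ∧ (yon S).map g ≫ P.chart = z := by
  classical
  let Y : Over S := Over.mk str
  haveI : Etale b.left := (repWith_yon_map_iff (P := (@Etale : MorphismProperty Scheme.{u})) b).1
    (repWith_of_isPullback sq hp)
  -- the finite piece
  obtain ⟨Bo, hBo, hwB, -⟩ :=
    TopologicalSpace.Opens.isBasis_iff_nbhd.1 W.left.isBasis_affineOpens (show w ∈ (⊤ : W.left.Opens) from trivial)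
  obtain ⟨ψ, hψ⟩ := Spec.map_surjective (R := CommRingCat.of A) (hBo.fromSpec ≫ b.left)
  letI := ψ.hom.toAlgebra
  haveI : Etale (Spec.map ψ) := by rw [hψ]; infer_instance
  haveI : Algebra.Etale A Γ(W.left, Bo) :=
    RingHom.etale_algebraMap.1 ((HasRingHomProperty.Spec_iff (P := @Etale)).1 ‹Etale (Spec.map ψ)›)
  let q := hBo.primeIdealOf ⟨w, hwB⟩
  have hqw : hBo.fromSpec q = w := hBo.fromSpec_primeIdealOf ⟨w, hwB⟩
  have hqm : q.asIdeal.comap (algebraMap A Γ(W.left, Bo)) = IsLocalRing.maximalIdeal A := by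
    have : Spec.map ψ q = IsLocalRing.closedPoint A := by
      rw [hψ, Scheme.Hom.comp_apply, hqw]
      exact hw
    exact congrArg PrimeSpectrum.asIdeal this
  obtain ⟨e, he, heq, hfin⟩ := exists_idem_finite A Γ(W.left, Bo) q.asIdeal hqm
  let B' := Γ(W.left, Bo) ⧸ Ideal.span ({1 - e} : Set Γ(W.left, Bo))
  haveI : IsLocalization.Away e B' :=
    IsLocalization.away_of_isIdempotentElem he Ideal.mk_ker Ideal.Quotient.mk_surjective
  haveI : Algebra.Etale Γ(W.left, Bo) B' := Algebra.Etale.of_isLocalizationAway e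
  haveI : Algebra.Etale A B' := Algebra.Etale.comp A Γ(W.left, Bo) B'
  haveI : Module.Finite A B' := hfin
  haveI : Nontrivial B' := Ideal.Quotient.nontrivial_iff.2 fun htop => by
    have h1 : (1 : Γ(W.left, Bo)) ∈ Ideal.span ({1 - e} : Set Γ(W.left, Bo)) := htop ▸ Submodule.mem_top
    obtain ⟨c, hc⟩ := Ideal.mem_span_singleton'.1 h1
    refine heq ?_
    have : e = 0 := by
      calc e = e * (c * (1 - e)) := by rw [hc, mul_one]
        _ = c * (e - e * e) := by ring
        _ = 0 := by rw [he.eq, sub_self, mul_zero]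
    rw [this]
    exact q.asIdeal.zero_mem
  haveI : Module.Free A B' := Module.free_of_flat_of_isLocalRing
  obtain ⟨n, hn⟩ : ∃ n, Module.finrank A B' = n + 1 := Nat.exists_eq_succ_of_ne_zero ((Module.finrank_pos_iff_of_free A B').2 inferInstance).ne'
  let jT : Spec (CommRingCat.of B') ⟶ W.left :=
    Spec.map (CommRingCat.ofHom (algebraMap Γ(W.left, Bo) B')) ≫ hBo.fromSpec
  haveI : IsOpenImmersion (Spec.map (CommRingCat.ofHom (algebraMap Γ(W.left, Bo) B'))) :=
    IsOpenImmersion.of_isLocalization e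
  let τT : Spec (CommRingCat.of B') ⟶ Spec (CommRingCat.of A) := Spec.map (CommRingCat.ofHom (algebraMap A B'))
  have hτT : jT ≫ b.left = τT := by
    simp only [jT, Category.assoc]
    rw [← hψ, ← Spec.map_comp]
    rfl
  let TS : Over S := Over.mk (jT ≫ W.hom)
  let jo : TS ⟶ W := Over.homMk jT rfl
  haveI : IsOpenImmersion jo.left := inferInstanceAs (IsOpenImmersion jT)
  -- points of the piece over geometric points of the base
  have hcard : ∀ (K : Type u) [Field K] [IsAlgClosed K] (η : Spec (CommRingCat.of K) ⟶ Spec (CommRingCat.of A)),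
      Finite {c : Spec (CommRingCat.of K) ⟶ TS.left // c ≫ τT = η} ∧
      Nat.card {c : Spec (CommRingCat.of K) ⟶ TS.left // c ≫ τT = η} = n + 1 := by
    intro K _ _ η
    obtain ⟨φ, rfl⟩ := Spec.map_surjective η
    letI := φ.hom.toAlgebra
    let ev : {c : Spec (CommRingCat.of K) ⟶ TS.left // c ≫ τT = Spec.map φ} ≃ (B' →ₐ[A] K) :=
      { toFun := fun c =>
          { __ := (Spec.preimage (R := CommRingCat.of B') c.1).hom
            commutes' := fun r => by
              have h := c.2
              rw [← Spec.map_preimage (R := CommRingCat.of B') c.1, ← Spec.map_comp] at h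
              exact congrArg (fun t => t.hom r) (Spec.map_injective h) }
        invFun := fun f => ⟨Spec.map (CommRingCat.ofHom f.toRingHom), by
          rw [← Spec.map_comp]
          congr 1
          ext r
          exact f.commutes r⟩
        left_inv := fun c => Subtype.ext (Spec.map_preimage (R := CommRingCat.of B') c.1)
        right_inv := fun f => AlgHom.ext fun r => by
          change (Spec.preimage (Spec.map (CommRingCat.ofHom f.toRingHom))).hom r = f r
          rw [Spec.preimage_map]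
          rfl }
    have h := natCard_algHom_geom A B' K
    rw [hn] at h
    have h' := (Nat.card_congr ev).trans h
    exact ⟨Nat.finite_of_card_ne_zero (by omega), h'⟩
  let K := AlgebraicClosure (IsLocalRing.ResidueField A)
  let ybar : Spec (CommRingCat.of K) ⟶ Spec (CommRingCat.of A) :=
    Spec.map (CommRingCat.ofHom ((algebraMap (IsLocalRing.ResidueField A) K).comp (IsLocalRing.residue A)))
  obtain ⟨hfinC, hC⟩ := hcard K ybar
  let en : Fin (n + 1) ≃ {c : Spec (CommRingCat.of K) ⟶ TS.left // c ≫ τT = ybar} := (Finite.equivFinOfCardEq hC).symm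
  let Kp : Over S := Over.mk (ybar ≫ str)
  let yO : Kp ⟶ Y := Over.homMk ybar rfl
  let cT : Fin (n + 1) → (Kp ⟶ TS) := fun i => Over.homMk (en i).1 (by
    change (en i).1 ≫ jT ≫ W.hom = ybar ≫ str
    rw [← Over.w b, reassoc_of% hτT, reassoc_of% (en i).2]
    rfl)
  have hcb : ∀ i, cT i ≫ jo ≫ b = yO := fun i => by
    apply Over.OverMorphism.ext
    change (en i).1 ≫ jT ≫ b.left = ybar
    rw [hτT]; exact (en i).2
  let τ := tup hX hp n
  obtain ⟨v, hv⟩ := (τ.existsUnique Kp (fun i => cT i ≫ jo ≫ a) ((yon S).map yO ≫ z) fun i => by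
    rw [← hcb i, Functor.map_comp, Functor.map_comp, Functor.map_comp, Functor.map_comp]
    simp only [Category.assoc, sq.w]).exists
  have hvD : v.left (IsLocalRing.closedPoint K) ∈ τ.D := by
    refine (τ.mem_D_iff v.left).2 fun i j hij => en.injective (Subtype.ext ?_)
    have h1 : cT i ≫ jo ≫ a = cT j ≫ jo ≫ a := by
      rw [← hv i, ← hv j]
      exact Over.OverMorphism.ext hij
    have h2 : cT i ≫ jo = cT j ≫ jo := (yon S).map_injective (sq.hom_ext
      (by rw [← Functor.map_comp, ← Functor.map_comp, Category.assoc, Category.assoc, h1])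
      (by rw [← Functor.map_comp, ← Functor.map_comp, Category.assoc, Category.assoc, hcb, hcb]))
    exact (cancel_mono jo.left).1 (congrArg (fun t => t.left) h2)
  obtain ⟨P0, hPQ, hP0⟩ := hQ n _ hvD
  obtain ⟨P, hP, hPQ⟩ : ∃ P : Piece τ, v.left (IsLocalRing.closedPoint K) ∈ P.O ∧ P ∈ Q n := ⟨P0, hP0, hPQ⟩
  -- pull the piece back
  let qP : (yon S).obj P.obj ⟶ X := (yon S).map P.incl ≫ τ.q
  have hqP : RepWith @Etale qP := repWith_comp
    ((repWith_yon_map_iff (P := (@Etale : MorphismProperty Scheme.{u})) _).2 inferInstance) τ.etale_q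
  obtain ⟨R, ra, rb, sqR⟩ := exists_isPullback_yon qP z (hX.representable_from_yon qP)
  haveI : Etale rb.left := (repWith_yon_map_iff (P := (@Etale : MorphismProperty Scheme.{u})) rb).1
    (repWith_of_isPullback sqR hqP)
  have ht : ∀ i, ∃ t : R ⟶ W, t ≫ a = ra ≫ P.incl ≫ τ.π i ∧ t ≫ b = rb := fun i => by
    obtain ⟨t, ht⟩ := (yon S).map_surjective (sq.lift ((yon S).map (ra ≫ P.incl ≫ τ.π i)) ((yon S).map rb) (by
      rw [Functor.map_comp, Functor.map_comp, Category.assoc, Category.assoc, τ.w, sqR.w]))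
    exact ⟨t, (yon S).map_injective (by rw [Functor.map_comp, ht, sq.lift_fst]),
      (yon S).map_injective (by rw [Functor.map_comp, ht, sq.lift_snd])⟩
  choose t hta htb using ht
  let OR : R.left.Opens := ⨅ i, (t i).left ⁻¹ᵁ jT.opensRange
  have hOR : ∀ r, r ∈ OR ↔ ∀ i, (t i).left r ∈ Set.range jT := fun r => by
    change r ∈ (OR : Set R.left) ↔ _
    simp only [OR, TopologicalSpace.Opens.coe_iInf, Set.mem_iInter]
    rfl
  let Ro : Over S := Over.mk (OR.ι ≫ R.hom)
  let ir : Ro ⟶ R := Over.homMk OR.ι rfl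
  haveI : IsOpenImmersion ir.left := inferInstanceAs (IsOpenImmersion OR.ι)
  have hirmem : ∀ x : Ro.left, ir.left x ∈ OR := fun x => x.2
  have hs : ∀ i, ∃ s : Ro ⟶ TS, s ≫ jo = ir ≫ t i := fun i => by
    have hr : Set.range (ir ≫ t i).left ⊆ Set.range jo.left := by
      rintro _ ⟨x, rfl⟩
      rw [Over.comp_left, Scheme.Hom.comp_apply]
      exact (hOR _).1 (hirmem x) i
    refine ⟨Over.homMk (IsOpenImmersion.lift jo.left (ir ≫ t i).left hr) ?_, Over.OverMorphism.ext
      (IsOpenImmersion.lift_fac _ _ _)⟩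
    change _ ≫ jo.left ≫ W.hom = Ro.hom
    rw [IsOpenImmersion.lift_fac_assoc, Over.w (ir ≫ t i)]
  choose s hs using hs
  -- the deck transformations
  have hσR : ∀ σ, ∃ m : R ⟶ R, m ≫ ra = ra ≫ P.act σ ∧ m ≫ rb = rb := fun σ => by
    obtain ⟨m, hm⟩ := (yon S).map_surjective (sqR.lift ((yon S).map (ra ≫ P.act σ)) ((yon S).map rb) (by
      rw [Functor.map_comp, Category.assoc, show (yon S).map (P.act σ) ≫ qP = qP by
        simp only [qP]
        rw [← Functor.map_comp_assoc, P.act_incl, Functor.map_comp, Category.assoc, τ.act_q]]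
      exact sqR.w))
    exact ⟨m, (yon S).map_injective (by rw [Functor.map_comp, hm, sqR.lift_fst]),
      (yon S).map_injective (by rw [Functor.map_comp, hm, sqR.lift_snd])⟩
  choose mR hmra hmrb using hσR
  have hmt : ∀ σ i, mR σ ≫ t i = t (σ i) := fun σ i => by
    refine (yon S).map_injective (sq.hom_ext ?_ ?_)
    · rw [← Functor.map_comp, ← Functor.map_comp, Category.assoc, hta, hta, ← Category.assoc, hmra,
        Category.assoc, P.act_incl_assoc, τ.act_π]
    · rw [← Functor.map_comp, ← Functor.map_comp, Category.assoc, htb, htb, hmrb]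
  have hmo : ∀ σ, ∃ m : Ro ⟶ Ro, m ≫ ir = ir ≫ mR σ := fun σ => by
    have hr : Set.range (ir ≫ mR σ).left ⊆ Set.range ir.left := by
      rintro _ ⟨x, rfl⟩
      change _ ∈ Set.range OR.ι
      rw [Scheme.Opens.range_ι, Over.comp_left, Scheme.Hom.comp_apply]
      refine (hOR _).2 fun i => ?_
      rw [← Scheme.Hom.comp_apply, ← Over.comp_left, hmt]
      exact (hOR _).1 (hirmem x) (σ i)
    refine ⟨Over.homMk (IsOpenImmersion.lift ir.left (ir ≫ mR σ).left hr) ?_, Over.OverMorphism.ext
      (IsOpenImmersion.lift_fac _ _ _)⟩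
    change _ ≫ ir.left ≫ R.hom = Ro.hom
    rw [IsOpenImmersion.lift_fac_assoc, Over.w (ir ≫ mR σ)]
  choose mo hmo using hmo
  let π : Ro ⟶ Y := ir ≫ rb
  haveI : Etale π.left := by rw [Over.comp_left]; infer_instance
  -- surjectivity
  haveI : Surjective π.left := by
    obtain ⟨vP, hvP⟩ : ∃ vP : Kp ⟶ P.obj, vP ≫ P.incl = v := by
      have hr : Set.range v.left ⊆ Set.range P.incl.left := by
        rintro _ ⟨x, rfl⟩
        haveI : Subsingleton ↥Kp.left := inferInstanceAs (Subsingleton (PrimeSpectrum K))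
        rw [P.range_incl, Subsingleton.elim x (IsLocalRing.closedPoint K)]
        exact hP
      refine ⟨Over.homMk (IsOpenImmersion.lift P.incl.left v.left hr) ?_, Over.OverMorphism.ext
        (IsOpenImmersion.lift_fac _ _ _)⟩
      change _ ≫ P.incl.left ≫ τ.V.hom = Kp.hom
      rw [IsOpenImmersion.lift_fac_assoc, Over.w v]
    obtain ⟨r, hr⟩ := (yon S).map_surjective (sqR.lift ((yon S).map vP) ((yon S).map yO) (by
      simp only [qP]
      rw [← Functor.map_comp_assoc, hvP, ← τ.w 0, ← Functor.map_comp_assoc, hv, ← hcb 0]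
      simp only [Functor.map_comp, Category.assoc, sq.w]))
    have hrra : r ≫ ra = vP := (yon S).map_injective (by rw [Functor.map_comp, hr, sqR.lift_fst])
    have hrrb : r ≫ rb = yO := (yon S).map_injective (by rw [Functor.map_comp, hr, sqR.lift_snd])
    have hrt : ∀ i, r ≫ t i = cT i ≫ jo := fun i => by
      refine (yon S).map_injective (sq.hom_ext ?_ ?_)
      · rw [← Functor.map_comp, ← Functor.map_comp, Category.assoc, hta, ← Category.assoc, hrra, ← Category.assoc,
          hvP, hv, Category.assoc]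
      · rw [← Functor.map_comp, ← Functor.map_comp, Category.assoc, htb, hrrb, Category.assoc, hcb]
    have hmem : r.left (IsLocalRing.closedPoint K) ∈ OR := (hOR _).2 fun i => by
      rw [← Scheme.Hom.comp_apply, ← Over.comp_left, hrt, Over.comp_left, Scheme.Hom.comp_apply]
      exact ⟨_, rfl⟩
    let O' : (Spec (CommRingCat.of A)).Opens := ⟨Set.range π.left, π.left.isOpenMap.isOpen_range⟩
    have hcl : IsLocalRing.closedPoint A ∈ O' := by
      refine ⟨⟨_, hmem⟩, ?_⟩
      have h : rb.left (r.left (IsLocalRing.closedPoint K)) = IsLocalRing.closedPoint A := by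
        rw [← Scheme.Hom.comp_apply, ← Over.comp_left, hrrb]
        apply PrimeSpectrum.ext
        change Ideal.comap ((algebraMap (IsLocalRing.ResidueField A) K).comp (IsLocalRing.residue A))
          (IsLocalRing.maximalIdeal K) = IsLocalRing.maximalIdeal A
        rw [IsLocalRing.maximalIdeal_eq_bot, ← RingHom.ker_eq_comap_bot, RingHom.ker_comp_of_injective _
          (algebraMap (IsLocalRing.ResidueField A) K).injective, IsLocalRing.ker_residue]
      exact h
    have htop : O' = ⊤ := (IsLocalRing.closedPoint_mem_iff O').1 hcl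
    exact ⟨fun y => (show y ∈ O' by rw [htop]; trivial)⟩
  -- transitivity
  have htr : ∀ (L : Type u) [Field L] [IsAlgClosed L] (c d : Spec (CommRingCat.of L) ⟶ Ro.left),
      c ≫ π.left = d ≫ π.left → ∃ σ, c ≫ (mo σ).left = d := by
    intro L _ _ c d hcd
    let η : Spec (CommRingCat.of L) ⟶ Spec (CommRingCat.of A) := c ≫ π.left
    obtain ⟨hfL, hL⟩ := hcard L η
    let Lp : Over S := Over.mk (c ≫ Ro.hom)
    let cO : Lp ⟶ Ro := Over.homMk c rfl
    let dO : Lp ⟶ Ro := Over.homMk d (by
      change d ≫ Ro.hom = c ≫ Ro.hom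
      rw [← Over.w π, ← Category.assoc, ← Category.assoc, hcd])
    have hcdπ : cO ≫ π = dO ≫ π := Over.OverMorphism.ext hcd
    have hsπ : ∀ i, (s i).left ≫ τT = π.left := fun i => by
      rw [← hτT, ← Category.assoc]
      change (s i ≫ jo).left ≫ b.left = _
      rw [hs, ← Over.comp_left, Category.assoc, htb]
    let F : (Lp ⟶ Ro) → Fin (n + 1) → (Lp ⟶ TS) := fun e i => e ≫ s i
    let toC : (e : Lp ⟶ Ro) → e.left ≫ π.left = η → Fin (n + 1) →
        {c : Spec (CommRingCat.of L) ⟶ TS.left // c ≫ τT = η} := fun e he i =>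
      ⟨(F e i).left, by
        change (e.left ≫ (s i).left) ≫ τT = η
        rw [Category.assoc, hsπ, he]⟩
    have hinj : ∀ e he, Function.Injective (toC e he) := fun e he i j hij => by
      refine P.injective_point (e ≫ ir ≫ ra).left ?_
      have h : e ≫ s i = e ≫ s j := Over.OverMorphism.ext (congrArg Subtype.val hij)
      have h' := congrArg (fun k => k ≫ jo ≫ a) h
      simp only [Category.assoc, reassoc_of% hs, hta] at h'
      have h'' := congrArg (fun k => k.left) h'
      simpa only [Over.comp_left, Category.assoc] using h''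
    have hbij : ∀ e he, Function.Bijective (toC e he) := fun e he =>
      (Nat.bijective_iff_injective_and_card _).2 ⟨hinj e he, by rw [hL, Nat.card_eq_fintype_card, Fintype.card_fin]⟩
    let ec := Equiv.ofBijective _ (hbij cO rfl)
    let ed := Equiv.ofBijective _ (hbij dO hcd.symm)
    let σ : Equiv.Perm (Fin (n + 1)) := ed.trans ec.symm
    have hσ : ∀ i, cO ≫ s (σ i) = dO ≫ s i := fun i => by
      have : ec (σ i) = ed i := ec.apply_symm_apply _
      exact Over.OverMorphism.ext (congrArg Subtype.val this)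
    refine ⟨σ, ?_⟩
    suffices h : cO ≫ mo σ = dO from congrArg (fun k => k.left) h
    apply Over.OverMorphism.ext
    rw [← cancel_mono ir.left, ← Over.comp_left, ← Over.comp_left]
    refine congrArg (fun k : Lp ⟶ R => k.left) ((yon S).map_injective (sqR.hom_ext ?_ ?_))
    · rw [← Functor.map_comp, ← Functor.map_comp]
      refine congrArg (yon S).map (P.hom_ext (τ.hom_ext fun i => ?_))
      simp only [Category.assoc, reassoc_of% hmo, reassoc_of% hmra, P.act_incl_assoc, τ.act_π, Tup.act_π]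
      rw [← hta, ← hta, ← reassoc_of% hs, ← reassoc_of% hs, reassoc_of% (hσ i)]
    · rw [← Functor.map_comp, ← Functor.map_comp]
      refine congrArg (yon S).map ?_
      simp only [Category.assoc, reassoc_of% hmo, hmrb]
      exact hcdπ
  -- descend
  obtain ⟨y, hy⟩ := exists_desc_of_orbit π mo
    (fun σ => by simp only [π]; rw [reassoc_of% hmo, hmrb]) htr ((yon S).map (ir ≫ ra ≫ P.pZ)) fun σ => by
      rw [← Functor.map_comp]
      congr 1
      rw [reassoc_of% hmo, reassoc_of% hmra, P.act_pZ]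
  obtain ⟨g, rfl⟩ := (yon S).map_surjective y
  refine ⟨n, P, g, hPQ, hom_ext_of_atlas
    ((repWith_yon_map_iff (P := (@Etale : MorphismProperty Scheme.{u})) π).2 inferInstance)
    ((repWith_yon_map_iff (P := @Surjective) π).2 inferInstance) ?_⟩
  rw [← Category.assoc, hy, Functor.map_comp, Functor.map_comp, Category.assoc, Category.assoc, P.pZ_chart]
  simp only [π, Functor.map_comp, Category.assoc]
  exact congrArg ((yon S).map ir ≫ ·) sqR.w

omit hX hp in
/-- An affine chart through which all points over Henselian local rings factor. -/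
theorem exists_affine_chart [QuasiSeparatedSpace ↥S] (hX : IsAlgSpace X) (hqc : IsQuasiCompactSp X)
    (hqs : IsQuasiSeparatedSp X) :
    ∃ (Z : Over S) (c : (yon S).obj Z ⟶ X), IsAffine Z.left ∧
      ∀ (A : Type u) [CommRing A] [HenselianLocalRing A] (str : Spec (CommRingCat.of A) ⟶ S)
        (z : (yon S).obj (Over.mk str) ⟶ X), ∃ g : Over.mk str ⟶ Z, (yon S).map g ≫ c = z := by
  classical
  obtain ⟨U, q, hq, hqs', hU⟩ := hqc
  haveI : CompactSpace ↥U.left := hU
  obtain ⟨I, hI⟩ := isCompact_univ.elim_finite_subcover (fun i : U.left.affineOpens => (i.1 : Set U.left))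
    (fun i => i.1.2) fun x _ => by
      obtain ⟨Bo, hBo, hx, -⟩ := TopologicalSpace.Opens.isBasis_iff_nbhd.1 U.left.isBasis_affineOpens
        (show x ∈ (⊤ : U.left.Opens) from trivial)
      exact Set.mem_iUnion.2 ⟨⟨Bo, hBo⟩, hx⟩
  let Ui : I → Over S := fun i => piece₀ U i.1
  let ji : ∀ i : I, Ui i ⟶ U := fun i => Over.homMk i.1.1.ι rfl
  haveI haff : ∀ i, IsAffine (Ui i).left := fun i => i.1.2
  haveI hsep : ∀ i, IsSeparated (Ui i).hom := fun i => MultiSecLib.isSeparated_hom_of_isAffine (Ui i)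
  haveI hoi : ∀ i, IsOpenImmersion (ji i).left := fun i => inferInstanceAs (IsOpenImmersion i.1.1.ι)
  have hp : ∀ i, RepWith @Etale ((yon S).map (ji i) ≫ q) := fun i =>
    repWith_comp ((repWith_yon_map_iff (P := (@Etale : MorphismProperty Scheme.{u})) (ji i)).2 inferInstance) hq
  choose N Q hcov hfin hN using fun i => exists_finite_pieces hX hqs (hp i)
  let κ : Type u := Σ i : I, Σ n : Fin (N i), Q i n
  haveI : ∀ (i : I) (n : Fin (N i)), Finite (Q i n) := fun i n => (hfin i n).to_subtype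
  haveI : Finite κ := inferInstanceAs (Finite (Σ i : I, Σ n : Fin (N i), Q i n))
  let Zk : κ → Over S := fun k => k.2.2.1.Z
  haveI hZ : ∀ k, IsAffine (Zk k).left := fun k => inferInstanceAs (IsAffine k.2.2.1.Z.left)
  let F : κ → Scheme.{u} := fun k => (Zk k).left
  haveI : ∀ k, IsAffine (F k) := hZ
  let Z : Over S := Over.mk (Sigma.desc fun k : κ => (Zk k).hom)
  let c : ∀ k : κ, Zk k ⟶ Z := fun k => Over.homMk (Sigma.ι F k) (Sigma.ι_desc _ k)
  haveI hco : ∀ k, IsOpenImmersion (c k).left := fun k => inferInstanceAs (IsOpenImmersion (Sigma.ι F k))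
  have hcs : ∀ t : Z.left, ∃ k, t ∈ Set.range (c k).left := fun t => by
    obtain ⟨⟨k, x⟩, rfl⟩ := (sigmaMk F).surjective t
    exact ⟨k, x, (sigmaMk_mk F k x).symm⟩
  obtain ⟨p, hp'⟩ := exists_amalgamation c (fun k => inferInstance) (fun k => inferInstance) hcs
    (fun k => k.2.2.1.chart) fun i j T gi gj hg => by
      by_cases hij : i = j
      · subst hij
        have : gi = gj := Over.OverMorphism.ext ((cancel_mono (c i).left).1 (congrArg (fun t => t.left) hg))
        rw [this]
      · haveI : IsEmpty T.left := ⟨fun t => by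
          have h := congrArg (fun m : T ⟶ Z => m.left t) hg
          simp only [Over.comp_left, Scheme.Hom.comp_apply] at h
          exact hij (congrArg Sigma.fst ((sigmaMk F).injective
            (a₁ := ⟨i, gi.left t⟩) (a₂ := ⟨j, gj.left t⟩) (by rw [sigmaMk_mk, sigmaMk_mk]; exact h)))⟩
        exact hom_ext_of_cover (κ := PEmpty.{u + 1}) (Tk := fun k => k.elim) (fun k => k.elim) (fun k => k.elim)
          (fun k => k.elim) (fun t => isEmptyElim t) fun k => k.elim
  refine ⟨Z, p, inferInstanceAs (IsAffine (∐ F)), fun A _ _ str z => ?_⟩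
  obtain ⟨W, a, b, sq⟩ := exists_isPullback_yon q z (hX.representable_from_yon q)
  haveI : Surjective b.left := (repWith_yon_map_iff (P := @Surjective) b).1 (repWith_of_isPullback sq hqs')
  obtain ⟨w, hw⟩ := b.left.surjective (IsLocalRing.closedPoint A)
  obtain ⟨i₀, hi₀, hwB⟩ := Set.mem_iUnion₂.1 (hI (Set.mem_univ (a.left w)))
  let i : I := ⟨i₀, hi₀⟩
  have sq' : IsPullback ((yon S).map (pullback.fst (ji i) a)) ((yon S).map (pullback.snd (ji i) a ≫ b))
      ((yon S).map (ji i) ≫ q) z := by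
    rw [Functor.map_comp]
    exact (((IsPullback.of_hasPullback (ji i) a).map (yon S)).flip.paste_horiz sq.flip).flip
  obtain ⟨x, hx⟩ : a.left w ∈ Set.range (ji i).left := by
    change a.left w ∈ Set.range i.1.1.ι
    rw [Scheme.Opens.range_ι]; exact hwB
  obtain ⟨y, -, hy⟩ := Scheme.exists_preimage_of_isPullback (left_isPullback (ji i) a) x w hx
  obtain ⟨n, P, g, hP, hg⟩ := exists_piece_lift_cov hX (hp i) (Q i) (hcov i) A str z sq' y (by
    rw [Over.comp_left, Scheme.Hom.comp_apply, hy, hw])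
  have hn : n < N i := Nat.lt_of_not_le fun h => by rw [hN i n h] at hP; exact hP
  let k : κ := ⟨i, ⟨n, hn⟩, P, hP⟩
  refine ⟨g ≫ c k, ?_⟩
  rw [Functor.map_comp, Category.assoc, hp' k]
  exact hg

/-- The points over a product of rings into an affine chart come from a compatible family. -/
theorem exists_of_family {Z : Scheme.{u}} [IsAffine Z] {S : Scheme.{u}} [IsAffine S] (f : Z ⟶ S) {ι : Type u}
    (A : ι → CommRingCat.{u}) (h : Spec (CommRingCat.of (∀ i, A i)) ⟶ S) (l : ∀ i, Spec (A i) ⟶ Z)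
    (hl : ∀ i, l i ≫ f = Spec.map (CommRingCat.ofHom (Pi.evalRingHom (fun j => (A j : Type u)) i)) ≫ h) :
    ∃ g : Spec (CommRingCat.of (∀ i, A i)) ⟶ Z, g ≫ f = h ∧
      ∀ i, Spec.map (CommRingCat.ofHom (Pi.evalRingHom (fun j => (A j : Type u)) i)) ≫ g = l i := by
  let R := CommRingCat.of (∀ i, A i)
  let ev : ∀ i, R ⟶ A i := fun i => CommRingCat.ofHom (Pi.evalRingHom (fun j => (A j : Type u)) i)
  let σ : Γ(Z, ⊤) ⟶ R := CommRingCat.ofHom (RingHom.pi fun i => (Spec.preimage (l i ≫ Z.isoSpec.hom)).hom)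
  let g : Spec R ⟶ Z := Spec.map σ ≫ Z.isoSpec.inv
  have hg : ∀ i, Spec.map (ev i) ≫ g = l i := fun i => by
    simp only [g, ← Category.assoc]
    rw [← Spec.map_comp, show σ ≫ ev i = Spec.preimage (l i ≫ Z.isoSpec.hom) from rfl, Spec.map_preimage,
      Category.assoc, Iso.hom_inv_id, Category.comp_id]
  refine ⟨g, ?_, hg⟩
  rw [← cancel_mono S.isoSpec.hom]
  refine (Spec.map_preimage _).symm.trans ((congrArg Spec.map ?_).trans (Spec.map_preimage _))
  refine CommRingCat.hom_ext (RingHom.ext fun r => funext fun i => ?_)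
  have h2 : Spec.preimage ((g ≫ f) ≫ S.isoSpec.hom) ≫ ev i = Spec.preimage (h ≫ S.isoSpec.hom) ≫ ev i := by
    apply Spec.map_injective
    rw [Spec.map_comp, Spec.map_comp, Spec.map_preimage, Spec.map_preimage]
    calc Spec.map (ev i) ≫ (g ≫ f) ≫ S.isoSpec.hom = ((Spec.map (ev i) ≫ g) ≫ f) ≫ S.isoSpec.hom := by
          simp only [Category.assoc]
      _ = (Spec.map (ev i) ≫ h) ≫ S.isoSpec.hom := by rw [hg, hl]
      _ = Spec.map (ev i) ≫ h ≫ S.isoSpec.hom := Category.assoc _ _ _
  exact ConcreteCategory.congr_hom h2 r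

end NisChartLib
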