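import Groth.Statements.S6825
import Groth.Agent.TransLib.EtaleApprox
import Groth.Agent.TransLib.GRingLocal
import Groth.Agent.AdicRingLib.Completion

set_option autoImplicit false
universe u
open Smoothing

namespace Groth.Agent.S6825

/-- Let R be a Noetherian local ring with maximal ideal m which is a G-ring, R^ its m-adic completion,
and F₁, …, F_m polynomials in n variables over R having a solution a = (a₁, …, a_n) in R^. Then for
every N there are an étale R-algebra R', an R-algebra map ψ : R' → R^, a maximal ideal m' of R'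
lying over m with κ(m) = κ(m') and ψ(m') ⊆ mR^, and a solution b = (b₁, …, b_n) of the system in R'
with a_i − ψ(b_i) ∈ m^N R^ for all i. (The source compares a and b inside R^ through the
identification of R^ with the completion of R' at m'; here that comparison map is the R-algebra map
ψ.) -/
theorem result {R : Type u} [CommRing R] [IsLocalRing R] (hG : CAlg.IsGRing R)
    {n m : ℕ} (F : Fin m → MvPolynomial (Fin n) R)
    (a : Fin n → AdicCompletion (IsLocalRing.maximalIdeal R) R) (ha : ∀ j, MvPolynomial.aeval a (F j) = 0)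
    (N : ℕ) :
    ∃ (R' : Type u) (_ : CommRing R') (_ : Algebra R R'), Algebra.Etale R R' ∧
      ∃ (ψ : R' →ₐ[R] AdicCompletion (IsLocalRing.maximalIdeal R) R) (m' : Ideal R'), m'.IsMaximal ∧
        m'.comap (algebraMap R R') = IsLocalRing.maximalIdeal R ∧
        (∀ x : R', ∃ r : R, x - algebraMap R R' r ∈ m') ∧
        (∀ x ∈ m', ψ x ∈ (IsLocalRing.maximalIdeal R).map
          (algebraMap R (AdicCompletion (IsLocalRing.maximalIdeal R) R))) ∧
        ∃ b : Fin n → R', (∀ j, MvPolynomial.aeval b (F j) = 0) ∧
          ∀ i, a i - ψ (b i) ∈ (IsLocalRing.maximalIdeal R ^ N).map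
            (algebraMap R (AdicCompletion (IsLocalRing.maximalIdeal R) R)) := by
  have hR : IsNoetherianRing R := hG.1
  let I := IsLocalRing.maximalIdeal R
  let T := AdicCompletion I R
  have hfg : I.FG := IsNoetherian.noetherian I
  have : IsNoetherianRing T := AdicRingLib.isNoetherianRing_adicCompletion I
  have hmT : IsLocalRing.maximalIdeal T = I.map (algebraMap R T) := AdicCompletion.maximalIdeal_eq_map
  have hind : Smoothing.IndSmooth R T :=
    TransLib.indSmooth_of_isRegularHom (TransLib.isRegularHom_completion_of_isGRing hG)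
  have hdense : ∀ (y : T) (k : ℕ), ∃ r s : R, IsUnit (algebraMap R T s) ∧
      algebraMap R T s * y - algebraMap R T r ∈ IsLocalRing.maximalIdeal T ^ k := fun y k => by
    obtain ⟨r, hr⟩ := AdicRingLib.exists_sub_mem_map_pow hfg k y
    refine ⟨r, 1, by rw [map_one]; exact isUnit_one, ?_⟩
    rw [map_one, one_mul, hmT, ← Ideal.map_pow]
    exact hr
  obtain ⟨R', _, _, hR', ψ, b, hb, hab⟩ := TransLib.exists_etale_approx hind hdense F a ha N
  let m' : Ideal R' := (IsLocalRing.maximalIdeal T).comap ψ
  have hcomap : m'.comap (algebraMap R R') = I := by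
    ext r
    show ψ (algebraMap R R' r) ∈ IsLocalRing.maximalIdeal T ↔ _
    rw [ψ.commutes]
    constructor
    · intro h
      by_contra hr
      exact h ((IsLocalRing.notMem_maximalIdeal.1 hr).map (algebraMap R T))
    · intro h
      rw [hmT]
      exact Ideal.mem_map_of_mem _ h
  have hres : ∀ x : R', ∃ r : R, x - algebraMap R R' r ∈ m' := fun x => by
    obtain ⟨r, hr⟩ := AdicRingLib.exists_sub_mem_map_pow hfg 1 (ψ x)
    refine ⟨r, ?_⟩
    show ψ _ ∈ IsLocalRing.maximalIdeal T
    rw [map_sub, ψ.commutes, hmT]
    rw [pow_one] at hr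
    exact hr
  have hmax : m'.IsMaximal := by
    refine Ideal.isMaximal_iff.2 ⟨fun h => ?_, fun K x hK hx hxK => ?_⟩
    · rw [Ideal.mem_comap, map_one] at h
      exact (IsLocalRing.maximalIdeal.isMaximal T).ne_top ((Ideal.eq_top_iff_one _).2 h)
    · obtain ⟨r, hr⟩ := hres x
      have hru : IsUnit r := IsLocalRing.notMem_maximalIdeal.1 fun h => hx (by
        rw [← sub_add_cancel x (algebraMap R R' r)]
        exact add_mem hr ((hcomap.ge h : r ∈ m'.comap (algebraMap R R'))))
      have h1 : algebraMap R R' r ∈ K := by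
        have := sub_mem hxK (hK hr)
        rwa [sub_sub_cancel] at this
      rw [Ideal.eq_top_of_isUnit_mem K h1 (hru.map _)]
      trivial
  refine ⟨R', inferInstance, inferInstance, hR', ψ, m', hmax, hcomap, hres, fun x hx => ?_, b, hb, fun i => ?_⟩
  · have h : ψ x ∈ IsLocalRing.maximalIdeal T := hx
    rwa [hmT] at h
  · have h := hab i
    rwa [hmT, ← Ideal.map_pow] at h

end Groth.Agent.S6825
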