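import Groth.Statements.S0596
import Groth.Agent.S6825
import Groth.Agent.HenselLib.Local
import Groth.Agent.AdicRingLib.Completion

set_option autoImplicit false
universe u
open CAlg

namespace Groth.Agent.S0596

/-- Let `R` be a henselian Noetherian local G-ring and `f₁, …, f_m` polynomials in `n` variables over
`R`. If the system has a solution `a` in the completion of `R`, then for every `N` there is a
solution `b` in `R` with `aᵢ - bᵢ` in the `N`-th power of the maximal ideal of the completion. -/
theorem result (R : Type u) [CommRing R] [HenselianLocalRing R]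
    (hG : CAlg.IsGRing R) (n m : ℕ) (F : Fin m → MvPolynomial (Fin n) R)
    (a : Fin n → (AdicCompletion (IsLocalRing.maximalIdeal R) R))
    (ha : ∀ j, MvPolynomial.eval a (MvPolynomial.map (algebraMap R (AdicCompletion (IsLocalRing.maximalIdeal R) R)) (F j)) = 0) (N : ℕ) :
    ∃ b : Fin n → R, (∀ j, MvPolynomial.eval b (F j) = 0) ∧
      ∀ i, a i - algebraMap R (AdicCompletion (IsLocalRing.maximalIdeal R) R) (b i) ∈
        (IsLocalRing.maximalIdeal R ^ N).map (algebraMap R (AdicCompletion (IsLocalRing.maximalIdeal R) R)) := by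
  have hR : IsNoetherianRing R := hG.1
  let T := AdicCompletion (IsLocalRing.maximalIdeal R) R
  have : IsNoetherianRing T := AdicRingLib.isNoetherianRing_adicCompletion _
  have hmT : IsLocalRing.maximalIdeal T = (IsLocalRing.maximalIdeal R).map (algebraMap R T) :=
    AdicCompletion.maximalIdeal_eq_map
  have ha' : ∀ j, MvPolynomial.aeval a (F j) = 0 := fun j => by
    rw [← ha j, MvPolynomial.eval_map, MvPolynomial.aeval_def]
  obtain ⟨R', _, _, hR', ψ, m', hmax, hcomap, hres, hψ, b', hb', hab⟩ := Groth.Agent.S6825.result hG F a ha' N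
  let j : IsLocalRing.ResidueField R →+* R' ⧸ m' := Ideal.quotientMap m' (algebraMap R R') hcomap.ge
  have hj : Function.Bijective j := by
    refine ⟨Ideal.quotientMap_injective' hcomap.le, fun z => ?_⟩
    obtain ⟨x, rfl⟩ := Ideal.Quotient.mk_surjective z
    obtain ⟨r, hr⟩ := hres x
    exact ⟨IsLocalRing.residue R r, (Ideal.Quotient.eq.2 hr).symm⟩
  let θ : R' →+* IsLocalRing.ResidueField R :=
    (RingEquiv.ofBijective j hj).symm.toRingHom.comp (Ideal.Quotient.mk m')
  obtain ⟨σ, hσ, -⟩ := HenselLib.existsUnique_algHom (R := R) (S := R) θ (RingHom.ext fun r => by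
    refine (RingEquiv.ofBijective j hj).injective ?_
    show RingEquiv.ofBijective j hj ((RingEquiv.ofBijective j hj).symm (Ideal.Quotient.mk m' (algebraMap R R' r))) = _
    rw [RingEquiv.apply_symm_apply]
    rfl)
  have hmem : ∀ x, x - algebraMap R R' (σ x) ∈ m' := fun x => by
    refine Ideal.Quotient.eq.1 ?_
    have h := congrArg (RingEquiv.ofBijective j hj) (hσ x)
    refine Eq.trans ?_ h.symm
    show _ = RingEquiv.ofBijective j hj ((RingEquiv.ofBijective j hj).symm (Ideal.Quotient.mk m' x))
    rw [RingEquiv.apply_symm_apply]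
  have hψσ : ψ = (Algebra.ofId R T).comp σ := by
    refine Algebra.FormallyUnramified.ext_of_iInf (I := IsLocalRing.maximalIdeal T) ?_ fun x => ?_
    · exact Ideal.iInf_pow_eq_bot_of_isLocalRing _ (IsLocalRing.maximalIdeal.isMaximal T).ne_top
    · refine Ideal.Quotient.eq.2 ?_
      have h := hψ _ (hmem x)
      rw [map_sub, ψ.commutes] at h
      rw [hmT]
      exact h
  refine ⟨fun i => σ (b' i), fun k => ?_, fun i => ?_⟩
  · have h := congrArg σ (hb' k)
    rw [map_zero, ← AlgHom.comp_apply, MvPolynomial.comp_aeval] at h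
    exact h
  · have h := hab i
    rw [DFunLike.congr_fun hψσ (b' i)] at h
    exact h

end Groth.Agent.S0596
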