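import Mathlib

universe u

namespace Groth.Agent.NoethJacLib

variable {D : Type u} [CommRing D] [IsDomain D] [IsNoetherianRing D]

theorem height_le_one_false {P Q : Ideal D} [P.IsPrime] [hQ : Q.IsPrime] (hP : P ≠ ⊥) (hlt : P < Q)
    (h1 : Q.height ≤ 1) : False := by
  haveI : (⊥ : Ideal D).IsPrime := Ideal.isPrime_bot
  have a := Ideal.height_add_one_le_of_lt_of_isPrime (I := (⊥ : Ideal D)) (J := P) (bot_lt_iff_ne_bot.2 hP)
  have b := Ideal.height_add_one_le_of_lt_of_isPrime hlt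
  rw [Ideal.height_bot, zero_add] at a
  have := ((add_le_add a (le_refl (1 : ℕ∞))).trans b).trans h1
  norm_num at this

/-- if a nonzero element lies in every nonzero prime, nonzero primes are maximal -/
theorem isMaximal_of_mem_all (g : D) (hg : g ≠ 0) (h : ∀ P : Ideal D, P.IsPrime → P ≠ ⊥ → g ∈ P)
    (P : Ideal D) [P.IsPrime] (hP : P ≠ ⊥) : P.IsMaximal := by
  classical
  obtain ⟨M, hM, hPM⟩ := Ideal.exists_le_maximal P ‹P.IsPrime›.ne_top
  rcases hPM.eq_or_lt with rfl | hlt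
  · exact hM
  exfalso
  have hfin : ((Ideal.span {g}).minimalPrimes).Finite := Ideal.finite_minimalPrimes_of_isNoetherianRing D _
  have hh : ∀ q ∈ (Ideal.span {g}).minimalPrimes, q.height ≤ 1 := fun q hq => by
    haveI := hq.1.1
    haveI : (Ideal.span {g}).IsPrincipal := ⟨⟨g, rfl⟩⟩
    exact Ideal.height_le_one_of_isPrincipal_of_mem_minimalPrimes (Ideal.span {g}) q hq
  have hne : ∀ q ∈ (Ideal.span {g}).minimalPrimes, q ≠ ⊥ := fun q hq hq0 => by
    have := hq.1.2 (Ideal.subset_span (Set.mem_singleton g))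
    rw [hq0] at this
    exact hg (by simpa using this)
  obtain ⟨x, hxM, hx⟩ : ∃ x ∈ M, ∀ q ∈ (Ideal.span {g}).minimalPrimes, x ∉ q := by
    by_contra hc
    push Not at hc
    have hsub : (M : Set D) ⊆ ⋃ q ∈ (hfin.toFinset : Set (Ideal D)), (q : Set D) := fun x hx => by
      obtain ⟨q, hq, hxq⟩ := hc x hx
      exact Set.mem_iUnion₂.2 ⟨q, by simpa using hq, hxq⟩
    obtain ⟨q, hq, hMq⟩ := (Ideal.subset_union_prime (f := fun q : Ideal D => q) ⊥ ⊥ (fun q hq _ _ => (hfin.mem_toFinset.1 hq).1.1)).1 hsub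
    have hq' := hfin.mem_toFinset.1 hq
    haveI := hq'.1.1
    exact height_le_one_false hP (hlt.trans_le hMq) (hh q hq')
  have hx0 : x ≠ 0 := by
    rintro rfl
    obtain ⟨q, hq, -⟩ := Ideal.exists_minimalPrimes_le (I := Ideal.span {g}) (J := P)
      ((Ideal.span_singleton_le_iff_mem _).2 (h P inferInstance hP))
    exact hx q hq (zero_mem q)
  haveI := hM.isPrime
  obtain ⟨r, hr, -⟩ := Ideal.exists_minimalPrimes_le (I := Ideal.span {x}) (J := M)
    ((Ideal.span_singleton_le_iff_mem _).2 hxM)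
  haveI := hr.1.1
  haveI : (Ideal.span {x}).IsPrincipal := ⟨⟨x, rfl⟩⟩
  have hr1 : r.height ≤ 1 := Ideal.height_le_one_of_isPrincipal_of_mem_minimalPrimes (Ideal.span {x}) r hr
  have hxr : x ∈ r := hr.1.2 (Ideal.subset_span (Set.mem_singleton x))
  have hr0 : r ≠ ⊥ := fun h0 => hx0 (by rw [h0] at hxr; simpa using hxr)
  obtain ⟨q, hq, hqr⟩ := Ideal.exists_minimalPrimes_le (I := Ideal.span {g}) (J := r)
    ((Ideal.span_singleton_le_iff_mem _).2 (h r inferInstance hr0))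
  haveI := hq.1.1
  rcases hqr.eq_or_lt with rfl | hlt'
  · exact hx q hq hxr
  · exact height_le_one_false (hne q hq) hlt' hr1

/-- a prime maximal among those above `p` avoiding `g` -/
theorem exists_max_avoid {A : Type u} [CommRing A] [IsNoetherianRing A] (p : Ideal A) [p.IsPrime] (g : A) (hg : g ∉ p) :
    ∃ q : Ideal A, q.IsPrime ∧ p ≤ q ∧ g ∉ q ∧
      ∀ r : Ideal (A ⧸ q), r.IsPrime → r ≠ ⊥ → Ideal.Quotient.mk q g ∈ r := by
  obtain ⟨q, ⟨hq, hpq, hgq⟩, hmax⟩ := set_has_maximal_iff_noetherian.2 ‹IsNoetherianRing A›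
    {q : Ideal A | q.IsPrime ∧ p ≤ q ∧ g ∉ q} ⟨p, ‹_›, le_rfl, hg⟩
  refine ⟨q, hq, hpq, hgq, fun r hr hr0 => ?_⟩
  by_contra hgr
  haveI := hr
  have hle : q ≤ r.comap (Ideal.Quotient.mk q) := fun a ha => by
    simp [Ideal.Quotient.eq_zero_iff_mem.2 ha]
  refine hmax (r.comap (Ideal.Quotient.mk q)) ⟨inferInstance, hpq.trans hle, fun hh => hgr hh⟩ (hle.lt_of_ne fun heq => hr0 ?_)
  rw [← Ideal.map_comap_of_surjective _ Ideal.Quotient.mk_surjective r, ← heq, Ideal.map_quotient_self]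

end Groth.Agent.NoethJacLib
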