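import Groth.Statements.S10298
import Groth.Agent.NormSpLib.Main

set_option autoImplicit false
set_option backward.isDefEq.respectTransparency false
set_option backward.isDefEq.respectTransparency.types false
universe u
open CategoryTheory CategoryTheory.Limits AlgebraicGeometry
open AlgSp

namespace Groth.Agent.S10298

/-- For a quasi-compact quasi-separated morphism of schemes, the relative normalization of schemes is
the normalization in the sense of algebraic spaces. -/
theorem result {S : Scheme.{u}} {V U N : Over S} (g : V ⟶ U)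
    [QuasiCompact g.left] [QuasiSeparated g.left] (f' : V ⟶ N) (ν : N ⟶ U)
    (e : N.left ≅ g.left.normalization) (he1 : f'.left ≫ e.hom = g.left.toNormalization)
    (he2 : e.hom ≫ g.left.fromNormalization = ν.left) :
    AlgSp.IsRelNormalization ((AlgSp.yon S).map g) ((AlgSp.yon S).map ν) ((AlgSp.yon S).map f') := by
  have hν : IsIntegralHom ν.left := by rw [← he2]; infer_instance
  have hfac : f' ≫ ν = g := Over.OverMorphism.ext (by
    rw [Over.comp_left, ← he2, reassoc_of% he1, Scheme.Hom.toNormalization_fromNormalization])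
  refine ⟨by rw [← Functor.map_comp, hfac],
    AlgSpLib.isIntegralMor_iff.2 ((AlgSp.repWith_yon_map_iff (P := (@IsIntegralHom : MorphismProperty Scheme.{u})) ν).2 hν),
    fun Z _ π h₀ hπ hπ₀ => ?_⟩
  have hπ' := AlgSpLib.isIntegralMor_iff.1 hπ
  obtain ⟨T, τ, z, sq, hτ⟩ : ∃ (T : Over S) (τ : T ⟶ U) (z : (AlgSp.yon S).obj T ⟶ Z),
      IsPullback z ((AlgSp.yon S).map τ) π (𝟙 ((AlgSp.yon S).obj U)) ∧ IsIntegralHom τ.left :=
    ⟨_, _, _, hπ'.rep.isPullback _, hπ'.property_snd _⟩
  haveI := hτ
  obtain ⟨l₀, hl₀⟩ := (AlgSp.yon S).map_surjective (sq.lift h₀ ((AlgSp.yon S).map g) (by rw [hπ₀, Category.comp_id]))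
  have hl₁ : (AlgSp.yon S).map l₀ ≫ z = h₀ := by rw [hl₀, sq.lift_fst]
  have hl₂ : l₀ ≫ τ = g := (AlgSp.yon S).map_injective (by rw [Functor.map_comp, hl₀, sq.lift_snd])
  have H : g.left = l₀.left ≫ τ.left := by rw [← Over.comp_left, hl₂]
  let d := g.left.normalizationDesc l₀.left τ.left H
  let D : N ⟶ T := Over.homMk (e.hom ≫ d) (by
    rw [← Over.w ν, ← he2, ← Over.w τ, Category.assoc, Category.assoc,
      Scheme.Hom.normalizationDesc_comp_assoc])
  have hD₁ : f' ≫ D = l₀ := Over.OverMorphism.ext (by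
    show f'.left ≫ e.hom ≫ d = _
    rw [reassoc_of% he1, Scheme.Hom.toNormalization_normalizationDesc])
  have hD₂ : D ≫ τ = ν := Over.OverMorphism.ext (by
    show (e.hom ≫ d) ≫ τ.left = _
    rw [Category.assoc, Scheme.Hom.normalizationDesc_comp, he2])
  refine ⟨(AlgSp.yon S).map D ≫ z, ⟨by rw [← Functor.map_comp_assoc, hD₁, hl₁],
    by rw [Category.assoc, sq.w, Category.comp_id, ← Functor.map_comp, hD₂]⟩, fun h hh => ?_⟩
  obtain ⟨D', hD'⟩ := (AlgSp.yon S).map_surjective (sq.lift h ((AlgSp.yon S).map ν) (by rw [hh.2, Category.comp_id]))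
  have hD'₁ : (AlgSp.yon S).map D' ≫ z = h := by rw [hD', sq.lift_fst]
  have hD'₂ : D' ≫ τ = ν := (AlgSp.yon S).map_injective (by rw [Functor.map_comp, hD', sq.lift_snd])
  have hl' : f' ≫ D' = l₀ := (AlgSp.yon S).map_injective (sq.hom_ext
    (by rw [Functor.map_comp, Category.assoc, hD'₁, hh.1, hl₁])
    (by rw [← Functor.map_comp, ← Functor.map_comp, Category.assoc, hD'₂, hfac, hl₂]))
  have key : D' = D := by
    refine Over.OverMorphism.ext ?_
    rw [← cancel_epi e.inv]
    refine Scheme.Hom.normalization.hom_ext _ _ _ τ.left ?_ ?_ ?_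
    · rw [← he1]
      simp only [Category.assoc, Iso.hom_inv_id_assoc]
      rw [← Over.comp_left, ← Over.comp_left, hl', hD₁]
    · rw [Category.assoc, ← Over.comp_left, hD'₂, ← he2, Iso.inv_hom_id_assoc]
    · rw [Category.assoc, ← Over.comp_left, hD₂, ← he2, Iso.inv_hom_id_assoc]
  rw [← hD'₁, key]

end Groth.Agent.S10298
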