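import Groth.Statements.S2179
import Mathlib


-- import your own Groth.Agent.* helpers here

set_option autoImplicit false
open Finset
open Models Models.NumericalType

namespace Groth.Agent.S2179

/-- For a numerical type T, the map Z^n -> Z^n multiplying the i-th coordinate by w i induces a
well-defined injective homomorphism from Pic(T), the cokernel of (a i j / w i), to the cokernel of
the matrix a. -/
theorem result {n : ℕ} (T : Models.NumericalType n) :
    ∃ f : T.Pic →+ T.CokerA, Function.Injective f ∧
      ∀ x : Fin n → ℤ, f (Submodule.Quotient.mk x) = Submodule.Quotient.mk (fun i => T.w i * x i) := by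
  classical
  let D : (Fin n → ℤ) →ₗ[ℤ] (Fin n → ℤ) :=
    { toFun := fun x i => T.w i * x i
      map_add' := fun x y => by ext i; simp [mul_add]
      map_smul' := fun c x => by ext i; simp; ring }
  have key : ∀ y, D (Matrix.mulVecLin T.picMatrix y) = Matrix.mulVecLin T.a y := fun y => by
    ext i
    show T.w i * (T.picMatrix.mulVec y) i = (T.a.mulVec y) i
    simp only [Matrix.mulVec, dotProduct, Models.NumericalType.picMatrix, Finset.mul_sum]
    refine Finset.sum_congr rfl fun j _ => ?_
    rw [← mul_assoc, Int.mul_ediv_cancel' (T.w_dvd i j)]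
  refine ⟨(Submodule.mapQ _ (LinearMap.range (Matrix.mulVecLin T.a)) D ?_).toAddMonoidHom, ?_,
    fun x => rfl⟩
  · rintro _ ⟨y, rfl⟩
    exact ⟨y, (key y).symm⟩
  · rw [injective_iff_map_eq_zero]
    intro q hq
    obtain ⟨x, rfl⟩ := Submodule.Quotient.mk_surjective _ q
    obtain ⟨y, hy⟩ := (Submodule.Quotient.mk_eq_zero _).1 hq
    rw [Submodule.Quotient.mk_eq_zero]
    refine ⟨y, funext fun i => ?_⟩
    have h := congrFun (key y) i
    rw [hy] at h
    exact mul_left_cancel₀ (T.w_pos i).ne' h

end Groth.Agent.S2179
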