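import Groth.Statements.S0573
import Groth.Agent.NormalLib.Transfer
import Mathlib.RingTheory.Jacobson.Ring

set_option autoImplicit false
universe u
open CAlg

namespace Groth.Agent.S0573

open scoped nonZeroDivisors in
/-- The domain case. -/
theorem finite_integralClosure_domain {R : Type u} [CommRing R] (hR : CAlg.IsNagata R) (D : Type u) [CommRing D]
    [IsDomain D] [Algebra R D] [Algebra.FiniteType R D] : Module.Finite R (integralClosure R D) := by
  have := hR.1
  classical
  let p := RingHom.ker (algebraMap R D)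
  have : p.IsPrime := RingHom.ker_isPrime _
  let _ : Algebra (R ⧸ p) D := (RingHom.kerLift (algebraMap R D)).toAlgebra
  have : IsScalarTower R (R ⧸ p) D := IsScalarTower.of_algebraMap_eq fun _ => rfl
  have hinj : Function.Injective (algebraMap (R ⧸ p) D) := RingHom.kerLift_injective _
  let M := Algebra.algebraMapSubmonoid D (R ⧸ p)⁰
  have hMle : M ≤ D⁰ := by
    rintro _ ⟨r, hr, rfl⟩
    exact mem_nonZeroDivisors_of_ne_zero ((map_ne_zero_iff _ hinj).2 (nonZeroDivisors.ne_zero hr))
  let DK := Localization M
  have : IsDomain DK := IsLocalization.isDomain_localization hMle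
  obtain ⟨m, hm⟩ := Ideal.exists_maximal DK
  let F := DK ⧸ m
  let _ : Field F := Ideal.Quotient.field m
  let f : (R ⧸ p) →+* F := algebraMap (R ⧸ p) F
  have hu : ∀ r : (R ⧸ p)⁰, IsUnit (f r) := fun r => by
    show IsUnit (algebraMap (R ⧸ p) F r)
    rw [IsScalarTower.algebraMap_apply (R ⧸ p) DK F, IsScalarTower.algebraMap_apply (R ⧸ p) D DK]
    exact ((IsLocalization.map_units DK (⟨_, Algebra.mem_algebraMapSubmonoid_of_mem r⟩ : M))).map (algebraMap DK F)
  let K := FractionRing (R ⧸ p)
  have : IsScalarTower (R ⧸ p) K DK := inferInstance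
  have : IsScalarTower (R ⧸ p) K F := inferInstance
  have hπ : ∀ r : R ⧸ p, Ideal.Quotient.mk m (algebraMap D DK (algebraMap (R ⧸ p) D r)) = algebraMap (R ⧸ p) F r :=
    fun r => rfl
  let π : D →ₐ[R ⧸ p] F := { (Ideal.Quotient.mk m).comp (algebraMap D DK) with commutes' := hπ }
  have : FiniteDimensional K F := by
    have : Algebra.FiniteType (R ⧸ p) D := Algebra.FiniteType.of_restrictScalars_finiteType R (R ⧸ p) D
    obtain ⟨s, hs⟩ := this.out
    have : Algebra.FiniteType K F := by
      refine ⟨⟨s.image π, ?_⟩⟩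
      have hD : ∀ d : D, π d ∈ Algebra.adjoin K ((s.image π : Finset F) : Set F) := fun d => by
        have hd : d ∈ Algebra.adjoin (R ⧸ p) (s : Set D) := hs.symm ▸ Algebra.mem_top
        induction hd using Algebra.adjoin_induction with
        | mem w hw => exact Algebra.subset_adjoin (Finset.mem_coe.2 (Finset.mem_image_of_mem _ hw))
        | algebraMap c => rw [AlgHom.commutes, IsScalarTower.algebraMap_apply (R ⧸ p) K F]; exact Subalgebra.algebraMap_mem _ _
        | add u v _ _ hu hv => rw [map_add]; exact Subalgebra.add_mem _ hu hv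
        | mul u v _ _ hu hv => rw [map_mul]; exact Subalgebra.mul_mem _ hu hv
      refine eq_top_iff.2 fun z hz => ?_
      clear hz
      obtain ⟨z, rfl⟩ := Ideal.Quotient.mk_surjective z
      obtain ⟨d, ⟨_, r, hr, rfl⟩, rfl⟩ := IsLocalization.exists_mk'_eq M z
      have h1 := congrArg (Ideal.Quotient.mk m) (IsLocalization.mk'_spec DK d (⟨_, r, hr, rfl⟩ : M))
      rw [map_mul, hπ] at h1
      have hr0 : algebraMap (R ⧸ p) F r ≠ 0 := (hu ⟨r, hr⟩).ne_zero
      rw [show (Ideal.Quotient.mk m) (IsLocalization.mk' DK d (⟨_, r, hr, rfl⟩ : M)) =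
        π d * (algebraMap (R ⧸ p) F r)⁻¹ by rw [eq_mul_inv_iff_mul_eq₀ hr0]; exact h1]
      refine Subalgebra.mul_mem _ (hD d) ?_
      rw [IsScalarTower.algebraMap_apply (R ⧸ p) K F, ← map_inv₀]
      exact Subalgebra.algebraMap_mem _ _
    exact finite_of_finite_type_of_isJacobsonRing K F
  have : Module.Finite (R ⧸ p) (integralClosure (R ⧸ p) F) := hR.2 p F inferInstance
  let g : integralClosure (R ⧸ p) D →ₗ[R ⧸ p] integralClosure (R ⧸ p) F :=
    { toFun := fun x => ⟨π x, (show IsIntegral (R ⧸ p) (x : D) from x.2).map π⟩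
      map_add' := fun x y => Subtype.ext (map_add π _ _)
      map_smul' := fun c x => Subtype.ext (map_smul π c (x : D)) }
  have hg : Function.Injective g := by
    rw [injective_iff_map_eq_zero]
    intro x hx
    by_contra hx0
    obtain ⟨c, hc, d, hd⟩ := ((show IsIntegral (R ⧸ p) (x : D) from x.2).isAlgebraic).exists_nonzero_dvd
      (mem_nonZeroDivisors_of_ne_zero fun h => hx0 (Subtype.ext h))
    have h2 := congrArg π hd
    rw [AlgHom.commutes, map_mul, show π (x : D) = 0 from congrArg Subtype.val hx, zero_mul] at h2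
    exact (hu ⟨c, mem_nonZeroDivisors_of_ne_zero hc⟩).ne_zero h2
  have : Module.Finite (R ⧸ p) (integralClosure (R ⧸ p) D) := Module.Finite.of_injective g hg
  have : Module.Finite R (integralClosure (R ⧸ p) D) := Module.Finite.trans (R ⧸ p) _
  let h : integralClosure R D →ₗ[R] integralClosure (R ⧸ p) D :=
    { toFun := fun x => ⟨x, x.2.tower_top⟩
      map_add' := fun _ _ => rfl
      map_smul' := fun a x => Subtype.ext (by simp) }
  exact Module.Finite.of_injective h fun a b hab =>
    Subtype.ext (congrArg (fun z : integralClosure (R ⧸ p) D => (z : D)) hab)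

/-- Stated for finite type rather than essentially finite type algebras: if `R` is a Nagata ring and `S`
a reduced `R`-algebra of finite type, then the integral closure of `R` in `S` is a finitely
generated `R`-module. -/
theorem result (R : Type u) [CommRing R] (hR : CAlg.IsNagata R)
    (S : Type u) [CommRing S] [IsReduced S] [Algebra R S] [Algebra.FiniteType R S] :
    Module.Finite R (integralClosure R S) := by
  classical
  have := hR.1
  have : IsNoetherianRing S := Algebra.FiniteType.isNoetherianRing R S
  let ι := {q : Ideal S // q ∈ minimalPrimes S}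
  have : Finite ι := (minimalPrimes.finite_of_isNoetherianRing S).to_subtype
  have hq : ∀ q : ι, Module.Finite R (integralClosure R (S ⧸ q.1)) := fun q => by
    have := q.2.1.1
    have : Algebra.FiniteType R (S ⧸ q.1) :=
      Algebra.FiniteType.of_surjective (Ideal.Quotient.mkₐ R q.1) Ideal.Quotient.mk_surjective
    exact finite_integralClosure_domain hR (S ⧸ q.1)
  let g : integralClosure R S →ₗ[R] (q : ι) → integralClosure R (S ⧸ q.1) :=
    LinearMap.pi fun q =>
      { toFun := fun x => ⟨Ideal.Quotient.mkₐ R q.1 x, (show IsIntegral R (x : S) from x.2).map _⟩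
        map_add' := fun x y => Subtype.ext (map_add _ _ _)
        map_smul' := fun c x => Subtype.ext (map_smul (Ideal.Quotient.mkₐ R q.1) c (x : S)) }
  refine Module.Finite.of_injective g ((injective_iff_map_eq_zero g).2 fun x hx => Subtype.ext ?_)
  have : (x : S) ∈ nilradical S := by
    rw [nilradical, Ideal.radical_eq_sInf, Submodule.mem_sInf]
    rintro P ⟨-, hP⟩
    obtain ⟨q, hq, hqP⟩ := Ideal.exists_minimalPrimes_le (I := ⊥) (J := P) bot_le
    exact hqP (Ideal.Quotient.eq_zero_iff_mem.1 (congrArg Subtype.val (congrFun hx ⟨q, hq⟩)))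
  simpa [nilradical_eq_zero] using this

end Groth.Agent.S0573
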