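import Groth.Statements.S6094


set_option autoImplicit false
set_option backward.isDefEq.respectTransparency false
set_option backward.isDefEq.respectTransparency.types false
universe u
open CategoryTheory MonObj GrpObj AlgebraicGeometry
open scoped TensorProduct
open SGA3

namespace Groth.Agent.S6094
section helpers

variable {R : Type u} [CommRing R] {A : Type u} [CommRing A] [HopfAlgebra R A]
  {E : Type u} [AddCommGroup E] [Module R E]
  {B : Type u} [CommRing B] [Algebra R B]

variable (R A) in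
noncomputable abbrev gA : Over (Spec (CommRingCat.of R)) :=
  (Spec (CommRingCat.of A)).asOver (Spec (CommRingCat.of R))

noncomputable def algOf (g : VecGrp.pt R B ⟶ (gA R A)) : WithConv (A →ₐ[R] B) := Spec.mapMulEquiv.symm g

theorem algOf_mul (g h : VecGrp.pt R B ⟶ (gA R A)) : algOf (g * h) = algOf g * algOf h :=
  map_mul Spec.mapMulEquiv.symm g h

theorem algOf_one : algOf (1 : VecGrp.pt R B ⟶ (gA R A)) = 1 :=
  map_one Spec.mapMulEquiv.symm

noncomputable def ptOf (f : WithConv (A →ₐ[R] B)) : VecGrp.pt R B ⟶ (gA R A) := Spec.mapMulEquiv f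

theorem algOf_ptOf (f : WithConv (A →ₐ[R] B)) : algOf (ptOf f) = f :=
  Spec.mapMulEquiv.symm_apply_apply f

theorem ptOf_algOf (g : VecGrp.pt R B ⟶ (gA R A)) : ptOf (algOf g) = g :=
  Spec.mapMulEquiv.apply_symm_apply g

theorem ptMap_ptOf {B' : Type u} [CommRing B'] [Algebra R B'] (φ : B →ₐ[R] B') (f : WithConv (A →ₐ[R] B)) :
    VecGrp.ptMap φ ≫ ptOf f = ptOf (WithConv.toConv (φ.comp f.ofConv)) := by
  refine Over.OverMorphism.ext ?_
  show Spec.map (CommRingCat.ofHom φ.toRingHom) ≫ Spec.map (CommRingCat.ofHom f.ofConv.toRingHom) =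
    Spec.map (CommRingCat.ofHom (φ.comp f.ofConv).toRingHom)
  rw [← Spec.map_comp, ← CommRingCat.ofHom_comp]
  rfl

theorem algOf_ptMap {B' : Type u} [CommRing B'] [Algebra R B'] (φ : B →ₐ[R] B') (g : VecGrp.pt R B ⟶ (gA R A)) :
    algOf (VecGrp.ptMap φ ≫ g) = WithConv.toConv (φ.comp (algOf g).ofConv) := by
  conv_lhs => rw [← ptOf_algOf g, ptMap_ptOf, algOf_ptOf]

/-- `y ⊗ a ↦ f a ⊗ y`. -/
noncomputable def evalAt (f : A →ₐ[R] B) : E ⊗[R] A →ₗ[R] B ⊗[R] E :=
  (TensorProduct.comm R E B).toLinearMap ∘ₗ LinearMap.lTensor E f.toLinearMap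

@[simp] theorem evalAt_tmul (f : A →ₐ[R] B) (y : E) (a : A) : evalAt f (y ⊗ₜ[R] a) = f a ⊗ₜ y := rfl

theorem evalAt_natural {B' : Type u} [CommRing B'] [Algebra R B'] (φ : B →ₐ[R] B') (f : A →ₐ[R] B)
    (z : E ⊗[R] A) : VecGrp.Wmap φ (evalAt f z) = evalAt (φ.comp f) z := by
  induction z using TensorProduct.induction_on with
  | zero => simp
  | tmul y a => simp
  | add x y hx hy => simp only [map_add, hx, hy]

/-- The operator on `B ⊗ E` of a point. -/
noncomputable def act (δ : E →ₗ[R] E ⊗[R] A) (f : A →ₐ[R] B) : B ⊗[R] E →ₗ[B] B ⊗[R] E :=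
  LinearMap.liftBaseChange B (evalAt f ∘ₗ δ)

@[simp] theorem act_tmul (δ : E →ₗ[R] E ⊗[R] A) (f : A →ₐ[R] B) (b : B) (x : E) :
    act δ f (b ⊗ₜ[R] x) = b • evalAt f (δ x) := by
  rw [act, LinearMap.liftBaseChange_tmul]; rfl

theorem act_natural {B' : Type u} [CommRing B'] [Algebra R B'] (φ : B →ₐ[R] B') (δ : E →ₗ[R] E ⊗[R] A)
    (f : A →ₐ[R] B) (z : B ⊗[R] E) :
    VecGrp.Wmap φ (act δ f z) = act δ (φ.comp f) (VecGrp.Wmap φ z) := by
  induction z using TensorProduct.induction_on with
  | zero => simp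
  | tmul b x => rw [act_tmul, VecGrp.Wmap_smul, evalAt_natural, VecGrp.Wmap_tmul, act_tmul]
  | add x y hx hy => simp only [map_add, hx, hy]

/-- Two points applied successively. -/
theorem act_evalAt (δ : E →ₗ[R] E ⊗[R] A) (f g : A →ₐ[R] B) (z : E ⊗[R] A) :
    act δ f (evalAt g z) = TensorProduct.comm R E B
      (LinearMap.lTensor E (LinearMap.mul' R B ∘ₗ TensorProduct.map f.toLinearMap g.toLinearMap)
        (TensorProduct.assoc R E A A (δ.rTensor A z))) := by
  induction z using TensorProduct.induction_on with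
  | zero => simp
  | add x y hx hy => simp only [map_add, hx, hy]
  | tmul y a =>
    rw [evalAt_tmul, act_tmul, LinearMap.rTensor_tmul]
    generalize δ y = w
    induction w using TensorProduct.induction_on with
    | zero => simp
    | add x y hx hy => simp only [map_add, smul_add, TensorProduct.add_tmul, hx, hy]
    | tmul v c => simp [TensorProduct.smul_tmul', mul_comm]

theorem convMul_toLinearMap (f g : WithConv (A →ₐ[R] B)) :
    (f * g).ofConv.toLinearMap = LinearMap.mul' R B ∘ₗ TensorProduct.map f.ofConv.toLinearMap g.ofConv.toLinearMap ∘ₗ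
      CoalgebraStruct.comul (R := R) (A := A) := by
  ext a
  simp only [LinearMap.comp_apply, AlgHom.toLinearMap_apply]
  rw [AlgHom.convMul_apply]
  generalize CoalgebraStruct.comul (R := R) a = w
  induction w using TensorProduct.induction_on with
  | zero => simp
  | tmul u v => simp
  | add u v hu hv => simp only [map_add, hu, hv]

theorem convOne_toLinearMap :
    (1 : WithConv (A →ₐ[R] B)).ofConv.toLinearMap =
      Algebra.linearMap R B ∘ₗ CoalgebraStruct.counit (R := R) (A := A) := by
  ext a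
  simp [AlgHom.convOne_apply]

/-- The two axioms of a comodule. -/
def IsCoaction (δ : E →ₗ[R] E ⊗[R] A) : Prop :=
  ((TensorProduct.assoc R E A A).toLinearMap ∘ₗ δ.rTensor A ∘ₗ δ =
      (CoalgebraStruct.comul (R := R) (A := A)).lTensor E ∘ₗ δ ∧
    (CoalgebraStruct.counit (R := R) (A := A)).lTensor E ∘ₗ δ = (TensorProduct.mk R E R).flip 1)

theorem act_one {δ : E →ₗ[R] E ⊗[R] A} (hδ : IsCoaction δ) :
    act δ (1 : WithConv (A →ₐ[R] B)).ofConv = LinearMap.id := by
  apply LinearMap.ext; intro z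
  induction z using TensorProduct.induction_on with
  | zero => simp
  | add x y hx hy => simp only [map_add, hx, hy]
  | tmul b x =>
    rw [act_tmul, LinearMap.id_apply]
    have h2 := LinearMap.congr_fun hδ.2 x
    simp only [LinearMap.comp_apply, LinearMap.flip_apply, TensorProduct.mk_apply] at h2
    rw [evalAt, convOne_toLinearMap, LinearMap.lTensor_comp, LinearMap.comp_apply, LinearMap.comp_apply, h2]
    simp [TensorProduct.smul_tmul']

theorem act_mul {δ : E →ₗ[R] E ⊗[R] A} (hδ : IsCoaction δ) (f g : WithConv (A →ₐ[R] B)) :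
    act δ (f * g).ofConv = act δ f.ofConv ∘ₗ act δ g.ofConv := by
  apply LinearMap.ext; intro z
  induction z using TensorProduct.induction_on with
  | zero => simp
  | add x y hx hy => simp only [map_add, hx, hy]
  | tmul b x =>
    rw [LinearMap.comp_apply, act_tmul, act_tmul, map_smul, act_evalAt]
    congr 1
    have h1 := LinearMap.congr_fun hδ.1 x
    simp only [LinearMap.comp_apply, LinearEquiv.coe_coe] at h1
    rw [h1, evalAt, convMul_toLinearMap, ← LinearMap.comp_assoc, LinearMap.lTensor_comp]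
    rfl

theorem act_mul_apply {δ : E →ₗ[R] E ⊗[R] A} (hδ : IsCoaction δ) (g h : VecGrp.pt R B ⟶ (gA R A)) (z : B ⊗[R] E) :
    act δ (algOf (g * h)).ofConv z = act δ (algOf g).ofConv (act δ (algOf h).ofConv z) := by
  rw [algOf_mul, act_mul hδ]; rfl

theorem act_one_apply {δ : E →ₗ[R] E ⊗[R] A} (hδ : IsCoaction δ) (z : B ⊗[R] E) :
    act δ (algOf (1 : VecGrp.pt R B ⟶ (gA R A))).ofConv z = z := by
  rw [algOf_one, act_one hδ]; rfl

noncomputable def actEquiv {δ : E →ₗ[R] E ⊗[R] A} (hδ : IsCoaction δ) (g : VecGrp.pt R B ⟶ (gA R A)) :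
    B ⊗[R] E ≃ₗ[B] B ⊗[R] E :=
  LinearEquiv.ofLinear (act δ (algOf g).ofConv) (act δ (algOf g⁻¹).ofConv)
    (LinearMap.ext fun z => by
      rw [LinearMap.comp_apply, ← act_mul_apply hδ, mul_inv_cancel, act_one_apply hδ]; rfl)
    (LinearMap.ext fun z => by
      rw [LinearMap.comp_apply, ← act_mul_apply hδ, inv_mul_cancel, act_one_apply hδ]; rfl)

noncomputable def toGMod {δ : E →ₗ[R] E ⊗[R] A} (hδ : IsCoaction δ) : VecGrp.GMod (gA R A) E where
  ρ B _ _ :=
    { toFun := fun g => actEquiv hδ g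
      map_one' := LinearEquiv.ext fun z => act_one_apply hδ z
      map_mul' := fun g h => LinearEquiv.ext fun z => act_mul_apply hδ g h z }
  naturality φ g x := by
    show VecGrp.Wmap φ (act δ (algOf g).ofConv x) = act δ (algOf (VecGrp.ptMap φ ≫ g)).ofConv (VecGrp.Wmap φ x)
    rw [act_natural, algOf_ptMap]

theorem gmod_ext (m m' : VecGrp.GMod (gA R A) E)
    (h : ∀ (B : Type u) [CommRing B] [Algebra R B] (g : VecGrp.pt R B ⟶ (gA R A)) (x : E),
      m.ρ B g ((1 : B) ⊗ₜ[R] x) = m'.ρ B g ((1 : B) ⊗ₜ[R] x)) : m = m' := by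
  have hρ : @VecGrp.GMod.ρ _ _ _ _ _ _ _ m = @VecGrp.GMod.ρ _ _ _ _ _ _ _ m' := by
    funext B _ _
    apply MonoidHom.ext; intro g
    apply LinearEquiv.ext; intro z
    induction z using TensorProduct.induction_on with
    | zero => simp
    | add x y hx hy => simp only [map_add, hx, hy]
    | tmul b x =>
      rw [show b ⊗ₜ[R] x = b • ((1 : B) ⊗ₜ[R] x) by simp [TensorProduct.smul_tmul'],
        map_smul, map_smul, h B g x]
  cases m; cases m'; cases hρ; rfl

/-- The coaction of a `G`-module. -/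
noncomputable def ofGMod (m : VecGrp.GMod (gA R A) E) : E →ₗ[R] E ⊗[R] A :=
  (TensorProduct.comm R A E).toLinearMap ∘ₗ
    ((m.ρ A (ptOf (WithConv.toConv (AlgHom.id R A)))).toLinearMap.restrictScalars R) ∘ₗ TensorProduct.mk R A E 1

theorem wmap_eq_evalAt (f : A →ₐ[R] B) (z : A ⊗[R] E) :
    VecGrp.Wmap f z = evalAt f (TensorProduct.comm R A E z) := by
  induction z using TensorProduct.induction_on with
  | zero => simp
  | tmul a y => simp
  | add x y hx hy => simp only [map_add, hx, hy]

theorem ρ_one_tmul (m : VecGrp.GMod (gA R A) E) (g : VecGrp.pt R B ⟶ (gA R A)) (x : E) :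
    m.ρ B g ((1 : B) ⊗ₜ[R] x) = evalAt (algOf g).ofConv (ofGMod m x) := by
  have h := m.naturality (algOf g).ofConv (ptOf (WithConv.toConv (AlgHom.id R A))) ((1 : A) ⊗ₜ[R] x)
  rw [ptMap_ptOf, wmap_eq_evalAt, VecGrp.Wmap_tmul, map_one] at h
  simp only [AlgHom.comp_id] at h
  rw [WithConv.toConv_ofConv, ptOf_algOf] at h
  exact h.symm

theorem ρ_eq_act (m : VecGrp.GMod (gA R A) E) (g : VecGrp.pt R B ⟶ (gA R A)) (z : B ⊗[R] E) :
    m.ρ B g z = act (ofGMod m) (algOf g).ofConv z := by
  induction z using TensorProduct.induction_on with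
  | zero => simp
  | add x y hx hy => simp only [map_add, hx, hy]
  | tmul b x =>
    rw [act_tmul, ← ρ_one_tmul, ← map_smul, TensorProduct.smul_tmul', smul_eq_mul, _root_.mul_one]

theorem ofGMod_isCoaction (m : VecGrp.GMod (gA R A) E) : IsCoaction (ofGMod m) := by
  refine ⟨LinearMap.ext fun x => ?_, LinearMap.ext fun x => ?_⟩
  · let i₁ : WithConv (A →ₐ[R] A ⊗[R] A) := WithConv.toConv Algebra.TensorProduct.includeLeft
    let i₂ : WithConv (A →ₐ[R] A ⊗[R] A) := WithConv.toConv Algebra.TensorProduct.includeRight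
    have hm : LinearMap.mul' R (A ⊗[R] A) ∘ₗ TensorProduct.map i₁.ofConv.toLinearMap i₂.ofConv.toLinearMap
        = LinearMap.id := by
      refine TensorProduct.ext' fun a b => ?_
      simp [i₁, i₂]
    have h := ρ_one_tmul m (ptOf i₁ * ptOf i₂) x
    rw [map_mul, LinearEquiv.mul_apply, ρ_one_tmul, ρ_eq_act, algOf_mul, algOf_ptOf, algOf_ptOf, act_evalAt,
      evalAt, convMul_toLinearMap, ← LinearMap.comp_assoc, hm] at h
    have := (TensorProduct.comm R E (A ⊗[R] A)).injective h
    simpa using this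
  · have h := ρ_one_tmul m (1 : VecGrp.pt R R ⟶ (gA R A)) x
    rw [map_one, algOf_one, evalAt, convOne_toLinearMap] at h
    apply (TensorProduct.comm R E R).injective
    have hid : (Algebra.linearMap R R) = LinearMap.id := by ext; rfl
    rw [hid, LinearMap.id_comp] at h
    simpa using h.symm

end helpers

/-- Let R be a commutative ring, A a commutative Hopf algebra over R, G = Spec A the corresponding
affine group scheme over Spec R, and E an R-module. A G-module structure on E (for every R-algebra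
B, a natural action of the B-valued points of G on B ⊗_R E by B-linear automorphisms) and a right
A-comodule structure δ : E → E ⊗_R A are said to correspond when, for every R-algebra B, every
B-valued point g of G with associated algebra map f : A → B and every x ∈ E, the point g sends 1 ⊗ x
to the image of δ(x) under E ⊗_R A → B ⊗_R E, y ⊗ a ↦ f(a) ⊗ y. Then every comodule structure on E
corresponds to exactly one G-module structure, and every G-module structure corresponds to exactly
one R-linear δ : E → E ⊗_R A which is coassociative and counital. -/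
theorem result (R : Type u) [CommRing R] (A : Type u) [CommRing A] [HopfAlgebra R A]
    (E : Type u) [AddCommGroup E] [Module R E] :
    (∀ [HopfRep.Comod R A E], ∃! m : VecGrp.GMod ((Spec (CommRingCat.of A)).asOver (Spec (CommRingCat.of R))) E,
        (∀ (B : Type u) [CommRing B] [Algebra R B] (g : VecGrp.pt R B ⟶ ((Spec (CommRingCat.of A)).asOver (Spec (CommRingCat.of R)))) (x : E),
          m.ρ B g ((1 : B) ⊗ₜ[R] x) =
            (TensorProduct.comm R E B) (LinearMap.lTensor E (Spec.mapMulEquiv.symm g).ofConv.toLinearMap (HopfRep.Comod.coact (k := R) (A := A) x)))) ∧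
    (∀ m : VecGrp.GMod ((Spec (CommRingCat.of A)).asOver (Spec (CommRingCat.of R))) E, ∃! δ : E →ₗ[R] E ⊗[R] A,
        ((TensorProduct.assoc R E A A).toLinearMap ∘ₗ δ.rTensor A ∘ₗ δ =
            (CoalgebraStruct.comul (R := R) (A := A)).lTensor E ∘ₗ δ ∧
          (CoalgebraStruct.counit (R := R) (A := A)).lTensor E ∘ₗ δ = (TensorProduct.mk R E R).flip 1) ∧
        (∀ (B : Type u) [CommRing B] [Algebra R B] (g : VecGrp.pt R B ⟶ ((Spec (CommRingCat.of A)).asOver (Spec (CommRingCat.of R)))) (x : E),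
          m.ρ B g ((1 : B) ⊗ₜ[R] x) =
            (TensorProduct.comm R E B) (LinearMap.lTensor E (Spec.mapMulEquiv.symm g).ofConv.toLinearMap (δ x)))) := by
  refine ⟨?_, fun m => ?_⟩
  · intro inst
    have hδ : IsCoaction (HopfRep.Comod.coact (k := R) (A := A) (V := E)) :=
      ⟨HopfRep.Comod.coassoc, HopfRep.Comod.counit_comp⟩
    refine ⟨toGMod hδ, fun B _ _ g x => ?_, fun m' hm' => gmod_ext _ _ fun B _ _ g x => ?_⟩
    · show act _ (algOf g).ofConv ((1 : B) ⊗ₜ[R] x) = _
      rw [act_tmul, one_smul]; rfl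
    · refine (hm' B g x).trans ?_
      show _ = act _ (algOf g).ofConv ((1 : B) ⊗ₜ[R] x)
      rw [act_tmul, one_smul]; rfl
  · refine ⟨ofGMod m, ⟨ofGMod_isCoaction m, fun B _ _ g x => ρ_one_tmul m g x⟩, fun δ hδ => ?_⟩
    apply LinearMap.ext; intro x
    have h := (hδ.2 A (ptOf (WithConv.toConv (AlgHom.id R A))) x).symm.trans (ρ_one_tmul m _ x)
    rw [show Spec.mapMulEquiv.symm (ptOf (WithConv.toConv (AlgHom.id R A))) = _ from algOf_ptOf _, algOf_ptOf, evalAt] at h
    simpa using (TensorProduct.comm R E A).injective h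

end Groth.Agent.S6094
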