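import Groth.Statements.S9651
import Groth.Agent.FlatLib.GenericReduced
import Mathlib.RingTheory.Spectrum.Prime.ConstructibleSet
import Mathlib.RingTheory.Flat.FaithfullyFlat.Algebra
import Mathlib.RingTheory.Localization.Away.Basic
import Mathlib.RingTheory.FiniteType
-- import your own Groth.Agent.* helpers here

set_option autoImplicit false
universe u
open CAlg

namespace Groth.Agent.S9651
open scoped TensorProduct

/-- Let R → S be a ring map of finite type, f : Spec(S) → Spec(R) the induced map and E ⊆ Spec(S) a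
constructible subset. If ξ ∈ f(E) then f(E) ∩ cl{ξ} contains an open dense subset of the closure
cl{ξ}: some open U of Spec(R) has U ∩ cl{ξ} dense in cl{ξ} and contained in f(E). -/
theorem result {R S : Type u} [CommRing R] [CommRing S] [Algebra R S] [Algebra.FiniteType R S]
    (E : Set (PrimeSpectrum S)) (hE : Topology.IsConstructible E) (ξ : PrimeSpectrum R) (hξ : ξ ∈ PrimeSpectrum.comap (algebraMap R S) '' E) :
    ∃ U : Set (PrimeSpectrum R), IsOpen U ∧ closure ({ξ} : Set (PrimeSpectrum R)) ⊆ closure (U ∩ closure {ξ}) ∧ U ∩ closure {ξ} ⊆ PrimeSpectrum.comap (algebraMap R S) '' E := by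
  classical
  obtain ⟨Cs, hCs⟩ := PrimeSpectrum.exists_constructibleSetData_iff.mpr hE
  obtain ⟨ζ, hζE, rfl⟩ := hξ
  rw [← hCs] at hζE
  obtain ⟨C, hC, hCζ⟩ := Set.mem_iUnion₂.mp hζE
  let p := (PrimeSpectrum.comap (algebraMap R S) ζ).asIdeal
  let a : Ideal S := Ideal.span (Set.range C.g) ⊔ p.map (algebraMap R S)
  have ha : a ≤ ζ.asIdeal := sup_le (Ideal.span_le.mpr hCζ.1) (Ideal.map_le_iff_le_comap.mpr le_rfl)
  let T := Localization.Away (Ideal.Quotient.mk a C.f)
  let D := R ⧸ p
  letI : Algebra D T := (Ideal.Quotient.lift p (algebraMap R T) (fun r hr => by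
    rw [IsScalarTower.algebraMap_apply R (S ⧸ a) T, IsScalarTower.algebraMap_apply R S (S ⧸ a), Ideal.Quotient.algebraMap_eq,
      Ideal.Quotient.eq_zero_iff_mem.mpr (show algebraMap R S r ∈ a from Ideal.mem_sup_right (Ideal.mem_map_of_mem _ hr)), map_zero])).toAlgebra
  haveI : IsScalarTower R D T := IsScalarTower.of_algebraMap_eq fun r => rfl
  haveI : Algebra.FiniteType (S ⧸ a) T := IsLocalization.finiteType_of_monoid_fg (Submonoid.powers (Ideal.Quotient.mk a C.f)) T
  haveI : Algebra.FiniteType R T := Algebra.FiniteType.trans (inferInstance : Algebra.FiniteType R (S ⧸ a)) inferInstance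
  haveI : Algebra.FiniteType D T := Algebra.FiniteType.of_restrictScalars_finiteType R D T
  obtain ⟨f, hf0, -, hfree⟩ := FlatLib.exists_free_fp_algebra (R := D) (S := T) (one_ne_zero (α := D))
  obtain ⟨fl, rfl⟩ := Ideal.Quotient.mk_surjective f
  let L := Localization.Away (Ideal.Quotient.mk p fl)
  obtain ⟨hLfree, -⟩ := hfree L (IsLocalization.Away.algebraMap_isUnit _)
  haveI := hLfree
  let κ := ζ.asIdeal.ResidueField
  let φ0 : S ⧸ a →+* κ := Ideal.Quotient.lift a (algebraMap S κ) fun s hs => Ideal.algebraMap_residueField_eq_zero.mpr (ha hs)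
  let φ : T →+* κ := IsLocalization.Away.lift (Ideal.Quotient.mk a C.f) (g := φ0) (isUnit_iff_ne_zero.mpr fun h => hCζ.2 (by
    simpa [PrimeSpectrum.mem_zeroLocus, φ0] using Ideal.algebraMap_residueField_eq_zero.mp (show algebraMap S κ C.f = 0 from h)))
  letI : Algebra D κ := (φ.comp (algebraMap D T)).toAlgebra
  let φT : T →ₐ[D] κ := { φ with commutes' := fun r => rfl }
  have hfκ : IsUnit (algebraMap D κ (Ideal.Quotient.mk p fl)) := isUnit_iff_ne_zero.mpr fun h => hf0 (Ideal.Quotient.eq_zero_iff_mem.mpr (by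
    have h1 : algebraMap S κ (algebraMap R S fl) = 0 := by
      rw [← h]
      show _ = φ (algebraMap R T fl)
      rw [IsScalarTower.algebraMap_apply R (S ⧸ a) T, IsLocalization.Away.lift_eq]
      rfl
    rw [Ideal.algebraMap_residueField_eq_zero] at h1
    exact h1))
  let φL : L →ₐ[D] κ := { IsLocalization.Away.lift (Ideal.Quotient.mk p fl) hfκ with commutes' := fun r => IsLocalization.Away.lift_eq _ hfκ r }
  haveI : Nontrivial (L ⊗[D] T) := (Algebra.TensorProduct.productMap φL φT).toRingHom.domain_nontrivial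
  haveI : Module.FaithfullyFlat L (L ⊗[D] T) := inferInstance
  refine ⟨(PrimeSpectrum.basicOpen fl : Set (PrimeSpectrum R)), (PrimeSpectrum.basicOpen fl).2, ?_, ?_⟩
  · refine closure_mono (Set.singleton_subset_iff.mpr ⟨fun h => hf0 (Ideal.Quotient.eq_zero_iff_mem.mpr h), subset_closure rfl⟩)
  · rintro y ⟨hyU, hy⟩
    rw [← specializes_iff_mem_closure, ← PrimeSpectrum.le_iff_specializes] at hy
    let yD : D →+* y.asIdeal.ResidueField := Ideal.Quotient.lift p (algebraMap R _) fun r hr => Ideal.algebraMap_residueField_eq_zero.mpr (hy hr)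
    let yL : L →+* y.asIdeal.ResidueField := IsLocalization.Away.lift (Ideal.Quotient.mk p fl) (g := yD)
      (isUnit_iff_ne_zero.mpr fun h => hyU (Ideal.algebraMap_residueField_eq_zero.mp h))
    obtain ⟨w, hw⟩ := PrimeSpectrum.comap_surjective_of_faithfullyFlat (A := L) (B := L ⊗[D] T) (PrimeSpectrum.comap yL ⊥)
    let iT : T →+* L ⊗[D] T := (Algebra.TensorProduct.includeRight (R := D) (A := L) (B := T)).toRingHom
    let z : PrimeSpectrum S := PrimeSpectrum.comap (iT.comp (algebraMap S T)) w
    refine ⟨z, ?_, ?_⟩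
    · rw [← hCs]
      refine Set.mem_iUnion₂.mpr ⟨C, hC, ?_, ?_⟩
      · rintro _ ⟨i, rfl⟩
        show iT (algebraMap S T (C.g i)) ∈ w.asIdeal
        rw [IsScalarTower.algebraMap_apply S (S ⧸ a) T, Ideal.Quotient.algebraMap_eq,
          Ideal.Quotient.eq_zero_iff_mem.mpr (show C.g i ∈ a from Ideal.mem_sup_left (Ideal.subset_span ⟨i, rfl⟩)), map_zero, map_zero]
        exact zero_mem _
      · intro h
        have h1 : iT (algebraMap S T C.f) ∈ w.asIdeal := h rfl
        exact w.2.ne_top (Ideal.eq_top_of_isUnit_mem _ h1 ((IsLocalization.Away.algebraMap_isUnit (S := T) (Ideal.Quotient.mk a C.f)).map iT))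
    · refine PrimeSpectrum.ext (Ideal.ext fun r => ?_)
      show iT (algebraMap S T (algebraMap R S r)) ∈ w.asIdeal ↔ r ∈ y.asIdeal
      rw [← IsScalarTower.algebraMap_apply R S T, IsScalarTower.algebraMap_apply R D T,
        show iT (algebraMap D T (algebraMap R D r)) = algebraMap L (L ⊗[D] T) (algebraMap D L (algebraMap R D r)) from
          (AlgHom.commutes _ _).trans (IsScalarTower.algebraMap_apply D L (L ⊗[D] T) _)]
      have hw' := congrArg (fun q => algebraMap D L (algebraMap R D r) ∈ q.asIdeal) hw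
      simp only [PrimeSpectrum.comap_asIdeal, Ideal.mem_comap] at hw'
      rw [hw', IsLocalization.Away.lift_eq]
      exact Ideal.mem_bot.trans Ideal.algebraMap_residueField_eq_zero

end Groth.Agent.S9651
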