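import Groth.Statements.S11213
import Groth.Agent.ObsLib.Stable
import Mathlib.AlgebraicGeometry.Sites.Fpqc
import Mathlib.AlgebraicGeometry.Morphisms.QuasiSeparated

set_option autoImplicit false
set_option linter.style.haveILetI false
set_option backward.isDefEq.respectTransparency false
set_option backward.isDefEq.respectTransparency.types false
set_option maxHeartbeats 2000000
set_option synthInstance.maxHeartbeats 400000
universe u
open CategoryTheory MonoidalCategory CartesianMonoidalCategory MonObj GrpObj AlgebraicGeometry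
open scoped TensorProduct
open AGF

attribute [-instance] CategoryTheory.Hom.commGroup

namespace Groth.Agent.S11213

attribute [local instance] BorelLib.pTop BorelLib.pTopTensor BlowRegLib.algTop
open Groth.Agent CoactBr

section Points

variable {k : Type u} [Field k] {G : Over (Spec (CommRingCat.of k))}

/-- The underlying point of a rational point lies in a basic open exactly when the value is non-zero. -/
theorem mem_basicOpen_iff (x : VecGrp.pt k k ⟶ G) (f : Γ(G.left, ⊤)) (c : ↥(Spec (CommRingCat.of k))) :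
    x.left c ∈ G.left.basicOpen f ↔ BlowRegLib.evalPt x f ≠ 0 := by
  change ↥(Spec (CommRingCat.of k)) at c
  suffices hgen : ∀ x' : Spec (CommRingCat.of k) ⟶ G.left,
      x' c ∈ G.left.basicOpen f ↔ (Scheme.ΓSpecIso (CommRingCat.of k)).hom (x'.appTop f) ≠ 0 from hgen x.left
  intro x'
  have e : x' c ∈ G.left.basicOpen f ↔ c ∈ (Spec (CommRingCat.of k)).basicOpen (x'.appTop f) := by
    rw [← Scheme.preimage_basicOpen_top]
    exact Iff.rfl
  rw [e]
  by_cases h0 : (Scheme.ΓSpecIso (CommRingCat.of k)).hom (x'.appTop f) = 0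
  · have hz : x'.appTop f = 0 :=
      (Scheme.ΓSpecIso (CommRingCat.of k)).commRingCatIsoToRingEquiv.injective (h0.trans (map_zero _).symm)
    rw [hz, Scheme.basicOpen_zero]
    exact ⟨fun h => h.elim, fun h => absurd (by rw [map_zero]) h⟩
  · have hu : IsUnit (x'.appTop f) := by
      have h1 : IsUnit ((Scheme.ΓSpecIso (CommRingCat.of k)).hom (x'.appTop f)) := (Ne.isUnit h0)
      have h2 := h1.map (Scheme.ΓSpecIso (CommRingCat.of k)).inv.hom
      rwa [← CommRingCat.comp_apply, Iso.hom_inv_id, CommRingCat.id_apply] at h2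
    rw [Scheme.basicOpen_of_isUnit _ hu]
    exact ⟨fun _ => h0, fun _ => trivial⟩

end Points

/-- Let k be an algebraically closed field, G a linear algebraic group over k (an affine smooth group
scheme over k) and H a closed subgroup of G (a smooth closed subgroup scheme, i : H → G), with the
identity component of H reductive, and let X (with action a, base point o) be the quotient G/H.
Assume the following standard results of geometric invariant theory for groups with reductive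
identity component, carried as hypotheses: finite generation of invariants on finitely generated
algebras, and that the quotient map of an affine variety by such a group is surjective and separates
disjoint closed invariant subsets. Then k[G]^H is finitely generated over the constants (H is a
Grosshans subgroup of G) and X is affine. -/
theorem result (k : Type u) [Field k] [IsAlgClosed k]
    (G : Over (Spec (CommRingCat.of k))) [GrpObj G] [IsAffine G.left] [Smooth G.hom]
    (H : Over (Spec (CommRingCat.of k))) [GrpObj H] [Smooth H.hom] (i : H ⟶ G) [IsMonHom i]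
    [IsClosedImmersion i.left]
    (hH : VecGrp.IsReductiveGrp k H) (thmA : VecGrp.ReductiveInvariantsFG k)
    (thmAbi : AGF.ReductiveQuotSurj k) (thmAbiv : AGF.ReductiveQuotSeparates k)
    (X : Over (Spec (CommRingCat.of k))) (a : AlgGrp.Action G X) (o : 𝟙_ (Over (Spec (CommRingCat.of k))) ⟶ X) (hX : AGF.IsQuotient i X a o) :
    AGF.SubringFGOver k G (AGF.rTransInv i) ∧ IsAffine X.left := by
  haveI : IsAffine H.left := isAffine_of_isAffineHom i.left
  obtain ⟨hXl, hflat, hsurjq, hpb⟩ := hX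
  haveI := hXl; haveI := hflat; haveI := hsurjq
  obtain ⟨A, _, _, v, hv, hA, hA'⟩ := BorelLib.exists_setup G
  haveI := hv; haveI := hA; haveI := hA'
  obtain ⟨B, _, _, w, hw, π, -, hB, hB', hπ, hsur⟩ := ObsLib.exists_sub_data v i
  haveI := hw; haveI := hB; haveI := hB'
  obtain ⟨m, hm, hρ⟩ := ObsLib.exists_actMod v w hπ
  let S := BorelLib.ptsSub v i
  have hfix : ∀ f, f ∈ m.fixedSubalgebra hm (𝟙 H) ↔ ObsLib.Inv S f := fun f =>
    (ObsLib.fixedUnder_id_iff w m f).trans ⟨fun h x s hs => by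
      obtain ⟨y, rfl⟩ := (ObsLib.mem_sub_iff v w hπ).1 hs
      rw [← ObsLib.eval_rT, ← hρ, h y], fun h y => by
      rw [hρ]
      exact ObsLib.ext_pts (k := k) fun x => by
        rw [ObsLib.eval_rT]; exact h x _ (ObsLib.pull_mem v w hπ y)⟩
  have hsep : ∀ (Y₂ : Set (BorelLib.Pt k A)), IsClosed Y₂ → (∀ x ∈ Y₂, ∀ s ∈ S, x * s ∈ Y₂) →
      ∀ g ∉ Y₂, ∃ u, ObsLib.Inv S u ∧ g.ofConv u ≠ 0 ∧ ∀ x ∈ Y₂, x.ofConv u = 0 := by
    intro Y₂ hY₂ hst g hg
    let Y₁ : Set (BorelLib.Pt k A) := (fun x => g⁻¹ * x) ⁻¹' (S : Set (BorelLib.Pt k A))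
    have hY₁ : IsClosed Y₁ := (BorelLib.isClosed_ptsSub v).preimage (BorelLib.continuous_const_mul g⁻¹)
    have hd : Disjoint Y₁ Y₂ := Set.disjoint_left.2 fun x hx hx' => hg (by
      have h2 := hst x hx' _ (S.inv_mem hx)
      rwa [_root_.mul_inv_rev, _root_.inv_inv, mul_inv_cancel_left] at h2)
    obtain ⟨e, he1, he0⟩ := ObsLib.exists_sep_closed hY₁ hY₂ hd
    have hrad : ∀ Z : Set (BorelLib.Pt k A), (BorelLib.vanish (k := k) Z).IsRadical := fun Z a ha x hx => by
      obtain ⟨n, hn⟩ := ha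
      have h2 := hn x hx
      rw [map_pow] at h2
      exact (pow_eq_zero_iff'.1 h2).1
    have hstab : ∀ Z : Set (BorelLib.Pt k A), (∀ x ∈ Z, ∀ s ∈ S, x * s ∈ Z) →
        m.IsStable (𝟙 H) ((BorelLib.vanish (k := k) Z).restrictScalars k) := fun Z hZ =>
      ObsLib.isStable_of_pts w m fun y f hf x hx => by
        rw [hρ, ObsLib.eval_rT]
        exact hf _ (hZ x hx _ (ObsLib.pull_mem v w hπ y))
    have htop : BorelLib.vanish (k := k) Y₁ ⊔ BorelLib.vanish (k := k) Y₂ = ⊤ := by
      rw [Ideal.eq_top_iff_one]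
      refine Submodule.mem_sup.2 ⟨1 - e, fun x hx => ?_, e, he0, sub_add_cancel 1 e⟩
      rw [map_sub, map_one, he1 x hx, sub_self]
    have h1 := thmAbiv H hH A m hm inferInstance _ _ (hrad _) (hrad _)
      (hstab Y₁ fun x hx s hs => by
        show g⁻¹ * (x * s) ∈ S
        rw [← _root_.mul_assoc]
        exact S.mul_mem hx hs) (hstab Y₂ hst) htop
    rw [Ideal.eq_top_iff_one] at h1
    obtain ⟨u₁, hu₁, u₂, hu₂, hu⟩ := Submodule.mem_sup.1 h1
    have hu₁' : (u₁ : A) ∈ BorelLib.vanish (k := k) Y₁ := hu₁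
    have hu₂' : (u₂ : A) ∈ BorelLib.vanish (k := k) Y₂ := hu₂
    refine ⟨u₂, (hfix _).1 u₂.2, ?_, hu₂'⟩
    have hgY : g ∈ Y₁ := by
      show g⁻¹ * g ∈ S
      rw [inv_mul_cancel]
      exact S.one_mem
    have hg2 := congrArg (fun t => g.ofConv (Subtype.val t)) hu
    simp only [Subalgebra.coe_add, map_add, Subalgebra.coe_one, map_one, hu₁' g hgY, zero_add] at hg2
    rw [hg2]
    exact one_ne_zero
  refine ⟨(ObsLib.subringFGOver_iff v w hπ).2 ?_, ?_⟩
  · obtain ⟨s, hs, hgen⟩ := thmA H hH A m hm inferInstance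
    refine ⟨s, le_antisymm (Algebra.adjoin_le fun f hf => (hfix f).1 (hs hf)) fun f hf => hgen ((hfix f).2 hf)⟩
  -- the orbit map is an effective epimorphism
  let q : G.left ⟶ X.left := (a.orbitMap o).left
  haveI : IsLocallyNoetherian X.left := LocallyOfFiniteType.isLocallyNoetherian X.hom
  haveI : Flat q := hflat
  haveI : Surjective q := hsurjq
  haveI : QuasiCompact q := quasiCompact_of_compactSpace q
  let mult : G ⊗ H ⟶ G := (G ◁ i) ≫ μ[G]
  have hpb' : IsPullback (fst G H).left mult.left q q := hpb.map (Over.forget _)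
  -- the map to the spectrum of the invariants
  let Q : G.left ⟶ Spec (CommRingCat.of ↥(AGF.rTransInv i)) :=
    G.left.toSpecΓ ≫ Spec.map (CommRingCat.ofHom (AGF.rTransInv i).subtype)
  have hQtop : ∀ t : ↥(AGF.rTransInv i),
      Q.appTop ((Scheme.ΓSpecIso (CommRingCat.of ↥(AGF.rTransInv i))).inv t) = (t : Γ(G.left, ⊤)) := by
    intro t
    have e : (Scheme.ΓSpecIso (CommRingCat.of ↥(AGF.rTransInv i))).inv ≫ Q.appTop =
        CommRingCat.ofHom (AGF.rTransInv i).subtype := by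
      rw [Scheme.Hom.comp_appTop, ← Category.assoc, ← Scheme.ΓSpecIso_inv_naturality, Category.assoc,
        Scheme.toSpecΓ_appTop, Iso.inv_hom_id, Category.comp_id]
    exact congrArg (fun f : CommRingCat.of ↥(AGF.rTransInv i) ⟶ Γ(G.left, ⊤) => f t) e
  have hQinv : (fst G H).left ≫ Q = mult.left ≫ Q := by
    refine ext_of_isAffine ?_
    ext t
    obtain ⟨t, rfl⟩ := (Scheme.ΓSpecIso (CommRingCat.of ↥(AGF.rTransInv i))).symm.commRingCatIsoToRingEquiv.surjective t
    show ((fst G H).left ≫ Q).appTop _ = (mult.left ≫ Q).appTop _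
    rw [Scheme.Hom.comp_appTop, Scheme.Hom.comp_appTop, CommRingCat.comp_apply, CommRingCat.comp_apply]
    show (fst G H).left.appTop (Q.appTop ((Scheme.ΓSpecIso _).inv t)) =
      mult.left.appTop (Q.appTop ((Scheme.ΓSpecIso _).inv t))
    rw [hQtop]
    exact (t.2).symm
  have hdesc : ∀ {Z : Scheme.{u}} (g₁ g₂ : Z ⟶ G.left), g₁ ≫ q = g₂ ≫ q → g₁ ≫ Q = g₂ ≫ Q := fun g₁ g₂ h => by
    rw [← hpb'.lift_fst g₁ g₂ h]
    conv_rhs => rw [← hpb'.lift_snd g₁ g₂ h]
    rw [Category.assoc, Category.assoc, hQinv]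
  let ψ := EffectiveEpi.desc q Q hdesc
  have hψ : q ≫ ψ = Q := EffectiveEpi.fac q Q hdesc
  let φ : ↥(AGF.rTransInv i) →+* Γ(X.left, ⊤) :=
    ((Scheme.ΓSpecIso (CommRingCat.of ↥(AGF.rTransInv i))).inv ≫ ψ.appTop).hom
  have hφ : ∀ t, q.appTop (φ t) = (t : Γ(G.left, ⊤)) := fun t => by
    refine Eq.trans ?_ (hQtop t)
    rw [← hψ, Scheme.Hom.comp_appTop]
    rfl
  -- rational points
  have hinv : ∀ (x s : BorelLib.Pt k A), s ∈ S → ∀ c, q ((ObsLib.ptk v (x * s)).left c) = q ((ObsLib.ptk v x).left c) := by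
    intro x s hs c
    obtain ⟨h, hh⟩ := (ObsLib.mem_ptsSub' v).1 hs
    have e1 : lift (ObsLib.ptk v x) h ≫ mult = ObsLib.ptk v (x * s) := by
      rw [ObsLib.ptk_mul, ← hh, Hom.mul_def]
      simp only [mult, lift_whiskerLeft_assoc]
    have e2 : ObsLib.ptk v (x * s) ≫ a.orbitMap o = ObsLib.ptk v x ≫ a.orbitMap o := by
      rw [← e1, Category.assoc, ← hpb.w, lift_fst_assoc]
    exact congrArg (fun f : VecGrp.pt k k ⟶ X => f.left c) e2
  let c₀ : ↥(VecGrp.pt k k).left := IsLocalRing.closedPoint k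
  let P : BorelLib.Pt k A → ↥G.left := fun x => (ObsLib.ptk v x).left c₀
  haveI : IsIso v.hom.left := (Over.forget _).map_isIso v.hom
  have hP : ∀ x, P x = v.hom.left (BorelLib.toP x) := fun x => rfl
  have hPc : Continuous P := v.hom.left.continuous.comp continuous_induced_dom
  have hPex : ∀ Z : Set ↥G.left, Z.Nonempty → IsLocallyClosed Z → ∃ x, P x ∈ Z := fun Z ⟨z, hz⟩ hZ => by
    obtain ⟨z', rfl⟩ := v.hom.left.surjective z
    exact BorelLib.exists_pt_mem (k := k) (R := A) (Z := v.hom.left ⁻¹' Z) ⟨z', hz⟩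
      (hZ.preimage v.hom.left.continuous)
  have hval : ∀ x f, P x ∈ G.left.basicOpen f ↔ x.ofConv (ObsLib.ev v f) ≠ 0 := fun x f => by
    rw [← ObsLib.evalPt_ptk]
    exact mem_basicOpen_iff (ObsLib.ptk v x) f c₀
  let Ua : Set ↥(AGF.rTransInv i) := {t | IsAffineOpen (X.left.basicOpen (φ t))}
  -- invariants with affine non-vanishing locus at every point
  have hloc : ∀ g : BorelLib.Pt k A, ∃ t ∈ Ua, g.ofConv (ObsLib.ev v (t : Γ(G.left, ⊤))) ≠ 0 := by
    intro g
    obtain ⟨V, hV, hgV, -⟩ := exists_isAffineOpen_mem_and_subset (x := q (P g)) (U := (⊤ : X.left.Opens)) trivial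
    let Y₂ : Set (BorelLib.Pt k A) := P ⁻¹' (q ⁻¹' (V : Set X.left)ᶜ)
    obtain ⟨u, hu, hgu, hu0⟩ := hsep Y₂ ((V.2.isClosed_compl.preimage q.continuous).preimage hPc)
      (fun x hx s hs hmem => hx (by rw [← hinv x s hs c₀]; exact hmem)) g (fun h => h hgV)
    obtain ⟨f, rfl⟩ := (ObsLib.ev_bijective v).2 u
    have hfT : f ∈ AGF.rTransInv i := (AGF.mem_rTransInv_iff i f).2 ((ObsLib.isRTransInv_iff_inv v w hπ f).2 hu)
    refine ⟨⟨f, hfT⟩, ?_, hgu⟩
    have hpre : q ⁻¹ᵁ X.left.basicOpen (φ ⟨f, hfT⟩) = G.left.basicOpen f := by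
      rw [Scheme.preimage_basicOpen_top, hφ]
    have hle : X.left.basicOpen (φ ⟨f, hfT⟩) ≤ V := by
      intro y hy
      obtain ⟨z, rfl⟩ := q.surjective y
      by_contra hzV
      obtain ⟨x, hx1, hx2⟩ := hPex ((G.left.basicOpen f : Set G.left) ∩ q ⁻¹' (V : Set X.left)ᶜ)
        ⟨z, (show z ∈ G.left.basicOpen f by rw [← hpre]; exact hy), hzV⟩
        ((G.left.basicOpen f).2.isLocallyClosed.inter (V.2.isClosed_compl.preimage q.continuous).isLocallyClosed)
      exact (hval x f).1 hx1 (hu0 x hx2)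
    show IsAffineOpen _
    have e : X.left.basicOpen (X.left.presheaf.map (homOfLE le_top).op (φ ⟨f, hfT⟩)) =
        V ⊓ X.left.basicOpen (φ ⟨f, hfT⟩) := Scheme.basicOpen_res _ _ _
    rw [show X.left.basicOpen (φ ⟨f, hfT⟩) = V ⊓ X.left.basicOpen (φ ⟨f, hfT⟩) from (inf_eq_right.2 hle).symm, ← e]
    exact hV.basicOpen _
  -- these invariants generate the unit ideal
  let Tm := m.fixedSubalgebra hm (𝟙 H)
  let eA : Γ(G.left, ⊤) ≃ₐ[k] A := AlgEquiv.ofBijective (ObsLib.ev v) (ObsLib.ev_bijective v)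
  let κ : ↥Tm →+* ↥(AGF.rTransInv i) := ((eA.symm.toAlgHom.comp Tm.val) : ↥Tm →+* Γ(G.left, ⊤)).codRestrict _
    fun t => (AGF.mem_rTransInv_iff i _).2 ((ObsLib.isRTransInv_iff_inv v w hπ _).2 (by
      show ObsLib.Inv S (eA (eA.symm (t : A)))
      rw [AlgEquiv.apply_symm_apply]
      exact (hfix _).1 t.2))
  have hspan : Ideal.span (κ ⁻¹' Ua) = ⊤ := by
    by_contra hne
    obtain ⟨M, hM, hle⟩ := Ideal.exists_le_maximal _ hne
    obtain ⟨p, hp, hpq⟩ := thmAbi H hH A m hm inferInstance M hM.isPrime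
    obtain ⟨g, hg⟩ := BorelLib.exists_pt_mem (k := k) (R := A) (Z := PrimeSpectrum.zeroLocus (p : Set A))
      ⟨⟨p, hp⟩, fun _ h => h⟩ (PrimeSpectrum.isClosed_zeroLocus _).isLocallyClosed
    obtain ⟨t, ht, hgt⟩ := hloc g
    have htm : ObsLib.ev v (t : Γ(G.left, ⊤)) ∈ Tm :=
      (hfix _).2 ((ObsLib.isRTransInv_iff_inv v w hπ _).1 ((AGF.mem_rTransInv_iff i _).1 t.2))
    have hκ : κ ⟨_, htm⟩ = t := Subtype.ext (eA.symm_apply_apply (t : Γ(G.left, ⊤)))
    have h1 : (⟨_, htm⟩ : ↥Tm) ∈ M := hle (Ideal.subset_span (show κ ⟨_, htm⟩ ∈ Ua by rw [hκ]; exact ht))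
    rw [← hpq] at h1
    have h2 : ObsLib.ev v (t : Γ(G.left, ⊤)) ∈ (BorelLib.toP g).asIdeal := hg h1
    rw [BorelLib.toP_asIdeal, RingHom.mem_ker] at h2
    exact hgt h2
  refine isAffine_of_isAffineOpen_basicOpen (φ '' Ua) ?_ (by rintro _ ⟨t, ht, rfl⟩; exact ht)
  refine top_le_iff.1 ((le_of_eq ?_).trans ((Ideal.span_mono (Set.image_mono (Set.image_preimage_subset κ Ua)))))
  rw [← Set.image_comp, ← RingHom.coe_comp, ← Ideal.map_span, hspan, Ideal.map_top]

end Groth.Agent.S11213
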