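import Groth.Statements.S2568
import Mathlib
import Groth.Agent.UOpenLib.Unibranch
import Groth.Agent.UOpenLib.UnibranchAffine

set_option autoImplicit false
open CategoryTheory AlgebraicGeometry
universe u
open EGA43

namespace Groth.Agent.S2568

/-- Chevalley's criterion in the case of irreducible source and base: let X and Y be irreducible
schemes, all local rings of Y geometrically unibranch, and f : X ⟶ Y a dominant morphism locally of
finite type such that for every point x the local dimension at x of the fibre through x equals the
dimension of the generic fibre (the fibre over the image of the generic point of X). Then f is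
universally open. -/
theorem result {X Y : Scheme.{u}} [IrreducibleSpace X] [IrreducibleSpace Y]
    (hY : ∀ y : Y, CAlg2.IsGeomUnibranch (Y.presheaf.stalk y)) (f : X ⟶ Y) [LocallyOfFiniteType f] [IsDominant f]
    (h : ∀ x : X, FlatMor.fibreDimAt f x = topologicalKrullDim ↥(f.fiber (f.base (genericPoint X)))) :
    UniversallyOpen f := by
  refine ⟨fun P Y' i₁ g f' sq => isOpenMap_iff_nhds_le.mpr fun w s hs => ?_⟩
  refine Filter.mem_of_superset (UOpenLib.IsUnivOpenAt.isOpenAt (?_ : EGA43.IsUnivOpenAt f (i₁ w)) sq.flip w rfl _ hs)
    (Set.image_preimage_subset _ _)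
  generalize i₁ w = x
  obtain ⟨x₀, hx₀f, hx₀x, hx₀max, hx₀d⟩ := UOpenLib.exists_max_fibreDimAt f x
  refine UOpenLib.isUnivOpenAt_of_specializes f hx₀x hx₀f ?_
  obtain ⟨_, ⟨V, hV, rfl⟩, hxV, -⟩ :=
    Y.isBasis_affineOpens.exists_subset_of_mem_open (Set.mem_univ (f.base x₀)) isOpen_univ
  have hgenY : ∀ y : Y, f.base (genericPoint X) ⤳ y := fun y => specializes_iff_mem_closure.mpr (by
    refine (closure_minimal ?_ isClosed_closure) (f.denseRange y)
    rintro _ ⟨z, rfl⟩
    exact ((genericPoint_specializes z).map f.continuous).mem_closure)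
  refine UOpenLib.isUnivOpenAt_of_unibranch_affine f x₀ hV hxV (hY _) (genericPoint_specializes x₀) (fun y _ => hgenY y) ?_
  rw [UOpenLib.fibreDimAt_eq_of_max f hx₀max, hx₀d, h x]
  unfold UOpenLib.fibreClosureDim
  have hu : closure ({f.asFiber (genericPoint X)} : Set (f.fiber (f.base (genericPoint X)))) = Set.univ := by
    refine Set.eq_univ_of_forall fun z => specializes_iff_mem_closure.mp ?_
    refine (f.fiberι (f.base (genericPoint X))).isEmbedding.isInducing.specializes_iff.mp ?_
    rw [f.fiberι_asFiber]
    exact genericPoint_specializes _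
  rw [hu]
  exact ((Homeomorph.Set.univ _).isHomeomorph.topologicalKrullDim_eq _).ge

end Groth.Agent.S2568
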