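import Groth.Statements.S1900
import Mathlib
import Groth.Agent.CycP1Lib.Subscheme
-- import your own Groth.Agent.* helpers here

set_option autoImplicit false
universe u
open CategoryTheory AlgebraicGeometry
open CategoryTheory.Limits
open Cyc

namespace Groth.Agent.S1900

/-- Let W → P^1_X be a closed immersion with W integral of δ-dimension k + 1 (for the dimension function
on P^1_X induced from δ on X), whose generic point lies neither over the zero section nor over the
section at infinity. Let W_0, W_∞ → X be the pullbacks of W along the two sections X → P^1_X (closed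
subschemes of X). Then [W_0]_k ∼_rat [W_∞]_k on X. A pair (X, δ) with Cyc.IsSetup plays the role of
a scheme locally of finite type over a fixed base with a dimension function (X locally Noetherian
with universally catenary local rings, δ a dimension function), and Cyc.DeltaCompat records that the
dimension function upstairs is the induced one. -/
theorem result (X : Scheme.{u}) (δ : X → ℤ) (hX : Cyc.IsSetup X δ) (δP : ↥(CohB1.ProjSpaceOver 1 X) → ℤ) (hP : Cyc.DeltaCompat (CohB1.ProjSpaceOver.toBase 1 X) δP δ) (k : ℤ) (W : Scheme.{u}) [IsIntegral W] (ι : W ⟶ CohB1.ProjSpaceOver 1 X) [IsClosedImmersion ι] (hW : δP (ι (genericPoint W)) = k + 1) (h0 : ι (genericPoint W) ∉ Set.range ⇑(P1.sect X 0)) (h1 : ι (genericPoint W) ∉ Set.range ⇑(P1.sect X 1)) (α β : AlgebraicCycle X ℤ) (hα : ⇑α = Cyc.subschemeFun δ k (pullback.snd ι (P1.sect X 0))) (hβ : ⇑β = Cyc.subschemeFun δ k (pullback.snd ι (P1.sect X 1))) : Cyc.RatEquiv δ k α β := by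
  have hP' := CycP1Lib.isSetup_proj hX hP
  haveI := hP'.1
  haveI := LocallyOfFiniteType.isLocallyNoetherian ι
  have hgen : ∀ z : W, z ≠ genericPoint W → δP (ι z) < k + 1 := fun z hz => by
    rw [← hW]
    exact (hP'.2.2 _ _ ((genericPoint_specializes z).map ι.continuous)
      fun h => hz (ι.isEmbedding.injective h).symm).1
  refine CycP1Lib.ratEquiv_subscheme hX hP ι (fun z => ?_) (fun z hz => ?_) (fun z hz => Or.inl ?_) α β hα hβ
  · rcases eq_or_ne z (genericPoint W) with rfl | h
    · exact hW.le
    · exact (hgen z h).le
  · rcases eq_or_ne z (genericPoint W) with rfl | h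
    · exact absurd hz (by rintro (h | h); exacts [h0 h, h1 h])
    · have := hgen z h
      omega
  · obtain ⟨hp, m, hm⟩ := isAssociatedPrime_iff.1 hz
    have hbot : ∀ a, a ∈ IsLocalRing.maximalIdeal (W.presheaf.stalk z) → a = 0 := fun a ha => by
      have hm0 : m ≠ 0 := fun h => hp.ne_top (by
        rw [hm, h, eq_top_iff]
        intro r _
        rw [Submodule.mem_colon_singleton, smul_zero]
        exact zero_mem _)
      rw [hm, Submodule.mem_colon_singleton, Submodule.mem_bot, smul_eq_mul] at ha
      exact (mul_eq_zero.1 ha).resolve_right hm0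
    have hgz : z = genericPoint W := by
      have e : CycDivLib.primeOf (genericPoint_specializes z) = IsLocalRing.closedPoint (W.presheaf.stalk z) :=
        PrimeSpectrum.ext (le_antisymm (IsLocalRing.le_maximalIdeal (CycDivLib.primeOf _).2.ne_top)
          fun a ha => by rw [hbot a ha]; exact zero_mem _)
      have h := CycDivLib.stalkPt_primeOf (genericPoint_specializes z)
      rw [e] at h
      exact Scheme.fromSpecStalk_closedPoint.symm.trans h
    subst hgz
    rintro (h | h)
    exacts [h0 h, h1 h]

end Groth.Agent.S1900
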