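import Groth.Statements.S3362
import Groth.Agent.PunctDimLib.Basic
import Groth.Agent.CatLib.Completion
import Groth.Agent.CatLib.Flat
import Groth.Agent.S11670

set_option autoImplicit false
universe u
open CategoryTheory CategoryTheory.Limits AlgebraicGeometry TopologicalSpace
open LefX

namespace Groth.Agent.S3362

theorem isCatenary_complete (A : Type u) [CommRing A] [IsNoetherianRing A] [IsLocalRing A]
    [IsAdicComplete (IsLocalRing.maximalIdeal A) A] : CAlg.IsCatenary A :=
  CatLib.isCatenary_of_ringEquiv (AdicCompletion.ofAlgEquiv (IsLocalRing.maximalIdeal A)).symm.toRingEquiv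
    (CatLib.isCatenary_cpl A)

theorem wbot_cancel {x : WithBot ℕ∞} {a b : ℕ} (h : ((a + b : ℕ) : WithBot ℕ∞) ≤ x + (b : WithBot ℕ∞)) :
    (a : WithBot ℕ∞) ≤ x := by
  rcases x with _ | _ | x
  · rw [WithBot.none_eq_bot, WithBot.bot_add, le_bot_iff] at h
    exact absurd h (WithBot.coe_ne_bot)
  · exact WithBot.coe_le_coe.2 le_top
  · change ((a + b : ℕ) : WithBot ℕ∞) ≤ ((x + b : ℕ) : WithBot ℕ∞) at h
    show ((a : ℕ) : WithBot ℕ∞) ≤ ((x : ℕ) : WithBot ℕ∞)
    exact Nat.cast_le.2 (by have := Nat.cast_le.1 h; omega)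

theorem dim_quot_minimal (A : Type u) [CommRing A] [IsNoetherianRing A] [IsLocalRing A]
    [IsAdicComplete (IsLocalRing.maximalIdeal A) A] (a : Ideal A) (s : Finset A) (ha : a = Ideal.span (s : Set A))
    {n : ℕ} (hn : ∀ q ∈ minimalPrimes A, (n : WithBot ℕ∞) ≤ ringKrullDim (A ⧸ q)) (P : Ideal A) (hP : P ∈ a.minimalPrimes) :
    (n : WithBot ℕ∞) ≤ ringKrullDim (A ⧸ P) + (s.card : WithBot ℕ∞) := by
  classical
  haveI := hP.1.1
  obtain ⟨q, hq, hqP⟩ := Ideal.exists_minimalPrimes_le (I := (⊥ : Ideal A)) (J := P) bot_le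
  haveI : q.IsPrime := hq.1.1
  haveI : IsLocalRing (A ⧸ q) := IsLocalRing.of_surjective' _ Ideal.Quotient.mk_surjective
  let P' := P.map (Ideal.Quotient.mk q)
  haveI : P'.IsPrime := Ideal.map_isPrime_of_surjective Ideal.Quotient.mk_surjective (by rwa [Ideal.mk_ker])
  have hcomap : P'.comap (Ideal.Quotient.mk q) = P := by
    rw [Ideal.comap_map_of_surjective _ Ideal.Quotient.mk_surjective, ← RingHom.ker_eq_comap_bot, Ideal.mk_ker,
      sup_eq_left.2 hqP]
  have hmin : P' ∈ (Ideal.span ((s.image (Ideal.Quotient.mk q) : Finset (A ⧸ q)) : Set (A ⧸ q))).minimalPrimes := by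
    rw [Finset.coe_image, ← Ideal.map_span, ← ha]
    refine ⟨⟨inferInstance, Ideal.map_mono hP.1.2⟩, fun J hJ hJP => ?_⟩
    haveI := hJ.1
    have h1 : J.comap (Ideal.Quotient.mk q) ≤ P := hcomap ▸ Ideal.comap_mono hJP
    have h2 := hP.2 ⟨Ideal.IsPrime.comap _, Ideal.map_le_iff_le_comap.1 hJ.2⟩ h1
    exact (Ideal.map_mono h2).trans Ideal.map_comap_le
  have hht : P'.height ≤ (s.card : ℕ∞) := by
    exact (Ideal.height_le_card_of_mem_minimalPrimes_span_finset hmin).trans (Nat.cast_le.2 Finset.card_image_le)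
  have h := CatLib.ringKrullDim_quotient_add_height_of_domain (CatLib.isCatenary_quotient q (isCatenary_complete A)) P'
  rw [ringKrullDim_eq_of_ringEquiv (DoubleQuot.quotQuotEquivQuotOfLE hqP)] at h
  refine (hn q hq).trans (h ▸ add_le_add le_rfl ?_)
  exact WithBot.coe_le_coe.2 hht


/-- Let A be a complete Noetherian local ring, X' the punctured spectrum of A and k ≥ 1. Assume (a_k)
every irreducible component of X' has dimension ≥ k + 1, and (b_k) X' is connected in dimension ≥ k,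
i.e. X' minus any closed subset of dimension < k is connected. Let 0 ≤ m ≤ k and let f_1, …, f_m be
elements of the maximal ideal, B = A/(f_1, …, f_m), Y' the punctured spectrum of B. Then Y'
satisfies (a_{k−m}) and (b_{k−m}); in particular Y' is connected. -/
theorem result (A : Type u) [CommRing A] [IsNoetherianRing A] [IsLocalRing A] [IsAdicComplete (IsLocalRing.maximalIdeal A) A] (k : ℕ) (hk : 1 ≤ k) (ha : ∀ Z ∈ irreducibleComponents ↥(FEt.puncturedSpec A), ((k + 1 : ℕ) : WithBot ℕ∞) ≤ topologicalKrullDim ↥Z) (hb : LefX.ConnectedInDim ↥(FEt.puncturedSpec A) k) (m : ℕ) (hm : m ≤ k) (f : Fin m → A) (hf : ∀ i, f i ∈ IsLocalRing.maximalIdeal A) [IsLocalRing (A ⧸ Ideal.span (Set.range f))] : (∀ Z ∈ irreducibleComponents ↥(FEt.puncturedSpec (A ⧸ Ideal.span (Set.range f))), ((k - m + 1 : ℕ) : WithBot ℕ∞) ≤ topologicalKrullDim ↥Z) ∧ LefX.ConnectedInDim ↥(FEt.puncturedSpec (A ⧸ Ideal.span (Set.range f))) (k - m) := by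
  classical
  let B := A ⧸ Ideal.span (Set.range f)
  -- the punctured spectra
  have hb' : ∀ W : Set (PunctDimLib.punct A), IsClosed W → topologicalKrullDim W < (k : WithBot ℕ∞) →
      IsConnected Wᶜ := hb
  have ha' : ∀ W ∈ irreducibleComponents (PunctDimLib.punct A), ((k + 1 : ℕ) : WithBot ℕ∞) ≤ topologicalKrullDim W := ha
  have hconn : ((k + 1 : ℕ) : WithBot ℕ∞) ≤ LocCoh.connDim (PrimeSpectrum A) := PunctDimLib.le_connDim hb'
  have hpne : Nonempty (PunctDimLib.punct A) := by
    obtain ⟨x, -⟩ := (hb' ∅ isClosed_empty (by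
      haveI : IsEmpty (TopologicalSpace.IrreducibleCloseds (∅ : Set (PunctDimLib.punct A))) := ⟨fun s => s.2.1.elim fun x _ => x.2⟩
      rw [topologicalKrullDim, Order.krullDim_eq_bot]; exact WithBot.bot_lt_coe _)).1
    exact ⟨x⟩
  have hmin : ∀ q ∈ minimalPrimes A, ((k + 2 : ℕ) : WithBot ℕ∞) ≤ ringKrullDim (A ⧸ q) := by
    intro q hq
    haveI : q.IsPrime := hq.1.1
    have hC : HLVTLib.Conn.V q ∈ irreducibleComponents (PrimeSpectrum A) := by
      rw [HLVTLib.Conn.components_eq]; exact ⟨q, hq, rfl⟩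
    have hne : (Subtype.val ⁻¹' HLVTLib.Conn.V q : Set (PunctDimLib.punct A)).Nonempty := by
      refine ⟨⟨⟨q, inferInstance⟩, fun h => ?_⟩, fun a ha => ha⟩
      obtain ⟨y, hy⟩ := hpne
      have hqm : q = IsLocalRing.maximalIdeal A := congrArg PrimeSpectrum.asIdeal (h : (⟨q, inferInstance⟩ : PrimeSpectrum A) = IsLocalRing.closedPoint A)
      refine hy ?_
      refine PrimeSpectrum.ext (le_antisymm (IsLocalRing.le_maximalIdeal y.isPrime.ne_top) ?_)
      show IsLocalRing.maximalIdeal A ≤ y.asIdeal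
      rw [← hqm]
      exact hq.2 ⟨y.isPrime, bot_le⟩ (hqm ▸ IsLocalRing.le_maximalIdeal y.isPrime.ne_top)
    have h1 := ha' _ (PunctDimLib.component_restrict hC hne)
    rw [← PunctDimLib.le_dim_iff (PrimeSpectrum.isClosed_zeroLocus _)
      (PunctDimLib.closedPoint_mem (PrimeSpectrum.isClosed_zeroLocus _) hC.1.1) (k + 1),
      HLVTLib.Conn.dim_zeroLocus] at h1
    exact h1
  have hsub : ((k + 2 : ℕ) : WithBot ℕ∞) ≤ LocCoh.subdim (PrimeSpectrum A) := HLVTLib.Conn.le_subdim hmin
  let s : Finset A := Finset.univ.image f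
  have hs : Ideal.span (s : Set A) = Ideal.span (Set.range f) := by
    rw [Finset.coe_image, Finset.coe_univ, Set.image_univ]
  have hcard : s.card ≤ m := Finset.card_image_le.trans (Finset.card_fin m).le
  have hI : Ideal.span (Set.range f) ≠ ⊤ := fun h => (IsLocalRing.maximalIdeal.isMaximal A).ne_top
    (top_le_iff.1 (h ▸ Ideal.span_le.2 (by rintro _ ⟨i, rfl⟩; exact hf i)))
  have hB : ((k - m + 1 : ℕ) : WithBot ℕ∞) ≤ LocCoh.connDim (PrimeSpectrum B) := by
    have h1 : ((k + 2 : ℕ) : WithBot ℕ∞) ≤ LocCoh.connDim (PrimeSpectrum B) + (s.card : WithBot ℕ∞) + 1 := by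
      refine le_trans (le_min ?_ hsub) (Groth.Agent.S11670.result A _ hI s (by rw [hs]))
      refine le_trans (le_of_eq ?_) (add_le_add hconn le_rfl)
      exact (Nat.cast_add (k + 1) 1).trans (by rw [Nat.cast_one])
    refine wbot_cancel (b := m + 1) ?_
    rw [show k - m + 1 + (m + 1) = k + 2 by omega, Nat.cast_add m 1, Nat.cast_one, ← add_assoc]
    refine h1.trans (add_le_add (add_le_add le_rfl ?_) le_rfl)
    exact_mod_cast hcard
  constructor
  · intro W hW
    have hW' : W ∈ irreducibleComponents (PunctDimLib.punct B) := hW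
    obtain ⟨C, hC, hc, hCW⟩ := PunctDimLib.component_extend hW'
    show _ ≤ topologicalKrullDim ↥(W : Set (PunctDimLib.punct B))
    rw [← hCW]
    refine (PunctDimLib.le_dim_iff (isClosed_of_mem_irreducibleComponents C hC) hc (k - m + 1)).1 ?_
    rw [HLVTLib.Conn.components_eq] at hC
    obtain ⟨P, hP, rfl⟩ := hC
    rw [HLVTLib.Conn.dim_zeroLocus]
    have hPc : P.comap (Ideal.Quotient.mk (Ideal.span (Set.range f))) ∈ (Ideal.span (Set.range f)).minimalPrimes := by
      haveI : P.IsPrime := hP.1.1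
      refine ⟨⟨Ideal.IsPrime.comap _, fun a ha => Ideal.mem_comap.2 (by
        rw [Ideal.Quotient.eq_zero_iff_mem.2 ha]; exact zero_mem _)⟩, fun J hJ hJP => ?_⟩
      haveI := hJ.1
      have h2 : J.map (Ideal.Quotient.mk (Ideal.span (Set.range f))) ≤ P :=
        Ideal.map_le_iff_le_comap.2 hJP
      haveI := Ideal.map_isPrime_of_surjective (I := J) (f := Ideal.Quotient.mk (Ideal.span (Set.range f)))
        Ideal.Quotient.mk_surjective (by rw [Ideal.mk_ker]; exact hJ.2)
      have h3 := hP.2 ⟨inferInstance, bot_le⟩ h2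
      refine (Ideal.comap_mono h3).trans ?_
      rw [Ideal.comap_map_of_surjective _ Ideal.Quotient.mk_surjective, ← RingHom.ker_eq_comap_bot, Ideal.mk_ker,
        sup_eq_left.2 hJ.2]
    have h := dim_quot_minimal A _ s hs.symm hmin _ hPc
    rw [ringKrullDim_eq_of_ringEquiv (RingEquiv.ofBijective
      (Ideal.quotientMap P (Ideal.Quotient.mk (Ideal.span (Set.range f))) le_rfl)
      ⟨Ideal.quotientMap_injective, Ideal.quotientMap_surjective Ideal.Quotient.mk_surjective⟩)] at h
    refine wbot_cancel (b := m) (le_trans (le_trans (le_of_eq ?_) h) (add_le_add le_rfl ?_))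
    · congr 1; omega
    · exact_mod_cast hcard
  · intro W hW hd
    exact PunctDimLib.connected_of_le_connDim (A := B) hB (W := W) hW hd

end Groth.Agent.S3362
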