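import Groth.Statements.S17613
import Groth.Agent.PairHensLib.Limit
import Groth.Agent.PairHensLib.Api
-- import your own Groth.Agent.* helpers here

set_option autoImplicit false
universe u
open Hensel

namespace Groth.Agent.S17613

/-- Let (A, I) be a Henselian pair and let B be a Henselization of the pair (R₀, IR₀) for a finitely
presented A-algebra R₀ (so A → B is Henselian finitely presented). Let (R_a) be a directed system of
A-algebras with A-compatible transition maps such that each (R_a, IR_a) is a Henselian pair, and let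
L be its direct limit with the induced A-algebra structure. Then the canonical map from the colimit
of the Hom_A(B, R_a) to Hom_A(B, L) is bijective: every A-algebra map B → L factors through some
R_a, and two A-algebra maps B → R_a whose composites with R_a → L agree become equal after passing
to some R_b. (Index set in the universe of the rings.) -/
theorem result (A : Type u) [CommRing A] (I : Ideal A)
    [HenselianRing A I] (R₀ : Type u) [CommRing R₀] [Algebra A R₀] [Algebra.FinitePresentation A R₀]
    (B : Type u) [CommRing B] [Algebra R₀ B] [Algebra A B] [IsScalarTower A R₀ B]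
    (hB : Hens2.IsPairHenselization R₀ (I.map (algebraMap A R₀)) B)
    {κ : Type u} [Preorder κ] [IsDirectedOrder κ] [Nonempty κ]
    (Ra : κ → Type u) [∀ a, CommRing (Ra a)] [∀ a, Algebra A (Ra a)]
    [∀ a, HenselianRing (Ra a) (I.map (algebraMap A (Ra a)))]
    (t : ∀ a b : κ, a ≤ b → (Ra a →+* Ra b)) [DirectedSystem Ra (fun a b h => t a b h)]
    (ht : ∀ (a b : κ) (h : a ≤ b), (t a b h).comp (algebraMap A (Ra a)) = algebraMap A (Ra b))
    [Algebra A (DirectLimit Ra t)]
    (halg : ∀ (a : κ) (x : A), algebraMap A (DirectLimit Ra t) x =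
      DirectLimit.Ring.of Ra t a (algebraMap A (Ra a) x)) :
    (∀ χ : B →ₐ[A] DirectLimit Ra t, ∃ (a : κ) (φ : B →ₐ[A] Ra a),
        ∀ x : B, DirectLimit.Ring.of Ra t a (φ x) = χ x) ∧
    ∀ (a : κ) (φ ψ : B →ₐ[A] Ra a),
      (∀ x : B, DirectLimit.Ring.of Ra t a (φ x) = DirectLimit.Ring.of Ra t a (ψ x)) →
      ∃ (b : κ) (h : a ≤ b), ∀ x : B, t a b h (φ x) = t a b h (ψ x) := by
  classical
  have hT : ∀ (a b : κ) (h : a ≤ b), (I.map (algebraMap A (Ra a))).map (t a b h) ≤ I.map (algebraMap A (Ra b)) :=
    fun a b h => by rw [Ideal.map_map, ht]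
  have hof : ∀ a, (DirectLimit.Ring.of Ra t a).comp (algebraMap A (Ra a)) = algebraMap A (DirectLimit Ra t) :=
    fun a => RingHom.ext fun x => (halg a x).symm
  haveI hL : HenselianRing (DirectLimit Ra t) (I.map (algebraMap A (DirectLimit Ra t))) := by
    have h1 := PairHensLib.henselianRing_directLimit (g := t) hT fun a => inferInstance
    have h2 : (⨆ a, (I.map (algebraMap A (Ra a))).map (DirectLimit.Ring.of Ra t a)) =
        I.map (algebraMap A (DirectLimit Ra t)) := by
      simp only [Ideal.map_map, hof]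
      exact iSup_const
    rwa [h2] at h1
  haveI hB1 : HenselianRing B (I.map (algebraMap A B)) := by
    have := hB.1
    rwa [Ideal.map_map, ← IsScalarTower.algebraMap_eq] at this
  -- uniqueness of extensions from `R₀`
  have huniq : ∀ (D : Type u) [CommRing D] [Algebra A D] [HenselianRing D (I.map (algebraMap A D))]
      (φ ψ : B →ₐ[A] D), (∀ x, φ (algebraMap R₀ B x) = ψ (algebraMap R₀ B x)) → φ = ψ := by
    intro D _ _ hD φ ψ h
    have hle : (I.map (algebraMap A R₀)).map ((φ : B →+* D).comp (algebraMap R₀ B)) ≤ I.map (algebraMap A D) := by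
      rw [Ideal.map_map, RingHom.comp_assoc, ← IsScalarTower.algebraMap_eq, φ.comp_algebraMap]
    exact AlgHom.coe_ringHom_injective ((hB.2 D _ _ hD hle).unique rfl (RingHom.ext fun x => (h x).symm))
  obtain ⟨n, π, hπ, hker⟩ := Algebra.FinitePresentation.out (R := A) (A := R₀)
  obtain ⟨rels, hrels⟩ := hker
  have hup : ∀ {a b : κ} (h : a ≤ b) (c : A), t a b h (algebraMap A (Ra a) c) = algebraMap A (Ra b) c :=
    fun h c => RingHom.congr_fun (ht _ _ h) c
  -- finitely many equalities in the limit hold at a stage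
  have hfin : ∀ (a : κ) (s : Finset (Ra a × Ra a)),
      (∀ i ∈ s, DirectLimit.Ring.of Ra t a i.1 = DirectLimit.Ring.of Ra t a i.2) →
      ∃ b, ∃ h : a ≤ b, ∀ i ∈ s, t a b h i.1 = t a b h i.2 := by
    intro a s
    induction s using Finset.induction_on with
    | empty => exact fun _ => ⟨a, le_rfl, by simp⟩
    | @insert i s _ ih =>
      intro h
      obtain ⟨b, hab, hb⟩ := ih fun j hj => h j (Finset.mem_insert_of_mem hj)
      obtain ⟨c, hac, hac', hc⟩ := Quotient.exact (h i (Finset.mem_insert_self i s))
      obtain ⟨d, hbd, hcd⟩ := exists_ge_ge b c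
      refine ⟨d, hab.trans hbd, fun j hj => ?_⟩
      rcases Finset.mem_insert.1 hj with rfl | hj
      · have := congrArg (t c d hcd) hc
        rwa [DirectedSystem.map_map (f := fun a b h => t a b h) hac hcd,
          DirectedSystem.map_map (f := fun a b h => t a b h) hac' hcd] at this
      · have := congrArg (t b d hbd) (hb j hj)
        rwa [DirectedSystem.map_map (f := fun a b h => t a b h) hab hbd,
          DirectedSystem.map_map (f := fun a b h => t a b h) hab hbd] at this
  let ofA : ∀ a, Ra a →ₐ[A] DirectLimit Ra t := fun a =>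
    { toRingHom := DirectLimit.Ring.of Ra t a, commutes' := fun x => (halg a x).symm }
  refine ⟨fun χ => ?_, fun a φ ψ h => ?_⟩
  · let y : Fin n → DirectLimit Ra t := fun i => χ (algebraMap R₀ B (π (MvPolynomial.X i)))
    have hst : ∀ s : Finset (Fin n), ∃ a, ∀ i ∈ s, ∃ z, DirectLimit.Ring.of Ra t a z = y i := by
      intro s
      induction s using Finset.induction_on with
      | empty => exact ⟨Classical.arbitrary κ, by simp⟩
      | @insert i s _ ih =>
        obtain ⟨a, ha⟩ := ih
        obtain ⟨b, z, hz⟩ := DirectLimit.exists_eq_mk (f := fun a b h => t a b h) (y i)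
        obtain ⟨c, hac, hbc⟩ := exists_ge_ge a b
        refine ⟨c, fun j hj => ?_⟩
        rcases Finset.mem_insert.1 hj with rfl | hj
        · exact ⟨t b c hbc z, (DirectLimit.Ring.of_f hbc z).trans hz.symm⟩
        · obtain ⟨w, hw⟩ := ha j hj
          exact ⟨t a c hac w, (DirectLimit.Ring.of_f hac w).trans hw⟩
    obtain ⟨a, ha⟩ := hst Finset.univ
    choose z hz using fun i => ha i (Finset.mem_univ i)
    let ev : MvPolynomial (Fin n) A →ₐ[A] Ra a := MvPolynomial.aeval z
    have hev : ∀ p, DirectLimit.Ring.of Ra t a (ev p) = χ (algebraMap R₀ B (π p)) := fun p => by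
      refine AlgHom.congr_fun (MvPolynomial.algHom_ext (f := (ofA a).comp ev)
        (g := (χ.comp (IsScalarTower.toAlgHom A R₀ B)).comp π) fun i => ?_) p
      simp [ev, ofA, y, hz]
    obtain ⟨b, hab, hb⟩ := hfin a (rels.image fun r => (ev r, 0)) fun i hi => by
      obtain ⟨r, hr, rfl⟩ := Finset.mem_image.1 hi
      rw [hev, map_zero, show π r = 0 from hrels.le (Ideal.subset_span hr), map_zero, map_zero]
    let tA : Ra a →ₐ[A] Ra b := { toRingHom := t a b hab, commutes' := hup hab }
    have hk : RingHom.ker π ≤ RingHom.ker (tA.comp ev) := by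
      refine hrels.ge.trans (Ideal.span_le.2 fun r hr => ?_)
      show t a b hab (ev r) = 0
      exact (hb _ (Finset.mem_image_of_mem _ hr)).trans (map_zero _)
    let u : R₀ →ₐ[A] Ra b := AlgHom.liftOfSurjective π hπ (tA.comp ev) hk
    have hle : (I.map (algebraMap A R₀)).map (u : R₀ →+* Ra b) ≤ I.map (algebraMap A (Ra b)) := by
      rw [Ideal.map_map, u.comp_algebraMap]
    obtain ⟨g, hg, -⟩ := hB.2 (Ra b) _ (u : R₀ →+* Ra b) inferInstance hle
    let φ : B →ₐ[A] Ra b :=
      { toRingHom := g
        commutes' := fun c => by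
          show g (algebraMap A B c) = _
          rw [IsScalarTower.algebraMap_apply A R₀ B, ← RingHom.comp_apply, hg]
          exact u.commutes c }
    refine ⟨b, φ, fun x => AlgHom.congr_fun (huniq _ ((ofA b).comp φ) χ fun r => ?_) x⟩
    obtain ⟨p, rfl⟩ := hπ r
    show DirectLimit.Ring.of Ra t b (g (algebraMap R₀ B (π p))) = _
    rw [← RingHom.comp_apply g, hg]
    show DirectLimit.Ring.of Ra t b (u (π p)) = _
    rw [AlgHom.liftOfSurjective_apply]
    exact (DirectLimit.Ring.of_f hab (ev p)).trans (hev p)
  · obtain ⟨b, hab, hb⟩ := hfin a (Finset.univ.image fun i : Fin n => (φ (algebraMap R₀ B (π (MvPolynomial.X i))),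
      ψ (algebraMap R₀ B (π (MvPolynomial.X i))))) fun i hi => by
        obtain ⟨j, -, rfl⟩ := Finset.mem_image.1 hi
        exact h _
    let tA : Ra a →ₐ[A] Ra b := { toRingHom := t a b hab, commutes' := hup hab }
    refine ⟨b, hab, fun x => AlgHom.congr_fun (huniq _ (tA.comp φ) (tA.comp ψ) fun r => ?_) x⟩
    obtain ⟨p, rfl⟩ := hπ r
    exact AlgHom.congr_fun (MvPolynomial.algHom_ext
      (f := ((tA.comp φ).comp (IsScalarTower.toAlgHom A R₀ B)).comp π)
      (g := ((tA.comp ψ).comp (IsScalarTower.toAlgHom A R₀ B)).comp π) fun i => hb _ (Finset.mem_image_of_mem _ (Finset.mem_univ i))) p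

end Groth.Agent.S17613
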