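import Groth.Statements.S8422
import Groth.Agent.BorelLib.NonAffComp
-- import your own Groth.Agent.* helpers here

set_option autoImplicit false
universe u
open CategoryTheory MonoidalCategory CartesianMonoidalCategory MonObj GrpObj AlgebraicGeometry
open SGA3x

attribute [-instance] CategoryTheory.Hom.commGroup

namespace Groth.Agent.S8422

/-- Let G be a smooth algebraic group (not necessarily affine) over an algebraically closed field k.
Then the Borel subgroups of G are conjugate; the maximal tori of a Borel subgroup B are maximal tori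
of G; and if G is connected, the Cartan subgroups of B are Cartan subgroups of G. (The published
statement also asserts that G/B is projective; this row omits that assertion.) -/
theorem result (k : Type u) [Field k] [IsAlgClosed k]
    (G : Over (Spec (CommRingCat.of k))) [GrpObj G] [Smooth G.hom] [QuasiCompact G.hom] :
    (∀ (B₁ B₂ : Over (Spec (CommRingCat.of k))) [GrpObj B₁] [GrpObj B₂] (b₁ : B₁ ⟶ G) (b₂ : B₂ ⟶ G),
      Red.IsBorelOver k b₁ → Red.IsBorelOver k b₂ → ∃ g : 𝟙_ (Over (Spec (CommRingCat.of k))) ⟶ G, SGA3x.ConjBy b₁ b₂ g) ∧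
    (∀ (B : Over (Spec (CommRingCat.of k))) [GrpObj B] (b : B ⟶ G), Red.IsBorelOver k b →
      ∀ (T : Over (Spec (CommRingCat.of k))) [GrpObj T] (t : T ⟶ B), Red.IsMaximalTorus t → Red.IsMaximalTorus (t ≫ b)) ∧
    (ConnectedSpace ↥G.left → ∀ (B : Over (Spec (CommRingCat.of k))) [GrpObj B] (b : B ⟶ G), Red.IsBorelOver k b →
      ∀ (C : Over (Spec (CommRingCat.of k))) [GrpObj C] (c : C ⟶ B), SGA3x.IsCartanOver k c → SGA3x.IsCartanOver k (c ≫ b)) := by
  obtain ⟨G₀, _, i, hi, hic, hsm, hqc, hconn, hfac⟩ := BorelLib.NA.exists_comp (G := G)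
  haveI := hi; haveI := hic; haveI := hsm; haveI := hqc; haveI := hconn
  haveI : Mono i := DiagRep.mono_of_isClosedImmersion i inferInstance
  refine ⟨fun B₁ B₂ _ _ b₁ b₂ h₁ h₂ => ?_, fun B _ b hB T _ t ht => ?_, fun hG B _ b hB C _ c hc => ?_⟩
  · obtain ⟨c₁, rfl, hc₁⟩ := BorelLib.NA.exists_borel_lift i hfac h₁
    obtain ⟨c₂, rfl, hc₂⟩ := BorelLib.NA.exists_borel_lift i hfac h₂
    obtain ⟨g, e, he⟩ := BorelLib.NA.borel_conj hc₁ hc₂
    refine ⟨g ≫ i, e, ?_⟩
    have h := congrArg (· ≫ i) he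
    simpa only [MonObj.mul_comp, GrpObj.inv_comp, Category.assoc] using h
  · obtain ⟨b₀, rfl, hB₀⟩ := BorelLib.NA.exists_borel_lift i hfac hB
    obtain ⟨h1, h2, h3, h4⟩ := BorelLib.NA.isMaxTorus_of_borel hB₀ (BorelLib.isMaxTorus_of_isMaximalTorus ht)
    haveI := h1; haveI := h2
    haveI := hB₀.1
    refine BorelLib.isMaximalTorus_of_isMaxTorus ?_
    rw [← Category.assoc]
    refine ⟨inferInstance, mono_comp _ _, h3, fun T' _ j _ _ f hT' hf => ?_⟩
    obtain ⟨-, -, hTc, -, hTr, -⟩ := BorelLib.NA.torus_props j hT'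
    haveI := hTc; haveI := hTr
    obtain ⟨j', hj'⟩ := hfac T' j
    haveI : IsMonHom (j' ≫ i) := by rw [hj']; infer_instance
    haveI : IsMonHom j' := DiagRep.isMonHom_of_comp_mono j' i
    haveI : Mono (j' ≫ i) := by rw [hj']; infer_instance
    haveI : Mono j' := mono_of_mono j' i
    exact h4 T' j' f hT' (by rw [← cancel_mono i, Category.assoc, hj', hf])
  · haveI := hG
    exact BorelLib.NA.isCartanOver_of_borel hB hc

end Groth.Agent.S8422
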