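import Groth.Statements.S16642
import Groth.Agent.BorelLib.NonAffImage
import Groth.Agent.S8422
import Groth.Agent.TorsTupleLib.EtaleLocal
import Groth.Agent.TorsTupleLib.RedRankZero
import Groth.Agent.TorsTupleLib.SubMax
-- import your own Groth.Agent.* helpers here

set_option autoImplicit false
set_option maxHeartbeats 4000000
set_option synthInstance.maxHeartbeats 400000
set_option backward.isDefEq.respectTransparency false
open CategoryTheory MonoidalCategory CartesianMonoidalCategory MonObj GrpObj AlgebraicGeometry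
universe u
open RedSub

attribute [-instance] CategoryTheory.Hom.commGroup

namespace Groth.Agent.S16642

open Groth.Agent.BorelLib
attribute [local instance] BorelLib.pTop BorelLib.pTopTensor

/-- For a parabolic subgroup P of a reductive group scheme G over a scheme S, etale-locally on S there
is a maximal torus of G contained in P. -/
theorem result {S : Scheme.{u}} {G P : Over S} [GrpObj G] [GrpObj P]
    (hG : Red.IsReductive G) (p : P ⟶ G) (hP : Red.IsParabolic p) (s : S) :
    ∃ (S' : Scheme.{u}) (f : S' ⟶ S) (_ : Etale f), s ∈ Set.range f.base ∧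
      ∃ (T : Over S') (_ : GrpObj T) (t : T ⟶ Red.bc f P), IsMonHom t ∧
        Red.IsMaximalTorus (t ≫ (Over.pullback f).map p) := by
  haveI := hP.1; haveI := hP.2.1; haveI := hP.2.2.1
  haveI := hG.1; haveI := hG.2.1
  haveI : Mono p.left := inferInstance
  haveI : Mono p := Over.mono_of_mono_left p
  haveI : IsAffineHom P.hom := by rw [← Over.w p]; infer_instance
  have hcart : TorsTuple.HasCartanIn p := TorsTuple.hasCartanIn_of_fibres p fun s => by
    obtain ⟨-, -, -, B, _, b, hb⟩ := hP.2.2.2 s
    haveI := (hG.2.2 s).2.1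
    haveI : QuasiCompact (Red.geomFibre s G).hom :=
      MorphismProperty.pullback_snd (P := @QuasiCompact) _ _ inferInstance
    haveI := hb.1; haveI := hb.2.1; haveI := hb.2.2.1; haveI := hb.2.2.2.1
    haveI : QuasiCompact B.hom := by
      rw [← Over.w (b ≫ (Over.pullback (Red.geomPt s)).map p)]; infer_instance
    haveI : IsSeparated B.hom := GrpField.isSeparated_grp (G := B)
    obtain ⟨T, _, t, ht⟩ := NA.exists_maxTorus (G := B)
    have ht' := (S8422.result _ (Red.geomFibre s G)).2.1 B _ hb T t (isMaximalTorus_of_isMaxTorus ht)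
    have hc := TorsTuple.isCentralizerOf_self_of_isReductiveOver (hG.2.2 s) ht'
    refine ⟨T, inferInstance, t ≫ b, ?_⟩
    rw [Category.assoc]
    exact ⟨ht'.1, ht'.2.1, T, inferInstance, _, ht', hc⟩
  haveI : IsSeparated G.hom := inferInstance
  have hfpqc := TorsTuple.exists_sub_torus_cover (TorsTuple.hasMaxTorusFpqc_of_isReductive hG) p
    (fun s => haveI := (hG.2.2 s).2.2.1; CentPre.isConnected_fibre_of_geom G s) hcart
  obtain ⟨S', f, hf, hfs, T, hT, t, htmax⟩ := TorsTuple.hasMaxTorusEtaleLocally hfpqc
  letI := hT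
  refine ⟨S', f, hf, by simpa using f.surjective s, T, hT, t, htmax.1, ?_⟩
  haveI := htmax.1; haveI := htmax.2.1
  haveI := DiagRep.isMonHom_bc_map f p
  haveI := mono_bc f p
  haveI : Smooth (Red.bc f G).hom := MorphismProperty.pullback_snd (P := @Smooth) _ _ inferInstance
  haveI : QuasiCompact (Red.bc f G).hom := MorphismProperty.pullback_snd (P := @QuasiCompact) _ _ inferInstance
  haveI : Smooth (Red.bc f P).hom := MorphismProperty.pullback_snd (P := @Smooth) _ _ inferInstance
  haveI : QuasiCompact (Red.bc f P).hom := MorphismProperty.pullback_snd (P := @QuasiCompact) _ _ inferInstance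
  refine ⟨inferInstance, inferInstance, htmax.2.2.1, fun s' T' _ j _ _ g hT' hg => ?_⟩
  let ξ := Red.geomPt s'
  haveI : Smooth (Red.bc ξ (Red.bc f G)).hom := MorphismProperty.pullback_snd (P := @Smooth) _ _ inferInstance
  haveI : QuasiCompact (Red.bc ξ (Red.bc f G)).hom := MorphismProperty.pullback_snd (P := @QuasiCompact) _ _ inferInstance
  haveI : Smooth (Red.bc ξ (Red.bc f P)).hom := MorphismProperty.pullback_snd (P := @Smooth) _ _ inferInstance
  haveI : QuasiCompact (Red.bc ξ (Red.bc f P)).hom := MorphismProperty.pullback_snd (P := @QuasiCompact) _ _ inferInstance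
  let pf := (Over.pullback ξ).map ((Over.pullback f).map p)
  haveI : IsMonHom pf := DiagRep.isMonHom_bc_map ξ ((Over.pullback f).map p)
  haveI : Mono pf := mono_bc ξ ((Over.pullback f).map p)
  obtain ⟨T₀, _, i₀, hi₀, hfac⟩ := TorsTuple.hasCartanIn_bc p hcart f _ ξ
  haveI := hi₀.1; haveI := hi₀.2.1
  obtain ⟨y, hy⟩ := hfac T₀ i₀ fun X' x u => by
    rw [← MonObj.mul_comp, ← MonObj.mul_comp, (TorsTuple.commute_torus hi₀.2.2.1 x u).eq]
  haveI : IsMonHom (y ≫ pf) := by rw [hy]; infer_instance
  haveI : IsMonHom y := DiagRep.isMonHom_of_comp_mono y pf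
  have h := TorsTuple.isMaximalTorus_of_sub pf (t₀ := y) (hy ▸ hi₀) (MaxTorConj.isMaximalTorus_bc htmax ξ)
  exact (isMaxTorus_of_isMaximalTorus h).2.2.2 T' j g hT' (by rw [hg, Functor.map_comp])

end Groth.Agent.S16642
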