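import Mathlib

namespace Groth.Agent.PerfClosureFlat

universe u

variable {A B A' B' : Type u} [CommRing A] [CommRing B] [CommRing A'] [CommRing B']

theorem flat_of (p : ℕ) [Fact p.Prime] [CharP A p] [CharP B p] [CharP A' p] [CharP B' p] [PerfectRing A' p] [PerfectRing B' p]
    (φ : A →+* B) (hflat : φ.Flat) (i : A →+* A') (j : B →+* B') [IsPRadical i p] [IsPRadical j p]
    (φ' : A' →+* B') (hφ : φ'.comp i = j.comp φ) : φ'.Flat := by
  classical
  algebraize [φ, φ']
  refine Module.Flat.iff_forall_isTrivialRelation.2 fun {l} {f} {x} h => ?_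
  choose n₁ a₁ h₁ using fun t => IsPRadical.pow_mem i p (f t)
  choose n₂ b₁ h₂ using fun t => IsPRadical.pow_mem j p (x t)
  set N := Finset.univ.sup n₁ + Finset.univ.sup n₂ with hN
  have hn₁ : ∀ t, n₁ t ≤ N := fun t => le_trans (Finset.le_sup (f := n₁) (Finset.mem_univ t)) (Nat.le_add_right _ _)
  have hn₂ : ∀ t, n₂ t ≤ N := fun t => le_trans (Finset.le_sup (f := n₂) (Finset.mem_univ t)) (Nat.le_add_left _ _)
  set a : Fin l → A := fun t => a₁ t ^ p ^ (N - n₁ t) with ha
  set b : Fin l → B := fun t => b₁ t ^ p ^ (N - n₂ t) with hb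
  have hia : ∀ t, i (a t) = f t ^ p ^ N := fun t => by
    simp only [ha, map_pow, h₁, ← pow_mul, ← pow_add, Nat.add_sub_cancel' (hn₁ t)]
  have hjb : ∀ t, j (b t) = x t ^ p ^ N := fun t => by
    simp only [hb, map_pow, h₂, ← pow_mul, ← pow_add, Nat.add_sub_cancel' (hn₂ t)]
  have hc : ∀ y : A, φ' (i y) = j (φ y) := fun y => RingHom.congr_fun hφ y
  have h0 : j (∑ t, φ (a t) * b t) = 0 := by
    have h' : (∑ t, φ' (f t) * x t) ^ p ^ N = 0 := by
      have : ∑ t, φ' (f t) * x t = 0 := h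
      rw [this, zero_pow (pow_ne_zero _ (Fact.out : p.Prime).ne_zero)]
    rw [sum_pow_char_pow] at h'
    rw [map_sum, ← h']
    exact Finset.sum_congr rfl fun t _ => by rw [map_mul, ← hc, hia, hjb, map_pow, mul_pow]
  obtain ⟨M, hM⟩ := mem_pNilradical.1 (IsPRadical.ker_le j p (RingHom.mem_ker.2 h0))
  rw [sum_pow_char_pow] at hM
  obtain ⟨k, c, y, hy, hac⟩ := Module.Flat.isTrivialRelation_of_sum_smul_eq_zero
    (f := fun t => a t ^ p ^ M) (x := fun t => b t ^ p ^ M) (R := A) (M := B)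
    (by rw [← hM]; exact Finset.sum_congr rfl fun t _ => by rw [Algebra.smul_def, mul_pow, map_pow]; rfl)
  set rA := (iterateFrobeniusEquiv A' p (N + M)).symm with hrA
  set rB := (iterateFrobeniusEquiv B' p (N + M)).symm with hrB
  have eA : ∀ z, rA z ^ p ^ (N + M) = z := fun z => by
    rw [← iterateFrobeniusEquiv_def]; exact RingEquiv.apply_symm_apply _ _
  have eB : ∀ z, rB z ^ p ^ (N + M) = z := fun z => by
    rw [← iterateFrobeniusEquiv_def]; exact RingEquiv.apply_symm_apply _ _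
  refine ⟨k, fun t s => rA (i (c t s)), fun s => rB (j (y s)), fun t => ?_, fun s => ?_⟩
  · apply (iterateFrobeniusEquiv B' p (N + M)).injective
    simp only [iterateFrobeniusEquiv_def]
    rw [sum_pow_char_pow, show x t ^ p ^ (N + M) = j (b t ^ p ^ M) by rw [map_pow, hjb, ← pow_mul, pow_add], show b t ^ p ^ M = _ from hy t, map_sum]
    refine Finset.sum_congr rfl fun s _ => ?_
    rw [Algebra.smul_def, Algebra.smul_def, mul_pow, eB, map_mul]
    congr 1
    show j (φ (c t s)) = (φ' (rA (i (c t s)))) ^ _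
    rw [← map_pow, eA, hc]
  · apply (iterateFrobeniusEquiv A' p (N + M)).injective
    simp only [iterateFrobeniusEquiv_def]
    rw [sum_pow_char_pow, zero_pow (pow_ne_zero _ (Fact.out : p.Prime).ne_zero), ← map_zero i, ← hac s, map_sum]
    refine Finset.sum_congr rfl fun t _ => ?_
    rw [mul_pow, eA, map_mul, map_pow, hia, ← pow_mul, ← pow_add]

theorem ff_of (p : ℕ) [Fact p.Prime] [CharP A p] [CharP B p] [CharP A' p] [CharP B' p] [PerfectRing A' p] [PerfectRing B' p]
    (φ : A →+* B) (hflat : φ.FaithfullyFlat) (i : A →+* A') (j : B →+* B') [IsPRadical i p] [IsPRadical j p]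
    (φ' : A' →+* B') (hφ : φ'.comp i = j.comp φ) : φ'.FaithfullyFlat := by
  rw [RingHom.FaithfullyFlat.iff_flat_and_comap_surjective] at hflat ⊢
  refine ⟨flat_of p φ hflat.1 i j φ' hφ, fun P => ?_⟩
  have hi : IsHomeomorph (PrimeSpectrum.comap i) := PrimeSpectrum.isHomeomorph_comap i
    (fun z => by obtain ⟨n, y, hy⟩ := IsPRadical.pow_mem i p z; exact ⟨p ^ n, pow_pos (Fact.out : p.Prime).pos _, y, hy⟩)
    ((IsPRadical.ker_le i p).trans pNilradical_le_nilradical)
  have hj : IsHomeomorph (PrimeSpectrum.comap j) := PrimeSpectrum.isHomeomorph_comap j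
    (fun z => by obtain ⟨n, y, hy⟩ := IsPRadical.pow_mem j p z; exact ⟨p ^ n, pow_pos (Fact.out : p.Prime).pos _, y, hy⟩)
    ((IsPRadical.ker_le j p).trans pNilradical_le_nilradical)
  obtain ⟨Q, hQ⟩ := hflat.2 (PrimeSpectrum.comap i P)
  obtain ⟨Q', rfl⟩ := hj.bijective.2 Q
  refine ⟨Q', hi.bijective.1 ?_⟩
  rw [← PrimeSpectrum.comap_comp_apply, hφ, PrimeSpectrum.comap_comp_apply, hQ]

end Groth.Agent.PerfClosureFlat
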