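import Groth.Statements.S7000
import Groth.Agent.DRingLib.FlatBC

set_option autoImplicit false
universe u
open CategoryTheory CategoryTheory.Limits
attribute [local instance] HasDerivedCategory.standard
open DRing

namespace Groth.Agent.S7000

/-- Let A → B be a flat homomorphism of commutative rings, m an integer and M an A-module. If M is
m-pseudo-coherent then the B-module B ⊗_A M is m-pseudo-coherent; if M is pseudo-coherent then B ⊗_A
M is pseudo-coherent. -/
theorem result {A B : Type u} [CommRing A] [CommRing B] [Algebra A B]
    [Module.Flat A B] (m : ℤ) (M : Type u) [AddCommGroup M] [Module A M] :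
    (DRing.IsPseudoCoherentModule A m M → DRing.IsPseudoCoherentModule B m (TensorProduct A B M)) ∧
      (DRing.IsPseudoCoherentModule' A M → DRing.IsPseudoCoherentModule' B (TensorProduct A B M)) := by
  let φ := algebraMap A B
  have hφ : φ.Flat := RingHom.flat_algebraMap_iff.2 inferInstance
  have e : (ModuleCat.extendScalars.{u, u, u} φ).obj (ModuleCat.of A M) ≅
      ModuleCat.of B (TensorProduct A B M) := (DRingLib.extendScalarsEquiv (ModuleCat.of A M)).toModuleIso
  let eC : DRing.toD ((DRingLib.extCx φ).obj
      ((HomologicalComplex.single (ModuleCat.{u} A) (ComplexShape.up ℤ) 0).obj (ModuleCat.of A M))) ≅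
      Dual.inD B (TensorProduct A B M) :=
    DerivedCategory.Q.mapIso ((HomologicalComplex.singleMapHomologicalComplex
        (ModuleCat.extendScalars.{u, u, u} φ) (ComplexShape.up ℤ) 0).app (ModuleCat.of A M) ≪≫
      (HomologicalComplex.single _ _ 0).mapIso e)
  have key : ∀ n : ℤ, DRing.IsPseudoCoherentModule A n M →
      DRing.IsPseudoCoherentModule B n (TensorProduct A B M) := fun n h =>
    DRingLib.isPseudoCoherent_of_iso eC (DRingLib.isPseudoCoherent_extCx φ hφ h)
  exact ⟨key m, fun h => DRingLib.isPseudoCoherent'_iff_forall.2 fun n =>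
    key n (DRingLib.isPseudoCoherent'_iff_forall.1 h n)⟩

end Groth.Agent.S7000
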