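import Groth.Statements.S0646
import Groth.Agent.EtContLib.PullSys

set_option autoImplicit false
set_option backward.isDefEq.respectTransparency false
set_option backward.isDefEq.respectTransparency.types false
set_option maxHeartbeats 400000
open CategoryTheory CategoryTheory.Limits AlgebraicGeometry Opposite
universe u
open EtCore

attribute [local irreducible] EtCore.HpullVia EtCore.Hpull EtLim.HpullThen

namespace Groth.Agent.S0646

/-- For systems of sheaves pulled back from one stage: let ι be a directed preordered set, (X_i) an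
inverse system of quasi-compact quasi-separated schemes indexed by ι with affine transition
morphisms, X a limit with projections f_i, i₀ an index and F₀ an abelian sheaf on the small etale
site of X_{i₀}. Then H^p(X, f_{i₀}^{-1} F₀) is the colimit of the groups H^p(X_j, F₀|_{X_j}) over j
≥ i₀, in the concrete sense: every class on X is pulled back from some X_j, and a class on X_j that
pulls back to zero on X already pulls back to zero on some X_k, k ≥ j. (The source allows general
systems of sheaves (F_i, φ_{i'i}); only systems pulled back from a single stage are stated.)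
(Exactness of pullback of abelian sheaves, which always holds, is carried as an instance
hypothesis.) -/
theorem result {ι : Type u} [Preorder ι] [IsDirected ι (· ≤ ·)] (Xs : ιᵒᵖ ⥤ Scheme.{u})
    (haff : ∀ ⦃a b : ιᵒᵖ⦄ (h : a ⟶ b), IsAffineHom (Xs.map h))
    (hqc : ∀ a, CompactSpace ↥(Xs.obj a)) (hqs : ∀ a, QuasiSeparatedSpace ↥(Xs.obj a))
    (c : Cone Xs) (hc : IsLimit c) (i₀ : ι) (F₀ : EtCoh.Ab (Xs.obj (op i₀))) (p : ℕ)
    [∀ a, PreservesFiniteLimits (EtCoh.pull (c.π.app a))]
    [∀ ⦃a b : ιᵒᵖ⦄ (h : a ⟶ b), PreservesFiniteLimits (EtCoh.pull (Xs.map h))] :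
    (∀ ξ : EtCoh.H c.pt ((EtCoh.pull (c.π.app (op i₀))).obj F₀) p,
      ∃ (j : ι) (hj : i₀ ≤ j) (ξj : EtCoh.H (Xs.obj (op j)) ((EtCoh.pull (Xs.map (homOfLE hj).op)).obj F₀) p),
        EtCore.HpullVia (c.π.app (op j)) (Xs.map (homOfLE hj).op) (c.π.app (op i₀)) (c.w (homOfLE hj).op) F₀ p ξj = ξ) ∧
    (∀ (j : ι) (hj : i₀ ≤ j) (ξj : EtCoh.H (Xs.obj (op j)) ((EtCoh.pull (Xs.map (homOfLE hj).op)).obj F₀) p),
      EtCore.HpullVia (c.π.app (op j)) (Xs.map (homOfLE hj).op) (c.π.app (op i₀)) (c.w (homOfLE hj).op) F₀ p ξj = 0 →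
        ∃ (k : ι) (hk : j ≤ k), EtCore.Hpull (Xs.map (homOfLE hk).op) _ p ξj = 0) := by
  haveI : Nonempty ι := ⟨i₀⟩
  let S := Xs.obj (op i₀)
  let I := Over (op i₀ : ιᵒᵖ)
  let D : I ⥤ Scheme.{u} := Over.forget _ ⋙ Xs
  haveI : ∀ (i j : I) (f : i ⟶ j), IsAffineHom (D.map f) := fun i j f => haff f.left
  haveI : ∀ i : I, CompactSpace (D.obj i) := fun i => hqc i.left
  haveI : ∀ i : I, QuasiSeparatedSpace (D.obj i) := fun i => hqs i.left
  let c' : Cone D := c.whisker (Over.forget _)
  have hc' : IsLimit c' := (Functor.Initial.isLimitWhiskerEquiv (Over.forget (op i₀ : ιᵒᵖ)) c).symm hc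
  let t : D ⟶ (Functor.const I).obj S :=
    { app := fun j => Xs.map j.hom
      naturality := fun k j a => by
        show Xs.map a.left ≫ Xs.map j.hom = Xs.map k.hom ≫ 𝟙 _
        rw [Category.comp_id, ← Xs.map_comp, Over.w a] }
  have w : ∀ j : I, c'.π.app j ≫ t.app j = c.π.app (op i₀) := fun j => c.w j.hom
  let R := EtContLib.pullPre F₀ t
  let ψ := EtContLib.pullPsi F₀ t c' (c.π.app (op i₀)) w
  have hψ := fun {k j : I} (a : k ⟶ j) => EtContLib.pullPsi_compat F₀ t c' (c.π.app (op i₀)) w a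
  have hC := EtContLib.isLim_pullPre F₀ t c' (c.π.app (op i₀)) w
  haveI : ∀ j : I, PreservesFiniteLimits (EtCoh.pull (c'.π.app j)) := fun j => EtSliceLib.pullExact _
  haveI : ∀ {k j : I} (a : k ⟶ j), PreservesFiniteLimits (EtCoh.pull (D.map a)) := fun a => EtSliceLib.pullExact _
  refine ⟨fun ξ => ?_, fun j hj ξj h => ?_⟩
  · obtain ⟨j, x, hx⟩ := R.surjective ((EtCoh.pull (c.π.app (op i₀))).obj F₀) ψ hψ hc' hC p ξ
    have h1 := (EtContLib.HpullVia_eq_psi F₀ t c' (c.π.app (op i₀)) w j p x).trans hx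
    exact ⟨j.left.unop, leOfHom j.hom.unop, x, h1⟩
  · let jo : I := Over.mk (homOfLE hj).op
    have h1 : EtCore.HpullVia (c'.π.app jo) (t.app jo) (c.π.app (op i₀)) (w jo) F₀ p ξj = 0 := h
    have h2 := (EtContLib.HpullVia_eq_psi F₀ t c' (c.π.app (op i₀)) w jo p ξj).symm.trans h1
    obtain ⟨k, a, ha⟩ := R.eq_zero ((EtCoh.pull (c.π.app (op i₀))).obj F₀) ψ hψ hc' hC p jo ξj h2
    have h3 := EtContLib.Hpull_eq_zero_of_τ F₀ t a p ξj ha
    exact ⟨k.left.unop, leOfHom a.left.unop, h3⟩

end Groth.Agent.S0646
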