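import Groth.Statements.S5129
import Groth.Agent.ClopenFFLib.Henselian
import Groth.Agent.SweepSix.GeomConn
import Groth.Agent.EtLocLib.Henselian

set_option autoImplicit false
universe u
open Pi1

namespace Groth.Agent.S5129

open AlgebraicGeometry CategoryTheory CategoryTheory.Limits in
/-- Surjectivity of π₁(X) → π₁(Spec A), in terms of covers. Let A be a complete Noetherian local ring
with residue field k, k̄ an algebraic closure of k, ξ : Spec k̄ ⟶ Spec A the resulting geometric
point, and X a proper A-scheme with X ×_A Spec k̄ connected. Then pulling back finite etale covers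
along X ⟶ Spec A is fully faithful. -/
theorem result (A : Type u) [CommRing A]
    [IsNoetherianRing A] [IsLocalRing A] [IsAdicComplete (IsLocalRing.maximalIdeal A) A]
    {X : Scheme.{u}} (f : X ⟶ Spec (CommRingCat.of A)) [IsProper f]
    (ξ : Spec (CommRingCat.of (AlgebraicClosure (IsLocalRing.ResidueField A))) ⟶ Spec (CommRingCat.of A))
    (hξ : ξ = Spec.map (CommRingCat.ofHom ((algebraMap (IsLocalRing.ResidueField A)
      (AlgebraicClosure (IsLocalRing.ResidueField A))).comp (IsLocalRing.residue A))))
    [ConnectedSpace ↥(pullback f ξ)] :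
    (FEt.restrict f).Full ∧ (FEt.restrict f).Faithful := by
  haveI : HenselianLocalRing A := EtLocLib.henselianLocalRing_of_isAdicComplete A
  let k := IsLocalRing.ResidueField A
  let a : Spec (CommRingCat.of (AlgebraicClosure k)) ⟶ Spec (CommRingCat.of k) :=
    Spec.map (CommRingCat.ofHom (algebraMap k (AlgebraicClosure k)))
  have hξ' : ξ = a ≫ ClopenFFLib.i0 A := by
    rw [hξ, CommRingCat.ofHom_comp, Spec.map_comp]
    rfl
  let f₀ : pullback f (ClopenFFLib.i0 A) ⟶ Spec (CommRingCat.of k) := pullback.snd f (ClopenFFLib.i0 A)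
  have hp := (IsPullback.of_hasPullback f₀ a).paste_horiz (IsPullback.of_hasPullback f (ClopenFFLib.i0 A))
  rw [← hξ'] at hp
  haveI : ConnectedSpace ↥(pullback f₀ a) := hp.isoPullback.inv.surjective.connectedSpace hp.isoPullback.inv.continuous
  haveI : GeometricallyConnected (pullback.snd f₀ a) := SweepSix.GeomConn.gc_of_isAlgClosed _
  haveI : GeometricallyConnected (pullback.snd f (ClopenFFLib.i0 A)) := SweepSix.GeomConn.gc_of_bc f₀ (AlgebraicClosure k)
  exact ClopenFFLib.full_faithful f (ClopenFFLib.clopenBij_of_henselian A f)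

end Groth.Agent.S5129
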