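import Groth.Statements.S8886
import Mathlib
import Groth.Agent.S9501
-- import your own Groth.Agent.* helpers here

set_option autoImplicit false
universe u
open CategoryTheory CategoryTheory.Limits AlgebraicGeometry TopologicalSpace
open SDiv

namespace Groth.Agent.S8886

/-- Let f : X ⟶ Y be a flat morphism of schemes with Y integral. If the scheme-theoretic fibre of f over
the generic point of Y is integral, then X is integral. -/
theorem result {X Y : Scheme.{u}} (f : X ⟶ Y) [Flat f] [IsIntegral Y]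
    (h : IsIntegral (f.fiber (genericPoint ↥Y))) : IsIntegral X := by
  classical
  set η := genericPoint ↥Y with hη
  have hgen : ∀ (U : Y.Opens), (U : Set Y).Nonempty → η ∈ U := fun U hU =>
    ((genericPoint_spec Y).mem_open_set_iff U.isOpen).mpr (by simpa using hU)
  have hloc : ∀ x : X, ∃ (U : Y.Opens) (hU : IsAffineOpen U) (V : X.Opens) (hV : IsAffineOpen V)
      (hVU : V ≤ f ⁻¹ᵁ U), x ∈ V ∧ η ∈ U := fun x => by
    obtain ⟨U, hU, hyU, -⟩ := exists_isAffineOpen_mem_and_subset (X := Y) (x := f x) (U := ⊤) trivial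
    obtain ⟨V, hV, hxV, hVU⟩ := exists_isAffineOpen_mem_and_subset (X := X) (x := x) (U := f ⁻¹ᵁ U) hyU
    exact ⟨U, hU, V, hV, hVU, hxV, hgen U ⟨_, hyU⟩⟩
  have hprime : ∀ {U : Y.Opens} (hU : IsAffineOpen U) {V : X.Opens} (hV : IsAffineOpen V) (hVU : V ≤ f ⁻¹ᵁ U)
      (hηU : η ∈ U) (P : PrimeSpectrum Γ(X, V)), P.asIdeal.comap (f.appLE U V hVU).hom = ⊥ →
      f.base (hV.fromSpec P) = η := by
    intro U hU V hV hVU hηU P hP
    haveI : Nonempty U := ⟨⟨η, hηU⟩⟩
    have hzV : hV.fromSpec P ∈ V := by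
      show hV.fromSpec P ∈ (V : Set X)
      rw [← hV.range_fromSpec]; exact ⟨_, rfl⟩
    have hQ : hV.primeIdealOf ⟨_, hzV⟩ = P :=
      hV.fromSpec.isOpenEmbedding.injective (hV.fromSpec_primeIdealOf _)
    have e := IsAffineOpen.comap_primeIdealOf_appLE U hU V hV hVU hzV
    rw [hQ] at e
    have h2 : hU.primeIdealOf ⟨f (hV.fromSpec P), hVU hzV⟩ = hU.primeIdealOf ⟨η, hηU⟩ := by
      rw [← e, hU.primeIdealOf_genericPoint, genericPoint_eq_bot_of_affine]
      exact PrimeSpectrum.ext hP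
    have := congrArg (fun w => hU.fromSpec w) h2
    simp only [IsAffineOpen.fromSpec_primeIdealOf] at this
    exact this
  -- torsion elements in flat algebras over domains
  have htf : ∀ {U : Y.Opens} (hU : IsAffineOpen U) {V : X.Opens} (hV : IsAffineOpen V) (hVU : V ≤ f ⁻¹ᵁ U)
      (hηU : η ∈ U) (a : Γ(X, V)) (J : Ideal Γ(X, V)), a ≠ 0 → (∀ t ∈ J, t * a = 0) →
      ∃ P : PrimeSpectrum Γ(X, V), J ≤ P.asIdeal ∧ P.asIdeal.comap (f.appLE U V hVU).hom = ⊥ := by
    intro U hU V hV hVU hηU a J ha hJ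
    haveI : Nonempty U := ⟨⟨η, hηU⟩⟩
    letI : Algebra Γ(Y, U) Γ(X, V) := (f.appLE U V hVU).hom.toAlgebra
    haveI : Module.Flat Γ(Y, U) Γ(X, V) := f.flat_appLE hU hV hVU
    let M : Submonoid Γ(X, V) := (nonZeroDivisors Γ(Y, U)).map (algebraMap Γ(Y, U) Γ(X, V))
    have hdis : Disjoint (J : Set Γ(X, V)) (M : Set Γ(X, V)) := by
      rw [Set.disjoint_right]
      rintro _ ⟨r, hr, rfl⟩ hrJ
      exact ha (smul_right_injective Γ(X, V) (nonZeroDivisors.ne_zero hr) (by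
        show r • a = r • (0 : Γ(X, V))
        rw [smul_zero, Algebra.smul_def]; exact hJ _ hrJ))
    obtain ⟨P, hP, hJP, hPM⟩ := Ideal.exists_le_prime_disjoint J M hdis
    refine ⟨⟨P, hP⟩, hJP, (Submodule.eq_bot_iff _).mpr fun r hr => ?_⟩
    by_contra hr0
    exact (Set.disjoint_left.mp hPM) hr ⟨r, mem_nonZeroDivisors_iff_ne_zero.mpr hr0, rfl⟩
  have hmeet : ∀ O : X.Opens, (O : Set X).Nonempty → ∃ z ∈ O, f.base z = η := by
    intro O ⟨x, hx⟩
    obtain ⟨U, hU, V, hV, hVU, hxV, hηU⟩ := hloc x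
    obtain ⟨W, hW, hxW, hWO⟩ := exists_isAffineOpen_mem_and_subset (X := X) (x := x) (U := O ⊓ V) ⟨hx, hxV⟩
    haveI : Nonempty W := ⟨⟨x, hxW⟩⟩
    obtain ⟨P, -, hP⟩ := htf hU hW (fun w hw => hVU (hWO hw).2) hηU (1 : Γ(X, W)) ⊥ one_ne_zero
      (fun t ht => by rw [Submodule.mem_bot] at ht; rw [ht, zero_mul])
    refine ⟨hW.fromSpec P, (hWO ?_).1, hprime hU hW _ hηU P hP⟩
    show hW.fromSpec P ∈ (W : Set X)
    rw [← hW.range_fromSpec]; exact ⟨_, rfl⟩
  have hirr : IrreducibleSpace ↥X := by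
    haveI : IrreducibleSpace ↥(f.fiber η) := irreducibleSpace_of_isIntegral _
    obtain ⟨w⟩ : Nonempty ↥(f.fiber η) := inferInstance
    haveI : Nonempty X := ⟨(f.fiberι η).base w⟩
    refine { isPreirreducible_univ := fun O₁ O₂ hO₁ hO₂ h₁ h₂ => ?_, toNonempty := inferInstance }
    rw [Set.univ_inter] at h₁ h₂ ⊢
    obtain ⟨z₁, hz₁, e₁⟩ := hmeet ⟨O₁, hO₁⟩ h₁
    obtain ⟨z₂, hz₂, e₂⟩ := hmeet ⟨O₂, hO₂⟩ h₂
    obtain ⟨w₁, hw₁⟩ : z₁ ∈ Set.range (f.fiberι η).base := by rw [f.range_fiberι]; exact e₁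
    obtain ⟨w₂, hw₂⟩ : z₂ ∈ Set.range (f.fiberι η).base := by rw [f.range_fiberι]; exact e₂
    obtain ⟨w', h', h''⟩ := nonempty_preirreducible_inter (hO₁.preimage (f.fiberι η).continuous)
      (hO₂.preimage (f.fiberι η).continuous) ⟨w₁, by rw [Set.mem_preimage, hw₁]; exact hz₁⟩
      ⟨w₂, by rw [Set.mem_preimage, hw₂]; exact hz₂⟩
    exact ⟨(f.fiberι η).base w', h', h''⟩
  haveI := hirr
  have hst : ∀ z : X, f.base z = η → _root_.IsReduced (X.presheaf.stalk z) := by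
    intro z hz
    obtain ⟨w, rfl⟩ : z ∈ Set.range (f.fiberι η).base := by rw [f.range_fiberι]; exact hz
    obtain ⟨-, hker⟩ := Groth.Agent.S9501.result f η w
    have hF : IsField (Y.presheaf.stalk (f.base ((f.fiberι η).base w))) := by
      rw [hz]; exact Field.toIsField Y.functionField
    rw [IsLocalRing.isField_iff_maximalIdeal_eq.mp hF, Ideal.map_bot] at hker
    exact isReduced_of_injective _ (RingHom.injective_iff_ker_eq_bot _ |>.mpr hker)
  haveI : IsReduced X := by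
    refine ⟨fun O => ⟨fun s hs => TopCat.Presheaf.section_ext X.sheaf O s 0 fun x hx => ?_⟩⟩
    obtain ⟨U, hU, V, hV, hVU, hxV, hηU⟩ := hloc x
    obtain ⟨W, hW, hxW, hWO⟩ := exists_isAffineOpen_mem_and_subset (X := X) (x := x) (U := O ⊓ V) ⟨hx, hxV⟩
    have hWV : W ≤ f ⁻¹ᵁ U := fun w hw => hVU (hWO hw).2
    set a := X.presheaf.map (homOfLE (fun w hw => (hWO hw).1 : W ≤ O)).op s with ha
    suffices a = 0 by
      show X.presheaf.germ O x hx s = X.presheaf.germ O x hx 0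
      rw [map_zero, ← TopCat.Presheaf.germ_res_apply X.presheaf (homOfLE (fun w hw => (hWO hw).1 : W ≤ O)) x hxW s,
        ← ha, this, map_zero]
    by_contra ha0
    obtain ⟨P, hJP, hP⟩ := htf hU hW hWV hηU a (LinearMap.ker (LinearMap.toSpanSingleton Γ(X, W) Γ(X, W) a)) ha0
      (fun t ht => ht)
    have hzW : hW.fromSpec P ∈ W := by
      show hW.fromSpec P ∈ (W : Set X)
      rw [← hW.range_fromSpec]; exact ⟨_, rfl⟩
    haveI := hst _ (hprime hU hW hWV hηU P hP)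
    letI := TopCat.Presheaf.algebra_section_stalk X.presheaf (U := W) ⟨_, hzW⟩
    haveI := hW.isLocalization_stalk ⟨_, hzW⟩
    have hnil : IsNilpotent (algebraMap Γ(X, W) (X.presheaf.stalk (hW.fromSpec P)) a) :=
      (hs.map (X.presheaf.map (homOfLE (fun w hw => (hWO hw).1 : W ≤ O)).op).hom).map _
    obtain ⟨t, ht⟩ := (IsLocalization.map_eq_zero_iff (hW.primeIdealOf ⟨_, hzW⟩).asIdeal.primeCompl _ a).mp
      hnil.eq_zero
    have hQ : hW.primeIdealOf ⟨_, hzW⟩ = P := hW.fromSpec.isOpenEmbedding.injective (hW.fromSpec_primeIdealOf _)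
    exact t.2 ((congrArg PrimeSpectrum.asIdeal hQ).ge (hJP ht))
  exact isIntegral_of_irreducibleSpace_of_isReduced X

end Groth.Agent.S8886
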