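import Groth.Statements.S2070
import Groth.Agent.GeomRedFibLib.NormalBC
import Groth.Agent.NorLocLib.SmoothLocal
import Groth.Agent.NormalLib.N1
import Groth.Agent.GeomRedFibLib.Normal
import Groth.Agent.S9413

set_option autoImplicit false
set_option backward.isDefEq.respectTransparency false
set_option backward.isDefEq.respectTransparency.types false
universe u
open CAlg

namespace Groth.Agent.S2070

open TensorProduct in
/-- Let `A` be an algebra over a field `k`. Then all local rings of `k' ⊗ A` are integrally closed
domains for every field extension `k'/k` if and only if this holds for every finite purely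
inseparable extension `k'/k` (extensions in the same universe). -/
theorem result {k A : Type u} [Field k] [CommRing A] [Algebra k A] :
    (∀ (k' : Type u) [Field k'] [Algebra k k'] (P : Ideal (k' ⊗[k] A)) [P.IsPrime],
        IsDomain (Localization.AtPrime P) ∧ IsIntegrallyClosed (Localization.AtPrime P)) ↔
      ∀ (k' : Type u) [Field k'] [Algebra k k'], Module.Finite k k' → IsPurelyInseparable k k' →
        ∀ (P : Ideal (k' ⊗[k] A)) [P.IsPrime],
          IsDomain (Localization.AtPrime P) ∧ IsIntegrallyClosed (Localization.AtPrime P) := by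
  refine ⟨fun h k' _ _ _ _ P _ => h k' P, fun h => ?_⟩
  have hsep : ∀ (P L : Type u) [Field P] [Field L] [Algebra P L] [Module.Finite P L] [Algebra.IsSeparable P L],
      EGA4.IsGeomNormal P L := by
    intro P L _ _ _ _ _ F _ _ _ p _
    haveI : Algebra.FormallyEtale P L := Algebra.FormallyEtale.of_isSeparable P L
    haveI : IsReduced (F ⊗[P] L) := Algebra.FormallyUnramified.isReduced_of_field F (F ⊗[P] L)
    haveI : IsArtinianRing (F ⊗[P] L) := isArtinian_of_tower F inferInstance
    haveI : IsArtinianRing (Localization.AtPrime p) := inferInstance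
    haveI : IsReduced (Localization.AtPrime p) := inferInstance
    letI : Field (Localization.AtPrime p) :=
      (IsArtinianRing.isField_of_isReduced_of_isLocalRing (Localization.AtPrime p)).toField
    exact ⟨inferInstance, inferInstance⟩
  have hpi : ∀ (K : Type u) [Field K] [Algebra k K], Module.Finite k K → IsPurelyInseparable k K →
      EGA4.IsNormalRing (K ⊗[k] A) := fun K _ _ h1 h2 p _ => h K h1 h2 p
  have hfin : EGA4.IsGeomNormal k A := by
    intro k' _ _ hk'
    haveI := hk'
    let Ω := AlgebraicClosure k'
    let E : IntermediateField k Ω := IntermediateField.normalClosure k k' Ω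
    haveI : Algebra.IsAlgebraic k k' := Algebra.IsAlgebraic.of_finite k k'
    haveI : FiniteDimensional k E := normalClosure.is_finiteDimensional k k' Ω
    haveI : Normal k E := normalClosure.normal k k' Ω
    let P := IntermediateField.fixedField (⊤ : Subgroup (E ≃ₐ[k] E))
    haveI : IsPurelyInseparable k P := NormalLib.isPurelyInseparable_fixedField k E
    haveI : Algebra.IsSeparable P E := NormalLib.isSeparable_over_fixedField k E
    haveI : Module.Finite P E := Module.Finite.of_restrictScalars_finite k P E
    have hP : EGA4.IsNormalRing (P ⊗[k] A) := hpi P inferInstance inferInstance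
    have hE : EGA4.IsNormalRing (E ⊗[k] A) :=
      GeomRedFibLib.isNormalRing_of_ringEquiv _ _ (Algebra.TensorProduct.cancelBaseChange k P P E A).toRingEquiv
        (Groth.Agent.S9413.result P E (P ⊗[k] A) (hsep P E) hP)
    let ι : k' →ₐ[k] E :=
      ((IsScalarTower.toAlgHom k k' Ω).codRestrict E.toSubalgebra fun c =>
        (AlgHom.fieldRange_le_normalClosure (IsScalarTower.toAlgHom k k' Ω)) ⟨c, rfl⟩)
    letI : Algebra k' E := ι.toRingHom.toAlgebra
    haveI : IsScalarTower k k' E := IsScalarTower.of_algebraMap_eq fun c => (ι.commutes c).symm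
    haveI : Module.FaithfullyFlat k' E := inferInstance
    haveI : Module.FaithfullyFlat (k' ⊗[k] A) ((k' ⊗[k] A) ⊗[k'] E) := inferInstance
    exact NorLocLib.isNormalRing_of_faithfullyFlat_general (k' ⊗[k] A) ((k' ⊗[k] A) ⊗[k'] E)
      (GeomRedFibLib.isNormalRing_of_ringEquiv _ _
        (((Algebra.TensorProduct.cancelBaseChange k k' k' E A).symm.toRingEquiv).trans
          (Algebra.TensorProduct.comm k' E (k' ⊗[k] A)).toRingEquiv) hE)
  intro k' _ _ Q _
  have hn : EGA4.IsNormalRing (A ⊗[k] k') :=
    Groth.Agent.S9413.result k A k' hfin (GeomRedFibLib.isNormalRing_field k')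
  exact GeomRedFibLib.isNormalRing_of_ringEquiv _ _ (Algebra.TensorProduct.comm k A k').toRingEquiv hn Q
end Groth.Agent.S2070
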