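import Groth.Statements.S19656
import Groth.Agent.DvrProperLib.Components
-- import your own Groth.Agent.* helpers here

set_option autoImplicit false
universe u
open AlgebraicGeometry CategoryTheory CategoryTheory.Limits Topology
open EGA43

namespace Groth.Agent.S19656

/-- Let S be a locally Noetherian scheme and f : X → S a flat, separated morphism of finite type whose
fibres over the maximal points of S (points without proper generization), when nonempty, are
geometrically connected. If the fibre of f over a point s is nonempty and proper over the residue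
field, then f is proper over an open neighbourhood of s. (The text allows an arbitrary base with f
of finite presentation, reducing to the Noetherian case by a limit argument it does not carry out;
the base is taken locally Noetherian here. As in the discrete-valuation-ring case, the fibre over s
must be nonempty: the affine line over the fraction field of a discrete valuation ring has empty,
hence proper, closed fibre and is not proper near the closed point.) -/
theorem result
    {X S : Scheme.{u}} [IsLocallyNoetherian S] (f : X ⟶ S)
    [Flat f] [IsSeparated f] [LocallyOfFiniteType f] [QuasiCompact f]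
    (hgen : ∀ η : S, (∀ η' : S, η' ⤳ η → η' = η) → Nonempty ↥(f.fiber η) →
      GeometricallyConnected (f.fiberToSpecResidueField η))
    (s : S) [Nonempty ↥(f.fiber s)] (hs : IsProper (f.fiberToSpecResidueField s)) :
    ∃ U : S.Opens, s ∈ U ∧ IsProper (f ∣_ U) := by
  have : IsLocallyNoetherian X := LocallyOfFiniteType.isLocallyNoetherian f
  obtain ⟨U, hyU, hC, hP⟩ := DvrProperLib.exists_proper_trace f Set.univ isClosed_univ s
    fun z _ hmax A hA h hh hhy ↦ by
      have hfz : ∀ η' : S, η' ⤳ f z → η' = f z := fun η' hη' ↦ by
        obtain ⟨z', hz', rfl⟩ := Flat.generalizingMap f hη'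
        rw [hmax z' trivial hz']
      have hne : Nonempty ↥(f.fiber (f z)) := ⟨(f.fiberHomeo (f z)).symm ⟨z, rfl⟩⟩
      have hgc := hgen (f z) hfz hne
      obtain ⟨B, _, _, _, _, ι, hιi, hιl⟩ := DvrProperLib.exists_completion A
      obtain ⟨φ, hφ⟩ := DvrProperLib.exists_field_map A ι hιi
      let L := FractionRing B
      let b := Spec.map (CommRingCat.ofHom ι) ≫ h
      let aX : Spec (CommRingCat.of L) ⟶ X :=
        Spec.map (CommRingCat.ofHom φ) ≫ X.fromSpecResidueField z
      let jL : Spec (CommRingCat.of L) ⟶ Spec (CommRingCat.of B) :=
        Spec.map (CommRingCat.ofHom (algebraMap B L))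
      have hab : aX ≫ f = jL ≫ b := by
        show (Spec.map (CommRingCat.ofHom φ) ≫ X.fromSpecResidueField z) ≫ f =
          Spec.map (CommRingCat.ofHom (algebraMap B L)) ≫ Spec.map (CommRingCat.ofHom ι) ≫ h
        rw [← Spec.map_comp_assoc, ← CommRingCat.ofHom_comp, ← hφ, CommRingCat.ofHom_comp,
          Spec.map_comp, Category.assoc, Category.assoc]
        exact congrArg (Spec.map (CommRingCat.ofHom φ) ≫ ·) hh.symm
      have hb0 : b (IsLocalRing.closedPoint B) = s := by
        show h (PrimeSpectrum.comap ι (IsLocalRing.closedPoint B)) = s
        rw [IsLocalRing.comap_closedPoint]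
        exact hhy
      let η := genericPoint (Spec (CommRingCat.of B))
      have hjη : jL (IsLocalRing.closedPoint L) = η := by
        show _ = genericPoint (Spec (CommRingCat.of B))
        rw [genericPoint_eq_bot_of_affine]
        apply PrimeSpectrum.ext
        show (IsLocalRing.maximalIdeal L).comap (algebraMap B L) = ⊥
        rw [IsLocalRing.maximalIdeal_eq_bot, ← RingHom.ker_eq_comap_bot]
        exact (RingHom.injective_iff_ker_eq_bot _).mp (IsFractionRing.injective B L)
      have hb1 : b η = f z := by
        rw [← hjη]
        show (jL ≫ b) _ = _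
        rw [← hab]
        show f (X.fromSpecResidueField z _) = _
        rw [Scheme.fromSpecResidueField_apply]
      obtain ⟨φ₁, Φ₁, -, -, hΦ₁r⟩ := DvrProperLib.exists_fibre_map f b L jL η hjη (f z) hb1
      let jC : Spec (CommRingCat.of (IsLocalRing.ResidueField B)) ⟶ Spec (CommRingCat.of B) :=
        Spec.map (CommRingCat.ofHom (IsLocalRing.residue B))
      have : IsClosedImmersion jC :=
        IsClosedImmersion.spec_of_surjective _ IsLocalRing.residue_surjective
      obtain ⟨φ₀, Φ₀, -, hΦ₀, hΦ₀r⟩ := DvrProperLib.exists_fibre_map f b
        (IsLocalRing.ResidueField B) jC (IsLocalRing.closedPoint B)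
        (show PrimeSpectrum.comap (IsLocalRing.residue B) (IsLocalRing.closedPoint _) = _ from
          IsLocalRing.comap_closedPoint _) s hb0
      let P := pullback f b
      let q := pullback.snd f b
      let T : Set P := q ⁻¹' {η}
      have hT : _root_.IsPreconnected T := by
        have hc : ∀ (K : Type u) [Field K]
            [Algebra (IsLocalRing.ResidueField (S.presheaf.stalk (f z))) K],
            ConnectedSpace ↥(FBase.bc (f.fiberToSpecResidueField (f z)) K) := fun K _ _ ↦
          hgc.geometrically_connectedSpace _ _ _ (IsPullback.of_hasPullback _ _)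
        letI : Algebra (IsLocalRing.ResidueField (S.presheaf.stalk (f z))) L := φ₁.hom.toAlgebra
        have := hc L
        show _root_.IsPreconnected (q ⁻¹' {η})
        rw [← hΦ₁r]
        exact isPreconnected_range Φ₁.continuous
      have hcl : closure T = Set.univ := by
        refine Set.eq_univ_of_forall fun x ↦ ?_
        obtain ⟨x', hx', hqx'⟩ :=
          Flat.generalizingMap q ((genericPoint_spec _).specializes trivial : η ⤳ q x)
        exact hx'.mem_closed isClosed_closure (subset_closure hqx')
      have hk₀ : IsProper (Φ₀ ≫ q) := by
        rw [hΦ₀.w]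
        letI : Algebra (IsLocalRing.ResidueField (S.presheaf.stalk s)) (IsLocalRing.ResidueField B) :=
          φ₀.hom.toAlgebra
        have : IsProper (FBase.bcStr (f.fiberToSpecResidueField s) (IsLocalRing.ResidueField B)) :=
          MorphismProperty.of_isPullback
            (IsPullback.of_hasPullback (f.fiberToSpecResidueField s)
              (Spec.map (CommRingCat.ofHom (algebraMap (IsLocalRing.ResidueField (S.presheaf.stalk s))
                (IsLocalRing.ResidueField B))))) hs
        exact MorphismProperty.comp_mem @IsProper _ _ this inferInstance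
      obtain ⟨x₀⟩ := ‹Nonempty ↥(f.fiber s)›
      obtain ⟨hJ, -⟩ := DvrProperLib.isProper_closure_of_piece q T hT ⊤ Φ₀
        (by
          rw [hΦ₀r, hcl, TopologicalSpace.Opens.coe_top, Set.univ_inter, Set.inter_univ]
          rfl)
        (by
          rw [hΦ₀r]
          obtain ⟨p, -, hp⟩ := Scheme.Pullback.exists_preimage_pullback (f := f) (g := b)
            (f.fiberι s x₀) (IsLocalRing.closedPoint B) (by
              rw [hb0]
              exact (f.range_fiberι s).le ⟨x₀, rfl⟩)
          exact ⟨p, hp⟩)
      let J := Scheme.IdealSheafData.vanishingIdeal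
        (⟨closure T, isClosed_closure⟩ : TopologicalSpace.Closeds ↥P)
      have hJ' : IsProper (J.subschemeι ≫ q) := hJ
      let a := pullback.lift aX jL hab
      obtain ⟨l, hl₁, hl₂⟩ := (DvrDomLib.dvrExistence_of_universallyClosed
        (J.subschemeι ≫ q)).exists_lift B L
          (IsClosedImmersion.lift J.subschemeι a (DvrProperLib.ker_le_ker_of_range_subset _ _ (by
            rw [DvrProperLib.range_subscheme_vanishingIdeal]
            show Set.range a ⊆ closure T
            rw [hcl]
            exact Set.subset_univ _))) (𝟙 _) (by
            rw [IsClosedImmersion.lift_fac_assoc, pullback.lift_snd, Category.comp_id])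
      refine DvrProperLib.exists_lift_of_completion f z A h hh ι φ hφ
        (l ≫ J.subschemeι ≫ pullback.fst f b) ?_ ?_
      · rw [Category.assoc, Category.assoc, pullback.condition, reassoc_of% hl₁]
      · rw [← Category.assoc, hl₂, IsClosedImmersion.lift_fac_assoc, pullback.lift_fst]
  refine ⟨U, hyU, ?_⟩
  let J : (f ⁻¹ᵁ U).toScheme.IdealSheafData := Scheme.IdealSheafData.vanishingIdeal
    (⟨_, hC⟩ : TopologicalSpace.Closeds ↥(f ⁻¹ᵁ U))
  have hP' : IsProper (J.subschemeι ≫ (f ∣_ U)) := hP
  have : Surjective J.subschemeι := by
    rw [surjective_iff, ← Set.range_eq_univ]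
    exact (DvrProperLib.range_subscheme_vanishingIdeal _).trans
      (Set.preimage_univ (f := (f ⁻¹ᵁ U).ι))
  have : IsSeparated (f ∣_ U) :=
    MorphismProperty.of_isPullback (isPullback_morphismRestrict f U).flip ‹_›
  have : LocallyOfFiniteType (f ∣_ U) :=
    MorphismProperty.of_isPullback (isPullback_morphismRestrict f U).flip ‹_›
  have : UniversallyClosed (f ∣_ U) :=
    UniversallyClosed.of_comp_surjective J.subschemeι (f ∣_ U)
  exact { }

end Groth.Agent.S19656
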