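import Groth.Statements.S19657
import Groth.Agent.DvrProperLib.GeomConnApps
import Groth.Agent.S19656
import Groth.Agent.S2762
-- import your own Groth.Agent.* helpers here

set_option autoImplicit false
universe u
open AlgebraicGeometry CategoryTheory CategoryTheory.Limits Topology
open EGA43

namespace Groth.Agent.S19657

/-- The implication from the weakest fibrewise condition to the global one. Let S be a locally
Noetherian scheme and f : X → S a surjective, flat, separated morphism, locally of finite
presentation and quasi-compact, whose fibres are all smooth and proper over the residue fields and
whose fibres over the maximal points of S (points without proper generization) are geometrically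
connected. Then f is proper and smooth with geometrically connected fibres. (The text states the
criterion over an arbitrary base, appealing to a limit argument it does not carry out, and without
the words separated and surjective, which its proof uses through the properness criterion it invokes
and which are both needed: an abelian variety over the fraction field of a discrete valuation ring,
viewed over the ring, is flat of finite presentation with smooth proper fibres, the closed one
empty, and is not proper; and two copies of the projective line over a discrete valuation ring glued
along their generic fibres form a flat, surjective, finitely presented scheme over the ring with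
smooth proper fibres and geometrically connected generic fibre which is neither separated nor
proper.) -/
theorem result
    {X S : Scheme.{u}} [IsLocallyNoetherian S] (f : X ⟶ S)
    [Surjective f] [Flat f] [IsSeparated f] [LocallyOfFinitePresentation f] [QuasiCompact f]
    (hsm : ∀ s : S, Smooth (f.fiberToSpecResidueField s))
    (hpr : ∀ s : S, IsProper (f.fiberToSpecResidueField s))
    (hgen : ∀ η : S, (∀ η' : S, η' ⤳ η → η' = η) → GeometricallyConnected (f.fiberToSpecResidueField η)) :
    IsProper f ∧ Smooth f ∧ GeometricallyConnected f := by
  have hne : ∀ s : S, Nonempty ↥(f.fiber s) := fun s ↦ by
    obtain ⟨x, hx⟩ := f.surjective s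
    exact ⟨(f.fiberHomeo s).symm ⟨x, hx⟩⟩
  choose U hU hP using fun s ↦
    have := hne s
    Groth.Agent.S19656.result f (fun η h _ ↦ hgen η h) s (hpr s)
  have hf : IsProper f :=
    IsZariskiLocalAtTarget.of_iSup_eq_top (P := @IsProper) U
      (eq_top_iff.mpr fun s _ ↦ TopologicalSpace.Opens.mem_iSup.mpr ⟨s, hU s⟩) hP
  refine ⟨hf, ?_, ⟨fun K _ y Z fst snd hZ ↦ ?_⟩⟩
  · refine (Groth.Agent.S2762.result (𝟙 S) f f (Category.comp_id f)).mpr fun s ↦ ?_
    obtain ⟨m, hm⟩ := DvrProperLib.exists_isPullback_fiber f s ((𝟙 S : S ⟶ S).fiberι s)
      ((𝟙 S : S ⟶ S).fiberToSpecResidueField s)
      (((𝟙 S : S ⟶ S).fiber_fac s).symm.trans (Category.comp_id _))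
    exact MorphismProperty.of_isPullback hm (hsm s)
  · have := DvrProperLib.connectedSpace_pullback_of_maximal f hgen K y (f.surjective _)
    exact hZ.isoPullback.inv.surjective.connectedSpace hZ.isoPullback.inv.continuous

end Groth.Agent.S19657
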