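import Groth.Statements.S17901
import Mathlib

set_option autoImplicit false
universe u
open TensorProduct
open Pinch

namespace Groth.Agent.S17901

/-- Let R be a commutative ring and let B' → B → A, B' → A' → A be a fibre square of R-algebras (B' = B
×_A A') with A' → A surjective, where B, A' and A are flat over R. Then for every commutative
R-algebra R' the square obtained by applying R' ⊗_R − is again a fibre square: R' ⊗_R A' → R' ⊗_R A
is surjective and every pair of elements of R' ⊗_R B and R' ⊗_R A' with the same image in R' ⊗_R A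
is the image of a unique element of R' ⊗_R B'. (The published lemma concludes that the base-changed
square of spectra is co-cartesian in ringed spaces; this row states the ring form, surjective edge
and fibre product, which its proof establishes before translating it to ringed spaces.) -/
theorem result (R B' B A' A : Type u) [CommRing R] [CommRing B'] [CommRing B] [CommRing A'] [CommRing A]
    [Algebra B' B] [Algebra B' A'] [Algebra B A] [Algebra A' A] [Algebra B' A]
    [IsScalarTower B' B A] [IsScalarTower B' A' A]
    [Algebra R B'] [Algebra R B] [Algebra R A'] [Algebra R A]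
    [IsScalarTower R B' B] [IsScalarTower R B' A'] [IsScalarTower R B' A] [IsScalarTower R B A] [IsScalarTower R A' A]
    (hsq : EtMil.IsFibreSquare B' B A' A)
    [Module.Flat R B] [Module.Flat R A'] [Module.Flat R A]
    (R' : Type u) [CommRing R'] [Algebra R R'] :
    Function.Surjective (Algebra.TensorProduct.map (AlgHom.id R R') (IsScalarTower.toAlgHom R A' A)) ∧
    ∀ (x : R' ⊗[R] B) (y : R' ⊗[R] A'),
      Algebra.TensorProduct.map (AlgHom.id R R') (IsScalarTower.toAlgHom R B A) x =
        Algebra.TensorProduct.map (AlgHom.id R R') (IsScalarTower.toAlgHom R A' A) y →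
      ∃! z : R' ⊗[R] B',
        Algebra.TensorProduct.map (AlgHom.id R R') (IsScalarTower.toAlgHom R B' B) z = x ∧
        Algebra.TensorProduct.map (AlgHom.id R R') (IsScalarTower.toAlgHom R B' A') z = y := by
  let i : B' →ₗ[R] B × A' :=
    (IsScalarTower.toAlgHom R B' B).toLinearMap.prod (IsScalarTower.toAlgHom R B' A').toLinearMap
  let v : B × A' →ₗ[R] A :=
    (IsScalarTower.toAlgHom R B A).toLinearMap.coprod (-(IsScalarTower.toAlgHom R A' A).toLinearMap)
  have hi : Function.Injective i := fun a b hab => by
    obtain ⟨z, -, hz⟩ := hsq.2 (algebraMap B' B a) (algebraMap B' A' a) (by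
      rw [← IsScalarTower.algebraMap_apply, ← IsScalarTower.algebraMap_apply])
    exact (hz a ⟨rfl, rfl⟩).trans (hz b ⟨(congrArg Prod.fst hab).symm, (congrArg Prod.snd hab).symm⟩).symm
  have hiv : Function.Exact i v := fun p => by
    constructor
    · intro hp
      obtain ⟨z, hz, -⟩ := hsq.2 p.1 p.2 (by
        have : algebraMap B A p.1 + -algebraMap A' A p.2 = 0 := hp
        rwa [← sub_eq_add_neg, sub_eq_zero] at this)
      exact ⟨z, Prod.ext hz.1 hz.2⟩
    · rintro ⟨z, rfl⟩
      change algebraMap B A (algebraMap B' B z) + -algebraMap A' A (algebraMap B' A' z) = 0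
      rw [← IsScalarTower.algebraMap_apply, ← IsScalarTower.algebraMap_apply, add_neg_cancel]
  have hv : Function.Surjective v := fun a => by
    obtain ⟨a', ha⟩ := hsq.1 a
    refine ⟨(0, -a'), ?_⟩
    simp [v, ha]
  refine ⟨?_, fun x y hxy => ?_⟩
  · exact LinearMap.lTensor_surjective R' (g := (IsScalarTower.toAlgHom R A' A).toLinearMap) hsq.1
  let P := TensorProduct.prodRight R R R' B A'
  have hfst : ∀ w : R' ⊗[R] B', (P (i.lTensor R' w)).1 =
      Algebra.TensorProduct.map (AlgHom.id R R') (IsScalarTower.toAlgHom R B' B) w := fun w => by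
    induction w with
    | zero => simp
    | tmul r b => simp [P, i]
    | add a b ha hb => simp [map_add, ha, hb]
  have hsnd : ∀ w : R' ⊗[R] B', (P (i.lTensor R' w)).2 =
      Algebra.TensorProduct.map (AlgHom.id R R') (IsScalarTower.toAlgHom R B' A') w := fun w => by
    induction w with
    | zero => simp
    | tmul r b => simp [P, i]
    | add a b ha hb => simp [map_add, ha, hb]
  have hcop : ∀ w : R' ⊗[R] (B × A'), v.lTensor R' w =
      Algebra.TensorProduct.map (AlgHom.id R R') (IsScalarTower.toAlgHom R B A) (P w).1 -
        Algebra.TensorProduct.map (AlgHom.id R R') (IsScalarTower.toAlgHom R A' A) (P w).2 := fun w => by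
    induction w with
    | zero => simp
    | tmul r b => simp [P, v, ← sub_eq_add_neg, TensorProduct.tmul_sub]
    | add a b ha hb => simp [map_add, ha, hb]; abel
  obtain ⟨z, hz⟩ := ((lTensor_exact R' hiv hv) (P.symm (x, y))).mp (by
    rw [hcop, LinearEquiv.apply_symm_apply, hxy, sub_self])
  have hinj := LinearMap.lTensor_injective_of_exact_of_flat v hv i hi hiv R'
  refine ⟨z, ⟨?_, ?_⟩, fun w hw => hinj (P.injective ?_)⟩
  · rw [← hfst, hz, LinearEquiv.apply_symm_apply]
  · rw [← hsnd, hz, LinearEquiv.apply_symm_apply]
  · rw [hz, LinearEquiv.apply_symm_apply]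
    exact Prod.ext (by rw [hfst, hw.1]) (by rw [hsnd, hw.2])

end Groth.Agent.S17901
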