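import Groth.Statements.S19888
import Groth.Agent.CohCmpLib.FrameTools
import Groth.Agent.CohCmpLib.PuSec
import Groth.Agent.CohCmpLib.PullOnComp
import Groth.Agent.MiscFlat6.SectionDescent
import Groth.Agent.RSPushoutLib.Sections
import Mathlib

set_option autoImplicit false
set_option backward.isDefEq.respectTransparency false
set_option backward.isDefEq.respectTransparency.types false
set_option maxHeartbeats 1000000
universe u
open CategoryTheory AlgebraicGeometry
open Pinch

namespace Groth.Agent.S19888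

open CategoryTheory CategoryTheory.Limits AlgebraicGeometry TopologicalSpace Opposite
open ProjFormLib (ger res ger_res ger_smul section_ext IsFrame)
open KFlatLib (pb puSec puSecLE)
noncomputable section

variable {X Y Z T : Scheme.{u}}

/-- Sections with a frame are the linear combinations. -/
theorem frame_bij {E : T.Modules} {n : ℕ} {U : T.Opens} {e : Fin n → Γ(E, U)} (he : IsFrame E e) :
    Function.Bijective fun c : Fin n → Γ(T, U) => ∑ i, c i • e i := by
  classical
  have hger : ∀ {V : T.Opens} (hV : V ≤ U) (c : Fin n → Γ(T, V)) (y : T) (hy : y ∈ V),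
      ger E y hy (∑ i, c i • res E hV (e i)) =
        Fintype.linearCombination (T.presheaf.stalk y) (fun i => ger E y (hV hy) (e i))
          fun i => T.presheaf.germ V y hy (c i) := by
    intro V hV c y hy
    rw [Fintype.linearCombination_apply]
    refine (map_sum (E.presheaf.germ V y hy).hom _ _).trans (Finset.sum_congr rfl fun i _ => ?_)
    exact (ger_smul E y hy (c i) _).trans (congrArg (_ • ·) (ger_res E hV y hy (e i)))
  have hinj : ∀ {V : T.Opens} (hV : V ≤ U) (c c' : Fin n → Γ(T, V)),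
      ∑ i, c i • res E hV (e i) = ∑ i, c' i • res E hV (e i) → c = c' := by
    intro V hV c c' h
    refine funext fun i => TopCat.Presheaf.section_ext T.sheaf V _ _ fun y hy => ?_
    have h2 := congrArg (ger E y hy) h
    rw [hger, hger] at h2
    exact congrFun ((he y (hV hy)).1 h2) i
  have hres : ∀ {V W : T.Opens} (hV : V ≤ U) (hW : W ≤ V) (c : Fin n → Γ(T, V)),
      res E hW (∑ i, c i • res E hV (e i)) =
        ∑ i, T.presheaf.map (homOfLE hW).op (c i) • res E (hW.trans hV) (e i) := by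
    intro V W hV hW c
    refine (map_sum (E.presheaf.map (homOfLE hW).op).hom _ _).trans (Finset.sum_congr rfl fun i _ => ?_)
    exact (Scheme.Modules.map_smul E (homOfLE hW) (c i) _).trans
      (congrArg (_ • ·) (QCohLib.map_map' E (homOfLE hW) (homOfLE hV) (e i)))
  have hid : ∀ s : Γ(E, U), res E (le_refl U) s = s := fun s => congr($(E.presheaf.map_id _) s)
  refine ⟨fun c c' h => hinj le_rfl c c' (by simpa only [hid] using h), fun t => ?_⟩
  have near : ∀ y : U, ∃ (W : T.Opens) (hW : W ≤ U), y.1 ∈ W ∧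
      ∃ c : Fin n → Γ(T, W), ∑ i, c i • res E hW (e i) = res E hW t := by
    rintro ⟨y, hy⟩
    obtain ⟨a, ha⟩ := (he y hy).2 (ger E y hy t)
    choose Wi hWi s hs using fun i => T.presheaf.exists_germ_eq (x := y) (a i)
    let W₀ : T.Opens := U ⊓ Finset.univ.inf Wi
    have hW₀ : y ∈ W₀ := by
      refine ⟨hy, ?_⟩
      change y ∈ ((Finset.univ.inf Wi : T.Opens) : Set T)
      rw [Opens.coe_finset_inf, Finset.inf_eq_iInf]
      simp only [Function.comp_apply, Set.iInf_eq_iInter, Set.mem_iInter]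
      exact fun i _ => hWi i
    have hle : ∀ i, W₀ ≤ Wi i := fun i => inf_le_right.trans (Finset.inf_le (Finset.mem_univ i))
    let c₀ := fun i => T.presheaf.map (homOfLE (hle i)).op (s i)
    have hg : ger E y hW₀ (∑ i, c₀ i • res E inf_le_left (e i)) = ger E y hW₀ (res E inf_le_left t) := by
      rw [hger, ger_res, ← ha]
      refine congrArg _ (funext fun i => ?_)
      exact (TopCat.Presheaf.germ_res_apply T.presheaf (homOfLE (hle i)) y hW₀ (s i)).trans (hs i)
    obtain ⟨W, hyW, iU, iV, hW⟩ := E.presheaf.germ_eq y hW₀ hW₀ _ _ hg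
    obtain rfl : iU = iV := Subsingleton.elim _ _
    refine ⟨W, iU.le.trans inf_le_left, hyW, _, ((hres inf_le_left iU.le c₀).symm.trans hW).trans ?_⟩
    exact QCohLib.map_map' E iU (homOfLE inf_le_left) t
  choose W hWU hyW c hc using near
  have hglue : ∀ i, ∃ g : Γ(T, U), ∀ y, T.presheaf.map (homOfLE (hWU y)).op g = c y i := by
    intro i
    have hcomp : ∀ y z, T.presheaf.map (homOfLE (inf_le_left : W y ⊓ W z ≤ W y)).op (c y i) =
        T.presheaf.map (homOfLE (inf_le_right : W y ⊓ W z ≤ W z)).op (c z i) := by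
      intro y z
      have key : (fun j => T.presheaf.map (homOfLE (inf_le_left : W y ⊓ W z ≤ W y)).op (c y j)) =
          fun j => T.presheaf.map (homOfLE (inf_le_right : W y ⊓ W z ≤ W z)).op (c z j) := by
        apply hinj (inf_le_left.trans (hWU y))
        rw [← hres (hWU y) inf_le_left, hc]
        refine (QCohLib.map_map' E _ _ t).trans ?_
        refine Eq.trans ?_ (hres (hWU z) inf_le_right (c z))
        rw [hc]
        exact (QCohLib.map_map' E (homOfLE inf_le_right) (homOfLE (hWU z)) t).symm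
      exact congrFun key i
    obtain ⟨g, hg, -⟩ := TopCat.Sheaf.existsUnique_gluing' T.sheaf W U (fun y => homOfLE (hWU y))
      (fun y hy => Opens.mem_iSup.2 ⟨⟨y, hy⟩, hyW _⟩) (fun y => c y i) hcomp
    exact ⟨g, hg⟩
  choose g hg using hglue
  refine ⟨g, section_ext _ _ fun y hy => ?_⟩
  have h1 := congrArg (res E (hWU ⟨y, hy⟩)) (show (∑ i, g i • e i) = ∑ i, g i • res E le_rfl (e i) by
    simp only [hid])
  rw [hres] at h1
  simp only [hg] at h1
  rw [← ger_res E (hWU ⟨y, hy⟩) y (hyW _), ← ger_res E (hWU ⟨y, hy⟩) y (hyW _) t]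
  exact congrArg (ger E y (hyW _)) (h1.trans (hc _))

theorem rr (M : X.Modules) {U V W : X.Opens} (h : V ≤ U) (h' : W ≤ V) (m : Γ(M, U)) :
    res M h' (res M h m) = res M (h'.trans h) m :=
  QCohLib.map_map' M (homOfLE h') (homOfLE h) m

theorem puSecLE_rfl (g : X ⟶ T) (M : T.Modules) {U : T.Opens} (m : Γ(M, U)) :
    puSecLE g M le_rfl m = puSec g m :=
  congr($((pb g M).presheaf.map_id _) (puSec g m))

theorem puSec_res (g : X ⟶ T) (M : T.Modules) {U V : T.Opens} (h : V ≤ U) (m : Γ(M, U)) :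
    puSec g (res M h m) = res (pb g M) (g.preimage_mono h) (puSec g m) :=
  QCohLib.app_map ((Scheme.Modules.pullbackPushforwardAdjunction g).unit.app M) (homOfLE h) m

theorem puSecLE_res (g : X ⟶ T) (M : T.Modules) {U V : T.Opens} (h : V ≤ U) {U' V' : X.Opens} (hU : U' ≤ g ⁻¹ᵁ U)
    (hV : V' ≤ g ⁻¹ᵁ V) (h' : V' ≤ U') (m : Γ(M, U)) :
    puSecLE g M hV (res M h m) = res (pb g M) h' (puSecLE g M hU m) := by
  rw [KFlatLib.puSecLE_apply, KFlatLib.puSecLE_apply, puSec_res]
  exact (rr _ _ _ _).trans (rr _ _ _ _).symm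

theorem puSec_sum (g : X ⟶ T) (M : T.Modules) {U : T.Opens} {n : ℕ} (c : Fin n → Γ(T, U)) (m : Fin n → Γ(M, U)) :
    puSec g (∑ i, c i • m i) = ∑ i, g.app U (c i) • puSec g (m i) := by
  simp only [← puSecLE_rfl, map_sum, KFlatLib.puSecLE_smul, Scheme.Hom.app_eq_appLE]

variable (fX : Z ⟶ X) (fY : Z ⟶ Y) (gX : X ⟶ T) (gY : Y ⟶ T) (hw : fX ≫ gX = fY ≫ gY)

/-- The identification of the two iterated pullbacks. -/
def xi (N : T.Modules) : pb fX (pb gX N) ⟶ pb fY (pb gY N) :=
  ((Scheme.Modules.pullbackComp fX gX).app N ≪≫ (Scheme.Modules.pullbackCongr hw).app N ≪≫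
    ((Scheme.Modules.pullbackComp fY gY).app N).symm).hom

include hw in
theorem pre_le (V : T.Opens) : fX ⁻¹ᵁ gX ⁻¹ᵁ V ≤ fY ⁻¹ᵁ gY ⁻¹ᵁ V := by
  rw [← Scheme.Hom.comp_preimage, ← Scheme.Hom.comp_preimage, hw]

theorem xi_puSec (N : T.Modules) {V : T.Opens} (m : Γ(N, V)) :
    (xi fX fY gX gY hw N).app (fX ⁻¹ᵁ gX ⁻¹ᵁ V) (puSecLE fX (pb gX N) le_rfl (puSec gX m)) =
      puSecLE fY (pb gY N) (pre_le fX fY gX gY hw V) (puSec gY m) := by
  rw [← puSecLE_rfl gX N m, ← puSecLE_rfl gY N m]
  have hXT : fX ⁻¹ᵁ gX ⁻¹ᵁ V ≤ (fX ≫ gX) ⁻¹ᵁ V := le_rfl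
  have h1 := CohCmpLib.pullbackComp_puSecLE fX gX N m (le_refl (gX ⁻¹ᵁ V)) (le_refl (fX ⁻¹ᵁ gX ⁻¹ᵁ V))
  have h2 := CohCmpLib.pullbackCongr_puSec hw N m hXT (by rw [← hw]; exact hXT)
  rw [← MiscFlat6.pullbackComp_inv_puSecLE fY gY N m (le_refl (gY ⁻¹ᵁ V)) (pre_le fX fY gX gY hw V)
    (pre_le fX fY gX gY hw V), ← h2, ← h1]
  rfl

/-- The pair of pulled back sections. -/
def Glue (N : T.Modules) (V : T.Opens) : Prop :=
  (∀ p : Γ(N, V), puSec gX p = 0 → puSec gY p = 0 → p = 0) ∧
    ∀ (s : Γ(pb gX N, gX ⁻¹ᵁ V)) (t : Γ(pb gY N, gY ⁻¹ᵁ V)),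
      (xi fX fY gX gY hw N).app (fX ⁻¹ᵁ gX ⁻¹ᵁ V) (puSecLE fX (pb gX N) le_rfl s) =
        puSecLE fY (pb gY N) (pre_le fX fY gX gY hw V) t →
      ∃ p : Γ(N, V), puSec gX p = s ∧ puSec gY p = t

theorem glue_of_frame
    (hpo : IsPushout ((Scheme.forgetToLocallyRingedSpace ⋙ LocallyRingedSpace.forgetToSheafedSpace).map fX)
      ((Scheme.forgetToLocallyRingedSpace ⋙ LocallyRingedSpace.forgetToSheafedSpace).map fY)
      ((Scheme.forgetToLocallyRingedSpace ⋙ LocallyRingedSpace.forgetToSheafedSpace).map gX)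
      ((Scheme.forgetToLocallyRingedSpace ⋙ LocallyRingedSpace.forgetToSheafedSpace).map gY))
    (N : T.Modules) {V : T.Opens} {n : ℕ} {e : Fin n → Γ(N, V)} (he : IsFrame N e) :
    Glue fX fY gX gY hw N V := by
  have hX := frame_bij (CohCmpLib.isFrame_puSec gX he)
  have hY := frame_bij (CohCmpLib.isFrame_puSec gY he)
  have hZ := frame_bij (CohCmpLib.isFrame_puSecLE fY (CohCmpLib.isFrame_puSec gY he) (pre_le fX fY gX gY hw V))
  obtain ⟨hi, hl⟩ := RSPushoutLib.scheme_sections hw hpo V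
  constructor
  · intro p hpX hpY
    obtain ⟨c, rfl⟩ := (frame_bij he).2 p
    rw [puSec_sum] at hpX hpY
    have cX := hX.1 (a₁ := fun i => gX.app V (c i)) (a₂ := 0) (by simpa using hpX)
    have cY := hY.1 (a₁ := fun i => gY.app V (c i)) (a₂ := 0) (by simpa using hpY)
    have : c = 0 := funext fun i => hi (c i) (congrFun cX i) (congrFun cY i)
    simp [this]
  · intro s t hst
    obtain ⟨a, rfl⟩ := hX.2 s
    obtain ⟨b, rfl⟩ := hY.2 t
    rw [map_sum, map_sum, map_sum] at hst
    simp only [KFlatLib.puSecLE_smul, Scheme.Modules.Hom.app_smul, xi_puSec] at hst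
    have hab := hZ.1 hst
    choose p hpX hpY using fun i => hl (a i) (b i) (by rw [fX.app_eq_appLE]; exact congrFun hab i)
    exact ⟨∑ i, p i • e i, by rw [puSec_sum]; simp only [hpX], by rw [puSec_sum]; simp only [hpY]⟩

theorem glue
    (hpo : IsPushout ((Scheme.forgetToLocallyRingedSpace ⋙ LocallyRingedSpace.forgetToSheafedSpace).map fX)
      ((Scheme.forgetToLocallyRingedSpace ⋙ LocallyRingedSpace.forgetToSheafedSpace).map fY)
      ((Scheme.forgetToLocallyRingedSpace ⋙ LocallyRingedSpace.forgetToSheafedSpace).map gX)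
      ((Scheme.forgetToLocallyRingedSpace ⋙ LocallyRingedSpace.forgetToSheafedSpace).map gY))
    (N : T.Modules) (hN : FlatMod.IsFinLocFree N) (V : T.Opens) : Glue fX fY gX gY hw N V := by
  classical
  choose U n e hxU he using ProjFormLib.exists_frame hN
  have hg : ∀ (y : T) (W : T.Opens) (h : W ≤ U y), Glue fX fY gX gY hw N W := fun y W h =>
    glue_of_frame fX fY gX gY hw hpo N ((he y).res h)
  let S : TopCat.Sheaf AddCommGrpCat.{u} T.toTopCat := (QCohLib.toAbF T).obj N
  have hcov : V ≤ ⨆ y, V ⊓ U y := fun y hy => Opens.mem_iSup.2 ⟨y, hy, hxU y⟩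
  constructor
  · intro p hpX hpY
    refine section_ext _ _ fun y hy => ?_
    have h0 : res N (inf_le_left : V ⊓ U y ≤ V) p = 0 := (hg y _ inf_le_right).1 _
      (by rw [puSec_res, hpX]; exact map_zero _) (by rw [puSec_res, hpY]; exact map_zero _)
    rw [← ger_res N (inf_le_left : V ⊓ U y ≤ V) y ⟨hy, hxU y⟩ p, h0]
    exact (map_zero (N.presheaf.germ _ y _).hom).trans (map_zero (N.presheaf.germ _ y _).hom).symm
  · intro s t hst
    have hloc : ∀ W : T.Opens, ∀ h : W ≤ V,
        (xi fX fY gX gY hw N).app (fX ⁻¹ᵁ gX ⁻¹ᵁ W)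
            (puSecLE fX (pb gX N) le_rfl (res (pb gX N) (gX.preimage_mono h) s)) =
          puSecLE fY (pb gY N) (pre_le fX fY gX gY hw W) (res (pb gY N) (gY.preimage_mono h) t) := by
      intro W h
      rw [puSecLE_res fX _ (gX.preimage_mono h) le_rfl le_rfl (fX.preimage_mono (gX.preimage_mono h)),
        puSecLE_res fY _ (gY.preimage_mono h) (pre_le fX fY gX gY hw V) _ (fX.preimage_mono (gX.preimage_mono h)),
        ← hst]
      exact QCohLib.app_map _ _ _
    choose p hpX hpY using fun y => (hg y (V ⊓ U y) inf_le_right).2 _ _ (hloc _ inf_le_left)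
    have hpc : ∀ y z, res N (inf_le_left : (V ⊓ U y) ⊓ (V ⊓ U z) ≤ V ⊓ U y) (p y) =
        res N (inf_le_right : (V ⊓ U y) ⊓ (V ⊓ U z) ≤ V ⊓ U z) (p z) := by
      intro y z
      have G := hg y ((V ⊓ U y) ⊓ (V ⊓ U z)) (inf_le_left.trans inf_le_right)
      refine sub_eq_zero.1 (G.1 _ ?_ ?_)
      · rw [← puSecLE_rfl, map_sub, puSecLE_rfl, puSecLE_rfl, puSec_res, puSec_res, hpX, hpX, sub_eq_zero]
        exact (rr _ _ _ _).trans (rr _ _ _ _).symm
      · rw [← puSecLE_rfl, map_sub, puSecLE_rfl, puSecLE_rfl, puSec_res, puSec_res, hpY, hpY, sub_eq_zero]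
        exact (rr _ _ _ _).trans (rr _ _ _ _).symm
    obtain ⟨P, hP, -⟩ := TopCat.Sheaf.existsUnique_gluing' S (fun y => V ⊓ U y) V (fun y => homOfLE inf_le_left)
      hcov p hpc
    refine ⟨P, section_ext _ _ fun x hx => ?_, section_ext _ _ fun x hx => ?_⟩
    · have h2 := congrArg (puSec gX) (show res N inf_le_left P = p (gX x) from hP (gX x))
      rw [puSec_res, hpX] at h2
      have h3 := congrArg (ger (pb gX N) x (show x ∈ gX ⁻¹ᵁ (V ⊓ U (gX x)) from ⟨hx, hxU _⟩)) h2
      rwa [ger_res, ger_res] at h3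
    · have h2 := congrArg (puSec gY) (show res N inf_le_left P = p (gY x) from hP (gY x))
      rw [puSec_res, hpY] at h2
      have h3 := congrArg (ger (pb gY N) x (show x ∈ gY ⁻¹ᵁ (V ⊓ U (gY x)) from ⟨hx, hxU _⟩)) h2
      rwa [ger_res, ger_res] at h3

theorem pb_hom_ext (g : X ⟶ T) {M : T.Modules} {P : X.Modules} {a b : pb g M ⟶ P}
    (h : ∀ (U : T.Opens) (m : Γ(M, U)), a.app (g ⁻¹ᵁ U) (puSec g m) = b.app (g ⁻¹ᵁ U) (puSec g m)) : a = b := by
  apply ((Scheme.Modules.pullbackPushforwardAdjunction g).homEquiv M P).injective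
  rw [Adjunction.homEquiv_unit, Adjunction.homEquiv_unit]
  refine Scheme.Modules.hom_ext _ _ fun U => ?_
  ext m
  exact h U m

end

/-- Let f_X : Z → X, f_Y : Z → Y, g_X : X → T and g_Y : Y → T be morphisms of schemes with g_X ∘ f_X =
g_Y ∘ f_Y forming a pushout square in the category of ringed spaces, and let M and N be locally free
O_T-modules of finite rank. For an O_T-module P write ξ_P : f_X^* g_X^* P ≅ f_Y^* g_Y^* P for the
canonical isomorphism. Then the functor P ↦ (g_X^* P, g_Y^* P, ξ_P) is fully faithful on such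
modules: a morphism φ : M → N is determined by the pair (g_X^* φ, g_Y^* φ), and every pair of
morphisms a : g_X^* M → g_X^* N, b : g_Y^* M → g_Y^* N with ξ_N ∘ f_X^*(a) = f_Y^*(b) ∘ ξ_M is of
this form. (The source states the equivalence of categories for the pinching square of a closed
immersion Z → X along a finite surjective Z → Z'; the full-faithfulness half is established there
for any square of schemes that is a pushout of ringed spaces, which is the form given here. The
essential-surjectivity half is a separate statement.) -/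
theorem result {X Y Z T : Scheme.{u}}
    (fX : Z ⟶ X) (fY : Z ⟶ Y) (gX : X ⟶ T) (gY : Y ⟶ T) (hw : fX ≫ gX = fY ≫ gY)
    (hpo : IsPushout ((Scheme.forgetToLocallyRingedSpace ⋙ LocallyRingedSpace.forgetToSheafedSpace).map fX) ((Scheme.forgetToLocallyRingedSpace ⋙ LocallyRingedSpace.forgetToSheafedSpace).map fY)
      ((Scheme.forgetToLocallyRingedSpace ⋙ LocallyRingedSpace.forgetToSheafedSpace).map gX) ((Scheme.forgetToLocallyRingedSpace ⋙ LocallyRingedSpace.forgetToSheafedSpace).map gY))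
    (M N : T.Modules) (hM : FlatMod.IsFinLocFree M) (hN : FlatMod.IsFinLocFree N) :
    (∀ φ ψ : M ⟶ N, (Scheme.Modules.pullback gX).map φ = (Scheme.Modules.pullback gX).map ψ →
        (Scheme.Modules.pullback gY).map φ = (Scheme.Modules.pullback gY).map ψ → φ = ψ) ∧
      (∀ (a : (Scheme.Modules.pullback gX).obj M ⟶ (Scheme.Modules.pullback gX).obj N)
        (b : (Scheme.Modules.pullback gY).obj M ⟶ (Scheme.Modules.pullback gY).obj N),
        (Scheme.Modules.pullback fX).map a ≫
            ((Scheme.Modules.pullbackComp fX gX).app N ≪≫ (Scheme.Modules.pullbackCongr hw).app N ≪≫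
              ((Scheme.Modules.pullbackComp fY gY).app N).symm).hom =
          ((Scheme.Modules.pullbackComp fX gX).app M ≪≫ (Scheme.Modules.pullbackCongr hw).app M ≪≫
              ((Scheme.Modules.pullbackComp fY gY).app M).symm).hom ≫
            (Scheme.Modules.pullback fY).map b →
        ∃ φ : M ⟶ N, (Scheme.Modules.pullback gX).map φ = a ∧ (Scheme.Modules.pullback gY).map φ = b) := by
  have hG := glue fX fY gX gY hw hpo N hN
  refine ⟨fun φ ψ hX hY => ?_, fun a b hab => ?_⟩
  · refine Scheme.Modules.hom_ext _ _ fun U => ?_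
    ext m
    refine sub_eq_zero.1 ((hG U).1 _ ?_ ?_)
    · rw [← puSecLE_rfl, map_sub, puSecLE_rfl, puSecLE_rfl, ← KFlatLib.puSec_natural, ← KFlatLib.puSec_natural, hX, sub_self]
    · rw [← puSecLE_rfl, map_sub, puSecLE_rfl, puSecLE_rfl, ← KFlatLib.puSec_natural, ← KFlatLib.puSec_natural, hY, sub_self]
  · replace hab : (Scheme.Modules.pullback fX).map a ≫ xi fX fY gX gY hw N =
        xi fX fY gX gY hw M ≫ (Scheme.Modules.pullback fY).map b := hab
    have main : ∀ (U : T.Opens) (m : Γ(M, U)), ∃! p : Γ(N, U),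
        puSec gX p = a.app _ (puSec gX m) ∧ puSec gY p = b.app _ (puSec gY m) := by
      intro U m
      have h := congr(Scheme.Modules.Hom.app $hab (fX ⁻¹ᵁ gX ⁻¹ᵁ U) (puSecLE fX (pb gX M) le_rfl (puSec gX m)))
      have h' : (xi fX fY gX gY hw N).app _ (puSecLE fX (pb gX N) le_rfl (a.app _ (puSec gX m))) =
          puSecLE fY (pb gY N) (pre_le fX fY gX gY hw U) (b.app _ (puSec gY m)) := by
        rw [← CohCmpLib.puSecLE_natural, ← CohCmpLib.puSecLE_natural, ← xi_puSec fX fY gX gY hw M m]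
        exact h
      obtain ⟨p, hp⟩ := (hG U).2 _ _ h'
      refine ⟨p, hp, fun q hq => sub_eq_zero.1 ((hG U).1 _ ?_ ?_)⟩
      · rw [← puSecLE_rfl, map_sub, puSecLE_rfl, puSecLE_rfl, hp.1, hq.1, sub_self]
      · rw [← puSecLE_rfl, map_sub, puSecLE_rfl, puSecLE_rfl, hp.2, hq.2, sub_self]
    choose β hβ hu using main
    have hadd : ∀ (W : T.Opens) (t t' : Γ(M, W)), β W (t + t') = β W t + β W t' := fun W t t' =>
      (hu W _ _ ⟨by rw [← puSecLE_rfl, map_add, puSecLE_rfl, puSecLE_rfl, (hβ W t).1, (hβ W t').1,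
            ← puSecLE_rfl gX M, ← puSecLE_rfl gX M, ← puSecLE_rfl gX M, map_add, map_add],
          by rw [← puSecLE_rfl, map_add, puSecLE_rfl, puSecLE_rfl, (hβ W t).2, (hβ W t').2,
            ← puSecLE_rfl gY M, ← puSecLE_rfl gY M, ← puSecLE_rfl gY M, map_add, map_add]⟩).symm
    have hlin : ∀ (W : T.Opens) (r : Γ(T, W)) (t : Γ(M, W)), β W (r • t) = r • β W t := fun W r t =>
      (hu W _ _ ⟨by rw [KFlatLib.puSec_smul, KFlatLib.puSec_smul, (hβ W t).1, Scheme.Modules.Hom.app_smul],
          by rw [KFlatLib.puSec_smul, KFlatLib.puSec_smul, (hβ W t).2, Scheme.Modules.Hom.app_smul]⟩).symm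
    have hnat : ∀ {W W' : T.Opens} (h : W' ≤ W) (t : Γ(M, W)), β W' (res M h t) = res N h (β W t) := fun {W W'} h t =>
      (hu W' _ _ ⟨by rw [puSec_res, puSec_res, (hβ W t).1]; exact (QCohLib.app_map a _ _).symm,
          by rw [puSec_res, puSec_res, (hβ W t).2]; exact (QCohLib.app_map b _ _).symm⟩).symm
    let φ : M ⟶ N := ⟨PresheafOfModules.homMk (M₁ := M.val) (M₂ := N.val)
      { app := fun W => AddCommGrpCat.ofHom
          (AddMonoidHom.mk' (fun t : Γ(M, W.unop) => β W.unop t) (hadd W.unop))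
        naturality := fun W W' i => by
          ext t
          exact hnat i.unop.le t }
      (fun W r t => hlin W.unop r t)⟩
    refine ⟨φ, pb_hom_ext gX fun U m => ?_, pb_hom_ext gY fun U m => ?_⟩
    · rw [KFlatLib.puSec_natural]
      exact (hβ U m).1
    · rw [KFlatLib.puSec_natural]
      exact (hβ U m).2

end Groth.Agent.S19888
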