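import Groth.Statements.S17904
import Groth.Agent.PinchBCLib.Criterion
import Groth.Agent.PinchBCLib.Algebra
import Mathlib

set_option autoImplicit false
set_option backward.isDefEq.respectTransparency false
set_option backward.isDefEq.respectTransparency.types false
set_option maxHeartbeats 1000000
universe u
open CategoryTheory AlgebraicGeometry
open Pinch

namespace Groth.Agent.S17904

open CategoryTheory CategoryTheory.Limits AlgebraicGeometry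
open PinchBCLib

noncomputable section

variable {S T : Scheme.{u}} (g : T ⟶ S)

/-- The base change of a morphism over `S`. -/
def bc {Y₁ Y₂ : Scheme.{u}} (f₁ : Y₁ ⟶ S) (f₂ : Y₂ ⟶ S) (h : Y₁ ⟶ Y₂) (w : h ≫ f₂ = f₁) :
    pullback f₁ g ⟶ pullback f₂ g :=
  pullback.lift (pullback.fst f₁ g ≫ h) (pullback.snd f₁ g) (by rw [Category.assoc, w, pullback.condition])

theorem over_pullback_map {Y₁ Y₂ : Scheme.{u}} (f₁ : Y₁ ⟶ S) (f₂ : Y₂ ⟶ S) (h : Y₁ ⟶ Y₂) (w : h ≫ f₂ = f₁) :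
    ((Over.pullback g).map (Over.homMk h w : Over.mk f₁ ⟶ Over.mk f₂)).left = bc g f₁ f₂ h w :=
  pullback.hom_ext (by simp [bc]) (by simp [bc])

theorem isPullback_bc {Y₁ Y₂ : Scheme.{u}} (f₁ : Y₁ ⟶ S) (f₂ : Y₂ ⟶ S) (h : Y₁ ⟶ Y₂) (w : h ≫ f₂ = f₁) :
    IsPullback (bc g f₁ f₂ h w) (pullback.fst f₁ g) (pullback.fst f₂ g) h := by
  subst w
  refine IsPullback.of_right ?_ (pullback.lift_fst _ _ _) (IsPullback.of_hasPullback f₂ g).flip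
  rw [bc, pullback.lift_snd]
  exact (IsPullback.of_hasPullback (h ≫ f₂) g).flip

theorem appLE_congr_hom {A B : Scheme.{u}} {f f' : A ⟶ B} (e : f = f') (U : B.Opens) (V : A.Opens)
    (h : V ≤ f ⁻¹ᵁ U) (h' : V ≤ f' ⁻¹ᵁ U) : f.appLE U V h = f'.appLE U V h' := by subst e; rfl

theorem bc_appLE {Y₁ Y₂ : Scheme.{u}} (f₁ : Y₁ ⟶ S) (f₂ : Y₂ ⟶ S) (h : Y₁ ⟶ Y₂) (w : h ≫ f₂ = f₁)
    {V : T.Opens} {U₂ : Y₂.Opens} {U₁ : Y₁.Opens} {P₂ : (pullback f₂ g).Opens} {P₁ : (pullback f₁ g).Opens}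
    (a₂ : P₂ ≤ pullback.fst f₂ g ⁻¹ᵁ U₂) (b₂ : P₂ ≤ pullback.snd f₂ g ⁻¹ᵁ V)
    (a₁ : P₁ ≤ pullback.fst f₁ g ⁻¹ᵁ U₁) (b₁ : P₁ ≤ pullback.snd f₁ g ⁻¹ᵁ V)
    (e : U₁ ≤ h ⁻¹ᵁ U₂) (eP : P₁ ≤ bc g f₁ f₂ h w ⁻¹ᵁ P₂) :
    ((pullback.snd f₂ g).appLE V P₂ b₂ ≫ (bc g f₁ f₂ h w).appLE P₂ P₁ eP = (pullback.snd f₁ g).appLE V P₁ b₁) ∧
    ((pullback.fst f₂ g).appLE U₂ P₂ a₂ ≫ (bc g f₁ f₂ h w).appLE P₂ P₁ eP =
      h.appLE U₂ U₁ e ≫ (pullback.fst f₁ g).appLE U₁ P₁ a₁) := by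
  constructor
  · rw [Scheme.Hom.appLE_comp_appLE]
    exact appLE_congr_hom (pullback.lift_snd _ _ _) _ _ _ _
  · rw [Scheme.Hom.appLE_comp_appLE, Scheme.Hom.appLE_comp_appLE]
    exact appLE_congr_hom (pullback.lift_fst _ _ _) _ _ _ _

theorem chart {Y : Scheme.{u}} (f : Y ⟶ S) {W₀ : S.Opens} (hW : IsAffineOpen W₀) {U : Y.Opens} (hU : IsAffineOpen U)
    {V : T.Opens} (hV : IsAffineOpen V) (eU : U ≤ f ⁻¹ᵁ W₀) (eV : V ≤ g ⁻¹ᵁ W₀) (P : (pullback f g).Opens)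
    (hP : P = pullback.fst f g ⁻¹ᵁ U ⊓ pullback.snd f g ⁻¹ᵁ V) :
    IsPushout (f.appLE W₀ U eU) (g.appLE W₀ V eV) ((pullback.fst f g).appLE U P (by simp [hP]))
      ((pullback.snd f g).appLE V P (by simp [hP])) := by
  have H := IsPullback.of_hasPullback f g
  haveI := isIso_pushoutSection_of_isAffineOpen H eV eU hP hW hV hU
  exact (isIso_pushoutSection_iff H eV eU hP).mp inferInstance

theorem isAffineOpen_chart {Y : Scheme.{u}} (f : Y ⟶ S) {W₀ : S.Opens} (hW : IsAffineOpen W₀) {U : Y.Opens} (hU : IsAffineOpen U)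
    {V : T.Opens} (hV : IsAffineOpen V) (eU : U ≤ f ⁻¹ᵁ W₀) (eV : V ≤ g ⁻¹ᵁ W₀) :
    IsAffineOpen (pullback.fst f g ⁻¹ᵁ U ⊓ pullback.snd f g ⁻¹ᵁ V) := by
  haveI : IsAffine _ := hW
  haveI : IsAffine _ := hU
  haveI : IsAffine _ := hV
  exact .of_isIso (Scheme.Hom.isPullback_resLE (IsPullback.of_hasPullback f g) eV eU rfl).isoPullback.hom

variable {X Z Z' X' : Scheme.{u}} {ι : Z ⟶ X} {q : Z ⟶ Z'} {π : X ⟶ X'} {ι' : Z' ⟶ X'}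

/-- The property localizes to basic opens. -/
theorem secProp_basicOpen (hw : ι ≫ π = q ≫ ι') [IsClosedImmersion ι] [IsClosedImmersion ι'] [IsAffineHom π]
    {U : X'.Opens} (hU : IsAffineOpen U) (hS : SecProp hw U) (h : Γ(X', U)) : SecProp hw (X'.basicOpen h) := by
  let D := X'.basicOpen h
  have hle : D ≤ U := X'.basicOpen_le h
  have eB : π ⁻¹ᵁ D = X.basicOpen (π.app U h) := Scheme.preimage_basicOpen π h
  have eB' : ι' ⁻¹ᵁ D = Z'.basicOpen (ι'.app U h) := Scheme.preimage_basicOpen ι' h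
  have eC : ι ⁻¹ᵁ π ⁻¹ᵁ D = Z.basicOpen (ι.app (π ⁻¹ᵁ U) (π.app U h)) := by
    rw [eB]; exact Scheme.preimage_basicOpen ι _
  letI : Algebra Γ(X', U) Γ(X', D) := (X'.presheaf.map (homOfLE hle).op).hom.toAlgebra
  letI : Algebra Γ(X, π ⁻¹ᵁ U) Γ(X, π ⁻¹ᵁ D) := (X.presheaf.map (homOfLE (π.preimage_mono hle)).op).hom.toAlgebra
  letI : Algebra Γ(Z', ι' ⁻¹ᵁ U) Γ(Z', ι' ⁻¹ᵁ D) := (Z'.presheaf.map (homOfLE (ι'.preimage_mono hle)).op).hom.toAlgebra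
  letI : Algebra Γ(Z, ι ⁻¹ᵁ π ⁻¹ᵁ U) Γ(Z, ι ⁻¹ᵁ π ⁻¹ᵁ D) :=
    (Z.presheaf.map (homOfLE (ι.preimage_mono (π.preimage_mono hle))).op).hom.toAlgebra
  haveI : IsLocalization.Away h Γ(X', D) := hU.isLocalization_of_eq_basicOpen h _ rfl
  haveI : IsLocalization.Away ((π.app U).hom h) Γ(X, π ⁻¹ᵁ D) :=
    (hU.preimage π).isLocalization_of_eq_basicOpen _ _ eB
  haveI : IsLocalization.Away ((ι'.app U).hom h) Γ(Z', ι' ⁻¹ᵁ D) :=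
    (hU.preimage ι').isLocalization_of_eq_basicOpen _ _ eB'
  haveI : IsLocalization.Away ((ι.app (π ⁻¹ᵁ U)).hom ((π.app U).hom h)) Γ(Z, ι ⁻¹ᵁ π ⁻¹ᵁ D) :=
    ((hU.preimage π).preimage ι).isLocalization_of_eq_basicOpen _ _ eC
  exact fibre_localization (π.app U).hom (ι'.app U).hom (ι.app (π ⁻¹ᵁ U)).hom
    (q.appLE (ι' ⁻¹ᵁ U) (ι ⁻¹ᵁ π ⁻¹ᵁ U) (preimage_le hw U)).hom (π.app D).hom (ι'.app D).hom (ι.app (π ⁻¹ᵁ D)).hom
    (q.appLE (ι' ⁻¹ᵁ D) (ι ⁻¹ᵁ π ⁻¹ᵁ D) (preimage_le hw D)).hom h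
    (fun x => ConcreteCategory.congr_hom (π.naturality (homOfLE hle).op) x)
    (fun x => ConcreteCategory.congr_hom (ι'.naturality (homOfLE hle).op) x)
    (fun x => ConcreteCategory.congr_hom (ι.naturality (homOfLE (π.preimage_mono hle)).op) x)
    (fun x => ConcreteCategory.congr_hom (show Z'.presheaf.map (homOfLE (ι'.preimage_mono hle)).op ≫
        q.appLE (ι' ⁻¹ᵁ D) (ι ⁻¹ᵁ π ⁻¹ᵁ D) (preimage_le hw D) =
        q.appLE (ι' ⁻¹ᵁ U) (ι ⁻¹ᵁ π ⁻¹ᵁ U) (preimage_le hw U) ≫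
          Z.presheaf.map (homOfLE (ι.preimage_mono (π.preimage_mono hle))).op by
      rw [Scheme.Hom.map_appLE, Scheme.Hom.appLE_map]) x)
    (fun x => ConcreteCategory.congr_hom (app_w hw U) x) hS.1 hS.2

/-- Sections over a product chart of the base change. -/
theorem secProp_chart (fX : X ⟶ S) (fZ' : Z' ⟶ S) (fX' : X' ⟶ S) [IsClosedImmersion ι] [IsClosedImmersion ι']
    [IsAffineHom π] (hq : q ≫ fZ' = ι ≫ fX) (hπ : π ≫ fX' = fX) (hι' : ι' ≫ fX' = fZ')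
    [Flat fX] [Flat (ι ≫ fX)] [Flat fZ'] (hw : ι ≫ π = q ≫ ι')
    (hwT : bc g (ι ≫ fX) fX ι rfl ≫ bc g fX fX' π hπ = bc g (ι ≫ fX) fZ' q hq ≫ bc g fZ' fX' ι' hι')
    {W₀ : S.Opens} (hW : IsAffineOpen W₀) {U₀ : X'.Opens} (hU : IsAffineOpen U₀) (hS : SecProp hw U₀)
    {V : T.Opens} (hV : IsAffineOpen V) (eU : U₀ ≤ fX' ⁻¹ᵁ W₀) (eV : V ≤ g ⁻¹ᵁ W₀) :
    SecProp hwT (pullback.fst fX' g ⁻¹ᵁ U₀ ⊓ pullback.snd fX' g ⁻¹ᵁ V) := by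
  set P := pullback.fst fX' g ⁻¹ᵁ U₀ ⊓ pullback.snd fX' g ⁻¹ᵁ V with hP
  have pB : bc g fX fX' π hπ ⁻¹ᵁ P = pullback.fst fX g ⁻¹ᵁ (π ⁻¹ᵁ U₀) ⊓ pullback.snd fX g ⁻¹ᵁ V := by
    rw [hP, Scheme.Hom.preimage_inf, ← Scheme.Hom.comp_preimage, ← Scheme.Hom.comp_preimage, bc, pullback.lift_fst,
      pullback.lift_snd, Scheme.Hom.comp_preimage]
  have pB' : bc g fZ' fX' ι' hι' ⁻¹ᵁ P = pullback.fst fZ' g ⁻¹ᵁ (ι' ⁻¹ᵁ U₀) ⊓ pullback.snd fZ' g ⁻¹ᵁ V := by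
    rw [hP, Scheme.Hom.preimage_inf, ← Scheme.Hom.comp_preimage, ← Scheme.Hom.comp_preimage, bc, pullback.lift_fst,
      pullback.lift_snd, Scheme.Hom.comp_preimage]
  have pC : bc g (ι ≫ fX) fX ι rfl ⁻¹ᵁ bc g fX fX' π hπ ⁻¹ᵁ P =
      pullback.fst (ι ≫ fX) g ⁻¹ᵁ (ι ⁻¹ᵁ π ⁻¹ᵁ U₀) ⊓ pullback.snd (ι ≫ fX) g ⁻¹ᵁ V := by
    rw [pB, Scheme.Hom.preimage_inf, ← Scheme.Hom.comp_preimage (bc g (ι ≫ fX) fX ι rfl),
      ← Scheme.Hom.comp_preimage (bc g (ι ≫ fX) fX ι rfl), bc, pullback.lift_fst,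
      pullback.lift_snd, Scheme.Hom.comp_preimage]
  have eB : π ⁻¹ᵁ U₀ ≤ fX ⁻¹ᵁ W₀ := by rw [← hπ, Scheme.Hom.comp_preimage]; exact π.preimage_mono eU
  have eB' : ι' ⁻¹ᵁ U₀ ≤ fZ' ⁻¹ᵁ W₀ := by rw [← hι', Scheme.Hom.comp_preimage]; exact ι'.preimage_mono eU
  have eC : ι ⁻¹ᵁ π ⁻¹ᵁ U₀ ≤ (ι ≫ fX) ⁻¹ᵁ W₀ := by rw [Scheme.Hom.comp_preimage]; exact ι.preimage_mono eB
  letI : Algebra Γ(S, W₀) Γ(T, V) := (g.appLE W₀ V eV).hom.toAlgebra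
  letI : Algebra Γ(S, W₀) Γ(X', U₀) := (fX'.appLE W₀ U₀ eU).hom.toAlgebra
  letI : Algebra Γ(S, W₀) Γ(X, π ⁻¹ᵁ U₀) := (fX.appLE W₀ _ eB).hom.toAlgebra
  letI : Algebra Γ(S, W₀) Γ(Z', ι' ⁻¹ᵁ U₀) := (fZ'.appLE W₀ _ eB').hom.toAlgebra
  letI : Algebra Γ(S, W₀) Γ(Z, ι ⁻¹ᵁ π ⁻¹ᵁ U₀) := ((ι ≫ fX).appLE W₀ _ eC).hom.toAlgebra
  haveI : Module.Flat Γ(S, W₀) Γ(X, π ⁻¹ᵁ U₀) :=
    HasRingHomProperty.appLE (P := @Flat) fX ‹Flat fX› ⟨W₀, hW⟩ ⟨_, hU.preimage π⟩ eB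
  haveI : Module.Flat Γ(S, W₀) Γ(Z', ι' ⁻¹ᵁ U₀) :=
    HasRingHomProperty.appLE (P := @Flat) fZ' ‹Flat fZ'› ⟨W₀, hW⟩ ⟨_, hU.preimage ι'⟩ eB'
  haveI : Module.Flat Γ(S, W₀) Γ(Z, ι ⁻¹ᵁ π ⁻¹ᵁ U₀) :=
    HasRingHomProperty.appLE (P := @Flat) (ι ≫ fX) ‹Flat (ι ≫ fX)› ⟨W₀, hW⟩ ⟨_, (hU.preimage π).preimage ι⟩ eC
  obtain ⟨eA, hA⟩ := exists_equiv_of_isPushout _ _ (chart g fX' hW hU hV eU eV P hP)
  obtain ⟨eBq, hBq⟩ := exists_equiv_of_isPushout _ _ (chart g fX hW (hU.preimage π) hV eB eV _ pB)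
  obtain ⟨eB'q, hB'q⟩ := exists_equiv_of_isPushout _ _ (chart g fZ' hW (hU.preimage ι') hV eB' eV _ pB')
  obtain ⟨eCq, hCq⟩ := exists_equiv_of_isPushout _ _ (chart g (ι ≫ fX) hW ((hU.preimage π).preimage ι) hV eC eV _ pC)
  have cπ : fX'.appLE W₀ U₀ eU ≫ π.app U₀ = fX.appLE W₀ _ eB := by
    rw [π.app_eq_appLE, Scheme.Hom.appLE_comp_appLE]; exact appLE_congr_hom hπ _ _ _ _
  have cι' : fX'.appLE W₀ U₀ eU ≫ ι'.app U₀ = fZ'.appLE W₀ _ eB' := by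
    rw [ι'.app_eq_appLE, Scheme.Hom.appLE_comp_appLE]; exact appLE_congr_hom hι' _ _ _ _
  have cι : fX.appLE W₀ _ eB ≫ ι.app (π ⁻¹ᵁ U₀) = (ι ≫ fX).appLE W₀ _ eC := by
    rw [ι.app_eq_appLE, Scheme.Hom.appLE_comp_appLE]
  have cq : fZ'.appLE W₀ _ eB' ≫ q.appLE (ι' ⁻¹ᵁ U₀) (ι ⁻¹ᵁ π ⁻¹ᵁ U₀) (preimage_le hw U₀) = (ι ≫ fX).appLE W₀ _ eC := by
    rw [Scheme.Hom.appLE_comp_appLE]; exact appLE_congr_hom hq _ _ _ _
  obtain ⟨s₁, t₁⟩ := bc_appLE g fX fX' π hπ (V := V) (U₂ := U₀) (U₁ := π ⁻¹ᵁ U₀) (P₂ := P)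
    (P₁ := bc g fX fX' π hπ ⁻¹ᵁ P) inf_le_left inf_le_right (pB.le.trans inf_le_left) (pB.le.trans inf_le_right) le_rfl le_rfl
  obtain ⟨s₂, t₂⟩ := bc_appLE g fZ' fX' ι' hι' (V := V) (U₂ := U₀) (U₁ := ι' ⁻¹ᵁ U₀) (P₂ := P)
    (P₁ := bc g fZ' fX' ι' hι' ⁻¹ᵁ P) inf_le_left inf_le_right (pB'.le.trans inf_le_left) (pB'.le.trans inf_le_right) le_rfl le_rfl
  obtain ⟨s₃, t₃⟩ := bc_appLE g (ι ≫ fX) fX ι rfl (V := V) (U₂ := π ⁻¹ᵁ U₀) (U₁ := ι ⁻¹ᵁ π ⁻¹ᵁ U₀)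
    (P₂ := bc g fX fX' π hπ ⁻¹ᵁ P) (P₁ := bc g (ι ≫ fX) fX ι rfl ⁻¹ᵁ bc g fX fX' π hπ ⁻¹ᵁ P)
    (pB.le.trans inf_le_left) (pB.le.trans inf_le_right) (pC.le.trans inf_le_left) (pC.le.trans inf_le_right) le_rfl le_rfl
  obtain ⟨s₄, t₄⟩ := bc_appLE g (ι ≫ fX) fZ' q hq (V := V) (U₂ := ι' ⁻¹ᵁ U₀) (U₁ := ι ⁻¹ᵁ π ⁻¹ᵁ U₀)
    (P₂ := bc g fZ' fX' ι' hι' ⁻¹ᵁ P) (P₁ := bc g (ι ≫ fX) fX ι rfl ⁻¹ᵁ bc g fX fX' π hπ ⁻¹ᵁ P)
    (pB'.le.trans inf_le_left) (pB'.le.trans inf_le_right) (pC.le.trans inf_le_left) (pC.le.trans inf_le_right)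
    (preimage_le hw U₀) (preimage_le hwT P)
  rw [← Scheme.Hom.app_eq_appLE, ← Scheme.Hom.app_eq_appLE] at t₁ t₂ t₃
  rw [← Scheme.Hom.app_eq_appLE] at s₁ s₂ s₃
  refine fibre_baseChange
    (R := Γ(S, W₀)) (R' := Γ(T, V))
    { (π.app U₀).hom with commutes' := fun r => ConcreteCategory.congr_hom cπ r }
    { (ι'.app U₀).hom with commutes' := fun r => ConcreteCategory.congr_hom cι' r }
    { (ι.app (π ⁻¹ᵁ U₀)).hom with commutes' := fun r => ConcreteCategory.congr_hom cι r }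
    { (q.appLE (ι' ⁻¹ᵁ U₀) (ι ⁻¹ᵁ π ⁻¹ᵁ U₀) (preimage_le hw U₀)).hom with
      commutes' := fun r => ConcreteCategory.congr_hom cq r }
    (ι.app_surjective _ (hU.preimage π)) (fun x => ConcreteCategory.congr_hom (app_w hw U₀) x) hS.1 hS.2
    eA eBq eB'q eCq ((bc g fX fX' π hπ).app P).hom ((bc g fZ' fX' ι' hι').app P).hom
    ((bc g (ι ≫ fX) fX ι rfl).app (bc g fX fX' π hπ ⁻¹ᵁ P)).hom
    ((bc g (ι ≫ fX) fZ' q hq).appLE (bc g fZ' fX' ι' hι' ⁻¹ᵁ P) (bc g (ι ≫ fX) fX ι rfl ⁻¹ᵁ bc g fX fX' π hπ ⁻¹ᵁ P)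
      (preimage_le hwT P)).hom ?_ ?_ ?_ ?_
  · intro x y
    rw [hA, hBq, map_mul]
    exact congrArg₂ (· * ·) (ConcreteCategory.congr_hom s₁ x) (ConcreteCategory.congr_hom t₁ y)
  · intro x y
    rw [hA, hB'q, map_mul]
    exact congrArg₂ (· * ·) (ConcreteCategory.congr_hom s₂ x) (ConcreteCategory.congr_hom t₂ y)
  · intro x y
    rw [hBq, hCq, map_mul]
    exact congrArg₂ (· * ·) (ConcreteCategory.congr_hom s₃ x) (ConcreteCategory.congr_hom t₃ y)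
  · intro x y
    rw [hB'q, hCq, map_mul]
    exact congrArg₂ (· * ·) (ConcreteCategory.congr_hom s₄ x) (ConcreteCategory.congr_hom t₄ y)

end

/-- Let S be a scheme and Z → X, Z → Z', X → X', Z' → X' a commutative square of S-schemes in which Z →
X and Z' → X' are closed immersions and Z → Z' and X → X' are affine, which is a pushout square in
the category of ringed spaces, with X, Z and Z' flat over S. Then for every morphism T → S the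
square of base changes Z_T → X_T, Z_T → Z'_T, X_T → X'_T, Z'_T → X'_T is a pushout square in the
category of ringed spaces. -/
theorem result {S X Z Z' X' : Scheme.{u}}
    (fX : X ⟶ S) (fZ' : Z' ⟶ S) (fX' : X' ⟶ S) (ι : Z ⟶ X) (q : Z ⟶ Z') (π : X ⟶ X') (ι' : Z' ⟶ X')
    [IsClosedImmersion ι] [IsClosedImmersion ι'] [IsAffineHom q] [IsAffineHom π]
    (hq : q ≫ fZ' = ι ≫ fX) (hπ : π ≫ fX' = fX) (hι' : ι' ≫ fX' = fZ')
    (hpo : IsPushout ((Scheme.forgetToLocallyRingedSpace ⋙ LocallyRingedSpace.forgetToSheafedSpace).map ι) ((Scheme.forgetToLocallyRingedSpace ⋙ LocallyRingedSpace.forgetToSheafedSpace).map q)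
      ((Scheme.forgetToLocallyRingedSpace ⋙ LocallyRingedSpace.forgetToSheafedSpace).map π) ((Scheme.forgetToLocallyRingedSpace ⋙ LocallyRingedSpace.forgetToSheafedSpace).map ι'))
    [Flat fX] [Flat (ι ≫ fX)] [Flat fZ']
    {T : Scheme.{u}} (g : T ⟶ S) :
    IsPushout
      ((Scheme.forgetToLocallyRingedSpace ⋙ LocallyRingedSpace.forgetToSheafedSpace).map
        ((Over.pullback g).map (Over.homMk ι rfl : Over.mk (ι ≫ fX) ⟶ Over.mk fX)).left)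
      ((Scheme.forgetToLocallyRingedSpace ⋙ LocallyRingedSpace.forgetToSheafedSpace).map
        ((Over.pullback g).map (Over.homMk q hq : Over.mk (ι ≫ fX) ⟶ Over.mk fZ')).left)
      ((Scheme.forgetToLocallyRingedSpace ⋙ LocallyRingedSpace.forgetToSheafedSpace).map
        ((Over.pullback g).map (Over.homMk π hπ : Over.mk fX ⟶ Over.mk fX')).left)
      ((Scheme.forgetToLocallyRingedSpace ⋙ LocallyRingedSpace.forgetToSheafedSpace).map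
        ((Over.pullback g).map (Over.homMk ι' hι' : Over.mk fZ' ⟶ Over.mk fX')).left) := by
  rw [over_pullback_map g (ι ≫ fX) fX ι rfl, over_pullback_map g (ι ≫ fX) fZ' q hq,
    over_pullback_map g fX fX' π hπ, over_pullback_map g fZ' fX' ι' hι']
  have hw : ι ≫ π = q ≫ ι' := by
    have h := hpo.w
    rw [← Functor.map_comp, ← Functor.map_comp] at h
    exact (Scheme.forgetToLocallyRingedSpace ⋙ LocallyRingedSpace.forgetToSheafedSpace).map_injective h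
  have hwT : bc g (ι ≫ fX) fX ι rfl ≫ bc g fX fX' π hπ = bc g (ι ≫ fX) fZ' q hq ≫ bc g fZ' fX' ι' hι' := by
    apply pullback.hom_ext
    · simp only [bc, Category.assoc, pullback.lift_fst, pullback.lift_fst_assoc, hw]
    · simp only [bc, Category.assoc, pullback.lift_snd]
  haveI : IsClosedImmersion (bc g (ι ≫ fX) fX ι rfl) :=
    MorphismProperty.of_isPullback (P := @IsClosedImmersion) (isPullback_bc g (ι ≫ fX) fX ι rfl).flip ‹_›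
  haveI : IsClosedImmersion (bc g fZ' fX' ι' hι') :=
    MorphismProperty.of_isPullback (P := @IsClosedImmersion) (isPullback_bc g fZ' fX' ι' hι').flip ‹_›
  haveI : IsAffineHom (bc g fX fX' π hπ) :=
    MorphismProperty.of_isPullback (P := @IsAffineHom) (isPullback_bc g fX fX' π hπ).flip ‹_›
  refine PinchBCLib.isPushout_ringedSpace hwT fun W x' hx => ?_
  obtain ⟨W₀, hW, hsW, -⟩ := exists_isAffineOpen_mem_and_subset (X := S)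
    (x := fX' (pullback.fst fX' g x')) (U := ⊤) trivial
  obtain ⟨U₀, hU, hxU, eU⟩ := exists_isAffineOpen_mem_and_subset (X := X')
    (x := pullback.fst fX' g x') (U := fX' ⁻¹ᵁ W₀) hsW
  have hsT : g (pullback.snd fX' g x') ∈ W₀ := by
    rw [← Scheme.Hom.comp_apply, ← pullback.condition, Scheme.Hom.comp_apply]; exact hsW
  obtain ⟨V, hV, hxV, eV⟩ := exists_isAffineOpen_mem_and_subset (X := T) (x := pullback.snd fX' g x')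
    (U := g ⁻¹ᵁ W₀) hsT
  have hP := isAffineOpen_chart g fX' hW hU hV eU eV
  obtain ⟨h, hle, hxh⟩ := hP.exists_basicOpen_le (V := W) ⟨x', hx⟩ ⟨hxU, hxV⟩
  exact ⟨_, hP.basicOpen h, hxh, hle, secProp_basicOpen hwT hP
    (secProp_chart g fX fZ' fX' hq hπ hι' hw hwT hW hU (RSPushoutLib.scheme_sections hw hpo U₀) hV eU eV) h⟩

end Groth.Agent.S17904
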