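import Groth.Statements.S17905
import Groth.Agent.S17904
import Groth.Agent.RSPushoutLib.Sections
import Mathlib

set_option autoImplicit false
set_option backward.isDefEq.respectTransparency false
set_option backward.isDefEq.respectTransparency.types false
set_option maxHeartbeats 1000000
universe u
open CategoryTheory AlgebraicGeometry
open Pinch

namespace Groth.Agent.S17905

open CategoryTheory CategoryTheory.Limits AlgebraicGeometry
theorem stalkMap_injective_of_flat {A B : Scheme.{u}} (f : A ⟶ B) [Flat f] (x : A) :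
    Function.Injective (f.stalkMap x).hom := by
  letI := (f.stalkMap x).hom.toAlgebra
  haveI : Module.Flat (B.presheaf.stalk (f x)) (A.presheaf.stalk x) := Flat.stalkMap f x
  haveI : IsLocalHom (algebraMap (B.presheaf.stalk (f x)) (A.presheaf.stalk x)) := f.toLRSHom.prop x
  haveI := Module.FaithfullyFlat.of_flat_of_isLocalHom (A := B.presheaf.stalk (f x)) (B := A.presheaf.stalk x)
  exact FaithfulSMul.algebraMap_injective (B.presheaf.stalk (f x)) (A.presheaf.stalk x)

theorem app_injective_of_flat_surjective {A B : Scheme.{u}} (f : A ⟶ B) [Flat f] [Surjective f] (U : B.Opens) :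
    Function.Injective (f.app U) := by
  intro s t hst
  refine TopCat.Presheaf.section_ext B.sheaf U s t fun y hy => ?_
  obtain ⟨x, rfl⟩ := f.surjective y
  refine stalkMap_injective_of_flat f x ?_
  exact (Scheme.Hom.germ_stalkMap_apply f U x hy s).trans
    ((congrArg _ hst).trans (Scheme.Hom.germ_stalkMap_apply f U x hy t).symm)

theorem bij_congr {A B : Scheme.{u}} {f f' : A ⟶ B} (e : f = f') (U : B.Opens) [IsIso (f.app U)] :
    Function.Bijective (f'.app U) := by
  subst e
  exact ConcreteCategory.bijective_of_isIso (f.app U)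

/-- Let S be a scheme and Z → X, Z → Z', X → X', Z' → X' a commutative square of S-schemes which is a
pushout square in the category of ringed spaces, with Z → X and Z' → X' closed immersions, X → X'
affine, Z → Z' finite, flat and surjective, and X, Z, Z' flat over S. Suppose that for every T → S
the map O_T → (f_T)_* O_{X_T} induced by the base change f_T : X_T → T of X → S is an isomorphism.
Then for every T → S the map O_T → (f'_T)_* O_{X'_T} induced by the base change of X' → S is an
isomorphism. (The published lemma is stated for the pinching of a finite surjective Z → Z' whose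
fibres lie in affine opens of X, with X → S admitting a section; this row assumes X → X' only affine
and drops the affine-fibre and section conditions, which the printed proof does not use.) -/
theorem result {S X Z Z' X' : Scheme.{u}}
    (fX : X ⟶ S) (fZ' : Z' ⟶ S) (fX' : X' ⟶ S) (ι : Z ⟶ X) (q : Z ⟶ Z') (π : X ⟶ X') (ι' : Z' ⟶ X')
    [IsClosedImmersion ι] [IsClosedImmersion ι'] [IsFinite q] [Flat q] [Surjective q] [IsAffineHom π]
    (hq : q ≫ fZ' = ι ≫ fX) (hπ : π ≫ fX' = fX) (hι' : ι' ≫ fX' = fZ')
    (hpo : IsPushout ((Scheme.forgetToLocallyRingedSpace ⋙ LocallyRingedSpace.forgetToSheafedSpace).map ι) ((Scheme.forgetToLocallyRingedSpace ⋙ LocallyRingedSpace.forgetToSheafedSpace).map q)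
      ((Scheme.forgetToLocallyRingedSpace ⋙ LocallyRingedSpace.forgetToSheafedSpace).map π) ((Scheme.forgetToLocallyRingedSpace ⋙ LocallyRingedSpace.forgetToSheafedSpace).map ι'))
    [Flat fX] [Flat (ι ≫ fX)] [Flat fZ']
    (hX : ∀ (T : Scheme.{u}) (g : T ⟶ S) (U : T.Opens), IsIso ((Limits.pullback.snd fX g).app U))
    (T : Scheme.{u}) (g : T ⟶ S) (U : T.Opens) :
    IsIso ((Limits.pullback.snd fX' g).app U) := by
  have hT := Groth.Agent.S17904.result fX fZ' fX' ι q π ι' hq hπ hι' hpo g
  simp only [Groth.Agent.S17904.over_pullback_map] at hT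
  set ιT := Groth.Agent.S17904.bc g (ι ≫ fX) fX ι rfl with hιT
  set qT := Groth.Agent.S17904.bc g (ι ≫ fX) fZ' q hq with hqT
  set πT := Groth.Agent.S17904.bc g fX fX' π hπ with hπT
  set ι'T := Groth.Agent.S17904.bc g fZ' fX' ι' hι' with hι'T
  have hwT : ιT ≫ πT = qT ≫ ι'T := by
    have h := hT.w
    rw [← Functor.map_comp, ← Functor.map_comp] at h
    exact (Scheme.forgetToLocallyRingedSpace ⋙ LocallyRingedSpace.forgetToSheafedSpace).map_injective h
  haveI : Flat qT :=
    MorphismProperty.of_isPullback (P := @Flat) (Groth.Agent.S17904.isPullback_bc g (ι ≫ fX) fZ' q hq).flip ‹_›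
  haveI : Surjective qT :=
    MorphismProperty.of_isPullback (P := @Surjective) (Groth.Agent.S17904.isPullback_bc g (ι ≫ fX) fZ' q hq).flip ‹_›
  set p' := pullback.snd fX' g with hp'
  have e : pullback.snd fX g = πT ≫ p' := (pullback.lift_snd _ _ _).symm
  have hinj : ∀ V : (pullback fX' g).Opens, Function.Injective (πT.app V) := by
    intro V
    rw [injective_iff_map_eq_zero]
    intro d hd
    refine (RSPushoutLib.scheme_sections hwT hT V).1 d hd ?_
    refine app_injective_of_flat_surjective qT _ ?_
    have h : πT.app V ≫ ιT.appLE (πT ⁻¹ᵁ V) (qT ⁻¹ᵁ ι'T ⁻¹ᵁ V)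
        (by rw [← Scheme.Hom.comp_preimage, ← Scheme.Hom.comp_preimage, hwT]) = ι'T.app V ≫ qT.app (ι'T ⁻¹ᵁ V) := by
      rw [πT.app_eq_appLE, ι'T.app_eq_appLE, qT.app_eq_appLE, Scheme.Hom.appLE_comp_appLE, Scheme.Hom.appLE_comp_appLE]
      exact Groth.Agent.S17904.appLE_congr_hom hwT _ _ _ _
    have := ConcreteCategory.congr_hom h d
    rw [CommRingCat.comp_apply, CommRingCat.comp_apply, hd, map_zero] at this
    rw [map_zero]
    exact this.symm
  have hbij : Function.Bijective ((p'.app U ≫ πT.app (p' ⁻¹ᵁ U))) := by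
    rw [← Scheme.Hom.comp_app]
    haveI := hX T g U
    exact bij_congr e U
  rw [ConcreteCategory.isIso_iff_bijective]
  refine ⟨fun a b hab => hbij.1 (congrArg (πT.app (p' ⁻¹ᵁ U)) hab), fun s => ?_⟩
  obtain ⟨t, ht⟩ := hbij.2 (πT.app (p' ⁻¹ᵁ U) s)
  exact ⟨t, hinj _ ht⟩

end Groth.Agent.S17905
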