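import Groth.Statements.S6475
import Groth.Agent.CycIntLib.Main
import Groth.Agent.S1899

set_option autoImplicit false
universe u
open CategoryTheory AlgebraicGeometry
open Cyc

namespace Groth.Agent.S6475

/-- Let X be proper over a field k, Z ⊂ X a closed subscheme of dimension d and L_1, …, L_d invertible
O_X-modules. Then the intersection number (L_1 ⋯ L_d · Z) equals deg(c_1(L_1) ∩ … ∩ c_1(L_d) ∩
[Z]_d). The left side is FGA.intNum (alternating sum of Euler characteristics of (⊗_{i∈I} M_i) ⊗ O_Z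
with M_i inverse to L_i, which is the number defined through the numerical polynomial); the right
side iterates Cyc.c1CapFun with any nonzero rational sections starting from [Z]_d and takes
ChowOps.deg of the resulting 0-cycle. Dimension function: transcendence degree over k. The caps are
applied starting with L_1 (innermost), the reverse of the displayed order; the degree does not
depend on the order. (The published statement also gives deg_L(Z) = deg(c_1(L)^d ∩ [Z]_d) for an
ample L, the case L_1 = … = L_d = L; this row does not restate it.) -/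
theorem result (k : Type u) [Field k] (X : Scheme.{u}) [X.Over (Spec (CommRingCat.of k))] [IsProper (X ↘ Spec (CommRingCat.of k))] (δ : X → ℤ) (hX : Cyc.IsSetup X δ) (hδ : Cyc.DeltaCompat (X ↘ Spec (CommRingCat.of k)) δ (fun _ => 0)) (Z : Scheme.{u}) (ι : Z ⟶ X) [IsClosedImmersion ι] (d : ℕ) (hd : topologicalKrullDim Z = d) (L M : Fin d → X.Modules) (hL : ∀ i, PicF.IsInvertible (L i)) (hM : ∀ i, Nonempty (CohB1.tensorMod (M i) (L i) ≅ Coh.structureModule X)) (s : (i : Fin d) → (ξ : X) → Cyc.secFibre (L i) ξ) (hs : ∀ i ξ, s i ξ ≠ 0) (γ : ℕ → X → ℤ) (hγ0 : γ 0 = Cyc.subschemeFun δ d ι) (hγs : ∀ (i : ℕ) (h : i < d), γ (i + 1) = Cyc.c1CapFun δ (L ⟨i, h⟩) (γ i) (s ⟨i, h⟩)) (α : AlgebraicCycle X ℤ) (hα : ⇑α = γ d) : FGA.intNum k X d M ((Coh.push ι).obj (Coh.structureModule Z)) = ChowOps.deg (X ↘ Spec (CommRingCat.of k)) δ α := by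
  haveI := hX.1
  obtain ⟨N, hN⟩ := CycIntLib.exists_dim_bound k (X := X)
  let F := (Coh.push ι).obj (Coh.structureModule Z)
  have hFc : Coh.IsCoh F := by
    haveI : IsLocallyNoetherian Z := LocallyOfFiniteType.isLocallyNoetherian ι
    exact QCohLib.isCoh_push_finite _ _ (DevissLib.isCoh_structureModule _)
  have hsupp : CohB1.support F ⊆ Set.range ι := DevissLib.support_push_subset _ _
  have hdim : ∀ z : Z, δ (ι z) ≤ d := fun z => by
    obtain ⟨m, hm, hc⟩ := CycIntLib.delta_spec hδ (ι z)
    have hle : topologicalKrullDim ↥(closure ({ι z} : Set X)) ≤ (d : ℕ) := by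
      have hsub : closure ({ι z} : Set X) ⊆ Set.range ι :=
        closure_minimal (Set.singleton_subset_iff.mpr ⟨z, rfl⟩) ι.isClosedEmbedding.isClosed_range
      refine (Topology.IsEmbedding.inclusion hsub).isInducing.topologicalKrullDim_le.trans ?_
      rw [← ι.isClosedEmbedding.isEmbedding.toHomeomorph.isHomeomorph.topologicalKrullDim_eq]
      exact hd.le
    rw [hc] at hle
    have hmd : m ≤ d := by exact_mod_cast hle
    omega
  have hP : CycK0Lib.P (fun x => δ x ≤ d) F := CycK0Lib.P.mk hFc fun x hx => by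
    obtain ⟨z, rfl⟩ := hsupp hx
    exact hdim z
  obtain ⟨α₀, hα₀, e₀⟩ := CycK0Lib.exists_cycle_sheafFun hX hP
  have h0 : γ 0 = ⇑α₀ := by rw [hγ0, Groth.Agent.S1899.result X Z δ hX ι d hdim, e₀]
  have hMi : ∀ i, PicF.IsInvertible (M i) := fun i =>
    IntMultLib.isInvertible_of_inverse (hL i) (HilbPolyLib.swapIso _ _ ≪≫ (hM i).some)
  rw [CycIntLib.intNum_eq_of_support hN M hMi hFc (CycIntLib.dim_supp_le hδ hFc fun x hx => hP.supp hx),
    CycIntLib.intNum_eq_cycNum hN hX hδ hMi hP, ← e₀, ← h0]
  exact CycIntLib.cycNum_iterate hN hX hδ M L hL hM s hs γ α₀ α hα₀ h0 hγs hα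

end Groth.Agent.S6475
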