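import Groth.Statements.S5295
import Groth.Agent.CentLocusLib.Global
import Groth.Agent.S5256
import Groth.Agent.DescHomLib.MultBC
-- import your own Groth.Agent.* helpers here

set_option autoImplicit false
open CategoryTheory MonoidalCategory CartesianMonoidalCategory MonObj GrpObj AlgebraicGeometry
universe u
open SGA3x

namespace Groth.Agent.S5295

/-- Let u : H ⟶ G be a homomorphism of S-groups, with H of multiplicative type and of finite type and G
of finite presentation over S (locally of finite presentation, quasi-compact, quasi-separated) with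
connected fibres, and let s ∈ S be a point such that u_s : H_s ⟶ G_s is central. Then there is an
open neighbourhood U of s such that the homomorphism H|_U ⟶ G|_U induced by u is central: for every
S-scheme X lying over U, every X-point of G commutes with the image of every X-point of H. -/
theorem result {S : Scheme.{u}} (H G : Over S) [GrpObj H] [GrpObj G]
    (hH : SGA3x.IsMultTypeFT H) [LocallyOfFinitePresentation G.hom] [QuasiCompact G.hom] [QuasiSeparated G.hom]
    (hconn : ∀ t : S, ConnectedSpace ↥(Limits.pullback G.hom (S.fromSpecResidueField t)))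
    (u : H ⟶ G) [IsMonHom u] (s : S)
    (hs : ∀ (X : Over (Spec (S.residueField s))) (g : X ⟶ Red.bc (S.fromSpecResidueField s) G)
      (h : X ⟶ Red.bc (S.fromSpecResidueField s) H),
      g * (h ≫ (Over.pullback (S.fromSpecResidueField s)).map u) = (h ≫ (Over.pullback (S.fromSpecResidueField s)).map u) * g) :
    ∃ U : S.Opens, s ∈ U ∧ ∀ (X : Over S) (q : X ⟶ Over.mk U.ι) (g : X ⟶ G) (h : X ⟶ H),
      g * (h ≫ u) = (h ≫ u) * g := by
  haveI : LocallyOfFiniteType G.hom := inferInstance
  let U : S.Opens := ⟨_, CentLocus.isOpen_locus hconn u hH⟩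
  have hsU : s ∈ U := (CentLocus.centAt_bc_iff u _).2 fun X g h => (hs X g h).symm
  let p : (U : Scheme.{u}) ⟶ S := U.ι
  haveI : IsMonHom (M := Red.bc p H) (N := Red.bc p G) ((Over.pullback p).map u) := DiagRep.isMonHom_bc_map p u
  haveI : LocallyOfFinitePresentation (Red.bc p G).hom :=
    inferInstanceAs (LocallyOfFinitePresentation (Limits.pullback.snd G.hom p))
  haveI : QuasiCompact (Red.bc p G).hom := inferInstanceAs (QuasiCompact (Limits.pullback.snd G.hom p))
  haveI : QuasiSeparated (Red.bc p G).hom := inferInstanceAs (QuasiSeparated (Limits.pullback.snd G.hom p))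
  have hU := S5256.result (Red.bc p H) (Red.bc p G) (DescHom.isMultTypeFT_bc hH p) ((Over.pullback p).map u)
    fun t X g h => by
      refine ((CentLocus.centAt_bc_iff (H := Red.bc p H) (G := Red.bc p G) ((Over.pullback p).map u)
        ((U : Scheme.{u}).fromSpecResidueField t)).1 ?_ X g h).symm
      have hc : CentLocus.CentAt u ((U : Scheme.{u}).fromSpecResidueField t ≫ p) := by
        refine (TrivLocus.triv_field_iff (u := CentLocus.com u) _).2 ?_
        have hpt : ((U : Scheme.{u}).fromSpecResidueField t ≫ p)
            (IsLocalRing.closedPoint ((U : Scheme.{u}).residueField t)) = p t := by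
          rw [Scheme.Hom.comp_apply, Scheme.fromSpecResidueField_apply]
        exact hpt.symm ▸ t.2
      rw [CentLocus.centAt_iff] at hc ⊢
      intro Y q hq g' h'
      obtain ⟨g₀, rfl⟩ := ((Over.mapPullbackAdj p).homEquiv Y G).surjective g'
      obtain ⟨h₀, rfl⟩ := ((Over.mapPullbackAdj p).homEquiv Y H).surjective h'
      exact (CentLocus.map_comm_iff u p g₀ h₀).2 (hc _ q (by rw [reassoc_of% hq]; rfl) g₀ h₀)
  refine ⟨U, hsU, fun X q g h => ?_⟩
  let X' : Over (U : Scheme.{u}) := Over.mk q.left
  let ε : (Over.map p).obj X' ⟶ X := Over.homMk (𝟙 X.left) (by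
    show 𝟙 X.left ≫ X.hom = q.left ≫ p
    rw [Category.id_comp]
    exact (Over.w q).symm)
  haveI : IsIso ((Over.forget S).map ε) := inferInstanceAs (IsIso (𝟙 X.left))
  haveI : IsIso ε := isIso_of_reflects_iso ε (Over.forget S)
  have h2 := (CentLocus.map_comm_iff u p (ε ≫ g) (ε ≫ h)).1
    (hU X' ((Over.mapPullbackAdj p).homEquiv X' G (ε ≫ g)) ((Over.mapPullbackAdj p).homEquiv X' H (ε ≫ h))).symm
  rw [← cancel_epi ε, MonObj.comp_mul, MonObj.comp_mul]
  simp only [Category.assoc] at h2
  exact h2.symm

end Groth.Agent.S5295
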