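import Groth.Statements.S17330
import Groth.Agent.MuAlphaLib.Exp
import Groth.Agent.S18472

set_option linter.style.haveILetI false

set_option autoImplicit false
universe u v
open Hopf

namespace Groth.Agent.S17330

/-- Let k be an algebraically closed field of characteristic p > 0 and A a commutative Hopf algebra over
k, finite-dimensional as a k-vector space and not reduced (a non-reduced finite group scheme G =
Spec A). Then G contains a subgroup scheme isomorphic to μ_p or to α_p: there is a surjective
bialgebra homomorphism from A onto the group algebra of the cyclic group of order p (the Hopf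
algebra of μ_p, group elements group-like) or onto k[X]/(X^p) with X primitive (the Hopf algebra of
α_p). -/
theorem result (k : Type u) [Field k] [IsAlgClosed k]
    (p : ℕ) [Fact p.Prime] [CharP k p] (A : Type v) [CommRing A] [HopfAlgebra k A] [Module.Finite k A]
    (hA : ¬ IsReduced A) :
    (∃ f : A →ₐc[k] MonoidAlgebra k (Multiplicative (ZMod p)), Function.Surjective f) ∨
      (∃ f : A →ₐc[k] AlphaP.A p k, Function.Surjective f) := by
  classical
  letI : Algebra k (WithConv (A →ₗ[k] k)) := MuAlphaLib.dualAlgebra
  haveI : Nontrivial (WithConv (A →ₗ[k] k)) := ⟨⟨1, 0, fun h => by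
    have := congrArg (fun φ : WithConv (A →ₗ[k] k) => φ 1) h
    simp only [MuAlphaLib.one_apply, Bialgebra.counit_one] at this
    exact one_ne_zero this⟩⟩
  let ε := Bialgebra.counitAlgHom k A
  let I := RingHom.ker ε
  have hI : I ^ 2 ≠ I := fun h => hA (by
    haveI := (Groth.Agent.S18472.result k A).2 h
    exact Algebra.FormallyUnramified.isReduced_of_field k A)
  obtain ⟨a, haI, ha2⟩ := SetLike.exists_of_lt (lt_of_le_of_ne (Ideal.pow_le_self two_ne_zero) hI)
  obtain ⟨l, hla, hl⟩ := Submodule.exists_dual_map_eq_bot_of_notMem
    (p := (I ^ 2).restrictScalars k) ha2 inferInstance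
  let π : A →ₗ[k] A := LinearMap.id - Algebra.linearMap k A ∘ₗ Coalgebra.counit
  have hπ : ∀ u, π u = u - algebraMap k A (ε u) := fun u => rfl
  have hπI : ∀ u, π u ∈ I := fun u => by
    rw [RingHom.mem_ker, hπ, map_sub, AlgHom.commutes, Algebra.algebraMap_self, RingHom.id_apply, sub_self]
  have hl0 : ∀ u, u ∈ I ^ 2 → l u = 0 := fun u hu => (Submodule.mem_bot k).1 (hl ▸ Submodule.mem_map_of_mem hu)
  let x : WithConv (A →ₗ[k] k) := WithConv.toConv (l ∘ₗ π)
  have hx : MuAlphaLib.IsDer x := fun u v => by
    show l (π (u * v)) = l (π u) * ε v + ε u * l (π v)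
    have e : π (u * v) = π u * π v + ε v • π u + ε u • π v := by
      simp only [hπ, Algebra.smul_def, map_mul]
      ring
    rw [e, map_add, map_add, map_smul, map_smul, hl0 _ (by rw [pow_two]; exact Ideal.mul_mem_mul (hπI u) (hπI v)),
      smul_eq_mul, smul_eq_mul]
    ring
  have hx0 : x ≠ 0 := fun h => hla (by
    have := congrArg (fun φ : WithConv (A →ₗ[k] k) => φ a) h
    have ha0 : π a = a := by rw [hπ, show ε a = 0 from haI, map_zero, sub_zero]
    simpa [x, ha0] using this)
  obtain ⟨y, hy0, hy, hyp⟩ := MuAlphaLib.exists_fixed p hx hx0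
  rcases hyp with hyp | hyp
  · refine Or.inr (MuAlphaLib.exists_bialgHom (AlphaP.x p k) (AlphaP.basis p k) (AlphaP.basis_apply p k)
      (AlphaP.x_pow p k) (AlphaP.counit_x p k) (c := 0) ?_ hy hy0 ?_)
    · rw [AlphaP.comul_x, zero_smul, add_zero]
    · simpa using hyp
  · left
    let G := Multiplicative (ZMod p)
    let g : MonoidAlgebra k G := MonoidAlgebra.single (Multiplicative.ofAdd 1) 1
    have hgp : ∀ j : ℕ, g ^ j = MonoidAlgebra.single (Multiplicative.ofAdd (j : ZMod p)) 1 := fun j => by
      rw [MonoidAlgebra.single_pow, one_pow, ← ofAdd_nsmul, nsmul_one]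
    have hspan : ⊤ ≤ Submodule.span k (Set.range fun i : Fin p => (g - 1) ^ (i : ℕ)) := by
      rintro z -
      induction z using MonoidAlgebra.induction_on with
      | of h =>
        have e : (MonoidAlgebra.of k G h) = g ^ (Multiplicative.toAdd h).val := by
          rw [hgp, ZMod.natCast_rightInverse, ofAdd_toAdd]; rfl
        rw [e]
        have e2 := add_pow (g - 1) 1 (Multiplicative.toAdd h).val
        rw [sub_add_cancel] at e2
        rw [e2]
        refine Submodule.sum_mem _ fun i hi => ?_
        rw [Finset.mem_range] at hi
        have hlt : i < p := lt_of_lt_of_le hi (ZMod.val_lt _)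
        rw [one_pow, mul_one, mul_comm, ← nsmul_eq_mul]
        exact Submodule.smul_of_tower_mem _ _ (Submodule.subset_span ⟨⟨i, hlt⟩, rfl⟩)
      | add u v hu hv => exact Submodule.add_mem _ hu hv
      | smul r u hu => exact Submodule.smul_mem _ r hu
    have hcard : Fintype.card (Fin p) = Module.finrank k (MonoidAlgebra k G) := by
      rw [Module.finrank_eq_card_basis (MonoidAlgebra.basis G k), Fintype.card_fin]
      simp [G, ZMod.card]
    let β := basisOfTopLeSpanOfCardEqFinrank _ hspan hcard
    refine MuAlphaLib.exists_bialgHom (g - 1) β (fun i => by simp [β]) ?_ ?_ (c := 1) ?_ hy hy0 ?_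
    · haveI : Nontrivial (MonoidAlgebra k G) := inferInstance
      haveI : CharP (MonoidAlgebra k G) p := charP_of_injective_algebraMap (algebraMap k _).injective p
      haveI : ExpChar (MonoidAlgebra k G) p := ExpChar.prime Fact.out
      rw [sub_pow_expChar, one_pow, hgp, ZMod.natCast_self, ofAdd_zero, ← MonoidAlgebra.one_def, sub_self]
    · rw [map_sub, Bialgebra.counit_one]
      simp [g]
    · rw [map_sub, Bialgebra.comul_one, one_smul, show Coalgebra.comul g = g ⊗ₜ[k] g by simp [g],
        Algebra.TensorProduct.one_def]
      simp only [TensorProduct.sub_tmul, TensorProduct.tmul_sub]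
      abel
    · have key : ((List.range p).reverse.map fun l : ℕ => (Polynomial.X : Polynomial k) - Polynomial.C (l : k)).prod =
          Polynomial.X ^ p - Polynomial.X := by
        rw [List.map_reverse, List.prod_reverse, ← List.prod_toFinset _ List.nodup_range, List.toFinset_range]
        have h0 : ∏ a : ZMod p, (Polynomial.X - Polynomial.C a) = Polynomial.X ^ p - Polynomial.X := by
          have hm : (Polynomial.X ^ p - Polynomial.X : Polynomial (ZMod p)).Monic :=
            Polynomial.monic_X_pow_sub (by rw [Polynomial.degree_X]; exact_mod_cast (Fact.out : p.Prime).one_lt)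
          have hr : (Polynomial.X ^ p - Polynomial.X : Polynomial (ZMod p)).roots = Finset.univ.val := by
            have h := FiniteField.roots_X_pow_card_sub_X (ZMod p)
            rwa [ZMod.card p] at h
          have := Polynomial.prod_multiset_X_sub_C_of_monic_of_roots_card_eq hm (by
            rw [hr, FiniteField.X_pow_card_sub_X_natDegree_eq _ (Fact.out : p.Prime).one_lt]
            exact ZMod.card p)
          rwa [hr] at this
        have h1 := congrArg (Polynomial.map (ZMod.castHom (dvd_refl p) k)) h0
        simp only [Polynomial.map_prod, Polynomial.map_sub, Polynomial.map_X, Polynomial.map_C, Polynomial.map_pow] at h1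
        rw [← h1]
        refine Finset.prod_bij' (fun l _ => (l : ZMod p)) (fun a _ => a.val) (fun _ _ => Finset.mem_univ _)
          (fun a _ => Finset.mem_range.2 (ZMod.val_lt a)) (fun l hl => ZMod.val_cast_of_lt (Finset.mem_range.1 hl))
          (fun a _ => ZMod.natCast_rightInverse a) (fun l _ => ?_)
        simp
      have h2 := congrArg (Polynomial.aeval y) key
      rw [map_list_prod, List.map_map, map_sub, map_pow, Polynomial.aeval_X, hyp, sub_self] at h2
      rw [← h2]
      congr 1
      refine List.map_congr_left fun l _ => ?_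
      simp [← Algebra.algebraMap_eq_smul_one]

end Groth.Agent.S17330
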