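import Groth.Statements.S17331
import Groth.Agent.MuAlphaLib.Prime
import Groth.Agent.S17330

set_option linter.style.haveILetI false

set_option autoImplicit false
universe u v
open Hopf

namespace Groth.Agent.S17331

/-- Let k be an algebraically closed field of characteristic p > 0, ℓ a prime, and A a commutative Hopf
algebra over k of dimension ℓ as a k-vector space (a finite group scheme G of prime order ℓ). If ℓ ≠
p then G ≅ ℤ/ℓ: A is isomorphic as a bialgebra to the algebra of k-valued functions on the cyclic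
group of order ℓ. If ℓ = p then G is isomorphic to ℤ/p, μ_p or α_p: A is isomorphic as a bialgebra
to the algebra of functions on the cyclic group of order p, to its group algebra (group elements
group-like), or to k[X]/(X^p) with X primitive. -/
theorem result (k : Type u) [Field k] [IsAlgClosed k]
    (p : ℕ) [Fact p.Prime] [CharP k p] (A : Type v) [CommRing A] [HopfAlgebra k A]
    (ℓ : ℕ) [Fact ℓ.Prime] (hA : Module.finrank k A = ℓ) :
    (ℓ ≠ p → Nonempty (A ≃ₐc[k] ConstGrp.F k (Multiplicative (ZMod ℓ)))) ∧
      (ℓ = p → Nonempty (A ≃ₐc[k] ConstGrp.F k (Multiplicative (ZMod p))) ∨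
        Nonempty (A ≃ₐc[k] MonoidAlgebra k (Multiplicative (ZMod p))) ∨
        Nonempty (A ≃ₐc[k] AlphaP.A p k)) := by
  classical
  haveI : Module.Finite k A := Module.finite_of_finrank_pos (hA ▸ (Fact.out : ℓ.Prime).pos)
  by_cases hred : IsReduced A
  · refine ⟨fun _ => MuAlphaLib.exists_equiv_const ℓ hA, fun h => ?_⟩
    subst h
    exact Or.inl (MuAlphaLib.exists_equiv_const ℓ hA)
  rcases Groth.Agent.S17330.result k p A hred with ⟨f, hf⟩ | ⟨f, hf⟩
  · have hB : Module.finrank k (MonoidAlgebra k (Multiplicative (ZMod p))) = p := by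
      rw [Module.finrank_eq_card_basis (MonoidAlgebra.basis (Multiplicative (ZMod p)) k)]
      simp [ZMod.card]
    have hd := MuAlphaLib.finrank_dvd f hf
    rw [hB, hA] at hd
    have hlp : ℓ = p := ((Nat.prime_dvd_prime_iff_eq Fact.out Fact.out).1 hd).symm
    refine ⟨fun h => absurd hlp h, fun _ => Or.inr (Or.inl ⟨BialgEquiv.ofBijective f ⟨?_, hf⟩⟩)⟩
    exact (LinearMap.injective_iff_surjective_of_finrank_eq_finrank (f := (f : A →ₗc[k] _).toLinearMap)
      (hA.trans (hlp.trans hB.symm))).2 hf
  · have hB : Module.finrank k (AlphaP.A p k) = p := AlphaP.finrank_eq p k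
    have hd := MuAlphaLib.finrank_dvd f hf
    rw [hB, hA] at hd
    have hlp : ℓ = p := ((Nat.prime_dvd_prime_iff_eq Fact.out Fact.out).1 hd).symm
    refine ⟨fun h => absurd hlp h, fun _ => Or.inr (Or.inr ⟨BialgEquiv.ofBijective f ⟨?_, hf⟩⟩)⟩
    exact (LinearMap.injective_iff_surjective_of_finrank_eq_finrank (f := (f : A →ₗc[k] _).toLinearMap)
      (hA.trans (hlp.trans hB.symm))).2 hf

end Groth.Agent.S17331
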