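import Groth.Statements.S5112
import Groth.Agent.ParaFLib.Normal
import Groth.Agent.ParaFLib.OrdStalk
import Groth.Agent.AffContLib.Semi
import Groth.Agent.S16087
import Groth.Agent.Ref1Lib.Factorial

-- import your own Groth.Agent.* helpers here

set_option autoImplicit false
universe u
open CategoryTheory CategoryTheory.Limits AlgebraicGeometry TopologicalSpace
open Div21

namespace Groth.Agent.S5112

open scoped Classical

/-- `Z` is the divisor of a rational function near `x`. -/
def Principal {X : Scheme.{u}} [IsIntegral X] [IsLocallyNoetherian X] (Z : X → ℤ) (x : X) : Prop :=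
  ∃ f : X.functionField, f ≠ 0 ∧ ∀ x' : X, Order.coheight x' = 1 → x' ⤳ x → Z x' = Scheme.ord f x'

theorem val_germ_neg {X : Scheme.{u}} [IsIntegral X] [IsLocallyNoetherian X] {z : X} {f : X.functionField}
    (hf : f ≠ 0) : Scheme.ord f⁻¹ z = - Scheme.ord f z := CDivCoreLib.ord_inv hf

theorem principal_of_picTrivial {X : Scheme.{u}} [IsIntegral X] [IsLocallyNoetherian X]
    (hX : Pi1.IsNormalScheme X) (U : X.Opens) (hpic : ParaF.PicTrivial (U : Scheme.{u}))
    (hU1 : ∀ z : X, Order.coheight z = 1 → z ∈ U) (hne : genericPoint X ∈ U) (D : X → ℤ)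
    (hfin : ∀ x : X, ∃ W : X.Opens, x ∈ W ∧ {z : X | z ∈ W ∧ D z ≠ 0}.Finite)
    (hloc : ∀ y ∈ U, Principal D y) :
    ∃ f : X.functionField, f ≠ 0 ∧ ∀ z : X, Order.coheight z = 1 → D z = Scheme.ord f z := by
  let M := Ref1Lib.divMod D hX
  have hgen : ∀ y ∈ U, ∃ (O : X.Opens) (_ : y ∈ O) (_ : O ≤ U) (f : X.functionField) (_ : f ≠ 0),
      ∀ z ∈ O, Order.coheight z = 1 → D z = Scheme.ord f z := fun y hy => by
    obtain ⟨f, hf, hfy⟩ := hloc y hy
    obtain ⟨W, hyW, hWfin⟩ := hfin y
    obtain ⟨A, hA, hyA, hAW⟩ := exists_isAffineOpen_mem_and_subset (x := y) (U := W) hyW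
    obtain ⟨V, hfreg⟩ : ∃ V : X.Opens, genericPoint X ∈ V ∧ ∀ z ∈ V, CDivCoreLib.Reg f z ∧ CDivCoreLib.Reg f⁻¹ z := by
      obtain ⟨V₁, hV₁, a, ha⟩ := X.presheaf.exists_germ_eq (x := genericPoint X) f
      obtain ⟨V₂, hV₂, b, hb⟩ := X.presheaf.exists_germ_eq (x := genericPoint X) f⁻¹
      exact ⟨V₁ ⊓ V₂, ⟨hV₁, hV₂⟩, fun z hz =>
        ⟨⟨_, (CDivCoreLib.algebraMap_germ hz.1 hV₁ a).trans ha⟩, ⟨_, (CDivCoreLib.algebraMap_germ hz.2 hV₂ b).trans hb⟩⟩⟩
    have hbad : {z : X | z ∈ A ∧ Order.coheight z = 1 ∧ D z ≠ Scheme.ord f z}.Finite := by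
      refine ((hWfin).union (Ref1Lib.finite_coheight_one_inter V hfreg.1 hA)).subset ?_
      rintro z ⟨hzA, hz1, hne⟩
      by_cases hzV : z ∈ V
      · exact Or.inl ⟨hAW hzA, fun h0 => hne (h0.trans
          ((CDivCoreLib.ord_eq_zero_iff hX hz1 hf).2 (hfreg.2 z hzV)).symm)⟩
      · exact Or.inr ⟨hz1, hzA, hzV⟩
    let C : Set X := ⋃ z ∈ {z : X | z ∈ A ∧ Order.coheight z = 1 ∧ D z ≠ Scheme.ord f z}, closure {z}
    have hC : IsClosed C := hbad.isClosed_biUnion fun _ _ => isClosed_closure
    refine ⟨A ⊓ U ⊓ ⟨Cᶜ, hC.isOpen_compl⟩, ⟨⟨hyA, hy⟩, fun hyC => ?_⟩, inf_le_left.trans inf_le_right, f, hf,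
      fun z hz hz1 => ?_⟩
    · obtain ⟨z, ⟨-, hz1, hzne⟩, hzy⟩ := Set.mem_iUnion₂.1 hyC
      exact hzne (hfy z hz1 (specializes_iff_mem_closure.2 hzy))
    · by_contra hne
      exact hz.2 (Set.mem_iUnion₂.2 ⟨z, ⟨hz.1.1, hz1, hne⟩, subset_closure rfl⟩)
  choose O hyO hOU f hf hfD using hgen
  have hcond : ∀ y hy, ∀ z ∈ O y hy, Ref1Lib.Cond D z (f y hy)⁻¹ := fun y hy z hz _ hz1 => by
    rw [CDivCoreLib.ord_inv (hf y hy), hfD y hy z hz hz1]; simp
  have hG : ∀ y hy, AmpleLib.GenOn M (Ref1Lib.mkSec D hX (f y hy)⁻¹ (hcond y hy)) := fun y hy V hV => by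
    refine ⟨fun a b hab => ?_, fun s => ?_⟩
    · by_cases hV0 : genericPoint X ∈ V
      · have h1 := congrArg (Ref1Lib.val D hX hV0) hab
        replace h1 := (Ref1Lib.val_smul D hX hV0 a _).symm.trans (h1.trans (Ref1Lib.val_smul D hX hV0 b _))
        haveI : Nonempty (V : Scheme.{u}) := ⟨⟨_, hV0⟩⟩
        exact germ_injective_of_isIntegral X _ hV0 (mul_right_cancel₀
          (show (Ref1Lib.val D hX hV0 (AmpleLib.res M hV (Ref1Lib.mkSec D hX (f y hy)⁻¹ (hcond y hy)))) ≠ 0
            from inv_ne_zero (hf y hy)) h1)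
      · exact TopCat.Presheaf.section_ext X.sheaf V a b fun z hz => absurd (RefHullLib.mem_of_nonempty hz) hV0
    · by_cases hV0 : genericPoint X ∈ V
      · obtain ⟨r, hr⟩ := Ref1Lib.exists_section_of_reg' hV0 (Ref1Lib.val D hX hV0 s * f y hy) fun z hz =>
          CDivCoreLib.reg_of_coheight_one hX fun w hw hw1 => by
            have hwV := hw.mem_open V.2 hz
            by_cases h0 : Ref1Lib.val D hX hV0 s = 0
            · exact ⟨0, by rw [map_zero, h0, zero_mul]⟩
            refine CDivCoreLib.reg_of_ord_nonneg hX hw1 (mul_ne_zero h0 (hf y hy)) ?_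
            rw [Scheme.ord_mul h0 (hf y hy), ← hfD y hy w (hV hwV) hw1]
            exact Ref1Lib.cond_val D hX hV0 s hwV h0 hw1
        refine ⟨r, Ref1Lib.sec_ext D hX _ _ fun _ => ?_⟩
        rw [Ref1Lib.val_smul, hr]
        exact mul_inv_cancel_right₀ (hf y hy) _
      · exact ⟨0, Ref1Lib.sec_ext D hX _ _ fun h => absurd h hV0⟩
  obtain ⟨σ, hσ⟩ := (ParaFLib.picTrivial_iff U).1 hpic M fun y hy =>
    ⟨O y hy, hyO y hy, hOU y hy, _, hG y hy⟩
  let c := Ref1Lib.val D hX hne σ
  have key : ∀ y hy, ∃ r : Γ(X, O y hy), (f y hy)⁻¹ =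
      X.presheaf.germ (O y hy) _ (RefHullLib.mem_of_nonempty (hyO y hy)) r * c := fun y hy => by
    obtain ⟨r, hr⟩ := (hσ _ (hOU y hy)).2 (Ref1Lib.mkSec D hX (f y hy)⁻¹ (hcond y hy))
    refine ⟨r, ?_⟩
    have h1 := congrArg (Ref1Lib.val D hX (RefHullLib.mem_of_nonempty (hyO y hy))) hr
    exact h1.symm.trans (Ref1Lib.val_smul D hX _ r _)
  have hc : c ≠ 0 := fun h0 => by
    obtain ⟨r, hr⟩ := key _ hne
    rw [h0, mul_zero] at hr
    exact inv_ne_zero (hf _ hne) hr
  refine ⟨c⁻¹, inv_ne_zero hc, fun z hz1 => ?_⟩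
  have hzU := hU1 z hz1
  obtain ⟨r, hr⟩ := key z hzU
  have hrK : (X.presheaf.germ (O z hzU) _ (RefHullLib.mem_of_nonempty (hyO z hzU)) r : X.functionField) ≠ 0 := fun h0 => by
    refine inv_ne_zero (hf z hzU) ?_
    rw [hr]
    exact (congrArg (· * c) h0).trans (zero_mul c)
  have h1 : Scheme.ord (f z hzU)⁻¹ z =
      Scheme.ord (X.presheaf.germ (O z hzU) _ (RefHullLib.mem_of_nonempty (hyO z hzU)) r : X.functionField) z +
        Scheme.ord c z := (congrArg (fun g => Scheme.ord g z) hr).trans (Scheme.ord_mul hrK hc)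
  have h2 : 0 ≤ Scheme.ord (X.presheaf.germ (O z hzU) _ (RefHullLib.mem_of_nonempty (hyO z hzU)) r : X.functionField) z :=
    CDivCoreLib.ord_nonneg_of_reg hX hz1 hrK ⟨_, CDivCoreLib.algebraMap_germ (hyO z hzU) _ r⟩
  have h3 : 0 ≤ Scheme.ord c z + D z := Ref1Lib.cond_val D hX hne σ hzU hc hz1
  rw [CDivCoreLib.ord_inv (hf z hzU), ← hfD z hzU z (hyO z hzU) hz1] at h1
  rw [CDivCoreLib.ord_inv hc]
  omega

theorem principal_of_dim_le_one {X : Scheme.{u}} [IsIntegral X] [IsLocallyNoetherian X]
    (hX : Pi1.IsNormalScheme X) (Z : X → ℤ) (hZ : ∀ x : X, Order.coheight x ≠ 1 → Z x = 0)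
    (hZfin : ∀ x : X, ∃ W : X.Opens, x ∈ W ∧ {z : X | z ∈ W ∧ Z z ≠ 0}.Finite) {x : X}
    (hx : Order.coheight x ≤ 1) : Principal Z x := by
  have hsub : ∀ z : X, Order.coheight z = 1 → z ⤳ x → z = x := fun z hz hzx => by
    by_contra hne
    have hlt : x < z := lt_of_le_not_ge (Scheme.le_iff_specializes.2 hzx) fun h =>
      hne (hzx.antisymm (Scheme.le_iff_specializes.1 h)).eq
    have h2 : Order.coheight z < Order.coheight x := Order.coheight_strictAnti hlt (by rw [hz]; exact ENat.coe_lt_top 1)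
    rw [hz] at h2
    exact absurd (h2.trans_le hx) (lt_irrefl _)
  rcases lt_or_eq_of_le hx with h0 | h1
  · exact ⟨1, one_ne_zero, fun z hz hzx => absurd hz (by rw [hsub z hz hzx]; exact ne_of_lt h0)⟩
  · have hloc : LocallyFiniteSupport Z := fun z => by
      obtain ⟨W, hzW, hW⟩ := hZfin z
      exact ⟨W, W.2.mem_nhds hzW, hW.subset fun w hw => hw⟩
    obtain ⟨F, hF, s, hs, hsD⟩ := (S16087.result X hX).2 ⟨Z, fun _ _ => trivial, fun z _ => hloc z⟩ hZ
    obtain ⟨v, rfl⟩ := Submodule.Quotient.mk_surjective _ s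
    have hv : v ≠ 0 := fun h0 => hs (by rw [h0]; rfl)
    obtain ⟨t, ht⟩ := Ref1Lib.exists_freeGen hX hF h1
    obtain ⟨O, hxO, σ, hσ⟩ := Ref1Lib.exists_genOn_of_freeGen hF ht
    obtain ⟨c, hc⟩ := (hσ.genAt (RefHullLib.mem_of_nonempty hxO)).2 v
    have hc0 : c ≠ 0 := fun h0 => hv (hc.symm.trans (by simp only [h0, zero_smul]))
    refine ⟨c, hc0, fun z hz hzx => ?_⟩
    obtain rfl := hsub z hz hzx
    refine (hsD z hz).trans (Ref1Lib.secOrdAt_free F hz _ hv (hσ.genAt hxO) ?_)
    rw [Ref1Lib.spec_germ]; exact hc.symm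

open ParaFLib in
theorem principal_step {X : Scheme.{u}} [IsIntegral X] [IsLocallyNoetherian X]
    (hX : Pi1.IsNormalScheme X) (Z : X → ℤ) (hZfin : ∀ x : X, ∃ W : X.Opens, x ∈ W ∧ {z : X | z ∈ W ∧ Z z ≠ 0}.Finite)
    (x : X) (hdim : (2 : WithBot ℕ∞) ≤ ringKrullDim (X.presheaf.stalk x))
    (hpar : ParaF.IsParafactorialLocalRing (X.presheaf.stalk x))
    (ih : ∀ y : X, Order.coheight y < Order.coheight x → Principal Z y) : Principal Z x := by
  let A := X.presheaf.stalk x
  haveI := (hX x).2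
  let X' := Spec (CommRingCat.of A)
  let g : X' ⟶ X := X.fromSpecStalk x
  have hX' := isNormal_spec A
  haveI : Flat g := AlgSpLib.flat_fromSpecStalk x
  haveI : ∀ q, IsIso (g.stalkMap q) := fun q => AffContLib.isIso_stalkMap_of_flat_preimmersion g q
  have hco : ∀ q : X', Order.coheight (g q) = Order.coheight q := fun q =>
    (CDivCoreLib.coheight_fromSpecStalk q).trans (idealHeight_eq_coheight (CommRingCat.of A) q)
  have hgen : g (genericPoint X') = genericPoint X := by
    refine RefHullLib.eq_generic_of_dim_zero ?_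
    rw [ringKrullDim_stalk_eq_coheight, hco, Order.coheight_eq_zero.2 (fun y _ =>
      Scheme.le_iff_specializes.2 (RefHullLib.specializes_generic y))]
    rfl
  let D : X' → ℤ := fun q => Z (g q)
  have hginj : Function.Injective g := g.isEmbedding.injective
  have hfin : ∀ q : X', ∃ W : X'.Opens, q ∈ W ∧ {z : X' | z ∈ W ∧ D z ≠ 0}.Finite := fun q => by
    obtain ⟨W, hW, hWfin⟩ := hZfin (g q)
    exact ⟨g ⁻¹ᵁ W, hW, hWfin.preimage hginj.injOn |>.subset fun z hz => hz⟩
  have htop : g (IsLocalRing.closedPoint A) = x := Scheme.fromSpecStalk_closedPoint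
  have h2 := coheight_closedPoint_ne A hdim
  have hU : ∀ q ∈ FEt.puncturedSpec A, Principal D q := fun q hq => by
    have hlt : Order.coheight (g q) < Order.coheight x := by
      have e : Order.coheight x = Order.coheight (show X' from IsLocalRing.closedPoint A) := by
        exact (congrArg Order.coheight htop.symm).trans (hco _)
      rw [e, hco]
      refine Order.coheight_strictAnti (lt_of_le_not_ge
        (Scheme.le_iff_specializes.2 (IsLocalRing.specializes_closedPoint q)) fun h => hq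
          (((IsLocalRing.specializes_closedPoint q).antisymm (Scheme.le_iff_specializes.1 h)).eq)) ?_
      rw [← idealHeight_eq_coheight (CommRingCat.of A) q]
      exact Ideal.height_lt_top q.isPrime.ne_top
    obtain ⟨f, hf, hfZ⟩ := ih (g q) hlt
    refine ⟨ffMap' g hgen f, (map_ne_zero_iff _ (ffMap'_bijective g hgen).1).2 hf, fun z hz hzq => ?_⟩
    rw [ord_ffMap' g hgen hco f z]
    exact hfZ (g z) ((hco z).trans hz) (hzq.map g.continuous)
  have hne : genericPoint X' ∈ FEt.puncturedSpec A := fun (he : genericPoint X' = IsLocalRing.closedPoint A) => by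
    have := h2
    rw [← he, Order.coheight_eq_zero.2 (fun y _ => Scheme.le_iff_specializes.2 (RefHullLib.specializes_generic y))] at this
    exact absurd this (by decide)
  have hU1 : ∀ z : X', Order.coheight z = 1 → z ∈ FEt.puncturedSpec A :=
    fun z hz (he : z = IsLocalRing.closedPoint A) => by
      have := h2
      rw [← he, hz] at this
      exact absurd this (by decide)
  obtain ⟨f', hf', hD⟩ := principal_of_picTrivial hX' _ ((isParafactorialLocalRing_iff A).1 hpar).2 hU1 hne D hfin hU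
  obtain ⟨f, rfl⟩ := (ffMap'_bijective g hgen).2 f'
  refine ⟨f, fun h0 => hf' (by rw [h0, map_zero]), fun z hz hzx => ?_⟩
  obtain ⟨q, rfl⟩ := CDivCoreLib.exists_prime_of_specializes hzx
  exact (hD q ((hco q).symm.trans hz)).trans (ord_ffMap' g hgen hco f q)



/-- The implication from (b) to (a), for an integral scheme (a normal locally Noetherian scheme is the
disjoint union of its integral components): let X be a normal locally Noetherian integral scheme and
S a subset of X. A codimension-1 cycle Z (an integer-valued function on points, zero off the points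
of codimension 1, i.e. of coheight 1, with locally finite support) is principal at a point x when
there is a nonzero rational function whose order at every codimension-1 point generizing x is the
value of Z there (the trace of Z on Spec O_{X,x} is a principal divisor). Suppose (b): for every
point x of X which is not a generization of a point of S (the closure of x does not meet S) and
whose local ring has dimension at least 2, the local ring O_{X,x} is parafactorial. Then (a): every
codimension-1 cycle which is principal at all points of S is principal at every point of X (it is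
locally principal). (The published statement asserts that (a) and (b) are equivalent. The
implication from (a) to (b) fails: on the quotient of the real 2-sphere x² + y² + z² = 1 by (x, y,
z) ↦ (−x, −y, z), a normal Noetherian integral surface with exactly two singular points and divisor
class group of order 2, take S to be one singular point; every cycle principal there is principal
everywhere, while the local ring at the other singular point has dimension 2 and is not
parafactorial. This row states the implication from (b) to (a), which the published argument does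
prove.) -/
theorem result (X : Scheme.{u}) [IsIntegral X]
    [IsLocallyNoetherian X] (hX : Pi1.IsNormalScheme X) (S : Set ↥X)
    (hpar : ∀ x : ↥X, closure {x} ∩ S = ∅ → (2 : WithBot ℕ∞) ≤ ringKrullDim ↑(X.presheaf.stalk x) →
        ParaF.IsParafactorialLocalRing ↑(X.presheaf.stalk x))
    (Z : ↥X → ℤ) (hZ : ∀ x : ↥X, Order.coheight x ≠ 1 → Z x = 0)
    (hZfin : ∀ x : ↥X, ∃ W : X.Opens, x ∈ W ∧ {z : ↥X | z ∈ W ∧ Z z ≠ 0}.Finite)
    (hS : ∀ s : ↥X, s ∈ S →
        ∃ f : ↑X.functionField, f ≠ 0 ∧ ∀ x' : ↥X, Order.coheight x' = 1 → x' ⤳ s → Z x' = Scheme.ord f x')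
    (x : ↥X) :
    ∃ f : ↑X.functionField, f ≠ 0 ∧ ∀ x' : ↥X, Order.coheight x' = 1 → x' ⤳ x → Z x' = Scheme.ord f x' := by
  suffices H : ∀ n : ℕ∞, ∀ x : X, Order.coheight x = n → Principal Z x from H _ x rfl
  intro n
  induction n using WellFoundedLT.induction with
  | ind n ih =>
    intro x hn
    by_cases hxS : (closure {x} ∩ S).Nonempty
    · obtain ⟨s, hxs, hsS⟩ := hxS
      obtain ⟨f, hf, hfs⟩ := hS s hsS
      exact ⟨f, hf, fun z hz hzx => hfs z hz (hzx.trans (specializes_iff_mem_closure.2 hxs))⟩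
    by_cases hdim : Order.coheight x ≤ 1
    · exact principal_of_dim_le_one hX Z hZ hZfin hdim
    have hd : (2 : WithBot ℕ∞) ≤ ringKrullDim (X.presheaf.stalk x) := by
      rw [ringKrullDim_stalk_eq_coheight]
      exact WithBot.coe_le_coe.2 (Order.add_one_le_of_lt (not_le.1 hdim))
    exact principal_step hX Z hZfin x hd (hpar x (Set.not_nonempty_iff_eq_empty.1 hxS) hd)
      fun y hy => ih _ (hn ▸ hy) y rfl


end Groth.Agent.S5112
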