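import Groth.Statements.S5729
import Mathlib
import Mathlib
import Groth.Agent.EGA2SymLib.ImageAlg
import Groth.Agent.EGA2SymLib.FibreVA
import Groth.Agent.EGA2SymLib.DegPart
import Groth.Agent.EGA2SymLib.PosSurj
import Groth.Agent.MiscFlat6.RelTwistOne
import Groth.Agent.S8262
import Groth.Agent.S8292
-- import your own Groth.Agent.* helpers here

set_option autoImplicit false
universe u
open CategoryTheory CategoryTheory.Limits AlgebraicGeometry TopologicalSpace Opposite
open scoped HomogeneousIdeal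
open EGA2

namespace Groth.Agent.S5729

/-- For a morphism f : X → Y the following are equivalent: (a) there are a quasi-coherent O_Y-module E
of finite type, its graded symmetric algebra 𝒯 with projective bundle p : P(E) = Proj(𝒯) → Y (given
with its charts over affine opens), and a closed immersion i : X → P(E) with i ≫ p = f; (b) f is
projective in the sense that X is isomorphic over Y to the relative homogeneous spectrum of some
quasi-coherent graded O_Y-algebra generated by its degree-one part, that part being of finite type. -/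
theorem result {X Y : Scheme.{u}} (f : X ⟶ Y) :
    RelProj.IsProjective f ↔
      ∃ (E : Y.Modules) (𝒯 : RelProj.QCGrAlg Y) (j : E ⟶ 𝒯.toModule) (P : Scheme.{u}) (p : P ⟶ Y)
        (chart : ∀ (U : Y.Opens) (hU : IsAffineOpen U), ((p ⁻¹ᵁ U : P.Opens) : Scheme.{u}) ≅ Proj (𝒯.deg U hU))
        (i : X ⟶ P),
        Coh.IsQCoh E ∧ CohB1.IsFT E ∧ RelProj.IsGrSymAlg E 𝒯 j ∧ RelProj.IsRelProj 𝒯 p chart ∧
          IsClosedImmersion i ∧ i ≫ p = f := by
  classical
  constructor
  · rintro ⟨𝒮, PS, pS, chartS, e, hgen, hft, hPS, hep⟩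
    let M := EGA2SymLib.degPart 𝒮 1
    haveI : Coh.IsQCoh M := EGA2SymLib.isQCoh_degPart 𝒮 1
    have hM : CohB1.IsFT M := by
      refine QCohLib.isFT_of_finite fun z => ?_
      obtain ⟨U, hU, hzU, -⟩ := exists_isAffineOpen_mem_and_subset (X := Y) (x := z) (U := ⊤) trivial
      refine ⟨U, hU, hzU, ?_⟩
      obtain ⟨T, hT, hspan⟩ := hft U hU
      choose g hg using fun t : T => EGA2SymLib.exists_degIncl_eq 𝒮 1 hU (hT t.2)
      refine ⟨⟨Finset.univ.image g, eq_top_iff.mpr fun m _ => ?_⟩⟩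
      obtain ⟨c, hc⟩ := hspan _ (EGA2SymLib.degIncl_mem 𝒮 1 hU m)
      have hm : m = ∑ t : T, c t.1 • g t := by
        refine (EGA2SymLib.degLoc 𝒮 1).ι_app_injective _ (hc.trans ?_)
        rw [map_sum, ← Finset.sum_coe_sort T]
        refine Finset.sum_congr rfl fun t _ => ?_
        rw [QCohLib.app_smul, hg t]
        rfl
      rw [hm]
      exact Submodule.sum_mem _ fun t _ => Submodule.smul_mem _ _
        (Submodule.subset_span (Finset.mem_coe.mpr (Finset.mem_image_of_mem g (Finset.mem_univ t))))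
    obtain ⟨𝒯, j, hT⟩ := EGA2SymLib.exists_isGrSymAlg M
    obtain ⟨ubar, hju, -⟩ := hT.1 𝒮.toQCAlg (EGA2SymLib.degIncl 𝒮 1)
    have hju' : ∀ (U : Y.Opens) (m : Γ(M, U)), (ubar.hom.app (op U)).hom (j.app U m) =
        (EGA2SymLib.degIncl 𝒮 1).app U m := fun U m => congrArg (fun φ => φ.app U m) hju
    have hubar : RelProj.IsGradedHom ubar := by
      intro U hU d x hx
      refine EGA2SymLib.map_mem_of_gen (ubar.hom.app (op U)).hom (SymGenLib.isGenDegOne hT U hU) (fun y hy => ?_)
        (fun y hy => ?_) hx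
      · obtain ⟨a, rfl⟩ := EGA2SymLib.exists_of_mem_zero hT hU hy
        rw [show (ubar.hom.app (op U)).hom ((𝒯.str.app (op U)).hom a) = (𝒮.str.app (op U)).hom a from
          congr($(ubar.comm).app (op U) a)]
        exact 𝒮.str_mem U hU a
      · obtain ⟨m, rfl⟩ := EGA2SymLib.exists_of_mem_one hT U hU hy
        rw [hju']
        exact EGA2SymLib.degIncl_mem 𝒮 1 hU m
    have hps : ∀ (U : Y.Opens) (hU : IsAffineOpen U),
        EGA2SymLib.PosSurj (RelProj.gradedHomAt ubar hubar U hU) := fun U hU =>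
      EGA2SymLib.posSurj_of_gen _ (hgen U hU) fun b hb => by
        obtain ⟨m, hm⟩ := EGA2SymLib.exists_degIncl_eq 𝒮 1 hU hb
        exact ⟨j.app U m, hT.2 U hU m, (hju' U m).trans hm⟩
    have hirr : ∀ (U : Y.Opens) (hU : IsAffineOpen U),
        (𝒮.deg U hU)₊ ≤ ((𝒯.deg U hU)₊).map (RelProj.gradedHomAt ubar hubar U hU) := fun U hU => by
      refine (HomogeneousIdeal.irrelevant_le _).mpr fun k hk b hb => ?_
      obtain ⟨a, ha, rfl⟩ := hps U hU k hk b hb
      exact Ideal.mem_map_of_mem _ (HomogeneousIdeal.mem_irrelevant_of_mem _ hk ha)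
    obtain ⟨P, p, chart, hP⟩ := MiscFlat6.exists_relProj 𝒯
    obtain ⟨⟨h, hh, -⟩, hover⟩ := Groth.Agent.S8262.result ubar hubar hirr p pS chart chartS hP hPS
    have := Groth.Agent.S8292.result 𝒮 𝒯 hgen M inferInstance (EGA2SymLib.degIncl 𝒮 1)
      (fun U hU x => EGA2SymLib.degIncl_mem 𝒮 1 hU x) (fun U hU s hs => EGA2SymLib.exists_degIncl_eq 𝒮 1 hU hs)
      j hT ubar hubar hju hirr p pS chart chartS hP hPS h hh
    exact ⟨M, 𝒯, j, P, p, chart, e.hom ≫ h, inferInstance, hM, hT, hP, inferInstance, by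
      rw [Category.assoc, hover h hh, hep]⟩
  · rintro ⟨E, 𝒯, j, P, p, chart, i, hE, hft, hT, hP, hi, hg⟩
    subst hg
    haveI := hE
    haveI := hi
    have hgenT := SymGenLib.isGenDegOne hT
    have hftT : 𝒯.IsFTDeg 1 := fun U hU => by
      obtain ⟨G, hG⟩ := (QCohLib.finite_of_isFT (M := E) hft hU).fg_top
      refine ⟨G.image fun m => (j.app U m : 𝒯.presheaf.obj (op U)), fun z hz => ?_, fun x hx => ?_⟩
      · obtain ⟨m, -, rfl⟩ := Finset.mem_image.mp (Finset.mem_coe.mp hz)
        exact hT.2 U hU m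
      · obtain ⟨m, rfl⟩ := EGA2SymLib.exists_of_mem_one hT U hU hx
        let l : Γ(E, U) →ₗ[Γ(Y, U)] Γ(𝒯.toModule, U) :=
          { toFun := fun m => j.app U m
            map_add' := map_add (j.app U).hom
            map_smul' := fun r m => QCohLib.app_smul j U r m }
        have hle : l m ∈ Submodule.span Γ(Y, U) ((G.image l : Finset Γ(𝒯.toModule, U)) : Set Γ(𝒯.toModule, U)) := by
          rw [Finset.coe_image, ← Submodule.map_span, hG]
          exact ⟨m, trivial, rfl⟩
        obtain ⟨c, -, hc⟩ := Submodule.mem_span_finset.mp hle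
        exact ⟨c, hc.symm⟩
    haveI := MiscFlat6.isProper_relProj hP hgenT hftT
    obtain ⟨O1, lam, hO1⟩ := GrModLib6.exists_isRelTwist hP 1
    obtain ⟨φ, hφ⟩ := EGA2SymLib.exists_canonicalMap_one hP hO1 j hT.2
    have hL : PicF.IsInvertible ((Scheme.Modules.pullback i).obj O1) :=
      AmpleDevLib.isInvertible_pb i (EGA2SymLib.isInvertible_of_isRelTwist hgenT hO1)
    haveI : Coh.IsQCoh ((Scheme.Modules.pullback i).obj O1) :=
      (LocSuppLib.isCoh_of_isFinLocFree fun x =>
        let ⟨V, h⟩ := (CohCmpLib.invertible_iff_rank_one _).1 hL x; ⟨V, 1, h⟩).1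
    let s : KFlatLib.pb (i ≫ p) E ⟶ (Scheme.Modules.pullback i).obj O1 := EGA2SymLib.indQ φ rfl (𝟙 _)
    have hτ := fun U m => (EGA2SymLib.indQ_puSec φ (rfl : i ≫ p = i ≫ p) (𝟙 ((Scheme.Modules.pullback i).obj O1)) (U := U) m).symm
    let σ := (Scheme.Modules.pullbackPushforwardAdjunction (i ≫ p)).homEquiv E _ s
    have hσ : ∀ (U : Y.Opens) (m : Γ(E, U)),
        (show Γ((Scheme.Modules.pullback i).obj O1, (i ≫ p) ⁻¹ᵁ U) from σ.app U m) = EGA2SymLib.qVal s U m := fun U m =>
      congrArg (fun χ => Scheme.Modules.Hom.app χ U m)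
        ((Scheme.Modules.pullbackPushforwardAdjunction (i ≫ p)).homEquiv_unit E _ s)
    have hsec : ∀ x : X, ∃ (U : Y.Opens) (_ : IsAffineOpen U), EGA2SymLib.SecAtS σ U x := fun x => by
      obtain ⟨U, hU, hxU, -⟩ := exists_isAffineOpen_mem_and_subset (X := Y) (x := (i ≫ p) x) (U := ⊤) trivial
      refine ⟨U, hU, ?_⟩
      obtain ⟨e, he⟩ := EGA2SymLib.exists_genAt_of_induces (s := s) (hr := rfl) hO1 hT hφ ⟨Iso.refl _, hτ⟩ hU hxU
      refine ⟨e, hxU, EGA2SymLib.genAt_congr (hσ U e).symm he, fun W hW hWe => ?_⟩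
      let D := EGA2SymLib.bOpen p chart j hU e
      have hWD : W ≤ i ⁻¹ᵁ D := fun z hz =>
        (EGA2SymLib.mem_bOpen_iff (hr := rfl) hO1 hT hφ (Iso.refl _) hτ hU e (hW hz)).mpr
          (EGA2SymLib.genAt_congr (hσ U e) ((hWe z (hW hz)).mp hz))
      haveI : IsAffine (D : Scheme.{u}) :=
        (IsAffineOpen.image_of_isOpenImmersion
          (Proj.isAffineOpen_basicOpen (𝒯.deg U hU) (EGA2SymLib.jS j U e) (EGA2SymLib.jS_mem hT hU e) one_pos)
          (RelProj.emb p chart U hU))
      refine ⟨_, inferInstance, i.resLE D W hWD, inferInstance, fun a => ?_⟩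
      have h1 : W.topIso.hom ((i.resLE D W hWD).appTop a) = i.appLE D W hWD (D.topIso.hom a) := by
        simp only [Scheme.Hom.appTop, Scheme.Hom.resLE_app_top, CommRingCat.comp_apply]
        exact CategoryTheory.Iso.inv_hom_id_apply W.topIso _
      rw [h1]
      refine Subring.closure_mono ?_
        ((EGA2SymLib.range_appLE_eq_closure (hr := rfl) hO1 hT hφ (Iso.refl _) hτ hU e hW hWD).le ⟨_, rfl⟩)
      rintro b ⟨m, hm⟩
      refine ⟨m, ?_⟩
      rw [hσ, hσ]
      exact hm
    obtain ⟨𝒮, PS, pS, chartS, O1', lam', i', hgen, hft', hPS, -, hopen, hdense, hover, -⟩ :=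
      EGA2SymLib.exists_imageAlg_immersion (i ≫ p) hL hft σ hsec
    haveI := hopen
    haveI := MiscFlat6.relProj_isSeparated hPS
    haveI : IsProper (i' ≫ pS) := hover.symm ▸ inferInstance
    haveI : IsProper i' := IsProper.of_comp i' pS
    have hsurj : Function.Surjective i' := by
      rw [← Set.range_eq_univ, ← i'.isClosedMap.isClosed_range.closure_eq]
      exact hdense.closure_eq
    haveI : Epi i'.base := (TopCat.epi_iff_surjective _).mpr hsurj
    haveI : IsIso i' := IsOpenImmersion.isIso i'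
    exact ⟨𝒮, PS, pS, chartS, asIso i', hgen, hft', hPS, hover⟩

end Groth.Agent.S5729
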