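import Groth.Statements.S4857
import Mathlib
import Groth.Agent.DvrFlatLib.Chart

set_option autoImplicit false
universe u
open CategoryTheory AlgebraicGeometry
open EGA43

namespace Groth.Agent.S4857

open CategoryTheory.Limits in
/-- Let Y be a locally Noetherian scheme, f : X ⟶ Y locally of finite type, F a coherent O_X-module and
x a point of X with y = f x. Let (φ_i : O_{Y,y} → A_i) be a family of local homomorphisms into local
rings such that, for every N, some finite intersection of the ideals φ_i⁻¹(m_{A_i}^n) is contained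
in m_y^N. Let Y_i = Spec A_i ⟶ Y be the induced Y-schemes and X_i = X ×_Y Y_i. If for every i the
pullback of F to X_i is flat over Y_i at every point of X_i lying over x and over the closed point
of Y_i, then F is f-flat at x. -/
theorem result {X Y : Scheme.{u}} [IsLocallyNoetherian Y]
    (f : X ⟶ Y) [LocallyOfFiniteType f] (F : X.Modules) (hF : Coh.IsCoh F) (x : X)
    {ι : Type u} (A : ι → Type u) [∀ i, CommRing (A i)] [∀ i, IsLocalRing (A i)]
    (φ : ∀ i, (Y.presheaf.stalk (f x) : Type u) →+* A i) [∀ i, IsLocalHom (φ i)]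
    (htop : ∀ N : ℕ, ∃ s : Finset (ι × ℕ),
      ⨅ p ∈ s, Ideal.comap (φ p.1) (IsLocalRing.maximalIdeal (A p.1) ^ p.2) ≤
        IsLocalRing.maximalIdeal ↑(Y.presheaf.stalk (f x)) ^ N) :
    letI g : ∀ i, Spec (CommRingCat.of (A i)) ⟶ Y :=
      fun i => Spec.map (CommRingCat.ofHom (φ i)) ≫ Y.fromSpecStalk (f x)
    (∀ (i : ι) (x' : ↥(pullback f (g i))), pullback.fst f (g i) x' = x →
      pullback.snd f (g i) x' = IsLocalRing.closedPoint (A i) →
      FlatMod.IsFlatOverAt (pullback.snd f (g i)) ((Scheme.Modules.pullback (pullback.fst f (g i))).obj F) x') →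
    FlatMod.IsFlatOverAt f F x := by
  intro hflat
  haveI hq : Coh.IsQCoh F := hF.1
  haveI : IsLocallyNoetherian X := LocallyOfFiniteType.isLocallyNoetherian f
  obtain ⟨U, hU, hxU, -⟩ := exists_isAffineOpen_mem_and_subset (x := f x) (U := ⊤) trivial
  obtain ⟨V, hV, hxV, hVU⟩ := exists_isAffineOpen_mem_and_subset (x := x) (U := f ⁻¹ᵁ U) hxU
  have hVU' : V ≤ f ⁻¹ᵁ U := hVU
  letI := (f.appLE U V hVU').hom.toAlgebra
  letI : Module Γ(Y, U) Γ(F, V) := Module.compHom Γ(F, V) (f.appLE U V hVU').hom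
  haveI : IsScalarTower Γ(Y, U) Γ(X, V) Γ(F, V) := IsScalarTower.of_algebraMap_smul fun _ _ => rfl
  haveI : IsNoetherianRing Γ(X, V) := IsLocallyNoetherian.component_noetherian ⟨V, hV⟩
  haveI : Module.Finite Γ(X, V) Γ(F, V) := QCohLib.finite_of_isFT hF.2 hV
  haveI : Algebra.FiniteType Γ(Y, U) Γ(X, V) := LocallyOfFiniteType.finiteType_appLE f hU hV hVU'
  rw [FlatLib.isFlatOverAt_iff f F U hU V hV hVU' hxV rfl]
  letI : Algebra Γ(Y, U) (Y.presheaf.stalk (f x)) := (Y.presheaf.germ U (f x) hxU).hom.toAlgebra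
  have hq : (hV.primeIdealOf ⟨x, hxV⟩).asIdeal.comap (algebraMap Γ(Y, U) Γ(X, V)) =
      (hU.primeIdealOf ⟨f x, hxU⟩).asIdeal :=
    congrArg PrimeSpectrum.asIdeal (IsAffineOpen.comap_primeIdealOf_appLE U hU V hV hVU' hxV)
  haveI : IsLocalization.AtPrime (Y.presheaf.stalk (f x))
      ((hV.primeIdealOf ⟨x, hxV⟩).asIdeal.comap (algebraMap Γ(Y, U) Γ(X, V))) := by
    rw! [hq]
    exact hU.isLocalization_stalk ⟨f x, hxU⟩
  letI : ∀ i, Algebra (Y.presheaf.stalk (f x)) (A i) := fun i => (φ i).toAlgebra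
  letI : ∀ i, Algebra Γ(Y, U) (A i) := fun i => ((φ i).comp (Y.presheaf.germ U (f x) hxU).hom).toAlgebra
  haveI : ∀ i, IsScalarTower Γ(Y, U) (Y.presheaf.stalk (f x)) (A i) :=
    fun i => IsScalarTower.of_algebraMap_eq fun _ => rfl
  haveI : ∀ i, IsLocalHom (algebraMap (Y.presheaf.stalk (f x)) (A i)) := fun i => inferInstanceAs (IsLocalHom (φ i))
  refine DvrFlatLib.mem_flatLocus_of_family_at (Rq := Y.presheaf.stalk (f x)) _ A htop fun i => ?_
  refine DvrFlatLib.flatFibre_module f hU hV hVU' hxV (A i) F ?_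
  have h' := hflat i
  beta_reduce at h'

  rw [DvrFlatLib.chartMap_eq hU (A i) hxU (φ i)] at h'
  exact h'

end Groth.Agent.S4857
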