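import Groth.Statements.S15875
import Groth.Agent.GrpFieldLib.KerShear
import Groth.Agent.GrpFieldLib.Comps
import Groth.Agent.GrpFieldLib.Uniq
import Groth.Agent.DescLib.QAff

set_option linter.style.haveILetI false
set_option backward.isDefEq.respectTransparency false
set_option maxHeartbeats 1000000

set_option autoImplicit false
universe u
open CategoryTheory MonoidalCategory CartesianMonoidalCategory MonObj GrpObj AlgebraicGeometry
open AGF

namespace Groth.Agent.S15875
open CategoryTheory.Limits

section
attribute [-instance] CategoryTheory.Hom.commGroup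

/-- Quasi-compactness descends along an open surjection. -/
theorem qc_of_open_bc {X Y : Scheme.{u}} (q : X ⟶ Y) [Surjective q] (ho : IsOpenMap q)
    [QuasiCompact (pullback.fst q q)] : QuasiCompact q := by
  refine ⟨fun V hV hVc => ?_⟩
  choose W hW hxW hWV using fun x : ↥(q ⁻¹' V) => exists_isAffineOpen_mem_and_subset (X := X) (x := x.1)
    (U := q ⁻¹ᵁ ⟨V, hV⟩) x.2
  obtain ⟨t, ht⟩ := hVc.elim_finite_subcover (fun x => q '' (W x : Set X)) (fun x => ho _ (W x).2) (fun v hv => by
    obtain ⟨x, rfl⟩ := q.surjective v
    exact Set.mem_iUnion.2 ⟨⟨x, hv⟩, x, hxW ⟨x, hv⟩, rfl⟩)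
  let U : Set X := ⋃ x ∈ t, (W x : Set X)
  have hUc : IsCompact U := t.isCompact_biUnion fun x _ => (hW x).isCompact
  have hUo : IsOpen U := isOpen_biUnion fun x _ => (W x).2
  have hUV : U ⊆ q ⁻¹' V := Set.iUnion₂_subset fun x _ => hWV x
  have h2 := ((inferInstance : QuasiCompact (pullback.fst q q)).isCompact_preimage U hUo hUc).image
    (pullback.snd q q).continuous
  convert h2 using 1
  ext z
  constructor
  · intro hz
    obtain ⟨x, hx, hxz⟩ := Set.mem_iUnion₂.1 (ht hz)
    obtain ⟨u₀, hu₀, hu₀z⟩ := hxz
    obtain ⟨w, hw1, hw2⟩ := Scheme.Pullback.exists_preimage_pullback (f := q) (g := q) u₀ z hu₀z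
    exact ⟨w, show pullback.fst q q w ∈ U by rw [hw1]; exact Set.mem_iUnion₂.2 ⟨x, hx, hu₀⟩, hw2⟩
  · rintro ⟨w, hw, rfl⟩
    show q (pullback.snd q q w) ∈ V
    rw [← Scheme.Hom.comp_apply, ← pullback.condition, Scheme.Hom.comp_apply]
    exact hUV hw

theorem qc_of_kernel {K : Type u} [Field K] {G H N : Over (Spec (CommRingCat.of K))} [GrpObj G] [GrpObj H]
    [LocallyOfFiniteType G.hom] [LocallyOfFiniteType H.hom] (q : G ⟶ H) [IsMonHom q] [Surjective q.left] [Flat q.left]
    (i : N ⟶ G) (hN : AlgGrp.IsKernel i q) [CompactSpace N.left] : QuasiCompact q.left := by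
  haveI : IsLocallyNoetherian H.left := LocallyOfFiniteType.isLocallyNoetherian H.hom
  haveI : LocallyOfFiniteType (q.left ≫ H.hom) := by rw [Over.w]; infer_instance
  haveI : LocallyOfFiniteType q.left := locallyOfFiniteType_of_comp _ H.hom
  haveI : QuasiCompact N.hom := quasiCompact_of_compactSpace _
  haveI : QuasiCompact (fst G N).left := MorphismProperty.pullback_fst (P := @QuasiCompact) G.hom N.hom ‹_›
  let sq : IsPullback (fst G N).left (fst G N * (snd G N ≫ i)).left q.left q.left :=
    (Groth.Agent.GrpKerShear.isPullback_shear q i hN).map (Over.forget _)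
  haveI : QuasiCompact (pullback.fst q.left q.left) := by
    rw [← sq.isoPullback_inv_fst]
    infer_instance
  exact qc_of_open_bc q.left q.left.isOpenMap

end

/-- Let k'/k be a finite purely inseparable field extension, G a k-group locally of finite type, q :
G_{k'} → Ḡ a faithfully flat homomorphism onto a k'-group Ḡ locally of finite type with
quasi-compact kernel N, and (R, q_R) a Weil restriction of Ḡ to k carrying a group structure for
which q_R is a homomorphism. Then the comparison morphism i : G → R corresponding to q is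
quasi-compact. (The published statement allows any finite extension k'/k and adds that the kernel of
i is quasi-compact as well; the published proof goes through the purely inseparable case of the
kernel of the counit of Weil restriction, so k'/k is taken purely inseparable here.) -/
theorem result (k k' : Type u) [Field k] [Field k'] [Algebra k k']
    [Module.Finite k k'] [IsPurelyInseparable k k']
    (G : Over (Spec (CommRingCat.of k))) [GrpObj G] [LocallyOfFiniteType G.hom]
    (Gbar : Over (Spec (CommRingCat.of k'))) [GrpObj Gbar] [LocallyOfFiniteType Gbar.hom]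
    (q : Red.bc (Spec.map (CommRingCat.ofHom (algebraMap k k'))) G ⟶ Gbar) [IsMonHom q] [Surjective q.left] [Flat q.left]
    (N : Over (Spec (CommRingCat.of k'))) (iN : N ⟶ Red.bc (Spec.map (CommRingCat.ofHom (algebraMap k k'))) G) (hN : AlgGrp.IsKernel iN q) [CompactSpace N.left]
    (R : Over (Spec (CommRingCat.of k))) [GrpObj R] (qR : Red.bc (Spec.map (CommRingCat.ofHom (algebraMap k k'))) R ⟶ Gbar) [IsMonHom qR]
    (hR : WeilRes.IsWeilRes (Spec.map (CommRingCat.ofHom (algebraMap k k'))) Gbar R qR) :
    QuasiCompact (hR.lift G q).left := by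
  let f := Spec.map (CommRingCat.ofHom (algebraMap k k'))
  let i := hR.lift G q
  let i' := (Over.pullback f).map i
  have hi : i' ≫ qR = q := WeilRes.IsWeilRes.restr_lift hR G q
  haveI : LocallyOfFiniteType (Red.bc f G).hom := MorphismProperty.pullback_snd _ _ ‹LocallyOfFiniteType G.hom›
  haveI : QuasiCompact q.left := qc_of_kernel (G := Red.bc f G) q iN hN
  haveI : IsSeparated (Red.bc f R).hom := Groth.Agent.GrpField.isSeparated_grp (G := Red.bc f R)
  haveI : IsSeparated qR.left := by
    haveI : IsSeparated (qR.left ≫ Gbar.hom) := by rw [Over.w]; infer_instance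
    exact IsSeparated.of_comp qR.left Gbar.hom
  haveI : QuasiCompact i'.left := by
    haveI : QuasiCompact (i'.left ≫ qR.left) := by rw [← Over.comp_left, hi]; infer_instance
    exact QuasiCompact.of_comp i'.left qR.left
  haveI : Surjective (pullback.fst G.hom f) := MorphismProperty.pullback_fst _ _ (by
    haveI : Nonempty ↥(Spec (CommRingCat.of k')) := inferInstanceAs (Nonempty (PrimeSpectrum k'))
    exact ⟨fun x => ⟨Classical.arbitrary _, Subsingleton.elim (α := PrimeSpectrum k) _ _⟩⟩)
  haveI : QuasiCompact f := quasiCompact_of_compactSpace _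
  haveI : QuasiCompact (pullback.fst R.hom f) := MorphismProperty.pullback_fst _ _ ‹QuasiCompact f›
  haveI : QuasiCompact (pullback.fst G.hom f ≫ i.left) := by
    rw [show pullback.fst G.hom f ≫ i.left = i'.left ≫ pullback.fst R.hom f from (pullback.lift_fst _ _ _).symm]
    infer_instance
  exact DescLib.quasiCompact_of_surjective_comp (pullback.fst G.hom f) i.left

end Groth.Agent.S15875
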