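import Groth.Statements.S15876
import Groth.Agent.PurInsLib.Points
import Groth.Agent.SubSpecLib.UnipCore
import Groth.Agent.AlbLib.AffineHom
import Groth.Agent.TorusLiftLib.Smooth

set_option linter.style.haveILetI false
set_option backward.isDefEq.respectTransparency false
set_option maxHeartbeats 1000000

set_option autoImplicit false
universe u
open CategoryTheory MonoidalCategory CartesianMonoidalCategory MonObj GrpObj AlgebraicGeometry
open AGF

namespace Groth.Agent.S15876
open CategoryTheory.Limits

section
attribute [-instance] CategoryTheory.Hom.commGroup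
open PurInsLib

theorem main (k k' : Type u) [Field k] [Field k']
    [Algebra k k'] [Module.Finite k k'] [IsPurelyInseparable k k']
    (G' : Over (Spec (CommRingCat.of k'))) [GrpObj G'] [LocallyOfFiniteType G'.hom]
    (R : Over (Spec (CommRingCat.of k))) [GrpObj R] (q : Red.bc (Spec.map (CommRingCat.ofHom (algebraMap k k'))) R ⟶ G') [IsMonHom q]
    (hR : WeilRes.IsWeilRes (Spec.map (CommRingCat.ofHom (algebraMap k k'))) G' R q)
    (K : Over (Spec (CommRingCat.of k'))) [GrpObj K] (iK : K ⟶ Red.bc (Spec.map (CommRingCat.ofHom (algebraMap k k'))) R) [IsMonHom iK]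
    (hK : AlgGrp.IsKernel iK q) :
    (IsAffine K.left ∧ CompactSpace ↥K.left ∧ (∀ s : ↥(Spec (CommRingCat.of k')), Red.HasNoSubtorus (AlgebraicClosure ((Spec (CommRingCat.of k')).residueField s)) (Red.geomFibre s K))) ∧
    (Smooth G'.hom → Smooth K.hom ∧ ConnectedSpace ↥K.left) := by
  obtain ⟨U, hU, hxU, -⟩ := exists_isAffineOpen_mem_and_subset (X := G'.left)
    (x := η[G'].left (IsLocalRing.closedPoint k')) (U := ⊤) trivial
  obtain ⟨σ, hσ⟩ : ∃ σ : CommRingCat.of k' ⟶ Γ(G'.left, U), Spec.map σ = hU.fromSpec ≫ G'.hom := Spec.map_surjective _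
  letI : Algebra k' Γ(G'.left, U) := σ.hom.toAlgebra
  let j : Spec (CommRingCat.of Γ(G'.left, U)) ⟶ G'.left := hU.fromSpec
  haveI : IsOpenImmersion j := inferInstanceAs (IsOpenImmersion hU.fromSpec)
  have hj : j ≫ G'.hom = Spec.map (CommRingCat.ofHom (algebraMap k' Γ(G'.left, U))) := hσ.symm
  have hrange : Set.range η[G'].left ⊆ Set.range j := by
    rintro _ ⟨z, rfl⟩
    rw [show z = IsLocalRing.closedPoint k' from @Subsingleton.elim (PrimeSpectrum k') _ _ _]
    show _ ∈ Set.range hU.fromSpec
    rw [hU.range_fromSpec]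
    exact hxU
  obtain ⟨e₀, he₀⟩ : ∃ e₀, Spec.map e₀ = IsOpenImmersion.lift j η[G'].left hrange := Spec.map_surjective _
  have hec : σ ≫ e₀ = 𝟙 (CommRingCat.of k') := by
    apply Spec.map_injective
    rw [Spec.map_comp, hσ, he₀, Spec.map_id, IsOpenImmersion.lift_fac_assoc]
    exact Over.w η[G']
  let e : Γ(G'.left, U) →ₐ[k'] k' := { e₀.hom with commutes' := fun r => congr($(hec).hom r) }
  have he : Spec.map (CommRingCat.ofHom e.toRingHom) ≫ j = η[G'].left := by
    show Spec.map e₀ ≫ j = _
    rw [he₀, IsOpenImmersion.lift_fac]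
  haveI : Algebra.FiniteType k' Γ(G'.left, U) := by
    haveI : LocallyOfFiniteType (Spec.map σ) := by rw [hσ]; infer_instance
    exact RingHom.finiteType_algebraMap.1 ((HasRingHomProperty.Spec_iff (P := @LocallyOfFiniteType)).1 ‹_›)
  obtain ⟨C, _, _, _, _, _, φu, hu, huniv⟩ := exists_univ (k := k) e
  obtain ⟨iso⟩ := exists_iso e j hj he hK hR hu huniv
  haveI : IsIso iso.inv.left := (Over.forget _).map_isIso iso.inv
  haveI : IsIso iso.hom.left := (Over.forget _).map_isIso iso.hom
  haveI : IsAffine (TT k' C).left := inferInstanceAs (IsAffine (Spec _))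
  haveI : IsAffine K.left := IsAffine.of_isIso iso.inv.left
  refine ⟨⟨inferInstance, inferInstance, fun s T _ i _ _ hT => ?_⟩, fun hsm => ?_⟩
  · let Ω := AlgebraicClosure ((Spec (CommRingCat.of k')).residueField s)
    haveI : IsAffine T.left := AlbLib.isAffine_of_isTorus hT
    haveI : Smooth T.hom := Groth.Agent.TorusLift.smooth_of_isTorus hT
    refine SubSpecLib.Unip.hasNoSubtorus_of_finite T ((Set.finite_singleton 1).subset ?_) T (𝟙 T) hT
    rintro y ⟨n, hn, hy⟩
    refine (cancel_mono i).1 ?_
    rw [MonObj.one_comp]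
    obtain ⟨τ, hτ⟩ : ∃ τ : CommRingCat.of k' ⟶ CommRingCat.of Ω, Spec.map τ = Red.geomPt s := Spec.map_surjective _
    letI : Algebra k' Ω := τ.hom.toAlgebra
    letI : Algebra k Ω := ((algebraMap k' Ω).comp (algebraMap k k')).toAlgebra
    haveI : IsScalarTower k k' Ω := IsScalarTower.of_algebraMap_eq' rfl
    let qs := Red.geomPt s
    let v : TT k' Ω ⟶ res qs (𝟙_ (Over (Spec (CommRingCat.of Ω)))) := Over.homMk (𝟙 _) (by
      show 𝟙 _ ≫ 𝟙 _ ≫ qs = Spec.map (CommRingCat.ofHom (algebraMap k' Ω))
      rw [Category.id_comp, Category.id_comp]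
      exact hτ.symm)
    let a : 𝟙_ (Over (Spec (CommRingCat.of Ω))) ⟶ Red.bc qs K := y ≫ i
    let g := v ≫ (adj qs (R := K) _).symm a
    have hgn : g ^ n = 1 := by
      have ha : a ^ n = 1 := by rw [← MonObj.pow_comp, hy, MonObj.one_comp]
      rw [← MonObj.comp_pow, ← map_pow, ha, map_one, MonObj.comp_one]
    have hn' : (n : k') ≠ 0 := fun h0 => hn (by
      have := congrArg τ.hom h0
      rwa [map_natCast, map_zero] at this)
    have hg1 : g = 1 := eq_one_of_pow Ω e j hj he hK hR hn' g hgn
    haveI : IsIso ((Over.forget _).map v) := inferInstanceAs (IsIso (𝟙 _))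
    haveI : IsIso v := isIso_of_reflects_iso v (Over.forget _)
    have h2 : (adj qs (R := K) _).symm a = 1 := by rw [← cancel_epi v, MonObj.comp_one]; exact hg1
    exact (adj qs (R := K) _).symm.injective (h2.trans (map_one _).symm)
  · haveI := hsm
    haveI : Algebra.Smooth k' Γ(G'.left, U) := by
      haveI : Smooth (Spec.map σ) := by rw [hσ]; infer_instance
      exact (RingHom.smooth_algebraMap).1 ((HasRingHomProperty.Spec_iff (P := @Smooth)).1 ‹_›)
    haveI := formallySmooth_univ hu huniv
    haveI : Algebra.FinitePresentation k' C := Algebra.FinitePresentation.of_finiteType.1 inferInstance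
    haveI : Algebra.Smooth k' C := ⟨inferInstance, inferInstance⟩
    refine ⟨?_, ?_⟩
    · rw [← Over.w iso.inv]
      haveI : Smooth (TT k' C).hom := by
        show Smooth (Spec.map _)
        rw [HasRingHomProperty.Spec_iff (P := @Smooth)]
        exact RingHom.smooth_algebraMap.2 ‹_›
      infer_instance
    · haveI : ConnectedSpace ↥((Over.forget (Spec (CommRingCat.of k'))).obj (TT k' C)) := connectedSpace_univ hu huniv
      exact (Scheme.homeoOfIso ((Over.forget _).mapIso iso)).surjective.connectedSpace (Scheme.homeoOfIso ((Over.forget _).mapIso iso)).continuous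

end

/-- Let k'/k be a finite purely inseparable extension, G' a k'-group locally of finite type, (R, q) a
Weil restriction of G' to k with a group structure making q : R_{k'} → G' a homomorphism, and K the
kernel of q. Then K is affine and quasi-compact with no non-trivial subtorus in its geometric fibre,
and when G' is smooth K is moreover smooth and connected. (The published statement says that K is
unipotent, and split unipotent when G' is smooth; unipotent k'-groups are affine of finite type with
no geometric subtori and split ones are in addition smooth and connected, which is what this row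
records, a weaker conclusion.) -/
theorem result (k k' : Type u) [Field k] [Field k']
    [Algebra k k'] [Module.Finite k k'] [IsPurelyInseparable k k']
    (G' : Over (Spec (CommRingCat.of k'))) [GrpObj G'] [LocallyOfFiniteType G'.hom]
    (R : Over (Spec (CommRingCat.of k))) [GrpObj R] (q : Red.bc (Spec.map (CommRingCat.ofHom (algebraMap k k'))) R ⟶ G') [IsMonHom q]
    (hR : WeilRes.IsWeilRes (Spec.map (CommRingCat.ofHom (algebraMap k k'))) G' R q)
    (K : Over (Spec (CommRingCat.of k'))) [GrpObj K] (iK : K ⟶ Red.bc (Spec.map (CommRingCat.ofHom (algebraMap k k'))) R) [IsMonHom iK]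
    (hK : AlgGrp.IsKernel iK q) :
    (IsAffine K.left ∧ CompactSpace ↥K.left ∧ (∀ s : ↥(Spec (CommRingCat.of k')), Red.HasNoSubtorus (AlgebraicClosure ((Spec (CommRingCat.of k')).residueField s)) (Red.geomFibre s K))) ∧
    (Smooth G'.hom → Smooth K.hom ∧ ConnectedSpace ↥K.left) := by
  exact main k k' G' R q hR K iK hK

end Groth.Agent.S15876
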