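import Groth.Statements.S5422
import Groth.Agent.UnipHopfLib.Primitive
import Groth.Agent.HopfFFLib.Normal.Correspondence
import Groth.Agent.HopfFFLib.Injective
import Groth.Agent.ComodLib.LinRed
-- import your own Groth.Agent.* helpers here

set_option autoImplicit false
universe u
open TensorProduct
open SGA3t2b

open scoped ComodLib TensorProduct

namespace Groth.Agent.S5422

/-- Parts (ii), (iii) and (iv) (Hopf-algebra form; 'unipotent' in the fixed-vector form: every non-zero
finite-dimensional representation has a non-zero fixed vector, which is equivalent to the published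
definition for affine algebraic groups): let k be a field and A the coordinate Hopf algebra of an
affine algebraic k-group E. (ii) If E is unipotent, so is every closed subgroup Spec B (B a Hopf
quotient of A, φ : A → B a surjective bialgebra map). (iii) If E is unipotent, so is every quotient
group Spec C (ψ : C → A an injective bialgebra map). (iv) If ψ : C → A is an injective bialgebra map
(quotient U = Spec C), J the Hopf ideal of A generated by the image of the augmentation ideal of C
(kernel N = Spec (A/J)), and both U and N are unipotent, then E is unipotent. -/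
theorem result (k : Type u) [Field k] (A : Type u) [CommRing A] [HopfAlgebra k A] [Algebra.FiniteType k A] :
    (∀ (B : Type u) [CommRing B] [HopfAlgebra k B] [Algebra.FiniteType k B] (φ : A →ₐc[k] B),
      Function.Surjective φ → HopfRep.IsUnipotent k A → HopfRep.IsUnipotent k B) ∧
    (∀ (C : Type u) [CommRing C] [HopfAlgebra k C] [Algebra.FiniteType k C] (ψ : C →ₐc[k] A),
      Function.Injective ψ → HopfRep.IsUnipotent k A → HopfRep.IsUnipotent k C) ∧
    (∀ (C : Type u) [CommRing C] [HopfAlgebra k C] [Algebra.FiniteType k C] (ψ : C →ₐc[k] A)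
      (J : Ideal A) [J.IsHopfIdeal k],
      Function.Injective ψ → J = Ideal.map (ψ : C →+* A) (RingHom.ker (Bialgebra.counitAlgHom k C)) →
      HopfRep.IsUnipotent k C → HopfRep.IsUnipotent k (A ⧸ J) → HopfRep.IsUnipotent k A) := by
  open Groth.Agent.UnipHopf in
  refine ⟨fun B _ _ _ φ hφ hU => isUnipotent_of_exhaustive fun b => ?_,
    fun C _ _ _ ψ hψ hU => isUnipotent_of_exhaustive fun c => ?_,
    fun C _ _ _ ψ J hJ hψ hJeq hC hN => ?_⟩
  · obtain ⟨a, rfl⟩ := hφ b
    exact (exhaustive_of_isUnipotent hU a).imp fun n hn => map_mem_K φ hn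
  · exact (exhaustive_of_isUnipotent hU (ψ c)).imp fun n hn => mem_K_of_injective ψ hψ hn
  · intro V _ _ _ hV hnt
    haveI := hV
    classical
    let q : A →ₐc[k] A ⧸ J := Bialgebra.Quotient.mkBialgHom (R := k) J
    obtain ⟨v, hv, hv0⟩ : ∃ v : V, LinearMap.lTensor V (q : A →ₗ[k] A ⧸ J)
        (HopfRep.Comod.coact (k := k) (A := A) v) = v ⊗ₜ[k] 1 ∧ v ≠ 0 := by
      let cN : HopfRep.Comod k (A ⧸ J) V := GLin.comodAlong q inferInstance
      obtain ⟨v, hv, hv0⟩ := Submodule.exists_mem_ne_zero_of_ne_bot (@hN V _ _ cN hV hnt)
      exact ⟨v, hv, hv0⟩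
    have hB := Groth.Agent.HopfFF.isSubHopf_range ψ
    have hle : J ≤ SGA3.augIdealSpan k A (ψ : C →ₐ[k] A).range := by
      rw [hJeq]
      refine Ideal.map_le_iff_le_comap.2 fun c hc => Ideal.subset_span ⟨⟨c, rfl⟩, ?_⟩
      rw [RingHom.mem_ker] at hc
      exact (CoalgHomClass.counit_comp_apply ψ c).trans hc
    -- the coefficients of `v` come from the quotient group
    have hcoeff : ∀ g : V →ₗ[k] k, ∃ n, ComodLib.coeff (A := A) g v ∈ K k A n := by
      intro g
      have hinv : ComodLib.coeff (A := A) g v ∈ Groth.Agent.HopfFF.coinv k J := by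
        show Algebra.TensorProduct.map (AlgHom.id k A) (Groth.Agent.HopfFF.qmap (k := k) J)
            (CoalgebraStruct.comul (R := k) (ComodLib.coeff (A := A) g v)) =
          ComodLib.coeff (A := A) g v ⊗ₜ[k] 1
        have hhom := LinearMap.congr_fun (ComodLib.isComodHom_restrictScalars (ComodLib.coeff (A := A) g)) v
        simp only [LinearMap.comp_apply, LinearMap.coe_restrictScalars] at hhom
        rw [show CoalgebraStruct.comul (R := k) (ComodLib.coeff (A := A) g v) = _ from hhom]
        have e : ∀ w : V ⊗[k] A, Algebra.TensorProduct.map (AlgHom.id k A) (Groth.Agent.HopfFF.qmap (k := k) J)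
            (LinearMap.rTensor A ((ComodLib.coeff (A := A) g).restrictScalars k) w) =
          LinearMap.rTensor (A ⧸ J) ((ComodLib.coeff (A := A) g).restrictScalars k)
            (LinearMap.lTensor V (q : A →ₗ[k] A ⧸ J) w) := fun w => by
          induction w using TensorProduct.induction_on with
          | zero => simp
          | add x y hx hy => simp only [map_add, hx, hy]
          | tmul x a => rfl
        rw [e, hv]
        rfl
      obtain ⟨c, hc⟩ := Groth.Agent.HopfFF.coinv_le_of_le_augSpan hB hle hinv
      obtain ⟨n, hn⟩ := exhaustive_of_isUnipotent hC c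
      exact ⟨n, hc ▸ map_mem_K ψ hn⟩
    let b := Module.finBasis k (Module.Dual k V)
    choose n hn using fun i => hcoeff (b i)
    have hsoc : v ∈ soc k A V (Finset.univ.sup n) := by
      refine mem_soc_of_coeff fun g => ?_
      rw [← b.sum_repr g]
      let L : Module.Dual k V →ₗ[k] A :=
        { toFun := fun g => ComodLib.coeff (A := A) g v
          map_add' := fun g g' => by rw [ComodLib.coeff_apply, ComodLib.coeff_apply, ComodLib.coeff_apply, ComodLib.sliceL_add]
          map_smul' := fun c g => by rw [ComodLib.coeff_apply, ComodLib.coeff_apply, ComodLib.sliceL_smul]; rfl }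
      show L (∑ i, (b.repr g) i • b i) ∈ _
      rw [map_sum]
      refine Submodule.sum_mem _ fun i _ => ?_
      rw [map_smul]
      exact Submodule.smul_mem _ _ (K_mono (Finset.le_sup (Finset.mem_univ i)) (hn i))
    exact exists_fixed_of_mem_soc hsoc hv0

end Groth.Agent.S5422
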