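import Groth.Statements.S1212
import Mathlib
import Groth.Agent.FlatInjLib.ProjUniv
-- import your own Groth.Agent.* helpers here

set_option autoImplicit false
universe u
open FlatMor

namespace Groth.Agent.S1212

open TensorProduct IsLocalRing in
/-- Let R be a local ring, S an R-algebra and N an S-module which is projective as an R-module, such
that the closed fibre ring of S is Noetherian and the closed fibre module of N is finite over it.
Then every prime q of S, over p in R, which is an associated prime (the annihilator of an element)
of the S-module N ⊗_R κ(p) satisfies q + 𝔪_R S ≠ S. -/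
theorem result {R S : Type u} [CommRing R] [IsLocalRing R] [CommRing S] [Algebra R S]
    (N : Type u) [AddCommGroup N] [Module S N] [Module R N] [IsScalarTower R S N] [Module.Projective R N]
    [IsNoetherianRing ((maximalIdeal R).Fiber S)]
    [Module.Finite ((maximalIdeal R).Fiber S) (FlatCA.fiberMod (maximalIdeal R) S N)]
    (p : Ideal R) [p.IsPrime] (q : Ideal S) [q.IsPrime] [q.LiesOver p]
    (hq : q ∈ FlatCA.ass S (N ⊗[R] p.ResidueField)) :
    q ⊔ (maximalIdeal R).map (algebraMap R S) ≠ ⊤ := by
  intro htop
  obtain ⟨s, hs, y, hy, hsy⟩ := Submodule.mem_sup.1 (htop.symm ▸ Submodule.mem_top : (1 : S) ∈ q ⊔ _)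
  obtain ⟨hqp, z, hz⟩ := hq
  have hnzd : s ∈ FlatCA.nzdFiber R S N := by
    intro x hx
    have hy0 : y • x = 0 := by
      obtain ⟨t, ht, w, hw⟩ := FibAssLib.exists_smul_eq_β (maximalIdeal R) x
      refine FibAssLib.eq_zero_of_smul (maximalIdeal R) ht ?_
      obtain ⟨n, rfl⟩ := Submodule.mkQ_surjective _ w
      rw [smul_comm, hw, ← map_smul, show y • (Submodule.mkQ _ n) = (0 : FibAssLib.quot (S := S) N (maximalIdeal R)) from ?_,
        map_zero]
      rw [← map_smul]
      exact (Submodule.Quotient.mk_eq_zero _).2 (Submodule.smul_mem_smul hy trivial)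
    have h1 : (s + y) • x = 0 := by rw [add_smul, hx, hy0, add_zero]
    rwa [hsy, one_smul] at h1
  have hsz : s • z = 0 := by
    rw [hz, Submodule.mem_annihilator_span_singleton] at hs
    exact hs
  have hinj := (LinearMap.lTensor_inj_iff_rTensor_inj p.ResidueField _).1
    (FlatInjLib.lsmul_univInj_of_projective hnzd p.ResidueField)
  have hz0 : z = 0 := by
    refine hinj ?_
    rw [map_zero, ← hsz]
    clear hsz hz
    induction z using TensorProduct.induction_on with
    | zero => simp
    | tmul a b => rfl
    | add a b ha hb => rw [map_add, ha, hb, smul_add]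
  refine hqp.ne_top ?_
  rw [hz, hz0, Submodule.span_zero_singleton, Submodule.annihilator_bot]

end Groth.Agent.S1212
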