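import Groth.Statements.S1221
import Mathlib
import Groth.Agent.FlatInjLib.AssFibre
-- import your own Groth.Agent.* helpers here

set_option autoImplicit false
universe u
open FlatMor

namespace Groth.Agent.S1221

/-- Let B be a finite type A-algebra, N a finite B-module and p a prime of A such that N is flat over A
at every prime of B over p. Let q' be a prime of B lying over a prime p' ⊆ p, such that the
extension of q' to the fibre ring over p' is an associated prime of the fibre module of N (a point
of the relative assassin). If q' is contained in some prime of B over p, then it is contained in a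
prime q over p whose extension to the fibre ring over p is an associated prime of the fibre module
over p. -/
theorem result {A B : Type u} [CommRing A] [CommRing B] [Algebra A B] [Algebra.FiniteType A B]
    (N : Type u) [AddCommGroup N] [Module B N] [Module A N] [IsScalarTower A B N] [Module.Finite B N] (p : Ideal A) [p.IsPrime]
    (hflat : ∀ (q : Ideal B) [q.IsPrime], q.LiesOver p → FlatCA.FlatAt A q N)
    (p' : Ideal A) [p'.IsPrime] (hp' : p' ≤ p) (q' : Ideal B) [q'.IsPrime] [q'.LiesOver p']
    (hass : FlatCA.fiberIdeal p' q' ∈ associatedPrimes (p'.Fiber B) (FlatCA.fiberMod p' B N))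
    (hspec : ∃ (t : Ideal B), t.IsPrime ∧ q' ≤ t ∧ t.LiesOver p) :
    ∃ (q : Ideal B) (_ : q.IsPrime), q' ≤ q ∧ q.LiesOver p ∧
      FlatCA.fiberIdeal p q ∈ associatedPrimes (p.Fiber B) (FlatCA.fiberMod p B N) := by
  classical
  by_contra hno
  push Not at hno
  obtain ⟨t, ht, hq't, htp⟩ := hspec
  haveI : IsNoetherianRing (p.Fiber B) := Algebra.FiniteType.isNoetherianRing p.ResidueField _
  haveI : Module.Finite (p.Fiber B) (FlatCA.fiberMod p B N) := by
    letI : Algebra B (p.Fiber B) := Algebra.TensorProduct.rightAlgebra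
    exact Module.Finite.base_change B (p.Fiber B) N
  haveI : IsNoetherianRing (p'.Fiber B) := Algebra.FiniteType.isNoetherianRing p'.ResidueField _
  let T := (associatedPrimes.finite (p.Fiber B) (FlatCA.fiberMod p B N)).toFinset
  obtain ⟨g, hgq, hg⟩ : ∃ g ∈ q', ∀ P ∈ T, g ∉ P.comap (FibAssLib.incl B p) := by
    have h1 : ¬ (q' : Set B) ⊆ ⋃ P ∈ (T : Set (Ideal (p.Fiber B))), ↑(P.comap (FibAssLib.incl B p)) := by
      intro hsub
      obtain ⟨P, hP, hqP⟩ := (Ideal.subset_union_prime (f := fun P : Ideal (p.Fiber B) => P.comap (FibAssLib.incl B p))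
        ⊤ ⊥ fun P hP _ _ => by
          haveI : P.IsPrime := IsAssociatedPrime.isPrime ((Set.Finite.mem_toFinset _).1 hP)
          exact Ideal.IsPrime.comap _).1 hsub
      have hP' := (Set.Finite.mem_toFinset _).1 hP
      haveI : P.IsPrime := IsAssociatedPrime.isPrime hP'
      haveI := FlatInjLib.comap_incl_liesOver p P
      exact hno _ inferInstance hqP this (by rw [FlatInjLib.fiberIdeal_comap]; exact hP')
    obtain ⟨f, hf, hf'⟩ := Set.not_subset.1 h1
    exact ⟨f, hf, fun P hP h => hf' (Set.mem_iUnion₂.2 ⟨P, hP, h⟩)⟩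
  haveI := ht
  haveI := htp
  -- an element of the fibre module over `p'` with annihilator `q'`
  obtain ⟨hprime, x, hx⟩ := isAssociatedPrime_iff.1 hass
  obtain ⟨r, hr, n, hn⟩ := FibAssLib.exists_smul_eq_toFiber p' x
  have hann : ∀ s : B, s • FlatCA.toFiberMod p' B N n = 0 ↔ FibAssLib.incl B p' s ∈ FlatCA.fiberIdeal p' q' := by
    intro s
    rw [hx, Submodule.mem_colon_singleton, Submodule.mem_bot, ← hn, smul_comm, ← FibAssLib.smul_eq]
    exact ⟨fun h => FibAssLib.eq_zero_of_smul p' hr h, fun h => by rw [h, smul_zero]⟩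
  have hcontr : ∀ s : B, FibAssLib.incl B p' s ∈ FlatCA.fiberIdeal p' q' → s ∈ q' := by
    intro s hs
    let Q := PrimeSpectrum.primesOverOrderIsoFiber A B p' ⟨q', inferInstance, inferInstance⟩
    have hQ : Q.asIdeal.comap (FibAssLib.incl B p') = q' := by
      have := PrimeSpectrum.coe_primesOverOrderIsoFiber_symm_apply p' Q
      rw [OrderIso.symm_apply_apply] at this
      exact this.symm
    have h1 : FlatCA.fiberIdeal p' q' ≤ Q.asIdeal := Ideal.map_le_iff_le_comap.2 hQ.ge
    rw [← hQ]
    exact h1 hs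
  have h1 : g • FlatCA.toFiberMod p' B N n = 0 := (hann g).2 (Ideal.mem_map_of_mem _ hgq)
  obtain ⟨c, hc, hcz⟩ := FibAssLib.exists_smul_eq_zero_of_β p'
    (z := (Submodule.Quotient.mk (g • n) : FibAssLib.quot (S := B) N p'))
    (by show FlatCA.toFiberMod p' B N (g • n) = 0; rw [map_smul]; exact h1)
  rw [← Submodule.Quotient.mk_smul, Submodule.Quotient.mk_eq_zero, ← algebraMap_smul B c, smul_comm] at hcz
  let n' := algebraMap A B c • n
  have hmk : ∀ w : N, w ∈ p'.map (algebraMap A B) • (⊤ : Submodule B N) ↔ w ⊗ₜ[A] (1 : A ⧸ p') = 0 := by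
    intro w
    rw [← FlatInjLib.mem_smul_top_iff_map, ← LinearMap.ker_tensorProductMk, LinearMap.mem_ker,
      ← LinearEquiv.map_eq_zero_iff (TensorProduct.comm A (A ⧸ p') N)]
    rfl
  obtain ⟨s, hst, hsz⟩ := FlatInjLib.exists_smul_eq_zero_of_smul_eq_zero p t (hflat t htp) g
    (fun P hP _ => hg P ((Set.Finite.mem_toFinset _).2 hP)) (A ⧸ p') (n' ⊗ₜ[A] 1) (by
      rw [TensorProduct.smul_tmul', ← hmk]
      exact hcz)
  rw [TensorProduct.smul_tmul', ← hmk] at hsz
  have h2 : algebraMap A B c • (s • FlatCA.toFiberMod p' B N n) = 0 := by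
    rw [← map_smul, ← map_smul, smul_comm]
    exact FibAssLib.toFiberMod_map_eq_zero p' hsz
  exact hst (hq't (hcontr s ((hann s).1 (FibAssLib.eq_zero_of_smul p' hc h2))))

end Groth.Agent.S1221
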