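import Groth.Statements.S8773
import Mathlib


-- import your own Groth.Agent.* helpers here

set_option autoImplicit false
universe u
open PureExt

namespace Groth.Agent.S8773

/-- If `L → M → N` is a universally exact sequence of `R`-modules (exact after tensoring with any
module) then the inclusion of the image of `M → N` into `N` is universally injective. -/
theorem result (R : Type u) [CommRing R]
    {L M N : Type u} [AddCommGroup L] [Module R L] [AddCommGroup M] [Module R M] [AddCommGroup N] [Module R N]
    (f : L →ₗ[R] M) (g : M →ₗ[R] N)
    (h : ∀ (Q : Type u) [AddCommGroup Q] [Module R Q], Function.Exact (f.rTensor Q) (g.rTensor Q)) :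
    CAlgX.UniversallyInjective R (LinearMap.range g).subtype := by
  intro Q _ _
  have hfg : ∀ l, g (f l) = 0 := fun l => by
    have := (h R).apply_apply_eq_zero (l ⊗ₜ[R] (1 : R))
    simpa using congrArg (TensorProduct.rid R N) this
  rw [injective_iff_map_eq_zero]
  intro z hz
  obtain ⟨y, rfl⟩ := LinearMap.rTensor_surjective Q g.surjective_rangeRestrict z
  rw [← LinearMap.rTensor_comp_apply] at hz
  obtain ⟨x, rfl⟩ := (h Q y).1 hz
  rw [← LinearMap.rTensor_comp_apply, show g.rangeRestrict ∘ₗ f = 0 from LinearMap.ext fun l => Subtype.ext (hfg l), LinearMap.rTensor_zero, LinearMap.zero_apply]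

end Groth.Agent.S8773
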