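import Groth.Statements.S8772
import Mathlib


-- import your own Groth.Agent.* helpers here

set_option autoImplicit false
universe u
open PureExt

namespace Groth.Agent.S8772

/-- For every `R`-module `M` the evaluation map `M → (M^∨)^∨` into the double character module is
universally injective; with the pure injectivity of character modules this gives a universally exact
embedding of `M` into a pure injective module. (The published statement asserts only the existence
of such an embedding; this row names the map.) -/
theorem result (R : Type u) [CommRing R] (M : Type u) [AddCommGroup M]
    [Module R M] : CAlgX.UniversallyInjective R (PureExt.charEval R M) := by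
  open scoped TensorProduct in
  classical
  intro Q _ _
  rw [← LinearMap.ker_eq_bot, Submodule.eq_bot_iff]
  intro z hz
  by_contra hz0
  obtain ⟨χ, hχ⟩ := CharacterModule.exists_character_apply_ne_zero_of_ne_zero hz0
  let f : Q →ₗ[R] CharacterModule M :=
    { toFun := fun q => (χ : CharacterModule (M ⊗[R] Q)).comp ((TensorProduct.mk R M Q).flip q).toAddMonoidHom
      map_add' := fun a b => by
        ext m
        exact (congrArg χ (TensorProduct.tmul_add m a b)).trans (map_add χ _ _)
      map_smul' := fun r a => by
        ext m
        exact congrArg χ (TensorProduct.smul_tmul r m a).symm }
  let B : CharacterModule (CharacterModule M) →ₗ[R] Q →ₗ[R] CharacterModule R :=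
    LinearMap.mk₂ R (fun Φ q => (Φ : CharacterModule (CharacterModule M)).comp
        ((LinearMap.toSpanSingleton R (CharacterModule M) (f q))).toAddMonoidHom)
      (fun a b q => by ext r; rfl)
      (fun c a q => by ext r; exact congrArg a (smul_smul c r (f q)))
      (fun a q q' => by
        ext r
        show a (r • f (q + q')) = a (r • f q) + a (r • f q')
        rw [map_add, smul_add, map_add])
      (fun c a q => by
        ext r
        show a (r • f (c • q)) = a ((c • r) • f q)
        rw [f.map_smul c q, smul_smul, smul_eq_mul, mul_comm])
  have key : ∀ y : M ⊗[R] Q, TensorProduct.lift B ((PureExt.charEval R M).rTensor Q y) (1 : R) = χ y := by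
    intro y
    induction y using TensorProduct.induction_on with
    | zero => rw [map_zero, map_zero, map_zero]; rfl
    | tmul m q =>
      simp only [LinearMap.rTensor_tmul, TensorProduct.lift.tmul, B, LinearMap.mk₂_apply]
      show (f ((q : Q))) ((1 : R) • m) = _ 
      rw [one_smul]; rfl
    | add a b ha hb => rw [map_add, map_add, map_add, ← ha, ← hb]; rfl
  apply hχ
  rw [← key z, LinearMap.mem_ker.1 hz, map_zero]
  rfl

end Groth.Agent.S8772
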