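import Groth.Statements.S8771
import Groth.Agent.S8772
import Mathlib


-- import your own Groth.Agent.* helpers here

set_option autoImplicit false
universe u
open PureExt

namespace Groth.Agent.S8771

/-- An `R`-module `I` is pure injective (every linear map `K → I` extends along every universally
injective `K → L`) if and only if the evaluation map `I → (I^∨)^∨` into its double character module
splits, i.e. admits a linear retraction. -/
theorem result (R : Type u) [CommRing R] (I : Type u) [AddCommGroup I]
    [Module R I] :
    (∀ ⦃K L : Type u⦄ [AddCommGroup K] [Module R K] [AddCommGroup L] [Module R L] (f : K →ₗ[R] L),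
        CAlgX.UniversallyInjective R f → ∀ φ : K →ₗ[R] I, ∃ ψ : L →ₗ[R] I, ψ ∘ₗ f = φ) ↔
    ∃ r : CharacterModule (CharacterModule I) →ₗ[R] I, r ∘ₗ PureExt.charEval R I = LinearMap.id := by
  open scoped TensorProduct in
  classical
  constructor
  · intro h
    obtain ⟨r, hr⟩ := h (PureExt.charEval R I) (Groth.Agent.S8772.result R I) LinearMap.id
    exact ⟨r, hr⟩
  · rintro ⟨r, hr⟩ K L _ _ _ _ f hf φ
    let χ0 : CharacterModule (K ⊗[R] CharacterModule K) :=
      TensorProduct.liftAddHom
        { toFun := fun k => { toFun := fun ξ => ξ k, map_zero' := rfl, map_add' := fun _ _ => rfl }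
          map_zero' := by ext ξ; exact map_zero ξ
          map_add' := fun a b => by ext ξ; exact map_add ξ a b }
        (fun c k ξ => by
          show ξ (c • k) = (c • ξ) k
          rfl)
    obtain ⟨ψ0, hψ0⟩ := CharacterModule.dual_surjective_of_injective (f.rTensor (CharacterModule K)) (hf _) χ0
    let σ : CharacterModule K →ₗ[R] CharacterModule L :=
      { toFun := fun ξ => AddMonoidHom.comp ψ0 ((TensorProduct.mk R L (CharacterModule K)).flip ξ).toAddMonoidHom
        map_add' := fun a b => by
          ext l
          exact (congrArg ψ0 (TensorProduct.tmul_add l a b)).trans (map_add ψ0 _ _)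
        map_smul' := fun c a => by
          ext l
          exact congrArg ψ0 (TensorProduct.smul_tmul c l a).symm }
    have hσ : ∀ ξ k, σ ξ (f k) = ξ k := fun ξ k => by
      show ψ0 (f k ⊗ₜ[R] ξ) = ξ k
      exact (DFunLike.congr_fun hψ0 (k ⊗ₜ[R] ξ)).trans (TensorProduct.liftAddHom_tmul _ _ k ξ)
    refine ⟨r ∘ₗ CharacterModule.dual (CharacterModule.dual φ) ∘ₗ CharacterModule.dual σ ∘ₗ PureExt.charEval R L, LinearMap.ext fun k => ?_⟩
    have key : CharacterModule.dual (CharacterModule.dual φ) (CharacterModule.dual σ (PureExt.charEval R L (f k))) =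
        PureExt.charEval R I (φ k) := by
      ext χ
      exact hσ (CharacterModule.dual φ χ) k
    simp only [LinearMap.comp_apply]
    rw [key]
    exact LinearMap.congr_fun hr (φ k)

end Groth.Agent.S8771
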