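import Groth.Statements.S1255
import Groth.Agent.PureCritLib.Cover
import Groth.Agent.DevissExLib.LocalFree
import Groth.Agent.S1221

set_option autoImplicit false
universe u
open FlatMor

namespace Groth.Agent.S1255

/-- Ring form, all schemes affine: let B be an A-algebra of finite type, N a finite B-module and p a
prime of A such that N is flat over A at every prime of B over p. Let (A, p) → (A', p') be an
elementary étale ring map and B' an étale B-algebra which is compatibly an A'-algebra of finite
type, with base change N' of N to B', such that N' is pure along the fibre over p' and every prime q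
of B over p whose extension to the fibre ring over p is an associated prime of the fibre module of N
is the contraction of a prime of B' lying over p'. Let B_{A'} and N_{A'} be the base changes of B
and N to A' (any models), with the induced map B_{A'} → B'. Then N is pure along the fibre over p if
and only if: for every prime t' ⊆ p' of A' and every prime Q of B_{A'} over t' whose extension to
the fibre ring over t' is an associated prime of the fibre module of N_{A'}, Q is the contraction of
a prime of B'. (The published statement asks in its covering hypothesis only that the image of Spec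
B' in Spec B contain the associated primes of the fibre module of N over p, without requiring the
covering primes of B' to lie over p'. That is not enough when Spec A' has a second point over p —
with Spec A' = Spec A ⊔ Spec A and Spec B' over the other copy the "only if" fails — so the
hypothesis is stated here in the stronger form: the covering primes of B' lie over p'.) -/
theorem result {A B : Type u} [CommRing A] [CommRing B] [Algebra A B] [Algebra.FiniteType A B]
    (N : Type u) [AddCommGroup N] [Module B N] [Module A N] [IsScalarTower A B N] [Module.Finite B N] (p : Ideal A) [p.IsPrime]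
    (hflat : ∀ (q : Ideal B) [q.IsPrime], q.LiesOver p → FlatCA.FlatAt A q N)
    (A' : Type u) [CommRing A'] [Algebra A A'] (p' : Ideal A') [p'.IsPrime] (het : FlatCA.IsEtaleNhd A A' p p')
    (B' : Type u) [CommRing B'] [Algebra B B'] [Algebra A' B'] [Algebra A B'] [IsScalarTower A B B'] [IsScalarTower A A' B']
    [Algebra.Etale B B'] [Algebra.FiniteType A' B']
    (N' : Type u) [AddCommGroup N'] [Module B' N'] [Module B N'] [IsScalarTower B B' N'] [Module A' N'] [IsScalarTower A' B' N']
    (f : N →ₗ[B] N') (hf : IsBaseChange B' f)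
    (hpure : FlatCA.IsPureAlong A' B' N' p')
    (hcov : ∀ (q : Ideal B) [q.IsPrime], q.LiesOver p →
      FlatCA.fiberIdeal p q ∈ associatedPrimes (p.Fiber B) (FlatCA.fiberMod p B N) →
      ∃ q' : Ideal B', q'.IsPrime ∧ q'.comap (algebraMap B B') = q ∧ q'.comap (algebraMap A' B') = p')
    (BA NA : Type u) [CommRing BA] [Algebra B BA] [Algebra A' BA] [Algebra A BA] [IsScalarTower A B BA] [IsScalarTower A A' BA]
    [Algebra.IsPushout A B A' BA] [Algebra BA B'] [IsScalarTower B BA B'] [IsScalarTower A' BA B']
    [AddCommGroup NA] [Module BA NA] [Module B NA] [IsScalarTower B BA NA] [Module A' NA] [IsScalarTower A' BA NA]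
    (fA : N →ₗ[B] NA) (hfA : IsBaseChange BA fA) :
    FlatCA.IsPureAlong A B N p ↔
      ∀ (t' : Ideal A') [t'.IsPrime], t' ≤ p' → ∀ (Q : Ideal BA) [Q.IsPrime], Q.LiesOver t' →
        FlatCA.fiberIdeal t' Q ∈ associatedPrimes (t'.Fiber BA) (FlatCA.fiberMod t' BA NA) →
        ∃ Q' : Ideal B', Q'.IsPrime ∧ Q'.comap (algebraMap BA B') = Q := by
  classical
  obtain ⟨hetA, hp'p, hbA⟩ := het
  haveI := hetA
  haveI := hp'p
  haveI : Algebra.IsPushout A A' B BA := Algebra.IsPushout.symm inferInstance
  haveI hpo : Algebra.IsPushout A B A' BA := inferInstance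
  haveI : Algebra.Etale B BA := RingHom.etale_algebraMap.1
    (RingHom.Etale.isStableUnderBaseChange A A' B BA (RingHom.etale_algebraMap.2 inferInstance))
  haveI : Algebra.Etale BA B' := Algebra.Etale.of_restrictScalars B BA B'
  haveI : Module.Flat BA B' := inferInstance
  haveI : Algebra.FiniteType A' BA :=
    Algebra.FiniteType.equiv (inferInstance : Algebra.FiniteType A' (TensorProduct A A' B)) (Algebra.IsPushout.equiv A A' B BA)
  haveI : Module.Finite BA NA := Module.Finite.equiv hfA.equiv
  letI : Module BA N' := Module.compHom N' (algebraMap BA B')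
  haveI : IsScalarTower BA B' N' := IsScalarTower.of_algebraMap_smul fun _ _ => rfl
  haveI : IsScalarTower B BA N' := IsScalarTower.of_algebraMap_smul fun b z => by
    rw [← algebraMap_smul B' (algebraMap B BA b) z, ← IsScalarTower.algebraMap_apply, algebraMap_smul]
  let g : NA →ₗ[BA] N' := hfA.lift f
  have hg : IsBaseChange B' g := IsBaseChange.of_comp hfA (by
    rw [IsBaseChange.lift_comp]
    exact hf)
  constructor
  · intro hpB t' _ ht' Q _ hQt hass
    haveI : Algebra.QuasiFiniteAt A p' := inferInstance
    have hpA : FlatCA.IsPureAlong A' BA NA p' :=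
      GeomPureLib.isPureAlong_baseChange_of_quasiFinite hfA hpB
    haveI := hQt
    obtain ⟨Q₁, hQ₁I, hQQ₁, hQ₁p⟩ := PureCritLib.exists_specialization NA p' hpA t' ht' Q hass
    haveI := hQ₁I
    -- flatness of the base change over the fibre
    have hflA : ∀ (q : Ideal BA) [q.IsPrime], q.LiesOver p' → FlatCA.FlatAt A' q NA := by
      intro q _ hqp
      haveI := hqp
      haveI : (q.comap (algebraMap B BA)).LiesOver p := ⟨by
        rw [Ideal.under_def, Ideal.comap_comap, ← IsScalarTower.algebraMap_eq, IsScalarTower.algebraMap_eq A A' BA,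
          ← Ideal.comap_comap, show q.comap (algebraMap A' BA) = p' from hqp.over.symm]
        exact Ideal.over_def p' p⟩
      haveI : q.LiesOver (q.comap (algebraMap B BA)) := ⟨rfl⟩
      exact DevissExLib.flatAt_of_flatAt N (q.comap (algebraMap B BA)) q (hflat (q.comap (algebraMap B BA)) inferInstance) fA hfA
    obtain ⟨Q₂, hQ₂I, hQQ₂, hQ₂p, hass₂⟩ :=
      Groth.Agent.S1221.result NA p' hflA t' ht' Q hass ⟨Q₁, hQ₁I, hQQ₁, hQ₁p⟩
    haveI := hQ₂I
    haveI := hQ₂p
    haveI : (Q₂.comap (algebraMap B BA)).LiesOver p := ⟨by
      rw [Ideal.under_def, Ideal.comap_comap, ← IsScalarTower.algebraMap_eq, IsScalarTower.algebraMap_eq A A' BA,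
        ← Ideal.comap_comap, show Q₂.comap (algebraMap A' BA) = p' from hQ₂p.over.symm]
      exact Ideal.over_def p' p⟩
    obtain ⟨q', hq'I, hq'q, hq'p⟩ := hcov (Q₂.comap (algebraMap B BA)) inferInstance
      ((GeomPureLib.assFibre_correspond p p' hfA).2 Q₂ inferInstance inferInstance hass₂)
    haveI := hq'I
    haveI : (q'.comap (algebraMap BA B')).LiesOver p' := ⟨by
      rw [Ideal.under_def, Ideal.comap_comap, ← IsScalarTower.algebraMap_eq]
      exact hq'p.symm⟩
    have hQ₂ : q'.comap (algebraMap BA B') = Q₂ := DevissExLib.eq_of_comap_eq (C₁ := B) p p' hbA.2 _ _ inferInstance inferInstance (by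
      rw [Ideal.comap_comap, ← IsScalarTower.algebraMap_eq]
      exact hq'q)
    haveI : q'.LiesOver Q₂ := ⟨hQ₂.symm⟩
    obtain ⟨Q', -, hQ'I, hQ'⟩ := Ideal.exists_ideal_le_liesOver_of_le (p := Q) (q := Q₂) q' hQQ₂
    exact ⟨Q', hQ'I, hQ'.over.symm⟩
  · intro hcond
    haveI : Module.Flat A (Localization.AtPrime p') :=
      Module.Flat.trans A A' (Localization.AtPrime p')
    refine (GeomPureLib.isPureAlong_of_flat_baseChange (p := p) (p' := p') hfA).1 ?_
    intro A'' B'' N'' _ _ _ _ _ _ _ _ _ _ _ _ _ _ g'' t' t _ _ P _ het'' himp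
    exact PureCritLib.noImp_of_cover NA N' g hg p' t' t (fun s _ _ hs Q _ hQs hQass => hcond s hs Q hQs hQass)
      (fun B₂ N₂ _ _ _ _ _ _ _ _ _ _ _ _ g₂ x _ => hpure A'' B₂ N₂ g₂ t' t x het'') B'' N'' g'' P himp

end Groth.Agent.S1255
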