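import Groth.Statements.S6928
import Groth.Agent.AInjLib.EssStage

set_option autoImplicit false
universe u
open FlatMor

set_option linter.style.haveILetI false

attribute [local instance] MvPolynomial.algebraMvPolynomial

open FlatLib

namespace Groth.Agent.S6928

set_option maxHeartbeats 1600000 in

/-- Let `R → S` be a ring map that is essentially of finite presentation, `J ⊆ S` an ideal and `M` a
finitely presented `S`-module. Let `(R_λ)` be a directed system of `R`-algebras with colimit `R'`,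
and `I_λ ⊆ R_λ` ideals with `I_λ R_μ ⊆ I_μ`, `I' = colim I_λ`, `S' = S ⊗_R R'`, `M' = M ⊗_R R'`. If
`M'_{𝔮'}` is flat over `R'` for every prime `𝔮' ⊇ I'S' + JS'`, then there is `λ` such that, with
`S_λ = S ⊗_R R_λ` and `M_λ = M ⊗_R R_λ`, `(M_λ)_𝔮` is flat over `R_λ` for every prime `𝔮 ⊇ I_λ S_λ +
J S_λ`. -/
theorem result {R S : Type u} [CommRing R] [CommRing S] [Algebra R S] (hS : FlatCA.EssFinitePresentation R S)
    {M : Type u} [AddCommGroup M] [Module S M] [Module R M] [IsScalarTower R S M] [Module.FinitePresentation S M]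
    {ι : Type u} [Preorder ι] (G : ι → Type u) [∀ i, CommRing (G i)] [∀ i, Algebra R (G i)]
    (g : ∀ i j, i ≤ j → G i →+* G j) (hgR : ∀ i j (h : i ≤ j), (g i j h).comp (algebraMap R (G i)) = algebraMap R (G j))
    (R' : Type u) [CommRing R'] [Algebra R R'] [∀ i, Algebra (G i) R'] [∀ i, IsScalarTower R (G i) R']
    (hcolim : FlatCA.IsDirectedColimitRing G g R')
    (Il : ∀ i, Ideal (G i)) (hIl : ∀ i j (h : i ≤ j), (Il i).map (g i j h) ≤ Il j)
    {S' : Type u} [CommRing S'] [Algebra S S'] [Algebra R' S'] [Algebra R S'] [IsScalarTower R S S']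
    [IsScalarTower R R' S'] [Algebra.IsPushout R S R' S']
    {M' : Type u} [AddCommGroup M'] [Module S' M'] [Module R' M'] [IsScalarTower R' S' M'] [Module S M']
    [IsScalarTower S S' M'] (f : M →ₗ[S] M') (hf : IsBaseChange S' f)
    (J : Ideal S)
    (h : ∀ (q' : Ideal S') [q'.IsPrime],
      (⨆ i, (Il i).map (algebraMap (G i) R')).map (algebraMap R' S') ⊔ J.map (algebraMap S S') ≤ q' →
        FlatCA.FlatAt R' q' M') :
    ∃ i : ι, ∀ (Si Mi : Type u) [CommRing Si] [Algebra S Si] [Algebra (G i) Si] [Algebra R Si] [IsScalarTower R S Si]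
      [IsScalarTower R (G i) Si] [Algebra.IsPushout R S (G i) Si] [AddCommGroup Mi] [Module Si Mi] [Module (G i) Mi]
      [IsScalarTower (G i) Si Mi] [Module S Mi] [IsScalarTower S Si Mi] (fi : M →ₗ[S] Mi), IsBaseChange Si fi →
      ∀ (q : Ideal Si) [q.IsPrime], (Il i).map (algebraMap (G i) Si) ⊔ J.map (algebraMap S Si) ≤ q → FlatCA.FlatAt (G i) q Mi := by
  classical
  obtain ⟨S₀, _, _, _, _, W₀, hfp, hloc⟩ := hS
  obtain ⟨σ, hσ, π, hπ, hker⟩ := Algebra.FinitePresentation.iff_quotient_mvPolynomial'.{_, _, u}.mp hfp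
  letI : Algebra (MvPolynomial σ R) S₀ := π.toRingHom.toAlgebra
  letI : Algebra (MvPolynomial σ R) S := ((algebraMap S₀ S).comp π.toRingHom).toAlgebra
  have hPS : ∀ p : MvPolynomial σ R, algebraMap (MvPolynomial σ R) S p = algebraMap S₀ S (π p) := fun _ => rfl
  haveI : IsScalarTower R (MvPolynomial σ R) S := IsScalarTower.of_algebraMap_eq fun r => by
    rw [hPS, π.commutes, ← IsScalarTower.algebraMap_apply]
  letI : Module S₀ M := Module.compHom M (algebraMap S₀ S)
  haveI : IsScalarTower S₀ S M := IsScalarTower.of_algebraMap_smul fun _ _ => rfl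
  obtain ⟨M₀, _, _, g₀, hM₀, hg₀⟩ := FlatLib.exists_model_of_isLocalization (C := S₀) (L := S) (M := M) W₀
  letI : Module (MvPolynomial σ R) M₀ := Module.compHom M₀ π.toRingHom
  haveI : IsScalarTower (MvPolynomial σ R) S₀ M₀ := IsScalarTower.of_algebraMap_smul fun _ _ => rfl
  letI : Module R M₀ := Module.compHom M₀ (algebraMap R (MvPolynomial σ R))
  haveI : IsScalarTower R (MvPolynomial σ R) M₀ := IsScalarTower.of_algebraMap_smul fun _ _ => rfl
  letI : Module (MvPolynomial σ R) M := Module.compHom M (algebraMap (MvPolynomial σ R) S)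
  haveI : IsScalarTower (MvPolynomial σ R) S M := IsScalarTower.of_algebraMap_smul fun _ _ => rfl
  haveI : Module.FinitePresentation (MvPolynomial σ R) S₀ :=
    Module.finitePresentation_of_surjective (Algebra.linearMap (MvPolynomial σ R) S₀) hπ hker
  haveI : Module.FinitePresentation (MvPolynomial σ R) M₀ :=
    Module.FinitePresentation.trans (MvPolynomial σ R) M₀ S₀
  let W : Submonoid (MvPolynomial σ R) := W₀.comap π.toRingHom.toMonoidHom
  have hW : ∀ w ∈ W, IsUnit (algebraMap (MvPolynomial σ R) S w) := fun w hw =>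
    IsLocalization.map_units S (⟨π w, hw⟩ : W₀)
  have hSfrac : ∀ s : S, ∃ p, ∃ w ∈ W, s * algebraMap (MvPolynomial σ R) S w = algebraMap (MvPolynomial σ R) S p := by
    intro s
    obtain ⟨⟨a, ⟨t, ht⟩⟩, hs⟩ := IsLocalization.surj W₀ s
    obtain ⟨p, rfl⟩ := hπ a
    obtain ⟨w, rfl⟩ := hπ t
    exact ⟨p, w, ht, hs⟩
  let f₀ : M₀ →ₗ[MvPolynomial σ R] M :=
    { toFun := g₀
      map_add' := g₀.map_add
      map_smul' := fun p m => g₀.map_smul (π p) m }
  haveI : IsLocalizedModule W f₀ := by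
    constructor
    · intro w
      have hu := IsLocalizedModule.map_units g₀ (⟨π w, w.2⟩ : W₀)
      rw [Module.End.isUnit_iff] at hu ⊢
      exact hu
    · intro y
      obtain ⟨⟨m, ⟨t, ht⟩⟩, hy⟩ := IsLocalizedModule.surj W₀ g₀ y
      obtain ⟨w, rfl⟩ := hπ t
      exact ⟨⟨m, ⟨w, ht⟩⟩, hy⟩
    · intro x y hxy
      obtain ⟨⟨t, ht⟩, hxy'⟩ := IsLocalizedModule.exists_of_eq (S := W₀) (f := g₀) hxy
      obtain ⟨w, rfl⟩ := hπ t
      exact ⟨⟨w, ht⟩, hxy'⟩
  haveI hdirO : IsDirectedOrder ι := hcolim.1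
  haveI : Nonempty ι := hcolim.2.1
  let gA : ∀ i j, i ≤ j → G i →ₐ[R] G j := fun i j hij =>
    { g i j hij with commutes' := fun r => RingHom.congr_fun (hgR i j hij) r }
  have hcA : FlatCA.IsDirectedColimitRing G (fun i j hij => (gA i j hij).toRingHom) R' := hcolim
  -- the comparison maps
  have comp : ∀ (A SA : Type u) [CommRing A] [CommRing SA] [Algebra R A] [Algebra S SA] [Algebra A SA] [Algebra R SA]
      [IsScalarTower R S SA] [IsScalarTower R A SA] [Algebra.IsPushout R S A SA],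
      ∃ χ : MvPolynomial σ A →+* SA, χ.comp (algebraMap A (MvPolynomial σ A)) = algebraMap A SA ∧
        χ.comp (algebraMap (MvPolynomial σ R) (MvPolynomial σ A)) =
          (algebraMap S SA).comp (algebraMap (MvPolynomial σ R) S) := by
    intro A SA _ _ _ _ _ _ _ _ _
    refine ⟨(MvPolynomial.aeval (R := A) fun s => algebraMap S SA (algebraMap (MvPolynomial σ R) S (MvPolynomial.X s))).toRingHom,
      RingHom.ext fun a => MvPolynomial.aeval_C _ a, MvPolynomial.ringHom_ext (fun r => ?_) fun s => ?_⟩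
    · show MvPolynomial.aeval _ (MvPolynomial.map (algebraMap R A) (MvPolynomial.C r)) = _
      rw [MvPolynomial.map_C, MvPolynomial.aeval_C]
      show _ = algebraMap S SA (algebraMap _ S (algebraMap R (MvPolynomial σ R) r))
      rw [← IsScalarTower.algebraMap_apply R (MvPolynomial σ R) S, ← IsScalarTower.algebraMap_apply,
        ← IsScalarTower.algebraMap_apply]
    · show MvPolynomial.aeval _ (MvPolynomial.map (algebraMap R A) (MvPolynomial.X s)) = _
      rw [MvPolynomial.map_X, MvPolynomial.aeval_X]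
      rfl
  -- flat points in terms of the model
  have key : ∀ (A SA MA : Type u) [CommRing A] [CommRing SA] [Algebra R A] [Algebra S SA] [Algebra A SA] [Algebra R SA]
      [IsScalarTower R S SA] [IsScalarTower R A SA] [Algebra.IsPushout R S A SA]
      [AddCommGroup MA] [Module SA MA] [Module A MA] [IsScalarTower A SA MA] [Module S MA] [IsScalarTower S SA MA]
      (fA : M →ₗ[S] MA), IsBaseChange SA fA →
      ∀ χ : MvPolynomial σ A →+* SA, χ.comp (algebraMap A (MvPolynomial σ A)) = algebraMap A SA →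
      χ.comp (algebraMap (MvPolynomial σ R) (MvPolynomial σ A)) =
        (algebraMap S SA).comp (algebraMap (MvPolynomial σ R) S) →
      ∀ (Q : Ideal SA) [Q.IsPrime], FlatCA.FlatAt A Q MA ↔
        PrimeSpectrum.comap χ ⟨Q, inferInstance⟩ ∈ flatLocus A (MvPolynomial σ A) (BC σ R M₀ A) := by
    intro A SA MA _ _ _ _ _ _ _ _ _ _ _ _ _ _ _ fA hfA χ hχA hχP Q _
    letI : Algebra (MvPolynomial σ A) SA := χ.toAlgebra
    letI : Algebra (MvPolynomial σ R) SA := ((algebraMap S SA).comp (algebraMap (MvPolynomial σ R) S)).toAlgebra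
    haveI : IsScalarTower (MvPolynomial σ R) S SA := IsScalarTower.of_algebraMap_eq fun _ => rfl
    haveI : IsScalarTower (MvPolynomial σ R) (MvPolynomial σ A) SA :=
      IsScalarTower.of_algebraMap_eq fun p => (RingHom.congr_fun hχP p).symm
    haveI : IsScalarTower A (MvPolynomial σ A) SA :=
      IsScalarTower.of_algebraMap_eq fun a => (RingHom.congr_fun hχA a).symm
    haveI : IsScalarTower R (MvPolynomial σ R) SA := IsScalarTower.of_algebraMap_eq fun r => by
      rw [IsScalarTower.algebraMap_apply (MvPolynomial σ R) S SA, ← IsScalarTower.algebraMap_apply R (MvPolynomial σ R) S,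
        ← IsScalarTower.algebraMap_apply]
    haveI : IsScalarTower R (MvPolynomial σ A) SA := IsScalarTower.of_algebraMap_eq fun r => by
      rw [IsScalarTower.algebraMap_apply R A (MvPolynomial σ A), ← IsScalarTower.algebraMap_apply A (MvPolynomial σ A) SA,
        ← IsScalarTower.algebraMap_apply]
    haveI : Algebra.IsPushout (MvPolynomial σ R) S (MvPolynomial σ A) SA :=
      (Algebra.IsPushout.comp_iff R (MvPolynomial σ R) A (MvPolynomial σ A)).mp inferInstance
    exact AInjLib.EssStage.flatAt_iff_model W hW hSfrac f₀ fA hfA Q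
  obtain ⟨χ, hχA, hχP⟩ := comp R' S'
  let K : Ideal S' := (⨆ i, (Il i).map (algebraMap (G i) R')).map (algebraMap R' S') ⊔ J.map (algebraMap S S')
  let V : Set (PrimeSpectrum (MvPolynomial σ R')) := PrimeSpectrum.comap χ '' PrimeSpectrum.zeroLocus K
  let U : ∀ i, Set (PrimeSpectrum (MvPolynomial σ (G i))) := fun i =>
    flatLocus (G i) (MvPolynomial σ (G i)) (BC σ R M₀ (G i))
  have hU : ∀ i, IsOpen (U i) := fun i => isOpen_flatLocus_fp
  have hmap : ∀ i j (hij : i ≤ j), (MvPolynomial.map (σ := σ) (algebraMap (G j) R')).comp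
      (MvPolynomial.map (g i j hij)) = MvPolynomial.map (algebraMap (G i) R') := fun i j hij => by
    rw [RichLib.FlatColimit.map_comp', hcolim.2.2.2.2.1 i j hij]
  have hstage : ∀ z ∈ V, ∃ i, PrimeSpectrum.comap (MvPolynomial.map (algebraMap (G i) R')) z ∈ U i := by
    rintro _ ⟨⟨Q, hQp⟩, hQ, rfl⟩
    have h1 := (key R' S' M' f hf χ hχA hχP Q).1 (h Q hQ)
    obtain ⟨R₂, _, _, _, θ, hθ⟩ := RichLib.FlatStage.exists_fp_stage σ M₀ R' _ h1
    obtain ⟨i, θ', hθ'⟩ := RichLib.FlatColimit.exists_algHom_stage gA hcA θ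
    refine ⟨i, RichLib.FlatColimit.mem_flatLocus_of_comap σ M₀ θ' ?_⟩
    rw [← PrimeSpectrum.comap_comp_apply (MvPolynomial.map θ'.toRingHom), RichLib.FlatColimit.map_comp', hθ']
    exact hθ
  choose! iz hiz using hstage
  have hVc : IsCompact V :=
    (PrimeSpectrum.isClosed_zeroLocus _).isCompact.image (PrimeSpectrum.continuous_comap χ)
  obtain ⟨T, hT⟩ := hVc.elim_finite_subcover
    (fun z => PrimeSpectrum.comap (MvPolynomial.map (algebraMap (G (iz z)) R')) ⁻¹' U (iz z))
    (fun z => (hU _).preimage (PrimeSpectrum.continuous_comap _))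
    fun z hz => Set.mem_iUnion.mpr ⟨z, hiz z hz⟩
  obtain ⟨j, hj⟩ := (T.image iz).exists_le
  have hVj : ∀ z ∈ V, PrimeSpectrum.comap (MvPolynomial.map (algebraMap (G j) R')) z ∈ U j := fun z hz => by
    obtain ⟨z', hz', hzU⟩ := Set.mem_iUnion₂.mp (hT hz)
    refine RichLib.FlatColimit.mem_flatLocus_of_comap σ M₀ (gA _ j (hj _ (Finset.mem_image_of_mem iz hz'))) ?_
    rw [← PrimeSpectrum.comap_comp_apply]
    erw [hmap]
    exact hzU
  obtain ⟨b, hb⟩ := (PrimeSpectrum.isClosed_iff_zeroLocus_ideal _).1 (hU j).isClosed_compl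
  let J₁ : Ideal (MvPolynomial σ R) := J.comap (algebraMap (MvPolynomial σ R) S)
  let a' : Ideal (MvPolynomial σ R') := b.map (MvPolynomial.map (algebraMap (G j) R')) ⊔
    (⨆ i, ((Il i).map (algebraMap (G i) R')).map MvPolynomial.C) ⊔
    J₁.map (algebraMap (MvPolynomial σ R) (MvPolynomial σ R'))
  -- the ideal meets the monoid
  have hmeet : ∃ w ∈ W, algebraMap (MvPolynomial σ R) (MvPolynomial σ R') w ∈ a' := by
    by_contra hno
    push Not at hno
    obtain ⟨P, hP, haP, hdisj⟩ := a'.exists_le_prime_disjoint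
      (W.map (algebraMap (MvPolynomial σ R) (MvPolynomial σ R')).toMonoidHom)
      (Set.disjoint_left.mpr fun x hx => by rintro ⟨w, hw, rfl⟩; exact hno w hw hx)
    haveI := hP
    let F := FractionRing (MvPolynomial σ R' ⧸ P)
    let ρ : MvPolynomial σ R' →+* F := (algebraMap (MvPolynomial σ R' ⧸ P) F).comp (Ideal.Quotient.mk P)
    have hρ : ∀ x, ρ x = 0 ↔ x ∈ P := fun x => by
      show algebraMap (MvPolynomial σ R' ⧸ P) F (Ideal.Quotient.mk P x) = 0 ↔ _
      rw [map_eq_zero_iff _ (IsFractionRing.injective _ _), Ideal.Quotient.eq_zero_iff_mem]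
    let ρ₀ : MvPolynomial σ R →+* F := ρ.comp (algebraMap (MvPolynomial σ R) (MvPolynomial σ R'))
    have hkerρ : RingHom.ker π.toRingHom ≤ RingHom.ker ρ₀ := fun p hp => by
      refine RingHom.mem_ker.2 ((hρ _).2 (haP (Ideal.mem_sup_right (Ideal.mem_map_of_mem _ ?_))))
      show algebraMap (MvPolynomial σ R) S p ∈ J
      rw [hPS, show π p = 0 from hp, map_zero]
      exact zero_mem _
    let ρ₁ : S₀ →+* F := π.toRingHom.liftOfSurjective hπ ⟨ρ₀, hkerρ⟩
    have hρ₁ : ∀ p, ρ₁ (π p) = ρ₀ p := fun p => RingHom.liftOfRightInverse_comp_apply _ _ _ _ p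
    have hunit : ∀ t : W₀, IsUnit (ρ₁ t) := by
      rintro ⟨t, ht⟩
      obtain ⟨w, rfl⟩ := hπ t
      rw [hρ₁]
      refine IsUnit.mk0 _ fun h0 => ?_
      exact Set.disjoint_left.mp hdisj ((hρ _).1 h0) ⟨w, ht, rfl⟩
    let ρS : S →+* F := IsLocalization.lift (M := W₀) hunit
    have hρS : ρS.comp (algebraMap (MvPolynomial σ R) S) = ρ₀ := RingHom.ext fun p => by
      rw [RingHom.comp_apply, hPS, IsLocalization.lift_eq, hρ₁]
    let ρR : R' →+* F := ρ.comp MvPolynomial.C
    letI : Algebra R F := (ρR.comp (algebraMap R R')).toAlgebra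
    have hρSR : ∀ r, ρS (algebraMap R S r) = algebraMap R F r := fun r => by
      rw [IsScalarTower.algebraMap_apply R (MvPolynomial σ R) S, ← RingHom.comp_apply ρS, hρS]
      show ρ (MvPolynomial.map (algebraMap R R') (MvPolynomial.C r)) = ρ (MvPolynomial.C (algebraMap R R' r))
      rw [MvPolynomial.map_C]
    let ΦS : S →ₐ[R] F := { ρS with commutes' := hρSR }
    let ΦR : R' →ₐ[R] F := { ρR with commutes' := fun _ => rfl }
    let Φ := Algebra.pushoutDesc S' ΦS ΦR fun _ _ => mul_comm _ _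
    have hΦS : ∀ s, Φ (algebraMap S S' s) = ρS s := fun s => Algebra.pushoutDesc_left _ ΦS ΦR _ s
    have hΦR : ∀ r, Φ (algebraMap R' S' r) = ρR r := fun r => Algebra.pushoutDesc_right _ ΦS ΦR _ r
    have hΦχ : Φ.toRingHom.comp χ = ρ := by
      refine MvPolynomial.ringHom_ext (fun r => ?_) fun s => ?_
      · show Φ (χ (algebraMap R' (MvPolynomial σ R') r)) = _
        rw [show χ (algebraMap R' (MvPolynomial σ R') r) = algebraMap R' S' r from RingHom.congr_fun hχA r, hΦR]
        rfl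
      · have e : (MvPolynomial.X s : MvPolynomial σ R') =
            algebraMap (MvPolynomial σ R) (MvPolynomial σ R') (MvPolynomial.X s) := (MvPolynomial.map_X _ s).symm
        show Φ (χ (MvPolynomial.X s)) = _
        rw [e, show χ (algebraMap (MvPolynomial σ R) (MvPolynomial σ R') (MvPolynomial.X s)) =
          algebraMap S S' (algebraMap (MvPolynomial σ R) S (MvPolynomial.X s)) from RingHom.congr_fun hχP _, hΦS,
          ← RingHom.comp_apply ρS, hρS]
        rfl
    let Q : Ideal S' := RingHom.ker Φ.toRingHom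
    haveI : Q.IsPrime := RingHom.ker_isPrime _
    have hKQ : K ≤ Q := by
      refine sup_le (Ideal.map_le_iff_le_comap.2 (iSup_le fun i x hx => ?_)) (Ideal.map_le_iff_le_comap.2 fun s hs => ?_)
      · show Φ (algebraMap R' S' x) = 0
        rw [hΦR]
        exact (hρ _).2 (haP (Ideal.mem_sup_left (Ideal.mem_sup_right
          (Ideal.mem_iSup_of_mem i (Ideal.mem_map_of_mem _ hx)))))
      · show Φ (algebraMap S S' s) = 0
        obtain ⟨p, w, hw, hsp⟩ := hSfrac s
        have hp0 : ρ₀ p = 0 := (hρ _).2 (haP (Ideal.mem_sup_right (Ideal.mem_map_of_mem _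
          (show algebraMap (MvPolynomial σ R) S p ∈ J by rw [← hsp]; exact J.mul_mem_right _ hs))))
        rw [← hρS, RingHom.comp_apply, ← hsp, map_mul] at hp0
        rw [hΦS]
        exact (IsUnit.mul_left_eq_zero ((hW w hw).map ρS)).1 hp0
    have hz : PrimeSpectrum.comap χ ⟨Q, inferInstance⟩ ∈ V := ⟨_, hKQ, rfl⟩
    have hzP : (PrimeSpectrum.comap χ ⟨Q, inferInstance⟩).asIdeal = P := by
      show (RingHom.ker Φ.toRingHom).comap χ = P
      rw [RingHom.comap_ker, hΦχ]
      exact Ideal.ext fun x => RingHom.mem_ker.trans (hρ x)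
    have hin := hVj _ hz
    have hout : PrimeSpectrum.comap (MvPolynomial.map (algebraMap (G j) R'))
        (PrimeSpectrum.comap χ ⟨Q, inferInstance⟩) ∈ (U j)ᶜ := by
      rw [hb, PrimeSpectrum.mem_zeroLocus]
      intro x hx
      show MvPolynomial.map (algebraMap (G j) R') x ∈ (PrimeSpectrum.comap χ ⟨Q, inferInstance⟩).asIdeal
      rw [hzP]
      exact haP (Ideal.mem_sup_left (Ideal.mem_sup_left (Ideal.mem_map_of_mem _ hx)))
    exact hout hin
  obtain ⟨w, hw, hwa⟩ := hmeet
  -- the ideals at the stages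
  let a : ∀ k, j ≤ k → Ideal (MvPolynomial σ (G k)) := fun k hk =>
    b.map (MvPolynomial.map (g j k hk)) ⊔ (Il k).map MvPolynomial.C ⊔
      J₁.map (algebraMap (MvPolynomial σ R) (MvPolynomial σ (G k)))
  have hP0 : ∀ i k (hik : i ≤ k) (p : MvPolynomial σ R), MvPolynomial.map (g i k hik)
      (algebraMap (MvPolynomial σ R) (MvPolynomial σ (G i)) p) = algebraMap _ (MvPolynomial σ (G k)) p := fun i k hik p => by
    show MvPolynomial.map (g i k hik) (MvPolynomial.map (algebraMap R (G i)) p) = MvPolynomial.map (algebraMap R (G k)) p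
    rw [MvPolynomial.map_map, hgR]
  have hP1 : ∀ k (p : MvPolynomial σ R), MvPolynomial.map (algebraMap (G k) R')
      (algebraMap (MvPolynomial σ R) (MvPolynomial σ (G k)) p) = algebraMap _ (MvPolynomial σ R') p := fun k p => by
    show MvPolynomial.map (algebraMap (G k) R') (MvPolynomial.map (algebraMap R (G k)) p) = MvPolynomial.map (algebraMap R R') p
    rw [MvPolynomial.map_map, ← IsScalarTower.algebraMap_eq]
  have hmono : ∀ k k' (hk : j ≤ k) (hkk : k ≤ k') (y : MvPolynomial σ (G k)), y ∈ a k hk →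
      MvPolynomial.map (g k k' hkk) y ∈ a k' (hk.trans hkk) := by
    intro k k' hk hkk
    show a k hk ≤ (a k' (hk.trans hkk)).comap (MvPolynomial.map (g k k' hkk))
    refine sup_le (sup_le (Ideal.map_le_iff_le_comap.2 fun x hx => ?_) (Ideal.map_le_iff_le_comap.2 fun x hx => ?_))
      (Ideal.map_le_iff_le_comap.2 fun x hx => ?_)
    · refine Ideal.mem_sup_left (Ideal.mem_sup_left ?_)
      rw [MvPolynomial.map_map, hcolim.2.2.2.1 j k k' hk hkk]
      exact Ideal.mem_map_of_mem _ hx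
    · refine Ideal.mem_sup_left (Ideal.mem_sup_right ?_)
      rw [MvPolynomial.map_C]
      exact Ideal.mem_map_of_mem _ (hIl k k' hkk (Ideal.mem_map_of_mem _ hx))
    · refine Ideal.mem_sup_right ?_
      rw [hP0]
      exact Ideal.mem_map_of_mem _ hx
  let T' : Ideal (MvPolynomial σ R') :=
    { carrier := {x | ∃ (k : ι) (hk : j ≤ k) (y : MvPolynomial σ (G k)),
        y ∈ a k hk ∧ MvPolynomial.map (algebraMap (G k) R') y = x}
      zero_mem' := ⟨j, le_rfl, 0, zero_mem _, map_zero _⟩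
      add_mem' := by
        rintro _ _ ⟨k₁, h₁, y₁, hy₁, rfl⟩ ⟨k₂, h₂, y₂, hy₂, rfl⟩
        obtain ⟨k, hk₁, hk₂⟩ := hcolim.1.directed k₁ k₂
        refine ⟨k, h₁.trans hk₁, _, add_mem (hmono _ _ h₁ hk₁ _ hy₁) (hmono _ _ h₂ hk₂ _ hy₂), ?_⟩
        rw [map_add, ← RingHom.comp_apply, hmap, ← RingHom.comp_apply, hmap]
      smul_mem' := by
        rintro c _ ⟨k₁, h₁, y₁, hy₁, rfl⟩
        obtain ⟨k, hk, c', rfl⟩ := RichLib.FlatColimit.exists_poly_lift hcolim σ k₁ c
        refine ⟨k, h₁.trans hk, _, Ideal.mul_mem_left _ c' (hmono _ _ h₁ hk _ hy₁), ?_⟩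
        rw [map_mul, ← RingHom.comp_apply, hmap]
        rfl }
  have haT : a' ≤ T' := by
    refine sup_le (sup_le (Ideal.map_le_iff_le_comap.2 fun x hx => ?_)
      (iSup_le fun i => ?_)) (Ideal.map_le_iff_le_comap.2 fun x hx => ?_)
    · refine ⟨j, le_rfl, MvPolynomial.map (g j j le_rfl) x, Ideal.mem_sup_left (Ideal.mem_sup_left (Ideal.mem_map_of_mem _ hx)), ?_⟩
      rw [← RingHom.comp_apply, hmap]
    · rw [Ideal.map_le_iff_le_comap, Ideal.map_le_iff_le_comap]
      intro x hx
      obtain ⟨k, hjk, hik⟩ := hcolim.1.directed j i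
      refine ⟨k, hjk, MvPolynomial.C (g i k hik x),
        Ideal.mem_sup_left (Ideal.mem_sup_right (Ideal.mem_map_of_mem _ (hIl i k hik (Ideal.mem_map_of_mem _ hx)))), ?_⟩
      rw [MvPolynomial.map_C]
      exact congrArg MvPolynomial.C (RingHom.congr_fun (hcolim.2.2.2.2.1 i k hik) x)
    · exact ⟨j, le_rfl, algebraMap (MvPolynomial σ R) _ x, Ideal.mem_sup_right (Ideal.mem_map_of_mem _ hx), hP1 j x⟩
  obtain ⟨k, hk, y, hy, hyw⟩ := haT hwa
  obtain ⟨k₂, hk₂, hkill⟩ := RichLib.FlatColimit.exists_poly_kill hcolim σ k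
    (y - algebraMap (MvPolynomial σ R) (MvPolynomial σ (G k)) w) (by rw [map_sub, hyw, hP1, sub_self])
  have hw₂ : algebraMap (MvPolynomial σ R) (MvPolynomial σ (G k₂)) w ∈ a k₂ (hk.trans hk₂) := by
    rw [map_sub, sub_eq_zero, hP0] at hkill
    rw [← hkill]
    exact hmono _ _ hk hk₂ _ hy
  refine ⟨k₂, ?_⟩
  intro Si Mi _ _ _ _ _ _ _ _ _ _ _ _ _ fi hfi q _ hq
  obtain ⟨χk, hχkA, hχkP⟩ := comp (G k₂) Si
  refine (key (G k₂) Si Mi fi hfi χk hχkA hχkP q).2 ?_
  refine RichLib.FlatColimit.mem_flatLocus_of_comap σ M₀ (gA j k₂ (hk.trans hk₂)) ?_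
  by_contra hnot
  have hmem : PrimeSpectrum.comap (MvPolynomial.map (g j k₂ (hk.trans hk₂))) (PrimeSpectrum.comap χk ⟨q, inferInstance⟩) ∈
      PrimeSpectrum.zeroLocus (b : Set (MvPolynomial σ (G j))) := by
    rw [← hb]
    exact hnot
  have hle : a k₂ (hk.trans hk₂) ≤ q.comap χk := by
    refine sup_le (sup_le (Ideal.map_le_iff_le_comap.2 fun x hx => hmem hx)
      (Ideal.map_le_iff_le_comap.2 fun x hx => ?_)) (Ideal.map_le_iff_le_comap.2 fun x hx => ?_)
    · show χk (algebraMap (G k₂) (MvPolynomial σ (G k₂)) x) ∈ q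
      rw [← RingHom.comp_apply, hχkA]
      exact hq (Ideal.mem_sup_left (Ideal.mem_map_of_mem _ hx))
    · show χk (algebraMap (MvPolynomial σ R) (MvPolynomial σ (G k₂)) x) ∈ q
      rw [← RingHom.comp_apply, hχkP]
      exact hq (Ideal.mem_sup_right (Ideal.mem_map_of_mem _ hx))
  have hwq := hle hw₂
  rw [Ideal.mem_comap, ← RingHom.comp_apply, hχkP] at hwq
  exact (inferInstance : q.IsPrime).ne_top (Ideal.eq_top_of_isUnit_mem _ hwq ((hW w hw).map (algebraMap S Si)))

end Groth.Agent.S6928
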