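import Groth.Statements.S18302
import Groth.Agent.EqLiftLib.UnionFace
import Mathlib.CategoryTheory.Limits.Shapes.Pullback.IsPullback.Basic
import Mathlib.CategoryTheory.Limits.Types.Pullbacks
import Mathlib.CategoryTheory.Limits.FunctorCategory.Basic

set_option autoImplicit false
universe u
open CategoryTheory MonoidalCategory CartesianMonoidalCategory MonObj AlgebraicGeometry Opposite
open Magnet

namespace Groth.Agent.S18302

/-- Let M be a finitely generated commutative group, X an S-scheme with an action of the diagonalizable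
group scheme D(M)_S, U an S-scheme affine over S with a D(M)_S-action and f : U → X an étale
equivariant morphism; let N be a submonoid (magnet) of M and Q a face of N. Assume that N is
finitely generated as a monoid, or that X is locally of finite presentation and separated over S.
Then the natural map U^N → X^N ×_{X^Q} U^Q is an isomorphism: the square of functors formed by f^N :
U^N → X^N, the face projections U^N → U^Q and X^N → X^Q, and f^Q : U^Q → X^Q is cartesian. (The
published alternative to finite generation is only 'X separated'; its argument passes through the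
directed-union description of X^N on T-points, which is established for X locally of finite
presentation and separated, and T affine, so finite presentation is assumed here in that case; X may
be an algebraic space in the source, here it is a scheme.) -/
theorem result (S : Scheme.{u}) (M : Type) [AddCommGroup M]
    [AddGroup.FG M] (X U : Over S) (aX : AlgGrp.Action (Red.DS S M) X) (aU : AlgGrp.Action (Red.DS S M) U)
    [IsAffineHom U.hom] (f : U ⟶ X) [Etale f.left]
    (hf : Magnet.MonAct.IsEquivariant (Magnet.MonAct.ofAction aU) (Magnet.MonAct.ofAction aX) f)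
    (N Q : AddSubmonoid M) (hQ : Magnet.IsFace N Q)
    (h : N.FG ∨ (IsSeparated X.hom ∧ LocallyOfFinitePresentation X.hom)) :
    IsPullback (Magnet.MonAct.eqvHom.postcomp (Magnet.subAct S M N) f hf)
      (Magnet.attrFace (Magnet.MonAct.ofAction aU) hQ) (Magnet.attrFace (Magnet.MonAct.ofAction aX) hQ)
      (Magnet.MonAct.eqvHom.postcomp (Magnet.subAct S M Q) f hf) := by
  let bX := Magnet.MonAct.ofAction aX
  let bU := Magnet.MonAct.ofAction aU
  have huniq : ∀ {T : Over S} {δ₁ δ₂ : AMonS S ↥N ⊗ T ⟶ U}, EqLiftLib.IsEqvFam bU δ₁ → EqLiftLib.IsEqvFam bU δ₂ →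
      δ₁ ≫ f = δ₂ ≫ f → (AMonS.faceMap S hQ ▷ T) ≫ δ₁ = (AMonS.faceMap S hQ ▷ T) ≫ δ₂ → δ₁ = δ₂ := by
    intro T δ₁ δ₂ h₁ h₂ hf' h0
    rcases h with hN | ⟨-, hlfp⟩
    · exact EqLiftLib.eq_of_face (f := f) hQ hN h₁ h₂ hf' h0
    · haveI := hlfp
      exact EqLiftLib.eq_of_face_of_lfp (f := f) hQ h₁ h₂ hf' h0
  have hex : ∀ {T : Over S} (γ : AMonS S ↥N ⊗ T ⟶ X) (u : AMonS S ↥Q ⊗ T ⟶ U), EqLiftLib.IsEqvFam bX γ →
      EqLiftLib.IsEqvFam bU u → u ≫ f = (AMonS.faceMap S hQ ▷ T) ≫ γ →
      ∃ δ : AMonS S ↥N ⊗ T ⟶ U, EqLiftLib.IsEqvFam bU δ ∧ δ ≫ f = γ ∧ (AMonS.faceMap S hQ ▷ T) ≫ δ = u := by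
    intro T γ u hγ hu hc
    rcases h with hN | ⟨-, hlfp⟩
    · exact EqLiftLib.exists_face hf hQ hN γ u hγ hu hc
    · haveI := hlfp
      exact EqLiftLib.exists_face_of_lfp hf hQ γ u hγ hu hc
  refine IsPullback.of_forall_isPullback_app fun T => ?_
  rw [CategoryTheory.Limits.Types.isPullback_iff]
  refine ⟨?_, ?_, ?_⟩
  · ext φ
    exact Subtype.ext (Category.assoc _ _ _).symm
  · rintro x y ⟨h1, h2⟩
    exact Subtype.ext (huniq x.2 y.2 (congrArg Subtype.val h1) (congrArg Subtype.val h2))
  · intro γ u hc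
    obtain ⟨δ, hδ, hδf, hδ0⟩ := hex γ.1 u.1 γ.2 u.2 (congrArg Subtype.val hc).symm
    exact ⟨⟨δ, hδ⟩, Subtype.ext hδf, Subtype.ext hδ0⟩

end Groth.Agent.S18302
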