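import Groth.Statements.S3638
import Groth.Agent.DualCxLib.Chart
import Groth.Agent.DualCxLib.DepthApps
import Groth.Agent.Dual3Lib.AmplitudeField
import Groth.Agent.DepthLib.SkStalk
import Groth.Agent.QCohLib.Support

set_option autoImplicit false
set_option backward.isDefEq.respectTransparency false
set_option backward.isDefEq.respectTransparency.types false
set_option backward.isDefEq.respectTransparency false
set_option backward.isDefEq.respectTransparency.types false
set_option maxHeartbeats 1000000
set_option synthInstance.maxHeartbeats 200000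
set_option linter.style.haveILetI false
universe u
open CategoryTheory CategoryTheory.Limits AlgebraicGeometry
attribute [local instance] HasDerivedCategory.standard
open Dual3

namespace Groth.Agent.S3638

/-- Let k be a field and X a scheme proper over k, with structure morphism f : X → Spec k and dim X = d.
Assume the derived direct image Rf_* exists and preserves quasi-coherence of cohomology sheaves
(both known results), so that it restricts to a functor D_QCoh(O_X) → D_QCoh(O_{Spec k}), and let a
: D_QCoh(O_{Spec k}) → D_QCoh(O_X) be a right adjoint of this restricted functor. Let O be an object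
of D_QCoh(O_{Spec k}) isomorphic to the structure sheaf placed in degree 0, and put ω_X =
H^{−d}(a(O)). Then ω_X is coherent; for every point x of X the stalk ω_{X,x} satisfies Serre's
condition (S_2) as a module over O_{X,x}; the support of ω_X (the set of points with nonzero stalk)
is the union of those irreducible components of X which have dimension d; and for every closed point
x and every integer i, some H^j(a(O)) with i ≤ j ≤ 0 has nonzero stalk at x if and only if i ≤ 0 and
depth O_{X,x} ≤ −i. (The published statement has further parts, which are not asserted here, and is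
phrased with the upper shriek f^!; for the proper morphism f, f^!O is the a(O) used here.) -/
theorem result (k : Type u) [Field k] (X : Scheme.{u}) (f : X ⟶ Spec (CommRingCat.of k)) [IsProper f] (d : ℕ) (hd : topologicalKrullDim X = (d : WithBot ℕ∞)) [DCoh.HasRpush f] (hf : DCoh.RpushPreservesQCoh f) (a : DCoh.DQCoh (Spec (CommRingCat.of k)) ⥤ DCoh.DQCoh X) (adj : DCoh.RpushQ f hf ⊣ a) (O : DCoh.DQCoh (Spec (CommRingCat.of k))) (hO : Nonempty (O.obj ≅ DCoh.inD (Spec (CommRingCat.of k)) (Coh.structureModule (Spec (CommRingCat.of k))))) : (Coh.IsCoh (DCoh.HD (a.obj O).obj (-(d : ℤ))) ∧ (∀ x : X, LocCoh.HasSk 2 (X.presheaf.stalk x) ((DCoh.HD (a.obj O).obj (-(d : ℤ))).presheaf.stalk x)) ∧ {x : X | Nontrivial ((DCoh.HD (a.obj O).obj (-(d : ℤ))).presheaf.stalk x)} = ⋃ Z ∈ {Z : Set X | Z ∈ irreducibleComponents X ∧ topologicalKrullDim ↥Z = (d : WithBot ℕ∞)}, Z) ∧ ∀ (x : X), IsClosed ({x} : Set X) → ∀ i : ℤ, ((∃ j : ℤ, i ≤ j ∧ j ≤ 0 ∧ Nontrivial ((DCoh.HD (a.obj O).obj j).presheaf.stalk x)) ↔ (LocCoh.depth (X.presheaf.stalk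 x) (X.presheaf.stalk x) : ℕ∞) ≤ ((-i).toNat : ℕ∞) ∧ i ≤ 0) := by
  obtain ⟨eO⟩ := hO
  haveI : IsLocallyNoetherian X := LocallyOfFiniteType.isLocallyNoetherian f
  haveI : CompactSpace X := QuasiCompact.compactSpace_of_compactSpace f
  haveI : AlgebraicGeometry.IsNoetherian X := ⟨⟩
  haveI : ∀ (U V : Scheme.{u}) (j : U ⟶ V) [IsOpenImmersion j],
      PreservesFiniteLimits (Scheme.Modules.restrictFunctor j) := fun U V j _ => inferInstance
  haveI : ∀ (B : CommRingCat.{u}), PreservesFiniteLimits (tilde.functor B) := fun B => inferInstance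
  obtain ⟨hdual, hamp, hdim⟩ := Dual3Lib.amplitude f hf a adj O eO d hd.le
  let K := (a.obj O).obj
  have hlt : ∀ i : ℤ, i < -(d : ℤ) → IsZero (DCoh.HD K i) := fun i hi => hamp i (Or.inl hi)
  have key : ∀ x : X, ∃ (U : X.Opens) (hU : IsAffineOpen U) (hx : x ∈ U) (ω : Dual.D Γ(X, U))
      (hω : Dual.IsDualizing Γ(X, U) ω), Nonempty ((DCoh.restrictD hU.fromSpec).obj K ≅
        (DCoh.tildeD Γ(X, U)).obj ω) := fun x => by
    obtain ⟨U, hU, hx⟩ := QCohLib.exists_affine_nhd x
    haveI := hU.isOpenImmersion_fromSpec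
    obtain ⟨ω, hω, he⟩ := hdual Γ(X, U) hU.fromSpec
    exact ⟨U, hU, hx, ω, hω, he⟩
  refine ⟨⟨Dual3Lib.isCohD_of_isDualizingSch hdual _, fun x => ?_, Set.ext fun x => ?_⟩, fun x hxc i => ?_⟩
  · haveI := DualCxLib.isQCoh_HD hdual (-(d : ℤ))
    obtain ⟨U, hU, hx, ω, hω, ⟨e⟩⟩ := key x
    haveI := IsLocallyNoetherian.component_noetherian ⟨U, hU⟩
    haveI := hω.finite_cohomology (-(d : ℤ))
    have hn' := DualCxLib.le_deg_of_isZero hU hω e (-(d : ℤ)) hlt
    letI := Module.compHom ((DCoh.HD K (-(d : ℤ))).presheaf.stalk x) (X.presheaf.germ U x hx).hom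
    letI : Algebra Γ(X, U) (X.presheaf.stalk x) := (X.presheaf.germ U x hx).hom.toAlgebra
    haveI : IsScalarTower Γ(X, U) (X.presheaf.stalk x) ((DCoh.HD K (-(d : ℤ))).presheaf.stalk x) :=
      IsScalarTower.of_algebraMap_smul fun _ _ => rfl
    haveI : IsLocalization.AtPrime (X.presheaf.stalk x) (hU.primeIdealOf ⟨x, hx⟩).asIdeal :=
      hU.isLocalization_stalk ⟨x, hx⟩
    haveI := FlatLib.isLocalizedModule_germLin (DCoh.HD K (-(d : ℤ))) hU hx
    let g := (FlatLib.germLin (DCoh.HD K (-(d : ℤ))) hx).comp (DualCxLib.sectionsHD hU e (-(d : ℤ))).toLinearMap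
    haveI : IsLocalizedModule (hU.primeIdealOf ⟨x, hx⟩).asIdeal.primeCompl g :=
      IsLocalizedModule.of_linearEquiv_right _ _ _
    exact DualCxLib.hasSk_two_of_localized (hU.primeIdealOf ⟨x, hx⟩).asIdeal g
      (DualCxLib.min_two_le_depth_lowest hω (-(d : ℤ)) hn')
  · obtain ⟨U, hU, hx, ω, hω, ⟨e⟩⟩ := key x
    haveI := hU.isOpenImmersion_fromSpec
    haveI := IsLocallyNoetherian.component_noetherian ⟨U, hU⟩
    obtain ⟨p, rfl⟩ : x ∈ Set.range hU.fromSpec := by rwa [hU.range_fromSpec]
    have hn' := DualCxLib.le_deg_of_isZero hU hω e (-(d : ℤ)) hlt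
    have hst : ∀ (q : PrimeSpectrum Γ(X, U)) (m : ℤ), Nontrivial ((DCoh.HD K m).presheaf.stalk (hU.fromSpec q)) ↔
        q ∈ Module.support Γ(X, U) (Dual.HD Γ(X, U) ω m) := fun q m =>
      (DualCxLib.stalkHD hU.fromSpec e q m).nontrivial_congr.trans
        ((not_subsingleton_iff_nontrivial.symm).trans (not_iff_comm.1 DualCxLib.notMem_support_iff_subsingleton))
    show Nontrivial _ ↔ _
    rw [hst p (-(d : ℤ)), DualCxLib.mem_support_lowest hω _ hn' p]
    simp only [Set.mem_iUnion, Set.mem_ofPred_eq]
    constructor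
    · rintro ⟨q, hqp, hq⟩
      let y := hU.fromSpec q
      have hy : hU.fromSpec p ∈ irreducibleComponent y :=
        (((PrimeSpectrum.le_iff_specializes q p).1 hqp).map hU.fromSpec.continuous).mem_closed
          isClosed_irreducibleComponent mem_irreducibleComponent
      refine ⟨irreducibleComponent y, ⟨irreducibleComponent_mem_irreducibleComponents y,
        le_antisymm ((topologicalKrullDim_subspace_le X _).trans hd.le) ?_⟩, hy⟩
      obtain ⟨l, m, hl, hm, hlen⟩ := DualCxLib.exists_series hω q
      rw [Dual3Lib.deg_maximal_eq_zero f hf a adj O eO hU hω e m hm, hq] at hlen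
      have hll : l.length = d := by omega
      let c : PrimeSpectrum (Γ(X, U) ⧸ q.asIdeal) → irreducibleComponent y := fun r =>
        ⟨hU.fromSpec (PrimeSpectrum.comap (Ideal.Quotient.mk q.asIdeal) r),
          (((PrimeSpectrum.le_iff_specializes q _).1 (show q ≤ PrimeSpectrum.comap (Ideal.Quotient.mk q.asIdeal) r
            from fun z hz => show Ideal.Quotient.mk q.asIdeal z ∈ r.asIdeal by
              rw [Ideal.Quotient.eq_zero_iff_mem.2 hz]; exact zero_mem _)).map hU.fromSpec.continuous).mem_closed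
            isClosed_irreducibleComponent mem_irreducibleComponent⟩
      have hc : Topology.IsInducing c :=
        (hU.fromSpec.isOpenEmbedding.isInducing.comp
          (PrimeSpectrum.isClosedEmbedding_comap_of_surjective _ (Ideal.Quotient.mk q.asIdeal)
            Ideal.Quotient.mk_surjective).isInducing).codRestrict _
      refine le_trans ?_ hc.topologicalKrullDim_le
      rw [PrimeSpectrum.topologicalKrullDim_eq_ringKrullDim, ringKrullDim_quotient, ← hll]
      exact Order.LTSeries.length_le_krullDim (LTSeries.mk l.length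
        (fun r => (⟨l r, fun z hz => (show l.head ≤ l r from l.head_le r) (hl.symm ▸ hz)⟩ :
          PrimeSpectrum.zeroLocus (q.asIdeal : Set Γ(X, U)))) fun r r' hrr => l.strictMono hrr)
    · rintro ⟨Z, ⟨hZ, hZd⟩, hpZ⟩
      have hZc := isClosed_of_mem_irreducibleComponents _ hZ
      obtain ⟨η, hη⟩ := QuasiSober.sober hZ.1 hZc
      have hηx : η ⤳ hU.fromSpec p := hη.specializes hpZ
      obtain ⟨q, rfl⟩ : ∃ q : PrimeSpectrum Γ(X, U), hU.fromSpec q = η := by
        show η ∈ Set.range hU.fromSpec
        rw [hU.range_fromSpec]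
        exact hηx.mem_open U.2 (by rw [← hU.range_fromSpec]; exact ⟨p, rfl⟩)
      let p' : PrimeSpectrum Γ(X, U) := p
      have hqp : @LE.le (PrimeSpectrum Γ(X, U)) _ q p' :=
        (PrimeSpectrum.le_iff_specializes q p').2 ((hU.fromSpec.isOpenEmbedding.isInducing.specializes_iff).1 hηx)
      obtain ⟨r, hr, hrq⟩ := Ideal.exists_minimalPrimes_le (show (⊥ : Ideal Γ(X, U)) ≤ q.asIdeal from bot_le)
      let r' : PrimeSpectrum Γ(X, U) := ⟨r, hr.1.1⟩
      have hrq' : r' ≤ q := hrq
      refine ⟨r', hrq'.trans hqp, le_antisymm ?_ (hn' r')⟩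
      by_contra hgt
      have hnt := (hst r' _).2 (DualCxLib.notMem_support_iff_subsingleton.not_right.2
        (not_subsingleton_iff_nontrivial.2 ((DualCxLib.nontrivial_HD_minimal_iff hω r' hr _).2 rfl)))
      have hsub : Z ⊆ {y : X | Nontrivial ((DCoh.HD K (DualCxLib.deg hω r')).presheaf.stalk y)} := by
        have hcl : IsClosed {y : X | Nontrivial ((DCoh.HD K (DualCxLib.deg hω r')).presheaf.stalk y)} := by
          rw [show {y : X | Nontrivial ((DCoh.HD K (DualCxLib.deg hω r')).presheaf.stalk y)} =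
            CohB1.support (DCoh.HD K (DualCxLib.deg hω r')) from Set.ext fun y => not_subsingleton_iff_nontrivial.symm]
          exact QCohLib.isClosed_support _ (Dual3Lib.isCohD_of_isDualizingSch hdual _).2
        rw [← hη.def]
        refine closure_minimal (Set.singleton_subset_iff.2 ?_) hcl
        exact Specializes.mem_closed (((PrimeSpectrum.le_iff_specializes r' q).1 hrq').map
          hU.fromSpec.continuous) hcl hnt
      have h0 : DualCxLib.deg hω r' ≤ 0 := by
        by_contra h
        exact not_subsingleton_iff_nontrivial.2 hnt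
          ((DCohRestrLib.isZero_iff_subsingleton_stalks _).1 (hamp _ (Or.inr (not_le.1 h))) _)
      have h1 := ((Topology.IsEmbedding.inclusion hsub).isInducing.topologicalKrullDim_le).trans
        (hdim (DualCxLib.deg hω r') (-DualCxLib.deg hω r').toNat (by omega))
      rw [hZd] at h1
      have h2 : d ≤ (-DualCxLib.deg hω r').toNat := by exact_mod_cast h1
      omega
  · obtain ⟨U, hU, hx, ω, hω, ⟨e⟩⟩ := key x
    haveI := hU.isOpenImmersion_fromSpec
    haveI := IsLocallyNoetherian.component_noetherian ⟨U, hU⟩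
    obtain ⟨p, rfl⟩ : x ∈ Set.range hU.fromSpec := by rwa [hU.range_fromSpec]
    have hpmax : p.asIdeal.IsMaximal := by
      refine (PrimeSpectrum.isClosed_singleton_iff_isMaximal p).1 ?_
      rw [← hU.fromSpec.isOpenEmbedding.injective.preimage_image (s := {p}), Set.image_singleton]
      exact hxc.preimage hU.fromSpec.continuous
    have hdeg := Dual3Lib.deg_maximal_eq_zero f hf a adj O eO hU hω e p hpmax
    let L := Localization.AtPrime p.asIdeal
    haveI : IsNoetherianRing L := IsLocalization.isNoetherianRing p.asIdeal.primeCompl _ inferInstance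
    haveI : IsNoetherianRing (X.presheaf.stalk (hU.fromSpec p)) :=
      isNoetherianRing_of_ringEquiv L (DualCxLib.stalkRing hU.fromSpec p).symm
    let ε : LocalizedModule p.asIdeal.primeCompl Γ(X, U) ≃ₗ[L] L :=
      (IsLocalizedModule.linearEquiv p.asIdeal.primeCompl (LocalizedModule.mkLinearMap p.asIdeal.primeCompl Γ(X, U))
        (Algebra.linearMap Γ(X, U) L)).extendScalarsOfIsLocalization p.asIdeal.primeCompl _
    have hst : ∀ j : ℤ, Nontrivial ((DCoh.HD K j).presheaf.stalk (hU.fromSpec p)) ↔
        ¬ DualCxLib.Van p.asIdeal (DualCxLib.Ext ω (ModuleCat.of Γ(X, U) Γ(X, U)) j) := fun j =>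
      (DualCxLib.stalkHD hU.fromSpec e p j).nontrivial_congr.trans
        (DualCxLib.nontrivial_localized_iff (DualCxLib.extHL ω j))
    have hdep : (∃ j : ℤ, i ≤ j ∧ j ≤ 0 ∧ Nontrivial ((DCoh.HD K j).presheaf.stalk (hU.fromSpec p))) ↔
        ¬ ((((-i).toNat + 1 : ℕ) : ℕ∞) ≤ LocCoh.depth L (LocalizedModule p.asIdeal.primeCompl Γ(X, U))) ∧ i ≤ 0 := by
      rw [DualCxLib.le_depth_iff_van hω p ((-i).toNat + 1) Γ(X, U), hdeg]
      simp only [hst, not_forall]
      constructor
      · rintro ⟨j, hij, hj0, hv⟩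
        refine ⟨⟨(-j).toNat, by omega, ?_⟩, by omega⟩
        rwa [show (0 : ℤ) - ((-j).toNat : ℕ) = j by omega]
      · rintro ⟨⟨δ, hδ, hv⟩, hi⟩
        exact ⟨_, by omega, by omega, hv⟩
    rw [DepthLib.depth_congr_ringEquiv (DualCxLib.stalkRing hU.fromSpec p), ← CommAlgDim.depth_congr ε]
    refine hdep.trans (and_congr_left fun _ => ?_)
    rw [not_le, Nat.cast_add, Nat.cast_one, ENat.lt_natCast_add_one_iff]

end Groth.Agent.S3638
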