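import Groth.Statements.S2090
import Mathlib.RingTheory.Ideal.AssociatedPrime.Localization
import Groth.Agent.DepthTwoLib.Reflexive


-- import your own Groth.Agent.* helpers here

set_option autoImplicit false
universe u
open CAlg

namespace Groth.Agent.S2090

/-- Let `R` be Noetherian and `φ : M → N` a map of `R`-modules with `M` finite. Suppose that for every
prime `𝔭` either `φ_𝔭` is bijective, or `M_𝔭` has depth at least two and `𝔭` is not an associated
prime of `N`. Then `φ` is bijective. -/
theorem result {R M N : Type u} [CommRing R] [IsNoetherianRing R] [AddCommGroup M]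
    [Module R M] [Module.Finite R M] [AddCommGroup N] [Module R N] (φ : M →ₗ[R] N)
    (h : ∀ (p : Ideal R) [p.IsPrime],
      Function.Bijective (LocalizedModule.map p.primeCompl φ) ∨
        (2 ≤ LocCoh.depth (Localization.AtPrime p) (LocalizedModule p.primeCompl M) ∧
          p ∉ associatedPrimes R N)) :
    Function.Bijective φ := by
  -- depth one at `p` and no nonzero element of the localization killed by the maximal ideal
  have hT : ∀ (p : Ideal R) [p.IsPrime] (P : Type u) [AddCommGroup P] [Module R P],
      p ∉ associatedPrimes R P → DepthTwoLib.T1 (IsLocalRing.maximalIdeal (Localization.AtPrime p)) (LocalizedModule p.primeCompl P) := by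
    intro p _ P _ _ hP x hx
    by_contra hx0
    refine hP ?_
    have : IsNoetherianRing (Localization.AtPrime p) := IsLocalization.isNoetherianRing p.primeCompl _ inferInstance
    have hmax : IsLocalRing.maximalIdeal (Localization.AtPrime p) ∈ associatedPrimes (Localization.AtPrime p) (LocalizedModule p.primeCompl P) := by
      refine isAssociatedPrime_iff.2 ⟨inferInstance, x, le_antisymm (fun a ha => ?_) (IsLocalRing.le_maximalIdeal fun htop => hx0 ?_)⟩
      · rw [Submodule.mem_colon_singleton, Submodule.mem_bot]; exact hx a ha
      · have h1 := Ideal.eq_top_iff_one _ |>.1 htop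
        rwa [Submodule.mem_colon_singleton, Submodule.mem_bot, one_smul] at h1
    rw [← Module.associatedPrimes.preimage_comap_associatedPrimes_eq_associatedPrimes_of_isLocalizedModule
        p.primeCompl (Localization.AtPrime p) (LocalizedModule.mkLinearMap p.primeCompl P)] at hmax
    have hu : (IsLocalRing.maximalIdeal (Localization.AtPrime p)).comap (algebraMap R (Localization.AtPrime p)) = p :=
      IsLocalization.AtPrime.under_maximalIdeal (Localization.AtPrime p) p
    exact hu ▸ hmax
  have hnT : ∀ (p : Ideal R) [p.IsPrime] (P : Type u) [AddCommGroup P] [Module R P],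
      p ∈ associatedPrimes R P → ¬ DepthTwoLib.T1 (IsLocalRing.maximalIdeal (Localization.AtPrime p)) (LocalizedModule p.primeCompl P) := by
    intro p hp P _ _ hP hT1
    obtain ⟨_, x, hx⟩ := isAssociatedPrime_iff.1 hP
    have h0 : LocalizedModule.mkLinearMap p.primeCompl P x = 0 := hT1 _ fun j hj => by
      rw [← Localization.AtPrime.map_eq_maximalIdeal] at hj
      induction hj using Submodule.span_induction with
      | mem y hy =>
        obtain ⟨r, hr, rfl⟩ := hy
        have hrx : r • x = 0 := by
          rw [hx] at hr
          rw [SetLike.mem_coe, Submodule.mem_colon_singleton, Submodule.mem_bot] at hr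
          exact hr
        rw [algebraMap_smul, ← map_smul, hrx, map_zero]
      | zero => exact zero_smul _ _
      | add a b _ _ ha hb => rw [add_smul, ha, hb, add_zero]
      | smul c a _ ha => rw [smul_eq_mul, mul_smul, ha, smul_zero]
    obtain ⟨s, hs⟩ := (IsLocalizedModule.eq_zero_iff p.primeCompl _).1 h0
    refine s.2 (hx.ge ?_)
    rw [Submodule.mem_colon_singleton, Submodule.mem_bot]
    exact hs
  have hinj : Function.Injective φ := by
    by_contra hcon
    have : Nontrivial (LinearMap.ker φ) := Submodule.nontrivial_iff_ne_bot.2 fun hb => hcon (LinearMap.ker_eq_bot.1 hb)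
    obtain ⟨p, hp⟩ := associatedPrimes.nonempty R (LinearMap.ker φ)
    have : p.IsPrime := IsAssociatedPrime.isPrime hp
    rcases h p with hb | ⟨hd, -⟩
    · refine hnT p _ hp ?_
      have hj := LocalizedModule.map_injective p.primeCompl (LinearMap.ker φ).subtype Subtype.val_injective
      have hex := LocalizedModule.map_exact p.primeCompl (LinearMap.ker φ).subtype φ (LinearMap.exact_subtype_ker_map φ)
      intro x _
      exact hj ((hb.1 ((hex.apply_apply_eq_zero x).trans (map_zero _).symm)).trans (map_zero _).symm)
    · refine hnT p M ((associatedPrimes.subset_of_injective (f := (LinearMap.ker φ).subtype) Subtype.val_injective) hp) ?_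
      have : IsNoetherianRing (Localization.AtPrime p) := IsLocalization.isNoetherianRing p.primeCompl _ inferInstance
      unfold LocCoh.depth at hd
      exact (DepthTwoLib.two_le_iff.1 hd).1
  refine ⟨hinj, ?_⟩
  by_contra hcon
  have : Nontrivial (N ⧸ LinearMap.range φ) := Submodule.Quotient.nontrivial_iff.2 fun ht => hcon (LinearMap.range_eq_top.1 ht)
  obtain ⟨p, hp⟩ := associatedPrimes.nonempty R (N ⧸ LinearMap.range φ)
  have : p.IsPrime := IsAssociatedPrime.isPrime hp
  have hq := LocalizedModule.map_surjective p.primeCompl (LinearMap.range φ).mkQ (Submodule.mkQ_surjective _)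
  have hex := LocalizedModule.map_exact p.primeCompl φ (LinearMap.range φ).mkQ (LinearMap.exact_map_mkQ_range φ)
  refine hnT p _ hp ?_
  rcases h p with hb | ⟨hd, hpN⟩
  · intro x _
    obtain ⟨y, rfl⟩ := hq x
    obtain ⟨z, rfl⟩ := hb.2 y
    exact hex.apply_apply_eq_zero z
  · have : IsNoetherianRing (Localization.AtPrime p) := IsLocalization.isNoetherianRing p.primeCompl _ inferInstance
    unfold LocCoh.depth at hd
    exact DepthTwoLib.T1.right (LocalizedModule.map p.primeCompl φ) (LocalizedModule.map p.primeCompl (LinearMap.range φ).mkQ)
      (LocalizedModule.map_injective p.primeCompl φ hinj) (fun y => hex y) hq (DepthTwoLib.two_le_iff.1 hd) (hT p N hpN)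

end Groth.Agent.S2090
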