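import Groth.Statements.S5154
import Groth.Agent.HartConnLib.Local
import Groth.Agent.CatLib.More
import Groth.Agent.CatLib.Flat

set_option autoImplicit false
universe u
open LocCoh

namespace Groth.Agent.S5154

/-- Let A be a Noetherian local ring which is catenary and such that depth A_p ≥ 2 for every prime p
with dim A_p ≥ 2. Then all irreducible components of Spec A have dimension dim A: for every minimal
prime p, dim A/p = dim A. -/
theorem result (A : Type u) [CommRing A] [IsLocalRing A] [IsNoetherianRing A] (hc : CAlg.IsCatenary A) (h : ∀ p : PrimeSpectrum A, (2 : ℕ∞) ≤ p.asIdeal.height → (2 : ℕ∞) ≤ LocCoh.depth (Localization.AtPrime p.asIdeal) (Localization.AtPrime p.asIdeal)) (p : Ideal A) (hp : p ∈ minimalPrimes A) : ringKrullDim (A ⧸ p) = ringKrullDim A := by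
  classical
  have hfin : (minimalPrimes A).Finite := minimalPrimes.finite_of_isNoetherianRing A
  let G := hfin.toFinset.filter fun g => ringKrullDim (A ⧸ g) = ringKrullDim A
  let H := hfin.toFinset.filter fun g => ringKrullDim (A ⧸ g) ≠ ringKrullDim A
  by_contra hpd
  have hpH : p ∈ H := Finset.mem_filter.2 ⟨hfin.mem_toFinset.2 hp, hpd⟩
  obtain ⟨g₀, hg₀, hg₀d⟩ := CatLib.exists_minimal_dim (R := A)
  have hgG : g₀ ∈ G := Finset.mem_filter.2 ⟨hfin.mem_toFinset.2 hg₀, hg₀d⟩
  let I := G.inf id
  let J := H.inf id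
  have hIJ : I * J ≤ nilradical A := by
    rw [nilradical, ← Ideal.sInf_minimalPrimes]
    refine le_sInf fun g hg => ?_
    by_cases hd : ringKrullDim (A ⧸ g) = ringKrullDim A
    · exact Ideal.mul_le_left.trans (Finset.inf_le (f := id) (Finset.mem_filter.2 ⟨hfin.mem_toFinset.2 hg, hd⟩))
    · exact Ideal.mul_le_right.trans (Finset.inf_le (f := id) (Finset.mem_filter.2 ⟨hfin.mem_toFinset.2 hg, hd⟩))
  have hne : I ⊔ J ≠ ⊤ := fun htop => (IsLocalRing.maximalIdeal.isMaximal A).ne_top (top_le_iff.1 (htop ▸ sup_le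
    ((Finset.inf_le (f := id) hgG).trans (IsLocalRing.le_maximalIdeal hg₀.1.1.ne_top))
    ((Finset.inf_le (f := id) hpH).trans (IsLocalRing.le_maximalIdeal hp.1.1.ne_top))))
  obtain ⟨P, hP⟩ := Ideal.nonempty_minimalPrimes hne
  haveI := hP.1.1
  obtain ⟨g, hg, hgP⟩ := (Ideal.IsPrime.inf_le' hP.1.1).1 (le_sup_left.trans hP.1.2)
  obtain ⟨q, hq, hqP⟩ := (Ideal.IsPrime.inf_le' hP.1.1).1 (le_sup_right.trans hP.1.2)
  obtain ⟨hgS, hgd⟩ := Finset.mem_filter.1 hg
  obtain ⟨hqS, hqd⟩ := Finset.mem_filter.1 hq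
  have hgmin := hfin.mem_toFinset.1 hgS
  have hqmin := hfin.mem_toFinset.1 hqS
  change g ≤ P at hgP
  change q ≤ P at hqP
  have hgP' : g ≠ P := fun he => hqd (by
    rw [le_antisymm (he ▸ hqP) (hgmin.2 ⟨hqmin.1.1, bot_le⟩ (he ▸ hqP))]; exact hgd)
  have hqP' : q ≠ P := fun he => hqd (by
    rw [← le_antisymm (he ▸ hgP) (hqmin.2 ⟨hgmin.1.1, bot_le⟩ (he ▸ hgP))]; exact hgd)
  have hht : ¬ (2 : ℕ∞) ≤ P.height := fun h2 => by
    haveI : IsNoetherianRing (Localization.AtPrime P) := IsLocalization.isNoetherianRing P.primeCompl _ inferInstance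
    let f := algebraMap A (Localization.AtPrime P)
    have hm : IsLocalRing.maximalIdeal (Localization.AtPrime P) ≤ (I.map f ⊔ J.map f).radical := by
      rw [Ideal.radical_eq_sInf]
      refine le_sInf fun r ⟨hr, hrp⟩ => ?_
      haveI := hrp
      have hrP : r.comap f ≤ P := fun a ha => by
        have := IsLocalRing.le_maximalIdeal hrp.ne_top ha
        rwa [IsLocalization.AtPrime.to_map_mem_maximal_iff (Localization.AtPrime P) P] at this
      have hle : P ≤ r.comap f := hP.2 ⟨inferInstance, by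
        rw [← Ideal.map_le_iff_le_comap, Ideal.map_sup]; exact hr⟩ hrP
      rw [← Localization.AtPrime.map_eq_maximalIdeal]
      exact Ideal.map_le_iff_le_comap.2 hle
    have hnil : I.map f * J.map f ≤ nilradical (Localization.AtPrime P) := by
      rw [← Ideal.map_mul]
      refine Ideal.map_le_iff_le_comap.2 fun a ha => ?_
      exact mem_nilradical.2 ((mem_nilradical.1 (hIJ ha)).map f)
    have key : ∀ (K x : Ideal A), x.IsPrime → K ≤ x → x ≤ P →
        IsLocalRing.maximalIdeal (Localization.AtPrime P) ≤ (K.map f).radical → x = P := by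
      intro K x hx hKx hxP hle
      haveI := hx
      have hd : Disjoint (P.primeCompl : Set A) (x : Set A) := Set.disjoint_left.2 fun a ha hax => ha (hxP hax)
      haveI := IsLocalization.isPrime_of_isPrime_disjoint P.primeCompl (Localization.AtPrime P) _ hx hd
      refine le_antisymm hxP ?_
      refine (IsLocalization.AtPrime.under_maximalIdeal (Localization.AtPrime P) P).symm.trans_le
        (le_trans ?_ (le_of_eq (IsLocalization.under_map_of_isPrime_disjoint P.primeCompl (Localization.AtPrime P) hx hd)))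
      exact Ideal.comap_mono (hle.trans ((Ideal.IsPrime.radical_le_iff inferInstance).2 (Ideal.map_mono hKx)))
    rcases HartConnLib.no_split (h ⟨P, inferInstance⟩ h2) hnil hm with h' | h'
    · exact hgP' (key I g hgmin.1.1 (Finset.inf_le (f := id) hg) hgP h')
    · exact hqP' (key J q hqmin.1.1 (Finset.inf_le (f := id) hq) hqP h')
  have hcov : ∀ (x : Ideal A) (hx : x.IsPrime), x ≤ P → x ≠ P →
      (⟨x, hx⟩ : PrimeSpectrum A) ⋖ ⟨P, inferInstance⟩ := by
    refine fun x hx hle hne => ⟨lt_of_le_of_ne hle fun he => hne (congrArg PrimeSpectrum.asIdeal he), fun z h1 h2 => hht ?_⟩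
    haveI := z.isPrime
    have a1 : (1 : ℕ∞) ≤ z.asIdeal.height := by
      haveI := hx
      exact le_trans le_add_self (Order.add_one_le_of_lt (Ideal.height_strict_mono_of_isPrime_of_isPrime
        (show x < z.asIdeal from h1)))
    calc (2 : ℕ∞) = 1 + 1 := by norm_num
      _ ≤ z.asIdeal.height + 1 := add_le_add_left a1 1
      _ ≤ P.height := Order.add_one_le_of_lt (Ideal.height_strict_mono_of_isPrime_of_isPrime
          (show z.asIdeal < P from h2))
  have hd := (CatLib.isCatenary_iff_dimFun A).1 hc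
  have e1 := hcov g hgmin.1.1 hgP hgP'
  have e2 := hcov q hqmin.1.1 hqP hqP'
  exact hqd (((hd _ _ e2.lt).2 e2).trans (((hd _ _ e1.lt).2 e1).symm.trans hgd))

end Groth.Agent.S5154
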