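import Groth.Statements.S1717
import Groth.Agent.S5154
import Groth.Agent.CommAlgDim.Depth
-- import your own Groth.Agent.* helpers here

set_option autoImplicit false
universe u
open LocCoh

namespace Groth.Agent.S1717

/-- The identification of a localization as a module. -/
noncomputable def localizationEquiv {T : Type u} [CommRing T] (P : Ideal T) [P.IsPrime] :
    LocalizedModule P.primeCompl T ≃ₗ[Localization.AtPrime P] Localization.AtPrime P :=
  (IsLocalizedModule.iso P.primeCompl (Algebra.linearMap T (Localization.AtPrime P)))
    |>.extendScalarsOfIsLocalization P.primeCompl (Localization.AtPrime P)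

/-- Let A be a catenary Noetherian local ring satisfying Serre's condition (S_2). Then Spec A is
equidimensional: for every minimal prime p of A the dimension of A/p equals the dimension of A. -/
theorem result (A : Type u) [CommRing A] [IsLocalRing A] [IsNoetherianRing A] (hc : CAlg.IsCatenary A) (hS : LocCoh.HasSk 2 A A) (p : Ideal A) (hp : p ∈ minimalPrimes A) : ringKrullDim (A ⧸ p) = ringKrullDim A := by
  refine Groth.Agent.S5154.result A hc (fun q hq => ?_) p hp
  have h := hS q.asIdeal
  rw [Module.supportDim_eq_of_equiv (localizationEquiv q.asIdeal), Module.supportDim_self_eq_ringKrullDim,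
    IsLocalization.AtPrime.ringKrullDim_eq_height q.asIdeal, min_eq_left ?_] at h
  · have h' := (CommAlgDim.le_depth_iff 2).1 (WithBot.coe_le_coe.1 h)
    exact (CommAlgDim.le_depth_iff 2).2 (h'.congr (localizationEquiv q.asIdeal))
  · exact WithBot.coe_le_coe.2 hq

end Groth.Agent.S1717
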