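import Mathlib

namespace Groth.Agent.QLinearLang

open Polynomial

universe u v

variable {k : Type u} [Field k] {p : ℕ} [Fact p.Prime] [CharP k p] {r : ℕ}

theorem one_lt_q (hr : 0 < r) : 1 < p ^ r := Nat.one_lt_pow hr.ne' (Fact.out : p.Prime).one_lt

/-- Artin–Schreier. -/
theorem artin [IsSepClosed k] (hr : 0 < r) (c : k) : ∃ d : k, d ^ p ^ r - d + c = 0 := by
  have hq := one_lt_q (p := p) hr
  set f : k[X] := X ^ p ^ r - X + C c with hf
  have hsep : f.Separable := by
    rw [Polynomial.separable_def]
    have : derivative f = -1 := by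
      simp [hf, derivative_X_pow, Nat.cast_pow, CharP.cast_eq_zero, zero_pow hr.ne']
    rw [this]; exact isCoprime_one_right.neg_right
  have hdeg : f.degree ≠ 0 := by
    have : f.natDegree = p ^ r := by
      rw [hf, sub_add, natDegree_sub_eq_left_of_natDegree_lt] <;> simp only [natDegree_X_pow]
      exact (natDegree_sub_C (p := (X : k[X]))).trans_lt (by rw [natDegree_X]; exact hq)
    intro h
    have := natDegree_eq_zero_iff_degree_le_zero.2 h.le
    omega
  obtain ⟨d, hd⟩ := IsSepClosed.exists_root f hdeg hsep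
  exact ⟨d, by simpa [hf] using hd⟩

/-- a non-zero root of an additive separable polynomial. -/
theorem root [IsSepClosed k] (hr : 0 < r) (m : ℕ) (b : Fin (m + 1) → k) (hb : b (Fin.last m) ≠ 0) :
    ∃ t : k, t ≠ 0 ∧ ∑ j, b j * t ^ p ^ (r * ((j : ℕ) + 1)) = t := by
  classical
  have hpp := (Fact.out : p.Prime)
  have he : ∀ j : Fin (m + 1), 1 < p ^ (r * ((j : ℕ) + 1)) := fun j => Nat.one_lt_pow (by positivity) hpp.one_lt
  set f : k[X] := ∑ j, C (b j) * X ^ p ^ (r * ((j : ℕ) + 1)) - X with hf
  have hder : derivative f = -1 := by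
    rw [hf, derivative_sub, derivative_sum, derivative_X, Finset.sum_eq_zero, zero_sub]
    intro j _
    have : 0 < r * ((j : ℕ) + 1) := by positivity
    simp [derivative_C_mul, derivative_X_pow, CharP.cast_eq_zero, Nat.cast_pow, zero_pow this.ne']
  have hsep : f.Separable := by rw [Polynomial.separable_def, hder]; exact isCoprime_one_right.neg_right
  have hcoef : f.coeff (p ^ (r * (m + 1))) = b (Fin.last m) := by
    rw [hf, coeff_sub, finset_sum_coeff, coeff_X, if_neg (by have := he (Fin.last m); simp at this; omega), sub_zero,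
      Finset.sum_eq_single (Fin.last m)]
    · simp
    · intro j _ hj
      rw [coeff_C_mul, coeff_X_pow, if_neg, mul_zero]
      intro h
      have h1 := Nat.pow_right_injective hpp.two_le h
      have : (j : ℕ) + 1 = m + 1 := (Nat.eq_of_mul_eq_mul_left hr h1).symm
      exact hj (Fin.ext (by simp; omega))
    · simp
  have hnd : 1 < f.natDegree := lt_of_lt_of_le (by have := he (Fin.last m); simpa using this) (le_natDegree_of_ne_zero (by rw [hcoef]; exact hb))
  have hf0 : f.coeff 0 = 0 := by
    rw [hf, coeff_sub, finset_sum_coeff, coeff_X_zero, sub_zero]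
    exact Finset.sum_eq_zero fun j _ => by rw [coeff_C_mul, coeff_X_pow, if_neg (by have := he j; omega), mul_zero]
  obtain ⟨g, hg⟩ := X_dvd_iff.2 hf0
  have hgdeg : g.degree ≠ 0 := by
    intro h
    have h1 := natDegree_eq_zero_iff_degree_le_zero.2 h.le
    have h2 : f.natDegree ≤ 1 := by
      rw [hg]; exact natDegree_mul_le.trans (by rw [natDegree_X, h1])
    omega
  obtain ⟨t, ht⟩ := IsSepClosed.exists_root g hgdeg (hsep.of_dvd ⟨X, by rw [hg, mul_comm]⟩)
  refine ⟨t, ?_, ?_⟩
  · rintro rfl
    have h1 : f.coeff 1 = 0 := by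
      rw [hg]
      have : g.coeff 0 = 0 := by rw [coeff_zero_eq_eval_zero]; exact ht
      simpa [mul_comm X g] using this
    rw [hf, coeff_sub, finset_sum_coeff, coeff_X_one, Finset.sum_eq_zero (fun j _ => by
      rw [coeff_C_mul, coeff_X_pow, if_neg (by have := he j; omega), mul_zero])] at h1
    simp at h1
  · have : f.eval t = 0 := by rw [hg, eval_mul, ht, mul_zero]
    rw [hf] at this
    simp only [eval_sub, eval_finsetSum, eval_mul, eval_C, eval_pow, eval_X] at this
    exact sub_eq_zero.1 this

variable {V : Type v} [AddCommGroup V] [Module k V] [FiniteDimensional k V] (φ : V →+ V)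
  (hφ : ∀ (c : k) (v : V), φ (c • v) = c ^ (p ^ r) • φ v)

include hφ in
theorem indep (hss : Submodule.span k (Set.range φ) = ⊤) {ι : Type*} [Fintype ι] (v : ι → V)
    (hv : LinearIndependent k v) : LinearIndependent k (φ ∘ v) := by
  classical
  let B := Module.Basis.extend hv.linearIndepOn_id
  haveI : Fintype ↥(hv.linearIndepOn_id.extend (Set.subset_univ (Set.range v))) := FiniteDimensional.fintypeBasisIndex B
  have hspan : Submodule.span k (Set.range (φ ∘ B)) = ⊤ := by
    rw [eq_top_iff, ← hss, Submodule.span_le]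
    rintro _ ⟨x, rfl⟩
    rw [← B.sum_repr x, map_sum]
    refine Submodule.sum_mem _ fun i _ => ?_
    rw [hφ]
    exact Submodule.smul_mem _ _ (Submodule.subset_span ⟨i, rfl⟩)
  have hB : LinearIndependent k (φ ∘ B) :=
    linearIndependent_of_top_le_span_of_card_eq_finrank hspan.ge (Module.finrank_eq_card_basis B).symm
  let e : ι → ↥(hv.linearIndepOn_id.extend (Set.subset_univ (Set.range v))) :=
    fun i => ⟨v i, hv.linearIndepOn_id.subset_extend _ ⟨i, rfl⟩⟩
  have : φ ∘ v = (φ ∘ B) ∘ e := funext fun i => by
    show φ (v i) = φ (B (e i))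
    rw [show B (e i) = v i from Module.Basis.extend_apply_self _ _]
  rw [this]
  exact hB.comp e fun i j h => hv.injective (congrArg Subtype.val h)

include hφ in
theorem exists_fixed [IsSepClosed k] (hr : 0 < r) (hss : Submodule.span k (Set.range φ) = ⊤) (v : V) (hv : v ≠ 0) :
    ∃ x : V, x ≠ 0 ∧ φ x = x := by
  classical
  -- the least dependency among the iterates
  have hex : ∃ m, ¬ LinearIndependent k (fun i : Fin (m + 1) => φ^[(i : ℕ)] v) := by
    refine ⟨Module.finrank k V, fun h => ?_⟩
    have := h.fintype_card_le_finrank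
    simp at this
  set m := Nat.find hex with hm
  have hdep := Nat.find_spec hex
  have hm0 : m ≠ 0 := by
    intro h
    rw [← hm, h] at hdep
    refine hdep (Fintype.linearIndependent_iff.2 fun g hg i => ?_)
    rw [Fin.sum_univ_one] at hg
    obtain rfl : i = 0 := Subsingleton.elim (α := Fin 1) _ _
    exact (smul_eq_zero.1 hg).resolve_right (by simpa using hv)
  obtain ⟨n, hn⟩ := Nat.exists_eq_succ_of_ne_zero hm0
  have hind : LinearIndependent k (fun i : Fin (n + 1) => φ^[(i : ℕ)] v) := not_not.1 (Nat.find_min hex (by omega : n < m))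
  rw [← hm, hn, linearIndependent_fin_succ'] at hdep
  have hlast : φ^[n + 1] v ∈ Submodule.span k (Set.range (fun i : Fin (n + 1) => φ^[(i : ℕ)] v)) := by
    by_contra h
    exact hdep ⟨hind, h⟩
  obtain ⟨a, ha⟩ := Submodule.mem_span_range_iff_exists_fun _ |>.1 hlast
  have ha0 : a 0 ≠ 0 := by
    intro h0
    have h1 := indep φ hφ hss _ hind
    rw [Fin.sum_univ_succ, h0, zero_smul, zero_add] at ha
    rw [Fintype.linearIndependent_iff] at h1
    have := h1 (fun i => Fin.lastCases (motive := fun _ => k) (-1) (fun j => a j.succ) i) (by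
      rw [Fin.sum_univ_castSucc]
      simp only [Fin.lastCases_castSucc, Fin.lastCases_last, Function.comp_apply, Fin.val_castSucc, Fin.val_last, neg_smul, one_smul]
      rw [← sub_eq_add_neg, sub_eq_zero, ← Function.iterate_succ_apply' φ n v, ← ha]
      exact Finset.sum_congr rfl fun i _ => by rw [← Function.iterate_succ_apply' φ _ v, Fin.val_succ]) (Fin.last n)
    simp at this
  -- coefficients as polynomials in the top coefficient
  set q := p ^ r with hq
  let c : k → ℕ → k := fun t i => Nat.rec (a 0 * t ^ q)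
    (fun i ci => (if h : i + 1 < n + 1 then a ⟨i + 1, h⟩ else 0) * t ^ q + ci ^ q) i
  let B : ℕ → ℕ → k := fun i j => if h : j ≤ i ∧ i < n + 1 then a ⟨i - j, by omega⟩ ^ p ^ (r * j) else 0
  have hc : ∀ t i, i < n + 1 → c t i = ∑ j ∈ Finset.range (i + 1), B i j * t ^ p ^ (r * (j + 1)) := by
    intro t i
    induction i with
    | zero =>
      intro _
      rw [Finset.sum_range_one]
      simp only [c, B, Nat.le_refl, Nat.succ_pos', and_self, dite_true, Nat.sub_zero, Nat.mul_zero, pow_zero, pow_one,
        Nat.zero_add, Nat.mul_one, hq]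
      rfl
    | succ i ih =>
      intro hi
      show (if h : i + 1 < n + 1 then a ⟨i + 1, h⟩ else 0) * t ^ q + c t i ^ q = _
      rw [ih (by omega), dif_pos hi, Finset.sum_range_succ' _ (i + 1), add_comm]
      congr 1
      · rw [hq, sum_pow_char_pow]
        refine Finset.sum_congr rfl fun j hj => ?_
        rw [Finset.mem_range] at hj
        simp only [B]
        rw [dif_pos ⟨by omega, by omega⟩, dif_pos ⟨by omega, hi⟩, mul_pow, ← pow_mul, ← pow_mul, ← pow_add, ← pow_add]
        have e1 : (⟨i + 1 - (j + 1), by omega⟩ : Fin (n + 1)) = ⟨i - j, by omega⟩ := Fin.ext (by show i + 1 - (j + 1) = i - j; omega)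
        rw [e1, show r * j + r = r * (j + 1) by ring, show r * (j + 1) + r = r * (j + 1 + 1) by ring]
      · simp only [B]
        rw [dif_pos ⟨Nat.zero_le _, hi⟩]
        simp [hq]
  obtain ⟨t, ht0, ht⟩ := root (p := p) hr n (fun j => B n j) (by
    simp only [B, Fin.val_last]
    rw [dif_pos ⟨le_rfl, Nat.lt_succ_self n⟩]
    exact pow_ne_zero _ (by simpa using ha0))
  have hct : c t n = t := by
    rw [hc t n (Nat.lt_succ_self n), ← Fin.sum_univ_eq_sum_range (fun j => B n j * t ^ p ^ (r * (j + 1)))]
    exact ht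
  refine ⟨∑ i : Fin (n + 1), c t i • φ^[(i : ℕ)] v, fun h => ?_, ?_⟩
  · have := Fintype.linearIndependent_iff.1 hind _ h (Fin.last n)
    rw [Fin.val_last, hct] at this
    exact ht0 this
  · rw [map_sum]
    simp only [hφ, ← Function.iterate_succ_apply' φ]
    rw [Fin.sum_univ_castSucc]
    simp only [Fin.val_last, Fin.val_castSucc, Nat.succ_eq_add_one]
    rw [hct, ← ha, Finset.smul_sum, Fin.sum_univ_succ (fun i : Fin (n + 1) => t ^ q • a i • φ^[(i : ℕ)] v),
      Fin.sum_univ_succ (fun i : Fin (n + 1) => c t i • φ^[(i : ℕ)] v)]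
    have hsucc : ∀ i : Fin n, c t (i.succ : Fin (n + 1)) = a i.succ * t ^ q + c t i ^ q := fun i => by
      show (if h : (i : ℕ) + 1 < n + 1 then a ⟨(i : ℕ) + 1, h⟩ else 0) * t ^ q + c t i ^ q = _
      rw [dif_pos (by omega)]; rfl
    simp only [hsucc]
    simp only [Fin.val_succ, Fin.val_zero, add_smul, mul_smul, Finset.sum_add_distrib]
    simp only [show c t 0 = a 0 * t ^ q from rfl, smul_smul]
    simp only [mul_comm (t ^ q)]
    abel

include hφ in
theorem span_fixed [IsSepClosed k] (hr : 0 < r) (hss : Submodule.span k (Set.range φ) = ⊤) :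
    Submodule.span k {x : V | φ x = x} = ⊤ := by
  classical
  set W := Submodule.span k {x : V | φ x = x} with hW
  have hmem : ∀ w ∈ W, φ w ∈ W ∧ ∃ y ∈ W, φ y - y = -w := by
    intro w hw
    refine ⟨?_, ?_⟩
    · induction hw using Submodule.span_induction with
      | mem x hx => rw [show φ x = x from hx]; exact Submodule.subset_span hx
      | zero => simp
      | add x y _ _ hx hy => rw [map_add]; exact W.add_mem hx hy
      | smul c x _ hx => rw [hφ]; exact W.smul_mem _ hx
    · suffices H : ∀ c : k, ∃ y ∈ W, φ y - y = -(c • w) by simpa using H 1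
      induction hw using Submodule.span_induction with
      | mem x hx =>
        intro c
        obtain ⟨d, hd⟩ := artin (p := p) hr c
        refine ⟨d • x, W.smul_mem _ (Submodule.subset_span hx), ?_⟩
        rw [hφ, show φ x = x from hx, ← sub_smul, show d ^ p ^ r - d = -c by linear_combination hd, neg_smul]
      | zero => exact fun c => ⟨0, W.zero_mem, by simp⟩
      | add x y _ _ hx hy =>
        intro c
        obtain ⟨a, ha, ha'⟩ := hx c
        obtain ⟨b, hb, hb'⟩ := hy c
        exact ⟨a + b, W.add_mem ha hb, by rw [map_add, smul_add]; linear_combination (norm := abel) ha' + hb'⟩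
      | smul e x _ hx => intro c; simpa [smul_smul] using hx (c * e)
  by_contra hne
  let φ' : (V ⧸ W) →+ (V ⧸ W) := QuotientAddGroup.map W.toAddSubgroup W.toAddSubgroup φ fun x hx => (hmem x hx).1
  have hφ' : ∀ (c : k) (x : V ⧸ W), φ' (c • x) = c ^ p ^ r • φ' x := fun c x => by
    induction x using Submodule.Quotient.induction_on with
    | _ x => show Submodule.Quotient.mk (φ (c • x)) = c ^ p ^ r • (Submodule.Quotient.mk (φ x) : V ⧸ W); rw [hφ]; rfl
  have hss' : Submodule.span k (Set.range φ') = ⊤ := by
    rw [eq_top_iff]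
    rintro x -
    induction x using Submodule.Quotient.induction_on with
    | _ x =>
      have hx : x ∈ Submodule.span k (Set.range φ) := hss ▸ Submodule.mem_top
      induction hx using Submodule.span_induction with
      | mem y hy => obtain ⟨z, rfl⟩ := hy; exact Submodule.subset_span ⟨Submodule.Quotient.mk z, rfl⟩
      | zero => exact Submodule.zero_mem _
      | add x y _ _ hx hy => exact Submodule.add_mem _ hx hy
      | smul c x _ hx => exact Submodule.smul_mem _ c hx
  haveI : Nontrivial (V ⧸ W) := Submodule.Quotient.nontrivial_iff.2 hne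
  obtain ⟨v₀, hv₀⟩ := exists_ne (0 : V ⧸ W)
  obtain ⟨x, hx0, hx⟩ := exists_fixed φ' hφ' hr hss' v₀ hv₀
  induction x using Submodule.Quotient.induction_on with
  | _ y =>
    have hy : φ y - y ∈ W := (Submodule.Quotient.eq W).1 hx
    obtain ⟨z, hz, hz'⟩ := (hmem _ hy).2
    apply hx0
    rw [Submodule.Quotient.mk_eq_zero]
    have : y + z ∈ W := Submodule.subset_span (show φ (y + z) = y + z by
      rw [map_add]; linear_combination (norm := abel) hz')
    simpa using W.sub_mem this hz

include hφ in
theorem exists_basis [IsSepClosed k] (hr : 0 < r) (hss : Submodule.span k (Set.range φ) = ⊤) :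
    ∃ b : Module.Basis (Fin (Module.finrank k V)) k V, ∀ i, φ (b i) = b i := by
  classical
  obtain ⟨t, hts, hspan, hli⟩ := exists_linearIndependent k {x : V | φ x = x}
  have hsp : ⊤ ≤ Submodule.span k (Set.range (Subtype.val : t → V)) := by
    rw [Subtype.range_coe, hspan, span_fixed φ hφ hr hss]
  let b := Module.Basis.mk hli hsp
  haveI : Fintype t := FiniteDimensional.fintypeBasisIndex b
  refine ⟨b.reindex (Fintype.equivFinOfCardEq (Module.finrank_eq_card_basis b).symm), fun i => ?_⟩
  rw [Module.Basis.reindex_apply, Module.Basis.mk_apply]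
  exact hts (Subtype.mem _)

include hφ in
theorem surjective_sub [IsSepClosed k] (hr : 0 < r) : Function.Surjective (fun v : V => v - φ v) := by
  classical
  suffices H : ∀ (n : ℕ) (S : Submodule k V), Module.finrank k S ≤ n → (∀ x ∈ S, φ x ∈ S) → ∀ w ∈ S, ∃ x ∈ S, x - φ x = w by
    intro w
    obtain ⟨x, -, hx⟩ := H _ ⊤ le_rfl (fun _ _ => trivial) w trivial
    exact ⟨x, hx⟩
  intro n
  induction n with
  | zero =>
    intro S hS _ w hw
    have : S = ⊥ := Submodule.finrank_eq_zero.1 (Nat.le_zero.1 hS)
    subst this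
    obtain rfl := (Submodule.mem_bot k).1 hw
    exact ⟨0, Submodule.zero_mem _, by simp⟩
  | succ n ih =>
    intro S hS hmaps w hw
    set T := Submodule.span k (φ '' (S : Set V)) with hT
    have hTS : T ≤ S := Submodule.span_le.2 (by rintro _ ⟨x, hx, rfl⟩; exact hmaps x hx)
    by_cases hTS' : T = S
    · let φS : S →+ S :=
        { toFun := fun x => ⟨φ x.1, hmaps x.1 x.2⟩
          map_zero' := Subtype.ext (map_zero φ)
          map_add' := fun a b => Subtype.ext (map_add φ _ _) }
      have hφS : ∀ (c : k) (x : S), φS (c • x) = c ^ p ^ r • φS x := fun c x => Subtype.ext (hφ c x.1)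
      have hssS : Submodule.span k (Set.range φS) = ⊤ := by
        apply Submodule.map_injective_of_injective S.injective_subtype
        rw [Submodule.map_span, Submodule.map_top, Submodule.range_subtype]
        refine Eq.trans ?_ hTS'
        rw [hT]
        congr 1
        ext z
        simp [φS]
        exact fun x hx h => h ▸ hmaps x hx
      obtain ⟨b, hb⟩ := exists_basis φS hφS hr hssS
      choose d hd using fun i => artin (p := p) hr (b.repr ⟨w, hw⟩ i)
      refine ⟨(∑ i, d i • b i : S), Subtype.mem _, ?_⟩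
      have : (∑ i, d i • b i : S) - φS (∑ i, d i • b i) = ⟨w, hw⟩ := by
        conv_rhs => rw [← b.sum_repr ⟨w, hw⟩]
        rw [map_sum, ← Finset.sum_sub_distrib]
        refine Finset.sum_congr rfl fun i _ => ?_
        rw [hφS, hb, ← sub_smul]
        congr 1
        linear_combination (-1 : k) * hd i
      exact congrArg Subtype.val this
    · have hlt : Module.finrank k T < Module.finrank k S := Submodule.finrank_lt_finrank_of_lt (lt_of_le_of_ne hTS hTS')
      obtain ⟨y, hy, hy'⟩ := ih T (by omega) (fun x hx => Submodule.subset_span ⟨x, hTS hx, rfl⟩) (φ w) (Submodule.subset_span ⟨w, hw, rfl⟩)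
      refine ⟨w + y, S.add_mem hw (hTS hy), ?_⟩
      rw [map_add]
      linear_combination (norm := abel) hy'

end Groth.Agent.QLinearLang
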