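import Groth.Prelude.Def_CAlgX
import Groth.Agent.CommAlgDim.QuasiRegular
import Mathlib

set_option autoImplicit false
universe u

open MvPolynomial

namespace Groth.Agent.QRJacLib

theorem isWeaklyRegular_of_qr : ∀ (c : ℕ) (A : Type u) [CommRing A] [IsNoetherianRing A]
    (f : Fin c → A), (∀ i, f i ∈ Ring.jacobson A) → CAlgX.IsQuasiRegular f →
    RingTheory.Sequence.IsWeaklyRegular A (List.ofFn f) := by
  intro c
  induction c with
  | zero =>
    intro A _ _ f _ _
    rw [List.ofFn_zero]
    exact RingTheory.Sequence.IsWeaklyRegular.nil _ _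
  | succ c ih =>
    intro A _ _ f hf hq
    classical
    set J := Ideal.span (Set.range f) with hJ
    have hfm : ∀ i, f i ∈ J := fun i => Ideal.subset_span ⟨i, rfl⟩
    have hstep : ∀ m a, a ∈ J ^ m → f 0 * a ∈ J ^ (m + 2) → a ∈ J ^ (m + 1) := by
      intro m a ha h
      obtain ⟨G, hG, rfl⟩ := CommAlgDim.exists_isHomogeneous_eval_eq f m ha
      refine CommAlgDim.eval_mem_pow_succ J f hfm hG fun s => ?_
      have h1 := hq (1 + m) (X 0 * G) ((isHomogeneous_X A 0).mul hG)
        (by rw [map_mul, eval_X, add_assoc, add_comm 1]; exact h) (Finsupp.single 0 1 + s)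
      rwa [coeff_X_mul] at h1
    have hreg : IsSMulRegular A (f 0) := by
      refine isSMulRegular_iff_right_eq_zero_of_smul.2 fun a ha => ?_
      rw [smul_eq_mul] at ha
      have hall : ∀ m, a ∈ J ^ m := fun m => by
        induction m with
        | zero => simp
        | succ m ihm => exact hstep m a ihm (by rw [ha]; exact zero_mem _)
      have hjac : J ≤ Ideal.jacobson (⊥ : Ideal A) := Ideal.span_le.2 (by
        rintro _ ⟨i, rfl⟩
        rw [Ideal.jacobson_bot]
        exact hf i)
      have hbot : ⨅ m : ℕ, J ^ m = ⊥ := by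
        have := J.iInf_pow_smul_eq_bot_of_le_jacobson (M := A) hjac
        simpa using this
      exact (Submodule.mem_bot A).1 (hbot.le ((Submodule.mem_iInf _).2 hall))
    set I0 : Ideal A := Ideal.span {f 0}
    set π := Ideal.Quotient.mk I0 with hπ
    have hπ0 : π (f 0) = 0 := Ideal.Quotient.eq_zero_iff_mem.2 (Ideal.mem_span_singleton_self _)
    let g : Fin c → A ⧸ I0 := fun i => π (f i.succ)
    have hJmap : J.map π = Ideal.span (Set.range g) := by
      rw [hJ, Ideal.map_span, ← Set.range_comp]
      refine le_antisymm (Ideal.span_le.2 ?_) (Ideal.span_mono ?_)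
      · rintro _ ⟨i, rfl⟩
        cases i using Fin.cases with
        | zero => simp [hπ0]
        | succ i => exact Ideal.subset_span ⟨i, rfl⟩
      · rintro _ ⟨i, rfl⟩
        exact ⟨i.succ, rfl⟩
    have hgq : CAlgX.IsQuasiRegular g := by
      intro n P hP he d
      choose σ hσ using (Ideal.Quotient.mk_surjective (I := I0))
      let G : MvPolynomial (Fin c) A := ∑ s ∈ P.support, monomial s (σ (P.coeff s))
      have hG : G.IsHomogeneous n := IsHomogeneous.sum _ _ _ fun s hs =>
        isHomogeneous_monomial _ (hP.degree_eq_sum_deg_support hs).symm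
      have hmapG : MvPolynomial.map π G = P := by
        conv_rhs => rw [P.as_sum]
        simp only [G, map_sum, map_monomial]
        exact Finset.sum_congr rfl fun s _ => by rw [hσ]
      rw [← hJmap] at he ⊢
      rw [← Ideal.map_pow, ← hmapG, show g = π ∘ (fun i => f i.succ) from rfl,
        eval_map, ← eval₂_comp, Ideal.mem_map_iff_of_surjective π Ideal.Quotient.mk_surjective] at he
      obtain ⟨y, hy, hye⟩ := he
      obtain ⟨a, ha⟩ := Ideal.mem_span_singleton'.1 (Ideal.Quotient.eq.1 hye.symm)
      rw [← hmapG, coeff_map]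
      refine Ideal.mem_map_of_mem _ ?_
      rcases n with _ | n
      · have h1 : eval (fun i => f i.succ) G ∈ J := by
          rw [show eval (fun i => f i.succ) G = y + a * f 0 by rw [ha]; ring]
          exact add_mem (by simpa using hy) (Ideal.mul_mem_left _ _ (hfm 0))
        have hd : ∀ t, t ≠ 0 → G.coeff t = 0 := fun t ht =>
          hG.coeff_eq_zero (by simpa [Finsupp.degree_eq_zero_iff] using ht)
        rcases eq_or_ne d 0 with rfl | hd0
        · have hGC : G = C (G.coeff 0) := by
            ext t
            rw [coeff_C]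
            split_ifs with h
            · rw [h]
            · exact hd t (Ne.symm h)
          rwa [hGC, eval_C] at h1
        · rw [hd d hd0]; exact zero_mem _
      · have hGn : eval (fun i => f i.succ) G ∈ J ^ (n + 1) :=
          CommAlgDim.eval_mem_pow J _ (fun i => hfm _) hG
        have hfa : f 0 * a ∈ J ^ (n + 1) := by
          rw [mul_comm, ha]
          exact sub_mem hGn (Ideal.pow_le_pow_right (by omega) hy)
        have han : ∀ m, m ≤ n → a ∈ J ^ m := by
          intro m hm
          induction m with
          | zero => simp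
          | succ m ihm =>
            exact hstep m a (ihm (by omega)) (Ideal.pow_le_pow_right (by omega) hfa)
        obtain ⟨A', hA', hA'e⟩ := CommAlgDim.exists_isHomogeneous_eval_eq f n (han n le_rfl)
        have h1 := hq (n + 1) (rename Fin.succ G - X 0 * A')
          (hG.rename_isHomogeneous.sub (by
            have := (isHomogeneous_X A (0 : Fin (c + 1))).mul hA'
            rwa [add_comm 1 n] at this))
          (by rw [map_sub, map_mul, eval_X, hA'e, eval_rename, mul_comm, ha,
                show f ∘ Fin.succ = fun i => f i.succ from rfl, sub_sub_cancel]; exact hy)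
          (d.mapDomain Fin.succ)
        rw [coeff_sub, coeff_rename_mapDomain _ (Fin.succ_injective c), coeff_X_mul', if_neg,
          sub_zero] at h1
        · exact h1
        · rw [Finsupp.mem_support_iff, not_not, Finsupp.mapDomain_notin_range]
          simp
    have hgj : ∀ i, g i ∈ Ring.jacobson (A ⧸ I0) := fun i => by
      rw [← Ideal.jacobson_bot]
      refine Ideal.mem_jacobson_bot.2 fun z => ?_
      obtain ⟨z, rfl⟩ := Ideal.Quotient.mk_surjective z
      have := Ideal.mem_jacobson_bot.1 (Ideal.jacobson_bot (R := A) ▸ hf i.succ) z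
      simpa [g, hπ, map_mul, map_add] using this.map π
    have hih := ih (A ⧸ I0) g hgj hgq
    rw [List.ofFn_succ, RingTheory.Sequence.isWeaklyRegular_cons_iff]
    refine ⟨hreg, ?_⟩
    let e : QuotSMulTop (f 0) A ≃ₗ[A] A ⧸ I0 :=
      Submodule.quotEquivOfEq _ _ (by
        rw [← Submodule.ideal_span_singleton_smul, smul_eq_mul, Ideal.mul_top])
    rw [LinearEquiv.isWeaklyRegular_congr e,
      ← RingTheory.Sequence.isWeaklyRegular_map_algebraMap_iff (A ⧸ I0), List.map_ofFn]
    exact hih

end Groth.Agent.QRJacLib
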