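import Groth.Statements.S15046
import Groth.Agent.FrobEtaleLib.Smooth
import Groth.Agent.FrobEtaleLib.Tower

set_option autoImplicit false
open CategoryTheory AlgebraicGeometry
universe u
open Quiet

namespace Groth.Agent.S15046

/-- Let `k` be a perfect field of prime characteristic `p` and `A` a smooth `k`-algebra of
characteristic `p`. Then the Frobenius endomorphism `a ↦ a ^ p` of `A` is faithfully flat, and the
endomorphism of `Spec A` it induces is an extraction of `p`-th roots: every point has an affine open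
neighbourhood with affine preimage over which the induced ring map is a tower of finitely many
elementary extractions `B → B[x]/(x^p - b)`. -/
theorem result (p : ℕ) [Fact p.Prime]
    (k : Type u) [Field k] [CharP k p] [PerfectRing k p] (A : Type u) [CommRing A] [Algebra k A]
    [CharP A p] [Algebra.Smooth k A] :
    (frobenius A p).FaithfullyFlat ∧
      Quiet.IsPthRoot p (Spec.map (CommRingCat.ofHom (frobenius A p))) := by
  refine ⟨RingHom.FaithfullyFlat.iff_flat_and_comap_surjective.mpr ⟨?_, fun q => ⟨q, ?_⟩⟩, fun x => ?_⟩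
  · rw [FrobEtaleLib.frobenius_eq_comp p k A]
    exact RingHom.Flat.comp (RingHom.Flat.of_bijective (FrobEtaleLib.bijective_includeLeft p k A))
      (FrobEtaleLib.flat_finite_projective p k A).1
  · exact PrimeSpectrum.ext (Ideal.ext fun a =>
      ⟨fun h => q.2.mem_of_pow_mem p h, fun h => Ideal.pow_mem_of_mem _ h p (Fact.out : p.Prime).pos⟩)
  obtain ⟨s, hs, hstd⟩ := Algebra.Smooth.exists_span_eq_top_isStandardSmooth k A
  obtain ⟨f, hfs, hfx⟩ := Set.not_subset.mp fun h : s ⊆ x.asIdeal =>
    x.2.ne_top (eq_top_iff.mpr (hs.ge.trans (Ideal.span_le.mpr h)))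
  haveI := hstd f hfs
  let U : (Spec (CommRingCat.of A)).Opens := PrimeSpectrum.basicOpen f
  have hU : IsAffineOpen U := IsAffineOpen.Spec_basicOpen (R := CommRingCat.of A) f
  let F := Spec.map (CommRingCat.ofHom (frobenius A p))
  have hpre : F ⁻¹ᵁ U = U := (PrimeSpectrum.comap_basicOpen (frobenius A p) f).trans
    (PrimeSpectrum.basicOpen_pow f p (Fact.out : p.Prime).pos)
  refine ⟨⟨U, hU⟩, hfx, hpre.symm ▸ hU, ?_⟩
  let C := Localization.Away f
  let S₁ := Γ(Spec (CommRingCat.of A), U)
  let S₂ := Γ(Spec (CommRingCat.of A), F ⁻¹ᵁ U)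
  letI : Algebra S₁ S₂ := (F.app U).hom.toAlgebra
  haveI : Nontrivial C := not_subsingleton_iff_nontrivial.mp fun h => by
    obtain ⟨m, hm⟩ := (IsLocalization.subsingleton_iff (M := Submonoid.powers f) (S := C)).mp h
    exact hfx (x.2.mem_of_pow_mem m (by
      rw [show f ^ m = 0 from hm]; exact Ideal.zero_mem _))
  haveI : CharP C p := (CharP.charP_iff_prime_eq_zero Fact.out).mpr
    (by rw [← map_natCast (algebraMap k C) p, CharP.cast_eq_zero, map_zero])
  obtain ⟨n, t, ht⟩ := FrobEtaleLib.exists_isMonoBasis p k C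
  letI algA₁ : Algebra A S₁ := StructureSheaf.openAlgebra (R := A) (Opposite.op U)
  haveI : IsLocalization.Away f S₁ := StructureSheaf.IsLocalization.to_basicOpen A f
  letI algA₂ : Algebra A S₂ := StructureSheaf.openAlgebra (R := A) (Opposite.op (F ⁻¹ᵁ U))
  haveI : IsLocalization.Away f S₂ := by
    have key : ∀ (V : (Spec (CommRingCat.of A)).Opens), V = U →
        letI : Algebra A Γ(Spec (CommRingCat.of A), V) := StructureSheaf.openAlgebra (R := A) (Opposite.op V)
        IsLocalization.Away f Γ(Spec (CommRingCat.of A), V) := fun V hV => by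
      subst hV
      exact StructureSheaf.IsLocalization.to_basicOpen A f
    exact key _ hpre
  let e₁ : C ≃ₐ[A] S₁ := IsLocalization.algEquiv (Submonoid.powers f) C S₁
  let e₂ : C ≃ₐ[A] S₂ := IsLocalization.algEquiv (Submonoid.powers f) C S₂
  have hcompat : ∀ c : C, algebraMap S₁ S₂ (e₁ c) = e₂ (frobenius C p c) := by
    refine RingHom.congr_fun (f := (algebraMap S₁ S₂).comp e₁.toRingEquiv.toRingHom)
      (g := e₂.toRingEquiv.toRingHom.comp (frobenius C p)) (IsLocalization.ringHom_ext (Submonoid.powers f) ?_)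
    refine RingHom.ext fun a => ?_
    change (F.app U).hom (e₁ (algebraMap A C a)) = e₂ (frobenius C p (algebraMap A C a))
    rw [AlgEquiv.commutes, ← RingHom.map_frobenius, AlgEquiv.commutes]
    exact CategoryTheory.congr_fun (StructureSheaf.toOpen_comp_comap (frobenius A p) U) a
  refine ⟨n, FrobEtaleLib.isRootTower_of_isMonoBasis p n S₁ S₂ (fun i => e₂ (t i))
    (fun i => ⟨e₁ (t i), ?_⟩) ?_⟩
  · rw [hcompat, ← map_pow]
    rfl
  · have hΦ : (fun c : (Fin n → Fin p) → S₁ => ∑ e, c e • ∏ i, e₂ (t i) ^ (e i : ℕ)) =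
        e₂ ∘ (fun c : (Fin n → Fin p) → C => ∑ e, frobenius C p (c e) * ∏ i, t i ^ (e i : ℕ)) ∘
          (fun c e => e₁.symm (c e)) := funext fun c => by
      simp only [Function.comp_apply, map_sum, map_mul, map_prod, map_pow, Algebra.smul_def]
      refine Finset.sum_congr rfl fun e _ => ?_
      rw [← hcompat, AlgEquiv.apply_symm_apply]
    unfold FrobEtaleLib.IsMonoBasis
    rw [hΦ]
    exact e₂.bijective.comp (ht.comp (Equiv.piCongrRight fun _ => e₁.symm.toEquiv).bijective)

end Groth.Agent.S15046
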