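import Groth.Statements.S5344
import Groth.Agent.NeutralSchLib.Artin
import Groth.Agent.TwConstLib.Etale
-- import your own Groth.Agent.* helpers here

set_option autoImplicit false
universe u
open CategoryTheory CategoryTheory.Limits MonoidalCategory CartesianMonoidalCategory MonObj GrpObj AlgebraicGeometry
open SGA3

namespace Groth.Agent.S5344

/-- Let A be a local artinian ring and G an A-group scheme locally of finite type, and let G⁰ be the
connected component of the unit point. Then G⁰ is open in G; it is stable under the group law: for
every A-scheme T and all points g, h : T → G whose images lie in G⁰, the image of g h⁻¹ lies in G⁰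
(so G⁰ carries an open subgroup scheme, the neutral component); and it is normal: for every A-scheme
T, every point g : T → G and every point n : T → G whose image lies in G⁰, the image of g n g⁻¹ lies
in G⁰. -/
theorem result (A : Type u) [CommRing A] [IsArtinianRing A] [IsLocalRing A] (G : Over (Spec (CommRingCat.of A))) [GrpObj G] [LocallyOfFiniteType G.hom]
    (pt : ↥(𝟙_ (Over (Spec (CommRingCat.of A)))).left) :
    IsOpen (connectedComponent (η[G].left.base pt)) ∧
    (∀ (T : Over (Spec (CommRingCat.of A))) (g h : T ⟶ G), Set.range g.left.base ⊆ connectedComponent (η[G].left.base pt) →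
      Set.range h.left.base ⊆ connectedComponent (η[G].left.base pt) →
      Set.range (g * h⁻¹).left.base ⊆ connectedComponent (η[G].left.base pt)) ∧
    ∀ (T : Over (Spec (CommRingCat.of A))) (g n : T ⟶ G), Set.range n.left.base ⊆ connectedComponent (η[G].left.base pt) →
      Set.range (g * n * g⁻¹).left.base ⊆ connectedComponent (η[G].left.base pt) := by
  haveI := Groth.Agent.NeutralSch.subsingleton_spec A
  have e : connectedComponent (η[G].left.base pt) = SGA3x.neutralSet G :=
    Groth.Agent.NeutralSch.connectedComponent_eq_neutralSet (S := Spec (CommRingCat.of A)) (G := G) pt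
  haveI : IsNoetherianRing A := inferInstance
  haveI : IsLocallyNoetherian G.left := LocallyOfFiniteType.isLocallyNoetherian G.hom
  haveI := TwConstLib.locallyConnectedSpace_of_isLocallyNoetherian G.left
  refine ⟨isOpen_connectedComponent, fun T g h hg hh => ?_, fun T g n hn => ?_⟩
  · rintro _ ⟨y, rfl⟩
    rw [e] at hg hh ⊢
    exact Groth.Agent.NeutralSch.mul_mem g h⁻¹ y (hg ⟨y, rfl⟩) (Groth.Agent.NeutralSch.inv_mem h y (hh ⟨y, rfl⟩))
  · rintro _ ⟨y, rfl⟩
    rw [e] at hn ⊢
    exact Groth.Agent.NeutralSch.conj_mem g n y (hn ⟨y, rfl⟩)
end Groth.Agent.S5344
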