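import Groth.Statements.S5350
import Groth.Agent.GrpFieldLib.Extra
open Groth.Agent.GrpField Groth.Agent.HomogDense
-- import your own Groth.Agent.* helpers here

set_option autoImplicit false
universe u
open CategoryTheory CategoryTheory.Limits MonoidalCategory CartesianMonoidalCategory MonObj GrpObj AlgebraicGeometry
open SGA3

namespace Groth.Agent.S5350

/-- Let G be a group scheme over a field k (not assumed of finite type) acting on a k-scheme X so that G
×_k X → X ×_k X, (g, x) ↦ (gx, x), is surjective; let C⁰ be an irreducible component of G containing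
the unit point and U an open subset of X. Let C⁰·U be the image under the action of the set of
points of G ×_k X whose projections lie in C⁰ and in U. Then (i) C⁰·U is open in X and equals the
union of the irreducible components of X whose generic point lies in U; (ii) if U is retrocompact in
X then C⁰·U is the closure of U (so is open and closed). -/
theorem result (k : Type u) [Field k] (G X : Over (Spec (CommRingCat.of k))) [GrpObj G] (a : AlgGrp.Action G X) (hΦ : Surjective (lift a.act (snd G X)).left)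
    (pt : ↥(𝟙_ (Over (Spec (CommRingCat.of k)))).left) (C0 : Set G.left) (hC0 : C0 ∈ irreducibleComponents ↥G.left)
    (he : η[G].left.base pt ∈ C0) (U : X.left.Opens) :
    letI V : Set X.left := a.act.left.base '' {z : ↥(G ⊗ X).left | (fst G X).left.base z ∈ C0 ∧ (snd G X).left.base z ∈ U}
    IsOpen V ∧ V = ⋃₀ {Z : Set X.left | Z ∈ irreducibleComponents ↥X.left ∧ ∃ ξ ∈ U, closure {ξ} = Z} ∧
    (IsRetrocompact (U : Set X.left) → V = closure (U : Set X.left)) := by
  obtain ⟨Z, incl, _, hZ⟩ := exists_subscheme_Z0 (G := G)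
  let jZ : Over.mk (incl ≫ G.hom) ⟶ G := Over.homMk incl rfl
  let jO : Over.mk (U.ι ≫ X.hom) ⟶ X := Over.homMk U.ι rfl
  have hr : Set.range jO.left = U := Scheme.Opens.range_ι U
  have hC : C0 = Z0 G :=
    (uniqueMax_iff.1 (uniqAt_grp (η[G].left.base pt))).unique ⟨hC0, he⟩ ⟨Z0_mem_components G, by
      rw [show η[G].left.base pt = unitPt G from congrArg _ (Subsingleton.elim (α := PrimeSpectrum k) _ _)]
      exact unitPt_mem_Z0 G⟩
  subst hC
  set V : Set X.left := a.act.left.base '' {z : ↥(G ⊗ X).left | (fst G X).left.base z ∈ Z0 G ∧ (snd G X).left.base z ∈ U}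
  have hV : V = compsMeeting (U : Set X.left) := by
    rw [← hr, compsMeeting_eq_range a hΦ jZ hZ jO (hr ▸ U.2)]
    refine Set.ext fun y => ⟨?_, ?_⟩
    · rintro ⟨z, ⟨hz₁, hz₂⟩, rfl⟩
      obtain ⟨v, hv⟩ := exists_preimage_tensor jZ jO z (hZ.ge hz₁) (hr.ge hz₂)
      exact ⟨v, by rw [Over.comp_left, Scheme.Hom.comp_apply, hv]⟩
    · rintro ⟨v, rfl⟩
      refine ⟨(jZ ⊗ₘ jO).left v, ⟨?_, ?_⟩, by rw [Over.comp_left, Scheme.Hom.comp_apply]⟩
      · rw [← hZ]
        exact ⟨(fst (Over.mk (incl ≫ G.hom)) (Over.mk (U.ι ≫ X.hom))).left v, (congrArg (fun m : Over.mk (incl ≫ G.hom) ⊗ Over.mk (U.ι ≫ X.hom) ⟶ _ => m.left v)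
            (tensorHom_fst jZ jO)).symm⟩
      · show (snd G X).left ((jZ ⊗ₘ jO).left v) ∈ (U : Set X.left)
        rw [← hr]
        exact ⟨(snd (Over.mk (incl ≫ G.hom)) (Over.mk (U.ι ≫ X.hom))).left v, (congrArg (fun m : Over.mk (incl ≫ G.hom) ⊗ Over.mk (U.ι ≫ X.hom) ⟶ _ => m.left v)
            (tensorHom_snd jZ jO)).symm⟩
  refine ⟨hV ▸ (isOpen_compsMeeting_and_compact a hΦ U).1, ?_, fun hret => ?_⟩
  · rw [hV]
    refine Set.ext fun y => ⟨fun hy => ?_, ?_⟩
    · obtain ⟨ξ, hξ, hξy⟩ := exists_isMax_specializes y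
      exact ⟨_, ⟨closure_mem_irreducibleComponents hξ, ξ, hy ξ hξ hξy, rfl⟩, hξy.mem_closure⟩
    · rintro ⟨_, ⟨hcomp, ξ, hξU, rfl⟩, hy⟩ ζ hζ hζy
      have h1 : closure {ζ} = closure {ξ} := (uniqueMax_iff.1 (uniqAt a hΦ y)).unique
        ⟨closure_mem_irreducibleComponents hζ, hζy.mem_closure⟩ ⟨hcomp, hy⟩
      rwa [IsGenericPoint.eq (show IsGenericPoint ζ (closure {ξ}) from h1) rfl]
  · rw [hV]
    refine subset_antisymm (fun y hy => ?_) fun y hy ξ hξ hξy => ?_
    · obtain ⟨ξ, hξ, hξy⟩ := exists_isMax_specializes y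
      exact closure_mono (Set.singleton_subset_iff.2 (hy ξ hξ hξy)) hξy.mem_closure
    · obtain ⟨u, hu, huy⟩ := exists_specializes_of_mem_closure hret hy
      obtain ⟨η', hη', hη'u⟩ := exists_isMax_specializes u
      rw [uniqAt a hΦ y ξ η' hξ hη' hξy (hη'u.trans huy)]
      exact hη'u.mem_open U.2 hu
end Groth.Agent.S5350
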