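import Groth.Statements.S13921
import Groth.Agent.RamMapLib.Generic

set_option autoImplicit false
universe u
open W4c1limliniiii

namespace Groth.Agent.S13921

open RamMapLib in
open Polynomial in
theorem exists_sol {k : Type u} [Field k] [IsAlgClosed k] {d n : ℕ} {e : Fin n → ℕ} (hd : 1 ≤ d) {P : Fin n → k}
    (hP : Function.Injective P) {V : Submodule k k[X]} (hV : V ∈ ramMaps d P e) :
    ∃ (a b : Fin (d + 1)) (φ : Var n d → k), Sol e a b φ ∧ (∀ i, φ (.P i) = P i) ∧
      V = Submodule.span k {pF φ, pG φ} := by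
  classical
  obtain ⟨⟨hle, hrank, ⟨s₁, hs₁V, hs₁d⟩, hbpf⟩, -, hram⟩ := hV
  have hdeg : ∀ s ∈ V, s.natDegree ≤ d := fun s hs =>
    natDegree_le_iff_degree_le.2 (Polynomial.mem_degreeLE.1 (hle hs))
  haveI : FiniteDimensional k V := FiniteDimensional.of_finrank_pos (by omega)
  obtain ⟨⟨F₀, hF₀V⟩, hF₀⟩ := Module.finrank_pos_iff_exists_ne_zero.1 (show 0 < Module.finrank k V by omega)
  have hF₀' : F₀ ≠ 0 := fun h => hF₀ (Subtype.ext h)
  obtain ⟨a₀, ha₀, hFa₀⟩ : ∃ a₀, a₀ < d + 1 ∧ F₀.coeff a₀ ≠ 0 :=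
    ⟨F₀.natDegree, Nat.lt_succ_of_le (hdeg _ hF₀V), leadingCoeff_ne_zero.2 hF₀'⟩
  obtain ⟨G₀, hG₀V, hG₀, hG₀a⟩ : ∃ G₀ ∈ V, G₀ ≠ 0 ∧ G₀.coeff a₀ = 0 := by
    have hk := LinearMap.finrank_range_add_finrank_ker ((Polynomial.lcoeff k a₀).comp V.subtype)
    have h1 := Submodule.finrank_le (LinearMap.range ((Polynomial.lcoeff k a₀).comp V.subtype))
    rw [Module.finrank_self] at h1
    obtain ⟨⟨G₀, hG₀V⟩, hker, hne⟩ := (Submodule.ne_bot_iff
      (LinearMap.ker ((Polynomial.lcoeff k a₀).comp V.subtype))).1 (fun h => by rw [h, finrank_bot] at hk; omega)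
    exact ⟨G₀, hG₀V, fun h => hne (Subtype.ext h), hker⟩
  let b₀ := G₀.natDegree
  have hb₀ : b₀ < d + 1 := Nat.lt_succ_of_le (hdeg _ hG₀V)
  let G := C (G₀.coeff b₀)⁻¹ * G₀
  let F := C (F₀.coeff a₀)⁻¹ * F₀ - C ((F₀.coeff a₀)⁻¹ * F₀.coeff b₀) * G
  have hGb₀ : G₀.coeff b₀ ≠ 0 := leadingCoeff_ne_zero.2 hG₀
  have hGa : G.coeff a₀ = 0 := by simp [G, hG₀a]
  have hGb : G.coeff b₀ = 1 := by simp [G, inv_mul_cancel₀ hGb₀]
  have hFa : F.coeff a₀ = 1 := by
    simp only [F, coeff_sub, coeff_C_mul, hGa, inv_mul_cancel₀ hFa₀, mul_zero, sub_zero]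
  have hFb : F.coeff b₀ = 0 := by
    simp only [F, coeff_sub, coeff_C_mul, hGb, mul_one, sub_self]
  have hGV : G ∈ V := by rw [show G = (G₀.coeff b₀)⁻¹ • G₀ from (smul_eq_C_mul _).symm]; exact V.smul_mem _ hG₀V
  have hFV : F ∈ V := by
    simp only [F, ← smul_eq_C_mul]
    exact V.sub_mem (V.smul_mem _ hF₀V) (V.smul_mem _ hGV)
  clear_value F G
  have hind : ∀ x y : k, C x * F + C y * G = 0 → x = 0 ∧ y = 0 := fun x y h => by
    have h1 := congrArg (fun f => coeff f a₀) h
    have h2 := congrArg (fun f => coeff f b₀) h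
    simp [hFa, hGa] at h1
    simp [hFb, hGb] at h2
    exact ⟨h1, h2⟩
  have hspan : Submodule.span k {F, G} = V := by
    refine Submodule.eq_of_le_of_finrank_le (Submodule.span_le.2 ?_) ?_
    · rintro x (rfl | rfl) <;> assumption
    · have hli : LinearIndependent k ![F, G] := LinearIndependent.pair_iff.2 fun x y h => by
        rw [smul_eq_C_mul, smul_eq_C_mul] at h
        exact hind x y h
      have := finrank_span_eq_card hli
      rw [Matrix.range_cons, Matrix.range_cons, Matrix.range_empty, Set.union_empty, Set.singleton_union,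
        Fintype.card_fin] at this
      omega
  have hmem : ∀ s ∈ V, ∃ x y : k, C x * F + C y * G = s := fun s hs => by
    rw [← hspan, Submodule.mem_span_pair] at hs
    obtain ⟨x, y, h⟩ := hs
    exact ⟨x, y, by rw [← smul_eq_C_mul, ← smul_eq_C_mul]; exact h⟩
  have hcop : IsCoprime F G := (Polynomial.isCoprime_iff_aeval_ne_zero_of_isAlgClosed k k F G).2 fun x => by
    by_contra hcon
    simp only [not_or, not_not, Polynomial.aeval_def, Algebra.algebraMap_self, Polynomial.eval₂_id] at hcon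
    obtain ⟨s, hs, hsx⟩ := hbpf x
    obtain ⟨u, w, rfl⟩ := hmem s hs
    exact hsx (by simp [hcon.1, hcon.2])
  have hlead : F.coeff d ≠ 0 ∨ G.coeff d ≠ 0 := by
    by_contra hcon
    simp only [not_or, not_not] at hcon
    obtain ⟨u, w, rfl⟩ := hmem s₁ hs₁V
    have hne : C u * F + C w * G ≠ 0 := fun h => by rw [h, natDegree_zero] at hs₁d; omega
    exact leadingCoeff_ne_zero.2 hne (by rw [leadingCoeff, hs₁d]; simp [hcon.1, hcon.2])
  have hG0 : G ≠ 0 := fun h => by simp [h] at hGb
  obtain ⟨U, W, hU, hW, hUW⟩ : ∃ U W : k[X], U.natDegree ≤ 2 * d ∧ W.natDegree ≤ 2 * d ∧ U * F + W * G = 1 := by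
    obtain ⟨u, w, huw⟩ := hcop
    refine ⟨u % G, w + (u / G) * F, ?_, ?_, ?_⟩
    · by_cases hc : G.natDegree = 0
      · obtain ⟨g, hg⟩ := natDegree_eq_zero.1 hc
        rw [← hg] at hG0 ⊢
        rw [EuclideanDomain.mod_eq_zero.2 (isUnit_C.2 (Ne.isUnit fun h => hG0 (by rw [h, map_zero]))).dvd]
        simp
      · exact (natDegree_mod_lt u hc).le.trans ((hdeg G hGV).trans (by omega))
    · have heq : (w + u / G * F) * G = 1 - u % G * F := by
        linear_combination huw + F * (EuclideanDomain.mod_add_div u G)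
      by_cases hw : w + u / G * F = 0
      · simp [hw]
      have h1 : ((w + u / G * F) * G).natDegree ≤ 2 * d := by
        rw [heq]
        refine (natDegree_sub_le _ _).trans (max_le (by simp) ((natDegree_mul_le).trans ?_))
        have h2 : (u % G).natDegree ≤ d := by
          by_cases hc : G.natDegree = 0
          · obtain ⟨g, hg⟩ := natDegree_eq_zero.1 hc
            rw [← hg] at hG0 ⊢
            rw [EuclideanDomain.mod_eq_zero.2 (isUnit_C.2 (Ne.isUnit fun h => hG0 (by rw [h, map_zero]))).dvd]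
            simp
          · exact (natDegree_mod_lt u hc).le.trans (hdeg G hGV)
        have := hdeg F hFV
        omega
      rw [natDegree_mul hw hG0] at h1
      omega
    · linear_combination huw + F * (EuclideanDomain.mod_add_div u G)
  have hH : ∀ i, ∃ H : k[X], H.natDegree ≤ d ∧ H.eval (P i) ≠ 0 ∧
      C (G.eval (P i)) * F - C (F.eval (P i)) * G = (X - C (P i)) ^ e i * H := by
    intro i
    set q := C (G.eval (P i)) * F - C (F.eval (P i)) * G with hq
    have hqV : q ∈ V := by
      simp only [hq, ← smul_eq_C_mul]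
      exact V.sub_mem (V.smul_mem _ hFV) (V.smul_mem _ hGV)
    have hq0 : q ≠ 0 := fun h => by
      obtain ⟨h1, h2⟩ := hind (G.eval (P i)) (-(F.eval (P i))) (by rw [map_neg, neg_mul, ← sub_eq_add_neg]; exact h)
      obtain ⟨u, w, huw⟩ := hcop
      simpa [h1, neg_eq_zero.1 h2] using congrArg (Polynomial.eval (P i)) huw
    obtain ⟨⟨s, hsV, hs0, hse⟩, hmax⟩ := hram i
    have hge : e i ≤ rootMultiplicity (P i) q := by
      by_cases he0 : e i = 0
      · omega
      obtain ⟨x, y, rfl⟩ := hmem s hsV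
      have hroot : x * F.eval (P i) + y * G.eval (P i) = 0 := by
        have := (rootMultiplicity_pos hs0).1 (lt_of_lt_of_le (Nat.pos_of_ne_zero he0) hse)
        simpa using this
      obtain ⟨u, w, huw⟩ := hcop
      have h1 := congrArg (Polynomial.eval (P i)) huw
      simp only [eval_add, eval_mul, eval_one] at h1
      have hqs : q * C x = C (G.eval (P i)) * (C x * F + C y * G) ∧
          q * C y = -C (F.eval (P i)) * (C x * F + C y * G) := by
        have hC : C x * C (F.eval (P i)) + C y * C (G.eval (P i)) = 0 := by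
          rw [← map_mul, ← map_mul, ← map_add, hroot, map_zero]
        constructor
        · linear_combination -G * hC
        · linear_combination F * hC
      have key : ∀ z w : k, z ≠ 0 → q * C z = C w * (C x * F + C y * G) →
          e i ≤ rootMultiplicity (P i) q := fun z w hz h => by
        rw [Polynomial.le_rootMultiplicity_iff hq0]
        have h2 : (X - C (P i)) ^ e i ∣ q * C z := by
          rw [h]; exact dvd_mul_of_dvd_right ((Polynomial.le_rootMultiplicity_iff hs0).1 hse) _
        exact (IsUnit.dvd_mul_right (isUnit_C.2 (Ne.isUnit hz))).1 h2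
      by_cases hx : x = 0
      · exact key y _ (fun hy => hs0 (by simp [hx, hy])) (by rw [hqs.2, map_neg])
      · exact key x _ hx hqs.1
    have heq : rootMultiplicity (P i) q = e i := le_antisymm (hmax q hqV hq0) hge
    obtain ⟨H, hH1, hH2⟩ := exists_eq_pow_rootMultiplicity_mul_and_not_dvd q hq0 (P i)
    rw [heq] at hH1
    refine ⟨H, ?_, fun h => hH2 (dvd_iff_isRoot.2 h), hH1⟩
    have h3 := hdeg q hqV
    rw [hH1, natDegree_mul (pow_ne_zero _ (X_sub_C_ne_zero _)) (fun h => hH2 (by rw [h]; exact dvd_zero _))] at h3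
    omega
  choose H hHd hH0 hHeq using hH
  obtain ⟨z₁, z₂, hz⟩ : ∃ z₁ z₂ : k, z₁ * F.coeff d + z₂ * G.coeff d = 1 := by
    rcases hlead with h | h
    · exact ⟨(F.coeff d)⁻¹, 0, by rw [inv_mul_cancel₀ h, zero_mul, add_zero]⟩
    · exact ⟨0, (G.coeff d)⁻¹, by rw [inv_mul_cancel₀ h, zero_mul, zero_add]⟩
  let φ : Var n d → k := fun v => match v with
    | .F m => F.coeff m
    | .G m => G.coeff m
    | .U m => U.coeff m
    | .W m => W.coeff m
    | .Z c => bif c then z₁ else z₂
    | .H i m => (H i).coeff m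
    | .Zh i => ((H i).eval (P i))⁻¹
    | .Y i j => (P i - P j)⁻¹
    | .P i => P i
  have hpF : pF φ = F := pk_coeff F (hdeg F hFV)
  have hpG : pG φ = G := pk_coeff G (hdeg G hGV)
  refine ⟨⟨a₀, ha₀⟩, ⟨b₀, hb₀⟩, φ, ⟨?_, ?_, hFa, hFb, hGa, hGb, fun i => ?_, fun i => ?_, fun i j hij => ?_⟩,
    fun i => rfl, by rw [hpF, hpG, hspan]⟩
  · rw [hpF, hpG]
    show pk (fun m : Fin (2 * d + 1) => U.coeff m) * F + pk (fun m : Fin (2 * d + 1) => W.coeff m) * G = 1
    rw [pk_coeff U hU, pk_coeff W hW, hUW]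
  · exact hz
  · rw [hpF, hpG]
    show C (G.eval (P i)) * F - C (F.eval (P i)) * G =
      (X - C (P i)) ^ e i * pk (fun m : Fin (d + 1) => (H i).coeff m)
    rw [pk_coeff (H i) (hHd i), hHeq i]
  · show ((H i).eval (P i))⁻¹ * (pk (fun m : Fin (d + 1) => (H i).coeff m)).eval (P i) = 1
    rw [pk_coeff (H i) (hHd i), inv_mul_cancel₀ (hH0 i)]
  · exact inv_mul_cancel₀ (sub_ne_zero.2 fun h => hij (hP h))

theorem finite_roots {k : Type u} [Field k] {n : ℕ} {g : MvPolynomial (Option (Fin n)) k}
    {P : Fin n → k} (h : MvPolynomial.eval P (MvPolynomial.optionEquivLeft k (Fin n) g).leadingCoeff ≠ 0) :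
    {x : k | MvPolynomial.eval (fun o : Option (Fin n) => o.elim x P) g = 0}.Finite := by
  have hne : (MvPolynomial.optionEquivLeft k (Fin n) g).map (MvPolynomial.eval P) ≠ 0 := fun h0 => h (by
    rw [Polynomial.leadingCoeff, ← Polynomial.coeff_map, h0, Polynomial.coeff_zero])
  refine (Polynomial.finite_setOf_isRoot hne).subset fun x hx => ?_
  have := MvPolynomial.optionEquivLeft_elim_eval k (Fin n) P x g
  exact this.symm.trans hx

open Polynomial in
/-- Over an algebraically closed field of characteristic p (zero allowed), let d and indices e_1, …, e_n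
be admissible (2 ≤ e_i ≤ d, e_i prime to p, ∑ (e_i − 1) = 2d − 2). Then for a general choice of n
points of the affine line — every configuration outside the zero set of some non-zero polynomial in
the n coordinates — the separable degree-d self-maps of the projective line with ramification index
exactly e_i at the i-th point, taken up to automorphisms of the target (encoded as base-point-free
separable pencils of polynomials of degree at most d), are finite in number, and none of them maps
two of the points to the same point: no non-zero member of the pencil vanishes at two of the points. -/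
theorem result (k : Type u) [Field k]
    [IsAlgClosed k] (p : ℕ) [CharP k p] (d n : ℕ) (e : Fin n → ℕ)
    (he : W4c1limliniiii.Admissible p d e) :
    ∃ Φ : MvPolynomial (Fin n) k, Φ ≠ 0 ∧ ∀ P : Fin n → k, MvPolynomial.eval P Φ ≠ 0 →
      (W4c1limliniiii.ramMaps d P e).Finite ∧
        ∀ V ∈ W4c1limliniiii.ramMaps d P e, ∀ i j : Fin n, i ≠ j →
          ∀ s ∈ V, (s.IsRoot (P i) ∧ s.IsRoot (P j)) → s = 0 := by
  classical
  obtain ⟨he, hsum⟩ := he
  have he2 : ∀ i, 2 ≤ e i := fun i => (he i).1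
  have hek : ∀ i, (e i : k) ≠ 0 := fun i h => (he i).2.2 ((CharP.cast_eq_zero_iff k p (e i)).1 h)
  have hd : 1 ≤ d := by
    have : ∑ _i : Fin n, 2 ≤ ∑ i, e i := Finset.sum_le_sum fun i _ => he2 i
    simp at this
    omega
  have H := fun a b : Fin (d + 1) => RamMapLib.exists_equations (e := e) (a := a) (b := b) hsum he2 hek
  choose gF hgF0 hgF using fun a b m => (H a b).1 (RamMapLib.Var.F m) ⟨m, Or.inl rfl⟩
  choose gG hgG0 hgG using fun a b m => (H a b).1 (RamMapLib.Var.G m) ⟨m, Or.inr rfl⟩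
  choose gS hgS0 hgS using fun a b i j (hij : i ≠ j) => (H a b).2 i j hij
  let lc := fun g : MvPolynomial (Option (Fin n)) k => (MvPolynomial.optionEquivLeft k (Fin n) g).leadingCoeff
  have hlc : ∀ g, g ≠ 0 → lc g ≠ 0 := fun g hg =>
    Polynomial.leadingCoeff_ne_zero.2 ((map_ne_zero_iff _ (AlgEquiv.injective _)).2 hg)
  refine ⟨(∏ i : Fin n, ∏ j ∈ Finset.univ.filter (fun j => i ≠ j), (MvPolynomial.X i - MvPolynomial.X j)) *
      (∏ a : Fin (d + 1), ∏ b : Fin (d + 1), ((∏ m, lc (gF a b m)) * (∏ m, lc (gG a b m)) *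
        ∏ i : Fin n, ∏ j : Fin n, if hij : i ≠ j then gS a b i j hij else 1)), ?_, fun P hP => ?_⟩
  · simp only [mul_ne_zero_iff, Finset.prod_ne_zero_iff]
    refine ⟨fun i _ j hj => sub_ne_zero.2 fun h => (Finset.mem_filter.1 hj).2 (MvPolynomial.X_injective h),
      fun a _ b _ => ⟨⟨fun m _ => hlc _ (hgF0 a b m), fun m _ => hlc _ (hgG0 a b m)⟩, fun i _ j _ => ?_⟩⟩
    split_ifs with hij
    · exact hgS0 a b i j hij
    · exact one_ne_zero
  simp only [map_mul, map_prod, mul_ne_zero_iff, Finset.prod_ne_zero_iff, map_sub, MvPolynomial.eval_X,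
    sub_ne_zero, Finset.mem_filter, Finset.mem_univ, true_and, forall_const] at hP
  obtain ⟨hPd, hPg⟩ := hP
  have hPinj : Function.Injective P := fun i j h => by
    by_contra hij
    exact hPd i j hij h
  refine ⟨?_, fun V hV i j hij s hs hroot => ?_⟩
  · let SF : Fin (d + 1) → Fin (d + 1) → Set (Fin (d + 1) → k) := fun a b => Set.univ.pi fun m : Fin (d + 1) =>
      {x : k | MvPolynomial.eval (fun o : Option (Fin n) => o.elim x P) (gF a b m) = 0}
    let SG : Fin (d + 1) → Fin (d + 1) → Set (Fin (d + 1) → k) := fun a b => Set.univ.pi fun m : Fin (d + 1) =>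
      {x : k | MvPolynomial.eval (fun o : Option (Fin n) => o.elim x P) (gG a b m) = 0}
    have hSF : ∀ a b, (SF a b).Finite := fun a b =>
      Set.Finite.pi fun m => finite_roots (g := gF a b m) (P := P) ((hPg a b).1.1 m)
    have hSG : ∀ a b, (SG a b).Finite := fun a b =>
      Set.Finite.pi fun m => finite_roots (g := gG a b m) (P := P) ((hPg a b).1.2 m)
    refine Set.Finite.subset (Set.finite_iUnion fun a : Fin (d + 1) => Set.finite_iUnion fun b : Fin (d + 1) =>
      ((hSF a b).prod (hSG a b)).image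
        (fun c : (Fin (d + 1) → k) × (Fin (d + 1) → k) =>
          Submodule.span k {RamMapLib.pk c.1, RamMapLib.pk c.2})) fun V hV => ?_
    obtain ⟨a, b, φ, hφ, hφP, rfl⟩ := exists_sol hd hPinj hV
    refine Set.mem_iUnion.2 ⟨a, Set.mem_iUnion.2 ⟨b, ⟨(fun m => φ (.F m), fun m => φ (.G m)),
      ⟨fun m _ => ?_, fun m _ => ?_⟩, rfl⟩⟩⟩
    · show MvPolynomial.eval _ _ = 0
      refine Eq.trans (congrArg (fun f => MvPolynomial.eval f _) (funext fun o => ?_)) (hgF a b m φ hφ)
      cases o with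
      | none => rfl
      | some i => exact (hφP i).symm
    · show MvPolynomial.eval _ _ = 0
      refine Eq.trans (congrArg (fun f => MvPolynomial.eval f _) (funext fun o => ?_)) (hgG a b m φ hφ)
      cases o with
      | none => rfl
      | some i => exact (hφP i).symm
  · obtain ⟨a, b, φ, hφ, hφP, rfl⟩ := exists_sol hd hPinj hV
    by_contra hs0
    obtain ⟨x, y, rfl⟩ := Submodule.mem_span_pair.1 hs
    obtain ⟨hi, hj⟩ := hroot
    simp only [Polynomial.IsRoot, Polynomial.eval_add, Polynomial.eval_smul, smul_eq_mul, ← hφP] at hi hj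
    have hval : (RamMapLib.pF φ).eval (φ (.P i)) * (RamMapLib.pG φ).eval (φ (.P j)) =
        (RamMapLib.pF φ).eval (φ (.P j)) * (RamMapLib.pG φ).eval (φ (.P i)) := by
      by_cases hx : x = 0
      · have hy : y ≠ 0 := fun hy => hs0 (by simp [hx, hy])
        simp [hx, hy] at hi hj
        rw [hi, hj, mul_zero, mul_zero]
      · refine mul_left_cancel₀ hx ?_
        linear_combination (RamMapLib.pG φ).eval (φ (.P j)) * hi - (RamMapLib.pG φ).eval (φ (.P i)) * hj
    have h1 := hgS a b i j hij φ hφ hval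
    rw [show (fun i => φ (.P i)) = P from funext hφP] at h1
    have h2 := (hPg a b).2 i j
    rw [dif_pos hij] at h2
    exact h2 h1

end Groth.Agent.S13921
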