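import Groth.Statements.S11142
import Groth.Agent.SweepSix.MaxPts
-- import your own Groth.Agent.* helpers here

set_option autoImplicit false
universe u
open CategoryTheory AlgebraicGeometry
open FlatMor

namespace Groth.Agent.S11142

/-- For a flat morphism f : X → Y between locally Noetherian schemes, the preimage under f of any dense
open subset of Y is dense in X. -/
theorem result (X Y : Scheme.{u}) [IsLocallyNoetherian X]
    [IsLocallyNoetherian Y] (f : X ⟶ Y) [Flat f] (U : Y.Opens) (hU : Dense (U : Set Y)) :
    Dense ((f ⁻¹ᵁ U : X.Opens) : Set X) := by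
  intro x
  obtain ⟨t, htx, hmax⟩ := SweepSix.exists_maximal_generalization x
  have hft : ∀ y, y ⤳ f t → y = f t := fun y hy => by
    obtain ⟨t', ht', he⟩ := Flat.generalizingMap f hy
    rw [← he, hmax t' ht']
  have htU : t ∈ (f ⁻¹ᵁ U : X.Opens) :=
    SweepSix.scheme_mem_of_dense_of_maximal U.2 hU hft
  exact closure_mono (Set.singleton_subset_iff.2 htU) (specializes_iff_mem_closure.1 htx)

end Groth.Agent.S11142
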