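import Groth.Statements.S7338
import Mathlib
import Groth.Agent.ModifLib.Support
import Groth.Agent.ModifLib.Leray
import Groth.Agent.S2422
import Groth.Agent.CohCmpLib.FamilyPic2
-- import your own Groth.Agent.* helpers here

set_option autoImplicit false
universe u
open CategoryTheory CategoryTheory.Limits AlgebraicGeometry
open Resolve

namespace Groth.Agent.S7338

/-- Let (A, m) be a Noetherian normal local domain of dimension two, and X, X' integral schemes proper
over Spec A, each an isomorphism over some nonempty open of Spec A (modifications), with X normal,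
and g : X' → X a morphism over Spec A. Then R^1 g_* O_{X'} is generated by global sections and its
support is a finite set of closed points of X, and there is a short exact sequence 0 → H^1(X, O_X) →
H^1(X', O_{X'}) → H^0(X, R^1 g_* O_{X'}) → 0, recorded here as the additivity of A-lengths. (R^1 g_*
is the right derived functor of g_* on O-modules; that O_{X'}-modules have injective resolutions is
carried as an instance hypothesis.) -/
theorem result (A : Type u) [CommRing A] [IsDomain A] [IsLocalRing A] [IsNoetherianRing A]
    [IsIntegrallyClosed A] (hdim : ringKrullDim A = 2)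
    (X X' : Scheme.{u}) [X.Over (Spec (CommRingCat.of A))] [X'.Over (Spec (CommRingCat.of A))]
    [IsProper (X ↘ Spec (CommRingCat.of A))] [IsProper (X' ↘ Spec (CommRingCat.of A))] [IsIntegral X] [IsIntegral X']
    (hX : ∃ U : (Spec (CommRingCat.of A)).Opens, (U : Set (Spec (CommRingCat.of A))).Nonempty ∧ IsIso ((X ↘ Spec (CommRingCat.of A)) ∣_ U))
    (hX' : ∃ U : (Spec (CommRingCat.of A)).Opens, (U : Set (Spec (CommRingCat.of A))).Nonempty ∧ IsIso ((X' ↘ Spec (CommRingCat.of A)) ∣_ U))
    (hXn : Pi1.IsNormalScheme X) (g : X' ⟶ X) (hg : g ≫ (X ↘ Spec (CommRingCat.of A)) = X' ↘ Spec (CommRingCat.of A))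
    [HasInjectiveResolutions X'.Modules] :
    Curv2.IsGloballyGenerated ((Coh.Rpush g 1).obj (Coh.structureModule X')) ∧
      {x : X | Nontrivial (((Coh.Rpush g 1).obj (Coh.structureModule X')).presheaf.stalk x)}.Finite ∧
      (∀ x : X, Nontrivial (((Coh.Rpush g 1).obj (Coh.structureModule X')).presheaf.stalk x) → IsClosed ({x} : Set X)) ∧
      Module.length A (Coh.HH X' (Coh.structureModule X') 1) =
        Module.length A (Coh.HH X (Coh.structureModule X) 1) +
          Module.length A (Coh.HH X ((Coh.Rpush g 1).obj (Coh.structureModule X')) 0) := by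
  obtain ⟨U, hU, hi⟩ := hX
  obtain ⟨U', hU', hi'⟩ := hX'
  haveI := hi
  haveI := hi'
  let f := X ↘ Spec (CommRingCat.of A)
  let f' := X' ↘ Spec (CommRingCat.of A)
  haveI : IsProper (g ≫ f) := by rw [hg]; infer_instance
  haveI : IsProper g := IsProper.of_comp g f
  haveI : IsLocallyNoetherian X := LocallyOfFiniteType.isLocallyNoetherian f
  haveI : IsLocallyNoetherian X' := LocallyOfFiniteType.isLocallyNoetherian f'
  haveI : CompactSpace X' := QuasiCompact.compactSpace_of_compactSpace f'
  let s : Spec (CommRingCat.of A) := IsLocalRing.closedPoint A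
  have hηs : genericPoint (Spec (CommRingCat.of A)) ≠ s := fun h => by
    have hm : IsLocalRing.maximalIdeal A = ⊥ := by
      have := congrArg PrimeSpectrum.asIdeal h
      rw [genericPoint_eq_bot_of_affine] at this
      exact this.symm
    have := IsLocalRing.isField_iff_maximalIdeal_eq.2 hm
    rw [ringKrullDim_eq_zero_of_isField this] at hdim
    norm_num at hdim
  have hη' : f' (genericPoint X') = genericPoint (Spec (CommRingCat.of A)) := ModifLib.map_genericPoint f' hU'
  have hη : f (genericPoint X) = genericPoint (Spec (CommRingCat.of A)) := ModifLib.map_genericPoint f hU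
  have hcomp : ∀ z, f (g z) = f' z := fun z => congrArg (fun φ : X' ⟶ _ => φ z) hg
  have huniq : ∀ x : X, f x = genericPoint (Spec (CommRingCat.of A)) → x = genericPoint X := fun x hx => by
    have hxU : x ∈ f ⁻¹ᵁ U := by
      show f x ∈ U
      rw [hx, ← hη]
      exact ModifLib.genericPoint_mem f hU
    have := (f ∣_ U).homeomorph.injective (a₁ := ⟨x, hxU⟩) (a₂ := ⟨genericPoint X, ModifLib.genericPoint_mem f hU⟩)
      (Subtype.ext (((morphismRestrict_base_coe f U _).trans (hx.trans hη.symm)).trans
        (morphismRestrict_base_coe f U _).symm))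
    exact congrArg Subtype.val this
  have huniq' : ∀ x : X', f' x = genericPoint (Spec (CommRingCat.of A)) → x = genericPoint X' := fun x hx => by
    have hxU : x ∈ f' ⁻¹ᵁ U' := by
      show f' x ∈ U'
      rw [hx, ← hη']
      exact ModifLib.genericPoint_mem f' hU'
    have := (f' ∣_ U').homeomorph.injective (a₁ := ⟨x, hxU⟩) (a₂ := ⟨genericPoint X', ModifLib.genericPoint_mem f' hU'⟩)
      (Subtype.ext (((morphismRestrict_base_coe f' U' _).trans (hx.trans hη'.symm)).trans
        (morphismRestrict_base_coe f' U' _).symm))
    exact congrArg Subtype.val this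
  have hgη : g (genericPoint X') = genericPoint X := huniq _ ((hcomp _).trans hη')
  -- `g_* O = O`
  have hdom : g.base (genericPoint X') ⤳ genericPoint X := specializes_of_eq hgη
  have hbij : Function.Surjective (CohIII.stalkToFunctionField g (genericPoint X) hdom) := by
    haveI : IsIso (f'.stalkMap (genericPoint X')) := ModifLib.isIso_stalkMap_genericPoint f' hU'
    haveI : IsIso ((g ≫ f).stalkMap (genericPoint X')) := by
      have key : ∀ (φ : X' ⟶ Spec (CommRingCat.of A)), φ = f' → IsIso (φ.stalkMap (genericPoint X')) := by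
        rintro φ rfl; infer_instance
      exact key _ hg
    intro z
    obtain ⟨w, hw⟩ := (ConcreteCategory.bijective_of_isIso ((g ≫ f).stalkMap (genericPoint X'))).2 z
    rw [Scheme.Hom.stalkMap_comp] at hw
    refine ⟨(X.presheaf.stalkSpecializes (specializes_of_eq hgη.symm)).hom ((f.stalkMap (g (genericPoint X'))).hom w),
      Eq.trans ?_ hw⟩
    refine congrArg (g.stalkMap (genericPoint X')).hom ?_
    rw [← CommRingCat.comp_apply, TopCat.Presheaf.stalkSpecializes_comp, TopCat.Presheaf.stalkSpecializes_refl]
    rfl
  have happ := Groth.Agent.S2422.result hXn g hdom (fun x _ => hbij x)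
  haveI := CohCmpLib.isIso_unitToPush_of_app g happ
  have e₀ : (Coh.push g).obj (Coh.structureModule X') ≅ Coh.structureModule X := (asIso (ClSub.unitToPush g)).symm
  -- the vanishing
  haveI hO : Coh.IsQCoh (Coh.structureModule X) := (DevissLib.isCoh_structureModule X).1
  have h2 : Subsingleton (Coh.HH X (Coh.structureModule X) 2) := by
    obtain ⟨V, hV, -, hvan⟩ := FibVanLib.exists_nhd_vanish f s 1 (ModifLib.dim_closedFiber_le_one hdim f hU)
    have e : V = ⊤ := top_le_iff.1 fun t _ => (IsLocalRing.specializes_closedPoint t).mem_open V.2 hV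
    exact FibVanLib.subsingleton_HH_of_iso (X.topIso.symm ≪≫ X.isoOfEq (f.preimage_top).symm)
      (fun M hM => hvan ⊤ (isAffineOpen_top _) (le_of_eq e.symm) M hM 2 (by omega)) (Coh.structureModule X)
  have hp2 : Subsingleton (Coh.HH X ((Coh.push g).obj (Coh.structureModule X')) 2) :=
    (ModifLib.hLIso (A := A) e₀ 2).toEquiv.subsingleton
  -- the support
  have hdX' : topologicalKrullDim X' ≤ 2 := by
    refine ModifLib.dim_source_le f' hU' _ fun t => ?_
    refine ((DimIneqLib.stalk_dim_le_dim t).trans_eq (PrimeSpectrum.topologicalKrullDim_eq_ringKrullDim _)).trans ?_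
    exact hdim.le
  obtain ⟨hfin, hclo⟩ := ModifLib.finite_isClosed_of_surface g f hdX' s
    (IsLocalRing.isClosed_singleton_closedPoint A) (by rw [hcomp, hη']; exact hηs)
    (fun x' hx' => huniq' x' (((hcomp x').symm.trans (congrArg _ hx')).trans ((hcomp _).trans hη')))
    (fun x hx => by
      have hc : IsClosed ({f x} : Set (Spec (CommRingCat.of A))) := by
        simpa [Set.image_singleton] using f.isClosedMap _ hx
      exact ((IsLocalRing.specializes_closedPoint (f x)).mem_closed hc rfl).symm)
  have hsub : ∀ x : X, Nontrivial (((Coh.Rpush g 1).obj (Coh.structureModule X')).presheaf.stalk x) →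
      ¬ topologicalKrullDim ↥(g.fiber x) ≤ 0 := fun x hx hd => by
    haveI := FibVanLib.subsingleton_stalk_rpush g x 0 (by exact_mod_cast hd) (Coh.structureModule X')
      (DevissLib.isCoh_structureModule X') 1 one_pos
    exact not_nontrivial _ hx
  refine ⟨?_, hfin.subset fun x hx => hsub x hx, fun x hx => hclo x (hsub x hx), ?_⟩
  · refine ModifLib.isGloballyGenerated_of_finite_support _
      (hfin.subset fun x hx => hsub x (not_subsingleton_iff_nontrivial.1 hx))
      fun x hx => hclo x (hsub x (not_subsingleton_iff_nontrivial.1 hx))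
  · rw [ModifLib.length_leray (A := A) g hg _ hp2, (ModifLib.hLIso (A := A) e₀ 1).length_eq]

end Groth.Agent.S7338
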