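import Groth.Statements.S1648
import Mathlib
import Groth.Agent.S7320
import Groth.Agent.S7338
import Groth.Agent.PtBlowLib.Punct
import Groth.Agent.PtBlowLib.Vanish
import Groth.Agent.QCohLib.Vanishing
import Groth.Agent.NormalLib.Regular
-- import your own Groth.Agent.* helpers here

set_option autoImplicit false
universe u
open CategoryTheory CategoryTheory.Limits AlgebraicGeometry
open Resolve

namespace Groth.Agent.S1648

/-- A Nagata regular local ring of dimension two defines a rational singularity: every normal
modification of its spectrum has vanishing H^1 of the structure sheaf. -/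
theorem result (A : Type u) [CommRing A] [IsRegularLocalRing A] (hN : CAlg.IsNagata A)
    (hdim : ringKrullDim A = 2) : Curv2.IsRationalSing A := by
  intro X f hp hi hn hex
  obtain ⟨V₀, hV₀, hiso⟩ := hex
  haveI := hp
  haveI := hi
  haveI := hiso
  haveI : IsDomain A := CommAlgDim.isDomain_of_isRegularLocalRing A
  haveI : IsIntegrallyClosed A := NormalLib.isIntegrallyClosed_of_isRegularLocalRing A
  let S := Spec (CommRingCat.of A)
  have e0 : S.presheaf.stalk (IsLocalRing.closedPoint A) ≅ CommRingCat.of A := stalkClosedPointIso (CommRingCat.of A)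
  have hdm : ringKrullDim (S.presheaf.stalk (IsLocalRing.closedPoint A)) = 2 :=
    (ringKrullDim_eq_of_ringEquiv e0.commRingCatIsoToRingEquiv).trans hdim
  haveI hiU : IsIso (f ∣_ FEt.puncturedSpec A) := PtBlowLib.isIso_punctured hdim f hV₀
  let T : Set S := {IsLocalRing.closedPoint A}
  have hTc : IsClosed T := IsLocalRing.isClosed_singleton_closedPoint (R := A)
  obtain ⟨X', g, hg, hgU, h, hh⟩ := Groth.Agent.S7320.result S T (Set.finite_singleton _) hTc (fun x hx => by
    obtain rfl : x = IsLocalRing.closedPoint A := hx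
    exact ⟨hTc, IsRegularLocalRing.of_ringEquiv e0.commRingCatIsoToRingEquiv.symm, hdm⟩) f hiU
  haveI : Coh.IsQCoh (Coh.structureModule S) := QCohLib.isQCoh_unit
  obtain ⟨hi', hH'⟩ := PtBlowLib.vanish_of_contractionSeq g hg inferInstance
    (QCohLib.subsingleton_HH_affine _ 1 one_pos)
  haveI := hi'
  haveI : IsProper g := ModifLib.isProper_of_contractionSeq g hg
  letI : X.Over (Spec (CommRingCat.of A)) := ⟨f⟩
  letI : X'.Over (Spec (CommRingCat.of A)) := ⟨g⟩
  haveI : IsProper (X ↘ Spec (CommRingCat.of A)) := hp
  haveI : IsProper (X' ↘ Spec (CommRingCat.of A)) := ‹IsProper g›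
  have hUne := PtBlowLib.punctured_nonempty (A := A) hdim
  obtain ⟨-, -, -, hlen⟩ := Groth.Agent.S7338.result A hdim X X' ⟨V₀, hV₀, hiso⟩ ⟨_, hUne, hgU⟩ hn h hh
  haveI := hH'
  rw [Module.length_eq_zero, eq_comm, add_eq_zero] at hlen
  exact Module.length_eq_zero_iff.1 hlen.1

end Groth.Agent.S1648
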