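import Groth.Statements.S17426
import Groth.Agent.LimGenLib.Basic

set_option autoImplicit false
universe u
open CategoryTheory AlgebraicGeometry
open Lim

namespace Groth.Agent.S17426

/-- Let S = lim S_i be a cofiltered limit of schemes with affine transition morphisms, with S_{i₀} a
quasi-compact quasi-separated stage; let X₀ and Y₀ be schemes of finite presentation over S_{i₀}, f₀
: X₀ → Y₀ an S_{i₀}-morphism and L₀ an invertible O_{X₀}-module. Let f : X → Y be the base change of
f₀ along S → S_{i₀} and L the pullback of L₀ to X (base changes are expressed by pullback squares).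
Call an invertible module generated relative to a morphism when the counit of the
pullback–pushforward adjunction, f^*f_*L → L, is an epimorphism. If L is generated relative to f,
then there is an index j over i₀ such that for every index k over j and every base change f_k : X_k
→ Y_k of f₀ along S_k → S_{i₀}, the pullback L_k of L₀ to X_k is generated relative to f_k. (Stated
for X₀, Y₀ of finite presentation over the quasi-compact quasi-separated stage, the setting in which
all the schemes involved are quasi-compact and quasi-separated; the semi-ample variant of the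
source, some positive tensor power generated, is not restated.) -/
theorem result {I : Type u} [SmallCategory I] [IsCofiltered I]
    (D : I ⥤ Scheme.{u}) (c : Limits.Cone D) (hc : Limits.IsLimit c)
    [∀ (i j : I) (u : i ⟶ j), IsAffineHom (D.map u)] (i₀ : I) [CompactSpace (D.obj i₀)] [QuasiSeparatedSpace (D.obj i₀)]
    {X₀ Y₀ : Scheme.{u}} (f₀ : X₀ ⟶ Y₀) (g₀ : Y₀ ⟶ D.obj i₀)
    [LocallyOfFinitePresentation g₀] [QuasiCompact g₀] [QuasiSeparated g₀]
    [LocallyOfFinitePresentation (f₀ ≫ g₀)] [QuasiCompact (f₀ ≫ g₀)] [QuasiSeparated (f₀ ≫ g₀)]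
    (L₀ : X₀.Modules) (hL₀ : PicF.IsInvertible L₀)
    {X Y : Scheme.{u}} (f : X ⟶ Y) (g : Y ⟶ c.pt) (qY : Y ⟶ Y₀) (qX : X ⟶ X₀)
    (hY : IsPullback qY g g₀ (c.π.app i₀)) (hX : IsPullback qX f f₀ qY)
    (hgen : Epi ((Scheme.Modules.pullbackPushforwardAdjunction f).counit.app ((Scheme.Modules.pullback qX).obj L₀))) :
    ∃ (j : I) (φ : j ⟶ i₀), ∀ (k : I) (ψ : k ⟶ j) (Xk Yk : Scheme.{u}) (fk : Xk ⟶ Yk) (gk : Yk ⟶ D.obj k)
      (pY : Yk ⟶ Y₀) (pX : Xk ⟶ X₀), IsPullback pY gk g₀ (D.map (ψ ≫ φ)) → IsPullback pX fk f₀ pY →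
        Epi ((Scheme.Modules.pullbackPushforwardAdjunction fk).counit.app ((Scheme.Modules.pullback pX).obj L₀)) := by
  haveI : QuasiCompact f₀ := QuasiCompact.of_comp f₀ g₀
  haveI : QuasiSeparated f₀ := QuasiSeparated.of_comp f₀ g₀
  haveI : CompactSpace Y₀ := QuasiCompact.compactSpace_of_compactSpace g₀
  let B := RichLib.LimBC.pb (RichLib.LimBC.ofStage D c hc i₀) g₀
  let e : Y ≅ B.c.pt := hY.isoPullback
  have he : e.hom ≫ B.s = qY := hY.isoPullback_hom_fst
  haveI : QuasiCompact f := MorphismProperty.of_isPullback hX ‹QuasiCompact f₀›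
  haveI : QuasiSeparated f := MorphismProperty.of_isPullback hX ‹QuasiSeparated f₀›
  have hX' : IsPullback qX (f ≫ e.hom) f₀ B.s :=
    hX.of_iso (Iso.refl _) (Iso.refl _) e (Iso.refl _) (by simp) (by simp) (by simp)
      (by rw [Iso.refl_hom, Category.comp_id]; exact (hY.isoPullback_hom_fst).symm)
  have hgen' : Epi ((Scheme.Modules.pullbackPushforwardAdjunction (f ≫ e.hom)).counit.app
      ((Scheme.Modules.pullback qX).obj L₀)) := by
    refine MiscFlat6.epi_counit_of_genAt _ _ fun x => ?_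
    obtain ⟨W, hx, s, hs⟩ := MiscFlat6.exists_genAt_of_counit_epi f
      (AmpleDevLib.isInvertible_pb qX hL₀) hgen x
    have hW : f ⁻¹ᵁ W = (f ≫ e.hom) ⁻¹ᵁ (e.inv ⁻¹ᵁ W) := by
      rw [← Scheme.Hom.comp_preimage, Category.assoc, Iso.hom_inv_id, Category.comp_id]
    exact ⟨e.inv ⁻¹ᵁ W, hW.le hx, AmpleLib.res _ hW.ge s, (AmpleLib.genAt_res hW.ge s (hW.le hx)).mpr hs⟩
  obtain ⟨φ, hφ⟩ := LimGenLib.exists_stage_genOver B f₀ hL₀ hX' hgen'
  refine ⟨φ.left, φ.hom, fun k ψ Xk Yk fk gk pY pX hYk hXk => LimGenLib.epi_counit_of_genOver hXk hL₀ fun y => ?_⟩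
  obtain ⟨W, hy, hW⟩ := hφ (pY y)
  exact ⟨W, hy, LimGenLib.genOver_comp (Limits.pullback.lift pY (gk ≫ D.map ψ) (by rw [hYk.w, D.map_comp, Category.assoc]; rfl)) _ _ (Limits.pullback.lift_fst _ _ _) f₀ W hL₀ hW⟩

end Groth.Agent.S17426
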