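import Groth.Statements.S3025
import Groth.Agent.NeutralSchLib.Orbit
-- import your own Groth.Agent.* helpers here

set_option autoImplicit false
universe u
open CategoryTheory MonoidalCategory CartesianMonoidalCategory MonObj GrpObj AlgebraicGeometry TensorProduct
open SGA3

namespace Groth.Agent.S3025

/-- Let S be a scheme and G a group scheme over S which is locally of finite presentation and
universally open over S and whose fibres are connected. Then G is separated and quasi-compact (hence
of finite presentation) over S. -/
theorem result (S : Scheme.{u}) (G : Over S) [GrpObj G]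
    [LocallyOfFinitePresentation G.hom] [UniversallyOpen G.hom]
    (hconn : ∀ s : S, _root_.IsConnected (G.hom.base ⁻¹' {s})) :
    IsSeparated G.hom ∧ QuasiCompact G.hom := by
  refine ⟨Groth.Agent.HomogSep.isSeparated_of_transitive (GrpShear.mulAction G) hconn ?_, ?_⟩
  · refine ⟨fun w => ?_⟩
    let d : G ⊗ G ⟶ G ⊗ G := lift (fst G G * (snd G G)⁻¹) (snd G G)
    refine ⟨d.left w, ?_⟩
    have e : d ≫ lift (GrpShear.mulAction G).act (snd G G) = 𝟙 (G ⊗ G) := by
      refine CartesianMonoidalCategory.hom_ext _ _ ?_ (by simp [d])
      rw [Category.assoc, lift_fst, Category.id_comp]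
      show lift (fst G G * (snd G G)⁻¹) (snd G G) ≫ μ[G] = fst G G
      rw [← Hom.mul_def, inv_mul_cancel_right]
    rw [← Scheme.Hom.comp_apply, ← Over.comp_left, e]
    rfl
  · refine Groth.Agent.NeutralSch.quasiCompact_of_eq_univ (Set.eq_univ_of_forall fun x => ?_)
    refine ((Groth.Agent.NeutralSch.neutralSet_inter_fibre G (G.hom x)).ge ?_).1
    exact (hconn (G.hom x)).isPreconnected.subset_connectedComponentIn
      (SecCompLib.apply_section (Groth.Agent.NeutralSch.us_fac G) (G.hom x)) subset_rfl rfl
end Groth.Agent.S3025
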