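import Groth.Statements.S10839
import Mathlib
-- import your own Groth.Agent.* helpers here

set_option autoImplicit false
universe u
open CategoryTheory AlgebraicGeometry Topology
open Variety

namespace Groth.Agent.S10839

open CategoryTheory CategoryTheory.Limits AlgebraicGeometry

/-- A closed immersion i : Y → X into an integral scheme X with dim X = dim Y < ∞ is an isomorphism. -/
theorem result {X Y : Scheme.{u}} (i : Y ⟶ X)
    [IsClosedImmersion i] [IsIntegral X] (hfin : topologicalKrullDim ↥X ≠ ⊤)
    (hdim : topologicalKrullDim ↥X = topologicalKrullDim ↥Y) : IsIso i := by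
  haveI : Surjective i := by
    constructor
    by_contra hns
    obtain ⟨x₀, hx₀⟩ : ∃ x, x ∉ Set.range i := by
      simpa [Function.Surjective] using hns
    cases isEmpty_or_nonempty Y with
    | inl hY =>
      have h0 : topologicalKrullDim ↥Y = ⊥ := Order.krullDim_eq_bot_iff.2 ⟨fun Z => by
        obtain ⟨y, -⟩ := Z.isIrreducible'.1
        exact hY.false y⟩
      rw [h0] at hdim
      have hne : Nonempty (TopologicalSpace.IrreducibleCloseds X) :=
        ⟨⟨Set.univ, IrreducibleSpace.isIrreducible_univ _, isClosed_univ⟩⟩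
      exact absurd hdim (ne_of_gt (lt_of_lt_of_le (WithBot.bot_lt_coe 0)
        (Order.krullDim_nonneg (α := TopologicalSpace.IrreducibleCloseds X))))
    | inr hY =>
      haveI hneY : Nonempty (TopologicalSpace.IrreducibleCloseds Y) := hY.map fun y =>
        ⟨closure {y}, isIrreducible_singleton.closure, isClosed_closure⟩
      obtain ⟨n, hn⟩ : ∃ n : ℕ, topologicalKrullDim ↥Y = n := by
        obtain ⟨e, he⟩ := WithBot.ne_bot_iff_exists.1
          (Order.krullDim_ne_bot_iff.2 hneY : topologicalKrullDim ↥Y ≠ ⊥)
        obtain ⟨n, hn⟩ := ENat.ne_top_iff_exists.1 (show e ≠ ⊤ from fun h => hfin (by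
          exact hdim.trans (he.symm.trans (by rw [h]; rfl))))
        exact ⟨n, he.symm.trans (by rw [← hn]; rfl)⟩
      obtain ⟨l, hl⟩ := Order.le_krullDim_iff.1 (hn.ge : (n : WithBot ℕ∞) ≤ topologicalKrullDim ↥Y)
      let m : TopologicalSpace.IrreducibleCloseds Y → TopologicalSpace.IrreducibleCloseds X := fun Z =>
        ⟨i '' Z, Z.isIrreducible'.image i i.continuous.continuousOn,
          i.isClosedEmbedding.isClosedMap _ Z.isClosed'⟩
      have hm : StrictMono m := fun Z Z' h => by
        show i '' (Z : Set Y) ⊂ i '' (Z' : Set Y)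
        exact i.isClosedEmbedding.injective.image_strictMono h
      let top : TopologicalSpace.IrreducibleCloseds X :=
        ⟨Set.univ, IrreducibleSpace.isIrreducible_univ _, isClosed_univ⟩
      let l' := (l.map m hm).snoc top (by
        show _ ⊂ (Set.univ : Set X)
        refine Set.ssubset_univ_iff.2 fun h => hx₀ ?_
        obtain ⟨y, -, hy⟩ := h.symm.subset (Set.mem_univ x₀)
        exact ⟨y, hy⟩)
      have h2 := Order.LTSeries.length_le_krullDim l'
      rw [show l'.length = n + 1 by simp [l', hl]] at h2
      have h3 : ((n + 1 : ℕ) : WithBot ℕ∞) ≤ (n : WithBot ℕ∞) := h2.trans (hdim.trans hn).le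
      norm_cast at h3
      omega
  exact isIso_of_isClosedImmersion_of_surjective i

end Groth.Agent.S10839
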