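import Groth.Statements.S16774
import Groth.Agent.RCentreLib.SelfCent
import Groth.Agent.RCentreLib.Nilp
import Groth.Agent.BorelLib.RedTorus
import Groth.Agent.BorelLib.RedClosed
import Groth.Agent.FibDimLib.FieldExt
import Groth.Agent.S10839
import Groth.Agent.S3022
-- import your own Groth.Agent.* helpers here

set_option autoImplicit false
open CategoryTheory MonoidalCategory CartesianMonoidalCategory MonObj GrpObj AlgebraicGeometry
universe u
open Red

attribute [-instance] CategoryTheory.Hom.commGroup

namespace Groth.Agent.S16774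

open Limits in
/-- The dimension of a fibre can be computed over any field. -/
theorem dim_fibre_bc {S : Scheme.{u}} (X : Over S) [LocallyOfFiniteType X.hom] {K : Type u} [Field K]
    (g : Spec (CommRingCat.of K) ⟶ S) (t : S) (ht : g (IsLocalRing.closedPoint K) = t) :
    topologicalKrullDim ↥(X.hom.base ⁻¹' {t}) = topologicalKrullDim ↥(Red.bc g X).left := by
  subst ht
  haveI : Subsingleton ↥(Spec (CommRingCat.of K)) := inferInstanceAs (Subsingleton (PrimeSpectrum K))
  have h := FibDimLib.topologicalKrullDim_fiber_baseChange (IsPullback.of_hasPullback X.hom g)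
    (IsLocalRing.closedPoint K)
  let f' := pullback.snd X.hom g
  have h1 : topologicalKrullDim ↥(f'.fiber (IsLocalRing.closedPoint K)) = topologicalKrullDim ↥(pullback X.hom g) :=
    (IsHomeomorph.topologicalKrullDim_eq _ (f'.fiberHomeo _).isHomeomorph).trans
      (IsHomeomorph.topologicalKrullDim_eq _ ((Homeomorph.setCongr (Set.eq_univ_of_forall fun z =>
        Subsingleton.elim _ _)).trans (Homeomorph.Set.univ _)).isHomeomorph)
  have h2 : topologicalKrullDim ↥(X.hom.fiber (g (IsLocalRing.closedPoint K))) =
      topologicalKrullDim ↥(X.hom.base ⁻¹' {g (IsLocalRing.closedPoint K)}) :=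
    IsHomeomorph.topologicalKrullDim_eq _ (X.hom.fiberHomeo _).isHomeomorph
  exact h2.symm.trans (h.symm.trans h1)

/-- A smooth connected affine group over an algebraically closed field is integral of finite dimension. -/
theorem integral_dim {K : Type u} [Field K] [IsAlgClosed K] (G : Over (Spec (CommRingCat.of K))) [GrpObj G]
    [IsAffine G.left] [Smooth G.hom] [ConnectedSpace G.left] :
    IsIntegral G.left ∧ topologicalKrullDim ↥G.left ≠ ⊤ := by
  obtain ⟨A, _, _, v, hv, hA, hred⟩ := BorelLib.exists_setup G
  haveI := hv; haveI := hA; haveI := hred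
  letI := BorelLib.pTop (k := K) (R := A)
  obtain ⟨hKc, hK⟩ := BorelLib.facts_top v
  haveI : IsDomain A := BorelLib.isDomain_of_irreducible (k := K) (by
    simpa using BorelLib.isIrreducible_of_connected hKc hK)
  haveI : IsIso v.inv.left := (Over.forget _).map_isIso v.inv
  haveI : IsIntegral (CoactBr.sp K A).left := inferInstanceAs (IsIntegral (Spec (CommRingCat.of A)))
  haveI : Nonempty ↥G.left := ConnectedSpace.toNonempty
  refine ⟨isIntegral_of_isOpenImmersion (v.inv.left : G.left ⟶ Spec (CommRingCat.of A)), ?_⟩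
  obtain ⟨n, hn⟩ := BorelLib.exists_dim K A
  rw [IsHomeomorph.topologicalKrullDim_eq _ (Scheme.homeoOfIso (asIso v.inv.left)).isHomeomorph]
  show topologicalKrullDim (PrimeSpectrum A) ≠ ⊤
  rw [PrimeSpectrum.topologicalKrullDim_eq_ringKrullDim, hn]
  exact fun h => WithTop.natCast_ne_top n (WithBot.coe_injective h)

/-- Let G be a smooth affine group scheme with connected fibres over a scheme S, T ⊆ G a subtorus with
centralizer Z = Z_G(T) ⊇ T, and s ∈ S a point at which the geometric fibre of G is reductive and the
geometric fibre of T is a maximal torus. Then over some open neighbourhood U of s the inclusion T →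
Z_G(T) is an isomorphism and T is a maximal torus of G. (The published statement allows disconnected
fibres and concerns identity components; here the fibres of G are connected.) -/
theorem result {S : Scheme.{u}} {G T Z : Over S} [GrpObj G] [GrpObj T] [GrpObj Z]
    (hG : Smooth G.hom) (hGa : IsAffineHom G.hom) (hconn : ∀ s : S, _root_.IsConnected (G.hom.base ⁻¹' {s}))
    (i : T ⟶ G) [IsMonHom i] [Mono i] (hT : Red.IsTorus T) (z : Z ⟶ G) (hz : Red.IsCentralizerOf i z)
    (f : T ⟶ Z) (hf : f ≫ z = i) (s : S)
    (hs : Red.IsReductiveOver (AlgebraicClosure (S.residueField s)) (Red.geomFibre s G))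
    (hTs : Red.IsMaximalTorus ((Over.pullback (Red.geomPt s)).map i)) :
    ∃ U : S.Opens, s ∈ U ∧ IsIso ((Over.pullback U.ι).map f) ∧ Red.IsMaximalTorus ((Over.pullback U.ι).map i) := by
  classical
  haveI := hG; haveI := hGa; haveI := hz.1; haveI := hz.2.1
  haveI hci : IsClosedImmersion i.left :=
    Transporter.isClosedImmersion_of_mono (RedRank.locally_of_isTorus hT) hGa i
  obtain ⟨⟨C, _, c, hc, hcl, hsm⟩, -⟩ := S3006.result S G T i hci hT
  haveI := hcl; haveI := hsm; haveI := hc.1; haveI := hc.2.1
  obtain ⟨a, ha⟩ := (hc.2.2 Z z).2 ((hz.2.2 Z z).1 ⟨𝟙 Z, Category.id_comp z⟩)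
  obtain ⟨b, hb⟩ := (hz.2.2 C c).2 ((hc.2.2 C c).1 ⟨𝟙 C, Category.id_comp c⟩)
  haveI : IsIso a := ⟨b, by rw [← cancel_mono z, Category.assoc, hb, ha, Category.id_comp],
    by rw [← cancel_mono c, Category.assoc, ha, hb, Category.id_comp]⟩
  haveI : IsIso a.left := (Over.forget _).map_isIso a
  haveI : IsClosedImmersion z.left := by rw [← ha, Over.comp_left]; infer_instance
  haveI : Smooth Z.hom := by rw [← Over.w a]; infer_instance
  haveI : IsClosedImmersion (f.left ≫ z.left) := by rw [← Over.comp_left, hf]; infer_instance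
  haveI : IsClosedImmersion f.left := IsClosedImmersion.of_comp f.left z.left
  haveI := EqNhd.flat_of_isMultTypeFT (RedRank.isMultTypeFT_of_isTorus hT)
  haveI := MultEq.lfp_of_isMultTypeFT (RedRank.isMultTypeFT_of_isTorus hT)
  let d := fun (X : Over S) (t : S) => topologicalKrullDim ↥(X.hom.base ⁻¹' {t})
  have hdT := S3022.result S T
  have hdZ := S3022.result S Z
  let U : S.Opens := ⟨{t | d T t = d T s} ∩ {t | d Z t = d Z s},
    (hdT.isOpen_fiber _).inter (hdZ.isOpen_fiber _)⟩
  have hgconn : ∀ t : S, ConnectedSpace ↥(Red.geomFibre t G).left := fun t =>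
    CentLocus.connectedSpace_geom (fun t => (RCentre.conn_fibre_iff G.hom t).1 (hconn t)) (Red.geomPt t)
  -- the geometric fibres of the centralizer
  have hfib : ∀ t : S, Smooth (Red.geomFibre t Z).hom ∧ IsAffine (Red.geomFibre t Z).left ∧
      ConnectedSpace ↥(Red.geomFibre t Z).left := fun t => by
    haveI := hgconn t
    haveI : IsAffineHom Z.hom := by rw [← Over.w z]; infer_instance
    haveI := RedRank.isAffineHom_bc Z (Red.geomPt t)
    haveI := RedRank.isAffineHom_bc G (Red.geomPt t)
    haveI : IsAffine (Red.geomFibre t G).left := isAffine_of_isAffineHom (Red.geomFibre t G).hom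
    haveI : Smooth (Red.geomFibre t G).hom := MorphismProperty.pullback_snd (P := @Smooth) _ _ inferInstance
    haveI : IsMonHom (M := Red.geomFibre t T) (N := Red.geomFibre t G) ((Over.pullback (Red.geomPt t)).map i) :=
      DiagRep.isMonHom_bc_map _ i
    haveI := RCentre.mono_bc_map i (Red.geomPt t)
    obtain ⟨h1, h2⟩ := BorelLib.centralizer_connected ((Over.pullback (Red.geomPt t)).map i)
      (RedRank.isTorus_bc hT _) (MaxTorusRank.isCentralizerOf_bc hz (Red.geomPt t))
    exact ⟨h1, isAffine_of_isAffineHom (Red.geomFibre t Z).hom, h2⟩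
  have hzero : d T s = d Z s := by
    let q := Red.geomPt s
    haveI := hgconn s
    haveI := RedRank.isAffineHom_bc G q
    haveI : IsAffine (Red.geomFibre s G).left := isAffine_of_isAffineHom (Red.geomFibre s G).hom
    haveI : Smooth (Red.geomFibre s G).hom := MorphismProperty.pullback_snd (P := @Smooth) _ _ inferInstance
    haveI := hTs.1; haveI := hTs.2.1
    haveI : IsIso ((Over.pullback q).map f) :=
      BorelLib.isIso_centralizer_maxTorus (IsLocalRing.closedPoint _) (BorelLib.isReductive_of_isReductiveOver hs)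
        hTs (MaxTorusRank.isCentralizerOf_bc hz q) ((Over.pullback q).map f) (by rw [← Functor.map_comp, hf])
    haveI : IsIso ((Over.pullback q).map f).left := (Over.forget _).map_isIso ((Over.pullback q).map f)
    show topologicalKrullDim _ = topologicalKrullDim _
    rw [dim_fibre_bc T q s (RedRank.geomPt_apply s), dim_fibre_bc Z q s (RedRank.geomPt_apply s)]
    exact IsHomeomorph.topologicalKrullDim_eq _
      (Scheme.homeoOfIso (asIso ((Over.pullback q).map f).left)).isHomeomorph
  have hisoU : ∀ t ∈ U, IsIso ((Over.pullback (Red.geomPt t)).map f) := by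
    intro t ht
    let q := Red.geomPt t
    obtain ⟨h1, h2, h3⟩ := hfib t
    haveI := h1; haveI := h2; haveI := h3
    haveI : IsMonHom (M := Red.geomFibre t Z) (N := Red.geomFibre t G) ((Over.pullback q).map z) :=
      DiagRep.isMonHom_bc_map _ z
    obtain ⟨hint, hfin⟩ := integral_dim (Red.geomFibre t Z)
    haveI := hint
    haveI : IsClosedImmersion ((Over.pullback q).map f).left := BorelLib.isClosedImmersion_bc q f
    haveI : IsIso ((Over.pullback q).map f).left := S10839.result _ hfin (by
      rw [← dim_fibre_bc Z q t (RedRank.geomPt_apply t), ← dim_fibre_bc T q t (RedRank.geomPt_apply t)]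
      exact ht.2.trans (hzero.symm.trans ht.1.symm))
    haveI : IsIso ((Over.forget _).map ((Over.pullback q).map f)) := ‹IsIso ((Over.pullback q).map f).left›
    exact isIso_of_reflects_iso _ (Over.forget _)
  refine ⟨U, ⟨rfl, rfl⟩, ?_⟩
  let fU := (Over.pullback U.ι).map f
  have hgeo : ∀ u : U.toScheme, IsIso ((Over.pullback (Red.geomPt u)).map fU) := fun u => by
    obtain ⟨g, hg⟩ := MaxTorusRank.exists_lift_geomPt (Red.geomPt u ≫ U.ι) u.1 (by
      rw [Scheme.Hom.comp_apply, RedRank.geomPt_apply]; rfl)
    haveI := hisoU u.1 u.2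
    haveI h1 : IsIso ((Over.pullback (g ≫ Red.geomPt u.1)).map f) :=
      (NatIso.isIso_map_iff (Over.pullbackComp g (Red.geomPt u.1)) f).2
        (inferInstanceAs (IsIso ((Over.pullback g).map ((Over.pullback (Red.geomPt u.1)).map f))))
    rw [hg] at h1
    exact (NatIso.isIso_map_iff (Over.pullbackComp (Red.geomPt u) U.ι) f).1 h1
  haveI : IsClosedImmersion fU.left := BorelLib.isClosedImmersion_bc U.ι f
  haveI : Flat (Red.bc U.ι T).hom := MorphismProperty.pullback_snd (P := @Flat) _ _ inferInstance
  haveI : LocallyOfFinitePresentation (Red.bc U.ι T).hom :=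
    MorphismProperty.pullback_snd (P := @LocallyOfFinitePresentation) _ _ inferInstance
  haveI : LocallyOfFiniteType (Red.bc U.ι Z).hom :=
    MorphismProperty.pullback_snd (P := @LocallyOfFiniteType) _ _ inferInstance
  haveI hiso : IsIso fU := RCentre.isIso_of_le_fibres fU fun u => by
    let q := Red.geomPt u
    haveI := hgeo u
    have hle : MultEq.LE (𝟙 (Red.bc U.ι Z)) fU q := RedRank.le_of_bc_factor _ fU q (inv ((Over.pullback q).map fU))
      (by rw [IsIso.inv_hom_id, CategoryTheory.Functor.map_id])
    exact RedRank.geomPt_apply u ▸ (MultEq.le_field_iff q).1 hle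
  refine ⟨hiso, DiagRep.isMonHom_bc_map _ i, RCentre.mono_bc_map i U.ι, RedRank.isTorus_bc hT _, ?_⟩
  intro u T' _ j _ _ g hT' hg
  let q := Red.geomPt u
  let iU := (Over.pullback U.ι).map i
  have hzU := MaxTorusRank.isCentralizerOf_bc (MaxTorusRank.isCentralizerOf_bc hz U.ι) q
  obtain ⟨w, hw⟩ := (hzU.2.2 T' j).2 fun X x y => by
    rw [← hg, ← Category.assoc, ← MonObj.mul_comp, ← MonObj.mul_comp, RCentre.commute_torus hT']
  haveI := hgeo u
  let g' : T' ⟶ Red.geomFibre u (Red.bc U.ι T) := w ≫ inv ((Over.pullback q).map fU)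
  have hfz : (Over.pullback q).map fU ≫ (Over.pullback q).map ((Over.pullback U.ι).map z) =
      (Over.pullback q).map iU := by
    rw [← Functor.map_comp, ← Functor.map_comp, hf]
  have hg' : g' ≫ (Over.pullback q).map iU = j := by
    rw [← hfz, Category.assoc, IsIso.inv_hom_id_assoc, hw]
  haveI : Mono iU := RCentre.mono_bc_map i U.ι
  haveI : Mono ((Over.pullback q).map iU) := RCentre.mono_bc_map iU q
  exact ⟨g', by rw [← cancel_mono ((Over.pullback q).map iU), Category.assoc, hg', hg, Category.id_comp],
    by rw [← cancel_mono j, Category.assoc, hg, hg', Category.id_comp]⟩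

end Groth.Agent.S16774
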