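import Groth.Statements.S6956
import Groth.Agent.DRingLib.Devissage
import Groth.Agent.DRingLib.PCohMore
import Groth.Agent.DRingLib.AmplitudeTri

set_option autoImplicit false
universe u
open CategoryTheory CategoryTheory.Limits
attribute [local instance] HasDerivedCategory.standard
open DRing

namespace Groth.Agent.S6956

/-- Let A → B be a homomorphism of commutative rings such that B is perfect as an A-module, and let K be
a perfect object of D(B). Then K, with scalars restricted to A, is a perfect object of D(A). -/
theorem result {A B : Type u} [CommRing A] [CommRing B] [Algebra A B]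
    (hB : DRing.IsPerfectModule A B) (K : Dual.D B) (hK : DRing.IsPerfect B K) :
    DRing.IsPerfect A ((DRing.restrictD (algebraMap A B)).obj K) := by
  let F := ModuleCat.restrictScalars.{u} (algebraMap A B)
  let S := DerivedCategory.singleFunctor (ModuleCat.{u} A) 0
  let V : ModuleCat.{u} B → Prop := fun M => DRing.IsPerfect A (S.obj (F.obj M))
  have V_iso : ∀ {M N : ModuleCat.{u} B}, (M ≅ N) → V M → V N := fun {M N} e h =>
    Groth.Agent.DRingLib.isPerfect_of_iso (S.mapIso (F.mapIso e)) h
  have retr : ∀ {K L : Dual.D A} (i : K ⟶ L) (r : L ⟶ K), i ≫ r = 𝟙 K → DRing.IsPerfect A L →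
      DRing.IsPerfect A K := by
    intro K L i r hir h
    haveI : IsSplitMono i := IsSplitMono.mk' ⟨r, hir⟩
    obtain ⟨C, g, δ, hT⟩ := Pretriangulated.distinguished_cocone_triangle i
    haveI : Mono (Pretriangulated.Triangle.mk i g δ).mor₁ := inferInstanceAs (Mono i)
    obtain ⟨e, -, -⟩ := Pretriangulated.exists_iso_binaryBiproduct_of_distTriang _ hT
      (Pretriangulated.Triangle.mor₃_eq_zero_iff_mono₁ _ hT |>.2 inferInstance)
    obtain ⟨hp, a, c, ha⟩ := Groth.Agent.DRingLib.isPerfect_iff.mp
      (Groth.Agent.DRingLib.isPerfect_of_iso e h)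
    exact Groth.Agent.DRingLib.isPerfect_iff.mpr
      ⟨fun m => (Groth.Agent.DRingLib.isPseudoCoherent_of_biprod (hp m)).1, a, c,
        Groth.Agent.DRingLib.hasTorAmplitudeIn_of_retract Limits.biprod.inl Limits.biprod.fst
          Limits.biprod.inl_fst ha⟩
  have hfree : ∀ n : ℕ, V (ModuleCat.of B (Fin n → B)) := by
    intro n
    induction n with
    | zero =>
      exact Groth.Agent.DRingLib.isPerfect_of_isZero (S.map_isZero (F.map_isZero
        (ModuleCat.isZero_of_subsingleton _)))
    | succ n ih =>
      have h1 : V (ModuleCat.of B B) := Groth.Agent.DRingLib.isPerfect_of_iso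
        (S.mapIso (LinearEquiv.toModuleIso
          ({ AddEquiv.refl B with map_smul' := fun r x => Algebra.smul_def r x } :
            (ModuleCat.of A B : ModuleCat.{u} A) ≃ₗ[A] (F.obj (ModuleCat.of B B))))) hB
      refine V_iso (ModuleCat.biprodIsoProd (ModuleCat.of B B) (ModuleCat.of B (Fin n → B)) ≪≫
        (Fin.consLinearEquiv B (fun _ : Fin (n + 1) => B)).toModuleIso) ?_
      haveI : Limits.PreservesBinaryBiproducts F :=
        Limits.preservesBinaryBiproducts_of_preservesBiproducts F
      haveI : Limits.PreservesBinaryBiproducts S :=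
        Limits.preservesBinaryBiproducts_of_preservesBiproducts S
      refine Groth.Agent.DRingLib.isPerfect_of_iso
        (S.mapIso (F.mapBiprod (ModuleCat.of B B) (ModuleCat.of B (Fin n → B))) ≪≫
          S.mapBiprod (F.obj (ModuleCat.of B B)) (F.obj (ModuleCat.of B (Fin n → B)))).symm ?_
      exact Groth.Agent.DRingLib.devissable_isPerfect.ext _
        (Pretriangulated.binaryBiproductTriangle_distinguished _ _) h1 ih
  have hproj : ∀ M : ModuleCat.{u} B, Module.Finite B M → Module.Projective B M → V M := by
    intro M hfin hp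
    obtain ⟨n, q, hq⟩ := Module.Finite.exists_fin' B M
    obtain ⟨s, hs⟩ := Module.projective_lifting_property q LinearMap.id hq
    refine retr (S.map (F.map (ModuleCat.ofHom s))) (S.map (F.map (ModuleCat.ofHom q))) ?_ (hfree n)
    rw [← S.map_comp, ← F.map_comp, ← ModuleCat.ofHom_comp, hs, ModuleCat.ofHom_id]
    exact (congrArg S.map (F.map_id _)).trans (S.map_id _)
  let G := DRing.restrictD (algebraMap A B)
  have hD : Groth.Agent.DRingLib.Devissable (fun X : Dual.D B => DRing.IsPerfect A (G.obj X)) :=
    { iso := fun e h => Groth.Agent.DRingLib.isPerfect_of_iso (G.mapIso e) h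
      zero := fun h => Groth.Agent.DRingLib.isPerfect_of_isZero (G.map_isZero h)
      ext := fun T hT h1 h3 => Groth.Agent.DRingLib.devissable_isPerfect.ext _
        (G.map_distinguished T hT) h1 h3 }
  obtain ⟨E, a, b, hv, hE, ⟨e⟩⟩ := hK
  refine Groth.Agent.DRingLib.isPerfect_of_iso (G.mapIso e) (hD.of_terms a (b + 1 - a).toNat E
    (fun i hi => hv i (by omega)) fun i => ?_)
  exact Groth.Agent.DRingLib.isPerfect_of_iso
    ((F.mapDerivedCategorySingleFunctor i).app (E.X i)).symm
    (Groth.Agent.DRingLib.isPerfect_singleFunctor (N := F.obj (E.X i))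
      (show V (E.X i) from hproj _ (hE i).1 (hE i).2) i)

end Groth.Agent.S6956
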