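import Groth.Statements.S6952
import Groth.Agent.PQLib.Derived
import Groth.Agent.TwoTermLib.Nil
import Groth.Agent.DRingLib.FlatBC
import Groth.Agent.DRingLib.Devissage

set_option autoImplicit false
universe u
open CategoryTheory CategoryTheory.Limits
attribute [local instance] HasDerivedCategory.standard
open DRing

namespace Groth.Agent.S6952

/-- Let R' → R be a surjective homomorphism of commutative rings whose kernel is a nilpotent ideal, such
that the derived base change D(R') → D(R) exists. Let K' be an object of D(R') and a, b integers.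
Then K' ⊗^L R has tor amplitude in [a, b] over R if and only if K' has tor amplitude in [a, b] over
R'. -/
theorem result {R' R : Type u} [CommRing R']
    [CommRing R] (φ : R' →+* R) (hφ : Function.Surjective φ) (hnil : IsNilpotent (RingHom.ker φ))
    [DRing.HasLBaseChange φ] (K' : Dual.D R') (a b : ℤ) :
    DRing.HasTorAmplitudeIn R a b ((DRing.LBaseChange φ).obj K') ↔ DRing.HasTorAmplitudeIn R' a b K' := by
  obtain ⟨C, hC, ⟨e⟩⟩ := Groth.Agent.DRingLib.exists_good_rep K'
  have hE : DRing.IsKFlat R ((Groth.Agent.DRingLib.extCx φ).obj C) := KFlatLib.isKFlat_extend φ hC.1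
  rw [Groth.Agent.DRingLib.hasTorAmplitudeIn_iff_amp hE
      ((Groth.Agent.DRingLib.lBaseChangeObjIso φ C hC.1).symm ≪≫ (DRing.LBaseChange φ).mapIso e),
    Groth.Agent.DRingLib.hasTorAmplitudeIn_iff_amp hC.1 e]
  constructor
  · intro h N i hi
    exact Groth.Agent.TwoTermLib.Nil.isZero_tensorN_of_extCx φ hφ hnil C hC.2 i (fun M => h M i hi) N
  · intro h N i hi
    letI : Module R' N := Module.compHom N φ
    exact (Groth.Agent.TwoTermLib.Nil.isZero_extCx_tensorN_iff φ C N (fun _ _ => rfl) i).2
      (h (ModuleCat.of R' N) i hi)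

end Groth.Agent.S6952
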