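import Groth.Statements.S6971
import Groth.Agent.PQLib.Derived
import Groth.Agent.TwoTermLib.Nil
import Groth.Agent.DRingLib.FlatBC
import Groth.Agent.DRingLib.Devissage

set_option autoImplicit false
universe u
open CategoryTheory CategoryTheory.Limits
attribute [local instance] HasDerivedCategory.standard
open DRing

namespace Groth.Agent.S6971

/-- Let R' → R be a surjective homomorphism of commutative rings whose kernel is a nilpotent ideal, such
that the derived base change D(R') → D(R) exists, and let K' be an object of D(R'). Then K' ⊗^L R is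
pseudo-coherent over R (isomorphic in D(R) to a bounded above complex of finite free modules) if and
only if K' is pseudo-coherent over R'. -/
theorem result {R' R : Type u} [CommRing R'] [CommRing R]
    (φ : R' →+* R) (hφ : Function.Surjective φ) (hnil : IsNilpotent (RingHom.ker φ))
    [DRing.HasLBaseChange φ] (K' : Dual.D R') :
    DRing.IsPseudoCoherent' R ((DRing.LBaseChange φ).obj K') ↔ DRing.IsPseudoCoherent' R' K' := by
  constructor
  swap
  · rintro ⟨E, b, hb, hE, ⟨e⟩⟩
    refine ⟨(Groth.Agent.DRingLib.extCx φ).obj E, b,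
      fun i hi => (ModuleCat.extendScalars.{u, u, u} φ).map_isZero (hb i hi),
      fun i => ⟨Groth.Agent.DRingLib.finite_extCx φ i (hE i).1,
        Groth.Agent.DRingLib.free_extCx φ i (hE i).2⟩, ⟨?_⟩⟩
    exact (Groth.Agent.DRingLib.lBaseChangeObjIso φ E
      (Groth.Agent.DRingLib.isKFlat_of_free E b hb fun i => (hE i).2)).symm ≪≫
        (DRing.LBaseChange φ).mapIso e
  intro h
  obtain ⟨E', b, hb, hE', ⟨e'⟩⟩ := id h
  haveI := Groth.Agent.DRingLib.isKProjective_of_free E' b hb fun i => (hE' i).2
  obtain ⟨C, hC, ⟨e⟩⟩ := Groth.Agent.DRingLib.exists_good_rep K'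
  have hCR : DRing.IsKFlat R ((Groth.Agent.DRingLib.extCx φ).obj C) := KFlatLib.isKFlat_extend φ hC.1
  obtain ⟨g, hg⟩ := Groth.Agent.DRingLib.exists_qis_of_iso E' ((Groth.Agent.DRingLib.extCx φ).obj C)
    (e' ≪≫ (DRing.LBaseChange φ).mapIso e.symm ≪≫ Groth.Agent.DRingLib.lBaseChangeObjIso φ C hC.1)
  -- `K'` is bounded above
  have hKb : ∀ i, b < i → Limits.IsZero ((Groth.Agent.DRingLib.Hn R' i).obj K') := by
    intro i hi
    have h1 : ∀ N : ModuleCat.{u} R, Limits.IsZero
        ((KFlatLib.tensorN ((Groth.Agent.DRingLib.extCx φ).obj C) N).homology i) := by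
      intro N
      have hq := Groth.Agent.DRingLib.quasiIso_tensorN g
        (Groth.Agent.DRingLib.isKFlat_of_free E' b hb fun i => (hE' i).2) hCR N
      haveI : IsIso (HomologicalComplex.homologyMap ((Groth.Agent.DRingLib.tensorNF N).map g) i) :=
        (quasiIsoAt_iff_isIso_homologyMap _ _).mp (hq.quasiIsoAt i)
      have hz : Limits.IsZero (((Groth.Agent.DRingLib.tensorNF N).obj E').X i) :=
        (MonoidalCategory.tensorRight N).map_isZero (hb i hi)
      exact ((HomologicalComplex.exactAt_iff_isZero_homology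
        ((Groth.Agent.DRingLib.tensorNF N).obj E') i).mp (ShortComplex.exact_of_isZero_X₂ _ hz)).of_iso
          (asIso (HomologicalComplex.homologyMap ((Groth.Agent.DRingLib.tensorNF N).map g) i)).symm
    let eC : KFlatLib.tensorN C (MonoidalCategoryStruct.tensorUnit (ModuleCat.{u} R')) ≅ C :=
      HomologicalComplex.Hom.isoOfComponents (fun n => MonoidalCategory.rightUnitor (C.X n))
        (fun p q _ => (MonoidalCategory.rightUnitor_naturality (C.d p q)).symm)
    exact (Groth.Agent.DRingLib.isZero_Hn_of_homology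
      ((Groth.Agent.TwoTermLib.Nil.isZero_tensorN_of_extCx φ hφ hnil C hC.2 i h1 R').of_iso
        ((HomologicalComplex.homologyFunctor _ _ i).mapIso eC.symm))).of_iso
      ((Groth.Agent.DRingLib.Hn R' i).mapIso e.symm)
  obtain ⟨P, hPb, hPf, ⟨eP⟩⟩ := Groth.Agent.DRingLib.exists_free_rep K' b hKb
  have hPk := Groth.Agent.DRingLib.isKFlat_of_free P b hPb hPf
  refine Groth.Agent.DRingLib.isPseudoCoherent'_iff_forall.2 fun m => ?_
  suffices ∀ j : ℕ, DRing.IsPseudoCoherent R' (b + 1 - j) K' by
    exact Groth.Agent.DRingLib.isPseudoCoherent_mono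
      (by have := Int.self_le_toNat (b + 1 - m); omega) (this (b + 1 - m).toNat)
  intro j
  induction j with
  | zero => exact Groth.Agent.DRingLib.isPseudoCoherent_of_isZero fun i hi => hKb i (by omega)
  | succ j ih =>
    obtain ⟨n, hn, hn'⟩ : ∃ n, b + 1 - (j : ℤ) = n + 1 ∧ b + 1 - ((j + 1 : ℕ) : ℤ) = n :=
      ⟨b - j, by omega, by push_cast; omega⟩
    rw [hn] at ih
    rw [hn']
    obtain ⟨E, α, hE, hα⟩ := Groth.Agent.DRingLib.isPseudoCoherent_iff.1 ih
    haveI := hE.isKProjective
    obtain ⟨f, hf⟩ := Groth.Agent.DRingLib.Q_map_surjective E P (α ≫ eP.inv)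
    let F := CochainComplex.mappingCone f
    have hF := DerivedCategory.mappingCone_triangle_distinguished f
    have hα' : Groth.Agent.DRingLib.Approx (n + 1) (DerivedCategory.Q.map f) := by
      rw [hf]
      exact hα.comp (Groth.Agent.DRingLib.Approx.of_isIso _ _)
    have hFz : ∀ i, n < i → Limits.IsZero ((Groth.Agent.DRingLib.Hn R' i).obj (DerivedCategory.Q.obj F)) :=
      fun i hi => (Groth.Agent.DRingLib.Approx.iff_cone (n + 1) _ hF).1 hα' i (by omega)
    obtain ⟨G, hGb, hGf, ⟨eG⟩⟩ := Groth.Agent.DRingLib.exists_free_rep (DerivedCategory.Q.obj F) n hFz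
    have hGk := Groth.Agent.DRingLib.isKFlat_of_free G n hGb hGf
    have hFk : DRing.IsKFlat R' F := KFlatLib.isKFlat_mappingCone hE.isKFlat hPk f
    let eGF : DerivedCategory.Q.obj ((Groth.Agent.DRingLib.extCx φ).obj G) ≅
        DerivedCategory.Q.obj (CochainComplex.mappingCone ((Groth.Agent.DRingLib.extCx φ).map f)) :=
      (Groth.Agent.DRingLib.lBaseChangeObjIso φ G hGk).symm ≪≫ (DRing.LBaseChange φ).mapIso eG ≪≫
        Groth.Agent.DRingLib.lBaseChangeObjIso φ F hFk ≪≫
        DerivedCategory.Q.mapIso (CochainComplex.mappingCone.mapHomologicalComplexIso f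
          (ModuleCat.extendScalars.{u, u, u} φ))
    have hpc : DRing.IsPseudoCoherent R n
        (DerivedCategory.Q.obj ((Groth.Agent.DRingLib.extCx φ).obj G)) := by
      refine Groth.Agent.DRingLib.isPseudoCoherent_of_iso eGF.symm
        (Groth.Agent.DRingLib.isPseudoCoherent_obj₃ _
          (DerivedCategory.mappingCone_triangle_distinguished ((Groth.Agent.DRingLib.extCx φ).map f))
          n (Groth.Agent.DRingLib.isPseudoCoherent_bddFree (hE.extCx φ) _) ?_)
      exact Groth.Agent.DRingLib.isPseudoCoherent_of_iso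
        ((DRing.LBaseChange φ).mapIso eP.symm ≪≫ Groth.Agent.DRingLib.lBaseChangeObjIso φ P hPk)
        (Groth.Agent.DRingLib.isPseudoCoherent'_iff_forall.1 h n)
    have hfin : Module.Finite R (((Groth.Agent.DRingLib.extCx φ).obj G).homology n) := by
      have := Groth.Agent.DRingLib.finite_of_isPseudoCoherent hpc fun i hi =>
        Groth.Agent.DRingLib.isZero_Hn_Q _ i
          ((ModuleCat.extendScalars.{u, u, u} φ).map_isZero (hGb i hi))
      exact Module.Finite.equiv (PQLib.homologyIso (E := (Groth.Agent.DRingLib.extCx φ).obj G)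
        (Iso.refl _) n).toLinearEquiv
    have hGfin := Groth.Agent.DRingLib.finite_Hn_Q
      (Groth.Agent.TwoTermLib.Nil.finite_top_homology φ hφ hnil G n hGb hfin)
    have hfinF : Module.Finite R' ((Groth.Agent.DRingLib.Hn R' n).obj (DerivedCategory.Q.obj F)) :=
      @Module.Finite.equiv _ _ _ _ _ _ _ _ hGfin
        ((Groth.Agent.DRingLib.Hn R' n).mapIso eG).toLinearEquiv
    exact Groth.Agent.DRingLib.isPseudoCoherent_of_iso eP
      (Groth.Agent.DRingLib.isPseudoCoherent_of_cone hE _ hF (Iso.refl _) hFz hfinF)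

end Groth.Agent.S6971
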