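import Groth.Statements.S16807
import Groth.Agent.AlgStSetoidLib.Basic
import Groth.Agent.AlgStBig.Rows5
import Groth.Agent.AlgSpLib.Iso
import Groth.Agent.AlgSpLib.Qc
import Groth.Agent.AlgStBig.Substack

set_option autoImplicit false
set_option linter.all false
set_option backward.isDefEq.respectTransparency false
set_option backward.isDefEq.respectTransparency.types false
universe u
open CategoryTheory AlgebraicGeometry
open Gerb

namespace Groth.Agent.S16807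

section
open CategoryTheory.Limits Opposite AlgSp FibCat FibLib AlgSpLib AlgStLib AlgStBig
open CategoryTheory.Functor (Fiber)

variable {S : Scheme.{u}}

lemma stableBC_isomorphisms : StableBC (MorphismProperty.isomorphisms (Sp S)) := by
  intro X₁ Y₁ X₂ Y₂ _ _ _ _ a b a' b' sq h
  exact MorphismProperty.of_isPullback sq h

/-- A monomorphism from a nonempty space to the spectrum of a field is an isomorphism. -/
theorem isIso_of_mono_fieldPt (k : Type u) [Field k] (a : Spec (CommRingCat.of k) ⟶ S) {H : Sp S}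
    (hH : IsAlgSpace H) (m : H ⟶ (yon S).obj (Over.mk a)) [Mono m]
    {B : Over S} (b : (yon S).obj B ⟶ H) [Nonempty ↥B.left] : IsIso m := by
  obtain ⟨U, p, hp, hp'⟩ := hH.atlas
  obtain ⟨t⟩ := (inferInstance : Nonempty ↥B.left)
  obtain ⟨w, -⟩ := map_surjective_of_repWith hp' (Points.map b (Points.schemeHomeo B t))
  obtain ⟨u, -⟩ := (Points.schemeHomeo U).surjective w
  obtain ⟨_, ⟨(O : U.left.Opens), hO, rfl⟩, hu, -⟩ := U.left.isBasis_affineOpens.exists_subset_of_mem_open (Set.mem_univ u) isOpen_univ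
  let V : Over S := Over.mk (O.ι ≫ U.hom)
  let j : V ⟶ U := Over.homMk O.ι rfl
  obtain ⟨φ, hφ⟩ := (yon S).map_surjective ((yon S).map j ≫ p ≫ m)
  haveI : IsAffine V.left := hO
  haveI : IsAffine (Over.mk a).left := inferInstanceAs (IsAffine (Spec (CommRingCat.of k)))
  haveI : Subsingleton ↥(Over.mk a).left := inferInstanceAs (Subsingleton (PrimeSpectrum k))
  haveI : IsIntegral (Over.mk a).left := inferInstanceAs (IsIntegral (Spec (CommRingCat.of k)))
  haveI : Flat φ.left := inferInstance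
  haveI : Surjective φ.left := ⟨fun x => ⟨⟨u, hu⟩, Subsingleton.elim _ _⟩⟩
  have hVs := IsAlgSpace.yon_obj (S := S) V
  have hTs := IsAlgSpace.yon_obj (S := S) (Over.mk a)
  have hcov := isFpqcCover_singleton hVs hTs (f := (yon S).map φ)
    ((locP_yon_map_iff φ).mpr inferInstance)
    (isQuasiCompactMor_of_repWith hVs hTs ((repWith_yon_map_iff @QuasiCompact φ).mpr inferInstance))
    (map_surjective_of_repWith ((repWith_yon_map_iff @Surjective φ).mpr inferInstance))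
  have sq := IsPullback.of_hasPullback m ((yon S).map φ)
  refine (isLocalOnBase_fpqc_isomorphisms S (ι := PUnit.{u + 1}) _ _ hTs (fun _ => hVs) hcov m hH _
    (fun _ => pullback.snd m ((yon S).map φ)) (fun _ => pullback.fst m ((yon S).map φ))
    (fun _ => isAlgSpace_of_isPullback hH hVs hTs sq) (fun _ => sq)).mpr fun _ => ?_
  haveI : IsSplitEpi (pullback.snd m ((yon S).map φ)) :=
    IsSplitEpi.mk' ⟨pullback.lift ((yon S).map j ≫ p) (𝟙 _) (by rw [Category.id_comp, Category.assoc, hφ]),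
      pullback.lift_snd _ _ _⟩
  exact isIso_of_mono_of_isSplitEpi (pullback.snd m ((yon S).map φ))

theorem main (S : Scheme.{u}) (𝒵' 𝒵 : AlgSt.Cat S) (h𝒵' : AlgSt.IsAlgStack Scheme.fppfPrecoverage 𝒵')
    (h𝒵 : AlgSt.IsAlgStack Scheme.fppfPrecoverage 𝒵) (f : 𝒵' ⥤ᵇ 𝒵) (hf : AlgSt.IsMono f)
    (k : Type u) [Field k] (a : Spec (CommRingCat.of k) ⟶ S)
    (z : FibCat.overCat (Over.mk a) ⥤ᵇ 𝒵)
    (hzp : AlgSt.RepByAlgSpWith (LocP @LocallyOfFinitePresentation) z)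
    (hzs : AlgSt.RepByAlgSpWith IsSurjectiveMor z) (hzf : AlgSt.RepByAlgSpWith (LocP @Flat) z)
    (hne : Nonempty (AlgSt.Points 𝒵')) : FibCat.IsEquivOver f := by
  haveI := h𝒵'.isStack.1
  haveI := h𝒵.isStack.1
  haveI : f.toFunctor.Faithful := (AlgStSetoidLib.repByAlgSp1_iff_faithful h𝒵' h𝒵 f).mp (repByAlgSp1_of_with hf)
  haveI := full_of_isMono hf
  let w : AlgSt.ofSch (Over.mk a) ⥤ᵇ 𝒵 := BasedFunctor.comp (AlgSt.toOverCat (Over.mk a)) z
  have hwp := repByAlgSpWith_toOverCat_comp hzp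
  have hws := repByAlgSpWith_toOverCat_comp hzs
  have hwf := repByAlgSpWith_toOverCat_comp hzf
  obtain ⟨H, m, hH, ⟨e, he, ⟨β⟩⟩, hm⟩ := (repByAlgSpWith_iff _ f).mp hf (Over.mk a) w
  haveI : Mono m := hm
  -- a point of the base change
  obtain ⟨x⟩ := hne
  obtain ⟨q, hq⟩ := surjective_of_repByAlgSpWith hws (AlgSt.Points.map f x)
  haveI : IsFibGrpd (AlgSt.ofSch (Over.mk a)).p :=
    AlgStBig.isFibGrpd_of_repByAlgSp (repByAlgSp_ofSp (IsAlgSpace.yon_obj _))
  obtain ⟨v, -, -⟩ := exists_point_fp (f := f) (g := w) q x hq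
  obtain ⟨r, rfl⟩ := AlgSt.Points.mk_surjective v
  obtain ⟨⟨_, _⟩, hE⟩ := (isEquivOver_iff e).mp he
  obtain ⟨o, i, -⟩ := hE r.obj
  have i' : o.base ≅ Over.mk r.str :=
    eqToIso (e.w_obj o).symm ≪≫ (FibCat.fp w f).p.mapIso i ≪≫ eqToIso r.lies
  haveI : Nonempty ↥o.base.left := ⟨i'.inv.left (IsLocalRing.closedPoint r.K)⟩
  haveI : IsIso m := isIso_of_mono_fieldPt k a hH m ((AlgSp.J S).uliftYonedaEquiv.symm o.sec)
  -- all base changes are isomorphisms
  have hP := isLocalOnBase_fppf_of_fpqc (isLocalOnBase_fpqc_isomorphisms S)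
  have hiso : AlgSt.RepByAlgSpWith (MorphismProperty.isomorphisms (Sp S)) f :=
    (repByAlgSpWith_iff_cover stableBC_isomorphisms hP (repByAlgSp1_of_with hf)
      ⟨(yon S).obj (Over.mk a), IsAlgSpace.yon_obj _⟩ hwf hwp hws).mpr
      ⟨⟨H, hH⟩, ObjectProperty.homMk m, e, he, ⟨β⟩, inferInstanceAs (IsIso m)⟩
  haveI : f.toFunctor.EssSurj := ⟨fun y => by
    let yb : 𝒵.p.Fiber (𝒵.p.obj y) := Functor.Fiber.mk (p := 𝒵.p) (a := y) rfl
    let u : AlgSt.ofSch (𝒵.p.obj y) ⥤ᵇ 𝒵 := BasedFunctor.comp (AlgSt.toOverCat _) (ofPoint yb)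
    obtain ⟨κ⟩ := nonempty_evalAtId_ofPoint_iso yb
    let ko : u.obj ⟨𝒵.p.obj y, ⟨𝟙 _⟩⟩ ≅ y :=
      ⟨κ.hom.1, κ.inv.1, congrArg Subtype.val κ.hom_inv_id, congrArg Subtype.val κ.inv_hom_id⟩
    obtain ⟨H', m', hH', ha', hm'⟩ := (repByAlgSpWith_iff _ f).mp hiso (𝒵.p.obj y) u
    haveI : IsIso m' := hm'
    obtain ⟨z', ⟨l⟩⟩ := exists_section_of_mem ha'
    exact ⟨z', ⟨l.symm ≪≫ ko⟩⟩⟩
  haveI : f.toFunctor.IsEquivalence := {}
  haveI : 𝒵'.p.IsFibered := FibLib.isFibered_of_isFibGrpd _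
  exact isEquivOver_of_isEquivalence_of_isFibered f

end

/-- Let 𝒵' → 𝒵 be a monomorphism of algebraic stacks and suppose 𝒵 receives a locally finitely
presented, surjective, flat morphism from the spectrum of a field. Then either 𝒵' is empty (has no
points) or 𝒵' → 𝒵 is an equivalence. -/
theorem result
    (S : Scheme.{u}) (𝒵' 𝒵 : AlgSt.Cat S) (h𝒵' : AlgSt.IsAlgStack Scheme.fppfPrecoverage 𝒵')
    (h𝒵 : AlgSt.IsAlgStack Scheme.fppfPrecoverage 𝒵) (f : 𝒵' ⥤ᵇ 𝒵) (hf : AlgSt.IsMono f)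
    (k : Type u) [Field k] (a : Spec (CommRingCat.of k) ⟶ S)
    (z : FibCat.overCat (Over.mk a) ⥤ᵇ 𝒵)
    (hzp : AlgSt.RepByAlgSpWith (AlgSp.LocP @LocallyOfFinitePresentation) z)
    (hzs : AlgSt.RepByAlgSpWith AlgSp.IsSurjectiveMor z) (hzf : AlgSt.RepByAlgSpWith (AlgSp.LocP @Flat) z) :
    IsEmpty (AlgSt.Points 𝒵') ∨ FibCat.IsEquivOver f := by
  open CategoryTheory.Limits Opposite AlgSp FibCat FibLib AlgSpLib AlgStLib AlgStBig in
  exact (isEmpty_or_nonempty (AlgSt.Points 𝒵')).imp_right fun hne => main S 𝒵' 𝒵 h𝒵' h𝒵 f hf k a z hzp hzs hzf hne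

end Groth.Agent.S16807
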