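import Groth.Statements.S1009
import Groth.Agent.ResBdyLib.Limit
import Groth.Agent.OmegaAffLib.StalkCrit

set_option autoImplicit false
set_option maxHeartbeats 1000000
set_option backward.isDefEq.respectTransparency false
set_option backward.isDefEq.respectTransparency.types false
set_option linter.all false
universe u
open CategoryTheory CategoryTheory.Limits AlgebraicGeometry
attribute [local instance] HasDerivedCategory.standard
open Perf
open ProjFormLib (res IsFrame)

namespace Groth.Agent.S1009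

theorem isAffineOpen_inf_of_chart {X : Scheme.{u}} {E : X.Modules} (σ : E ⟶ Coh.structureModule X) {U : X.Opens}
    (e : Γ(E, U)) (he : ResBdyLib.val σ e = 1) (c : ResBdyLib.Chart σ U) {V : X.Opens} (hV : IsAffineOpen V)
    (hVc : V ≤ c.V) : IsAffineOpen (U ⊓ V) := by
  classical
  let W : X.Opens := U ⊓ V
  have hWc : W ≤ c.V := inf_le_right.trans hVc
  let g : Fin c.n → Γ(X, W) := fun i => X.presheaf.map (homOfLE hWc).op (ResBdyLib.val σ (c.e i))
  let B := WedgeLib.frameBasis c.frame hWc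
  let a : Γ(E, W) := res E inf_le_left e
  have ha : ∑ i, B.repr a i * g i = 1 := by
    let φ : Γ(E, W) →+ Γ(X, W) := (σ.app W).hom
    have hφ : ∀ (r : Γ(X, W)) (b : Γ(E, W)), φ (r • b) = r * φ b := fun r b => QCohLib.app_smul σ W r b
    have h1 : φ a = 1 := by
      refine (ResBdyLib.val_res σ (inf_le_left : W ≤ U) e).symm.trans ?_
      rw [he, map_one]
    have h2 := congrArg φ (B.sum_repr a).symm
    rw [h1, map_sum] at h2
    refine Eq.trans (Finset.sum_congr rfl fun i _ => ?_) h2.symm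
    rw [hφ, WedgeLib.frameBasis_apply]
    exact congrArg (B.repr a i * ·) (ResBdyLib.val_res σ hWc (c.e i))
  refine isAffineOpen_of_isAffineOpen_basicOpen W (Set.range g) ?_ ?_
  · rw [Ideal.eq_top_iff_one, ← ha]
    exact Ideal.sum_mem _ fun i _ => Ideal.mul_mem_left _ _ (Ideal.subset_span ⟨i, rfl⟩)
  · rintro _ ⟨i, rfl⟩
    have h3 : X.basicOpen (g i) = X.basicOpen (X.presheaf.map (homOfLE hVc).op (ResBdyLib.val σ (c.e i))) := by
      ext1
      simp only [g, Scheme.basicOpen_res, TopologicalSpace.Opens.coe_inf]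
      ext y
      exact ⟨fun ⟨⟨_, hyV⟩, hy⟩ => ⟨hyV, hy⟩, fun ⟨hyV, hy⟩ => ⟨⟨c.basic_le i hy, hyV⟩, hy⟩⟩
    rw [h3]
    exact hV.basicOpen _

/-- Let the scheme X be quasi-compact and quasi-separated with the resolution property (every
finite-type quasi-coherent O_X-module is a quotient of a finite locally free one). Then X has affine
diagonal: the intersection of any two affine opens of X is affine. -/
theorem result (X : Scheme.{u}) [CompactSpace ↥X] [QuasiSeparatedSpace ↥X] (hX : PerfAux.HasResolutionProperty X)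
    (U V : X.Opens) (hU : IsAffineOpen U) (hV : IsAffineOpen V) : IsAffineOpen (U ⊓ V) := by
  classical
  obtain ⟨J, hJfg, hJ⟩ := MiscFlat6.exists_finiteType_idealSheaf U hU.isCompact
  haveI := SweepSix.ConormalSpec.isQCoh_idealMod J
  obtain ⟨E, π, hE, hπ⟩ := hX (ClSub.idealMod J) inferInstance (ResBdyLib.isFT_idealMod J hJfg)
  haveI := hπ
  haveI : Coh.IsQCoh E := (Groth.Agent.PerfLib.isCoh_of_isFinLocFree hE).1
  have hone : (1 : Γ(X, U)) ∈ J.ideal ⟨U, hU⟩ := by
    rw [show J.ideal ⟨U, hU⟩ = ⊤ from ?_]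
    · trivial
    refine (Ideal.span_eq _).symm.trans ((hU.self_le_iSup_basicOpen_iff (s := (J.ideal ⟨U, hU⟩ : Set Γ(X, U)))).mp
      fun y hy => TopologicalSpace.Opens.mem_iSup.mpr ?_)
    have hn : y ∉ X.zeroLocus (U := U) (J.ideal ⟨U, hU⟩ : Set Γ(X, U)) := by
      rw [← Scheme.IdealSheafData.mem_support_iff_of_mem (I := J) (U := ⟨U, hU⟩) hy]
      exact fun h => (hJ.le h : y ∈ (U : Set X)ᶜ) hy
    rw [Scheme.mem_zeroLocus_iff] at hn
    push_neg at hn
    obtain ⟨f, hf, hfy⟩ := hn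
    exact ⟨⟨f, hf⟩, hfy⟩
  obtain ⟨s, hs⟩ := GenFlatStrat.exists_idealMod_section J ⟨U, hU⟩ 1 hone
  obtain ⟨e, he⟩ := OmegaAffLib.surjective_app_of_epi π hU s
  have hval : ResBdyLib.val (π ≫ ClSub.idealModι J) e = 1 := by
    refine Eq.trans ?_ hs
    exact congrArg ((ClSub.idealModι J).app U) he
  choose c hc using ResBdyLib.exists_chart hE J π U hJ
  have hb : ∀ y : V, ∃ h : Γ(X, V), y.1 ∈ X.basicOpen h ∧ X.basicOpen h ≤ (c y.1).V := fun y => by
    obtain ⟨h, hle, hyh⟩ := hV.exists_basicOpen_le (V := (c y.1).V) ⟨y.1, hc y.1⟩ y.2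
    exact ⟨h, hyh, hle⟩
  choose h hh hhc using hb
  have hspan : Ideal.span (Set.range h) = ⊤ := hV.self_le_iSup_basicOpen_iff.mp fun y hy =>
    TopologicalSpace.Opens.mem_iSup.mpr ⟨⟨h ⟨y, hy⟩, ⟨⟨y, hy⟩, rfl⟩⟩, hh ⟨y, hy⟩⟩
  let ρ := (X.presheaf.map (homOfLE (inf_le_right : U ⊓ V ≤ V)).op).hom
  refine isAffineOpen_of_isAffineOpen_basicOpen (U ⊓ V) (Set.range fun y => ρ (h y)) ?_ ?_
  · have h1 := congrArg (Ideal.map ρ) hspan
    rw [Ideal.map_span, Ideal.map_top, ← Set.range_comp] at h1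
    exact h1
  · rintro _ ⟨y, rfl⟩
    have h2 : X.basicOpen (ρ (h y)) = U ⊓ X.basicOpen (h y) := by
      show X.basicOpen (X.presheaf.map _ (h y)) = _
      rw [Scheme.basicOpen_res, inf_assoc, inf_eq_right.mpr (X.basicOpen_le (h y))]
    show IsAffineOpen (X.basicOpen (ρ (h y)))
    rw [h2]
    exact isAffineOpen_inf_of_chart _ e hval (c y.1) (hV.basicOpen _) (hhc y)

end Groth.Agent.S1009
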