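import Groth.Statements.S6593
import Mathlib.CategoryTheory.Triangulated.Pretriangulated


-- import your own Groth.Agent.* helpers here

set_option autoImplicit false
universe w v u
open CategoryTheory CategoryTheory.Limits
open CohDer

namespace Groth.Agent.S6593

open CategoryTheory.Pretriangulated in
/-- Let D be a pretriangulated category and (X_i → Y_i → Z_i → X_i⟦1⟧)_{i ∈ I} a family of distinguished
triangles. If the direct sums ⨁ X_i, ⨁ Y_i, ⨁ Z_i exist, then ⨁ X_i → ⨁ Y_i → ⨁ Z_i → (⨁ X_i)⟦1⟧ is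
a distinguished triangle (the last map is induced by the composites Z_i → X_i⟦1⟧ → (⨁ X_i)⟦1⟧). -/
theorem result {D : Type u} [Category.{v} D] [Preadditive D] [HasZeroObject D] [HasShift D ℤ]
    [∀ n : ℤ, (shiftFunctor D n).Additive] [Pretriangulated D]
    {J : Type w} (T : J → Triangle D) (hT : ∀ j, T j ∈ distinguishedTriangles)
    [HasCoproduct (fun j => (T j).obj₁)] [HasCoproduct (fun j => (T j).obj₂)] [HasCoproduct (fun j => (T j).obj₃)] :
    Triangle.mk (Limits.Sigma.map (fun j => (T j).mor₁)) (Limits.Sigma.map (fun j => (T j).mor₂))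
      (Sigma.desc (fun j => (T j).mor₃ ≫ (shiftFunctor D (1 : ℤ)).map (Sigma.ι (fun j => (T j).obj₁) j))) ∈ distinguishedTriangles := by
  classical
  let f₁ := Limits.Sigma.map (fun j => (T j).mor₁)
  let g₂ := Limits.Sigma.map (fun j => (T j).mor₂)
  let g₃ := Sigma.desc (fun j => (T j).mor₃ ≫ (shiftFunctor D (1 : ℤ)).map (Sigma.ι (fun j => (T j).obj₁) j))
  obtain ⟨Z, f₂, f₃, hT'⟩ := distinguished_cocone_triangle f₁
  let φ : ∀ j, T j ⟶ Triangle.mk f₁ f₂ f₃ := fun j => completeDistinguishedTriangleMorphism _ _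
    (hT j) hT' (Sigma.ι (fun j => (T j).obj₁) j) (Sigma.ι (fun j => (T j).obj₂) j)
    (Sigma.ι_map (fun j => (T j).mor₁) j).symm
  let θ : (∐ fun j => (T j).obj₃) ⟶ Z := Sigma.desc (fun j => (φ j).hom₃)
  have h₂ : g₂ ≫ θ = f₂ := Sigma.hom_ext _ _ fun j => by
    rw [Sigma.ι_map_assoc, Sigma.ι_desc]
    exact (φ j).comm₂
  have h₃ : θ ≫ f₃ = g₃ := Sigma.hom_ext _ _ fun j => by
    rw [Sigma.ι_desc_assoc, Sigma.ι_desc]
    exact (φ j).comm₃.symm
  let hc₂ := isColimitOfPreserves (shiftFunctor D (1 : ℤ)) (coproductIsCoproduct fun j => (T j).obj₂)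
  let hc₁ := isColimitOfPreserves (shiftFunctor D (1 : ℤ)) (coproductIsCoproduct fun j => (T j).obj₁)
  have hθ : IsIso θ := by
    refine isIso_of_coyoneda_map_bijective θ fun A => ⟨?_, ?_⟩
    · suffices Epi θ by
        intro a₁ a₂ ha
        exact (cancel_epi θ).1 ha
      rw [Preadditive.epi_iff_cancel_zero]
      intro A a ha
      have h0 : f₂ ≫ a = 0 := by rw [← h₂, Category.assoc, ha, comp_zero]
      obtain ⟨g, rfl⟩ := Triangle.yoneda_exact₃ _ hT' a h0
      have hg : g₃ ≫ g = 0 := by rw [← h₃, Category.assoc]; exact ha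
      have hj : ∀ j, ∃ h : (T j).obj₂⟦(1 : ℤ)⟧ ⟶ A,
          (shiftFunctor D (1 : ℤ)).map (Sigma.ι (fun j => (T j).obj₁) j) ≫ g = (T j).mor₁⟦(1 : ℤ)⟧' ≫ h := by
        intro j
        have := congrArg (fun t => Sigma.ι (fun j => (T j).obj₃) j ≫ t) hg
        simp only [g₃, Sigma.ι_desc_assoc, comp_zero, Category.assoc] at this
        obtain ⟨(h : (T j).obj₂⟦(1 : ℤ)⟧ ⟶ A), hh⟩ := Triangle.yoneda_exact₂ _
          (rot_of_distTriang _ (rot_of_distTriang _ (hT j))) _ this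
        exact ⟨-h, hh.trans ((Preadditive.neg_comp _ _).trans (Preadditive.comp_neg _ _).symm)⟩
      choose h hh using hj
      have e : g = f₁⟦(1 : ℤ)⟧' ≫ hc₂.desc ⟨A, Discrete.natTrans fun ⟨j⟩ => h j⟩ := by
        refine hc₁.hom_ext fun ⟨j⟩ => ?_
        change (shiftFunctor D (1 : ℤ)).map (Sigma.ι (fun j => (T j).obj₁) j) ≫ g =
          (shiftFunctor D (1 : ℤ)).map (Sigma.ι (fun j => (T j).obj₁) j) ≫ _
        rw [hh j, ← Category.assoc, ← Functor.map_comp, Sigma.ι_map, Functor.map_comp, Category.assoc]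
        congr 1
        exact (hc₂.fac (⟨A, Discrete.natTrans fun ⟨j⟩ => h j⟩ : Cocone _) ⟨j⟩).symm
      rw [e]
      have := comp_distTriang_mor_zero₃₁ _ hT'
      exact ((Category.assoc _ _ _).symm.trans (congrArg (fun t => t ≫ _) this)).trans zero_comp
    · intro b
      obtain ⟨(a₀ : Z ⟶ A), (ha₀ : g₂ ≫ b = f₂ ≫ a₀)⟩ := Triangle.yoneda_exact₂ _ hT' (g₂ ≫ b) (by
        change f₁ ≫ g₂ ≫ b = 0
        rw [← Category.assoc]
        convert zero_comp
        refine Sigma.hom_ext _ _ fun j => ?_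
        rw [Sigma.ι_map_assoc, Sigma.ι_map, comp_zero, ← Category.assoc,
          comp_distTriang_mor_zero₁₂ _ (hT j), zero_comp])
      have hj : ∀ j, ∃ c : (T j).obj₁⟦(1 : ℤ)⟧ ⟶ A,
          Sigma.ι (fun j => (T j).obj₃) j ≫ (b - θ ≫ a₀) = (T j).mor₃ ≫ c := by
        intro j
        refine Triangle.yoneda_exact₃ _ (hT j) _ ?_
        have := congrArg (fun t => Sigma.ι (fun j => (T j).obj₂) j ≫ t) ha₀
        rw [← h₂, Category.assoc] at this
        simp only [g₂, Sigma.ι_map_assoc] at this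
        rw [Preadditive.comp_sub, Preadditive.comp_sub, this, sub_self]
      choose c hc using hj
      let C : (∐ fun j => (T j).obj₁)⟦(1 : ℤ)⟧ ⟶ A := hc₁.desc (⟨A, Discrete.natTrans fun ⟨j⟩ => c j⟩)
      refine ⟨a₀ + f₃ ≫ C, ?_⟩
      change θ ≫ (a₀ + f₃ ≫ C) = b
      rw [Preadditive.comp_add, ← Category.assoc, h₃, ← eq_sub_iff_add_eq']
      refine Sigma.hom_ext _ _ fun j => ?_
      rw [hc j, Sigma.ι_desc_assoc, Category.assoc]
      congr 1
      exact hc₁.fac _ ⟨j⟩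
  exact isomorphic_distinguished _ hT' _ (Triangle.isoMk _ _ (Iso.refl _) (Iso.refl _) (@asIso _ _ _ _ θ hθ)
    ((Category.comp_id _).trans (Category.id_comp _).symm) (h₂.trans (Category.id_comp _).symm)
    (by
      change g₃ ≫ (shiftFunctor D (1 : ℤ)).map (𝟙 _) = θ ≫ f₃
      rw [CategoryTheory.Functor.map_id, Category.comp_id, h₃]))

end Groth.Agent.S6593
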