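import Groth.Statements.S18817
import Mathlib
import Groth.Agent.TorsTupleLib.IsoCrit
import Groth.Agent.TorsTupleLib.SmoothCrit
import Groth.Agent.AntiAffLib.Image
import Groth.Agent.GrpFieldLib.Comps
import Groth.Agent.FinHomLib.Affine
-- import your own Groth.Agent.* helpers here

set_option autoImplicit false
set_option backward.isDefEq.respectTransparency false
set_option maxHeartbeats 1000000
universe u
open CategoryTheory MonoidalCategory CartesianMonoidalCategory MonObj AlgebraicGeometry
open AlgGrp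

namespace Groth.Agent.S18817

open Limits in
/-- A morphism from a flat scheme is an isomorphism as soon as it is one on geometric fibres. -/
theorem isIso_of_geom {S : Scheme.{u}} {X Y : Over S} (f : X ⟶ Y) [Flat X.hom] [LocallyOfFinitePresentation X.hom]
    [LocallyOfFiniteType Y.hom]
    (h : ∀ (K : Type u) [Field K] [IsAlgClosed K] (ξ : Spec (CommRingCat.of K) ⟶ S),
      IsIso ((Over.pullback ξ).map f)) : IsIso f := by
  let δ : X ⟶ pullback f f := pullback.diagonal f
  haveI : LocallyOfFiniteType (f.left ≫ Y.hom) := by rw [Over.w f]; infer_instance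
  haveI : LocallyOfFiniteType f.left := locallyOfFiniteType_of_comp f.left Y.hom
  haveI : LocallyOfFiniteType (pullback f f).hom := by
    haveI : LocallyOfFiniteType (pullback.snd f f).left := MorphismProperty.of_isPullback
      (P := @LocallyOfFiniteType) ((IsPullback.of_hasPullback f f).map (Over.forget S)) ‹_›
    rw [← Over.w (pullback.snd f f)]
    infer_instance
  haveI : IsIso δ := TorsTuple.isIso_of_mono_geom δ fun K _ _ ξ => by
    haveI := h K ξ
    haveI := ((IsPullback.of_hasPullback f f).map (Over.pullback ξ)).isIso_snd_of_isIso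
    haveI : IsIso ((Over.pullback ξ).map δ ≫ (Over.pullback ξ).map (pullback.snd f f)) := by
      rw [← Functor.map_comp, pullback.diagonal_snd, CategoryTheory.Functor.map_id]
      infer_instance
    exact IsIso.of_isIso_comp_right ((Over.pullback ξ).map δ) ((Over.pullback ξ).map (pullback.snd f f))
  haveI : Mono f := (pullback.isIso_diagonal_iff f).1 inferInstance
  exact TorsTuple.isIso_of_mono_geom f h

variable {k : Type u} [Field k] {M G : Over (Spec (CommRingCat.of k))} [MonObj M] [LocallyOfFiniteType M.hom]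

open Limits in
/-- A translation of a monoid scheme which is invertible at geometric points is invertible. -/
theorem isIso_translation {T : Over (Spec (CommRingCat.of k))} (L : M ⊗ T ⟶ M ⊗ T)
    (hL : L ≫ snd M T = snd M T)
    (h : ∀ (K : Type u) [Field K] [IsAlgClosed K] (ξ : Spec (CommRingCat.of K) ⟶ T.left),
      ∃ L' : M ⊗ Over.mk (ξ ≫ T.hom) ⟶ M ⊗ Over.mk (ξ ≫ T.hom), IsIso L' ∧
        L' ≫ snd M _ = snd M _ ∧ L' ≫ (M ◁ (Over.homMk ξ rfl : Over.mk (ξ ≫ T.hom) ⟶ T)) =
          (M ◁ (Over.homMk ξ rfl : Over.mk (ξ ≫ T.hom) ⟶ T)) ≫ L) : IsIso L := by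
  let X : Over T.left := Over.mk (snd M T).left
  let φ : X ⟶ X := Over.homMk L.left (by
    show L.left ≫ (snd M T).left = (snd M T).left
    rw [← Over.comp_left, hL])
  haveI : Flat M.hom := Groth.Agent.GrpField.flat_field _
  haveI : LocallyOfFinitePresentation M.hom :=
    LocallyOfFinitePresentation.iff_locallyOfFiniteType.2 inferInstance
  haveI : Flat X.hom := MorphismProperty.pullback_snd (P := @Flat) M.hom T.hom inferInstance
  haveI : LocallyOfFinitePresentation X.hom :=
    MorphismProperty.pullback_snd (P := @LocallyOfFinitePresentation) M.hom T.hom inferInstance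
  haveI : IsIso φ := isIso_of_geom φ fun K _ _ ξ => by
    obtain ⟨L', hiso, hs, hc⟩ := h K ξ
    haveI := hiso
    haveI : IsIso L'.left := inferInstanceAs (IsIso ((Over.forget _).map L'))
    let a : Over.mk (ξ ≫ T.hom) ⟶ T := Over.homMk ξ rfl
    have sq : IsPullback (M ◁ a).left (snd M (Over.mk (ξ ≫ T.hom))).left (snd M T).left ξ :=
      Groth.Agent.FinHom.isPullback_whiskerLeft M a
    have e : ((Over.pullback ξ).map φ).left = sq.isoPullback.inv ≫ L'.left ≫ sq.isoPullback.hom := by
      have h1 : ((Over.pullback ξ).map φ).left ≫ pullback.fst (snd M T).left ξ = pullback.fst (snd M T).left ξ ≫ L.left :=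
        pullback.lift_fst _ _ _
      have h2 : ((Over.pullback ξ).map φ).left ≫ pullback.snd (snd M T).left ξ = pullback.snd (snd M T).left ξ :=
        pullback.lift_snd _ _ _
      refine pullback.hom_ext (h1.trans ?_) (h2.trans ?_)
      · show _ = sq.isoPullback.inv ≫ L'.left ≫ sq.isoPullback.hom ≫ pullback.fst (snd M T).left ξ
        rw [sq.isoPullback_hom_fst, ← Over.comp_left, hc, Over.comp_left,
          sq.isoPullback_inv_fst_assoc]
      · show _ = sq.isoPullback.inv ≫ L'.left ≫ sq.isoPullback.hom ≫ pullback.snd (snd M T).left ξ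
        rw [sq.isoPullback_hom_snd, ← Over.comp_left, hs, sq.isoPullback_inv_snd]
    haveI : IsIso ((Over.forget _).map ((Over.pullback ξ).map φ)) := by
      show IsIso ((Over.pullback ξ).map φ).left
      rw [e]; infer_instance
    exact isIso_of_reflects_iso _ (Over.forget _)
  haveI : IsIso ((Over.forget _).map L) := inferInstanceAs (IsIso ((Over.forget _).map φ))
  exact isIso_of_reflects_iso L (Over.forget _)

variable (i : G ⟶ M) (hi : ∀ (T : Over (Spec (CommRingCat.of k))) (m : T ⟶ M), (∃ g : T ⟶ G, g ≫ i = m) ↔ IsUnit m)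

include hi in
/-- A point of the monoid whose image lies in the group of units is invertible. -/
theorem isUnit_of_range [Mono i] [LocallyOfFiniteType i.left] {T : Over (Spec (CommRingCat.of k))} (m : T ⟶ M)
    (hm : Set.range m.left.base ⊆ Set.range i.left.base) : IsUnit m := by
  haveI : Mono i.left := inferInstanceAs (Mono ((Over.forget _).map i))
  have hgeom : ∀ (K : Type u) [Field K] [IsAlgClosed K] (ξ : Spec (CommRingCat.of K) ⟶ T.left),
      IsUnit ((Over.homMk ξ rfl : Over.mk (ξ ≫ T.hom) ⟶ T) ≫ m) := by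
    intro K _ _ ξ
    let a : Over.mk (ξ ≫ T.hom) ⟶ T := Over.homMk ξ rfl
    let c : Spec (CommRingCat.of K) ⟶ M.left := (a ≫ m).left
    haveI : Subsingleton ↥(Spec (CommRingCat.of K)) := inferInstanceAs (Subsingleton (PrimeSpectrum K))
    let pr := Limits.pullback.snd i.left c
    haveI : Mono pr := inferInstance
    haveI : Surjective pr := ⟨fun z => by
      obtain ⟨g, hg⟩ := hm ⟨ξ z, rfl⟩
      obtain ⟨w, -, hw⟩ := Scheme.Pullback.exists_preimage_pullback (f := i.left) (g := c) g z hg
      exact ⟨w, hw⟩⟩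
    haveI : Subsingleton ↥(Limits.pullback i.left c) :=
      ⟨fun x y => pr.injective (Subsingleton.elim _ _)⟩
    haveI : CompactSpace ↥(Limits.pullback i.left c) := ⟨Set.subsingleton_univ.finite.isCompact⟩
    haveI : QuasiCompact pr := quasiCompact_of_compactSpace pr
    haveI : Flat pr := Groth.Agent.GrpField.flat_field _
    haveI : IsIso pr := Flat.isIso_of_surjective_of_mono pr
    have e : (inv pr ≫ Limits.pullback.fst i.left c) ≫ i.left = c := by
      rw [Category.assoc, Limits.pullback.condition, IsIso.inv_hom_id_assoc]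
    refine (hi _ _).1 ⟨Over.homMk (inv pr ≫ Limits.pullback.fst i.left c) ?_, Over.OverMorphism.ext e⟩
    rw [← Over.w i, ← Category.assoc, e]
    exact Over.w (a ≫ m)
  let L : M ⊗ T ⟶ M ⊗ T := lift ((snd M T ≫ m) * fst M T) (snd M T)
  let R : M ⊗ T ⟶ M ⊗ T := lift (fst M T * (snd M T ≫ m)) (snd M T)
  have hiL : IsIso L := isIso_translation L (by simp [L]) fun K _ _ ξ => by
    obtain ⟨u, hu⟩ := hgeom K ξ
    let Tk : Over (Spec (CommRingCat.of k)) := Over.mk (ξ ≫ T.hom)
    refine ⟨lift ((snd M Tk ≫ (u : Tk ⟶ M)) * fst M Tk) (snd M Tk),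
      ⟨lift ((snd M Tk ≫ (↑u⁻¹ : Tk ⟶ M)) * fst M Tk) (snd M Tk), ?_, ?_⟩, lift_snd _ _, ?_⟩
    · refine CartesianMonoidalCategory.hom_ext _ _ ?_ (by simp; exact lift_snd _ _)
      rw [Category.assoc, lift_fst, MonObj.comp_mul, lift_fst, lift_snd_assoc, ← _root_.mul_assoc, ← MonObj.comp_mul,
        Units.inv_mul, MonObj.comp_one, _root_.one_mul, Category.id_comp]
    · refine CartesianMonoidalCategory.hom_ext _ _ ?_ (by simp; exact lift_snd _ _)
      rw [Category.assoc, lift_fst, MonObj.comp_mul, lift_fst, lift_snd_assoc, ← _root_.mul_assoc, ← MonObj.comp_mul,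
        Units.mul_inv, MonObj.comp_one, _root_.one_mul, Category.id_comp]
    · refine CartesianMonoidalCategory.hom_ext _ _ ?_ (by simp [L, Tk])
      simp [L, Tk, MonObj.comp_mul, hu]
  have hiR : IsIso R := isIso_translation R (by simp [R]) fun K _ _ ξ => by
    obtain ⟨u, hu⟩ := hgeom K ξ
    let Tk : Over (Spec (CommRingCat.of k)) := Over.mk (ξ ≫ T.hom)
    refine ⟨lift (fst M Tk * (snd M Tk ≫ (u : Tk ⟶ M))) (snd M Tk),
      ⟨lift (fst M Tk * (snd M Tk ≫ (↑u⁻¹ : Tk ⟶ M))) (snd M Tk), ?_, ?_⟩, lift_snd _ _, ?_⟩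
    · refine CartesianMonoidalCategory.hom_ext _ _ ?_ (by simp; exact lift_snd _ _)
      rw [Category.assoc, lift_fst, MonObj.comp_mul, lift_fst, lift_snd_assoc, _root_.mul_assoc, ← MonObj.comp_mul,
        Units.mul_inv, MonObj.comp_one, _root_.mul_one, Category.id_comp]
    · refine CartesianMonoidalCategory.hom_ext _ _ ?_ (by simp; exact lift_snd _ _)
      rw [Category.assoc, lift_fst, MonObj.comp_mul, lift_fst, lift_snd_assoc, _root_.mul_assoc, ← MonObj.comp_mul,
        Units.inv_mul, MonObj.comp_one, _root_.mul_one, Category.id_comp]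
    · refine CartesianMonoidalCategory.hom_ext _ _ ?_ (by simp [R, Tk])
      simp [R, Tk, MonObj.comp_mul, hu]
  obtain ⟨nr, hnr⟩ : ∃ n : T ⟶ M, m * n = 1 := by
    let s := lift (1 : T ⟶ M) (𝟙 T) ≫ inv L
    have h1 : s ≫ L = lift (1 : T ⟶ M) (𝟙 T) := by simp [s]
    have h2 : s ≫ snd M T = 𝟙 T := by
      have := congrArg (· ≫ snd M T) h1
      simpa [L] using this
    refine ⟨s ≫ fst M T, ?_⟩
    have := congrArg (· ≫ fst M T) h1
    simpa [L, MonObj.comp_mul, reassoc_of% h2] using this
  obtain ⟨nl, hnl⟩ : ∃ n : T ⟶ M, n * m = 1 := by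
    let s := lift (1 : T ⟶ M) (𝟙 T) ≫ inv R
    have h1 : s ≫ R = lift (1 : T ⟶ M) (𝟙 T) := by simp [s]
    have h2 : s ≫ snd M T = 𝟙 T := by
      have := congrArg (· ≫ snd M T) h1
      simpa [R] using this
    refine ⟨s ≫ fst M T, ?_⟩
    have := congrArg (· ≫ fst M T) h1
    simpa [R, MonObj.comp_mul, reassoc_of% h2] using this
  exact ⟨⟨m, nr, hnr, by rwa [← left_inv_eq_right_inv hnl hnr]⟩, rfl⟩

include hi in
/-- The group of units is locally of finite type. -/
theorem lft_units [Mono i] : LocallyOfFiniteType i.left := by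
  obtain ⟨u, hu⟩ := (hi G i).1 ⟨𝟙 G, Category.id_comp i⟩
  let φ : G ⟶ M ⊗ M := lift i (↑u⁻¹ : G ⟶ M)
  let ψ : M ⊗ M ⟶ M ⊗ M := lift (fst M M * snd M M) (snd M M * fst M M)
  let e : 𝟙_ (Over (Spec (CommRingCat.of k))) ⟶ M ⊗ M := lift η[M] η[M]
  have he : ∀ (T : Over (Spec (CommRingCat.of k))), toUnit T ≫ η[M] = (1 : T ⟶ M) := fun T => (Hom.one_def).symm
  have hm1 : (↑u : G ⟶ M) * ↑u⁻¹ = 1 := u.mul_inv
  have hm2 : (↑u⁻¹ : G ⟶ M) * ↑u = 1 := u.inv_mul
  rw [hu] at hm1 hm2
  have hw : φ ≫ ψ = toUnit G ≫ e := by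
    refine CartesianMonoidalCategory.hom_ext _ _ ?_ ?_
    · simp [φ, ψ, e, MonObj.comp_mul, he, hm1]
    · simp [φ, ψ, e, MonObj.comp_mul, he, hm2]
  have key : ∀ c : Limits.PullbackCone ψ e, ∃ g : c.pt ⟶ G, g ≫ φ = c.fst := fun c => by
    have h := c.condition
    have h1 : (c.fst ≫ fst M M) * (c.fst ≫ snd M M) = 1 := by
      have := congrArg (· ≫ fst M M) h
      simpa [ψ, e, MonObj.comp_mul, toUnit_unique c.snd (toUnit c.pt), he] using this
    have h2 : (c.fst ≫ snd M M) * (c.fst ≫ fst M M) = 1 := by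
      have := congrArg (· ≫ snd M M) h
      simpa [ψ, e, MonObj.comp_mul, toUnit_unique c.snd (toUnit c.pt), he] using this
    obtain ⟨g, hg⟩ := (hi c.pt (c.fst ≫ fst M M)).2 ⟨⟨_, _, h1, h2⟩, rfl⟩
    refine ⟨g, CartesianMonoidalCategory.hom_ext _ _ (by simpa [φ] using hg) ?_⟩
    rw [Category.assoc, lift_snd]
    refine left_inv_eq_right_inv (a := g ≫ i) ?_ ?_
    · rw [← MonObj.comp_mul, hm2, MonObj.comp_one]
    · rw [hg, h1]
  have sq : IsPullback φ (toUnit G) ψ e := by
    refine IsPullback.of_isLimit' ⟨hw⟩ (Limits.PullbackCone.IsLimit.mk _ (fun c => (key c).choose)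
      (fun c => (key c).choose_spec) (fun c => toUnit_unique _ _) (fun c m h1 _ => ?_))
    haveI : Mono φ := mono_of_mono_fac (show φ ≫ fst M M = i by simp [φ])
    exact (cancel_mono φ).1 (h1.trans (key c).choose_spec.symm)
  haveI : LocallyOfFiniteType e.left := by
    haveI : LocallyOfFiniteType (e.left ≫ (M ⊗ M).hom) := by
      rw [Over.w e]; exact inferInstanceAs (LocallyOfFiniteType (𝟙 (Spec (CommRingCat.of k))))
    exact locallyOfFiniteType_of_comp e.left (M ⊗ M).hom
  haveI : LocallyOfFiniteType φ.left :=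
    MorphismProperty.of_isPullback (P := @LocallyOfFiniteType) (sq.map (Over.forget _)).flip ‹_›
  haveI : LocallyOfFiniteType (fst M M).left :=
    MorphismProperty.pullback_fst (P := @LocallyOfFiniteType) M.hom M.hom ‹_›
  rw [show i = φ ≫ fst M M by simp [φ], Over.comp_left]
  infer_instance

/-- Let k be a field and M an algebraic monoid over k, i.e. a monoid object in k-schemes whose
underlying scheme is of finite type over k, and assume M is geometrically integral. Let i : G → M be
the group of units of M: a monomorphism of k-schemes such that, for every k-scheme T, a T-valued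
point of M factors through i if and only if it is invertible in the monoid M(T). Then i is an open
immersion. -/
theorem result (k : Type u) [Field k]
    (M G : Over (Spec (CommRingCat.of k))) [MonObj M] [LocallyOfFiniteType M.hom] [QuasiCompact M.hom]
    [GeometricallyIntegral M.hom] (i : G ⟶ M) [Mono i]
    (hi : ∀ (T : Over (Spec (CommRingCat.of k))) (m : T ⟶ M), (∃ g : T ⟶ G, g ≫ i = m) ↔ IsUnit m) :
    IsOpenImmersion i.left := by
  haveI := lft_units i hi
  haveI : IsLocallyNoetherian M.left := LocallyOfFiniteType.isLocallyNoetherian M.hom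
  haveI : LocallyOfFinitePresentation i.left := LocallyOfFinitePresentation.iff_locallyOfFiniteType.2 inferInstance
  haveI : Mono i.left := inferInstanceAs (Mono ((Over.forget _).map i))
  haveI : Smooth i.left := Groth.Agent.TorsTuple.smooth_of_lifts i.left fun _ => ⟨⊤, trivial, fun C _ I hI p _ τ hτ => by
    let T : Over (Spec (CommRingCat.of k)) := Over.mk (p ≫ M.hom)
    let m : T ⟶ M := Over.homMk p rfl
    have hm : Set.range m.left.base ⊆ Set.range i.left.base := by
      rintro _ ⟨z, rfl⟩
      obtain ⟨w, hw⟩ : z ∈ Set.range (Spec.map (CommRingCat.ofHom (Ideal.Quotient.mk I))) := by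
        show z ∈ Set.range (PrimeSpectrum.comap (Ideal.Quotient.mk I))
        rw [range_comap_of_surjective _ _ Ideal.Quotient.mk_surjective, PrimeSpectrum.mem_zeroLocus,
          Ideal.mk_ker]
        exact fun x hx => (z : PrimeSpectrum C).isPrime.mem_of_pow_mem 2 (by
          have h2 : x ^ 2 ∈ I ^ 2 := Ideal.pow_mem_pow hx 2
          rw [hI] at h2
          rw [Ideal.mem_bot.1 h2]
          exact zero_mem _)
      refine ⟨τ w, ?_⟩
      rw [← Scheme.Hom.comp_apply, hτ, Scheme.Hom.comp_apply, hw]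
      rfl
    obtain ⟨g, hg⟩ := (hi T m).2 (isUnit_of_range i hi m hm)
    have hg' : g.left ≫ i.left = p := by rw [← Over.comp_left, hg]; rfl
    exact ⟨g.left, (cancel_mono i.left).1 (by rw [Category.assoc, hg', hτ]), hg'⟩⟩
  exact IsOpenImmersion.of_flat_of_mono i.left


end Groth.Agent.S18817
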