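import Groth.Statements.S17885
import Groth.Agent.NoethApproxLib.Restrict
-- import your own Groth.Agent.* helpers here

set_option autoImplicit false
universe u
open CategoryTheory AlgebraicGeometry
open Lim

namespace Groth.Agent.S17885

/-- Let f : Y → X be a morphism of schemes with X and Y quasi-compact and quasi-separated. Then f is
affine if and only if the X-scheme Y is a limit, in the category of schemes over X, of a filtered
inverse system of X-schemes that are affine and of finite presentation over X. -/
theorem result {X Y : Scheme.{u}} (f : Y ⟶ X)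
    [CompactSpace X] [QuasiSeparatedSpace X] [CompactSpace Y] [QuasiSeparatedSpace Y] :
    IsAffineHom f ↔
      ∃ (I : Type u) (_ : SmallCategory I) (_ : IsFiltered I) (D : Iᵒᵖ ⥤ Over X)
        (c : Limits.Cone D) (_ : Limits.IsLimit c),
        (∀ i, IsAffineHom (D.obj i).hom ∧ LocallyOfFinitePresentation (D.obj i).hom) ∧
        Nonempty (c.pt ≅ Over.mk f) := by
  constructor
  · intro _
    obtain ⟨P⟩ := NoethApproxLib.exists_system f
    obtain ⟨j₀, h⟩ := P.exists_isAffineHom
    let R := P.tail j₀
    exact ⟨R.J, inferInstance, inferInstance, R.D, Limits.Cone.mk _ R.π, R.isLimit,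
      fun i ↦ ⟨h _ (homOfLE i.unop.2).op, R.lfp i⟩, ⟨Iso.refl _⟩⟩
  · rintro ⟨I, _, _, D, c, hc, h, ⟨e⟩⟩
    haveI := NoethApproxLib.isAffineHom_of_isLimit_over D c hc fun i ↦ (h i).1
    rw [show f = e.inv.left ≫ c.pt.hom from (Over.w e.inv).symm]
    haveI : IsIso e.inv.left := inferInstanceAs (IsIso ((Over.forget X).map e.inv))
    infer_instance

end Groth.Agent.S17885
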