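import Groth.Statements.S7292
import Groth.Agent.RzLib.LimitVal
import Groth.Agent.RzLib.HTop
import Groth.Agent.S17885

set_option autoImplicit false
open CategoryTheory CategoryTheory.Limits AlgebraicGeometry Opposite
universe w u
open HTop

namespace Groth.Agent.S7292

/-- Let f be a morphism of affine schemes from X to Y. The following are equivalent: (1) the one-member
family given by f is a standard V covering; (2) X (with f) is the limit, as a scheme over Y, of a
cofiltered system of affine schemes X_i over Y such that each one-member family X_i over Y is a ph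
covering; (3) the same with each X_i over Y an h covering. -/
theorem result {X Y : Scheme.{u}} [IsAffine X] [IsAffine Y] (f : X ⟶ Y) :
    List.TFAE
      [HTop.IsStandardV (PreZeroHypercover.singleton.{w} f),
       ∃ (I : Type u) (_ : SmallCategory I) (_ : IsCofiltered I) (D : I ⥤ Over Y) (c : Cone D)
          (_ : IsLimit ((Over.forget Y).mapCone c)) (_ : c.pt ≅ Over.mk f),
          (∀ i, IsAffine (D.obj i).left) ∧ ∀ i, HTop.IsPhCover (PreZeroHypercover.singleton.{w} (D.obj i).hom),
       ∃ (I : Type u) (_ : SmallCategory I) (_ : IsCofiltered I) (D : I ⥤ Over Y) (c : Cone D)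
          (_ : IsLimit ((Over.forget Y).mapCone c)) (_ : c.pt ≅ Over.mk f),
          (∀ i, IsAffine (D.obj i).left) ∧ ∀ i, HTop.IsHCover (PreZeroHypercover.singleton.{w} (D.obj i).hom)] := by
  tfae_have 1 → 3 := by
    intro h
    obtain ⟨I, _, _, D, c, hc, hD, ⟨e⟩⟩ := (Groth.Agent.S17885.result f).1 inferInstance
    haveI : IsConnected Iᵒᵖ := IsCofiltered.isConnected _
    refine ⟨Iᵒᵖ, inferInstance, inferInstance, D, c, isLimitOfPreserves (Over.forget Y) hc, e, fun i => ?_, fun i => ?_⟩
    · haveI := (hD i).1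
      exact isAffine_of_isAffineHom (D.obj i).hom
    · haveI := (hD i).1
      refine ⟨fun _ => (hD i).2, (VCovLib.isVCover_singleton_iff.{w, w, u} (D.obj i).hom).mpr fun V _ _ g => ?_⟩
      obtain ⟨W, h₁, h₂, φ, hφ, _j, l, hl⟩ := h.lift V g
      let l' : Spec W ⟶ X := l
      have hl' : l' ≫ f = Spec.map φ ≫ g := hl
      refine ⟨W, h₁, h₂, φ, hφ, PUnit.unit, l' ≫ e.inv.left ≫ (c.π.app i).left, ?_⟩
      change (l' ≫ e.inv.left ≫ (c.π.app i).left) ≫ (D.obj i).hom = _
      simp only [Category.assoc]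
      rw [Over.w (c.π.app i)]
      erw [Over.w e.inv]
      exact hl'
  tfae_have 3 → 2 := by
    rintro ⟨I, h₁, h₂, D, c, hc, e, hA, hH⟩
    exact ⟨I, h₁, h₂, D, c, hc, e, hA, fun i => RzLib.isPhCover_of_isVCover _ (hH i).1 (hH i).2⟩
  tfae_have 2 → 1 := by
    rintro ⟨I, _, _, D, c, hc, e, hA, hPh⟩
    haveI := hA
    have h : HTop.HasValLift (PreZeroHypercover.singleton.{w} c.pt.hom) :=
      RzLib.hasValLift_singleton_of_isLimit D c hc fun i =>
        (VCovLib.isVCover_singleton_iff.{w, w, u} (D.obj i).hom).mp (RzLib.isVCover_of_isPhCover _ (hPh i))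
    refine ⟨inferInstance, inferInstanceAs (Finite PUnit), fun _ => inferInstanceAs (IsAffine X), fun V _ _ g => ?_⟩
    obtain ⟨W, h₁, h₂, φ, hφ, _j, l, hl⟩ := h V g
    let l' : Spec W ⟶ c.pt.left := l
    have hl' : l' ≫ c.pt.hom = Spec.map φ ≫ g := hl
    refine ⟨W, h₁, h₂, φ, hφ, PUnit.unit, l' ≫ e.hom.left, ?_⟩
    change (l' ≫ e.hom.left) ≫ f = _
    rw [Category.assoc]
    erw [Over.w e.hom]
    exact hl'
  tfae_finish

end Groth.Agent.S7292
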