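import Groth.Statements.S0005
import Mathlib
import Groth.Agent.PurityLib.Extend
import Groth.Agent.PunctFEtLib.Punctured
-- import your own Groth.Agent.* helpers here

set_option autoImplicit false
universe u
open FEt

namespace Groth.Agent.S0005

open CategoryTheory AlgebraicGeometry in
/-- Purity for finite étale covers, global form: let X be a Noetherian scheme all of whose local rings
are regular and U ⊆ X an open subscheme such that every point of X outside U has local ring of Krull
dimension at least 2. Then restriction of finite étale covers from X to U is an equivalence of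
categories. -/
theorem result (X : Scheme.{u}) [IsNoetherian X]
    (hreg : ∀ x : X, IsRegularLocalRing (X.presheaf.stalk x)) (U : X.Opens)
    (hU : ∀ x : X, x ∉ U → (2 : WithBot ℕ∞) ≤ ringKrullDim (X.presheaf.stalk x)) :
    (FEt.restrict U.ι).IsEquivalence := by
  haveI := PurityLib.essSurj_restrict hreg U hU
  obtain ⟨h1, h2⟩ : (FEt.restrict U.ι).Full ∧ (FEt.restrict U.ι).Faithful := by
    refine PunctFEtLib.restrict_full_faithful U fun Y => ?_
    haveI : Etale Y.hom := Y.prop.2
    refine PunctFEtLib.invisible_preimage (X := X) Y.hom U fun x hx => ?_
    haveI := hreg x
    haveI := CommAlgDim.isDomain_of_isRegularLocalRing (X.presheaf.stalk x)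
    haveI := NormalLib.isIntegrallyClosed_of_isRegularLocalRing (X.presheaf.stalk x)
    exact RefHullLib.two_le_depth_normal (hU x hx)
  exact { }

end Groth.Agent.S0005
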