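import Groth.Statements.S0008
import Groth.Agent.CechLib.Compare
import Groth.Agent.QCohLib.Vanishing

set_option autoImplicit false
universe u
open Coherent

namespace Groth.Agent.S0008

open AlgebraicGeometry in
/-- For a ring A, an A-module M and elements f_1, …, f_n generating the unit ideal, the Čech cohomology
of the associated module on Spec A with respect to the covering by the basic opens D(f_i) vanishes
in every positive degree. -/
theorem result (A : Type u) [CommRing A] (M : ModuleCat.{u} A)
    (n : ℕ) (f : ULift.{u} (Fin n) → A) (hf : Ideal.span (Set.range f) = ⊤) (p : ℕ) (hp : 0 < p) :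
    CategoryTheory.Limits.IsZero (CohB1.cechH (fun i => PrimeSpectrum.basicOpen (f i)) (tilde (R := CommRingCat.of A) M) p) := by
  obtain ⟨q, rfl⟩ : ∃ q, p = q + 1 := ⟨p - 1, by omega⟩
  let X := Spec (CommRingCat.of A)
  let U : ULift.{u} (Fin n) → X.Opens := fun i => PrimeSpectrum.basicOpen (f i)
  have hcap : ∀ (m : ℕ) (J : Fin (m + 1) → ULift.{u} (Fin n)),
      IsAffineOpen (CechLib.cap (X := X.toTopCat) U J) := fun m J => by
    have : CechLib.cap (X := X.toTopCat) U J = PrimeSpectrum.basicOpen (∏ a, f (J a)) := by
      ext x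
      simp only [CechLib.cap]
      constructor
      · intro hx
        exact (PrimeSpectrum.mem_basicOpen _ _).mpr fun hmem => by
          obtain ⟨a, -, ha⟩ := x.2.prod_mem_iff.mp hmem
          exact (PrimeSpectrum.mem_basicOpen _ _).mp (CechLib.cap_le (X := X.toTopCat) U J a hx) ha
      · intro hx
        refine (CechLib.le_cap_iff (X := X.toTopCat) U
          (W := PrimeSpectrum.basicOpen (∏ a, f (J a)))).mpr (fun a y hy => ?_) hx
        exact (PrimeSpectrum.mem_basicOpen _ _).mpr fun hmem =>
          (PrimeSpectrum.mem_basicOpen _ _).mp hy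
            (y.2.prod_mem_iff.mpr ⟨a, Finset.mem_univ a, hmem⟩)
    rw [this]
    exact IsAffineOpen.Spec_basicOpen (R := CommRingCat.of A) _
  obtain ⟨e⟩ := CechLib.nonempty_homology_equiv (X := X.toTopCat) U (q + 1)
    (Coh.toAb (tilde (R := CommRingCat.of A) M))
    (fun m J r => QCohLib.subsingleton_HU_affine _ r (hcap m J))
  have htop : (⨆ i, U i) = ⊤ := PrimeSpectrum.iSup_basicOpen_eq_top_iff.mpr hf
  rw [htop] at e
  have := QCohLib.subsingleton_HU_affine (tilde (R := CommRingCat.of A) M) q
    (U := (⊤ : X.Opens)) (isAffineOpen_top X)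
  have : Subsingleton ↑(CohB1.cechH U (tilde (R := CommRingCat.of A) M) (q + 1)) :=
    e.toEquiv.subsingleton
  exact AddCommGrpCat.isZero_of_subsingleton (CohB1.cechH U (tilde (R := CommRingCat.of A) M) (q + 1))

end Groth.Agent.S0008
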