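import Groth.Statements.S0022
import Groth.Agent.QCohLib.Bound
import Groth.Agent.QCohLib.ProjSpace

set_option autoImplicit false
universe u
open Coherent

namespace Groth.Agent.S0022

open AlgebraicGeometry in
/-- For any ring R, any quasi-coherent module F on projective space ℙ^n_R and any i > n, H^i(ℙ^n_R, F) =
0. (The published statement is for coherent modules over a Noetherian ring; it is stated here for
quasi-coherent modules over any ring.) -/
theorem result (n : ℕ) (R : Type u) [CommRing R]
    (M : (CohB1.ProjSpace n R).Modules) [Coh.IsQCoh M] (i : ℕ) (hi : n < i) :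
    Subsingleton (Coh.HH (CohB1.ProjSpace n R) M i) := by
  have e : (Finset.univ : Finset (Fin (n + 1))).sup (QCohLib.stdOpen n R) = ⊤ := by
    rw [Finset.sup_univ_eq_iSup, QCohLib.iSup_stdOpen]
  have h := QCohLib.subsingleton_HU_finsetSup M Finset.univ (QCohLib.stdOpen n R)
    (fun s hs _ => QCohLib.isAffineOpen_inf_stdOpen n R s hs) i (by simpa using hi)
  rw [e] at h
  exact (QCohLib.subsingleton_H_iff ((QCohLib.toAbF _).obj M) i).mpr h

end Groth.Agent.S0022
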