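import Groth.Statements.S0037
import Groth.Agent.RpushLib.Vanish
-- import your own Groth.Agent.* helpers here

set_option autoImplicit false
universe u
open Coherent

namespace Groth.Agent.S0037

open AlgebraicGeometry CategoryTheory in
/-- Let Y be locally Noetherian, f : X → Y proper and y a point whose fibre f⁻¹{y} is finite. Then for
every coherent F on X and every p > 0 the stalk of R^p f_* F at y vanishes. -/
theorem result {X Y : Scheme.{u}} (f : X ⟶ Y) [IsProper f]
    [IsLocallyNoetherian Y] (y : Y) (hy : (f.base ⁻¹' {y}).Finite) (M : X.Modules) (hM : Coh.IsCoh M)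
    (p : ℕ) (hp : 0 < p) :
    Limits.IsZero (TopCat.Presheaf.stalk ((Coh.RpushAb f p).obj (Coh.toAb M)).obj y) := by
  have : Coh.IsQCoh M := hM.1
  obtain ⟨V, hyV, hV⟩ := exists_isFinite_morphismRestrict_of_finite_preimage_singleton f y hy
  refine RpushLib.isZero_stalk_rpushAb f M p y V hyV fun W hW hWV => ?_
  have hpre : IsAffineOpen (f ⁻¹ᵁ W) := by
    have h1 : IsAffineOpen (V.ι ⁻¹ᵁ W) := by
      rw [← Scheme.Hom.isAffineOpen_iff_of_isOpenImmersion V.ι, V.ι.image_preimage_eq_opensRange_inf]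
      rwa [Scheme.Opens.opensRange_ι, inf_eq_right.mpr hWV]
    have h2 := h1.preimage (f ∣_ V)
    rw [← Scheme.Hom.isAffineOpen_iff_of_isOpenImmersion (f ⁻¹ᵁ V).ι] at h2
    have e : (f ⁻¹ᵁ V).ι ''ᵁ ((f ∣_ V) ⁻¹ᵁ (V.ι ⁻¹ᵁ W)) = f ⁻¹ᵁ W := by
      rw [image_morphismRestrict_preimage, V.ι.image_preimage_eq_opensRange_inf, Scheme.Opens.opensRange_ι,
        inf_eq_right.mpr hWV]
    rwa [e] at h2
  have : IsAffine (f ⁻¹ᵁ W : Scheme.{u}) := hpre
  exact QCohLib.subsingleton_HH_affine _ p hp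

end Groth.Agent.S0037
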