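import Groth.Statements.S0043
import Groth.Agent.KoszLcLib.Linear
import Groth.Agent.KoszLib.Top
import Groth.Agent.KoszLib.Sheaf
import Groth.Agent.KoszLib.Vanish
import Groth.Agent.QCohLib.QCoh
import Mathlib.AlgebraicGeometry.QuasiAffine
-- import your own Groth.Agent.* helpers here

set_option autoImplicit false
universe u
open CategoryTheory CategoryTheory.Limits AlgebraicGeometry TopologicalSpace Opposite
open Coherent
noncomputable section

namespace Groth.Agent.S0043

namespace aux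

open KoszLib KoszLcLib

section alg

variable {A : Type u} [CommRing A] {r : ℕ}

/-- exactness of a localised family in a degree -/
def Ex {M : Type u} [AddCommGroup M] [Module A M] {f : Fin r → A}
    {Q : ∀ p, (Fin p → Fin r) → Type u} [∀ p J, AddCommGroup (Q p J)] [∀ p J, Module A (Q p J)]
    (T : LimSys f M Q) (p : ℕ) : Prop := ∀ c, T.dQ p c = 0 → c ∈ T.BQ p

variable {M : Type u} [AddCommGroup M] [Module A M] {f : Fin r → A}
  {Q : ∀ p, (Fin p → Fin r) → Type u} [∀ p J, AddCommGroup (Q p J)] [∀ p J, Module A (Q p J)]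

theorem ex_iff (T : LimSys f M Q) (p : ℕ) : Ex T p ↔ Subsingleton (T.HQ p) := by
  constructor
  · intro h
    refine ⟨fun a b => ?_⟩
    obtain ⟨a, rfl⟩ := Submodule.Quotient.mk_surjective _ a
    obtain ⟨b, rfl⟩ := Submodule.Quotient.mk_surjective _ b
    exact (Submodule.Quotient.eq _).2 (h _ (LinearMap.mem_ker.1 (a - b).2))
  · intro h c hc
    exact (Submodule.Quotient.mk_eq_zero ((T.BQ p).comap (T.ZQ p).subtype)).1
      (Subsingleton.elim (Submodule.Quotient.mk (⟨c, LinearMap.mem_ker.2 hc⟩ : T.ZQ p)) 0)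

theorem ex_congr {Q' : ∀ p, (Fin p → Fin r) → Type u} [∀ p J, AddCommGroup (Q' p J)]
    [∀ p J, Module A (Q' p J)] (T : LimSys f M Q) (T' : LimSys f M Q') (p : ℕ) :
    Ex T p ↔ Ex T' p := by
  rw [ex_iff, ex_iff, ← (Equiv.ofBijective _ (T.toHQ_bijective p)).subsingleton_congr,
    ← (Equiv.ofBijective _ (T'.toHQ_bijective p)).subsingleton_congr]

theorem ex_of_van (T : LimSys f M Q) (p : ℕ)
    (h : ∀ n, Van M (fun i => f i ^ n) p) : Ex T p := by
  intro c hc
  obtain ⟨n, x, rfl⟩ := T.exists_Ω_eq c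
  obtain ⟨k, hk⟩ := T.exists_mul_eq_zero (n := n) (c := d (fun i => f i ^ n) p x) (by
    rw [T.Ω_d]; exact hc)
  have hd := d_mul f (Nat.le_add_right n k) p x
  rw [Nat.add_sub_cancel_left, hk] at hd
  have he : T.Ω (n + k) p (mul f k p x) = T.Ω n p x := by
    have := T.Ω_mul (Nat.le_add_right n k) p x
    rwa [Nat.add_sub_cancel_left] at this
  have hb := h (n + k) _ hd
  rw [← he]
  cases p with
  | zero =>
    show T.Ω (n + k) 0 (mul f k 0 x) ∈ (⊥ : Submodule A _)
    rw [show mul f k 0 x = 0 from hb, map_zero]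
    exact zero_mem _
  | succ p =>
    obtain ⟨y, hy⟩ := hb
    exact ⟨T.Ω (n + k) p y, (T.Ω_d _ _ _).symm.trans (congrArg _ hy)⟩

theorem cmap_BQ {N : Type u} [AddCommGroup N] [Module A N] (u : M →ₗ[A] N) :
    ∀ (p : ℕ) (c : (sys f M).CQ p), c ∈ (sys f M).BQ p → cmap u p c ∈ (sys f N).BQ p
  | 0, c, hc => by
    show cmap u 0 c ∈ (⊥ : Submodule A _)
    rw [show c = 0 from hc, map_zero]
    exact zero_mem _
  | p + 1, c, ⟨b, hb⟩ => ⟨cmap u p b, (LinearMap.congr_fun (cmap_d u p) b).trans (congrArg (cmap u (p + 1)) hb)⟩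

theorem ex_finsupp (ι : Type u) {p : ℕ} (h : Ex (sys f A) p) : Ex (sys f (ι →₀ A)) p := by
  classical
  intro c hc
  have hrep : ∀ J : Fin p → Fin r, ∃ (x : ι →₀ A) (s : S f J), s • c J = LocalizedModule.mk x 1 := fun J => by
    obtain ⟨⟨x, s⟩, hx⟩ := IsLocalizedModule.surj (S f J) (LocalizedModule.mkLinearMap (S f J) (ι →₀ A)) (c J)
    exact ⟨x, s, hx⟩
  choose x s hx using hrep
  let T : Finset ι := Finset.univ.biUnion fun J => (x J).support
  let c' : ι → (sys f A).CQ p := fun i => cmap (Finsupp.lapply i) p c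
  have hsum : c = ∑ i ∈ T, cmap (Finsupp.lsingle i) p (c' i) := by
    funext J
    rw [Finset.sum_apply]
    have hu := (Module.End.isUnit_iff _).1
      (IsLocalizedModule.map_units (LocalizedModule.mkLinearMap (S f J) (ι →₀ A)) (s J))
    refine hu.injective ?_
    show (s J : A) • c J = (s J : A) • ∑ i ∈ T, cmap (Finsupp.lsingle i) p (c' i) J
    rw [Finset.smul_sum]
    have hxJ : (s J : A) • c J = LocalizedModule.mk (x J) 1 := hx J
    simp only [c', cmap_apply, ← map_smul, hxJ, qmap_mk_one]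
    show LocalizedModule.mkLinearMap (S f J) (ι →₀ A) (x J) = _
    have hx0 : x J = ∑ i ∈ T, Finsupp.lsingle (R := A) (M := A) i (Finsupp.lapply (R := A) (M := A) i (x J)) :=
      (Finsupp.sum_single (x J)).symm.trans (Finsupp.sum_of_support_subset _
        (Finset.subset_biUnion_of_mem (fun J => (x J).support) (Finset.mem_univ J)) _
        fun i _ => Finsupp.single_zero i)
    conv_lhs => rw [hx0, map_sum]
    exact Finset.sum_congr rfl fun i _ => rfl
  rw [hsum]
  refine Submodule.sum_mem _ fun i _ => cmap_BQ _ p _ (h _ ?_)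
  have := LinearMap.congr_fun (cmap_d (f := f) (Finsupp.lapply (R := A) (M := A) i) p) c
  refine this.trans ?_
  show cmap (f := f) (Finsupp.lapply i) (p + 1) ((sys f (ι →₀ A)).dQ p c) = 0
  rw [hc, map_zero]

theorem ex_step {p : ℕ} (hA : Ex (sys f A) p)
    (ih : ∀ (N : Type u) [AddCommGroup N] [Module A N], Ex (sys f N) (p + 1)) :
    Ex (sys f M) p := by
  classical
  intro c hc
  let π : (M →₀ A) →ₗ[A] M := Finsupp.linearCombination A id
  let ι₀ : LinearMap.ker π →ₗ[A] (M →₀ A) := (LinearMap.ker π).subtype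
  have hπ : Function.Surjective π := fun m => ⟨Finsupp.single m 1, by simp [π]⟩
  have hs : ∀ q (J : Fin q → Fin r), Function.Surjective (qmap (f := f) π q J) := fun q J =>
    IsLocalizedModule.map_surjective (S f J) _ _ _ hπ
  choose c₁ hc₁ using fun J => hs p J (c J)
  have h0 : cmap π (p + 1) ((sys f (M →₀ A)).dQ p c₁) = 0 := by
    refine (LinearMap.congr_fun (cmap_d π p) c₁).symm.trans ?_
    show (sys f M).dQ p (cmap π p c₁) = 0
    rw [show cmap π p c₁ = c from funext hc₁, hc]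
  choose k hk using fun J => (IsLocalizedModule.map_exact (S f J) (LocalizedModule.mkLinearMap (S f J) (LinearMap.ker π))
    (LocalizedModule.mkLinearMap (S f J) (M →₀ A)) (LocalizedModule.mkLinearMap (S f J) M) ι₀ π
    (fun y => ⟨fun hy => ⟨⟨y, hy⟩, rfl⟩, fun ⟨w, hw⟩ => hw ▸ w.2⟩) ((sys f (M →₀ A)).dQ p c₁ J)).1 (congrFun h0 J)
  have hk' : cmap (f := f) (M := LinearMap.ker π) (N := M →₀ A) ι₀ (p + 1) (k : (sys f (LinearMap.ker π)).CQ (p + 1)) = (sys f (M →₀ A)).dQ p c₁ := funext fun J => hk J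
  have hinj : ∀ q, Function.Injective (cmap (f := f) (M := LinearMap.ker π) (N := M →₀ A) ι₀ q) := fun q a b hab =>
    funext fun J => IsLocalizedModule.map_injective (S f J) (LocalizedModule.mkLinearMap (S f J) (LinearMap.ker π))
      (LocalizedModule.mkLinearMap (S f J) (M →₀ A)) ι₀ (Submodule.injective_subtype _) (congrFun hab J)
  have hk0 : (sys f (LinearMap.ker π)).dQ (p + 1) k = 0 := by
    refine hinj (p + 2) ?_
    refine (LinearMap.congr_fun (cmap_d (f := f) (M := LinearMap.ker π) (N := M →₀ A) ι₀ (p + 1)) (k : (sys f (LinearMap.ker π)).CQ (p + 1))).symm.trans ?_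
    show (sys f (M →₀ A)).dQ (p + 1) (cmap (f := f) (M := LinearMap.ker π) (N := M →₀ A) ι₀ (p + 1) k) = _
    rw [hk', KoszLcLib.dQ_dQ, map_zero]
  obtain ⟨b, hb⟩ := ih (LinearMap.ker π) (k : (sys f (LinearMap.ker π)).CQ (p + 1)) hk0
  have hc₂ : (sys f (M →₀ A)).dQ p (c₁ - cmap (f := f) (M := LinearMap.ker π) (N := M →₀ A) ι₀ p b) = 0 := by
    rw [map_sub, ← hk', ← hb, sub_eq_zero]
    exact (LinearMap.congr_fun (cmap_d (f := f) (M := LinearMap.ker π) (N := M →₀ A) ι₀ p) b).symm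
  have := cmap_BQ π p _ (ex_finsupp M hA _ hc₂)
  rw [map_sub, show cmap π p c₁ = c from funext hc₁] at this
  have hz : cmap π p (cmap (f := f) (M := LinearMap.ker π) (N := M →₀ A) ι₀ p b) = 0 := by
    funext J
    refine (IsLocalizedModule.map_exact (S f J) (LocalizedModule.mkLinearMap (S f J) (LinearMap.ker π))
      (LocalizedModule.mkLinearMap (S f J) (M →₀ A)) (LocalizedModule.mkLinearMap (S f J) M) ι₀ π
      (fun y => ⟨fun hy => ⟨⟨y, hy⟩, rfl⟩, fun ⟨w, hw⟩ => hw ▸ w.2⟩) _).2 ⟨b J, rfl⟩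
  rwa [hz, sub_zero] at this

theorem ex_all {N : ℕ} (hA : ∀ p, Ex (sys f A) p)
    (hhigh : ∀ p, N < p → ∀ (M : Type u) [AddCommGroup M] [Module A M], Ex (sys f M) p) :
    ∀ (k p : ℕ), N + 1 ≤ p + k → ∀ (M : Type u) [AddCommGroup M] [Module A M], Ex (sys f M) p
  | 0, p, h, M, _, _ => hhigh p (by omega) M
  | k + 1, p, h, M, _, _ => ex_step (hA p) fun N' _ _ => ex_all hA hhigh k (p + 1) (by omega) N'

theorem span_eq_top {N : ℕ} (hA : ∀ p, Ex (sys f A) p)
    (hhigh : ∀ p, N < p → ∀ (M : Type u) [AddCommGroup M] [Module A M], Ex (sys f M) p) :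
    Ideal.span (Set.range f) = ⊤ := by
  classical
  let I := Ideal.span (Set.range f)
  have h := ex_all hA hhigh (N + 1) 0 (by omega) (A ⧸ I)
  let c : (sys f (A ⧸ I)).CQ 0 := fun J => LocalizedModule.mk 1 1
  have hd : (sys f (A ⧸ I)).dQ 0 c = 0 := by
    funext J
    rw [LimSys.dQ_apply, Fin.sum_univ_one, Fin.val_zero, pow_zero, one_smul]
    refine (rs_mk_one f (A ⧸ I) J 0 1).trans ?_
    rw [show (0 : (sys f (A ⧸ I)).CQ 1) J = LocalizedModule.mk 0 1 from (LocalizedModule.zero_mk 1).symm,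
      LocalizedModule.mk_eq]
    refine ⟨el f 1 J, ?_⟩
    simp only [one_smul, smul_zero, Submonoid.smul_def, pow_one]
    have hp : prodF f J ∈ I := Ideal.mem_of_dvd _ (Finset.dvd_prod_of_mem f (mem_img.mpr ⟨0, rfl⟩ : J 0 ∈ img J))
      (Ideal.subset_span ⟨J 0, rfl⟩)
    exact (Algebra.smul_def (prodF f J) (1 : A ⧸ I)).trans (by rw [mul_one]; exact Ideal.Quotient.eq_zero_iff_mem.2 hp)
  have hc0 : c = 0 := h c hd
  have h1 := congrFun hc0 (fun a => a.elim0)
  rw [show c _ = LocalizedModule.mk (1 : A ⧸ I) (1 : S f _) from rfl, Pi.zero_apply,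
    ← LocalizedModule.zero_mk (S := S f _) 1, LocalizedModule.mk_eq] at h1
  obtain ⟨⟨w, n, hn⟩, hw⟩ := h1
  simp only [one_smul, smul_zero, Submonoid.smul_def] at hw
  rw [← hn] at hw
  simp only [prodF_zero, one_pow, one_smul] at hw
  exact (Ideal.eq_top_iff_one I).2 (Ideal.Quotient.eq_zero_iff_mem.1 hw)

theorem van_high (fs : List A) (M : Type u) [AddCommGroup M] [Module A M] (p n : ℕ) (hp : fs.length < p) :
    Van M (fun i => fs.get i ^ n) p := by
  refine (isZero_koszulHPow_iff (ModuleCat.of A M) n fs p).1 ?_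
  exact (HomologicalComplex.exactAt_iff_isZero_homology _ _).1
    (ShortComplex.exact_of_isZero_X₂ _ (isZero_X_pos (ModuleCat.of A M) n fs _ (by omega)))

end alg

section geom

variable {X : Scheme.{u}} (F : X.Modules) [CompactSpace X] [QuasiSeparatedSpace X] [Coh.IsQCoh F]
  {r : ℕ} (g : Fin r → Γ(X, ⊤))

theorem cap_zero (J : Fin 0 → Fin r) : capT (X := X) g J = ⊤ :=
  top_le_iff.mp ((CechLib.le_cap_iff _).2 fun a => a.elim0)

theorem ex_zero (hcov : ⨆ i, X.basicOpen (g i) = ⊤) : Ex (sheafSys F g) 0 := by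
  intro c hc
  show c ∈ (⊥ : Submodule Γ(X, ⊤) _)
  refine (Submodule.mem_bot _).2 (funext fun J => ?_)
  refine TopCat.Sheaf.eq_of_locally_eq' ((QCohLib.toAbF X).obj F : TopCat.Sheaf AddCommGrpCat _)
    (fun i : Fin r => capT g (fun _ : Fin 1 => i)) (capT g J)
    (fun i => homOfLE (by rw [cap_zero]; exact le_top)) ?_ (c J) 0 fun i => ?_
  · rw [cap_zero, ← hcov]
    refine iSup_mono fun i => (CechLib.le_cap_iff _).2 fun _ => le_rfl
  · have h := congrFun hc (fun _ : Fin 1 => i)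
    rw [LimSys.dQ_apply, Fin.sum_univ_one, Fin.val_zero, pow_zero, one_smul] at h
    obtain rfl : J = (fun _ : Fin 1 => i) ∘ (0 : Fin 1).succAbove := funext fun a => a.elim0
    refine h.trans ?_
    exact (map_zero _).symm

theorem ex_one (hcov : ⨆ i, X.basicOpen (g i) = ⊤) : Ex (sheafSys F g) 1 := by
  intro c hc
  let U : Fin r → X.Opens := fun i => capT g (fun _ : Fin 1 => i)
  have hUcov : ⨆ i, U i = ⊤ := by
    rw [eq_top_iff, ← hcov]
    exact iSup_mono fun i => (CechLib.le_cap_iff _).2 fun _ => le_rfl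
  let sf : ∀ i, ToType ((((QCohLib.toAbF X).obj F : TopCat.Sheaf AddCommGrpCat _)).obj.obj (op (U i))) :=
    fun i => c (fun _ : Fin 1 => i)
  have hcomp : TopCat.Presheaf.IsCompatible ((QCohLib.toAbF X).obj F : TopCat.Sheaf AddCommGrpCat _).obj U sf := by
    intro i j
    have h := congrFun hc (![i, j])
    rw [LimSys.dQ_apply, Fin.sum_univ_two] at h
    simp only [Fin.val_zero, pow_zero, one_smul, Fin.val_one, pow_one, neg_smul] at h
    have e : ∀ (J' : Fin 1 → Fin r) (a : Fin r) (hJ : J' = fun _ => a) {W : X.Opens}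
        (h₁ : W ≤ capT g J') (h₂ : W ≤ U a),
        secRes F h₁ (c J') = secRes F h₂ (c fun _ : Fin 1 => a) := by
      rintro J' a rfl W h₁ h₂
      rfl
    have hle : U i ⊓ U j ≤ capT g ![i, j] := (CechLib.le_cap_iff _).2 fun a => by
      fin_cases a
      · exact inf_le_left.trans (CechLib.cap_le _ _ 0)
      · exact inf_le_right.trans (CechLib.cap_le _ _ 0)
    have h' := congrArg (secRes F hle) (add_neg_eq_zero.1 h)
    change secRes F hle (secRes F _ (c (![i, j] ∘ (0 : Fin 2).succAbove))) =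
      secRes F hle (secRes F _ (c (![i, j] ∘ (1 : Fin 2).succAbove))) at h'
    rw [secRes_secRes, secRes_secRes] at h'
    rw [e (![i, j] ∘ (0 : Fin 2).succAbove) j (funext fun a => by fin_cases a; rfl) _ inf_le_right,
      e (![i, j] ∘ (1 : Fin 2).succAbove) i (funext fun a => by fin_cases a; rfl) _ inf_le_left] at h'
    exact h'.symm
  obtain ⟨t, ht, -⟩ := TopCat.Sheaf.existsUnique_gluing' ((QCohLib.toAbF X).obj F : TopCat.Sheaf AddCommGrpCat _)
    U ⊤ (fun i => homOfLE le_top) hUcov.ge sf hcomp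
  let x : (sheafSys F g).CQ 0 := fun J => secRes F (le_top : capT g J ≤ ⊤) (show Sec F ⊤ from t)
  refine ⟨x, funext fun J => ?_⟩
  obtain ⟨i, rfl⟩ : ∃ i, J = fun _ => i := ⟨J 0, funext fun a => congrArg J (Subsingleton.elim (α := Fin 1) a 0)⟩
  rw [LimSys.dQ_apply, Fin.sum_univ_one, Fin.val_zero, pow_zero, one_smul]
  show secRes F _ (secRes F _ (show Sec F ⊤ from t)) = _
  rw [secRes_secRes]
  exact ht i

theorem ex_two (haff : ∀ i : Fin r, IsAffineOpen (X.basicOpen (g i))) (hcov : ⨆ i, X.basicOpen (g i) = ⊤)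
    (q : ℕ) (h : Subsingleton (Coh.HH X F (q + 1))) : Ex (sheafSys F g) (q + 2) :=
  (ex_iff _ _).2 ((KoszLcLib.hhEquiv g F haff (by
    rw [← hcov]
    exact le_antisymm (iSup_le fun i => le_iSup (fun a => X.basicOpen (g a)) i.down)
      (iSup_le fun i => le_iSup (Uf g) ⟨i⟩)) q).symm.subsingleton)

end geom

end aux

open AlgebraicGeometry in
/-- If X is quasi-affine and H^p(X, O_X) = 0 for all p > 0, then X is affine. -/
theorem result (X : Scheme.{u}) [X.IsQuasiAffine]
    (h : ∀ p : ℕ, 0 < p → Subsingleton (Coh.HH X (Coh.structureModule X) p)) : IsAffine X := by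
  classical
  haveI : Coh.IsQCoh (Coh.structureModule X) := QCohLib.isQCoh_unit
  obtain ⟨t, ht, hcov⟩ : ∃ t : Finset Γ(X, ⊤), (∀ f ∈ t, IsAffineOpen (X.basicOpen f)) ∧
      (Set.univ : Set X) ⊆ ⋃ f ∈ t, (X.basicOpen f : Set X) := by
    obtain ⟨t, hsub⟩ := isCompact_univ.elim_finite_subcover
      (fun f : {f : Γ(X, ⊤) // IsAffineOpen (X.basicOpen f)} => (X.basicOpen f.1 : Set X))
      (fun f => (X.basicOpen f.1).isOpen) (fun x _ => by
        obtain ⟨_, ⟨f, hf, rfl⟩, hx, -⟩ := Opens.isBasis_iff_nbhd.mp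
          (Scheme.IsQuasiAffine.isBasis_basicOpen X) (U := ⊤) (x := x) trivial
        exact Set.mem_iUnion.2 ⟨⟨f, hf⟩, hx⟩)
    refine ⟨t.image Subtype.val, fun f hf => ?_, fun x hx => ?_⟩
    · obtain ⟨a, -, rfl⟩ := Finset.mem_image.1 hf
      exact a.2
    · obtain ⟨a, ha, hxa⟩ := Set.mem_iUnion₂.1 (hsub hx)
      exact Set.mem_iUnion₂.2 ⟨a.1, Finset.mem_image_of_mem _ ha, hxa⟩
  let fs := t.toList
  let g : Fin fs.length → Γ(X, ⊤) := fs.get
  have hg : Set.range g = (t : Set Γ(X, ⊤)) := by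
    rw [Set.range_list_get]
    ext a
    simp [fs]
  have hcov' : ⨆ i, X.basicOpen (g i) = ⊤ := top_le_iff.1 fun x _ => by
    obtain ⟨f, hf, hx⟩ := Set.mem_iUnion₂.1 (hcov (Set.mem_univ x))
    obtain ⟨i, rfl⟩ : f ∈ Set.range g := hg ▸ hf
    exact Opens.mem_iSup.2 ⟨i, hx⟩
  have haff : ∀ i, IsAffineOpen (X.basicOpen (g i)) := fun i => ht _ (Finset.mem_toList.1 (List.get_mem fs i))
  let F := Coh.structureModule X
  have hF : ∀ p, aux.Ex (KoszLib.sheafSys F g) p
    | 0 => aux.ex_zero F g hcov'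
    | 1 => aux.ex_one F g hcov'
    | q + 2 => aux.ex_two F g haff hcov' q (h (q + 1) (Nat.succ_pos q))
  have hA : ∀ p, aux.Ex (KoszLcLib.sys g Γ(X, ⊤)) p := fun p =>
    (aux.ex_congr (KoszLcLib.sys g Γ(X, ⊤)) (KoszLib.sheafSys F g) p).2 (hF p)
  refine isAffine_of_isAffineOpen_basicOpen (Set.range g) (aux.span_eq_top (N := fs.length) hA
    fun p hp M _ _ => aux.ex_of_van _ p fun n => aux.van_high fs M p n hp) ?_
  intro f hf
  obtain ⟨i, rfl⟩ := hf
  exact haff i


end Groth.Agent.S0043
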