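import Groth.Statements.S0047
import Groth.Agent.QCohLib.Support
import Groth.Agent.QCohLib.AbPush

set_option autoImplicit false
universe u
open Coherent

namespace Groth.Agent.S0047

open AlgebraicGeometry CategoryTheory TopologicalSpace Opposite in
/-- On a locally Noetherian scheme, a coherent module whose support consists of closed points (i.e. has
dimension ≤ 0) satisfies H^i(X, F) = 0 for all i > 0. (Global generation is not stated.) -/
theorem result (X : Scheme.{u}) [IsLocallyNoetherian X]
    (M : X.Modules) (hM : Coh.IsCoh M) (h0 : ∀ x ∈ CohB1.support M, IsClosed ({x} : Set X))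
    (i : ℕ) (hi : 0 < i) : Subsingleton (Coh.HH X M i) := by
  classical
  obtain ⟨n, rfl⟩ : ∃ n, i = n + 1 := ⟨i - 1, by omega⟩
  have hS : IsClosed (CohB1.support M) := QCohLib.isClosed_support M hM.2
  have hzero : ∀ {V : X.Opens}, (∀ p ∈ V, p ∉ CohB1.support M) → ∀ t : Γ(M, V), t = 0 :=
    fun {V} hV t => TopCat.Presheaf.section_ext
      ((QCohLib.toAbF X).obj M : TopCat.Sheaf AddCommGrpCat _) V t 0
      fun q hq => (not_not.mp (hV q hq) : Subsingleton (M.presheaf.stalk q)).elim _ _
  have hiso : ∀ x ∈ CohB1.support M, ∃ U : X.Opens, x ∈ U ∧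
      ∀ y ∈ CohB1.support M, y ∈ U → y = x := by
    intro x hx
    obtain ⟨V, hV, hxV⟩ := QCohLib.exists_affine_nhd x
    have : IsNoetherianRing Γ(X, V) := IsLocallyNoetherian.component_noetherian ⟨V, hV⟩
    have : NoetherianSpace (V : Set X) := noetherianSpace_of_isAffineOpen V hV
    have : QuasiSober ↥(V : Set X) := V.isOpenEmbedding'.quasiSober
    have hfin : ((V : Set X) ∩ CohB1.support M).Finite := by
      have hc : IsClosed ((Subtype.val : ↥(V : Set X) → X) ⁻¹' CohB1.support M) :=
        hS.preimage continuous_subtype_val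
      obtain ⟨F, hFfin, hFcl, hFirr, hF⟩ :=
        TopologicalSpace.NoetherianSpace.exists_finite_set_isClosed_irreducible hc
      refine Set.Finite.subset ((hFfin.biUnion (t := fun Z => Subtype.val '' Z) fun Z hZ => ?_)) ?_
      · obtain ⟨η, hη⟩ := QuasiSober.sober (hFirr Z hZ) (hFcl Z hZ)
        have hηS : (η : X) ∈ CohB1.support M := by
          have : η ∈ ⋃₀ F := ⟨Z, hZ, hη.mem⟩
          rw [← hF] at this
          exact this
        refine Set.Finite.subset (Set.finite_singleton (η : X)) ?_
        rintro _ ⟨z, hz, rfl⟩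
        have h1 : Specializes η z := hη.specializes hz
        have h2 : Specializes (η : X) (z : X) := h1.map continuous_subtype_val
        exact h2.mem_closed (h0 _ hηS) rfl
      · rintro p ⟨hpV, hpS⟩
        have : (⟨p, hpV⟩ : (V : Set X)) ∈ ⋃₀ F := hF ▸ hpS
        obtain ⟨Z, hZ, hpZ⟩ := this
        exact Set.mem_biUnion hZ ⟨⟨p, hpV⟩, hpZ, rfl⟩
    have hcl : IsClosed (((V : Set X) ∩ CohB1.support M) \ {x}) := by
      rw [← Set.biUnion_of_singleton (((V : Set X) ∩ CohB1.support M) \ {x})]
      exact (hfin.subset Set.sdiff_subset).isClosed_biUnion fun y hy => h0 y hy.1.2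
    refine ⟨V ⊓ ⟨_, hcl.isOpen_compl⟩, ⟨hxV, fun h => h.2 rfl⟩, fun y hy hyU => ?_⟩
    by_contra hne
    exact hyU.2 ⟨⟨hyU.1, hy⟩, hne⟩
  choose U hxU hU using hiso
  have : TopCat.Sheaf.IsFlasque
      ((QCohLib.toAbF X).obj M : TopCat.Sheaf AddCommGrpCat X.toTopCat) := by
    refine ⟨fun {O' V'} j => ?_⟩
    rw [AddCommGrpCat.epi_iff_surjective]
    intro t
    let O : X.Opens := O'.unop
    let V : X.Opens := V'.unop
    have hVO : V ≤ O := leOfHom j.unop
    let N : X.Opens := O ⊓ ⟨(CohB1.support M)ᶜ, hS.isOpen_compl⟩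
    let κ := Option ↥((O : Set X) ∩ CohB1.support M)
    let C : κ → X.Opens := fun o => o.elim N fun x => O ⊓ U x.1 x.2.2 ⊓ (if x.1 ∈ V then V else ⊤)
    let sec : ∀ o : κ, Γ(M, C o) := fun o => match o with
      | none => 0
      | some x => if h : x.1 ∈ V then M.presheaf.map
          (homOfLE (show C (some x) ≤ V by simp only [C, Option.elim, if_pos h]; exact inf_le_right)).op t
        else 0
    obtain ⟨g, hg, -⟩ := TopCat.Sheaf.existsUnique_gluing'
      ((QCohLib.toAbF X).obj M : TopCat.Sheaf AddCommGrpCat X.toTopCat) C O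
      (fun o => homOfLE (by cases o <;> simp [C, N, inf_assoc]))
      (fun p hp => by
        by_cases hpS : p ∈ CohB1.support M
        · refine Opens.mem_iSup.mpr ⟨some ⟨p, hp, hpS⟩, ⟨hp, hxU p hpS⟩, ?_⟩
          split_ifs with h
          · exact h
          · trivial
        · exact Opens.mem_iSup.mpr ⟨none, hp, hpS⟩) sec (fun a b => by
        by_cases hab : a = b
        · subst hab
          rfl
        · rw [← sub_eq_zero]
          refine hzero (fun p hp hpS => hab ?_) _
          cases a with
          | none => exact absurd hpS hp.1.2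
          | some x => cases b with
            | none => exact absurd hpS hp.2.2
            | some y => exact congr_arg some (Subtype.ext
                ((hU _ _ p hpS hp.1.1.2).symm.trans (hU _ _ p hpS hp.2.1.2))))
    refine ⟨g, TopCat.Sheaf.eq_of_locally_eq'
      ((QCohLib.toAbF X).obj M : TopCat.Sheaf AddCommGrpCat X.toTopCat)
      (fun o => V ⊓ C o) V (fun o => homOfLE inf_le_left) (fun p hp => ?_) _ _ fun o => ?_⟩
    · by_cases hpS : p ∈ CohB1.support M
      · refine Opens.mem_iSup.mpr ⟨some ⟨p, hVO hp, hpS⟩, hp, ⟨hVO hp, hxU p hpS⟩, ?_⟩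
        rw [if_pos hp]
        exact hp
      · exact Opens.mem_iSup.mpr ⟨none, hp, hVO hp, hpS⟩
    · change M.presheaf.map (homOfLE (inf_le_left : V ⊓ C o ≤ V)).op
          (M.presheaf.map (homOfLE hVO).op (show Γ(M, O) from g)) =
        M.presheaf.map (homOfLE (inf_le_left : V ⊓ C o ≤ V)).op t
      rw [QCohLib.map_map']
      have h1 := congr_arg (M.presheaf.map (homOfLE (inf_le_right : V ⊓ C o ≤ C o)).op) (hg o)
      change M.presheaf.map _ (M.presheaf.map _ g) = M.presheaf.map _ (sec o) at h1
      rw [QCohLib.map_map'] at h1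
      refine h1.trans ?_
      cases o with
      | none =>
        rw [← sub_eq_zero]
        refine hzero (V := V ⊓ C none) (fun p hp => ?_) _
        exact hp.2.2
      | some x =>
        simp only [sec]
        split_ifs with h
        · exact QCohLib.map_map' M _ _ t
        · rw [← sub_eq_zero]
          refine hzero (fun p hp hpS => h ?_) _
          exact hU _ _ p hpS hp.2.1.2 ▸ hp.1
  exact (QCohLib.subsingleton_H_iff _ _).mpr
    (QCohLib.subsingleton_of_isFlasque n ((QCohLib.toAbF X).obj M) ⊤)

end Groth.Agent.S0047
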