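import Groth.Statements.S0063
import Groth.Agent.EtLocLib.Equalizer
-- import your own Groth.Agent.* helpers here

set_option autoImplicit false
open CategoryTheory CategoryTheory.Limits AlgebraicGeometry Opposite
universe u
open EtBase

namespace Groth.Agent.S0063

/-- Rigidity of maps into an unramified separated scheme — two maps from a connected scheme over the
base that agree at one point, including on residue fields, coincide. -/
theorem result {X S Y : Scheme.{u}} (π : X ⟶ S)
    [FormallyUnramified π] [LocallyOfFiniteType π] [IsSeparated π]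
    (h : Y ⟶ S) [ConnectedSpace Y] (f g : Y ⟶ X) (hf : f ≫ π = h) (hg : g ≫ π = h)
    (y : Y) (hy : Y.fromSpecResidueField y ≫ f = Y.fromSpecResidueField y ≫ g) : f = g := by
  let E := EtLocLib.eqLocus π f g (hf.trans hg.symm)
  have hclopen : IsClopen (E : Set Y) := ⟨EtLocLib.isClosed_eqLocus π f g _, E.2⟩
  have huniv := hclopen.eq_univ ⟨y, EtLocLib.mem_eqLocus_of_residue π f g _ y hy⟩
  exact EtLocLib.eq_of_eqLocus_eq_top π f g _ fun x => Set.eq_univ_iff_forall.mp huniv x

end Groth.Agent.S0063
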