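import Groth.Statements.S0068
import Groth.Agent.EtShLib.PushStalk
-- import your own Groth.Agent.* helpers here

set_option autoImplicit false
open CategoryTheory CategoryTheory.Limits AlgebraicGeometry Opposite
universe u
open EtBase

namespace Groth.Agent.S0068

/-- Part (2), second half — an abelian étale sheaf is a pushforward from a closed subscheme exactly when
its sections vanish over every étale scheme mapping into the open complement. -/
theorem result {Z X : Scheme.{u}} (i : Z ⟶ X) [IsClosedImmersion i] [EtCoh.BCCont i]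
    (F : EtCoh.Ab X) :
    (EtCoh.push i).essImage F ↔
      ∀ U : X.Etale, Disjoint (Set.range U.hom.base) (Set.range i.base) → IsZero (F.obj.obj (op U)) := by
  refine ⟨fun ⟨G, ⟨e⟩⟩ U hU => ?_, fun h => ?_⟩
  · haveI : IsEmpty ((EtCoh.bc i).obj U).left := ⟨fun p => by
      have hc : U.hom.base ((Limits.pullback.fst U.hom i).base p) = i.base ((Limits.pullback.snd U.hom i).base p) :=
        congrArg (fun t : Limits.pullback U.hom i ⟶ X => t.base p) Limits.pullback.condition
      exact Set.disjoint_left.1 hU ⟨_, rfl⟩ ⟨_, hc.symm⟩⟩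
    haveI : Subsingleton (((sheafToPresheaf X.smallEtaleTopology AddCommGrpCat.{u + 1}).obj ((EtCoh.push i).obj G)).obj (op U)) :=
      Groth.Agent.EtShLib.subsingleton_sect_of_isEmpty G ((EtCoh.bc i).obj U)
    exact (AddCommGrpCat.isZero_of_subsingleton _).of_iso
      (((sheafToPresheaf X.smallEtaleTopology AddCommGrpCat.{u + 1}).mapIso e).app (op U)).symm
  · haveI := Groth.Agent.EtShLib.unit_isIso_of_vanish i F fun U hU =>
      AddCommGrpCat.subsingleton_of_isZero (h U (Set.disjoint_left.2 fun x hx hx' => hU hx hx'))
    exact ⟨_, ⟨(asIso ((EtCoh.pullPushAdj i).unit.app F)).symm⟩⟩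

end Groth.Agent.S0068
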