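import Groth.Statements.S0078
import Mathlib


-- import your own Groth.Agent.* helpers here

set_option autoImplicit false
universe u
open EtBase

namespace Groth.Agent.S0078

/-- Second half — for such an F the fixed vectors F v = v form a finite set of size at most p ^ dim V
(an F_p-space of dimension at most dim V). -/
theorem result {k V : Type u} [Field k] [IsAlgClosed k] (p : ℕ) [Fact p.Prime] [CharP k p]
    [AddCommGroup V] [Module k V] [FiniteDimensional k V] (F : V →+ V)
    (hF : ∀ (c : k) (v : V), F (c • v) = c ^ p • F v) :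
    Set.Finite {v : V | F v = v} ∧ Nat.card {v : V | F v = v} ≤ p ^ Module.finrank k V := by
  classical
  set S := {v : V | F v = v}
  obtain ⟨B, hBS, hSpan, hli⟩ := exists_linearIndependent k S
  haveI : Fintype B := (hli.setFinite).fintype
  let R : Finset k := (Polynomial.X ^ p - Polynomial.X : Polynomial k).roots.toFinset
  have hp := (Fact.out : p.Prime)
  have hpne : (Polynomial.X ^ p - Polynomial.X : Polynomial k) ≠ 0 := FiniteField.X_pow_card_sub_X_ne_zero k hp.one_lt
  have hR : R.card ≤ p := (Multiset.toFinset_card_le _).trans ((Polynomial.card_roots' _).trans (le_of_eq (FiniteField.X_pow_card_sub_X_natDegree_eq k hp.one_lt)))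
  have hex : ∀ v ∈ S, ∃ c : B → R, ∑ i, (c i : k) • (i : V) = v := by
    intro v hv
    have hvm : v ∈ Submodule.span k (Set.range (fun i : B => (i : V))) := by
      rw [Subtype.range_coe, hSpan]; exact Submodule.subset_span hv
    obtain ⟨c, hc⟩ := (Submodule.mem_span_range_iff_exists_fun k).1 hvm
    have h2 : ∑ i, c i ^ p • (i : V) = ∑ i, c i • (i : V) := by
      rw [hc]
      conv_rhs => rw [← show F v = v from hv, ← hc, map_sum]
      exact Finset.sum_congr rfl fun i _ => by rw [hF, show F (i : V) = i from hBS i.2]
    have h3 : ∀ i, c i ^ p = c i := fun i => by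
      have := Fintype.linearIndependent_iff.1 hli (fun i => c i ^ p - c i) (by simp [sub_smul, Finset.sum_sub_distrib, h2]) i
      exact sub_eq_zero.1 this
    exact ⟨fun i => ⟨c i, by simp [R, hpne, h3 i]⟩, hc⟩
  choose c hc using hex
  have hinj : Function.Injective fun v : S => c v.1 v.2 := fun v w h => Subtype.ext (by
    rw [← hc v.1 v.2, ← hc w.1 w.2]
    simp only at h
    rw [h])
  haveI : Finite S := Finite.of_injective _ hinj
  refine ⟨Set.toFinite S, (Nat.card_le_card_of_injective _ hinj).trans ?_⟩
  rw [Nat.card_fun, Nat.card_eq_finsetCard]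
  refine (Nat.pow_le_pow_left hR _).trans (Nat.pow_le_pow_right hp.pos ?_)
  rw [Nat.card_eq_fintype_card]
  exact hli.fintype_card_le_finrank

end Groth.Agent.S0078
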