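import Groth.Statements.S0089
import Groth.Agent.S7180
import Groth.Agent.S5067
import Groth.Agent.EtShLib.Noeth
import Mathlib.FieldTheory.IsSepClosed
import Groth.Agent.WLocalLib.Finite

set_option backward.isDefEq.respectTransparency false
set_option backward.isDefEq.respectTransparency.types false
set_option maxHeartbeats 1000000

set_option autoImplicit false
open CategoryTheory CategoryTheory.Limits AlgebraicGeometry Opposite
universe u
open EtBase

namespace Groth.Agent.S0089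

/-- Part (1) — over an integral normal scheme whose function field is separably closed, any separated
étale scheme is a disjoint union of open subschemes of the base. -/
theorem result {U X : Scheme.{u}} [IsIntegral X] (hN : ∀ x : X, IsIntegrallyClosed (X.presheaf.stalk x))
    [IsSepClosed X.functionField] (g : U ⟶ X) [AlgebraicGeometry.Etale g] [IsSeparated g] :
    ∃ (ι : Type u) (V : ι → X.Opens) (e : (∐ fun i => (V i : Scheme.{u})) ≅ U),
      ∀ i, Sigma.ι (fun i => (V i : Scheme.{u})) i ≫ e.hom ≫ g = (V i).ι := by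
  have hX : Pi1.IsNormalScheme X := fun x => ⟨inferInstance, hN x⟩
  have hU : Pi1.IsNormalScheme U := Groth.Agent.S7180.result g hX
  haveI := Groth.Agent.EtShLib.locallyQuasiFinite_of_etale g
  let η := genericPoint X
  -- every point has a unique generization over the generic point
  have hgen : ∀ w : U, ∃ ξ : U, g.base ξ = η ∧ ξ ⤳ w ∧ ∀ ξ' : U, g.base ξ' = η → ξ' ⤳ w → ξ' = ξ := by
    intro w
    haveI : IsDomain (U.presheaf.stalk w) := (hU w).1
    let ξ := U.fromSpecStalk w (⟨⊥, Ideal.isPrime_bot⟩ : PrimeSpectrum (U.presheaf.stalk w))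
    have hξw : ξ ⤳ w := (U.range_fromSpecStalk (x := w)).le ⟨_, rfl⟩
    have hmin : ∀ a, a ⤳ w → ξ ⤳ a := fun a ha => by
      obtain ⟨b, rfl⟩ := (U.range_fromSpecStalk (x := w)).ge ha
      exact ((PrimeSpectrum.le_iff_specializes _ b).mp bot_le).map (U.fromSpecStalk w).continuous
    obtain ⟨a, ha, hga⟩ := Flat.generalizingMap g
      (((genericPoint_spec X).specializes trivial) : η ⤳ g.base w)
    have hξη : g.base ξ = η := by
      have h := (hmin a ha).map g.continuous
      rw [show g.base a = η from hga] at h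
      exact (h.antisymm ((genericPoint_spec X).specializes trivial)).eq
    exact ⟨ξ, hξη, hξw, fun ξ' h1 h2 =>
      ((g.isDiscrete_preimage_singleton η).eq_of_specializes (hmin ξ' h2) hξη h1).symm⟩
  choose gen hgen1 hgen2 hgen3 using hgen
  let ι := {ξ : U // g.base ξ = η}
  have hopen : ∀ ξ : ι, IsOpen {a : U | gen a = ξ.1} := fun ξ => isOpen_iff_forall_mem_open.2 fun a ha => by
    obtain ⟨A, hA, hga, -⟩ := exists_isAffineOpen_mem_and_subset (x := g.base a) (U := (⊤ : X.Opens)) trivial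
    obtain ⟨W, hW, haW, hWA⟩ := exists_isAffineOpen_mem_and_subset (x := a) (U := g ⁻¹ᵁ A) hga
    haveI : IsAffine (W : Scheme.{u}) := hW
    haveI : IsAffine (A : Scheme.{u}) := hA
    let f := g.resLE A W hWA
    haveI : AlgebraicGeometry.Etale f := inferInstance
    haveI := Groth.Agent.EtShLib.locallyQuasiFinite_of_etale f
    have hfin : {b : U | b ∈ W ∧ g.base b = η}.Finite := by
      by_cases hη : η ∈ A
      · refine ((f.finite_preimage_singleton (⟨η, hη⟩ : ↥(A : Scheme.{u}))).image W.ι.base).subset fun b hb => ⟨⟨b, hb.1⟩, ?_, rfl⟩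
        show f.base ⟨b, hb.1⟩ = ⟨η, hη⟩
        apply Subtype.ext
        exact (congrArg (fun q : (W : Scheme.{u}) ⟶ X => q.base (⟨b, hb.1⟩ : ↥(W : Scheme.{u}))) (Scheme.Hom.resLE_comp_ι g hWA)).trans hb.2
      · exact Set.finite_empty.subset fun b hb => hη (hb.2 ▸ hWA hb.1)
    let S : Set U := {b | b ∈ W ∧ g.base b = η ∧ b ≠ ξ.1}
    have hS : IsClosed (⋃ s ∈ S, closure {s}) :=
      (hfin.subset fun b hb => ⟨hb.1, hb.2.1⟩).isClosed_biUnion fun s _ => isClosed_closure
    refine ⟨(W : Set U) ∩ (⋃ s ∈ S, closure {s})ᶜ, fun b hb => ?_, W.2.inter hS.isOpen_compl, haW, fun hmem => ?_⟩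
    · by_contra hne
      exact hb.2 (Set.mem_iUnion₂.2 ⟨gen b, ⟨(hgen2 b).mem_open W.2 hb.1, hgen1 b, hne⟩, (hgen2 b).mem_closure⟩)
    · obtain ⟨s, ⟨-, hs2, hs3⟩, hs4⟩ := Set.mem_iUnion₂.1 hmem
      exact hs3 ((hgen3 a s hs2 (specializes_iff_mem_closure.2 hs4)).trans ha)
  let O : ι → U.Opens := fun ξ => ⟨{a : U | gen a = ξ.1}, hopen ξ⟩
  have hξO : ∀ ξ : ι, ξ.1 ∈ O ξ := fun ξ => (hgen3 ξ.1 ξ.1 ξ.2 specializes_rfl).symm
  have himm : ∀ ξ : ι, IsOpenImmersion ((O ξ).ι ≫ g) := fun ξ => by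
    haveI : Nonempty ↥(O ξ : Scheme.{u}) := ⟨⟨ξ.1, hξO ξ⟩⟩
    have hgp : IsGenericPoint (⟨ξ.1, hξO ξ⟩ : ↥(O ξ : Scheme.{u})) Set.univ := by
      refine isGenericPoint_def.2 (Set.eq_univ_of_forall fun b => specializes_iff_mem_closure.1 ?_)
      have hb : gen b.1 = ξ.1 := b.2
      exact (subtype_specializes_iff (⟨ξ.1, hξO ξ⟩ : ↥(O ξ : Scheme.{u})) b).2 (hb ▸ hgen2 b.1)
    haveI : IrreducibleSpace ↥(O ξ : Scheme.{u}) := by
      haveI : PreirreducibleSpace ↥(O ξ : Scheme.{u}) := ⟨hgp.def ▸ isIrreducible_singleton.closure.2⟩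
      exact ⟨inferInstance⟩
    haveI : ∀ b : ↥(O ξ : Scheme.{u}), _root_.IsReduced ((O ξ : Scheme.{u}).presheaf.stalk b) := fun b =>
      haveI : IsDomain ((O ξ : Scheme.{u}).presheaf.stalk b) :=
        ((Groth.Agent.S7180.result (O ξ).ι hU) b).1
      isReduced_of_noZeroDivisors
    haveI : AlgebraicGeometry.IsReduced (O ξ : Scheme.{u}) := isReduced_of_isReduced_stalk _
    haveI : IsIntegral (O ξ : Scheme.{u}) := isIntegral_of_irreducibleSpace_of_isReduced _
    have heq : genericPoint ↥(O ξ : Scheme.{u}) = ⟨ξ.1, hξO ξ⟩ := (genericPoint_spec _).eq hgp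
    have hη : ((O ξ).ι ≫ g).base (genericPoint ↥(O ξ : Scheme.{u})) = genericPoint X := by
      rw [heq]
      exact ξ.2
    refine Groth.Agent.S5067.result _ hη ?_
    haveI : IsSepClosed (X.residueField (((O ξ).ι ≫ g).base (genericPoint ↥(O ξ : Scheme.{u})))) := by
      rw [hη]
      have hbij : Function.Bijective (X.residue η).hom := ⟨(X.residue η).hom.injective, IsLocalRing.residue_surjective⟩
      exact Groth.Agent.WLocalLib.isSepClosed_of_equiv (RingEquiv.ofBijective _ hbij)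
    letI := (((O ξ).ι ≫ g).residueFieldMap (genericPoint ↥(O ξ : Scheme.{u}))).hom.toAlgebra
    exact ⟨RingHom.injective _, IsSepClosed.algebraMap_surjective
      (X.residueField (((O ξ).ι ≫ g).base (genericPoint ↥(O ξ : Scheme.{u}))))
      ((O ξ : Scheme.{u}).residueField (genericPoint ↥(O ξ : Scheme.{u})))⟩
  haveI := himm
  let V : ι → X.Opens := fun ξ => ((O ξ).ι ≫ g).opensRange
  let a : ∀ ξ : ι, (V ξ : Scheme.{u}) ⟶ U := fun ξ => ((O ξ).ι ≫ g).isoOpensRange.inv ≫ (O ξ).ι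
  haveI : ∀ ξ, IsOpenImmersion (a ξ) := fun ξ => inferInstance
  have hrange : ∀ ξ, Set.range (a ξ).base = O ξ := fun ξ => by
    show Set.range (((O ξ).ι ≫ g).isoOpensRange.inv ≫ (O ξ).ι).base = _
    rw [Scheme.Hom.comp_base, TopCat.coe_comp, Set.range_comp,
      Set.range_eq_univ.2 (((O ξ).ι ≫ g).isoOpensRange.inv).surjective, Set.image_univ,
      Scheme.Opens.range_ι]
  haveI : IsOpenImmersion (Sigma.desc a) := isOpenImmersion_sigmaDesc _ _ fun x y hxy => by
    show Disjoint (Set.range (a x).base) (Set.range (a y).base)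
    rw [hrange, hrange]
    exact Set.disjoint_left.2 fun b hx hy => hxy (Subtype.ext ((hx : gen b = x.1).symm.trans hy))
  haveI : Surjective (Sigma.desc a) := ⟨fun w => by
    obtain ⟨z, hz⟩ : w ∈ Set.range (a ⟨gen w, hgen1 w⟩).base := by rw [hrange]; exact rfl
    exact ⟨(Sigma.ι (fun ξ : ι => (V ξ : Scheme.{u})) ⟨gen w, hgen1 w⟩).base z, by rw [← Scheme.Hom.comp_apply, Sigma.ι_desc]; exact hz⟩⟩
  haveI : IsIso (Sigma.desc a) := (isIso_iff_isOpenImmersion_and_surjective _).2 ⟨inferInstance, inferInstance⟩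
  refine ⟨ι, V, asIso (Sigma.desc a), fun ξ => ?_⟩
  rw [asIso_hom, Sigma.ι_desc_assoc]
  show (((O ξ).ι ≫ g).isoOpensRange.inv ≫ (O ξ).ι) ≫ g = _
  rw [Category.assoc, Iso.inv_comp_eq]
  exact (Scheme.Hom.isoOpensRange_hom_ι _).symm

end Groth.Agent.S0089
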