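import Groth.Statements.S0095
import Groth.Agent.EtProperH0Lib.UnitIsoAb

set_option autoImplicit false
open CategoryTheory CategoryTheory.Limits AlgebraicGeometry Opposite
universe u
open EtBase

namespace Groth.Agent.S0095

/-- For a scheme over a separably closed field k and a field extension K of k, global sections of an
abelian étale sheaf do not change under base change to K (the source proves this for sheaves of
sets; the abelian case is stated). -/
theorem result {k K : Type u} [Field k] [IsSepClosed k] [Field K] [Algebra k K]
    {S : Scheme.{u}} (a : S ⟶ Spec (CommRingCat.of k))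
    [EtCoh.BCCont (pullback.fst a (Spec.map (CommRingCat.ofHom (algebraMap k K))))]
    (F : EtCoh.Ab S) :
    Function.Bijective (((EtCoh.pullPushAdj
      (pullback.fst a (Spec.map (CommRingCat.ofHom (algebraMap k K))))).unit.app F).hom.app
        (op (EtCoh.top S))) := by
  let h := Spec.map (CommRingCat.ofHom (algebraMap k K))
  have hc : EtProperH0Lib.SubmConn h := by
    haveI : Flat h := HasRingHomProperty.Spec_iff.2 (RingHom.flat_algebraMap_iff.2 inferInstance)
    refine EtProperH0Lib.submConn_of_flat_qc h fun Ω _ _ s => ?_
    let c := Spec.map (CommRingCat.ofHom (algebraMap K (AlgebraicClosure K)))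
    haveI : Surjective c := ⟨fun _ => ⟨default, Subsingleton.elim _ _⟩⟩
    haveI := EtProperH0Lib.geometricallyConnected_of_sepClosed k (AlgebraicClosure K)
    haveI hK : ConnectedSpace ↥(pullback (Spec.map (CommRingCat.ofHom (algebraMap k (AlgebraicClosure K)))) s) :=
      GeometricallyConnected.geometrically_connectedSpace _ _ _ (IsPullback.of_hasPullback _ s)
    have e : c ≫ h = Spec.map (CommRingCat.ofHom (algebraMap k (AlgebraicClosure K))) := by
      rw [← Spec.map_comp, ← CommRingCat.ofHom_comp, ← IsScalarTower.algebraMap_eq]
    let g : pullback (Spec.map (CommRingCat.ofHom (algebraMap k (AlgebraicClosure K)))) s ⟶ pullback h s :=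
      pullback.lift (pullback.fst _ s ≫ c) (pullback.snd _ s) (by rw [Category.assoc, e]; exact pullback.condition)
    haveI : Surjective g := by
      have sq : IsPullback (pullback.fst (Spec.map (CommRingCat.ofHom (algebraMap k (AlgebraicClosure K)))) s) g c
          (pullback.fst h s) := by
        refine IsPullback.of_bot ?_ (pullback.lift_fst _ _ _).symm (IsPullback.of_hasPullback h s)
        rw [pullback.lift_snd, e]
        exact IsPullback.of_hasPullback _ _
      exact MorphismProperty.of_isPullback (P := @Surjective) sq ‹_›
    exact g.surjective.connectedSpace g.continuous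
  haveI := EtProperH0Lib.isIso_unit_of_submConn_ab _ (hc.pullback_fst a) F
  exact (ConcreteCategory.isIso_iff_bijective _).1
    (inferInstanceAs (IsIso ((sheafToPresheaf _ _ ⋙ (evaluation _ _).obj (op (EtCoh.top S))).map
      ((EtCoh.pullPushAdj (pullback.fst a h)).unit.app F))))

end Groth.Agent.S0095
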