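import Groth.Statements.S0096
import Groth.Agent.EtLocLib.Unram
-- import your own Groth.Agent.* helpers here

set_option autoImplicit false
open CategoryTheory CategoryTheory.Limits AlgebraicGeometry Opposite
universe u
open EtBase

namespace Groth.Agent.S0096

/-- A finite unramified morphism becomes, after base change to a suitable étale neighbourhood of any
point of the base, a finite disjoint union of closed immersions. -/
theorem result {X S : Scheme.{u}} (f : X ⟶ S) [IsFinite f] [FormallyUnramified f] (s : S) :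
    ∃ (U : Scheme.{u}) (g : U ⟶ S) (_ : AlgebraicGeometry.Etale g) (u : U) (_ : g.base u = s)
      (n : ℕ) (V : Fin n → Scheme.{u}) (c : ∀ j, V j ⟶ U) (_ : ∀ j, IsClosedImmersion (c j))
      (e : (∐ V) ≅ pullback f g), ∀ j, Sigma.ι V j ≫ e.hom ≫ pullback.snd f g = c j := by
  classical
  haveI := EtLocLib.locallyQuasiFinite f
  haveI : Finite (f.base ⁻¹' {s} : Set X) := (f.finite_preimage_singleton s).to_subtype
  obtain ⟨m, ⟨eq⟩⟩ := Finite.exists_equiv_fin (f.base ⁻¹' {s} : Set X)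
  let x : Fin m → X := fun i => (eq.symm i).1
  obtain ⟨U, g, hg, u, hgu, K, hK, lab, V, h⟩ := EtLocLib.exists_localisation f s x
    (Subtype.val_injective.comp eq.symm.injective) (fun i => (eq.symm i).2) (fun _ => ⊤) (fun _ => trivial)
    (fun _ => ⟨MorphismProperty.comp_mem @LocallyOfFiniteType _ _ inferInstance inferInstance,
      MorphismProperty.comp_mem @FormallyUnramified _ _ inferInstance inferInstance⟩)
  obtain ⟨O₁, hu₁, hdis⟩ := EtLocLib.exists_disjoint f h
  let g₁ : (O₁ : Scheme.{u}) ⟶ S := O₁.ι ≫ g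
  let u₁ : (O₁ : Scheme.{u}) := ⟨u, hu₁⟩
  let V₁ : K → (pullback f g₁).Opens := fun k => EtLocLib.proj f g O₁.ι ⁻¹ᵁ V k
  have h₁ : EtLocLib.IsLocalisation f x (fun _ => ⊤) g₁ u₁ K lab V₁ := h.shrink f O₁ hu₁
  let snd₁ := pullback.snd f g₁
  haveI : IsFinite snd₁ := MorphismProperty.pullback_snd _ _ inferInstance
  let A : Set ↥(pullback f g₁) := (⋃ k, (V₁ k : Set ↥(pullback f g₁)))ᶜ
  have hA : IsClosed A := (isOpen_iUnion fun k => (V₁ k).2).isClosed_compl
  let O : (O₁ : Scheme.{u}).Opens := ⟨(snd₁.base '' A)ᶜ, (snd₁.isClosedMap _ hA).isOpen_compl⟩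
  have huO : u₁ ∈ O := by
    rintro ⟨w, hw, hwu⟩
    have hx : (pullback.fst f g₁).base w ∈ f.base ⁻¹' {s} := by
      rw [Set.mem_preimage, Set.mem_singleton_iff, ← Scheme.Hom.comp_apply, pullback.condition,
        Scheme.Hom.comp_apply, hwu]
      exact hgu
    obtain ⟨k, -, hk⟩ := h₁.2.2 w (eq ⟨_, hx⟩) hwu (by simp [x])
    exact hw (Set.mem_iUnion.mpr ⟨k, hk⟩)
  let G : (O : Scheme.{u}) ⟶ S := O.ι ≫ g₁
  let V₂ : K → (pullback f G).Opens := fun k => EtLocLib.proj f g₁ O.ι ⁻¹ᵁ V₁ k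
  have h₂ : EtLocLib.IsLocalisation f x (fun _ => ⊤) G ⟨u₁, huO⟩ K lab V₂ := h₁.shrink f O huO
  obtain ⟨n, ⟨eK⟩⟩ := Finite.exists_equiv_fin K
  let V' : Fin n → Scheme.{u} := fun j => V₂ (eK.symm j)
  let a : ∀ j, V' j ⟶ pullback f G := fun j => (V₂ (eK.symm j)).ι
  obtain ⟨hc⟩ := nonempty_isColimit_cofanMk_of a (TopologicalSpace.Opens.ext (Set.eq_univ_of_forall fun v => by
    simp only [TopologicalSpace.Opens.coe_iSup, Set.mem_iUnion]
    by_contra hv
    have hv' : (pullback.snd f g₁).base ((EtLocLib.proj f g₁ O.ι).base v) ∈ snd₁.base '' A := by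
      refine ⟨_, fun hmem => hv ?_, rfl⟩
      obtain ⟨k, hk⟩ := Set.mem_iUnion.mp hmem
      refine ⟨eK k, ?_⟩
      simp only [a, Scheme.Opens.opensRange_ι, Equiv.symm_apply_apply]
      exact hk
    rw [← Scheme.Hom.comp_apply, pullback.lift_snd, Scheme.Hom.comp_apply] at hv'
    exact ((pullback.snd f G).base v).2 hv')) (fun i j hij => by
    simp only [Function.onFun_apply, a, Scheme.Opens.opensRange_ι]
    show Disjoint (V₂ (eK.symm i)) (V₂ (eK.symm j))
    rw [disjoint_iff, eq_bot_iff]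
    intro v hv
    have hd := disjoint_iff.mp (hdis _ _ fun he => hij (eK.symm.injective he))
    have h0 : (EtLocLib.proj f g₁ O.ι).base v ∈ V₁ (eK.symm i) ⊓ V₁ (eK.symm j) := ⟨hv.1, hv.2⟩
    rw [show V₁ (eK.symm i) ⊓ V₁ (eK.symm j) = ⊥ from hd] at h0
    exact absurd h0 (by simp))
  refine ⟨O, G, inferInstanceAs (Etale (O.ι ≫ O₁.ι ≫ g)), ⟨u₁, huO⟩, hgu, n, V',
    fun j => a j ≫ pullback.snd f G, fun j => (h₂.1 _).1,
    (coproductIsCoproduct V').coconePointUniqueUpToIso hc, fun j => ?_⟩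
  rw [← Category.assoc]
  congr 1
  exact IsColimit.comp_coconePointUniqueUpToIso_hom (coproductIsCoproduct V') hc ⟨j⟩

end Groth.Agent.S0096
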