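import Groth.Statements.S0098
import Groth.Agent.FinUnrLib.Basic

set_option autoImplicit false
open CategoryTheory CategoryTheory.Limits AlgebraicGeometry Opposite
universe u
open EtBase

namespace Groth.Agent.S0098

/-- A finite étale morphism whose fibre over a point s is a single point with the same residue field is
an isomorphism over an open neighbourhood of s. -/
theorem result {X S : Scheme.{u}} (f : X ⟶ S) [IsFinite f] [AlgebraicGeometry.Etale f] (s : S) (x : X)
    (hx : f.base ⁻¹' {s} = {x}) (hκ : Function.Surjective (f.residueFieldMap x)) :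
    ∃ U : S.Opens, s ∈ U ∧ IsIso (f ∣_ U) := by
  obtain ⟨U, hs, hU⟩ := FinUnrLib.exists_closedImmersion_nhd f s x hx hκ
  haveI := hU
  haveI : Flat (f ∣_ U) := MorphismProperty.of_isPullback (isPullback_morphismRestrict f U).flip inferInstance
  haveI : LocallyOfFinitePresentation (f ∣_ U) :=
    MorphismProperty.of_isPullback (isPullback_morphismRestrict f U).flip inferInstance
  haveI : IsOpenImmersion (f ∣_ U) := IsOpenImmersion.of_flat_of_mono (f ∣_ U)
  let O : (U : Scheme.{u}).Opens := (f ∣_ U).opensRange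
  have hfx : f x = s := hx.ge (rfl : x ∈ ({x} : Set X))
  have hsO : (⟨s, hs⟩ : (U : Scheme.{u})) ∈ O := by
    refine ⟨⟨x, show f x ∈ U by rw [hfx]; exact hs⟩, Subtype.ext ?_⟩
    rw [morphismRestrict_base_coe]
    exact hfx
  refine ⟨U.ι ''ᵁ O, ⟨⟨s, hs⟩, hsO, rfl⟩, ?_⟩
  haveI : IsOpenImmersion ((f ∣_ U) ∣_ O) := MorphismProperty.of_isPullback (isPullback_morphismRestrict _ O).flip ‹IsOpenImmersion (f ∣_ U)›
  haveI : Surjective ((f ∣_ U) ∣_ O) := ⟨fun y => by
    obtain ⟨z, hz⟩ := y.2
    exact ⟨⟨z, show (f ∣_ U) z ∈ O from ⟨z, rfl⟩⟩, Subtype.ext ((morphismRestrict_base_coe _ _ _).trans hz)⟩⟩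
  haveI : IsIso ((f ∣_ U) ∣_ O) := (isIso_iff_isOpenImmersion_and_surjective (f := _)).2 ⟨inferInstance, inferInstance⟩
  exact (MorphismProperty.arrow_iso_iff (MorphismProperty.isomorphisms Scheme.{u})
    (morphismRestrictRestrict f U O)).1 ‹IsIso ((f ∣_ U) ∣_ O)›

end Groth.Agent.S0098
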