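import Groth.Statements.S0102
import Groth.Agent.EtShLib.Stalk
import Mathlib.AlgebraicGeometry.Morphisms.UniversallyOpen
import Mathlib.AlgebraicGeometry.Morphisms.Etale
-- import your own Groth.Agent.* helpers here

set_option autoImplicit false
open CategoryTheory CategoryTheory.Limits AlgebraicGeometry Opposite
universe u
open EtBase

namespace Groth.Agent.S0102

/-- A section of an abelian étale sheaf over an étale scheme U vanishes on pullback to an étale V → U
exactly when V maps into a certain largest open subset of U. -/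
theorem result {S : Scheme.{u}} (F : EtCoh.Ab S) (U : S.Etale) (σ : EtCoh.sect F U) :
    ∃ W : U.left.Opens, ∀ (V : S.Etale) (φ : V ⟶ U),
      F.obj.map φ.op σ = 0 ↔ Set.range φ.left.base ⊆ (W : Set U.left) := by
  let T := {q : Σ V : S.Etale, (V ⟶ U) // F.obj.map q.2.op σ = 0}
  haveI : ∀ q : T, AlgebraicGeometry.Etale q.1.2.left := fun q => Groth.Agent.EtShLib.etale_left q.1.2
  refine ⟨⟨⋃ q : T, Set.range q.1.2.left.base, isOpen_iUnion fun q => q.1.2.left.isOpenMap.isOpen_range⟩,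
    fun V φ => ⟨fun h => Set.subset_iUnion_of_subset (⟨⟨V, φ⟩, h⟩ : T) subset_rfl, fun h => ?_⟩⟩
  refine Groth.Agent.EtShLib.eq_of_germ F _ _ fun Ω _ _ ξ z => ?_
  obtain ⟨⟨⟨V', ψ⟩, hψ⟩, v', hv'⟩ := Set.mem_iUnion.1 (h ⟨z.pt, rfl⟩)
  haveI : AlgebraicGeometry.Etale ψ.left := Groth.Agent.EtShLib.etale_left ψ
  obtain ⟨l, hl, -⟩ := Scheme.exists_fac_of_etale_of_isSepClosed ψ.left (Groth.Agent.EtShLib.Fib.map φ z).hom v'
    (hv'.trans rfl)
  let w : Groth.Agent.EtShLib.Fib ξ V' := Groth.Agent.EtShLib.Fib.mk l (by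
    rw [← (Groth.Agent.EtShLib.Fib.map φ z).w, ← hl, Category.assoc]
    exact congrArg (l ≫ ·) (CategoryTheory.Over.w ψ.hom).symm)
  have hw : Groth.Agent.EtShLib.Fib.map ψ w = Groth.Agent.EtShLib.Fib.map φ z := Groth.Agent.EtShLib.Fib.ext hl
  rw [Groth.Agent.EtShLib.germ_res_apply, ← hw, ← Groth.Agent.EtShLib.germ_res_apply, hψ, map_zero, map_zero]

end Groth.Agent.S0102
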