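import Groth.Statements.S0128
import Groth.Agent.EtShLib.Constructible
-- import your own Groth.Agent.* helpers here

set_option autoImplicit false
universe u
open CategoryTheory CategoryTheory.Limits AlgebraicGeometry Opposite
open EtPBC

namespace Groth.Agent.S0128

/-- (1) iff (3), abelian case: for X quasi-compact and quasi-separated, F is constructible iff X itself
admits a finite partition into constructible locally closed strata along which F becomes finite
locally constant. -/
theorem result (X : Scheme.{u}) [CompactSpace X] [QuasiSeparatedSpace X]
    (F : EtCoh.Ab X) :
    EtPBC.IsConstructible F ↔ EtPBC.AdaptedStrata F (Set.univ : Set X) := by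
  rw [Groth.Agent.EtShLib.isConstructible_iff, Groth.Agent.EtShLib.adaptedStrata_iff]
  exact ⟨Groth.Agent.EtShLib.adapted_univ_of_isCons, Groth.Agent.EtShLib.isCons_of_adapted_univ⟩

end Groth.Agent.S0128
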