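import Groth.Statements.S0141
import Groth.Agent.EtShLib.NoethCons
-- import your own Groth.Agent.* helpers here

set_option autoImplicit false
universe u
open CategoryTheory CategoryTheory.Limits AlgebraicGeometry Opposite
set_option backward.isDefEq.respectTransparency false
open EtPBC

namespace Groth.Agent.S0141

/-- Part (3): with Λ = Z/n, quotient half: on a Noetherian scheme a quotient of a constructible abelian
sheaf killed by n > 0 is constructible. -/
theorem result (X : Scheme.{u}) [IsNoetherian X]
    {F Q : EtCoh.Ab X} (π : F ⟶ Q) [Epi π] (n : ℕ) (hn : 0 < n) (hFn : EtCoh.KilledBy n F)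
    (hF : EtPBC.IsConstructible F) :
    EtPBC.IsConstructible Q := by
  exact (Groth.Agent.EtShLib.isConstructible_iff Q).2
    (Groth.Agent.EtShLib.cons_of_epi π ((Groth.Agent.EtShLib.isConstructible_iff F).1 hF))

end Groth.Agent.S0141
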