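import Groth.Statements.S0147
import Groth.Agent.CdLerayBoundLib.Basic
import Groth.Agent.CdAffineCurveLib.Main
import Groth.Agent.EtRpushStalkLib.Exists
import Groth.Agent.EtRpushStalkLib.Iso
import Groth.Agent.EtShLib.TorsionCoh
import Groth.Agent.EtShLib.SamePoint
import Groth.Agent.FibDimLib.FieldExt
import Groth.Agent.CMFlatLib.BaseChangeScheme
import Groth.Agent.WEtFieldLib.Basic
import Groth.Agent.EtStrictAcycLib.Main
import Groth.Agent.SkySumLib.Cohom

set_option linter.style.haveILetI false
set_option backward.isDefEq.respectTransparency false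
set_option backward.isDefEq.respectTransparency.types false
set_option maxHeartbeats 1000000

set_option autoImplicit false
universe u
open CategoryTheory CategoryTheory.Limits AlgebraicGeometry Opposite
open EtPBC

namespace Groth.Agent.S0147

open CategoryTheory.Abelian Groth.Agent.EtShLib

attribute [local instance] EtSliceLib.pullExact

/-- A sheaf with vanishing stalks is zero. -/
theorem isZero_of_stalks {X : Scheme.{u}} (G : EtCoh.Ab X)
    (h : ∀ (Ω : Type u) [Field Ω] [IsSepClosed Ω] (ξ : Spec (CommRingCat.of Ω) ⟶ X),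
      IsZero ((stk (A := AddCommGrpCat.{u + 1}) ξ).obj G)) : IsZero G := by
  haveI : IsIso (0 : G ⟶ G) := isIso_of_stalks (A := AddCommGrpCat.{u + 1}) _ fun Ω _ _ ξ =>
    ⟨0, (h Ω ξ).eq_of_src _ _, (h Ω ξ).eq_of_src _ _⟩
  rw [IsZero.iff_id_eq_zero, ← cancel_mono (0 : G ⟶ G)]
  simp

/-- A strict henselisation of a field is a field. -/
theorem isField_SH (O : Type u) [CommRing O] [IsLocalRing O] (hO : IsField O) : IsField (HenselLib.SH O) := by
  haveI hW : Algebra.WeaklyEtale O (HenselLib.SH O) :=
    Groth.Agent.S0736.result _ _ (Groth.Agent.S12237.result O (HenselLib.SH O))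
  letI : Field O := hO.toField
  refine ⟨exists_pair_ne _, mul_comm, fun {a} ha => ?_⟩
  obtain ⟨x, hx⟩ := Groth.Agent.WEtFieldLib.forall_dvd (K := O) a
  rcases IsLocalRing.isUnit_or_isUnit_one_sub_self (a * x) with h | h
  · exact ⟨_, (isUnit_of_mul_isUnit_left h).mul_val_inv⟩
  · refine absurd (h.mul_left_eq_zero.1 ?_) ha
    rw [mul_sub, mul_one, ← mul_assoc, ← hx, sub_self]

/-- The higher direct images to the ground field vanish above degree one. -/
theorem isZero_Rpush (K : Type u) [Field K] {X : Scheme.{u}} [IsAffine X]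
    (f : X ⟶ Spec (CommRingCat.of K)) [LocallyOfFiniteType f] (hd : topologicalKrullDim X ≤ 1)
    (F : EtCoh.Ab X) (hF : EtCoh.IsTorsion F) (q : ℕ) (hq : 1 < q) : IsZero ((EtCoh.Rpush f q).obj F) := by
  refine isZero_of_stalks _ fun Ω' _ _ ξ => ?_
  let S := Spec (CommRingCat.of K)
  let s : S := ξ.base default
  let R := HenselLib.SH (S.presheaf.stalk s)
  haveI : HenselianLocalRing R := Hensel.IsStrictHenselization.henselian (R := S.presheaf.stalk s)
  haveI : IsSepClosed (IsLocalRing.ResidueField R) :=
    (Hensel.IsStrictHenselization.isSepClosure (R := S.presheaf.stalk s) (S := R)).sep_closed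
  have hR : IsField R := isField_SH _ (CMFlatLib.isField_stalk s)
  let gS : Spec (CommRingCat.of R) ⟶ S := Hens2.specOf S s R
  haveI : QuasiSeparatedSpace ↥X := inferInstance
  haveI : IsAffineHom f := inferInstance
  obtain ⟨C⟩ := EtRpushStalkLib.exists_chart s R
  obtain ⟨e⟩ := EtRpushStalkLib.nonempty_iso f (IsPullback.of_hasPullback f gS) C q
  obtain ⟨i⟩ := nonempty_stk_iso_of_eq (A := AddCommGrpCat.{u + 1}) (ξ := ξ) (ξ' := closedPt R ≫ gS)
    (haveI : Subsingleton ↥S := inferInstanceAs (Subsingleton (PrimeSpectrum K)); Subsingleton.elim _ _)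
  refine IsZero.of_iso ?_ (i.app _ ≪≫ e.app F)
  let Xb := pullback f gS
  suffices Subsingleton (EtCoh.H Xb ((EtCoh.pull (pullback.fst f gS)).obj F) q) from
    @AddCommGrpCat.isZero_of_subsingleton _ this
  letI : Field R := hR.toField
  haveI : IsSepClosed R := by
    have hb : Function.Bijective (IsLocalRing.residue R) := ⟨RingHom.injective _, IsLocalRing.residue_surjective⟩
    refine IsSepClosed.of_exists_root _ fun p hp hirr hsep => ?_
    obtain ⟨y, hy⟩ := IsSepClosed.exists_root (p.map (IsLocalRing.residue R))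
      (by rw [Polynomial.degree_map_eq_of_injective hb.1]; exact (Polynomial.degree_pos_of_irreducible hirr).ne')
      hsep.map
    obtain ⟨z, rfl⟩ := hb.2 y
    exact ⟨z, (Polynomial.isRoot_map_iff hb.1).1 hy⟩
  let Ω := AlgebraicClosure R
  let c : Spec (CommRingCat.of Ω) ⟶ Spec (CommRingCat.of R) := Spec.map (CommRingCat.ofHom (algebraMap R Ω))
  haveI : UniversallyInjective c := EtStrictAcycLib.universallyInjective_spec
  haveI : IsIntegralHom c := by
    rw [IsIntegralHom.SpecMap_iff]
    exact algebraMap_isIntegral_iff.2 inferInstance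
  haveI : Surjective c := ⟨fun x => ⟨default, Subsingleton.elim (α := PrimeSpectrum R) _ _⟩⟩
  let a : pullback (pullback.snd f gS) c ⟶ Xb := pullback.fst _ _
  haveI : IsIntegralHom a := MorphismProperty.pullback_fst _ _ ‹_›
  haveI : UniversallyInjective a := MorphismProperty.pullback_fst _ _ ‹_›
  haveI : Surjective a := MorphismProperty.pullback_fst _ _ ‹_›
  haveI : LocallyOfFiniteType (pullback.snd f gS) := MorphismProperty.pullback_snd _ _ ‹_›
  haveI : LocallyOfFiniteType (pullback.snd (pullback.snd f gS) c) := MorphismProperty.pullback_snd _ _ ‹_›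
  haveI : IsAffine (pullback (pullback.snd f gS) c) := inferInstance
  have hdim : topologicalKrullDim ↥(pullback (pullback.snd f gS) c) ≤ 1 := by
    letI : Algebra K Ω := (Spec.preimage (c ≫ gS)).hom.toAlgebra
    have hc : c ≫ gS = Spec.map (CommRingCat.ofHom (algebraMap K Ω)) := (Spec.map_preimage _).symm
    refine le_trans (le_of_eq ?_) hd
    rw [← FibDimLib.topologicalKrullDim_pullback_field K Ω f]
    exact IsHomeomorph.topologicalKrullDim_eq _ (Scheme.homeoOfIso
      (pullbackLeftPullbackSndIso f gS c ≪≫ pullback.congrHom rfl hc)).isHomeomorph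
  exact CdAffineCurveLib.cohDimLE_of_homeo a
    (CdAffineCurveLib.cohDimLE_one Ω (pullback.snd (pullback.snd f gS) c) hdim) _
    (CdCurveLib.isTorsion_pull_map _ hF) q hq

/-- Let K be a field with cd(K) <= e and X affine of finite type over K of dimension <= 1. Then cd(X) <=
1 + e. (Special case of the affine bound.) -/
theorem result (K : Type u) [Field K] (X : Scheme.{u}) [IsAffine X]
    (f : X ⟶ Spec (CommRingCat.of K)) [LocallyOfFiniteType f]
    (e : ℕ) (hd : topologicalKrullDim X ≤ 1) (hK : EtCoh.CohDimLE (Spec (CommRingCat.of K)) e) :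
    EtCoh.CohDimLE X (1 + e) := by
  haveI : QuasiSeparatedSpace ↥X := inferInstance
  intro F hF n hn
  refine CdLerayBoundLib.subsingleton_H_of_Rpush f e 1 F (fun q hq => isZero_Rpush K f hd F hF q hq)
    (fun q _ m hm => hK _ ?_ m hm) n hn
  exact EtShLib.isTorsion_rightDerived_push f hF q

end Groth.Agent.S0147
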