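import Groth.Statements.S0152
import Mathlib
-- import your own Groth.Agent.* helpers here

set_option autoImplicit false
universe u
open EtPBC

namespace Groth.Agent.S0152

/-- Let X be a spectral space and Z a closed subset such that Z meets the closure of every point of X in
a connected (nonempty) set. If Z is the disjoint union of two closed subsets Z_1, Z_2 then X is the
disjoint union of closed subsets X_1, X_2 with Z_i = Z ∩ X_i. -/
theorem result (X : Type u) [TopologicalSpace X] [SpectralSpace X]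
    (Z : Set X) (hZ : IsClosed Z)
    (hconn : ∀ x : X, IsConnected (Z ∩ closure {x}))
    (Z₁ Z₂ : Set X) (h₁ : IsClosed Z₁) (h₂ : IsClosed Z₂) (hdisj : Disjoint Z₁ Z₂) (hunion : Z₁ ∪ Z₂ = Z) :
    ∃ X₁ X₂ : Set X, IsClosed X₁ ∧ IsClosed X₂ ∧ Disjoint X₁ X₂ ∧ X₁ ∪ X₂ = Set.univ ∧
      Z₁ = Z ∩ X₁ ∧ Z₂ = Z ∩ X₂ := by
  classical
  have hmeet : ∀ x : X, (closure {x} ∩ Z₁).Nonempty ∨ (closure {x} ∩ Z₂).Nonempty := by
    intro x
    obtain ⟨z, hz, hzc⟩ := (hconn x).nonempty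
    rw [← hunion] at hz
    exact hz.imp (fun h => ⟨z, hzc, h⟩) (fun h => ⟨z, hzc, h⟩)
  have hnot : ∀ x : X, ¬ ((closure {x} ∩ Z₁).Nonempty ∧ (closure {x} ∩ Z₂).Nonempty) := by
    rintro x ⟨⟨a, hac, ha⟩, ⟨b, hbc, hb⟩⟩
    obtain ⟨c, -, hc1, hc2⟩ := isPreconnected_closed_iff.1 (hconn x).isPreconnected Z₁ Z₂ h₁ h₂
      (fun z hz => hunion.symm ▸ hz.1) ⟨a, ⟨hunion ▸ Or.inl ha, hac⟩, ha⟩ ⟨b, ⟨hunion ▸ Or.inr hb, hbc⟩, hb⟩
    exact hdisj.le_bot ⟨hc1, hc2⟩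
  have hgen : ∀ (W : Set X) (hWc : IsClosed W) (p : X),
      (∀ U : Set X, IsOpen U → IsCompact U → W ⊆ U → p ∈ U) → (closure {p} ∩ W).Nonempty := by
    intro W hWc p hp
    by_contra hemp
    have hsub : ∀ z ∈ W, ∃ U : Set X, IsOpen U ∧ IsCompact U ∧ z ∈ U ∧ U ⊆ (closure {p})ᶜ := by
      intro z hz
      obtain ⟨U, ⟨hUo, hUc⟩, hzU, hU⟩ := PrespectralSpace.isTopologicalBasis.exists_subset_of_mem_open
        (a := z) (u := (closure {p})ᶜ) (fun h => hemp ⟨z, h, hz⟩) isClosed_closure.isOpen_compl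
      exact ⟨U, hUo, hUc, hzU, hU⟩
    choose U hUo hUc hzU hU using hsub
    obtain ⟨t, ht⟩ := hWc.isCompact.elim_finite_subcover (fun z : W => U z.1 z.2) (fun z => hUo z.1 z.2)
      (fun z hz => Set.mem_iUnion.2 ⟨⟨z, hz⟩, hzU z hz⟩)
    obtain ⟨z, hz⟩ := Set.mem_iUnion.1 (hp (⋃ i ∈ t, U i.1 i.2)
      (isOpen_biUnion fun i _ => hUo _ _) (t.isCompact_biUnion fun i _ => hUc _ _) ht)
    obtain ⟨hzt, hpz⟩ := Set.mem_iUnion.1 hz
    exact hU _ _ hpz (subset_closure rfl)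
  let ι := {U : Set X × Set X // IsOpen U.1 ∧ IsCompact U.1 ∧ IsOpen U.2 ∧ IsCompact U.2 ∧ Z₁ ⊆ U.1 ∧ Z₂ ⊆ U.2}
  obtain ⟨⟨⟨U₁, U₂⟩, hU1o, _hc1, hU2o, _hc2, hZ1, hZ2⟩, hi'⟩ : ∃ i : ι, i.1.1 ∩ i.1.2 = ∅ := by
    by_contra hcon
    push Not at hcon
    haveI : Nonempty ι := ⟨⟨(Set.univ, Set.univ), isOpen_univ, isCompact_univ, isOpen_univ, isCompact_univ,
      Set.subset_univ _, Set.subset_univ _⟩⟩
    let C : ι → Set (WithConstructibleTopology X) := fun i => {t | t.ofTopology ∈ i.1.1 ∩ i.1.2}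
    have hcl : ∀ i, IsClosed (C i) := fun i => by
      rw [WithConstructibleTopology.isClosed_iff]
      have hk : IsCompact ((i.1.1 ∩ i.1.2)ᶜᶜ) := by
        rw [compl_compl]
        exact QuasiSeparatedSpace.inter_isCompact _ _ i.2.1 i.2.2.1 i.2.2.2.1 i.2.2.2.2.1
      refine (@isOpen_compl_iff X (i.1.1 ∩ i.1.2) (constructibleTopology X)).1 ?_
      exact hk.isOpen_constructibleTopology_of_isClosed (i.2.1.inter i.2.2.2.1).isClosed_compl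
    have hdir : Directed (fun a b => b ⊆ a) C := by
      intro a b
      refine ⟨⟨(a.1.1 ∩ b.1.1, a.1.2 ∩ b.1.2), a.2.1.inter b.2.1,
        QuasiSeparatedSpace.inter_isCompact _ _ a.2.1 a.2.2.1 b.2.1 b.2.2.1, a.2.2.2.1.inter b.2.2.2.1,
        QuasiSeparatedSpace.inter_isCompact _ _ a.2.2.2.1 a.2.2.2.2.1 b.2.2.2.1 b.2.2.2.2.1,
        Set.subset_inter a.2.2.2.2.2.1 b.2.2.2.2.2.1, Set.subset_inter a.2.2.2.2.2.2 b.2.2.2.2.2.2⟩,
        fun t ht => ⟨ht.1.1, ht.2.1⟩, fun t ht => ⟨ht.1.2, ht.2.2⟩⟩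
    obtain ⟨t, ht⟩ := IsCompact.nonempty_iInter_of_directed_nonempty_isCompact_isClosed C hdir
      (fun i => by
        obtain ⟨p, hp⟩ := hcon i
        exact ⟨WithTopology.toTopology _ p, hp⟩)
      (fun i => (hcl i).isCompact) hcl
    rw [Set.mem_iInter] at ht
    refine hnot t.ofTopology ⟨hgen Z₁ h₁ _ fun U hUo hUc hU => ?_, hgen Z₂ h₂ _ fun U hUo hUc hU => ?_⟩
    · exact (ht ⟨(U, Set.univ), hUo, hUc, isOpen_univ, isCompact_univ, hU, Set.subset_univ _⟩).1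
    · exact (ht ⟨(Set.univ, U), isOpen_univ, isCompact_univ, hUo, hUc, Set.subset_univ _, hU⟩).2
  have hdU : Disjoint U₁ U₂ := Set.disjoint_iff_inter_eq_empty.2 hi'
  have hcover : U₁ ∪ U₂ = Set.univ := by
    refine Set.eq_univ_of_forall fun x => ?_
    rcases hmeet x with ⟨z, hzc, hz⟩ | ⟨z, hzc, hz⟩
    · exact Or.inl ((specializes_iff_mem_closure.2 hzc).mem_open hU1o (hZ1 hz))
    · exact Or.inr ((specializes_iff_mem_closure.2 hzc).mem_open hU2o (hZ2 hz))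
  have hcompl : U₁ᶜ = U₂ := (IsCompl.compl_eq ⟨hdU, codisjoint_iff.2 hcover⟩)
  refine ⟨U₁, U₂, ?_, ?_, hdU, hcover, ?_, ?_⟩
  · rw [← compl_compl U₁, hcompl]; exact hU2o.isClosed_compl
  · rw [← hcompl]; exact hU1o.isClosed_compl
  · refine Set.Subset.antisymm (fun z hz => ⟨hunion ▸ Or.inl hz, hZ1 hz⟩) ?_
    rintro z ⟨hz, hzU⟩
    rw [← hunion] at hz
    exact hz.resolve_right fun h => hdU.le_bot ⟨hzU, hZ2 h⟩
  · refine Set.Subset.antisymm (fun z hz => ⟨hunion ▸ Or.inr hz, hZ2 hz⟩) ?_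
    rintro z ⟨hz, hzU⟩
    rw [← hunion] at hz
    exact hz.resolve_left fun h => hdU.le_bot ⟨hZ1 h, hzU⟩

end Groth.Agent.S0152
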