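import Groth.Statements.S0154
import Groth.Agent.AicVanishLib.Affine
import Groth.Agent.CdCurveLib.PushPt

set_option maxHeartbeats 1000000
set_option backward.isDefEq.respectTransparency false
set_option backward.isDefEq.respectTransparency.types false
-- import your own Groth.Agent.* helpers here

set_option autoImplicit false
universe u
open CategoryTheory CategoryTheory.Limits AlgebraicGeometry Opposite
open EtPBC

namespace Groth.Agent.S0154

open CategoryTheory.Abelian Groth.Agent.EtShLib Groth.Agent.EtCompLib DescSecLib EtSliceLib EtAcycLib CovDevLib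

theorem exists_pushout {X : Scheme.{u}} {G F E : EtCoh.Ab X} (a : G ⟶ F) (v : G ⟶ E) [Mono v]
    (hF : TorsionBy (fun m => 0 < m) F) (hE : TorsionBy (fun m => 0 < m) E) :
    ∃ (P : EtCoh.Ab X) (φ : F ⟶ P) (ψ : E ⟶ P), Mono φ ∧ a ≫ φ = v ≫ ψ ∧ EtCoh.IsTorsion P := by
  refine ⟨pushout a v, pushout.inl a v, pushout.inr a v, inferInstance, pushout.condition, ?_⟩
  refine CdCurveLib.isTorsion_of_torsionBy fun Ω _ _ η z => ?_
  let Φ := stk (A := AddCommGrpCat.{u + 1}) η
  haveI : Φ.Additive := Functor.additive_of_preserves_binary_products _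
  let π : F ⊞ E ⟶ pushout a v := biprod.desc (pushout.inl a v) (pushout.inr a v)
  have h1 : biprod.inl ≫ π = pushout.inl a v := biprod.inl_desc _ _
  have h2 : biprod.inr ≫ π = pushout.inr a v := biprod.inr_desc _ _
  haveI : Epi π := Preadditive.epi_of_cancel_zero π fun w hw => pushout.hom_ext
    (by rw [← h1, Category.assoc, hw, comp_zero, comp_zero])
    (by rw [← h2, Category.assoc, hw, comp_zero, comp_zero])
  obtain ⟨w, rfl⟩ := (AddCommGrpCat.epi_iff_surjective _).1 (inferInstance : Epi (Φ.map π)) z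
  obtain ⟨m, hm, he⟩ := hF Ω η (Φ.map biprod.fst w)
  obtain ⟨m', hm', he'⟩ := hE Ω η (Φ.map biprod.snd w)
  refine ⟨m * m', Nat.mul_pos hm hm', ?_⟩
  have key : ∀ {A B : AddCommGrpCat.{u + 1}} (g : A ⟶ B) (x : A) (k l : ℕ), k • x = 0 → (k * l) • g x = 0 :=
    fun g x k l hx => by rw [mul_comm, mul_smul, ← map_nsmul g.hom k x, hx, map_zero, smul_zero]
  have hw : Φ.map biprod.inl (Φ.map biprod.fst w) + Φ.map biprod.inr (Φ.map biprod.snd w) = w := by
    have h := congrArg (fun f => Φ.map f w) (biprod.total (X := F) (Y := E))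
    simp only [Functor.map_add, Functor.map_comp, CategoryTheory.Functor.map_id] at h
    exact h
  rw [← hw, map_add, smul_add]
  have e1 := key (Φ.map biprod.inl ≫ Φ.map π) (Φ.map biprod.fst w) m m' he
  have e2 := key (Φ.map biprod.inr ≫ Φ.map π) (Φ.map biprod.snd w) m' m he'
  rw [mul_comm m' m] at e2
  exact (congrArg₂ (· + ·) e1 e2).trans (add_zero 0)

/-- Let X be an affine scheme, i : Z → X a closed immersion, F a torsion abelian sheaf on X_ét, q > 0
and ξ ∈ H^q(Z, i^* F). Then there is an injective map F → F' of torsion abelian sheaves on X_ét such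
that ξ maps to zero in H^q(Z, i^* F'). -/
theorem result (X Z : Scheme.{u}) [IsAffine X]
    (i : Z ⟶ X) [IsClosedImmersion i] [EtCoh.BCCont i]
    (F : EtCoh.Ab X) (hF : EtCoh.IsTorsion F) (q : ℕ) (hq : 0 < q)
    (ξ : EtCoh.H Z ((EtCoh.pull i).obj F) q) :
    ∃ (F' : EtCoh.Ab X) (_ : EtCoh.IsTorsion F') (φ : F ⟶ F') (_ : Mono φ),
      Sheaf.H.map ((EtCoh.pull i).map φ) q ξ = 0 := by
  haveI : PreservesFiniteLimits (EtCoh.pull i) := preservesFiniteLimits_pullA (A := AddCommGrpCat.{u + 1}) i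
  haveI : IsAffine Z := isAffine_of_isAffineHom i
  haveI : (EtCoh.pull i).IsLeftAdjoint := (EtCoh.pullPushAdj i).isLeftAdjoint
  haveI : (EtCoh.pull i).Additive := { }
  haveI := isFiltered_consOver F
  obtain ⟨n, rfl⟩ : ∃ n, q = n + 1 := ⟨q - 1, by omega⟩
  obtain ⟨hc⟩ := nonempty_isColimit_consCocone F (torsionBy_of_isTorsion hF)
  haveI := preservesColimits_H (S := Z) (n + 1) (ConsOver F)
  let EZ := Abelian.extFunctorObj.{u + 1} (EtCoh.const Z ℤ) (n + 1)
  obtain ⟨p, yp, hyp⟩ := exists_rep_of_colimit (EtCoh.pull i) EZ hc ξ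
  obtain ⟨E, v, hv, hE, d, hd, hdE⟩ := AicVanishLib.exists_embed_acyclic i (PresOver.isCons (F := F) p)
  haveI := hv
  obtain ⟨P, φ, ψ, hφ, hsq, hP⟩ := exists_pushout (G := (consDiagram F).obj p) ((consCocone F).ι.app p) v
    (torsionBy_of_isTorsion hF) (AicVanishLib.torsionBy_of_nsmul hd hdE)
  refine ⟨P, hP, φ, hφ, ?_⟩
  haveI := (hE n).2
  have hξ : Sheaf.H.map ((EtCoh.pull i).map ((consCocone F).ι.app p)) (n + 1) yp = ξ := hyp
  rw [← hξ, Sheaf.H.map_apply, Sheaf.H.map_apply, Ext.comp_assoc_of_second_deg_zero, Ext.mk₀_comp_mk₀,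
    ← Functor.map_comp]
  erw [hsq]
  rw [Functor.map_comp, ← Ext.mk₀_comp_mk₀, ← Ext.comp_assoc_of_second_deg_zero,
    Subsingleton.elim (α := EtCoh.H Z ((EtCoh.pull i).obj E) (n + 1)) (Ext.comp yp _ _) 0, Ext.zero_comp]

end Groth.Agent.S0154
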