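import Groth.Statements.S0158
import Groth.Agent.EtPBCProperLib.Effacement
import Groth.Agent.ConsFiniteLib.Dev
import Groth.Agent.S0001

set_option autoImplicit false
universe u
open CategoryTheory CategoryTheory.Limits AlgebraicGeometry Opposite
open EtPBC

namespace Groth.Agent.S0158

/-- For a proper morphism f : X → Y the following are equivalent: (1) cohomology commutes with base
change for f, i.e. for every cartesian square with g : Y' → Y, g' : X' → X, f' : X' → Y' and every
torsion abelian sheaf F on X_ét there are isomorphisms g^* R^q f_* F ≅ R^q f'_* g'^* F; (2) for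
every prime ℓ, every sheaf I of ℤ/ℓ-modules on X_ét which is injective among sheaves of ℤ/ℓ-modules,
and every cartesian square as above, R^q f'_*(g'^* I) = 0 for q > 0. Injectivity among sheaves of
ℤ/ℓ-modules is spelled out as the extension property against monomorphisms of sheaves killed by ℓ.
Condition (1) is used in its abstract-isomorphism form; the published proof shows that (2) yields
the canonical base change isomorphisms. -/
theorem result {X Y : Scheme.{u}} (f : X ⟶ Y) [IsProper f] [EtCoh.BCCont f] :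
    EtPBC.CohCommutesWithBC f ↔
      ∀ (ℓ : ℕ), ℓ.Prime → ∀ (I : EtCoh.Ab X), EtCoh.KilledBy ℓ I →
        (∀ (G : EtCoh.Ab X), EtCoh.KilledBy ℓ G → ∀ (a : G ⟶ I) {G' : EtCoh.Ab X} (m : G ⟶ G'),
            EtCoh.KilledBy ℓ G' → Mono m → ∃ b : G' ⟶ I, m ≫ b = a) →
        ∀ ⦃X' Y' : Scheme.{u}⦄ (f' : X' ⟶ Y') (g' : X' ⟶ X) (g : Y' ⟶ Y)
          [EtCoh.BCCont f'] [EtCoh.BCCont g'], IsPullback g' f' f g →
          ∀ q : ℕ, 0 < q → IsZero ((EtCoh.Rpush f' q).obj ((EtCoh.pull g').obj I)) := by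
  constructor
  · intro h ℓ hℓ I hI hinj X' Y' f' g' g _ _ hc q hq
    have hI0 : ℓ • 𝟙 I = 0 := (ConsFiniteLib.killedBy_iff ℓ I).1 hI
    obtain ⟨J, hJ, m, hm⟩ := EtPBCProperLib.exists_mono_nTor hI0
    haveI := hJ
    haveI := hm
    have hn := EtPBCProperLib.nsmul_nTor J ℓ
    obtain ⟨b, hb⟩ := hinj I hI (𝟙 I) m ((ConsFiniteLib.killedBy_iff ℓ _).2 hn) hm
    have hz := EtPBCProperLib.isZero_Rpush_nTor f J hℓ.pos q hq
    have hR : IsZero ((EtCoh.Rpush f q).obj I) := by
      rw [IsZero.iff_id_eq_zero, ← CategoryTheory.Functor.map_id, ← hb, Functor.map_comp,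
        hz.eq_of_tgt ((EtCoh.Rpush f q).map m) 0, zero_comp]
    have hT : EtCoh.IsTorsion I := EtPBCProperLib.isTorsion_of_nsmul hℓ.pos hI0
    obtain ⟨e⟩ := h f' g' g hc I hT q
    haveI : (EtCoh.pull g).IsLeftAdjoint := (EtCoh.pullPushAdj g).isLeftAdjoint
    exact ((EtCoh.pull g).map_isZero hR).of_iso e.symm
  · intro _ X' Y' f' g' g _ _ _ hc F hF q
    exact (Groth.Agent.S0001.result X Y X' Y' f g f' g' hc F hF).1 q

end Groth.Agent.S0158
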