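import Groth.Statements.S0169
import Groth.Agent.EtShLib.SplitFinite
-- import your own Groth.Agent.* helpers here

set_option autoImplicit false
universe u
open CategoryTheory CategoryTheory.Limits AlgebraicGeometry Opposite
set_option backward.isDefEq.respectTransparency false
set_option backward.isDefEq.respectTransparency.types false
open EtPBC

namespace Groth.Agent.S0169

/-- For j : U -> X an etale morphism of quasi-compact quasi-separated schemes there are finitely many
immersions T_i -> X with pairwise disjoint constructible images covering X such that U x_X T_i ->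
T_i is finite (etale) for each i. -/
theorem result {U X : Scheme.{u}} [CompactSpace U] [QuasiSeparatedSpace U]
    [CompactSpace X] [QuasiSeparatedSpace X] (j : U ⟶ X) [Etale j] :
    ∃ (n : ℕ) (T : Fin n → Scheme.{u}) (g : ∀ i, T i ⟶ X),
      (∀ i, IsImmersion (g i)) ∧ (∀ i, Topology.IsConstructible (Set.range (g i))) ∧
      Pairwise (fun i i' => Disjoint (Set.range (g i)) (Set.range (g i'))) ∧
      (⋃ i, Set.range (g i)) = Set.univ ∧ ∀ i, IsFinite (pullback.snd j (g i)) := by
  let V : X.Etale := MorphismProperty.Over.mk ⊤ j ‹Etale j›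
  haveI : CompactSpace V.left := inferInstanceAs (CompactSpace U)
  haveI : QuasiSeparatedSpace V.left := inferInstanceAs (QuasiSeparatedSpace U)
  choose T g hi hx hc hs using Groth.Agent.EtShLib.exists_split_strata V
  obtain ⟨t, ht⟩ := Groth.Agent.EtShLib.exists_finite_subcover_constructible (fun x => Set.range (g x)) hc
    (Set.eq_univ_of_forall fun x => Set.mem_iUnion.2 ⟨x, hx x⟩)
  haveI : ∀ i : t, IsImmersion (g i.1) := fun i => hi i.1
  obtain ⟨n, E, e, he, hec, hd, hu, hor⟩ := Groth.Agent.EtShLib.exists_partition (X := X) isOpen_univ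
    (fun i : t => T i.1) (fun i => g i.1)
    (fun i => (hc i.1).preimage_of_isOpenEmbedding isOpen_univ.isOpenEmbedding_subtypeVal)
  refine ⟨n, E, e, he, fun k => ?_, hd, hu, fun k => ?_⟩
  · exact Topology.IsConstructible.preimage_of_isOpenEmbedding (f := fun x => (⟨x, trivial⟩ : (Set.univ : Set X)))
      (Homeomorph.Set.univ X).symm.isOpenEmbedding (hec k)
  by_cases hne : Nonempty (E k)
  · obtain ⟨p⟩ := hne
    obtain ⟨x, hxt, hxe⟩ := Set.mem_iUnion₂.1 (ht.ge (Set.mem_univ ((e k).base p)))
    obtain ⟨l, hl⟩ := (hor k ⟨x, hxt⟩).resolve_right fun h => Set.disjoint_left.1 h ⟨p, rfl⟩ hxe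
    haveI hf : IsFinite (pullback.snd j (g x)) := Groth.Agent.EtShLib.Splits.isFinite (hs x)
    let m : pullback j (e k) ⟶ pullback j (g x) :=
      pullback.lift (pullback.fst _ _) (pullback.snd _ _ ≫ l) (by rw [Category.assoc, hl, pullback.condition])
    have sq : IsPullback m (pullback.snd j (e k)) (pullback.snd j (g x)) l :=
      IsPullback.of_right (by rw [pullback.lift_fst, hl]; exact IsPullback.of_hasPullback _ _)
        (pullback.lift_snd _ _ _) (IsPullback.of_hasPullback _ _)
    exact MorphismProperty.of_isPullback sq hf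
  · haveI : IsEmpty (E k) := not_nonempty_iff.1 hne
    haveI : IsEmpty ↥(pullback j (e k)) := Function.isEmpty (pullback.snd j (e k)).base
    infer_instance

end Groth.Agent.S0169
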