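import Groth.Statements.S0174
import Groth.Agent.EtArtinLib.Main
-- import your own Groth.Agent.* helpers here

set_option autoImplicit false
universe u
open CategoryTheory CategoryTheory.Limits AlgebraicGeometry Opposite
open EtPBC

namespace Groth.Agent.S0174
open CategoryTheory.Limits


/-- Let K be a field, X and Y K-schemes of finite type, f : X → Y an affine morphism over K, and F a
torsion abelian sheaf on X_ét whose support consists of points of transcendence degree at most a
over K. Then R^q f_* F is supported on points of transcendence degree at most a − q over K.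
Formally, for natural numbers a, q, b with q + b = a, the conclusion is that the support of R^q f_*
F lies in points of transcendence degree at most b; the case q > a, where the published statement
gives empty support, is not covered. -/
theorem result (K : Type u) [Field K] {X Y : Scheme.{u}} (aX : X ⟶ Spec (CommRingCat.of K))
    (aY : Y ⟶ Spec (CommRingCat.of K)) [LocallyOfFiniteType aX] [QuasiCompact aX]
    [LocallyOfFiniteType aY] [QuasiCompact aY] (f : X ⟶ Y) (w : f ≫ aY = aX) [IsAffineHom f] [EtCoh.BCCont f]
    (a q b : ℕ) (hqb : q + b = a)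
    (F : EtCoh.Ab X) (hF : EtCoh.IsTorsion F) (hsupp : ∀ x ∈ EtPBC.supp F, EtPBC.ResTrdegLE aX x a) :
    ∀ y ∈ EtPBC.supp ((EtCoh.Rpush f q).obj F), EtPBC.ResTrdegLE aY y b := by
  intro y hy
  have hd : ∀ x ∈ EtPBC.supp F, topologicalKrullDim (closure ({x} : Set X)) ≤ a := fun x hx =>
    (EtArtinLib.closureDim_le_iff aX x a).2 ((EtArtinLib.resTrdegLE_iff aX x a).1 (hsupp x hx))
  obtain ⟨s, hs, hs'⟩ := EtArtinLib.exists_closureDim aY y
  have h1 := EtArtinLib.supp_Rpush_subset aX aY f w F hF a hd q hy
  rw [Set.mem_setOf_eq, hs] at h1
  have h2 : s + q ≤ a := by exact_mod_cast h1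
  rw [EtArtinLib.resTrdegLE_iff, hs']
  exact_mod_cast (show s ≤ b by omega)


end Groth.Agent.S0174
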