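import Groth.Statements.S0175
import Groth.Agent.EtShLib.RestrPull
import Groth.Agent.EtShLib.PushStalk

set_option backward.isDefEq.respectTransparency false
set_option backward.isDefEq.respectTransparency.types false
set_option maxHeartbeats 1000000
set_option synthInstance.maxHeartbeats 400000

set_option autoImplicit false
universe u
open CategoryTheory CategoryTheory.Limits AlgebraicGeometry Opposite
open EtPBC

namespace Groth.Agent.S0175

open Groth.Agent.EtShLib

theorem isIso_unit_stalk_open {U X : Scheme.{u}} (j : U ⟶ X) [IsOpenImmersion j] (F : EtCoh.Ab X) {Ω : Type u}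
    [Field Ω] [IsSepClosed Ω] (η : Spec (CommRingCat.of Ω) ⟶ U) :
    IsIso ((stk (A := AddCommGrpCat.{u + 1}) (η ≫ j)).map ((EtCoh.pullPushAdj j).unit.app F)) := by
  haveI := isIso_compare (A := AddCommGrpCat.{u + 1}) j η (refines_of_openImmersion j η) ((EtCoh.pull j).obj F)
  have e : (stk (A := AddCommGrpCat.{u + 1}) (η ≫ j)).map ((EtCoh.pullPushAdj j).unit.app F) ≫
      compare j η ((EtCoh.pull j).obj F) = (stalkPull j η AddCommGrpCat.{u + 1}).hom.app F := by
    apply stk_hom_ext
    intro V v
    rw [← Category.assoc, germ_natural, Category.assoc]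
    exact (congrArg (_ ≫ ·) (germ_compare j η _ V v)).trans (germ_stalkPull j η _ F V v).symm
  haveI : IsIso ((stk (A := AddCommGrpCat.{u + 1}) (η ≫ j)).map ((EtCoh.pullPushAdj j).unit.app F) ≫
      compare j η ((EtCoh.pull j).obj F)) := by rw [e]; infer_instance
  exact IsIso.of_isIso_comp_right _ (compare j η ((EtCoh.pull j).obj F))

/-- Let i : Z → X be a closed immersion of schemes with open complement j : U → X, and I an injective
abelian sheaf on X_ét. Then the subsheaf H_Z(I) of sections supported on Z (the kernel of I → j_*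
j^* I), viewed on Z_ét via i^*, is an injective abelian sheaf on Z_ét. -/
theorem result {Z X U : Scheme.{u}} (i : Z ⟶ X) [IsClosedImmersion i]
    (j : U ⟶ X) [IsOpenImmersion j] (hZU : Set.range j = (Set.range i)ᶜ)
    [EtCoh.BCCont i] [EtCoh.BCCont j] (I : EtCoh.Ab X) [Injective I] :
    Injective ((EtCoh.pull i).obj (kernel ((EtCoh.pullPushAdj j).unit.app I))) := by
  let u := (EtCoh.pullPushAdj j).unit.app I
  let K := kernel u
  haveI : IsIso ((EtCoh.pullPushAdj i).unit.app K) := unit_isIso_of_vanish i K fun W hW => ⟨fun s t => by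
    have hi : Function.Injective ((kernel.ι u).hom.app (op W)) := by
      haveI : Mono (kernel.ι u).hom := inferInstanceAs (Mono ((sheafToPresheaf _ _).map (kernel.ι u)))
      exact (AddCommGrpCat.mono_iff_injective _).1 inferInstance
    refine hi (eq_of_germ (A := AddCommGrpCat.{u + 1}) I _ _ fun Ω _ _ ξ v => ?_)
    obtain ⟨η, rfl⟩ : ∃ η, η ≫ j = ξ := by
      refine ⟨IsOpenImmersion.lift j ξ ?_, IsOpenImmersion.lift_fac _ _ _⟩
      rintro _ ⟨z, rfl⟩
      rw [hZU, Subsingleton.elim z default]
      exact hW ⟨v.pt, congrArg (fun q : _ ⟶ X => q.base default) v.w⟩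
    haveI := isIso_unit_stalk_open j I η
    apply (ConcreteCategory.bijective_of_isIso ((stk (A := AddCommGrpCat.{u + 1}) (η ≫ j)).map u)).1
    have h0 : ∀ x, (stk (A := AddCommGrpCat.{u + 1}) (η ≫ j)).map u
        (germ (A := AddCommGrpCat.{u + 1}) (η ≫ j) I W v ((kernel.ι u).hom.app (op W) x)) = 0 := fun x => by
      refine (germ_natural_apply (η ≫ j) u W v _).trans ?_
      rw [← ConcreteCategory.comp_apply ((kernel.ι u).hom.app (op W))]
      have hh : (kernel.ι u).hom.app (op W) ≫ u.hom.app (op W) = 0 :=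
        congrArg (fun m => m.hom.app (op W)) (kernel.condition u)
      exact (congrArg (fun m => germ (A := AddCommGrpCat.{u + 1}) (η ≫ j) ((EtCoh.push j).obj ((EtCoh.pull j).obj I)) W v
        (m x)) hh).trans (map_zero _)
    exact (h0 s).trans (h0 t).symm⟩
  haveI : PreservesLimitsOfSize.{0, 0} (EtCoh.push i) := (EtCoh.pullPushAdj i).rightAdjoint_preservesLimits
  refine ⟨fun {G G'} f a _ => ?_⟩
  let g : (EtCoh.push i).obj G ⟶ I :=
    (EtCoh.push i).map f ≫ inv ((EtCoh.pullPushAdj i).unit.app K) ≫ kernel.ι u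
  obtain ⟨h, hh⟩ := Injective.factors g ((EtCoh.push i).map a)
  have hu : h ≫ u = 0 := by
    apply ((EtCoh.pullPushAdj j).homEquiv _ _).symm.injective
    refine Sheaf.hom_ext (NatTrans.ext (funext fun ⟨W⟩ => AddCommGrpCat.ext fun x => ?_))
    refine eq_of_germ (A := AddCommGrpCat.{u + 1}) ((EtCoh.pull j).obj I) _ _ fun Ω _ _ ξ v => ?_
    rw [← germ_natural_apply, ← germ_natural_apply]
    haveI := subsingleton_push_stalk i G' (ξ ≫ j) (by
      intro hmem
      have : (ξ ≫ j).base default ∈ Set.range j.base := ⟨ξ.base default, rfl⟩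
      rw [hZU] at this
      exact this hmem)
    obtain ⟨y, hy⟩ := (ConcreteCategory.bijective_of_isIso
      ((stalkPull j ξ AddCommGrpCat.{u + 1}).hom.app ((EtCoh.push i).obj G'))).2
      (germ (A := AddCommGrpCat.{u + 1}) ξ ((EtCoh.pull j).obj ((EtCoh.push i).obj G')) W v x)
    rw [Subsingleton.elim y 0, map_zero] at hy
    rw [← hy, map_zero, map_zero]
  haveI := counit_isIso_of_closedImmersion i G
  haveI := counit_isIso_of_closedImmersion i G'
  refine ⟨inv ((EtCoh.pullPushAdj i).counit.app G') ≫ (EtCoh.pull i).map (kernel.lift u h hu), ?_⟩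
  have e1 : (EtCoh.push i).map a ≫ kernel.lift u h hu = (EtCoh.push i).map f ≫ inv ((EtCoh.pullPushAdj i).unit.app K) := by
    rw [← cancel_mono (kernel.ι u), Category.assoc, kernel.lift_ι, hh, Category.assoc]
  have e2 : a ≫ inv ((EtCoh.pullPushAdj i).counit.app G') =
      inv ((EtCoh.pullPushAdj i).counit.app G) ≫ (EtCoh.pull i).map ((EtCoh.push i).map a) := by
    rw [IsIso.comp_inv_eq, Category.assoc, IsIso.eq_inv_comp]
    exact ((EtCoh.pullPushAdj i).counit.naturality a).symm
  rw [← Category.assoc, e2, Category.assoc, ← Functor.map_comp, e1, Functor.map_comp, IsIso.inv_comp_eq,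
    Functor.map_inv, IsIso.comp_inv_eq]
  have hn := (EtCoh.pullPushAdj i).counit.naturality f
  have ht := (EtCoh.pullPushAdj i).left_triangle_components K
  haveI := counit_isIso_of_closedImmersion i ((EtCoh.pull i).obj K)
  rw [← cancel_mono ((EtCoh.pullPushAdj i).counit.app ((EtCoh.pull i).obj K))]
  simp only [Category.assoc]
  erw [ht, Category.comp_id]
  exact hn

end Groth.Agent.S0175
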