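import Groth.Statements.S0182
import Groth.Agent.EtShLib.Locus
-- import your own Groth.Agent.* helpers here

set_option autoImplicit false
universe u
open CategoryTheory CategoryTheory.Limits AlgebraicGeometry Opposite
set_option backward.isDefEq.respectTransparency false
open EtPBC

namespace Groth.Agent.S0182

/-- (1), surjectivity case, for abelian sheaves: X quasi-compact and quasi-separated, F -> G a map of
constructible abelian sheaves on X_et; the set of points x of X such that F -> G is surjective on
stalks at (every) geometric point over x is constructible. The source states this for constructible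
sheaves of sets; an abelian constructible sheaf is one, with the same stalks. -/
theorem result (X : Scheme.{u}) [CompactSpace X] [QuasiSeparatedSpace X]
    {F G : EtCoh.Ab X} (φ : F ⟶ G) (hF : EtPBC.IsConstructible F) (hG : EtPBC.IsConstructible G) :
    Topology.IsConstructible {x : X | ∀ (Ω : Type u) [Field Ω] [IsSepClosed Ω]
      (ξ : Spec (CommRingCat.of Ω) ⟶ X), Set.range ξ = {x} →
        Function.Surjective ((EtCoh.stalk ξ).map φ)} := by
  have hc : EtPBC.IsConstructible (cokernel φ) := (Groth.Agent.EtShLib.isConstructible_iff _).2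
    (Groth.Agent.EtShLib.cons_cokernel φ ((Groth.Agent.EtShLib.isConstructible_iff F).1 hF)
      ((Groth.Agent.EtShLib.isConstructible_iff G).1 hG))
  have hs : Topology.IsConstructible (EtPBC.supp (cokernel φ)) :=
    (Groth.Agent.EtShLib.isLocallyConstructible_supp hc).isConstructible
  have key : ∀ (Ω : Type u) [Field Ω] [IsSepClosed Ω] (ξ : Spec (CommRingCat.of Ω) ⟶ X),
      Function.Surjective ((EtCoh.stalk ξ).map φ) ↔ IsZero ((EtCoh.stalk ξ).obj (cokernel φ)) := by
    intro Ω _ _ ξ
    let P := Groth.Agent.EtShLib.stk (A := AddCommGrpCat.{u + 1}) ξ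
    show Function.Surjective (P.map φ) ↔ IsZero (P.obj (cokernel φ))
    rw [← AddCommGrpCat.epi_iff_surjective, Preadditive.epi_iff_isZero_cokernel]
    exact ⟨fun h => h.of_iso (PreservesCokernel.iso P φ), fun h => h.of_iso (PreservesCokernel.iso P φ).symm⟩
  convert hs.compl using 1
  ext x
  refine ⟨fun h ⟨Ω, i1, i2, ξ, hξ, hz⟩ => ?_, fun h Ω _ _ ξ hξ => ?_⟩
  · letI := i1; letI := i2
    exact hz ((key Ω ξ).1 (h Ω ξ hξ))
  · rw [key Ω ξ]
    by_contra hz
    exact h ⟨Ω, _, _, ξ, hξ, hz⟩

end Groth.Agent.S0182
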