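import Groth.Statements.S0183
import Groth.Agent.WLocalLib.Universal
import Groth.Agent.WLocalLib.IndZarId

set_option autoImplicit false
universe u
open CategoryTheory CategoryTheory.Limits AlgebraicGeometry Opposite
open EtPBC

namespace Groth.Agent.S0183

open WLocalLib CategoryTheory in
theorem isIndZariski_of_algEquiv {A B C : Type u} [CommRing A] [CommRing B] [CommRing C] [Algebra A B] [Algebra A C]
    (e : B ≃ₐ[A] C) (h : EtPBC.IsIndZariski A B) : EtPBC.IsIndZariski A C := by
  obtain ⟨J, i1, i2, D, c, hc, hD, ⟨i⟩⟩ := h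
  exact ⟨J, i1, i2, D, c, hc, hD,
    ⟨i ≪≫ Under.isoMk e.toRingEquiv.toCommRingCatIso (CommRingCat.hom_ext (RingHom.ext e.commutes))⟩⟩

open WLocalLib in
theorem isIndZariski_comp {A B : Type u} [CommRing A] [CommRing B] [Algebra A B] (h : EtPBC.IdentifiesLocalRings A B)
    (d : Chart B) [Algebra A d.R] [IsScalarTower A B d.R] : EtPBC.IsIndZariski A d.R := by
  let c : Chart A :=
    { T := d.T, top := d.top, cpt := d.cpt, t2 := d.t2, tdc := d.tdc
      φ := fun t => PrimeSpectrum.comap (algebraMap A B) (d.φ t)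
      isClopen_D := fun a => d.isClopen_D (algebraMap A B a) }
  let σ : ∀ t, c.St t →+* d.St t := fun t =>
    Localization.localRingHom (c.φ t).asIdeal (d.φ t).asIdeal (algebraMap A B) rfl
  have hσ : ∀ t, Function.Bijective (σ t) := fun t => h (d.φ t)
  have hσa : ∀ t a, σ t (algebraMap A (c.St t) a) = algebraMap B (d.St t) (algebraMap A B a) := fun t a =>
    Localization.localRingHom_to_map _ _ _ _ a
  have h1 : ∀ s : ∀ t, c.St t, c.IsLocFrac s → d.IsLocFrac (fun t => σ t (s t)) := by
    intro s hs t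
    obtain ⟨W, hW, htW, a, f, hf⟩ := hs t
    refine ⟨W, hW, htW, algebraMap A B a, algebraMap A B f, fun t' ht' => ⟨(hf t' ht').1, ?_⟩⟩
    show σ t' (s t') * _ = _
    rw [← hσa, ← hσa, ← map_mul, (hf t' ht').2]
  have h2 : ∀ s : ∀ t, c.St t, d.IsLocFrac (fun t => σ t (s t)) → c.IsLocFrac s := by
    intro s hs t
    obtain ⟨W, hW, htW, b, f, hf⟩ := hs t
    obtain ⟨x, hx⟩ : ∃ x, σ t x = IsLocalization.mk' (d.St t) b
        (⟨f, (hf t htW).1⟩ : (d.φ t).asIdeal.primeCompl) := (hσ t).2 _
    obtain ⟨⟨a, g⟩, rfl⟩ := IsLocalization.mk'_surjective (c.φ t).asIdeal.primeCompl x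
    have e : algebraMap B (d.St t) (b * algebraMap A B g) = algebraMap B (d.St t) (algebraMap A B a * f) := by
      have k1 := congrArg (σ t) (IsLocalization.mk'_spec (c.St t) a g)
      rw [map_mul, hx, hσa, hσa] at k1
      rw [map_mul, map_mul, ← k1, mul_right_comm, IsLocalization.mk'_spec]
    obtain ⟨⟨u, hu⟩, hue⟩ := (IsLocalization.eq_iff_exists (d.φ t).asIdeal.primeCompl (d.St t)).1 e
    refine ⟨W ∩ {t' | (g : A) ∉ (c.φ t').asIdeal} ∩ {t' | u ∉ (d.φ t').asIdeal},
      (hW.inter (c.isClopen_D g)).inter (d.isClopen_D u), ⟨⟨htW, g.2⟩, hu⟩, a, g, fun t' ht' => ⟨ht'.1.2, ?_⟩⟩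
    apply (hσ t').1
    rw [map_mul, hσa, hσa]
    have k2 := (hf t' ht'.1.1).2
    refine ((IsLocalization.map_units (d.St t') (⟨u, ht'.2⟩ : (d.φ t').asIdeal.primeCompl)).mul
      (IsLocalization.map_units (d.St t') (⟨f, (hf t' ht'.1.1).1⟩ : (d.φ t').asIdeal.primeCompl))).mul_left_cancel ?_
    have k3 := congrArg (algebraMap B (d.St t')) hue
    simp only [map_mul] at k3
    linear_combination (algebraMap B (d.St t') u * algebraMap B (d.St t') (algebraMap A B g)) * k2 + k3
  let Φ : c.R →ₐ[A] d.R :=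
    { toFun := fun s => ⟨fun t => σ t (s.1 t), h1 s.1 s.2⟩
      map_one' := Subtype.ext (funext fun t => map_one (σ t))
      map_mul' := fun x y => Subtype.ext (funext fun t => map_mul (σ t) _ _)
      map_zero' := Subtype.ext (funext fun t => map_zero (σ t))
      map_add' := fun x y => Subtype.ext (funext fun t => map_add (σ t) _ _)
      commutes' := fun a => by
        rw [IsScalarTower.algebraMap_apply A B d.R a]
        exact Subtype.ext (funext fun t => hσa t a) }
  refine isIndZariski_of_algEquiv (AlgEquiv.ofBijective Φ ⟨fun x y hxy => ?_, fun y => ?_⟩) c.isIndZariski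
  · exact Subtype.ext (funext fun t => (hσ t).1 (congrFun (congrArg Subtype.val hxy) t))
  · choose x hx using fun t => (hσ t).2 (y.1 t)
    refine ⟨⟨x, h2 x ?_⟩, Subtype.ext (funext hx)⟩
    rw [show (fun t => σ t (x t)) = y.1 from funext hx]
    exact y.2

/-- Suppose A -> B identifies local rings (A_p -> B_q bijective for every prime q of B over p). Then B
can be enlarged along a faithfully flat ind-Zariski extension B' so that B' is already ind-Zariski
over A; ind-Zariski means: a filtered colimit of local isomorphisms in the sense of Mathlib's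
Algebra.IsLocalIso (Zariski-locally on the source a standard open immersion). -/
theorem result (A B : Type u) [CommRing A] [CommRing B] [Algebra A B]
    (h : EtPBC.IdentifiesLocalRings A B) :
    ∃ (B' : Type u) (_ : CommRing B') (_ : Algebra B B') (_ : Algebra A B') (_ : IsScalarTower A B B'),
      Module.FaithfullyFlat B B' ∧ EtPBC.IsIndZariski B B' ∧ EtPBC.IsIndZariski A B' := by
  letI : Algebra A (Groth.Agent.WLocalLib.Chart.cons B).R :=
    ((algebraMap B (Groth.Agent.WLocalLib.Chart.cons B).R).comp (algebraMap A B)).toAlgebra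
  haveI : IsScalarTower A B (Groth.Agent.WLocalLib.Chart.cons B).R := IsScalarTower.of_algebraMap_eq fun _ => rfl
  refine ⟨(Groth.Agent.WLocalLib.Chart.cons B).R, inferInstance, inferInstance, inferInstance, inferInstance,
    Groth.Agent.WLocalLib.Chart.faithfullyFlat _ fun m hm => ⟨WithTopology.toTopology _ ⟨m, hm.isPrime⟩, rfl⟩,
    (Groth.Agent.WLocalLib.Chart.cons B).isIndZariski, ?_⟩
  exact isIndZariski_comp h (Groth.Agent.WLocalLib.Chart.cons B)

end Groth.Agent.S0183
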