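import Groth.Statements.S0191
import Mathlib.LinearAlgebra.TensorProduct.RightExactness
import Mathlib.LinearAlgebra.TensorProduct.Basis
import Mathlib.RingTheory.TwoSidedIdeal.Operations
-- import your own Groth.Agent.* helpers here

set_option autoImplicit false
universe u v w
open scoped TensorProduct
open Curves

namespace Groth.Agent.S0191

/-- If K is a skew field with center k, every two-sided ideal of A ⊗ K is generated by the elements a ⊗
1 it contains. -/
theorem result (k : Type u) [Field k] (A : Type v) [Ring A] [Algebra k A]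
    (K : Type w) [DivisionRing K] [Algebra k K] [Algebra.IsCentral k K]
    (I : TwoSidedIdeal (A ⊗[k] K)) :
    I = TwoSidedIdeal.span ((fun a : A => a ⊗ₜ[k] (1 : K)) '' {a : A | a ⊗ₜ[k] (1 : K) ∈ I}) := by
  classical
  set J := TwoSidedIdeal.span ((fun a : A => a ⊗ₜ[k] (1 : K)) '' {a : A | a ⊗ₜ[k] (1 : K) ∈ I})
  have hJI : J ≤ I := TwoSidedIdeal.span_le.2 (by rintro _ ⟨a, ha, rfl⟩; exact ha)
  refine le_antisymm (fun z hz => ?_) hJI
  let N : Submodule k A :=
    { carrier := {a | a ⊗ₜ[k] (1 : K) ∈ I}
      zero_mem' := by simpa using I.zero_mem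
      add_mem' := fun {a b} ha hb => by simpa [TensorProduct.add_tmul] using I.add_mem ha hb
      smul_mem' := fun c a ha => by
        have := I.mul_mem_left (algebraMap k (A ⊗[k] K) c) _ ha
        rw [← Algebra.smul_def, TensorProduct.smul_tmul'] at this
        exact this }
  let b := Module.Basis.ofVectorSpace k (A ⧸ N)
  let p : A ⊗[k] K →ₗ[k] _ :=
    (TensorProduct.equivFinsuppOfBasisLeft b).toLinearMap ∘ₗ LinearMap.rTensor K N.mkQ
  have hp : ∀ a c i, p (a ⊗ₜ[k] c) i = b.repr (N.mkQ a) i • c := fun a c i => by simp [p]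
  have hpR : ∀ (w : A ⊗[k] K) x i, p (w * (1 ⊗ₜ x)) i = p w i * x := fun w x i => by
    induction w using TensorProduct.induction_on with
    | zero => simp
    | add u v hu hv => simp only [add_mul, map_add, Finsupp.add_apply, hu, hv]
    | tmul a c => rw [Algebra.TensorProduct.tmul_mul_tmul, mul_one, hp, hp, smul_mul_assoc]
  have hpL : ∀ (w : A ⊗[k] K) x i, p ((1 ⊗ₜ x) * w) i = x * p w i := fun w x i => by
    induction w using TensorProduct.induction_on with
    | zero => simp
    | add u v hu hv => simp only [mul_add, map_add, Finsupp.add_apply, hu, hv]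
    | tmul a c => rw [Algebra.TensorProduct.tmul_mul_tmul, one_mul, hp, hp, mul_smul_comm]
  have hker : ∀ w, p w = 0 → w ∈ J := fun w hw => by
    have h0 : LinearMap.rTensor K N.mkQ w = 0 :=
      (TensorProduct.equivFinsuppOfBasisLeft b).injective (hw.trans (map_zero _).symm)
    obtain ⟨u, rfl⟩ := ((rTensor_exact K (LinearMap.exact_subtype_mkQ N) N.mkQ_surjective) w).1 h0
    clear hw h0
    induction u using TensorProduct.induction_on with
    | zero => simpa using J.zero_mem
    | add u v hu hv => simpa using J.add_mem hu hv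
    | tmul n c =>
      have hn : (n : A) ⊗ₜ[k] (1 : K) ∈ J := TwoSidedIdeal.subset_span ⟨n, n.2, rfl⟩
      simpa using J.mul_mem_right _ ((1 : A) ⊗ₜ[k] c) hn
  suffices hmain : ∀ (m : ℕ) (w : A ⊗[k] K), w ∈ I → (p w).support.card = m → p w = 0 from
    hker z (hmain _ z hz rfl)
  intro m
  induction m using Nat.strong_induction_on with
  | _ m ih =>
    intro w hw hm
    by_contra hne
    obtain ⟨i, hi⟩ := Finsupp.support_nonempty_iff.2 hne
    obtain ⟨w', hw', hi', hsub⟩ : ∃ w', w' ∈ I ∧ p w' i = 1 ∧ ∀ l, p w l = 0 → p w' l = 0 :=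
      ⟨w * ((1 : A) ⊗ₜ[k] (p w i)⁻¹), I.mul_mem_right _ _ hw,
        by rw [hpR]; exact mul_inv_cancel₀ (Finsupp.mem_support_iff.1 hi),
        fun l hl => by rw [hpR, hl, zero_mul]⟩
    have hcomm : ∀ x j, x * p w' j = p w' j * x := fun x j => by
      have h1 : p ((1 ⊗ₜ x) * w' - w' * (1 ⊗ₜ x)) = 0 := by
        refine ih _ ?_ _ (I.sub_mem (I.mul_mem_left _ _ hw') (I.mul_mem_right _ _ hw')) rfl
        rw [← hm]
        refine Finset.card_lt_card (Finset.ssubset_iff_of_subset (fun l hl => ?_) |>.2 ⟨i, hi, ?_⟩)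
        · rw [Finsupp.mem_support_iff, map_sub, Finsupp.sub_apply, hpL, hpR] at hl
          rw [Finsupp.mem_support_iff]
          intro h0
          apply hl
          rw [hsub l h0, zero_mul, mul_zero, sub_zero]
        · rw [Finsupp.notMem_support_iff, map_sub, Finsupp.sub_apply, hpL, hpR, hi', mul_one, one_mul,
            sub_self]
      have := DFunLike.congr_fun h1 j
      rw [map_sub, Finsupp.sub_apply, hpL, hpR, Finsupp.zero_apply, sub_eq_zero] at this
      exact this
    have hcen : ∀ j, ∃ r : k, algebraMap k K r = p w' j := fun j =>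
      Algebra.mem_bot.1 (Algebra.IsCentral.out (Subalgebra.mem_center_iff.2 fun x => hcomm x j))
    choose r hr using hcen
    obtain ⟨a, ha⟩ := N.mkQ_surjective (∑ j ∈ (p w').support, r j • b j)
    have hpa : p w' = p (a ⊗ₜ 1) := Finsupp.ext fun j => by
      rw [hp, ha, map_sum, Finsupp.finsetSum_apply, Algebra.smul_def, mul_one]
      simp only [map_smul, Module.Basis.repr_self, Finsupp.smul_apply, Finsupp.single_apply, smul_eq_mul,
        mul_ite, mul_one, mul_zero, Finset.sum_ite_eq']
      split
      · exact (hr j).symm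
      · next h => rw [map_zero]; exact Finsupp.notMem_support_iff.1 h
    have hd : w' - a ⊗ₜ 1 ∈ J := hker _ (by rw [map_sub, hpa, sub_self])
    have haN : a ∈ N := show a ⊗ₜ[k] (1 : K) ∈ I by simpa using I.sub_mem hw' (hJI hd)
    have h0 : p w' i = 0 := by
      rw [hpa, hp, N.mkQ_apply, (Submodule.Quotient.mk_eq_zero N).2 haN, map_zero, Finsupp.zero_apply,
        zero_smul]
    exact one_ne_zero (hi'.symm.trans h0)

end Groth.Agent.S0191
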