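import Groth.Statements.S0195
import Groth.Agent.CSALib.Index
-- import your own Groth.Agent.* helpers here

set_option autoImplicit false
universe u v w
open scoped TensorProduct
open Curves

namespace Groth.Agent.S0195

/-- A finite extension k' of k splits a finite central simple algebra A exactly when some algebra
similar to A contains k' with dim equal to [k':k]^2. Uses Mathlib's bundled CSA and Brauer
equivalence. -/
theorem result (k : Type u) [Field k] (A : CSA.{u, u} k)
    (k' : Type u) [Field k'] [Algebra k k'] [FiniteDimensional k k'] :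
    Curves.Splits k A k' ↔ ∃ (B : CSA.{u, u} k) (_ : k' →ₐ[k] B), IsBrauerEquivalent A B ∧
      Module.finrank k B = Module.finrank k k' ^ 2 := by
  constructor
  · intro h
    have hA := (CSALib.res_eq_one_iff (A := A) k').2 h
    have hop : Curves.Splits k (A : Type u)ᵐᵒᵖ k' := by
      rw [← CSALib.res_eq_one_iff, ← CSALib.inv_cl, map_inv, hA, inv_one]
    obtain ⟨n, hn, hd, ⟨ψ⟩⟩ := CSALib.splits_elim hop
    have : NeZero n := ⟨hn⟩
    let φ : (A : Type u)ᵐᵒᵖ →ₐ[k] Module.End k (Fin n → k') :=
      ((Algebra.lsmul k k (Fin n → k') :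
          Module.End k' (Fin n → k') →ₐ[k] Module.End k (Fin n → k')).comp
        (((Matrix.toLinAlgEquiv' (R := k') (n := Fin n)).toAlgHom.restrictScalars k).comp ψ))
    let e := algEquivMatrix (Module.finBasis k (Fin n → k'))
    have hV : 0 < Module.finrank k (Fin n → k') := Module.finrank_pos
    have : NeZero (Module.finrank k (Fin n → k')) := ⟨hV.ne'⟩
    have : IsSimpleRing (Module.End k (Fin n → k')) := CSALib.simple_of_equiv e.symm
    have : Algebra.IsCentral k (Module.End k (Fin n → k')) := CSALib.central_of_equiv e.symm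
    set C := Subalgebra.centralizer k (φ.range : Set (Module.End k (Fin n → k'))) with hC
    obtain ⟨hCs, hCd⟩ := CSALib.centralizer_simple_and_finrank φ
    rw [← hC] at hCs hCd
    have hφ : Function.Injective φ := CSALib.injective_algHom φ
    have hCc : Algebra.IsCentral k C := ⟨fun z hz => by
      have hzz : (z : Module.End k (Fin n → k')) ∈ Subalgebra.centralizer k (C : Set _) :=
        (Subalgebra.mem_centralizer_iff k).2 fun g hg =>
          congrArg Subtype.val (Subalgebra.mem_center_iff.1 hz ⟨g, hg⟩)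
      have hcc := CSALib.centralizer_centralizer φ
      rw [← hC] at hcc
      rw [hcc] at hzz
      obtain ⟨a, ha⟩ := hzz
      have hac : a ∈ Subalgebra.center k (A : Type u)ᵐᵒᵖ := Subalgebra.mem_center_iff.2 fun b => hφ (by
        rw [map_mul, map_mul]
        change φ b * φ.toRingHom a = φ.toRingHom a * φ b
        rw [ha]
        exact (Subalgebra.mem_centralizer_iff k).1 z.2 (φ b) ⟨b, rfl⟩)
      obtain ⟨r, hr⟩ := Algebra.mem_bot.1 (Algebra.IsCentral.out hac)
      exact Algebra.mem_bot.2 ⟨r, Subtype.ext (by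
        change algebraMap k _ r = (z : Module.End k (Fin n → k'))
        rw [← ha, ← hr]
        exact (φ.commutes r).symm)⟩⟩
    have hdim : Module.finrank k C = Module.finrank k k' ^ 2 := by
      have h1 : Module.finrank k (Fin n → k') = n * Module.finrank k k' := by
        rw [Module.finrank_pi_fintype, Finset.sum_const, Finset.card_univ, Fintype.card_fin, smul_eq_mul]
      rw [e.toLinearEquiv.finrank_eq, CSALib.finrank_matrix_self, h1, hd, mul_pow] at hCd
      exact Nat.eq_of_mul_eq_mul_left (pow_pos (Nat.pos_of_ne_zero hn) 2) hCd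
    let ι : k' →ₐ[k] C := (Algebra.lsmul k k (Fin n → k') : k' →ₐ[k] _).codRestrict C fun c =>
      (Subalgebra.mem_centralizer_iff k).2 fun g hg => by
        obtain ⟨a, rfl⟩ := hg
        refine LinearMap.ext fun v => ?_
        exact map_smul (Matrix.toLinAlgEquiv' (ψ a)) c v
    have : IsSimpleRing C := hCs
    have : Module.Free k C := Module.Free.of_basis (Module.Basis.ofVectorSpace k C)
    have : FiniteDimensional k C := FiniteDimensional.finiteDimensional_submodule C.toSubmodule
    let L : (A : Type u)ᵐᵒᵖ ⊗[k] C →ₐ[k] Module.End k (Fin n → k') :=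
      Algebra.TensorProduct.lift φ C.val fun a c =>
        (Subalgebra.mem_centralizer_iff k).1 c.2 (φ a) ⟨a, rfl⟩
    have := CSALib.isSimpleRing_tensor (k := k) (A : Type u)ᵐᵒᵖ C
    have := CSALib.isCentral_tensor (k := k) (A : Type u)ᵐᵒᵖ C
    let E : (A : Type u)ᵐᵒᵖ ⊗[k] C ≃ₐ[k] Module.End k (Fin n → k') :=
      CSALib.equivOfHom L (by rw [Module.finrank_tensorProduct]; exact hCd)
    refine ⟨⟨AlgCat.of k C⟩, ι, ?_, hdim⟩
    have h1 : CSALib.cl k (A : Type u)ᵐᵒᵖ * CSALib.cl k C = 1 := by
      rw [CSALib.cl_tensor, CSALib.one_def]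
      exact CSALib.cl_matrix hV.ne' (E.trans e)
    rw [← CSALib.inv_cl] at h1
    exact CSALib.cl_eq_iff.1 (inv_mul_eq_one.1 h1)
  · rintro ⟨B, ι, hAB, hd⟩
    have hB := CSALib.splits_of_subfield ι hd
    rw [← CSALib.res_eq_one_iff] at hB ⊢
    rwa [CSALib.cl_eq_iff.2 (hAB : CSALib.BrEq k (A : Type u) (B : Type u))]

end Groth.Agent.S0195
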