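import Groth.Statements.S0196
import Groth.Agent.CSALib.Modules
-- import your own Groth.Agent.* helpers here

set_option autoImplicit false
universe u v w
open scoped TensorProduct
open Curves

namespace Groth.Agent.S0196

/-- In a finite central skew field D over k, a maximal commutative k-subalgebra L satisfies dim D = (dim
L)^2. -/
theorem result (k : Type u) [Field k]
    (D : Type v) [DivisionRing D] [Algebra k D] [Algebra.IsCentral k D] [FiniteDimensional k D]
    (L : Subalgebra k D) (hcomm : ∀ x ∈ L, ∀ y ∈ L, x * y = y * x)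
    (hmax : ∀ L' : Subalgebra k D, (∀ x ∈ L', ∀ y ∈ L', x * y = y * x) → L ≤ L' → L' = L) :
    Module.finrank k D = Module.finrank k L ^ 2 := by
  letI : CommRing L := { (inferInstance : Ring L) with mul_comm := fun x y => Subtype.ext (hcomm x x.2 y y.2) }
  have : IsSimpleRing L := by
    refine IsSimpleRing.of_eq_bot_or_eq_top fun I => or_iff_not_imp_left.2 fun hI => ?_
    obtain ⟨a, ha, ha0⟩ : ∃ a ∈ I, a ≠ 0 := by
      by_contra h
      push Not at h
      exact hI (eq_bot_iff.2 fun z hz => (h z hz : z = 0))
    have hinj : Function.Injective (LinearMap.mulLeft k a) := fun x y hxy =>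
      Subtype.ext (mul_left_cancel₀ (fun h => ha0 (Subtype.ext h)) (congrArg Subtype.val hxy))
    obtain ⟨b, hb⟩ := LinearMap.injective_iff_surjective.1 hinj 1
    refine (TwoSidedIdeal.one_mem_iff I).1 ?_
    rw [← hb]
    exact I.mul_mem_right _ _ ha
  obtain ⟨-, hd⟩ := CSALib.centralizer_simple_and_finrank (A := D) L.val
  suffices hC : Subalgebra.centralizer k (L.val.range : Set D) = L by
    rw [← hd, hC, sq]
  rw [Subalgebra.range_val]
  refine le_antisymm (fun x hx => ?_) fun x hx =>
    (Subalgebra.mem_centralizer_iff k).2 fun g hg => hcomm g hg x hx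
  have hc : ∀ a ∈ insert x (L : Set D), ∀ b ∈ insert x (L : Set D), a * b = b * a := by
    intro a ha b hb
    rcases ha with rfl | ha <;> rcases hb with rfl | hb
    · rfl
    · exact ((Subalgebra.mem_centralizer_iff k).1 hx b hb).symm
    · exact (Subalgebra.mem_centralizer_iff k).1 hx a ha
    · exact hcomm a ha b hb
  letI := Algebra.adjoinCommRingOfComm k (s := insert x (L : Set D)) hc
  have := hmax (Algebra.adjoin k (insert x (L : Set D)))
    (fun a ha b hb => congrArg Subtype.val (mul_comm (⟨a, ha⟩ : Algebra.adjoin k (insert x (L : Set D))) ⟨b, hb⟩))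
    fun a ha => Algebra.subset_adjoin (Set.mem_insert_of_mem _ ha)
  exact this ▸ Algebra.subset_adjoin (Set.mem_insert _ _)

end Groth.Agent.S0196
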