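import Groth.Statements.S0198
import Groth.Agent.CSALib.Split
-- import your own Groth.Agent.* helpers here

set_option autoImplicit false
universe u v w
open scoped TensorProduct
open Curves

namespace Groth.Agent.S0198

/-- A finite central skew field over k contains a maximal commutative subalgebra that is separable over
k. -/
theorem result (k : Type u) [Field k]
    (D : Type v) [DivisionRing D] [Algebra k D] [Algebra.IsCentral k D] [FiniteDimensional k D] :
    ∃ L : Subalgebra k D, (∀ x ∈ L, ∀ y ∈ L, x * y = y * x) ∧
      (∀ L' : Subalgebra k D, (∀ x ∈ L', ∀ y ∈ L', x * y = y * x) → L ≤ L' → L' = L) ∧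
      Algebra.IsSeparable k L := by
  obtain ⟨K, _, _, f, hsep, hfin, hd⟩ := CSALib.exists_separable_maximal_subfield (k := k) D
  obtain ⟨-, hC⟩ := CSALib.centralizer_simple_and_finrank f
  have he : Module.finrank k f.range = Module.finrank k K :=
    (LinearEquiv.ofInjective f.toLinearMap f.toRingHom.injective).finrank_eq.symm
  refine ⟨f.range, ?_, fun L' hL hle => ?_, ?_⟩
  · rintro _ ⟨x, rfl⟩ _ ⟨y, rfl⟩
    change f x * f y = f y * f x
    rw [← map_mul, ← map_mul, mul_comm]
  · refine (Subalgebra.eq_of_le_of_finrank_le hle ?_).symm
    calc Module.finrank k L' ≤ Module.finrank k (Subalgebra.centralizer k (f.range : Set D)) :=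
          Submodule.finrank_mono (s := Subalgebra.toSubmodule L')
            (t := Subalgebra.toSubmodule (Subalgebra.centralizer k (f.range : Set D))) fun x hx =>
              (Subalgebra.mem_centralizer_iff k).2 fun g hg => hL g (hle hg) x hx
      _ = Module.finrank k f.range := by
          rw [he]
          exact Nat.eq_of_mul_eq_mul_left (Module.finrank_pos (R := k) (M := K)) (by rw [hC, ← hd, sq])
  · exact AlgEquiv.Algebra.isSeparable (AlgEquiv.ofInjective f f.toRingHom.injective)

end Groth.Agent.S0198
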