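import Groth.Statements.S0200
import Groth.Agent.CSALib.Split
import Groth.Agent.CSALib.Descent
-- import your own Groth.Agent.* helpers here

set_option autoImplicit false
universe u v w
open scoped TensorProduct
open Curves

namespace Groth.Agent.S0200

/-- A k-algebra is finite central simple exactly when its base change to the separable closure of k is a
matrix algebra of positive size. -/
theorem result (k : Type u) [Field k] (A : Type v) [Ring A] [Algebra k A] :
    (Algebra.IsCentral k A ∧ IsSimpleRing A ∧ FiniteDimensional k A) ↔
      Curves.Splits k A (SeparableClosure k) := by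
  refine ⟨fun ⟨_, _, _⟩ => CSALib.splits_of_isSepClosed k A _, ?_⟩
  rintro ⟨n, hn, ⟨e⟩⟩
  have : NeZero n := ⟨hn⟩
  have : Module.Finite (SeparableClosure k) (SeparableClosure k ⊗[k] A) := Module.Finite.equiv e.toLinearEquiv.symm
  have : FiniteDimensional k A := Module.finite_of_finrank_pos (by
    rw [← Module.finrank_baseChange (R := SeparableClosure k) (S := k) (M' := A)]
    haveI := e.toEquiv.nontrivial
    exact Module.finrank_pos)
  have : IsSimpleRing (SeparableClosure k ⊗[k] A) := CSALib.simple_of_equiv e.symm
  have : Algebra.IsCentral (SeparableClosure k) (SeparableClosure k ⊗[k] A) := CSALib.central_of_equiv e.symm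
  exact ⟨CSALib.central_of_baseChange (k := k) (SeparableClosure k), CSALib.simple_of_baseChange (k := k) (SeparableClosure k), inferInstance⟩

end Groth.Agent.S0200
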