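import Groth.Statements.S1625
import Groth.Agent.CurveAmpLib.Main
import Groth.Agent.CurveAmpLib.Embed
import Groth.Agent.ChowLib.SchDom
import Groth.Agent.FibDimLib.ClosureDim
import Groth.Agent.FinPicLib.Topo
import Groth.Agent.ProjDegLib.Criterion

set_option autoImplicit false
universe u
open CategoryTheory CategoryTheory.Limits AlgebraicGeometry
open Variety Topology

namespace Groth.Agent.S1625

/-- Let X be separated of finite type over k with dim X ≤ 1. Then there are a closed subscheme Y of some
projective space P^d_k and an open immersion j : X → Y over k whose image is dense and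
scheme-theoretically dense and whose complement is a finite set of closed points. -/
theorem result (k : Type u) [Field k] (X : Scheme.{u}) [X.Over (Spec (CommRingCat.of k))] [IsSeparated (X ↘ (Spec (CommRingCat.of k)))] [LocallyOfFiniteType (X ↘ (Spec (CommRingCat.of k)))] [QuasiCompact (X ↘ (Spec (CommRingCat.of k)))] (hdim : topologicalKrullDim X ≤ 1) :
    ∃ (d : ℕ) (Y : Scheme.{u}) (c : Y ⟶ CohB1.ProjSpace d k) (j : X ⟶ Y), IsClosedImmersion c ∧ IsOpenImmersion j ∧
      j ≫ c ≫ CohB1.ProjSpace.toSpec d k = X ↘ (Spec (CommRingCat.of k)) ∧ Dense (Set.range j.base) ∧ IsSchemeTheoreticallyDominant j ∧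
      (Set.range j.base)ᶜ.Finite ∧ ∀ y ∈ (Set.range j.base)ᶜ, IsClosed ({y} : Set Y) := by
  let q := X ↘ (Spec (CommRingCat.of k))
  haveI : IsLocallyNoetherian X := LocallyOfFiniteType.isLocallyNoetherian q
  haveI : CompactSpace X := QuasiCompact.compactSpace_of_compactSpace q
  haveI : IsNoetherian X := ⟨⟩
  haveI : X.IsSeparated := ⟨by rw [← terminal.comp_from q]; infer_instance⟩
  obtain ⟨L, hA⟩ := CurveAmpLib.exists_ample hdim
  obtain ⟨d, r, hr, hrq⟩ : ∃ (d : ℕ) (r : X ⟶ CohB1.ProjSpace d k), IsImmersion r ∧ r ≫ CohB1.ProjSpace.toSpec d k = q := CurveAmpLib.exists_immersion q hA.1 hA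
  let p := CohB1.ProjSpace.toSpec d k
  haveI : LocallyOfFiniteType (r ≫ p) := by
    have : r ≫ p = q := hrq
    rw [this]; infer_instance
  haveI : IsProper p := ProjDegLib.toSpec_isProper k d
  haveI : QuasiCompact r := inferInstance
  have hfac : r.toImage ≫ r.imageι = r := r.toImage_imageι
  haveI : LocallyOfFiniteType (r.imageι ≫ p) := inferInstance
  haveI : IsLocallyNoetherian r.image := LocallyOfFiniteType.isLocallyNoetherian (r.imageι ≫ p)
  haveI : CompactSpace r.image := QuasiCompact.compactSpace_of_compactSpace (r.imageι ≫ p)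
  haveI : IsNoetherian r.image := ⟨⟩
  haveI : IsOpenImmersion r.toImage := inferInstance
  haveI hsd : IsSchemeTheoreticallyDominant r.toImage := inferInstance
  have hd : Dense (Set.range r.toImage.base) := r.toImage.denseRange
  have hmem : ∀ z : r.image, FinPicLib.IsGen z → z ∈ Set.range r.toImage.base := fun z hz =>
    FinPicLib.mem_of_dense hz r.toImage.isOpenEmbedding.isOpen_range hd
  have hdimY : topologicalKrullDim r.image ≤ 1 := by
    refine FibDimLib.topologicalKrullDim_le_of_generic fun z hz => ?_
    have hzG : FinPicLib.IsGen z := fun w hw => by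
      have h1 : closure ({z} : Set r.image) ⊆ closure {w} :=
        (isClosed_closure.closure_subset_iff).mpr (Set.singleton_subset_iff.mpr (specializes_iff_mem_closure.mp hw))
      have h2 := hz.2 isIrreducible_singleton.closure h1
      exact (hw.antisymm (specializes_iff_mem_closure.mpr (h2 (subset_closure rfl)))).eq
    obtain ⟨a, rfl⟩ := hmem z hzG
    rw [← FibDimLib.topologicalKrullDim_closure_of_isOpenEmbedding (r.imageι ≫ p) r.toImage.isOpenEmbedding a]
    exact (IsInducing.subtypeVal.topologicalKrullDim_le).trans hdim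
  have hnG : ∀ y ∈ (Set.range r.toImage.base)ᶜ, ¬ FinPicLib.IsGen y := fun y hy h => hy (hmem y h)
  refine ⟨d, r.image, r.imageι, r.toImage, inferInstance, inferInstance, ?_, hd, hsd,
    FinPicLib.finite_of_closed hdimY r.toImage.isOpenEmbedding.isOpen_range.isClosed_compl hnG, fun y hy => ?_⟩
  · rw [← Category.assoc, hfac]
    exact hrq
  · refine closure_subset_iff_isClosed.mp fun w hw => ?_
    exact (FinPicLib.eq_of_specializes_of_not_isGen hdimY (hnG y hy) (specializes_iff_mem_closure.mpr hw)).symm

end Groth.Agent.S1625
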