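import Groth.Statements.S1627
import Groth.Agent.CurveAmpLib.Affine
import Groth.Agent.S1625
import Groth.Agent.ProjDegLib.Criterion

set_option autoImplicit false
universe u
open CategoryTheory CategoryTheory.Limits AlgebraicGeometry
open Variety Topology

namespace Groth.Agent.S1627

/-- A curve X over k (integral, separated, of finite type, of dimension one) is either affine or
H-projective, i.e. admits a closed immersion into some P^d_k over k. -/
theorem result (k : Type u) [Field k] (X : Scheme.{u}) [X.Over (Spec (CommRingCat.of k))] [IsIntegral X] [IsSeparated (X ↘ (Spec (CommRingCat.of k)))] [LocallyOfFiniteType (X ↘ (Spec (CommRingCat.of k)))] [QuasiCompact (X ↘ (Spec (CommRingCat.of k)))] (hdim : topologicalKrullDim X = 1) :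
    IsAffine X ∨ ∃ (d : ℕ) (c : X ⟶ CohB1.ProjSpace d k), IsClosedImmersion c ∧ c ≫ CohB1.ProjSpace.toSpec d k = X ↘ (Spec (CommRingCat.of k)) := by
  obtain ⟨d, Y, c, j, hc, hj, hfac, hd, -, hfin, -⟩ := Groth.Agent.S1625.result k X hdim.le
  by_cases htop : Set.range j.base = Set.univ
  · haveI : Surjective j := ⟨Set.range_eq_univ.mp htop⟩
    haveI : IsIso j := isIso_of_isOpenImmersion_of_opensRange_eq_top j (SetLike.coe_injective htop)
    exact Or.inr ⟨d, j ≫ c, inferInstance, (Category.assoc _ _ _).trans hfac⟩
  refine Or.inl ?_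
  let p := CohB1.ProjSpace.toSpec d k
  haveI : IsProper p := ProjDegLib.toSpec_isProper k d
  letI : Y.Over (Spec (CommRingCat.of k)) := ⟨c ≫ p⟩
  haveI : IsProper (Y ↘ (Spec (CommRingCat.of k))) := inferInstanceAs (IsProper (c ≫ p))
  haveI : IsLocallyNoetherian Y := LocallyOfFiniteType.isLocallyNoetherian (c ≫ p)
  haveI : CompactSpace Y := QuasiCompact.compactSpace_of_compactSpace (c ≫ p)
  haveI : IsNoetherian Y := ⟨⟩
  have hmem : ∀ z : Y, FinPicLib.IsGen z → z ∈ Set.range j.base := fun z hz =>
    FinPicLib.mem_of_dense hz j.isOpenEmbedding.isOpen_range hd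
  have hcl : closure (Set.range j.base) = Set.univ := hd.closure_eq
  have hY : IsIrreducible (Set.univ : Set Y) :=
    hcl ▸ (Set.image_univ (f := j.base) ▸ ((IrreducibleSpace.isIrreducible_univ X).image _ j.continuous.continuousOn)).closure
  haveI : IrreducibleSpace Y := (irreducibleSpace_def Y).mpr hY
  have hdimY : topologicalKrullDim Y ≤ 1 := by
    refine FibDimLib.topologicalKrullDim_le_of_generic fun z hz => ?_
    have hzG : FinPicLib.IsGen z := fun w hw => by
      have h1 : closure ({z} : Set Y) ⊆ closure {w} :=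
        (isClosed_closure.closure_subset_iff).mpr (Set.singleton_subset_iff.mpr (specializes_iff_mem_closure.mp hw))
      have h2 := hz.2 isIrreducible_singleton.closure h1
      exact (hw.antisymm (specializes_iff_mem_closure.mpr (h2 (subset_closure rfl)))).eq
    obtain ⟨a, rfl⟩ := hmem z hzG
    rw [← FibDimLib.topologicalKrullDim_closure_of_isOpenEmbedding (c ≫ p) j.isOpenEmbedding a]
    exact (IsInducing.subtypeVal.topologicalKrullDim_le).trans hdim.le
  have haff : IsAffineOpen j.opensRange := by
    refine CurveAmpLib.isAffineOpen_of_finite_compl k hdimY _ hfin hmem fun C' hC' _ => ?_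
    rw [irreducibleComponents_eq_singleton, Set.mem_singleton_iff] at hC'
    obtain ⟨y, hy⟩ := (Set.ne_univ_iff_exists_notMem _).mp htop
    exact ⟨y, hC' ▸ trivial, hy⟩
  haveI : IsAffine (j.opensRange : Scheme.{u}) := haff
  exact IsAffine.of_isIso j.isoOpensRange.hom

end Groth.Agent.S1627
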