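import Groth.Statements.S0205
import Groth.Agent.CdAffineCurveLib.Main
import Groth.Agent.AsCohLib.Main
import Groth.Agent.S1627

set_option maxHeartbeats 400000
set_option linter.style.haveILetI false
set_option backward.isDefEq.respectTransparency false
set_option backward.isDefEq.respectTransparency.types false

set_option autoImplicit false
universe u
open CategoryTheory CategoryTheory.Limits AlgebraicGeometry Opposite
open Curves

namespace Groth.Agent.S0205

open Groth.Agent.EtShLib CategoryTheory.Abelian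

theorem good_charP (k : Type u) [Field k] [IsAlgClosed k] (p : ℕ) [Fact p.Prime] [CharP k p]
    {X : Scheme.{u}} (f : X ⟶ Spec (CommRingCat.of k)) [IsSeparated f] [LocallyOfFiniteType f] [QuasiCompact f] :
    CdAffineCurveLib.Good X p := fun Z π _ _ _ hdim => by
  by_cases h0 : topologicalKrullDim Z ≤ 0
  · exact CdAffineCurveLib.subsingleton_H_point k (π ≫ f) h0 _ 2 (by norm_num)
  have hdim1 : topologicalKrullDim Z = 1 := by
    refine le_antisymm hdim ?_
    revert h0
    rcases topologicalKrullDim Z with _ | _ | a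
    · exact fun h => absurd bot_le h
    · exact fun _ => le_top
    · intro h
      have ha : a ≠ 0 := fun e => h (by rw [e]; exact le_rfl)
      exact WithBot.coe_le_coe.2 ((Nat.cast_one (R := ℕ∞)).ge.trans (Nat.cast_le.2 (Nat.one_le_iff_ne_zero.2 ha)))
  letI : Z.Over (Spec (CommRingCat.of k)) := ⟨π ≫ f⟩
  haveI : IsSeparated (Z ↘ Spec (CommRingCat.of k)) := inferInstanceAs (IsSeparated (π ≫ f))
  haveI : LocallyOfFiniteType (Z ↘ Spec (CommRingCat.of k)) := inferInstanceAs (LocallyOfFiniteType (π ≫ f))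
  haveI : QuasiCompact (Z ↘ Spec (CommRingCat.of k)) := inferInstanceAs (QuasiCompact (π ≫ f))
  rcases Groth.Agent.S1627.result k Z hdim1 with haff | ⟨d, c, hc, hcf⟩
  · haveI := haff
    exact CdAffineCurveLib.subsingleton_H2_charP k (π ≫ f) p (CharP.cast_eq_zero k p)
  · haveI := hc
    haveI : IsProper (CohB1.ProjSpace.toSpec d k) := ProjDegLib.toSpec_isProper k d
    haveI : IsProper (π ≫ f) := by
      rw [show π ≫ f = c ≫ CohB1.ProjSpace.toSpec d k from hcf.symm]
      infer_instance
    exact AsCohLib.subsingleton_above_dim p (π ≫ f) 1 (by exact_mod_cast hdim) 1 le_rfl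

theorem okSet_pow (p : ℕ) : OkSet (fun m => ∃ r, m = p ^ r) :=
  ⟨⟨0, (pow_zero p).symm⟩, fun {_ _} ⟨r, hr⟩ ⟨s, hs⟩ => ⟨r + s, by rw [hr, hs, pow_add]⟩⟩

/-- In characteristic p, p-power torsion abelian étale sheaves (every section is étale-locally killed by
a power of p) on a separated finite type scheme of dimension at most one over an algebraically
closed field have no cohomology above degree one. -/
theorem result (k : Type u) [Field k] [IsAlgClosed k] (p : ℕ) [Fact p.Prime] [CharP k p]
    (X : Scheme.{u}) (f : X ⟶ Spec (CommRingCat.of k)) [IsSeparated f] [LocallyOfFiniteType f] [QuasiCompact f]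
    (hdim : topologicalKrullDim X ≤ 1) (F : EtCoh.Ab X)
    (hF : ∀ (U : X.Etale) (s : EtCoh.sect F U) (x : U.left), ∃ (V : X.Etale) (g : V ⟶ U),
      (∃ v : V.left, g.left.base v = x) ∧ ∃ n : ℕ, (p ^ n) • (F.obj.map g.op s) = 0)
    (q : ℕ) (hq : 1 < q) :
    Subsingleton (EtCoh.H X F q) := by
  have ht : TorsionBy (fun m => ∃ r, m = p ^ r) F := fun Ω _ _ ξ P => by
    obtain ⟨U, u, s, rfl⟩ := exists_germ (A := AddCommGrpCat.{u + 1}) ξ P
    obtain ⟨V, g, ⟨y, hy⟩, r, hr⟩ := hF U s u.pt
    haveI := etale_left g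
    obtain ⟨l, hl, -⟩ := Scheme.exists_fac_of_etale_of_isSepClosed g.left u.hom y hy
    let v : Fib ξ V := Fib.mk l (by
      rw [← (show g.left ≫ U.hom = V.hom from MorphismProperty.Over.w g), ← Category.assoc, hl]
      exact u.w)
    refine ⟨p ^ r, ⟨r, rfl⟩, ?_⟩
    rw [← (show v.map g = u from Fib.ext hl), ← germ_res_apply, ← map_nsmul, hr, map_zero]
  by_cases hq2 : 2 < q
  · refine CdCurveLib.cohDimLE_two_curve f hdim F (CdCurveLib.isTorsion_of_torsionBy fun Ω _ _ ξ P => ?_) q hq2
    obtain ⟨m, ⟨r, rfl⟩, hm⟩ := ht Ω ξ P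
    exact ⟨_, pow_pos (Fact.out : p.Prime).pos r, hm⟩
  obtain rfl : q = 2 := by omega
  obtain ⟨B, i, _, _, _⟩ := CdAffineCurveLib.exists_red (X := X)
  haveI : IsLocallyNoetherian B := LocallyOfFiniteType.isLocallyNoetherian (i ≫ f)
  haveI : CompactSpace B := QuasiCompact.compactSpace_of_compactSpace (i ≫ f)
  haveI : IsNoetherian B := { }
  have hB : topologicalKrullDim B ≤ 1 := (i.isClosedEmbedding.isInducing.topologicalKrullDim_le).trans hdim
  haveI := EtSliceLib.pullExact i
  refine @Function.Injective.subsingleton _ _ _ (Groth.Agent.S0642.result i F 2).1 ?_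
  refine CdAffineCurveLib.subsingleton_H2_torsion k (i ≫ f) hB (okSet_pow p)
    (fun n ⟨r, hr⟩ => hr ▸ pow_pos (Fact.out : p.Prime).pos r) ?_ _ (CdAffineCurveLib.torsionBy_pull i ht)
  rintro l hl ⟨n, ⟨r, rfl⟩, hn⟩
  obtain rfl : l = p := (Nat.prime_dvd_prime_iff_eq hl (Fact.out : p.Prime)).1 (hl.dvd_of_dvd_pow hn)
  exact good_charP k l (i ≫ f)

end Groth.Agent.S0205
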