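import Groth.Statements.S0207
import Groth.Agent.S0469
import Groth.Agent.CdOneLib.CharP
import Groth.Agent.EtZarLib.Ga

set_option autoImplicit false
universe u
open CategoryTheory CategoryTheory.Limits AlgebraicGeometry
open Curves

namespace Groth.Agent.S0207

/-- On a quasi-compact quasi-separated scheme of dimension d on which the prime p is zero, étale
cohomology with Z/p coefficients vanishes from degree d+2 on. -/
theorem result (p : ℕ) [Fact p.Prime] (S : Scheme.{u}) [CompactSpace S] [QuasiSeparatedSpace S]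
    (hp : (p : Γ(S, ⊤)) = 0) (d : ℕ) (hd : topologicalKrullDim S = d) (q : ℕ) (hq : 2 + d ≤ q) :
    Subsingleton (EtCoh.H S (EtCoh.const S (ZMod p)) q) := by
  obtain ⟨T, hT, e1, e2, e3⟩ := CdOneLib.kernel_artinSchreier (X := S) p hp
  haveI : SpectralSpace (S : Type u) := { }
  haveI : SpectralSpace S.toTopCat := ‹SpectralSpace (S : Type u)›
  haveI : EtZar.ZarCont S := EtZarLib.zarCont S
  have hGa : ∀ r, d < r → Subsingleton (EtCoh.H S (EtCoh.Ga S) r) := fun r hr => by
    haveI : Subsingleton (Coh.HH S (Coh.structureModule S) r) :=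
      Groth.Agent.S0469.result (X := S.toTopCat) d hd.le (Coh.toAb (Coh.structureModule S)) r hr
    exact (EtZarLib.nonempty_Ga_equiv S r).some.injective.subsingleton
  have h2 : Subsingleton (EtCoh.H S T.X₂ q) := e2 ▸ hGa q (by omega)
  have h3 : Subsingleton (EtCoh.H S T.X₃ (q - 1)) := e3 ▸ hGa (q - 1) (by omega)
  have h1 : Subsingleton (EtCoh.H S T.X₁ q) := by
    refine subsingleton_of_forall_eq 0 fun w => ?_
    obtain ⟨y, hy⟩ := Abelian.Ext.covariant_sequence_exact₁ _ hT (w : Abelian.Ext.{u + 1} _ T.X₁ q)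
      (h2.elim (Abelian.Ext.comp (w : Abelian.Ext.{u + 1} _ T.X₁ q) (Abelian.Ext.mk₀ T.f) (add_zero q) : EtCoh.H _ T.X₂ q) 0)
      (n₀ := q - 1) (by omega)
    rw [← hy, h3.elim (y : EtCoh.H _ T.X₃ (q - 1)) 0, Abelian.Ext.zero_comp]
  exact e1 ▸ h1

end Groth.Agent.S0207
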