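import Groth.Statements.S0208
import Groth.Agent.CdOneLib.Brauer
import Groth.Agent.CdOneLib.CharP
import Groth.Agent.S0228

set_option backward.isDefEq.respectTransparency false
set_option maxHeartbeats 1000000

set_option autoImplicit false
universe u
open CategoryTheory CategoryTheory.Limits AlgebraicGeometry
open Curves

namespace Groth.Agent.S0208

/-- Let K be a field such that every finite extension K' of K has trivial Brauer group: every
finite-dimensional central division algebra over K' is K' itself. Then for every torsion abelian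
sheaf F on the small étale site of Spec K and every q ≥ 2, H^q(Spec K_ét, F) = 0. (This is the
étale-site form of the corresponding vanishing of Galois cohomology of K.) -/
theorem result (K : Type u) [Field K]
    (hBr : ∀ (K' : Type u) [Field K'] [Algebra K K'] [FiniteDimensional K K']
      (D : Type u) [DivisionRing D] [Algebra K' D] [Algebra.IsCentral K' D] [FiniteDimensional K' D],
      Module.finrank K' D = 1)
    (F : EtCoh.Ab (Spec (CommRingCat.of K))) (hF : EtCoh.IsTorsion F) (q : ℕ) (hq : 2 ≤ q) :
    Subsingleton (EtCoh.H (Spec (CommRingCat.of K)) F q) := by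
  obtain ⟨q, rfl⟩ : ∃ n, q = n + 1 := ⟨q - 1, by omega⟩
  refine subsingleton_of_forall_eq 0 fun x => ?_
  obtain ⟨d, hd0, hd⟩ := EtTransferLib.isOfFinAddOrder_H K (F := F) (n := q) x
  by_contra hne
  have hord : addOrderOf x ≠ 1 := fun h => hne (AddMonoid.addOrderOf_eq_one_iff.1 h)
  obtain ⟨p, hp, hpd⟩ := Nat.exists_prime_and_dvd hord
  haveI : Fact p.Prime := ⟨hp⟩
  have hyp : CdOneLib.HypP K p 2 := by
    by_cases hpK : (p : K) = 0
    · haveI : CharP K p := (CharP.ringChar_of_prime_eq_zero hp hpK) ▸ ringChar.charP K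
      exact CdOneLib.hypP_two_of_charP K p
    · refine CdOneLib.hypP_two_of_brP hpK fun L _ _ _ _ => ?_
      haveI := Groth.Agent.S0228.result L (fun L' _ _ _ D _ _ _ _ => by
        letI : Algebra K L' := ((algebraMap L L').comp (algebraMap K L)).toAlgebra
        haveI : IsScalarTower K L L' := IsScalarTower.of_algebraMap_eq fun _ => rfl
        haveI : FiniteDimensional K L' := FiniteDimensional.trans K L L'
        exact hBr L' D) 2 (by norm_num)
      exact fun y _ => Subsingleton.elim _ _
  have hfin : IsOfFinAddOrder x := isOfFinAddOrder_iff_nsmul_eq_zero.2 ⟨d, hd0, hd⟩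
  obtain ⟨r, hr⟩ := hpd
  have h1 : addOrderOf (r • x) = p := by
    have hr0 : r ≠ 0 := fun h => hfin.addOrderOf_pos.ne' (by rw [hr, h, mul_zero])
    rw [addOrderOf_nsmul_of_dvd hr0 ⟨p, by rw [hr, mul_comm]⟩, hr, Nat.mul_div_cancel _ (Nat.pos_of_ne_zero hr0)]
  have h2 := CdOneLib.pcd_le p hyp F hF (q + 1) (by omega) (r • x) ⟨1, by rw [pow_one, ← h1, addOrderOf_nsmul_eq_zero]⟩
  rw [h2, addOrderOf_zero] at h1
  exact hp.one_lt.ne h1

end Groth.Agent.S0208
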