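import Groth.Statements.S0216
import Groth.Agent.AssPointLib.Basic
import Mathlib.Algebra.Algebra.Rat
import Mathlib.RingTheory.Spectrum.Prime.Chevalley
import Mathlib.RingTheory.FinitePresentation
import Mathlib.RingTheory.Ideal.MinimalPrime.Noetherian
import Mathlib.RingTheory.Artinian.Module
import Mathlib.Algebra.Field.ZMod
import Mathlib.RingTheory.Algebraic.Basic
-- import your own Groth.Agent.* helpers here

set_option autoImplicit false
universe u
open CategoryTheory CategoryTheory.Limits AlgebraicGeometry TopologicalSpace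
open Curves

namespace Groth.Agent.S0216

theorem alg_core {k B : Type u} [Field k] [CommRing B] [IsDomain B] [Algebra k B]
    [Algebra.FiniteType k B] {F : Type*} [Field F] (ψ : F →+* k) (x : B)
    (hQ : ∀ Q : Polynomial F, Q ≠ 0 → IsUnit (Polynomial.aeval x (Q.map ψ))) : IsAlgebraic k x := by
  classical
  by_contra htr
  let φ : Polynomial k →+* B := (Polynomial.aeval x : Polynomial k →ₐ[k] B).toRingHom
  have hinj : Function.Injective φ := transcendental_iff_injective.1 htr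
  have hft : φ.FiniteType := by
    refine RingHom.FiniteType.of_comp_finiteType (f := Polynomial.C) ?_
    rw [show φ.comp Polynomial.C = algebraMap k B from RingHom.ext fun c => Polynomial.aeval_C x c]
    exact RingHom.finiteType_algebraMap.2 inferInstance
  obtain ⟨S, hS⟩ := PrimeSpectrum.exists_constructibleSetData_iff.mpr
    (PrimeSpectrum.isConstructible_range_comap (RingHom.FinitePresentation.of_finiteType.1 hft))
  let η : PrimeSpectrum (Polynomial k) := ⟨⊥, Ideal.isPrime_bot⟩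
  have hη : η ∈ S.toSet := hS ▸ ⟨⟨⊥, Ideal.isPrime_bot⟩, PrimeSpectrum.ext (by
    simp [η, ← RingHom.ker_eq_comap_bot, (RingHom.injective_iff_ker_eq_bot φ).1 hinj])⟩
  obtain ⟨C, hC, hgC, hfC⟩ := by
    simpa only [PrimeSpectrum.ConstructibleSetData.toSet, Set.mem_iUnion, exists_prop,
      PrimeSpectrum.BasicConstructibleSetData.toSet, Set.mem_sdiff] using hη
  rw [PrimeSpectrum.mem_zeroLocus, Set.range_subset_iff] at hgC
  rw [PrimeSpectrum.mem_zeroLocus, Set.singleton_subset_iff] at hfC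
  have hh : C.f ≠ 0 := fun h => hfC (h ▸ (⊥ : Ideal (Polynomial k)).zero_mem)
  let sel : Polynomial k → Polynomial F := fun q =>
    if h : ∃ p : Polynomial F, p ≠ 0 ∧ q ∣ p.map ψ then h.choose else 1
  have hsel : ∀ q, sel q ≠ 0 := fun q => by
    dsimp only [sel]
    split_ifs with h
    exacts [h.choose_spec.1, one_ne_zero]
  let P : Polynomial F := ((UniqueFactorizationMonoid.normalizedFactors C.f).map sel).prod
  have hP : P ≠ 0 := Multiset.prod_ne_zero (by
    rw [Multiset.mem_map]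
    rintro ⟨q, -, hq⟩
    exact hsel q hq)
  let R : Polynomial F := Polynomial.X * P + 1
  have hR : 0 < R.natDegree := by
    simp only [R]
    rw [← Polynomial.C_1, Polynomial.natDegree_add_C, Polynomial.natDegree_mul Polynomial.X_ne_zero hP,
      Polynomial.natDegree_X]
    omega
  obtain ⟨q, hq, hqR⟩ := Polynomial.exists_irreducible_of_natDegree_pos (f := R.map ψ)
    (by rwa [Polynomial.natDegree_map])
  have hqf : ¬ q ∣ C.f := fun hdvd => by
    obtain ⟨q', hq', hqq⟩ := UniqueFactorizationMonoid.exists_mem_normalizedFactors_of_dvd hh hq hdvd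
    have hR' : q' ∣ R.map ψ := hqq.symm.dvd.trans hqR
    have hex : ∃ p : Polynomial F, p ≠ 0 ∧ q' ∣ p.map ψ := ⟨R, fun h => by simp [h] at hR, hR'⟩
    have hsel' : q' ∣ (sel q').map ψ := by
      dsimp only [sel]
      rw [dif_pos hex]
      exact hex.choose_spec.2
    have hP' : q' ∣ P.map ψ := hsel'.trans (Polynomial.map_dvd ψ
      (Multiset.dvd_prod (Multiset.mem_map_of_mem sel hq')))
    have h1 : q' ∣ 1 := by
      have := dvd_sub hR' (hP'.mul_left Polynomial.X)
      simpa [R] using this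
    exact (UniqueFactorizationMonoid.irreducible_of_normalized_factor q' hq').not_isUnit (isUnit_of_dvd_one h1)
  let pq : PrimeSpectrum (Polynomial k) :=
    ⟨Ideal.span {q}, (Ideal.span_singleton_prime hq.ne_zero).2 hq.prime⟩
  have hpq : pq ∈ S.toSet := by
    simp only [PrimeSpectrum.ConstructibleSetData.toSet, Set.mem_iUnion, exists_prop,
      PrimeSpectrum.BasicConstructibleSetData.toSet, Set.mem_sdiff]
    refine ⟨C, hC, ?_, ?_⟩
    · rw [PrimeSpectrum.mem_zeroLocus, Set.range_subset_iff]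
      intro i
      have h0 : C.g i = 0 := (Submodule.mem_bot _).1 (hgC i)
      rw [h0]
      exact Ideal.zero_mem _
    · rw [PrimeSpectrum.mem_zeroLocus, Set.singleton_subset_iff]
      exact fun h => hqf (Ideal.mem_span_singleton.1 h)
  rw [hS] at hpq
  obtain ⟨Q, hQ'⟩ := hpq
  have hmem : φ (R.map ψ) ∈ Q.asIdeal := by
    change R.map ψ ∈ (PrimeSpectrum.comap φ Q).asIdeal
    rw [hQ']
    exact Ideal.mem_span_singleton.2 hqR
  exact Q.isPrime.ne_top (Ideal.eq_top_of_isUnit_mem _ hmem (hQ R fun h => by simp [h] at hR))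

theorem unit_of_integral {k A : Type u} [Field k] [CommRing A] [Algebra k A] [_root_.IsReduced A]
    (hidem : ∀ e : A, IsIdempotentElem e → e = 0 ∨ e = 1) {x : A} (hx : IsIntegral k x)
    {y : A} (hy : y ∈ Algebra.adjoin k ({x} : Set A)) (hy0 : y ≠ 0) : IsUnit y := by
  let L := Algebra.adjoin k ({x} : Set A)
  haveI : Module.Finite k L := Module.Finite.of_fg hx.fg_adjoin_singleton
  haveI : IsArtinianRing L := IsArtinianRing.of_finite k L
  obtain ⟨n, z, hz⟩ := IsArtinian.exists_pow_succ_smul_dvd (⟨y, hy⟩ : L) (1 : L)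
  have hz' : y ^ (n + 1) * (z : A) = y ^ n := by simpa using congrArg Subtype.val hz
  have step : ∀ j : ℕ, y ^ (n + j) * (z : A) ^ j = y ^ n := fun j => by
    induction j with
    | zero => simp
    | succ j ih =>
      calc y ^ (n + (j + 1)) * (z : A) ^ (j + 1) = y ^ j * (z : A) ^ j * (y ^ (n + 1) * z) := by ring
        _ = y ^ j * (z : A) ^ j * y ^ n := by rw [hz']
        _ = y ^ (n + j) * (z : A) ^ j := by ring
        _ = y ^ n := ih
  have he : IsIdempotentElem ((y * (z : A)) ^ n) := by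
    calc (y * (z : A)) ^ n * (y * (z : A)) ^ n = (y ^ (n + n) * (z : A) ^ n) * (z : A) ^ n := by ring
      _ = (y * (z : A)) ^ n := by rw [step n]; ring
  have hn : n ≠ 0 ∨ IsUnit y := by
    rcases Nat.eq_zero_or_pos n with rfl | h
    · exact Or.inr (IsUnit.of_mul_eq_one (z : A) (by simpa using hz'))
    · exact Or.inl (by omega)
  rcases hn with hn | hu
  · rcases hidem _ he with h | h
    · exfalso
      refine hy0 (IsNilpotent.eq_zero (⟨n, ?_⟩ : IsNilpotent y))
      calc y ^ n = y ^ (n + n) * (z : A) ^ n := (step n).symm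
        _ = y ^ n * (y * (z : A)) ^ n := by ring
        _ = 0 := by rw [h, mul_zero]
    · exact (isUnit_pow_iff hn).1 (IsUnit.of_mul_eq_one ((z : A) ^ n) (by rw [← mul_pow, h]))
  · exact hu

section Global

variable {X : Scheme.{u}}

theorem idem_trivial [IsReduced X] [ConnectedSpace X] (e : Γ(X, ⊤)) (he : IsIdempotentElem e) :
    e = 0 ∨ e = 1 := by
  have hd : X.basicOpen e ⊓ X.basicOpen (1 - e) = ⊥ := by
    rw [← Scheme.basicOpen_mul, mul_sub, mul_one, he, sub_self, Scheme.basicOpen_zero]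
  have hcov : (X.basicOpen e : Set X) ∪ X.basicOpen (1 - e) = Set.univ := Set.eq_univ_of_forall fun y => by
    by_contra h
    rw [Set.mem_union, not_or] at h
    have h1 : ¬ IsUnit (X.presheaf.germ ⊤ y (Set.mem_univ _) e) := fun hu => h.1 ((X.mem_basicOpen e y (Set.mem_univ _)).2 hu)
    have h2 : ¬ IsUnit (X.presheaf.germ ⊤ y (Set.mem_univ _) (1 - e)) := fun hu =>
      h.2 ((X.mem_basicOpen (1 - e) y (Set.mem_univ _)).2 hu)
    rw [map_sub, map_one] at h2
    exact h2 ((IsLocalRing.isUnit_or_isUnit_one_sub_self _).resolve_left h1)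
  have hcl : IsClopen (X.basicOpen e : Set X) := by
    refine ⟨⟨?_⟩, (X.basicOpen e).2⟩
    have : ((X.basicOpen e : Set X))ᶜ = X.basicOpen (1 - e) := by
      refine Set.Subset.antisymm (fun y hy => (Set.eq_univ_iff_forall.1 hcov y).resolve_left hy) ?_
      intro y hy hy'
      exact (show y ∉ (⊥ : X.Opens) from id) (hd ▸ (⟨hy', hy⟩ : y ∈ X.basicOpen e ⊓ X.basicOpen (1 - e)))
    rw [this]
    exact (X.basicOpen (1 - e)).2
  rcases isClopen_iff.1 hcl with h | h
  · exact Or.inl ((basicOpen_eq_bot_iff e).1 (TopologicalSpace.Opens.ext h))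
  · refine Or.inr (sub_eq_zero.1 ((basicOpen_eq_bot_iff (1 - e)).1 ?_)).symm
    rw [← hd, show X.basicOpen e = ⊤ from TopologicalSpace.Opens.ext h, top_inf_eq]

variable [IsReduced X] [ConnectedSpace X] {k₁ k₂ : Type u} [Field k₁] [Field k₂]

theorem key (j₁ : k₁ →+* Γ(X, ⊤)) (j₂ : k₂ →+* Γ(X, ⊤))
    (hft : ∀ (U : X.Opens), IsAffineOpen U → ((X.presheaf.map (homOfLE le_top).op).hom.comp j₂ : k₂ →+* Γ(X, U)).FiniteType)
    {F : Type*} [Field F] (ψ₁ : F →+* k₁) (ψ₂ : F →+* k₂) (hψ : j₁.comp ψ₁ = j₂.comp ψ₂)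
    (x : Γ(X, ⊤)) (hx : j₁.IsIntegralElem x) : j₂.IsIntegralElem x := by
  classical
  by_cases hF : ∃ Q : Polynomial F, Q ≠ 0 ∧ Q.eval₂ (j₂.comp ψ₂) x = 0
  · obtain ⟨Q, hQ, hQ0⟩ := hF
    refine ⟨(Q * Polynomial.C Q.leadingCoeff⁻¹).map ψ₂, (Polynomial.monic_mul_leadingCoeff_inv hQ).map ψ₂, ?_⟩
    rw [Polynomial.eval₂_map, Polynomial.eval₂_mul, hQ0, zero_mul]
  have hunit : ∀ Q : Polynomial F, Q ≠ 0 → IsUnit (Q.eval₂ (j₂.comp ψ₂) x) := fun Q hQ => by
    letI := j₁.toAlgebra
    refine unit_of_integral (k := k₁) idem_trivial (x := x) hx ?_ fun h => hF ⟨Q, hQ, h⟩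
    rw [← hψ, ← Polynomial.eval₂_map]
    exact Polynomial.aeval_mem_adjoin_singleton k₁ x
  let V : Polynomial k₂ → X.Opens := fun m => X.basicOpen (m.eval₂ j₂ x)
  have hloc : ∀ y : X, ∃ (U : X.Opens) (hU : IsAffineOpen U) (hy : y ∈ U),
      ∃ (M : Finset (Polynomial k₂)), (∀ m ∈ M, Irreducible m ∧ m.Monic) ∧ ∀ z ∈ U, ∃ m ∈ M, z ∉ V m := by
    intro y
    obtain ⟨U, hU, hy, -⟩ := exists_isAffineOpen_mem_and_subset (x := y) (U := (⊤ : X.Opens)) (Set.mem_univ _)
    refine ⟨U, hU, hy, ?_⟩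
    let r : Γ(X, ⊤) →+* Γ(X, U) := (X.presheaf.map (homOfLE le_top).op).hom
    letI : Algebra k₂ Γ(X, U) := (r.comp j₂).toAlgebra
    haveI : Algebra.FiniteType k₂ Γ(X, U) := RingHom.finiteType_algebraMap.1 (hft U hU)
    haveI : IsNoetherianRing Γ(X, U) := Algebra.FiniteType.isNoetherianRing k₂ _
    have hfin := minimalPrimes.finite_of_isNoetherianRing Γ(X, U)
    refine ⟨hfin.toFinset.image fun P => minpoly k₂ (Ideal.Quotient.mk P (r x)), ?_, fun z hz => ?_⟩
    · intro m hm
      obtain ⟨P, hP, rfl⟩ := Finset.mem_image.1 hm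
      haveI : P.IsPrime := (hfin.mem_toFinset.1 hP).1.1
      have halg : IsAlgebraic k₂ (Ideal.Quotient.mk P (r x)) := alg_core ψ₂ _ fun Q hQ => by
        have h1 : Polynomial.aeval (Ideal.Quotient.mk P (r x)) (Q.map ψ₂) =
            Ideal.Quotient.mk P (r (Q.eval₂ (j₂.comp ψ₂) x)) := by
          rw [Polynomial.aeval_def, Polynomial.eval₂_map, Polynomial.hom_eval₂, Polynomial.hom_eval₂]
          rfl
        rw [h1]
        exact ((hunit Q hQ).map r).map (Ideal.Quotient.mk P)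
      exact ⟨minpoly.irreducible halg.isIntegral, minpoly.monic halg.isIntegral⟩
    · obtain ⟨P, hP, hPz⟩ := Ideal.exists_minimalPrimes_le (I := ⊥) (J := (hU.primeIdealOf ⟨z, hz⟩).asIdeal) bot_le
      refine ⟨_, Finset.mem_image_of_mem _ (hfin.mem_toFinset.2 hP), fun hzV => ?_⟩
      have h1 : r ((minpoly k₂ (Ideal.Quotient.mk P (r x))).eval₂ j₂ x) ∈ P := by
        rw [← Ideal.Quotient.eq_zero_iff_mem, Polynomial.hom_eval₂, Polynomial.hom_eval₂]
        exact minpoly.aeval k₂ (Ideal.Quotient.mk P (r x))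
      refine (AssPointLib.mem_basicOpen_iff hU hz _).1 ?_ (hPz h1)
      rw [Scheme.basicOpen_res]
      exact ⟨hz, hzV⟩
  obtain ⟨y₀⟩ := (inferInstance : Nonempty X)
  obtain ⟨U₀, -, hy₀, M₀, hM₀, hcov₀⟩ := hloc y₀
  obtain ⟨m, hm, hy₀m⟩ := hcov₀ y₀ hy₀
  have hopen : IsOpen ((V m : Set X)ᶜ) := isOpen_iff_forall_mem_open.2 fun y hy => by
    obtain ⟨U, -, hyU, M, hM, hcov⟩ := hloc y
    let good : X.Opens := U ⊓ (M.erase m).inf V
    have hmem : ∀ (T : Finset (Polynomial k₂)) (z : X), z ∈ T.inf V ↔ ∀ m' ∈ T, z ∈ V m' := fun T z => by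
      induction T using Finset.induction_on with
      | empty => simp
      | insert a T ha ih =>
        rw [Finset.inf_insert, Finset.forall_mem_insert, ← ih]
        exact Iff.rfl
    refine ⟨good, fun z hz hzm => ?_, good.2, hyU, (hmem _ y).2 fun m' hm' => ?_⟩
    · obtain ⟨m', hm', hzm'⟩ := hcov z hz.1
      by_cases h : m' = m
      · exact hzm' (h ▸ hzm)
      · exact hzm' ((hmem _ z).1 hz.2 m' (Finset.mem_erase.2 ⟨h, hm'⟩))
    · obtain ⟨hne, hm'M⟩ := Finset.mem_erase.1 hm'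
      obtain ⟨a, c, hac⟩ := ((hM₀ m hm).1.coprime_iff_not_dvd).2 fun hd => hne
        (Polynomial.eq_of_monic_of_associated (hM m' hm'M).2 (hM₀ m hm).2
          ((hM₀ m hm).1.associated_of_dvd (hM m' hm'M).1 hd).symm)
      have h1 : X.presheaf.germ ⊤ y (Set.mem_univ _) (a.eval₂ j₂ x) * X.presheaf.germ ⊤ y (Set.mem_univ _) (m.eval₂ j₂ x) +
          X.presheaf.germ ⊤ y (Set.mem_univ _) (c.eval₂ j₂ x) * X.presheaf.germ ⊤ y (Set.mem_univ _) (m'.eval₂ j₂ x) = 1 := by
        rw [← map_mul, ← map_mul, ← map_add, ← Polynomial.eval₂_mul, ← Polynomial.eval₂_mul,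
          ← Polynomial.eval₂_add, hac, Polynomial.eval₂_one, map_one]
      have hy' : ¬ IsUnit (X.presheaf.germ ⊤ y (Set.mem_univ _) (m.eval₂ j₂ x)) := fun hu =>
        hy ((X.mem_basicOpen _ y (Set.mem_univ _)).2 hu)
      refine (X.mem_basicOpen (m'.eval₂ j₂ x) y (Set.mem_univ _)).2 ?_
      rcases IsLocalRing.isUnit_or_isUnit_of_add_one h1 with h | h
      · exact absurd (isUnit_of_mul_isUnit_right h) hy'
      · exact isUnit_of_mul_isUnit_right h
  have huniv : ((V m : Set X)ᶜ) = Set.univ :=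
    (isClopen_iff.1 ⟨(V m).2.isClosed_compl, hopen⟩).resolve_left (Set.Nonempty.ne_empty ⟨y₀, hy₀m⟩)
  refine ⟨m, (hM₀ m hm).2, ?_⟩
  refine (basicOpen_eq_bot_iff _).1 (TopologicalSpace.Opens.ext ?_)
  rw [Set.compl_univ_iff] at huniv
  exact huniv

theorem one_dir (a : X ⟶ Spec (CommRingCat.of k₁)) (b : X ⟶ Spec (CommRingCat.of k₂))
    [LocallyOfFiniteType a] [LocallyOfFiniteType b] (x : Γ(X, ⊤))
    (hx : RingHom.IsIntegralElem (Coh.toGlobal a : k₁ →+* Γ(X, ⊤)) x) :
    RingHom.IsIntegralElem (Coh.toGlobal b : k₂ →+* Γ(X, ⊤)) x := by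
  have hft : ∀ (U : X.Opens), IsAffineOpen U →
      ((X.presheaf.map (homOfLE le_top).op).hom.comp (Coh.toGlobal b) : k₂ →+* Γ(X, U)).FiniteType := by
    intro U hU
    have h := HasRingHomProperty.appLE @LocallyOfFiniteType b ‹_› ⟨⊤, isAffineOpen_top _⟩ ⟨U, hU⟩ le_top
    exact h.comp (RingHom.FiniteType.of_surjective _
      (ConcreteCategory.bijective_of_isIso (Scheme.ΓSpecIso (CommRingCat.of k₂)).inv).2)
  haveI : Nonempty (⊤ : X.Opens) := ⟨⟨Classical.arbitrary X, Set.mem_univ _⟩⟩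
  haveI : Nontrivial Γ(X, ⊤) := Scheme.component_nontrivial X ⊤
  let j₁ : k₁ →+* Γ(X, ⊤) := Coh.toGlobal a
  let j₂ : k₂ →+* Γ(X, ⊤) := Coh.toGlobal b
  rcases CharP.exists' k₁ with _ | ⟨p, hp, hc⟩
  · haveI : CharZero Γ(X, ⊤) := charZero_of_injective_ringHom j₁.injective
    haveI : CharZero k₂ := j₂.charZero
    exact key j₁ j₂ hft (algebraMap ℚ k₁) (algebraMap ℚ k₂) (Subsingleton.elim _ _) x hx
  · haveI := hp
    haveI : CharP Γ(X, ⊤) p := charP_of_injective_ringHom j₁.injective p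
    haveI : CharP k₂ p := (j₂.charP_iff j₂.injective p).2 inferInstance
    exact key j₁ j₂ hft (ZMod.castHom dvd_rfl k₁) (ZMod.castHom dvd_rfl k₂) (RingHom.ext_zmod _ _) x hx

end Global

/-- If a connected reduced scheme is locally of finite type over two fields k₁ and k₂, then a global
function is integral over k₁ exactly when it is integral over k₂ (the integral closures of the two
base fields in the global functions coincide). -/
theorem result (X : Scheme.{u}) [IsReduced X] [ConnectedSpace X]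
    (k₁ k₂ : Type u) [Field k₁] [Field k₂]
    (a : X ⟶ Spec (CommRingCat.of k₁)) (b : X ⟶ Spec (CommRingCat.of k₂))
    [LocallyOfFiniteType a] [LocallyOfFiniteType b] (x : Coh.Γtop X) :
    (Coh.toGlobal a).IsIntegralElem x ↔ (Coh.toGlobal b).IsIntegralElem x := by
  exact ⟨fun h => one_dir a b x h, fun h => one_dir b a x h⟩

end Groth.Agent.S0216
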