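import Groth.Statements.S0217
import Groth.Agent.FinCodimGenLib.Basic
import Groth.Agent.FittStratLib.DimOneMain

set_option autoImplicit false
set_option backward.isDefEq.respectTransparency false
set_option backward.isDefEq.respectTransparency.types false
universe u
open CategoryTheory CategoryTheory.Limits AlgebraicGeometry TopologicalSpace
open Curves

namespace Groth.Agent.S0217

/-- On a separated scheme whose quasi-compact opens have finitely many irreducible components, any
finite set of points with Noetherian local rings of dimension at most one lies in a common affine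
open. -/
theorem result (X : Scheme.{u}) [X.IsSeparated]
    (hirr : ∀ U : X.Opens, IsCompact (U : Set X) → (irreducibleComponents (U : Set X)).Finite)
    (s : Finset X) (hs : ∀ x ∈ s, IsNoetherianRing (X.presheaf.stalk x) ∧ ringKrullDim (X.presheaf.stalk x) ≤ 1) :
    ∃ U : X.Opens, IsAffineOpen U ∧ ∀ x ∈ s, x ∈ U := by
  classical
  have hch : ∀ x : X, ∃ U : X.Opens, IsAffineOpen U ∧ x ∈ U := fun x => by
    obtain ⟨U, hU, hxU, -⟩ := exists_isAffineOpen_mem_and_subset (X := X) (x := x) (U := ⊤) trivial
    exact ⟨U, hU, hxU⟩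
  choose V hV hxV using hch
  let N : X.Opens := ⨆ t ∈ (s : Set X), V t
  have hN : IsCompact (N : Set X) := by
    have : (N : Set X) = ⋃ t ∈ (s : Set X), (V t : Set X) := by simp [N]
    rw [this]
    exact s.finite_toSet.isCompact_biUnion fun t _ => (hV t).isCompact
  haveI : N.toScheme.IsSeparated := ⟨by
    rw [Subsingleton.elim (terminal.from N.toScheme) (N.ι ≫ terminal.from X)]
    infer_instance⟩
  have hsN : ∀ t ∈ s, t ∈ N := fun t ht =>
    Opens.mem_iSup.mpr ⟨t, Opens.mem_iSup.mpr ⟨ht, hxV t⟩⟩
  obtain ⟨U, hU, hTU⟩ := FinCodimGenLib.exists_affine_of_finite (X := N.toScheme) (hirr N hN)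
    (N.ι ⁻¹' (s : Set X)) (s.finite_toSet.preimage N.ι.isOpenEmbedding.injective.injOn)
    (fun z hz => haveI := (hs _ hz).1
      isNoetherianRing_of_ringEquiv _ (asIso (N.ι.stalkMap z)).commRingCatIsoToRingEquiv)
    (fun z hz => by
      rw [FittStratLib.ringKrullDim_stalk_of_openImmersion N.ι z]
      exact (hs _ hz).2)
  exact ⟨N.ι ''ᵁ U, hU.image_of_isOpenImmersion N.ι, fun t ht => ⟨⟨t, hsN t ht⟩, hTU ht, rfl⟩⟩

end Groth.Agent.S0217
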