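import Groth.Statements.S0218
import Mathlib.FieldTheory.IsAlgClosed.Basic
import Mathlib.RingTheory.Adjoin.Polynomial.Basic
import Mathlib.Algebra.DualNumber
import Mathlib.FieldTheory.Minpoly.Field
-- import your own Groth.Agent.* helpers here

set_option autoImplicit false
universe u
open Curves

namespace Groth.Agent.S0218

/-- Over an algebraically closed field k, a commutative k-algebra with exactly two k-subalgebras is
isomorphic to k × k or to the dual numbers over k. -/
theorem result (k : Type u) [Field k] [IsAlgClosed k] (A : Type u) [CommRing A] [Algebra k A]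
    (h : Nat.card (Subalgebra k A) = 2) :
    Nonempty (A ≃ₐ[k] (k × k)) ∨ Nonempty (A ≃ₐ[k] DualNumber k) := by
  haveI : Finite (Subalgebra k A) := Nat.finite_of_card_ne_zero (by omega)
  have hne : (⊥ : Subalgebra k A) ≠ ⊤ := by
    intro e
    haveI := subsingleton_of_bot_eq_top e
    haveI : Unique (Subalgebra k A) := uniqueOfSubsingleton ⊥
    rw [Nat.card_unique] at h
    omega
  haveI : Nontrivial A := by
    by_contra hA
    rw [not_nontrivial_iff_subsingleton] at hA
    exact hne (SetLike.ext fun x => ⟨fun _ => Algebra.mem_top, fun _ => by rw [Subsingleton.elim x 0]; exact zero_mem _⟩)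
  have hinj : Function.Injective (algebraMap k A) := (algebraMap k A).injective
  have dich : ∀ S : Subalgebra k A, S = ⊥ ∨ S = ⊤ := by
    intro S
    by_contra hS
    push Not at hS
    haveI := Fintype.ofFinite (Subalgebra k A)
    classical
    have := Finset.card_le_univ ({⊥, ⊤, S} : Finset (Subalgebra k A))
    rw [Finset.card_insert_of_notMem (by simp [hne, hS.1.symm]), Finset.card_insert_of_notMem (by simp [hS.2.symm]),
      Finset.card_singleton, ← Nat.card_eq_fintype_card, h] at this
    omega
  obtain ⟨x, hx⟩ : ∃ x : A, x ∉ (⊥ : Subalgebra k A) := by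
    by_contra hh
    push Not at hh
    exact hne (top_le_iff.mp fun x _ => hh x)
  -- `x` is algebraic
  have halg : IsIntegral k x := by
    rcases dich (Algebra.adjoin k {x ^ 2}) with e | e
    · have : x ^ 2 ∈ (⊥ : Subalgebra k A) := e ▸ Algebra.subset_adjoin rfl
      obtain ⟨a, ha⟩ := Algebra.mem_bot.mp this
      exact IsIntegral.of_pow two_pos (ha ▸ isIntegral_algebraMap)
    · have hx2 : x ∈ Algebra.adjoin k {x ^ 2} := e ▸ Algebra.mem_top
      obtain ⟨P, hP⟩ := Algebra.adjoin_singleton_eq_range_aeval k (x ^ 2) ▸ hx2
      refine IsAlgebraic.isIntegral ⟨Polynomial.X - P.comp (Polynomial.X ^ 2), fun e0 => ?_, ?_⟩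
      · have := congrArg Polynomial.natDegree (sub_eq_zero.mp e0)
        rw [Polynomial.natDegree_X, Polynomial.natDegree_comp, Polynomial.natDegree_pow, Polynomial.natDegree_X] at this
        omega
      · change (Polynomial.aeval (x ^ 2)) P = x at hP
        rw [map_sub, Polynomial.aeval_X, Polynomial.aeval_comp, map_pow, Polynomial.aeval_X, hP, sub_self]
  -- an eigenvector `e` of multiplication by `x`, outside `k`
  have hdeg : (minpoly k x).degree ≠ 0 := (minpoly.degree_pos halg).ne'
  obtain ⟨a, ha⟩ := IsAlgClosed.exists_root (minpoly k x) hdeg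
  obtain ⟨g, hg⟩ := Polynomial.dvd_iff_isRoot.mpr ha
  set e := Polynomial.aeval x g with he
  have hg0 : g ≠ 0 := by rintro rfl; simp [minpoly.ne_zero halg] at hg
  have he0 : e ≠ 0 := fun e0 => by
    have hd := Polynomial.natDegree_le_of_dvd (minpoly.dvd k x e0) hg0
    rw [hg, Polynomial.natDegree_mul (Polynomial.X_sub_C_ne_zero a) hg0, Polynomial.natDegree_X_sub_C] at hd
    omega
  have hxe : x * e = algebraMap k A a * e := by
    have := minpoly.aeval k x
    rw [hg, map_mul, map_sub, Polynomial.aeval_X, Polynomial.aeval_C, sub_mul, sub_eq_zero] at this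
    exact this
  have heig : ∀ P : Polynomial k, Polynomial.aeval x P * e = algebraMap k A (P.eval a) * e := by
    intro P
    induction P using Polynomial.induction_on' with
    | add p q hp hq => rw [map_add, add_mul, hp, hq, Polynomial.eval_add, map_add, add_mul]
    | monomial i c =>
      rw [Polynomial.aeval_monomial, Polynomial.eval_monomial, map_mul, map_pow, mul_assoc, mul_assoc]
      congr 1
      induction i with
      | zero => simp
      | succ i ih => rw [pow_succ, mul_assoc, hxe, mul_left_comm, ih, pow_succ]; ring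
  set c := g.eval a
  have hee : e * e = algebraMap k A c * e := heig g
  have hek : ∀ t : k, algebraMap k A t ≠ e := by
    intro t ht
    apply hx
    have ht0 : t ≠ 0 := fun e0 => he0 (by rw [← ht, e0, map_zero])
    rw [← ht] at hxe
    exact Algebra.mem_bot.mpr ⟨a, (((IsUnit.mk0 t ht0).map (algebraMap k A)).mul_right_cancel hxe).symm⟩
  have hind : ∀ s t : k, algebraMap k A s + algebraMap k A t * e = 0 → s = 0 ∧ t = 0 := by
    intro s t hst
    by_cases ht : t = 0
    · subst ht; simp at hst; exact ⟨hinj (by simpa using hst), rfl⟩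
    · refine absurd ?_ (hek (-s / t))
      have h1 : algebraMap k A t * e = algebraMap k A t * algebraMap k A (-s / t) := by
        rw [← map_mul, mul_div_cancel₀ _ ht, map_neg]; linear_combination hst
      exact ((((IsUnit.mk0 t ht).map (algebraMap k A)).mul_left_cancel h1)).symm
  let S : Subalgebra k A :=
    { carrier := {y | ∃ s t : k, y = algebraMap k A s + algebraMap k A t * e}
      mul_mem' := by
        rintro _ _ ⟨s, t, rfl⟩ ⟨s', t', rfl⟩
        refine ⟨s * s', s * t' + t * s' + t * t' * c, ?_⟩
        simp only [map_add, map_mul]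
        linear_combination (algebraMap k A t * algebraMap k A t') * hee
      add_mem' := by
        rintro _ _ ⟨s, t, rfl⟩ ⟨s', t', rfl⟩
        exact ⟨s + s', t + t', by simp only [map_add]; ring⟩
      algebraMap_mem' := fun r => ⟨r, 0, by simp⟩ }
  have hS : S = ⊤ := (dich S).resolve_left fun e' => by
    have : e ∈ S := ⟨0, 1, by simp⟩
    rw [e'] at this
    obtain ⟨t, ht⟩ := Algebra.mem_bot.mp this
    exact hek t ht
  have hspan : ∀ y : A, ∃ s t : k, y = algebraMap k A s + algebraMap k A t * e := fun y =>
    (hS ▸ Algebra.mem_top : y ∈ S)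
  by_cases hc : c = 0
  · right
    rw [hc, map_zero, zero_mul] at hee
    let φ : DualNumber k →ₐ[k] A := DualNumber.lift ⟨(Algebra.ofId k A, e), hee, fun r => Commute.all _ _⟩
    have hφ : ∀ d : DualNumber k, φ d = algebraMap k A d.fst + algebraMap k A d.snd * e := fun d => by
      simp [φ, DualNumber.lift_apply_apply]
    refine ⟨(AlgEquiv.ofBijective φ ⟨(injective_iff_map_eq_zero φ).mpr fun d hd => ?_, fun y => ?_⟩).symm⟩
    · rw [hφ] at hd
      exact TrivSqZeroExt.ext (hind _ _ hd).1 (hind _ _ hd).2
    · obtain ⟨s, t, rfl⟩ := hspan y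
      exact ⟨TrivSqZeroExt.inl s + TrivSqZeroExt.inr t, by rw [hφ]; simp⟩
  · left
    set ε := algebraMap k A c⁻¹ * e with hε
    have hεε : ε * ε = ε := by
      have h1 : algebraMap k A c⁻¹ * algebraMap k A c = 1 := by rw [← map_mul, inv_mul_cancel₀ hc, map_one]
      rw [hε]
      linear_combination (algebraMap k A c⁻¹ * algebraMap k A c⁻¹) * hee + (algebraMap k A c⁻¹ * e) * h1
    let φ : (k × k) →ₐ[k] A :=
      { toFun := fun p => algebraMap k A p.1 * ε + algebraMap k A p.2 * (1 - ε)
        map_one' := by simp
        map_mul' := fun p q => by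
          simp only [Prod.fst_mul, Prod.snd_mul, map_mul]
          linear_combination ((algebraMap k A p.2 - algebraMap k A p.1) * (algebraMap k A q.1 - algebraMap k A q.2)) * hεε
        map_zero' := by simp
        map_add' := fun p q => by simp only [Prod.fst_add, Prod.snd_add, map_add]; ring
        commutes' := fun r => by simp only [Prod.algebraMap_apply, Algebra.algebraMap_self, RingHom.id_apply]; ring }
    refine ⟨(AlgEquiv.ofBijective φ ⟨(injective_iff_map_eq_zero φ).mpr fun p hp => ?_, fun y => ?_⟩).symm⟩
    · change algebraMap k A p.1 * ε + algebraMap k A p.2 * (1 - ε) = 0 at hp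
      obtain ⟨h2, h1⟩ := hind p.2 ((p.1 - p.2) * c⁻¹) (by rw [map_mul, map_sub]; linear_combination hp)
      rw [h2, sub_zero, mul_eq_zero, inv_eq_zero] at h1
      exact Prod.ext (h1.resolve_right hc) h2
    · obtain ⟨s, t, rfl⟩ := hspan y
      refine ⟨(s + t * c, s), ?_⟩
      show algebraMap k A (s + t * c) * ε + algebraMap k A s * (1 - ε) = _
      have h1 : algebraMap k A c * algebraMap k A c⁻¹ = 1 := by rw [← map_mul, mul_inv_cancel₀ hc, map_one]
      rw [hε, map_add, map_mul]
      linear_combination (algebraMap k A t * e) * h1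

end Groth.Agent.S0218
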