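import Groth.Statements.S0219
import Mathlib
import Groth.Agent.FinPicLib.Topo

set_option autoImplicit false
universe u
open CategoryTheory CategoryTheory.Limits AlgebraicGeometry TopologicalSpace
open Curves Topology

namespace Groth.Agent.S0219

theorem one_le_of_pos {d : WithBot ℕ∞} (h : 0 < d) : 1 ≤ d := by
  induction d with
  | bot => exact absurd h not_lt_bot
  | coe d => exact WithBot.coe_le_coe.mpr (Order.one_le_iff_ne_zero.mpr (WithBot.coe_lt_coe.mp h).ne')

/-- A morphism over a field from a proper scheme of dimension at most one to a separated scheme, which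
does not contract any one-dimensional irreducible component to a point, is finite. -/
theorem result (k : Type u) [Field k] (X Y : Scheme.{u}) (p : X ⟶ Spec (CommRingCat.of k)) (q : Y ⟶ Spec (CommRingCat.of k))
    [IsProper p] [IsSeparated q] (f : X ⟶ Y) (hf : f ≫ q = p) (hdim : topologicalKrullDim X ≤ 1)
    (h : ∀ Z ∈ irreducibleComponents (X : Type u), topologicalKrullDim Z = 1 → (f.base '' Z).Nontrivial) :
    IsFinite f := by
  haveI : IsProper (f ≫ q) := by rw [hf]; infer_instance
  haveI : IsProper f := IsProper.of_comp f q
  haveI : IsLocallyNoetherian X := LocallyOfFiniteType.isLocallyNoetherian p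
  haveI : CompactSpace X := QuasiCompact.compactSpace_of_compactSpace p
  haveI : IsNoetherian X := ⟨⟩
  haveI : LocallyQuasiFinite f := LocallyQuasiFinite.of_finite_preimage_singleton f fun y => by
    let G : Set X := {η | FinPicLib.IsGen η}
    have hG : G.Finite := FinPicLib.finite_isGen (α := X)
    by_cases hy : IsClosed ({y} : Set Y)
    swap
    · refine hG.subset fun z (hz : f z = y) => by_contra fun hzG => hy ?_
      have h1 : IsClosed ({z} : Set X) := closure_subset_iff_isClosed.mp fun w hw =>
        (FinPicLib.eq_of_specializes_of_not_isGen hdim hzG (specializes_iff_mem_closure.mpr hw)).symm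
      have h2 := f.isClosedMap _ h1
      rwa [Set.image_singleton, hz] at h2
    obtain ⟨S, hS, hScl, hSir, hFS⟩ :=
      TopologicalSpace.NoetherianSpace.exists_finite_set_isClosed_irreducible (hy.preimage f.continuous)
    rw [hFS]
    refine hS.sUnion fun t ht => Set.Subsingleton.finite fun a ha b hb => ?_
    obtain ⟨η, hη⟩ := QuasiSober.sober (hSir t ht) (hScl t ht)
    have key : ∀ w ∈ t, η = w := by
      intro w hw
      by_contra hne
      have hηG : FinPicLib.IsGen η := FinPicLib.isGen_of_specializes hdim (hη.specializes hw) hne
      have hZ : closure ({η} : Set X) ∈ irreducibleComponents (X : Type u) := by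
        refine ⟨isIrreducible_singleton.closure, fun T hT hle => ?_⟩
        obtain ⟨ξ, hξ⟩ := QuasiSober.sober hT.closure isClosed_closure
        have h1 : ξ ⤳ η := hξ.specializes (subset_closure (hle (subset_closure rfl)))
        obtain rfl := hηG ξ h1
        exact (subset_closure (s := T)).trans hξ.def.symm.le
      have hd1 : topologicalKrullDim (closure ({η} : Set X)) = 1 := by
        refine ((IsInducing.subtypeVal.topologicalKrullDim_le).trans hdim).antisymm ?_
        let a' : TopologicalSpace.IrreducibleCloseds (closure ({η} : Set X)) :=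
          ⟨closure {⟨w, specializes_iff_mem_closure.mp (hη.specializes hw)⟩}, isIrreducible_singleton.closure, isClosed_closure⟩
        let b' : TopologicalSpace.IrreducibleCloseds (closure ({η} : Set X)) :=
          ⟨closure {⟨η, subset_closure rfl⟩}, isIrreducible_singleton.closure, isClosed_closure⟩
        have hlt : a' < b' := by
          have hsp : (⟨η, subset_closure rfl⟩ : closure ({η} : Set X)) ⤳ ⟨w, specializes_iff_mem_closure.mp (hη.specializes hw)⟩ :=
            IsInducing.subtypeVal.specializes_iff.mp (hη.specializes hw)
          refine lt_of_le_of_ne (fun u hu => closure_minimal (Set.singleton_subset_iff.mpr (specializes_iff_mem_closure.mp hsp)) isClosed_closure hu) fun h => hne ?_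
          have h3 := congrArg SetLike.coe h
          exact congrArg Subtype.val ((isGenericPoint_closure (x := (⟨w, specializes_iff_mem_closure.mp (hη.specializes hw)⟩ : closure ({η} : Set X)))).eq
            (show IsGenericPoint (⟨η, subset_closure rfl⟩ : closure ({η} : Set X)) _ from h3.symm)).symm
        exact one_le_of_pos (Order.krullDim_pos_iff.mpr ⟨a', b', hlt⟩)
      obtain ⟨y₁, ⟨z₁, hz₁, rfl⟩, y₂, ⟨z₂, hz₂, rfl⟩, hne'⟩ := h _ hZ hd1
      have hsub : ∀ z ∈ closure ({η} : Set X), f z = y := fun z hz =>
        hFS.ge ⟨t, ht, (hη.def.le hz)⟩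
      exact hne' ((hsub z₁ hz₁).trans (hsub z₂ hz₂).symm)
    exact (key a ha).symm.trans (key b hb)
  exact IsFinite.of_isProper_of_locallyQuasiFinite f

end Groth.Agent.S0219
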