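import Groth.Statements.S0221
import Groth.Agent.CdCharPLib.SepClosed
import Groth.Agent.CdOneLib.Torsion
import Groth.Agent.EtTransferLib.Basic
-- import your own Groth.Agent.* helpers here

set_option autoImplicit false
set_option maxHeartbeats 2000000
set_option backward.isDefEq.respectTransparency false
universe u
open CategoryTheory CategoryTheory.Limits AlgebraicGeometry
open Curves

namespace Groth.Agent.S0221

/-- For a separated finite type scheme of dimension d over an algebraically closed field of
characteristic p, étale cohomology with Z/p coefficients vanishes above degree d. -/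
theorem result (k : Type u) [Field k] [IsAlgClosed k] (p : ℕ) [Fact p.Prime] [CharP k p]
    (X : Scheme.{u}) (f : X ⟶ Spec (CommRingCat.of k)) [IsSeparated f] [LocallyOfFiniteType f] [QuasiCompact f]
    (d : ℕ) (hd : topologicalKrullDim X = d) (q : ℕ) (hq : d + 1 ≤ q) :
    Subsingleton (EtCoh.H X (EtCoh.const X (ZMod p)) q) := by
  haveI : IsSepClosed k := inferInstance
  refine CdCharPLib.cohDimLEAt_sepClosed p f d (le_of_eq hd) _ (fun U s x => ?_) q (by omega)
  refine ⟨U, 𝟙 U, ⟨x, rfl⟩, 1, ?_⟩
  rw [pow_one]
  have h := EtTransferLib.nsmul_id_app (EtCoh.const X (ZMod p)) p U s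
  rw [CdOneLib.nsmul_id_const] at h
  change p • ((EtCoh.const X (ZMod p)).obj.map (𝟙 (Opposite.op U)) s) = 0
  rw [CategoryTheory.Functor.map_id]
  exact h.symm

end Groth.Agent.S0221
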