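import Groth.Agent.S0002
import Groth.Agent.FRpushLib.RestrExt
import Groth.Agent.CohTopLib.SpecVanish
import Groth.Agent.NagataCompLib.Boundary
import Groth.Agent.KiehlLib.RestrLift
import Groth.Agent.FibDimLib.ClosureDim
import Groth.Agent.StratLib.Light
import Groth.Agent.ConsLib.ModLoci
import Groth.Prelude.Def_CohPull

/-! # Finiteness of top cohomology without properness -/

set_option autoImplicit false
set_option backward.isDefEq.respectTransparency false
set_option backward.isDefEq.respectTransparency.types false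
set_option maxHeartbeats 1000000
set_option linter.style.haveILetI false

universe u

open CategoryTheory CategoryTheory.Limits AlgebraicGeometry Opposite TopologicalSpace CategoryTheory.Abelian
open QCohLib (AbSh HU restrAb hEquiv hEquiv_map)

noncomputable section

namespace TopFinLib

variable {X Y : Scheme.{u}} (j : X ⟶ Y) [IsOpenImmersion j]

theorem restrAb_smulAb (G : Y.Modules) (r : Coh.Γtop Y) :
    (restrAb j).map (Coh.smulAb G r) = Coh.smulAb (G.restrict j) (j.appTop r) := by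
  ext V m
  change Γ(G, j ''ᵁ V.unop) at m
  change (Y.presheaf.map (homOfLE (le_top : j ''ᵁ V.unop ≤ ⊤)).op r : Γ(Y, j ''ᵁ V.unop)) • m =
    (((j.appIso V.unop).inv (X.presheaf.map (homOfLE (le_top : V.unop ≤ ⊤)).op (j.appTop r))) : Γ(Y, j ''ᵁ V.unop)) • m
  congr 1
  have h : j.app ⊤ ≫ X.presheaf.map (homOfLE ((fun x _ => trivial) : V.unop ≤ j ⁻¹ᵁ ⊤)).op ≫ (j.appIso V.unop).inv =
      Y.presheaf.map (homOfLE (le_top : j ''ᵁ V.unop ≤ ⊤)).op := by
    rw [Scheme.Hom.appIso_inv_naturality, ← Category.assoc, Scheme.Hom.app_appIso_inv, ← Functor.map_comp]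
    rfl
  exact (ConcreteCategory.congr_hom h r).symm

theorem smulAb_natural {M N : X.Modules} (φ : M ⟶ N) (r : Coh.Γtop X) :
    Coh.smulAb M r ≫ (SheafOfModules.toSheaf X.ringCatSheaf).map φ =
      (SheafOfModules.toSheaf X.ringCatSheaf).map φ ≫ Coh.smulAb N r := by
  ext V m
  exact QCohLib.app_smul φ V.unop (Coh.resTop X V r) m

/-- restriction on cohomology followed by a map -/
def psi (G : Y.Modules) {F : X.Modules} (φ : G.restrict j ⟶ F) (d : ℕ) : Coh.HH Y G d →+ Coh.HH X F d :=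
  (CohPull.mapH φ d).comp
    (((hEquiv ((restrAb j).obj (Coh.toAb G)) d).symm.toAddMonoidHom).comp
      ((FRpushLib.restrHU j (Coh.toAb G) d).comp
        ((QCohLib.res (homOfLE (le_top : j ''ᵁ (⊤ : X.Opens) ≤ ⊤))).comp (hEquiv (Coh.toAb G) d).toAddMonoidHom)))

theorem psi_apply (G : Y.Modules) {F : X.Modules} (φ : G.restrict j ⟶ F) (d : ℕ) (x : Coh.HH Y G d) :
    psi j G φ d x = CohPull.mapH φ d ((hEquiv ((restrAb j).obj (Coh.toAb G)) d).symm
      (FRpushLib.restrHU j (Coh.toAb G) d (QCohLib.res (homOfLE (le_top : j ''ᵁ (⊤ : X.Opens) ≤ ⊤))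
        (hEquiv (Coh.toAb G) d x)))) := rfl

theorem psi_smul (G : Y.Modules) {F : X.Modules} (φ : G.restrict j ⟶ F) (d : ℕ) (r : Coh.Γtop Y) (x : Coh.HH Y G d) :
    psi j G φ d (r • x) = (j.appTop r : Coh.Γtop X) • psi j G φ d x := by
  show psi j G φ d (Sheaf.H.map (Coh.smulAb G r) d x) = Sheaf.H.map (Coh.smulAb F (j.appTop r)) d (psi j G φ d x)
  rw [psi_apply, psi_apply, hEquiv_map, QCohLib.res_comp, FRpushLib.restrHU_natural]
  have h1 : ∀ y, (hEquiv ((restrAb j).obj (Coh.toAb G)) d).symm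
      (y.comp (Ext.mk₀ ((restrAb j).map (Coh.smulAb G r))) (add_zero d)) =
      Sheaf.H.map ((restrAb j).map (Coh.smulAb G r)) d ((hEquiv ((restrAb j).obj (Coh.toAb G)) d).symm y) := by
    intro y
    rw [AddEquiv.symm_apply_eq, hEquiv_map, AddEquiv.apply_symm_apply]
  rw [h1, restrAb_smulAb]
  show Sheaf.H.map _ d (Sheaf.H.map _ d _) = Sheaf.H.map _ d (Sheaf.H.map _ d _)
  rw [← Sheaf.H.map_comp_apply, ← Sheaf.H.map_comp_apply, smulAb_natural]
  rfl

theorem psi_surjective [CompactSpace Y] [QuasiSeparatedSpace Y] [CompactSpace X] (G : Y.Modules) {F : X.Modules}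
    (φ : G.restrict j ≅ F) (d : ℕ) (hd : topologicalKrullDim Y ≤ (d : WithBot ℕ∞)) :
    Function.Surjective (psi j G φ.hom d) := by
  haveI : SpectralSpace Y.toTopCat :=
    { toT0Space := (inferInstance : T0Space ↥Y), toCompactSpace := (inferInstance : CompactSpace ↥Y),
      toQuasiSober := (inferInstance : QuasiSober ↥Y), toQuasiSeparatedSpace := (inferInstance : QuasiSeparatedSpace ↥Y),
      toPrespectralSpace := (inferInstance : PrespectralSpace ↥Y) }
  have h1 : Function.Surjective (QCohLib.res (F := Coh.toAb G) (n := d)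
      (homOfLE (le_top : j ''ᵁ (⊤ : X.Opens) ≤ ⊤))) :=
    (CohTopLib.SpecVanish.bound d Y.toTopCat hd (Coh.toAb G)).2 _
      (by rw [Scheme.Hom.image_top_eq_opensRange]; exact isCompact_range j.continuous)
  have h2 : Function.Surjective (CohPull.mapH φ.hom d) := fun z => ⟨CohPull.mapH φ.inv d z, by
    show Sheaf.H.map _ d (Sheaf.H.map _ d z) = z
    rw [← Sheaf.H.map_comp_apply, ← Functor.map_comp, φ.inv_hom_id]
    exact (congrArg (fun t => Sheaf.H.map t d z) ((SheafOfModules.toSheaf X.ringCatSheaf).map_id F)).trans (Sheaf.H.map_id_apply _)⟩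
  intro z
  obtain ⟨a, ha⟩ := h2 z
  obtain ⟨b, hb⟩ := (hEquiv ((restrAb j).obj (Coh.toAb G)) d).symm.surjective a
  obtain ⟨c, hc⟩ := (FRpushLib.restrHU_bijective j d (Coh.toAb G)).2 b
  obtain ⟨e, he⟩ := h1 c
  obtain ⟨f, hf⟩ := (hEquiv (Coh.toAb G) d).surjective e
  refine ⟨f, ?_⟩
  rw [psi_apply, hf, he, hc, hb, ha]

theorem dim_le_of_dense {k : Type u} [Field k] (p : Y ⟶ Spec (CommRingCat.of k)) [LocallyOfFiniteType p]
    [CompactSpace Y] (hj : DenseRange j) (d : WithBot ℕ∞) (hd : topologicalKrullDim X ≤ d) :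
    topologicalKrullDim Y ≤ d := by
  haveI : IsLocallyNoetherian Y := LocallyOfFiniteType.isLocallyNoetherian p
  haveI : IsNoetherian Y := {}
  refine FibDimLib.topologicalKrullDim_le_of_generic fun z hz => ?_
  obtain ⟨o, ho, hne, hoZ⟩ := NoetherianSpace.exists_isOpen_nonempty_subset_irreducibleComponent _ hz
  obtain ⟨w, hwo, hwU⟩ := hj.inter_open_nonempty o ho hne
  obtain ⟨x, rfl⟩ : z ∈ Set.range j :=
    (specializes_iff_mem_closure.2 (hoZ hwo)).mem_open j.isOpenEmbedding.isOpen_range hwU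
  rw [← FibDimLib.topologicalKrullDim_closure_of_isOpenEmbedding p j.isOpenEmbedding x]
  exact (topologicalKrullDim_subspace_le X _).trans hd

theorem exists_coh_extension [IsNoetherian Y] [QuasiCompact j] (F : X.Modules) (hF : Coh.IsCoh F) :
    ∃ G : Y.Modules, Coh.IsCoh G ∧ Nonempty (G.restrict j ≅ F) := by
  haveI := hF.1
  let P := (Scheme.Modules.pushforward j).obj F
  haveI : Coh.IsQCoh P := QCohLib.isQCoh_pushforward j F
  let e := j.isoOpensRange
  have he : e.inv ≫ j = j.opensRange.ι := Scheme.Hom.isoOpensRange_inv_comp j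
  let c : P.restrict j ≅ F := asIso ((Scheme.Modules.restrictAdjunction j).counit.app F)
  let a := fun (M : Y.Modules) => (Scheme.Modules.restrictFunctorCongr he).symm.app M ≪≫
    (Scheme.Modules.restrictFunctorComp e.inv j).app M
  obtain ⟨G, i, hG, hi⟩ := KiehlLib.exists_coh_restrict_iso j.opensRange P
    (ConsLib.isCoh_of_iso (a P ≪≫ (Scheme.Modules.restrictFunctor e.inv).mapIso c).symm (StratLib.isCoh_restrict e.inv hF))
  haveI := hi
  have h : e.hom ≫ j.opensRange.ι = j := j.isoOpensRange_hom_ι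
  let b := fun (M : Y.Modules) => (Scheme.Modules.restrictFunctorCongr h).symm.app M ≪≫
    (Scheme.Modules.restrictFunctorComp e.hom j.opensRange.ι).app M
  exact ⟨G, hG, ⟨b G ≪≫ (Scheme.Modules.restrictFunctor e.hom).mapIso
    (asIso ((Scheme.Modules.restrictFunctor j.opensRange.ι).map i)) ≪≫ (b P).symm ≪≫ c⟩⟩

end TopFinLib
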