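import Groth.Statements.S0222
import Mathlib
import Groth.Agent.TopFinLib
-- import your own Groth.Agent.* helpers here

set_option autoImplicit false
universe u
open CategoryTheory CategoryTheory.Limits AlgebraicGeometry
open Curves

namespace Groth.Agent.S0222

/-- For a separated scheme of finite type and dimension d over a field k and a coherent module F, the
top cohomology H^d(X, F) is finite-dimensional over k (no properness needed). -/
theorem result (k : Type u) [Field k] (X : Scheme.{u}) [X.Over (Spec (CommRingCat.of k))]
    [IsSeparated (X ↘ Spec (CommRingCat.of k))] [LocallyOfFiniteType (X ↘ Spec (CommRingCat.of k))]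
    [QuasiCompact (X ↘ Spec (CommRingCat.of k))]
    (F : X.Modules) (hF : Coh.IsCoh F) (d : ℕ) (hd : topologicalKrullDim X = d) :
    Module.Finite k (Coh.HH X F d) := by
  haveI : CompactSpace X := QuasiCompact.compactSpace_of_compactSpace (X ↘ Spec (CommRingCat.of k))
  obtain ⟨Y, j, p, hj, hjq, hp, hdense, he⟩ := NagataCompLib.exists_dense_compactification (X ↘ Spec (CommRingCat.of k))
  haveI := hj
  haveI := hjq
  haveI := hp
  haveI : CompactSpace Y := QuasiCompact.compactSpace_of_compactSpace p
  haveI : QuasiSeparatedSpace Y := quasiSeparatedSpace_of_quasiSeparated p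
  haveI : IsLocallyNoetherian Y := LocallyOfFiniteType.isLocallyNoetherian p
  haveI : IsNoetherian Y := {}
  letI : Y.Over (Spec (CommRingCat.of k)) := ⟨p⟩
  haveI : IsProper (Y ↘ Spec (CommRingCat.of k)) := hp
  obtain ⟨G, hG, ⟨φ⟩⟩ := TopFinLib.exists_coh_extension j F hF
  haveI := Groth.Agent.S0002.result k Y G hG d
  let ψ : Coh.HH Y G d →ₗ[k] Coh.HH X F d :=
    { toFun := TopFinLib.psi j G φ.hom d
      map_add' := map_add _
      map_smul' := fun c x => by
        show TopFinLib.psi j G φ.hom d (Coh.toGlobal p c • x) =
          Coh.toGlobal (X ↘ Spec (CommRingCat.of k)) c • TopFinLib.psi j G φ.hom d x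
        rw [TopFinLib.psi_smul, ← he]
        rfl }
  exact Module.Finite.of_surjective ψ (TopFinLib.psi_surjective j G φ d (TopFinLib.dim_le_of_dense j p hdense _ hd.le))

end Groth.Agent.S0222
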