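import Groth.Statements.S0223
import Groth.Agent.S0034
import Groth.Agent.KFlatLib.PerfectPull
import Groth.Agent.CurvLib.Euler

set_option autoImplicit false
universe u
open CategoryTheory CategoryTheory.Limits AlgebraicGeometry
open Curves

namespace Groth.Agent.S0223

/-- For a proper one-dimensional scheme X over a field k with only constant global functions, base
change to a field extension k' keeps the global functions equal to the constants and keeps the genus
dim H^1(X, O_X). The base change is given as any pullback square. -/
theorem result (k : Type u) [Field k] (X : Scheme.{u}) [X.Over (Spec (CommRingCat.of k))]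
    [IsProper (X ↘ Spec (CommRingCat.of k))] (hdim : topologicalKrullDim X = 1)
    (h0 : Module.finrank k (Coh.HH X (Coh.structureModule X) 0) = 1)
    (k' : Type u) [Field k'] [Algebra k k'] (X' : Scheme.{u}) [X'.Over (Spec (CommRingCat.of k'))]
    (g : X' ⟶ X)
    (hpb : IsPullback g (X' ↘ Spec (CommRingCat.of k')) (X ↘ Spec (CommRingCat.of k))
      (Spec.map (CommRingCat.ofHom (algebraMap k k')))) :
    Module.finrank k' (Coh.HH X' (Coh.structureModule X') 0) = 1 ∧
      Module.finrank k' (Coh.HH X' (Coh.structureModule X') 1) =
        Module.finrank k (Coh.HH X (Coh.structureModule X) 1) := by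
  have hflat : Module.Flat k k' := inferInstance
  have hq : Coh.IsQCoh (Coh.structureModule X) := QCohLib.isQCoh_unit
  have key : ∀ i : ℕ, Module.finrank k' (Coh.HH X' (Coh.structureModule X') i) =
      Module.finrank k (Coh.HH X (Coh.structureModule X) i) := fun i => by
    haveI := hq
    haveI : CompactSpace X := QuasiCompact.compactSpace_of_compactSpace (X ↘ Spec (CommRingCat.of k))
    haveI : QuasiSeparatedSpace X := quasiSeparatedSpace_of_quasiSeparated (X ↘ Spec (CommRingCat.of k))
    obtain ⟨e⟩ := Groth.Agent.S0034.result k k' X X' g hpb (Coh.structureModule X) i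
    let e' := CurvLib.hIso (k := k') (KFlatLib.pullUnitIso g) i
    rw [← e'.finrank_eq, ← e.finrank_eq, Module.finrank_baseChange]
  exact ⟨(key 0).trans h0, key 1⟩

end Groth.Agent.S0223
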