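import Groth.Statements.S0224
import Groth.Agent.JacTorsLib.Et

set_option autoImplicit false
set_option backward.isDefEq.respectTransparency false
set_option backward.isDefEq.respectTransparency.types false
set_option maxRecDepth 8000
set_option maxHeartbeats 1000000
universe u
open CategoryTheory CategoryTheory.Limits AlgebraicGeometry
open Curves

namespace Groth.Agent.S0224

/-- Let X be a smooth proper curve of genus g over an algebraically closed field k, the genus being
dim_k H¹(X, O_X), and let n ≥ 1 be an integer invertible in k. Then the first étale cohomology group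
of X with coefficients in the constant sheaf ℤ/n is (noncanonically) isomorphic to (ℤ/n)^{2g}. (The
published statement assumes X projective; stated here for X proper.) -/
theorem result (k : Type u) [Field k] [IsAlgClosed k] (X : Scheme.{u}) [X.Over (Spec (CommRingCat.of k))]
    (hX : Curve.IsSmoothProperCurve k X (X ↘ Spec (CommRingCat.of k)))
    (g : ℕ) (hg : Module.finrank k (Coh.HH X (Coh.structureModule X) 1) = g)
    (n : ℕ) (hn : 1 ≤ n) (hnk : (n : k) ≠ 0) :
    Nonempty (EtCoh.H X (EtCoh.const X (ZMod n)) 1 ≃+ (Fin (2 * g) → ZMod n)) := by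
  obtain ⟨hP, hS, hI, hdim⟩ := hX
  haveI := hP; haveI := hS; haveI := hI
  obtain ⟨e⟩ := JacTorsLib.nonempty_H1_mu k X hdim n hnk
  subst hg
  haveI : NeZero (n : k) := ⟨hnk⟩
  haveI : NeZero n := ⟨by omega⟩
  let j : k →+* Γ(X, ⊤) := ((Scheme.ΓSpecIso (CommRingCat.of k)).inv ≫ (X ↘ Spec (CommRingCat.of k)).appTop).hom
  obtain ⟨ζ, hζ⟩ := HasEnoughRootsOfUnity.exists_primitiveRoot k n
  have h1 : Polynomial.aeval ζ (Polynomial.cyclotomic n ℤ) = 0 := by
    rw [Polynomial.aeval_def, Polynomial.eval₂_eq_eval_map, Polynomial.map_cyclotomic]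
    exact hζ.isRoot_cyclotomic (by omega)
  have h2 : Polynomial.aeval (j ζ) (Polynomial.cyclotomic n ℤ) = 0 := MuConstLib.aeval_map j h1
  have h3 : IsUnit (n : Γ(X, ⊤)) := by
    rw [← map_natCast j n]; exact (isUnit_iff_ne_zero.2 hnk).map j
  obtain ⟨μc⟩ := MuConstLib.mu_iso_const X n hn h3 (j ζ) h2
  exact ⟨((e.trans ((EtCoh.HF X 1).mapIso μc).addCommGroupIsoToAddEquiv).symm)⟩

end Groth.Agent.S0224
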