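import Groth.Statements.S0226
import Groth.Agent.CommAlgDim.Regular
import Mathlib.RingTheory.DiscreteValuationRing.TFAE
import Mathlib.RingTheory.Ideal.MinimalPrime.Noetherian
-- import your own Groth.Agent.* helpers here

set_option autoImplicit false
universe u
open Curves

namespace Groth.Agent.S0226

theorem prime_principal {A : Type u} [CommRing A] [IsRegularLocalRing A] (hdim : ringKrullDim A = 2)
    (P : Ideal A) [P.IsPrime] (hPm : P ≠ IsLocalRing.maximalIdeal A) : ∃ f, P = Ideal.span {f} := by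
  haveI := CommAlgDim.isDomain_of_isRegularLocalRing A
  have hm : IsLocalRing.maximalIdeal A ≠ ⊥ := by
    intro h
    have h1 := IsRegularLocalRing.spanFinrank_maximalIdeal (R := A)
    rw [h, hdim, Submodule.spanFinrank_bot] at h1
    norm_cast at h1
  obtain ⟨π, hπ, hπ2, hπP⟩ := CommAlgDim.exists_mem_notMem_sq (S := {P}) (Set.finite_singleton P)
    (fun Q hQ => by rw [hQ]; infer_instance) (fun Q hQ => by rw [hQ]; exact hPm) hm
  have hπP' : π ∉ P := hπP P rfl
  haveI := CommAlgDim.isRegularLocalRing_quotient_singleton hπ hπ2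
  haveI := CommAlgDim.isDomain_of_isRegularLocalRing (A ⧸ Ideal.span {π})
  have hrank : Module.finrank (IsLocalRing.ResidueField (A ⧸ Ideal.span {π}))
      (IsLocalRing.CotangentSpace (A ⧸ Ideal.span {π})) ≤ 1 := by
    rw [← IsLocalRing.spanFinrank_maximalIdeal_eq_finrank_cotangentSpace]
    have h1 := CommAlgDim.spanFinrank_maximalIdeal_quotient_singleton hπ hπ2
    have h2 := IsRegularLocalRing.spanFinrank_maximalIdeal (R := A)
    rw [hdim] at h2
    norm_cast at h2
    omega
  haveI : IsPrincipalIdealRing (A ⧸ Ideal.span {π}) :=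
    ((tfae_of_isNoetherianRing_of_isLocalRing_of_isDomain (A ⧸ Ideal.span {π})).out 5 0).mp hrank
  obtain ⟨g, hg⟩ := (IsPrincipalIdealRing.principal (P.map (Ideal.Quotient.mk (Ideal.span {π})))).principal
  have hgm : g ∈ P.map (Ideal.Quotient.mk (Ideal.span {π})) := hg ▸ Submodule.mem_span_singleton_self g
  obtain ⟨f, hf, rfl⟩ := (Ideal.mem_map_iff_of_surjective _ Ideal.Quotient.mk_surjective).mp hgm
  refine ⟨f, le_antisymm ?_ ((Ideal.span_singleton_le_iff_mem _).mpr hf)⟩
  refine Submodule.le_of_le_smul_of_le_jacobson_bot (IsNoetherian.noetherian P)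
    (IsLocalRing.jacobson_eq_maximalIdeal (⊥ : Ideal A) bot_ne_top).ge ?_
  intro x hx
  have h1 : Ideal.Quotient.mk (Ideal.span {π}) x ∈ Ideal.span {Ideal.Quotient.mk (Ideal.span {π}) f} :=
    hg.le (Ideal.mem_map_of_mem _ hx)
  obtain ⟨a, ha⟩ := Ideal.mem_span_singleton'.mp h1
  obtain ⟨a, rfl⟩ := Ideal.Quotient.mk_surjective a
  rw [← map_mul, Ideal.Quotient.eq, Ideal.mem_span_singleton'] at ha
  obtain ⟨y, hy⟩ := ha
  have hyP : y ∈ P := ((inferInstance : P.IsPrime).mem_or_mem
    (show y * π ∈ P by rw [hy]; exact sub_mem (P.mul_mem_left a hf) hx)).resolve_right hπP'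
  have hx' : x = a * f + π * (-y) := by linear_combination hy
  rw [hx']
  exact Submodule.add_mem_sup (Ideal.mul_mem_left _ a (Ideal.mem_span_singleton_self f))
    (Submodule.smul_mem_smul hπ (neg_mem hyP))

/-- In a regular local ring of dimension two, an ideal inside the maximal ideal with reduced quotient is
zero, the maximal ideal, or principal. -/
theorem result (A : Type u) [CommRing A] [IsRegularLocalRing A] (hdim : ringKrullDim A = 2)
    (I : Ideal A) (hI : I ≤ IsLocalRing.maximalIdeal A) [IsReduced (A ⧸ I)] :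
    I = ⊥ ∨ I = IsLocalRing.maximalIdeal A ∨ ∃ f ∈ IsLocalRing.maximalIdeal A, f ≠ 0 ∧ I = Ideal.span {f} := by
  classical
  haveI := CommAlgDim.isDomain_of_isRegularLocalRing A
  by_cases hbot : I = ⊥
  · exact Or.inl hbot
  by_cases hIm : I = IsLocalRing.maximalIdeal A
  · exact Or.inr (Or.inl hIm)
  have hrad : I.radical = I := ((Ideal.isRadical_iff_quotient_reduced I).mpr inferInstance).radical
  have hne : ∀ P ∈ I.minimalPrimes, P ≠ IsLocalRing.maximalIdeal A := by
    intro P hP h
    apply hIm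
    rw [← hrad, Ideal.radical_eq_sInf]
    refine le_antisymm (sInf_le ⟨hI, (IsLocalRing.maximalIdeal.isMaximal A).isPrime⟩) (le_sInf ?_)
    rintro Q ⟨hQI, hQ⟩
    exact h ▸ hP.2 ⟨hQ, hQI⟩ (h ▸ IsLocalRing.le_maximalIdeal hQ.ne_top)
  have hp : ∀ P ∈ I.minimalPrimes, ∃ f, P = Ideal.span {f} := fun P hP =>
    haveI : P.IsPrime := hP.1.1
    prime_principal hdim P (hne P hP)
  choose! f hf using hp
  have hfin := Ideal.finite_minimalPrimes_of_isNoetherianRing A I
  have key : ∀ s : Finset (Ideal A), (↑s ⊆ I.minimalPrimes) → ∀ x : A, (∀ P ∈ s, x ∈ P) → ∏ P ∈ s, f P ∣ x := by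
    intro s
    induction s using Finset.induction_on with
    | empty => intros; simp
    | insert P s hPs ih =>
      intro hs x hx
      have hs' : ↑s ⊆ I.minimalPrimes := fun Q hQ => hs (Finset.mem_insert_of_mem hQ)
      have hP : P ∈ I.minimalPrimes := hs (Finset.mem_insert_self P s)
      obtain ⟨c, rfl⟩ := ih hs' x fun Q hQ => hx Q (Finset.mem_insert_of_mem hQ)
      rw [Finset.prod_insert hPs, mul_comm (f P)]
      refine mul_dvd_mul_left _ ?_
      haveI : P.IsPrime := hP.1.1
      rcases (inferInstance : P.IsPrime).mem_or_mem (hx P (Finset.mem_insert_self P s)) with h | h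
      · obtain ⟨Q, hQ, hQP⟩ := (Ideal.IsPrime.prod_mem_iff (p := P)).mp h
        have hle : Q ≤ P := by
          rw [hf Q (hs' hQ)]
          exact (Ideal.span_singleton_le_iff_mem _).mpr hQP
        exact absurd (le_antisymm hle (hP.2 (hs' hQ).1 hle) ▸ hQ) hPs
      · rw [hf P hP] at h
        exact Ideal.mem_span_singleton.mp h
  refine Or.inr (Or.inr ⟨∏ P ∈ hfin.toFinset, f P, ?_, ?_, ?_⟩)
  · by_contra hu
    apply hu
    obtain ⟨P, hP⟩ := Ideal.nonempty_minimalPrimes (ne_top_of_le_ne_top (IsLocalRing.maximalIdeal.isMaximal A).ne_top hI)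
    refine Ideal.mem_of_dvd _ (Finset.dvd_prod_of_mem _ (hfin.mem_toFinset.mpr hP)) ?_
    exact IsLocalRing.le_maximalIdeal hP.1.1.ne_top ((hf P hP).ge (Ideal.mem_span_singleton_self _))
  · rw [Finset.prod_ne_zero_iff]
    intro P hP h0
    rw [Set.Finite.mem_toFinset] at hP
    have h1 := hf P hP
    rw [h0, (Ideal.span_singleton_eq_bot (x := (0 : A))).mpr rfl] at h1
    exact hbot (le_bot_iff.mp (h1 ▸ hP.1.2))
  · refine le_antisymm (fun x hx => Ideal.mem_span_singleton.mpr ?_) ?_
    · exact key _ (fun P hP => hfin.mem_toFinset.mp hP) x fun P hP => (hfin.mem_toFinset.mp hP).1.2 hx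
    · rw [Ideal.span_singleton_le_iff_mem]
      suffices ∏ P ∈ hfin.toFinset, f P ∈ I.radical by rwa [hrad] at this
      rw [← Ideal.sInf_minimalPrimes, Submodule.mem_sInf]
      intro P hP
      exact Ideal.mem_of_dvd _ (Finset.dvd_prod_of_mem _ (hfin.mem_toFinset.mpr hP))
        ((hf P hP).ge (Ideal.mem_span_singleton_self _))

end Groth.Agent.S0226
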