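import Groth.Statements.S0232
import Groth.Agent.PicFieldLib.Main

set_option autoImplicit false
universe u
open CategoryTheory CategoryTheory.Limits AlgebraicGeometry
open Curves

namespace Groth.Agent.S0232

/-- For a quasi-compact quasi-separated scheme X over a field k with finite-dimensional H^0(X, O_X), an
invertible module on X that becomes trivial after base change to a field extension k' is already
trivial (injectivity of Pic(X) → Pic(X_{k'}), stated on classes without a group structure). The base
change is given as any pullback square. -/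
theorem result (k : Type u) [Field k] (X : Scheme.{u}) [X.Over (Spec (CommRingCat.of k))]
    [CompactSpace X] [QuasiSeparatedSpace X]
    (hfin : Module.Finite k (Coh.HH X (Coh.structureModule X) 0))
    (k' : Type u) [Field k'] [Algebra k k'] (X' : Scheme.{u}) (g : X' ⟶ X) (q : X' ⟶ Spec (CommRingCat.of k'))
    (hpb : IsPullback g q (X ↘ Spec (CommRingCat.of k)) (Spec.map (CommRingCat.ofHom (algebraMap k k'))))
    (L : X.Modules) (hL : PicF.IsInvertible L) (htriv : PicF.IsTrivialCl (PicF.pullCl g (PicF.cl L))) :
    PicF.IsTrivialCl (PicF.cl L) := by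
  let _inst : X'.Over (Spec (CommRingCat.of k')) := ⟨q⟩
  haveI := hfin
  have h1 : PicF.cl ((Scheme.Modules.pullback g).obj L) = PicF.cl (Coh.structureModule X') := htriv
  obtain ⟨i⟩ : Nonempty ((Scheme.Modules.pullback g).obj L ≅ Coh.structureModule X') := by
    have h2 := Quot.eqvGen_exact h1
    have hsym : Equivalence fun A B : X'.Modules => Nonempty (A ≅ B) :=
      ⟨fun A => ⟨Iso.refl A⟩, fun ⟨e⟩ => ⟨e.symm⟩, fun ⟨e⟩ ⟨e'⟩ => ⟨e.trans e'⟩⟩
    exact hsym.eqvGen_iff.mp h2
  obtain ⟨j⟩ := PicFieldLib.nonempty_iso_of_pullback (k := k) (k' := k') hpb hL i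
  exact Quot.sound ⟨j⟩

end Groth.Agent.S0232
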