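import Groth.Statements.S0233
import Groth.Agent.PicUFDLib.Main

set_option autoImplicit false
universe u
open CategoryTheory CategoryTheory.Limits AlgebraicGeometry
open Curves

namespace Groth.Agent.S0233

/-- Every invertible module on an open subscheme of the spectrum of a unique factorisation domain is
trivial. -/
theorem result (R : Type u) [CommRing R] [IsDomain R] [UniqueFactorizationMonoid R]
    (U : (Spec (CommRingCat.of R)).Opens) (L : (U : Scheme.{u}).Modules) (hL : PicF.IsInvertible L) :
    Nonempty (L ≅ Coh.structureModule (U : Scheme.{u})) := by
  haveI : UniqueFactorizationMonoid Γ(Spec (CommRingCat.of R), ⊤) :=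
    (Scheme.ΓSpecIso (CommRingCat.of R)).symm.commRingCatIsoToRingEquiv.toMulEquiv.uniqueFactorizationMonoid
      inferInstance
  exact PicUFDLib.nonempty_iso_of_ufd U L hL

end Groth.Agent.S0233
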