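import Groth.Statements.S0237
import Groth.Agent.UnramEq.Basic
import Mathlib.AlgebraicGeometry.Morphisms.FlatMono
import Mathlib.AlgebraicGeometry.Morphisms.UniversallyOpen

set_option autoImplicit false
universe u
open Pi1

namespace Groth.Agent.S0237

open AlgebraicGeometry CategoryTheory in
/-- If a morphism of schemes has dense image, pulling back finite etale covers along it is faithful. -/
theorem result {X Y : Scheme.{u}} (f : X ⟶ Y)
    (h : DenseRange f.base) : (FEt.restrict f).Faithful := by
  refine ⟨fun {U V} {a b} hab => ?_⟩
  have hleft := congrArg (fun m : (FEt.restrict f).obj U ⟶ (FEt.restrict f).obj V => m.left ≫ Limits.pullback.fst V.hom f) hab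
  have h1 : Limits.pullback.fst U.hom f ≫ a.left = Limits.pullback.fst U.hom f ≫ b.left := by
    change Limits.pullback.lift _ _ _ ≫ _ = Limits.pullback.lift _ _ _ ≫ _ at hleft
    exact (Limits.pullback.lift_fst _ _ _).symm.trans (hleft.trans (Limits.pullback.lift_fst _ _ _))
  have hV : FEt.prop V.hom := V.prop
  have hU : FEt.prop U.hom := U.prop
  haveI : IsFinite V.hom := hV.1
  haveI : Etale V.hom := hV.2
  haveI : Etale U.hom := hU.2
  refine MorphismProperty.Over.Hom.ext ?_
  refine UnramEqLib.eq_of_dense V.hom a.left b.left
    ((MorphismProperty.Over.w a).trans (MorphismProperty.Over.w b).symm) (Limits.pullback.fst U.hom f) ?_ h1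
  show Dense (Set.range _)
  rw [Scheme.Pullback.range_fst]
  exact h.preimage U.hom.isOpenMap

end Groth.Agent.S0237
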