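import Groth.Statements.S0243
import Groth.Agent.UnramEq.Basic
import Mathlib.AlgebraicGeometry.Morphisms.FlatMono
import Mathlib.AlgebraicGeometry.Morphisms.UniversallyOpen

set_option autoImplicit false
universe u
open Pi1

namespace Groth.Agent.S0243

open AlgebraicGeometry CategoryTheory CategoryTheory.Limits in
/-- If a closed subscheme meets every connected component of the ambient scheme, restricting finite
etale covers to it is a faithful functor. -/
theorem result {X Y : Scheme.{u}} (i : Y ⟶ X) [IsClosedImmersion i]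
    (h : ∀ x : X, (connectedComponent x ∩ Set.range i.base).Nonempty) :
    (FEt.restrict i).Faithful := by
  refine ⟨fun {U V} {a b} hab => ?_⟩
  have hleft := congrArg (fun m : (FEt.restrict i).obj U ⟶ (FEt.restrict i).obj V => m.left ≫ Limits.pullback.fst V.hom i) hab
  have h1 : Limits.pullback.fst U.hom i ≫ a.left = Limits.pullback.fst U.hom i ≫ b.left := by
    change Limits.pullback.lift _ _ _ ≫ _ = Limits.pullback.lift _ _ _ ≫ _ at hleft
    exact (Limits.pullback.lift_fst _ _ _).symm.trans (hleft.trans (Limits.pullback.lift_fst _ _ _))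
  have hV : FEt.prop V.hom := V.prop
  have hU : FEt.prop U.hom := U.prop
  haveI : IsFinite V.hom := hV.1
  haveI : Etale V.hom := hV.2
  haveI : IsFinite U.hom := hU.1
  haveI : Etale U.hom := hU.2
  refine MorphismProperty.Over.Hom.ext ?_
  have hq := (MorphismProperty.Over.w a).trans (MorphismProperty.Over.w b).symm
  refine UnramEqLib.eq_of_range_eq_univ V.hom a.left b.left hq ?_
  set E := Set.range (UnramEqLib.eqι V.hom a.left b.left hq).base
  have hE : IsClopen E := ⟨(UnramEqLib.eqι V.hom a.left b.left hq).isClosedEmbedding.isClosed_range,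
    (UnramEqLib.eqι V.hom a.left b.left hq).isOpenEmbedding.isOpen_range⟩
  have himg : IsClopen (U.hom.base '' Eᶜ) :=
    ⟨U.hom.isClosedMap _ hE.compl.isClosed, U.hom.isOpenMap _ hE.compl.isOpen⟩
  refine Set.eq_univ_of_forall fun x => by_contra fun hx => ?_
  obtain ⟨y, hy, hyi⟩ := h (U.hom.base x)
  obtain ⟨z, hz, hzy⟩ := himg.connectedComponent_subset ⟨x, hx, rfl⟩ hy
  refine hz (UnramEqLib.range_subset_eqι V.hom a.left b.left hq (Limits.pullback.fst U.hom i) h1 ?_)
  rw [Scheme.Pullback.range_fst]
  show U.hom.base z ∈ Set.range i.base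
  exact hzy ▸ hyi

end Groth.Agent.S0243
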