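import Groth.Statements.S0248
import Mathlib
import Groth.Agent.PurityLib.Normal
-- import your own Groth.Agent.* helpers here

set_option autoImplicit false
universe u
open Pi1

namespace Groth.Agent.S0248

open AlgebraicGeometry CategoryTheory CategoryTheory.Limits in
/-- Let A be a regular local ring of dimension at least 2 and B a finite A-algebra which is an
integrally closed domain, with A → B injective. If B is étale over A at every prime of B not lying
over the maximal ideal of A, then B is étale over A. This is the case of the published statement in
which B is a domain and A → B is injective. -/
theorem result (A B : Type u) [CommRing A] [IsRegularLocalRing A]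
    (hA : (2 : WithBot ℕ∞) ≤ ringKrullDim A) [CommRing B] [IsDomain B] [IsIntegrallyClosed B]
    [Algebra A B] [Module.Finite A B] (hinj : Function.Injective (algebraMap A B))
    (h : ∀ (q : Ideal B) (_ : q.IsPrime), q.comap (algebraMap A B) ≠ IsLocalRing.maximalIdeal A →
      Algebra.IsEtaleAt A q) : Algebra.Etale A B := by
  refine PurityLib.etale_of_normal_finite_base A B hinj (le_trans (by norm_num) hA) fun Q _ _ hQ => ?_
  haveI : Algebra.FormallyEtale A (Localization.AtPrime Q) := h Q inferInstance
    (PurityLib.ne_maximal_of_height_le_one hA (Q.under A) hQ)
  show Algebra.FormallyUnramified A (Localization.AtPrime Q)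
  infer_instance

end Groth.Agent.S0248
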