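import Groth.Statements.S0249
import Mathlib.RingTheory.Ideal.KrullsHeightTheorem

set_option autoImplicit false
universe u
open Pi1

namespace Groth.Agent.S0249

open AlgebraicGeometry CategoryTheory CategoryTheory.Limits in
/-- Let A be a Noetherian local ring of dimension at least 1 and f an element of its maximal ideal. Then
some prime ideal of height exactly 1 contains f. -/
theorem result (A : Type u) [CommRing A] [IsNoetherianRing A] [IsLocalRing A]
    (h : (1 : WithBot ℕ∞) ≤ ringKrullDim A) (f : A) (hf : f ∈ IsLocalRing.maximalIdeal A) :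
    ∃ p : Ideal A, p.IsPrime ∧ f ∈ p ∧ p.height = 1 := by
  classical
  let T : Set (Ideal A) := {p | p.IsPrime ∧ f ∈ p ∧ 1 ≤ p.height}
  have hT : T.Nonempty := by
    refine ⟨IsLocalRing.maximalIdeal A, inferInstance, hf, ?_⟩
    rw [← IsLocalRing.maximalIdeal_height_eq_ringKrullDim] at h
    exact WithBot.coe_le_coe.1 h
  obtain ⟨q, hq, hmin⟩ : ∃ q ∈ T, ∀ p ∈ T, ¬ p < q := by
    obtain ⟨q, hq, hmin⟩ := (InvImage.wf (fun p : Ideal A => p.height) wellFounded_lt).has_min T hT
    exact ⟨q, hq, fun p hp hlt => hmin p hp (by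
      have := hp.1
      have := hq.1
      exact Ideal.height_strict_mono_of_isPrime hlt)⟩
  obtain ⟨hqp, hfq, hq1⟩ := hq
  refine ⟨q, hqp, hfq, le_antisymm ?_ hq1⟩
  rw [show (1 : ℕ∞) = ((1 : ℕ) : ℕ∞) from rfl, Ideal.height_le_iff]
  intro p hp hpq
  by_contra hcon
  have hp0 : p.height ≠ 0 := fun h0 => hcon (by rw [h0]; exact zero_lt_one)
  have hfp : f ∉ p := fun hfp => hmin p ⟨hp, hfp, ENat.one_le_iff_ne_zero.2 hp0⟩ hpq
  obtain ⟨P, hP, hPp⟩ := Ideal.exists_minimalPrimes_le (I := (⊥ : Ideal A)) (J := p) bot_le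
  have hPprime : P.IsPrime := hP.isPrime
  have hPne : P ≠ p := fun e => hp0 (Ideal.height_eq_zero_iff.2 (e ▸ hP))
  have hfP : f ∉ P := fun hfP => hfp (hPp hfP)
  obtain ⟨q', hq', hq'q⟩ := Ideal.exists_minimalPrimes_le (I := P ⊔ Ideal.span {f}) (J := q)
    (sup_le (hPp.trans hpq.le) ((Ideal.span_singleton_le_iff_mem _).2 hfq))
  have hq'p : q'.IsPrime := hq'.isPrime
  have hPq' : P < q' := lt_of_le_of_ne (le_sup_left.trans hq'.le) fun e => hfP (e ▸
    hq'.le (Ideal.mem_sup_right (Ideal.mem_span_singleton_self f)))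
  have heq : q' = q := by
    by_contra hne
    refine hmin q' ⟨hq'p, hq'.le (Ideal.mem_sup_right (Ideal.mem_span_singleton_self f)), ?_⟩
      (lt_of_le_of_ne hq'q hne)
    rw [ENat.one_le_iff_ne_zero]
    exact fun h0 => absurd ((Ideal.height_strict_mono_of_isPrime hPq').trans_eq h0) not_lt_zero
  subst heq
  have h1 := Ideal.map_height_le_one_of_mem_minimalPrimes hq'
  let π := Ideal.Quotient.mk P
  have hsurj : Function.Surjective π := Ideal.Quotient.mk_surjective
  have hcm : ∀ J : Ideal A, P ≤ J → (J.map π).comap π = J := fun J hJ => by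
    rw [Ideal.comap_map_of_surjective π hsurj, ← RingHom.ker_eq_comap_bot, Ideal.mk_ker, sup_eq_left.2 hJ]
  have hpπ : (p.map π).IsPrime := Ideal.map_isPrime_of_surjective hsurj (by rw [Ideal.mk_ker]; exact hPp)
  have hqπ : (q'.map π).IsPrime :=
    Ideal.map_isPrime_of_surjective hsurj (by rw [Ideal.mk_ker]; exact hPq'.le)
  have hlt : p.map π < q'.map π := lt_of_le_of_ne (Ideal.map_mono hpq.le) fun e => hpq.ne (by
    rw [← hcm p hPp, ← hcm q' hPq'.le, e])
  have h0 : (p.map π).height ≠ 0 := by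
    intro h0
    rw [Ideal.height_eq_zero_iff_eq_bot] at h0
    refine hPne ?_
    rw [← hcm p hPp, h0, ← RingHom.ker_eq_comap_bot, Ideal.mk_ker]
  have h2 := (Ideal.height_strict_mono_of_isPrime hlt).trans_le h1
  exact h0 (ENat.lt_one_iff_eq_zero.1 h2)

end Groth.Agent.S0249
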