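import Groth.Statements.S0253
import Groth.Agent.SepClNormalLib.Basic

set_option autoImplicit false
universe u
open Pi1

namespace Groth.Agent.S0253

open AlgebraicGeometry CategoryTheory CategoryTheory.Limits in
/-- Let A be an integrally closed domain whose fraction field is separably closed. Then the residue
field at any nonzero prime ideal of A is algebraically closed. -/
theorem result (A : Type u) [CommRing A] [IsDomain A] [IsIntegrallyClosed A] [IsSepClosed (FractionRing A)]
    (p : Ideal A) [p.IsPrime] (hp : p ≠ ⊥) : IsAlgClosed p.ResidueField := by
  let R := Localization.AtPrime p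
  haveI : IsIntegrallyClosed R :=
    isIntegrallyClosed_of_isLocalization R p.primeCompl p.primeCompl_le_nonZeroDivisors
  haveI : IsFractionRing R (FractionRing A) :=
    IsFractionRing.isFractionRing_of_isDomain_of_isLocalization p.primeCompl R (FractionRing A)
  refine SepClNormalLib.isAlgClosed_residueField (R := R) (FractionRing A) fun h => hp ?_
  rw [← Localization.AtPrime.under_maximalIdeal (I := p), h, Ideal.under_def, ← RingHom.ker_eq_comap_bot,
    RingHom.injective_iff_ker_eq_bot (algebraMap A R) |>.1 (IsLocalization.injective R p.primeCompl_le_nonZeroDivisors)]

end Groth.Agent.S0253
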