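import Groth.Statements.S0256
import Groth.Agent.PurityRamLib.Main
import Groth.Agent.S9566

set_option autoImplicit false
universe u
open Pi1

namespace Groth.Agent.S0256

open scoped Classical in
/-- A prime of height at most one below a prime of positive height lies in a prime of height one. -/
theorem exists_height_one {S : Type u} [CommRing S] [IsNoetherianRing S] {Q q : Ideal S} [Q.IsPrime] [q.IsPrime]
    [IsDomain (Localization.AtPrime q)] (hQ : Q ≤ q) (hQ1 : Q.height ≤ 1) (hq : 1 ≤ q.height) :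
    ∃ Q₁ : Ideal S, Q₁.IsPrime ∧ Q ≤ Q₁ ∧ Q₁ ≤ q ∧ Q₁.height = 1 := by
  rcases hQ1.eq_or_lt with h | h
  · exact ⟨Q, inferInstance, le_rfl, hQ, h⟩
  rw [ENat.lt_one_iff_eq_zero] at h
  have hK : ∀ J : Ideal S, J.IsPrime → J ≤ q → RingHom.ker (algebraMap S (Localization.AtPrime q)) ≤ J := by
    intro J hJ hJq s hs
    obtain ⟨w, hw⟩ := (IsLocalization.map_eq_zero_iff q.primeCompl _ s).1 hs
    exact (hJ.mem_or_mem (show (w : S) * s ∈ J by rw [hw]; exact zero_mem _)).resolve_left fun h => w.2 (hJq h)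
  haveI := RingHom.ker_isPrime (algebraMap S (Localization.AtPrime q))
  have hKQ : RingHom.ker (algebraMap S (Localization.AtPrime q)) = Q :=
    le_antisymm (hK Q inferInstance hQ) ((Ideal.height_eq_zero_iff.1 h).2 ⟨inferInstance, bot_le⟩ (hK Q inferInstance hQ))
  have hne : Q < q := lt_of_le_of_ne hQ fun he => by subst he; rw [h] at hq; exact absurd hq (by norm_num)
  obtain ⟨Q₁, ⟨hp, hlt, hle⟩, hmin⟩ := (IsWellFounded.wf (r := (· < · : ℕ∞ → ℕ∞ → Prop))).onFun
    (f := fun J : Ideal S => J.height) |>.has_min {J | J.IsPrime ∧ Q < J ∧ J ≤ q} ⟨q, inferInstance, hne, le_rfl⟩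
  haveI := hp
  refine ⟨Q₁, hp, hlt.le, hle, le_antisymm ?_ ?_⟩
  · refine (Ideal.height_le_iff (n := 1)).2 fun J hJ hJlt => ?_
    haveI := hJ
    have hQJ : Q ≤ J := hKQ ▸ hK J hJ (hJlt.le.trans hle)
    rcases hQJ.eq_or_lt with rfl | hlt'
    · rw [h]; norm_num
    · exact absurd (Ideal.height_strict_mono_of_isPrime hJlt) (hmin J ⟨hJ, hlt', hJlt.le.trans hle⟩)
  · have := Ideal.height_add_one_le_of_lt_of_isPrime hlt
    rwa [h, zero_add] at this

open AlgebraicGeometry CategoryTheory CategoryTheory.Limits in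
/-- Let f be locally of finite type between locally Noetherian schemes, x a point whose local ring is a
normal domain of dimension at least 1 and whose image has a regular local ring. If f is etale at
every point of dimension one specializing to x, then f is etale on an open neighbourhood of x. -/
theorem result {X Y : Scheme.{u}} (f : X ⟶ Y) [LocallyOfFiniteType f] [IsLocallyNoetherian X]
    [IsLocallyNoetherian Y] (x : X)
    (hx : IsDomain (X.presheaf.stalk x) ∧ IsIntegrallyClosed (X.presheaf.stalk x))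
    (hdim1 : (1 : WithBot ℕ∞) ≤ ringKrullDim (X.presheaf.stalk x))
    (hy : IsRegularLocalRing (Y.presheaf.stalk (f.base x)))
    (het : ∀ x' : X, x' ⤳ x → ringKrullDim (X.presheaf.stalk x') = 1 →
      ∃ U : X.Opens, x' ∈ U ∧ Etale (U.ι ≫ f)) :
    ∃ U : X.Opens, x ∈ U ∧ Etale (U.ι ≫ f) := by
  obtain ⟨W, hW, hxW, -⟩ := exists_isAffineOpen_mem_and_subset (X := Y) (U := ⊤) (x := f x) trivial
  obtain ⟨V, hV, hxV, hVU⟩ := exists_isAffineOpen_mem_and_subset (X := X) (U := f ⁻¹ᵁ W) (x := x) hxW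
  letI := (f.appLE W V hVU).hom.toAlgebra
  haveI : IsNoetherianRing Γ(Y, W) := IsLocallyNoetherian.component_noetherian ⟨W, hW⟩
  haveI : Algebra.FiniteType Γ(Y, W) Γ(X, V) := f.finiteType_appLE hW hV hVU
  let p := (hW.primeIdealOf ⟨f x, hVU hxV⟩).asIdeal
  let q := (hV.primeIdealOf ⟨x, hxV⟩).asIdeal
  haveI : q.LiesOver p := ⟨congr($(IsAffineOpen.comap_primeIdealOf_appLE W hW V hV hVU hxV).1).symm⟩
  letI := TopCat.Presheaf.algebra_section_stalk X.presheaf (U := V) ⟨x, hxV⟩
  letI := TopCat.Presheaf.algebra_section_stalk Y.presheaf (U := W) ⟨f x, hVU hxV⟩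
  haveI : IsLocalization.AtPrime (X.presheaf.stalk x) q := hV.isLocalization_stalk ⟨x, hxV⟩
  haveI : IsLocalization.AtPrime (Y.presheaf.stalk (f x)) p := hW.isLocalization_stalk ⟨f x, hVU hxV⟩
  let eX : Localization.AtPrime q ≃+* X.presheaf.stalk x :=
    (IsLocalization.algEquiv q.primeCompl (Localization.AtPrime q) (X.presheaf.stalk x)).toRingEquiv
  let eY : Localization.AtPrime p ≃+* Y.presheaf.stalk (f x) :=
    (IsLocalization.algEquiv p.primeCompl (Localization.AtPrime p) (Y.presheaf.stalk (f x))).toRingEquiv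
  haveI : IsRegularLocalRing (Y.presheaf.stalk (f x)) := hy
  haveI : IsRegularLocalRing (Localization.AtPrime p) := IsRegularLocalRing.of_ringEquiv eY.symm
  haveI := hx.1
  haveI := hx.2
  haveI : IsDomain (Localization.AtPrime q) := eX.injective.isDomain eX.toRingHom
  haveI : IsIntegrallyClosed (Localization.AtPrime q) := IsIntegrallyClosed.of_equiv eX.symm
  haveI : IsNoetherianRing Γ(X, V) := IsLocallyNoetherian.component_noetherian ⟨V, hV⟩
  have hdq : (1 : ℕ∞) ≤ q.height := by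
    rw [IsLocalization.AtPrime.ringKrullDim_eq_height q (X.presheaf.stalk x)] at hdim1
    exact WithBot.coe_le_coe.1 hdim1
  have hbase : ∀ (Q : Ideal Γ(X, V)) [Q.IsPrime], Q ≤ q → Q.height ≤ 1 →
      Module.Flat Γ(Y, W) (Localization.AtPrime Q) ∧ Algebra.IsUnramifiedAt Γ(Y, W) Q := by
    intro Q _ hQ hQ1
    obtain ⟨Q₁, hQ₁p, hQQ₁, hQ₁q, hQ₁h⟩ := exists_height_one (Q := Q) (q := q) hQ hQ1 hdq
    haveI := hQ₁p
    let z : PrimeSpectrum Γ(X, V) := ⟨Q, inferInstance⟩
    let z₁ : PrimeSpectrum Γ(X, V) := ⟨Q₁, hQ₁p⟩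
    let x' := hV.fromSpec z
    let x₁ := hV.fromSpec z₁
    have hmem : ∀ w, hV.fromSpec w ∈ V := fun w => by
      show hV.fromSpec w ∈ (V : Set X)
      rw [← hV.range_fromSpec]
      exact ⟨w, rfl⟩
    have hspec₁ : x₁ ⤳ x := by
      have hs := ((PrimeSpectrum.le_iff_specializes z₁ (hV.primeIdealOf ⟨x, hxV⟩)).1 hQ₁q).map hV.fromSpec.continuous
      rwa [hV.fromSpec_primeIdealOf] at hs
    have hspec' : x' ⤳ x₁ :=
      ((PrimeSpectrum.le_iff_specializes z z₁).1 hQQ₁).map hV.fromSpec.continuous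
    have hd₁ : ringKrullDim (X.presheaf.stalk x₁) = 1 := by
      letI := TopCat.Presheaf.algebra_section_stalk X.presheaf (U := V) ⟨x₁, hmem z₁⟩
      haveI : IsLocalization.AtPrime (X.presheaf.stalk x₁) (hV.primeIdealOf ⟨x₁, hmem z₁⟩).asIdeal :=
        hV.isLocalization_stalk ⟨x₁, hmem z₁⟩
      have hz₁ : hV.primeIdealOf ⟨x₁, hmem z₁⟩ = z₁ :=
        hV.fromSpec.isOpenEmbedding.injective (hV.fromSpec_primeIdealOf ⟨x₁, hmem z₁⟩)
      rw [IsLocalization.AtPrime.ringKrullDim_eq_height (hV.primeIdealOf ⟨x₁, hmem z₁⟩).asIdeal (X.presheaf.stalk x₁),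
        congrArg PrimeSpectrum.asIdeal hz₁]
      show ((Q₁.height : ℕ∞) : WithBot ℕ∞) = 1
      rw [hQ₁h]
      rfl
    obtain ⟨U, hU, hUet⟩ := het x₁ hspec₁ hd₁
    obtain ⟨hfl, hun⟩ := (Groth.Agent.S9566.result f x').1 ⟨U, hspec'.mem_open U.isOpen hU, hUet⟩
    replace hun := (Groth.Agent.S9566.formallyUnramified_stalk_iff f x').2 hun
    have hx' : x' ∈ V := hmem z
    let q' := (hV.primeIdealOf ⟨x', hx'⟩).asIdeal
    let p' := (hW.primeIdealOf ⟨f x', hVU hx'⟩).asIdeal
    haveI : q'.LiesOver p' := ⟨congr($(IsAffineOpen.comap_primeIdealOf_appLE W hW V hV hVU hx').1).symm⟩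
    letI := Localization.AtPrime.algebraOfLiesOver p' q'
    have hq' : q' = Q := congrArg PrimeSpectrum.asIdeal
      (hV.fromSpec.isOpenEmbedding.injective (hV.fromSpec_primeIdealOf ⟨x', hx'⟩) : hV.primeIdealOf ⟨x', hx'⟩ = z)
    have h1 : Algebra.FormallyUnramified (Localization.AtPrime p') (Localization.AtPrime q') :=
      RingHom.formallyUnramified_algebraMap.mp ((RingHom.FormallyUnramified.respectsIso.arrow_mk_iso_iff
        (IsAffineOpen.arrowStalkMapIso f W hW V hV hVU hx')).mp hun)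
    have h1' : Module.Flat (Localization.AtPrime p') (Localization.AtPrime q') :=
      RingHom.flat_algebraMap_iff.1 ((RingHom.Flat.respectsIso.arrow_mk_iso_iff
        (IsAffineOpen.arrowStalkMapIso f W hW V hV hVU hx')).mp hfl)
    have h2 : Algebra.IsUnramifiedAt Γ(Y, W) q' :=
      Algebra.FormallyUnramified.comp _ (Localization.AtPrime p') _
    have h2' : Module.Flat Γ(Y, W) (Localization.AtPrime q') :=
      (Module.flat_iff_of_isLocalization (Localization.AtPrime p') p'.primeCompl _).1 h1'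
    have key : ∀ (J : Ideal Γ(X, V)) [J.IsPrime], J = Q →
        Module.Flat Γ(Y, W) (Localization.AtPrime J) → Algebra.IsUnramifiedAt Γ(Y, W) J →
        Module.Flat Γ(Y, W) (Localization.AtPrime Q) ∧ Algebra.IsUnramifiedAt Γ(Y, W) Q := by
      rintro J _ rfl h h'; exact ⟨h, h'⟩
    exact key q' hq' h2' h2
  haveI : IsRegularLocalRing (Localization.AtPrime (q.under Γ(Y, W))) := by
    have key : ∀ (J : Ideal Γ(Y, W)) [J.IsPrime], J = p → IsRegularLocalRing (Localization.AtPrime J) := by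
      rintro J _ rfl; infer_instance
    exact key _ (q.over_def p).symm
  obtain ⟨hflat, hur⟩ := PurityRamLib.flat_unramified_of_punctured q hbase
  letI := Localization.AtPrime.algebraOfLiesOver p q
  have g1 : (f.stalkMap x).hom.Flat :=
    (RingHom.Flat.respectsIso.arrow_mk_iso_iff (IsAffineOpen.arrowStalkMapIso f W hW V hV hVU hxV)).mpr
      (RingHom.flat_algebraMap_iff.2 ((Module.flat_iff_of_isLocalization (Localization.AtPrime p) p.primeCompl _).2 hflat))
  have g2 : (f.stalkMap x).hom.FormallyUnramified :=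
    (RingHom.FormallyUnramified.respectsIso.arrow_mk_iso_iff (IsAffineOpen.arrowStalkMapIso f W hW V hV hVU hxV)).mpr
      (RingHom.formallyUnramified_algebraMap.2 (by
        haveI : Algebra.FormallyUnramified Γ(Y, W) (Localization.AtPrime q) := hur
        exact Algebra.FormallyUnramified.of_restrictScalars Γ(Y, W) _ _))
  exact (Groth.Agent.S9566.result f x).2 ⟨g1, (Groth.Agent.S9566.formallyUnramified_stalk_iff f x).1 g2⟩

end Groth.Agent.S0256
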