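import Groth.Statements.S0257
import Mathlib
import Groth.Agent.PurityLib.FlatPurity
import Groth.Agent.S9566
-- import your own Groth.Agent.* helpers here

set_option autoImplicit false
universe u
open Pi1

namespace Groth.Agent.S0257

open AlgebraicGeometry CategoryTheory CategoryTheory.Limits in
/-- Let f be flat and locally of finite type between locally Noetherian schemes, x a point of X which is
not a generic point of an irreducible component (its local ring has dimension at least 1), with f
quasi-finite at x and unramified at all points of dimension one specializing to x. Then f is etale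
on an open neighbourhood of x. -/
theorem result {X Y : Scheme.{u}} (f : X ⟶ Y) [LocallyOfFiniteType f] [Flat f] [IsLocallyNoetherian X]
    [IsLocallyNoetherian Y] (x : X) (hq : f.QuasiFiniteAt x)
    (hdim1 : (1 : WithBot ℕ∞) ≤ ringKrullDim (X.presheaf.stalk x))
    (hunr : ∀ x' : X, x' ⤳ x → ringKrullDim (X.presheaf.stalk x') = 1 →
      (f.stalkMap x').hom.FormallyUnramified) :
    ∃ U : X.Opens, x ∈ U ∧ Etale (U.ι ≫ f) := by
  obtain ⟨W, hW, hxW, -⟩ := exists_isAffineOpen_mem_and_subset (X := Y) (U := ⊤) (x := f x) trivial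
  obtain ⟨V, hV, hxV, hVU⟩ := exists_isAffineOpen_mem_and_subset (X := X) (U := f ⁻¹ᵁ W) (x := x) hxW
  letI := (f.appLE W V hVU).hom.toAlgebra
  haveI : IsNoetherianRing Γ(Y, W) := IsLocallyNoetherian.component_noetherian ⟨W, hW⟩
  haveI : Algebra.FiniteType Γ(Y, W) Γ(X, V) := f.finiteType_appLE hW hV hVU
  let p := (hW.primeIdealOf ⟨f x, hVU hxV⟩).asIdeal
  let q := (hV.primeIdealOf ⟨x, hxV⟩).asIdeal
  haveI : q.LiesOver p := ⟨congr($(IsAffineOpen.comap_primeIdealOf_appLE W hW V hV hVU hxV).1).symm⟩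
  letI := TopCat.Presheaf.algebra_section_stalk X.presheaf (U := V) ⟨x, hxV⟩
  letI := TopCat.Presheaf.algebra_section_stalk Y.presheaf (U := W) ⟨f x, hVU hxV⟩
  haveI : IsLocalization.AtPrime (X.presheaf.stalk x) q := hV.isLocalization_stalk ⟨x, hxV⟩
  haveI : IsLocalization.AtPrime (Y.presheaf.stalk (f x)) p := hW.isLocalization_stalk ⟨f x, hVU hxV⟩
  let eX : Localization.AtPrime q ≃+* X.presheaf.stalk x :=
    (IsLocalization.algEquiv q.primeCompl (Localization.AtPrime q) (X.presheaf.stalk x)).toRingEquiv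
  let eY : Localization.AtPrime p ≃+* Y.presheaf.stalk (f x) :=
    (IsLocalization.algEquiv p.primeCompl (Localization.AtPrime p) (Y.presheaf.stalk (f x))).toRingEquiv
  haveI : Algebra.QuasiFiniteAt Γ(Y, W) q := hq.quasiFiniteAt hV hW hVU hxV
  haveI : Module.Flat Γ(Y, W) Γ(X, V) :=
    HasRingHomProperty.appLE (P := @Flat) f inferInstance ⟨W, hW⟩ ⟨V, hV⟩ hVU
  have hU : ∀ (Q : Ideal Γ(X, V)) [Q.IsPrime], Q ≤ q → Q.height = 1 → Algebra.IsUnramifiedAt Γ(Y, W) Q := by
    intro Q _ hQ hQ1
    let z : PrimeSpectrum Γ(X, V) := ⟨Q, inferInstance⟩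
    let x' := hV.fromSpec z
    have hx' : x' ∈ V := by
      show x' ∈ (V : Set X)
      rw [← hV.range_fromSpec]
      exact ⟨z, rfl⟩
    have hspec : x' ⤳ x := by
      have hs := ((PrimeSpectrum.le_iff_specializes z (hV.primeIdealOf ⟨x, hxV⟩)).1 hQ).map hV.fromSpec.continuous
      rwa [hV.fromSpec_primeIdealOf] at hs
    have hz : hV.primeIdealOf ⟨x', hx'⟩ = z :=
      hV.fromSpec.isOpenEmbedding.injective (hV.fromSpec_primeIdealOf ⟨x', hx'⟩)
    let q' := (hV.primeIdealOf ⟨x', hx'⟩).asIdeal
    let p' := (hW.primeIdealOf ⟨f x', hVU hx'⟩).asIdeal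
    haveI : q'.LiesOver p' := ⟨congr($(IsAffineOpen.comap_primeIdealOf_appLE W hW V hV hVU hx').1).symm⟩
    letI := Localization.AtPrime.algebraOfLiesOver p' q'
    have hq' : q' = Q := congrArg PrimeSpectrum.asIdeal hz
    have hd' : ringKrullDim (X.presheaf.stalk x') = 1 := by
      letI := TopCat.Presheaf.algebra_section_stalk X.presheaf (U := V) ⟨x', hx'⟩
      haveI : IsLocalization.AtPrime (X.presheaf.stalk x') q' := hV.isLocalization_stalk ⟨x', hx'⟩
      rw [IsLocalization.AtPrime.ringKrullDim_eq_height q' (X.presheaf.stalk x'), hq', hQ1]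
      rfl
    have h1 : Algebra.FormallyUnramified (Localization.AtPrime p') (Localization.AtPrime q') :=
      RingHom.formallyUnramified_algebraMap.mp ((RingHom.FormallyUnramified.respectsIso.arrow_mk_iso_iff
        (IsAffineOpen.arrowStalkMapIso f W hW V hV hVU hx')).mp (hunr x' hspec hd'))
    have h2 : Algebra.IsUnramifiedAt Γ(Y, W) q' :=
      Algebra.FormallyUnramified.comp _ (Localization.AtPrime p') _
    have key : ∀ (J : Ideal Γ(X, V)) [J.IsPrime], J = Q → Algebra.IsUnramifiedAt Γ(Y, W) J →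
        Algebra.IsUnramifiedAt Γ(Y, W) Q := by
      rintro J _ rfl h; exact h
    exact key q' hq' h2
  have hur := PurityLib.unramified_of_flat_height_one Γ(Y, W) Γ(X, V) p q
    (by rw [ringKrullDim_eq_of_ringEquiv eX]; exact hdim1) hU
  letI := Localization.AtPrime.algebraOfLiesOver p q
  have g2 : (f.stalkMap x).hom.FormallyUnramified :=
    (RingHom.FormallyUnramified.respectsIso.arrow_mk_iso_iff (IsAffineOpen.arrowStalkMapIso f W hW V hV hVU hxV)).mpr
      (RingHom.formallyUnramified_algebraMap.2 (by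
        haveI : Algebra.FormallyUnramified Γ(Y, W) (Localization.AtPrime q) := hur
        exact Algebra.FormallyUnramified.of_restrictScalars Γ(Y, W) _ _))
  exact (Groth.Agent.S9566.result f x).2 ⟨Flat.stalkMap f x, (Groth.Agent.S9566.formallyUnramified_stalk_iff f x).1 g2⟩

end Groth.Agent.S0257
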