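import Groth.Statements.S0263
import Groth.Agent.PunctFEtLib.Punctured

set_option autoImplicit false
universe u
open Pi1

namespace Groth.Agent.S0263

open AlgebraicGeometry CategoryTheory CategoryTheory.Limits in
/-- Let A be a Noetherian local ring of depth at least 2 and V a finite étale cover of the punctured
spectrum of A which is isomorphic to the restriction of some finite étale cover of Spec A. Then the
ring of global sections Γ(V, O_V) is finite and étale over A, via the ring map A → Γ(V, O_V) induced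
by the composite V → Spec A. (Only this implication of the published statement is asserted here; its
converse is not.) -/
theorem result (A : Type u) [CommRing A] [IsNoetherianRing A] [IsLocalRing A] (hA : (2 : ℕ∞) ≤ LocCoh.depth A A)
    (V : FEt.Cat (FEt.puncturedSpec A : Scheme.{u}))
    (hV : ∃ Y : FEt.Cat (Spec (CommRingCat.of A)),
      Nonempty ((FEt.restrict (FEt.puncturedSpec A).ι).obj Y ≅ V)) :
    ((Scheme.ΓSpecIso (CommRingCat.of A)).inv ≫ (V.hom ≫ (FEt.puncturedSpec A).ι).appTop).hom.Finite ∧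
    ((Scheme.ΓSpecIso (CommRingCat.of A)).inv ≫ (V.hom ≫ (FEt.puncturedSpec A).ι).appTop).hom.Etale := by
  obtain ⟨Y, ⟨φ⟩⟩ := hV
  let U := FEt.puncturedSpec A
  haveI : IsFinite Y.hom := Y.prop.1
  haveI : Etale Y.hom := Y.prop.2
  haveI : IsAffine Y.left := isAffine_of_isAffineHom (Y := Spec (CommRingCat.of A)) Y.hom
  have hw : φ.inv.left ≫ pullback.snd Y.hom U.ι = V.hom := MorphismProperty.Over.w φ.inv
  let j : V.left ⟶ Y.left := φ.inv.left ≫ pullback.fst Y.hom U.ι
  have hj : j ≫ Y.hom = V.hom ≫ U.ι := by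
    rw [← hw]
    exact (Category.assoc _ _ _).trans ((congrArg (φ.inv.left ≫ ·) pullback.condition).trans (Category.assoc _ _ _).symm)
  haveI : IsIso φ.inv.left := ⟨φ.hom.left, by rw [← MorphismProperty.Comma.comp_left, φ.inv_hom_id]; rfl,
    by rw [← MorphismProperty.Comma.comp_left, φ.hom_inv_id]; rfl⟩
  haveI hφ : IsIso φ.inv.left.appTop := inferInstanceAs (IsIso (Scheme.Γ.map φ.inv.left.op))
  haveI hfst : IsIso (pullback.fst Y.hom U.ι).appTop := by
    rw [← pullbackRestrictIsoRestrict_hom_ι Y.hom U, Scheme.Hom.comp_appTop]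
    haveI : IsIso (pullbackRestrictIsoRestrict Y.hom U).hom.appTop :=
      inferInstanceAs (IsIso (Scheme.Γ.map (pullbackRestrictIsoRestrict Y.hom U).hom.op))
    haveI : IsIso (Y.hom ⁻¹ᵁ U).ι.appTop := (ConcreteCategory.isIso_iff_bijective _).2
      (PunctFEtLib.map_bijective_of_eq (PunctFEtLib.invisible_punctured A hA Y) (T := ⊤)
        ((Y.hom ⁻¹ᵁ U).ι_image_top.trans (top_inf_eq _).symm) le_top)
    exact IsIso.comp_isIso
  let p : Y.left ⟶ Spec (CommRingCat.of A) := Y.hom
  haveI : IsFinite p := Y.prop.1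
  have hfin : Y.hom.appTop.hom.Finite := IsFinite.finite_app p ⊤ (isAffineOpen_top _)
  have het : Y.hom.appTop.hom.Etale := HasRingHomProperty.appTop @Etale p Y.prop.2
  have e : (Scheme.ΓSpecIso (CommRingCat.of A)).inv ≫ (V.hom ≫ U.ι).appTop =
      (Scheme.ΓSpecIso (CommRingCat.of A)).inv ≫ Y.hom.appTop ≫ (pullback.fst Y.hom U.ι).appTop ≫ φ.inv.left.appTop := by
    rw [← hj]
    rfl
  rw [e]
  haveI : IsIso ((pullback.fst Y.hom U.ι).appTop ≫ φ.inv.left.appTop) := @IsIso.comp_isIso _ _ _ _ _ _ _ hfst hφ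
  exact ⟨(RingHom.finite_respectsIso.cancel_left_isIso _ _).2 ((RingHom.finite_respectsIso.cancel_right_isIso _ _).2 hfin),
    (RingHom.Etale.respectsIso.cancel_left_isIso _ _).2 ((RingHom.Etale.respectsIso.cancel_right_isIso _ _).2 het)⟩

end Groth.Agent.S0263
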