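import Groth.Statements.S0267
import Groth.Agent.GalFunLib.Whisker
import Groth.Agent.GalFunLib.Unique

set_option autoImplicit false
universe u v
open Pi1

namespace Groth.Agent.S0267

open CategoryTheory CategoryTheory.Limits in
/-- For an exact functor H between Galois categories, H is fully faithful exactly when it carries
connected objects to connected objects (both are equivalent to surjectivity of the induced map on
fundamental groups). -/
theorem result {C : Type u} [Category.{v} C]
    [GaloisCategory C] {D : Type u} [Category.{v} D] [GaloisCategory D]
    (H : C ⥤ D) [PreservesFiniteLimits H] [PreservesFiniteColimits H] :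
    (H.Full ∧ H.Faithful) ↔
      ∀ X : C, PreGaloisCategory.IsConnected X → PreGaloisCategory.IsConnected (H.obj X) := by
  let F := PreGaloisCategory.GaloisCategory.getFiberFunctor C
  let G := PreGaloisCategory.GaloisCategory.getFiberFunctor D
  haveI : PreservesFiniteLimits G := inferInstance
  haveI : PreservesFiniteLimits (H ⋙ G) := comp_preservesFiniteLimits H G
  obtain ⟨e⟩ := GalFunLib.nonempty_iso F (H ⋙ G) (by
    intro A hA
    haveI := GalFunLib.isConnected_terminal F
    haveI := PreGaloisCategory.nonempty_fiber_of_isConnected F A
    haveI : Epi (terminal.from A) := PreGaloisCategory.epi_of_nonempty_of_isConnected F _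
    let t : (FintypeCat.of PUnit.{v + 1}) ⟶ (H ⋙ G).obj (⊤_ C) :=
      terminal.from _ ≫ (PreservesTerminal.iso (H ⋙ G)).inv
    haveI : Epi (FintypeCat.incl.map ((H ⋙ G).map (terminal.from A))) := inferInstance
    obtain ⟨a, -⟩ := surjective_of_epi (FintypeCat.incl.map ((H ⋙ G).map (terminal.from A))) (t PUnit.unit)
    exact ⟨a⟩)
  haveI : (H ⋙ G).ReflectsIsomorphisms := reflectsIsomorphisms_of_iso e.symm
  haveI : PreGaloisCategory.FiberFunctor (H ⋙ G) :=
    { preservesQuotientsByFiniteGroups := fun Γ _ _ => by
        obtain ⟨Γ', hg, hf, ⟨e'⟩⟩ := Finite.exists_type_univ_nonempty_mulEquiv.{v, 0} Γ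
        letI : FinCategory (SingleObj Γ') :=
          { fintypeObj := inferInstanceAs (Fintype Unit), fintypeHom := fun _ _ => hf }
        haveI : PreservesColimitsOfShape (SingleObj Γ') H := inferInstance
        haveI : PreservesColimitsOfShape (SingleObj Γ) H :=
          preservesColimitsOfShape_of_equiv e'.toSingleObjEquiv.symm H
        exact comp_preservesColimitsOfShape H G }
  constructor
  · intro h X hX
    haveI := h.1
    exact GalFunLib.preservesConnected_of_full H G X
  · intro h
    exact GalFunLib.full_faithful_of_surjective H G (GalFunLib.surjective_of_preservesConnected H G h)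

end Groth.Agent.S0267
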