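import Groth.Statements.S0268
import Groth.Agent.ClopenFFLib.Basic
import Groth.Agent.ClopenFFLib.Topo
import Groth.Agent.SweepSix.GeomConn

set_option autoImplicit false
universe u
open Pi1

namespace Groth.Agent.S0268

open AlgebraicGeometry CategoryTheory CategoryTheory.Limits in
/-- Functor form of the surjectivity of pi_1(X) -> pi_1(Spec k): Let X be quasi-compact and
quasi-separated over a field k with X_{kbar} connected. Then the functor pulling back finite etale
k-schemes to X is full and faithful. -/
theorem result (k : Type u) [Field k] {X : Scheme.{u}} (f : X ⟶ Spec (CommRingCat.of k)) [CompactSpace X]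
    [QuasiSeparatedSpace X]
    [ConnectedSpace ↥(pullback f (Spec.map (CommRingCat.ofHom (algebraMap k (AlgebraicClosure k)))))] :
    (FEt.restrict f).Full ∧ (FEt.restrict f).Faithful := by
  haveI : IsAlgClosed (AlgebraicClosure k) := inferInstance
  haveI : GeometricallyConnected (pullback.snd f (Spec.map (CommRingCat.ofHom (algebraMap k (AlgebraicClosure k))))) :=
    SweepSix.GeomConn.gc_of_isAlgClosed _
  haveI : GeometricallyConnected f := SweepSix.GeomConn.gc_of_bc f (AlgebraicClosure k)
  refine ClopenFFLib.full_faithful f fun Y C' => ?_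
  haveI : IsFinite Y.hom := Y.prop.1
  haveI : IsFinite (show Y.left ⟶ Spec (CommRingCat.of k) from Y.hom) := Y.prop.1
  haveI : Subsingleton ↥(Spec (CommRingCat.of k)) := inferInstanceAs (Subsingleton (PrimeSpectrum k))
  haveI : DiscreteTopology ↥((𝟭 Scheme).obj Y.left) := isDiscrete_univ_iff.1 (by
    have h1 := (show Y.left ⟶ Spec (CommRingCat.of k) from Y.hom).isDiscrete_preimage_singleton (⟨⊥, Ideal.isPrime_bot⟩ : PrimeSpectrum k)
    refine (Set.eq_univ_of_forall fun z => ?_ : _ = Set.univ) ▸ h1
    exact Set.mem_singleton_iff.2 (@Subsingleton.elim ↥(Spec (CommRingCat.of k)) _ _ _))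
  exact ClopenFFLib.existsUnique_clopen_of_quotientMap (pullback.fst Y.hom f).base
    ((show IsOpenMap (pullback.fst Y.hom f).base from fun U _ => isOpen_discrete _).isQuotientMap
      (pullback.fst Y.hom f).continuous (pullback.fst Y.hom f).surjective)
    (fun y => ((pullback.fst Y.hom f).isConnected_preimage_singleton y).isPreconnected) C'

end Groth.Agent.S0268
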