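import Groth.Statements.S0269
import Groth.Agent.PiSepLib.Main

set_option autoImplicit false
set_option backward.isDefEq.respectTransparency false
set_option backward.isDefEq.respectTransparency.types false
set_option maxRecDepth 8000
set_option maxHeartbeats 1000000
universe u
open Pi1

namespace Groth.Agent.S0269

open AlgebraicGeometry CategoryTheory CategoryTheory.Limits in
/-- Functor form of the injectivity of pi_1(X_{kbar}) -> pi_1(X): Let X be quasi-compact and
quasi-separated over a field k with X_{kbar} connected. Every finite etale cover of X_{kbar} admits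
an open and closed immersion, over X_{kbar}, into the base change of some finite etale cover of X. -/
theorem result (k : Type u) [Field k] {X : Scheme.{u}} (f : X ⟶ Spec (CommRingCat.of k)) [CompactSpace X]
    [QuasiSeparatedSpace X]
    [ConnectedSpace ↥(pullback f (Spec.map (CommRingCat.ofHom (algebraMap k (AlgebraicClosure k)))))]
    (V : FEt.Cat (pullback f (Spec.map (CommRingCat.ofHom (algebraMap k (AlgebraicClosure k)))))) :
    ∃ (U : FEt.Cat X) (ι : V ⟶ (FEt.restrict (pullback.fst f (Spec.map (CommRingCat.ofHom (algebraMap k (AlgebraicClosure k)))))).obj U),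
      IsOpenImmersion ι.left ∧ IsClosedImmersion ι.left := by
  let sb := Spec.map (CommRingCat.ofHom (algebraMap k (AlgebraicClosure k)))
  haveI : IsFinite V.hom := V.prop.1
  haveI : Etale V.hom := V.prop.2
  rcases isEmpty_or_nonempty V.left with he | hne
  · let U : FEt.Cat X := MorphismProperty.Over.mk ⊤ (𝟙 X) ⟨inferInstance, inferInstance⟩
    let φ : V.left ⟶ pullback (𝟙 X) (pullback.fst f sb) :=
      pullback.lift (V.hom ≫ pullback.fst f sb) V.hom (Category.comp_id _)
    haveI : IsIso (pullback.snd (𝟙 X) (pullback.fst f sb)) := inferInstance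
    have hφ : φ = V.hom ≫ inv (pullback.snd (𝟙 X) (pullback.fst f sb)) := by
      rw [IsIso.eq_comp_inv]; exact pullback.lift_snd _ _ _
    refine ⟨U, MorphismProperty.Over.homMk φ (pullback.lift_snd _ _ _), ?_, ?_⟩
    · show IsOpenImmersion φ
      infer_instance
    · show IsClosedImmersion φ
      refine IsClosedImmersion.of_isPreimmersion _ ?_
      haveI : IsFinite φ := hφ ▸ inferInstance
      exact φ.isClosedMap.isClosed_range
  have hsurj : Surjective V.hom := by
    refine ⟨fun x => ?_⟩
    haveI : Nonempty ↥((𝟭 Scheme).obj V.left) := hne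
    haveI : PreconnectedSpace ↥((Functor.fromPUnit (pullback f sb)).obj V.right) :=
      inferInstanceAs (PreconnectedSpace ↥(pullback f sb))
    have hcl : IsClopen (Set.range V.hom) :=
      ⟨V.hom.isClosedMap.isClosed_range, V.hom.isOpenMap.isOpen_range⟩
    exact (hcl.eq_univ (Set.range_nonempty _)).symm.subset (Set.mem_univ x)
  obtain ⟨L, _, YL, gL, _, _, π, hπ, j, hj⟩ := PiSep.exists_finite_separable k f V hsurj
  obtain ⟨_, _⟩ := PiSep.etale_finite_separable k L
  have hgF : IsFinite (gL ≫ pullback.fst f (PiSep.sp k L)) := inferInstance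
  have hgE : Etale (gL ≫ pullback.fst f (PiSep.sp k L)) := inferInstance
  let φ : V.left ⟶ pullback (gL ≫ pullback.fst f (PiSep.sp k L)) (pullback.fst f sb) :=
    pullback.lift j V.hom (by rw [reassoc_of% hj.w, hπ])
  have hφ : φ ≫ pullback.snd _ _ = V.hom := pullback.lift_snd _ _ _
  haveI : Mono φ := ⟨fun a b h => hj.hom_ext
    (by simpa [φ] using congrArg (· ≫ pullback.fst _ _) h)
    (by simpa [φ] using congrArg (· ≫ pullback.snd _ _) h)⟩
  haveI : Etale (φ ≫ pullback.snd (gL ≫ pullback.fst f (PiSep.sp k L)) (pullback.fst f sb)) := by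
    rw [hφ]; infer_instance
  haveI : Etale φ := Etale.of_comp φ (pullback.snd _ _)
  haveI : IsOpenImmersion φ := IsOpenImmersion.of_flat_of_mono φ
  haveI : IsFinite (φ ≫ pullback.snd (gL ≫ pullback.fst f (PiSep.sp k L)) (pullback.fst f sb)) := by
    rw [hφ]; infer_instance
  haveI : IsFinite φ := IsFinite.of_comp φ (pullback.snd _ _)
  exact ⟨MorphismProperty.Over.mk ⊤ (gL ≫ pullback.fst f (PiSep.sp k L)) ⟨hgF, hgE⟩,
    MorphismProperty.Over.homMk φ hφ, ‹IsOpenImmersion φ›,
    IsClosedImmersion.of_isPreimmersion φ φ.isClosedMap.isClosed_range⟩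

end Groth.Agent.S0269
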