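import Groth.Statements.S0270
import Groth.Agent.PiSepLib.Sections

set_option autoImplicit false
set_option backward.isDefEq.respectTransparency false
set_option backward.isDefEq.respectTransparency.types false
set_option maxRecDepth 8000
set_option maxHeartbeats 1000000
universe u
open Pi1

namespace Groth.Agent.S0270

open AlgebraicGeometry CategoryTheory CategoryTheory.Limits in
/-- (Exactness of the homotopy sequence of etale fundamental groups at pi_1(X), in functor form.) Let X
be quasi-compact and quasi-separated over a field k with X_{kbar} connected, kbar an algebraic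
closure of k. If a finite etale cover U of X becomes completely split (a disjoint union of copies of
X_{kbar}) after base change to kbar, then there are a finite etale k-scheme V and an X-morphism from
V x_k X to U which is surjective. -/
theorem result (k : Type u) [Field k] {X : Scheme.{u}} (f : X ⟶ Spec (CommRingCat.of k)) [CompactSpace X]
    [QuasiSeparatedSpace X]
    [ConnectedSpace ↥(pullback f (Spec.map (CommRingCat.ofHom (algebraMap k (AlgebraicClosure k)))))]
    (U : FEt.Cat X) (hU : Pi1.IsSplit ((FEt.restrict (pullback.fst f (Spec.map (CommRingCat.ofHom (algebraMap k (AlgebraicClosure k)))))).obj U)) :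
    ∃ (V : FEt.Cat (Spec (CommRingCat.of k))) (e : (FEt.restrict f).obj V ⟶ U), Surjective e.left := by
  obtain ⟨ι, _, e0, he0⟩ := hU
  let sb := Spec.map (CommRingCat.ofHom (algebraMap k (AlgebraicClosure k)))
  haveI : Surjective (pullback.fst f sb) := by
    haveI : Surjective sb := ⟨fun x => ⟨(⟨⊥, Ideal.isPrime_bot⟩ : PrimeSpectrum (AlgebraicClosure k)),
      @Subsingleton.elim (PrimeSpectrum k) _ _ _⟩⟩
    exact MorphismProperty.pullback_fst _ _ ‹Surjective sb›
  let ρ : ι → (pullback f sb ⟶ pullback U.hom (pullback.fst f sb)) :=
    fun m => Sigma.ι (fun _ : ι => pullback f sb) m ≫ e0.inv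
  have hρ : ∀ m, ρ m ≫ pullback.snd U.hom (pullback.fst f sb) = 𝟙 _ := fun m =>
    (Category.assoc _ _ _).trans (he0 m)
  refine PiSep.exists_dominating k f U (fun m => ρ m ≫ pullback.fst U.hom (pullback.fst f sb)) (fun m => ?_) fun u => ?_
  · rw [Category.assoc, pullback.condition, ← Category.assoc, hρ, Category.id_comp]
  · obtain ⟨x, hx⟩ := (pullback.fst U.hom (pullback.fst f sb)).surjective u
    obtain ⟨m, y, hy⟩ := (sigmaOpenCover fun _ : ι => pullback f sb).exists_eq (e0.hom x)
    refine ⟨m, y, ?_⟩
    rw [Scheme.Hom.comp_apply, Scheme.Hom.comp_apply, ← hx]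
    refine congrArg _ ?_
    have h := congrArg e0.inv hy
    refine h.trans ?_
    rw [← Scheme.Hom.comp_apply, e0.hom_inv_id]
    rfl

end Groth.Agent.S0270
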