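import Groth.Statements.S0271
import Groth.Agent.InertiaEtaleLib.Interp
import Groth.Agent.InertiaEtaleLib.Element

set_option autoImplicit false
universe u
open Pi1

namespace Groth.Agent.S0271

open AlgebraicGeometry CategoryTheory CategoryTheory.Limits in
/-- Let a finite group G act on a ring R, let q be a prime of R with inertia subgroup I (elements acting
trivially modulo q). Then the ring of I-invariants is etale over the ring of G-invariants at the
prime below q: some principal localization of the I-invariants at an element outside that prime is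
an etale algebra over the G-invariants. -/
theorem result (G R : Type u) [Group G] [Finite G] [CommRing R] [MulSemiringAction G R]
    (q : Ideal R) [q.IsPrime] :
    ∃ g : FixedPoints.subring R (q.inertia G),
      g ∉ q.comap (FixedPoints.subring R (q.inertia G)).subtype ∧
      Algebra.Etale (FixedPoints.subring R G) (Localization.Away g) := by
  obtain ⟨a, haI, -, -, hsep⟩ := InertiaEtaleLib.exists_element (G := G) q
  letI : IsScalarTower (FixedPoints.subring R G) (FixedPoints.subring R (q.inertia G)) R :=
    IsScalarTower.of_algebraMap_eq fun _ => rfl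
  obtain ⟨P, -, ⟨s, hs, hg⟩, hstd⟩ := InertiaEtaleLib.exists_isStandardEtale
    (A := FixedPoints.subring R G) (B := FixedPoints.subring R (q.inertia G)) (R := R) (q.inertia G)
    Subtype.val_injective Subtype.val_injective (fun y hy => ⟨⟨y, hy⟩, rfl⟩)
    (fun g x => x.2 g) (fun b h hh => b.2 ⟨h, hh⟩) ⟨a, fun h => haI h h.2⟩
  refine ⟨Polynomial.aeval (⟨a, fun h => haI h h.2⟩ : FixedPoints.subring R (q.inertia G))
    (Polynomial.derivative P), ?_, inferInstance⟩
  intro hmem
  rw [Ideal.mem_comap] at hmem
  change algebraMap (FixedPoints.subring R (q.inertia G)) R _ ∈ q at hmem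
  rw [hg] at hmem
  obtain ⟨c, hc, hcq⟩ := (Ideal.IsPrime.prod_mem_iff (p := q)).1 hmem
  refine hsep c.out (fun h => (hs c).1 hc ?_) ?_
  · rw [← QuotientGroup.out_eq' c, QuotientGroup.eq, mul_one, inv_mem_iff]
    exact h
  · rw [← neg_mem_iff, neg_sub]
    exact hcq

end Groth.Agent.S0271
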