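import Groth.Statements.S0279
import Groth.Agent.Pi1DescLib.UnivInj
import Groth.Agent.Pi1DescLib.FlatDesc
import Mathlib.RingTheory.Smooth.Fiber
import Mathlib.RingTheory.Kaehler.TensorProduct

set_option autoImplicit false
universe u
open scoped TensorProduct
open Pi1

namespace Groth.Agent.S0279

/-- Let R → S be a universally injective ring map and A an R-algebra such that S ⊗_R A is étale over S.
Then A is étale over R. -/
theorem result (R S : Type u) [CommRing R] [CommRing S] [Algebra R S]
    (h : Pi1.UnivInjective R S) (A : Type u) [CommRing A] [Algebra R A]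
    [Algebra.Etale S (S ⊗[R] A)] : Algebra.Etale R A := by
  haveI : Algebra.FinitePresentation R A := Pi1DescLib.algFinitePresentation_descends h A
  haveI : Module.Flat S (S ⊗[R] A) := inferInstance
  haveI : Module.Flat R A := Pi1DescLib.flat_descends h A
  letI : Algebra A (S ⊗[R] A) := Algebra.TensorProduct.rightAlgebra
  haveI : Algebra.IsPushout R S A (S ⊗[R] A) := inferInstance
  haveI : Subsingleton (S ⊗[R] Ω[A⁄R]) :=
    (KaehlerDifferential.tensorKaehlerEquivBase R S A (S ⊗[R] A)).toEquiv.subsingleton
  haveI : Algebra.FormallyUnramified R A :=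
    ⟨⟨fun x y => Pi1DescLib.one_tmul_injective h _ (Subsingleton.elim _ _)⟩⟩
  exact Algebra.Etale.of_formallyUnramified_of_flat

end Groth.Agent.S0279
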