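import Groth.Statements.S0280
import Groth.Agent.NoetherCharPLib.Basic

set_option autoImplicit false
universe u
open Pi1

namespace Groth.Agent.S0280

/-- Let k be a field of characteristic p > 0 and C a k-algebra which is etale over the polynomial ring
in n variables. Then there is a (possibly different) k-algebra map from that polynomial ring to C
which is finite etale. -/
theorem result (k : Type u) [Field k] (p : ℕ)
    [Fact p.Prime] [CharP k p] (n : ℕ) (C : Type u) [CommRing C]
    [Algebra (MvPolynomial (Fin n) k) C] [Algebra k C] [IsScalarTower k (MvPolynomial (Fin n) k) C]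
    [Algebra.Etale (MvPolynomial (Fin n) k) C] :
    ∃ φ : MvPolynomial (Fin n) k →ₐ[k] C, φ.toRingHom.Finite ∧ φ.toRingHom.Etale := by
  classical
  haveI : Algebra.FormallySmooth k C := Algebra.FormallySmooth.comp k (MvPolynomial (Fin n) k) C
  haveI : Algebra.FiniteType k C :=
    Algebra.FiniteType.trans (R := k) (S := MvPolynomial (Fin n) k) inferInstance inferInstance
  let x : Fin n → C := fun i => algebraMap (MvPolynomial (Fin n) k) C (MvPolynomial.X i)
  let b : Module.Basis (Fin n) C (KaehlerDifferential k C) :=
    ((KaehlerDifferential.mvPolynomialBasis k (Fin n)).baseChange C).map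
      (KaehlerDifferential.tensorKaehlerEquivOfFormallyEtale k (MvPolynomial (Fin n) k) C)
  have hb : ∀ i, b i = KaehlerDifferential.D k C (x i) := by
    intro i
    have hX : KaehlerDifferential.mvPolynomialBasis k (Fin n) i =
        KaehlerDifferential.D k (MvPolynomial (Fin n) k) (MvPolynomial.X i) := by
      rw [← Module.Basis.repr_symm_single_one,
        KaehlerDifferential.mvPolynomialBasis_repr_symm_single, one_smul]
    simp only [b, Module.Basis.map_apply, Module.Basis.baseChange_apply, hX,
      KaehlerDifferential.tensorKaehlerEquivOfFormallyEtale_apply,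
      KaehlerDifferential.mapBaseChange_tmul, one_smul, KaehlerDifferential.map_D, x]
  obtain ⟨s, hs⟩ := (Algebra.FiniteType.out : (⊤ : Subalgebra k C).FG)
  have hpC : (p : C) = 0 := by
    rw [← map_natCast (algebraMap k C), CharP.cast_eq_zero, map_zero]
  obtain ⟨x', hD, hint⟩ := NoetherCharPLib.exists_integral_shift p (Fact.out : p.Prime).pos hpC
    (fun z => NoetherCharPLib.exists_relation z) s x (fun c => by
      have hc : c ∈ Algebra.adjoin k (Set.range x ∪ (s : Set C)) :=
        Algebra.adjoin_mono Set.subset_union_right (hs ▸ Algebra.mem_top)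
      exact isIntegral_algebraMap (x := (⟨c, hc⟩ : Algebra.adjoin k (Set.range x ∪ (s : Set C)))))
  exact ⟨MvPolynomial.aeval x', NoetherCharPLib.finite_etale_of_basis x' b
    (fun i => (hb i).trans (hD i).symm) hint⟩

end Groth.Agent.S0280
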