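import Groth.Statements.S0282
import Groth.Agent.EtLiftCharPLib.Basic

set_option autoImplicit false
universe u
open scoped TensorProduct
open Pi1

namespace Groth.Agent.S0282

/-- Let R be a ring of prime characteristic p, A a quotient ring of R and B a finite étale A-algebra.
Then there are a finite étale R-algebra C and a surjective A-algebra homomorphism from A ⊗_R C onto
B. (This covering-level statement yields the injectivity of π₁(Spec A) → π₁(Spec R).) -/
theorem result (p : ℕ) [Fact p.Prime] (R A B : Type u)
    [CommRing R] [CommRing A] [CommRing B] [CharP R p] [Algebra R A]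
    (hRA : Function.Surjective (algebraMap R A)) [Algebra A B] [Module.Finite A B]
    [Algebra.Etale A B] :
    ∃ (C : Type u) (_ : CommRing C) (_ : Algebra R C), Module.Finite R C ∧ Algebra.Etale R C ∧
      ∃ ψ : A ⊗[R] C →ₐ[A] B, Function.Surjective ψ := by
  classical
  obtain ⟨m, g, hg⟩ := Module.Finite.exists_fin (R := A) (M := B)
  have hpR : (p : R) = 0 := CharP.cast_eq_zero R p
  letI : Algebra R B := ((algebraMap A B).comp (algebraMap R A)).toAlgebra
  haveI : IsScalarTower R A B := IsScalarTower.of_algebraMap_eq fun _ => rfl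
  have hpB : (p : B) = 0 := by rw [← map_natCast (algebraMap R B), hpR, map_zero]
  choose c hc using fun i =>
    EtLiftCharPLib.exists_sum_pow hpB g hg (g i ^ (p * p) - g i)
  choose z hz using fun i l => hRA (c i l)
  obtain ⟨hfin, het⟩ := EtLiftCharPLib.system_finite_etale hpR z
  let C₀ : Type u := MvPolynomial (Fin m) R ⧸ Ideal.span (Set.range fun i =>
    (MvPolynomial.X i ^ (p * p) - (MvPolynomial.X i + ∑ l, MvPolynomial.C (z i l) * MvPolynomial.X l ^ p) :
      MvPolynomial (Fin m) R))
  let φ : C₀ →ₐ[R] B := Ideal.Quotient.liftₐ _ (MvPolynomial.aeval g) (by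
    intro a ha
    refine RingHom.mem_ker.mp ((Ideal.span_le.mpr ?_) ha)
    rintro _ ⟨i, rfl⟩
    simp only [SetLike.mem_coe, RingHom.mem_ker, map_sub, map_add, map_sum, map_mul, map_pow,
      MvPolynomial.aeval_X, MvPolynomial.aeval_C]
    have h : ∀ l, algebraMap R B (z i l) = algebraMap A B (c i l) := fun l => by
      rw [IsScalarTower.algebraMap_apply R A B, hz]
    simp only [h, ← hc i]
    ring)
  refine ⟨C₀, inferInstance, inferInstance, hfin, het,
    Algebra.TensorProduct.lift (Algebra.ofId A B) φ fun _ _ => Commute.all _ _, fun b => ?_⟩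
  obtain ⟨a, rfl⟩ := (Submodule.mem_span_range_iff_exists_fun A).mp (hg ▸ Submodule.mem_top : b ∈ Submodule.span A (Set.range g))
  refine ⟨∑ i, a i ⊗ₜ[R] (Ideal.Quotient.mk _ (MvPolynomial.X i) : C₀), ?_⟩
  rw [map_sum]
  refine Finset.sum_congr rfl fun i _ => ?_
  rw [Algebra.TensorProduct.lift_tmul, Algebra.smul_def, Algebra.ofId_apply]
  congr 1
  exact MvPolynomial.aeval_X _ _

end Groth.Agent.S0282
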