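import Groth.Statements.S0286
import Groth.Agent.UHomeoLib.Lift
import Mathlib.FieldTheory.IsPerfectClosure

set_option autoImplicit false
universe u
open Pi1

namespace Groth.Agent.S0286

open AlgebraicGeometry CategoryTheory CategoryTheory.Limits in
theorem universalHomeo_perfectClosure (k : Type u) [Field k] (p : ℕ) [Fact p.Prime] [CharP k p] :
    IsIntegralHom (Spec.map (CommRingCat.ofHom (PerfectClosure.of k p))) ∧
      UniversallyInjective (Spec.map (CommRingCat.ofHom (PerfectClosure.of k p))) ∧
      Surjective (Spec.map (CommRingCat.ofHom (PerfectClosure.of k p))) := by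
  refine ⟨(IsIntegralHom.SpecMap_iff).mpr fun x => ?_, UHomeo.universallyInjective_of_rad _ fun K _ a b e => ?_, ?_⟩
  · obtain ⟨n, y, hy⟩ := IsPRadical.pow_mem (PerfectClosure.of k p) p x
    refine ⟨Polynomial.X ^ p ^ n - Polynomial.C y,
      Polynomial.monic_X_pow_sub_C y (pow_ne_zero _ (Fact.out : p.Prime).ne_zero), ?_⟩
    simp [hy]
  · haveI : CharP K p := charP_of_injective_ringHom (a.comp (PerfectClosure.of k p)).injective p
    refine RingHom.ext fun x => ?_
    obtain ⟨n, y, hy⟩ := IsPRadical.pow_mem (PerfectClosure.of k p) p x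
    apply iterateFrobenius_inj K p n
    rw [iterateFrobenius_def, iterateFrobenius_def, ← map_pow, ← map_pow, ← hy]
    exact RingHom.congr_fun e y
  · exact ⟨fun z => ⟨⟨⊥, Ideal.isPrime_bot⟩, @Subsingleton.elim (PrimeSpectrum k) inferInstance _ _⟩⟩


open AlgebraicGeometry CategoryTheory CategoryTheory.Limits in
/-- For a scheme X over a field k of characteristic p (p a prime), pulling back finite étale covers
along the projection X ×_{Spec k} Spec(k^perf) → X, where k^perf is the perfect closure of k, is an
equivalence of categories. -/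
theorem result (k : Type u) [Field k] (p : ℕ) [Fact p.Prime] [CharP k p] {X : Scheme.{u}}
    (f : X ⟶ Spec (CommRingCat.of k)) :
    (FEt.restrict (pullback.fst f
      (Spec.map (CommRingCat.ofHom (PerfectClosure.of k p))))).IsEquivalence := by
  obtain ⟨h1, h2, h3⟩ := universalHomeo_perfectClosure k p
  haveI := MorphismProperty.pullback_fst (P := @IsIntegralHom) f _ h1
  haveI := MorphismProperty.pullback_fst (P := @UniversallyInjective) f _ h2
  haveI := MorphismProperty.pullback_fst (P := @Surjective) f _ h3
  exact EtInvLib.restrict_isEquivalence _ fun X₀ x₀ _ x => UHomeo.exists_liftData _ x₀ x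

end Groth.Agent.S0286
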