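import Groth.Statements.S0287
import Groth.Agent.FEtExtLib.Regular

set_option autoImplicit false
set_option backward.isDefEq.respectTransparency false
set_option backward.isDefEq.respectTransparency.types false
set_option maxRecDepth 8000
set_option maxHeartbeats 1000000
universe u
open Pi1

namespace Groth.Agent.S0287

open AlgebraicGeometry CategoryTheory CategoryTheory.Limits in
/-- Let X be locally Noetherian, U a dense open, Y a finite etale cover of U such that the local rings
of X at points outside U are regular and, at each such point of dimension one, the restriction of Y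
to the punctured local scheme extends over the local scheme (Y is unramified over X in codimension
1). Then Y extends to a finite etale cover of X. -/
theorem result {X : Scheme.{u}} [IsLocallyNoetherian X] (U : X.Opens) (hU : Dense (U : Set X))
    (Y : FEt.Cat (U : Scheme.{u}))
    (hreg : ∀ x : X, x ∉ U → IsRegularLocalRing (X.presheaf.stalk x))
    (hunr : ∀ ξ : X, ξ ∉ U → ringKrullDim (X.presheaf.stalk ξ) = 1 →
      ∃ Yξ : FEt.Cat (Spec (X.presheaf.stalk ξ)),
        Nonempty ((FEt.restrict (pullback.snd U.ι (X.fromSpecStalk ξ))).obj Yξ ≅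
          (FEt.restrict (pullback.fst U.ι (X.fromSpecStalk ξ))).obj Y)) :
    ∃ Y' : FEt.Cat X, Nonempty ((FEt.restrict U.ι).obj Y' ≅ Y) := by
  refine FEtExt.exists_cover_extension ⟨hU, hreg⟩ Y fun ξ hξ hd => ?_
  obtain ⟨Yξ, ⟨e⟩⟩ := hunr ξ hξ hd
  refine ⟨Yξ, fun P a b hab => ?_⟩
  let c : P ⟶ pullback U.ι (X.fromSpecStalk ξ) := pullback.lift a b hab
  have hb : c ≫ pullback.snd U.ι (X.fromSpecStalk ξ) = b := pullback.lift_snd _ _ _
  have ha : c ≫ pullback.fst U.ι (X.fromSpecStalk ξ) = a := pullback.lift_fst _ _ _
  exact ⟨(FEtExt.restrictCompIso hb).symm.app Yξ ≪≫ (FEt.restrict c).mapIso e ≪≫ (FEtExt.restrictCompIso ha).app Y⟩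

end Groth.Agent.S0287
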