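import Groth.Statements.S0288
import Groth.Agent.UnrNormalLib.Basic
import Groth.Agent.LocFFLib.Basic
import Mathlib.AlgebraicGeometry.Normalization

set_option linter.style.haveILetI false
set_option maxHeartbeats 1000000

set_option autoImplicit false
universe u
open Pi1

namespace Groth.Agent.S0288

open AlgebraicGeometry CategoryTheory CategoryTheory.Limits in
/-- Let X be a normal integral scheme with function field K, L a finite field extension of K and Y -> X
the normalization of X in Spec L. If Y -> X is unramified (formally unramified and locally of finite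
type), then it is etale, and finite. -/
theorem result {X : Scheme.{u}} [IsIntegral X] (hX : Pi1.IsNormalScheme X) (L : Type u) [Field L]
    [Algebra X.functionField L] [FiniteDimensional X.functionField L]
    [QuasiCompact (Spec.map (CommRingCat.ofHom (algebraMap X.functionField L)) ≫ X.fromSpecStalk (genericPoint X))]
    [QuasiSeparated (Spec.map (CommRingCat.ofHom (algebraMap X.functionField L)) ≫ X.fromSpecStalk (genericPoint X))]
    [FormallyUnramified (Spec.map (CommRingCat.ofHom (algebraMap X.functionField L)) ≫ X.fromSpecStalk (genericPoint X)).fromNormalization]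
    [LocallyOfFiniteType (Spec.map (CommRingCat.ofHom (algebraMap X.functionField L)) ≫ X.fromSpecStalk (genericPoint X)).fromNormalization] :
    Etale (Spec.map (CommRingCat.ofHom (algebraMap X.functionField L)) ≫ X.fromSpecStalk (genericPoint X)).fromNormalization ∧
    IsFinite (Spec.map (CommRingCat.ofHom (algebraMap X.functionField L)) ≫ X.fromSpecStalk (genericPoint X)).fromNormalization := by
  let ν := Spec.map (CommRingCat.ofHom (algebraMap X.functionField L)) ≫ X.fromSpecStalk (genericPoint X)
  haveI : LocallyOfFiniteType ν.fromNormalization := ‹_›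
  haveI : FormallyUnramified ν.fromNormalization := ‹_›
  refine ⟨?_, (IsFinite.iff_isIntegralHom_and_locallyOfFiniteType _).2 ⟨inferInstance, inferInstance⟩⟩
  rw [IsZariskiLocalAtSource.iff_of_openCover (P := @Etale) ν.normalizationOpenCover]
  intro U
  change X.affineOpens at U
  change Etale (ν.normalizationOpenCover.f U ≫ ν.fromNormalization)
  rw [ν.ι_fromNormalization]
  haveI : FormallyUnramified (Spec.map (ν.normalizationDiagramMap.app (.op U.1)) ≫ U.2.fromSpec) := by
    rw [← ν.ι_fromNormalization]
    exact MorphismProperty.comp_mem _ _ _ inferInstance inferInstance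
  haveI : LocallyOfFiniteType (Spec.map (ν.normalizationDiagramMap.app (.op U.1)) ≫ U.2.fromSpec) := by
    rw [← ν.ι_fromNormalization]
    exact MorphismProperty.comp_mem _ _ _ inferInstance inferInstance
  haveI h1 : FormallyUnramified (Spec.map (ν.normalizationDiagramMap.app (.op U.1))) :=
    FormallyUnramified.of_comp _ U.2.fromSpec
  haveI h2 : LocallyOfFiniteType (Spec.map (ν.normalizationDiagramMap.app (.op U.1))) :=
    locallyOfFiniteType_of_comp _ U.2.fromSpec
  rw [HasRingHomProperty.Spec_iff (P := @FormallyUnramified)] at h1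
  rw [HasRingHomProperty.Spec_iff (P := @LocallyOfFiniteType)] at h2
  suffices h : Etale (Spec.map (ν.normalizationDiagramMap.app (.op U.1))) from
    MorphismProperty.comp_mem @Etale _ _ h inferInstance
  rw [HasRingHomProperty.Spec_iff (P := @Etale)]
  letI : Algebra Γ(X, U.1) Γ(Spec (CommRingCat.of L), ν ⁻¹ᵁ U.1) := (ν.app U.1).hom.toAlgebra
  let B := integralClosure Γ(X, U.1) Γ(Spec (CommRingCat.of L), ν ⁻¹ᵁ U.1)
  show RingHom.Etale (algebraMap Γ(X, U.1) B)
  rw [RingHom.etale_algebraMap]
  by_cases hne : Nonempty U.1
  · haveI := hne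
    haveI := LocFFLib.isIntegrallyClosed_sections hX U.1
    haveI : IsDomain Γ(X, U.1) := inferInstance
    have hgen : ν ⁻¹ᵁ U.1 = ⊤ := by
      refine top_le_iff.1 fun x _ => ?_
      show ν x ∈ U.1
      have hx : ν x = genericPoint X := by
        show X.fromSpecStalk (genericPoint X) (Spec.map (CommRingCat.ofHom (algebraMap X.functionField L)) x) = _
        rw [Subsingleton.elim (α := PrimeSpectrum X.functionField)
          (Spec.map (CommRingCat.ofHom (algebraMap X.functionField L)) x) (IsLocalRing.closedPoint _)]
        exact X.fromSpecStalk_closedPoint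
      rw [hx]
      exact ((genericPoint_spec X).mem_open_set_iff U.1.isOpen).2 (by
        obtain ⟨⟨y, hy⟩⟩ := hne; exact ⟨y, trivial, hy⟩)
    let eL : Γ(Spec (CommRingCat.of L), ν ⁻¹ᵁ U.1) ≅ CommRingCat.of L :=
      (Spec (CommRingCat.of L)).presheaf.mapIso (eqToIso hgen.symm).op ≪≫ Scheme.ΓSpecIso _
    have hf : IsField Γ(Spec (CommRingCat.of L), ν ⁻¹ᵁ U.1) :=
      MulEquiv.isField (Field.toIsField L) eL.commRingCatIsoToRingEquiv.toMulEquiv
    letI := hf.toField
    haveI : Algebra.FormallyUnramified Γ(X, U.1) B := RingHom.formallyUnramified_algebraMap.1 h1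
    haveI : Algebra.FiniteType Γ(X, U.1) B := RingHom.finiteType_algebraMap.1 h2
    refine UnrNormalLib.etale_of_unramified ?_
    -- injectivity: sections of an integral scheme embed in the function field
    have happ : Function.Injective (ν.app U.1).hom := by
      intro a b hab
      have hx0 : genericPoint X ∈ U.1 := ((genericPoint_spec X).mem_open_set_iff U.1.isOpen).2 (by
        obtain ⟨⟨y, hy⟩⟩ := hne; exact ⟨y, trivial, hy⟩)
      rw [← sub_eq_zero] at hab ⊢
      rw [← map_sub] at hab
      rw [← basicOpen_eq_bot_iff]
      refine bot_unique fun y hy => ?_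
      have hgp : genericPoint X ∈ X.basicOpen (a - b) :=
        ((genericPoint_spec X).mem_open_set_iff (X.basicOpen (a - b)).isOpen).2 ⟨y, trivial, hy⟩
      have hpre : ν ⁻¹ᵁ X.basicOpen (a - b) = ⊥ := by
        rw [Scheme.Hom.preimage_basicOpen]
        exact (congrArg _ hab).trans (Scheme.basicOpen_zero _ _)
      have hmem : (IsLocalRing.closedPoint (CommRingCat.of L)) ∈ ν ⁻¹ᵁ X.basicOpen (a - b) := by
        show ν _ ∈ X.basicOpen (a - b)
        show X.fromSpecStalk (genericPoint X) (Spec.map (CommRingCat.ofHom (algebraMap X.functionField L)) _) ∈ _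
        rw [Subsingleton.elim (α := PrimeSpectrum X.functionField)
          (Spec.map (CommRingCat.ofHom (algebraMap X.functionField L)) _) (IsLocalRing.closedPoint _)]
        exact (congrArg (· ∈ X.basicOpen (a - b)) X.fromSpecStalk_closedPoint).mpr hgp
      rw [hpre] at hmem
      exact hmem.elim
    exact fun a b h => happ (congrArg Subtype.val h)
  · haveI : Subsingleton Γ(X, U.1) := by
      have : U.1 = ⊥ := bot_unique fun y hy => (hne ⟨⟨y, hy⟩⟩).elim
      rw [this]; infer_instance
    haveI : Subsingleton B := RingHom.codomain_trivial (algebraMap Γ(X, U.1) B) |> fun h => h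
    exact Algebra.Etale.of_equiv (AlgEquiv.ofBijective (Algebra.ofId Γ(X, U.1) B)
      ⟨Function.injective_of_subsingleton _, fun _ => ⟨0, Subsingleton.elim _ _⟩⟩)

end Groth.Agent.S0288
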