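import Groth.Statements.S0291
import Groth.Agent.ParaFLib.Depth
-- import your own Groth.Agent.* helpers here

set_option autoImplicit false
universe u
open Pi1

namespace Groth.Agent.S0291

open AlgebraicGeometry CategoryTheory CategoryTheory.Limits in
/-- Let A be a Noetherian local ring and B a finite A-algebra such that the local rings of Spec B at all
closed points have depth at least 2. Then restriction from global sections of Spec B to sections
over the preimage of the punctured spectrum of A is an isomorphism. -/
theorem result (A B : Type u) [CommRing A] [IsNoetherianRing A] [IsLocalRing A] [CommRing B] [Algebra A B]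
    [Module.Finite A B]
    (h : ∀ (m : Ideal B) (_ : m.IsMaximal), (2 : ℕ∞) ≤ LocCoh.depth (Localization.AtPrime m) (Localization.AtPrime m)) :
    IsIso ((Spec (CommRingCat.of B)).presheaf.map (homOfLE (le_top :
      Spec.map (CommRingCat.ofHom (algebraMap A B)) ⁻¹ᵁ FEt.puncturedSpec A ≤ ⊤)).op) := by
  haveI : IsNoetherianRing B := IsNoetherianRing.of_finite A B
  haveI : IsNoetherianRing (CommRingCat.of B) := inferInstanceAs (IsNoetherianRing B)
  let J : Ideal B := (IsLocalRing.maximalIdeal A).map (algebraMap A B)
  have hJ : ∀ p : Ideal B, p.IsPrime → J ≤ p → p.IsMaximal := fun p hp hle => by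
    haveI := hp
    refine Ideal.isMaximal_of_isIntegral_of_isMaximal_comap (R := A) p ?_
    rw [← (IsLocalRing.maximalIdeal.isMaximal A).eq_of_le (hp.comap _).ne_top (Ideal.map_le_iff_le_comap.1 hle)]
    infer_instance
  have e : CommAlgDim.PunctSections.compl (R := CommRingCat.of B) J =
      Spec.map (CommRingCat.ofHom (algebraMap A B)) ⁻¹ᵁ FEt.puncturedSpec A := by
    refine TopologicalSpace.Opens.ext (Set.ext fun q => ?_)
    show ¬ ((J : Set B) ⊆ q.asIdeal) ↔ ¬ (PrimeSpectrum.comap (algebraMap A B) q = IsLocalRing.closedPoint A)
    refine not_congr (Ideal.map_le_iff_le_comap.trans ⟨fun h => PrimeSpectrum.ext ?_, fun h => ?_⟩)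
    · exact ((IsLocalRing.maximalIdeal.isMaximal A).eq_of_le (q.isPrime.comap _).ne_top h).symm
    · exact (congrArg PrimeSpectrum.asIdeal h).ge
  refine (ConcreteCategory.isIso_iff_bijective _).2 (ParaFLib.bijective_map_congr e le_top le_top ?_)
  have hb := CommAlgDim.PunctSections.bijective_toSec
    (M := ModuleCat.of (CommRingCat.of B) (CommRingCat.of B)) J fun p hp hle => h p (hJ p hp hle)
  exact (Function.Bijective.of_comp_iff _ (CommAlgDim.PunctSections.bijective_toSec_top
    (ModuleCat.of (CommRingCat.of B) (CommRingCat.of B)))).1 hb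

end Groth.Agent.S0291
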