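import Groth.Statements.S0292
import Groth.Agent.S2ExtLib.Scheme
-- import your own Groth.Agent.* helpers here

set_option autoImplicit false
set_option maxHeartbeats 2000000
set_option backward.isDefEq.respectTransparency false
universe u
open Pi1

namespace Groth.Agent.S0292

open AlgebraicGeometry CategoryTheory CategoryTheory.Limits in
/-- Let X be a locally Noetherian scheme, U ⊆ X an open subscheme such that at every point x outside U
the local ring 𝒪_{X,x} has depth at least 2, and V → U a finite étale cover. Then there exist a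
scheme Y and a finite morphism π : Y → X whose restriction π⁻¹(U) → U is isomorphic to V over U, and
such that at every point y of Y with π(y) outside U the local ring 𝒪_{Y,y} has depth at least 2.
(Existence only; uniqueness is not asserted here.) -/
theorem result {X : Scheme.{u}} [IsLocallyNoetherian X] (U : X.Opens)
    (hU : ∀ x : X, x ∉ U → (2 : ℕ∞) ≤ LocCoh.depth (X.presheaf.stalk x) (X.presheaf.stalk x)) (V : FEt.Cat (U : Scheme.{u})) :
    ∃ (Y : Scheme.{u}) (π : Y ⟶ X) (e : pullback π U.ι ≅ V.left), IsFinite π ∧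
      e.hom ≫ V.hom = pullback.snd π U.ι ∧
      ∀ y : Y, π.base y ∉ U → (2 : ℕ∞) ≤ LocCoh.depth (Y.presheaf.stalk y) (Y.presheaf.stalk y) := by
  haveI hf1 : IsFinite V.hom := V.prop.1
  haveI hf2 : Etale V.hom := V.prop.2
  haveI : QuasiCompact U.ι := inferInstance
  let π₁ : V.left ⟶ X := V.hom ≫ U.ι
  have S : S2ExtLib.Setup π₁ U := ⟨hU, V.hom, rfl, hf1, inferInstance⟩
  haveI : QuasiCompact π₁ := S.quasiCompact
  haveI : QuasiSeparated π₁ := S.quasiSeparated
  -- finiteness
  have hfin : IsFinite π₁.fromNormalization := by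
    rw [IsFinite.iff_isIntegralHom_and_locallyOfFiniteType]
    refine ⟨inferInstance, ?_⟩
    rw [HasRingHomProperty.iff_appLE (P := @LocallyOfFiniteType)]
    intro W O e
    have hW : IsAffineOpen W.1 := W.2
    haveI : IsNoetherianRing Γ(X, W.1) := IsLocallyNoetherian.component_noetherian W
    have h1 : (π₁.fromNormalization.app W.1).hom.Finite := by
      rw [π₁.fromNormalization_app hW]
      letI := (π₁.app W.1).hom.toAlgebra
      haveI : Module.Finite Γ(X, W.1) Γ(V.left, π₁ ⁻¹ᵁ W.1) := S.app_finite hW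
      have h2 : Module.Finite Γ(X, W.1) (integralClosure Γ(X, W.1) Γ(V.left, π₁ ⁻¹ᵁ W.1)) :=
        Module.Finite.of_injective (integralClosure Γ(X, W.1) Γ(V.left, π₁ ⁻¹ᵁ W.1)).val.toLinearMap
          Subtype.val_injective
      exact (RingHom.Finite.of_surjective _
        (ConcreteCategory.bijective_of_isIso (π₁.normalizationObjIso hW).inv).2).comp
        (RingHom.finite_algebraMap.2 h2)
    rw [Scheme.Hom.appLE, CommRingCat.hom_comp]
    have hP : IsAffineOpen (π₁.fromNormalization ⁻¹ᵁ W.1) := hW.preimage π₁.fromNormalization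
    refine RingHom.FiniteType.comp ?_ h1.finiteType
    have := LocallyOfFiniteType.finiteType_appLE (𝟙 π₁.normalization) hP O.2 (by simpa using e)
    convert this using 2
    simp [Scheme.Hom.appLE]
  -- the pullback
  haveI : IsIntegralHom (pullback.snd π₁ U.ι) := by
    have : pullback.snd π₁ U.ι = pullback.fst π₁ U.ι ≫ V.hom := by
      rw [← cancel_mono U.ι, Category.assoc, ← pullback.condition]
    rw [this]
    infer_instance
  let j : V.left ⟶ pullback π₁.fromNormalization U.ι :=
    pullback.lift π₁.toNormalization V.hom π₁.toNormalization_fromNormalization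
  haveI : IsIso j := by
    let d : V.left ⟶ pullback π₁ U.ι := pullback.lift (𝟙 _) V.hom (by simp [π₁])
    haveI : IsIso d := ⟨pullback.fst _ _, pullback.lift_fst _ _ _, by
      apply pullback.hom_ext
      · rw [Category.assoc, pullback.lift_fst, Category.comp_id, Category.id_comp]
      · rw [Category.assoc, pullback.lift_snd, Category.id_comp, ← cancel_mono U.ι, Category.assoc,
          ← pullback.condition]⟩
    have : j = d ≫ (pullback.snd π₁ U.ι).toNormalization ≫ π₁.normalizationPullback U.ι := by
      apply pullback.hom_ext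
      · rw [pullback.lift_fst, Category.assoc, Category.assoc, Scheme.Hom.toNormalization_normalizationPullback_fst,
          ← Category.assoc, pullback.lift_fst, Category.id_comp]
      · rw [pullback.lift_snd, Category.assoc, Category.assoc, Scheme.Hom.normalizationPullback_snd,
          Scheme.Hom.toNormalization_fromNormalization, pullback.lift_snd]
    rw [this]
    infer_instance
  refine ⟨π₁.normalization, π₁.fromNormalization, (asIso j).symm, hfin, ?_, ?_⟩
  · rw [Iso.symm_hom, asIso_inv, IsIso.inv_comp_eq, pullback.lift_snd]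
  -- depth
  intro y hy
  haveI : IsLocallyNoetherian π₁.normalization := LocallyOfFiniteType.isLocallyNoetherian π₁.fromNormalization
  obtain ⟨W, hW, hxW, -⟩ := TopologicalSpace.Opens.isBasis_iff_nbhd.1 X.isBasis_affineOpens
    (U := ⊤) (x := π₁.fromNormalization y) trivial
  have hP : IsAffineOpen (π₁.fromNormalization ⁻¹ᵁ W) := IsAffineOpen.preimage hW π₁.fromNormalization
  haveI : IsNoetherianRing Γ(X, W) := IsLocallyNoetherian.component_noetherian ⟨W, hW⟩
  obtain ⟨n, f, hfU, -, hgr⟩ := S.exists_cover hW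
  obtain ⟨a, b, ha, hb, hab⟩ := hgr 1
  have hzero : ∀ c ∈ Ideal.span (Set.range fun i => f i ^ 1),
      π₁.fromNormalization.app W c ∈ (hP.primeIdealOf ⟨y, hxW⟩).asIdeal := by
    intro c hc
    refine (Ideal.span_le (I := (hP.primeIdealOf ⟨y, hxW⟩).asIdeal.comap (π₁.fromNormalization.app W).hom)).2 ?_ hc
    rintro _ ⟨i, rfl⟩
    show π₁.fromNormalization.app W (f i ^ 1) ∈ (hP.primeIdealOf ⟨y, hxW⟩).asIdeal
    rw [pow_one]
    by_contra hni
    apply hy
    have h : hP.primeIdealOf ⟨y, hxW⟩ ∈
        hP.fromSpec ⁻¹ᵁ π₁.normalization.basicOpen (π₁.fromNormalization.app W (f i)) := by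
      rw [hP.fromSpec_preimage_basicOpen]
      exact hni
    have h' : hP.fromSpec (hP.primeIdealOf ⟨y, hxW⟩) ∈
        π₁.normalization.basicOpen (π₁.fromNormalization.app W (f i)) := h
    rw [hP.fromSpec_primeIdealOf, ← π₁.fromNormalization.preimage_basicOpen] at h'
    exact hfU i h'
  have hreg := S.regular hW hab
  -- transport to the sections of the normalization
  letI := (π₁.app W).hom.toAlgebra
  haveI : Module.Finite Γ(X, W) Γ(V.left, π₁ ⁻¹ᵁ W) := S.app_finite hW
  have hval : Function.Bijective (Subtype.val : integralClosure Γ(X, W) Γ(V.left, π₁ ⁻¹ᵁ W) → _) :=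
    ⟨Subtype.val_injective, fun z => ⟨⟨z, IsIntegral.of_finite _ z⟩, rfl⟩⟩
  let e : Γ(π₁.normalization, π₁.fromNormalization ⁻¹ᵁ W) ≃+* Γ(V.left, π₁ ⁻¹ᵁ W) :=
    RingEquiv.ofBijective ((integralClosure Γ(X, W) Γ(V.left, π₁ ⁻¹ᵁ W)).val.toRingHom.comp
      (π₁.normalizationObjIso hW).hom.hom)
      (hval.comp (ConcreteCategory.bijective_of_isIso (π₁.normalizationObjIso hW).hom))
  have he : ∀ r, e (π₁.fromNormalization.app W r) = π₁.app W r := fun r => by
    have := π₁.fromNormalization_app hW
    show ((π₁.normalizationObjIso hW).hom (π₁.fromNormalization.app W r)).val = _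
    rw [this, CommRingCat.comp_apply, ← CommRingCat.comp_apply, Iso.inv_hom_id]
    rfl
  have hregP : RingTheory.Sequence.IsWeaklyRegular Γ(π₁.normalization, π₁.fromNormalization ⁻¹ᵁ W)
      [π₁.fromNormalization.app W a, π₁.fromNormalization.app W b] := by
    refine (AddEquiv.isWeaklyRegular_congr (e := e.toAddEquiv) ?_).2 hreg
    refine List.Forall₂.cons ?_ (List.Forall₂.cons ?_ List.Forall₂.nil) <;> intro z <;>
      · show e (_ * z) = _ * e z
        rw [map_mul, he]
  letI := π₁.normalization.presheaf.algebra_section_stalk (⟨y, hxW⟩ : (π₁.fromNormalization ⁻¹ᵁ W : π₁.normalization.Opens))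
  haveI : IsLocalization.AtPrime (π₁.normalization.presheaf.stalk y) (hP.primeIdealOf ⟨y, hxW⟩).asIdeal :=
    hP.isLocalization_stalk ⟨y, hxW⟩
  haveI : Module.Flat Γ(π₁.normalization, π₁.fromNormalization ⁻¹ᵁ W) (π₁.normalization.presheaf.stalk y) :=
    IsLocalization.flat _ (hP.primeIdealOf ⟨y, hxW⟩).asIdeal.primeCompl
  refine (CommAlgDim.le_depth_iff 2).2 ⟨_, ?_, ?_, RingTheory.Sequence.IsWeaklyRegular.of_flat
    (S := π₁.normalization.presheaf.stalk y) hregP⟩
  · rfl
  · intro r hr
    simp only [List.map_cons, List.map_nil, List.mem_cons, List.not_mem_nil, or_false] at hr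
    rcases hr with rfl | rfl
    · exact (IsLocalization.AtPrime.to_map_mem_maximal_iff _ (hP.primeIdealOf ⟨y, hxW⟩).asIdeal _).2 (hzero a ha)
    · exact (IsLocalization.AtPrime.to_map_mem_maximal_iff _ (hP.primeIdealOf ⟨y, hxW⟩).asIdeal _).2 (hzero b hb)

end Groth.Agent.S0292
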