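import Groth.Statements.S0297
import Groth.Agent.FEtColimLib.Galois
import Groth.Agent.S0296
import Mathlib.CategoryTheory.Galois.Prorepresentability

set_option autoImplicit false
universe u
open Pi1

namespace Groth.Agent.S0297

open AlgebraicGeometry CategoryTheory CategoryTheory.Limits in
/-- For a connected scheme X and geometric points ξ : Spec Ω → X and ξ' : Spec Ω' → X (Ω, Ω'
algebraically closed fields), every morphism of functors from the fibre functor at ξ to the fibre
functor at ξ' on finite étale covers of X is an isomorphism. -/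
theorem result {X : Scheme.{u}} [ConnectedSpace X] {Ω Ω' : Type u} [Field Ω]
    [IsAlgClosed Ω] [Field Ω'] [IsAlgClosed Ω'] (ξ : Spec (CommRingCat.of Ω) ⟶ X)
    (ξ' : Spec (CommRingCat.of Ω') ⟶ X) (φ : FEt.fiber ξ ⟶ FEt.fiber ξ') : IsIso φ := by
  obtain ⟨e⟩ := Groth.Agent.S0296.nonempty_finFiber_iso ξ' ξ
  letI := FEtColim.preGaloisCategory X
  haveI := (FEtColim.fiberFunctor ξ).some
  haveI : GaloisCategory (FEt.Cat X) := { hasFiberFunctor := ⟨_, FEtColim.fiberFunctor ξ⟩ }
  let ψ : FEtColim.finFiber ξ ⟶ FEtColim.finFiber ξ' :=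
    { app := fun Y => FintypeCat.homMk fun s => φ.app Y s
      naturality := fun Y Z g => FintypeCat.hom_ext _ _ fun s =>
        ConcreteCategory.congr_hom (φ.naturality g) s }
  have h1 : IsIso (ψ ≫ e.hom) :=
    PreGaloisCategory.FibreFunctor.end_isIso (FEtColim.finFiber ξ) (ψ ≫ e.hom)
  haveI : IsIso ψ := IsIso.of_isIso_comp_right ψ e.hom
  haveI : ∀ Y, IsIso (φ.app Y) := fun Y =>
    @Functor.map_isIso _ _ _ _ _ _ FintypeCat.incl (ψ.app Y) (NatIso.isIso_app_of_isIso ψ Y)
  exact NatIso.isIso_of_isIso_app φ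

end Groth.Agent.S0297
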