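import Groth.Statements.S0304
import Groth.Agent.InjHullLib.Noetherian
-- import your own Groth.Agent.* helpers here

set_option autoImplicit false
universe u v
open InjHull

namespace Groth.Agent.S0304

/-- Let R be a commutative ring and E an indecomposable injective R-module. Then any two nonzero
submodules of E have nonzero intersection, and the set of elements r ∈ R such that r·x = 0 for some
nonzero x ∈ E is a prime ideal of R. -/
theorem result (R : Type u) [CommRing R] (E : Type u) [AddCommGroup E] [Module R E] (hE : InjHull.IsIndecomposable R E) (hinj : Module.Injective R E) : (∀ N N' : Submodule R E, N ≠ ⊥ → N' ≠ ⊥ → N ⊓ N' ≠ ⊥) ∧ ∃ p : Ideal R, p.IsPrime ∧ (p : Set R) = {r : R | ∃ x : E, x ≠ 0 ∧ r • x = 0} := by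
  have hmeet := InjHullLib.inf_ne_bot_of_indecomposable hE hinj
  haveI := hE.1
  refine ⟨hmeet, ?_⟩
  let p : Ideal R :=
    { carrier := {r : R | ∃ x : E, x ≠ 0 ∧ r • x = 0}
      zero_mem' := (exists_ne (0 : E)).elim fun x hx => ⟨x, hx, zero_smul R x⟩
      add_mem' := by
        rintro a b ⟨x, hx, ha⟩ ⟨y, hy, hb⟩
        obtain ⟨z, hz, hz0⟩ := Submodule.exists_mem_ne_zero_of_ne_bot (hmeet (Submodule.span R {x}) (Submodule.span R {y})
          (by simpa using hx) (by simpa using hy))
        obtain ⟨c, hc⟩ := Submodule.mem_span_singleton.1 (Submodule.mem_inf.1 hz).1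
        obtain ⟨d, hd⟩ := Submodule.mem_span_singleton.1 (Submodule.mem_inf.1 hz).2
        refine ⟨z, hz0, ?_⟩
        rw [add_smul]
        nth_rw 1 [← hc]
        rw [← hd, smul_comm, ha, smul_zero, zero_add, smul_comm, hb, smul_zero]
      smul_mem' := by
        rintro c a ⟨x, hx, ha⟩
        exact ⟨x, hx, by rw [smul_eq_mul, mul_smul, ha, smul_zero]⟩ }
  refine ⟨p, Ideal.isPrime_iff.2 ⟨fun h => ?_, fun {a b} hab => ?_⟩, rfl⟩
  · obtain ⟨x, hx, h1⟩ := (Ideal.eq_top_iff_one p).1 h
    exact hx (by rwa [one_smul] at h1)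
  · obtain ⟨x, hx, h1⟩ := hab
    by_cases hb : b • x = 0
    · exact Or.inr ⟨x, hx, hb⟩
    · exact Or.inl ⟨b • x, hb, by rw [← mul_smul]; exact h1⟩

end Groth.Agent.S0304
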