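import Groth.Statements.S0309
import Groth.Agent.InjHullLib.Local
-- import your own Groth.Agent.* helpers here

set_option autoImplicit false
universe u v
open Matlis

namespace Groth.Agent.S0309

/-- Over an Artinian local ring with E an injective hull of the residue field, the evaluation map from a
finite module M to its double E-dual Hom(Hom(M, E), E) is bijective. -/
theorem result (R : Type u) [CommRing R] [IsLocalRing R] [IsArtinianRing R] (E : Type u) [AddCommGroup E] [Module R E] (f : IsLocalRing.ResidueField R →ₗ[R] E) (hf : InjHull.IsInjectiveHull f) (M : Type u) [AddCommGroup M] [Module R M] [Module.Finite R M] : Function.Bijective (LinearMap.applyₗ : M →ₗ[R] (M →ₗ[R] E) →ₗ[R] E) := by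
  have hM := InjHullLib.isFiniteLength_of_finite_artinian (R := R) M
  obtain ⟨n, hn⟩ := InjHullLib.exists_pow_smul_eq_zero hM
  exact InjHullLib.applyₗ_bijective_of_isFiniteLength (m := IsLocalRing.maximalIdeal R) hf hM hn

end Groth.Agent.S0309
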