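import Groth.Statements.S0312
import Groth.Agent.InjHullLib.FlatLocal
-- import your own Groth.Agent.* helpers here

set_option autoImplicit false
universe u v
open Matlis

namespace Groth.Agent.S0312

/-- For a flat local homomorphism A → B of Noetherian local rings with m_A B equal to the maximal ideal
of B, tensoring an injective hull of the residue field of A with B gives an injective hull of the
residue field of B. -/
theorem result (A : Type u) [CommRing A] [IsLocalRing A] [IsNoetherianRing A] (B : Type u) [CommRing B] [IsLocalRing B] [IsNoetherianRing B] [Algebra A B] [IsLocalHom (algebraMap A B)] [Module.Flat A B] (hm : (IsLocalRing.maximalIdeal A).map (algebraMap A B) = IsLocalRing.maximalIdeal B) (E : Type u) [AddCommGroup E] [Module A E] (f : IsLocalRing.ResidueField A →ₗ[A] E) (hf : InjHull.IsInjectiveHull f) : ∃ g : IsLocalRing.ResidueField B →ₗ[B] TensorProduct A B E, InjHull.IsInjectiveHull g := by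
  refine InjHullLib.exists_hull_baseChange hf 1 (by rw [pow_one, hm]) hm.le ?_
  rw [hm]
  haveI : IsSimpleModule B (B ⧸ IsLocalRing.maximalIdeal B) :=
    isSimpleModule_iff_quot_maximal.2 ⟨IsLocalRing.maximalIdeal B, inferInstance, ⟨LinearEquiv.refl B _⟩⟩
  have htop : LocCoh.torsionBy (IsLocalRing.maximalIdeal B) (B ⧸ IsLocalRing.maximalIdeal B) = ⊤ := by
    refine Submodule.eq_top_iff'.2 fun x => InjHullLib.mem_torsionBy_iff.2 fun b hb => ?_
    obtain ⟨x, rfl⟩ := Submodule.Quotient.mk_surjective _ x
    exact (Submodule.Quotient.mk_eq_zero _).2 (Ideal.mul_mem_right _ _ hb)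
  rw [htop, Module.length_top, Module.length_eq_one]

end Groth.Agent.S0312
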