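import Groth.Statements.S0318
import Groth.Agent.LocCohLib.Facts

set_option autoImplicit false
universe u v
open LocCoh

namespace Groth.Agent.S0318

/-- Part (1): =(3): for a finite module M over a Noetherian ring and an ideal I with IM ≠ M, the I-depth
of M is the least degree in which the local cohomology of M with support in I is nonzero. -/
theorem result (R : Type u) [CommRing R] [IsNoetherianRing R] (I : Ideal R) (M : Type u) [AddCommGroup M] [Module R M] [Module.Finite R M] (hIM : I • (⊤ : Submodule R M) ≠ ⊤) (n : ℕ) : LocCoh.idealDepth I M = n ↔ ((∀ i : ℕ, i < n → Subsingleton (LocCoh.H I i M)) ∧ Nontrivial (LocCoh.H I n M)) := by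
  have h := fun k : ℕ => LocCohLib.le_idealDepth_iff_subsingleton_H (I := I) M k
  constructor
  · intro hn
    refine ⟨(h n).1 hn.ge, ?_⟩
    rw [← not_subsingleton_iff_nontrivial]
    intro hs
    have h1 : ((n + 1 : ℕ) : ℕ∞) ≤ LocCoh.idealDepth I M := (h (n + 1)).2 fun i hi => by
      rcases Nat.lt_succ_iff_lt_or_eq.1 hi with h' | rfl
      · exact (h n).1 hn.ge i h'
      · exact hs
    rw [hn] at h1
    norm_cast at h1
    omega
  · rintro ⟨hlt, hn⟩
    refine le_antisymm ?_ ((h n).2 hlt)
    by_contra hgt
    have h1 : ((n + 1 : ℕ) : ℕ∞) ≤ LocCoh.idealDepth I M := by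
      rw [Nat.cast_succ]
      exact Order.add_one_le_of_lt (not_le.1 hgt)
    exact not_subsingleton_iff_nontrivial.2 hn ((h (n + 1)).1 h1 n (Nat.lt_succ_self n))

end Groth.Agent.S0318
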