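import Groth.Statements.S0319
import Groth.Agent.DepthBasicLib.Ext

set_option autoImplicit false
universe u v
open CategoryTheory
open LocCoh

namespace Groth.Agent.S0319

/-- Part (1): =(2): for a finite module M over a Noetherian ring and an ideal I with IM ≠ M, the I-depth
of M is the least i with Ext^i(R/I, M) nonzero. (Close to Mathlib's Rees criterion; kept at low
weight to pin our depth to Mathlib's Ext.) -/
theorem result (R : Type u) [CommRing R] [IsNoetherianRing R] (I : Ideal R) (M : Type u) [AddCommGroup M] [Module R M] [Module.Finite R M] (hIM : I • (⊤ : Submodule R M) ≠ ⊤) (n : ℕ) : LocCoh.idealDepth I M = n ↔ ((∀ i : ℕ, i < n → Subsingleton (Abelian.Ext (ModuleCat.of R (R ⧸ I)) (ModuleCat.of R M) i)) ∧ Nontrivial (Abelian.Ext (ModuleCat.of R (R ⧸ I)) (ModuleCat.of R M) n)) := by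
  have h1 := DepthBasic.le_idealDepth_iff_ext I M n
  have h2 := DepthBasic.le_idealDepth_iff_ext I M (n + 1)
  constructor
  · intro h
    refine ⟨h1.1 h.ge, not_subsingleton_iff_nontrivial.1 fun hs => ?_⟩
    have h3 : ((n + 1 : ℕ) : ℕ∞) ≤ LocCoh.idealDepth I M := h2.2 fun i hi => by
      rcases Nat.lt_succ_iff_lt_or_eq.1 hi with hi | rfl
      · exact h1.1 h.ge i hi
      · exact hs
    rw [h, Nat.cast_le] at h3
    omega
  · rintro ⟨hlt, hnt⟩
    refine le_antisymm ?_ (h1.2 hlt)
    by_contra hgt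
    have h3 : ((n + 1 : ℕ) : ℕ∞) ≤ LocCoh.idealDepth I M := by
      rw [Nat.cast_succ]
      exact Order.add_one_le_of_lt (not_le.1 hgt)
    exact not_subsingleton_iff_nontrivial.2 hnt (h2.1 h3 n (Nat.lt_succ_self n))

end Groth.Agent.S0319
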