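import Groth.Statements.S0321
import Groth.Agent.DepthBasicLib.Ext
import Groth.Agent.LocCohLib.Finiteness

set_option autoImplicit false
universe u v
open LocCoh

namespace Groth.Agent.S0321

/-- Depth inequalities along a short exact sequence 0 → N' → N → N'' → 0 of finite modules over a
Noetherian ring: depth N ≥ min(depth N', depth N''), depth N'' ≥ min(depth N, depth N' − 1), depth
N' ≥ min(depth N, depth N'' + 1). -/
theorem result (R : Type u) [CommRing R] [IsNoetherianRing R] (I : Ideal R) (N' : Type u) [AddCommGroup N'] [Module R N'] [Module.Finite R N'] (N : Type u) [AddCommGroup N] [Module R N] [Module.Finite R N] (N'' : Type u) [AddCommGroup N''] [Module R N''] [Module.Finite R N''] (f : N' →ₗ[R] N) (g : N →ₗ[R] N'') (hf : Function.Injective f) (hg : Function.Surjective g) (hfg : Function.Exact f g) : min (LocCoh.idealDepth I N') (LocCoh.idealDepth I N'') ≤ LocCoh.idealDepth I N ∧ min (LocCoh.idealDepth I N) (LocCoh.idealDepth I N' - 1) ≤ LocCoh.idealDepth I N'' ∧ min (LocCoh.idealDepth I N) (LocCoh.idealDepth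 I N'' + 1) ≤ LocCoh.idealDepth I N' := by
  have key := fun (P : Type u) [AddCommGroup P] [Module R P] [Module.Finite R P] (n : ℕ) =>
    LocCohLib.le_idealDepth_iff_subsingleton_H (I := I) P n
  refine ⟨ENat.forall_natCast_le_iff_le.1 fun n hn => ?_, ENat.forall_natCast_le_iff_le.1 fun n hn => ?_,
    ENat.forall_natCast_le_iff_le.1 fun n hn => ?_⟩
  · rw [le_min_iff] at hn
    exact (key N n).2 fun i hi => LocCohLib.subsingleton_H_mid f g hf hfg hg i
      ((key N' n).1 hn.1 i hi) ((key N'' n).1 hn.2 i hi)
  · rw [le_min_iff] at hn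
    rcases Nat.eq_zero_or_pos n with rfl | hpos
    · simp
    have h' : ((n + 1 : ℕ) : ℕ∞) ≤ LocCoh.idealDepth I N' := by
      have h1 : (1 : ℕ∞) ≤ LocCoh.idealDepth I N' := by
        by_contra h0
        rw [not_le, ENat.lt_one_iff_eq_zero] at h0
        have h2 := hn.2
        rw [h0, zero_tsub, nonpos_iff_eq_zero, Nat.cast_eq_zero] at h2
        omega
      rw [Nat.cast_succ]
      exact (AddLECancellable.le_tsub_iff_right (ENat.addLECancellable_of_ne_top (by simp)) h1).1 hn.2
    exact (key N'' n).2 fun i hi => LocCohLib.subsingleton_H_right f g hf hfg hg i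
      ((key N n).1 hn.1 i hi) ((key N' (n + 1)).1 h' (i + 1) (by omega))
  · rw [le_min_iff] at hn
    refine (key N' n).2 fun i hi => ?_
    rcases i with _ | i
    · have hN0 := (key N n).1 hn.1 0 hi
      exact @Function.Injective.subsingleton _ _ _ ((ModuleCat.mono_iff_injective _).1
        ((LocCohLib.lcDelta I).mono₀ (LocCohLib.shortExact_of hf hfg hg))) hN0
    have h'' : ((i + 1 : ℕ) : ℕ∞) ≤ LocCoh.idealDepth I N'' := by
      rw [← ENat.add_le_add_iff_right (by simp : (1 : ℕ∞) ≠ ⊤), ← Nat.cast_succ]
      exact le_trans (by exact_mod_cast hi) hn.2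
    exact LocCohLib.subsingleton_H_left f g hf hfg hg i ((key N n).1 hn.1 (i + 1) hi)
      ((key N'' (i + 1)).1 h'' i (Nat.lt_succ_self i))

end Groth.Agent.S0321
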