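import Groth.Statements.S0322
import Groth.Agent.DepthBasicLib.Ext
import Groth.Agent.CommAlgDim.CM
-- import your own Groth.Agent.* helpers here

set_option autoImplicit false
universe u v
open LocCoh

namespace Groth.Agent.S0322

open IsLocalRing Pointwise RingTheory.Sequence in
theorem aux (R : Type u) [CommRing R] [IsLocalRing R] [IsNoetherianRing R] (I : Ideal R) (hI : I ≠ ⊤) :
    ∀ (d : ℕ) (M : Type u) [AddCommGroup M] [Module R M] [Module.Finite R M],
      Module.supportDim R M = d → LocCoh.depth R M = d →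
      Module.supportDim R M = Module.supportDim R (M ⧸ (I • (⊤ : Submodule R M))) +
        ((LocCoh.idealDepth I M : ℕ∞) : WithBot ℕ∞) := by
  intro d
  induction d using Nat.strong_induction_on with
  | _ d ih =>
  intro M _ _ _ hd hdep
  have hMnt : Nontrivial M := (Module.supportDim_ne_bot_iff_nontrivial R M).1 (by rw [hd]; exact WithBot.coe_ne_bot)
  by_cases hx : ∃ x ∈ I, IsSMulRegular M x
  · obtain ⟨x, hxI, hxreg⟩ := hx
    have hxm : x ∈ maximalIdeal R := le_maximalIdeal hI hxI
    haveI : Nontrivial (QuotSMulTop x M) := by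
      refine Submodule.Quotient.nontrivial_iff.2 fun h0 => ?_
      refine top_ne_bot (α := Submodule R M) (Submodule.eq_bot_of_le_smul_of_le_jacobson_bot (Ideal.span {x}) ⊤
        Module.Finite.fg_top ?_ (((Ideal.span_singleton_le_iff_mem _).2 hxm).trans (maximalIdeal_le_jacobson _)))
      rw [Submodule.ideal_span_singleton_smul, h0]
    have h1 := Module.supportDim_quotSMulTop_succ_eq_supportDim hxreg hxm
    obtain ⟨d', hd'⟩ : ∃ d' : ℕ, Module.supportDim R (QuotSMulTop x M) = d' := by
      rw [hd] at h1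
      cases h : Module.supportDim R (QuotSMulTop x M) with
      | bot => exact absurd h ((Module.supportDim_ne_bot_iff_nontrivial R _).2 inferInstance)
      | coe a =>
        cases a with
        | top => rw [h] at h1; exact absurd (WithBot.coe_inj.1 (h1 : ((⊤ + 1 : ℕ∞) : WithBot ℕ∞) = ((d : ℕ∞) : WithBot ℕ∞))) (by simp)
        | coe b => exact ⟨b, rfl⟩
    rw [hd, hd'] at h1
    have hd1 : d' + 1 = d := by exact_mod_cast h1
    have h2 := DepthBasic.idealDepth_quot_add_one (maximalIdeal R) M x hxm hxreg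
    rw [show LocCoh.idealDepth (maximalIdeal R) M = LocCoh.depth R M from rfl, hdep, ← hd1, Nat.cast_succ] at h2
    replace h2 : LocCoh.depth R (QuotSMulTop x M) = d' :=
      le_antisymm ((ENat.add_le_add_iff_right (by simp : (1 : ℕ∞) ≠ ⊤)).1 h2.le)
        ((ENat.add_le_add_iff_right (by simp : (1 : ℕ∞) ≠ ⊤)).1 h2.ge)
    have h3 := ih d' (by omega) (QuotSMulTop x M) hd' h2
    have hmap : Submodule.map (x • (⊤ : Submodule R M)).mkQ (I • ⊤) = I • (⊤ : Submodule R (QuotSMulTop x M)) := by
      rw [Submodule.map_smul'', Submodule.map_top, Submodule.range_mkQ]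
    have hsup : x • (⊤ : Submodule R M) ⊔ I • ⊤ = I • ⊤ := sup_eq_right.2 fun y hy => by
      obtain ⟨z, -, rfl⟩ := Submodule.mem_smul_pointwise_iff_exists _ _ _ |>.1 hy
      exact Submodule.smul_mem_smul hxI trivial
    have e : (QuotSMulTop x M ⧸ (I • ⊤ : Submodule R (QuotSMulTop x M))) ≃ₗ[R] (M ⧸ (I • ⊤ : Submodule R M)) :=
      (Submodule.quotEquivOfEq _ _ hmap.symm).trans ((Submodule.quotientQuotientEquivQuotientSup _ _).trans
        (Submodule.quotEquivOfEq _ _ hsup))
    rw [Module.supportDim_eq_of_equiv e] at h3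
    rw [hd, ← DepthBasic.idealDepth_quot_add_one I M x hxI hxreg, WithBot.coe_add, ← add_assoc, ← h3, hd', ← hd1]
    push_cast
    rfl
  · push_neg at hx
    have h0 : LocCoh.idealDepth I M = 0 := by
      by_contra hne
      obtain ⟨rs, hl, hm, hr⟩ := (CommAlgDim.le_idealDepth_iff I 1).1 (by exact_mod_cast ENat.one_le_iff_ne_zero.2 hne)
      obtain ⟨y, rfl⟩ := List.length_eq_one_iff.1 hl
      exact hx y (hm y (List.mem_singleton_self y)) ((isWeaklyRegular_singleton_iff _ _).1 hr)
    obtain ⟨P, hP, hIP⟩ : ∃ P ∈ associatedPrimes R M, I ≤ P := by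
      by_contra hcon
      push_neg at hcon
      obtain ⟨y, hy, hyr⟩ := CommAlgDim.exists_isSMulRegular_mem hcon
      exact hx y hy hyr
    obtain ⟨rs, hl, hm, hr⟩ := (CommAlgDim.le_depth_iff d).1 hdep.ge
    have hreg : IsRegular M rs := ⟨hr, fun h => top_ne_bot (α := Submodule R M)
      (Submodule.eq_bot_of_le_smul_of_le_jacobson_bot (Ideal.ofList rs) ⊤ Module.Finite.fg_top h.le
        ((Ideal.span_le.2 hm).trans (maximalIdeal_le_jacobson _)))⟩
    have h1 := CommAlgDim.length_le_ringKrullDim_of_mem_associatedPrimes rs M hreg P hP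
    rw [hl, ← hd] at h1
    haveI : P.IsPrime := hP.isPrime
    rw [h0, WithBot.coe_zero, add_zero]
    refine le_antisymm (h1.trans ?_) (Module.supportDim_le_of_surjective (Submodule.mkQ _) (Submodule.mkQ_surjective _))
    rw [← Module.supportDim_quotient_eq_ringKrullDim]
    refine Order.krullDim_le_of_strictMono (fun q => (⟨q.1, ?_⟩ : Module.support R (M ⧸ (I • (⊤ : Submodule R M)))))
      (fun a b h => h)
    obtain ⟨q, hq⟩ := q
    rw [Module.support_eq_zeroLocus, Ideal.annihilator_quotient, PrimeSpectrum.mem_zeroLocus, SetLike.coe_subset_coe] at hq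
    rw [Module.support_quotient]
    refine ⟨Module.mem_support_mono (p := ⟨P, inferInstance⟩) hq (Module.mem_support_iff'.2 ?_ ), hIP.trans hq⟩
    obtain ⟨hpp, m, hm'⟩ := isAssociatedPrime_iff.1 hP
    refine ⟨m, fun r hr0 hrm => hr0 ?_⟩
    show r ∈ P
    rw [hm', Submodule.mem_colon_singleton]
    simpa using hrm

/-- For a finite Cohen–Macaulay module M over a Noetherian local ring and a proper ideal I, the I-depth
of M equals dim Supp(M) minus dim Supp(M/IM); stated additively. -/
theorem result (R : Type u) [CommRing R] [IsLocalRing R] [IsNoetherianRing R] (I : Ideal R) (hI : I ≠ ⊤) (M : Type u) [AddCommGroup M] [Module R M] [Module.Finite R M] (hM : LocCoh.IsCohenMacaulayModule R M) : Module.supportDim R M = Module.supportDim R (M ⧸ (I • (⊤ : Submodule R M))) + ((LocCoh.idealDepth I M : ℕ∞) : WithBot ℕ∞) := by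
  rcases subsingleton_or_nontrivial M with hs | hs
  · haveI : Subsingleton (M ⧸ (I • (⊤ : Submodule R M))) := inferInstance
    rw [Module.supportDim_eq_bot_of_subsingleton, Module.supportDim_eq_bot_of_subsingleton, WithBot.bot_add]
  have hfin : Module.supportDim R M < ⊤ :=
    lt_of_le_of_lt (Module.supportDim_le_ringKrullDim R M) ringKrullDim_lt_top
  unfold LocCoh.IsCohenMacaulayModule at hM
  obtain ⟨d, hd⟩ : ∃ d : ℕ, LocCoh.depth R M = d := by
    refine (ENat.ne_top_iff_exists.1 fun h => ?_).imp fun a ha => ha.symm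
    rw [hM, h] at hfin
    exact lt_irrefl _ hfin
  exact aux R I hI d M (by rw [hM, hd]; rfl) hd

end Groth.Agent.S0322
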