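import Groth.Statements.S0328
import Groth.Agent.LocCohLib.NonVanishingApp

set_option autoImplicit false
universe u v
open LocCoh

namespace Groth.Agent.S0328

/-- In a Noetherian local ring, if a prime p and a proper ideal I together have radical the maximal
ideal and dim R/p = d ≥ 1, then local cohomology with support in I does not vanish in all degrees ≥
d. -/
theorem result (R : Type u) [CommRing R] [IsLocalRing R] [IsNoetherianRing R] (I : Ideal R) (hI : I ≠ ⊤) (p : Ideal R) [p.IsPrime] (hpI : (p ⊔ I).radical = IsLocalRing.maximalIdeal R) (d : ℕ) (hd : ringKrullDim (R ⧸ p) = d) (hd1 : 1 ≤ d) : ¬ LocCoh.CdLE R I (d - 1) := by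
  intro hcd
  have hI' := IsLocalRing.le_maximalIdeal hI
  have hdim : Module.supportDim R (R ⧸ p) = d := by rw [Module.supportDim_quotient_eq_ringKrullDim, hd]
  have hbij := LocCohLib.HmapOfLE_surjective_injective (M := R ⧸ p) hI' d
  have hno : ∀ q : PrimeSpectrum R, I ≤ q.asIdeal → ¬ IsLocalRing.maximalIdeal R ≤ q.asIdeal →
      ∀ j, Subsingleton (LocalizedModule q.asIdeal.primeCompl (LocCoh.H q.asIdeal j (R ⧸ p))) := fun q hq hm j => by
    have hpq : ¬ p ≤ q.asIdeal := fun h => hm (hpI ▸ q.2.radical_le_iff.2 (sup_le h hq))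
    obtain ⟨x, hx, hxq⟩ := SetLike.not_le_iff_exists.1 hpq
    haveI : Subsingleton (LocalizedModule q.asIdeal.primeCompl (R ⧸ p)) := by
      rw [← Module.notMem_support_iff, Module.mem_support_iff_of_finite, Ideal.annihilator_quotient]
      exact hpq
    exact (LocCohLib.subsingleton_loc_H_iff q.asIdeal j).2
      (LocCohLib.subsingleton_H_of_subsingleton _ j)
  haveI := (LocCohLib.nonvanishing d (R ⧸ p) hdim).1
  haveI : Subsingleton (LocCoh.H I d (R ⧸ p)) := hcd (R ⧸ p) d (by omega)
  exact not_subsingleton (LocCoh.H (IsLocalRing.maximalIdeal R) d (R ⧸ p))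
    (hbij.2 fun q hq hm j _ => hno q hq hm j).subsingleton

end Groth.Agent.S0328
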