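import Groth.Statements.S0334
import Groth.Agent.LocCohLib.Finiteness

set_option autoImplicit false
universe u v
open LocCoh

namespace Groth.Agent.S0334

theorem dim_quotient_lt {R : Type u} [CommRing R] (d : ℕ) (hd : ringKrullDim R = d) (f : R)
    (hf : ∀ p ∈ minimalPrimes R, ringKrullDim (R ⧸ p) = d → f ∉ p) :
    ringKrullDim (R ⧸ Ideal.span {f}) < (d : WithBot ℕ∞) := by
  rw [ringKrullDim_quotient]
  rcases isEmpty_or_nonempty (PrimeSpectrum.zeroLocus (R := R) (Ideal.span {f} : Ideal R)) with he | he
  · rw [Order.krullDim_eq_bot]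
    exact WithBot.bot_lt_coe _
  have key : ∀ q : LTSeries (PrimeSpectrum.zeroLocus (R := R) (Ideal.span {f} : Ideal R)), q.length + 1 ≤ d := by
    intro q
    let Q : LTSeries (PrimeSpectrum R) := q.map Subtype.val (Subtype.strictMono_coe _)
    have hQ : q.length ≤ d := by
      have := Order.LTSeries.length_le_krullDim Q
      rw [show Order.krullDim (PrimeSpectrum R) = ringKrullDim R from rfl, hd] at this
      exact_mod_cast this
    refine Nat.lt_of_le_of_ne hQ fun heq => ?_
    obtain ⟨m, hm, hmle⟩ := Ideal.exists_minimalPrimes_le (I := (⊥ : Ideal R)) (J := Q.head.asIdeal) bot_le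
    haveI := hm.1.1
    have hfm : f ∈ Q.head.asIdeal := q.head.2 (Ideal.mem_span_singleton_self f)
    rcases eq_or_lt_of_le hmle with h | h
    · have h1 : (d : WithBot ℕ∞) ≤ ringKrullDim (R ⧸ m) := by
        rw [ringKrullDim_quotient]
        let q' : LTSeries (PrimeSpectrum.zeroLocus (R := R) (m : Set R)) :=
          ⟨Q.length, fun j => ⟨Q.toFun j, fun a ha => Q.head_le j (hmle ha)⟩, fun j => Q.step j⟩
        have := Order.LTSeries.length_le_krullDim q'
        rw [show (d : WithBot ℕ∞) = ((q.length : ℕ) : WithBot ℕ∞) by rw [heq]]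
        exact this
      have h2 : ringKrullDim (R ⧸ m) ≤ (d : WithBot ℕ∞) := hd ▸ ringKrullDim_quotient_le m
      exact hf m hm (le_antisymm h2 h1) (h ▸ hfm)
    · have := Order.LTSeries.length_le_krullDim (Q.cons ⟨m, hm.1.1⟩ h)
      rw [show Order.krullDim (PrimeSpectrum R) = ringKrullDim R from rfl, hd] at this
      rw [RelSeries.cons_length] at this
      have h3 : q.length + 1 ≤ d := by exact_mod_cast this
      omega
  rw [Order.krullDim_eq_iSup_length]
  refine WithBot.coe_lt_coe.2 ?_
  obtain ⟨e, rfl⟩ : ∃ e, d = e + 1 := ⟨d - 1, by have := key (RelSeries.singleton _ (Classical.arbitrary _)); simp at this; omega⟩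
  exact lt_of_le_of_lt (iSup_le fun q => Nat.cast_le.2 (Nat.le_of_succ_le_succ (key q)))
    (Nat.cast_lt.2 (Nat.lt_succ_self e))

/-- Over a Noetherian local ring of dimension d, multiplication by an element lying in no minimal prime
p with dim R/p = d is surjective on H^d_I(M) for every finite module M and every ideal I. -/
theorem result (R : Type u) [CommRing R] [IsLocalRing R] [IsNoetherianRing R] (I : Ideal R) (d : ℕ) (hd : ringKrullDim R = d) (f : R) (hf : ∀ p ∈ minimalPrimes R, ringKrullDim (R ⧸ p) = d → f ∉ p) (M : Type u) [AddCommGroup M] [Module R M] [Module.Finite R M] : Function.Surjective (fun x : LocCoh.H I d M => f • x) := by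
  let φ : M →ₗ[R] M := f • LinearMap.id
  have hsucc : ∀ (K : Type u) [AddCommGroup K] [Module R K], Subsingleton (LocCoh.H I (d + 1) K) := fun K _ _ =>
    LocCohLib.subsingleton_H_of_supportDim_lt (d + 1) K
      (lt_of_le_of_lt (Module.supportDim_le_ringKrullDim R K) (hd ▸ by exact_mod_cast Nat.lt_succ_self d))
  have hsurj1 : Function.Surjective (LocCohLib.Hf I d φ.rangeRestrict) := fun z =>
    ((LocCohLib.exact_Hδ (I := I) (LinearMap.ker φ).injective_subtype
      (f := (LinearMap.ker φ).subtype) (g := φ.rangeRestrict)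
      (LinearMap.exact_iff.2 (by rw [Submodule.range_subtype, LinearMap.ker_rangeRestrict]))
      φ.surjective_rangeRestrict d).2 z).1 ((hsucc _).elim _ _)
  haveI hq : Subsingleton (LocCoh.H I d (M ⧸ LinearMap.range φ)) := by
    refine LocCohLib.subsingleton_H_of_supportDim_lt d _ (lt_of_le_of_lt ?_ (dim_quotient_lt d hd f hf))
    rw [Module.supportDim_eq_ringKrullDim_quotient_annihilator]
    refine ringKrullDim_le_of_surjective (Ideal.Quotient.factor ?_) (Ideal.Quotient.factor_surjective _)
    rw [Ideal.span_le, Set.singleton_subset_iff, SetLike.mem_coe, Module.mem_annihilator]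
    intro z
    obtain ⟨m, rfl⟩ := Submodule.mkQ_surjective _ z
    rw [← map_smul, Submodule.mkQ_apply, Submodule.Quotient.mk_eq_zero]
    exact ⟨m, rfl⟩
  intro y
  obtain ⟨w, hw⟩ := (LocCohLib.exact_Hf (I := I) (LinearMap.range φ).injective_subtype
    (LinearMap.exact_subtype_mkQ _) (LinearMap.range φ).mkQ_surjective d y).1 (Subsingleton.elim _ _)
  obtain ⟨v, rfl⟩ := hsurj1 w
  refine ⟨v, ?_⟩
  show f • v = y
  rw [← hw, ← LocCohLib.Hf_comp, ← LocCohLib.Hf_smul_id]
  rfl

end Groth.Agent.S0334
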