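import Groth.Statements.S0336
import Groth.Agent.KunzLib.Basic

set_option autoImplicit false
universe u v
open LocCoh

namespace Groth.Agent.S0336

/-- Flatness over a ring passes to its localization. -/
theorem flat_of_tower {R L : Type u} [CommRing R] [CommRing L] {A : Type u} [CommRing A] [Algebra R L]
    (S : Submonoid R) [IsLocalization S L] (g : R →+* L) (f : L →+* A) (h : (f.comp g).Flat)
    (hg : g = algebraMap R L := by rfl) : f.Flat := by
  subst hg
  letI : Algebra L A := f.toAlgebra
  letI : Algebra R A := (f.comp (algebraMap R L)).toAlgebra
  haveI : IsScalarTower R L A := IsScalarTower.of_algebraMap_eq fun _ => rfl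
  exact (Module.flat_iff_of_isLocalization L S A).2 h

/-- Flatness can be checked at the maximal ideals of the target. -/
theorem flat_of_maximal {A B : Type u} [CommRing A] [CommRing B] [Algebra A B]
    (h : ∀ (P : Ideal B) [P.IsMaximal], ((algebraMap B (Localization.AtPrime P)).comp (algebraMap A B)).Flat) :
    Module.Flat A B :=
  Module.flat_of_isLocalized_maximal B B (fun P _ => Localization.AtPrime P)
    (fun P _ => Algebra.linearMap B (Localization.AtPrime P)) fun P _ => by
      rw [← RingHom.flat_algebraMap_iff, IsScalarTower.algebraMap_eq A B (Localization.AtPrime P)]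
      exact h P

theorem flat_localized {R : Type u} [CommRing R] (p : ℕ) [Fact p.Prime] [CharP R p] (P : Ideal R) [P.IsPrime]
    [CharP (Localization.AtPrime P) p] :
    ((algebraMap R (Localization.AtPrime P)).comp (frobenius R p)).Flat ↔
      (frobenius (Localization.AtPrime P) p).Flat := by
  have he : (algebraMap R (Localization.AtPrime P)).comp (frobenius R p) =
      (frobenius (Localization.AtPrime P) p).comp (algebraMap R (Localization.AtPrime P)) :=
    RingHom.ext fun x => by simp [frobenius_def]
  constructor
  · intro h
    rw [he] at h
    exact flat_of_tower (A := Localization.AtPrime P) P.primeCompl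
      (algebraMap R (Localization.AtPrime P)) (frobenius (Localization.AtPrime P) p) h
  · intro h
    rw [he]
    exact (RingHom.flat_algebraMap_iff.2 (IsLocalization.flat (Localization.AtPrime P) P.primeCompl)).comp h

/-- A Noetherian ring of prime characteristic p is regular exactly when its Frobenius endomorphism is
flat. -/
theorem result (p : ℕ) [Fact p.Prime] (R : Type u) [CommRing R] [IsNoetherianRing R] [CharP R p] : IsRegularRing R ↔ (frobenius R p).Flat := by
  classical
  have hchar : ∀ (P : Ideal R) [P.IsPrime], CharP (Localization.AtPrime P) p := fun P _ =>
    (CharP.charP_iff_prime_eq_zero Fact.out).2 (by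
      rw [← map_natCast (algebraMap R (Localization.AtPrime P)), CharP.cast_eq_zero, map_zero])
  constructor
  · intro hR
    exact @flat_of_maximal R R _ _ (frobenius R p).toAlgebra fun P hP => by
      haveI := hchar P
      haveI := IsRegularRing.isRegularLocalRing_localization (R := R) P
      exact (flat_localized p P).2 (KunzLib.flat_of_isRegularLocalRing p)
  · intro h
    refine { isRegularLocalRing_localization := fun P _ => ?_ }
    haveI := hchar P
    exact KunzLib.isRegularLocalRing_of_flat p ((flat_localized p P).1
      (h.comp (RingHom.flat_algebraMap_iff.2 (IsLocalization.flat (Localization.AtPrime P) P.primeCompl))))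

end Groth.Agent.S0336
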