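import Groth.Statements.S0337

-- import your own Groth.Agent.* helpers here

set_option autoImplicit false
universe u v
open CategoryTheory
open LocCoh

namespace Groth.Agent.S0337

theorem exists_min {R : Type u} [CommRing R] [IsLocalRing R] (M : Type u) [AddCommGroup M] [Module R M]
    [Module.Finite R M] : ∃ (n : ℕ) (π : (Fin n → R) →ₗ[R] M), Function.Surjective π ∧
      ∀ x ∈ LinearMap.ker π, ∀ i, x i ∈ IsLocalRing.maximalIdeal R := by
  classical
  have hex : ∃ n, ∃ π : (Fin n → R) →ₗ[R] M, Function.Surjective π := Module.Finite.exists_fin' R M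
  refine ⟨Nat.find hex, ?_⟩
  obtain ⟨π, hπ⟩ := Nat.find_spec hex
  refine ⟨π, hπ, fun x hx i => ?_⟩
  by_contra hc
  have hu : IsUnit (x i) := by simpa [IsLocalRing.mem_maximalIdeal, mem_nonunits_iff] using hc
  obtain ⟨c, hc'⟩ := hu.exists_left_inv
  revert π x i c
  generalize hN : Nat.find hex = N
  intro π hπ x hx i hc hu c hc'
  cases N with
  | zero => exact i.elim0
  | succ n =>
    let ι : (Fin n → R) →ₗ[R] (Fin (n + 1) → R) :=
      LinearMap.pi fun j => (Fin.insertNth (α := fun _ => (Fin n → R) →ₗ[R] R) i 0 (fun k => LinearMap.proj k) j)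
    refine Nat.find_min hex (m := n) (by omega) ⟨π ∘ₗ ι, fun y => ?_⟩
    obtain ⟨z, rfl⟩ := hπ y
    refine ⟨fun k => (z - (z i * c) • x) (i.succAbove k), ?_⟩
    have : ι (fun k => (z - (z i * c) • x) (i.succAbove k)) = z - (z i * c) • x := by
      funext j
      rcases Fin.eq_self_or_eq_succAbove i j with rfl | ⟨k, rfl⟩
      · simp [ι, mul_assoc, hc']
      · simp [ι]
    rw [LinearMap.comp_apply, this, map_sub, map_smul, LinearMap.mem_ker.1 hx, smul_zero, sub_zero]

set_option backward.isDefEq.respectTransparency false in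
theorem exists_surjective_ker_le {R S : Type u} [CommRing R] [CommRing S] (f : R →+* S) (M : Type u)
    [AddCommGroup M] [Module R M] {n : ℕ} (π : (Fin n → R) →ₗ[R] M) (hπ : Function.Surjective π) (J : Ideal R)
    (hJ : ∀ x ∈ LinearMap.ker π, ∀ i, x i ∈ J) :
    ∃ π' : (Fin n → S) →ₗ[S] ((ModuleCat.extendScalars f).obj (ModuleCat.of R M)),
      Function.Surjective π' ∧ ∀ x ∈ LinearMap.ker π', ∀ i, x i ∈ J.map f := by
  classical
  let adj := ModuleCat.extendRestrictScalarsAdj.{u} f
  let E := (ModuleCat.extendScalars f).obj (ModuleCat.of R M)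
  let u : M → E := fun m => adj.unit.app (ModuleCat.of R M) m
  let π' : (Fin n → S) →ₗ[S] E := Fintype.linearCombination S (M := E) fun i => u (π (Pi.single i 1))
  refine ⟨π', ?_, fun x hx i => ?_⟩
  · let Q := ModuleCat.of S (E ⧸ LinearMap.range π')
    let q : E ⟶ Q := ModuleCat.ofHom (LinearMap.range π').mkQ
    let w := adj.homEquiv _ _ q
    have hw : ∀ m : M, w m = 0 := by
      intro m
      obtain ⟨z, rfl⟩ := hπ m
      have : w.hom ∘ₗ π = 0 := by
        refine (Pi.basisFun R (Fin n)).ext fun i => ?_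
        rw [Pi.basisFun_apply]
        exact (Submodule.Quotient.mk_eq_zero _).2 ⟨Pi.single i 1, by simp [π', u, adj]; rfl⟩
      exact LinearMap.congr_fun this z
    have hq : q = 0 := ModuleCat.ExtendScalars.hom_ext (f := f) (M := ModuleCat.of R M) fun m => hw m
    intro y
    exact (Submodule.Quotient.mk_eq_zero _).1 (LinearMap.congr_fun (congrArg ModuleCat.Hom.hom hq) y)
  · let I := J.map f
    let T : Fin n → R →+* S ⧸ I := fun _ => (Ideal.Quotient.mk I).comp f
    have wd : ∀ a b : Fin n → R, π a = π b → ∀ k, T k (a k) = T k (b k) := fun a b hab k => by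
      have h1 : a - b ∈ LinearMap.ker π := by simp [hab]
      exact Ideal.Quotient.eq.2 (map_sub f _ _ ▸ Ideal.mem_map_of_mem f (hJ _ h1 k))
    let N := ModuleCat.of S (Fin n → S ⧸ I)
    let g : M →ₗ[R] ((ModuleCat.restrictScalars f).obj N) :=
      { toFun := fun m k => T k (Classical.choose (hπ m) k)
        map_add' := fun a b => funext fun k => by
          rw [Pi.add_apply, ← map_add, ← Pi.add_apply]
          exact wd _ _ (by rw [map_add, Classical.choose_spec (hπ _), Classical.choose_spec (hπ _),
            Classical.choose_spec (hπ _)]) k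
        map_smul' := fun r a => funext fun k => by
          refine (wd _ (r • Classical.choose (hπ a))
            (by rw [map_smul, Classical.choose_spec (hπ _), Classical.choose_spec (hπ _)]) k).trans ?_
          show T k (r * _) = f r • T k _
          rw [map_mul]
          rfl }
    let h : E ⟶ N := (adj.homEquiv _ _).symm (ModuleCat.ofHom
      (Y := (ModuleCat.restrictScalars f).obj N) g)
    have hu : ∀ m, h (u m) = g m := fun m => by
      have h1 : adj.unit.app (ModuleCat.of R M) ≫ (ModuleCat.restrictScalars f).map h = ModuleCat.ofHom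
          (Y := (ModuleCat.restrictScalars f).obj N) g := by
        exact (adj.homEquiv_unit (f := h)).symm.trans (Equiv.apply_symm_apply _ _)
      exact LinearMap.congr_fun (congrArg ModuleCat.Hom.hom h1) m
    have key : h.hom ∘ₗ π' = LinearMap.pi fun k => (Ideal.Quotient.mkₐ S I).toLinearMap ∘ₗ LinearMap.proj k := by
      refine (Pi.basisFun S (Fin n)).ext fun j => funext fun k => ?_
      rw [Pi.basisFun_apply, LinearMap.comp_apply, Fintype.linearCombination_apply_single, one_smul, hu]
      show T k (Classical.choose (hπ _) k) = _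
      rw [wd _ _ (Classical.choose_spec (hπ _)) k]
      show T k _ = Ideal.Quotient.mk I (Pi.single (M := fun _ => S) j 1 k)
      rcases eq_or_ne k j with rfl | hne <;> simp [T, *]
    have := congrFun (LinearMap.congr_fun key x) i
    rw [LinearMap.comp_apply, LinearMap.mem_ker.1 hx, map_zero] at this
    exact Ideal.Quotient.eq_zero_iff_mem.1 this.symm


/-- Over a Noetherian local ring of prime characteristic p, a finite module isomorphic to its own base
change along Frobenius is free. -/
theorem result (p : ℕ) [Fact p.Prime] (R : Type u) [CommRing R] [IsLocalRing R] [IsNoetherianRing R] [CharP R p] (M : Type u) [AddCommGroup M] [Module R M] [Module.Finite R M] (h : Nonempty ((ModuleCat.extendScalars (frobenius R p)).obj (ModuleCat.of R M) ≅ ModuleCat.of R M)) : Module.Free R M := by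
  obtain ⟨e⟩ := h
  obtain ⟨n, π, hπ, hmin⟩ := exists_min (R := R) M
  let J : Ideal R := Ideal.span {a | ∃ x ∈ LinearMap.ker π, ∃ i, x i = a}
  obtain ⟨π', hπ', hker⟩ := exists_surjective_ker_le (frobenius R p) M π hπ J
    fun x hx i => Ideal.subset_span ⟨x, hx, i, rfl⟩
  let ρ : (Fin n → R) →ₗ[R] M := e.toLinearEquiv.toLinearMap ∘ₗ π'
  obtain ⟨g, hg⟩ := Module.projective_lifting_property π ρ hπ
  have hJm : J ≤ IsLocalRing.maximalIdeal R := Ideal.span_le.2 fun a ⟨x, hx, i, ha⟩ => ha ▸ hmin x hx i
  have hgs : Function.Surjective g := by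
    rw [← LinearMap.range_eq_top]
    refine eq_top_iff.2 (Submodule.le_of_le_smul_of_le_jacobson_bot (I := IsLocalRing.maximalIdeal R)
      (Module.Finite.fg_top) (IsLocalRing.maximalIdeal_le_jacobson _) fun z _ => ?_)
    obtain ⟨w, hw⟩ := hπ' (e.inv.hom (π z))
    have hρw : ρ w = π z := by
      show e.hom.hom (π' w) = π z
      rw [hw]
      exact e.inv_hom_id_apply (π z)
    have hdiff : z - g w ∈ LinearMap.ker π := by
      rw [LinearMap.mem_ker, map_sub, ← LinearMap.comp_apply, hg, hρw, sub_self]
    rw [Submodule.mem_sup]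
    refine ⟨g w, ⟨w, rfl⟩, z - g w, ?_, add_sub_cancel _ _⟩
    rw [pi_eq_sum_univ (z - g w)]
    exact Submodule.sum_mem _ fun i _ => Submodule.smul_mem_smul (hmin _ hdiff i) Submodule.mem_top
  have hJle : J ≤ IsLocalRing.maximalIdeal R • J := by
    refine Ideal.span_le.2 fun a ⟨x, hx, i, ha⟩ => ?_
    obtain ⟨w, hw⟩ := hgs x
    have hw0 : π' w = 0 := by
      have h1 : ρ w = 0 := by rw [← hg, LinearMap.comp_apply, hw, LinearMap.mem_ker.1 hx]
      exact e.toLinearEquiv.map_eq_zero_iff.1 h1
    have hgen : ∀ k, w k ∈ IsLocalRing.maximalIdeal R • J := fun k => by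
      refine Ideal.map_le_iff_le_comap.2 (fun b hb => ?_) (hker w (LinearMap.mem_ker.2 hw0) k)
      have hp : p = (p - 1) + 1 := by have := (Fact.out : p.Prime).one_lt; omega
      rw [Ideal.mem_comap, frobenius_def, hp, pow_succ]
      exact Submodule.smul_mem_smul (Ideal.pow_mem_of_mem _ (hJm hb) _
        (by have := (Fact.out : p.Prime).one_lt; omega)) hb
    rw [← ha, ← hw, pi_eq_sum_univ w, map_sum, Finset.sum_apply]
    refine Submodule.sum_mem _ fun k _ => ?_
    rw [map_smul, Pi.smul_apply, smul_eq_mul]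
    exact Ideal.mul_mem_right _ _ (hgen k)
  have hJ0 : J = ⊥ := Submodule.eq_bot_of_le_smul_of_le_jacobson_bot _ J (IsNoetherian.noetherian J) hJle
    (IsLocalRing.maximalIdeal_le_jacobson _)
  have hinj : Function.Injective π := LinearMap.ker_eq_bot.1 <| (Submodule.eq_bot_iff _).2 fun x hx =>
    funext fun i => by
      have : x i ∈ J := Ideal.subset_span ⟨x, hx, i, rfl⟩
      rwa [hJ0, Submodule.mem_bot] at this
  exact Module.Free.of_equiv (LinearEquiv.ofBijective π ⟨hinj, hπ⟩)


end Groth.Agent.S0337
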