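import Groth.Statements.S0338
import Groth.Agent.FrobTorsLib.Basic

set_option autoImplicit false
universe u v
open CategoryTheory
open LocCoh
set_option linter.style.haveILetI false

namespace Groth.Agent.S0338

/-- Over a regular local ring of prime characteristic p, let M be a module killed elementwise by powers
of the maximal ideal and isomorphic to its own base change along Frobenius; then M is isomorphic to
a (possibly infinite) sum of copies of E, where E is an injective hull of the residue field. -/
theorem result (p : ℕ) [Fact p.Prime] (R : Type u) [CommRing R] [IsRegularLocalRing R] [CharP R p] (E : Type u) [AddCommGroup E] [Module R E] (f : IsLocalRing.ResidueField R →ₗ[R] E) (hf : InjHull.IsInjectiveHull f) (M : Type u) [AddCommGroup M] [Module R M] (hM : LocCoh.IsPowerTorsion (IsLocalRing.maximalIdeal R) M) (h : Nonempty ((ModuleCat.extendScalars (frobenius R p)).obj (ModuleCat.of R M) ≅ ModuleCat.of R M)) : ∃ ι : Type u, Nonempty (M ≃ₗ[R] (ι →₀ E)) := by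
  classical
  haveI : Nontrivial R := inferInstance
  let m := IsLocalRing.maximalIdeal R
  letI := Ideal.Quotient.field (IsLocalRing.maximalIdeal R)
  let T := LocCoh.torsionBy (IsLocalRing.maximalIdeal R) M
  let ι : Type u := Module.Basis.ofVectorSpaceIndex (R ⧸ IsLocalRing.maximalIdeal R) T
  let b : T ≃ₗ[R] (ι →₀ R ⧸ IsLocalRing.maximalIdeal R) :=
    (Module.Basis.ofVectorSpace (R ⧸ IsLocalRing.maximalIdeal R) T).repr.restrictScalars R
  refine ⟨ι, ?_⟩
  -- `M` is injective
  have hMinj : Module.Injective R M := by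
    refine InjHullLib.injective_of_powerTorsion_extend hM fun a g k hg => ?_
    obtain ⟨J, hJ, hle, ⟨bJ⟩⟩ := FrobTorsLib.exists_free_torsion p h b k
    haveI hJinj := FrobTorsLib.socCyclic_quotient p k J hJ
    have hg' : ∀ x : a, (x : R) ∈ J → g x = 0 := fun x hx =>
      hg x (Ideal.pow_le_pow_right (Nat.lt_pow_self (Fact.out : p.Prime).one_lt).le (hle hx))
    have hgJ : ∀ x : a, g x ∈ Submodule.torsionBySet R M (J : Set R) := fun x =>
      (Submodule.mem_torsionBySet_iff _ _).2 fun r => by
        rw [← map_smul]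
        exact hg' _ (Ideal.mul_mem_right _ _ r.2)
    let abar : Ideal (R ⧸ J) := a.map (Ideal.Quotient.mk J)
    let π : a →ₗ[R] abar :=
      { toFun := fun x => ⟨Ideal.Quotient.mk J x, Ideal.mem_map_of_mem _ x.2⟩
        map_add' := fun x y => Subtype.ext rfl
        map_smul' := fun r x => Subtype.ext rfl }
    have hπ : Function.Surjective π := fun y => by
      obtain ⟨x, hx, hxy⟩ := (Ideal.mem_map_iff_of_surjective _ Ideal.Quotient.mk_surjective).1 y.2
      exact ⟨⟨x, hx⟩, Subtype.ext hxy⟩
    let g₁ : a →ₗ[R] (ι →₀ R ⧸ J) := bJ.toLinearMap ∘ₗ g.codRestrict _ hgJ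
    have hker : LinearMap.ker π ≤ LinearMap.ker g₁ := fun x hx => by
      have h1 : (x : R) ∈ J := Ideal.Quotient.eq_zero_iff_mem.1 (congrArg Subtype.val hx)
      show bJ _ = 0
      rw [show g.codRestrict _ hgJ x = 0 from Subtype.ext (hg' x h1), map_zero]
    let g₂ : abar →ₗ[R] (ι →₀ R ⧸ J) := (LinearMap.ker π).liftQ g₁ hker ∘ₗ (π.quotKerEquivOfSurjective hπ).symm.toLinearMap
    have hinj : Module.Injective (R ⧸ J) (ι →₀ R ⧸ J) :=
      InjHullLib.injective_of_equiv (InjHullLib.injective_directSum (fun _ : ι => R ⧸ J) fun _ => hJinj)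
        (finsuppLEquivDirectSum (R ⧸ J) (R ⧸ J) ι).symm
    obtain ⟨h₂, hh₂⟩ := Module.Baer.of_injective hinj abar
      (LinearMap.extendScalarsOfSurjective (Ideal.Quotient.mk_surjective (I := J)) g₂)
    refine ⟨(Submodule.subtype _) ∘ₗ bJ.symm.toLinearMap ∘ₗ h₂.restrictScalars R ∘ₗ (Algebra.linearMap R (R ⧸ J)),
      fun x => ?_⟩
    have h3 : h₂ (Ideal.Quotient.mk J x) = g₁ x := by
      refine (hh₂ _ (Ideal.mem_map_of_mem _ x.2)).trans ?_
      show g₂ (π x) = g₁ x
      show (LinearMap.ker π).liftQ g₁ hker ((π.quotKerEquivOfSurjective hπ).symm (π x)) = g₁ x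
      rw [LinearMap.quotKerEquivOfSurjective_symm_apply, Submodule.liftQ_apply]
    show ((bJ.symm (h₂ (Ideal.Quotient.mk J x)) : Submodule.torsionBySet R M (J : Set R)) : M) = g x
    rw [h3]
    show ((bJ.symm (bJ _) : Submodule.torsionBySet R M (J : Set R)) : M) = g x
    rw [LinearEquiv.symm_apply_apply]
    rfl
  -- comparison with the sum of copies of `E`
  have hE' : LocCoh.IsPowerTorsion (IsLocalRing.maximalIdeal R) (ι →₀ E) := fun y => by
    choose n hn using fun i => InjHullLib.isPowerTorsion_hull_local hf (y i)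
    refine ⟨y.support.sup n, fun a ha => Finsupp.ext fun i => ?_⟩
    by_cases hi : i ∈ y.support
    · exact hn i a (Ideal.pow_le_pow_right (Finset.le_sup hi) ha)
    · rw [Finsupp.smul_apply, Finsupp.notMem_support_iff.1 hi, smul_zero]; rfl
  have hEinj : Module.Injective R (ι →₀ E) :=
    InjHullLib.injective_of_equiv (InjHullLib.injective_directSum (fun _ : ι => E) fun _ => hf.isInjective)
      (finsuppLEquivDirectSum R E ι).symm
  let s : T →ₗ[R] (ι →₀ E) := Finsupp.mapRange.linearMap f ∘ₗ b.toLinearMap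
  have hs : Function.Injective s := (Finsupp.mapRange_injective f (map_zero f) hf.injective).comp b.injective
  obtain ⟨ψ, hψ⟩ := InjHullLib.exists_extend hEinj T.subtype (Submodule.injective_subtype _) s
  have hψinj : Function.Injective ψ :=
    InjHullLib.injective_of_comp_essential (InjHullLib.socle_essential hM) ψ (by rw [hψ]; exact hs)
  obtain ⟨ρ, hρ⟩ := InjHullLib.exists_extend hMinj ψ hψinj LinearMap.id
  have hρψ : ∀ w, ρ (ψ w) = w := fun w => LinearMap.congr_fun hρ w
  have hsurj : Function.Surjective ψ := fun y => by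
    refine ⟨ρ y, sub_eq_zero.1 (by_contra fun hne => ?_)⟩
    obtain ⟨c, ⟨⟨z, hz⟩, hzc⟩, hc⟩ :=
      InjHullLib.exists_smul_mem_of_essential (InjHullLib.socle_essential hE') hne
    have hzi : ∀ i, z i ∈ LinearMap.range f := fun i => by
      rw [← InjHullLib.socle_eq_range hf]
      exact InjHullLib.mem_torsionBy_iff.2 fun a ha => by
        rw [← Finsupp.smul_apply, InjHullLib.mem_torsionBy_iff.1 hz a ha]; rfl
    choose w hw using hzi
    have hw0 : ∀ i, z i = 0 → w i = 0 := fun i hi => hf.injective (by rw [hw, hi, map_zero])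
    let w' : ι →₀ R ⧸ IsLocalRing.maximalIdeal R :=
      Finsupp.onFinset z.support w fun i hi => Finsupp.mem_support_iff.2 fun h0 => hi (hw0 i h0)
    have hz' : z = ψ (T.subtype (b.symm w')) := by
      rw [← LinearMap.comp_apply, hψ]
      ext i
      show z i = (Finsupp.mapRange f (map_zero f) (b (b.symm w'))) i
      rw [LinearEquiv.apply_symm_apply]
      exact (hw i).symm
    have h1 : ρ z = 0 := by
      have hzc' : z = c • (ψ (ρ y) - y) := hzc
      rw [hzc', map_smul, map_sub, hρψ, sub_self, smul_zero]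
    have h2 : ρ z = T.subtype (b.symm w') := by rw [hz', hρψ]
    have h3 : z = 0 := by rw [hz', ← h2, h1, map_zero]
    exact hc (hzc.symm.trans h3)
  exact ⟨LinearEquiv.ofBijective ψ ⟨hψinj, hsurj⟩⟩

end Groth.Agent.S0338
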