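import Groth.Statements.S0358
import Mathlib
import Groth.Agent.CMFlatLib.FibreDepth
-- import your own Groth.Agent.* helpers here

set_option autoImplicit false
universe u v
open LocCoh

namespace Groth.Agent.S0358

/-- For a flat local homomorphism R → S of Noetherian local rings whose closed fibre S/m_R S is
Cohen–Macaulay, and a proper ideal I of S, the I-depth of S is at least dim(S/m_R S) − dim(S/(m_R S
+ I)); stated additively. -/
theorem result (R : Type u) [CommRing R] [IsLocalRing R] [IsNoetherianRing R] (S : Type u) [CommRing S] [IsLocalRing S] [IsNoetherianRing S] [Algebra R S] [IsLocalHom (algebraMap R S)] [Module.Flat R S] (hCM : LocCoh.IsCohenMacaulayLocalRing (S ⧸ (IsLocalRing.maximalIdeal R).map (algebraMap R S))) (I : Ideal S) (hI : I ≠ ⊤) : ringKrullDim (S ⧸ (IsLocalRing.maximalIdeal R).map (algebraMap R S)) ≤ ringKrullDim (S ⧸ ((IsLocalRing.maximalIdeal R).map (algebraMap R S) ⊔ I)) + ((LocCoh.idealDepth I S : ℕ∞) : WithBot ℕ∞) := by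
  have hJ : (IsLocalRing.maximalIdeal R).map (algebraMap R S) ≠ ⊤ := GorLib.map_maximalIdeal_ne_top R S
  haveI : IsLocalRing (GorLib.Fib R S) := GorLib.isLocalRing_quotient hJ
  have hI' : I ≤ IsLocalRing.maximalIdeal S := IsLocalRing.le_maximalIdeal hI
  have hF := (CMFlatLib.isCohenMacaulayLocalRing_iff_isCM (GorLib.Fib R S)).1 hCM
  let π := Ideal.Quotient.mk ((IsLocalRing.maximalIdeal R).map (algebraMap R S))
  have hIm : I.map π ≤ IsLocalRing.maximalIdeal (GorLib.Fib R S) := by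
    rw [GorLib.maximalIdeal_quotient]
    exact Ideal.map_mono hI'
  rw [← ringKrullDim_eq_of_ringEquiv (DoubleQuot.quotQuotEquivQuotSup ((IsLocalRing.maximalIdeal R).map (algebraMap R S)) I)]
  haveI : Nontrivial (GorLib.Fib R S ⧸ I.map π) :=
    Ideal.Quotient.nontrivial_iff.2 (ne_top_of_le_ne_top (IsLocalRing.maximalIdeal.isMaximal _).ne_top hIm)
  obtain ⟨a, ha⟩ := CommAlgDim.exists_ringKrullDim_eq (R := GorLib.Fib R S)
  obtain ⟨c, hc⟩ := CommAlgDim.exists_ringKrullDim_eq (R := GorLib.Fib R S ⧸ I.map π)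
  change ringKrullDim (GorLib.Fib R S) ≤ ringKrullDim (GorLib.Fib R S ⧸ I.map π) + _
  rw [ha, hc]
  by_cases hac : a ≤ c
  · calc ((a : ℕ) : WithBot ℕ∞) ≤ (c : ℕ) := by exact_mod_cast hac
      _ ≤ _ := le_add_of_nonneg_right (by exact_mod_cast bot_le)
  obtain ⟨n, rfl⟩ : ∃ n, a = c + n := ⟨a - c, by omega⟩
  have h := CMFlatLib.hasSeqIn_of_isCM n (GorLib.Fib R S) (I.map π) hF hIm (by rw [ha, hc]; push_cast; exact le_rfl)
  have h2 := (CommAlgDim.le_idealDepth_iff I n).2 (CMFlatLib.hasSeqIn_of_fib n R S I hI' h)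
  push_cast
  exact add_le_add le_rfl (WithBot.coe_le_coe.2 h2)

end Groth.Agent.S0358
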