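import Groth.Statements.S0359
import Groth.Agent.CommAlgDim.Depth
-- import your own Groth.Agent.* helpers here

set_option autoImplicit false
universe u v
open LocCoh

namespace Groth.Agent.S0359

open CommAlgDim Pointwise IsLocalRing in
theorem spread {A : Type u} [CommRing A] [IsNoetherianRing A] (p : Ideal A) [p.IsPrime] :
    ∀ (n : ℕ) (M : Type u) [AddCommGroup M] [Module A M] [Module.Finite A M],
      HasSeqIn (maximalIdeal (Localization.AtPrime p)) (LocalizedModule p.primeCompl M) n →
      ∃ s : A, s ∉ p ∧ ∃ F : Set (Ideal A), F.Finite ∧ ∀ (q : Ideal A) [q.IsPrime], p ≤ q → s ∉ q →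
        HasSeqIn (maximalIdeal (Localization.AtPrime q)) (LocalizedModule q.primeCompl M) n ∧
        (q ∉ F → HasSeqIn (maximalIdeal (Localization.AtPrime q)) (LocalizedModule q.primeCompl M) (n + 1)) := by
  intro n
  induction n with
  | zero =>
    intro M _ _ _ _
    refine ⟨1, fun h => Ideal.IsPrime.ne_top ‹_› ((Ideal.eq_top_iff_one _).2 h), associatedPrimes A M,
      associatedPrimes.finite A M, fun q _ _ _ => ⟨hasSeqIn_zero _, fun hq => ?_⟩⟩
    haveI : IsNoetherianRing (Localization.AtPrime q) := IsLocalization.isNoetherianRing q.primeCompl _ inferInstance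
    refine (hasSeqIn_one_iff _).2 fun P hP hle => hq ?_
    have h1 := Module.associatedPrimes.comap_mem_associatedPrimes_of_mem_associatedPrimes_of_isLocalizedModule_of_fg
      q.primeCompl (LocalizedModule.mkLinearMap q.primeCompl M) P hP (IsNoetherian.noetherian _)
    rw [le_antisymm (le_maximalIdeal hP.isPrime.ne_top) hle] at h1
    exact (Localization.AtPrime.under_maximalIdeal (I := q)) ▸ h1
  | succ n ih =>
    intro M _ _ _ h
    haveI : IsNoetherianRing (Localization.AtPrime p) := IsLocalization.isNoetherianRing p.primeCompl _ inferInstance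
    obtain ⟨rs, hl, hm, hr⟩ := h.mono (Nat.le_add_left 1 n)
    obtain ⟨y, rfl⟩ := List.length_eq_one_iff.1 hl
    rw [RingTheory.Sequence.isWeaklyRegular_singleton_iff] at hr
    obtain ⟨⟨a, t⟩, hat⟩ := IsLocalization.surj p.primeCompl y
    have ha : a ∈ p := (IsLocalization.AtPrime.to_map_mem_maximal_iff (Localization.AtPrime p) p a).1 (hat ▸ Ideal.mul_mem_right _ _ (hm y (List.mem_singleton_self y)))
    have hareg : IsSMulRegular (LocalizedModule p.primeCompl M) (algebraMap A (Localization.AtPrime p) a) := by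
      rw [← hat, mul_comm]
      exact ((IsLocalization.map_units (Localization.AtPrime p) t).isSMulRegular _).mul hr
    let K : Submodule A M := LinearMap.ker (LinearMap.lsmul A M a)
    have hK : ∀ x ∈ K, ∃ s : A, s ∉ p ∧ s • x = 0 := by
      intro x hx
      have hx' : a • x = 0 := hx
      have h0 : LocalizedModule.mkLinearMap p.primeCompl M x = 0 := hareg (by
        show algebraMap A (Localization.AtPrime p) a • _ = algebraMap A (Localization.AtPrime p) a • 0
        rw [smul_zero, algebraMap_smul, ← map_smul, hx', map_zero])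
      obtain ⟨s, hs⟩ := (IsLocalizedModule.eq_zero_iff p.primeCompl _).1 h0
      exact ⟨s, s.2, hs⟩
    obtain ⟨T, hT⟩ := (IsNoetherian.noetherian K : K.FG)
    choose s hs hsx using fun x : T => hK x.1 (hT ▸ Submodule.subset_span x.2)
    let s0 : A := ∏ x : T, s x
    have hs0 : s0 ∉ p := fun hmem => by
      obtain ⟨x, -, hx⟩ := (Ideal.IsPrime.prod_mem_iff (p := p)).1 hmem
      exact hs x hx
    have hs0K : ∀ x ∈ K, s0 • x = 0 := by
      intro x hx
      rw [← hT] at hx
      refine Submodule.span_induction (fun z hz => ?_) (smul_zero _) (fun u v _ _ hu hv => by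
        rw [smul_add, hu, hv, add_zero]) (fun c u _ hu => by rw [smul_comm, hu, smul_zero]) hx
      obtain ⟨c, hc⟩ : s ⟨z, hz⟩ ∣ s0 := Finset.dvd_prod_of_mem _ (Finset.mem_univ _)
      rw [hc, mul_comm, mul_smul]
      exact (congrArg (c • ·) (hsx ⟨z, hz⟩)).trans (smul_zero c)
    obtain ⟨e⟩ := exists_quot_equiv (M := M) p a
    obtain ⟨s1, hs1, F, hF, hq⟩ := ih (QuotSMulTop a M) (HasSeqIn.congr e.symm
      (h.quotSMulTop ((IsLocalization.AtPrime.to_map_mem_maximal_iff (Localization.AtPrime p) p a).2 ha) hareg))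
    refine ⟨s0 * s1, fun hmem => (Ideal.IsPrime.mem_or_mem ‹_› hmem).elim hs0 hs1, F, hF, fun q _ hpq hsq => ?_⟩
    haveI : IsNoetherianRing (Localization.AtPrime q) := IsLocalization.isNoetherianRing q.primeCompl _ inferInstance
    obtain ⟨e'⟩ := exists_quot_equiv (M := M) q a
    have hreg : IsSMulRegular (LocalizedModule q.primeCompl M) (algebraMap A (Localization.AtPrime q) a) := by
      refine IsSMulRegular.of_right_eq_zero_of_smul fun z hz => ?_
      induction z using LocalizedModule.induction_on with | _ m u => ?_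
      rw [algebraMap_smul, LocalizedModule.smul'_mk, IsLocalizedModule.mk_eq_mk', IsLocalizedModule.mk'_eq_zero'] at hz
      obtain ⟨w, hw⟩ := hz
      rw [IsLocalizedModule.mk_eq_mk', IsLocalizedModule.mk'_eq_zero']
      refine ⟨⟨s0, fun h' => hsq (q.mul_mem_right _ h')⟩ * w, ?_⟩
      rw [Submonoid.smul_def, Submonoid.coe_mul, mul_smul]
      exact hs0K _ (show a • ((w : A) • m) = 0 by rw [smul_comm]; exact hw)
    have haq := (IsLocalization.AtPrime.to_map_mem_maximal_iff (Localization.AtPrime q) q a).2 (hpq ha)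
    obtain ⟨h1, h2⟩ := hq q hpq fun h' => hsq (q.mul_mem_left _ h')
    exact ⟨hasSeqIn_succ_of_cons haq hreg (HasSeqIn.congr e' h1),
      fun hqF => hasSeqIn_succ_of_cons haq hreg (HasSeqIn.congr e' (h2 hqF))⟩

/-- For a finite module M over a Noetherian ring and a prime p with depth(M_p) = e finite, there is a
basic open neighbourhood of p in V(p) on which the depth of the localizations of M is at least e,
and it exceeds e at all but finitely many of those primes. -/
theorem result (R : Type u) [CommRing R] [IsNoetherianRing R] (M : Type u) [AddCommGroup M] [Module R M] [Module.Finite R M] (p : Ideal R) [p.IsPrime] (e : ℕ) (he : LocCoh.depth (Localization.AtPrime p) (LocalizedModule p.primeCompl M) = e) : ∃ f : R, f ∉ p ∧ (∀ (q : Ideal R) [q.IsPrime], p ≤ q → f ∉ q → (e : ℕ∞) ≤ LocCoh.depth (Localization.AtPrime q) (LocalizedModule q.primeCompl M)) ∧ {q : PrimeSpectrum R | p ≤ q.asIdeal ∧ f ∉ q.asIdeal ∧ LocCoh.depth (Localization.AtPrime q.asIdeal) (LocalizedModule q.asIdeal.primeCompl M) = e}.Finite := by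
  haveI : IsNoetherianRing (Localization.AtPrime p) :=
    IsLocalization.isNoetherianRing p.primeCompl _ inferInstance
  obtain ⟨s, hs, F, hF, hq⟩ := spread p e M ((CommAlgDim.le_depth_iff e).1 he.ge)
  refine ⟨s, hs, fun q _ hpq hsq => ?_, (hF.preimage fun a _ b _ h => PrimeSpectrum.ext h).subset fun q h => ?_⟩
  · haveI : IsNoetherianRing (Localization.AtPrime q) := IsLocalization.isNoetherianRing q.primeCompl _ inferInstance
    exact (CommAlgDim.le_depth_iff e).2 (hq q hpq hsq).1
  · obtain ⟨hpq, hsq, hd⟩ := h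
    haveI : IsNoetherianRing (Localization.AtPrime q.asIdeal) := IsLocalization.isNoetherianRing q.asIdeal.primeCompl _ inferInstance
    by_contra hqF
    have h1 := (CommAlgDim.le_depth_iff (e + 1)).2 ((hq q.asIdeal hpq hsq).2 hqF)
    rw [hd] at h1
    have h2 : e + 1 ≤ e := by exact_mod_cast h1
    omega

end Groth.Agent.S0359
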