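import Groth.Statements.S0361
import Groth.Agent.TorARLib.Vanish

set_option autoImplicit false
universe u v
open CategoryTheory
open LocCoh

namespace Groth.Agent.S0361

/-- For an ideal I of a Noetherian ring generated by at most t elements there are N, c ≥ 0 such that for
every module M and every n ≥ N the map Tor_{t+1}(M, R/I^n) → Tor_{t+1}(M, R/I^{n−c}) is zero. -/
theorem result (R : Type u) [CommRing R] [IsNoetherianRing R] (I : Ideal R) (t : ℕ) (s : Finset R) (hs : I = Ideal.span (s : Set R)) (ht : s.card ≤ t) : ∃ N c : ℕ, ∀ (M : Type u) [AddCommGroup M] [Module R M], ∀ n : ℕ, N ≤ n → (((Tor (ModuleCat.{u} R) (t + 1)).obj (ModuleCat.of R M)).map (ModuleCat.ofHom (Submodule.mapQ (I ^ n) (I ^ (n - c)) LinearMap.id (Ideal.pow_le_pow_right (Nat.sub_le n c))))) = 0 := by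
  obtain ⟨f, hf⟩ := TorARLib.exists_span_range_eq s
  obtain ⟨c, hc⟩ := TorARLib.exists_tor_map_eq_zero_high (TorARLib.polyRes R s.card) f
    (I := I) (hs.trans hf)
  refine ⟨c, c, fun M _ _ n hn => ?_⟩
  exact hc (ModuleCat.of R M) (t + 1) (n - c) n (by omega) (by omega)

end Groth.Agent.S0361
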