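import Groth.Statements.S0363
import Groth.Agent.GorTorLib.Basic
import Groth.Agent.S0302
import Groth.Agent.S0341
import Groth.Agent.S11665
-- import your own Groth.Agent.* helpers here

set_option autoImplicit false
universe u v
open CategoryTheory
open Goren

namespace Groth.Agent.S0363

/-- Over a Gorenstein local ring of dimension d with E an injective hull of the residue field κ,
Tor_i(E, κ) vanishes for i ≠ d and Tor_d(E, κ) is isomorphic to κ. -/
theorem result (A : Type u) [CommRing A] [LocCoh.IsGorensteinLocalRing A] (d : ℕ) (hd : ringKrullDim A = d) (E : Type u) [AddCommGroup E] [Module A E] (f : IsLocalRing.ResidueField A →ₗ[A] E) (hf : InjHull.IsInjectiveHull f) : (∀ i : ℕ, i ≠ d → Limits.IsZero (((Tor (ModuleCat.{u} A) i).obj (ModuleCat.of A E)).obj (ModuleCat.of A (IsLocalRing.ResidueField A)))) ∧ Nonempty ((((Tor (ModuleCat.{u} A) d).obj (ModuleCat.of A E)).obj (ModuleCat.of A (IsLocalRing.ResidueField A))) ≅ ModuleCat.of A (IsLocalRing.ResidueField A)) := by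
  haveI := Groth.Agent.S0341.result A
  have hdep : LocCoh.depth A A = (d : ℕ∞) := by
    have h := LocCoh.IsCohenMacaulayLocalRing.supportDim_eq_depth (R := A)
    rw [Module.supportDim_self_eq_ringKrullDim, hd] at h
    exact_mod_cast h.symm
  obtain ⟨rs, hlen, hm, hreg⟩ := (CommAlgDim.le_idealDepth_iff (IsLocalRing.maximalIdeal A) d).1 hdep.ge
  have hrad : (Ideal.ofList rs).radical = (IsLocalRing.maximalIdeal A).radical := by
    have hR : RingTheory.Sequence.IsRegular A rs := (IsLocalRing.isRegular_iff_isWeaklyRegular_of_subset_maximalIdeal hm).2 hreg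
    have h0 := ringKrullDim_add_length_eq_ringKrullDim_of_isRegular rs hR
    rw [hlen, hd] at h0
    have hle : Ideal.ofList rs ≤ IsLocalRing.maximalIdeal A := Ideal.span_le.2 fun x hx => hm x hx
    haveI : Nontrivial (A ⧸ Ideal.ofList rs) := Ideal.Quotient.nontrivial_iff.2 fun h => (IsLocalRing.maximalIdeal.isMaximal A).ne_top (top_le_iff.1 (h ▸ hle))
    have hdim : ringKrullDim (A ⧸ Ideal.ofList rs) ≤ ((0 : ℕ) : WithBot ℕ∞) := by
      have h1 := h0
      revert h1
      generalize ringKrullDim (A ⧸ Ideal.ofList rs) = a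
      intro h1
      induction a using WithBot.recBotCoe with
      | bot => exact bot_le
      | coe a =>
        induction a using ENat.recTopCoe with
        | top =>
          rw [show ((d : WithBot ℕ∞)) = ((d : ℕ∞) : WithBot ℕ∞) from rfl, ← WithBot.coe_add, WithBot.coe_inj,
            top_add] at h1
          exact absurd h1.symm (ENat.coe_ne_top d)
        | coe a =>
          have h2 : a + d = d := by exact_mod_cast h1
          have h3 : a = 0 := by omega
          simp [h3]
    haveI : Ring.KrullDimLE 0 (A ⧸ Ideal.ofList rs) := (Ring.krullDimLE_iff (R := A ⧸ Ideal.ofList rs)).2 hdim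
    rw [(IsLocalRing.maximalIdeal.isMaximal A).isPrime.radical, Ideal.radical_eq_sInf]
    refine le_antisymm (sInf_le ⟨hle, inferInstance⟩) (le_sInf fun p hp => ?_)
    obtain ⟨hp, hpp⟩ := hp
    haveI := hpp
    have hker : RingHom.ker (Ideal.Quotient.mk (Ideal.ofList rs)) ≤ p := by rwa [Ideal.mk_ker]
    haveI := Ideal.map_isPrime_of_surjective Ideal.Quotient.mk_surjective hker
    have hmax : (p.map (Ideal.Quotient.mk (Ideal.ofList rs))).IsMaximal := inferInstance
    have h4 := Ideal.comap_isMaximal_of_surjective (Ideal.Quotient.mk (Ideal.ofList rs)) Ideal.Quotient.mk_surjective (K := p.map (Ideal.Quotient.mk (Ideal.ofList rs)))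
    rw [Ideal.comap_map_of_surjective' _ Ideal.Quotient.mk_surjective, sup_eq_left.2 hker] at h4
    exact (IsLocalRing.eq_maximalIdeal h4).ge
  subst hlen
  have hT := GorTorLib.conc_localCohomology rs hreg hm
  obtain ⟨g, hg⟩ := Groth.Agent.S11665.result A rs.length hd
  obtain ⟨e, -⟩ := Groth.Agent.S0302.result A (IsLocalRing.ResidueField A) E (LocCoh.H (IsLocalRing.maximalIdeal A) rs.length A) f hf g hg
  let e' : ModuleCat.of A (LocCoh.H (Ideal.ofList rs) rs.length A) ≅ ModuleCat.of A E := ((localCohomology.isoOfSameRadical hrad rs.length).app (ModuleCat.of A A)) ≪≫ e.toModuleIso.symm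
  exact hT.congr e'

end Groth.Agent.S0363
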