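import Groth.Statements.S0366
import Groth.Agent.DualCxLib.DimFnLocal

set_option autoImplicit false
universe u v
open CategoryTheory
attribute [local instance] HasDerivedCategory.standard
open Dual

namespace Groth.Agent.S0366

/-- Let A be a Noetherian local ring with a normalized dualizing complex ω and M a finite A-module whose
support has dimension d. Then for every integer i the A-module Ext^i(M, ω) = Hom_{D(A)}(M, ω[i]) is
nonzero only if −d ≤ i ≤ 0, and its support has dimension at most −i (read as 0 when i > 0). -/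
theorem result (A : Type u) [CommRing A] [IsLocalRing A] [IsNoetherianRing A] (ω : Dual.D A) (hω : Dual.IsDualizing A ω) (hn : Dual.IsNormalized A ω) (M : Type u) [AddCommGroup M] [Module A M] [Module.Finite A M] (d : ℕ) (hd : Module.supportDim A M = d) (i : ℤ) : (Nontrivial (Dual.inD A M ⟶ ω⟦i⟧) → (-(d : ℤ) ≤ i ∧ i ≤ 0)) ∧ Module.supportDim A (Dual.inD A M ⟶ ω⟦i⟧) ≤ ((-i).toNat : WithBot ℕ∞) := by
  refine ⟨fun h => ⟨?_, ?_⟩, Groth.Agent.DualCxLib.supportDim_ext_le hω hn M i⟩
  · by_contra hlt
    exact not_subsingleton_iff_nontrivial.2 h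
      (Groth.Agent.DualCxLib.subsingleton_ext_of_lt hω hn M d hd.le i (not_le.1 hlt))
  · by_contra hlt
    exact not_subsingleton_iff_nontrivial.2 h
      (Groth.Agent.DualCxLib.subsingleton_ext_of_pos hω hn M i (not_le.1 hlt))

end Groth.Agent.S0366
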