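import Groth.Statements.S0369
import Groth.Agent.DualCxLib.S2

set_option autoImplicit false
universe u v
open CategoryTheory
attribute [local instance] HasDerivedCategory.standard
open Dual

namespace Groth.Agent.S0369

/-- For a Noetherian local ring of dimension d with normalized dualizing complex ω, the module ω_A =
H^{−d}(ω) has support equal to the union of those irreducible components of Spec A whose dimension
is d, and satisfies Serre's condition (S_2). -/
theorem result (A : Type u) [CommRing A] [IsLocalRing A] [IsNoetherianRing A] (ω : Dual.D A) (hω : Dual.IsDualizing A ω) (hn : Dual.IsNormalized A ω) (d : ℕ) (hd : ringKrullDim A = d) : Module.support A (Dual.HD A ω (-(d : ℤ))) = {p : PrimeSpectrum A | ∃ q ∈ minimalPrimes A, q ≤ p.asIdeal ∧ ringKrullDim (A ⧸ q) = d} ∧ LocCoh.HasSk 2 A (Dual.HD A ω (-(d : ℤ))) := by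
  have h0 : DualCxLib.deg hω (DualCxLib.closedPt A) = 0 := by
    refine (DualCxLib.deg_eq_neg_dim hω hn _ 0 ?_).trans (by simp)
    rw [DualCxLib.ringKrullDim_quotient_eq hω, sub_self]
    rfl
  have hle : ∀ q, -(d : ℤ) ≤ DualCxLib.deg hω q := fun q => by
    have h1 := DualCxLib.ringKrullDim_quotient_eq hω q
    rw [h0] at h1
    have h2 : ringKrullDim (A ⧸ q.asIdeal) ≤ d :=
      hd ▸ ringKrullDim_le_of_surjective _ Ideal.Quotient.mk_surjective
    rw [h1] at h2
    have h3 : ((0 - DualCxLib.deg hω q).toNat) ≤ d := by exact_mod_cast h2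
    omega
  refine ⟨Set.ext fun p => ?_, DualCxLib.hasSk_two_lowest hω _ hle⟩
  rw [DualCxLib.mem_support_lowest hω _ hle p]
  constructor
  · rintro ⟨q, hqp, hq⟩
    refine ⟨q.asIdeal, DualCxLib.mem_minimalPrimes_of_deg_eq hω _ hle q hq, hqp, ?_⟩
    rw [DualCxLib.ringKrullDim_quotient_eq hω q, h0, hq]
    simp
  · rintro ⟨q, hq, hqp, hdim⟩
    exact ⟨⟨q, hq.1.1⟩, hqp, DualCxLib.deg_eq_neg_dim hω hn ⟨q, hq.1.1⟩ d hdim⟩

end Groth.Agent.S0369
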