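import Groth.Statements.S0382
import Groth.Agent.AbSchLib.NotEtale
import Groth.Agent.AbSchLib.MulN
import Groth.Agent.CubeConsLib.FieldHom

set_option autoImplicit false
universe u v
open CategoryTheory MonoidalCategory CartesianMonoidalCategory MonObj GrpObj AlgebraicGeometry
open GrpSch

namespace Groth.Agent.S0382

/-- On an abelian variety of positive dimension over a field K (a proper, geometrically integral group
scheme over K), multiplication by an integer d is étale exactly when d is nonzero in K.
Multiplication by d is written as the d-th power of the identity morphism in the group Hom(A, A),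
whose multiplication is pointwise, induced by the group structure of A. -/
theorem result (K : Type u) [Field K] (A : Over (Spec (CommRingCat.of K))) [GrpObj A] [IsProper A.hom] [GeometricallyIntegral A.hom] (hA : 0 < topologicalKrullDim A.left) (d : ℤ) : Etale ((𝟙 A ^ d).left) ↔ ((d : K) ≠ 0) := by
  haveI : IsIntegral A.left := GeometricallyIntegral.isIntegral_of_subsingleton A.hom
  haveI : IsCommMonObj A := CubeConsLib.isCommMonObj_field
  haveI : LocallyOfFinitePresentation A.hom := LocallyOfFinitePresentation.iff_locallyOfFiniteType.2 inferInstance
  constructor
  · intro h hd
    have : FormallyUnramified (𝟙 A ^ d).left := inferInstance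
    exact hA.ne' (AbSchLib.dim_eq_zero_of_unramified_zpow A d hd)
  · intro hd
    refine (AbSchLib.isFinite_etale_zpow A d ?_).2
    have := (isUnit_iff_ne_zero.2 hd).map (Scheme.ΓSpecIso (CommRingCat.of K)).inv.hom
    rwa [map_intCast] at this

end Groth.Agent.S0382
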