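import Groth.Statements.S0396
import Groth.Agent.FlatLib.FlatMisc
-- import your own Groth.Agent.* helpers here

set_option autoImplicit false
universe u
open FlatMor

namespace Groth.Agent.S0396
open TensorProduct in

open TensorProduct in
/-- For a map of Noetherian rings R → S, an ideal I of R and a finite S-module M such that M/IⁿM is flat
over R/Iⁿ for every n ≥ 1, the localization of M at any prime of S containing IS is flat over R. -/
theorem result {R S M : Type u} [CommRing R] [CommRing S] [IsNoetherianRing R] [IsNoetherianRing S] [Algebra R S]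
    [AddCommGroup M] [Module R M] [Module S M] [IsScalarTower R S M] [Module.Finite S M] (I : Ideal R)
    (h : ∀ n : ℕ, 0 < n → Module.Flat (R ⧸ I ^ n) ((R ⧸ I ^ n) ⊗[R] M))
    (q : Ideal S) [q.IsPrime] (hq : I.map (algebraMap R S) ≤ q) :
    Module.Flat R (LocalizedModule q.primeCompl M) := by
  let S' := Localization.AtPrime q
  let Mq := LocalizedModule q.primeCompl M
  haveI : IsNoetherianRing S' := IsLocalization.isNoetherianRing q.primeCompl S' inferInstance
  haveI : IsScalarTower R S' Mq := IsScalarTower.of_algebraMap_smul fun r x ↦ by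
    rw [IsScalarTower.algebraMap_apply R S S', algebraMap_smul, algebraMap_smul]
  haveI : Module.Finite S' Mq := Module.Finite.of_isLocalizedModule q.primeCompl (LocalizedModule.mkLinearMap q.primeCompl M)
  refine FlatCrit.flat_of_flat_quotient_pow (S := S') I ?_ fun m ↦ ?_
  · rw [IsLocalRing.jacobson_eq_maximalIdeal _ bot_ne_top, ← Localization.AtPrime.map_eq_maximalIdeal,
      IsScalarTower.algebraMap_eq R S S', ← Ideal.map_map]
    exact Ideal.map_mono hq
  · rcases Nat.eq_zero_or_pos m with rfl | hm
    · haveI : Subsingleton (R ⧸ I ^ 0) := Ideal.Quotient.subsingleton_iff.mpr (by rw [pow_zero, Ideal.one_eq_top])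
      haveI : Subsingleton ((R ⧸ I ^ 0) ⊗[R] Mq) := Module.subsingleton (R ⧸ I ^ 0) _
      infer_instance
    · haveI := h m hm
      let A := R ⧸ I ^ m
      let e : (R ⧸ I ^ m) ⊗[R] Mq ≃ₗ[A] A ⊗[R] Mq := LinearEquiv.refl _ _
      exact FlatLib.flat_quotient_of_localized (q := q) (I ^ m) (h m hm)

end Groth.Agent.S0396
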