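import Groth.Statements.S0400
import Groth.Agent.NilFlatLib.Basic
-- import your own Groth.Agent.* helpers here

set_option autoImplicit false
universe u
open FlatMor

namespace Groth.Agent.S0400

open TensorProduct in
/-- Fibrewise criterion of flatness, nilpotent form: let R → S be a ring map, I a nilpotent ideal of R,
and M an S-module that is flat over R and such that M/IM is flat over S/IS. Then M is flat over S.
The published statement also determines the primes of S at which S is flat over R; that part is not
stated here. -/
theorem result {R S M : Type u} [CommRing R] [CommRing S] [Algebra R S] (I : Ideal R) (hI : IsNilpotent I)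
    [AddCommGroup M] [Module S M] [Module R M] [IsScalarTower R S M] [Module.Flat R M]
    (h : Module.Flat (S ⧸ I.map (algebraMap R S)) ((S ⧸ I.map (algebraMap R S)) ⊗[S] M)) : Module.Flat S M := by
  haveI := h
  obtain ⟨n, hn⟩ := hI
  refine NilFlatLib.flat_of_isNilpotent (I := I.map (algebraMap R S)) ⟨n, by rw [← Ideal.map_pow, hn]; exact Ideal.map_bot⟩ ?_
  let b : I →ₗ[R] M →ₗ[R] ↥(I.map (algebraMap R S)) ⊗[S] M :=
    LinearMap.mk₂ R (fun a m => (⟨algebraMap R S a, Ideal.mem_map_of_mem _ a.2⟩ : I.map (algebraMap R S)) ⊗ₜ[S] m)
      (fun a a' m => by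
        rw [← TensorProduct.add_tmul]
        exact congrArg (· ⊗ₜ[S] m) (Subtype.ext (map_add _ _ _)))
      (fun c a m => by
        rw [TensorProduct.smul_tmul']
        exact congrArg (· ⊗ₜ[S] m) (Subtype.ext (by simp [Algebra.smul_def])))
      (fun a m m' => TensorProduct.tmul_add _ _ _)
      (fun c a m => by rw [TensorProduct.tmul_smul])
  let σ := TensorProduct.lift b
  have hσ : Function.Surjective σ := by
    intro z
    induction z using TensorProduct.induction_on with
    | zero => exact ⟨0, map_zero _⟩
    | add x y hx hy =>
      obtain ⟨x', rfl⟩ := hx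
      obtain ⟨y', rfl⟩ := hy
      exact ⟨x' + y', map_add _ _ _⟩
    | tmul y m =>
      obtain ⟨y, hy⟩ := y
      revert m
      induction hy using Submodule.span_induction with
      | mem x hx =>
        obtain ⟨a, ha, rfl⟩ := hx
        exact fun m => ⟨(⟨a, ha⟩ : I) ⊗ₜ[R] m, rfl⟩
      | zero => exact fun m => ⟨0, by rw [map_zero]; exact (TensorProduct.zero_tmul _ m).symm⟩
      | add x x' hx hx' h1 h2 =>
        intro m
        obtain ⟨w, hw⟩ := h1 m
        obtain ⟨w', hw'⟩ := h2 m
        exact ⟨w + w', by rw [map_add, hw, hw', ← TensorProduct.add_tmul]; rfl⟩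
      | smul c x hx h1 =>
        intro m
        obtain ⟨w, hw⟩ := h1 (c • m)
        exact ⟨w, by rw [hw, ← TensorProduct.smul_tmul]; rfl⟩
  have hR : Function.Injective (TensorProduct.lid R M ∘ LinearMap.rTensor M (Submodule.subtype I)) :=
    (TensorProduct.lid R M).injective.comp
      (Module.Flat.rTensor_preserves_injective_linearMap _ Subtype.val_injective)
  have hc : ∀ z, TensorProduct.lid S M (LinearMap.rTensor M (Submodule.subtype _) (σ z)) =
      TensorProduct.lid R M (LinearMap.rTensor M (Submodule.subtype I) z) := by
    intro z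
    induction z using TensorProduct.induction_on with
    | zero => simp
    | add a c ha hc => simp only [map_add, ha, hc]
    | tmul a m => simp [σ, b]
  intro z z' hzz
  obtain ⟨w, rfl⟩ := hσ z
  obtain ⟨w', rfl⟩ := hσ z'
  refine congrArg σ (hR ?_)
  simp only [Function.comp_apply, ← hc, hzz]

end Groth.Agent.S0400
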