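import Groth.Statements.S0401
import Mathlib

set_option autoImplicit false
universe u
open FlatMor

namespace Groth.Agent.S0401

/-- For a finite type ring map R → S quasi-finite at a prime q lying over p, the dimension of S_q is at
most the dimension of R_p. -/
theorem result {R S : Type u} [CommRing R] [CommRing S] [Algebra R S] [Algebra.FiniteType R S] (q : Ideal S) [q.IsPrime] [Algebra.QuasiFiniteAt R q] :
    ringKrullDim (Localization.AtPrime q) ≤ ringKrullDim (Localization.AtPrime (q.under R)) := by
  let f := Localization.localRingHom (q.under R) q (algebraMap R S) rfl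
  refine Order.krullDim_le_of_strictMono (PrimeSpectrum.comap f) fun P Q h => lt_of_le_of_ne (Ideal.comap_mono h.le) ?_
  intro e
  apply h.ne
  have hP := (IsLocalization.orderIsoOfPrime q.primeCompl (Localization.AtPrime q))
  haveI : Algebra.QuasiFiniteAt R (Q.asIdeal.under S) := by
    refine Algebra.QuasiFiniteAt.of_le (Q := q) ?_
    have := Ideal.comap_mono (f := algebraMap S (Localization.AtPrime q)) (IsLocalRing.le_maximalIdeal Q.isPrime.ne_top)
    exact this.trans (le_of_eq (Localization.AtPrime.under_maximalIdeal (I := q)))
  have e' : P.asIdeal.under S = Q.asIdeal.under S := by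
    refine Algebra.QuasiFiniteAt.eq_of_le_of_under_eq (R := R) (Ideal.comap_mono h.le) ?_
    have := congrArg (fun x : PrimeSpectrum (Localization.AtPrime (q.under R)) =>
      x.asIdeal.comap (algebraMap R (Localization.AtPrime (q.under R)))) e
    simp only [PrimeSpectrum.comap_asIdeal, Ideal.comap_comap] at this
    have hf : f.comp (algebraMap R (Localization.AtPrime (q.under R))) =
        (algebraMap S (Localization.AtPrime q)).comp (algebraMap R S) :=
      RingHom.ext fun r => Localization.localRingHom_to_map _ _ _ rfl r
    rw [hf] at this
    simpa [Ideal.under, Ideal.comap_comap] using this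
  refine PrimeSpectrum.ext ?_
  rw [← IsLocalization.map_comap q.primeCompl (Localization.AtPrime q) P.asIdeal,
    ← IsLocalization.map_comap q.primeCompl (Localization.AtPrime q) Q.asIdeal]
  exact congrArg (Ideal.map _) e'


end Groth.Agent.S0401
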