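import Groth.Statements.S0407
import Groth.Agent.AInjLib.Flat
import Groth.Agent.FlatInjLib.Main

set_option autoImplicit false
universe u
open FlatMor

namespace Groth.Agent.S0407

open TensorProduct in
/-- For a local homomorphism A → B essentially of finite type, a flat A-module M, a finite B-module N
and an A-linear map u from N to M that is injective modulo the maximal ideal of A: u is universally
injective over A, N is finitely presented over B and N is flat over A (no Noetherian hypothesis). -/
theorem result {A B M N : Type u} [CommRing A] [CommRing B] [IsLocalRing A] [IsLocalRing B] [Algebra A B] [IsLocalHom (algebraMap A B)] [Algebra.EssFiniteType A B]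
    [AddCommGroup M] [Module A M] [Module.Flat A M]
    [AddCommGroup N] [Module A N] [Module B N] [IsScalarTower A B N] [Module.Finite B N]
    (u : N →ₗ[A] M) (h : Function.Injective (LinearMap.lTensor (IsLocalRing.ResidueField A) u)) :
    (∀ (Q : Type u) [AddCommGroup Q] [Module A Q], Function.Injective (LinearMap.rTensor Q u)) ∧
      Module.FinitePresentation B N ∧ Module.Flat A N := by
  have hu : ∀ z : N, u z ∈ IsLocalRing.maximalIdeal A • (⊤ : Submodule A M) →
      z ∈ IsLocalRing.maximalIdeal A • (⊤ : Submodule A N) :=
    fun z hz => FlatInjLib.mem_of_lTensor_injective u h z hz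
  haveI : Module.Flat A N := AInjLib.flat_of_injective_mod (B := B) u hu
  exact ⟨fun Q _ _ => AInjLib.univInj_of_flat B u hu Q,
    FlatInjLib.finitePresentation_of_injective_mod (A := A) (LinearMap.id : N →ₗ[B] N) (fun _ hx => hx), inferInstance⟩

end Groth.Agent.S0407
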