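import Groth.Statements.S0408
import Groth.Agent.EtLocLib.Finite
-- import your own Groth.Agent.* helpers here

set_option autoImplicit false
universe u
open FlatMor

namespace Groth.Agent.S0408

open AlgebraicGeometry CategoryTheory Limits in
/-- Étale localization of a quasi-finite point (one-point case): for f separated and locally of finite
type and x isolated in its fibre, after base change along an étale morphism g with a point u over
f(x) having the same residue field, the base change splits off an open and closed piece V, finite
over the base, whose fibre over u is a single point v lying over x with the same residue field as x,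
and no other point over u lies over x. -/
theorem result {X S : Scheme.{u}} (f : X ⟶ S) [LocallyOfFiniteType f] [IsSeparated f] (x : X) (hx : f.QuasiFiniteAt x) :
    ∃ (U : Scheme.{u}) (g : U ⟶ S) (u : U), Etale g ∧ g u = f x ∧ Function.Surjective (g.residueFieldMap u) ∧
      ∃ (V : (pullback f g).Opens) (v : ↑(pullback f g)), IsClopen (V : Set ↑(pullback f g)) ∧
        IsFinite (V.ι ≫ pullback.snd f g) ∧ v ∈ V ∧ pullback.fst f g v = x ∧ pullback.snd f g v = u ∧
        Function.Surjective ((pullback.fst f g).residueFieldMap v) ∧
        (∀ w : ↑(pullback f g), pullback.snd f g w = u → (w ∈ V ∨ pullback.fst f g w = x) → w = v) := by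
  classical
  obtain ⟨U, g, hg, σ, hσ, n, W, hW, hcov⟩ :=
    EtLocLib.exists_elementary_family f (f x) {x} (fun y hy => by rw [Finset.mem_singleton.mp hy]; exact ⟨rfl, hx⟩)
  obtain ⟨i, w, hw, hwu, hwx, huniq⟩ := hcov x (Finset.mem_singleton_self x)
  obtain ⟨hu, hbij⟩ := EtLocLib.bijective_of_section g σ hσ
  have hres := EtLocLib.bijective_fst_residueFieldMap f g σ hσ hwu
  have hclosed : IsClosed (W i : Set ↑(pullback f g)) := by
    haveI := hW i
    haveI : IsFinite (W i).ι := IsFinite.of_comp _ (pullback.snd f g)
    have hh := (W i).ι.isClosedMap.isClosed_range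
    rwa [Scheme.Opens.range_ι] at hh
  refine ⟨U, g, σ.base (IsLocalRing.closedPoint _), hg, hu, hbij.2, W i, w, ⟨hclosed, (W i).2⟩, hW i,
    hw, hwx, hwu, hres.2, fun w' hw' h => ?_⟩
  rcases h with h | h
  · exact huniq w' h hw'
  · exact EtLocLib.eq_of_section f g σ hσ hw' hwu (h.trans hwx.symm)

end Groth.Agent.S0408
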