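import Groth.Statements.S0409
import Groth.Agent.MiscFlat6.FiniteOverOpen
-- import your own Groth.Agent.* helpers here

set_option autoImplicit false
universe u
open FlatMor

namespace Groth.Agent.S0409

open AlgebraicGeometry CategoryTheory Limits in
/-- A quasi-finite morphism (locally of finite type, quasi-compact, with finite fibres) is finite over a
dense open subset of the target. -/
theorem result {Y X : Scheme.{u}} (f : Y ⟶ X) [LocallyQuasiFinite f] [LocallyOfFiniteType f] [QuasiCompact f] :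
    ∃ U : X.Opens, Dense (U : Set ↑X) ∧ IsFinite (f ∣_ U) := by
  let ι := {U : X.Opens // IsFinite (f ∣_ U)}
  let V : X.Opens := ⨆ U : ι, U.1
  refine ⟨V, dense_iff_inter_open.mpr fun O hO hne => ?_, ?_⟩
  · obtain ⟨U, hUO, ⟨x, hx⟩, hU⟩ := MiscFlat6.exists_open_finite f ⟨O, hO⟩ hne
    exact ⟨x, hUO hx, TopologicalSpace.Opens.mem_iSup.mpr ⟨⟨U, hU⟩, hx⟩⟩
  · refine IsZariskiLocalAtTarget.of_iSup_eq_top (P := @IsFinite) (fun U : ι => V.ι ⁻¹ᵁ U.1) ?_ fun U => ?_
    · refine top_le_iff.mp fun z _ => ?_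
      obtain ⟨U, hU⟩ := TopologicalSpace.Opens.mem_iSup.mp (show z.1 ∈ V from z.2)
      exact TopologicalSpace.Opens.mem_iSup.mpr ⟨U, hU⟩
    · have e : V.ι ''ᵁ (V.ι ⁻¹ᵁ U.1) = U.1 := by
        rw [Scheme.Hom.image_preimage_eq_opensRange_inf, Scheme.Opens.opensRange_ι]
        exact inf_eq_right.mpr (le_iSup (fun U : ι => U.1) U)
      rw [MorphismProperty.arrow_mk_iso_iff @IsFinite (morphismRestrictRestrict f V (V.ι ⁻¹ᵁ U.1)), e]
      exact U.2

end Groth.Agent.S0409
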