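import Groth.Statements.S0413
import Groth.Agent.EtSliceFibLib.Basic
import Groth.Agent.AlgSpLib.EtLocProp
-- import your own Groth.Agent.* helpers here

set_option autoImplicit false
universe u
open FlatMor

namespace Groth.Agent.S0413

open CategoryTheory AlgebraicGeometry

open AlgebraicGeometry CategoryTheory Limits in
/-- For a smooth morphism and a point that is closed in its fibre with separable residue field
extension, there is a locally closed subscheme through the point which is étale over the base and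
meets the fibre only in that point. -/
theorem result {X S : Scheme.{u}} (f : X ⟶ S) [Smooth f] (x : X)
    (hcl : IsClosed ({f.asFiber x} : Set ↑(f.fiber (f x))))
    (hsep : @Algebra.IsSeparable (S.residueField (f x)) (X.residueField x) _ _ (f.residueFieldMap x).hom.toAlgebra) :
    ∃ (Z : Scheme.{u}) (i : Z ⟶ X) (z : Z), IsImmersion i ∧ Etale (i ≫ f) ∧ i z = x ∧
      ∀ z' : ↑Z, f (i z') = f x → z' = z := by
  have hM : (IsLocalRing.maximalIdeal (S.presheaf.stalk (f x))).map (f.stalkMap x).hom ⊔
      IsLocalRing.maximalIdeal (X.presheaf.stalk x) = IsLocalRing.maximalIdeal (X.presheaf.stalk x) :=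
    sup_eq_right.2 (Ideal.map_le_iff_le_comap.2 fun a ha => map_nonunit _ a ha)
  obtain ⟨U, hU, hx, hs', -, O, z, hzO, hzx, het⟩ := EtSliceFibLib.exists_slice f x _ hM hsep
  let W := Spec (CommRingCat.of (Γ(X, U) ⧸ Ideal.ofList hs'))
  let c : W ⟶ X := Spec.map (CommRingCat.ofHom (Ideal.Quotient.mk (Ideal.ofList hs'))) ≫ hU.fromSpec
  haveI : IsClosedImmersion (Spec.map (CommRingCat.ofHom (Ideal.Quotient.mk (Ideal.ofList hs')))) :=
    IsClosedImmersion.spec_of_surjective _ Ideal.Quotient.mk_surjective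
  haveI : IsImmersion c := inferInstanceAs (IsImmersion (_ ≫ _))
  let g := O.ι ≫ c ≫ f
  haveI : Etale g := by simpa [g, c, Category.assoc] using het
  haveI : LocallyQuasiFinite g := AlgSpLib.locallyQuasiFinite_of_etale g
  let z₀ : O.toScheme := ⟨z, hzO⟩
  have hgz : g z₀ = f x := by
    show f (c z) = f x
    rw [show c z = x from hzx]
  obtain ⟨P, hP, hPz⟩ := isDiscrete_iff_forall_mem_exists_isOpen.1 (g.isDiscrete_preimage_singleton (f x)) z₀ hgz
  let P' : O.toScheme.Opens := ⟨P, hP⟩
  have hzP : z₀ ∈ P' := (hPz.ge rfl).1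
  haveI : Etale ((P'.ι ≫ O.ι ≫ c) ≫ f) := by
    simp only [Category.assoc]
    exact inferInstanceAs (Etale (P'.ι ≫ g))
  refine ⟨P'.toScheme, P'.ι ≫ O.ι ≫ c, ⟨z₀, hzP⟩, inferInstance, inferInstance, hzx, fun z' hz' => ?_⟩
  exact Subtype.ext (hPz.le ⟨z'.2, hz'⟩)

end Groth.Agent.S0413
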