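import Groth.Statements.S0418
import Groth.Agent.PerfectionLib.Apps
import Groth.Agent.AWNLib.Basic

set_option autoImplicit false
universe u
open FlatMor

namespace Groth.Agent.S0418

open AlgebraicGeometry in
/-- For a prime number p and a ring map A → B that becomes an isomorphism after inverting p, Spec B →
Spec A is a universal homeomorphism if and only if the kernel consists of nilpotents and every
element of B has some p-power multiple and p-power power in the image. -/
theorem result {A B : Type u} [CommRing A] [CommRing B] (φ : A →+* B) (p : ℕ) (hp : p.Prime)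
    (h : Function.Bijective (Localization.awayMap φ (p : A))) :
    FlatMor.IsUnivHomeo (Spec.map (CommRingCat.ofHom φ)) ↔
      (∀ a ∈ RingHom.ker φ, IsNilpotent a) ∧ ∀ b : B, ∃ n : ℕ, (p ^ n : B) * b ∈ φ.range ∧ b ^ (p ^ n) ∈ φ.range := by
  haveI := Fact.mk hp
  constructor
  · intro hU
    obtain ⟨hint, hs, hrad⟩ := (AWNLib.univHomeo_iff φ).1 hU
    refine ⟨fun a ha => AWNLib.isNilpotent_of_surjective_comap φ hs ha, fun b => ?_⟩
    have h1 : ∀ z : B, ∃ k : ℕ, (p ^ k : B) * z ∈ φ.range := fun z => by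
      obtain ⟨w, hw⟩ := h.2 (algebraMap B _ z)
      obtain ⟨⟨a, _, k, rfl⟩, ha⟩ := IsLocalization.mk'_surjective (Submonoid.powers (p : A)) w
      rw [← ha] at hw
      simp only [Localization.awayMap, IsLocalization.Away.map, IsLocalization.map_mk'] at hw
      rw [IsLocalization.mk'_eq_iff_eq_mul, ← map_mul, IsLocalization.eq_iff_exists (Submonoid.powers (φ p))] at hw
      obtain ⟨⟨_, m, rfl⟩, hm⟩ := hw
      refine ⟨m + k, (p : A) ^ m * a, ?_⟩
      simp only [map_mul, map_pow, map_natCast] at hm ⊢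
      rw [hm, pow_add]
      ring
    let π := Ideal.Quotient.mk (Ideal.span {(p : B)})
    let I : Ideal A := Ideal.span {(p : A)}
    have hI : I ≤ (Ideal.span {(p : B)}).comap φ := Ideal.span_le.2 (Set.singleton_subset_iff.2 (by
      show φ (p : A) ∈ Ideal.span {(p : B)}
      rw [map_natCast]
      exact Ideal.mem_span_singleton_self _))
    let ψ : A ⧸ I →+* B ⧸ Ideal.span {(p : B)} := Ideal.quotientMap _ φ hI
    have hψ : FlatMor.IsUnivHomeo (Spec.map (CommRingCat.ofHom ψ)) := by
      refine (AWNLib.univHomeo_iff ψ).2 ⟨?_, fun q => ?_, fun K _ g₁ g₂ hg => ?_⟩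
      · intro z
        obtain ⟨z, rfl⟩ := Ideal.Quotient.mk_surjective z
        obtain ⟨P, hP, hP0⟩ := hint z
        refine ⟨P.map (Ideal.Quotient.mk I), hP.map _, ?_⟩
        rw [Polynomial.eval₂_map, show ψ.comp (Ideal.Quotient.mk I) = (Ideal.Quotient.mk _).comp φ from
          RingHom.ext fun _ => rfl, ← Polynomial.hom_eval₂, hP0, map_zero]
      · obtain ⟨Q, hQ⟩ := hs (PrimeSpectrum.comap (Ideal.Quotient.mk I) q)
        have hpQ : Ideal.span {(p : B)} ≤ Q.asIdeal := Ideal.span_le.2 (Set.singleton_subset_iff.2 (by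
          rw [← map_natCast φ]
          show (p : A) ∈ (PrimeSpectrum.comap φ Q).asIdeal
          rw [hQ]
          show Ideal.Quotient.mk I (p : A) ∈ q.asIdeal
          rw [Ideal.Quotient.eq_zero_iff_mem.2 (Ideal.mem_span_singleton_self _)]
          exact q.asIdeal.zero_mem))
        obtain ⟨Q', rfl⟩ : Q ∈ Set.range (PrimeSpectrum.comap π) := by
          rw [range_comap_of_surjective _ π Ideal.Quotient.mk_surjective, Ideal.mk_ker]
          exact hpQ
        refine ⟨Q', PrimeSpectrum.comap_injective_of_surjective _ Ideal.Quotient.mk_surjective ?_⟩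
        exact hQ
      · refine Ideal.Quotient.ringHom_ext (hrad K (g₁.comp π) (g₂.comp π) (RingHom.ext fun a => ?_))
        exact RingHom.congr_fun hg (Ideal.Quotient.mk I a)
    have hp0 : (p : B ⧸ Ideal.span {(p : B)}) = 0 := by
      rw [← map_natCast π]
      exact Ideal.Quotient.eq_zero_iff_mem.2 (Ideal.mem_span_singleton_self _)
    obtain ⟨m, ā, hm⟩ := Groth.Agent.PerfectionLib.exists_pow_mem_range ψ hψ hp0 (π b)
    obtain ⟨a, rfl⟩ := Ideal.Quotient.mk_surjective ā
    obtain ⟨b₁, hb₁⟩ := Ideal.mem_span_singleton.1 ((Ideal.Quotient.eq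
      (I := Ideal.span {(p : B)}) (x := φ a) (y := b ^ p ^ m)).1 (hm.trans (map_pow _ _ _).symm))
    let R : Subalgebra φ.range B := Algebra.adjoin φ.range {b₁}
    have hbR : b ^ p ^ m ∈ R := by
      rw [show b ^ p ^ m = φ a - (p : B) * b₁ by rw [← hb₁]; ring]
      exact R.sub_mem (R.algebraMap_mem ⟨φ a, a, rfl⟩)
        (R.mul_mem (natCast_mem R p) (Algebra.subset_adjoin rfl))
    have hintR : IsIntegral φ.range b₁ := RingHom.IsIntegral.tower_top φ.rangeRestrict φ.range.subtype hint b₁
    obtain ⟨S, hS⟩ : (Subalgebra.toSubmodule R).FG := hintR.fg_adjoin_singleton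
    choose k hk using h1
    let K := S.sup k
    have hK : ∀ z ∈ R, (p ^ K : B) * z ∈ φ.range := by
      have : ∀ z ∈ Submodule.span φ.range (S : Set B), (p ^ K : B) * z ∈ φ.range := by
        intro z hz
        induction hz using Submodule.span_induction with
        | mem w hw =>
          obtain ⟨d, hd⟩ := Nat.exists_eq_add_of_le (Finset.le_sup (f := k) hw)
          show (p ^ (S.sup k) : B) * w ∈ _
          rw [hd, pow_add, mul_comm ((p : B) ^ k w), mul_assoc]
          exact φ.range.mul_mem (pow_mem (natCast_mem _ p) d) (hk w)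
        | zero => rw [mul_zero]; exact φ.range.zero_mem
        | add x y _ _ hx hy => rw [mul_add]; exact φ.range.add_mem hx hy
        | smul c x _ hx =>
          rw [Subring.smul_def, smul_eq_mul, mul_left_comm]
          exact φ.range.mul_mem c.2 hx
      exact fun z hz => this z (hS.symm ▸ hz)
    let u : R := ⟨b ^ p ^ m, hbR⟩
    let v : R := algebraMap φ.range R ⟨φ a, a, rfl⟩
    have hdvd : (p : R) ∣ u - v := Dvd.intro (-(⟨b₁, Algebra.subset_adjoin rfl⟩ : R)) (Subtype.ext (by
      show (p : B) * -b₁ = b ^ p ^ m - φ a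
      rw [mul_neg, ← hb₁]
      ring))
    obtain ⟨c, hc⟩ := dvd_sub_pow_of_dvd_sub hdvd K
    have hc' : b ^ p ^ (m + K) - φ a ^ p ^ K = (p : B) ^ (K + 1) * (c : B) := by
      rw [pow_add, pow_mul]
      exact congrArg Subtype.val hc
    have hfin : b ^ p ^ (m + K) ∈ φ.range := by
      rw [sub_eq_iff_eq_add.1 hc', pow_succ', mul_assoc]
      exact φ.range.add_mem (φ.range.mul_mem (natCast_mem _ p) (hK _ c.2)) (pow_mem (RingHom.mem_range_self φ a) _)
    refine ⟨max (k b) (m + K), ?_, ?_⟩
    · obtain ⟨d, hd⟩ := Nat.exists_eq_add_of_le (le_max_left (k b) (m + K))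
      push_cast
      rw [hd, pow_add, mul_comm ((p : B) ^ k b), mul_assoc]
      exact φ.range.mul_mem (pow_mem (natCast_mem _ p) d) (hk b)
    · obtain ⟨d, hd⟩ := Nat.exists_eq_add_of_le (le_max_right (k b) (m + K))
      rw [hd, pow_add _ (m + K) d, pow_mul]
      exact pow_mem hfin _
  · rintro ⟨hker, hb⟩
    letI := φ.toAlgebra
    have hint : Algebra.IsIntegral A B := ⟨fun b => by
      obtain ⟨n, -, a, ha⟩ := hb b
      exact IsIntegral.of_pow (pow_pos hp.pos n) (ha ▸ isIntegral_algebraMap)⟩
    refine (AWNLib.univHomeo_iff φ).2 ⟨hint.isIntegral, fun q => ?_, fun K _ g₁ g₂ hg => RingHom.ext fun b => ?_⟩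
    · haveI := hint
      obtain ⟨Q, -, hQ, hQq⟩ := Ideal.exists_ideal_over_prime_of_isIntegral q.asIdeal (⊥ : Ideal B)
        (by
          rw [← RingHom.ker_eq_comap_bot]
          exact fun a ha => nilradical_le_prime q.asIdeal (hker a ha))
      exact ⟨⟨Q, hQ⟩, PrimeSpectrum.ext hQq⟩
    · obtain ⟨n, ⟨a₁, ha₁⟩, a₂, ha₂⟩ := hb b
      push_cast at ha₁
      by_cases h0 : (p : K) = 0
      · haveI : CharP K p := (CharP.charP_iff_prime_eq_zero hp).2 h0
        have heq := RingHom.congr_fun hg a₂
        rw [RingHom.comp_apply, RingHom.comp_apply, ha₂, map_pow, map_pow] at heq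
        exact iterateFrobenius_inj K p n heq
      · have heq := RingHom.congr_fun hg a₁
        rw [RingHom.comp_apply, RingHom.comp_apply, ha₁, map_mul, map_mul, map_pow, map_pow, map_natCast,
          map_natCast] at heq
        exact mul_left_cancel₀ (pow_ne_zero n h0) heq

end Groth.Agent.S0418
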