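import Groth.Statements.S0421
import Groth.Agent.DvrFlatLib.ReducedScheme
-- import your own Groth.Agent.* helpers here

set_option autoImplicit false
universe u
open FlatMor

namespace Groth.Agent.S0421

open AlgebraicGeometry CategoryTheory

/-- An idempotent of `A[1/t]` comes from one of `A` when `t` is regular with radical principal ideal. -/
theorem exists_idem_lift {A : Type u} [CommRing A] {t : A} (ht : ∀ a, t * a = 0 → a = 0)
    (hr : ∀ a, a * a ∈ Ideal.span {t} → a ∈ Ideal.span {t}) (e : Localization.Away t) (he : IsIdempotentElem e) :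
    ∃ a : A, a * (1 - a) = 0 ∧ algebraMap A (Localization.Away t) a = e := by
  have hinj : Function.Injective (algebraMap A (Localization.Away t)) := by
    rw [injective_iff_map_eq_zero]
    intro a ha
    obtain ⟨⟨c, n, rfl⟩, hc⟩ := (IsLocalization.map_eq_zero_iff (Submonoid.powers t) _ a).mp ha
    simp only at hc
    induction n with
    | zero => simpa using hc
    | succ n ih => exact ih (ht _ (by rw [← mul_assoc, ← pow_succ', hc]))
  have key : ∀ (n : ℕ) (a : A), algebraMap A (Localization.Away t) a = e * algebraMap A _ t ^ n →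
      ∃ a : A, algebraMap A (Localization.Away t) a = e := by
    intro n
    induction n with
    | zero => exact fun a ha => ⟨a, by simpa using ha⟩
    | succ n ih =>
      intro a ha
      have haa : a * a = t ^ (n + 1) * a := hinj (by
        rw [map_mul, map_mul, map_pow, ha, mul_mul_mul_comm, he.eq]
        ring)
      obtain ⟨b, hb⟩ := Ideal.mem_span_singleton.mp (hr a (Ideal.mem_span_singleton.mpr ⟨t ^ n * a, by
        rw [haa]; ring⟩))
      refine ih b ((IsLocalization.map_units (Localization.Away t) (⟨t, 1, pow_one t⟩ : Submonoid.powers t)).mul_left_cancel ?_)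
      change algebraMap A _ t * algebraMap A _ b = algebraMap A _ t * (e * algebraMap A _ t ^ n)
      rw [← map_mul, ← hb, ha]
      ring
  obtain ⟨⟨a, ⟨_, n, rfl⟩⟩, ha⟩ := IsLocalization.surj (Submonoid.powers t) e
  simp only [map_pow] at ha
  obtain ⟨a, ha⟩ := key n a ha.symm
  exact ⟨a, hinj (by rw [map_mul, map_sub, map_one, map_zero, ha, mul_sub, mul_one, he.eq, sub_self]), ha⟩

open Topology in
/-- Two opens covering a principal open `D(t)` disjointly have disjoint closures. -/
theorem exists_nhd {A : Type u} [CommRing A] {t : A} (ht : ∀ a, t * a = 0 → a = 0)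
    (hr : ∀ a, a * a ∈ Ideal.span {t} → a ∈ Ideal.span {t}) {C C' : Set (PrimeSpectrum A)}
    (hC : IsOpen C) (hC' : IsOpen C') (hd : Disjoint C C')
    (hcov : C ∪ C' = PrimeSpectrum.basicOpen t) (q : PrimeSpectrum A) :
    ∃ W : Set (PrimeSpectrum A), IsOpen W ∧ q ∈ W ∧ (Disjoint W C ∨ Disjoint W C') := by
  let ψ := PrimeSpectrum.comap (algebraMap A (Localization.Away t))
  have hψ : ∀ p, ψ p ∈ C ∪ C' := fun p => by
    rw [hcov, ← PrimeSpectrum.localization_away_comap_range (Localization.Away t) t]
    exact ⟨p, rfl⟩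
  have hcl : IsClopen (ψ ⁻¹' C) := by
    refine ⟨?_, hC.preimage (PrimeSpectrum.continuous_comap _)⟩
    have : ψ ⁻¹' C = (ψ ⁻¹' C')ᶜ := by
      ext p
      exact ⟨fun h h' => Set.disjoint_left.mp hd h h', fun h => (hψ p).resolve_right h⟩
    rw [this]
    exact (hC'.preimage (PrimeSpectrum.continuous_comap _)).isClosed_compl
  obtain ⟨e, he, hec⟩ := PrimeSpectrum.isClopen_iff.mp hcl
  obtain ⟨a, ha, hae⟩ := exists_idem_lift ht hr e he
  have hlift : ∀ r, r ∈ C ∪ C' → ∃ p, ψ p = r := fun r hr => by
    rw [hcov, ← PrimeSpectrum.localization_away_comap_range (Localization.Away t) t] at hr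
    exact hr
  have hmem : ∀ p, (ψ p ∈ PrimeSpectrum.basicOpen a ↔ ψ p ∈ C) := fun p => by
    have : ψ p ∈ C ↔ p ∈ ψ ⁻¹' C := Iff.rfl
    rw [this, hec, ← hae]
    exact Iff.rfl
  by_cases hq : q ∈ PrimeSpectrum.basicOpen a
  · refine ⟨_, (PrimeSpectrum.basicOpen a).isOpen, hq, Or.inr (Set.disjoint_left.mpr fun r hr hrC' => ?_)⟩
    obtain ⟨p, rfl⟩ := hlift r (Or.inr hrC')
    exact Set.disjoint_left.mp hd ((hmem p).mp hr) hrC'
  · refine ⟨_, (PrimeSpectrum.basicOpen (1 - a)).isOpen, ?_, Or.inl (Set.disjoint_left.mpr fun r hr hrC => ?_)⟩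
    · intro h
      exact q.isPrime.ne_top ((Ideal.eq_top_iff_one _).mpr (by
        have := q.asIdeal.add_mem h (not_not.mp hq : a ∈ q.asIdeal)
        rwa [sub_add_cancel] at this))
    · obtain ⟨p, rfl⟩ := hlift r (Or.inl hrC)
      exact ((ψ p).isPrime.mem_or_mem (show a * (1 - a) ∈ (ψ p).asIdeal by rw [ha]; exact zero_mem _)).elim
        ((hmem p).mpr hrC) hr


open AlgebraicGeometry CategoryTheory Limits in
/-- For a flat morphism from a connected scheme to the spectrum of a discrete valuation ring with
reduced closed fibre, the generic fibre is connected. -/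
theorem result {R : Type u} [CommRing R] [IsDomain R] [IsDiscreteValuationRing R] {X : Scheme.{u}}
    (f : X ⟶ Spec (CommRingCat.of R)) [Flat f] [ConnectedSpace ↑X]
    (hred : IsReduced (f.fiber (IsLocalRing.closedPoint R))) :
    ConnectedSpace ↑(f.fiber (⟨⊥, Ideal.isPrime_bot⟩ : PrimeSpectrum R)) := by
  let η : ↥(Spec (CommRingCat.of R)) := (⟨⊥, Ideal.isPrime_bot⟩ : PrimeSpectrum R)
  obtain ⟨π, hπ⟩ := IsDiscreteValuationRing.exists_irreducible R
  have hη : ({η} : Set ↥(Spec (CommRingCat.of R))) =
      ((Spec (CommRingCat.of R)).basicOpen ((Scheme.ΓSpecIso (CommRingCat.of R)).inv π) : Set _) := by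
    rw [basicOpen_eq_of_affine]
    ext p
    constructor
    · rintro rfl
      exact fun h => hπ.ne_zero h
    · intro hp
      refine Set.mem_singleton_iff.mpr (PrimeSpectrum.ext (not_not.mp fun hne => hp ?_))
      have := p.isPrime
      have hm : p.asIdeal = IsLocalRing.maximalIdeal R :=
        IsLocalRing.eq_maximalIdeal (Ideal.IsPrime.isMaximal this hne)
      rw [hm]
      exact (IsLocalRing.mem_maximalIdeal π).mpr hπ.not_isUnit
  let U : Set X := f.base ⁻¹' {η}
  have hU : IsOpen U := by
    show IsOpen (f.base ⁻¹' {η})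
    rw [hη]
    exact (TopologicalSpace.Opens.isOpen _).preimage f.continuous
  -- local data on an affine open
  have hloc : ∀ (V : X.Opens) (hV : IsAffineOpen V), ∃ t : Γ(X, V), (∀ a, t * a = 0 → a = 0) ∧
      (∀ a, a * a ∈ Ideal.span {t} → a ∈ Ideal.span {t}) ∧
      hV.fromSpec.base ⁻¹' U = (PrimeSpectrum.basicOpen t : Set (PrimeSpectrum Γ(X, V))) := by
    intro V hV
    let φ : R →+* Γ(X, V) := (f.appLE ⊤ V le_top).hom.comp (Scheme.ΓSpecIso (CommRingCat.of R)).inv.hom
    have hflat : φ.Flat := (RingHom.Flat.of_bijective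
      (ConcreteCategory.bijective_of_isIso (Scheme.ΓSpecIso (CommRingCat.of R)).inv)).comp
        (Flat.flat_appLE f (isAffineOpen_top _) hV le_top)
    letI := φ.toAlgebra
    have : Module.Flat R Γ(X, V) := hflat
    refine ⟨φ π, fun a ha => ?_, fun a ha => ?_, ?_⟩
    · have := Module.Flat.isSMulRegular_of_nonZeroDivisors (M := Γ(X, V))
        (mem_nonZeroDivisors_of_ne_zero hπ.ne_zero)
      refine this ?_
      simp only [Algebra.smul_def, mul_zero, RingHom.algebraMap_toAlgebra]
      exact ha
    · refine Ideal.mem_of_localization_maximal fun P hP => ?_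
      by_cases htP : φ π ∈ P
      · let q : PrimeSpectrum Γ(X, V) := ⟨P, hP.isPrime⟩
        let x : X := hV.fromSpec.base q
        have hxV : x ∈ V := by
          have := Set.mem_range_self (f := hV.fromSpec.base) q
          rwa [hV.range_fromSpec] at this
        have hq : hV.primeIdealOf ⟨x, hxV⟩ = q :=
          hV.fromSpec.isOpenEmbedding.injective (hV.fromSpec_primeIdealOf ⟨x, hxV⟩)
        letI := TopCat.Presheaf.algebra_section_stalk X.presheaf (U := V) ⟨x, hxV⟩
        haveI : IsLocalization.AtPrime (X.presheaf.stalk x) P := by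
          have := hV.isLocalization_stalk ⟨x, hxV⟩
          rw [hq] at this
          exact this
        have hg : ∀ r : R, algebraMap Γ(X, V) (X.presheaf.stalk x) (φ r) =
            f.stalkMap x ((Spec (CommRingCat.of R)).presheaf.germ ⊤ (f.base x) trivial
              ((Scheme.ΓSpecIso (CommRingCat.of R)).inv r)) := fun r => by
          rw [Scheme.Hom.germ_stalkMap_apply]
          show X.presheaf.germ V x hxV (f.appLE ⊤ V le_top _) = _
          rw [Scheme.Hom.appLE, CommRingCat.comp_apply, TopCat.Presheaf.germ_res_apply]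
        have hcl : f.base x = IsLocalRing.closedPoint R := by
          by_contra hne
          have hx0 : f.base x ∈ (Spec (CommRingCat.of R)).basicOpen ((Scheme.ΓSpecIso (CommRingCat.of R)).inv π) := by
            rw [← SetLike.mem_coe, ← hη, Set.mem_singleton_iff]
            refine PrimeSpectrum.ext (not_not.mp fun h => hne (PrimeSpectrum.ext ?_))
            have := (f.base x : PrimeSpectrum R).isPrime
            exact IsLocalRing.eq_maximalIdeal (Ideal.IsPrime.isMaximal this h)
          have hu := (Scheme.mem_basicOpen_top _ _ _).mp hx0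
          have : IsUnit (algebraMap Γ(X, V) (X.presheaf.stalk x) (φ π)) := by rw [hg]; exact hu.map _
          rw [IsLocalization.AtPrime.isUnit_to_map_iff _ P] at this
          exact this htP
        haveI : AlgebraicGeometry.IsReduced (f.fiber (f.base x)) := hcl.symm ▸ hred
        haveI : _root_.IsReduced ((f.fiber (f.base x)).presheaf.stalk (f.asFiber x)) := inferInstance
        have hq' := DvrFlatLib.isReduced_stalk_quotient f x
        have hspan : (IsLocalRing.maximalIdeal ((Spec (CommRingCat.of R)).presheaf.stalk (f.base x))).map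
            (f.stalkMap x).hom = Ideal.span {algebraMap Γ(X, V) (X.presheaf.stalk x) (φ π)} := by
          letI : Algebra (CommRingCat.of R) ((Spec (CommRingCat.of R)).presheaf.stalk (f.base x)) :=
            StructureSheaf.stalkAlgebra R (f.base x)
          have hm : IsLocalRing.maximalIdeal ((Spec (CommRingCat.of R)).presheaf.stalk (f.base x)) =
              Ideal.span {(Spec (CommRingCat.of R)).presheaf.germ ⊤ (f.base x) trivial
                ((Scheme.ΓSpecIso (CommRingCat.of R)).inv π)} := by
            haveI : IsLocalization.AtPrime ((Spec (CommRingCat.of R)).presheaf.stalk (f.base x))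
                (f.base x : PrimeSpectrum R).asIdeal := StructureSheaf.IsLocalization.to_stalk R (f.base x)
            rw [← IsLocalization.AtPrime.map_eq_maximalIdeal (f.base x : PrimeSpectrum R).asIdeal
              ((Spec (CommRingCat.of R)).presheaf.stalk (f.base x))]
            rw [show (f.base x : PrimeSpectrum R).asIdeal = IsLocalRing.maximalIdeal R from
              congrArg PrimeSpectrum.asIdeal hcl, hπ.maximalIdeal_eq, Ideal.map_span, Set.image_singleton]
            rfl
          rw [hm, Ideal.map_span, Set.image_singleton, hg]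
        rw [hspan, ← Ideal.isRadical_iff_quotient_reduced] at hq'
        have hmap := Ideal.mem_map_of_mem (algebraMap Γ(X, V) (X.presheaf.stalk x)) ha
        rw [Ideal.map_span, Set.image_singleton, map_mul, ← pow_two] at hmap
        have hax := hq' ⟨2, hmap⟩
        rw [← Set.image_singleton, ← Ideal.map_span] at hax
        obtain ⟨c, hc, hca⟩ := (IsLocalization.algebraMap_mem_map_algebraMap_iff P.primeCompl
          (X.presheaf.stalk x) (Ideal.span {φ π}) a).mp hax
        exact (IsLocalization.algebraMap_mem_map_algebraMap_iff P.primeCompl _ _ a).mpr ⟨c, hc, hca⟩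
      · exact (IsLocalization.algebraMap_mem_map_algebraMap_iff P.primeCompl _ _ a).mpr
          ⟨φ π, htP, Ideal.mul_mem_right _ _ (Ideal.mem_span_singleton_self _)⟩
    · show hV.fromSpec.base ⁻¹' (f.base ⁻¹' {η}) = _
      rw [hη]
      have := hV.fromSpec_preimage_basicOpen (φ π)
      rw [← this]
      have h2 : X.basicOpen (φ π) = V ⊓ f ⁻¹ᵁ (Spec (CommRingCat.of R)).basicOpen ((Scheme.ΓSpecIso (CommRingCat.of R)).inv π) := by
        show X.basicOpen (f.appLE ⊤ V le_top _) = _
        rw [Scheme.Hom.appLE, CommRingCat.comp_apply, Scheme.basicOpen_res, ← Scheme.preimage_basicOpen]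
      rw [h2]
      ext q
      have hqV : hV.fromSpec.base q ∈ V := by
        have := Set.mem_range_self (f := hV.fromSpec.base) q
        rwa [hV.range_fromSpec] at this
      exact ⟨fun h => ⟨hqV, h⟩, fun h => h.2⟩
  have hdense : Dense U := by
    rw [dense_iff_inter_open]
    rintro O hO ⟨x, hxO⟩
    obtain ⟨_, ⟨V, hV, rfl⟩, hxV, hVO⟩ := X.isBasis_affineOpens.exists_subset_of_mem_open hxO hO
    obtain ⟨t, ht, -, hUV⟩ := hloc V hV
    obtain ⟨q, -⟩ : x ∈ Set.range hV.fromSpec.base := by rw [hV.range_fromSpec]; exact hxV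
    have : Nontrivial Γ(X, V) := PrimeSpectrum.nonempty_iff_nontrivial.mp ⟨q⟩
    obtain ⟨p, hp⟩ : ∃ p : PrimeSpectrum Γ(X, V), p ∈ PrimeSpectrum.basicOpen t := by
      by_contra hne
      push Not at hne
      have hnil : IsNilpotent t := nilpotent_iff_mem_prime.mpr fun J hJ => not_not.mp (hne ⟨J, hJ⟩)
      obtain ⟨n, hn⟩ := hnil
      induction n with
      | zero => exact one_ne_zero ((pow_zero t).symm.trans hn)
      | succ n ih => exact ih (ht _ (by rw [← pow_succ', hn]))
    refine ⟨hV.fromSpec.base p, hVO ?_, ?_⟩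
    · have := Set.mem_range_self (f := hV.fromSpec.base) p
      rwa [hV.range_fromSpec] at this
    · show p ∈ hV.fromSpec.base ⁻¹' U
      rw [hUV]
      exact hp
  have hconn : _root_.IsConnected U := by
    refine ⟨hdense.nonempty, fun C C' hC hC' hcov hCn hC'n => ?_⟩
    by_contra hne
    rw [Set.not_nonempty_iff_eq_empty] at hne
    have hkey : ∀ x, ¬(x ∈ closure (U ∩ C) ∧ x ∈ closure (U ∩ C')) := by
      rintro x ⟨h1, h2⟩
      obtain ⟨_, ⟨V, hV, rfl⟩, hxV, -⟩ :=
        X.isBasis_affineOpens.exists_subset_of_mem_open (Set.mem_univ x) isOpen_univ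
      have hV : IsAffineOpen V := hV
      obtain ⟨t, ht, hr, hUV⟩ := hloc V hV
      obtain ⟨q, rfl⟩ : x ∈ Set.range hV.fromSpec.base := by rw [hV.range_fromSpec]; exact hxV
      obtain ⟨W, hW, hqW, hdis⟩ := exists_nhd ht hr
        ((hU.inter hC).preimage hV.fromSpec.continuous) ((hU.inter hC').preimage hV.fromSpec.continuous)
        (Set.disjoint_left.mpr fun r hr hr' => by
          exact Set.notMem_empty _ (hne.subset ⟨hr.1, hr.2, hr'.2⟩))
        (by
          refine (Set.preimage_union).symm.trans ?_
          rw [← Set.inter_union_distrib_left, Set.inter_eq_left.mpr hcov]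
          exact hUV) q
      have hWo := hV.fromSpec.isOpenEmbedding.isOpenMap W hW
      rcases hdis with hd | hd
      · obtain ⟨z, ⟨r, hr, rfl⟩, hz⟩ := mem_closure_iff.mp h1 _ hWo ⟨q, hqW, rfl⟩
        exact Set.disjoint_left.mp hd hr hz
      · obtain ⟨z, ⟨r, hr, rfl⟩, hz⟩ := mem_closure_iff.mp h2 _ hWo ⟨q, hqW, rfl⟩
        exact Set.disjoint_left.mp hd hr hz
    have hall : closure (U ∩ C) ∪ closure (U ∩ C') = Set.univ := by
      rw [← closure_union, ← Set.inter_union_distrib_left, Set.inter_eq_left.mpr hcov, hdense.closure_eq]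
    obtain ⟨x, -, hx⟩ := (isPreconnected_closed_iff.mp isPreconnected_univ) (closure (U ∩ C)) (closure (U ∩ C'))
      isClosed_closure isClosed_closure hall.ge ((hCn.mono subset_closure).mono fun y hy => ⟨trivial, hy⟩)
      ((hC'n.mono subset_closure).mono fun y hy => ⟨trivial, hy⟩)
    exact hkey x hx
  haveI : ConnectedSpace U := isConnected_iff_connectedSpace.mp hconn
  exact (f.fiberHomeo η).symm.surjective.connectedSpace (f.fiberHomeo η).symm.continuous

end Groth.Agent.S0421
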