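import Groth.Statements.S0424
import Groth.Agent.SweepSix.WEt
import Mathlib
-- import your own Groth.Agent.* helpers here

set_option autoImplicit false
universe u
open FlatMor AlgebraicGeometry CategoryTheory Limits

namespace Groth.Agent.S0424

open AlgebraicGeometry CategoryTheory Limits in
/-- A weakly étale morphism locally of finite presentation is étale. -/
theorem result {X Y : Scheme.{u}} (f : X ⟶ Y) [WeaklyEtale f] [LocallyOfFinitePresentation f] : Etale f := by
  haveI : FormallyUnramified f := SweepSix.formallyUnramified_of_flat_diagonal f inferInstance
  exact Etale.iff_flat_and_formallyUnramified.2 ⟨inferInstance, inferInstance, inferInstance⟩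

end Groth.Agent.S0424
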