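import Groth.Statements.S0425
import Mathlib
-- import your own Groth.Agent.* helpers here

set_option autoImplicit false
universe u
open FlatMor AlgebraicGeometry CategoryTheory Limits

namespace Groth.Agent.S0425

open AlgebraicGeometry CategoryTheory Limits in
/-- A weakly étale universal homeomorphism is an isomorphism. -/
theorem result {X Y : Scheme.{u}} (f : X ⟶ Y) [WeaklyEtale f] (h : FlatMor.IsUnivHomeo f) : IsIso f := by
  have hh : IsHomeomorph f.base := MorphismProperty.universally_le _ _ h
  haveI : Surjective f := ⟨hh.bijective.2⟩
  haveI hui : UniversallyInjective f := by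
    rw [universallyInjective_iff]
    refine MorphismProperty.universally_mono ?_ _ h
    intro _ _ g hg
    exact IsHomeomorph.injective hg
  haveI : Surjective (pullback.diagonal f) := (UniversallyInjective.iff_diagonal f).1 hui
  haveI : IsClosedImmersion (pullback.diagonal f) := IsClosedImmersion.of_isPreimmersion _ (by
    rw [Set.range_eq_univ.2 (pullback.diagonal f).surjective]
    exact isClosed_univ)
  haveI : IsIso (pullback.diagonal f) := Flat.isIso_of_surjective_of_mono _
  haveI : Mono f := (pullback.isIso_diagonal_iff f).1 inferInstance
  haveI : QuasiCompact f := (quasiCompact_iff f).2 fun U hU hc => by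
    exact (hh.homeomorph).isCompact_preimage.2 hc
  exact Flat.isIso_of_surjective_of_mono f

end Groth.Agent.S0425
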