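import Groth.Statements.S0429
import Groth.Agent.FlatFPDomLib.Main

set_option autoImplicit false
universe u
open FlatMor

namespace Groth.Agent.S0429

open AlgebraicGeometry CategoryTheory Limits in
/-- A flat morphism locally of finite type to an integral scheme is locally of finite presentation. -/
theorem result {X S : Scheme.{u}} (f : X ⟶ S) [IsIntegral S] [Flat f] [LocallyOfFiniteType f] : LocallyOfFinitePresentation f := by
  refine (HasRingHomProperty.iff_appLE (P := @LocallyOfFinitePresentation) (f := f)).2 fun U V e => ?_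
  have hft := LocallyOfFiniteType.finiteType_appLE f U.2 V.2 e
  have hflat := Flat.flat_appLE f U.2 V.2 e
  rcases isEmpty_or_nonempty ↥U.1 with hU | hU
  · have hV : IsEmpty ↥V.1 := ⟨fun x => hU.elim ⟨f x.1, e x.2⟩⟩
    haveI : Subsingleton Γ(S, U.1) := CommRingCat.subsingleton_of_isTerminal (S.sheaf.isTerminalOfEqEmpty (TopologicalSpace.Opens.ext (Set.isEmpty_coe_sort.mp hU)))
    haveI : Subsingleton Γ(X, V.1) := CommRingCat.subsingleton_of_isTerminal (X.sheaf.isTerminalOfEqEmpty (TopologicalSpace.Opens.ext (Set.isEmpty_coe_sort.mp hV)))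
    exact RingHom.FinitePresentation.of_bijective ⟨fun a b _ => Subsingleton.elim a b, fun b => ⟨0, Subsingleton.elim _ b⟩⟩
  · haveI : IsDomain Γ(S, U.1) := @IsIntegral.component_integral S _ U.1 hU
    algebraize [(f.appLE U.1 V.1 e).hom]
    exact FlatFPDomLib.finitePresentation_algebra

end Groth.Agent.S0429
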