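import Groth.Statements.S0431
import Mathlib
import Groth.Agent.PushLib.Props
-- import your own Groth.Agent.* helpers here

set_option autoImplicit false
universe u
open FlatMor

namespace Groth.Agent.S0431

open AlgebraicGeometry CategoryTheory Limits in
/-- For a thickening X → X' (a surjective closed immersion) and an affine morphism X → Y, the pushout Y'
of X' and Y along X exists in schemes, Y → Y' is again a thickening and X is the fibre product of Y
and X' over Y' (the source's description of the structure sheaf of the pushout as a fibre product of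
sheaves is not restated). -/
theorem result {X X' Y : Scheme.{u}} (t : X ⟶ X') [IsClosedImmersion t] (ht : Function.Surjective t) (f : X ⟶ Y) [IsAffineHom f] :
    ∃ (Y' : Scheme.{u}) (f' : X' ⟶ Y') (b : Y ⟶ Y'), IsPushout t f f' b ∧ IsPullback t f f' b ∧
      IsClosedImmersion b ∧ Function.Surjective b := by
  haveI : Surjective t := ⟨ht⟩
  have hY : ∀ y : Y, ∃ p : PushLib.Nice t f, y ∈ p.V := PushLib.exists_nice_of_thickening t f
  refine ⟨_, _, _, PushLib.Nice.isPushout hY, PushLib.Nice.isPullback hY, PushLib.Nice.isClosedImmersion_b hY, fun w => ?_⟩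
  obtain ⟨p, z, hz⟩ := Scheme.IsLocallyDirected.ι_jointly_surjective (PushLib.Nice.F t f) w
  rcases p.sq.eq_or_eq z with ⟨y, rfl⟩ | ⟨y, rfl⟩
  · exact ⟨p.hV.fromSpec y, (congrArg (fun g : _ ⟶ PushLib.Nice.P t f => g y) (PushLib.Nice.fromSpec_b hY p)).trans hz⟩
  · obtain ⟨x, hx⟩ := ht (p.hU.fromSpec y)
    refine ⟨f x, Eq.trans ?_ hz⟩
    refine Eq.trans ?_ (congrArg (fun g : _ ⟶ PushLib.Nice.P t f => g y) (PushLib.Nice.fromSpec_a hY p))
    show (f ≫ PushLib.Nice.b hY) x = PushLib.Nice.a hY (p.hU.fromSpec y)
    rw [← PushLib.Nice.w hY, ← hx]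
    rfl

end Groth.Agent.S0431
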