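import Groth.Statements.S0433
import Mathlib
import Groth.Agent.PushLib.SpecPush
-- import your own Groth.Agent.* helpers here

set_option autoImplicit false
universe u
open FlatMor

namespace Groth.Agent.S0433

open AlgebraicGeometry CategoryTheory Limits in
/-- For a surjective ring map A' → A and any ring map B → A, the spectra of A, A', B and of the fibre
product ring B ×_A A' form a pushout square of schemes. -/
theorem result {A A' B : Type u} [CommRing A] [CommRing A'] [CommRing B] (p : A' →+* A) (hp : Function.Surjective p) (q : B →+* A) :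
    IsPushout (Spec.map (CommRingCat.ofHom p)) (Spec.map (CommRingCat.ofHom q))
      (Spec.map (pullback.snd (CommRingCat.ofHom q) (CommRingCat.ofHom p)))
      (Spec.map (pullback.fst (CommRingCat.ofHom q) (CommRingCat.ofHom p))) := by
  let e : pullback (CommRingCat.ofHom q) (CommRingCat.ofHom p) ≅ (CommRingCat.pullbackCone (CommRingCat.ofHom q) (CommRingCat.ofHom p)).pt :=
    (limit.isLimit _).conePointUniqueUpToIso (CommRingCat.pullbackConeIsLimit _ _)
  let E := RingHom.eqLocus ((CommRingCat.ofHom q).hom.comp (RingHom.fst B A')) ((CommRingCat.ofHom p).hom.comp (RingHom.snd B A'))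
  let S : PushLib.FibSq E B A' A :=
    { u := (RingHom.fst B A').comp E.subtype
      v := (RingHom.snd B A').comp E.subtype
      q := q
      p := p
      w := fun x => x.2
      surj := hp
      inj := fun x y h1 h2 => Subtype.ext (Prod.ext h1 h2)
      lift := fun b a h => ⟨⟨(b, a), h⟩, rfl, rfl⟩ }
  have h := S.isPushout
  have h1 : e.hom ≫ (CommRingCat.pullbackCone (CommRingCat.ofHom q) (CommRingCat.ofHom p)).snd =
      pullback.snd (CommRingCat.ofHom q) (CommRingCat.ofHom p) :=
    IsLimit.conePointUniqueUpToIso_hom_comp _ _ WalkingCospan.right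
  have h2 : e.hom ≫ (CommRingCat.pullbackCone (CommRingCat.ofHom q) (CommRingCat.ofHom p)).fst =
      pullback.fst (CommRingCat.ofHom q) (CommRingCat.ofHom p) :=
    IsLimit.conePointUniqueUpToIso_hom_comp _ _ WalkingCospan.left
  refine IsPushout.of_iso h (Iso.refl _) (Iso.refl _) (Iso.refl _) (asIso (Spec.map e.hom)) (by simp) (by simp) ?_ ?_
  · show Spec.map (CommRingCat.ofHom S.v) ≫ Spec.map e.hom = 𝟙 _ ≫ Spec.map (pullback.snd _ _)
    rw [Category.id_comp, ← Spec.map_comp, ← h1]; rfl
  · show Spec.map (CommRingCat.ofHom S.u) ≫ Spec.map e.hom = 𝟙 _ ≫ Spec.map (pullback.fst _ _)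
    rw [Category.id_comp, ← Spec.map_comp, ← h2]; rfl

end Groth.Agent.S0433
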