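import Groth.Statements.S0436
import Groth.Agent.MiscFlat6.FibreRed
import Groth.Agent.DvrFlatLib.ReducedScheme
-- import your own Groth.Agent.* helpers here

set_option autoImplicit false
universe u
open FlatMor

namespace Groth.Agent.S0436

open AlgebraicGeometry CategoryTheory Limits in
/-- For a proper flat morphism to the spectrum of a discrete valuation ring whose special fibre is
reduced, both the total space and the generic fibre are reduced. (The published statement is
stronger: instead of flatness it only needs every irreducible component of the total space to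
dominate the base.) -/
theorem result {R : Type u} [CommRing R] [IsDomain R] [IsDiscreteValuationRing R] {X : Scheme.{u}}
    (f : X ⟶ Spec (CommRingCat.of R)) [IsProper f] [Flat f]
    (hred : IsReduced (f.fiber (IsLocalRing.closedPoint R))) :
    IsReduced X ∧ IsReduced (f.fiber (⟨⊥, Ideal.isPrime_bot⟩ : PrimeSpectrum R)) := by
  have hX : IsReduced X := by
    haveI : ∀ x : X, _root_.IsReduced (X.presheaf.stalk x) := fun x => by
      obtain ⟨x₀, hx₀, hx₀'⟩ : IsLocalRing.closedPoint R ∈ f.base '' closure {x} := by
        have hc := f.isClosedMap _ (isClosed_closure (s := ({x} : Set X)))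
        exact ((IsLocalRing.specializes_closedPoint (R := R) (f.base x)).mem_closed hc
          ⟨x, subset_closure (Set.mem_singleton x), rfl⟩)
      haveI : AlgebraicGeometry.IsReduced (f.fiber (f.base x₀)) := hx₀'.symm ▸ hred
      haveI : _root_.IsReduced ((f.fiber (f.base x₀)).presheaf.stalk (f.asFiber x₀)) := inferInstance
      haveI := DvrFlatLib.isReduced_stalk_dvr f x₀ (Flat.stalkMap f x₀)
      exact MiscFlat6.isReduced_stalk_of_specializes (specializes_iff_mem_closure.mpr hx₀)
    exact isReduced_of_isReduced_stalk X
  refine ⟨hX, MiscFlat6.isReduced_fiber_of_nil f _ fun a ha => MiscFlat6.isNilpotent_of_mem_maximalIdeal (fun y hy => ?_) ha⟩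
  exact PrimeSpectrum.ext (le_bot_iff.mp ((PrimeSpectrum.le_iff_specializes _ _).mpr hy))

end Groth.Agent.S0436
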