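import Groth.Statements.S0439
import Groth.Agent.S0409
import Groth.Agent.MiscFlat6.FiniteImage
-- import your own Groth.Agent.* helpers here

set_option autoImplicit false
universe u
open FlatMor

namespace Groth.Agent.S0439

open AlgebraicGeometry CategoryTheory Limits in
/-- A quasi-finite morphism (locally of finite type, quasi-compact, with discrete fibres) maps closed
nowhere dense subsets to nowhere dense subsets. -/
theorem result {Y X : Scheme.{u}} (f : Y ⟶ X) [LocallyQuasiFinite f] [LocallyOfFiniteType f] [QuasiCompact f]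
    (T : Set ↑Y) (hT : IsClosed T) (hT' : IsNowhereDense T) : IsNowhereDense (f '' T) := by
  obtain ⟨U, hU, hfin⟩ := Groth.Agent.S0409.result f
  rw [IsNowhereDense]
  by_contra hne
  obtain ⟨x, hxU, hx⟩ := hU.inter_open_nonempty _ isOpen_interior (Set.nonempty_iff_ne_empty.mpr hne) |>.mono
    (fun z hz => (⟨hz.2, hz.1⟩ : z ∈ (U : Set X) ∩ interior (closure (f '' T))))
  let T' : Set (f ⁻¹ᵁ U : Scheme.{u}) := (f ⁻¹ᵁ U).ι.base ⁻¹' T
  have hT'c : IsClosed T' := hT.preimage (f ⁻¹ᵁ U).ι.continuous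
  have hT'i : interior T' = ∅ := by
    rw [Set.eq_empty_iff_forall_notMem]
    intro z hz
    have hsub : (f ⁻¹ᵁ U).ι.base '' interior T' ⊆ interior (closure T) := interior_maximal
      (by rintro _ ⟨w, hw, rfl⟩; exact subset_closure ((interior_subset hw : w ∈ T')))
      ((f ⁻¹ᵁ U).ι.isOpenEmbedding.isOpenMap _ isOpen_interior)
    exact (hT' ▸ hsub ⟨z, hz, rfl⟩ : (f ⁻¹ᵁ U).ι.base z ∈ (∅ : Set Y))
  have h0 := MiscFlat6.interior_image_eq_empty (f ∣_ U) T' hT'c hT'i
  have hclosed : IsClosed ((f ∣_ U).base '' T') := (f ∣_ U).isClosedMap _ hT'c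
  have : U.ι.base ⁻¹' interior (closure (f '' T)) ⊆ interior ((f ∣_ U).base '' T') := by
    refine interior_maximal (fun z hz => ?_) (isOpen_interior.preimage U.ι.continuous)
    refine hclosed.closure_subset (mem_closure_iff.mpr fun O hO hzO => ?_)
    obtain ⟨w, ⟨v, hvO, rfl⟩, t, htT, htw⟩ := mem_closure_iff.mp (interior_subset hz : U.ι.base z ∈ closure (f '' T))
      _ (U.ι.isOpenEmbedding.isOpenMap O hO) ⟨z, hzO, rfl⟩
    refine ⟨v, hvO, ⟨⟨t, show f.base t ∈ U from htw ▸ v.2⟩, htT, Subtype.ext ?_⟩⟩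
    rw [morphismRestrict_base_coe]
    exact htw
  exact (h0 ▸ this (show (⟨x, hxU⟩ : (U : Scheme.{u})) ∈ U.ι.base ⁻¹' interior (closure (f '' T)) from hx) :
    (⟨x, hxU⟩ : (U : Scheme.{u})) ∈ (∅ : Set (U : Scheme.{u})))

end Groth.Agent.S0439
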