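import Groth.Statements.S0444
import Mathlib
import Groth.Agent.DimTrdegLib.Fibre
-- import your own Groth.Agent.* helpers here

set_option autoImplicit false
universe u
open FlatMor

namespace Groth.Agent.S0444

open TensorProduct in
/-- Let R be a valuation ring with residue field κ and fraction field K, and S a domain of finite type
over R with R → S injective. If the special fibre κ ⊗_R S is nonzero, then its Krull dimension
equals the Krull dimension of the generic fibre K ⊗_R S. (The published statement also asserts that
the special fibre is equidimensional; that is not stated here.) -/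
theorem result {R S : Type u} [CommRing R] [IsDomain R] [ValuationRing R] [CommRing S] [IsDomain S] [Algebra R S]
    (hinj : Function.Injective (algebraMap R S)) [Algebra.FiniteType R S]
    [Nontrivial (IsLocalRing.ResidueField R ⊗[R] S)] :
    ringKrullDim (IsLocalRing.ResidueField R ⊗[R] S) = ringKrullDim (FractionRing R ⊗[R] S) := by
  classical
  haveI : FaithfulSMul R S := (faithfulSMul_iff_algebraMap_injective _ _).2 hinj
  haveI : Module.IsTorsionFree R S := Module.isTorsionFree_iff_algebraMap_injective.2 hinj
  haveI : Module.Flat R S :=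
    (Module.Flat.flat_iff_torsion_eq_bot_of_isBezout).2 (Submodule.isTorsionFree_iff_torsion_eq_bot.1 inferInstance)
  let θ : IsLocalRing.ResidueField R ≃ₐ[R] (IsLocalRing.maximalIdeal R).ResidueField :=
    AlgEquiv.ofBijective (IsScalarTower.toAlgHom R (R ⧸ IsLocalRing.maximalIdeal R) _)
      (Ideal.bijective_algebraMap_quotient_residueField _)
  rw [ringKrullDim_eq_of_ringEquiv (Algebra.TensorProduct.congr θ (AlgEquiv.refl : S ≃ₐ[R] S)).toRingEquiv]
  let θ' : FractionRing R ≃ₐ[R] (⊥ : Ideal R).ResidueField :=
    IsLocalization.algEquiv (nonZeroDivisors R) _ _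
  rw [ringKrullDim_eq_of_ringEquiv (Algebra.TensorProduct.congr θ' (AlgEquiv.refl : S ≃ₐ[R] S)).toRingEquiv]
  haveI : Nontrivial ((IsLocalRing.maximalIdeal R).Fiber S) :=
    (Algebra.TensorProduct.congr θ (AlgEquiv.refl : S ≃ₐ[R] S)).toEquiv.symm.nontrivial
  exact DimTrdegLib.ringKrullDim_closed_fibre_eq

end Groth.Agent.S0444
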