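import Groth.Statements.S0446
import Groth.Agent.DevissExLib.Projective
import Groth.Agent.DevissExLib.Scheme
import Groth.Agent.FlatLib.SchemeFlat
import Groth.Agent.DevissExLib.ProjTransport

set_option autoImplicit false
universe u
open FlatMor
open AlgebraicGeometry CategoryTheory
open scoped TensorProduct

namespace Groth.Agent.S0446

open AlgebraicGeometry CategoryTheory Limits in
/-- For a morphism locally of finite presentation which is flat at a point x, there are affine étale
neighbourhoods (X', x') of (X, x) and (S', s') of (S, f x) with trivial residue field extensions and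
a compatible morphism X' → S' such that the ring of global sections of X' is a projective module
over that of S'. -/
theorem result {X S : Scheme.{u}} (f : X ⟶ S) [LocallyOfFinitePresentation f] (x : X) (hx : (f.stalkMap x).hom.Flat) :
    ∃ (X' S' : Scheme.{u}) (g : X' ⟶ X) (e : S' ⟶ S) (f' : X' ⟶ S') (x' : X'),
      IsAffine X' ∧ IsAffine S' ∧ Etale g ∧ Etale e ∧ g ≫ f = f' ≫ e ∧ g x' = x ∧ e (f' x') = f x ∧
      Function.Surjective (g.residueFieldMap x') ∧ Function.Surjective (e.residueFieldMap (f' x')) ∧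
      @Module.Projective Γ(S', ⊤) _ Γ(X', ⊤) _ (f'.appTop).hom.toAlgebra.toModule := by
  obtain ⟨V, hV, hfxV, -⟩ := exists_isAffineOpen_mem_and_subset (x := f x) (U := ⊤) trivial
  obtain ⟨U, hU, hxU, hUV⟩ := exists_isAffineOpen_mem_and_subset (x := x) (U := f ⁻¹ᵁ V) hfxV
  let R : Type u := Γ(S, V)
  let A : Type u := Γ(X, U)
  let ρ := f.appLE V U hUV
  letI : Algebra R A := ρ.hom.toAlgebra
  haveI : Algebra.FinitePresentation R A := f.finitePresentation_appLE hV hU hUV
  let qp : PrimeSpectrum A := hU.primeIdealOf ⟨x, hxU⟩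
  let pp : PrimeSpectrum R := hV.primeIdealOf ⟨f x, hUV hxU⟩
  have hqp : PrimeSpectrum.comap (algebraMap R A) qp = pp :=
    IsAffineOpen.comap_primeIdealOf_appLE V hV U hU hUV hxU
  haveI : qp.asIdeal.LiesOver pp.asIdeal := ⟨(congrArg PrimeSpectrum.asIdeal hqp).symm⟩
  have hflat : FlatCA.FlatAt R qp.asIdeal A := (FlatLib.flat_stalkMap_iff V hV U hU hUV hxU).1 hx
  obtain ⟨R', S', _, _, _, _, _, _, _, _, p', q', _, _, ⟨hetR, hp'p, hbR⟩, ⟨hetS, hq'q, hbS⟩, hq'p', hproj⟩ :=
    DevissExLib.exists_projective_nhd (R := R) (S := A) A pp.asIdeal qp.asIdeal hflat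
  haveI := hetR
  haveI := hetS
  haveI := hp'p
  haveI := hq'q
  haveI := hq'p'
  haveI : Module.Projective R' S' := by
    haveI := hproj
    let E : RestrictScalars R' S' (S' ⊗[A] A) ≃ₗ[R'] S' :=
      { (RestrictScalars.addEquiv R' S' _).trans
          (TensorProduct.AlgebraTensorModule.rid A S' S').toAddEquiv with
        map_smul' := fun c z => by
          show TensorProduct.AlgebraTensorModule.rid A S' S' (RestrictScalars.addEquiv R' S' _ (c • z)) =
            c • TensorProduct.AlgebraTensorModule.rid A S' S' (RestrictScalars.addEquiv R' S' _ z)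
          rw [RestrictScalars.addEquiv_map_smul, map_smul, smul_eq_mul, ← Algebra.smul_def] }
    exact Module.Projective.of_equiv E
  let eR := Spec.map (CommRingCat.ofHom (algebraMap R R'))
  let gA := Spec.map (CommRingCat.ofHom (algebraMap A S'))
  let π := Spec.map (CommRingCat.ofHom (algebraMap R' S'))
  haveI : Etale eR := by
    rw [HasRingHomProperty.Spec_iff (P := @Etale)]
    exact RingHom.etale_algebraMap.2 inferInstance
  haveI : Etale gA := by
    rw [HasRingHomProperty.Spec_iff (P := @Etale)]
    exact RingHom.etale_algebraMap.2 inferInstance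
  have hπ : π (⟨q', inferInstance⟩ : PrimeSpectrum S') = (⟨p', inferInstance⟩ : PrimeSpectrum R') :=
    PrimeSpectrum.ext (Ideal.over_def q' p').symm
  refine ⟨Spec (CommRingCat.of S'), Spec (CommRingCat.of R'), gA ≫ hU.fromSpec, eR ≫ hV.fromSpec, π,
    (⟨q', inferInstance⟩ : PrimeSpectrum S'), inferInstance, inferInstance, inferInstance, inferInstance,
    ?_, ?_, ?_, ?_, ?_, ?_⟩
  · have hfac : hU.fromSpec ≫ f = Spec.map ρ ≫ hV.fromSpec :=
      (IsAffineOpen.SpecMap_appLE_fromSpec f hV hU hUV).symm
    rw [Category.assoc, hfac]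
    simp only [gA, π, eR, ← Category.assoc, ← Spec.map_comp, show ρ = CommRingCat.ofHom (algebraMap R A) from rfl,
      ← CommRingCat.ofHom_comp, ← IsScalarTower.algebraMap_eq R A S', ← IsScalarTower.algebraMap_eq R R' S']
  · show hU.fromSpec (gA (⟨q', inferInstance⟩ : PrimeSpectrum S')) = x
    rw [show gA (⟨q', inferInstance⟩ : PrimeSpectrum S') = qp from
      PrimeSpectrum.ext (Ideal.over_def q' qp.asIdeal).symm]
    exact hU.fromSpec_primeIdealOf ⟨x, hxU⟩
  · show hV.fromSpec (eR (π (⟨q', inferInstance⟩ : PrimeSpectrum S'))) = f x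
    rw [hπ, show eR (⟨p', inferInstance⟩ : PrimeSpectrum R') = pp from
      PrimeSpectrum.ext (Ideal.over_def p' pp.asIdeal).symm]
    exact hV.fromSpec_primeIdealOf ⟨f x, hUV hxU⟩
  · exact (DevissExLib.bijective_residueFieldMap_comp gA hU.fromSpec _
      (DevissExLib.bijective_residueFieldMap_specMap qp.asIdeal (⟨q', inferInstance⟩ : PrimeSpectrum S')
        (Ideal.over_def q' qp.asIdeal).symm hbS.2)).2
  · rw [hπ]
    exact (DevissExLib.bijective_residueFieldMap_comp eR hV.fromSpec _
      (DevissExLib.bijective_residueFieldMap_specMap pp.asIdeal (⟨p', inferInstance⟩ : PrimeSpectrum R')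
        (Ideal.over_def p' pp.asIdeal).symm hbR.2)).2
  · exact DevissExLib.projective_of_commSq (algebraMap R' S') π.appTop.hom
      (Scheme.ΓSpecIso (CommRingCat.of R')).symm.commRingCatIsoToRingEquiv
      (Scheme.ΓSpecIso (CommRingCat.of S')).symm.commRingCatIsoToRingEquiv
      (fun a => RingHom.congr_fun (congr_arg CommRingCat.Hom.hom
        (Scheme.ΓSpecIso_inv_naturality (CommRingCat.ofHom (algebraMap R' S')))) a)
      (by rw [toAlgebra_algebraMap]; infer_instance)

end Groth.Agent.S0446
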