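import Groth.Statements.S0448
import Mathlib.Algebra.Module.Projective
import Mathlib.LinearAlgebra.TensorProduct.Vanishing
import Mathlib.RingTheory.LocalRing.ResidueField.Basic
import Mathlib.RingTheory.Flat.Basic
import Mathlib.LinearAlgebra.DirectSum.Finsupp
import Mathlib.LinearAlgebra.Matrix.NonsingularInverse
import Mathlib.LinearAlgebra.Matrix.ToLin
import Mathlib.LinearAlgebra.Basis.VectorSpace
import Mathlib.LinearAlgebra.TensorProduct.Prod
-- import your own Groth.Agent.* helpers here

set_option autoImplicit false
universe u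
open FlatMor

namespace Groth.Agent.S0448

open TensorProduct in
/-- Over a local ring, a linear map from a projective module to a flat module which is injective modulo
the maximal ideal is universally injective (injective after tensoring with any module). -/
theorem result {R M N : Type u} [CommRing R] [IsLocalRing R] [AddCommGroup M] [Module R M] [Module.Projective R M]
    [AddCommGroup N] [Module R N] [Module.Flat R N] (u : M →ₗ[R] N)
    (h : Function.Injective (LinearMap.lTensor (IsLocalRing.ResidueField R) u)) :
    ∀ (Q : Type u) [AddCommGroup Q] [Module R Q], Function.Injective (LinearMap.rTensor Q u) := by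
  classical
  intro Q _ _
  rw [injective_iff_map_eq_zero]
  intro x hx
  obtain ⟨i, hi⟩ := ‹Module.Projective R M›.out
  let p : (M →₀ R) →ₗ[R] M := Finsupp.linearCombination R id
  have hp : ∀ m, p (i m) = m := hi
  -- `u'` is defined on a free module
  let u' : (M →₀ R) →ₗ[R] N × (M →₀ R) := (u.comp p).prod (LinearMap.id - i.comp p)
  let k := IsLocalRing.ResidueField R
  have hu' : Function.Injective (LinearMap.lTensor k u') := by
    rw [injective_iff_map_eq_zero]
    intro z hz
    have h1 : LinearMap.lTensor k u (LinearMap.lTensor k p z) = 0 := by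
      have := congrArg (LinearMap.lTensor k (LinearMap.fst R N (M →₀ R))) hz
      rw [map_zero, ← LinearMap.lTensor_comp_apply, LinearMap.fst_prod] at this
      rwa [← LinearMap.lTensor_comp_apply]
    have h2 : LinearMap.lTensor k p z = 0 := (injective_iff_map_eq_zero _).mp h _ h1
    have h3 := congrArg (LinearMap.lTensor k (LinearMap.snd R N (M →₀ R))) hz
    rw [map_zero, ← LinearMap.lTensor_comp_apply, LinearMap.snd_prod, LinearMap.lTensor_sub, LinearMap.sub_apply,
      LinearMap.lTensor_id, LinearMap.id_apply, LinearMap.lTensor_comp_apply, h2, map_zero, sub_zero] at h3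
    exact h3
  let x' := LinearMap.rTensor Q i x
  have hx' : LinearMap.rTensor Q p x' = x := by
    rw [← LinearMap.rTensor_comp_apply, show p.comp i = LinearMap.id from LinearMap.ext hp, LinearMap.rTensor_id, LinearMap.id_apply]
  have hux' : LinearMap.rTensor Q u' x' = 0 := by
    rw [← LinearMap.rTensor_comp_apply, show u'.comp i = (LinearMap.inl R N (M →₀ R)).comp u from LinearMap.ext fun m => by simp [u', hp],
      LinearMap.rTensor_comp_apply, hx, map_zero]
  suffices x' = 0 by rw [← hx', this, map_zero]
  clear_value x'
  -- coordinates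
  let q := TensorProduct.finsuppScalarLeft R Q M x'
  let σ := ↥q.support
  have hxe : x' = ∑ c : σ, Finsupp.single (c : M) (1 : R) ⊗ₜ[R] q c := by
    apply (TensorProduct.finsuppScalarLeft R Q M).injective
    simp only [map_sum, Finset.sum_coe_sort q.support (fun c => TensorProduct.finsuppScalarLeft R Q M (Finsupp.single c (1 : R) ⊗ₜ[R] q c))]
    show q = _
    ext c'
    simp only [Finsupp.coe_finsetSum, Finset.sum_apply, TensorProduct.finsuppScalarLeft_apply_tmul_apply, Finsupp.single_apply, ite_smul, one_smul, zero_smul]
    rw [Finset.sum_coe_sort q.support (fun c => if c = c' then q c else 0)]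
    simp [eq_comm]
  let n : σ → N × (M →₀ R) := fun c => u' (Finsupp.single (c : M) 1)
  have hzero : ∑ c : σ, n c ⊗ₜ[R] q c = (0 : (N × (M →₀ R)) ⊗[R] Q) := by
    rw [← hux', hxe]
    simp [n]
  have hzero' : ∑ c : σ, q c ⊗ₜ[R] n c = (0 : Q ⊗[R] (N × (M →₀ R))) := by
    have := congrArg (TensorProduct.comm R _ _) hzero
    simpa using this
  haveI : Module.Flat R (N × (M →₀ R)) := Module.Flat.iff_lTensor_preserves_injective_linearMap.mpr fun N₁ N₂ _ _ _ _ g hg => by
    rw [injective_iff_map_eq_zero]
    intro z hz
    have key : ∀ (P : Type u) [AddCommGroup P] [Module R P] (π : N × (M →₀ R) →ₗ[R] P),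
        LinearMap.lTensor P g (LinearMap.rTensor N₁ π z) = LinearMap.rTensor N₂ π (LinearMap.lTensor _ g z) := fun P _ _ π => by
      simp only [← LinearMap.comp_apply, LinearMap.lTensor_comp_rTensor, LinearMap.rTensor_comp_lTensor]
    have z1 : LinearMap.rTensor N₁ (LinearMap.fst R N (M →₀ R)) z = 0 :=
      Module.Flat.lTensor_preserves_injective_linearMap g hg (by rw [key, hz, map_zero, map_zero])
    have z2 : LinearMap.rTensor N₁ (LinearMap.snd R N (M →₀ R)) z = 0 :=
      Module.Flat.lTensor_preserves_injective_linearMap g hg (by rw [key, hz, map_zero, map_zero])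
    calc z = LinearMap.rTensor N₁ ((LinearMap.inl R N (M →₀ R)).comp (LinearMap.fst R N (M →₀ R)) +
          (LinearMap.inr R N (M →₀ R)).comp (LinearMap.snd R N (M →₀ R))) z := by
            rw [show _ + _ = (LinearMap.id : N × (M →₀ R) →ₗ[R] _) from LinearMap.ext fun w => by simp, LinearMap.rTensor_id, LinearMap.id_apply]
      _ = 0 := by simp [LinearMap.rTensor_comp_apply, z1, z2]
  obtain ⟨d, a, y, hn, ha⟩ := TensorProduct.vanishesTrivially_of_sum_tmul_eq_zero_of_rTensor_injective R
    (m := fun c : σ => q c) (n := n) (Module.Flat.rTensor_preserves_injective_linearMap _ (Submodule.injective_subtype _)) hzero'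
  -- the matrix is of full rank modulo the maximal ideal
  let ā : Matrix σ (Fin d) k := fun c j => IsLocalRing.residue R (a c j)
  have hinj : Function.Injective (Matrix.vecMulLinear ā) := by
    rw [injective_iff_map_eq_zero]
    intro l hl
    choose L hL using fun c => IsLocalRing.residue_surjective (l c)
    have h0 : (1 : k) ⊗ₜ[R] (∑ c, L c • n c) = 0 := by
      simp only [hn, Finset.smul_sum, smul_smul]
      rw [Finset.sum_comm, TensorProduct.tmul_sum]
      refine Finset.sum_eq_zero fun j _ => ?_
      rw [← Finset.sum_smul, ← TensorProduct.smul_tmul]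
      have : IsLocalRing.residue R (∑ c, L c * a c j) = 0 := by
        simpa [ā, Matrix.vecMul, dotProduct, hL] using congrFun hl j
      rw [Algebra.smul_def, mul_one, show algebraMap R k = IsLocalRing.residue R from rfl, this, TensorProduct.zero_tmul]
    have h1 : (1 : k) ⊗ₜ[R] (∑ c : σ, L c • Finsupp.single (c : M) (1 : R)) = 0 := hu' (by
      rw [map_zero, LinearMap.lTensor_tmul]
      simpa [n, map_sum, ← map_smul] using h0)
    funext c
    have h2 := congrArg (fun w => TensorProduct.finsuppScalarRight R R k M w (c : M)) h1
    simp only [TensorProduct.finsuppScalarRight_apply_tmul_apply, map_zero, Finsupp.coe_zero, Pi.zero_apply,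
      Finsupp.coe_finsetSum, Finset.sum_apply] at h2
    rw [Finset.sum_eq_single c (fun b _ hb => by simp [Finsupp.single_apply, Subtype.val_injective.ne hb]) (by simp)] at h2
    rw [Pi.zero_apply, ← hL c]
    simp [Algebra.smul_def] at h2
    exact h2
  obtain ⟨b', hb'⟩ := LinearMap.exists_leftInverse_of_injective _ (LinearMap.ker_eq_bot.mpr hinj)
  choose b hb using fun j c => IsLocalRing.residue_surjective (LinearMap.toMatrixRight' b' j c)
  let A : Matrix σ (Fin d) R := a
  let B : Matrix (Fin d) σ R := Matrix.of b
  have hAB : (A * B).map (IsLocalRing.residue R) = 1 := by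
    rw [Matrix.map_mul, show A.map (IsLocalRing.residue R) = ā from rfl,
      show B.map (IsLocalRing.residue R) = LinearMap.toMatrixRight' b' from Matrix.ext fun j c => hb j c]
    rw [← LinearEquiv.apply_symm_apply LinearMap.toMatrixRight' ā, ← LinearMap.toMatrixRight'_comp]
    rw [show LinearMap.toMatrixRight'.symm ā = Matrix.vecMulLinear ā from rfl, hb', LinearMap.toMatrixRight'_id]
  have hdet : IsUnit (A * B).det := by
    rw [← IsLocalRing.residue_ne_zero_iff_isUnit, RingHom.map_det, RingHom.mapMatrix_apply, hAB, Matrix.det_one]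
    exact one_ne_zero
  have hq : ∀ c : σ, q c = 0 := fun c => by
    have h4 : ∀ e, ∑ c : σ, (A * B) c e • q c = 0 := fun e => by
      simp only [Matrix.mul_apply, Finset.sum_smul]
      rw [Finset.sum_comm]
      refine Finset.sum_eq_zero fun j _ => ?_
      simp [mul_comm _ (B j e), ← smul_smul, ← Finset.smul_sum, A, ha j]
    have h5 : ∑ e, (A * B)⁻¹ e c • ∑ c' : σ, (A * B) c' e • q c' = 0 := by simp [h4]
    simp only [Finset.smul_sum, smul_smul] at h5
    rw [Finset.sum_comm] at h5
    simp only [← Finset.sum_smul, mul_comm ((A * B)⁻¹ _ _), ← Matrix.mul_apply, Matrix.mul_nonsing_inv _ hdet, Matrix.one_apply,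
      ite_smul, one_smul, zero_smul] at h5
    rwa [Finset.sum_eq_single c (fun e _ he => if_neg he) (fun h => absurd (Finset.mem_univ c) h), if_pos rfl] at h5
  rw [hxe]
  simp [hq]

end Groth.Agent.S0448
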