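import Groth.Statements.S0450
import Groth.Agent.FibDimLib.Apps
-- import your own Groth.Agent.* helpers here

set_option autoImplicit false
universe u
open FlatMor Topology

namespace Groth.Agent.S0450

open AlgebraicGeometry CategoryTheory Limits in
/-- A flat proper morphism locally of finite presentation that is finite over a dense open subset of the
target is finite (the source alternatively allows the open to be retrocompact instead of assuming
finite presentation; only this alternative is stated). -/
theorem result {X S : Scheme.{u}} (f : X ⟶ S) [Flat f] [IsProper f] [LocallyOfFinitePresentation f] (U : S.Opens)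
    (hU : Dense (U : Set ↑S)) [IsFinite (f ∣_ U)] : IsFinite f := by
  have h0 : ∀ x : X, f.base x ∈ U → FlatMor.fibreDimAt f x ≤ 0 := fun x hx => by
    haveI : DiscreteTopology (f.fiber (f.base x)) := by
      haveI : DiscreteTopology (f.base ⁻¹' {f.base x}) := by
        have hd : DiscreteTopology ((f ∣_ U).base ⁻¹' {⟨f.base x, hx⟩}) :=
          isDiscrete_iff_discreteTopology.mp
            ((locallyQuasiFinite_iff_isDiscrete_preimage_singleton.mp inferInstance) _)
        let r : f.base ⁻¹' {f.base x} → (f ∣_ U).base ⁻¹' {⟨f.base x, hx⟩} := fun z =>
          ⟨⟨z.1, show f.base z.1 ∈ U by rw [show f.base z.1 = f.base x from z.2]; exact hx⟩,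
            Subtype.ext (by
              have h := morphismRestrict_base_coe f U ⟨z.1, show f.base z.1 ∈ U by
                rw [show f.base z.1 = f.base x from z.2]; exact hx⟩
              exact h.trans z.2)⟩
        exact DiscreteTopology.of_continuous_injective (f := r) (by fun_prop)
          (fun a b h => Subtype.ext (congrArg (fun w => (w.1.1 : X)) h))
      exact (f.fiberHomeo (f.base x)).isEmbedding.discreteTopology
    exact FibDimLib.localDim_le_zero_of_isOpen (isOpen_discrete _)
  have hall : ∀ s : S, topologicalKrullDim (f.base ⁻¹' {s}) ≤ 0 := fun s => by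
    rw [← IsHomeomorph.topologicalKrullDim_eq _ (f.fiberHomeo s).isHomeomorph]
    exact (FibDimLib.topologicalKrullDim_fiber_le_iff f s 0).mpr fun x _ =>
      FibDimLib.fibreDimAt_le_of_dense f U hU 0 h0 (Or.inl inferInstance) x
  haveI := FibDimLib.isFinite_morphismRestrict_of_dim_zero f ⊤ fun y _ => hall y
  refine IsZariskiLocalAtTarget.of_iSup_eq_top (P := @IsFinite) (fun _ : Unit => (⊤ : S.Opens)) (by simp) fun _ => ‹IsFinite (f ∣_ ⊤)›

end Groth.Agent.S0450
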