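import Groth.Statements.S1239
import Mathlib
import Groth.Agent.FlatInjLib.DenseFP
-- import your own Groth.Agent.* helpers here

set_option autoImplicit false
universe u
open FlatMor

namespace Groth.Agent.S1239

/-- Ring form, X = Spec B, S = Spec A affine; a retrocompact open of Spec A is a finite union of basic
opens: let B be a finitely presented A-algebra and N a finite B-module which is flat over A. Let
f_1, …, f_n be elements of A such that the map from A to the product of the localizations A_{f_i} is
injective (the open D(f_1) ∪ … ∪ D(f_n) is scheme-theoretically dense). If each localization N_{f_i}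
is finitely presented over B_{f_i}, then N is finitely presented over B. -/
theorem result {A B : Type u} [CommRing A] [CommRing B] [Algebra A B] [Algebra.FinitePresentation A B]
    (N : Type u) [AddCommGroup N] [Module B N] [Module A N] [IsScalarTower A B N] [Module.Finite B N] [Module.Flat A N]
    {n : ℕ} (f : Fin n → A)
    (hdense : Function.Injective (RingHom.pi (fun i => algebraMap A (Localization.Away (f i)))))
    (hfp : ∀ i, Module.FinitePresentation (Localization.Away (algebraMap A B (f i)))
      (LocalizedModule (Submonoid.powers (algebraMap A B (f i))) N)) :
    Module.FinitePresentation B N := by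
  refine FlatInjLib.finitePresentation_of_dense (R := A) (fun i : ULift.{u} (Fin n) => Submonoid.powers (f i.down)) (fun x hx => ?_) fun i => ?_
  · refine hdense ?_
    rw [map_zero]
    funext i
    obtain ⟨t, ht, htx⟩ := hx ⟨i⟩
    exact (IsLocalization.map_eq_zero_iff (Submonoid.powers (f i)) _ x).2 ⟨⟨t, ht⟩, htx⟩
  · have := hfp i.down
    rw [Algebra.algebraMapSubmonoid_powers]
    exact this

end Groth.Agent.S1239
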