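import Groth.Statements.S0451
import Groth.Agent.S1239
-- import your own Groth.Agent.* helpers here

set_option autoImplicit false
set_option backward.isDefEq.respectTransparency false
set_option linter.all false
universe u
open FlatMor

namespace Groth.Agent.S0451

open AlgebraicGeometry CategoryTheory Limits TopologicalSpace

theorem core {A B : Type u} [CommRing A] [CommRing B] [Algebra A B] [Algebra.FiniteType A B] [Module.Flat A B]
    {n : ℕ} (f : Fin n → A)
    (hdense : Function.Injective (RingHom.pi (fun i => algebraMap A (Localization.Away (f i)))))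
    (hfp : ∀ i, (algebraMap A (Localization.Away (algebraMap A B (f i)))).FinitePresentation) :
    Algebra.FinitePresentation A B := by
  obtain ⟨m, π, hπ⟩ := Algebra.FiniteType.iff_quotient_mvPolynomial''.mp ‹Algebra.FiniteType A B›
  let P := MvPolynomial (Fin m) A
  letI : Algebra P B := π.toRingHom.toAlgebra
  haveI : IsScalarTower A P B := IsScalarTower.of_algHom π
  haveI : Module.Finite P B := Module.Finite.of_surjective (Algebra.linearMap P B) hπ
  have hN : Module.FinitePresentation P B := by
    refine Groth.Agent.S1239.result (A := A) (B := P) B f hdense fun i => ?_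
    let h : P := algebraMap A P (f i)
    let h' : B := algebraMap A B (f i)
    let Ph := Localization.Away h
    let Bh := Localization.Away h'
    have hh : algebraMap P B h = h' := (IsScalarTower.algebraMap_apply A P B (f i)).symm
    have hpow : Algebra.algebraMapSubmonoid B (Submonoid.powers h) = Submonoid.powers h' :=
      (Submonoid.map_powers (algebraMap P B) h).trans (congrArg Submonoid.powers hh)
    haveI : IsLocalization (Algebra.algebraMapSubmonoid B (Submonoid.powers h)) Bh := by
      rw [hpow]
      infer_instance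
    haveI : IsLocalization (Submonoid.map (algebraMap P B) (Submonoid.powers h)) Bh :=
      ‹IsLocalization (Algebra.algebraMapSubmonoid B (Submonoid.powers h)) Bh›
    let φ : Ph →+* Bh := IsLocalization.map Bh (algebraMap P B)
      (Submonoid.le_comap_map (Submonoid.powers h) : Submonoid.powers h ≤ (Algebra.algebraMapSubmonoid B (Submonoid.powers h)).comap (algebraMap P B))
    letI : Algebra Ph Bh := φ.toAlgebra
    haveI : IsScalarTower P Ph Bh := .of_algebraMap_eq fun p => by
      show _ = φ (algebraMap P Ph p)
      simp only [φ, IsLocalization.map_eq, ← IsScalarTower.algebraMap_apply P B Bh]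
    have hφ : Function.Surjective φ :=
      IsLocalization.map_surjective_of_surjective (M := Submonoid.powers h) (S := Ph) (g := algebraMap P B) (Q := Bh) hπ
    have hfin : φ.FinitePresentation := by
      refine RingHom.FinitePresentation.of_comp_finiteType (algebraMap A Ph) (g := φ) ?_ ?_
      · have : φ.comp (algebraMap A Ph) = algebraMap A Bh := by
          ext a
          show φ (algebraMap A Ph a) = _
          simp only [φ, IsScalarTower.algebraMap_apply A P Ph, IsLocalization.map_eq,
            ← IsScalarTower.algebraMap_apply A P B, ← IsScalarTower.algebraMap_apply A B Bh]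
        rw [this]
        exact hfp i
      · rw [RingHom.finiteType_algebraMap]
        haveI : Algebra.FiniteType P Ph := IsLocalization.finiteType_of_monoid_fg (Submonoid.powers h) Ph
        exact Algebra.FiniteType.trans (S := P) inferInstance inferInstance
    have hker : (RingHom.ker φ).FG := by
      letI := φ.toAlgebra
      haveI : Algebra.FinitePresentation Ph Bh := hfin
      exact Algebra.FinitePresentation.ker_fG_of_surjective (A := Ph) (Algebra.ofId Ph Bh) hφ
    haveI : Module.FinitePresentation Ph Bh :=
      Module.finitePresentation_of_surjective (Algebra.linearMap Ph Bh) hφ hker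
    haveI : IsLocalizedModule (Submonoid.powers h) (IsScalarTower.toAlgHom P B Bh).toLinearMap :=
      isLocalizedModule_iff_isLocalization.mpr inferInstance
    let e := IsLocalizedModule.iso (Submonoid.powers h) (IsScalarTower.toAlgHom P B Bh).toLinearMap
    exact Module.FinitePresentation.of_equiv
      (LinearEquiv.extendScalarsOfIsLocalization (Submonoid.powers h) Ph e).symm
  refine Algebra.FinitePresentation.of_surjective (f := π) hπ ?_
  exact Module.FinitePresentation.fg_ker (Algebra.linearMap P B) hπ


open AlgebraicGeometry CategoryTheory Limits in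
/-- A flat morphism locally of finite type which is locally of finite presentation over a quasi-compact
scheme-theoretically dense open of the target is locally of finite presentation. -/
theorem result {X S : Scheme.{u}} (f : X ⟶ S) [LocallyOfFiniteType f] [Flat f] (U : S.Opens)
    [QuasiCompact U.ι] [IsSchemeTheoreticallyDominant U.ι] [LocallyOfFinitePresentation (f ∣_ U)] : LocallyOfFinitePresentation f := by
  constructor
  intro U₀ hU₀ V hV e
  algebraize [(f.appLE U₀ V e).hom]
  haveI : Algebra.FiniteType Γ(S, U₀) Γ(X, V) := (f.finiteType_appLE hU₀ hV e)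
  haveI : Module.Flat Γ(S, U₀) Γ(X, V) := f.flat_appLE hU₀ hV e
  have hqc : IsCompact ((U₀ ⊓ U : S.Opens) : Set S) := by
    have := U.ι.isCompact_preimage hU₀.isCompact
    have h2 := this.image U.ι.continuous
    convert h2 using 1
    show (U₀ : Set S) ∩ U = U.ι '' (U.ι ⁻¹' U₀)
    rw [Set.image_preimage_eq_inter_range, Scheme.Opens.range_ι]
  have hb : ∀ x : (U₀ ⊓ U : S.Opens), ∃ g : Γ(S, U₀), S.basicOpen g ≤ U₀ ⊓ U ∧ x.1 ∈ S.basicOpen g :=
    fun x => hU₀.exists_basicOpen_le ⟨x.1, x.2⟩ x.2.1
  choose g hg hxg using hb
  obtain ⟨t, ht⟩ := hqc.elim_finite_subcover (fun x => (S.basicOpen (g x) : Set S))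
    (fun x => (S.basicOpen (g x)).2) (fun x hx => Set.mem_iUnion.mpr ⟨⟨x, hx⟩, hxg ⟨x, hx⟩⟩)
  let F : Fin t.card → Γ(S, U₀) := fun i => g (t.equivFin.symm i).1
  refine core F ?_ ?_
  · rw [injective_iff_map_eq_zero]
    intro s hs
    apply U.ι.app_injective U₀
    rw [map_zero]
    refine U.toScheme.IsSheaf.section_ext fun w hw => ?_
    obtain ⟨x, hxt, hxs⟩ := Set.mem_iUnion₂.mp (ht ⟨(hw : U.ι w ∈ U₀), w.2⟩)
    refine ⟨U.ι ⁻¹ᵁ S.basicOpen (g x), U.ι.preimage_mono ((hg x).trans inf_le_left), hxs, ?_⟩
    haveI := hU₀.isLocalization_basicOpen (g x)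
    have hzi : ∀ i, S.presheaf.map (homOfLE (S.basicOpen_le (F i))).op s = 0 := fun i => by
      haveI := hU₀.isLocalization_basicOpen (F i)
      have h1 : algebraMap Γ(S, U₀) (Localization.Away (F i)) s = 0 := congrFun hs i
      have h2 := congrArg (IsLocalization.algEquiv (Submonoid.powers (F i))
        (Localization.Away (F i)) Γ(S, S.basicOpen (F i))) h1
      rw [AlgEquiv.commutes, map_zero] at h2
      exact h2
    have hFx : F (t.equivFin ⟨x, hxt⟩) = g x := by simp [F]
    have hz : S.presheaf.map (homOfLE (S.basicOpen_le (g x))).op s = 0 := hFx ▸ hzi _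
    refine Eq.trans ?_ (map_zero _).symm
    have hn := U.ι.naturality (homOfLE (S.basicOpen_le (g x))).op
    have h3 := congrArg (fun m => m.hom s) hn
    simp only [CommRingCat.hom_comp, RingHom.comp_apply] at h3
    rw [hz, map_zero] at h3
    exact h3.symm
  · intro i
    let g₀ := F i
    have hgU : S.basicOpen g₀ ≤ U := (hg _).trans inf_le_right
    let h' : Γ(X, V) := algebraMap Γ(S, U₀) Γ(X, V) g₀
    have hV' : X.basicOpen h' ≤ f ⁻¹ᵁ S.basicOpen g₀ := by
      show X.basicOpen ((f.appLE U₀ V e).hom g₀) ≤ _
      rw [Scheme.basicOpen_appLE]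
      exact inf_le_right
    have hV'U : X.basicOpen h' ≤ f ⁻¹ᵁ U := hV'.trans (f.preimage_mono hgU)
    haveI := hV.isLocalization_basicOpen h'
    haveI := hU₀.isLocalization_basicOpen g₀
    have hfp1 : (f.appLE (S.basicOpen g₀) (X.basicOpen h') hV').hom.FinitePresentation := by
      have h1 := (f ∣_ U).finitePresentation_appLE
        (U := U.ι ⁻¹ᵁ S.basicOpen g₀) ((hU₀.basicOpen g₀).preimage_of_isOpenImmersion U.ι (by rwa [Scheme.Opens.opensRange_ι]))
        (V := (f ⁻¹ᵁ U).ι ⁻¹ᵁ X.basicOpen h') ((hV.basicOpen h').preimage_of_isOpenImmersion (f ⁻¹ᵁ U).ι (by rwa [Scheme.Opens.opensRange_ι]))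
        (fun a ha => by
          show U.ι ((f ∣_ U) a) ∈ S.basicOpen g₀
          rw [← Scheme.Hom.comp_apply, morphismRestrict_ι, Scheme.Hom.comp_apply]
          exact hV' ha)
      rw [morphismRestrict_appLE] at h1
      have e1 : U.ι ''ᵁ (U.ι ⁻¹ᵁ S.basicOpen g₀) = S.basicOpen g₀ := by
        rw [Scheme.Hom.image_preimage_eq_opensRange_inf, Scheme.Opens.opensRange_ι]
        exact inf_eq_right.mpr hgU
      have e2 : (f ⁻¹ᵁ U).ι ''ᵁ ((f ⁻¹ᵁ U).ι ⁻¹ᵁ X.basicOpen h') = X.basicOpen h' := by
        rw [Scheme.Hom.image_preimage_eq_opensRange_inf, Scheme.Opens.opensRange_ι]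
        exact inf_eq_right.mpr hV'U
      exact (Scheme.Hom.appLE_congr f _ e1 e2 (fun m => m.hom.FinitePresentation)).mp h1
    have hfp2 : (S.presheaf.map (homOfLE (S.basicOpen_le g₀)).op).hom.FinitePresentation :=
      RingHom.finitePresentation_algebraMap.mpr
        (IsLocalization.Away.finitePresentation g₀ (S := Γ(S, S.basicOpen g₀)))
    have hfp3 := RingHom.FinitePresentation.comp hfp1 hfp2
    rw [← CommRingCat.hom_comp, Scheme.Hom.map_appLE] at hfp3
    let eq1 := IsLocalization.algEquiv (Submonoid.powers h') Γ(X, X.basicOpen h') (Localization.Away h')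
    have h4 := RingHom.FinitePresentation.comp (RingHom.FinitePresentation.of_bijective (f := eq1.toRingEquiv.toRingHom) eq1.bijective) hfp3
    convert h4 using 1
    ext a
    show algebraMap Γ(X, V) (Localization.Away h') (algebraMap Γ(S, U₀) Γ(X, V) a) = eq1 _
    rw [← eq1.commutes]
    congr 1
    show X.presheaf.map _ ((f.appLE U₀ V e).hom a) = _
    rw [← ConcreteCategory.comp_apply, Scheme.Hom.appLE_map]

end Groth.Agent.S0451
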