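import Groth.Statements.S0460
import Groth.Agent.CohTopLib.Basic
-- import your own Groth.Agent.* helpers here

set_option autoImplicit false
universe u
open CategoryTheory
open CohTop

namespace Groth.Agent.S0460

open TopologicalSpace in
/-- Given an abelian sheaf F, an open U and a class ξ in H^(n+1)(U, F), there is an open covering of U
on each member of which ξ restricts to zero. -/
theorem result {X : TopCat.{u}} (F : CohTop.Ab X) (U : Opens X) (n : ℕ)
    (ξ : CohTop.HU F (n + 1) U) :
    ∃ (ι : Type u) (V : ι → Opens X) (hV : ∀ i, V i ≤ U), iSup V = U ∧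
      ∀ i, CohTop.res F (n + 1) (hV i) ξ = 0 := by
  classical
  choose V i hpV hV using fun p : U => QCohLib.exists_res_eq_zero n ξ p.2
  refine ⟨U, V, fun p => leOfHom (i p), ?_, fun p => hV p⟩
  exact le_antisymm (iSup_le fun p => leOfHom (i p)) fun x hx => Opens.mem_iSup.mpr ⟨⟨x, hx⟩, hpV _⟩

end Groth.Agent.S0460
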