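import Groth.Statements.S0489
import Groth.Agent.DerLib.KInjUse
import Mathlib.CategoryTheory.Functor.OfSequence
-- import your own Groth.Agent.* helpers here

set_option autoImplicit false
set_option linter.style.haveILetI false
universe v u
open CategoryTheory
open CohDer

namespace Groth.Agent.S0489

open CategoryTheory.Limits Opposite CochainComplex CochainComplex.HomComplex

/-- A homotopy to zero lifts along a degreewise split epimorphism of K-injective complexes. -/
theorem exists_lift {A : Type u} [Category.{v} A] [Abelian A] {K J I : CochainComplex A ℤ}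
    [J.IsKInjective] [I.IsKInjective] (hK : K.Acyclic) (p : J ⟶ I)
    (hp : ∀ m, IsSplitEpi (p.f m)) (g : K ⟶ J) (H : Cochain K I (-1))
    (hH : δ (-1) 0 H = Cochain.ofHom (g ≫ p)) :
    ∃ H' : Cochain K J (-1), δ (-1) 0 H' = Cochain.ofHom g ∧
      H'.comp (Cochain.ofHom p) (add_zero (-1)) = H := by
  let H₀ : Cochain K J (-1) := Cochain.ofHomotopy (IsKInjective.homotopyZero g hK)
  have hH₀ : δ (-1) 0 H₀ = Cochain.ofHom g := by simp [H₀, δ_ofHomotopy]
  obtain ⟨c, hc⟩ := IsKInjective.eq_δ_of_cocycle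
    (Cocycle.mk (H₀.comp (Cochain.ofHom p) (add_zero (-1)) - H) 0 (by norm_num)
      (by rw [δ_sub, δ_comp_ofHom, hH₀, ← Cochain.ofHom_comp, hH, sub_self]))
    hK (-2) (by norm_num)
  haveI := hp
  let c' : Cochain K J (-2) := Cochain.mk fun i j hij => c.v i j hij ≫ section_ (p.f j)
  have hc' : c'.comp (Cochain.ofHom p) (add_zero (-2)) = c := by
    ext i j hij
    simp [c']
  refine ⟨H₀ - δ (-2) (-1) c', ?_, ?_⟩
  · rw [δ_sub, δ_δ, sub_zero, hH₀]
  · rw [Cochain.sub_comp, ← δ_comp_ofHom, hc', hc]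
    exact sub_sub_cancel _ _

open CategoryTheory.Limits Opposite in
/-- Let … → I_3 → I_2 → I_1 be an inverse system of K-injective cochain complexes in an abelian category
with sequential limits, such that each transition map is a split epimorphism in each degree. Then
the (termwise) limit complex is K-injective. -/
theorem result {A : Type u} [Category.{v} A] [Abelian A] [HasLimitsOfShape ℕᵒᵖ A]
    (I : ℕᵒᵖ ⥤ CochainComplex A ℤ) (h1 : ∀ n : ℕ, (I.obj (op n)).IsKInjective)
    (h2 : ∀ (n : ℕ) (m : ℤ), IsSplitEpi ((I.map (homOfLE (Nat.le_succ n)).op).f m)) :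
    (limit I).IsKInjective := by
  haveI := h1
  refine ⟨fun {K} f hK => ⟨HomotopyCategory.homotopyOfEq _ _ ?_⟩⟩
  rw [Functor.map_zero]
  let tr : ∀ n : ℕ, I.obj (op (n + 1)) ⟶ I.obj (op n) :=
    fun n => I.map (homOfLE (Nat.le_succ n)).op
  have step : ∀ (n : ℕ) (H : Cochain K (I.obj (op n)) (-1)),
      δ (-1) 0 H = Cochain.ofHom (f ≫ limit.π I (op n)) →
      ∃ H' : Cochain K (I.obj (op (n + 1))) (-1),
        δ (-1) 0 H' = Cochain.ofHom (f ≫ limit.π I (op (n + 1))) ∧
        H'.comp (Cochain.ofHom (tr n)) (add_zero (-1)) = H := fun n H hH =>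
    exists_lift hK (tr n) (h2 n) _ H (by rw [hH, Category.assoc, limit.w])
  let H : ∀ n : ℕ, { H : Cochain K (I.obj (op n)) (-1) //
      δ (-1) 0 H = Cochain.ofHom (f ≫ limit.π I (op n)) } := fun n =>
    Nat.rec (motive := fun n => { H : Cochain K (I.obj (op n)) (-1) //
        δ (-1) 0 H = Cochain.ofHom (f ≫ limit.π I (op n)) })
      ⟨Cochain.ofHomotopy (IsKInjective.homotopyZero (f ≫ limit.π I (op 0)) hK), by
        simp [δ_ofHomotopy]⟩
      (fun n H => ⟨(step n H.1 H.2).choose, (step n H.1 H.2).choose_spec.1⟩) n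
  have hcompat : ∀ n : ℕ, (H (n + 1)).1.comp (Cochain.ofHom (tr n)) (add_zero (-1)) = (H n).1 :=
    fun n => (step n (H n).1 (H n).2).choose_spec.2
  let ψ : ∀ n : ℕ, mappingCone (𝟙 K) ⟶ I.obj (op n) := fun n =>
    mappingCone.desc (𝟙 K) (H n).1 (f ≫ limit.π I (op n)) (by rw [(H n).2, Category.id_comp])
  have hψ : ∀ n : ℕ, ψ (n + 1) ≫ tr n = ψ n := fun n => by
    ext i
    rw [mappingCone.ext_from_iff _ (i + 1) i rfl]
    constructor
    · have := Cochain.congr_v (hcompat n) (i + 1) i (by omega)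
      simpa [ψ] using this
    · simp [ψ, tr, ← HomologicalComplex.comp_f]
  let c : Cone I :=
    { pt := mappingCone (𝟙 K)
      π := NatTrans.ofOpSequence (fun n => ψ n) fun n =>
        (Category.id_comp _).trans (hψ n).symm }
  have hf : f = mappingCone.inr (𝟙 K) ≫ limit.lift I c := limit.hom_ext fun n => by
    rw [Category.assoc, limit.lift_π]
    exact (mappingCone.inr_desc _ (H n.unop).1 (f ≫ limit.π I n) (by rw [Category.id_comp]; exact (H n.unop).2)).symm
  rw [hf]
  exact Groth.Agent.DerLib.KInjUse.quotient_eq_zero_of_factor _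

end Groth.Agent.S0489
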