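import Groth.Statements.S0490
import Mathlib.CategoryTheory.Adjunction.PartialAdjoint


-- import your own Groth.Agent.* helpers here

set_option autoImplicit false
universe v u
open CategoryTheory
open CohDer

namespace Groth.Agent.S0490

open CategoryTheory.Pretriangulated in
/-- Let A be a full triangulated subcategory of a pretriangulated category D (an object property
containing zero, stable under shifts and closed under extensions). The inclusion A → D is a left
adjoint (i.e. has a right adjoint) if and only if every object X of D fits in a distinguished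
triangle A → X → B → A[1] with A in the subcategory and B right orthogonal to it. (The source's
further conclusions about saturation are not asserted.) -/
theorem result {D : Type u} [Category.{v} D] [Preadditive D] [Limits.HasZeroObject D] [HasShift D ℤ]
    [∀ n : ℤ, (shiftFunctor D n).Additive] [Pretriangulated D]
    (P : ObjectProperty D) [P.IsTriangulated] :
    P.ι.IsLeftAdjoint ↔ ∀ X : D, ∃ (A B : D) (f : A ⟶ X) (g : X ⟶ B) (h : B ⟶ (shiftFunctor D (1 : ℤ)).obj A),
      Triangle.mk f g h ∈ distinguishedTriangles ∧ P A ∧ P.rightOrthogonal B := by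
  open Pretriangulated in
  focus
    constructor
    · intro _ X
      let adj := Adjunction.ofIsLeftAdjoint P.ι
      let A := P.ι.rightAdjoint.obj X
      let f : A.obj ⟶ X := adj.counit.app X
      obtain ⟨B, g, h, hT⟩ := distinguished_cocone_triangle f
      have hinj : ∀ (A' : D), P A' → ∀ a b : A' ⟶ A.obj, a ≫ f = b ≫ f → a = b := fun A' hA' a b hab => by
        have := (adj.homEquiv ⟨A', hA'⟩ X).symm.injective (a₁ := ObjectProperty.homMk a) (a₂ := ObjectProperty.homMk b) (by
          rw [Adjunction.homEquiv_counit, Adjunction.homEquiv_counit]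
          exact hab)
        exact congrArg (fun t => t.hom) this
      have hsurj : ∀ (A' : D), P A' → ∀ φ : A' ⟶ X, ∃ a : A' ⟶ A.obj, a ≫ f = φ := fun A' hA' φ => by
        refine ⟨(adj.homEquiv ⟨A', hA'⟩ X φ).hom, ?_⟩
        have := (adj.homEquiv ⟨A', hA'⟩ X).symm_apply_apply φ
        rw [Adjunction.homEquiv_counit] at this
        exact this
      refine ⟨A.obj, B, f, g, h, hT, A.property, fun A' φ hA' => ?_⟩
      have hA'' : P (A'⟦(-1 : ℤ)⟧) := P.le_shift (-1 : ℤ) _ hA'
      have h0 : φ ≫ h = 0 := by
        let e : (A'⟦(-1 : ℤ)⟧)⟦(1 : ℤ)⟧ ≅ A' := (shiftEquiv D (1 : ℤ)).counitIso.app A'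
        let ψ := (shiftFunctor D (1 : ℤ)).preimage (e.hom ≫ φ ≫ h)
        have hψ : ψ = 0 := by
          refine hinj _ hA'' _ _ ?_
          rw [Limits.zero_comp]
          apply (shiftFunctor D (1 : ℤ)).map_injective
          rw [Functor.map_comp, Functor.map_preimage, Functor.map_zero, Category.assoc, Category.assoc]
          exact (congrArg (fun t => e.hom ≫ φ ≫ t) (comp_distTriang_mor_zero₃₁ _ hT)).trans ((congrArg (fun t => e.hom ≫ t) Limits.comp_zero).trans Limits.comp_zero)
        have := congrArg (shiftFunctor D (1 : ℤ)).map hψ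
        rw [Functor.map_preimage, Functor.map_zero] at this
        exact (cancel_epi e.hom).1 (this.trans Limits.comp_zero.symm)
      obtain ⟨χ, rfl⟩ := Triangle.coyoneda_exact₃ _ hT φ h0
      obtain ⟨a, rfl⟩ := hsurj A' hA' χ
      exact (Category.assoc _ _ _).trans ((congrArg (fun t => a ≫ t) (comp_distTriang_mor_zero₁₂ _ hT)).trans Limits.comp_zero)
    · intro hP
      refine Functor.isLeftAdjoint_of_rightAdjointObjIsDefined_eq_top ?_
      ext X
      simp only [Pi.top_apply, Prop.top_eq_true, iff_true]
      obtain ⟨A, B, f, g, h, hT, hA, hB⟩ := hP X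
      have hbij : ∀ A' : P.FullSubcategory, Function.Bijective (fun a : A' ⟶ (⟨A, hA⟩ : P.FullSubcategory) => a.hom ≫ f) := by
        intro A'
        constructor
        · intro a b hab
          have h0 : (a.hom - b.hom) ≫ f = 0 := by rw [Preadditive.sub_comp, sub_eq_zero]; exact hab
          obtain ⟨c, hc⟩ := Triangle.coyoneda_exact₂ _ (inv_rot_of_distTriang _ hT) (a.hom - b.hom) h0
          have hc0 : c = 0 := by
            let e : (B⟦(-1 : ℤ)⟧)⟦(1 : ℤ)⟧ ≅ B := (shiftEquiv D (1 : ℤ)).counitIso.app B
            have h1 := hB ((shiftFunctor D (1 : ℤ)).map (show A'.obj ⟶ B⟦(-1 : ℤ)⟧ from c) ≫ e.hom)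
              (P.le_shift (1 : ℤ) _ A'.property)
            apply (shiftFunctor D (1 : ℤ)).map_injective
            rw [Functor.map_zero]
            exact (cancel_mono e.hom).1 (h1.trans Limits.zero_comp.symm)
          rw [hc0] at hc
          exact ObjectProperty.hom_ext _ (sub_eq_zero.1 (hc.trans Limits.zero_comp))
        · intro φ
          obtain ⟨a, rfl⟩ := Triangle.coyoneda_exact₂ _ hT φ (hB _ A'.property)
          exact ⟨ObjectProperty.homMk a, rfl⟩
      refine (Functor.RepresentableBy.isRepresentable (Y := (⟨A, hA⟩ : P.FullSubcategory))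
        { homEquiv := fun {A'} => Equiv.ofBijective _ (hbij A'), homEquiv_comp := fun a b => ?_ })
      exact Category.assoc a.hom b.hom f

end Groth.Agent.S0490
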