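import Groth.Statements.S0492
import Groth.Agent.WCLib.Basic

set_option autoImplicit false
set_option backward.isDefEq.respectTransparency false
set_option backward.isDefEq.respectTransparency.types false
universe u
open CategoryTheory
open CohSite

namespace Groth.Agent.S0492

open CategoryTheory.Limits in
/-- Part (4), for sheaves of abelian groups: let B be a set of weakly contractible objects of a small
site such that every object admits a covering family by members of B. Then products in the category
of abelian sheaves are exact (Grothendieck's AB4*). -/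
theorem result {C : Type u} [SmallCategory C] (J : GrothendieckTopology C)
    (B : Set C) (hB : ∀ U ∈ B, CohSite.IsWeaklyContractible J U)
    (hcov : ∀ V : C, ∃ (ι : Type u) (U : ι → C) (f : ∀ i, U i ⟶ V), (∀ i, U i ∈ B) ∧ Sieve.ofArrows U f ∈ J V) :
    AB4Star (Sheaf J AddCommGrpCat.{u}) := by
  refine ⟨fun α => ?_⟩
  apply +allowSynthFailures hasExactLimitsOfShape_of_preservesEpi
  constructor
  intro X Y g hg
  have hg' : ∀ i, Epi (g.app i) := (NatTrans.epi_iff_epi_app g).1 hg
  refine WCLib.epi_of_surjective (· ∈ B) (fun V => ?_) _ (fun U hU => ?_)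
  · obtain ⟨ι, U, f, hU, hf⟩ := hcov V
    refine ⟨Sieve.ofArrows U f, hf, fun W k hk => ?_⟩
    obtain ⟨_, g, h, ⟨i⟩, rfl⟩ := hk
    exact ⟨_, g, _, hU i, rfl⟩
  · let E := sheafToPresheaf J AddCommGrpCat.{u} ⋙ (evaluation Cᵒᵖ AddCommGrpCat.{u}).obj (Opposite.op U) ⋙
      forget AddCommGrpCat.{u}
    intro t
    change E.obj ((CategoryTheory.Limits.lim).obj Y) at t
    have hsur : ∀ i, Function.Surjective (E.map (g.app i)) := fun i => by
      haveI := hg' i
      exact WCLib.surjective_of_epi (hB U hU) (g.app i)
    choose c hc using fun i => hsur i (E.map (CategoryTheory.Limits.limit.π Y i) t)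
    obtain ⟨x, hx, -⟩ := (CategoryTheory.Limits.Types.isLimit_iff _).1
      ⟨CategoryTheory.Limits.isLimitOfPreserves E (CategoryTheory.Limits.limit.isLimit X)⟩
      c (fun {i j} f => by
        obtain ⟨i⟩ := i
        obtain ⟨j⟩ := j
        obtain ⟨⟨h⟩⟩ := f
        obtain rfl : i = j := h
        exact congrArg (fun m => (m : E.obj (X.obj ⟨i⟩) ⟶ E.obj (X.obj ⟨i⟩)) _)
          ((congrArg E.map (X.map_id ⟨i⟩)).trans (E.map_id _)))
    refine ⟨x, ?_⟩
    obtain ⟨y, -, hy⟩ := (CategoryTheory.Limits.Types.isLimit_iff _).1
      ⟨CategoryTheory.Limits.isLimitOfPreserves E (CategoryTheory.Limits.limit.isLimit Y)⟩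
      (fun i => E.map (CategoryTheory.Limits.limit.π Y i) t) (fun {i j} f => by
        exact congrArg (fun m => (m : E.obj (CategoryTheory.Limits.limit Y) ⟶ E.obj (Y.obj j)) t)
          ((E.map_comp _ _).symm.trans (congrArg E.map (CategoryTheory.Limits.limit.w Y f))))
    refine (hy (E.map ((CategoryTheory.Limits.lim).map g) x) (fun i => ?_)).trans
      (hy t (fun i => rfl)).symm
    calc E.map (CategoryTheory.Limits.limit.π Y i) (E.map ((CategoryTheory.Limits.lim).map g) x)
        = E.map (g.app i) (E.map (CategoryTheory.Limits.limit.π X i) x) :=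
          congrArg (fun m => (m : E.obj (CategoryTheory.Limits.limit X) ⟶ E.obj (Y.obj i)) x)
            (((E.map_comp _ _).symm.trans
              (congrArg E.map (CategoryTheory.Limits.limMap_π g i))).trans (E.map_comp _ _))
      _ = E.map (g.app i) (c i) := congrArg (fun z => E.map (g.app i) z) (hx i)
      _ = _ := hc i
end Groth.Agent.S0492
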