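import Groth.Statements.S0496
import Groth.Agent.HenselLib.Local

set_option autoImplicit false
universe u
open Hensel

namespace Groth.Agent.S0496

/-- If every factorization of the reduction of a monic polynomial into two coprime factors over the
residue field lifts to a factorization over the local ring, then the local ring is henselian. -/
theorem result (R : Type u) [CommRing R] [IsLocalRing R]
    (h : ∀ f : Polynomial R, f.Monic →
      ∀ g₀ h₀ : Polynomial (IsLocalRing.ResidueField R), IsCoprime g₀ h₀ →
      Polynomial.map (IsLocalRing.residue R) f = g₀ * h₀ →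
      ∃ g h : Polynomial R, f = g * h ∧ Polynomial.map (IsLocalRing.residue R) g = g₀ ∧
        Polynomial.map (IsLocalRing.residue R) h = h₀) :
    HenselianLocalRing R := by
  classical
  haveI : HenselianRing R (IsLocalRing.maximalIdeal R) := by
    refine ⟨(IsLocalRing.jacobson_eq_maximalIdeal (⊥ : Ideal R) bot_ne_top).ge, fun f hf a₀ h₁ h₂ => ?_⟩
    have hker := fun x : R => (IsLocalRing.residue_eq_zero_iff (R := R) x)
    let q₀ := f.map (IsLocalRing.residue R) /ₘ (Polynomial.X - Polynomial.C (IsLocalRing.residue R a₀))
    have hroot : (f.map (IsLocalRing.residue R)).IsRoot (IsLocalRing.residue R a₀) := by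
      show Polynomial.eval _ _ = 0
      rw [Polynomial.eval_map_apply, hker]; exact h₁
    have hfq : Polynomial.map (IsLocalRing.residue R) f =
        (Polynomial.X - Polynomial.C (IsLocalRing.residue R a₀)) * q₀ :=
      (Polynomial.mul_divByMonic_eq_iff_isRoot.2 hroot).symm
    have hq : q₀.eval (IsLocalRing.residue R a₀) ≠ 0 := by
      have h3 : (f.map (IsLocalRing.residue R)).derivative.eval (IsLocalRing.residue R a₀) =
          q₀.eval (IsLocalRing.residue R a₀) := by rw [hfq]; simp
      rw [← h3, Polynomial.derivative_map, Polynomial.eval_map_apply]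
      exact IsUnit.ne_zero h₂
    have hc : IsCoprime (Polynomial.X - Polynomial.C (IsLocalRing.residue R a₀)) q₀ :=
      (Polynomial.irreducible_X_sub_C _).coprime_iff_not_dvd.2 fun hdvd => hq (Polynomial.dvd_iff_isRoot.1 hdvd)
    obtain ⟨g, k, hgk, hg, hk⟩ := h f hf _ _ hc hfq
    exact HenselLib.root_of_factor (I := IsLocalRing.maximalIdeal R)
      (IsLocalRing.jacobson_eq_maximalIdeal (⊥ : Ideal R) bot_ne_top).ge hf hgk a₀ hg
      (by
        change IsCoprime (g.map (IsLocalRing.residue R)) (k.map (IsLocalRing.residue R))
        rw [hg, hk]; exact hc)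
  exact HenselLib.henselianLocalRing_of_henselianRing

end Groth.Agent.S0496
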