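import Groth.Statements.S0500
import Groth.Agent.HenselLib.Local

set_option autoImplicit false
universe u
open Hensel

namespace Groth.Agent.S0500

/-- If every algebra over a local ring that is finitely generated as a module is ring-isomorphic to a
finite product of local rings, then the local ring is henselian. -/
theorem result (R : Type u) [CommRing R] [IsLocalRing R]
    (h : ∀ (S : Type u) [CommRing S] [Algebra R S], Module.Finite R S →
      ∃ (ι : Type u) (_ : Fintype ι) (A : ι → Type u) (_ : ∀ i, CommRing (A i)),
        (∀ i, IsLocalRing (A i)) ∧ Nonempty (S ≃+* (∀ i, A i))) :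
    HenselianLocalRing R := by
  haveI : HenselianRing R (IsLocalRing.maximalIdeal R) := HenselLib.henselianRing_of_idempotents fun B _ _ hfin => by
    obtain ⟨ι, _, L, _, hL, ⟨e⟩⟩ := h B hfin
    refine ⟨fun x hx => hx.map _, fun x hx y hy hxy => ?_, fun y hy => ?_⟩
    · exact HenselLib.idem_eq_of_sub_mem (HenselLib.map_le_jacobson_bot
        (IsLocalRing.jacobson_eq_maximalIdeal (⊥ : Ideal R) bot_ne_top).ge) hx hy (Ideal.Quotient.eq.1 hxy)
    · obtain ⟨b, rfl⟩ := Ideal.Quotient.mk_surjective y
      obtain ⟨d, w, hd, hdw⟩ := HenselLib.exists_idem_eq_of_pi hL e b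
      refine ⟨d, hd, Ideal.Quotient.eq.2 ?_⟩
      rw [hdw]
      exact Ideal.mul_mem_right _ _ (Ideal.Quotient.eq.1 (by rw [map_mul]; exact hy))
  exact HenselLib.henselianLocalRing_of_henselianRing

end Groth.Agent.S0500
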