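import Groth.Statements.S0513
import Groth.Agent.S0507
import Groth.Agent.S0508
import Groth.Agent.S0509
import Groth.Agent.S0511
import Groth.Agent.CohenLib.FlatUnramified

set_option autoImplicit false
universe u
open Hensel

namespace Groth.Agent.S0513

/-- A Noetherian local ring is regular exactly when its henselization is a regular local ring. -/
theorem result (R : Type u) [CommRing R] [IsLocalRing R] (S : Type u) [CommRing S] [IsLocalRing S]
    [Algebra R S] [IsLocalHom (algebraMap R S)] [Hensel.IsHenselization R S] [IsNoetherianRing R] :
    IsRegularLocalRing R ↔ IsRegularLocalRing S := by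
  haveI : Module.FaithfullyFlat R S := Groth.Agent.S0509.result R S
  haveI : IsNoetherianRing S := (Groth.Agent.S0511.result R S).1 inferInstance
  refine CohenLib.isRegularLocalRing_iff_of_flat_unramified R S (Groth.Agent.S0507.result R S) fun b => ?_
  obtain ⟨x, hx⟩ := (Groth.Agent.S0508.result R S).2 (IsLocalRing.residue S b)
  obtain ⟨r, rfl⟩ := IsLocalRing.residue_surjective x
  rw [IsLocalRing.ResidueField.map_residue] at hx
  exact ⟨r, by rw [← IsLocalRing.residue_eq_zero_iff, map_sub, hx, sub_self]⟩

end Groth.Agent.S0513
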