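import Groth.Statements.S0520
import Groth.Agent.HenselLib.Criteria

set_option autoImplicit false
universe u
open Hensel

namespace Groth.Agent.S0520

/-- A ring `A` is Henselian at an ideal `I` in Mathlib's sense (simple roots lift) exactly when `I` lies
in the Jacobson radical and every factorization of the reduction of a monic polynomial into two
comaximal monic factors over `A/I` lifts to a factorization into monic polynomials over `A`. -/
theorem result (A : Type u) [CommRing A] (I : Ideal A) :
    HenselianRing A I ↔ (I ≤ Ideal.jacobson ⊥ ∧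
      ∀ f : Polynomial A, f.Monic → ∀ g₀ h₀ : Polynomial (A ⧸ I), g₀.Monic → h₀.Monic →
        IsCoprime g₀ h₀ → Polynomial.map (Ideal.Quotient.mk I) f = g₀ * h₀ →
        ∃ g h : Polynomial A, g.Monic ∧ h.Monic ∧ f = g * h ∧
          Polynomial.map (Ideal.Quotient.mk I) g = g₀ ∧ Polynomial.map (Ideal.Quotient.mk I) h = h₀) := by
  constructor
  · intro h
    refine ⟨HenselianRing.jac, fun f hf g₀ h₀ hg hh hc hfac => ?_⟩
    obtain ⟨g, h', h1, h2, h3, h4, h5, -⟩ := HenselLib.exists_factor_lift (I := I) hf hg hh hc hfac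
    exact ⟨g, h', h1, h2, h3, h4, h5⟩
  · rintro ⟨hI, hfac⟩
    refine HenselLib.henselianRing_of_gabberRoots hI fun n hn p hp hc => ?_
    rcases subsingleton_or_nontrivial (A ⧸ I) with hs | hs
    · refine ⟨1, by simp, ?_⟩
      have h1 : (1 : A) ∈ Ideal.jacobson ⊥ := hI (Ideal.Quotient.subsingleton_iff.1 hs ▸ Submodule.mem_top)
      have h2 := Ideal.mem_jacobson_bot.1 h1 (-1)
      rw [one_mul, neg_add_cancel, isUnit_zero_iff] at h2
      show Polynomial.eval 1 _ = 0
      rw [← mul_one (Polynomial.eval 1 _), ← h2, mul_zero]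
    have hpπ : p.map (Ideal.Quotient.mk I) = 0 := by
      ext i; rw [Polynomial.coeff_map, Polynomial.coeff_zero, Ideal.Quotient.eq_zero_iff_mem]; exact hc i
    have hfπ : (Polynomial.X ^ n * (Polynomial.X - 1) + p).map (Ideal.Quotient.mk I) =
        (Polynomial.X - Polynomial.C 1) * Polynomial.X ^ n := by
      simp [Polynomial.map_add, hpπ, mul_comm]
    have hcop : IsCoprime (Polynomial.X - Polynomial.C (1 : A ⧸ I)) (Polynomial.X ^ n) :=
      IsCoprime.pow_right ⟨-1, 1, by rw [map_one]; ring⟩
    obtain ⟨g, h', hg, -, hgh, hgπ, -⟩ := hfac _ (HenselLib.monic_gabber hp) _ _ (Polynomial.monic_X_sub_C 1)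
      (Polynomial.monic_X_pow n) hcop hfπ
    have hdeg : g.natDegree = 1 := by
      rw [← hg.natDegree_map (Ideal.Quotient.mk I), hgπ, Polynomial.natDegree_X_sub_C]
    have hgeq := hg.eq_X_add_C hdeg
    refine ⟨-g.coeff 0, ?_, ?_⟩
    · rw [← Ideal.Quotient.eq]
      have := congrArg (fun q => Polynomial.coeff q 0) hgπ
      simp only [Polynomial.coeff_map, Polynomial.coeff_sub, Polynomial.coeff_X_zero, Polynomial.coeff_C_zero,
        zero_sub] at this
      rw [map_neg, this, neg_neg, map_one]
    · show Polynomial.eval _ _ = 0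
      rw [hgh, Polynomial.eval_mul, hgeq]
      simp

end Groth.Agent.S0520
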