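import Groth.Statements.S0524
import Groth.Agent.HenselLib.Criteria

set_option autoImplicit false
universe u
open Hensel

namespace Groth.Agent.S0524

/-- (1) iff (5) with the uniqueness complement: `A` is Henselian at `I` exactly when `I` lies in the
Jacobson radical and, for every `n ≥ 1` and every polynomial `p` of degree at most `n` with all
coefficients in `I`, the polynomial `Tⁿ(T-1) + p` has exactly one root congruent to `1` modulo `I`. -/
theorem result (A : Type u) [CommRing A] (I : Ideal A) :
    HenselianRing A I ↔ (I ≤ Ideal.jacobson ⊥ ∧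
      ∀ (n : ℕ), 0 < n → ∀ p : Polynomial A, p.natDegree ≤ n → (∀ i, p.coeff i ∈ I) →
        ∃! α : A, α - 1 ∈ I ∧
          Polynomial.IsRoot (Polynomial.X ^ n * (Polynomial.X - 1) + p) α) := by
  refine ⟨fun h => ⟨HenselianRing.jac, fun n hn p hp hc => ?_⟩,
    fun ⟨hI, h⟩ => HenselLib.henselianRing_of_gabberRoots hI fun n hn p hp hc => (h n hn p hp hc).exists⟩
  obtain ⟨α, hα, hroot⟩ := HenselLib.gabberRoots_of_henselianRing (I := I) n hn p hp hc
  refine ⟨α, ⟨hα, hroot⟩, fun β ⟨hβ, hrootβ⟩ => (HenselLib.root_eq_of_sub_mem (I := I) HenselianRing.jac hroot hrootβ ?_ ?_).symm⟩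
  · have h1 : Ideal.Quotient.mk I α = 1 := by rw [← map_one (Ideal.Quotient.mk I), Ideal.Quotient.eq]; exact hα
    have h2 : (Polynomial.derivative p).map (Ideal.Quotient.mk I) = 0 := by
      ext i
      rw [Polynomial.coeff_map, Polynomial.coeff_zero, Ideal.Quotient.eq_zero_iff_mem, Polynomial.coeff_derivative]
      exact I.mul_mem_right _ (hc _)
    rw [← Polynomial.eval_map_apply, h1]
    simp [Polynomial.map_add, h2]
  · rw [← sub_sub_sub_cancel_right β α 1]
    exact I.sub_mem hβ hα

end Groth.Agent.S0524
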