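import Groth.Statements.S0534
import Groth.Agent.HenselLib.Criteria

set_option autoImplicit false
universe u
open Hensel

namespace Groth.Agent.S0534

/-- If `R` is Henselian at `I`, every finitely generated projective `R/I`-module is the base change of a
finitely generated projective `R`-module. -/
theorem result (R : Type u) [CommRing R] (I : Ideal R)
    [HenselianRing R I] (Q : Type u) [AddCommGroup Q] [Module (R ⧸ I) Q] [Module.Finite (R ⧸ I) Q]
    [Module.Projective (R ⧸ I) Q] :
    ∃ (P : Type u) (_ : AddCommGroup P) (_ : Module R P), Module.Finite R P ∧ Module.Projective R P ∧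
      Nonempty (TensorProduct R (R ⧸ I) P ≃ₗ[R ⧸ I] Q) := by
  classical
  letI : Module R Q := Module.compHom Q (Ideal.Quotient.mk I)
  haveI : IsScalarTower R (R ⧸ I) Q := IsScalarTower.of_algebraMap_smul fun r x => rfl
  obtain ⟨n, f, g, -, -, hfg⟩ := Module.Finite.exists_comp_eq_id_of_projective (R ⧸ I) Q
  let M₀ := LinearMap.toMatrix' (g ∘ₗ f)
  choose M hM using fun i j => Ideal.Quotient.mk_surjective (M₀ i j)
  have hMM : (Matrix.of M).map (Ideal.Quotient.mk I) = M₀ := Matrix.ext fun i j => hM i j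
  have hgf : IsIdempotentElem M₀ := by
    show M₀ * M₀ = M₀
    rw [← LinearMap.toMatrix'_comp]
    congr 1
    refine LinearMap.ext fun y => ?_
    exact congrArg g (LinearMap.congr_fun hfg (f y))
  let N := Matrix.of M * Matrix.of M - Matrix.of M
  have hN : N.map (Ideal.Quotient.mk I) = 0 := by
    rw [Matrix.map_sub _ (map_sub _), Matrix.map_mul, hMM, hgf.eq, sub_self]
  have hPc : ∀ i < N.charpoly.natDegree, N.charpoly.coeff i ∈ I := fun i hi => by
    rw [← Ideal.Quotient.eq_zero_iff_mem, ← Polynomial.coeff_map, ← Matrix.charpoly_map, hN, Matrix.charpoly_zero,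
      Polynomial.coeff_X_pow, if_neg]
    rcases subsingleton_or_nontrivial R with h | h
    · haveI := h
      rw [Subsingleton.elim N.charpoly 0, Polynomial.natDegree_zero] at hi
      omega
    · rw [Matrix.charpoly_natDegree_eq_dim] at hi
      exact hi.ne
  obtain ⟨E, hE, hEq⟩ := HenselLib.exists_idem_polynomial.{u, u, u} (I := I) (Matrix.of M) N.charpoly
    (Matrix.charpoly_monic _) hPc (Matrix.aeval_self_charpoly _)
  let e : (Fin n → R) →ₗ[R] Fin n → R := Matrix.toLin' (Polynomial.aeval (Matrix.of M) E)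
  have he : e ∘ₗ e = e := by
    show Matrix.toLin' _ ∘ₗ Matrix.toLin' _ = _
    rw [← Matrix.toLin'_mul, hE.eq]
  let qm : Matrix (Fin n) (Fin n) R →ₐ[R] Matrix (Fin n) (Fin n) (R ⧸ I) :=
    (Ideal.Quotient.mkₐ R I).mapMatrix
  have hEM : (Polynomial.aeval (Matrix.of M) E).map (Ideal.Quotient.mk I) = M₀ := by
    refine (hEq qm (fun a ha => Matrix.ext fun i j => ?_) ?_).trans hMM
    · rw [Matrix.algebraMap_matrix_apply, Matrix.zero_apply]
      split_ifs
      · exact Ideal.Quotient.eq_zero_iff_mem.2 ha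
      · rfl
    · show IsIdempotentElem ((Matrix.of M).map (Ideal.Quotient.mk I))
      rw [hMM]; exact hgf
  let π : (Fin n → R) → Fin n → R ⧸ I := fun x i => Ideal.Quotient.mk I (x i)
  have hπe : ∀ x, π (e x) = g (f (π x)) := fun x => funext fun i => by
    show Ideal.Quotient.mk I (Matrix.mulVec _ x i) = _
    rw [RingHom.map_mulVec, hEM]
    exact congrFun (LinearMap.toMatrix'_mulVec (g ∘ₗ f) (π x)) i
  let P := LinearMap.range e
  refine ⟨P, inferInstance, inferInstance, Module.Finite.range e,
    Module.Projective.of_split P.subtype e.rangeRestrict (LinearMap.ext fun ⟨x, y, hy⟩ => Subtype.ext (by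
      show e x = x
      rw [← hy]; exact LinearMap.congr_fun he y)), ?_⟩
  let ψ : P →ₗ[R] Q :=
    { toFun := fun p => f (π p)
      map_add' := fun a b => by rw [← map_add]; exact congrArg f (funext fun i => map_add (Ideal.Quotient.mk I) _ _)
      map_smul' := fun r a => by
        show _ = (Ideal.Quotient.mk I r) • f (π a)
        rw [← map_smul]
        exact congrArg f (funext fun i => map_mul (Ideal.Quotient.mk I) _ _) }
  let Ψ : TensorProduct R (R ⧸ I) P →ₗ[R ⧸ I] Q := ψ.liftBaseChange (R ⧸ I)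
  let Φ : Q →ₗ[R ⧸ I] TensorProduct R (R ⧸ I) P :=
    { toFun := fun q => ∑ i, g q i ⊗ₜ[R] e.rangeRestrict (Pi.single i 1)
      map_add' := fun a b => by simp [TensorProduct.add_tmul, Finset.sum_add_distrib]
      map_smul' := fun r a => by simp [Finset.smul_sum, TensorProduct.smul_tmul'] }
  have hsum : ∀ x : Fin n → R, x = ∑ i, x i • (Pi.single i 1 : Fin n → R) := fun x => pi_eq_sum_univ' x
  refine ⟨LinearEquiv.ofLinear Ψ Φ (LinearMap.ext fun q => ?_) (LinearMap.ext fun z => ?_)⟩
  · show Ψ (∑ i, g q i ⊗ₜ[R] e.rangeRestrict (Pi.single i 1)) = q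
    simp only [Ψ, map_sum, LinearMap.liftBaseChange_tmul]
    show ∑ i, g q i • f (π (e (Pi.single i 1))) = q
    simp only [hπe, ← map_smul, ← map_sum]
    have h1 : ∑ i, g q i • π (Pi.single i 1) = g q := by
      funext j
      simp [π, Finset.sum_apply, Pi.single_apply]
    rw [h1]
    have h2 := LinearMap.congr_fun hfg
    simp only [LinearMap.comp_apply, LinearMap.id_apply] at h2
    rw [h2, h2]
  · induction z with
    | zero => simp
    | add a b ha hb => rw [map_add, map_add, ha, hb]
    | tmul a p =>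
      obtain ⟨x, hx⟩ := p
      obtain ⟨y, hy⟩ := hx
      have hxe : e x = x := by rw [← hy]; exact LinearMap.congr_fun he y
      show Φ (Ψ (a ⊗ₜ[R] (⟨x, y, hy⟩ : P))) = a ⊗ₜ[R] (⟨x, y, hy⟩ : P)
      rw [show Ψ (a ⊗ₜ[R] (⟨x, y, hy⟩ : P)) = a • f (π x) from LinearMap.liftBaseChange_tmul _ _ _ _,
        map_smul]
      show a • (∑ i, g (f (π x)) i ⊗ₜ[R] e.rangeRestrict (Pi.single i 1)) = _
      rw [← hπe, hxe]
      have : ∀ i, π x i ⊗ₜ[R] e.rangeRestrict (Pi.single i 1) =
          (1 : R ⧸ I) ⊗ₜ[R] (x i • e.rangeRestrict (Pi.single i 1)) := fun i => by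
        rw [← TensorProduct.smul_tmul, Algebra.smul_def, mul_one]
        rfl
      rw [Finset.sum_congr rfl fun i _ => this i, ← TensorProduct.tmul_sum, TensorProduct.smul_tmul', smul_eq_mul, mul_one]
      congr 1
      refine Subtype.ext ?_
      show _ = x
      refine Eq.trans ?_ hxe
      conv_rhs => rw [hsum x, map_sum]
      simp

end Groth.Agent.S0534
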