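import Groth.Statements.S0550
import Groth.Agent.DecayLib.Free
import Groth.Agent.DecayLib.Noetherian
import Groth.Agent.S0543
import Mathlib.RingTheory.Flat.Stability
import Mathlib.RingTheory.AdicCompletion.AsTensorProduct

set_option autoImplicit false
universe u
open CAlg

namespace Groth.Agent.S0550

/-- Over a Noetherian ring `R` with an ideal `I`, the `I`-adic completion of a free module (on any index
set) is a flat `R`-module. -/
theorem result (R : Type u) [CommRing R] [IsNoetherianRing R]
    (I : Ideal R) (α : Type u) : Module.Flat R (AdicCompletion I (α →₀ R)) := by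
  let C := AdicCompletion I R
  have : IsNoetherianRing C := Groth.Agent.S0543.result R I
  have := DecayLib.isAdicComplete_completion I R
  let K : Ideal C := I.map (algebraMap R C)
  have : IsAdicComplete K C := (IsAdicComplete.map_algebraMap_iff _ _).2 ‹_›
  have hK : ∀ n (c : C), c ∈ (K ^ n • ⊤ : Submodule C C) ↔ c ∈ (I ^ n • ⊤ : Submodule R C) := fun n c => by
    rw [Ideal.smul_top_eq_map (I ^ n), smul_eq_mul, Ideal.mul_top, ← Ideal.map_pow, Submodule.restrictScalars_mem]
  have hD : ∀ f : α → C, f ∈ W4c5adicflatcompl.decaying K α C ↔ f ∈ W4c5adicflatcompl.decaying I α C := fun f => by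
    simp only [W4c5adicflatcompl.mem_decaying_iff, hK]
  let e : W4c5adicflatcompl.decaying I α C ≃ₗ[R] W4c5adicflatcompl.decaying K α C :=
    { toFun := fun f => ⟨f.1, (hD _).2 f.2⟩
      invFun := fun f => ⟨f.1, (hD _).1 f.2⟩
      map_add' := fun _ _ => rfl
      map_smul' := fun _ _ => rfl
      left_inv := fun _ => rfl
      right_inv := fun _ => rfl }
  have : Module.Flat C (W4c5adicflatcompl.decaying K α C) := DecayLib.flat_decaying K α
  have : Module.Flat R (W4c5adicflatcompl.decaying K α C) := Module.Flat.trans R C _
  exact Module.Flat.of_linearEquiv ((DecayLib.completionEquiv I (Z := α) (M := R)).trans e)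

end Groth.Agent.S0550
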