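import Groth.Statements.S0551
import Groth.Agent.DecayLib.FlatComplete
import Groth.Agent.DecayLib.Basic
import Groth.Agent.S0542
import Mathlib.RingTheory.AdicCompletion.Algebra

set_option autoImplicit false
universe u
open CAlg

namespace Groth.Agent.S0551

/-- Let `R` be a ring, `I` a finitely generated ideal with `R/I` Noetherian, and `M` an `R`-module such
that `M/IM` is flat over `R/I` and the multiplication map `I ⊗ M → M` is injective (the vanishing of
the first Tor of `M` against `R/I`). Then the `I`-adic completion of `M` is flat over the `I`-adic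
completion of `R`. (The published statement also records that the completed ring is Noetherian; that
is stated separately.) -/
theorem result (R : Type u) [CommRing R] (I : Ideal R) (hI : I.FG)
    [IsNoetherianRing (R ⧸ I)] (M : Type u) [AddCommGroup M] [Module R M]
    [Module.Flat (R ⧸ I) (M ⧸ (I • ⊤ : Submodule R M))]
    (hT : Function.Injective (TensorProduct.lift ((LinearMap.lsmul R M).comp (Submodule.subtype I)))) :
    Module.Flat (AdicCompletion I R) (AdicCompletion I M) := by
  classical
  let C := AdicCompletion I R
  let N := AdicCompletion I M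
  let K : Ideal C := I.map (algebraMap R C)
  have : IsNoetherianRing C := Groth.Agent.S0542.result R I hI
  have hcR : IsAdicComplete I C := AdicCompletion.isAdicComplete hI
  have hcM : IsAdicComplete I N := AdicCompletion.isAdicComplete hI
  have : IsAdicComplete K N := (IsAdicComplete.map_algebraMap_iff _ _).2 hcM
  have h1 : Function.Injective (LinearMap.lTensor M I.subtype) := by
    intro a b hab
    have key : ∀ t, TensorProduct.lift ((LinearMap.lsmul R M).comp (Submodule.subtype I))
        (TensorProduct.comm R M I t) = TensorProduct.rid R M (LinearMap.lTensor M I.subtype t) := fun t => by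
      induction t using TensorProduct.induction_on with
      | zero => simp
      | add x y hx hy => simp only [map_add, hx, hy]
      | tmul x y => simp
    exact (TensorProduct.comm R M I).injective (hT (by rw [key, key, hab]))
  have h2 : Module.Flat (R ⧸ I) (TensorProduct R (R ⧸ I) M) := by
    let e := TensorProduct.quotTensorEquivQuotSMul M I
    let e' : TensorProduct R (R ⧸ I) M ≃ₗ[R ⧸ I] (M ⧸ (I • ⊤ : Submodule R M)) :=
      { e with
        map_smul' := fun c x => by
          obtain ⟨c, rfl⟩ := Ideal.Quotient.mk_surjective c
          rw [← Ideal.Quotient.algebraMap_eq, RingHom.id_apply, algebraMap_smul, algebraMap_smul]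
          exact e.map_smul c x }
    exact Module.Flat.of_linearEquiv e'
  have hconv : ∀ (m : ℕ) (P : Type u) [AddCommGroup P] [Module R P] [Module C P] [IsScalarTower R C P] (x : P),
      x ∈ (K ^ m • ⊤ : Submodule C P) ↔ x ∈ (I ^ m • ⊤ : Submodule R P) := fun m P _ _ _ _ x => by
    rw [← Ideal.map_pow, ← Submodule.restrictScalars_mem R, Submodule.restrictScalars_map_smul_eq,
      Submodule.restrictScalars_top]
  have hofR : ∀ (m : ℕ) (a : C), ∃ a' : R, a - algebraMap R C a' ∈ (I ^ m • ⊤ : Submodule R C) := fun m a => by
    obtain ⟨a', ha'⟩ := Submodule.Quotient.mk_surjective _ (a.val m)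
    refine ⟨a', DecayLib.mem_pow_smul_top_of_val_eq_zero I m _ ?_⟩
    rw [AdicCompletion.val_sub_apply, ← ha', sub_eq_zero]
    rfl
  have hofM : ∀ (m : ℕ) (v : N), ∃ v' : M, v - AdicCompletion.of I M v' ∈ (I ^ m • ⊤ : Submodule R N) := fun m v => by
    obtain ⟨v', hv'⟩ := Submodule.Quotient.mk_surjective _ (v.val m)
    refine ⟨v', DecayLib.mem_pow_smul_top_of_val_eq_zero I m _ ?_⟩
    rw [AdicCompletion.val_sub_apply, ← hv', sub_eq_zero]
    rfl
  refine DecayLib.flat_of_forall_mem_relSpan (A := C) (M := N) K fun m r b c v hv => ?_
  choose c' hc' using fun i j => hofR m (c i j)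
  choose v' hv' using fun i => hofM m (v i)
  have hv'' : ∀ j, DecayLib.app c' v' j ∈ (I ^ m • ⊤ : Submodule R M) := by
    intro j
    have hd : DecayLib.app c v j - AdicCompletion.of I M (DecayLib.app c' v' j) ∈ (K ^ m • ⊤ : Submodule C N) := by
      simp only [DecayLib.app, map_sum, map_smul]
      rw [← Finset.sum_sub_distrib]
      refine Submodule.sum_mem _ fun i _ => ?_
      rw [← algebraMap_smul C (c' i j) (AdicCompletion.of I M (v' i)),
        ← sub_add_sub_cancel (c i j • v i) (c i j • AdicCompletion.of I M (v' i)), ← smul_sub, ← sub_smul]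
      refine add_mem (Submodule.smul_mem _ _ ((hconv m N _).2 (hv' i))) (Submodule.smul_mem_smul ?_ Submodule.mem_top)
      simpa using (hconv m C _).2 (hc' i j)
    have h := (hconv m N _).1 (by simpa using sub_mem (hv j) hd)
    exact (Submodule.Quotient.mk_eq_zero _).1 (AdicCompletion.pow_smul_top_le_ker_eval (I := I) (M := M) m h)
  have hrel := DecayLib.mem_relSpan_of_injective h1 h2 m c' v' hv''
  let push : (Fin r → M) →ₗ[R] (Fin r → N) := (AdicCompletion.of I M).compLeft (Fin r)
  have hle : DecayLib.relSpan M c' (I ^ m) ≤
      Submodule.comap push ((DecayLib.relSpan N c (K ^ m)).restrictScalars R) := by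
    refine Submodule.span_le.2 ?_
    rintro _ ⟨w, hw, p, rfl⟩
    refine Submodule.subset_span ⟨fun i => algebraMap R C (w i), ?_, AdicCompletion.of I M p, funext fun i => ?_⟩
    · show Fintype.linearCombination C c (fun i => algebraMap R C (w i)) ∈ (K ^ m • ⊤ : Submodule C (Fin b → C))
      rw [DecayLib.smul_top_pi]
      intro j
      have h3 : Fintype.linearCombination R c' w j ∈ (I ^ m • ⊤ : Submodule R R) :=
        (DecayLib.smul_top_pi (I ^ m) _).1 hw j
      rw [smul_eq_mul, Ideal.mul_top] at h3
      have h4 : algebraMap R C (Fintype.linearCombination R c' w j) ∈ (K ^ m • ⊤ : Submodule C C) := by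
        rw [smul_eq_mul, Ideal.mul_top, ← Ideal.map_pow]
        exact Ideal.mem_map_of_mem _ h3
      have h5 : Fintype.linearCombination C c (fun i => algebraMap R C (w i)) j -
          algebraMap R C (Fintype.linearCombination R c' w j) ∈ (K ^ m • ⊤ : Submodule C C) := by
        rw [Fintype.linearCombination_apply, Fintype.linearCombination_apply, Finset.sum_apply, Finset.sum_apply,
          map_sum, ← Finset.sum_sub_distrib]
        refine Submodule.sum_mem _ fun i _ => ?_
        simp only [Pi.smul_apply, smul_eq_mul, map_mul, ← mul_sub]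
        exact Submodule.smul_mem _ _ ((hconv m C _).2 (hc' i j))
      simpa using add_mem h5 h4
    · show AdicCompletion.of I M (w i • p) = algebraMap R C (w i) • AdicCompletion.of I M p
      rw [map_smul, algebraMap_smul]
  refine Submodule.mem_sup.2 ⟨push v', hle hrel, v - push v', ?_, add_sub_cancel _ _⟩
  rw [DecayLib.smul_top_pi]
  exact fun i => (hconv m N _).2 (hv' i)

end Groth.Agent.S0551
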