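import Groth.Statements.S0559
import Groth.Agent.CommAlgDim.QuasiRegular


-- import your own Groth.Agent.* helpers here

set_option autoImplicit false
universe u
open CAlg

namespace Groth.Agent.S0559

/-- In a regular local ring of dimension `d`, any `d` elements generating the maximal ideal form a
regular sequence. -/
theorem result (R : Type u) [CommRing R]
    [IsRegularLocalRing R] (d : ℕ) (hd : ringKrullDim R = d) (x : Fin d → R)
    (hx : Ideal.span (Set.range x) = IsLocalRing.maximalIdeal R) :
    RingTheory.Sequence.IsRegular R (List.ofFn x) := by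
  suffices H : ∀ (d : ℕ) (R : Type u) [CommRing R] [IsRegularLocalRing R] (x : Fin d → R),
      (IsLocalRing.maximalIdeal R).spanFinrank = d →
      Ideal.span (Set.range x) = IsLocalRing.maximalIdeal R →
      RingTheory.Sequence.IsRegular R (List.ofFn x) by
    refine H d R x ?_ hx
    have h := IsRegularLocalRing.spanFinrank_maximalIdeal (R := R)
    rw [hd] at h
    exact_mod_cast h
  intro d
  induction d with
  | zero => intro R _ _ x _ _; rw [List.ofFn_zero]; exact RingTheory.Sequence.IsRegular.nil R R
  | succ d ih =>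
    intro R _ _ x hd hx
    obtain ⟨hx0, hx02⟩ := CommAlgDim.rsop_head hd hx
    haveI := CommAlgDim.nontrivial_quotient (CommAlgDim.singleton_ne_top hx0)
    haveI := CommAlgDim.isRegularLocalRing_quotient_singleton hx0 hx02
    rw [List.ofFn_succ, CommAlgDim.isRegular_cons_ring, List.map_ofFn]
    refine ⟨CommAlgDim.isSMulRegular_of_ne_zero fun h => hx02 (h ▸ zero_mem _), ih _ _ ?_ ?_⟩
    · have := CommAlgDim.spanFinrank_maximalIdeal_quotient_singleton hx0 hx02; omega
    · rw [← IsLocalRing.map_maximalIdeal_of_surjective _ (Ideal.Quotient.mk_surjective (I := Ideal.span {x 0})), ← hx, Ideal.map_span]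
      refine le_antisymm (Ideal.span_mono (by rintro _ ⟨i, rfl⟩; exact ⟨_, ⟨i.succ, rfl⟩, rfl⟩)) (Ideal.span_le.2 ?_)
      rintro _ ⟨_, ⟨i, rfl⟩, rfl⟩
      cases i using Fin.cases with
      | zero => rw [Ideal.Quotient.eq_zero_iff_mem.2 (Ideal.mem_span_singleton_self _)]; exact zero_mem _
      | succ i => exact Ideal.subset_span ⟨i, rfl⟩

end Groth.Agent.S0559
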