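import Groth.Statements.S0561
import Groth.Agent.CommAlgDim.Regular


-- import your own Groth.Agent.* helpers here

set_option autoImplicit false
universe u
open CAlg

namespace Groth.Agent.S0561

/-- Let `R` be a regular local ring of dimension `d` and `I` an ideal with `R/I` a regular local ring.
Then there are elements `x₁, …, x_d` generating the maximal ideal such that `I` is generated by `x₁,
…, x_c` for some `c ≤ d`. -/
theorem result (R : Type u) [CommRing R]
    [IsRegularLocalRing R] (d : ℕ) (hd : ringKrullDim R = d) (I : Ideal R)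
    [IsRegularLocalRing (R ⧸ I)] :
    ∃ (x : Fin d → R) (c : ℕ) (hc : c ≤ d), Ideal.span (Set.range x) = IsLocalRing.maximalIdeal R ∧
      I = Ideal.span (Set.range (fun i : Fin c => x (Fin.castLE hc i))) := by
  classical
  have hIm : I ≤ IsLocalRing.maximalIdeal R := IsLocalRing.le_maximalIdeal fun h =>
    not_subsingleton (R ⧸ I) (Ideal.Quotient.subsingleton_iff.2 h)
  set m := IsLocalRing.maximalIdeal R
  have hsum := CommAlgDim.spanFinrank_map_add_of_regular_quotient (J := I) hIm le_rfl
  have hm : m.spanFinrank = d := by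
    have h := IsRegularLocalRing.spanFinrank_maximalIdeal (R := R)
    rw [hd] at h; exact_mod_cast h
  obtain ⟨sI, hsI, hsI'⟩ := (IsNoetherian.noetherian I).exists_span_finset_card_eq_spanFinrank
  obtain ⟨sQ, hsQ, hsQ'⟩ := (IsNoetherian.noetherian (m.map (Ideal.Quotient.mk I))).exists_span_finset_card_eq_spanFinrank
  choose lift hlift using fun y : sQ => Ideal.Quotient.mk_surjective (I := I) y.1
  have hcard : sI.card + sQ.card = d := by rw [hsI, hsQ]; omega
  let e : Fin d ≃ sI ⊕ sQ := ((finCongr hcard.symm).trans finSumFinEquiv.symm).trans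
    (sI.equivFin.symm.sumCongr sQ.equivFin.symm)
  let x : Fin d → R := fun i => Sum.elim (fun a : sI => a.1) lift (e i)
  have hI : I = Ideal.span (Set.range fun i : Fin sI.card => x (Fin.castLE (by omega) i)) := by
    conv_lhs => rw [← hsI']
    congr 1
    ext r
    constructor
    · intro hr
      refine ⟨sI.equivFin ⟨r, hr⟩, ?_⟩
      simp [x, e, finCongr, finSumFinEquiv, Fin.addCases, Fin.castLE, Fin.castLT]
    · rintro ⟨i, rfl⟩
      simp [x, e, finCongr, finSumFinEquiv, Fin.addCases, Fin.castLE, Fin.castLT]
  refine ⟨x, sI.card, by omega, ?_, hI⟩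
  have h1 : Ideal.span (Set.range x) = I ⊔ Ideal.span (Set.range lift) := by
    have : Set.range x = (sI : Set R) ∪ Set.range lift := by
      show Set.range (Sum.elim (fun a : sI => a.1) lift ∘ e) = _
      rw [EquivLike.range_comp, Set.Sum.elim_range]
      simp
    rw [this, Ideal.span_union]; exact congrArg (· ⊔ Ideal.span (Set.range lift)) hsI'
  rw [h1]
  have hmap : m.map (Ideal.Quotient.mk I) = (Ideal.span (Set.range lift)).map (Ideal.Quotient.mk I) := by
    rw [Ideal.map_span, ← Set.range_comp, ← hsQ']
    congr 1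
    ext y
    exact ⟨fun hy => ⟨⟨y, hy⟩, hlift _⟩, by rintro ⟨a, rfl⟩; simp [hlift]⟩
  have hle := Ideal.comap_map_of_surjective _ (Ideal.Quotient.mk_surjective (I := I)) m
  rw [hmap, Ideal.comap_map_of_surjective _ Ideal.Quotient.mk_surjective, ← RingHom.ker_eq_comap_bot, Ideal.mk_ker] at hle
  rw [sup_comm, hle, sup_eq_left]
  exact hIm

end Groth.Agent.S0561
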