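import Groth.Statements.S0577
import Mathlib.RingTheory.RingHom.FaithfullyFlat
import Mathlib.RingTheory.TensorProduct.Free
import Mathlib.FieldTheory.KummerPolynomial
import Groth.Agent.NormalLib.CompletionReduced


-- import your own Groth.Agent.* helpers here

set_option autoImplicit false
universe u
open CAlg

namespace Groth.Agent.S0577

/-- Let `A` be a Noetherian local domain of prime characteristic `p` which is a Nagata ring. If `a ∈ A`
has a `p`-th root in the completion of `A`, then it has a `p`-th root in `A`. -/
theorem result (A : Type u) [CommRing A] [IsDomain A]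
    [IsLocalRing A] (hA : CAlg.IsNagata A) (p : ℕ) [Fact p.Prime] [CharP A p] (a : A)
    (h : ∃ α : AdicCompletion (IsLocalRing.maximalIdeal A) A,
      α ^ p = algebraMap A (AdicCompletion (IsLocalRing.maximalIdeal A) A) a) :
    ∃ b : A, b ^ p = a := by
  classical
  have hnoeth : IsNoetherianRing A := hA.1
  have hp := (Fact.out : p.Prime)
  let m := IsLocalRing.maximalIdeal A
  let Ah := AdicCompletion m A
  obtain ⟨hNh, hff, -, hB, hsurj⟩ := NormalLib.completion_props A
  have hinjA : Function.Injective (algebraMap A Ah) := FaithfulSMul.algebraMap_injective A Ah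
  haveI : CharP Ah p := charP_of_injective_algebraMap hinjA p
  haveI : IsReduced Ah := by
    have := NormalLib.isReduced_tensor_of_finite (B := Ah) m hA hB hsurj A
    exact isReduced_of_injective (Algebra.TensorProduct.lid A Ah).symm (AlgEquiv.injective _)
  obtain ⟨α, hα⟩ := h
  let K := FractionRing A
  by_cases hK : ∃ b : K, b ^ p = algebraMap A K a
  · obtain ⟨b, hb⟩ := hK
    obtain ⟨r, s, hs, rfl⟩ := IsFractionRing.div_surjective A b
    have hs0 : algebraMap A K s ≠ 0 := IsFractionRing.to_map_ne_zero_of_mem_nonZeroDivisors hs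
    rw [div_pow, div_eq_iff (pow_ne_zero _ hs0), ← map_pow, ← map_pow, ← map_mul] at hb
    have hrs : r ^ p = a * s ^ p := IsFractionRing.injective A K hb
    have h0 : (algebraMap A Ah r - α * algebraMap A Ah s) ^ p = 0 := by
      rw [sub_pow_char, mul_pow, hα, ← map_pow, ← map_pow, ← map_mul, hrs, sub_self]
    have h1 : algebraMap A Ah r = α * algebraMap A Ah s := sub_eq_zero.1 (IsReduced.eq_zero _ ⟨p, h0⟩)
    have h2 : r ∈ ((Ideal.span {s}).map (algebraMap A Ah)).comap (algebraMap A Ah) := by
      rw [Ideal.mem_comap, h1]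
      exact Ideal.mul_mem_left _ _ (Ideal.mem_map_of_mem _ (Ideal.mem_span_singleton_self s))
    rw [Ideal.comap_map_eq_self_of_faithfullyFlat] at h2
    obtain ⟨c, hc⟩ := Ideal.mem_span_singleton'.1 h2
    refine ⟨c, mul_right_cancel₀ (pow_ne_zero p (nonZeroDivisors.ne_zero hs)) ?_⟩
    rw [← mul_pow, hc, hrs]
  · exfalso
    push Not at hK
    let f : Polynomial A := Polynomial.X ^ p - Polynomial.C a
    have hf : f.Monic := Polynomial.monic_X_pow_sub_C a hp.ne_zero
    let fK : Polynomial K := Polynomial.X ^ p - Polynomial.C (algebraMap A K a)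
    have hirr : Irreducible fK := X_pow_sub_C_irreducible_of_prime hp hK
    haveI := Fact.mk hirr
    have hmap : f.map (algebraMap A K) = fK := by simp [f, fK]
    let C := AdjoinRoot f
    let ι : C →+* AdjoinRoot fK := AdjoinRoot.lift ((algebraMap K (AdjoinRoot fK)).comp (algebraMap A K))
      (AdjoinRoot.root fK) (by
        rw [← Polynomial.eval₂_map, hmap, AdjoinRoot.algebraMap_eq]; exact AdjoinRoot.eval₂_root fK)
    have hι : Function.Injective ι := by
      refine (injective_iff_map_eq_zero _).2 fun z hz => ?_
      obtain ⟨g, rfl⟩ := AdjoinRoot.mk_surjective z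
      rw [AdjoinRoot.lift_mk, ← Polynomial.eval₂_map, AdjoinRoot.algebraMap_eq] at hz
      have hd : fK ∣ g.map (algebraMap A K) := by
        rw [← AdjoinRoot.mk_eq_zero, ← hz, ← AdjoinRoot.aeval_eq, Polynomial.aeval_def, AdjoinRoot.algebraMap_eq]
      rw [← hmap] at hd
      exact AdjoinRoot.mk_eq_zero.2 (Polynomial.map_dvd_map _ (IsFractionRing.injective A K) hf |>.1 hd)
    haveI : IsReduced C := isReduced_of_injective ι hι
    haveI := (AdjoinRoot.powerBasis' hf).finite
    have hred := NormalLib.isReduced_tensor_of_finite (B := Ah) m hA hB hsurj C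
    haveI : IsReduced (TensorProduct A Ah C) :=
      isReduced_of_injective (Algebra.TensorProduct.comm A Ah C) (AlgEquiv.injective _)
    let pb := AdjoinRoot.powerBasis' hf
    let bB := Algebra.TensorProduct.basis Ah pb.basis
    have hdim : 1 < pb.dim := by
      show 1 < f.natDegree
      rw [Polynomial.natDegree_X_pow_sub_C]; exact hp.one_lt
    let i1 : Fin pb.dim := ⟨1, hdim⟩
    let i0 : Fin pb.dim := ⟨0, by omega⟩
    let u : TensorProduct A Ah C := bB i1 - α • bB i0
    have hb0 : bB i0 = 1 := by
      rw [Algebra.TensorProduct.basis_apply, PowerBasis.coe_basis]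
      simp [i0, Algebra.TensorProduct.one_def]
    haveI : CharP (TensorProduct A Ah C) p := by
      refine charP_of_injective_algebraMap (R := Ah) (fun x y hxy => ?_) p
      have h1 : x • bB i0 = y • bB i0 := by rw [hb0, ← Algebra.algebraMap_eq_smul_one, ← Algebra.algebraMap_eq_smul_one, hxy]
      simpa using congrArg (fun v => bB.repr v i0) h1
    have hu : u ^ p = 0 := by
      show (bB i1 - α • bB i0) ^ p = 0
      rw [hb0, sub_pow_char, Algebra.TensorProduct.basis_apply, PowerBasis.coe_basis, Algebra.TensorProduct.tmul_pow,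
        one_pow, smul_pow, one_pow, hα]
      simp only [i1, pow_one]
      have hroot : (AdjoinRoot.root f) ^ p = algebraMap A C a := by
        have := AdjoinRoot.eval₂_root f
        simp only [f, Polynomial.eval₂_sub, Polynomial.eval₂_pow, Polynomial.eval₂_X, Polynomial.eval₂_C, sub_eq_zero] at this
        exact this
      rw [show pb.gen = AdjoinRoot.root f from rfl, hroot, Algebra.algebraMap_eq_smul_one a, TensorProduct.tmul_smul,
        algebraMap_smul, Algebra.TensorProduct.one_def, sub_self]
    have h0 : u = 0 := IsReduced.eq_zero _ ⟨p, hu⟩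
    have h9 := congrArg (fun v => bB.repr v i1) h0
    simp [u, i0, i1, Fin.ext_iff] at h9

end Groth.Agent.S0577
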