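import Groth.Statements.S0587
import Groth.Agent.ProjLib.TensorPi

set_option autoImplicit false
universe u
open CAlg

namespace Groth.Agent.S0587

/-- A module `M` is finitely generated exactly when for every family of modules `(Qᵢ)` the natural map
from `M ⊗ ∏ Qᵢ` to `∏ (M ⊗ Qᵢ)` is surjective. -/
theorem result (R : Type u) [CommRing R] (M : Type u)
    [AddCommGroup M] [Module R M] :
    Module.Finite R M ↔ ∀ (ι : Type u) (Q : ι → Type u) [∀ i, AddCommGroup (Q i)]
      [∀ i, Module R (Q i)], Function.Surjective (TensorProduct.piRightHom R R M Q) := by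
  classical
  refine ⟨fun h ι Q _ _ => ProjLib.piRightHom_surjective M, fun h => ?_⟩
  obtain ⟨z, hz⟩ := h M (fun _ => R) (fun m => m ⊗ₜ[R] (1 : R))
  obtain ⟨T, rfl⟩ := TensorProduct.exists_finset z
  refine ⟨⟨T.image Prod.fst, eq_top_iff.2 fun m _ => ?_⟩⟩
  have := congrArg (TensorProduct.rid R M) (congrFun hz m)
  simp only [map_sum, Finset.sum_apply, TensorProduct.piRightHom_tmul, TensorProduct.rid_tmul,
    one_smul] at this
  rw [← this]
  refine Submodule.sum_mem _ fun p hp => Submodule.smul_mem _ _ (Submodule.subset_span ?_)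
  exact Finset.mem_coe.2 (Finset.mem_image_of_mem _ hp)

end Groth.Agent.S0587
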