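import Groth.Statements.S0588
import Groth.Agent.ProjLib.TensorPi
import Groth.Agent.S0587

set_option autoImplicit false
universe u
open CAlg

namespace Groth.Agent.S0588
open TensorProduct

/-- A module `M` is finitely presented exactly when for every family of modules `(Qᵢ)` the natural map
from `M ⊗ ∏ Qᵢ` to `∏ (M ⊗ Qᵢ)` is bijective. -/
theorem result (R : Type u) [CommRing R] (M : Type u)
    [AddCommGroup M] [Module R M] :
    Module.FinitePresentation R M ↔ ∀ (ι : Type u) (Q : ι → Type u) [∀ i, AddCommGroup (Q i)]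
      [∀ i, Module R (Q i)], Function.Bijective (TensorProduct.piRightHom R R M Q) := by
  classical
  refine ⟨fun h ι Q _ _ => ⟨ProjLib.piRightHom_injective M, ProjLib.piRightHom_surjective M⟩,
    fun h => ?_⟩
  have : Module.Finite R M := (Groth.Agent.S0587.result R M).2 fun ι Q _ _ => (h ι Q).2
  obtain ⟨n, π, hπ⟩ := Module.Finite.exists_fin' R M
  refine Module.finitePresentation_of_surjective π hπ ?_
  have hex := LinearMap.exact_subtype_ker_map π
  let W := ↥(LinearMap.ker π) → R
  let z : (Fin n → R) ⊗[R] W := ∑ j, Pi.single j (1 : R) ⊗ₜ[R] (fun k => (k : Fin n → R) j)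
  have key : ∀ (N : Type u) [AddCommGroup N] [Module R N] (x : N) (f : W) (k : ↥(LinearMap.ker π)),
      TensorProduct.rid R N (TensorProduct.piRightHom R R N (fun _ : ↥(LinearMap.ker π) => R)
        (x ⊗ₜ[R] f) k) = f k • x := fun N _ _ x f k => rfl
  have hz : π.rTensor W z = 0 := by
    apply (h (↥(LinearMap.ker π)) (fun _ => R)).1
    rw [map_zero]
    funext k
    apply (TensorProduct.rid R M).injective
    rw [Pi.zero_apply, map_zero]
    simp only [z, map_sum, Finset.sum_apply, LinearMap.rTensor_tmul, key]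
    rw [← LinearMap.mem_ker.1 k.2]
    conv_rhs => rw [pi_eq_sum_univ' (k : Fin n → R)]
    simp [map_sum]
  obtain ⟨t, ht⟩ := (rTensor_exact (M := (LinearMap.ker π : Submodule R (Fin n → R)))
    (f := (LinearMap.ker π).subtype) W hex hπ z).1 hz
  obtain ⟨T, rfl⟩ := TensorProduct.exists_finset t
  refine ⟨T.image fun p => (p.1 : Fin n → R), le_antisymm ?_ fun v hv => ?_⟩
  · rw [Submodule.span_le]
    intro v hv
    obtain ⟨p, -, rfl⟩ := Finset.mem_image.1 (Finset.mem_coe.1 hv)
    exact p.1.2
  · have := congrArg (fun y => TensorProduct.rid R (Fin n → R)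
      (TensorProduct.piRightHom R R (Fin n → R) (fun _ : ↥(LinearMap.ker π) => R) y ⟨v, hv⟩)) ht
    simp only [z, map_sum, Finset.sum_apply, LinearMap.rTensor_tmul, key,
      Submodule.subtype_apply] at this
    rw [← pi_eq_sum_univ' v] at this
    rw [← this]
    refine Submodule.sum_mem _ fun p hp => Submodule.smul_mem _ _ (Submodule.subset_span ?_)
    exact Finset.mem_coe.2 (Finset.mem_image_of_mem (fun p => (p.1 : Fin n → R)) hp)

end Groth.Agent.S0588
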