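import Groth.Statements.S0597
import Groth.Agent.ApproxLib.Pair

set_option autoImplicit false
universe u
open CAlg

namespace Groth.Agent.S0597

/-- Let `A` be Noetherian and Henselian at `I`, and suppose the map to the `I`-adic completion is
regular. Any solution in the completion of a finite system of polynomial equations over `A` can be
approximated to any `I`-adic order by a solution in `A`. -/
theorem result (A : Type u) [CommRing A] [IsNoetherianRing A]
    (I : Ideal A) [HenselianRing A I] (hreg : CAlg.IsRegularHom A (AdicCompletion I A)) (n m : ℕ)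
    (F : Fin m → MvPolynomial (Fin n) A) (a : Fin n → (AdicCompletion I A))
    (ha : ∀ j, MvPolynomial.eval a (MvPolynomial.map (algebraMap A (AdicCompletion I A)) (F j)) = 0) (N : ℕ) :
    ∃ b : Fin n → A, (∀ j, MvPolynomial.eval b (F j) = 0) ∧
      ∀ i, a i - algebraMap A (AdicCompletion I A) (b i) ∈ (I ^ N).map (algebraMap A (AdicCompletion I A)) := by
  let J : Ideal (MvPolynomial (Fin n) A) := Ideal.span (Set.range F)
  have hJ : ∀ p ∈ J, MvPolynomial.aeval a p = 0 := fun p hp => by
    induction hp using Submodule.span_induction with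
    | mem y hy =>
      obtain ⟨j, rfl⟩ := hy
      rw [← ha j, MvPolynomial.eval_map, MvPolynomial.aeval_def]
    | zero => rw [map_zero]
    | add x y _ _ hx hy => rw [map_add, hx, hy, add_zero]
    | smul c y _ hy => rw [smul_eq_mul, map_mul, hy, mul_zero]
  have : Algebra.FinitePresentation A (MvPolynomial (Fin n) A ⧸ J) :=
    Algebra.FinitePresentation.quotient (Submodule.fg_span (Set.finite_range F))
  obtain ⟨g, hg⟩ := ApproxLib.exists_approx I hreg (Ideal.Quotient.liftₐ J (MvPolynomial.aeval a) hJ) N
  refine ⟨fun i => g (Ideal.Quotient.mk J (MvPolynomial.X i)), fun j => ?_, fun i => ?_⟩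
  · have h : (MvPolynomial.aeval fun i => g (Ideal.Quotient.mk J (MvPolynomial.X i))) =
        g.comp (Ideal.Quotient.mkₐ A J) := MvPolynomial.algHom_ext fun i => MvPolynomial.aeval_X _ i
    show MvPolynomial.aeval (fun i => g (Ideal.Quotient.mk J (MvPolynomial.X i))) (F j) = 0
    rw [h]
    show g (Ideal.Quotient.mk J (F j)) = 0
    rw [Ideal.Quotient.eq_zero_iff_mem.2 (Ideal.subset_span (Set.mem_range_self j)), map_zero]
  · refine Ideal.map_mono (Ideal.pow_le_pow_right N.le_succ) (ApproxLib.sub_mem_of_evalₐ_eq I (N + 1) _ _ ?_)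
    refine (hg _).trans (congrArg _ ?_)
    exact MvPolynomial.aeval_X a i

end Groth.Agent.S0597
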