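import Groth.Statements.S0604
import Mathlib
import Groth.Agent.BELib.AB
-- import your own Groth.Agent.* helpers here

set_option autoImplicit false
universe u
open CategoryTheory
open CAlg

namespace Groth.Agent.S0604

/-- Over a Noetherian local ring `R`, a nonzero finitely generated module `M` of finite projective
dimension satisfies depth R = pd M + depth M. -/
theorem result (R : Type u) [CommRing R] [IsLocalRing R] [IsNoetherianRing R]
    (M : Type u) [AddCommGroup M] [Module R M] [Module.Finite R M] [Nontrivial M] (e : ℕ)
    (he : projectiveDimension (ModuleCat.of R M) = e) :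
    LocCoh.depth R R = e + LocCoh.depth R M := by
  obtain ⟨d, hd⟩ := Groth.Agent.NewIntersectLib.exists_depth (A := R)
  have h1 : CommAlgDim.PDLT R M (e + 1) :=
    (CategoryTheory.projectiveDimension_lt_iff (X := ModuleCat.of R M) (n := e + 1)).1 (by rw [he]; exact_mod_cast Nat.lt_succ_self e)
  have h2 : ¬ CommAlgDim.PDLT R M e := fun h =>
    absurd ((CategoryTheory.projectiveDimension_lt_iff (X := ModuleCat.of R M) (n := e)).2 h) (by rw [he]; simp)
  obtain ⟨hed, hM⟩ := Groth.Agent.BELib.depth_add_pd d R hd M e h1 h2
  rw [hd, hM]
  norm_cast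
  omega

end Groth.Agent.S0604
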