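import Groth.Statements.S0608
import Groth.Agent.RRAlgLib.Rees

set_option autoImplicit false
universe u
open RRAlg

namespace Groth.Agent.S0608

/-- Let a_1, …, a_n be a weakly regular sequence in a commutative ring A (each a_i is a non-zero-divisor
modulo (a_1, …, a_(i−1)); the a_i are allowed to generate the unit ideal). Then the kernel of the
A-algebra map A[X_1, …, X_n] → A[T] sending X_i to a_i·T, whose image is the Rees algebra of the
ideal (a_1, …, a_n), is the ideal generated by the elements a_i X_j − a_j X_i. (The published
statement assumes a regular sequence; only weak regularity is assumed here.) -/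
theorem result {A : Type u} [CommRing A] {n : ℕ} (a : Fin n → A)
    (ha : RingTheory.Sequence.IsWeaklyRegular A (List.ofFn a)) :
    RingHom.ker (MvPolynomial.aeval (R := A)
      (fun i : Fin n => Polynomial.C (a i) * (Polynomial.X : Polynomial A))) =
      Ideal.span {q : MvPolynomial (Fin n) A | ∃ i j : Fin n,
        q = MvPolynomial.C (a i) * MvPolynomial.X j - MvPolynomial.C (a j) * MvPolynomial.X i} := by
  classical
  open MvPolynomial in
  set f := MvPolynomial.aeval (R := A) (fun i : Fin n => Polynomial.C (a i) * (Polynomial.X : Polynomial A)) with hf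
  have hhom : ∀ (d : ℕ) (G : MvPolynomial (Fin n) A), G.IsHomogeneous d →
      f G = Polynomial.C (MvPolynomial.eval a G) * Polynomial.X ^ d := by
    intro d G hG
    conv_lhs => rw [G.as_sum]
    conv_rhs => rw [G.as_sum]
    rw [map_sum, map_sum, map_sum, Finset.sum_mul]
    refine Finset.sum_congr rfl fun s hs => ?_
    rw [hf, MvPolynomial.aeval_monomial, MvPolynomial.eval_monomial, Polynomial.algebraMap_eq, map_mul,
      Finsupp.prod_fintype _ _ (fun i => pow_zero _), Finsupp.prod_fintype _ _ (fun i => pow_zero _),
      map_prod, hG.degree_eq_sum_deg_support hs, mul_assoc]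
    congr 1
    simp only [mul_pow, Finset.prod_mul_distrib, map_pow]
    congr 1
    rw [Finset.prod_pow_eq_pow_sum]
    congr 1
    exact (Finset.sum_subset (Finset.subset_univ _) (fun i _ hi => by simpa using hi)).symm
  refine le_antisymm (fun F hF => ?_) (Ideal.span_le.2 ?_)
  · rw [RingHom.mem_ker] at hF
    rw [← MvPolynomial.sum_homogeneousComponent F]
    refine sum_mem fun k hk => Groth.Agent.RRAlgLib.mem_L_of_isWeaklyRegular a ha
      (MvPolynomial.homogeneousComponent_isHomogeneous k F) ?_
    have h1 : f F = ∑ m ∈ Finset.range (F.totalDegree + 1),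
        Polynomial.C (MvPolynomial.eval a (MvPolynomial.homogeneousComponent m F)) * Polynomial.X ^ m := by
      conv_lhs => rw [← MvPolynomial.sum_homogeneousComponent F]
      rw [map_sum]
      exact Finset.sum_congr rfl fun m _ => hhom m _ (MvPolynomial.homogeneousComponent_isHomogeneous m F)
    have h2 := congrArg (fun p => Polynomial.coeff p k) (h1.symm.trans hF)
    simp only [Polynomial.finsetSum_coeff, Polynomial.coeff_C_mul_X_pow, Polynomial.coeff_zero,
      Finset.sum_ite_eq, if_pos hk] at h2
    exact h2
  · rintro _ ⟨i, j, rfl⟩
    rw [SetLike.mem_coe, RingHom.mem_ker, map_sub, map_mul, map_mul]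
    simp only [hf, MvPolynomial.aeval_C, MvPolynomial.aeval_X, Polynomial.algebraMap_eq]
    ring

end Groth.Agent.S0608
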