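import Groth.Statements.S0611
import Mathlib.RingTheory.Regular.RegularSequence
import Mathlib.Tactic.LinearCombination
import Mathlib.Tactic.Ring

set_option autoImplicit false
universe u
open RRAlg

namespace Groth.Agent.S0611

open RingTheory.Sequence IsLocalRing in
/-- Exchange lemma: a regular sequence may be exchanged, one element at a time, for any other
generating family of the same length. -/
theorem exchange {A : Type u} [CommRing A] [IsLocalRing A] [IsNoetherianRing A] :
    ∀ (k : ℕ) (c as bs : List A), as.length = k → bs.length = k →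
      (∀ x ∈ c ++ as, x ∈ maximalIdeal A) → IsWeaklyRegular A (c ++ as) →
      Ideal.ofList (c ++ as) = Ideal.ofList (c ++ bs) → IsWeaklyRegular A (c ++ bs) := by
  intro k
  induction k with
  | zero =>
    intro c as bs ha hb _ hreg _
    rw [List.length_eq_zero_iff] at ha hb
    subst ha hb; exact hreg
  | succ k ih =>
    intro c as bs ha hb hmem hreg hspan
    classical
    obtain ⟨a, as', rfl⟩ := List.exists_cons_of_length_eq_add_one ha
    have hJm : Ideal.ofList (c ++ as') ≤ maximalIdeal A := Ideal.span_le.mpr fun x hx => hmem x (by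
      simp only [Set.mem_setOf_eq, List.mem_append, List.mem_cons] at hx ⊢; tauto)
    have hsplit : ∀ z, Ideal.ofList (c ++ z :: as') = Ideal.ofList (c ++ as') ⊔ Ideal.span {z} := by
      intro z
      simp only [Ideal.ofList_append, Ideal.ofList_cons]
      ac_rfl
    have hperm : ∀ z, List.Perm (c ++ z :: as') (c ++ as' ++ [z]) := fun z =>
      List.perm_middle.trans (List.perm_append_singleton z _).symm
    have hreg' := IsLocalRing.isWeaklyRegular_of_perm_of_subset_maximalIdeal hreg (hperm a) hmem
    rw [isWeaklyRegular_append_iff, isWeaklyRegular_singleton_iff] at hreg'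
    have hamem : a ∉ Ideal.ofList (c ++ as') := by
      intro h
      have h1 : a • (Submodule.Quotient.mk (1 : A) :
          A ⧸ (Ideal.ofList (c ++ as') • ⊤ : Submodule A A)) = a • 0 := by
        rw [smul_zero, ← Submodule.Quotient.mk_smul, Submodule.Quotient.mk_eq_zero]
        simpa using h
      have h2 := hreg'.2 h1
      rw [Submodule.Quotient.mk_eq_zero] at h2
      exact (maximalIdeal.isMaximal A).ne_top ((Ideal.eq_top_iff_one _).mpr (hJm (by simpa using h2)))
    obtain ⟨b, hbmem, hb'⟩ : ∃ b ∈ bs,
        b ∉ Ideal.ofList (c ++ as') ⊔ maximalIdeal A * Ideal.span {a} := by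
      by_contra! h
      have hle : Ideal.ofList (c ++ a :: as') ≤
          Ideal.ofList (c ++ as') ⊔ maximalIdeal A * Ideal.span {a} := by
        rw [hspan, Ideal.ofList_append]
        exact sup_le (le_sup_left.trans' (by rw [Ideal.ofList_append]; exact le_sup_left))
          (Ideal.span_le.mpr fun x hx => h x hx)
      obtain ⟨j, hj, w, hw, hjw⟩ := Submodule.mem_sup.mp
        (hle (Ideal.subset_span (show a ∈ {x | x ∈ c ++ a :: as'} by simp)))
      obtain ⟨t, ht, rfl⟩ := Ideal.mem_mul_span_singleton.mp hw
      obtain ⟨u, hu⟩ := (isUnit_one_sub_self_of_mem_nonunits t ht : IsUnit (1 - t))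
      refine hamem ?_
      rw [show a = ↑u⁻¹ * j by rw [Units.eq_inv_mul_iff_mul_eq, hu]; linear_combination (-hjw)]
      exact Ideal.mul_mem_left _ _ hj
    have hbI : b ∈ Ideal.ofList (c ++ as') ⊔ Ideal.span {a} := by
      rw [← hsplit, hspan]
      exact Ideal.subset_span (show b ∈ {x | x ∈ c ++ bs} by simp [hbmem])
    obtain ⟨j, hj, w, hw, rfl⟩ := Submodule.mem_sup.mp hbI
    obtain ⟨u, rfl⟩ := Ideal.mem_span_singleton'.mp hw
    have hu : IsUnit u := not_not.mp fun hu => hb' (Submodule.add_mem_sup hj
      (Ideal.mem_mul_span_singleton.mpr ⟨u, hu, rfl⟩))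
    have hmemb : ∀ x ∈ c ++ (j + u * a) :: as', x ∈ maximalIdeal A := by
      intro x hx
      simp only [List.mem_append, List.mem_cons] at hx
      rcases hx with hx | rfl | hx
      · exact hmem x (by simp [hx])
      · exact add_mem (hJm hj) (Ideal.mul_mem_left _ _ (hmem a (by simp)))
      · exact hmem x (by simp [hx])
    have hregb : IsWeaklyRegular A (c ++ (j + u * a) :: as') := by
      refine IsLocalRing.isWeaklyRegular_of_perm_of_subset_maximalIdeal ?_ (hperm _).symm
        fun x hx => hmemb x ((hperm _).mem_iff.mpr hx)
      rw [isWeaklyRegular_append_iff, isWeaklyRegular_singleton_iff]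
      refine ⟨hreg'.1, fun x y hxy => ?_⟩
      have hkill : ∀ z : A ⧸ (Ideal.ofList (c ++ as') • ⊤ : Submodule A A), j • z = 0 := by
        intro z
        induction z using Submodule.Quotient.induction_on with
        | H z =>
          rw [← Submodule.Quotient.mk_smul, Submodule.Quotient.mk_eq_zero]
          exact Submodule.smul_mem_smul hj Submodule.mem_top
      simp only [add_smul, hkill, zero_add, mul_smul] at hxy
      exact hreg'.2 ((hu.smul_left_cancel).mp hxy)
    have hspanb : Ideal.ofList (c ++ (j + u * a) :: as') = Ideal.ofList (c ++ a :: as') := by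
      rw [hsplit, hsplit]
      refine le_antisymm (sup_le le_sup_left ?_) (sup_le le_sup_left ?_)
      · rw [Ideal.span_singleton_le_iff_mem]
        exact Submodule.add_mem_sup hj (Ideal.mem_span_singleton'.mpr ⟨u, rfl⟩)
      · rw [Ideal.span_singleton_le_iff_mem]
        obtain ⟨v, rfl⟩ := hu
        have e : a = ↑v⁻¹ * -j + ↑v⁻¹ * (j + ↑v * a) := by linear_combination (-a) * v.inv_mul
        have h3 := Submodule.add_mem_sup
          (Ideal.mul_mem_left (Ideal.ofList (c ++ as')) (↑v⁻¹ : A) (neg_mem hj))
          (Ideal.mem_span_singleton'.mpr ⟨(↑v⁻¹ : A), rfl⟩ :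
            (↑v⁻¹ : A) * (j + ↑v * a) ∈ Ideal.span {j + ↑v * a})
        rwa [← e] at h3
    have hp : List.Perm (c ++ bs) ((c ++ [j + u * a]) ++ bs.erase (j + u * a)) := by
      rw [List.append_assoc, List.singleton_append]
      exact (List.perm_cons_erase hbmem).append_left c
    have hI : Ideal.ofList ((c ++ [j + u * a]) ++ bs.erase (j + u * a)) =
        Ideal.ofList (c ++ bs) := congrArg Ideal.span (Set.ext fun _ => hp.mem_iff.symm)
    have hmain := ih (c ++ [j + u * a]) as' (bs.erase (j + u * a)) (by simpa using ha)
      (by rw [List.length_erase_of_mem hbmem, hb]; rfl) (by simpa using hmemb) (by simpa using hregb)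
      (by rw [hI, ← hspan, ← hspanb, List.append_assoc, List.singleton_append])
    refine IsLocalRing.isWeaklyRegular_of_perm_of_subset_maximalIdeal hmain hp.symm fun x hx => ?_
    have hle : Ideal.ofList (c ++ a :: as') ≤ maximalIdeal A := Ideal.span_le.mpr hmem
    exact hle (hspan ▸ hI ▸ Ideal.subset_span hx)


/-- In a Noetherian local ring, any minimal generating set of an ideal generated by a regular sequence
is again a regular sequence: if a₁, …, aₙ is a regular sequence and b₁, …, bₙ are n elements
generating the same ideal, then b₁, …, bₙ is a regular sequence. (A regular sequence of length n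
generating an ideal I is a minimal generating set of I, so "minimal" amounts to "of length n".) -/
theorem result {A : Type u} [CommRing A] [IsLocalRing A] [IsNoetherianRing A]
    {n : ℕ} (a b : Fin n → A) (ha : RingTheory.Sequence.IsRegular A (List.ofFn a))
    (hab : Ideal.span (Set.range a) = Ideal.span (Set.range b)) :
    RingTheory.Sequence.IsRegular A (List.ofFn b) := by
  have hspan : ∀ f : Fin n → A, Ideal.ofList (List.ofFn f) = Ideal.span (Set.range f) := fun f =>
    congrArg Ideal.span (Set.ext fun x => List.mem_ofFn' f x)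
  have hne : Ideal.ofList (List.ofFn a) ≠ ⊤ := fun h => ha.top_ne_smul (by rw [h]; simp)
  have hmem : ∀ x ∈ List.ofFn a, x ∈ IsLocalRing.maximalIdeal A := fun x hx =>
    IsLocalRing.le_maximalIdeal hne (Ideal.subset_span hx)
  have h := exchange n [] (List.ofFn a) (List.ofFn b) (by simp) (by simp) (by simpa using hmem)
    (by simpa using ha.toIsWeaklyRegular) (by simp [hspan, hab])
  refine ⟨by simpa using h, fun h' => ha.top_ne_smul ?_⟩
  rwa [hspan, hab, ← hspan]

end Groth.Agent.S0611
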