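import Groth.Statements.S0614
import Mathlib
import Groth.Agent.DvrDom.Basic
import Mathlib.AlgebraicGeometry.EllipticCurve.IsomOfJ
import Mathlib.Tactic
import Mathlib.FieldTheory.IsAlgClosed.AlgebraicClosure
-- import your own Groth.Agent.* helpers here

set_option autoImplicit false
universe u
open Neron

namespace Groth.Agent.S0614

open Polynomial IsLocalRing in
/-- A curve with given integral `j` and unit discriminant at every local algebra containing a root. -/
theorem exists_model {R : Type u} [CommRing R] [IsLocalRing R] (j : R) :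
    ∃ (P : R[X]) (M : WeierstrassCurve R[X]), P.Monic ∧ P.natDegree ≠ 0 ∧
      ∀ (S : Type u) [CommRing S] [IsLocalRing S] [Algebra R S] [IsLocalHom (algebraMap R S)] (a : S),
        aeval a P = 0 → IsUnit (aeval a M.Δ) ∧ aeval a M.c₄ ^ 3 = algebraMap R S j * aeval a M.Δ := by
  by_cases h2 : IsUnit (2 : R)
  · obtain ⟨u, hu⟩ := (h2.pow 8).exists_right_inv
    let P : R[X] := (X ^ 2 - X + 1) ^ 3 - C (j * u) * (X ^ 2 * (X - 1) ^ 2)
    refine ⟨P, ⟨0, -(1 + X), 0, X, 0⟩, by unfold P; monicity!, ?_, ?_⟩
    · have : P.natDegree = 6 := by unfold P; compute_degree!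
      omega
    intro S _ _ _ _ a ha
    simp only [P, map_sub, map_add, map_mul, map_pow, map_one, aeval_X, aeval_C] at ha
    have h2S : IsUnit (2 : S) := by
      have := h2.map (algebraMap R S); rwa [map_ofNat] at this
    have hu' : (256 : S) * algebraMap R S u = 1 := by
      have := congrArg (algebraMap R S) hu
      simp only [map_mul, map_pow, map_ofNat, map_one] at this
      linear_combination this
    have hx : IsUnit (a * (a - 1)) := by
      by_contra h
      have hx : a * (a - 1) ∈ maximalIdeal S := (mem_maximalIdeal _).2 h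
      have h1 : a * (a - 1) + 1 ∈ maximalIdeal S := by
        refine Ideal.IsPrime.mem_of_pow_mem inferInstance 3 ?_
        rw [show (a * (a - 1) + 1) ^ 3 = (algebraMap R S j * algebraMap R S u * (a * (a - 1))) * (a * (a - 1)) by
          linear_combination ha]
        exact Ideal.mul_mem_left _ _ hx
      exact (maximalIdeal.isMaximal S).ne_top ((Ideal.eq_top_iff_one _).2 (by simpa using sub_mem h1 hx))
    have eΔ : aeval a (WeierstrassCurve.mk (0 : R[X]) (-(1 + X)) 0 X 0).Δ = 2 ^ 4 * (a * (a - 1)) ^ 2 := by
      simp [WeierstrassCurve.Δ, WeierstrassCurve.b₂, WeierstrassCurve.b₄, WeierstrassCurve.b₆, WeierstrassCurve.b₈,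
        map_ofNat]
      ring
    have ec : aeval a (WeierstrassCurve.mk (0 : R[X]) (-(1 + X)) 0 X 0).c₄ = 16 * (a * (a - 1) + 1) := by
      simp [WeierstrassCurve.c₄, WeierstrassCurve.b₂, WeierstrassCurve.b₄, map_ofNat]
      ring
    rw [eΔ, ec]
    refine ⟨(h2S.pow 4).mul (hx.pow 2), ?_⟩
    linear_combination 4096 * ha + 16 * algebraMap R S j * (a * (a - 1)) ^ 2 * hu'
  · have h2m : (2 : R) ∈ maximalIdeal R := (mem_maximalIdeal _).2 h2
    let P : R[X] := X ^ 3 * (X ^ 3 - 24) ^ 3 - C j * (X ^ 3 - 27)
    refine ⟨P, ⟨X, 0, 1, 0, 0⟩, by unfold P; monicity!, ?_, ?_⟩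
    · have : P.natDegree = 12 := by unfold P; compute_degree!
      omega
    intro S _ _ _ _ a ha
    simp only [P, map_sub, map_mul, map_pow, map_ofNat, aeval_X, aeval_C] at ha
    have h3 : IsUnit (3 : S) := by
      have h3R : IsUnit (3 : R) := by
        by_contra h
        exact (maximalIdeal.isMaximal R).ne_top ((Ideal.eq_top_iff_one _).2
          (by simpa [show (3 : R) - 2 = 1 by ring] using sub_mem ((mem_maximalIdeal (3 : R)).2 h) h2m))
      have := h3R.map (algebraMap R S); rwa [map_ofNat] at this
    have eΔ : aeval a (WeierstrassCurve.mk (X : R[X]) 0 1 0 0).Δ = a ^ 3 - 27 := by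
      simp [WeierstrassCurve.Δ, WeierstrassCurve.b₂, WeierstrassCurve.b₄, WeierstrassCurve.b₆, WeierstrassCurve.b₈,
        map_ofNat]
      ring
    have ec : aeval a (WeierstrassCurve.mk (X : R[X]) 0 1 0 0).c₄ = a * (a ^ 3 - 24) := by
      simp [WeierstrassCurve.c₄, WeierstrassCurve.b₂, WeierstrassCurve.b₄, map_ofNat]
      ring
    rw [eΔ, ec]
    refine ⟨?_, by linear_combination ha⟩
    by_contra h
    have hm : a ^ 3 - 27 ∈ maximalIdeal S := (mem_maximalIdeal _).2 h
    have h27 : (729 : S) ∈ maximalIdeal S := by
      obtain ⟨c, hc⟩ : ∃ c, (729 : S) = (a ^ 3 - 27) * c :=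
        ⟨algebraMap R S j - ((a ^ 3 - 24) ^ 3 + 27 * ((a ^ 3 - 24) ^ 2 + 3 * (a ^ 3 - 24) + 9)), by
          linear_combination ha⟩
      rw [hc]; exact Ideal.mul_mem_right _ _ hm
    rw [show (729 : S) = 3 ^ 6 by norm_num] at h27
    exact (mem_maximalIdeal _).1 (Ideal.IsPrime.mem_of_pow_mem inferInstance 6 h27) h3

/-- (c) (the base Dedekind scheme taken local): an elliptic curve E over the fraction field K of a
discrete valuation ring R has integral j-invariant if and only if it has potential good reduction
(stated here with a finite extension: there are a finite extension L of K and a discrete valuation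
ring R_L of L dominating R over which a minimal Weierstrass equation of E_L has good reduction). -/
theorem result {R : Type u} [CommRing R] [IsDomain R]
    [IsDiscreteValuationRing R] {K : Type u} [Field K] [Algebra R K] [IsFractionRing R K]
    (W : WeierstrassCurve K) [W.IsElliptic] :
    (∃ r : R, algebraMap R K r = W.j) ↔
      ∃ (L : Type u) (_ : Field L) (_ : Algebra K L) (_ : FiniteDimensional K L) (RL : Type u)
        (_ : CommRing RL) (_ : IsDomain RL) (_ : IsDiscreteValuationRing RL) (_ : Algebra RL L)
        (_ : IsFractionRing RL L) (φ : R →+* RL), IsLocalHom φ ∧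
        (∀ r : R, algebraMap K L (algebraMap R K r) = algebraMap RL L (φ r)) ∧
        ((W.baseChange L).minimal RL).HasGoodReduction RL := by
  classical
  set v := IsDedekindDomain.HeightOneSpectrum.valuation K (IsDiscreteValuationRing.maximalIdeal R)
  constructor
  · rintro ⟨j, hj⟩
    let Ω := AlgebraicClosure K
    obtain ⟨P, M, hPm, hPd, hM⟩ := exists_model j
    obtain ⟨a, ha⟩ := IsAlgClosed.exists_root ((P.map (algebraMap R K)).map (algebraMap K Ω)) (by
      rw [Polynomial.degree_map, Polynomial.degree_map_eq_of_injective (IsFractionRing.injective R K)]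
      rw [Polynomial.degree_eq_natDegree hPm.ne_zero]
      exact_mod_cast hPd)
    rw [Polynomial.IsRoot, Polynomial.eval_map, Polynomial.eval₂_map] at ha
    have haR : Polynomial.aeval a P = 0 := by
      rw [Polynomial.aeval_def, IsScalarTower.algebraMap_eq R K Ω]; exact ha
    have hai : IsIntegral R a := ⟨P, hPm, by rw [← Polynomial.aeval_def]; exact haR⟩
    -- a discrete valuation ring in a finite subextension containing the root
    have dvr : ∀ F : IntermediateField K Ω, FiniteDimensional K F → a ∈ F →
        ∃ (V : ValuationSubring F) (_ : IsDiscreteValuationRing V) (φ : R →+* V) (_ : IsLocalHom φ) (b : V),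
          (∀ r, algebraMap K F (algebraMap R K r) = (φ r : F)) ∧ ((b : F) : Ω) = a := by
      intro F _ haF
      let s := Finset.univ.image (Module.finBasis K F)
      obtain ⟨ϖ, hϖ⟩ := IsDiscreteValuationRing.exists_irreducible R
      have hinj : Function.Injective (algebraMap R F) := by
        rw [IsScalarTower.algebraMap_eq R K F]
        exact (algebraMap K F).injective.comp (IsFractionRing.injective R K)
      obtain ⟨V, hV, hmem, hval⟩ := DvrDomLib.exists_dvr_dominating (L := F) (IsLocalRing.maximalIdeal R)
        (by rw [(RingHom.injective_iff_ker_eq_bot _).1 hinj]; exact bot_le)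
        ⟨ϖ, (IsLocalRing.mem_maximalIdeal ϖ).2 hϖ.not_isUnit, (map_ne_zero_iff _ hinj).2 hϖ.ne_zero⟩ s (by
          refine top_le_iff.1 fun z _ => ?_
          rw [← (Module.finBasis K F).sum_repr z]
          refine sum_mem fun i _ => ?_
          rw [Algebra.smul_def]
          refine mul_mem ?_ (Subfield.subset_closure (.inr (by simp [s])))
          obtain ⟨x, y, -, hxy⟩ := IsFractionRing.div_surjective (A := R) ((Module.finBasis K F).repr z i)
          rw [← hxy, map_div₀, ← IsScalarTower.algebraMap_apply, ← IsScalarTower.algebraMap_apply]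
          exact div_mem (Subfield.subset_closure (.inl ⟨x, rfl⟩)) (Subfield.subset_closure (.inl ⟨y, rfl⟩)))
      let φ : R →+* V := (algebraMap R F).codRestrict V.toSubring hmem
      have hbi : IsIntegral R (⟨a, haF⟩ : F) :=
        (isIntegral_algHom_iff (F.val.restrictScalars R) Subtype.val_injective).1 hai
      letI := φ.toAlgebra
      haveI : IsScalarTower R V F := IsScalarTower.of_algebraMap_eq fun _ => rfl
      obtain ⟨b, hb⟩ := IsIntegrallyClosed.isIntegral_iff.1 (hbi.tower_top (A := V))
      refine ⟨V, hV, φ, ⟨fun r hr => ?_⟩, b, fun r => (IsScalarTower.algebraMap_apply R K F r).symm, ?_⟩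
      · by_contra h
        have hlt := (hval r).2 ((IsLocalRing.mem_maximalIdeal r).2 h)
        rw [show V.valuation (algebraMap R F r) = 1 from (V.valuation_eq_one_iff (φ r)).1 hr] at hlt
        exact lt_irrefl _ hlt
      · exact congrArg (fun z : F => (z : Ω)) hb
    -- the model over the algebraic closure
    let E₁ : WeierstrassCurve Ω := M.map (Polynomial.aeval a).toRingHom
    have key : E₁.Δ ≠ 0 ∧ E₁.c₄ ^ 3 = algebraMap R Ω j * E₁.Δ := by
      obtain ⟨V, hV, φ, hφ, b, hcomp, hb⟩ := dvr (IntermediateField.adjoin K {a})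
        (IntermediateField.adjoin.finiteDimensional (Algebra.IsIntegral.isIntegral a))
        (IntermediateField.mem_adjoin_simple_self K a)
      letI := φ.toAlgebra
      haveI : IsLocalHom (algebraMap R V) := hφ
      let g : V →ₐ[R] Ω := { (algebraMap (IntermediateField.adjoin K {a}) Ω).comp V.subtype with
        commutes' := fun r => by
          show algebraMap (IntermediateField.adjoin K {a}) Ω (φ r) = _
          rw [← hcomp, ← IsScalarTower.algebraMap_apply, ← IsScalarTower.algebraMap_apply] }
      have hg : g b = a := hb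
      have hbP : Polynomial.aeval b P = 0 := by
        refine (show Function.Injective g from fun x y h => Subtype.ext (Subtype.ext h)) ?_
        rw [map_zero, ← Polynomial.aeval_algHom_apply, hg, haR]
      obtain ⟨hu, hc⟩ := hM V b hbP
      constructor
      · rw [WeierstrassCurve.map_Δ]
        show Polynomial.aeval a M.Δ ≠ 0
        rw [← hg, Polynomial.aeval_algHom_apply]
        exact (hu.map g).ne_zero
      · rw [WeierstrassCurve.map_Δ, WeierstrassCurve.map_c₄]
        show Polynomial.aeval a M.c₄ ^ 3 = _ * Polynomial.aeval a M.Δ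
        rw [← hg, Polynomial.aeval_algHom_apply, Polynomial.aeval_algHom_apply, ← map_pow, hc, map_mul, AlgHom.commutes]
    haveI : E₁.IsElliptic := (WeierstrassCurve.isElliptic_iff _).2 (Ne.isUnit key.1)
    have hjeq : (W.map (algebraMap K Ω)).j = E₁.j := by
      rw [WeierstrassCurve.map_j, ← hj, ← IsScalarTower.algebraMap_apply,
        WeierstrassCurve.j, Units.val_inv_eq_inv_val, WeierstrassCurve.coe_Δ', key.2]
      rw [mul_left_comm, inv_mul_cancel₀ key.1, mul_one]
    obtain ⟨C, hC⟩ := WeierstrassCurve.exists_variableChange_of_j_eq _ _ hjeq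
    let S : Set Ω := {a, (C.u : Ω), C.r, C.s, C.t}
    let L := IntermediateField.adjoin K S
    haveI hfd : FiniteDimensional K L :=
      haveI : Finite S := (Set.toFinite _).to_subtype
      IntermediateField.finiteDimensional_adjoin fun x _ => Algebra.IsIntegral.isIntegral x
    have mem : ∀ x ∈ S, x ∈ L := fun x hx => IntermediateField.subset_adjoin K S hx
    obtain ⟨V, hV, φ, hφ, b, hcomp, hb⟩ := dvr L hfd (mem a (by simp [S]))
    letI := φ.toAlgebra
    haveI : IsLocalHom (algebraMap R V) := hφ
    refine ⟨L, inferInstance, inferInstance, hfd, V, inferInstance, inferInstance, hV, inferInstance, inferInstance,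
      φ, hφ, hcomp, ?_⟩
    let g : V →ₐ[R] Ω := { (algebraMap L Ω).comp V.subtype with
      commutes' := fun r => by
        show algebraMap L Ω (φ r) = _
        rw [← hcomp, ← IsScalarTower.algebraMap_apply, ← IsScalarTower.algebraMap_apply] }
    have hg : g b = a := hb
    have hbP : Polynomial.aeval b P = 0 := by
      refine (show Function.Injective g from fun x y h => Subtype.ext (Subtype.ext h)) ?_
      rw [map_zero, ← Polynomial.aeval_algHom_apply, hg, haR]
    obtain ⟨hu, -⟩ := hM V b hbP
    let C' : WeierstrassCurve.VariableChange L := ⟨Units.mk0 ⟨(C.u : Ω), mem _ (by simp [S])⟩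
      (fun h => C.u.ne_zero (congrArg Subtype.val h)), ⟨C.r, mem _ (by simp [S])⟩, ⟨C.s, mem _ (by simp [S])⟩,
      ⟨C.t, mem _ (by simp [S])⟩⟩
    let N : WeierstrassCurve V := M.map (Polynomial.aeval b).toRingHom
    have hC' : C' • W.baseChange L = N.map (algebraMap V L) := by
      refine WeierstrassCurve.map_injective (algebraMap L Ω).injective ?_
      show (C' • W.baseChange L).map (algebraMap L Ω) = (N.map (algebraMap V L)).map (algebraMap L Ω)
      rw [← WeierstrassCurve.map_variableChange]
      rw [show W.baseChange L = W.map (algebraMap K L) from rfl, WeierstrassCurve.map_map,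
        ← IsScalarTower.algebraMap_eq, WeierstrassCurve.map_map]
      have : C'.map (algebraMap L Ω) = C := by
        ext <;> rfl
      rw [this, hC]
      show M.map _ = (M.map _).map _
      rw [WeierstrassCurve.map_map]
      congr 1
      exact Polynomial.ringHom_ext
        (fun r => (Polynomial.aeval_C a r).trans ((g.commutes r).symm.trans (congrArg g (Polynomial.aeval_C b r).symm)))
        ((Polynomial.aeval_X a).trans (hg.symm.trans (congrArg g (Polynomial.aeval_X b).symm)))
    obtain ⟨hint, hmax⟩ := ((WeierstrassCurve.exists_isMinimal V (W.baseChange L)).choose_spec).val_Δ_maximal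
    set W' := (W.baseChange L).minimal V with hW'
    set C₀ := (WeierstrassCurve.exists_isMinimal V (W.baseChange L)).choose
    have hW'' : W' = C₀ • W.baseChange L := rfl
    have hsm : (C' * C₀⁻¹) • W' = N.map (algebraMap V L) := by
      rw [hW'', smul_smul, inv_mul_cancel_right, hC']
    haveI i1 : WeierstrassCurve.IsIntegral V ((C' * C₀⁻¹) • W') := ⟨⟨N, hsm⟩⟩
    haveI i2 : WeierstrassCurve.IsIntegral V ((1 : WeierstrassCurve.VariableChange L) • W') := hint
    have hw : ∀ w : WeierstrassCurve L, WeierstrassCurve.IsIntegral V w →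
        (WeierstrassCurve.valuation_Δ_aux V w).1 =
          IsDedekindDomain.HeightOneSpectrum.valuation L (IsDiscreteValuationRing.maximalIdeal V) w.Δ :=
      fun w _ => WeierstrassCurve.valuation_Δ_aux_eq_of_isIntegral V w
    have hone : IsDedekindDomain.HeightOneSpectrum.valuation L (IsDiscreteValuationRing.maximalIdeal V)
        ((C' * C₀⁻¹) • W').Δ = 1 := by
      rw [hsm, WeierstrassCurve.map_Δ]
      refine le_antisymm (IsDedekindDomain.HeightOneSpectrum.valuation_le_one _ _) (not_lt.1 fun hlt => ?_)
      exact (IsLocalRing.mem_maximalIdeal _).1 ((IsDedekindDomain.HeightOneSpectrum.valuation_lt_one_iff_mem _ _).1 hlt)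
        (by rw [WeierstrassCurve.map_Δ]; exact hu)
    have hle : IsDedekindDomain.HeightOneSpectrum.valuation L (IsDiscreteValuationRing.maximalIdeal V) W'.Δ ≤ 1 := by
      obtain ⟨r, hr⟩ := WeierstrassCurve.Δ_integral_of_isIntegral V W'
      rw [← hr]
      exact IsDedekindDomain.HeightOneSpectrum.valuation_le_one _ _
    refine ⟨le_antisymm hle ?_⟩
    have hle1 : WeierstrassCurve.valuation_Δ_aux V ((1 : WeierstrassCurve.VariableChange L) • W') ≤
        WeierstrassCurve.valuation_Δ_aux V ((C' * C₀⁻¹) • W') :=
      Subtype.coe_le_coe.1 (by rw [hw _ i1, hw _ i2, hone, one_smul]; exact hle)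
    have h3 : (WeierstrassCurve.valuation_Δ_aux V ((C' * C₀⁻¹) • W')).1 ≤
        (WeierstrassCurve.valuation_Δ_aux V ((1 : WeierstrassCurve.VariableChange L) • W')).1 :=
      hmax (j := C' * C₀⁻¹) i1 hle1
    rw [hw _ i1, hw _ i2, hone, one_smul] at h3
    exact h3
  · rintro ⟨L, _, _, _, RL, _, _, _, _, _, φ, hφ, hcomp, hgood⟩
    set WL := W.baseChange L with hWL
    haveI : WL.IsElliptic := inferInstanceAs (W.map (algebraMap K L)).IsElliptic
    set W' := WL.minimal RL with hW'
    set C₀ := (WeierstrassCurve.exists_isMinimal RL WL).choose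
    have hW'' : W' = C₀ • WL := rfl
    haveI : W'.IsElliptic := by rw [hW'']; infer_instance
    have hj' : W'.j = algebraMap K L W.j := by
      rw [show W'.j = (C₀ • WL).j from rfl, WeierstrassCurve.variableChange_j]
      exact WeierstrassCurve.map_j _ _
    let I := W'.integralModel RL
    have hu : IsUnit I.Δ := by
      by_contra h
      have hlt := (IsDedekindDomain.HeightOneSpectrum.valuation_lt_one_iff_mem (K := L)
        (IsDiscreteValuationRing.maximalIdeal RL) I.Δ).2 ((IsLocalRing.mem_maximalIdeal I.Δ).2 h)
      have e : algebraMap RL L I.Δ = W'.Δ := WeierstrassCurve.integralModel_Δ_eq RL W'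
      exact lt_irrefl _ (lt_of_eq_of_lt (hgood.goodReduction.symm.trans (congrArg _ e.symm)) hlt)
    obtain ⟨d, hd⟩ := hu
    let jL : RL := ↑d⁻¹ * I.c₄ ^ 3
    have hjL : algebraMap RL L jL = algebraMap K L W.j := by
      rw [← hj', WeierstrassCurve.j, map_mul, map_pow, WeierstrassCurve.integralModel_c₄_eq RL W', map_units_inv, hd,
        WeierstrassCurve.integralModel_Δ_eq RL W', Units.val_inv_eq_inv_val, WeierstrassCurve.coe_Δ']
    obtain ⟨r, hr⟩ | ⟨r, hr⟩ := ValuationRing.isInteger_or_isInteger R W.j
    · exact ⟨r, hr⟩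
    by_cases hW0 : W.j = 0
    · exact ⟨0, by rw [map_zero, hW0]⟩
    have hone : φ r * jL = 1 := by
      refine IsFractionRing.injective RL L ?_
      rw [map_mul, map_one, ← hcomp, hjL, ← map_mul, hr, inv_mul_cancel₀ hW0, map_one]
    obtain ⟨w, hw⟩ := hφ.map_nonunit r (IsUnit.of_mul_eq_one _ hone)
    exact ⟨↑w⁻¹, by rw [map_units_inv, hw, hr, inv_inv]⟩

end Groth.Agent.S0614
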