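import Groth.Statements.S0615
import Groth.Agent.RRAlgLib.Rees
import Mathlib.RingTheory.Localization.Away.Basic

set_option autoImplicit false
universe u
open RRAlg

namespace Groth.Agent.S0615

/-- Let A be a commutative ring and a_0, a_1, …, a_n a weakly regular sequence in A (for each i, a_i is
a non-zero-divisor on A/(a_0, …, a_{i−1}); the sequence is indexed here by Fin (n+1)). Then the
kernel of the A-algebra homomorphism A[T_1, …, T_n] → A[1/a_0] sending T_i to a_i/a_0 is the ideal
generated by the elements a_0 T_i − a_i for 1 ≤ i ≤ n (a presentation of the affine blow-up algebra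
A[a_1/a_0, …, a_n/a_0]). -/
theorem result {A : Type u} [CommRing A] {n : ℕ}
    (a : Fin (n + 1) → A) (ha : RingTheory.Sequence.IsWeaklyRegular A (List.ofFn a)) :
    RingHom.ker (MvPolynomial.aeval (R := A) (S₁ := Localization.Away (a 0))
      (fun i : Fin n => IsLocalization.mk' (Localization.Away (a 0)) (a i.succ)
        (⟨a 0, Submonoid.mem_powers (a 0)⟩ : Submonoid.powers (a 0)))) =
      Ideal.span (Set.range fun i : Fin n =>
        MvPolynomial.C (a 0) * MvPolynomial.X i - MvPolynomial.C (a i.succ)) := by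
  classical
  set Aw := Localization.Away (a 0)
  let y : Fin n → Aw := fun i => IsLocalization.mk' Aw (a i.succ) (⟨a 0, Submonoid.mem_powers (a 0)⟩ : Submonoid.powers (a 0))
  have hy : ∀ i, algebraMap A Aw (a 0) * y i = algebraMap A Aw (a i.succ) := fun i =>
    IsLocalization.mk'_spec' Aw (a i.succ) (⟨a 0, Submonoid.mem_powers (a 0)⟩ : Submonoid.powers (a 0))
  set f := MvPolynomial.aeval (R := A) y with hf
  change RingHom.ker f = _
  set T := Ideal.span (Set.range fun i : Fin n => MvPolynomial.C (a 0) * MvPolynomial.X i - MvPolynomial.C (a i.succ))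
  refine le_antisymm (fun F hF => ?_) (Ideal.span_le.2 ?_)
  · rw [RingHom.mem_ker] at hF
    set N := F.totalDegree
    let G : MvPolynomial (Fin (n + 1)) A :=
      ∑ s ∈ F.support, MvPolynomial.monomial (Finsupp.cons (N - s.degree) s) (F.coeff s)
    have hle : ∀ s ∈ F.support, s.degree ≤ N := fun s hs => by
      rw [Finsupp.degree_apply]; exact MvPolynomial.le_totalDegree hs
    have hGhom : G.IsHomogeneous N := MvPolynomial.IsHomogeneous.sum _ _ _ fun s hs =>
      MvPolynomial.isHomogeneous_monomial _ (by
        have := hle s hs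
        simp only [Finsupp.degree_eq_sum, Fin.sum_univ_succ, Finsupp.cons_zero, Finsupp.cons_succ] at this ⊢
        omega)
    have hev : algebraMap A Aw (MvPolynomial.eval a G) = algebraMap A Aw (a 0) ^ N * f F := by
      conv_rhs => rw [F.as_sum, map_sum, Finset.mul_sum]
      rw [map_sum, map_sum]
      refine Finset.sum_congr rfl fun s hs => ?_
      rw [MvPolynomial.eval_monomial, hf, MvPolynomial.aeval_monomial,
        Finsupp.prod_fintype _ _ (fun i => pow_zero _), Finsupp.prod_fintype _ _ (fun i => pow_zero _),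
        Fin.prod_univ_succ, map_mul, map_mul, map_pow, map_prod, Finsupp.cons_zero]
      simp only [map_pow, Finsupp.cons_succ, ← hy, mul_pow, Finset.prod_mul_distrib, Finset.prod_pow_eq_pow_sum]
      rw [← Finsupp.degree_eq_sum]
      have : algebraMap A Aw (a 0) ^ N = algebraMap A Aw (a 0) ^ (N - s.degree) * algebraMap A Aw (a 0) ^ s.degree := by
        rw [← pow_add, Nat.sub_add_cancel (hle s hs)]
      rw [this]
      ring
    rw [hF, mul_zero, IsLocalization.map_eq_zero_iff (Submonoid.powers (a 0))] at hev
    obtain ⟨⟨_, k, rfl⟩, hk⟩ := hev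
    have hreg : ∀ z, a 0 * z = 0 → z = 0 := fun z hz => by
      have h := (FVLib.nr_iff a).2 ha 0 z
      have e : (a '' {j : Fin (n + 1) | j < 0}) = ∅ := by simp
      rw [e, Ideal.span_empty, Submodule.mem_bot] at h
      exact h hz
    have hG0 : MvPolynomial.eval a G = 0 := by
      have hk' : a 0 ^ k * MvPolynomial.eval a G = 0 := hk
      clear hk
      induction k with
      | zero => rwa [pow_zero, one_mul] at hk'
      | succ k ih => exact ih (hreg _ (by rwa [pow_succ', mul_assoc] at hk'))
    have hGL := Groth.Agent.RRAlgLib.mem_L_of_isWeaklyRegular a ha hGhom hG0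
    let φ : MvPolynomial (Fin (n + 1)) A →ₐ[A] MvPolynomial (Fin n) A :=
      MvPolynomial.aeval (Fin.cons 1 MvPolynomial.X)
    have hφG : φ G = F := by
      conv_rhs => rw [F.as_sum]
      rw [map_sum]
      refine Finset.sum_congr rfl fun s hs => ?_
      rw [MvPolynomial.monomial_eq (s := s), MvPolynomial.aeval_monomial, MvPolynomial.algebraMap_eq,
        Finsupp.prod_fintype _ _ (fun i => pow_zero _), Finsupp.prod_fintype _ _ (fun i => pow_zero _),
        Fin.prod_univ_succ]
      simp
    rw [← hφG]
    have hX : ∀ i : Fin n, MvPolynomial.C (a 0) * MvPolynomial.X i - MvPolynomial.C (a i.succ) ∈ T := fun i =>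
      Ideal.subset_span ⟨i, rfl⟩
    refine (Ideal.map_le_iff_le_comap (f := φ.toRingHom)).1 (?_ : (Groth.Agent.RRAlgLib.L a).map φ.toRingHom ≤ T) hGL
    rw [Groth.Agent.RRAlgLib.L, Ideal.map_span, Ideal.span_le]
    rintro _ ⟨q, ⟨i, j, rfl⟩, rfl⟩
    have key : ∀ i : Fin (n + 1), MvPolynomial.C (a i) - MvPolynomial.C (a 0) * φ (MvPolynomial.X i) ∈ T := by
      intro i
      induction i using Fin.cases with
      | zero => simp [φ]
      | succ i => simpa [φ] using neg_mem (hX i)
    have e : φ (MvPolynomial.C (a i) * MvPolynomial.X j - MvPolynomial.C (a j) * MvPolynomial.X i) =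
        φ (MvPolynomial.X j) * (MvPolynomial.C (a i) - MvPolynomial.C (a 0) * φ (MvPolynomial.X i)) -
          φ (MvPolynomial.X i) * (MvPolynomial.C (a j) - MvPolynomial.C (a 0) * φ (MvPolynomial.X j)) := by
      have hC : ∀ c, φ (MvPolynomial.C c) = MvPolynomial.C c := fun c => MvPolynomial.aeval_C _ c
      rw [map_sub, map_mul, map_mul, hC, hC]; ring
    exact (congrArg (· ∈ T) e).mpr (sub_mem (T.mul_mem_left _ (key i)) (T.mul_mem_left _ (key j)))
  · rintro _ ⟨i, rfl⟩
    rw [SetLike.mem_coe, RingHom.mem_ker, map_sub, map_mul, hf, MvPolynomial.aeval_C, MvPolynomial.aeval_C,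
      MvPolynomial.aeval_X, hy, sub_self]

end Groth.Agent.S0615
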