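import Groth.Statements.S0619
import Groth.Agent.ZetaCurveLib.Main

set_option autoImplicit false
universe u
open AlgebraicGeometry CategoryTheory
open Zeta

namespace Groth.Agent.S0619

/-- For a geometrically connected smooth proper curve of genus g over a finite field k with q elements
and a finite extension k' of degree n, |#C(k') − (qⁿ + 1)| ≤ 2g·q^(n/2). -/
theorem result {k : Type u} [Field k] [Finite k] {C : Scheme.{u}}
    (f : C ⟶ Spec (CommRingCat.of k)) (hC : Curve.IsSmoothProperCurve k C f)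
    [GeometricallyIrreducible f] (g : ℕ)
    (hg : Nat.card (Coh.HH C (Coh.structureModule C) 1) = Nat.card k ^ g)
    (k' : Type u) [Field k'] [Algebra k k'] [Finite k'] :
    |(SgaExt.pointCount f k' : ℝ) - ((Nat.card k : ℝ) ^ Module.finrank k k' + 1)| ≤
      2 * g * (Nat.card k : ℝ) ^ ((Module.finrank k k' : ℝ) / 2) := by
  letI : C.Over (Spec (CommRingCat.of k)) := ⟨f⟩
  obtain ⟨hp, hs, hi, hdim⟩ := hC
  haveI : IsProper (C ↘ Spec (CommRingCat.of k)) := hp
  haveI : Smooth (C ↘ Spec (CommRingCat.of k)) := hs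
  haveI := hi
  haveI : GeometricallyIrreducible (C ↘ Spec (CommRingCat.of k)) := ‹GeometricallyIrreducible f›
  obtain ⟨α, hint, hnorm, hrev, hcount⟩ := ZetaCurveLib.exists_weil_numbers (k := k) hdim
  obtain rfl := ZetaCurveLib.genus_eq_of_natCard (k := k) (X := C) hg
  have hc := hcount k'
  have hq : (0 : ℝ) ≤ (Nat.card k : ℝ) := Nat.cast_nonneg _
  have hn : ∀ i, ‖α i‖ = (Nat.card k : ℝ) ^ ((1 : ℝ) / 2) := fun i => by
    rw [← Real.sqrt_eq_rpow, ← hnorm i, Real.sqrt_sq (norm_nonneg _)]
  calc |(SgaExt.pointCount f k' : ℝ) - ((Nat.card k : ℝ) ^ Module.finrank k k' + 1)|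
      = ‖(((SgaExt.pointCount f k' : ℝ) - ((Nat.card k : ℝ) ^ Module.finrank k k' + 1) : ℝ) : ℂ)‖ := by
        rw [Complex.norm_real, Real.norm_eq_abs]
    _ = ‖∑ i, α i ^ Module.finrank k k'‖ := by
        rw [← norm_neg (∑ i, α i ^ Module.finrank k k')]
        congr 1
        push_cast
        rw [show (SgaExt.pointCount f k' : ℂ) = _ from hc]
        ring
    _ ≤ ∑ i, ‖α i ^ Module.finrank k k'‖ := norm_sum_le _ _
    _ = _ := by
        simp only [norm_pow, hn, Finset.sum_const, Finset.card_univ, Fintype.card_fin, nsmul_eq_mul]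
        rw [← Real.rpow_natCast ((Nat.card k : ℝ) ^ ((1 : ℝ) / 2)), ← Real.rpow_mul hq]
        push_cast
        congr 2
        ring

end Groth.Agent.S0619
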