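import Groth.Statements.S0623
import Groth.Agent.S0101
import Groth.Agent.S0648
import Groth.Agent.EtShLib.RestrPull
import Groth.Agent.EtShLib.JContAll
-- import your own Groth.Agent.* helpers here

set_option autoImplicit false
open CategoryTheory CategoryTheory.Limits AlgebraicGeometry Opposite
universe u
open EtCore

namespace Groth.Agent.S0623

/-- For a morphism f : X -> Y and an injective abelian sheaf I on the small etale site of X, the
pushforward f_* I is acyclic: its etale cohomology over any scheme V etale over Y (computed after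
pulling back to V) vanishes in positive degrees, and for any g : Y -> Z the higher direct images R^q
g_* (f_* I) vanish for q > 0. Part (1) on Cech cohomology is not included. -/
theorem result {X Y Z : Scheme.{u}} (f : X ⟶ Y) (g : Y ⟶ Z) (I : EtCoh.Ab X)
    [Injective I] (q : ℕ) (hq : 1 ≤ q) :
    (∀ V : Y.Etale, Subsingleton (EtCoh.H V.left ((EtCoh.pull V.hom).obj ((EtCoh.push f).obj I)) q)) ∧
    IsZero ((EtCoh.Rpush g q).obj ((EtCoh.push f).obj I)) := by
  haveI hex : ∀ {A B : Scheme.{u}} (h : A ⟶ B), PreservesFiniteLimits (EtCoh.pull h) := fun h => Groth.Agent.S0101.result h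
  haveI hI' : Injective ((EtCoh.push f).obj I) := by
    haveI : PreservesFiniteLimits (EtCoh.pull f) := hex f
    haveI : (EtCoh.pull f).PreservesMonomorphisms := inferInstance
    exact Injective.injective_of_adjoint (EtCoh.pullPushAdj f) I
  refine ⟨fun V => ?_, ?_⟩
  · haveI := V.prop
    haveI := Groth.Agent.EtShLib.jCont V.hom
    haveI := Groth.Agent.S0648.result V.hom
    haveI : (EtShriek.extZero V.hom).PreservesMonomorphisms := inferInstance
    haveI : Injective ((EtShriek.restrAlong V.hom).obj ((EtCoh.push f).obj I)) :=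
      Injective.injective_of_adjoint (EtShriek.extZeroAdj V.hom) _
    obtain ⟨e⟩ := Groth.Agent.EtShLib.nonempty_pull_iso_restrAlong V.hom ((EtCoh.push f).obj I)
    haveI : Injective ((EtCoh.pull V.hom).obj ((EtCoh.push f).obj I)) :=
      Injective.of_iso e.symm inferInstance
    obtain ⟨m, rfl⟩ : ∃ m, q = m + 1 := ⟨q - 1, by omega⟩
    refine ⟨fun a b => ?_⟩
    rw [Abelian.Ext.eq_zero_of_injective a, Abelian.Ext.eq_zero_of_injective b]
  · obtain ⟨m, rfl⟩ : ∃ m, q = m + 1 := ⟨q - 1, by omega⟩
    exact (EtCoh.push g).isZero_rightDerived_obj_injective_succ m _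

end Groth.Agent.S0623
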