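import Groth.Statements.S0624
import Groth.Agent.S0089
import Groth.Agent.EtShLib.LiftClosed

set_option maxHeartbeats 1000000
set_option backward.isDefEq.respectTransparency false
set_option backward.isDefEq.respectTransparency.types false

set_option autoImplicit false
open CategoryTheory CategoryTheory.Limits AlgebraicGeometry Opposite
universe u
open EtCore

namespace Groth.Agent.S0624

/-- Let X be an affine, integral and normal scheme with separably closed function field, Z -> X a closed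
immersion and V -> Z etale with V affine. Then V splits, over Z, as the disjoint union of finitely
many open subschemes of Z. -/
theorem result {V Z X : Scheme.{u}} [IsAffine X] [IsIntegral X]
    (hN : ∀ x : X, IsIntegrallyClosed (X.presheaf.stalk x)) [IsSepClosed X.functionField]
    (i : Z ⟶ X) [IsClosedImmersion i] (φ : V ⟶ Z) [AlgebraicGeometry.Etale φ] [IsAffine V] :
    ∃ (ι : Type u) (_ : Finite ι) (W : ι → Z.Opens) (e : (∐ fun k => (W k : Scheme.{u})) ≅ V),
      ∀ k, Sigma.ι (fun k => (W k : Scheme.{u})) k ≫ e.hom ≫ φ = (W k).ι := by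
  classical
  haveI : IsAffine Z := isAffine_of_isAffineHom i
  have hψ : φ.appTop.hom.Etale := HasRingHomProperty.appTop @AlgebraicGeometry.Etale φ inferInstance
  obtain ⟨A, α, β, hα, hpo⟩ := Groth.Agent.EtShLib.exists_lift_ring i.appTop
    (i.app_surjective ⊤ (isAffineOpen_top _)) φ.appTop hψ
  haveI : AlgebraicGeometry.Etale (Spec.map α) := (HasRingHomProperty.Spec_iff (P := @AlgebraicGeometry.Etale)).2 hα
  let k : Spec A ⟶ X := Spec.map α ≫ X.isoSpec.inv
  let c : V ⟶ Spec A := V.isoSpec.hom ≫ Spec.map β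
  have hpb : IsPullback c φ k i := by
    refine (isPullback_SpecMap_of_isPushout _ _ _ _ hpo).of_iso V.isoSpec.symm (Iso.refl _) Z.isoSpec.symm
      X.isoSpec.symm ?_ ?_ ?_ ?_
    · simp [c]
    · exact Scheme.isoSpec_inv_naturality φ
    · simp [k]
    · exact Scheme.isoSpec_inv_naturality i
  haveI : IsSeparated k := inferInstance
  obtain ⟨ι₀, U, e, he⟩ := Groth.Agent.S0089.result hN k
  let r : ∀ n, (U n : Scheme.{u}) ⟶ Spec A := fun n => Sigma.ι (fun n => (U n : Scheme.{u})) n ≫ e.hom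
  have hr : ∀ n, r n ≫ k = (U n).ι := fun n => by
    rw [Category.assoc]
    exact he n
  haveI : ∀ n, IsOpenImmersion (r n) := fun n => inferInstance
  have hcovA : ∀ a : Spec A, ∃ n x, (r n).base x = a := fun a => by
    obtain ⟨⟨n, x⟩, hx⟩ := (sigmaMk (fun n => (U n : Scheme.{u}))).surjective (e.inv.base a)
    rw [sigmaMk_mk] at hx
    exact ⟨n, x, by rw [Scheme.Hom.comp_apply, hx, ← Scheme.Hom.comp_apply, e.inv_hom_id]; rfl⟩
  have hdisA : ∀ m n x y, (r m).base x = (r n).base y → m = n := fun m n x y h => by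
    have h' : (Sigma.ι (fun n => (U n : Scheme.{u})) m) x = (Sigma.ι (fun n => (U n : Scheme.{u})) n) y :=
      e.hom.isOpenEmbedding.injective h
    rw [← sigmaMk_mk, ← sigmaMk_mk] at h'
    exact congrArg Sigma.fst ((sigmaMk (fun n => (U n : Scheme.{u}))).injective h')
  let g : ∀ n, (↑(i ⁻¹ᵁ U n) : Scheme.{u}) ⟶ V := fun n =>
    hpb.lift ((i ∣_ U n) ≫ r n) (i ⁻¹ᵁ U n).ι (by rw [Category.assoc, hr, morphismRestrict_ι])
  have hg₁ : ∀ n, g n ≫ c = (i ∣_ U n) ≫ r n := fun n => hpb.lift_fst _ _ _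
  have hg₂ : ∀ n, g n ≫ φ = (i ⁻¹ᵁ U n).ι := fun n => hpb.lift_snd _ _ _
  haveI hgo : ∀ n, IsOpenImmersion (g n) := fun n => by
    haveI : AlgebraicGeometry.Etale (g n ≫ φ) := by rw [hg₂]; infer_instance
    haveI : AlgebraicGeometry.Etale (g n) :=
      MorphismProperty.of_postcomp (W := @AlgebraicGeometry.Etale) (W' := @AlgebraicGeometry.Etale) (g n) φ ‹_› this
    haveI : Mono (g n ≫ φ) := by rw [hg₂]; infer_instance
    haveI : Mono (g n) := mono_of_mono (g n) φ
    exact IsOpenImmersion.of_flat_of_mono _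
  have hrange : ∀ v : V, ∀ n, v ∈ Set.range (g n).base ↔ c.base v ∈ Set.range (r n).base := by
    intro v n
    refine ⟨fun ⟨w, hw⟩ => ⟨(i ∣_ U n).base w, by
      rw [← Scheme.Hom.comp_apply, ← hg₁, Scheme.Hom.comp_apply, hw]⟩, fun ⟨x, hx⟩ => ?_⟩
    have hz : i.base (φ.base v) ∈ U n := by
      rw [← Scheme.Hom.comp_apply, ← hpb.w, Scheme.Hom.comp_apply, ← hx, ← Scheme.Hom.comp_apply, hr]
      exact x.2
    have hO : c ⁻¹ᵁ (r n).opensRange ≤ φ ⁻¹ᵁ (i ⁻¹ᵁ U n) := by
      rintro w ⟨y, hy⟩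
      show i.base (φ.base w) ∈ U n
      rw [← Scheme.Hom.comp_apply, ← hpb.w, Scheme.Hom.comp_apply,
        show c.base w = (r n).base y from hy.symm, ← Scheme.Hom.comp_apply, hr]
      exact y.2
    let O := c ⁻¹ᵁ (r n).opensRange
    let l : (O : Scheme.{u}) ⟶ (↑(i ⁻¹ᵁ U n) : Scheme.{u}) := φ.resLE (i ⁻¹ᵁ U n) O hO
    have hl : l ≫ g n = O.ι := by
      apply hpb.hom_ext
      · rw [Category.assoc, hg₁, ← Category.assoc]
        have hx' : Set.range (O.ι ≫ c).base ⊆ Set.range (r n).base := by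
          rintro _ ⟨w, rfl⟩
          exact w.2
        rw [← IsOpenImmersion.lift_fac (r n) (O.ι ≫ c) hx']
        congr 1
        rw [← cancel_mono (U n).ι, Category.assoc, morphismRestrict_ι, ← Category.assoc,
          Scheme.Hom.resLE_comp_ι, Category.assoc, ← hpb.w, ← Category.assoc]
        conv_lhs => rw [← IsOpenImmersion.lift_fac (r n) (O.ι ≫ c) hx']
        rw [Category.assoc, hr]
      · rw [Category.assoc, hg₂, Scheme.Hom.resLE_comp_ι]
    exact ⟨l.base ⟨v, x, hx⟩, by rw [← Scheme.Hom.comp_apply, hl]; rfl⟩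
  obtain ⟨T, hT⟩ := isCompact_univ.elim_finite_subcover (fun n => Set.range (g n).base)
    (fun n => (g n).isOpenEmbedding.isOpen_range) (fun v _ => by
      obtain ⟨n, x, hx⟩ := hcovA (c.base v)
      exact Set.mem_iUnion.2 ⟨n, (hrange v n).2 ⟨x, hx⟩⟩)
  let gT : ∀ n : T, (↑(i ⁻¹ᵁ U n.1) : Scheme.{u}) ⟶ V := fun n => g n.1
  haveI : IsOpenImmersion (Sigma.desc gT) := isOpenImmersion_sigmaDesc _ _ fun a b hab => by
    rw [Function.onFun_apply, Set.disjoint_left]
    intro v ha hb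
    obtain ⟨x, hx⟩ := (hrange v _).1 ha
    obtain ⟨y, hy⟩ := (hrange v _).1 hb
    exact hab (Subtype.ext (hdisA _ _ x y (hx.trans hy.symm)))
  haveI : Surjective (Sigma.desc gT) := ⟨fun v => by
    obtain ⟨n, hn, w, hw⟩ := Set.mem_iUnion₂.1 (hT (Set.mem_univ v))
    exact ⟨(Sigma.ι (fun n : T => (↑(i ⁻¹ᵁ U n.1) : Scheme.{u})) ⟨n, hn⟩).base w, by
      rw [← Scheme.Hom.comp_apply, Sigma.ι_desc]; exact hw⟩⟩
  haveI : IsIso (Sigma.desc gT) := (isIso_iff_isOpenImmersion_and_surjective _).2 ⟨inferInstance, inferInstance⟩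
  refine ⟨T, inferInstance, fun n => i ⁻¹ᵁ U n.1, asIso (Sigma.desc gT), fun n => ?_⟩
  rw [asIso_hom, Sigma.ι_desc_assoc]
  exact hg₂ n.1

end Groth.Agent.S0624
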