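import Groth.Statements.S0625
import Groth.Agent.S0624

set_option maxHeartbeats 1000000
set_option backward.isDefEq.respectTransparency false
set_option backward.isDefEq.respectTransparency.types false

set_option autoImplicit false
open CategoryTheory CategoryTheory.Limits AlgebraicGeometry Opposite
universe u
open EtCore

namespace Groth.Agent.S0625

/-- Let X be an affine integral normal scheme whose function field is separably closed and Z -> X a
closed immersion. Every surjective finite etale morphism V -> Z has a section. -/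
theorem result {V Z X : Scheme.{u}} [IsAffine X] [IsIntegral X]
    (hN : ∀ x : X, IsIntegrallyClosed (X.presheaf.stalk x)) [IsSepClosed X.functionField]
    (i : Z ⟶ X) [IsClosedImmersion i] (φ : V ⟶ Z) [AlgebraicGeometry.Etale φ] [IsFinite φ] [Surjective φ] :
    ∃ s : Z ⟶ V, s ≫ φ = 𝟙 Z := by
  classical
  haveI : IsAffine Z := isAffine_of_isAffineHom i
  haveI : IsAffine V := isAffine_of_isAffineHom φ
  obtain ⟨ι, _, W, e, he⟩ := Groth.Agent.S0624.result hN i φ
  let a : ∀ k, (W k : Scheme.{u}) ⟶ V := fun k => Sigma.ι (fun k => (W k : Scheme.{u})) k ≫ e.hom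
  haveI : ∀ k, IsOpenImmersion (a k) := fun k => inferInstance
  have ha : ∀ k, a k ≫ φ = (W k).ι := fun k => by rw [Category.assoc]; exact he k
  have hcov : ∀ v : V, ∃ k x, (a k).base x = v := fun v => by
    obtain ⟨⟨k, x⟩, hx⟩ := (sigmaMk (fun k => (W k : Scheme.{u}))).surjective (e.inv.base v)
    rw [sigmaMk_mk] at hx
    exact ⟨k, x, by rw [Scheme.Hom.comp_apply, hx, ← Scheme.Hom.comp_apply, e.inv_hom_id]; rfl⟩
  have hdis : ∀ m n x y, (a m).base x = (a n).base y → m = n := fun m n x y h => by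
    have h' : (Sigma.ι (fun k => (W k : Scheme.{u})) m) x = (Sigma.ι (fun k => (W k : Scheme.{u})) n) y :=
      e.hom.isOpenEmbedding.injective h
    rw [← sigmaMk_mk, ← sigmaMk_mk] at h'
    exact congrArg Sigma.fst ((sigmaMk (fun k => (W k : Scheme.{u}))).injective h')
  have hcl : ∀ k, IsClosed (W k : Set Z) := fun k => by
    have h1 : IsClosed (Set.range (a k).base) := by
      rw [show Set.range (a k).base = (⋃ j : {j // j ≠ k}, Set.range (a j.1).base)ᶜ by
        ext v
        simp only [Set.mem_compl_iff, Set.mem_iUnion, not_exists]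
        refine ⟨fun ⟨x, hx⟩ j ⟨y, hy⟩ => j.2 (hdis _ _ y x (hy.trans hx.symm)), fun h => ?_⟩
        obtain ⟨j, x, hx⟩ := hcov v
        rcases eq_or_ne j k with rfl | hj
        · exact ⟨x, hx⟩
        · exact absurd ⟨x, hx⟩ (h ⟨j, hj⟩)]
      exact (isOpen_iUnion fun j : {j // j ≠ k} => (a j.1).isOpenEmbedding.isOpen_range).isClosed_compl
    have h2 := φ.isClosedMap _ h1
    rwa [← Set.range_comp, ← TopCat.coe_comp, ← Scheme.Hom.comp_base, ha, Scheme.Opens.range_ι] at h2
  have hW : ∀ z : Z, ∃ k, z ∈ W k := fun z => by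
    obtain ⟨v, rfl⟩ := φ.surjective z
    obtain ⟨k, x, rfl⟩ := hcov v
    refine ⟨k, ?_⟩
    rw [← Scheme.Hom.comp_apply, ha]
    exact x.2
  cases nonempty_fintype ι
  let ef := Fintype.equivFin ι
  let D : ι → Z.Opens := fun k => ⟨(W k : Set Z) \ ⋃ j : {j : ι // ef j < ef k}, (W j : Set Z),
    (W k).isOpen.sdiff (isClosed_iUnion_of_finite fun j => hcl _)⟩
  have hD : ∀ k, D k ≤ W k := fun k z hz => hz.1
  haveI : IsOpenImmersion (Sigma.desc fun k => (D k).ι) := isOpenImmersion_sigmaDesc _ _ fun p q hpq => by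
    rw [Function.onFun_apply, Set.disjoint_left]
    rintro z hp hq
    rw [Scheme.Opens.range_ι] at hp hq
    rcases lt_or_gt_of_ne (fun h => hpq (ef.injective h)) with h | h
    · exact hq.2 (Set.mem_iUnion.2 ⟨⟨p, h⟩, hp.1⟩)
    · exact hp.2 (Set.mem_iUnion.2 ⟨⟨q, h⟩, hq.1⟩)
  haveI : Surjective (Sigma.desc fun k => (D k).ι) := ⟨fun z => by
    obtain ⟨k, hk, hkmin⟩ := Finset.exists_min_image (Finset.univ.filter fun k => z ∈ W k) ef
      (by obtain ⟨k, hk⟩ := hW z; exact ⟨k, Finset.mem_filter.2 ⟨Finset.mem_univ _, hk⟩⟩)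
    have hz : z ∈ D k := ⟨(Finset.mem_filter.1 hk).2, fun h => by
      obtain ⟨⟨j, hj⟩, hzj⟩ := Set.mem_iUnion.1 h
      exact absurd (hkmin j (Finset.mem_filter.2 ⟨Finset.mem_univ _, hzj⟩)) (not_le.2 hj)⟩
    exact ⟨(Sigma.ι (fun k => (D k : Scheme.{u})) k).base ⟨z, hz⟩, by
      rw [← Scheme.Hom.comp_apply, Sigma.ι_desc]; rfl⟩⟩
  haveI : IsIso (Sigma.desc fun k => (D k).ι) := (isIso_iff_isOpenImmersion_and_surjective _).2 ⟨inferInstance, inferInstance⟩
  refine ⟨inv (Sigma.desc fun k => (D k).ι) ≫ Sigma.desc (fun k => Z.homOfLE (hD k) ≫ a k), ?_⟩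
  rw [Category.assoc, IsIso.inv_comp_eq, Category.comp_id]
  refine Sigma.hom_ext _ _ fun k => ?_
  rw [Sigma.ι_desc_assoc, Sigma.ι_desc, Category.assoc, ha, Scheme.homOfLE_ι]

end Groth.Agent.S0625
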