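import Groth.Statements.S0633
import Groth.Agent.Unram17Lib.EtaleLift
import Mathlib.AlgebraicGeometry.Morphisms.Etale
import Mathlib.AlgebraicGeometry.Morphisms.ClosedImmersion
import Mathlib.Algebra.Category.Ring.Constructions

set_option autoImplicit false
open CategoryTheory CategoryTheory.Limits AlgebraicGeometry Opposite
universe u
open EtCore

namespace Groth.Agent.S0633

open TensorProduct in
theorem exists_chart {X Y : Scheme.{u}} (f : X ⟶ Y) [IsClosedImmersion f] (U : X.Etale) (x : U.left) :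
    ∃ (V : Y.Etale) (h : pullback V.hom f ⟶ U.left), h ≫ U.hom = pullback.snd V.hom f ∧ IsOpenImmersion h ∧
      ∃ y : ↥(pullback V.hom f), h.base y = x := by
  let g : U.left ⟶ X := U.hom
  haveI : AlgebraicGeometry.Etale g := U.prop
  obtain ⟨_, ⟨V₀, hV₀, rfl⟩, hxV, -⟩ := Y.isBasis_affineOpens.exists_subset_of_mem_open
    (Set.mem_univ (f (g x))) isOpen_univ
  let W := f ⁻¹ᵁ V₀
  have hW : IsAffineOpen W := hV₀.preimage f
  obtain ⟨_, ⟨U₀, hU₀, rfl⟩, hxU, hUW⟩ := U.left.isBasis_affineOpens.exists_subset_of_mem_open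
    (show x ∈ g ⁻¹ᵁ W from hxV) (g ⁻¹ᵁ W).2
  let β := (f.app V₀).hom
  have hβ : Function.Surjective β := f.app_surjective V₀ hV₀
  let eβ := RingHom.quotientKerEquivOfSurjective hβ
  let I := RingHom.ker β
  let q : (Γ(Y, V₀) ⧸ I) →+* Γ(U.left, U₀) := (g.appLE W U₀ hUW).hom.comp eβ.toRingHom
  have hq : q.Etale := RingHom.Etale.stableUnderComposition eβ.toRingHom _
    (RingHom.Etale.of_bijective eβ.bijective) (HasRingHomProperty.appLE @Etale g inferInstance ⟨W, hW⟩ ⟨U₀, hU₀⟩ hUW)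
  letI : Algebra (Γ(Y, V₀) ⧸ I) Γ(U.left, U₀) := q.toAlgebra
  haveI : Algebra.Etale (Γ(Y, V₀) ⧸ I) Γ(U.left, U₀) := hq
  obtain ⟨C, _, _, hC, ⟨e⟩⟩ := Unram17Lib.EtaleLift.exists_etale_lift_tensor I (C₀ := Γ(U.left, U₀))
  let φ : Γ(Y, V₀) ⟶ CommRingCat.of C := CommRingCat.ofHom (algebraMap Γ(Y, V₀) C)
  haveI : AlgebraicGeometry.Etale (Spec.map φ) := (HasRingHomProperty.Spec_iff (P := @Etale)).mpr
    (show (algebraMap Γ(Y, V₀) C).Etale from RingHom.etale_algebraMap.mpr hC)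
  let r : CommRingCat.of C ⟶ Γ(U.left, U₀) :=
    CommRingCat.ofHom (e.toRingHom.comp Algebra.TensorProduct.includeRight.toRingHom)
  have hpo : IsPushout φ (f.app V₀) r (g.appLE W U₀ hUW) := by
    have h0 := (CommRingCat.isPushout_tensorProduct Γ(Y, V₀) (Γ(Y, V₀) ⧸ I) C).flip
    refine h0.of_iso (Iso.refl _) (Iso.refl _) eβ.toCommRingCatIso e.toRingEquiv.toCommRingCatIso ?_ ?_ ?_ ?_
    · exact (Category.comp_id _).trans (Category.id_comp _).symm
    · ext a
      rfl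
    · rfl
    · refine CommRingCat.hom_ext (RingHom.ext fun z => ?_)
      exact e.commutes z
  let V : Y.Etale := Scheme.Etale.mk (Spec.map φ ≫ hV₀.fromSpec)
  have sqU : IsPullback hW.fromSpec (Spec.map (f.app V₀)) f hV₀.fromSpec := by
    refine (IsOpenImmersion.isPullback (Spec.map (f.app V₀)) hW.fromSpec hV₀.fromSpec f ?_ ?_).flip
    · rw [Scheme.Hom.app_eq_appLE, IsAffineOpen.SpecMap_appLE_fromSpec f hV₀ hW]
    · rw [IsAffineOpen.opensRange_fromSpec, IsAffineOpen.opensRange_fromSpec]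
  have P : IsPullback (Spec.map r) (Spec.map (g.appLE W U₀ hUW) ≫ hW.fromSpec) (Spec.map φ ≫ hV₀.fromSpec) f :=
    (isPullback_SpecMap_of_isPushout _ _ _ _ hpo).paste_vert sqU.flip
  refine ⟨V, P.isoPullback.inv ≫ hU₀.fromSpec, ?_, inferInstance, ?_⟩
  · show (P.isoPullback.inv ≫ hU₀.fromSpec) ≫ g = _
    rw [Category.assoc, ← IsAffineOpen.SpecMap_appLE_fromSpec g hW hU₀ hUW, IsPullback.isoPullback_inv_snd]
    rfl
  · obtain ⟨z, hz⟩ : x ∈ Set.range hU₀.fromSpec := by rw [IsAffineOpen.range_fromSpec]; exact hxU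
    refine ⟨P.isoPullback.hom z, ?_⟩
    show (P.isoPullback.inv ≫ hU₀.fromSpec) (P.isoPullback.hom z) = x
    rw [← Scheme.Hom.comp_apply, Iso.hom_inv_id_assoc, hz]

/-- Let X -> Y be a closed immersion and U -> X etale. Then there exist etale morphisms V_i -> Y and
X-morphisms V_i x_Y X -> U which are open immersions whose images cover U. -/
theorem result {X Y : Scheme.{u}} (f : X ⟶ Y) [IsClosedImmersion f]
    (U : X.Etale) :
    ∃ (κ : Type u) (V : κ → Y.Etale) (h : ∀ j, pullback (V j).hom f ⟶ U.left),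
      (∀ j, h j ≫ U.hom = pullback.snd (V j).hom f) ∧ (∀ j, IsOpenImmersion (h j)) ∧
      ∀ x : U.left, ∃ (j : κ) (y : ↥(pullback (V j).hom f)), (h j).base y = x := by
  choose V h h1 h2 y hy using fun x : U.left => exists_chart f U x
  exact ⟨U.left, V, h, h1, h2, fun x => ⟨x, y x, hy x⟩⟩

end Groth.Agent.S0633
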