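import Groth.Statements.S0635
import Groth.Agent.ConsFiniteLib.Base

set_option autoImplicit false
open CategoryTheory CategoryTheory.Limits AlgebraicGeometry Opposite
universe u
open EtCore

namespace Groth.Agent.S0635

open CategoryTheory Opposite Groth.Agent.EtShLib in
theorem eq_zero_of_local {X : Scheme.{u}} (F : EtCoh.Ab X) (U : X.Etale) (t : ToType (F.obj.obj (op U)))
    (h : ∀ x : U.left, ∃ (V : X.Etale) (g : V ⟶ U) (v : V.left), g.left.base v = x ∧ F.obj.map g.op t = 0) : t = 0 := by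
  refine eq_of_germ F t 0 fun Ω _ _ ξ w => ?_
  obtain ⟨V, g, v, hv, hb⟩ := h w.pt
  haveI := etale_left g
  obtain ⟨l, hl, -⟩ := Scheme.exists_fac_of_etale_of_isSepClosed g.left w.hom v hv
  let w' : Fib ξ V := Fib.mk l (by rw [← MorphismProperty.Over.w g, ← Category.assoc, hl, Fib.w])
  have hw : w'.map g = w := Fib.ext ((Fib.map_hom g w').trans hl)
  rw [← hw, ← germ_res_apply, ← germ_res_apply, hb]
  exact congrArg _ (map_zero (F.obj.map g.op).hom).symm

theorem exists_dvd_coprime (k : Type u) [Field k] (N : ℕ) (hN : 0 < N) :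
    ∃ n : ℕ, (n : k) ≠ 0 ∧ ∀ d : ℕ, d ∣ N → (d : k) ≠ 0 → d ∣ n := by
  rcases CharP.char_is_prime_or_zero k (ringChar k) with hp | hp
  · haveI := ringChar.charP k
    obtain ⟨a, m, hm, rfl⟩ := Nat.exists_eq_pow_mul_and_not_dvd hN.ne' _ hp.ne_one
    refine ⟨m, fun h => hm ((CharP.cast_eq_zero_iff k (ringChar k) m).1 h), fun d hd hd0 => ?_⟩
    refine Nat.Coprime.dvd_of_dvd_mul_left ?_ hd
    exact ((hp.coprime_iff_not_dvd.2 fun h => hd0 ((CharP.cast_eq_zero_iff k (ringChar k) d).2 h)).pow_left a).symm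
  · haveI : CharZero k := ((CharP.ringChar_zero_iff_CharZero k).1 hp)
    exact ⟨N, Nat.cast_ne_zero.2 hN.ne', fun d hd _ => hd⟩

/-- Let k be an algebraically closed field, X separated of finite type over k of dimension at most 1,
and F a constructible abelian sheaf on the small etale site of X which is torsion of orders
invertible in k. Then every etale cohomology group H^q(X, F) is finite. -/
theorem result (k : Type u) [Field k] [IsAlgClosed k] (X : Scheme.{u})
    (f : X ⟶ Spec (CommRingCat.of k)) [IsSeparated f] [LocallyOfFiniteType f] [QuasiCompact f]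
    (hdim : topologicalKrullDim X ≤ 1) (F : EtCoh.Ab X) (hF : EtPBC.IsConstructible F)
    (hFt : EtPBC.IsTorsionInvertibleOn (Spec (CommRingCat.of k)) F) (q : ℕ) :
    Finite (EtCoh.H X F q) := by
  haveI : CompactSpace X := QuasiCompact.compactSpace_of_compactSpace f
  haveI : QuasiSeparatedSpace X := quasiSeparatedSpace_of_quasiSeparated f
  obtain ⟨N, hN, hNF⟩ := ConsEffaceLib.exists_nsmul_eq_zero ((Groth.Agent.EtShLib.isConstructible_iff F).1 hF)
  obtain ⟨n, hn, hdvd⟩ := exists_dvd_coprime k N hN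
  have hn0 : 0 < n := Nat.pos_of_ne_zero fun e => hn (by rw [e, Nat.cast_zero])
  refine ConsFiniteLib.finite_H k (ConsFiniteLib.hypB k n hn) hn0 q f hdim F hF ?_
  rw [← ConsFiniteLib.killedBy_iff]
  intro U s
  refine eq_zero_of_local F U (n • s) fun x => ?_
  obtain ⟨V, g, r, ⟨v, hv⟩, hr, hrs⟩ := hFt U s x
  refine ⟨V, g, v, hv, ?_⟩
  have hN' := (ConsFiniteLib.killedBy_iff N F).2 hNF V (F.obj.map g.op s)
  have hr0 : (r : k) ≠ 0 := by
    have h := hr.map (Scheme.ΓSpecIso (CommRingCat.of k)).hom.hom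
    rw [map_natCast] at h
    exact h.ne_zero
  refine (map_nsmul (F.obj.map g.op).hom n s).trans ?_
  refine addOrderOf_dvd_iff_nsmul_eq_zero.1 (dvd_trans (Nat.dvd_gcd (addOrderOf_dvd_iff_nsmul_eq_zero.2 hrs)
    (addOrderOf_dvd_iff_nsmul_eq_zero.2 hN')) (hdvd (r.gcd N) (Nat.gcd_dvd_right r N) fun e => hr0 ?_))
  obtain ⟨c, hc⟩ := Nat.gcd_dvd_left r N
  rw [hc, Nat.cast_mul, e, zero_mul]

end Groth.Agent.S0635
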