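import Groth.Statements.S0639
import Groth.Agent.CdAffineCurveLib.Main
import Groth.Agent.EtSliceLib.MV
import Groth.Agent.EtSliceLib.Hpull
import Groth.Agent.EtTransferLib.Torsion
import Groth.Agent.EtTransferLib.Basic

set_option maxHeartbeats 1000000
set_option linter.style.haveILetI false
set_option backward.isDefEq.respectTransparency false
set_option backward.isDefEq.respectTransparency.types false

set_option autoImplicit false
open CategoryTheory CategoryTheory.Limits AlgebraicGeometry Opposite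
universe u
open EtCore

namespace Groth.Agent.S0639


open CategoryTheory.Abelian Groth.Agent.EtShLib EtSliceLib TopologicalSpace

/-- An open subscheme as an object of the small étale site. -/
noncomputable abbrev openEt {X : Scheme.{u}} (T : X.Opens) : X.Etale := Scheme.Etale.mk T.ι

/-- An inclusion of opens in the small étale site. -/
noncomputable abbrev inclEt {X : Scheme.{u}} {S T : X.Opens} (h : S ≤ T) : openEt S ⟶ openEt T :=
  MorphismProperty.Over.homMk (X.homOfLE h) (X.homOfLE_ι h)

theorem hom_ext_openEt {X : Scheme.{u}} {W : X.Etale} {T : X.Opens} (a b : W ⟶ openEt T) : a = b :=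
  MorphismProperty.Over.Hom.ext ((cancel_mono T.ι).1
    ((MorphismProperty.Over.w a).trans (MorphismProperty.Over.w b).symm))

/-- In a Noetherian ring of dimension at most one, a closed subset is near each of its points cut
out by one equation. -/
theorem exists_cut {A : Type u} [CommRing A] [IsNoetherianRing A] (hA : ringKrullDim A ≤ 1) (I : Ideal A)
    (x : Ideal A) [x.IsPrime] (hx : I ≤ x) :
    ∃ f g : A, g ∉ x ∧ f ∈ I ∧ ∀ P : Ideal A, P.IsPrime → g ∉ P → f ∈ P → I ≤ P := by
  classical
  have hfinmin : (minimalPrimes A).Finite := minimalPrimes.finite_of_isNoetherianRing A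
  let S := hfinmin.toFinset.filter (fun P => ¬ I ≤ P)
  obtain ⟨f, hfI, hf⟩ : ∃ f, f ∈ I ∧ ∀ P ∈ S, f ∉ P := by
    by_contra hc
    push_neg at hc
    have hsub : (I : Set A) ⊆ ⋃ P ∈ (S : Set (Ideal A)), (P : Set A) := fun a ha => by
      obtain ⟨P, hP, haP⟩ := hc a ha
      exact Set.mem_iUnion₂.2 ⟨P, hP, haP⟩
    obtain ⟨P, hP, hIP⟩ := (Ideal.subset_union_prime ⊥ ⊥ fun i hi _ _ =>
      Ideal.minimalPrimes_isPrime (hfinmin.mem_toFinset.1 (Finset.mem_filter.1 hi).1)).1 hsub
    exact (Finset.mem_filter.1 hP).2 hIP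
  have hfinf : (Ideal.span {f}).minimalPrimes.Finite := Ideal.finite_minimalPrimes_of_isNoetherianRing _ _
  let E := hfinf.toFinset.filter (fun P => ¬ I ≤ P)
  have hmax : ∀ P ∈ E, P.IsMaximal := fun P hP => by
    obtain ⟨hP1, hPI⟩ := Finset.mem_filter.1 hP
    have hP' := hfinf.mem_toFinset.1 hP1
    haveI : P.IsPrime := hP'.1.1
    obtain ⟨P₀, hP₀, hle⟩ := Ideal.exists_minimalPrimes_le (bot_le : (⊥ : Ideal A) ≤ P)
    have hfP : f ∈ P := hP'.1.2 (Ideal.mem_span_singleton_self f)
    have hne : P₀ ≠ P := by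
      rintro rfl
      exact hf P₀ (Finset.mem_filter.2 ⟨hfinmin.mem_toFinset.2 hP₀, hPI⟩) hfP
    obtain ⟨M, hM, hPM⟩ := P.exists_le_maximal (Ideal.IsPrime.ne_top')
    by_contra hnm
    haveI : Ring.KrullDimLE 1 A := Ring.krullDimLE_iff.2 (by exact_mod_cast hA)
    haveI : P₀.IsPrime := hP₀.1.1
    exact hnm (Ring.krullDimLE_one_iff.1 inferInstance P inferInstance |>.resolve_left fun h =>
      hne (le_antisymm hle (h.2 ⟨inferInstance, bot_le⟩ hle)))
  obtain ⟨g, hgx, hg⟩ : ∃ g, g ∉ x ∧ ∀ P ∈ E, g ∈ P := by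
    by_contra hc
    push_neg at hc
    have hle : E.inf id ≤ x := fun a ha => by
      by_contra hax
      obtain ⟨P, hP, haP⟩ := hc a hax
      exact haP ((Finset.inf_le hP : E.inf id ≤ id P) ha)
    obtain ⟨P, hP, hPx⟩ := (Ideal.IsPrime.inf_le' (inferInstance : x.IsPrime)).1 hle
    have hPx' : P = x := (hmax P hP).eq_of_le (Ideal.IsPrime.ne_top') hPx
    exact (Finset.mem_filter.1 hP).2 (hPx' ▸ hx)
  refine ⟨f, g, hgx, hfI, fun P hP hgP hfP => ?_⟩
  obtain ⟨Q, hQ, hQP⟩ := Ideal.exists_minimalPrimes_le ((Ideal.span_singleton_le_iff_mem P).2 hfP)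
  by_contra hIP
  exact hgP (hQP (hg Q (Finset.mem_filter.2 ⟨hfinf.mem_toFinset.2 hQ, fun h => hIP (h.trans hQP)⟩)))

/-- Around a point outside an open subset of a curve there is an affine neighbourhood whose
intersection with the open subset is affine. -/
theorem exists_affine_nhd {X : Scheme.{u}} [IsNoetherian X] (hdim : topologicalKrullDim X ≤ 1) (O : X.Opens)
    {x : X} (hx : x ∉ O) : ∃ V : X.Opens, x ∈ V ∧ IsAffineOpen V ∧ IsAffineOpen (O ⊓ V) := by
  obtain ⟨_, ⟨V, hV, rfl⟩, hxV, -⟩ :=
    X.isBasis_affineOpens.exists_subset_of_mem_open (Set.mem_univ x) isOpen_univ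
  haveI : IsNoetherianRing Γ(X, V) := IsLocallyNoetherian.component_noetherian ⟨V, hV⟩
  have hA : ringKrullDim Γ(X, V) ≤ 1 := by
    rw [← PrimeSpectrum.topologicalKrullDim_eq_ringKrullDim]
    exact (hV.fromSpec.isOpenEmbedding.isInducing.topologicalKrullDim_le).trans hdim
  obtain ⟨I, hI⟩ := (PrimeSpectrum.isClosed_iff_zeroLocus_ideal _).1
    ((hV.fromSpec ⁻¹ᵁ O).isOpen.isClosed_compl)
  have hmem : ∀ y : X, ∀ hy : y ∈ V, y ∉ O ↔ I ≤ (hV.primeIdealOf ⟨y, hy⟩).asIdeal := fun y hy => by
    have h := Set.ext_iff.1 hI (hV.primeIdealOf ⟨y, hy⟩)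
    rw [PrimeSpectrum.mem_zeroLocus, SetLike.coe_subset_coe] at h
    rw [← h]
    show y ∉ O ↔ ¬ hV.fromSpec (hV.primeIdealOf ⟨y, hy⟩) ∈ O
    rw [hV.fromSpec_primeIdealOf]
  obtain ⟨f, g, hg, hfI, hP⟩ := exists_cut hA I _ ((hmem x hxV).1 hx)
  have hb : ∀ (a : Γ(X, V)) (y : X) (hy : y ∈ V), y ∈ X.basicOpen a ↔ a ∉ (hV.primeIdealOf ⟨y, hy⟩).asIdeal := by
    intro a y hy
    rw [← PrimeSpectrum.mem_basicOpen, ← hV.fromSpec_preimage_basicOpen]
    show _ ↔ hV.fromSpec (hV.primeIdealOf ⟨y, hy⟩) ∈ X.basicOpen a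
    rw [hV.fromSpec_primeIdealOf]
  refine ⟨X.basicOpen g, (hb g x hxV).2 hg, hV.basicOpen g, ?_⟩
  have he : O ⊓ X.basicOpen g = X.basicOpen (f * g) := by
    rw [X.basicOpen_mul]
    ext y
    show (y ∈ O ∧ y ∈ X.basicOpen g) ↔ (y ∈ X.basicOpen f ∧ y ∈ X.basicOpen g)
    refine and_congr_left fun hyg => ?_
    have hy : y ∈ V := X.basicOpen_le g hyg
    rw [hb f y hy]
    constructor
    · exact fun h hfy => (hmem y hy).2 (hP _ inferInstance ((hb g y hy).1 hyg) hfy) h
    · intro h
      by_contra hyO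
      exact h ((hmem y hy).1 hyO hfI)
  rw [he]
  exact hV.basicOpen _

theorem subsingleton_ext_affine (k : Type u) [Field k] [IsAlgClosed k] {X : Scheme.{u}}
    (f : X ⟶ Spec (CommRingCat.of k)) [LocallyOfFiniteType f] (hdim : topologicalKrullDim X ≤ 1)
    (F : EtCoh.Ab X) (hF : EtCoh.IsTorsion F) (O : X.Opens) (hO : IsAffineOpen O) :
    Subsingleton (Ext.{u + 1} (free (openEt O)) F 2) := by
  refine @Function.Injective.subsingleton _ _ _ (psi_bijective (openEt O) 2 F).1 ?_
  haveI : IsAffine (O : Scheme.{u}) := hO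
  exact CdAffineCurveLib.cohDimLE_one k (O.ι ≫ f)
    ((O.ι.isOpenEmbedding.isInducing.topologicalKrullDim_le).trans hdim) _
    (EtTransferLib.isTorsion_pull (openEt O) hF) 2 one_lt_two


/-- Let k be an algebraically closed field, X separated of finite type over k of dimension at most 1, F
a torsion abelian sheaf on the small etale site of X and U an open subscheme. Then the pullback map
from H^2(X, F) to H^2(U, F|_U) is surjective. (Exactness of pullback of abelian sheaves, which
always holds, is carried as an instance hypothesis.) -/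
theorem result (k : Type u) [Field k] [IsAlgClosed k] (X : Scheme.{u})
    (f : X ⟶ Spec (CommRingCat.of k)) [IsSeparated f] [LocallyOfFiniteType f] [QuasiCompact f]
    (hdim : topologicalKrullDim X ≤ 1) (F : EtCoh.Ab X) (hF : EtCoh.IsTorsion F) (U : X.Opens)
    [PreservesFiniteLimits (EtCoh.pull U.ι)] :
    Function.Surjective (EtCore.Hpull U.ι F 2) := by
  haveI : IsLocallyNoetherian X := LocallyOfFiniteType.isLocallyNoetherian f
  haveI : CompactSpace X := QuasiCompact.compactSpace_of_compactSpace f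
  haveI : IsNoetherian X := {}
  haveI : NoetherianSpace X := inferInstance
  -- extension of classes from an open to the whole curve
  have key : ∀ (O : X.Opens) (z : Ext.{u + 1} (free (openEt O)) F 2),
      ∃ y : Ext.{u + 1} (free (openEt ⊤)) F 2,
        (Ext.mk₀ (freeMap (inclEt (le_top : O ≤ ⊤)))).comp y (zero_add 2) = z := by
    intro O
    induction O using WellFoundedGT.induction with
    | ind O ih =>
      intro z
      by_cases hO : O = ⊤
      · subst hO
        refine ⟨z, ?_⟩
        rw [show inclEt (le_top : (⊤ : X.Opens) ≤ ⊤) = 𝟙 _ from hom_ext_openEt _ _,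
          show freeMap (𝟙 (openEt (⊤ : X.Opens))) = 𝟙 _ from free_hom_ext _ (by
            rw [freeMap_gen]; simp),
          Ext.mk₀_id_comp]
      obtain ⟨x, hx⟩ : ∃ x, x ∉ O := by
        by_contra h
        push_neg at h
        exact hO (top_le_iff.1 fun x _ => h x)
      obtain ⟨V, hxV, hV, hOV⟩ := exists_affine_nhd hdim O hx
      have hC := subsingleton_ext_affine k f hdim F hF _ hOV
      have hlt : O < O ⊔ V := lt_of_le_of_ne le_sup_left fun h =>
        hx (h ▸ (Opens.mem_sup.2 (Or.inr hxV) : x ∈ O ⊔ V))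
      haveI : ∀ {S T : X.Opens} (h : S ≤ T), IsOpenImmersion (inclEt h).left := fun h =>
        inferInstanceAs (IsOpenImmersion (X.homOfLE h))
      have hr : ∀ {S T : X.Opens} (h : S ≤ T), Set.range (inclEt h).left.base = T.ι ⁻¹' (S : Set X) :=
        fun {S T} h => by
          show Set.range (X.homOfLE h).base = _
          rw [← Scheme.Hom.coe_opensRange, X.opensRange_homOfLE h]
          rfl
      let i := inclEt (inf_le_left : O ⊓ V ≤ O)
      let j := inclEt (inf_le_right : O ⊓ V ≤ V)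
      let a := inclEt (le_sup_left : O ≤ O ⊔ V)
      let b := inclEt (le_sup_right : V ≤ O ⊔ V)
      have w : i ≫ a = j ≫ b := hom_ext_openEt _ _
      have hS : (mvFree i j a b w).ShortExact := mvFree_shortExact i j a b w (by
          rw [hr, hr]
          refine Set.eq_univ_of_forall fun y => ?_
          exact Opens.mem_sup.1 y.2) (by
          rw [show i ≫ a = inclEt (inf_le_left.trans le_sup_left : O ⊓ V ≤ O ⊔ V) from hom_ext_openEt _ _,
            hr, hr, hr]
          exact fun y hy => hy)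
      obtain ⟨y, hy⟩ := Ext.contravariant_sequence_exact₂ hS F
        ((Ext.mk₀ (biprod.fst : free (openEt O) ⊞ free (openEt V) ⟶ free (openEt O))).comp z (zero_add 2))
        (hC.elim _ _)
      have hy' : (Ext.mk₀ (freeMap a)).comp y (zero_add 2) = z := by
        have h := congrArg
          ((Ext.mk₀ (biprod.inl : free (openEt O) ⟶ free (openEt O) ⊞ free (openEt V))).comp · (zero_add 2)) hy
        simp only [← Ext.comp_assoc_of_second_deg_zero, Ext.mk₀_comp_mk₀] at h
        rw [biprod.inl_fst, Ext.mk₀_id_comp] at h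
        rw [← h]
        congr 2
        simp [mvFree]
      obtain ⟨y', hy''⟩ := ih (O ⊔ V) hlt y
      refine ⟨y', ?_⟩
      rw [← hy', ← hy'', ← Ext.comp_assoc_of_second_deg_zero, Ext.mk₀_comp_mk₀, freeMap_comp]
      congr 3
      exact hom_ext_openEt _ _
  -- back to cohomology of the whole curve
  intro c
  obtain ⟨z, hz⟩ := (psi_bijective (openEt U) 2 F).2 c
  obtain ⟨y, hy⟩ := key U z
  let π : EtCoh.top X ⟶ openEt ⊤ := MorphismProperty.Over.homMk X.topIso.inv (X.topIso.inv_hom_id)
  let σ : EtCoh.const X ℤ ⟶ free (EtCoh.top X) :=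
    ((EtCore.constAdj X).homEquiv _ _).symm (intHom (gen (EtCoh.top X)))
  have hσ : toConst (EtCoh.top X) ≫ σ = 𝟙 _ := by
    refine free_hom_ext _ ?_
    show σ.hom.app (op (EtCoh.top X)) ((toConst (EtCoh.top X)).hom.app (op (EtCoh.top X)) (gen _)) = _
    rw [toConst, desc_gen, (EtCore.topIsTerminal X).hom_ext ((EtCore.topIsTerminal X).from (EtCoh.top X)) (𝟙 _)]
    simp only [op_id, CategoryTheory.Functor.map_id, ConcreteCategory.id_apply]
    exact (gsec_map_symm _).trans (intHom_one _)
  refine ⟨(Ext.mk₀ σ).comp ((Ext.mk₀ (freeMap π)).comp y (zero_add 2)) (zero_add 2), ?_⟩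
  refine ((Hpull_eq_psi (openEt U) F 2 _).trans ?_).trans hz
  congr 1
  rw [← hy]
  simp only [← Ext.comp_assoc_of_second_deg_zero, Ext.mk₀_comp_mk₀]
  congr 2
  rw [← freeMap_toConst ((EtCore.topIsTerminal X).from (openEt U))]
  simp only [Category.assoc]
  rw [reassoc_of% hσ, freeMap_comp]
  congr 1
  exact hom_ext_openEt _ _

end Groth.Agent.S0639
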