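import Groth.Statements.S0643
-- import your own Groth.Agent.* helpers here

set_option autoImplicit false
universe u
open EtCore

namespace Groth.Agent.S0643

open Polynomial in
/-- Let A be a ring, assumed nonzero here (the published statement does not say so; over the zero ring
no polynomial has positive degree in Lean's sense), and a, b elements generating the unit ideal such
that some positive power of a is congruent to 1 modulo b. Then there is a monic polynomial P of
positive degree over A such that in B = A[y]/(P) the element a - b y is a unit. -/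
theorem result (A : Type u) [CommRing A] [Nontrivial A] (a b : A) (hab : IsCoprime a b)
    (hroot : ∃ n : ℕ, 0 < n ∧ a ^ n - 1 ∈ Ideal.span ({b} : Set A)) :
    ∃ P : A[X], P.Monic ∧ 0 < P.natDegree ∧
      IsUnit (algebraMap A (AdjoinRoot P) a - algebraMap A (AdjoinRoot P) b * AdjoinRoot.root P) := by
  obtain ⟨u, v, huv⟩ := hab
  obtain ⟨n, hn, hmem⟩ := hroot
  obtain ⟨c, hc⟩ := Ideal.mem_span_singleton'.1 hmem
  obtain ⟨m, rfl⟩ : ∃ m, n = m + 1 := ⟨n - 1, by omega⟩
  let d : ℕ → A := fun i => -c * (m.choose i : A) * u ^ i * v ^ (m - i)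
  have hd : ∑ i ∈ Finset.range (m + 1), d i * a ^ i * b ^ (m + 1 - i) = -c * b := by
    calc ∑ i ∈ Finset.range (m + 1), d i * a ^ i * b ^ (m + 1 - i)
        = ∑ i ∈ Finset.range (m + 1), -c * b * ((u * a) ^ i * (v * b) ^ (m - i) * (m.choose i : A)) := by
          refine Finset.sum_congr rfl fun i hi => ?_
          have hi' : i ≤ m := by simpa using hi
          rw [show m + 1 - i = (m - i) + 1 by omega, mul_pow, mul_pow, pow_succ]
          simp only [d]; ring
      _ = -c * b * (u * a + v * b) ^ m := by rw [← Finset.mul_sum, add_pow]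
      _ = -c * b := by rw [huv, one_pow, mul_one]
  set S : A[X] := ∑ i ∈ Finset.range (m + 1), C (d i) * X ^ i with hS
  set P : A[X] := X ^ (m + 1) + S with hP
  have hdeg : S.degree < ((m + 1 : ℕ) : WithBot ℕ) := by
    refine lt_of_le_of_lt (degree_sum_le _ _) ?_
    rw [Finset.sup_lt_iff (WithBot.bot_lt_coe _)]
    intro i hi
    refine lt_of_le_of_lt (degree_C_mul_X_pow_le _ _) ?_
    exact Nat.cast_lt.2 (Finset.mem_range.1 hi)
  have hmonic : P.Monic := monic_X_pow_add hdeg
  have hPdeg : P.degree = ((m + 1 : ℕ) : WithBot ℕ) := by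
    rw [hP, degree_add_eq_left_of_degree_lt (by rwa [degree_X_pow]), degree_X_pow]
  refine ⟨P, hmonic, ?_, ?_⟩
  · rw [natDegree_eq_of_degree_eq_some hPdeg]; omega
  set y : AdjoinRoot P := AdjoinRoot.root P with hy
  set a' : AdjoinRoot P := algebraMap A _ a with ha'
  set b' : AdjoinRoot P := algebraMap A _ b with hb'
  have hroot0 : y ^ (m + 1) + ∑ i ∈ Finset.range (m + 1), algebraMap A (AdjoinRoot P) (d i) * y ^ i = 0 := by
    have h : aeval y P = 0 := by rw [hy, AdjoinRoot.aeval_eq, AdjoinRoot.mk_self]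
    refine Eq.trans ?_ h
    refine Eq.trans ?_ (congrArg (aeval y) hP).symm
    simp only [hS, map_add, map_sum, map_mul, map_pow, aeval_X, aeval_C]
  have h1 : a' ^ (m + 1) + ∑ i ∈ Finset.range (m + 1),
      algebraMap A (AdjoinRoot P) (d i) * b' ^ (m + 1 - i) * a' ^ i = 1 := by
    have : a ^ (m + 1) + ∑ i ∈ Finset.range (m + 1), d i * b ^ (m + 1 - i) * a ^ i = 1 := by
      have : ∑ i ∈ Finset.range (m + 1), d i * b ^ (m + 1 - i) * a ^ i = -c * b := by
        rw [← hd]; exact Finset.sum_congr rfl fun i _ => by ring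
      rw [this]; linear_combination -hc
    simpa only [map_add, map_sum, map_mul, map_pow, map_one] using
      congrArg (algebraMap A (AdjoinRoot P)) this
  have h0 : (b' * y) ^ (m + 1) + ∑ i ∈ Finset.range (m + 1),
      algebraMap A (AdjoinRoot P) (d i) * b' ^ (m + 1 - i) * (b' * y) ^ i = 0 := by
    have : b' ^ (m + 1) * (y ^ (m + 1) +
        ∑ i ∈ Finset.range (m + 1), algebraMap A (AdjoinRoot P) (d i) * y ^ i) = 0 := by
      rw [hroot0, mul_zero]
    rw [← this, mul_add, mul_pow, Finset.mul_sum]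
    congr 1
    refine Finset.sum_congr rfl fun i hi => ?_
    have hi' : i < m + 1 := Finset.mem_range.1 hi
    have hb2 : b' ^ (m + 1) = b' ^ (m + 1 - i) * b' ^ i := by
      rw [← pow_add]; congr 1; omega
    rw [hb2, mul_pow]; ring
  refine isUnit_of_dvd_one ?_
  have key : (a' - b' * y) ∣ (a' ^ (m + 1) + ∑ i ∈ Finset.range (m + 1),
      algebraMap A (AdjoinRoot P) (d i) * b' ^ (m + 1 - i) * a' ^ i) -
      ((b' * y) ^ (m + 1) + ∑ i ∈ Finset.range (m + 1),
      algebraMap A (AdjoinRoot P) (d i) * b' ^ (m + 1 - i) * (b' * y) ^ i) := by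
    rw [add_sub_add_comm, ← Finset.sum_sub_distrib]
    refine dvd_add (sub_dvd_pow_sub_pow _ _ _) (Finset.dvd_sum fun i _ => ?_)
    rw [← mul_sub]
    exact Dvd.dvd.mul_left (sub_dvd_pow_sub_pow _ _ _) _
  rwa [h1, h0, sub_zero] at key

end Groth.Agent.S0643
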