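import Groth.Statements.S0644
import Mathlib.AlgebraicGeometry.Sites.Etale
import Mathlib.AlgebraicGeometry.Morphisms.UniversallyOpen

set_option autoImplicit false
open CategoryTheory CategoryTheory.Limits AlgebraicGeometry Opposite
universe u
open EtCore TopologicalSpace

namespace Groth.Agent.S0644

theorem range_subset_of_hom {S : Scheme.{u}} {W : S.Opens} {U : S.Etale} (g : U ⟶ Scheme.Etale.mk W.ι) :
    Set.range U.hom ⊆ (W : Set S) := by
  rintro _ ⟨x, rfl⟩
  rw [← congr($(MorphismProperty.Over.w g) x), Scheme.Hom.comp_apply]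
  exact (g.left x).2

theorem nonempty_hom {S : Scheme.{u}} {W : S.Opens} {U : S.Etale} (h : Set.range U.hom ⊆ (W : Set S)) :
    Nonempty (U ⟶ Scheme.Etale.mk W.ι) := by
  haveI hi : IsOpenImmersion W.ι := inferInstance
  let φ : U.left ⟶ S := U.hom
  let l : U.left ⟶ (W : Scheme.{u}) := IsOpenImmersion.lift W.ι φ (le_of_le_of_eq h W.range_ι.symm)
  exact ⟨MorphismProperty.Over.homMk l (IsOpenImmersion.lift_fac W.ι φ _)⟩

theorem subsingleton_hom {S : Scheme.{u}} {W : S.Opens} {U : S.Etale} : Subsingleton (U ⟶ Scheme.Etale.mk W.ι) :=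
  ⟨fun a b => MorphismProperty.Over.Hom.ext (by
    exact (cancel_mono (f := W.ι) (g := a.left) (h := b.left)).mp
      ((MorphismProperty.Over.w a).trans (MorphismProperty.Over.w b).symm))⟩

/-- Let F be a sheaf of sets on the small etale site of S which is a subsheaf of the final sheaf, i.e.
every set of sections has at most one element. Then there is exactly one open W of S such that F is
isomorphic to the sheaf represented by W (viewed as a scheme etale over S). -/
theorem result (S : Scheme.{u}) (F : Sheaf S.smallEtaleTopology (Type u))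
    (hF : ∀ U : S.Etale, Subsingleton (F.obj.obj (op U))) :
    ∃! W : S.Opens, Nonempty (F.obj ≅ yoneda.obj (Scheme.Etale.mk W.ι)) := by
  classical
  let W : S.Opens := ⨆ U : {U : S.Etale // Nonempty (F.obj.obj (op U))},
    ⟨Set.range U.1.hom, (haveI : Etale U.1.hom := U.1.prop; Scheme.Hom.isOpenMap U.1.hom).isOpen_range⟩
  have hW : ∀ U : S.Etale, Nonempty (F.obj.obj (op U)) ↔ Set.range U.hom ⊆ (W : Set S) := fun U => by
    refine ⟨fun h => fun x hx => Opens.mem_iSup.mpr ⟨⟨U, h⟩, hx⟩, fun h => ?_⟩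
    have hc : ∀ x : U.left, ∃ (V : S.Etale) (_ : Nonempty (F.obj.obj (op V))) (v : V.left), V.hom v = U.hom x :=
      fun x => by
        obtain ⟨⟨V, hV⟩, v, hv⟩ := Opens.mem_iSup.mp (h ⟨x, rfl⟩)
        exact ⟨V, hV, v, hv⟩
    choose V hV v hv using hc
    let Z : U.left → S.Etale := fun x => Scheme.Etale.mk (pullback.fst U.hom (V x).hom ≫ U.hom)
    let f : ∀ x, Z x ⟶ U := fun x => MorphismProperty.Over.homMk (pullback.fst _ _) rfl
    let g : ∀ x, Z x ⟶ V x := fun x => MorphismProperty.Over.homMk (pullback.snd _ _) pullback.condition.symm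
    have hR : Sieve.ofArrows _ f ∈ S.smallEtaleTopology U := by
      rw [Scheme.ofArrows_mem_smallEtaleTopology_iff, Set.eq_univ_iff_forall]
      intro x
      obtain ⟨z, hz, -⟩ := Scheme.Pullback.exists_preimage_pullback (f := U.hom) (g := (V x).hom) x (v x) (hv x).symm
      exact Set.mem_iUnion.mpr ⟨x, z, hz⟩
    have hne : ∀ ⦃Y : S.Etale⦄ (a : Y ⟶ U), Sieve.ofArrows _ f a → Nonempty (F.obj.obj (op Y)) := by
      rintro Y a ⟨_, b, _, ⟨x⟩, rfl⟩
      exact (hV x).map (F.obj.map (b ≫ g x).op)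
    have hs := (isSheaf_iff_isSheaf_of_type _ _).mp F.property _ hR
    exact ⟨hs.amalgamate (fun Y a ha => (hne a ha).some) (fun {_ _ Z} _ _ _ _ _ _ _ => (hF Z).elim _ _)⟩
  have hWI : ∀ U : S.Etale, Nonempty (F.obj.obj (op U)) ↔ Nonempty (U ⟶ Scheme.Etale.mk W.ι) := fun U =>
    (hW U).trans ⟨nonempty_hom, fun ⟨g⟩ => range_subset_of_hom g⟩
  refine ⟨W, ⟨NatIso.ofComponents (fun U => Equiv.toIso
    { toFun := fun a => ((hWI U.unop).mp ⟨a⟩).some
      invFun := fun a => ((hWI U.unop).mpr ⟨a⟩).some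
      left_inv := fun _ => (hF _).elim _ _
      right_inv := fun _ => subsingleton_hom.elim _ _ }) fun _ => ?_⟩, fun W' ⟨e⟩ => ?_⟩
  · ext
    exact subsingleton_hom.elim _ _
  · have h1 : ∀ U : S.Etale, Nonempty (F.obj.obj (op U)) ↔ Nonempty (U ⟶ Scheme.Etale.mk W'.ι) := fun U =>
      ⟨fun ⟨a⟩ => ⟨e.hom.app (op U) a⟩, fun ⟨a⟩ => ⟨e.inv.app (op U) a⟩⟩
    refine le_antisymm (fun x hx => ?_) (fun x hx => ?_)
    · have h2 := (hW _).mp ((h1 (Scheme.Etale.mk W'.ι)).mpr ⟨𝟙 _⟩)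
      exact h2 ⟨⟨x, hx⟩, rfl⟩
    · have h2 := (hWI (Scheme.Etale.mk W.ι)).mpr ⟨𝟙 _⟩
      obtain ⟨g⟩ := (h1 _).mp h2
      exact range_subset_of_hom g ⟨⟨x, hx⟩, rfl⟩

end Groth.Agent.S0644
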