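import Groth.Statements.S0645
import Groth.Agent.EtPBCProperLib.Henselian
import Groth.Agent.FibVALib.Core
-- import your own Groth.Agent.* helpers here

set_option autoImplicit false
open CategoryTheory CategoryTheory.Limits AlgebraicGeometry Opposite
universe u
open EtCore

namespace Groth.Agent.S0645

/-- Let A be a henselian local ring, X the projective line over A, X_0 its closed fibre (base change to
the residue field) and ℓ a prime. Let I be an abelian sheaf on the small etale site of X killed by ℓ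
which is injective in the full subcategory of sheaves killed by ℓ (an injective sheaf of
Z/ℓ-modules). Then the pullback of I to X_0 has vanishing etale cohomology in positive degrees. -/
theorem result (A : Type u) [CommRing A] [HenselianLocalRing A]
    (ℓ : ℕ) [Fact ℓ.Prime] (I : EtCoh.Ab (CohB1.ProjSpace 1 A)) (hI : EtCoh.KilledBy ℓ I)
    (hinj : Injective (ObjectProperty.FullSubcategory.mk (P := fun F : EtCoh.Ab (CohB1.ProjSpace 1 A) => EtCoh.KilledBy ℓ F) I hI))
    (q : ℕ) (hq : 1 ≤ q) :
    Subsingleton (EtCoh.H (pullback (CohB1.ProjSpace.toSpec 1 A) (Spec.map (CommRingCat.ofHom (IsLocalRing.residue A))))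
      ((EtCoh.pull (pullback.fst (CohB1.ProjSpace.toSpec 1 A)
        (Spec.map (CommRingCat.ofHom (IsLocalRing.residue A))))).obj I) q) := by
  haveI := FibVALib.isProper_toSpec 1 A
  have hn : ℓ • 𝟙 I = 0 := by
    apply Sheaf.hom_ext
    ext U s
    show (ℓ • 𝟙 I : I ⟶ I).hom.app U s = (0 : I ⟶ I).hom.app U s
    exact (ConsEffaceLib.app_nsmul_id (F := I) ℓ U.unop s).trans (hI _ s)
  obtain ⟨J, hJ, m, hm⟩ := EtPBCProperLib.exists_mono_nTor hn
  haveI := hJ
  haveI := hm
  have hN : EtCoh.KilledBy ℓ (EtPBCProperLib.nTor J ℓ) := fun U s => by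
    refine (ConsEffaceLib.app_nsmul_id (F := EtPBCProperLib.nTor J ℓ) ℓ U s).symm.trans ?_
    rw [EtPBCProperLib.nsmul_nTor]
    rfl
  let P := fun F : EtCoh.Ab (CohB1.ProjSpace 1 A) => EtCoh.KilledBy ℓ F
  let mI : (ObjectProperty.FullSubcategory.mk (P := P) I hI) ⟶ ObjectProperty.FullSubcategory.mk (P := P) _ hN :=
    ObjectProperty.homMk m
  haveI : Mono mI := (ObjectProperty.ι P).mono_of_mono_map (show Mono m from hm)
  haveI := hinj
  have hr : m ≫ (Injective.factorThru (𝟙 _) mI).hom = 𝟙 I :=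
    congrArg InducedCategory.Hom.hom (Injective.comp_factorThru (𝟙 _) mI)
  haveI := EtPBCProperLib.subsingleton_pair (IsLocalRing.maximalIdeal A) (CohB1.ProjSpace.toSpec 1 A) J
    (Nat.Prime.pos Fact.out : 0 < ℓ) q hq
  let P' := EtCoh.pull (pullback.fst (CohB1.ProjSpace.toSpec 1 A)
    (Spec.map (CommRingCat.ofHom (IsLocalRing.residue A))))
  refine subsingleton_of_forall_eq 0 fun x => ?_
  have h1 : (x : Abelian.Ext.{u + 1} _ (P'.obj I) q).comp
      (Abelian.Ext.mk₀ (P'.map m ≫ P'.map (Injective.factorThru (𝟙 _) mI).hom)) (add_zero q) = x := by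
    rw [← Functor.map_comp, hr, CategoryTheory.Functor.map_id, Abelian.Ext.comp_mk₀_id]
  rw [← h1, ← Abelian.Ext.mk₀_comp_mk₀, ← Abelian.Ext.comp_assoc_of_second_deg_zero]
  exact (congrArg (fun t => Abelian.Ext.comp t (Abelian.Ext.mk₀ _) (add_zero q))
    (‹Subsingleton _›.elim ((x : Abelian.Ext.{u + 1} _ (P'.obj I) q).comp (Abelian.Ext.mk₀ (P'.map m)) (add_zero q)) 0)).trans
      (Abelian.Ext.zero_comp _ _ _ _ _)

end Groth.Agent.S0645
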