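import Groth.Statements.S0666
import Groth.Agent.EtCechInjLib.Delta

set_option backward.isDefEq.respectTransparency false
set_option backward.isDefEq.respectTransparency.types false

set_option autoImplicit false
open CategoryTheory CategoryTheory.Limits Opposite
universe w v
open EtCore

namespace Groth.Agent.S0666

/-- With C, U and the family (U_i -> U) as in the definition of the Cech complex, on the abelian
category of abelian presheaves on C the p-th Cech cohomology functor is isomorphic to the p-th right
derived functor of the zeroth Cech cohomology functor (assuming, as binders, that the latter is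
additive and that abelian presheaves have injective resolutions, which hold because C is taken
essentially small relative to the coefficient universe). -/
theorem result {C : Type w} [Category.{v} C] [EssentiallySmall.{w} C] {U : C} [HasFiniteProducts (Over U)]
    {ι : Type w} (Uf : ι → Over U) [(EtCech.cechHFunctor (C := C) Uf 0).Additive]
    [HasInjectiveResolutions (Cᵒᵖ ⥤ AddCommGrpCat.{w})] (p : ℕ) :
    Nonempty (EtCech.cechHFunctor (C := C) Uf p ≅ (EtCech.cechHFunctor (C := C) Uf 0).rightDerived p) := by
  haveI : EnoughInjectives (Cᵒᵖ ⥤ AddCommGrpCat.{w}) := ⟨fun P => by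
    obtain ⟨⟨R⟩⟩ := HasInjectiveResolutions.out (C := Cᵒᵖ ⥤ AddCommGrpCat.{w}) P
    exact ⟨{ J := R.cocomplex.X 0, injective := R.injective 0, f := R.ι.f 0, mono := inferInstance }⟩⟩
  haveI : ((Functor.whiskeringLeft (Over U)ᵒᵖ Cᵒᵖ AddCommGrpCat.{w}).obj (Over.forget U).op ⋙
      cechComplexFunctor Uf).PreservesZeroMorphisms := ⟨fun P Q => by
    show (cechComplexFunctor Uf).map (((Functor.whiskeringLeft (Over U)ᵒᵖ Cᵒᵖ AddCommGrpCat.{w}).obj
      (Over.forget U).op).map 0) = 0
    rw [Functor.map_zero, Functor.map_zero]⟩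
  haveI : (((Functor.whiskeringLeft (Over U)ᵒᵖ Cᵒᵖ AddCommGrpCat.{w}).obj (Over.forget U).op ⋙
      cechComplexFunctor Uf) ⋙ HomologicalComplex.homologyFunctor _ _ 0).Additive :=
    ⟨fun {P Q a b} => Functor.map_add (EtCech.cechHFunctor (C := C) Uf 0)⟩
  exact EtCechInjLib.nonempty_iso_rightDerived
    ((Functor.whiskeringLeft (Over U)ᵒᵖ Cᵒᵖ AddCommGrpCat.{w}).obj (Over.forget U).op ⋙ cechComplexFunctor Uf)
    (fun hS => EtCechInjLib.shortExact_cx Uf
      (hS.map_of_exact ((Functor.whiskeringLeft (Over U)ᵒᵖ Cᵒᵖ AddCommGrpCat.{w}).obj (Over.forget U).op)))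
    (fun I hI i => haveI := hI; EtCechInjLib.isZero_cechH_injective Uf I i) p

end Groth.Agent.S0666
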