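import Groth.Statements.S0668
import Groth.Agent.EtLamFinLib.Main
import Groth.Agent.ConsFiniteLib.Proper
-- import your own Groth.Agent.* helpers here

set_option autoImplicit false
open CategoryTheory CategoryTheory.Limits AlgebraicGeometry Opposite
universe u
open EtCore

namespace Groth.Agent.S0668

/-- Let Λ be a Noetherian ring, k an algebraically closed field, X separated and of finite type over k
with dimension at most 1, and L a constructible etale sheaf of Λ-modules on X whose underlying
abelian sheaf is torsion of orders invertible in k. Then for every q the Λ-module H^q(X, L) is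
finitely generated. (Sheaves of Λ-modules are modelled as abelian sheaves with a Λ-action by
endomorphisms; H^q carries the induced module structure.) -/
theorem result (Λ : Type) [CommRing Λ] [IsNoetherianRing Λ]
    (k : Type u) [Field k] [IsAlgClosed k] (X : Scheme.{u})
    (f : X ⟶ Spec (CommRingCat.of k)) [IsSeparated f] [LocallyOfFiniteType f] [QuasiCompact f]
    (hdim : topologicalKrullDim X ≤ 1) (L : EtLam.Sheaf Λ X) (hL : EtLam.IsConstructible L)
    (hLt : EtCoh.IsTorsion L.carrier) (hLp : EtPBC.IsTorsionInvertibleOn (Spec (CommRingCat.of k)) L.carrier) (q : ℕ) :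
    Module.Finite Λ (EtCoh.H X L.carrier q) := by
  haveI : AlgebraicGeometry.IsNoetherian X := @AlgebraicGeometry.IsNoetherian.mk X (LocallyOfFiniteType.isLocallyNoetherian f)
    (QuasiCompact.compactSpace_of_compactSpace f)
  refine EtLamFinLib.finite_H_of_constructible L hL (ok := fun n => 0 < n ∧ (n : k) ≠ 0)
    ⟨one_pos, by rw [Nat.cast_one]; exact one_ne_zero⟩
    (fun a b ha hb => ⟨Nat.mul_pos ha.1 hb.1, by rw [Nat.cast_mul]; exact mul_ne_zero ha.2 hb.2⟩)
    (fun a ha => ha.1) (fun N hN p hp hpN => ?_) (fun U s x => ?_) q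
  · have hpk : (p : k) ≠ 0 := fun h => hN.2 (by obtain ⟨d, rfl⟩ := hpN; rw [Nat.cast_mul, h, zero_mul])
    refine ⟨fun F hF r hr => EtLamFinLib.subsingleton_H_of_killed k f hdim hp.pos F hF r hr, fun U hU r => ?_⟩
    haveI := Fact.mk hp
    haveI := hU
    exact ConsFiniteLib.finite_H k (ConsFiniteLib.hypB k p hpk) hp.pos r f hdim _
      ((EtShLib.isConstructible_iff _).2 (EtShLib.isCons_extConst U (ZMod p)))
      (EtLamFinLib.nsmul_id_extConst' U p)
  · obtain ⟨V, g, n, hv, hu, h⟩ := hLp U s x
    have hk : (n : k) ≠ 0 := by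
      have h' := hu.map (Scheme.ΓSpecIso (CommRingCat.of k)).hom.hom
      rw [map_natCast] at h'
      exact h'.ne_zero
    exact ⟨V, g, n, hv, ⟨Nat.pos_of_ne_zero fun e => hk (by rw [e, Nat.cast_zero]), hk⟩, h⟩

end Groth.Agent.S0668
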