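import Groth.Statements.S0669
import Groth.Agent.EtLamFinLib.Main
import Groth.Agent.ConsFiniteLib.Proper
-- import your own Groth.Agent.* helpers here

set_option autoImplicit false
open CategoryTheory CategoryTheory.Limits AlgebraicGeometry Opposite
universe u
open EtCore

namespace Groth.Agent.S0669

/-- Let Λ be a Noetherian ring, k an algebraically closed field, X proper over k with dimension at most
1, and L a constructible etale sheaf of Λ-modules on X whose underlying abelian sheaf is torsion.
Then for every q the Λ-module H^q(X, L) is finitely generated. -/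
theorem result (Λ : Type) [CommRing Λ] [IsNoetherianRing Λ]
    (k : Type u) [Field k] [IsAlgClosed k] (X : Scheme.{u})
    (f : X ⟶ Spec (CommRingCat.of k)) [IsProper f]
    (hdim : topologicalKrullDim X ≤ 1) (L : EtLam.Sheaf Λ X) (hL : EtLam.IsConstructible L)
    (hLt : EtCoh.IsTorsion L.carrier) (q : ℕ) :
    Module.Finite Λ (EtCoh.H X L.carrier q) := by
  haveI : AlgebraicGeometry.IsNoetherian X := @AlgebraicGeometry.IsNoetherian.mk X (LocallyOfFiniteType.isLocallyNoetherian f)
    (QuasiCompact.compactSpace_of_compactSpace f)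
  refine EtLamFinLib.finite_H_of_constructible L hL (ok := fun n => 0 < n) one_pos
    (fun a b ha hb => Nat.mul_pos ha hb) (fun a ha => ha) (fun N hN p hp hpN => ?_) (fun U s x => ?_) q
  · refine ⟨fun F hF r hr => EtLamFinLib.subsingleton_H_of_killed k f hdim hp.pos F hF r hr, fun U hU r => ?_⟩
    haveI := Fact.mk hp
    haveI := hU
    exact ConsFiniteLib.finite_H_of_hypOn k f hdim (ConsFiniteLib.hypOn_proper k f p hp.pos) hp.pos r _
      ((EtShLib.isConstructible_iff _).2 (EtShLib.isCons_extConst U (ZMod p)))
      (EtLamFinLib.nsmul_id_extConst' U p)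
  · obtain ⟨V, g, hv, h⟩ := hLt U s x
    obtain ⟨n, hn, hn'⟩ := isOfFinAddOrder_iff_nsmul_eq_zero.1 h
    exact ⟨V, g, n, hv, hn, hn'⟩

end Groth.Agent.S0669
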