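import Groth.Statements.S0671
import Groth.Agent.EtShLib.ShriekSupp
-- import your own Groth.Agent.* helpers here

set_option autoImplicit false
open CategoryTheory CategoryTheory.Limits AlgebraicGeometry Opposite
universe u
open EtCore

namespace Groth.Agent.S0671

/-- For an abelian sheaf F on the small etale site of S and a section σ over an etale S-scheme U, the
support of σ is a closed subset of U; and a point of S has a nonzero geometric stalk exactly when it
is the image of a point lying in the support of some section over some etale S-scheme. -/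
theorem result {S : Scheme.{u}} (F : EtCoh.Ab S) :
    (∀ (U : S.Etale) (σ : EtCoh.sect F U), IsClosed (EtShriek.sectSupp F U σ)) ∧
    EtPBC.supp F = ⋃ (U : S.Etale) (σ : EtCoh.sect F U), U.hom.base '' EtShriek.sectSupp F U σ := by
  refine ⟨fun U σ => Groth.Agent.EtShLib.isClosed_sectSupp F U σ, Set.Subset.antisymm ?_ ?_⟩
  · rintro x ⟨Ω, _, _, ξ, hξ, hne⟩
    obtain ⟨p, hp⟩ : ∃ p : (EtCoh.stalk ξ).obj F, p ≠ 0 := by
      by_contra! h
      exact hne (@AddCommGrpCat.isZero_of_subsingleton _ ⟨fun a b => (h a).trans (h b).symm⟩)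
    obtain ⟨U, u, σ, rfl⟩ := Groth.Agent.EtShLib.exists_germ (A := AddCommGrpCat.{u + 1}) ξ p
    have hu : u.pt ∈ EtShriek.sectSupp F U σ :=
      by_contra fun hn => hp (Groth.Agent.EtShLib.germ_eq_zero_of_notMem F σ u hn)
    refine Set.mem_iUnion.2 ⟨U, Set.mem_iUnion.2 ⟨σ, u.pt, hu, ?_⟩⟩
    have h1 : U.hom.base u.pt = ξ.base default :=
      congrArg (fun t : Spec (CommRingCat.of Ω) ⟶ S => t.base default) u.w
    exact h1.trans (hξ.subset ⟨default, rfl⟩)
  · intro x hx
    obtain ⟨U, hx⟩ := Set.mem_iUnion.1 hx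
    obtain ⟨σ, y, hy, rfl⟩ := Set.mem_iUnion.1 hx
    obtain ⟨Ω, _, _, ξ, u, rfl⟩ := Groth.Agent.EtShLib.exists_geometric (U := U) y
    refine ⟨Ω, inferInstance, inferInstance, ξ, ?_, fun hz => ?_⟩
    · have h1 : U.hom.base u.pt = ξ.base default :=
        congrArg (fun t : Spec (CommRingCat.of Ω) ⟶ S => t.base default) u.w
      rw [h1]
      exact Set.eq_singleton_iff_unique_mem.2 ⟨⟨default, rfl⟩, by rintro _ ⟨a, rfl⟩; rw [Subsingleton.elim a default]⟩
    · haveI := AddCommGrpCat.subsingleton_of_isZero hz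
      exact Groth.Agent.EtShLib.notMem_sectSupp_of_germ F σ u (Subsingleton.elim (α := (EtCoh.stalk ξ).obj F) _ _) hy

end Groth.Agent.S0671
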