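import Groth.Statements.S0676
import Groth.Agent.HenselLib.EtaleLift
import Mathlib


-- import your own Groth.Agent.* helpers here

set_option autoImplicit false
open CategoryTheory CategoryTheory.Limits AlgebraicGeometry Opposite Topology
universe u
open ProEtW

namespace Groth.Agent.S0676

/-- If every faithfully flat etale A-algebra has an A-algebra retraction, then the same holds for the
quotient ring A/I for every ideal I. -/
theorem result (A : Type u) [CommRing A]
    (h : ProEtW.HasEtaleRetractions A) (I : Ideal A) :
    ProEtW.HasEtaleRetractions (A ⧸ I) := by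
  intro C _ _ hff het
  letI : Algebra A C := ((algebraMap (A ⧸ I) C).comp (Ideal.Quotient.mk I)).toAlgebra
  haveI : IsScalarTower A (A ⧸ I) C := IsScalarTower.of_algebraMap_eq fun _ => rfl
  obtain ⟨B, _, _, _, φ, hφ, hker⟩ := HenselLib.exists_etale_lift I C
  -- the image of `Spec B` contains `V(I)`
  obtain ⟨J, hJ⟩ := (PrimeSpectrum.isClosed_iff_zeroLocus_ideal _).1
    (PrimeSpectrum.isOpenMap_comap_of_hasGoingDown_of_finitePresentation (R := A) (S := B)).isOpen_range.isClosed_compl
  have hVI : PrimeSpectrum.zeroLocus (I : Set A) ⊆ Set.range (PrimeSpectrum.comap (algebraMap A B)) := by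
    intro p hp
    rw [← Ideal.mk_ker (I := I), ← range_comap_of_surjective _ _ Ideal.Quotient.mk_surjective] at hp
    obtain ⟨p', rfl⟩ := hp
    obtain ⟨c, rfl⟩ := PrimeSpectrum.comap_surjective_of_faithfullyFlat (A := A ⧸ I) (B := C) p'
    refine ⟨PrimeSpectrum.comap φ.toRingHom c, ?_⟩
    rw [← PrimeSpectrum.comap_comp_apply, ← PrimeSpectrum.comap_comp_apply]
    exact congrArg (fun h => PrimeSpectrum.comap h c) φ.comp_algebraMap
  have hsup : I ⊔ J = ⊤ := by
    rw [← PrimeSpectrum.zeroLocus_empty_iff_eq_top, PrimeSpectrum.zeroLocus_sup, ← hJ, ← Set.disjoint_iff_inter_eq_empty]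
    exact Set.disjoint_compl_right_iff_subset.2 hVI
  obtain ⟨a, ha, b, hb, hab⟩ := Submodule.mem_sup.1 ((Ideal.eq_top_iff_one _).1 hsup)
  let T : Bool → Type u := fun i => cond i B (Localization.Away a)
  letI : ∀ i, CommRing (T i) := fun i => match i with
    | true => (inferInstance : CommRing B)
    | false => (inferInstance : CommRing (Localization.Away a))
  letI : ∀ i, Algebra A (T i) := fun i => match i with
    | true => (inferInstance : Algebra A B)
    | false => (inferInstance : Algebra A (Localization.Away a))
  haveI : ∀ i, Algebra.Etale A (T i) := fun i => by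
    cases i
    · exact inferInstanceAs (Algebra.Etale A (Localization.Away a))
    · exact inferInstanceAs (Algebra.Etale A B)
  haveI hE : Algebra.Etale A (∀ i, T i) := inferInstance
  haveI : Module.FaithfullyFlat A (∀ i, T i) := by
    refine Module.FaithfullyFlat.of_comap_surjective fun p => ?_
    have key : ∀ (i : Bool) (x : PrimeSpectrum (T i)), PrimeSpectrum.comap (algebraMap A (T i)) x = p →
        p ∈ Set.range (PrimeSpectrum.comap (algebraMap A (∀ i, T i))) := fun i x hx =>
      ⟨PrimeSpectrum.comap (Pi.evalRingHom T i) x, by rw [← PrimeSpectrum.comap_comp_apply]; exact hx⟩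
    by_cases hp : p ∈ Set.range (PrimeSpectrum.comap (algebraMap A B))
    · obtain ⟨x, hx⟩ := hp
      exact key true x hx
    · have hpJ : p ∈ PrimeSpectrum.zeroLocus (J : Set A) := hJ ▸ hp
      have hpa : a ∉ p.asIdeal := fun h => p.isPrime.ne_top <| (Ideal.eq_top_iff_one _).2 <| hab ▸ add_mem h (hpJ hb)
      have hrange : p ∈ Set.range (PrimeSpectrum.comap (algebraMap A (Localization.Away a))) := by
        rw [PrimeSpectrum.localization_away_comap_range (Localization.Away a) a]
        exact hpa
      obtain ⟨x, hx⟩ := hrange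
      exact key false x hx
  obtain ⟨r⟩ := h (∀ i, T i) inferInstance hE
  let π : (∀ i, T i) →+* A ⧸ I := (Ideal.Quotient.mk I).comp r.toRingHom
  let e₀ : ∀ i, T i := Pi.single false 1
  have he : π e₀ = 0 := by
    obtain ⟨u, hu'⟩ := (IsLocalization.Away.algebraMap_isUnit (S := Localization.Away a) a).exists_right_inv
    let w : ∀ i, T i := fun i => match i with | true => 0 | false => u
    have hu : e₀ * algebraMap A (∀ i, T i) a * w = e₀ := by
      funext i
      cases i
      · simp only [Pi.mul_apply, e₀, Pi.single_eq_same, one_mul, Pi.algebraMap_apply]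
        exact hu'
      · simp [e₀]
    rw [← hu, map_mul, map_mul]
    have : π (algebraMap A (∀ i, T i) a) = 0 := by
      show Ideal.Quotient.mk I (r (algebraMap A _ a)) = 0
      rw [r.commutes]
      exact Ideal.Quotient.eq_zero_iff_mem.2 ha
    rw [this, mul_zero, zero_mul]
  let emb : B → ∀ i, T i := fun x i => match i with | true => x | false => 0
  have hadd : ∀ x y, emb (x + y) = emb x + emb y := fun x y => funext fun i => by cases i <;> simp [emb]
  have hmul : ∀ x y, emb (x * y) = emb x * emb y := fun x y => funext fun i => by cases i <;> simp [emb]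
  have hone : π (emb 1) = 1 := by
    have : emb 1 + e₀ = 1 := funext fun i => by cases i <;> simp [emb, e₀]
    rw [← add_zero (π (emb 1)), ← he, ← map_add, this, map_one]
  let ψ : B →+* A ⧸ I :=
    { toFun := fun x => π (emb x)
      map_one' := hone
      map_mul' := fun x y => by rw [hmul, map_mul]
      map_zero' := by rw [show emb 0 = 0 from funext fun i => by cases i <;> simp [emb], map_zero]
      map_add' := fun x y => by rw [hadd, map_add] }
  have hψ : ∀ x : A, ψ (algebraMap A B x) = Ideal.Quotient.mk I x := fun x => by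
    have : emb (algebraMap A B x) = emb 1 * algebraMap A (∀ i, T i) x := funext fun i => by
      cases i <;> simp [emb, Pi.algebraMap_apply] <;> rfl
    show π (emb _) = _
    rw [this, map_mul, hone, one_mul]
    exact congrArg (Ideal.Quotient.mk I) (r.commutes x)
  have hk : RingHom.ker φ ≤ RingHom.ker ψ := by
    rw [hker, Ideal.map_le_iff_le_comap]
    exact fun x hx => by rw [Ideal.mem_comap, RingHom.mem_ker, hψ]; exact Ideal.Quotient.eq_zero_iff_mem.2 hx
  let ρ : C →+* A ⧸ I := RingHom.liftOfSurjective φ.toRingHom hφ ⟨ψ, hk⟩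
  refine ⟨{ ρ with commutes' := fun x => ?_ }⟩
  obtain ⟨x, rfl⟩ := Ideal.Quotient.mk_surjective x
  show ρ (algebraMap A C x) = _
  rw [← φ.commutes]
  exact (RingHom.liftOfSurjective_comp_apply φ.toRingHom hφ ⟨ψ, hk⟩ _).trans (hψ x)

end Groth.Agent.S0676
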