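import Groth.Statements.S0688
import Groth.Agent.ShriekBCLib.Main
import Groth.Agent.EtShLib.StrictLocal
import Mathlib.RingTheory.Henselian
import Mathlib.FieldTheory.IsSepClosed

set_option autoImplicit false
open CategoryTheory CategoryTheory.Limits AlgebraicGeometry Opposite
universe u
open EtShriek

namespace Groth.Agent.S0688

/-- Let f : X → Y be separated and locally of finite type, F an abelian sheaf on X_ét and ȳ : Spec k → Y
a geometric point (k algebraically closed), with fibre X_ȳ = X ×_Y Spec k. Then the stalk (f_! F)_ȳ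
of the direct image with proper support is isomorphic to H⁰_c(X_ȳ, F|X_ȳ), the group of sections
with proper support over the geometric fibre. (Only the existence of an isomorphism of groups is
asserted; the published isomorphism is a specific canonical one.) -/
theorem result {X Y : Scheme.{u}} (f : X ⟶ Y) [IsSeparated f] [LocallyOfFiniteType f]
    (F : EtCoh.Ab X) {Ω : Type u} [Field Ω] [IsAlgClosed Ω] (η : Spec (CommRingCat.of Ω) ⟶ Y)
    [EtCoh.BCCont (pullback.fst f η)] :
    Nonempty ((EtCoh.stalk η).obj ((EtShriek.lowerShriek f).obj F) ≅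
      AddCommGrpCat.of (EtShriek.H0c (pullback.snd f η) ((EtCoh.pull (pullback.fst f η)).obj F))) := by
  let e := RingEquiv.ofBijective (IsLocalRing.residue Ω)
    ⟨(IsLocalRing.residue Ω).injective, IsLocalRing.residue_surjective⟩
  haveI : IsSepClosed (IsLocalRing.ResidueField Ω) :=
    haveI : IsAlgClosed (IsLocalRing.ResidueField Ω) := IsAlgClosed.of_ringEquiv Ω _ e
    inferInstance
  let c := Groth.Agent.EtShLib.closedPt Ω
  have hc : IsPullback (pullback.fst f η) (pullback.snd f η) f η := IsPullback.of_hasPullback f η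
  haveI : LocallyOfFiniteType (pullback.snd f η) := MorphismProperty.of_isPullback hc ‹_›
  obtain ⟨a⟩ := Groth.Agent.EtShLib.nonempty_stk_iso_of_eq (A := AddCommGrpCat.{u + 1}) (ξ := η) (ξ' := c ≫ η)
    (congrArg η.base (Subsingleton.elim (c.base default) default))
  obtain ⟨i⟩ := ShriekBCLib.nonempty_iso hc F
  let p := pullback.snd f η
  let G := (EtCoh.pull (pullback.fst f η)).obj F
  let V := EtCoh.top (Spec (CommRingCat.of Ω))
  let K := (EtCoh.pull η).obj ((Groth.Agent.EtShLib.preF f).obj F)
  haveI : IsIso (Groth.Agent.EtShLib.germ (A := AddCommGrpCat.{u + 1}) c K (EtCoh.top _)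
      (Groth.Agent.EtShLib.topPt Ω)) :=
    (ConcreteCategory.isIso_iff_bijective _).2 (Groth.Agent.EtShLib.bijective_germ_top Ω K)
  let r : G.obj.obj (op (EtCoh.top (pullback f η))) ≃+ G.obj.obj (op ((EtCoh.bc p).obj V)) :=
    (G.obj.mapIso (Groth.Agent.EtShLib.bcTop p).op).addCommGroupIsoToAddEquiv
  have hH : EtShriek.H0c p G = (EtShriek.shriekSubgroup p G V).comap r.toAddMonoidHom := by
    refine le_antisymm ((AddSubgroup.closure_le _).2 fun s hs =>
      (Groth.Agent.EtShLib.hasProperSupport_top_iff _ G s).1 hs) fun s hs => ?_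
    exact AddSubgroup.subset_closure ((Groth.Agent.EtShLib.hasProperSupport_top_iff _ G s).2 hs)
  let e₁ : EtShriek.H0c p G ≃+ EtShriek.shriekSubgroup p G V :=
    { toFun := fun s => ⟨r s.1, hH.le s.2⟩
      invFun := fun t => ⟨r.symm t.1, hH.ge (by
        show r (r.symm t.1) ∈ EtShriek.shriekSubgroup p G V
        rw [r.apply_symm_apply]; exact t.2)⟩
      left_inv := fun s => Subtype.ext (r.symm_apply_apply s.1)
      right_inv := fun t => Subtype.ext (r.apply_symm_apply t.1)
      map_add' := fun s t => Subtype.ext (r.map_add s.1 t.1) }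
  exact ⟨(Groth.Agent.EtShLib.stk (A := AddCommGrpCat.{u + 1}) η).mapIso
      ((Groth.Agent.EtShLib.lowerShriekIso f).app F) ≪≫
    a.app _ ≪≫ (Groth.Agent.EtShLib.stalkPull η c AddCommGrpCat.{u + 1}).app _ ≪≫
    (asIso (Groth.Agent.EtShLib.germ (A := AddCommGrpCat.{u + 1}) c K (EtCoh.top _)
      (Groth.Agent.EtShLib.topPt Ω))).symm ≪≫
    ((sheafToPresheaf _ _).mapIso i.symm).app (op V) ≪≫ e₁.symm.toAddCommGrpIso⟩

end Groth.Agent.S0688
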