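import Groth.Statements.S0696
import Groth.Agent.WLocalLib.Universal
-- import your own Groth.Agent.* helpers here

set_option autoImplicit false
open CategoryTheory CategoryTheory.Limits AlgebraicGeometry Opposite Topology
universe u
open ProEtW

namespace Groth.Agent.S0696

/-- Every ring A admits a faithfully flat ind-Zariski extension B whose spectrum is w-local with
extremally disconnected space of connected components. -/
theorem result (A : Type u) [CommRing A] :
    ∃ (B : Type u) (_ : CommRing B) (_ : Algebra A B),
      Module.FaithfullyFlat A B ∧ EtPBC.IsIndZariski A B ∧ ProEtW.IsWLocal (PrimeSpectrum B) ∧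
        ExtremallyDisconnected (_root_.ConnectedComponents (PrimeSpectrum B)) := by
  refine ⟨(WLocalLib.Chart.ed A).R, inferInstance, inferInstance, ?_, WLocalLib.Chart.isIndZariski _,
    WLocalLib.Chart.isWLocal _, ?_⟩
  · refine WLocalLib.Chart.faithfullyFlat _ fun m hm =>
      ⟨stoneCechUnit (WithTopology.toTopology _ ⟨m, hm.isPrime⟩), ?_⟩
    haveI : T2Space (WithConstructibleTopology (PrimeSpectrum A)) := (WLocalLib.Chart.cons A).t2
    exact congrArg (fun z : WithConstructibleTopology (PrimeSpectrum A) => z.ofTopology.asIdeal) (stoneCechExtend_stoneCechUnit _ _)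
  · haveI : ExtremallyDisconnected (WLocalLib.Chart.ed A).T :=
      CompactT2.Projective.extremallyDisconnected StoneCech.projective
    exact extremallyDisconnected_of_homeo (WLocalLib.Chart.componentsHomeo (WLocalLib.Chart.ed A)).symm

end Groth.Agent.S0696
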