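import Groth.Statements.S0698
import Groth.Agent.WLocalLib.Comp
-- import your own Groth.Agent.* helpers here

set_option autoImplicit false
open CategoryTheory CategoryTheory.Limits AlgebraicGeometry Opposite Topology
universe u
open ProEtW

namespace Groth.Agent.S0698

/-- Let A be a ring, X = Spec A and T a closed subset of pi_0(X). Then A has an ind-Zariski quotient
ring B (the map A -> B is surjective) whose spectrum maps homeomorphically onto the preimage of T in
X. -/
theorem result (A : Type u) [CommRing A]
    (T : Set (_root_.ConnectedComponents (PrimeSpectrum A))) (hT : IsClosed T) :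
    ∃ (B : Type u) (_ : CommRing B) (_ : Algebra A B),
      EtPBC.IsIndZariski A B ∧ Function.Surjective (algebraMap A B) ∧
      Topology.IsEmbedding (PrimeSpectrum.comap (algebraMap A B)) ∧
      Set.range (PrimeSpectrum.comap (algebraMap A B)) = _root_.ConnectedComponents.mk ⁻¹' T := by
  haveI : TotallySeparatedSpace (_root_.ConnectedComponents (PrimeSpectrum A)) :=
    totallySeparatedSpace_iff_exists_isClopen.2 fun x y hxy => by
      obtain ⟨p, rfl⟩ := ConnectedComponents.surjective_coe y
      obtain ⟨e, he, hep⟩ := WLocalLib.exists_compM (Ne.symm hxy)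
      exact ⟨_, WLocalLib.isClopen_compSet he.1, he, fun h => h.2 p rfl hep⟩
  haveI : CompactSpace T := isCompact_iff_compactSpace.1 hT.isCompact
  let g : C(T, _root_.ConnectedComponents (PrimeSpectrum A)) := ⟨Subtype.val, continuous_subtype_val⟩
  let c := WLocalLib.GChart.comp T g
  have hs : Function.Surjective (algebraMap A c.R) := WLocalLib.surjective_algebraMap_comp IsEmbedding.subtypeVal
  refine ⟨c.R, inferInstance, inferInstance, c.isIndZariski, hs,
    (PrimeSpectrum.isClosedEmbedding_comap_of_surjective _ (algebraMap A c.R) hs).isEmbedding, ?_⟩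
  refine Set.ext fun p => ⟨?_, fun hp => ?_⟩
  · rintro ⟨y, rfl⟩
    rw [Set.mem_preimage, ← WLocalLib.g_pi y]
    exact (WLocalLib.GChart.pi c y).2
  · obtain ⟨y, hy⟩ := (WLocalLib.range_comp (g := g)).ge (show (p, (⟨_, hp⟩ : T)) ∈ {q : PrimeSpectrum A × T | _root_.ConnectedComponents.mk q.1 = g q.2} from rfl)
    exact ⟨y, congrArg Prod.fst hy⟩

end Groth.Agent.S0698
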