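import Groth.Statements.S0703
import Groth.Agent.SpecProdLib.Basic

set_option autoImplicit false
open Topology
universe u
open ProEtW

namespace Groth.Agent.S0703

/-- Let X be a spectral space, T a profinite space and g : T -> pi_0(X) continuous; let Y be the fibre
product of X and T over pi_0(X) (pairs (x, t) with [x] = g t, subspace topology). Then Y is spectral
and the projection Y -> T induces a homeomorphism pi_0(Y) = T. -/
theorem result (X T : Type u) [TopologicalSpace X] [SpectralSpace X]
    [TopologicalSpace T] [CompactSpace T] [T2Space T] [TotallyDisconnectedSpace T]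
    (g : C(T, _root_.ConnectedComponents X)) :
    SpectralSpace {p : X × T // _root_.ConnectedComponents.mk p.1 = g p.2} ∧
      ∃ e : _root_.ConnectedComponents {p : X × T // _root_.ConnectedComponents.mk p.1 = g p.2} ≃ₜ T,
        ∀ y : {p : X × T // _root_.ConnectedComponents.mk p.1 = g p.2}, e (_root_.ConnectedComponents.mk y) = y.1.2 := by
  let Y := {p : X × T // _root_.ConnectedComponents.mk p.1 = g p.2}
  have hemb : IsClosedEmbedding (Subtype.val : Y → X × T) :=
    (isClosed_eq (ConnectedComponents.continuous_coe.comp continuous_fst)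
      (g.continuous.comp continuous_snd)).isClosedEmbedding_subtypeVal
  have hY : SpectralSpace Y := SpecProdLib.spectralSpace_of_isClosedEmbedding hemb
  refine ⟨hY, ?_⟩
  haveI : CompactSpace Y := hY.toCompactSpace
  have hcont : Continuous fun y : Y => y.1.2 := continuous_snd.comp continuous_subtype_val
  let e₀ : _root_.ConnectedComponents Y → T := hcont.connectedComponentsLift
  have he₀ : ∀ y : Y, e₀ (_root_.ConnectedComponents.mk y) = y.1.2 := fun y =>
    congrFun hcont.connectedComponentsLift_comp_coe y
  have hinj : Function.Injective e₀ := by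
    intro a b h
    obtain ⟨y, rfl⟩ := ConnectedComponents.surjective_coe a
    obtain ⟨⟨⟨x', t'⟩, hy'⟩, rfl⟩ := ConnectedComponents.surjective_coe b
    obtain ⟨⟨x, t⟩, hy⟩ := y
    simp only [he₀] at h
    subst h
    have hsame : x' ∈ connectedComponent x := ConnectedComponents.coe_eq_coe'.1 (hy'.trans hy.symm)
    have hmem : ∀ z ∈ connectedComponent x, _root_.ConnectedComponents.mk z = g t := fun z hz =>
      (ConnectedComponents.coe_eq_coe'.2 hz).trans hy
    let f : connectedComponent x → Y := fun z => ⟨(z.1, t), hmem z.1 z.2⟩
    have hf : Continuous f := by fun_prop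
    haveI : PreconnectedSpace (connectedComponent x) :=
      isPreconnected_iff_preconnectedSpace.1 isPreconnected_connectedComponent
    refine ConnectedComponents.coe_eq_coe'.2 ?_
    exact (isPreconnected_range hf).subset_connectedComponent
      (⟨⟨x', hsame⟩, rfl⟩ : (⟨(x', t), hy'⟩ : Y) ∈ Set.range f) ⟨⟨x, mem_connectedComponent⟩, rfl⟩
  have hsurj : Function.Surjective e₀ := fun t => by
    obtain ⟨x, hx⟩ := ConnectedComponents.surjective_coe (g t)
    exact ⟨_, he₀ ⟨(x, t), hx⟩⟩
  exact ⟨Continuous.homeoOfEquivCompactToT2 (f := Equiv.ofBijective e₀ ⟨hinj, hsurj⟩)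
    hcont.connectedComponentsLift_continuous, he₀⟩

end Groth.Agent.S0703
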