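import Groth.Statements.S0704
import Groth.Agent.SpecProdLib.Basic

set_option autoImplicit false
open Topology
universe u
open ProEtW

namespace Groth.Agent.S0704

/-- With X, T, g and the fibre product Y of X and T over pi_0(X) as in the first part, if X is moreover
w-local then Y is w-local, the projection Y -> X is w-local, and the closed points of Y are exactly
the points mapping to closed points of X. -/
theorem result (X T : Type u) [TopologicalSpace X]
    [TopologicalSpace T] [CompactSpace T] [T2Space T] [TotallyDisconnectedSpace T]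
    (hX : ProEtW.IsWLocal X) (g : C(T, _root_.ConnectedComponents X)) :
    ProEtW.IsWLocal {p : X × T // _root_.ConnectedComponents.mk p.1 = g p.2} ∧
      ProEtW.IsWLocalMap (fun y : {p : X × T // _root_.ConnectedComponents.mk p.1 = g p.2} => y.1.1) ∧
      ProEtW.closedPoints {p : X × T // _root_.ConnectedComponents.mk p.1 = g p.2} =
        (fun y : {p : X × T // _root_.ConnectedComponents.mk p.1 = g p.2} => y.1.1) ⁻¹' ProEtW.closedPoints X := by
  haveI := hX.1
  let Y := {p : X × T // _root_.ConnectedComponents.mk p.1 = g p.2}
  have hemb : IsClosedEmbedding (Subtype.val : Y → X × T) :=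
    (isClosed_eq (ConnectedComponents.continuous_coe.comp continuous_fst)
      (g.continuous.comp continuous_snd)).isClosedEmbedding_subtypeVal
  have hclosed : ∀ y : Y, IsClosed ({y} : Set Y) ↔ IsClosed ({y.1.1} : Set X) := by
    intro y
    rw [hemb.isClosed_iff_image_isClosed, Set.image_singleton]
    constructor
    · intro h
      have := h.preimage (Continuous.prodMk_left y.1.2)
      convert this using 1
      ext z
      simp [Prod.ext_iff]
    · intro h
      have := h.prod (isClosed_singleton (x := y.1.2))
      rwa [Set.singleton_prod_singleton] at this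
  have hset : ProEtW.closedPoints Y = (fun y : Y => y.1.1) ⁻¹' ProEtW.closedPoints X := Set.ext hclosed
  have hspec : IsSpectralMap fun y : Y => y.1.1 := by
    refine ⟨continuous_fst.comp continuous_subtype_val, fun U _ hUc => ?_⟩
    have : (fun y : Y => y.1.1) ⁻¹' U = Subtype.val ⁻¹' (U ×ˢ (Set.univ : Set T)) := by
      ext y
      simp
    rw [this]
    exact hemb.isCompact_preimage (hUc.prod isCompact_univ)
  refine ⟨⟨SpecProdLib.spectralSpace_of_isClosedEmbedding hemb, ?_, fun y => ?_⟩,
    ⟨hspec, fun y hy => (hclosed y).1 hy⟩, hset⟩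
  · show IsClosed (ProEtW.closedPoints Y)
    rw [hset]
    exact hX.2.1.preimage (continuous_fst.comp continuous_subtype_val)
  · obtain ⟨z, ⟨hzc, hzs⟩, hzu⟩ := hX.2.2 y.1.1
    have hmk : _root_.ConnectedComponents.mk y.1.1 = _root_.ConnectedComponents.mk z :=
      (hzs.map ConnectedComponents.continuous_coe).eq
    refine ⟨⟨(z, y.1.2), hmk.symm.trans y.2⟩, ⟨(hclosed _).2 hzc, ?_⟩, ?_⟩
    · rw [← hemb.isInducing.specializes_iff]
      exact hzs.prod le_rfl
    · rintro ⟨⟨z', t'⟩, hz'⟩ ⟨hc, hs⟩
      rw [← hemb.isInducing.specializes_iff] at hs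
      have ht : y.1.2 = t' := (hs.map continuous_snd).eq
      have hzz : z' = z := hzu z' ⟨(hclosed _).1 hc, hs.map continuous_fst⟩
      subst hzz
      exact Subtype.ext (Prod.ext rfl ht.symm)

end Groth.Agent.S0704
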