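import Groth.Statements.S0706
import Mathlib.RingTheory.Spectrum.Prime.Topology
import Mathlib.RingTheory.Localization.Basic
import Mathlib.RingTheory.Ideal.Maximal
import Mathlib.Tactic.Ring

set_option autoImplicit false
open CategoryTheory CategoryTheory.Limits AlgebraicGeometry Opposite Topology
universe u
open ProEtW

namespace Groth.Agent.S0706

/-- Let f be an element and I an ideal of A, and Z the intersection of D(f) and V(I) in Spec A. There is
a multiplicative subset S of A for which the image of Spec(S^{-1}A) in Spec A consists precisely of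
the points having a specialization in Z. -/
theorem result (A : Type u) [CommRing A] (f : A) (I : Ideal A) :
    ∃ S : Submonoid A,
      Set.range (PrimeSpectrum.comap (algebraMap A (Localization S))) =
        {x | ∃ z : PrimeSpectrum A,
          z ∈ (PrimeSpectrum.basicOpen f : Set (PrimeSpectrum A)) ∩ PrimeSpectrum.zeroLocus I ∧ x ⤳ z} := by
  classical
  let S : Submonoid A :=
    { carrier := {s | ∃ n : ℕ, f ^ n ∈ Ideal.span {s} ⊔ I}
      one_mem' := ⟨0, Ideal.mem_sup_left (by rw [Ideal.span_singleton_one]; trivial)⟩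
      mul_mem' := by
        rintro s t ⟨m, hm⟩ ⟨n, hn⟩
        refine ⟨m + n, ?_⟩
        obtain ⟨a, ha, i, hi, hmi⟩ := Submodule.mem_sup.1 hm
        obtain ⟨b, hb, j, hj, hnj⟩ := Submodule.mem_sup.1 hn
        obtain ⟨a, rfl⟩ := Ideal.mem_span_singleton'.1 ha
        obtain ⟨b, rfl⟩ := Ideal.mem_span_singleton'.1 hb
        rw [pow_add, ← hmi, ← hnj]
        refine Submodule.mem_sup.2 ⟨a * b * (s * t), Ideal.mem_span_singleton'.2 ⟨_, rfl⟩,
          a * s * j + i * (b * t + j), add_mem (I.mul_mem_left _ hj) (I.mul_mem_right _ hi), by ring⟩ }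
  refine ⟨S, ?_⟩
  rw [PrimeSpectrum.localization_comap_range (Localization S) S]
  ext x
  simp only [Set.mem_ofPred_eq, Set.mem_inter_iff, SetLike.mem_coe, PrimeSpectrum.mem_zeroLocus,
    PrimeSpectrum.mem_basicOpen, ← PrimeSpectrum.le_iff_specializes]
  constructor
  · intro h
    have hdis : Disjoint ((x.asIdeal ⊔ I : Ideal A) : Set A) (Submonoid.powers f : Set A) := by
      rw [Set.disjoint_right]
      rintro _ ⟨n, rfl⟩ hmem
      obtain ⟨s, hs, i, hi, hsi⟩ := Submodule.mem_sup.1 hmem
      exact Set.disjoint_left.1 h (show s ∈ S from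
        ⟨n, (show s + i = f ^ n from hsi) ▸ add_mem (Ideal.mem_sup_left (Ideal.mem_span_singleton_self s)) (Ideal.mem_sup_right hi)⟩) hs
    obtain ⟨z, hz, hle, hzd⟩ := Ideal.exists_le_prime_disjoint _ _ hdis
    exact ⟨⟨z, hz⟩, ⟨fun hf => Set.disjoint_left.1 hzd hf (Submonoid.mem_powers f),
      SetLike.coe_subset_coe.2 (le_sup_right.trans hle)⟩, le_sup_left.trans hle⟩
  · rintro ⟨z, ⟨hf, hI⟩, hle⟩
    rw [Set.disjoint_left]
    rintro s ⟨n, hn⟩ hs
    refine hf (z.isPrime.mem_of_pow_mem n ?_)
    exact (sup_le ((Ideal.span_singleton_le_iff_mem _).2 (hle hs)) hI : Ideal.span {s} ⊔ I ≤ z.asIdeal) hn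

end Groth.Agent.S0706
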