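import Groth.Statements.S0708
import Groth.Agent.EtDescLocLib.Basic
import Groth.Agent.WLocalLib.EtRetr
-- import your own Groth.Agent.* helpers here

set_option autoImplicit false
set_option linter.style.haveILetI false
set_option backward.isDefEq.respectTransparency false
open CategoryTheory CategoryTheory.Limits AlgebraicGeometry Opposite Topology
universe u
open ProEtW

namespace Groth.Agent.S0708

/-- Let A be a ring all of whose faithfully flat etale algebras have retractions, I an ideal with zero
set Z, and B a localization of A at a multiplicative subset such that the image of Spec B → Spec A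
is precisely the set of points of Spec A specializing to some point of Z. Then every faithfully flat
etale B-algebra has a retraction. -/
theorem result (A B : Type u) [CommRing A] [CommRing B]
    [Algebra A B] (S : Submonoid A) [IsLocalization S B] (I : Ideal A)
    (hB : Set.range (PrimeSpectrum.comap (algebraMap A B)) =
      {x | ∃ z : PrimeSpectrum A, z ∈ PrimeSpectrum.zeroLocus (R := A) I ∧ x ⤳ z})
    (hA : ProEtW.HasEtaleRetractions A) : ProEtW.HasEtaleRetractions B := by
  intro B' _ _ hff het
  letI : Algebra A B' := ((algebraMap B B').comp (algebraMap A B)).toAlgebra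
  haveI : IsScalarTower A B B' := IsScalarTower.of_algebraMap_eq fun _ => rfl
  obtain ⟨A', _, _, _, φ, hφ⟩ := EtDescLocLib.exists_etale (A := A) (B := B) (B' := B') S
  let f := PrimeSpectrum.comap (algebraMap A B)
  have hop : IsOpen (Set.range (PrimeSpectrum.comap (algebraMap A A'))) :=
    PrimeSpectrum.isOpenMap_comap_of_hasGoingDown_of_finitePresentation.isOpen_range
  obtain ⟨J, hJ⟩ := (PrimeSpectrum.isClosed_iff_zeroLocus_ideal _).1 hop.isClosed_compl
  have hZ : ∀ z ∈ PrimeSpectrum.zeroLocus (R := A) (I : Set A), z ∈ Set.range f := fun z hz => by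
    rw [hB]; exact ⟨z, hz, specializes_rfl⟩
  have hJI : J ⊔ I = ⊤ := by
    by_contra hne
    obtain ⟨m, hm, hle⟩ := Ideal.exists_le_maximal _ hne
    obtain ⟨y, hy⟩ := hZ ⟨m, hm.isPrime⟩ fun x hx => (le_sup_right.trans hle) hx
    obtain ⟨Q, hQ⟩ := PrimeSpectrum.comap_surjective_of_faithfullyFlat (A := B) (B := B') y
    have h1 : (⟨m, hm.isPrime⟩ : PrimeSpectrum A) ∈ (Set.range (PrimeSpectrum.comap (algebraMap A A')))ᶜ := by
      rw [hJ]; exact fun x hx => (le_sup_left.trans hle) hx
    refine h1 ⟨PrimeSpectrum.comap φ.toRingHom Q, ?_⟩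
    rw [← hy, ← hQ]
    refine PrimeSpectrum.ext (Ideal.ext fun a => ?_)
    show φ (algebraMap A A' a) ∈ Q.asIdeal ↔ algebraMap B B' (algebraMap A B a) ∈ Q.asIdeal
    rw [φ.commutes]; rfl
  obtain ⟨j, hj, g, hg, hjg⟩ := Submodule.mem_sup.1 (show (1 : A) ∈ J ⊔ I by rw [hJI]; trivial)
  haveI : Algebra.Etale A (Localization.Away g) := Algebra.Etale.of_isLocalizationAway g
  let P := ∀ b, WLocalLib.pairFam A' (Localization.Away g) b
  haveI : Algebra.Etale A P := inferInstance
  haveI : Module.FaithfullyFlat A P := by
    refine Module.FaithfullyFlat.of_comap_surjective fun p => ?_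
    by_cases hp : p ∈ Set.range (PrimeSpectrum.comap (algebraMap A A'))
    · obtain ⟨q, hq⟩ := hp
      exact ⟨PrimeSpectrum.comap (Pi.evalRingHom (WLocalLib.pairFam A' (Localization.Away g)) true) q, hq⟩
    · have hgp : g ∉ p.asIdeal := fun hgp => by
        have h2 : J ≤ p.asIdeal := by
          have : p ∈ (Set.range (PrimeSpectrum.comap (algebraMap A A')))ᶜ := hp
          rw [hJ] at this
          exact this
        exact p.2.ne_top ((Ideal.eq_top_iff_one _).2 (hjg ▸ p.asIdeal.add_mem (h2 hj) hgp))
      have : p ∈ Set.range (PrimeSpectrum.comap (algebraMap A (Localization.Away g))) := by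
        rw [PrimeSpectrum.localization_away_comap_range (Localization.Away g) g]
        exact hgp
      obtain ⟨q, hq⟩ := this
      exact ⟨PrimeSpectrum.comap (Pi.evalRingHom (WLocalLib.pairFam A' (Localization.Away g)) false) q, hq⟩
  obtain ⟨r⟩ := hA P inferInstance inferInstance
  let ρ : P →ₐ[A] B := (Algebra.ofId A B).comp r
  let e : P := Pi.single true 1
  obtain ⟨w, hw⟩ := (IsLocalization.map_units (M := Submonoid.powers g) (Localization.Away g) ⟨g, Submonoid.mem_powers g⟩).exists_right_inv
  let w' := ρ (Pi.single (M := WLocalLib.pairFam A' (Localization.Away g)) false w)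
  have h3 : algebraMap A B g * w' = 1 - ρ e := by
    rw [← ρ.commutes g, ← map_mul, show algebraMap A P g * Pi.single (M := WLocalLib.pairFam A' (Localization.Away g)) false w = (1 : P) - e from
      WLocalLib.single_false_eq (algebraMap A P g) w hw, map_sub, map_one]
  have hu : IsUnit (1 - algebraMap A B g * w') := by
    by_contra hu
    obtain ⟨m, hm, hle⟩ := exists_max_ideal_of_mem_nonunits hu
    haveI := hm
    let y : PrimeSpectrum B := ⟨m, hm.isPrime⟩
    obtain ⟨z, hz, hyz⟩ := hB.le (Set.mem_range_self y)
    obtain ⟨y', hy'⟩ := hZ z hz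
    have hspec : y ⤳ y' :=
      (PrimeSpectrum.localization_comap_isEmbedding B S).isInducing.specializes_iff.1 (show f y ⤳ f y' by rw [hy']; exact hyz)
    have hyy : y' = y := hspec.mem_closed ((PrimeSpectrum.isClosed_singleton_iff_isMaximal y).2 hm) rfl
    have hgm : algebraMap A B g ∈ m := by
      have h4 : g ∈ z.asIdeal := hz hg
      rw [← hy', hyy] at h4
      exact h4
    exact hm.ne_top ((Ideal.eq_top_iff_one m).2 (by simpa using m.add_mem hle (m.mul_mem_right w' hgm)))
  have hidem : ρ e * ρ e = ρ e := by
    rw [← map_mul, show e * e = e by simp only [e]; rw [WLocalLib.mul_single_one, Pi.single_eq_same]]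
  have h1 : ρ e = 1 := by
    have : (1 - algebraMap A B g * w') * (algebraMap A B g * w') = 0 := by
      rw [h3]; linear_combination (-1 : B) * hidem
    rw [hu.mul_right_eq_zero, h3] at this
    exact (sub_eq_zero.1 this).symm
  have key : ∀ x : P, ρ x = ρ (Pi.single true (x true)) := fun x => by
    have e' : (Pi.single true (x true) : P) = x * e := (WLocalLib.mul_single_one true x).symm
    rw [e', map_mul, h1, mul_one]
  exact hφ { toFun := fun u => ρ (Pi.single (M := WLocalLib.pairFam A' (Localization.Away g)) true u)
             map_one' := h1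
             map_mul' := fun u v => by rw [← map_mul, ← Pi.single_mul]
             map_zero' := by simp
             map_add' := fun u v => by rw [← map_add, ← Pi.single_add]
             commutes' := fun a => (key (algebraMap A P a)).symm.trans (ρ.commutes a) }

end Groth.Agent.S0708
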