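import Groth.Statements.S0711
import Groth.Agent.EtSmAcycLib.Apps
import Groth.Agent.EtSmAcycLib.LCLocal
import Groth.Agent.EtProperConsLib.Spec

set_option autoImplicit false
set_option backward.isDefEq.respectTransparency false
set_option backward.isDefEq.respectTransparency.types false
set_option maxHeartbeats 1000000
set_option synthInstance.maxHeartbeats 400000
open CategoryTheory CategoryTheory.Limits AlgebraicGeometry Opposite
open scoped TensorProduct
universe u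
open EtRest

namespace Groth.Agent.S0711

open Groth.Agent.EtShLib in
theorem isFLC_local {X S : Scheme.{u}} (f : X ⟶ S) [IsProper f] [Smooth f] (F : EtCoh.Ab X)
    (hF : EtCoh.IsFiniteLocallyConstant F)
    (htor : ∀ (Ω : Type u) [Field Ω] [IsSepClosed Ω] (ξ : Spec (CommRingCat.of Ω) ⟶ X),
      ∃ n : ℕ, 0 < n ∧ (n : Ω) ≠ 0 ∧ ∀ s : (EtCoh.stalk ξ).obj F, n • s = 0)
    (i : ℕ) : EtCoh.IsFiniteLocallyConstant ((EtCoh.Rpush f i).obj F) := by
  have hl := (isFLC_iff F).1 hF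
  refine (isFLC_iff _).2 (EtSmAcycLib.lc_of_open_cover _ _ fun s => ?_)
  choose O n hO hn0 hn hk using EtSmAcycLib.exists_open_stalksKilled hl htor
  have hc : IsCompact (f.base ⁻¹' {s}) := f.isCompact_preimage_singleton s
  obtain ⟨t, hts, htc⟩ := hc.elim_nhds_subcover (fun x => (O x : Set X)) (fun x _ => (O x).2.mem_nhds (hO x))
  let N : ℕ := ∏ x ∈ t, n x
  have hN0 : 0 < N := Finset.prod_pos fun x _ => hn0 x
  let A : X.Opens := ⨆ x ∈ t, O x
  let C : Set S := f.base '' ((A : Set X)ᶜ)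
  have hC : IsClosed C := f.isClosedMap _ A.2.isClosed_compl
  have hsC : s ∉ C := by
    rintro ⟨x, hx, hxs⟩
    refine hx ?_
    obtain ⟨a, ha, hxa⟩ := Set.mem_iUnion₂.1 (htc hxs)
    exact TopologicalSpace.Opens.mem_iSup.2 ⟨a, TopologicalSpace.Opens.mem_iSup.2 ⟨ha, hxa⟩⟩
  have hs0 : (N : S.residueField s) ≠ 0 := by
    rw [Nat.cast_prod]
    refine Finset.prod_ne_zero_iff.2 fun x hx h0 => hn x ?_
    have hxs : f.base x = s := hts x hx
    subst hxs
    rw [← map_natCast (f.residueFieldMap x).hom, h0, map_zero]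
  let V : S.Opens := ⟨Cᶜ, hC.isOpen_compl⟩ ⊓ S.basicOpen (N : Γ(S, ⊤))
  have hsV : s ∈ V := ⟨hsC, (EtSmAcycLib.mem_basicOpen_natCast s N).2 (EtSmAcycLib.isUnit_natCast_stalk s N hs0)⟩
  refine ⟨V, hsV, ?_⟩
  have hk' : EtSmAcycLib.StalksKilled F ((f ⁻¹ᵁ V : X.Opens) : Set X) N := by
    intro Ω _ _ ξ hξ z
    obtain ⟨x, hx⟩ : ∃ x, ξ.base default = x := ⟨_, rfl⟩
    have hxA : x ∈ A := by
      by_contra hxA
      exact hξ.1 ⟨x, hxA, by rw [← hx]⟩
    obtain ⟨a, hxa⟩ := TopologicalSpace.Opens.mem_iSup.1 hxA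
    obtain ⟨ha, hxa⟩ := TopologicalSpace.Opens.mem_iSup.1 hxa
    exact EtSmAcycLib.stalksKilled_mono (hk a) (Finset.dvd_prod_of_mem n ha) Ω ξ (hx ▸ hxa) z
  let f' := f ∣_ V
  let F' := (EtCoh.pull (f ⁻¹ᵁ V).ι).obj F
  have hK := EtSmAcycLib.killedBy_pull (f ⁻¹ᵁ V) hk'
  haveI := EtSliceLib.pullExact (f ⁻¹ᵁ V).ι
  haveI : IsProper f' := MorphismProperty.of_isPullback (isPullback_morphismRestrict f V).flip inferInstance
  haveI : Smooth f' := inferInstance
  have hne : ∀ x : (f ⁻¹ᵁ V).toScheme, (N : (f ⁻¹ᵁ V).toScheme.residueField x) ≠ 0 := fun x => by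
    have h1 := (EtSmAcycLib.mem_basicOpen_natCast (f.base x.1) N).1 x.2.2
    have h2 := h1.map ((f.stalkMap x.1).hom)
    rw [map_natCast] at h2
    have h3 : IsUnit (N : (f ⁻¹ᵁ V).toScheme.presheaf.stalk x) := by
      have := h2.map ((f ⁻¹ᵁ V).ι.stalkMap x).hom
      rwa [map_natCast] at this
    have h4 := h3.map (IsLocalRing.residue ((f ⁻¹ᵁ V).toScheme.presheaf.stalk x))
    rw [map_natCast] at h4
    exact h4.ne_zero
  have hT : EtAcyc.IsLTorsion (EtAcyc.primesInvertibleOn (f ⁻¹ᵁ V).toScheme) F' := fun U s x =>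
    ⟨U, 𝟙 U, N, ⟨x, rfl⟩, ⟨hN0, fun p hp hd => ⟨hp, fun x h0 => hne x (by
      obtain ⟨c, hc⟩ := hd
      rw [hc, Nat.cast_mul, h0, zero_mul])⟩⟩, hK U _⟩
  have hlc : EtCoh.IsFiniteLocallyConstant F' := (isFLC_iff _).2 hl.pull
  have h1 := (isFLC_iff _).1 (EtProperConsLib.isFLC_Rpush f' (EtAcyc.primesInvertibleOn _) i
    (EtSmAcycLib.isLocAcyclic_of_smooth f' i) F' hT hlc i le_rfl)
  haveI := EtBcQLib.isIso_bcQ_etale f V.ι f' (f ⁻¹ᵁ V).ι (isPullback_morphismRestrict f V).flip i F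
  exact h1.of_stalk_iso (inv (EtBC.bcQ f V.ι f' (f ⁻¹ᵁ V).ι (isPullback_morphismRestrict f V).flip.w i F))



/-- For a smooth proper f : X -> S and a finite locally constant abelian sheaf F on X_et each of whose
geometric stalks is killed by a positive integer that is invertible in the residue field at that
point, all the higher direct images R^i f_* F are again finite locally constant. -/
theorem result {X S : Scheme.{u}} (f : X ⟶ S)
    [IsProper f] [Smooth f] (F : EtCoh.Ab X) (hF : EtCoh.IsFiniteLocallyConstant F)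
    (htor : ∀ (Ω : Type u) [Field Ω] [IsSepClosed Ω] (ξ : Spec (CommRingCat.of Ω) ⟶ X),
      ∃ n : ℕ, 0 < n ∧ (n : Ω) ≠ 0 ∧ ∀ s : (EtCoh.stalk ξ).obj F, n • s = 0)
    (i : ℕ) : EtCoh.IsFiniteLocallyConstant ((EtCoh.Rpush f i).obj F) := by
  exact isFLC_local f F hF htor i

end Groth.Agent.S0711
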