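import Groth.Statements.S0729
import Mathlib.AlgebraicGeometry.Sites.Proetale
import Mathlib.AlgebraicGeometry.Sites.Etale
import Mathlib.CategoryTheory.Sites.CoverPreserving
import Mathlib.CategoryTheory.Limits.Preserves.Finite

set_option autoImplicit false
open CategoryTheory CategoryTheory.Limits AlgebraicGeometry Opposite
universe u
open ProEtS

namespace Groth.Agent.S0729

/-- Every étale covering of a scheme X is a pro-étale covering, in the form used to define the
comparison morphism of sites ε : X_proét → X_ét: the inclusion functor from the small étale site of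
X to the small pro-étale site of X is continuous. -/
theorem result (X : Scheme.{u}) : ProEtS.EpsCont X := by
  haveI : PreservesFiniteLimits (Scheme.Etale.forget X) :=
    inferInstanceAs (PreservesFiniteLimits (MorphismProperty.Over.forget EtCoh.etaleMP.{u} ⊤ X))
  haveI : PreservesFiniteLimits (eps X ⋙ Scheme.ProEt.forget X) :=
    preservesFiniteLimits_of_natIso (NatIso.ofComponents (fun U => Iso.refl _) : Scheme.Etale.forget X ≅ _)
  haveI : PreservesFiniteLimits (eps X) :=
    preservesFiniteLimits_of_reflects_of_preserves (eps X) (Scheme.ProEt.forget X)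
  haveI : RepresentablyFlat (eps X) := flat_of_preservesFiniteLimits _
  show (eps X).IsContinuous X.smallEtaleTopology (Scheme.ProEt.topology X)
  rw [Functor.isContinuous_iff_coverPreserving]
  refine ⟨fun {U R} hR => ?_⟩
  have hR' : R ∈ (X.smallPretopology (P := EtCoh.etaleMP.{u}) (Q := EtCoh.etaleMP.{u})).toGrothendieck U := by
    rw [← Scheme.smallGrothendieckTopology_eq_toGrothendieck_smallPretopology _ le_rfl]
    exact hR
  choose Y g y hg hP hy using (Scheme.mem_toGrothendieck_smallPretopology (P := EtCoh.etaleMP.{u}) (Q := EtCoh.etaleMP.{u}) U R).1 hR'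
  have hmem : Presieve.ofArrows (fun x => (eps X).obj (Y x)) (fun x => (eps X).map (g x)) ∈
      Scheme.ProEt.precoverage X ((eps X).obj U) := by
    rw [Scheme.ProEt.precoverage, Precoverage.mem_comap_iff, Presieve.map_ofArrows]
    refine Scheme.etalePrecoverage_le_proetalePrecoverage _ ?_
    exact (Scheme.ofArrows_mem_precoverage_iff _).2 ⟨fun x => ⟨x, y x, hy x⟩, hP⟩
  refine GrothendieckTopology.superset_covering _ ?_ (Precoverage.generate_mem_toGrothendieck hmem)
  rw [Sieve.generate_le_iff]
  rintro W m ⟨x⟩
  exact Sieve.image_mem_functorPushforward (eps X) R (hg x)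

end Groth.Agent.S0729
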