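import Groth.Statements.S0735
import Groth.Agent.IndEtLib.Basic
import Mathlib.CategoryTheory.Filtered.Connected

set_option autoImplicit false
open CategoryTheory CategoryTheory.Limits AlgebraicGeometry Opposite Topology
universe u
open ProEtW

namespace Groth.Agent.S0735

/-- If A -> B and A -> C are ind-etale and C is a B-algebra compatibly with A, then C is ind-etale over
B. -/
theorem result (A B C : Type u) [CommRing A] [CommRing B]
    [CommRing C] [Algebra A B] [Algebra B C] [Algebra A C] [IsScalarTower A B C]
    (hB : EtPBC.IsIndEtale A B) (hC : EtPBC.IsIndEtale A C) : EtPBC.IsIndEtale B C := by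
  rw [IndEtLib.isIndEtale_iff] at hB hC ⊢
  obtain ⟨J, _, _, D, t, s, hs, hts⟩ := hB
  rw [← MorphismProperty.ind_ind IndEtLib.et_le.{u}]
  haveI : IsConnected J := IsFiltered.isConnected J
  refine IndEtLib.ind_of_colimit_arrows (MorphismProperty.ind IndEtLib.Et)
    ({ app := fun j => s.app j ≫ CommRingCat.ofHom (algebraMap B C)
       naturality := fun i k a => by
        have := s.naturality a
        simp only [Functor.const_obj_map] at this ⊢
        rw [reassoc_of% this]
        erw [Category.id_comp, Category.comp_id] } : D ⟶ (Functor.const J).obj (CommRingCat.of C))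
    (c₁ := ⟨_, s⟩) hs (c₂ := constCocone J (CommRingCat.of C)) (isColimitConstCocone J _)
    (CommRingCat.ofHom (algebraMap B C)) (fun j => Category.comp_id _) fun j => ?_
  refine IndEtLib.ind_of_precomp IndEtLib.Et IndEtLib.et_le IndEtLib.et_cancel (t.app j) _ (hts j).1 ?_
  have h1 : t.app j ≫ s.app j ≫ CommRingCat.ofHom (algebraMap B C) = CommRingCat.ofHom (algebraMap A C) := by
    rw [reassoc_of% (hts j).2, IsScalarTower.algebraMap_eq A B C]
    rfl
  rw [← h1] at hC
  exact hC

end Groth.Agent.S0735
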