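import Groth.Statements.S0737
import Groth.Agent.WLocalLib.Quot
import Groth.Agent.WLocalLib.IndZar
-- import your own Groth.Agent.* helpers here

set_option autoImplicit false
open CategoryTheory CategoryTheory.Limits AlgebraicGeometry Opposite Topology
universe u
open ProEtW

namespace Groth.Agent.S0737

/-- Let Spec A be w-local with radical ideal I cutting out its closed points, and A -> B inducing
algebraic residue field extensions. Then (1) every point of V(IB) is closed in Spec B, and (2) there
is an ind-Zariski B-algebra C with B/IB -> C/IC bijective, Spec C w-local, Spec C -> Spec A w-local,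
and closed points of Spec C exactly the points over closed points of Spec A. -/
theorem result (A B : Type u) [CommRing A]
    [CommRing B] [Algebra A B] (hA : ProEtW.IsWLocal (PrimeSpectrum A)) (I : Ideal A) (hI : I.IsRadical)
    (hI0 : PrimeSpectrum.zeroLocus (R := A) I = ProEtW.closedPoints (PrimeSpectrum A))
    (h : ProEtW.AlgebraicResidueExtensions A B) :
    PrimeSpectrum.zeroLocus (R := B) (I.map (algebraMap A B)) ⊆ ProEtW.closedPoints (PrimeSpectrum B) ∧
    ∃ (C : Type u) (_ : CommRing C) (_ : Algebra B C) (_ : Algebra A C) (_ : IsScalarTower A B C),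
      EtPBC.IsIndZariski B C ∧
      Function.Bijective (Ideal.quotientMap ((I.map (algebraMap A B)).map (algebraMap B C))
        (algebraMap B C) Ideal.le_comap_map) ∧
      ProEtW.IsWLocal (PrimeSpectrum C) ∧
      ProEtW.IsWLocalMap (PrimeSpectrum.comap (algebraMap A C)) ∧
      ProEtW.closedPoints (PrimeSpectrum C) =
        PrimeSpectrum.comap (algebraMap A C) ⁻¹' ProEtW.closedPoints (PrimeSpectrum A) := by
  let J := I.map (algebraMap A B)
  have hmax : ∀ Q ∈ PrimeSpectrum.zeroLocus (R := B) (J : Set B), Q.asIdeal.IsMaximal := fun Q hQ => by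
    have hp : (PrimeSpectrum.comap (algebraMap A B) Q).asIdeal.IsMaximal := by
      refine (PrimeSpectrum.isClosed_singleton_iff_isMaximal _).1 (?_ : _ ∈ ProEtW.closedPoints _)
      rw [← hI0]
      exact Ideal.map_le_iff_le_comap.1 hQ
    haveI : (Q.asIdeal.comap (algebraMap A B)).IsMaximal := hp
    letI := Ideal.Quotient.field (Q.asIdeal.comap (algebraMap A B))
    haveI := h Q.asIdeal
    haveI : Algebra.IsIntegral (A ⧸ Q.asIdeal.comap (algebraMap A B)) (B ⧸ Q.asIdeal) := Algebra.IsAlgebraic.isIntegral
    exact Ideal.Quotient.maximal_of_isField _ (isField_of_isIntegral_of_isField' (Field.toIsField (A ⧸ Q.asIdeal.comap (algebraMap A B))))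
  refine ⟨fun Q hQ => (PrimeSpectrum.isClosed_singleton_iff_isMaximal Q).2 (hmax Q hQ), ?_⟩
  let c := WLocalLib.Chart.ofIdeal J hmax
  have hcl : ProEtW.closedPoints (PrimeSpectrum c.R) =
      PrimeSpectrum.comap ((algebraMap B c.R).comp (algebraMap A B)) ⁻¹' ProEtW.closedPoints (PrimeSpectrum A) := by
    rw [WLocalLib.Chart.closedPoints_ofIdeal, ← hI0]
    ext Q
    exact Ideal.map_le_iff_le_comap
  letI : Algebra A c.R := ((algebraMap B c.R).comp (algebraMap A B)).toAlgebra
  refine ⟨c.R, inferInstance, inferInstance, inferInstance, IsScalarTower.of_algebraMap_eq fun _ => rfl,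
    WLocalLib.Chart.isIndZariski _, WLocalLib.Chart.bijective_quotientMap_ofIdeal J hmax,
    WLocalLib.Chart.isWLocal _, ⟨WLocalLib.isSpectralMap_comap _, fun Q hQ => ?_⟩, hcl⟩
  exact (hcl.le hQ : _)

end Groth.Agent.S0737
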