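import Groth.Statements.S0738
import Mathlib.Topology.Spectral.Basic
import Mathlib.Topology.Sober

set_option autoImplicit false
open Topology
universe u
open ProEtW

namespace Groth.Agent.S0738

/-- A closed subset of a w-local spectral space is w-local (with the subspace topology). -/
theorem result (X : Type u) [TopologicalSpace X] (hX : ProEtW.IsWLocal X)
    (Y : Set X) (hY : IsClosed Y) : ProEtW.IsWLocal ↥Y := by
  obtain ⟨hspec, hcl, huniq⟩ := hX
  haveI := hspec
  have he : IsClosedEmbedding (Subtype.val : Y → X) := hY.isClosedEmbedding_subtypeVal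
  have hlift : ∀ U : Set Y, IsOpen U → IsCompact U →
      ∃ W : Set X, IsOpen W ∧ IsCompact W ∧ Subtype.val ⁻¹' W = U := by
    intro U hU hUc
    obtain ⟨W, hW, rfl⟩ := isOpen_induced_iff.1 hU
    obtain ⟨S, hS, rfl⟩ := (PrespectralSpace.isTopologicalBasis (X := X)).open_eq_sUnion hW
    obtain ⟨T, hT, hTfin, hcov⟩ := (hUc.image continuous_subtype_val).elim_finite_subcover_image
      (b := S) (c := fun V => V) (fun V hV => (hS hV).1) (by
        rintro _ ⟨y, hy, rfl⟩
        obtain ⟨V, hV, hyV⟩ := hy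
        exact Set.mem_iUnion₂.2 ⟨V, hV, hyV⟩)
    refine ⟨⋃ V ∈ T, V, isOpen_biUnion fun V hV => (hS (hT hV)).1,
      hTfin.isCompact_biUnion fun V hV => (hS (hT hV)).2, Set.Subset.antisymm (fun y hy => ?_) fun y hy => ?_⟩
    · obtain ⟨V, hV, hyV⟩ := Set.mem_iUnion₂.1 hy
      exact ⟨V, hT hV, hyV⟩
    · exact hcov ⟨y, hy, rfl⟩
  have hsp : SpectralSpace Y :=
    { toT0Space := he.isEmbedding.t0Space
      toCompactSpace := isCompact_iff_compactSpace.1 hY.isCompact
      toQuasiSober := he.quasiSober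
      toQuasiSeparatedSpace := ⟨fun U V hU hUc hV hVc => by
        obtain ⟨W, hW, hWc, rfl⟩ := hlift U hU hUc
        obtain ⟨W', hW', hWc', rfl⟩ := hlift V hV hVc
        exact he.isCompact_preimage (hWc.inter_of_isOpen hWc' hW hW')⟩
      toPrespectralSpace := PrespectralSpace.of_isClosedEmbedding _ he }
  have hpt : ∀ y : Y, IsClosed ({y} : Set Y) ↔ IsClosed ({y.1} : Set X) := fun y => by
    rw [he.isClosed_iff_image_isClosed, Set.image_singleton]
  refine ⟨hsp, ?_, fun y => ?_⟩
  · rw [show {y : Y | IsClosed ({y} : Set Y)} = Subtype.val ⁻¹' {x : X | IsClosed ({x} : Set X)} from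
      Set.ext hpt]
    exact hcl.preimage continuous_subtype_val
  · obtain ⟨z, ⟨hz, hyz⟩, hu⟩ := huniq y.1
    have hzY : z ∈ Y := hyz.mem_closed hY y.2
    refine ⟨⟨z, hzY⟩, ⟨(hpt _).2 hz, (subtype_specializes_iff _ _).2 hyz⟩, ?_⟩
    rintro w ⟨hw, hyw⟩
    exact Subtype.ext (hu w.1 ⟨(hpt _).1 hw, (subtype_specializes_iff _ _).1 hyw⟩)

end Groth.Agent.S0738
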