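import Groth.Statements.S0749
import Groth.Agent.EtClosedPtLib.Main
-- import your own Groth.Agent.* helpers here

set_option autoImplicit false
open CategoryTheory CategoryTheory.Limits AlgebraicGeometry Opposite
open scoped TensorProduct
universe u
attribute [local instance] HasDerivedCategory.standard
open EtRest

namespace Groth.Agent.S0749
open CategoryTheory.Limits


/-- Let K be a separably closed field, X of finite type over K and Q an object of D(X_et) whose
cohomology sheaves have zero stalks at every geometric point lying over a non-closed point of X.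
Then Q = 0 if and only if H^i(X, Q) = Hom(Z, Q[i]) vanishes for all integers i. -/
theorem result {K : Type u} [Field K] [IsSepClosed K]
    {X : Scheme.{u}} (a : X ⟶ Spec (CommRingCat.of K)) [LocallyOfFiniteType a] [QuasiCompact a]
    (Q : DCoh.DEt X)
    (hQ : ∀ (x : ↥X), ¬ IsClosed ({x} : Set ↥X) → ∀ (Ω : Type u) [Field Ω] [IsSepClosed Ω]
      (ξ : Spec (CommRingCat.of Ω) ⟶ X), Set.range ξ.base = {x} →
        ∀ i : ℤ, IsZero ((EtCoh.stalk ξ).obj (DCoh.HDEt Q i))) :
    IsZero Q ↔ ∀ i : ℤ, Subsingleton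
      ((DerivedCategory.singleFunctor (EtCoh.Ab X) 0).obj (EtCoh.const X ℤ) ⟶ (shiftFunctor (DCoh.DEt X) i).obj Q) := by
  refine ⟨fun h i => ⟨fun f g => ((shiftFunctor (DCoh.DEt X) i).map_isZero h).eq_of_tgt _ _⟩, fun h => ?_⟩
  haveI : IsLocallyNoetherian X := LocallyOfFiniteType.isLocallyNoetherian a
  obtain ⟨C, ⟨e⟩⟩ : ∃ C : CochainComplex (EtCoh.Ab X) ℤ, Nonempty (DerivedCategory.Q.obj C ≅ Q) :=
    ⟨_, ⟨DerivedCategory.Q.objObjPreimageIso Q⟩⟩
  let eh := fun j : ℤ => (((DerivedCategory.homologyFunctor (EtCoh.Ab X) j).mapIso e).symm ≪≫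
    (DerivedCategory.homologyFunctorFactors (EtCoh.Ab X) j).app C)
  have hs : ∀ j : ℤ, SkySumLib.SuppClosed (C.homology j) := fun j Ω _ _ ξ hξ =>
    (hQ (ξ.base default) hξ Ω ξ (Set.range_unique (f := ξ.base)) j).of_iso
      ((EtCoh.stalk ξ).mapIso (eh j)).symm
  have hG : ∀ (W : EtClosedPtLib.Aff X) (j : ℤ), DerLiftLib.Acy.{u + 1} (EtSliceLib.free W.1) (C.homology j) :=
    fun W j => EtClosedPtLib.acy_free a (hs j) W.1 W.2
  have hP : ∀ j : ℤ, DerLiftLib.Acy.{u + 1} (EtCoh.const X ℤ) (C.homology j) :=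
    fun j => EtClosedPtLib.acy_const a (hs j)
  have hzero : ∀ j : ℤ, IsZero (C.homology j) := fun j => EtClosedPtLib.isZero_of_const a (hs j) fun m => by
    by_contra hm
    obtain ⟨x, hx⟩ := DerLiftLib.exists_hom (fun W : EtClosedPtLib.Aff X => EtSliceLib.free W.1)
      (fun f hf => EtClosedPtLib.hom_eq_zero f hf) hG hP m hm
    haveI := h j
    apply hx
    rw [← cancel_mono e.hom, zero_comp]
    apply (shiftFunctor (DCoh.DEt X) j).map_injective
    rw [← cancel_epi (((DerivedCategory.singleFunctors (EtCoh.Ab X)).shiftIso j 0 j (by omega)).inv.app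
      (EtCoh.const X ℤ))]
    exact Subsingleton.elim (α := ((DerivedCategory.singleFunctor (EtCoh.Ab X) 0).obj (EtCoh.const X ℤ) ⟶
      (shiftFunctor (DCoh.DEt X) j).obj Q)) _ _
  refine IsZero.of_iso ?_ e.symm
  rw [IsZero.iff_id_eq_zero]
  have : QuasiIso (0 : C ⟶ C) := ⟨fun j => by
    rw [quasiIsoAt_iff_isIso_homologyMap]
    exact (hzero j).isIso (hzero j) _⟩
  haveI : IsIso (DerivedCategory.Q.map (0 : C ⟶ C)) := inferInstance
  rw [← cancel_epi (DerivedCategory.Q.map (0 : C ⟶ C)), Category.comp_id, comp_zero, Functor.map_zero]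


end Groth.Agent.S0749
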