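import Groth.Statements.S0762
import Groth.Agent.LocAcycBCLib.Main

set_option autoImplicit false
open CategoryTheory CategoryTheory.Limits AlgebraicGeometry Opposite
open scoped TensorProduct
universe u
open EtRest

namespace Groth.Agent.S0762

/-- In the case of an integral base change and for constant coefficients: if f : X -> S is locally
acyclic and g : S' -> S is integral, then the base change f' : X x_S S' -> S' is locally acyclic. -/
theorem result {X S S' : Scheme.{u}} (f : X ⟶ S) (g : S' ⟶ S)
    [IsIntegralHom g] (hf : EtRest.IsLocallyAcyclic f) :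
    EtRest.IsLocallyAcyclic (pullback.snd f g) := by
  refine LocAcycBCLib.isLocallyAcyclic_baseChange f g (fun s' => ?_) hf
  obtain ⟨U, hU, hs, -⟩ := exists_isAffineOpen_mem_and_subset (x := g.base s') (U := ⊤) trivial
  refine ⟨U, g ⁻¹ᵁ U, hU, hU.preimage g, le_rfl, hs, ?_⟩
  letI := (g.appLE U (g ⁻¹ᵁ U) le_rfl).hom.toAlgebra
  intro s
  haveI : Algebra.IsIntegral Γ(S, U) Γ(S', g ⁻¹ᵁ U) := ⟨by
    have h := g.isIntegral_app U hU
    rw [← Scheme.Hom.appLE_eq_app] at h
    exact h⟩
  let B₀ := Algebra.adjoin Γ(S, U) (↑s : Set Γ(S', g ⁻¹ᵁ U))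
  haveI : Module.Finite Γ(S, U) ↥B₀ := Module.Finite.iff_fg.mpr
    (fg_adjoin_of_finite s.finite_toSet fun x _ => Algebra.IsIntegral.isIntegral x)
  exact ⟨B₀, Algebra.subset_adjoin, inferInstance, inferInstance⟩

end Groth.Agent.S0762
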