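import Groth.Statements.S0772
import Groth.Agent.EtPBCCdLib.Main
import Groth.Agent.EtBcDLib.Basic
import Groth.Agent.EtBcBridgeLib.Main
-- import your own Groth.Agent.* helpers here

set_option autoImplicit false
open CategoryTheory CategoryTheory.Limits AlgebraicGeometry Opposite
universe u
attribute [local instance] HasDerivedCategory.standard
open EtRest

namespace Groth.Agent.S0772

/-- On a torsion abelian sheaf F in degree 0: let f : X -> Y be quasi-finite and separated with X, Y
quasi-compact quasi-separated and c a compactification. Then the degree-0 cohomology sheaf of Rf_! F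
(computed through c) is isomorphic to f_! F (sections with proper support) and the other cohomology
sheaves vanish. (The left exactness of j_! and the existence of the unbounded derived direct image
along the compactification are assumed as hypotheses.) -/
theorem result {X Y : Scheme.{u}} [CompactSpace ↥X] [QuasiSeparatedSpace ↥X] [CompactSpace ↥Y] [QuasiSeparatedSpace ↥Y]
    (f : X ⟶ Y) [IsSeparated f] [LocallyOfFiniteType f] [LocallyQuasiFinite f] [QuasiCompact f] (c : DEt.Compactification f)
    [PreservesFiniteLimits (EtShriek.extZero c.j)] [DCoh.HasRpushEt c.Xbar c.fbar]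
    (F : EtCoh.Ab X) (hF : EtCoh.IsTorsion F) :
    Nonempty (DCoh.HDEt ((DEt.Rshriek c).obj ((DerivedCategory.singleFunctor (EtCoh.Ab X) 0).obj F)) 0 ≅
      (EtShriek.lowerShriek f).obj F) ∧
    ∀ n : ℤ, n ≠ 0 → IsZero (DCoh.HDEt ((DEt.Rshriek c).obj ((DerivedCategory.singleFunctor (EtCoh.Ab X) 0).obj F)) n) := by
  haveI : PreservesFiniteColimits (EtShriek.extZero c.j) := by
    haveI : (EtShriek.extZero c.j).IsLeftAdjoint := (EtShriek.extZeroAdj c.j).isLeftAdjoint
    infer_instance
  let G := (EtShriek.extZero c.j).obj F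
  let e₀ : (DEt.extZeroD c.j).obj ((DerivedCategory.singleFunctor (EtCoh.Ab X) 0).obj F) ≅ EtBC.single c.Xbar G :=
    ((EtShriek.extZero c.j).mapDerivedCategorySingleFunctor 0).app F
  haveI : LocallyQuasiFinite (c.j ≫ c.fbar) := by rw [c.fac]; infer_instance
  let e₁ := Groth.Agent.EtShLib.extZeroPreIso c.j ≪≫ (Groth.Agent.EtShLib.lowerShriekIso c.j).symm
  have hz : ∀ q : ℕ, 0 < q → IsZero ((EtCoh.Rpush c.fbar q).obj G) := fun q hq =>
    (EtPBCProperLib.isZero_Rpush_lowerShriek c.j c.fbar F hF q hq).of_iso ((EtCoh.Rpush c.fbar q).mapIso (e₁.app F))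
  haveI : PreservesLimitsOfSize.{0, 0} (EtCoh.push c.fbar) := (EtCoh.pullPushAdj c.fbar).rightAdjoint_preservesLimits
  haveI : PreservesFiniteLimits (EtCoh.push c.fbar) := PreservesLimitsOfSize.preservesFiniteLimits _
  let H := fun n : ℤ => (DerivedCategory.homologyFunctor (EtCoh.Ab Y) n).mapIso ((DCoh.RpushEt c.Xbar c.fbar).mapIso e₀)
  refine ⟨?_, fun n hn => ?_⟩
  · obtain ⟨a⟩ := EtBcDLib.nonempty_homology_rpush_single c.fbar G 0
    obtain ⟨b⟩ := EtPBCProperLib.nonempty_lowerShriek_comp c.j c.fbar F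
    rw [c.fac] at b
    exact ⟨H 0 ≪≫ a ≪≫ (EtCoh.push c.fbar).rightDerivedZeroIsoSelf.app G ≪≫
      (EtCoh.push c.fbar).mapIso (e₁.app F) ≪≫ b.symm⟩
  · rcases lt_or_gt_of_ne hn with h | h
    · exact (EtBcBridgeLib.isZero_homology_rpush_single c.fbar G n h).of_iso (H n)
    · obtain ⟨q, rfl⟩ := Int.eq_ofNat_of_zero_le h.le
      obtain ⟨a⟩ := EtBcDLib.nonempty_homology_rpush_single c.fbar G q
      exact (hz q (by omega)).of_iso (H q ≪≫ a)

end Groth.Agent.S0772
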