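import Groth.Statements.S0778
import Groth.Agent.WLocalLib.Retr
-- import your own Groth.Agent.* helpers here

set_option autoImplicit false
open CategoryTheory CategoryTheory.Limits AlgebraicGeometry Opposite Topology
universe u
open ProEtW

namespace Groth.Agent.S0778

/-- A ring A is w-contractible (retractions for faithfully flat weakly etale algebras) if and only if
every faithfully flat ind-etale A-algebra has an A-algebra retraction. -/
theorem result (A : Type u) [CommRing A] :
    EtPBC.IsWContractible A ↔ ProEtW.HasIndEtaleRetractions A := by
  refine ⟨fun h B _ _ hff hB => h B hff (IndEtLib.weaklyEtale_of_isIndEtale A B hB), fun h => ?_⟩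
  exact WLocalLib.isWContractible_of_retractions
    (fun B _ _ hff hB => h B hff (WLocalLib.isIndEtale_of_isIndZariski hB))
    (fun B _ _ hff hB => h B hff (WLocalLib.isIndEtale_of_etale A B))

end Groth.Agent.S0778
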