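import Groth.Statements.S0781
-- import your own Groth.Agent.* helpers here

set_option autoImplicit false
open CategoryTheory CategoryTheory.Limits AlgebraicGeometry Opposite
universe u
open Desc

namespace Groth.Agent.S0781

open CategoryTheory CategoryTheory.Limits AlgebraicGeometry

/-- If p : X → S is a surjective morphism of schemes, then for schemes U₁, U₂ étale over S, two
S-morphisms U₁ → U₂ whose base changes to X agree, as morphisms of canonical descent data relative
to p, are equal; that is, the canonical-descent-datum functor is faithful on schemes étale over S.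
(Descent data are taken in functor-of-points form, equivalent by the Yoneda lemma to an isomorphism
over X ×_S X satisfying the cocycle condition.) -/
theorem result {X S : Scheme.{u}} (p : X ⟶ S) [Surjective p] (U₁ U₂ : Over S)
    [Etale U₁.hom] [Etale U₂.hom] : Function.Injective ((Desc.toDD p).map : (U₁ ⟶ U₂) → _) := by
  intro u v huv
  have h1 : ((Desc.toDD p).map u).hom.left = ((Desc.toDD p).map v).hom.left := by rw [huv]
  have h2 : pullback.snd p U₁.hom ≫ u.left = pullback.snd p U₁.hom ≫ v.left := by
    have := congrArg (· ≫ pullback.snd p U₂.hom) h1
    simp [Desc.toDD, pullback.map] at this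
    erw [pullback.lift_snd, pullback.lift_snd] at this
    exact this
  let l : U₁.left ⟶ pullback U₂.hom U₂.hom := pullback.lift u.left v.left (by simp)
  have hle : Set.range l ⊆ Set.range (pullback.diagonal U₂.hom) := by
    rintro _ ⟨x, rfl⟩
    obtain ⟨w, rfl⟩ := (pullback.snd p U₁.hom).surjective x
    refine ⟨(pullback.snd p U₁.hom ≫ u.left) w, ?_⟩
    rw [← Scheme.Hom.comp_apply, ← Scheme.Hom.comp_apply]
    congr 1
    have : (pullback.snd p U₁.hom ≫ u.left) ≫ pullback.diagonal U₂.hom =
        pullback.snd p U₁.hom ≫ l := by
      apply pullback.hom_ext
      · simp only [Category.assoc, pullback.diagonal_fst, Category.comp_id, l, pullback.lift_fst]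
      · simp only [Category.assoc, pullback.diagonal_snd, Category.comp_id, l, pullback.lift_snd, h2]
    rw [this]
  let w := IsOpenImmersion.lift (pullback.diagonal U₂.hom) l hle
  have hw : w ≫ pullback.diagonal U₂.hom = l := IsOpenImmersion.lift_fac _ _ _
  apply Over.OverMorphism.ext
  have e1 : w = u.left := by
    simpa [l, pullback.lift_fst] using congrArg (· ≫ pullback.fst _ _) hw
  have e2 : w = v.left := by
    simpa [l, pullback.lift_snd] using congrArg (· ≫ pullback.snd _ _) hw
  rw [← e1, ← e2]

end Groth.Agent.S0781
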