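import Groth.Statements.S0782
import Mathlib.AlgebraicGeometry.Morphisms.FlatMono
import Mathlib.AlgebraicGeometry.Morphisms.Etale
-- import your own Groth.Agent.* helpers here

set_option autoImplicit false
open CategoryTheory CategoryTheory.Limits AlgebraicGeometry Opposite
universe u
open Desc

namespace Groth.Agent.S0782

/-- Let p : X ⟶ S be a morphism such that for every scheme U étale over S the projection X ×_S U ⟶ U is
a quotient map of topological spaces (submersive; U = S is allowed). Then for U₁, U₂ étale over S,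
every morphism between their canonical descent data relative to p comes from an S-morphism U₁ ⟶ U₂:
the canonical-descent-datum functor is full on schemes étale over S (injectivity of this assignment
is a companion statement). (Descent data are taken in functor-of-points form, equivalent by the
Yoneda lemma to the usual form of an isomorphism over X ×_S X satisfying the cocycle condition.) -/
theorem result {X S : Scheme.{u}} (p : X ⟶ S)
    (hp : ∀ U : Over S, Etale U.hom → Topology.IsQuotientMap (pullback.snd p U.hom).base) (U₁ U₂ : Over S)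
    [Etale U₁.hom] [Etale U₂.hom] : Function.Surjective ((Desc.toDD p).map : (U₁ ⟶ U₂) → _) := by
  intro a
  let W0 := pullback U₁.hom U₂.hom
  let h0 : W0 ⟶ S := pullback.fst U₁.hom U₂.hom ≫ U₁.hom
  haveI het0 : Etale h0 := inferInstance
  have hq : Topology.IsQuotientMap (pullback.snd p h0).base := hp (Over.mk h0) het0
  have hq₁ : Topology.IsQuotientMap (pullback.snd p U₁.hom).base := hp U₁ inferInstance
  haveI hpsurj : Surjective p := by
    have h := hp (Over.mk (𝟙 S)) (inferInstanceAs (Etale (𝟙 S)))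
    refine ⟨fun s => ?_⟩
    obtain ⟨z, hz⟩ := h.surjective s
    refine ⟨pullback.fst p (𝟙 S) z, ?_⟩
    rw [← Scheme.Hom.comp_apply, pullback.condition, Category.comp_id]
    exact hz
  let P := pullback p h0
  let q : P ⟶ W0 := pullback.snd p h0
  let a₂ : pullback p U₁.hom ⟶ U₂.left := a.hom.left ≫ pullback.snd p U₂.hom
  have haf : a.hom.left ≫ pullback.fst p U₂.hom = pullback.fst p U₁.hom := Over.w a.hom
  have ha₂ : a₂ ≫ U₂.hom = pullback.snd p U₁.hom ≫ U₁.hom := by
    refine (Category.assoc _ _ _).trans ((congrArg (a.hom.left ≫ ·) pullback.condition.symm).trans ?_)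
    exact ((Category.assoc _ _ _).symm.trans (congrArg (· ≫ p) haf)).trans pullback.condition
  let lW : pullback p U₁.hom ⟶ W0 := pullback.lift (pullback.snd p U₁.hom) a₂ ha₂.symm
  let γ : pullback p U₁.hom ⟶ P := pullback.lift (pullback.fst p U₁.hom) lW
    (pullback.condition.trans (pullback.lift_fst_assoc _ _ _ U₁.hom).symm)
  let π : P ⟶ pullback p U₁.hom := pullback.map p h0 p U₁.hom (𝟙 X) (pullback.fst U₁.hom U₂.hom) (𝟙 S)
    (by simp) (Category.comp_id _)
  have hlf : lW ≫ pullback.fst U₁.hom U₂.hom = pullback.snd p U₁.hom := pullback.lift_fst _ _ _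
  have hls : lW ≫ pullback.snd U₁.hom U₂.hom = a₂ := pullback.lift_snd _ _ _
  have hγf : γ ≫ pullback.fst p h0 = pullback.fst p U₁.hom := pullback.lift_fst _ _ _
  have hγs : γ ≫ q = lW := pullback.lift_snd _ _ _
  have hπf : π ≫ pullback.fst p U₁.hom = pullback.fst p h0 :=
    (pullback.lift_fst _ _ _).trans (Category.comp_id _)
  have hπs : π ≫ pullback.snd p U₁.hom = q ≫ pullback.fst U₁.hom U₂.hom := pullback.lift_snd _ _ _
  have hγπ : γ ≫ π = 𝟙 _ := pullback.hom_ext (by rw [Category.assoc, hπf, hγf, Category.id_comp])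
    (by rw [Category.assoc, hπs, reassoc_of% hγs, hlf, Category.id_comp])
  haveI : Etale π := by
    have : IsPullback π q (pullback.snd p U₁.hom) (pullback.fst U₁.hom U₂.hom) := by
      refine IsPullback.of_right ?_ hπs (IsPullback.of_hasPullback p U₁.hom)
      rw [hπf]
      exact IsPullback.of_hasPullback p h0
    exact MorphismProperty.of_isPullback (P := @Etale) this.flip inferInstance
  haveI : IsSplitMono γ := ⟨⟨π, hγπ⟩⟩
  haveI : Etale (γ ≫ π) := by rw [hγπ]; infer_instance
  haveI : Etale γ := Etale.of_comp γ π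
  haveI : IsOpenImmersion γ := IsOpenImmersion.of_flat_of_mono γ
  -- the graph is saturated
  have hsat : ∀ z₁ z₂ : P, q z₁ = q z₂ → z₁ ∈ Set.range γ → z₂ ∈ Set.range γ := by
    intro z₁ z₂ he hz
    obtain ⟨t, ht₁, ht₂⟩ := Scheme.Pullback.exists_preimage_pullback (f := q) (g := q) z₁ z₂ he
    let t₁ := pullback.fst q q
    let t₂ := pullback.snd q q
    let O := t₁ ⁻¹ᵁ γ.opensRange
    let c := O.ι
    let k₁ : (O : Scheme.{u}) ⟶ pullback p U₁.hom := IsOpenImmersion.lift γ (c ≫ t₁) (by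
      rintro _ ⟨o, rfl⟩
      exact o.2)
    have hk₁ : k₁ ≫ γ = c ≫ t₁ := IsOpenImmersion.lift_fac _ _ _
    let k₂ := c ≫ t₂ ≫ π
    have hqq : c ≫ t₁ ≫ q = c ≫ t₂ ≫ q := congrArg (c ≫ ·) pullback.condition
    have hk₁q : k₁ ≫ lW = c ≫ t₁ ≫ q := by
      rw [← Category.assoc, ← hk₁, Category.assoc, hγs]
    have hs : k₁ ≫ pullback.snd p U₁.hom = k₂ ≫ pullback.snd p U₁.hom := by
      calc k₁ ≫ pullback.snd p U₁.hom = (k₁ ≫ lW) ≫ pullback.fst _ _ := by rw [Category.assoc, hlf]
        _ = (c ≫ t₂ ≫ q) ≫ pullback.fst _ _ := by rw [hk₁q, hqq]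
        _ = k₂ ≫ pullback.snd p U₁.hom := by simp only [k₂, Category.assoc, hπs]
    have hx : (k₁ ≫ pullback.fst p U₁.hom) ≫ p = (k₂ ≫ pullback.fst p U₁.hom) ≫ p := by
      rw [Category.assoc, Category.assoc, pullback.condition, reassoc_of% hs]
    have hcomm := congrArg (· ≫ pullback.snd p U₂.hom)
      (a.comm (k₁ ≫ pullback.fst p U₁.hom) (k₂ ≫ pullback.fst p U₁.hom) hx ⟨k₁, rfl⟩ (a.push ⟨k₁, rfl⟩) rfl)
    have hφ : ((Desc.canonicalDD p U₁).φ (k₁ ≫ pullback.fst p U₁.hom) (k₂ ≫ pullback.fst p U₁.hom) hx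
        ⟨k₁, rfl⟩).1 = k₂ :=
      pullback.hom_ext (pullback.lift_fst _ _ _) ((pullback.lift_snd _ _ _).trans hs)
    have hL : k₁ ≫ a₂ = k₂ ≫ a₂ := by
      refine Eq.trans ?_ (hcomm.trans ?_)
      · show _ = pullback.lift _ _ _ ≫ pullback.snd p U₂.hom
        rw [pullback.lift_snd]
        exact (Category.assoc _ _ _).symm
      · exact (congrArg (fun w => (w ≫ a.hom.left) ≫ pullback.snd p U₂.hom) hφ).trans (Category.assoc _ _ _)
    have hlW : k₂ ≫ lW = c ≫ t₂ ≫ q := by
      rw [← hqq, ← hk₁q]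
      refine pullback.hom_ext ?_ ?_
      · exact (Category.assoc _ _ _).trans ((congrArg (k₂ ≫ ·) hlf).trans
          (hs.symm.trans ((congrArg (k₁ ≫ ·) hlf).symm.trans (Category.assoc _ _ _).symm)))
      · exact (Category.assoc _ _ _).trans ((congrArg (k₂ ≫ ·) hls).trans
          (hL.symm.trans ((congrArg (k₁ ≫ ·) hls).symm.trans (Category.assoc _ _ _).symm)))
    have h2 : k₂ ≫ γ = c ≫ t₂ := by
      refine pullback.hom_ext ?_ ?_
      · simp only [k₂, Category.assoc, hγf, hπf]
      · rw [Category.assoc, show γ ≫ pullback.snd p h0 = lW from hγs, hlW, Category.assoc]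
    have htO : t ∈ O := show t₁ t ∈ γ.opensRange from ht₁ ▸ hz
    refine ⟨k₂ ⟨t, htO⟩, ?_⟩
    refine (Scheme.Hom.comp_apply k₂ γ _).symm.trans ?_
    rw [h2]
    exact ht₂
  have hWo : IsOpen (q '' Set.range γ) := by
    rw [← hq.isOpen_preimage]
    have : q ⁻¹' (q '' Set.range γ) = Set.range γ :=
      subset_antisymm (fun z ⟨z₁, hz₁, he⟩ => hsat z₁ z he hz₁) (Set.subset_preimage_image _ _)
    exact this.symm ▸ γ.opensRange.2
  let W : W0.Opens := ⟨q '' Set.range γ, hWo⟩
  let g₁ : (W : Scheme.{u}) ⟶ U₁.left := W.ι ≫ pullback.fst U₁.hom U₂.hom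
  let m : pullback p U₁.hom ⟶ (W : Scheme.{u}) := IsOpenImmersion.lift W.ι lW (by
    rintro _ ⟨z, rfl⟩
    rw [Scheme.Opens.range_ι]
    exact ⟨γ z, ⟨z, rfl⟩, by rw [← Scheme.Hom.comp_apply, hγs]⟩)
  have hm : m ≫ W.ι = lW := IsOpenImmersion.lift_fac _ _ _
  have hm₁ : m ≫ g₁ = pullback.snd p U₁.hom := by
    rw [reassoc_of% hm]; exact pullback.lift_fst _ _ _
  -- every point over `W` is a point of the graph
  have hgraph : ∀ {T : Scheme.{u}} (z : T ⟶ P), (∀ t, q (z t) ∈ W) → z = (z ≫ π) ≫ γ := by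
    intro T z hz
    have hr : Set.range z ⊆ Set.range γ := by
      rintro _ ⟨t, rfl⟩
      obtain ⟨z₁, hz₁, he⟩ := hz t
      exact hsat z₁ _ he hz₁
    have h := IsOpenImmersion.lift_fac γ z hr
    exact ((congrArg (· ≫ γ) ((congrArg (· ≫ π) h.symm).trans
      ((Category.assoc _ _ _).trans (by rw [hγπ, Category.comp_id])))).trans h).symm
  haveI : Etale g₁ := inferInstance
  haveI : Mono g₁ := by
    let Δ := pullback.diagonal g₁
    haveI : IsOpenImmersion Δ := inferInstance
    haveI : Surjective Δ := by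
      refine ⟨fun d => ?_⟩
      let e := pullback.fst g₁ g₁ ≫ W.ι ≫ h0
      obtain ⟨r, hr⟩ := (pullback.snd p e).surjective d
      have he' : e = pullback.snd g₁ g₁ ≫ W.ι ≫ h0 := by
        have := congrArg (· ≫ U₁.hom) (pullback.condition (f := g₁) (g := g₁))
        simpa [g₁, e, h0] using this
      let z₁ : pullback p e ⟶ P := pullback.lift (pullback.fst p e) (pullback.snd p e ≫ pullback.fst g₁ g₁ ≫ W.ι)
        (by rw [pullback.condition]; simp [e])
      let z₂ : pullback p e ⟶ P := pullback.lift (pullback.fst p e) (pullback.snd p e ≫ pullback.snd g₁ g₁ ≫ W.ι)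
        (pullback.condition.trans ((congrArg (pullback.snd p e ≫ ·) he').trans (by simp only [Category.assoc])))
      have hzw₁ : z₁ ≫ q = (pullback.snd p e ≫ pullback.fst g₁ g₁) ≫ W.ι :=
        (pullback.lift_snd _ _ _).trans (Category.assoc _ _ _).symm
      have hzw₂ : z₂ ≫ q = (pullback.snd p e ≫ pullback.snd g₁ g₁) ≫ W.ι :=
        (pullback.lift_snd _ _ _).trans (Category.assoc _ _ _).symm
      have hin₁ : ∀ t, q (z₁ t) ∈ W := fun t => by
        rw [← Scheme.Hom.comp_apply, hzw₁, Scheme.Hom.comp_apply]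
        exact ((pullback.snd p e ≫ pullback.fst g₁ g₁) t).2
      have hin₂ : ∀ t, q (z₂ t) ∈ W := fun t => by
        rw [← Scheme.Hom.comp_apply, hzw₂, Scheme.Hom.comp_apply]
        exact ((pullback.snd p e ≫ pullback.snd g₁ g₁) t).2
      have hππ : z₁ ≫ π = z₂ ≫ π := by
        refine pullback.hom_ext ?_ ?_
        · rw [Category.assoc, Category.assoc, hπf]
          exact (pullback.lift_fst _ _ _).trans (pullback.lift_fst _ _ _).symm
        · rw [Category.assoc, Category.assoc, hπs, ← Category.assoc, ← Category.assoc z₂, hzw₁, hzw₂]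
          simp only [Category.assoc]
          exact congrArg (pullback.snd p e ≫ ·) pullback.condition
      have heq : pullback.snd p e ≫ pullback.fst g₁ g₁ = pullback.snd p e ≫ pullback.snd g₁ g₁ := by
        rw [← cancel_mono W.ι, ← hzw₁, ← hzw₂, hgraph z₁ hin₁, hgraph z₂ hin₂, hππ]
      refine ⟨(pullback.snd p e ≫ pullback.fst g₁ g₁) r, ?_⟩
      rw [← Scheme.Hom.comp_apply, ← hr]
      refine congrArg (fun f : _ ⟶ pullback g₁ g₁ => f r) (pullback.hom_ext ?_ ?_)
      · simp [Δ]
      · simp [Δ, heq]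
    haveI : IsIso Δ := (isIso_iff_isOpenImmersion_and_surjective Δ).2 ⟨inferInstance, inferInstance⟩
    exact (pullback.isIso_diagonal_iff g₁).1 inferInstance
  haveI : IsOpenImmersion g₁ := IsOpenImmersion.of_flat_of_mono g₁
  haveI : Surjective g₁ := ⟨fun x => by
    obtain ⟨r, rfl⟩ := hq₁.surjective x
    exact ⟨m r, by rw [← Scheme.Hom.comp_apply, hm₁]⟩⟩
  haveI : IsIso g₁ := (isIso_iff_isOpenImmersion_and_surjective g₁).2 ⟨inferInstance, inferInstance⟩
  have hb : (inv g₁ ≫ W.ι ≫ pullback.snd U₁.hom U₂.hom) ≫ U₂.hom = U₁.hom := by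
    rw [Category.assoc, Category.assoc, ← pullback.condition, ← Category.assoc W.ι]
    exact (IsIso.inv_hom_id_assoc g₁ U₁.hom)
  refine ⟨Over.homMk _ hb, ?_⟩
  ext : 2
  show pullback.map p U₁.hom p U₂.hom (𝟙 X) (inv g₁ ≫ W.ι ≫ pullback.snd U₁.hom U₂.hom) (𝟙 S) (by simp)
    (by rw [Category.comp_id]; exact hb.symm) = a.hom.left
  apply pullback.hom_ext
  · rw [pullback.lift_fst, Category.comp_id]; exact haf.symm
  · rw [pullback.lift_snd, ← hm₁]
    simp only [Category.assoc, IsIso.hom_inv_id_assoc]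
    rw [reassoc_of% hm]
    exact pullback.lift_snd _ _ _


end Groth.Agent.S0782
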