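import Groth.Statements.S1366
import Groth.Agent.ProperClopenLib.SeparatedHenselian
-- import your own Groth.Agent.* helpers here

set_option autoImplicit false
universe u
open FlatMor

namespace Groth.Agent.S1366

open AlgebraicGeometry CategoryTheory Limits in
/-- Let (A, I) be a henselian pair and X a separated scheme of finite type over Spec A, with X_0 its
base change to Spec (A/I). If Y is an open and closed subset of X_0 which (as an open subscheme) is
proper over Spec (A/I), then there is an open and closed subset W of X, proper over Spec A as an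
open subscheme, whose preimage in X_0 is exactly Y. -/
theorem result {A : Type u} [CommRing A] (I : Ideal A) [HenselianRing A I]
    {X : Scheme.{u}} (f : X ⟶ Spec (CommRingCat.of A)) [IsSeparated f] [LocallyOfFiniteType f] [QuasiCompact f]
    (Y : (pullback f (Spec.map (CommRingCat.ofHom (Ideal.Quotient.mk I)))).Opens) (hYc : IsClosed (Y : Set ↑(pullback f (Spec.map (CommRingCat.ofHom (Ideal.Quotient.mk I))))))
    (hYp : IsProper (Y.ι ≫ pullback.snd f (Spec.map (CommRingCat.ofHom (Ideal.Quotient.mk I))))) :
    ∃ W : X.Opens, IsClosed (W : Set ↑X) ∧ IsProper (W.ι ≫ f) ∧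
      pullback.fst f (Spec.map (CommRingCat.ofHom (Ideal.Quotient.mk I))) ⁻¹ᵁ W = Y := by
  haveI : IsClosedImmersion (Spec.map (CommRingCat.ofHom (Ideal.Quotient.mk I))) :=
    IsClosedImmersion.spec_of_surjective _ Ideal.Quotient.mk_surjective
  let q := pullback.fst f (Spec.map (CommRingCat.ofHom (Ideal.Quotient.mk I)))
  haveI : IsClosedImmersion q := inferInstanceAs (IsClosedImmersion (pullback.fst f (Spec.map (CommRingCat.ofHom (Ideal.Quotient.mk I)))))
  have hr : Set.range q = f ⁻¹' PrimeSpectrum.zeroLocus (I : Set A) := by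
    rw [Scheme.Pullback.range_fst]
    refine congrArg (f ⁻¹' ·) ?_
    show Set.range (PrimeSpectrum.comap (Ideal.Quotient.mk I)) = _
    rw [range_comap_of_surjective _ _ Ideal.Quotient.mk_surjective, Ideal.mk_ker]
  obtain ⟨O, hO, hOY⟩ := q.isEmbedding.isInducing.isOpen_iff.mp Y.isOpen
  haveI : IsProper ((Y.ι ≫ q) ≫ f) := by
    haveI := hYp
    rw [Category.assoc, pullback.condition, ← Category.assoc]
    infer_instance
  obtain ⟨U, hU, hp, hmem⟩ := ProperClopenLib.exists_clopen_proper_lift_henselian f I ⟨O, hO⟩
    (Y.ι ≫ q) (by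
      show Set.range (q ∘ Y.ι) = _
      rw [Set.range_comp, Scheme.Opens.range_ι, ← hOY, Set.image_preimage_eq_inter_range, hr]
      rfl)
  refine ⟨U, hU, hp, TopologicalSpace.Opens.ext (Set.ext fun x ↦ ?_)⟩
  refine (hmem _ (hr.le ⟨x, rfl⟩)).trans ?_
  rw [← hOY]
  rfl

end Groth.Agent.S1366
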