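import Groth.Statements.S0784
import Groth.Agent.S1366
import Groth.Agent.WeightLib.EtaleQF
-- import your own Groth.Agent.* helpers here

set_option autoImplicit false
open CategoryTheory CategoryTheory.Limits AlgebraicGeometry Opposite
universe u
open Desc

open AlgebraicGeometry CategoryTheory CategoryTheory.Limits
set_option backward.isDefEq.respectTransparency false
set_option backward.isDefEq.respectTransparency.types false
namespace Groth.Agent.S0784

/-- Let (A, I) be a henselian pair and g : U ⟶ Spec A quasi-compact, separated and etale such that the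
base change of U to Spec(A/I) is finite over Spec(A/I). Then U is the disjoint union of an open and
closed subscheme finite over Spec A and an open and closed subscheme with no points lying over V(I). -/
theorem result (A : Type u) [CommRing A] (I : Ideal A) [HenselianRing A I]
    {U : Scheme.{u}} (g : U ⟶ Spec (CommRingCat.of A)) [QuasiCompact g] [IsSeparated g] [Etale g]
    (hfin : IsFinite (pullback.snd g (Spec.map (CommRingCat.ofHom (Ideal.Quotient.mk I))))) :
    ∃ W : U.Opens, IsClosed (W : Set U) ∧ IsFinite (W.ι ≫ g) ∧
      ∀ u : U, u ∉ W → ¬ I ≤ (g.base u : PrimeSpectrum A).asIdeal := by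
  haveI := hfin
  let q := pullback.fst g (Spec.map (CommRingCat.ofHom (Ideal.Quotient.mk I)))
  let Z := pullback g (Spec.map (CommRingCat.ofHom (Ideal.Quotient.mk I)))
  haveI : IsIso (⊤ : Z.Opens).ι := by rw [← Scheme.topIso_hom]; infer_instance
  obtain ⟨W, hWc, hWp, hWY⟩ := S1366.result I g (⊤ : Z.Opens) isClosed_univ inferInstance
  haveI := hWp
  haveI : LocallyQuasiFinite g := WeightLib.locallyQuasiFinite_of_etale g
  refine ⟨W, hWc, IsFinite.of_isProper_of_locallyQuasiFinite _, fun u hu hI => hu ?_⟩
  obtain ⟨z, rfl⟩ : u ∈ Set.range q := by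
    show u ∈ Set.range (pullback.fst g _)
    rw [Scheme.Pullback.range_fst]
    refine ⟨⟨(g.base u : PrimeSpectrum A).asIdeal.map (Ideal.Quotient.mk I),
      Ideal.map_isPrime_of_surjective Ideal.Quotient.mk_surjective (by rwa [Ideal.mk_ker])⟩, ?_⟩
    refine PrimeSpectrum.ext ?_
    show Ideal.comap (Ideal.Quotient.mk I) (Ideal.map (Ideal.Quotient.mk I) _) = _
    rw [Ideal.comap_map_of_surjective _ Ideal.Quotient.mk_surjective, ← RingHom.ker_eq_comap_bot, Ideal.mk_ker]
    exact sup_eq_left.2 hI
  show z ∈ q ⁻¹ᵁ W
  rw [hWY]
  trivial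

end Groth.Agent.S0784
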