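import Groth.Statements.S0796
import Groth.Agent.DevissLib.Basic
import Groth.Agent.ProperOverLib.Basic
-- import your own Groth.Agent.* helpers here

set_option autoImplicit false
universe u
open Coherent

namespace Groth.Agent.S0796

open CategoryTheory AlgebraicGeometry in
/-- Part (2), through the usual criterion for Serre subcategories. Let S be locally Noetherian and f : X
→ S locally of finite type. For a short exact sequence 0 → F₁ → F₂ → F₃ → 0 of coherent O_X-modules,
the support of F₂ is proper over S if and only if the supports of F₁ and F₃ are. -/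
theorem result {X S : Scheme.{u}} (f : X ⟶ S) [LocallyOfFiniteType f]
    [IsLocallyNoetherian S] (E : ShortComplex X.Modules) (hE : E.ShortExact)
    (h₁ : Coh.IsCoh E.X₁) (h₂ : Coh.IsCoh E.X₂) (h₃ : Coh.IsCoh E.X₃) :
    ClSub.IsProperOver f (CohB1.support E.X₂) ↔
      ClSub.IsProperOver f (CohB1.support E.X₁) ∧ ClSub.IsProperOver f (CohB1.support E.X₃) := by
  have hX : IsLocallyNoetherian X := LocallyOfFiniteType.isLocallyNoetherian f
  have := hE.mono_f
  have := hE.epi_g
  have hsub : ∀ {T T' : Set X}, IsClosed T → T ⊆ T' → ClSub.IsProperOver f T' →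
      ClSub.IsProperOver f T := fun {T T'} hT hTT' h => by
    obtain ⟨U, j, hj, hr, hp⟩ := ProperOverLib.exists_closedImmersion h
    exact ProperOverLib.of_map j f T hT (hr.symm ▸ hTT')
  refine ⟨fun h => ⟨hsub (QCohLib.isClosed_support _ h₁.2) (DevissLib.support_mono E.f) h,
    hsub (QCohLib.isClosed_support _ h₃.2) (DevissLib.support_epi E.g) h⟩, fun h => ?_⟩
  refine hsub (QCohLib.isClosed_support _ h₂.2) (fun x hx => ?_) (ProperOverLib.union h.1 h.2)
  obtain ⟨a, ha⟩ := (DevissLib.mem_support_iff_nonzero _ x).mp hx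
  by_contra hn
  rw [Set.mem_union, not_or] at hn
  have hS := hE.exact.map (DevissLib.St x)
  rw [ShortComplex.moduleCat_exact_iff] at hS
  obtain ⟨b, hb⟩ := hS a (@Subsingleton.elim _ (not_not.mp hn.2) _ _)
  exact ha (hb.symm.trans ((congr_arg _ (@Subsingleton.elim _ (not_not.mp hn.1) b 0)).trans (map_zero _)))

end Groth.Agent.S0796
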