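import Groth.Statements.S0800
import Groth.Agent.ColimQsLib.Main

set_option autoImplicit false
universe u
open Coherent

namespace Groth.Agent.S0800

open CategoryTheory CategoryTheory.Limits AlgebraicGeometry in
/-- Let f : X → S be quasi-compact and quasi-separated. Then for every p the higher direct image functor
R^p f_* on abelian sheaves (on the underlying spaces) preserves filtered colimits. -/
theorem result {X S : Scheme.{u}} (f : X ⟶ S) [QuasiCompact f]
    [QuasiSeparated f] (p : ℕ) (J : Type u) [SmallCategory J] [IsFiltered J] :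
    PreservesColimitsOfShape J (Coh.RpushAb f p) := by
  refine ⟨fun {D} => ?_⟩
  refine CohTopLib.RpushColim.preservesColimit_Rpush f.base D p
    (TopologicalSpace.Opens.isBasis_iff_nbhd.mpr fun {U x} hx => ?_)
  obtain ⟨V, hV, hxV, hVU⟩ := TopologicalSpace.Opens.isBasis_iff_nbhd.mp S.isBasis_affineOpens hx
  refine ⟨V, ?_, hxV, hVU⟩
  have hc : IsCompact ((f ⁻¹ᵁ V : X.Opens) : Set X) := f.isCompact_preimage hV.isCompact
  have hq : IsQuasiSeparated ((f ⁻¹ᵁ V : X.Opens) : Set X) :=
    f.isQuasiSeparated_preimage hV.isQuasiSeparated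
  exact ColimQsLib.preservesColimit_cohomology (f ⁻¹ᵁ V) hc
    (fun A B hA hB hAc hBc => hq _ _ hA A.2 hAc hB B.2 hBc) D p

end Groth.Agent.S0800
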