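import Groth.Statements.S0807
import Groth.Agent.FormalPunctLib.Local

set_option autoImplicit false
universe u
open CategoryTheory
attribute [local instance] HasDerivedCategory.standard
open Formal2

namespace Groth.Agent.S0807

open AlgebraicGeometry in
/-- Algebraization of formal sections on the punctured spectrum. Let (A, 𝔪) be a Noetherian local ring
with a dualizing complex, complete with respect to an ideal I, let d be a natural number with cd(A,
I) ≤ d, let M be a finite A-module, s a natural number, and U the punctured spectrum of A. Assume
that for every prime 𝔭 not containing I for which some non-maximal prime contains 𝔭 + I, either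
depth M_𝔭 ≥ s or depth M_𝔭 + dim A/𝔭 > d + s. Then there is an open V₀ ⊆ U containing U ∩ V(I) such
that for every open V ⊆ V₀ containing U ∩ V(I) and every i < s the canonical map H^i(V, M̃) → lim_n
H^i(V, (M/IⁿM)̃) is bijective (injective, and every compatible family of classes comes from a class
on M̃). The published statement is for a general coherent module on U (here it is the one attached
to a finite A-module M), carries a finiteness addendum not asserted here, and writes the limit with
cohomology over U rather than V; the terms agree since the quotient sheaves are supported in U ∩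
V(I) ⊆ V. -/
theorem result (A : Type u) [CommRing A] [IsNoetherianRing A]
    [IsLocalRing A] (I : Ideal A) [IsAdicComplete I A] (hω : ∃ ω : Dual.D A, Dual.IsDualizing A ω)
    (d : ℕ) (hd : LocCoh.CdLE A I d) (M : Type u) [AddCommGroup M] [Module A M] [Module.Finite A M]
    (s : ℕ)
    (h₂ : ∀ (p : Ideal A) [p.IsPrime], ¬ I ≤ p →
      (∃ r : Ideal A, r.IsPrime ∧ p ≤ r ∧ I ≤ r ∧ r ≠ IsLocalRing.maximalIdeal A) →
        (s : ℕ∞) ≤ LocCoh.depth (Localization.AtPrime p) (LocalizedModule p.primeCompl M) ∨
          ((d + s : ℕ) : WithBot ℕ∞) <
            ((LocCoh.depth (Localization.AtPrime p) (LocalizedModule p.primeCompl M) : ℕ∞) : WithBot ℕ∞) +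
              ringKrullDim (A ⧸ p)) :
    ∃ V₀ : (Spec (CommRingCat.of A)).Opens,
      Formal2.Admissible A I (LocCoh.puncturedOpen A (IsLocalRing.maximalIdeal A)) V₀ ∧
      ∀ V : (Spec (CommRingCat.of A)).Opens,
        Formal2.Admissible A I (LocCoh.puncturedOpen A (IsLocalRing.maximalIdeal A)) V → V ≤ V₀ →
          ∀ i : ℕ, i < s → Formal2.FormalCohBijective A I M i V := by
  obtain ⟨ω, hω⟩ := hω
  exact FormalPunctLib.exists_open_bijective hω d hd s
    ((IsAdicComplete.le_jacobson_bot I).trans (IsLocalRing.jacobson_eq_maximalIdeal ⊥ bot_ne_top).le) h₂

end Groth.Agent.S0807
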