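import Groth.Statements.S0810
import Groth.Agent.PicLiftLib.CIPic

set_option autoImplicit false
universe u
open Formal2

namespace Groth.Agent.S0810

open CategoryTheory AlgebraicGeometry in
/-- Let A be a Noetherian local ring which is a complete intersection (its completion is a regular local
ring modulo a regular sequence) of dimension at least 4. Then every invertible module on the
punctured spectrum of A is trivial. -/
theorem result (A : Type u) [CommRing A] [IsNoetherianRing A]
    [IsLocalRing A] (hci : Pi1.IsCompleteIntersection A) (hdim : (4 : WithBot ℕ∞) ≤ ringKrullDim A) :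
    Formal2.PicTrivial (↑(FEt.puncturedSpec A) : Scheme.{u}) := by
  obtain ⟨B, _, _, rs, -, hreg, ⟨e⟩⟩ := hci
  change AdicCompletion (IsLocalRing.maximalIdeal A) A ≃+* B ⧸ Ideal.ofList rs at e
  haveI := CIRingLib.isNoetherianRing_cpl A
  haveI := CIRingLib.flat_cpl A
  haveI : IsLocalRing (B ⧸ Ideal.ofList rs) := e.isLocalRing
  have hC : CommAlgDim.IsCM (AdicCompletion (IsLocalRing.maximalIdeal A) A) :=
    CatLib.isCM_of_ringEquiv e.symm
      (PicLiftLib.isCM_quot _ B rs rfl (CommAlgDim.isCM_of_isRegularLocalRing B) hreg)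
  obtain ⟨n, hn⟩ := CommAlgDim.exists_ringKrullDim_eq (R := A)
  refine PicLiftLib.picTrivial_descend A (AdicCompletion (IsLocalRing.maximalIdeal A) A) (fun Q hQ hle => ?_)
    (PicLiftLib.two_le_depth_of_isCM (CatLib.isCM_of_isCM_cpl n A hn hC) hdim) ?_
  · rw [← AdicCompletion.maximalIdeal_eq_map] at hle
    exact le_antisymm (IsLocalRing.le_maximalIdeal hQ.ne_top) hle
  refine PicLiftLib.picTrivial_ci rs.length B rs rfl hreg _ e ?_
  rwa [CatLib.ringKrullDim_cpl]
end Groth.Agent.S0810
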