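import Groth.Statements.S0813
import Groth.Agent.ParaFLib.FlatDescent
import Groth.Agent.AdicRingLib.Completion
import Mathlib

set_option autoImplicit false
universe u
open Formal2

namespace Groth.Agent.S0813

open CategoryTheory AlgebraicGeometry in
/-- Let (A, 𝔪) be a Noetherian local ring of depth at least 2, A^ its 𝔪-adic completion, U the punctured
spectrum of A and U^ its preimage in Spec A^ (the punctured spectrum of A^). Then an invertible
O_U-module whose pullback to U^ is trivial is trivial. -/
theorem result (A : Type u) [CommRing A] [IsNoetherianRing A]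
    [IsLocalRing A] (hdepth : (2 : ℕ∞) ≤ LocCoh.depth A A) :
    Formal2.PicPullbackInjective
      (Spec.map (CommRingCat.ofHom (algebraMap A (AdicCompletion (IsLocalRing.maximalIdeal A) A))) ∣_
        FEt.puncturedSpec A) := by
  haveI : IsLocalHom (algebraMap A (AdicCompletion (IsLocalRing.maximalIdeal A) A)) := inferInstance
  haveI : IsNoetherianRing (AdicCompletion (IsLocalRing.maximalIdeal A) A) := AdicRingLib.isNoetherianRing_adicCompletion _
  haveI : Module.Flat A (AdicCompletion (IsLocalRing.maximalIdeal A) A) := AdicCompletion.flat_of_isNoetherian _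
  intro L hL h
  refine ParaFLib.picPullbackInjective_descent A (AdicCompletion (IsLocalRing.maximalIdeal A) A)
    (fun Q hQ hle => ?_) hdepth L hL h
  rw [← AdicCompletion.maximalIdeal_eq_map] at hle
  exact le_antisymm (IsLocalRing.le_maximalIdeal hQ.ne_top) hle

end Groth.Agent.S0813
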