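import Groth.Statements.S0816
import Groth.Agent.CohExtLib.Sub

set_option autoImplicit false
universe u
open Coherent

namespace Groth.Agent.S0816

open CategoryTheory AlgebraicGeometry in
/-- Let X be locally Noetherian, F and G coherent O_X-modules, U ⊆ X open and φ : F|_U → G|_U a map of
O_U-modules. Then there are a coherent submodule F' ⊆ F whose inclusion is an isomorphism over U and
a map φ' : F' → G whose restriction to U is φ (composed with that isomorphism). -/
theorem result (X : Scheme.{u}) [IsLocallyNoetherian X] (F G : X.Modules)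
    (hF : Coh.IsCoh F) (hG : Coh.IsCoh G) (U : X.Opens)
    (φ : (Scheme.Modules.restrictFunctor U.ι).obj F ⟶ (Scheme.Modules.restrictFunctor U.ι).obj G) :
    ∃ (F' : X.Modules) (ι : F' ⟶ F) (φ' : F' ⟶ G), Mono ι ∧ Coh.IsCoh F' ∧
      IsIso ((Scheme.Modules.restrictFunctor U.ι).map ι) ∧
      (Scheme.Modules.restrictFunctor U.ι).map φ' = (Scheme.Modules.restrictFunctor U.ι).map ι ≫ φ := by
  haveI := hG.1
  obtain ⟨H, p₁, p₂, hH, hiso, hp⟩ := CohExtLib.exists_graph hF U φ
  haveI := hF.1
  obtain ⟨T, j, hT, hmono, hj⟩ := CohExtLib.exists_sub_mono hH p₁ (U := U)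
    fun x hx => (CohExtLib.bijective_stalk p₁ hx).1
  haveI := CohExtLib.isIso_restrict j hj
  refine ⟨T, j ≫ p₁, j ≫ p₂, hmono, hT, ?_, ?_⟩
  · rw [Functor.map_comp]
    infer_instance
  · rw [Functor.map_comp, Functor.map_comp, hp, Category.assoc]

end Groth.Agent.S0816
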