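import Groth.Statements.S0820
import Groth.Agent.DevissLib.Finite
-- import your own Groth.Agent.* helpers here

set_option autoImplicit false
universe u
open Coherent

namespace Groth.Agent.S0820

open CategoryTheory AlgebraicGeometry in
/-- Let f : Y → X be finite and surjective with X locally Noetherian, and let i : Z → X be a closed
immersion from an integral scheme, ξ the image of the generic point of Z. Then some coherent
O_Y-module F has f_* F supported exactly on i(Z), with the stalk of f_* F at ξ killed by every
element of 𝔪_{X,ξ}, the maximal ideal of O_{X,ξ}. -/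
theorem result {Y X : Scheme.{u}} (f : Y ⟶ X) [IsFinite f]
    [Surjective f] [IsLocallyNoetherian X] (Z : Scheme.{u}) (i : Z ⟶ X) [IsClosedImmersion i] [IsIntegral Z] :
    ∃ F : Y.Modules, Coh.IsCoh F ∧ CohB1.support ((Coh.push f).obj F) = Set.range ⇑i ∧
      ∀ a ∈ IsLocalRing.maximalIdeal (X.presheaf.stalk (i (genericPoint Z))),
        ∀ m : ↑(((Coh.push f).obj F).presheaf.stalk (i (genericPoint Z))), a • m = 0 := by
  obtain ⟨y, hy⟩ := f.surjective (i (genericPoint Z))
  obtain ⟨Z', i', hi', hZ', hr⟩ :=
    DevissLib.exists_integral_closed isClosed_closure (isIrreducible_singleton (x := y)).closure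
  have hg : i' (genericPoint Z') = y := by
    refine ((genericPoint_spec Z').image i'.continuous).eq ?_
    change closure {y} = closure (⇑i' '' Set.univ)
    rw [Set.image_univ, hr, closure_closure]
  obtain ⟨hc, hs, hk⟩ := DevissLib.push_structure_finite (i' ≫ f)
  have : IsLocallyNoetherian Y := LocallyOfFiniteType.isLocallyNoetherian f
  have hξ : (i' ≫ f) (genericPoint Z') = i (genericPoint Z) := by
    rw [Scheme.Hom.comp_apply, hg, hy]
  let e := (Scheme.Modules.pushforwardComp i' f).app (Coh.structureModule Z')
  refine ⟨(Coh.push i').obj (Coh.structureModule Z'),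
    QCohLib.isCoh_push_finite i' _ (DevissLib.isCoh_structureModule Z'), ?_, ?_⟩
  · refine (DevissLib.support_iso e).trans (hs.trans (Set.Subset.antisymm ?_ ?_))
    · rintro _ ⟨z, rfl⟩
      have h := ((genericPoint_spec Z').specializes (y := z) trivial).map (i' ≫ f).continuous
      rw [hξ] at h
      exact h.mem_closed i.isClosedEmbedding.isClosed_range ⟨_, rfl⟩
    · rintro _ ⟨z, rfl⟩
      have h := ((genericPoint_spec Z).specializes (y := z) trivial).map i.continuous
      exact h.mem_closed (i' ≫ f).isClosedMap.isClosed_range ⟨_, hξ⟩
  · intro a ha m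
    rw [hξ] at hk
    have hinj : Function.Injective ((DevissLib.St (i (genericPoint Z))).map e.hom).hom :=
      (ModuleCat.mono_iff_injective _).mp inferInstance
    refine hinj (((map_smul _ a m).trans (hk a ha _)).trans (map_zero _).symm)

end Groth.Agent.S0820
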