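import Groth.Statements.S0824
import Groth.Agent.AmpleAffLib.Gen
import Groth.Agent.AmpleAffLib.Coprod
import Groth.Agent.MiscFlat6.AmpleSep
import Groth.Agent.QCohLib.Bound
import Groth.Agent.QCohLib.SerreCrit
import Groth.Agent.TwistLib.SpecSections
import Groth.Agent.AtlasCohLib.FiniteCoh

set_option autoImplicit false
universe u
open Coherent CategoryTheory CategoryTheory.Limits AlgebraicGeometry

namespace Groth.Agent.S0824

open CategoryTheory AlgebraicGeometry in
/-- Let X be a scheme with an ample invertible module L, and let L' be an inverse of L (L ⊗ L' ≅ O_X).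
If there is n₀ such that H^p(X, L'^n) = 0 for all n ≥ n₀ and all p > 0, then X is affine. -/
theorem result (X : Scheme.{u}) (L L' : X.Modules)
    (hL : CohB1.IsAmple L) (hinv : Nonempty (CohB1.tensorMod L L' ≅ Coh.structureModule X)) (n₀ : ℕ)
    (h : ∀ n : ℕ, n₀ ≤ n → ∀ p : ℕ, 0 < p → Subsingleton (Coh.HH X (CohB1.tensorPow L' n) p)) :
    IsAffine X := by
  obtain ⟨e⟩ := hinv
  haveI : CompactSpace X := hL.2.1
  haveI : X.IsSeparated := MiscFlat6.isSeparated_of_isAmple hL
  choose d s hxs hsa using hL.2.2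
  have hPinv : ∀ x, PicF.IsInvertible (CohB1.tensorPow L (d x + 1)) := fun x =>
    AmpleThLib.tensorPow_isInvertible hL.1 (d x + 1)
  have hcov := fun x => (AmpleThLib.genLocus_hom (hPinv x) (s x)) ▸ hxs x
  have haff := fun x => (AmpleThLib.genLocus_hom (hPinv x) (s x)) ▸ hsa x
  obtain ⟨b, hb⟩ := QCohLib.bounded_of_isCompact (X := X) ⊤ (by simpa using isCompact_univ)
  have key : ∀ (j p : ℕ), b ≤ p + j → 0 < p → ∀ M : X.Modules, Coh.IsQCoh M →
      Subsingleton (Coh.HH X M p) := by
    intro j
    induction j with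
    | zero =>
      intro p hp _ M hM
      exact (QCohLib.subsingleton_H_iff _ p).2 (hb M hM p (by omega))
    | succ j ih =>
      intro p hp hp0 M hM
      haveI := hM
      obtain ⟨I, x, N, π, hN, hπ⟩ := AmpleAffLib.exists_epi_sigma hPinv _ hcov haff M n₀
      let Q : I → X.Modules := fun a => MiscFlat6.dual (CohB1.tensorPow (CohB1.tensorPow L (d (x a) + 1)) (N a))
      have hQ : ∀ a, Coh.IsQCoh (Q a) := fun a => TwistLib.isQCoh_of_isInvertible
        (MiscFlat6.dual_isInvertible (AmpleThLib.tensorPow_isInvertible (hPinv (x a)) (N a)))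
      haveI : Coh.IsQCoh (∐ Q) := QCohLib.isQCoh_sigma Q hQ
      have hE : Subsingleton (Coh.HH X (∐ Q) p) := AmpleAffLib.subsingleton_HH_sigma Q hQ fun a => by
        obtain ⟨ψ⟩ := AmpleAffLib.nonempty_dual_powPow hL.1 e (d (x a) + 1) (N a)
        exact SerreVanLib.subsingleton_HH_of_iso ψ p
          (h _ ((hN a).trans (Nat.le_mul_of_pos_left _ (Nat.succ_pos _))) p hp0)
      have hS : (ShortComplex.mk _ _ (kernel.condition π)).ShortExact :=
        haveI : Epi (ShortComplex.mk _ _ (kernel.condition π)).g := hπ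
        { exact := ShortComplex.exact_of_f_is_kernel _ (kernelIsKernel π) }
      have hK := ih (p + 1) (by omega) (by omega) (kernel π) (QCohLib.isQCoh_kernel π)
      refine subsingleton_of_forall_eq 0 fun c => ?_
      obtain ⟨w, rfl⟩ := AtlasCoh.hExact₃ (QCohLib.toAbF_shortExact hS) p c
        (@Subsingleton.elim _ hK _ _)
      exact (congrArg _ (@Subsingleton.elim _ hE w 0)).trans (map_zero _)
  exact QCohLib.isAffine_of_subAcyclic ⟨QCohLib.isQCoh_unit, fun N' _ _ hN' =>
    (QCohLib.subsingleton_H_iff _ 1).1 (key b 1 (by omega) one_pos N' hN')⟩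

end Groth.Agent.S0824
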