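import Groth.Statements.S0825
import Groth.Agent.IdealTransLib.Exact

set_option autoImplicit false
universe u
open scoped BigOperators
open LocCoh

namespace Groth.Agent.S0825

/-- Let A be a Noetherian ring and I the ideal generated by f_1, …, f_r, with cohomological dimension
exactly 1. Then there are c ≥ 1 and A-linear maps φ_j : I^c → A such that x = Σ_j f_j φ_j(x) for
every x ∈ I^c. -/
theorem result (A : Type u) [CommRing A] [IsNoetherianRing A] (r : ℕ) (f : Fin r → A)
    (h₁ : LocCoh.CdLE A (Ideal.span (Set.range f)) 1) (h₀ : ¬ LocCoh.CdLE A (Ideal.span (Set.range f)) 0) :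
    ∃ (c : ℕ) (φ : Fin r → (↥(Ideal.span (Set.range f) ^ (c + 1)) →ₗ[A] A)),
      ∀ x : ↥(Ideal.span (Set.range f) ^ (c + 1)), (x : A) = ∑ j, f j * φ j x := by
  open IdealTransLib in
  classical
  set I := Ideal.span (Set.range f) with hI
  have htop := smul_top_of_dSurj (dSurj_of_cdLE h₁)
  have h1 : LocCoh.toDT I A 1 ∈ I • (⊤ : Submodule A (LocCoh.DT I A)) := by rw [htop]; trivial
  obtain ⟨y, hy⟩ : ∃ y : Fin r → LocCoh.DT I A, LocCoh.toDT I A 1 = ∑ j, f j • y j := by
    refine Submodule.smul_induction_on (p := fun z => ∃ y : Fin r → LocCoh.DT I A, z = ∑ j, f j • y j) h1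
      (fun a ha z _ => ?_) ?_
    · obtain ⟨c, rfl⟩ := (Submodule.mem_span_range_iff_exists_fun A).1 ha
      refine ⟨fun j => c j • z, ?_⟩
      rw [Finset.sum_smul]
      exact Finset.sum_congr rfl fun j _ => by rw [smul_eq_mul, smul_smul, mul_comm]
    · rintro x x' ⟨u, rfl⟩ ⟨v, rfl⟩
      exact ⟨u + v, by simp [Finset.sum_add_distrib, smul_add]⟩
  choose n g hg using fun j => exists_mk (y j)
  let m := Finset.univ.sup n
  have hm : ∀ j, n j ≤ m := fun j => Finset.le_sup (Finset.mem_univ j)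
  have h2 : mk m (∑ j, f j • res (g j) (hm j)) = mk m (smulFun I m (1 : A)) := by
    rw [← toDT_eq m, hy, map_sum]
    exact Finset.sum_congr rfl fun j _ => by rw [map_smul, mk_res, hg]
  obtain ⟨k, hk, hk', he⟩ := mk_eq_iff.1 h2
  refine ⟨k, fun j => res (g j) ((hm j).trans (hk.trans k.le_succ)), fun x => ?_⟩
  have h3 := LinearMap.congr_fun he ⟨x.1, Ideal.pow_le_pow_right k.le_succ x.2⟩
  simp [res] at h3
  refine (h3.symm).trans (Eq.trans ?_ (show _ = ∑ j, f j * res (g j) ((hm j).trans (hk.trans k.le_succ)) x from rfl))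
  rfl

end Groth.Agent.S0825
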