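import Groth.Statements.S0826
import Groth.Agent.FormalLimVanishLib.Main
import Groth.Agent.KFlatLib.QCohTensor

set_option autoImplicit false
universe u
open Formal2

namespace Groth.Agent.S0826

open CategoryTheory CategoryTheory.Limits AlgebraicGeometry in
/-- Part (2), for the ideal sheaf generated by an ideal I of a base ring A. Let X be a scheme over Spec
A and (G_n) an inverse system of quasi-coherent O_X-modules with G_n killed by I^(n+1) and G_n =
G_{n+1}/I^(n+1)G_{n+1} (indices shifted by one). Then the limit O_X-module lim G_n has vanishing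
cohomology in positive degrees over every affine open of X. -/
theorem result (A : Type u) [CommRing A] (I : Ideal A) (X : Scheme.{u})
    [X.Over (Spec (CommRingCat.of A))] (G : ℕᵒᵖ ⥤ X.Modules) (hG : Formal2.IsQCohFormal I G)
    (U : X.Opens) (hU : IsAffineOpen U) (p : ℕ) (hp : 0 < p) :
    Subsingleton (Coh.HHon X (limit G) U p) := by
  obtain ⟨hq, hk, hiso⟩ := hG
  have hsurj : ∀ (n : ℕ) (V : X.Opens), IsAffineOpen V →
      Function.Surjective ((FormalLimVanishLib.tr G n).app V) := by
    intro n V hV
    obtain ⟨h, hi⟩ := hiso n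
    haveI := hi
    haveI : Epi (FormalLimVanishLib.tr G n) := by
      have e : cokernel.π _ ≫ cokernel.desc _ _ h = FormalLimVanishLib.tr G n := cokernel.π_desc _ _ _
      rw [← e]
      exact @epi_comp _ _ _ _ _ _ coequalizer.π_epi _ (@IsIso.epi_of_iso _ _ _ _ _ hi)
    haveI := hq n
    haveI := hq (n + 1)
    let S : ShortComplex X.Modules := ShortComplex.mk (kernel.ι (FormalLimVanishLib.tr G n))
      (FormalLimVanishLib.tr G n) (kernel.condition _)
    have hS : S.ShortExact :=
      { exact := ShortComplex.exact_of_f_is_kernel _ (kernelIsKernel _)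
        mono_f := inferInstanceAs (Mono (kernel.ι (FormalLimVanishLib.tr G n)))
        epi_g := inferInstanceAs (Epi (FormalLimVanishLib.tr G n)) }
    haveI : Coh.IsQCoh S.X₁ := QCohLib.isQCoh_kernel (FormalLimVanishLib.tr G n)
    exact QCohLib.app_surjective_of_affine hS hV
  obtain ⟨q, rfl⟩ : ∃ q, p = q + 1 := ⟨p - 1, by omega⟩
  obtain ⟨e⟩ := QCohLib.nonempty_HU_restrict U.ι (limit G) (q + 1) ⊤
  haveI := FormalLimVanishLib.subsingleton_HU_limit G hq hsurj q (U.ι ''ᵁ ⊤)
    ((Scheme.Opens.ι_image_top U).symm ▸ hU)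
  exact (QCohLib.subsingleton_H_iff ((QCohLib.toAbF (U : Scheme)).obj ((limit G).restrict U.ι)) _).mpr
    e.toEquiv.subsingleton

end Groth.Agent.S0826
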