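import Groth.Statements.S0828
import Groth.Agent.S4652
import Groth.Agent.RegFlatLib.Basic
import Groth.Agent.DepthLib.RegAB
import Groth.Agent.LocSuppLib.LocFree
import Groth.Agent.SegreLC.Crit
import Groth.Agent.NewIntersectLib.Regular
import Groth.Agent.QCohLib.Coherent

set_option autoImplicit false
universe u
open Coherent

namespace Groth.Agent.S0828

open CategoryTheory AlgebraicGeometry

theorem stalk_pi_of_iso {X : Scheme.{u}} {E : X.Modules} {U : X.Opens} {n : ℕ}
    (e : E.restrict U.ι ≅ FlatMod.freeMod (↑U) n) (x : X) (hx : x ∈ U) :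
    Nonempty ((E.presheaf.stalk x : Type u) ≃ₗ[X.presheaf.stalk x] (Fin n → X.presheaf.stalk x)) := by
  obtain ⟨p, rfl⟩ : ∃ p : (U : Scheme.{u}), U.ι p = x := ⟨⟨x, hx⟩, rfl⟩
  let R := X.presheaf.stalk (U.ι p)
  let R' := (U : Scheme.{u}).presheaf.stalk p
  letI : Algebra R R' := (U.ι.stalkMap p).hom.toAlgebra
  let φ : R ≃ₗ[R] R' := LinearEquiv.ofBijective (Algebra.linearMap R R')
    (ConcreteCategory.bijective_of_isIso (U.ι.stalkMap p))
  let N := (DerSch.stalkFunctor X (U.ι p)).obj E
  let e1 := ((DerSch.stalkFunctor (U : Scheme.{u}) p).mapIso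
      ((Scheme.Modules.restrictFunctorIsoPullback U.ι).app E).symm ≪≫
    (DerSch.stalkFunctor (U : Scheme.{u}) p).mapIso e ≪≫ KFlatLib.stalkFreeModIso _ p n).toLinearEquiv
  let e2 : TensorProduct R R' N ≃ₗ[R'] (Fin n → R') :=
    (((KFlatLib.stalkPullIso U.ι p).app E).toLinearEquiv.symm).trans e1
  exact ⟨(TensorProduct.lid R N).symm ≪≫ₗ TensorProduct.congr φ (LinearEquiv.refl R N) ≪≫ₗ
    e2.restrictScalars R ≪≫ₗ LinearEquiv.piCongrRight fun _ => φ.symm⟩


open CategoryTheory AlgebraicGeometry in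
/-- Let X be a regular scheme (locally Noetherian with regular local rings) and F a coherent O_X-module.
Then F has support all of X and Cohen–Macaulay stalks if and only if F is finite locally free of
positive rank near every point. -/
theorem result (X : Scheme.{u}) [IsLocallyNoetherian X]
    (hreg : ∀ x : X, IsRegularLocalRing (X.presheaf.stalk x)) (F : X.Modules) (hF : Coh.IsCoh F) :
    (CohB1.support F = Set.univ ∧
        ∀ x : X, LocCoh.IsCohenMacaulayModule (X.presheaf.stalk x) ↑(F.presheaf.stalk x)) ↔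
      ∀ x : X, ∃ (U : X.Opens) (n : ℕ), x ∈ U ∧ 0 < n ∧
        Nonempty (F.restrict U.ι ≅ FlatMod.freeMod (↑U) n) := by
  classical
  haveI := hF.1
  constructor
  · rintro ⟨hsupp, hCM⟩ x
    haveI := hreg x
    haveI : IsDomain (X.presheaf.stalk x) := CommAlgDim.isDomain_of_isRegularLocalRing _
    haveI : Module.Finite (X.presheaf.stalk x) (F.presheaf.stalk x) := DepthLib.finite_stalk F hF.2 x
    have hnt : ¬ Subsingleton (F.presheaf.stalk x) := (Set.eq_univ_iff_forall.mp hsupp x :)
    -- the annihilator vanishes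
    have hann : Module.annihilator (X.presheaf.stalk x) (F.presheaf.stalk x) = ⊥ := by
      rw [eq_bot_iff]
      intro a ha
      rw [Module.mem_annihilator] at ha
      rw [Ideal.mem_bot]
      by_contra hne
      obtain ⟨_, ⟨V, hV, rfl⟩, hxV, -⟩ :=
        X.isBasis_affineOpens.exists_subset_of_mem_open (Set.mem_univ x) isOpen_univ
      letI : Algebra Γ(X, V) (X.presheaf.stalk x) := (X.presheaf.germ V x hxV).hom.toAlgebra
      haveI : IsLocalization.AtPrime (X.presheaf.stalk x) (hV.primeIdealOf ⟨x, hxV⟩).asIdeal :=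
        hV.isLocalization_stalk ⟨x, hxV⟩
      obtain ⟨s, t, rfl⟩ := IsLocalization.exists_mk'_eq (hV.primeIdealOf ⟨x, hxV⟩).asIdeal.primeCompl a
      have hs : algebraMap Γ(X, V) (X.presheaf.stalk x) s ≠ 0 := fun h =>
        hne (IsLocalization.mk'_eq_zero_iff (M := (hV.primeIdealOf ⟨x, hxV⟩).asIdeal.primeCompl) s t |>.mpr
          ((IsLocalization.map_eq_zero_iff (hV.primeIdealOf ⟨x, hxV⟩).asIdeal.primeCompl _ s).mp h))
      let P : Ideal Γ(X, V) := RingHom.ker (algebraMap Γ(X, V) (X.presheaf.stalk x))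
      haveI : P.IsPrime := RingHom.ker_isPrime _
      let z : PrimeSpectrum Γ(X, V) := ⟨P, inferInstance⟩
      have hzV : hV.fromSpec z ∈ V := by
        have : hV.fromSpec z ∈ Set.range hV.fromSpec := ⟨z, rfl⟩
        rwa [hV.range_fromSpec] at this
      have hz : (hV.primeIdealOf ⟨hV.fromSpec z, hzV⟩).asIdeal = P := by
        have h1 : hV.primeIdealOf ⟨hV.fromSpec z, hzV⟩ = z :=
          hV.fromSpec.isOpenEmbedding.injective (hV.fromSpec_primeIdealOf _)
        rw [h1]
      letI := Module.compHom (F.presheaf.stalk x) (X.presheaf.germ V x hxV).hom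
      haveI : IsScalarTower Γ(X, V) (X.presheaf.stalk x) (F.presheaf.stalk x) :=
        IsScalarTower.of_algebraMap_smul fun _ _ => rfl
      haveI := FlatLib.isLocalizedModule_germLin F hV hxV
      letI := Module.compHom (F.presheaf.stalk (hV.fromSpec z)) (X.presheaf.germ V (hV.fromSpec z) hzV).hom
      haveI := FlatLib.isLocalizedModule_germLin F hV hzV
      refine (Set.eq_univ_iff_forall.mp hsupp (hV.fromSpec z) :) ?_
      refine subsingleton_of_forall_eq 0 fun m => ?_
      obtain ⟨⟨n, w⟩, hn⟩ := IsLocalizedModule.surj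
        (hV.primeIdealOf ⟨hV.fromSpec z, hzV⟩).asIdeal.primeCompl (FlatLib.germLin F hzV) m
      have h2 : FlatLib.germLin F hxV (s • n) = 0 := by
        rw [map_smul, ← algebraMap_smul (X.presheaf.stalk x), ← IsLocalization.mk'_spec
          (X.presheaf.stalk x) s t, mul_comm, mul_smul, ha, smul_zero]
      obtain ⟨v, hv⟩ := (IsLocalizedModule.eq_zero_iff (hV.primeIdealOf ⟨x, hxV⟩).asIdeal.primeCompl
        (FlatLib.germLin F hxV)).mp h2
      have hvs : (v : Γ(X, V)) * s ∉ P := by
        intro h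
        rw [RingHom.mem_ker, map_mul] at h
        exact mul_ne_zero (IsLocalization.map_units (X.presheaf.stalk x) v).ne_zero hs h
      have h3 : FlatLib.germLin F hzV n = 0 :=
        (IsLocalizedModule.eq_zero_iff (hV.primeIdealOf ⟨hV.fromSpec z, hzV⟩).asIdeal.primeCompl
          (FlatLib.germLin F hzV)).mpr ⟨⟨(v : Γ(X, V)) * s, by rw [Ideal.mem_primeCompl_iff, hz]; exact hvs⟩, by
            rw [Submonoid.smul_def] at hv ⊢
            rw [mul_smul]
            exact hv⟩
      rw [h3] at hn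
      exact (IsLocalizedModule.smul_inj (FlatLib.germLin F hzV) w m 0).mp (hn.trans (smul_zero w).symm)
    have hdim : Module.supportDim (X.presheaf.stalk x) (F.presheaf.stalk x) =
        ringKrullDim (X.presheaf.stalk x) := by
      rw [Module.supportDim_eq_ringKrullDim_quotient_annihilator, hann]
      exact ringKrullDim_eq_of_ringEquiv (RingEquiv.quotientBot _)
    have hd := (isRegularLocalRing_iff (X.presheaf.stalk x)).1 inferInstance
    have hdepth : ((IsLocalRing.maximalIdeal (X.presheaf.stalk x)).spanFinrank : ℕ∞) ≤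
        LocCoh.depth (X.presheaf.stalk x) (F.presheaf.stalk x) := by
      have h : Module.supportDim (X.presheaf.stalk x) (F.presheaf.stalk x) =
          ((LocCoh.depth (X.presheaf.stalk x) (F.presheaf.stalk x) : ℕ∞) : WithBot ℕ∞) := hCM x
      rw [hdim, ← hd] at h
      exact_mod_cast h.le
    haveI : Module.Free (X.presheaf.stalk x) (F.presheaf.stalk x) :=
      RegFlatLib.free_of_hasSeqIn _ _ rfl _ ((CommAlgDim.le_depth_iff _).1 hdepth)
    obtain ⟨U, hxU, n, ⟨e⟩⟩ := Groth.Agent.S4652.freeNear_of_fp (QCohLib.isFP_of_isCoh F hF) x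
      (inferInstanceAs (Module.Flat (X.presheaf.stalk x) (F.presheaf.stalk x)))
    let e' : F.restrict U.ι ≅ FlatMod.freeMod (↑U) n :=
      (Scheme.Modules.restrictFunctorIsoPullback U.ι).app F ≪≫ e
    refine ⟨U, n, hxU, Nat.pos_of_ne_zero fun hn => hnt ?_, ⟨e'⟩⟩
    subst hn
    obtain ⟨l⟩ := stalk_pi_of_iso e' x hxU
    exact l.toEquiv.subsingleton
  · intro h
    have key : ∀ x : X, ∃ n, 0 < n ∧ Nonempty ((F.presheaf.stalk x : Type u) ≃ₗ[X.presheaf.stalk x]
        (Fin n → X.presheaf.stalk x)) := fun x => by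
      obtain ⟨U, n, hx, hn, ⟨e⟩⟩ := h x
      exact ⟨n, hn, stalk_pi_of_iso e x hx⟩
    have hnt : ∀ x : X, Nontrivial (F.presheaf.stalk x) := fun x => by
      obtain ⟨n, hn, ⟨l⟩⟩ := key x
      haveI : Nonempty (Fin n) := ⟨⟨0, hn⟩⟩
      exact l.toEquiv.nontrivial
    have hfree : FlatMod.IsFinLocFree F := fun x => by
      obtain ⟨U, n, hx, -, he⟩ := h x
      exact ⟨U, n, hx, he⟩
    refine ⟨Set.eq_univ_iff_forall.mpr fun x => not_subsingleton_iff_nontrivial.mpr (hnt x), fun x => ?_⟩
    haveI := hreg x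
    haveI := hnt x
    haveI : Module.Finite (X.presheaf.stalk x) (F.presheaf.stalk x) := DepthLib.finite_stalk F hF.2 x
    refine le_antisymm ?_ (SegreLC.depth_le_supportDim _)
    have hd := (isRegularLocalRing_iff (X.presheaf.stalk x)).1 inferInstance
    refine (Module.supportDim_le_ringKrullDim _ _).trans ?_
    rw [← hd]
    refine WithBot.coe_le_coe.mpr (LocSuppLib.le_depth_stalk hfree x ?_)
    obtain ⟨rs, hrs, hl⟩ := CommAlgDim.isCM_of_isRegularLocalRing (X.presheaf.stalk x)
    rw [← hd] at hl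
    refine (CommAlgDim.le_depth_iff _).2 ⟨rs, by exact_mod_cast hl.symm, fun r hr => ?_, hrs.toIsWeaklyRegular⟩
    by_contra hu
    refine hrs.top_ne_smul ?_
    rw [Ideal.eq_top_of_isUnit_mem (Ideal.ofList rs) (Ideal.subset_span hr) (IsLocalRing.notMem_maximalIdeal.1 hu)]
    exact (Submodule.top_smul _).symm

end Groth.Agent.S0828
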