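import Groth.Statements.S0834
import Groth.Agent.FormalCohLib.Tools

set_option autoImplicit false
universe u
open Formal2

namespace Groth.Agent.S0834

open CategoryTheory CategoryTheory.Limits AlgebraicGeometry in
/-- Let A be a ring, I ⊆ A an ideal and X a Noetherian scheme over Spec A. Then the full subcategory of
inverse systems of 𝒪_X-modules formed by the coherent formal modules for the ideal sheaf I·𝒪_X has
kernels. (This is the kernel half of the statement that this category is abelian; cokernels are
componentwise, and abelianness itself is not asserted here.) -/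
theorem result (A : Type u) [CommRing A] (I : Ideal A) (X : Scheme.{u})
    [X.Over (Spec (CommRingCat.of A))] [IsNoetherian X] : HasKernels (Formal2.CohFormalCat I X) := by
  refine ⟨fun {G H} f => ?_⟩
  obtain ⟨K, hK, j, hj, huniv, -⟩ := FormalCohLib.exists_kernel G.property H.property f.hom
  let c : KernelFork f := KernelFork.ofι (Z := (⟨K, hK⟩ : Formal2.CohFormalCat I X)) (ObjectProperty.homMk j)
    (ObjectProperty.hom_ext _ hj)
  have hs : ∀ s : KernelFork f, s.ι.hom ≫ f.hom = 0 := fun s => congrArg (fun t => t.hom) (KernelFork.condition s)
  refine HasLimit.mk ⟨c, Fork.IsLimit.mk c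
    (fun s => ObjectProperty.homMk (huniv _ s.pt.property s.ι.hom (hs s)).choose)
    (fun s => ObjectProperty.hom_ext _ (huniv _ s.pt.property s.ι.hom (hs s)).choose_spec.1)
    (fun s m hm => ObjectProperty.hom_ext _ ((huniv _ s.pt.property s.ι.hom (hs s)).choose_spec.2 m.hom
      (congrArg (fun t => t.hom) hm)))⟩

end Groth.Agent.S0834
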