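import Groth.Statements.S0837
import Groth.Agent.FormalLib.Main

set_option autoImplicit false
universe u
open Coherent

namespace Groth.Agent.S0837

open CategoryTheory CategoryTheory.Limits AlgebraicGeometry in
/-- Let A be a Noetherian ring, I an ideal, X proper over Spec A and F a coherent O_X-module. For every
p there is c ≥ 0 such that for all n ≥ c the kernel of H^p(X, I^nF) → H^p(X, F) equals the kernel of
H^p(X, I^nF) → H^p(X, I^(n−c)F). (Here I^nF ⊆ F is the kernel of F → F/I^nF.) -/
theorem result (A : Type u) [CommRing A] [IsNoetherianRing A]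
    (I : Ideal A) (X : Scheme.{u}) [X.Over (Spec (CommRingCat.of A))] [IsProper (X ↘ Spec (CommRingCat.of A))]
    (F : X.Modules) (hF : Coh.IsCoh F) (p : ℕ) :
    ∃ c : ℕ, ∀ (n : ℕ) (h : c ≤ n),
      (Sheaf.H.map ((SheafOfModules.toSheaf _).map (Formal2.idealPowModι I n F)) p).ker =
        (Sheaf.H.map ((SheafOfModules.toSheaf _).map (Formal2.idealPowIncl I (Nat.sub_le n c) F)) p).ker :=
  by
  obtain ⟨c, hc⟩ := FormalLib.exists_kernel_stable I hF p
  refine ⟨c, fun n h => ?_⟩
  obtain ⟨d, rfl⟩ : ∃ d, n = d + c := ⟨n - c, by omega⟩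
  have hι : Formal2.idealPowIncl I (Nat.sub_le (d + c) c) F ≫ Formal2.idealPowModι I (d + c - c) F =
      Formal2.idealPowModι I (d + c) F := Limits.kernel.lift_ι _ _ _
  ext x
  rw [AddMonoidHom.mem_ker, AddMonoidHom.mem_ker]
  constructor
  · intro hx
    have key : ∀ (e : ℕ), e = d → ∀ he : e ≤ d + c,
        Sheaf.H.map ((SheafOfModules.toSheaf X.ringCatSheaf).map (Formal2.idealPowIncl I he F)) p x = 0 := by
      rintro e rfl he
      exact hc e _ (Limits.kernel.lift_ι _ _ _) x hx
    exact key (d + c - c) (by omega) _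
  · intro hx
    have := congrArg (fun φ => Sheaf.H.map ((SheafOfModules.toSheaf X.ringCatSheaf).map φ) p x) hι
    refine this.symm.trans ((Formal.HHmap_comp _ _ p x).symm.trans ?_)
    exact (congrArg _ hx).trans (map_zero _)

end Groth.Agent.S0837
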