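import Groth.Statements.S0856
import Mathlib


set_option autoImplicit false
set_option linter.all false
universe u
open CategoryTheory
open CohSite

namespace Groth.Agent.S0856

open Opposite in
/-- Let (C, O) be a ringed site, a : U' -> U a monomorphism of C and I an injective sheaf of O-modules.
Then the restriction map I(U) -> I(U') is surjective. -/
theorem result {C : Type u} [SmallCategory C]
    {J : GrothendieckTopology C} (O : Sheaf J RingCat.{u}) (I : SheafOfModules.{u} O) [Injective I]
    {U U' : C} (a : U' ⟶ U) [Mono a] : Function.Surjective (I.val.map a.op) := by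
  classical
  intro s
  let F := PresheafOfModules.free O.obj
  let L := PresheafOfModules.sheafification (R₀ := O.obj) (𝟙 O.obj)
  let adj := PresheafOfModules.sheafificationAdjunction (R₀ := O.obj) (𝟙 O.obj)
  haveI : Mono (F.map (yoneda.map a)) := by
    haveI : ∀ X : Cᵒᵖ, Mono ((PresheafOfModules.evaluation O.obj X).map (F.map (yoneda.map a))) := by
      intro X
      show Mono ((ModuleCat.free (O.obj.obj X)).map ((yoneda.map a).app X))
      rw [ModuleCat.mono_iff_injective]
      have hinj : Function.Injective ((yoneda.map a).app X) := fun g g' h => (cancel_mono a).1 h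
      exact Finsupp.mapDomain_injective hinj
    constructor
    intro Z g h e
    ext1 X
    apply (cancel_mono ((PresheafOfModules.evaluation O.obj X).map (F.map (yoneda.map a)))).1
    exact congrArg ((PresheafOfModules.evaluation O.obj X).map) e
  haveI : Mono (L.map (F.map (yoneda.map a))) := inferInstance
  let s' : F.obj (yoneda.obj U') ⟶ I.val := PresheafOfModules.freeYonedaEquiv.symm s
  obtain ⟨g, hg⟩ := Injective.factors ((adj.homEquiv _ I).symm s') (L.map (F.map (yoneda.map a)))
  have h1 := congrArg (adj.homEquiv _ I) hg
  rw [Adjunction.homEquiv_naturality_left, Equiv.apply_symm_apply] at h1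
  refine ⟨PresheafOfModules.freeYonedaEquiv (adj.homEquiv (F.obj (yoneda.obj U)) I g), ?_⟩
  have h2 := congrArg PresheafOfModules.freeYonedaEquiv h1
  refine Eq.trans ?_ (h2.trans (Equiv.apply_symm_apply _ s))
  have key : ∀ k : (PresheafOfModules.free O.obj).obj (yoneda.obj U) ⟶ I.val,
      I.val.map a.op (PresheafOfModules.freeYonedaEquiv k) =
        PresheafOfModules.freeYonedaEquiv ((PresheafOfModules.free O.obj).map (yoneda.map a) ≫ k) := by
    intro k
    show _ = yonedaEquiv (PresheafOfModules.freeHomEquiv ((PresheafOfModules.free O.obj).map (yoneda.map a) ≫ k))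
    have hn := (PresheafOfModules.freeAdjunction O.obj).homEquiv_naturality_left (yoneda.map a) k
    rw [PresheafOfModules.freeAdjunction_homEquiv, PresheafOfModules.freeAdjunction_homEquiv] at hn
    exact (yonedaEquiv_naturality (PresheafOfModules.freeHomEquiv k) a).trans (congrArg yonedaEquiv hn.symm)
  exact key (adj.homEquiv (F.obj (yoneda.obj U)) I g)

end Groth.Agent.S0856
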