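import Groth.Statements.S0874
import Groth.Agent.AbSiteDerLib.HduMap
-- import your own Groth.Agent.* helpers here

set_option autoImplicit false
universe u
open CategoryTheory
open CohTop

namespace Groth.Agent.S0874

open TopologicalSpace CategoryTheory.Limits in
/-- Let (K_n) be an inverse system in D(Ab X), the derived category of sheaves of abelian groups on X,
with derived limit L (through maps a_n : L -> K_n), x a point and m an integer. Suppose there are an
index n(x) and a fundamental system of open neighbourhoods U of x such that (1) the inverse system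
H^{m-1}(U, K_n) has vanishing R^1 lim and (2) for every n >= n(x), the transition map from H^m(U,
K_n) to H^m(U, K_{n(x)}) is one-to-one. Then a_{n(x)} induces an injection of stalks at x, from
H^m(L) into H^m(K_{n(x)}). -/
theorem result {X : TopCat.{u}} [HasDerivedCategory.{u} (CohTop.Ab X)]
    (K : ℕ → DerivedCategory (CohTop.Ab X)) (t : ∀ n, K (n + 1) ⟶ K n) [HasProduct K]
    (L : DerivedCategory (CohTop.Ab X)) (a : ∀ n, L ⟶ K n) (hL : CohCx.IsRlimVia K t L a)
    (x : X) (m : ℤ) (nx : ℕ)
    (h : ∀ V : Opens X, x ∈ V → ∃ U : Opens X, x ∈ U ∧ U ≤ V ∧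
      CohCx.LimOneIsZero (fun n => CohCx.HDU (K n) (m - 1) U)
        (fun n => Preadditive.rightComp _ ((shiftFunctor _ (m - 1)).map (t n))) ∧
      ∀ k : ℕ, Function.Injective
        (Preadditive.rightComp _ ((shiftFunctor _ m).map (CohCx.transition K t nx k)) :
          CohCx.HDU (K (nx + k)) m U → CohCx.HDU (K nx) m U)) :
    Function.Injective ((TopCat.Presheaf.stalkFunctor AddCommGrpCat.{u} x).map
      ((DerivedCategory.homologyFunctor (CohTop.Ab X) m).map (a nx)).hom) := by
  set_option backward.isDefEq.respectTransparency false in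
  refine (injective_iff_map_eq_zero _).mpr fun σ hσ => ?_
  obtain ⟨V, hxV, s, rfl⟩ := TopCat.Presheaf.exists_germ_eq
    ((DerivedCategory.homologyFunctor (CohTop.Ab X) m).obj L).obj σ
  erw [TopCat.Presheaf.stalkFunctor_map_germ_apply] at hσ
  obtain ⟨W, hxW, i₁, i₂, hW⟩ := TopCat.Presheaf.germ_eq
    ((DerivedCategory.homologyFunctor (CohTop.Ab X) m).obj (K nx)).obj x hxV hxV _ 0
    (hσ.trans (map_zero _).symm)
  rw [map_zero] at hW
  let HL := ((DerivedCategory.homologyFunctor (CohTop.Ab X) m).obj L).obj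
  have hW' : ((DerivedCategory.homologyFunctor (CohTop.Ab X) m).map (a nx)).hom.app (Opposite.op W)
      (HL.map i₁.op s) = 0 := by
    rw [NatTrans.naturality_apply]
    exact hW
  obtain ⟨S, hS, hsur⟩ := Groth.Agent.AbSiteDerLib.theta_locallySurjective L m W (HL.map i₁.op s)
  obtain ⟨V1, f1, hf1, hx1⟩ := hS x hxW
  obtain ⟨y, hy⟩ := hsur V1 f1 hf1
  have h0 : Groth.Agent.AbSiteDerLib.theta V1 m (K nx) (y ≫ a nx) = 0 := by
    rw [Groth.Agent.AbSiteDerLib.theta_comp, hy, NatTrans.naturality_apply, hW', map_zero]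
  obtain ⟨S', hS', hloc⟩ := Groth.Agent.AbSiteDerLib.theta_locallyInjective (K nx) m V1 _ h0
  obtain ⟨V2, f2, hf2, hx2⟩ := hS' x hx1
  obtain ⟨U, hxU, hU, hlim, hinj⟩ := h V2 hx2
  have hy0 : Groth.Agent.AbSiteDerLib.dgenMap (CategoryTheory.homOfLE hU) m ≫
      Groth.Agent.AbSiteDerLib.dgenMap f2 m ≫ y = 0 :=
    Groth.Agent.AbSiteDerLib.eq_zero_of_rlim_transition hL U m nx hlim hinj _ (by
      rw [Category.assoc, Category.assoc, hloc V2 f2 hf2, comp_zero])
  have h1 := congrArg (Groth.Agent.AbSiteDerLib.theta U m L) hy0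
  rw [map_zero, Groth.Agent.AbSiteDerLib.theta_res, Groth.Agent.AbSiteDerLib.theta_res, hy] at h1
  refine TopCat.Presheaf.germ_ext _ U hxU (CategoryTheory.homOfLE hU ≫ f2 ≫ f1 ≫ i₁) (𝟙 U) ?_ |>.trans (map_zero (TopCat.Presheaf.germ HL U x hxU).hom)
  simp only [op_comp, CategoryTheory.Functor.map_comp, ConcreteCategory.comp_apply, map_zero]
  exact h1


end Groth.Agent.S0874
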