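import Groth.Statements.S0884
import Groth.Agent.CohTopLib.SpecGen
-- import your own Groth.Agent.* helpers here

set_option autoImplicit false
universe u
open CategoryTheory
open CohTop

namespace Groth.Agent.S0884

open TopologicalSpace in
/-- Let f : X -> Y be a spectral map of spectral spaces, y a point of Y, E ⊆ Y the set of points
specializing to y, and F an abelian sheaf on X. Then the stalk (R^p f_* F)_y is isomorphic to
H^p(f^{-1}(E), F|_{f^{-1}(E)}), the cohomology of the pullback of F to the subspace f^{-1}(E). -/
theorem result {X Y : TopCat.{u}} [SpectralSpace X] [SpectralSpace Y]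
    (f : X ⟶ Y) (hf : IsSpectralMap f) (y : Y) (F : CohTop.Ab X) (p : ℕ) :
    Nonempty (CohTop.stalk ((CohTop.Rpush f p).obj F) y ≃+
      CohTop.H ((CohTop.pull (TopCat.ofHom ⟨Subtype.val, continuous_subtype_val⟩ :
          TopCat.of {x : X | y ∈ closure {f x}} ⟶ X)).obj F) p) := by
  set W : Set X := {x : X | y ∈ closure {f x}} with hW
  let e : TopCat.of W ⟶ X := TopCat.ofHom ⟨Subtype.val, continuous_subtype_val⟩
  have he : Topology.IsInducing e := Topology.IsInducing.subtypeVal
  have hr : Set.range e = W := Subtype.range_coe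
  have hWs : W = {x : X | f x ⤳ y} := Set.ext fun x => specializes_iff_mem_closure.symm
  have hg : StableUnderGeneralization (Set.range e) := by
    rw [hr, hWs]
    exact fun a b hab hb => (hab.map f.hom.continuous).trans hb
  have hc : IsCompact (Set.range e) := by
    rw [hr, hWs]
    exact CohTopLib.SpecGen.isCompact_preimage_gen f hf y
  have hey : ∀ z, f (e z) ⤳ y := fun z => specializes_iff_mem_closure.mpr z.2
  obtain ⟨i⟩ := CohTopLib.SpecGen.nonempty_stalk_Rpush_iso e f y hey
    (fun U hU => CohTopLib.SpecGen.exists_tube f hf y U fun x hx =>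
      hU ⟨x, specializes_iff_mem_closure.mp hx⟩) he hg hc F p
  obtain ⟨j⟩ := CohTopLib.SpecGen.nonempty_rightDerived_GZ he hg hc F p
  exact ⟨(i ≪≫ j).addCommGroupIsoToAddEquiv⟩

end Groth.Agent.S0884
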