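import Groth.Statements.S0894
import Mathlib.AlgebraicTopology.SimplicialObject.Basic

set_option autoImplicit false
universe u
open CategoryTheory
open Hyper

namespace Groth.Agent.S0894

open Opposite in
/-- For a hypercovering K of an object X of a site with fibre products (a simplicial semi-representable
object over X; coskeleta are assumed to exist): (1) for each n the family K_n is a covering of X,
and (2) every face map d_i : K_{n+1} -> K_n is a covering morphism of semi-representable objects. -/
theorem result {C : Type u} [SmallCategory C] [Limits.HasPullbacks C]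
    (J : GrothendieckTopology C) (X : C) (K : SimplicialObject (Limits.FormalCoproduct.{u} (Over X)))
    [∀ (n : ℕ) (F : (SimplexCategory.Truncated n)ᵒᵖ ⥤ Limits.FormalCoproduct.{u} (Over X)),
      (SimplexCategory.Truncated.inclusion n).op.HasRightKanExtension F]
    (hK : Hyper.IsHypercovering J X K) :
    (∀ n : ℕ, Sieve.ofArrows (fun i => ((K.obj (op (SimplexCategory.mk n))).obj i).left)
      (fun i => ((K.obj (op (SimplexCategory.mk n))).obj i).hom) ∈ J X) ∧
    ∀ (n : ℕ) (i : Fin (n + 2)), Hyper.IsSRCovering (J.over X) (K.δ i) := by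
  have hface : ∀ (n : ℕ) (i : Fin (n + 2)), ∃ s : K.obj (op (SimplexCategory.mk n)) ⟶ K.obj (op (SimplexCategory.mk (n + 1))),
      s ≫ K.δ i = 𝟙 _ := fun n i => by
    obtain ⟨j, rfl⟩ | rfl : (∃ j : Fin (n + 1), i = j.castSucc) ∨ i = Fin.last (n + 1) := by
      rcases Fin.eq_castSucc_or_eq_last i with h | h
      · exact Or.inl h
      · exact Or.inr h
    · exact ⟨K.σ j, SimplicialObject.δ_comp_σ_self K⟩
    · exact ⟨K.σ (Fin.last n), by rw [← Fin.succ_last]; exact SimplicialObject.δ_comp_σ_succ K⟩
  refine ⟨fun n => ?_, fun n i j => ?_⟩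
  · induction n with
    | zero => exact hK.1
    | succ n ih =>
      obtain ⟨s, -⟩ := hface n 0
      refine J.superset_covering ((Sieve.generate_le_iff _ _).2 ?_) ih
      rintro Y g ⟨a⟩
      rw [← Over.w (s.φ a)]
      exact Sieve.downward_closed _ (Sieve.ofArrows_mk _ _ (s.f a)) _
  · obtain ⟨s, hs⟩ := hface n i
    obtain ⟨hf, hφ⟩ := (Limits.FormalCoproduct.hom_ext_iff' _ _).1 hs j
    refine (J.over X).superset_covering (fun Y g _ => ?_) ((J.over X).top_mem _)
    rw [← Category.comp_id g]
    refine Sieve.downward_closed _ ?_ g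
    refine (Sieve.mem_ofArrows_iff _ _ _).2 ⟨⟨s.f j, hf⟩, s.φ j, ?_⟩
    refine hφ.symm.trans ?_
    exact Category.assoc _ _ _

end Groth.Agent.S0894
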