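import Groth.Statements.S0897
import Groth.Agent.CohTopLib.MilnorCx
import Groth.Agent.AbSiteDerLib.RlimBasis
-- import your own Groth.Agent.* helpers here

set_option autoImplicit false
universe u
open CategoryTheory
open CohTop

namespace Groth.Agent.S0897

open TopologicalSpace Opposite CategoryTheory.Limits in
/-- Abelian sheaves; conclusion stated as: H^m of the limit complex maps isomorphically onto H^m(F_{n₀})
by the projection: let (F_n) be an inverse system of complexes of abelian sheaves on X, m an
integer, B a basis of opens and n₀ an index such that for every U in B: (a) the systems of sections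
F_n^{m-2}(U) and F_n^{m-1}(U) have vanishing R^1 lim, (b) the system H^{m-1}(F_n(U)) of cohomology
groups of the complexes of sections has vanishing R^1 lim, and (c) H^m(F_n(U)) -> H^m(F_{n₀}(U)) is
an isomorphism for all n ≥ n₀. Then, with F = lim F_n the termwise limit, the map H^m(F) ->
H^m(F_{n₀}) of cohomology sheaves is an isomorphism. -/
theorem result {X : TopCat.{u}}
    (F : ℕ → CochainComplex (CohTop.Ab X) ℤ) (t : ∀ n, F (n + 1) ⟶ F n) (m : ℤ)
    (B : Set (Opens X)) (hB : Opens.IsBasis B) (n₀ : ℕ)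
    (ha : ∀ U ∈ B, ∀ j : ℤ, (j = m - 2 ∨ j = m - 1) →
      CohCx.LimOneIsZero (fun n => ((F n).X j).obj.obj (op U)) (fun n => (((t n).f j).hom.app (op U)).hom))
    (hb : ∀ U ∈ B, CohCx.LimOneIsZero
      (fun n => ((CohCx.sectCx (Opens.grothendieckTopology X) U).obj (F n)).homology (m - 1))
      (fun n => (HomologicalComplex.homologyMap ((CohCx.sectCx (Opens.grothendieckTopology X) U).map (t n))
        (m - 1)).hom))
    (hc : ∀ U ∈ B, ∀ k : ℕ, IsIso (HomologicalComplex.homologyMap
      ((CohCx.sectCx (Opens.grothendieckTopology X) U).map (CohCx.transition F t n₀ k)) m)) :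
    IsIso (HomologicalComplex.homologyMap (limit.π (CohCx.opSequence F t) (op n₀)) m) := by
  let J := Opens.grothendieckTopology X
  have hlim : Limits.HasLimitsOfShape ℕᵒᵖ (Sheaf J AddCommGrpCat.{u}) :=
    Groth.Agent.AbSiteDerLib.hasLimitsOfShape_nat
  let π₀ := Limits.limit.π (CohCx.opSequence F t) (Opposite.op n₀)
  have hb' : ∀ U ∈ B, Groth.Agent.AbSiteDerLib.BijAt π₀ m U := by
    intro U hU
    rw [Groth.Agent.AbSiteDerLib.bijAt_iff_secAt]
    let S := CohCx.sectCx J U
    let G := fun j : ℤ => HomologicalComplex.eval (Sheaf J AddCommGrpCat.{u}) (ComplexShape.up ℤ) j ⋙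
      Groth.Agent.AbSiteDerLib.secFun J U
    have hG : ∀ j, Limits.PreservesLimitsOfShape ℕᵒᵖ (G j) := fun j =>
      haveI : Limits.PreservesLimitsOfShape ℕᵒᵖ (Groth.Agent.AbSiteDerLib.secFun J U) :=
        Limits.comp_preservesLimitsOfShape _ _
      Limits.comp_preservesLimitsOfShape _ _
    have htr : ∀ k, S.map (CohCx.transition F t n₀ k) =
        CohCx.transition (fun n => S.obj (F n)) (fun n => S.map (t n)) n₀ k := by
      intro k
      induction k with
      | zero => exact S.map_id _
      | succ k ih => exact (S.map_comp _ _).trans (congrArg (_ ≫ ·) ih)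
    refine Groth.Agent.CohTopLib.MilnorCx.isIso_homologyMap_of_milnor (fun n => S.obj (F n))
      (fun n => S.map (t n)) (fun n => S.map (Limits.limit.π (CohCx.opSequence F t) (Opposite.op n)))
      (fun n => ?_) (fun j s s' h => ?_) (fun j v hv => ?_) m n₀ (ha U hU) (hb U hU)
      (fun k => (htr k) ▸ hc U hU k)
    · have h := Limits.limit.w (CohCx.opSequence F t) (homOfLE (Nat.le_succ n)).op
      rw [Functor.ofOpSequence_map_homOfLE_succ] at h
      exact (S.map_comp _ _).symm.trans (congrArg S.map h)
    · haveI := hG j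
      exact Groth.Agent.CohTopLib.MilnorCx.map_limit_ext (G j) F t s s' h
    · haveI := hG j
      exact Groth.Agent.CohTopLib.MilnorCx.exists_map_limit (G j) F t v hv
  rw [Groth.Agent.AbSiteDerLib.isIso_homologyMap_iff]
  refine ⟨⟨fun {U} s s' h => ?_⟩, ⟨fun {U} s => ?_⟩⟩
  · intro x hx
    obtain ⟨W, hW, hxW, hWU⟩ := Opens.isBasis_iff_nbhd.mp hB hx
    refine ⟨W, CategoryTheory.homOfLE hWU, (hb' W hW).1 ?_, hxW⟩
    exact (NatTrans.naturality_apply _ _ _).trans ((congrArg _ h).trans (NatTrans.naturality_apply _ _ _).symm)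
  · intro x hx
    obtain ⟨W, hW, hxW, hWU⟩ := Opens.isBasis_iff_nbhd.mp hB hx
    exact ⟨W, CategoryTheory.homOfLE hWU, (hb' W hW).2 _, hxW⟩


end Groth.Agent.S0897
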