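import Groth.Statements.S0898
import Mathlib.CategoryTheory.Limits.FormalCoproducts.Basic

set_option autoImplicit false
universe u
open CategoryTheory
open Hyper

namespace Groth.Agent.S0898

open CategoryTheory.Limits in
lemma mem_cover_iff {C : Type u} [SmallCategory C] {K L : FormalCoproduct.{u} C} (f : K ⟶ L)
    (j : L.I) {Z : C} (h : Z ⟶ L.obj j) :
    Sieve.ofArrows (fun i : {i : K.I // f.f i = j} => K.obj i.1)
        (fun i => f.φ i.1 ≫ eqToHom (congrArg L.obj i.2)) h ↔
      ∃ (i : K.I) (e : f.f i = j) (a : Z ⟶ K.obj i), a ≫ f.φ i ≫ eqToHom (congrArg L.obj e) = h := by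
  rw [Sieve.mem_ofArrows_iff]
  constructor
  · rintro ⟨⟨i, e⟩, a, ha⟩; exact ⟨i, e, a, ha.symm⟩
  · rintro ⟨i, e, a, ha⟩; exact ⟨⟨i, e⟩, a, ha.symm⟩

open CategoryTheory.Limits in
/-- Parts (1) and (2), about covering morphisms between semi-representable objects (formal coproducts)
of a site: (1) the composite of two covering morphisms is a covering, and (2) for a site with fibre
products, the base change of a covering K -> L along any L' -> L (which exists) is a covering L' x_L
K -> L'. -/
theorem result {C : Type u} [SmallCategory C] (J : GrothendieckTopology C) :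
    (∀ {K L M : FormalCoproduct.{u} C} (f : K ⟶ L) (g : L ⟶ M),
      Hyper.IsSRCovering J f → Hyper.IsSRCovering J g → Hyper.IsSRCovering J (f ≫ g)) ∧
    (∀ [HasPullbacks C] {K L L' : FormalCoproduct.{u} C} (f : K ⟶ L) (g : L' ⟶ L),
      Hyper.IsSRCovering J f → HasPullback g f ∧ ∀ [HasPullback g f], Hyper.IsSRCovering J (pullback.fst g f)) := by
  refine ⟨fun {K L M} f g hf hg k => ?_, fun {_} {K L L'} f g hf => ⟨inferInstance, fun {_} j' => ?_⟩⟩
  · refine J.transitive (hg k) _ fun Y h hh => ?_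
    obtain ⟨j, e, a, rfl⟩ := (mem_cover_iff g k h).mp hh
    subst e
    refine J.superset_covering ?_ (J.pullback_stable a (hf j))
    intro Z b hb
    obtain ⟨i, e', c, hc⟩ := (mem_cover_iff f j _).mp hb
    subst e'
    refine (mem_cover_iff (f ≫ g) _ _).mpr ⟨i, rfl, c, ?_⟩
    have hc' : c ≫ f.φ i = b ≫ a := by simpa using hc
    simp only [eqToHom_refl, Category.comp_id]
    show c ≫ f.φ i ≫ g.φ (f.f i) = b ≫ a ≫ g.φ (f.f i)
    rw [← Category.assoc c, hc', Category.assoc]
  · refine J.superset_covering ?_ (J.pullback_stable (g.φ j') (hf (g.f j')))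
    intro Z h hh
    obtain ⟨i, e, a, ha⟩ := (mem_cover_iff f _ _).mp hh
    let s : (FormalCoproduct.incl C).obj Z ⟶ L' := FormalCoproduct.Hom.fromIncl j' h
    let t : (FormalCoproduct.incl C).obj Z ⟶ K := FormalCoproduct.Hom.fromIncl i a
    have w : s ≫ g = t ≫ f := by
      rw [FormalCoproduct.hom_ext_iff']
      intro _
      refine ⟨e.symm, ?_⟩
      show (h ≫ g.φ j') ≫ eqToHom _ = a ≫ f.φ i
      rw [← ha, Category.assoc, Category.assoc]
      erw [eqToHom_trans, eqToHom_refl, Category.comp_id]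
    let l : (FormalCoproduct.incl C).obj Z ⟶ pullback g f := pullback.lift s t w
    obtain ⟨h₁, h₂⟩ := (FormalCoproduct.hom_ext_iff' _ _).mp
      (pullback.lift_fst (f := g) (g := f) s t w) PUnit.unit
    refine (mem_cover_iff (pullback.fst g f) j' h).mpr
      ⟨l.f PUnit.unit, h₁, l.φ PUnit.unit, ?_⟩
    have h3 : (l.φ PUnit.unit ≫ (pullback.fst g f).φ (l.f PUnit.unit)) ≫
        eqToHom (congrArg L'.obj h₁) = h := h₂
    exact (Category.assoc _ _ _).symm.trans h3

end Groth.Agent.S0898
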