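import Groth.Statements.S0899
import Groth.Agent.CohTopLib.MilnorCx
import Groth.Agent.AbSiteDerLib.RlimBasis
-- import your own Groth.Agent.* helpers here

set_option autoImplicit false
set_option backward.isDefEq.respectTransparency false
universe u
open CategoryTheory
open CohSite

namespace Groth.Agent.S0899

open Opposite CategoryTheory.Limits in
/-- Let (F_n) be an inverse system of complexes of abelian sheaves on a site, m an integer, B a class of
objects such that every object is covered by members of B, and n₀ an index such that for every U in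
B: (a) the inverse systems of sections F_n^{m−2}(U) and F_n^{m−1}(U) have vanishing R¹ lim, (b) the
inverse system H^{m−1}(F_n(U)) has vanishing R¹ lim, (c) H^m(F_n(U)) → H^m(F_{n₀}(U)) is an
isomorphism for every n ≥ n₀. Then for the termwise limit F = lim F_n the map H^m(F) → H^m(F_{n₀})
of cohomology sheaves is an isomorphism. (Here the sheaves are abelian sheaves, and the conclusion
is stated as the isomorphism H^m(F) → H^m(F_{n₀}); the published statement's setting and phrasing
differ in these respects.) -/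
theorem result {C : Type u} [SmallCategory C] (J : GrothendieckTopology C)
    (F : ℕ → CochainComplex (Sheaf J AddCommGrpCat.{u}) ℤ) (t : ∀ n, F (n + 1) ⟶ F n) (m : ℤ)
    (B : Set C)
    (hB : ∀ U : C, ∃ (ι : Type u) (Y : ι → C) (f : ∀ i, Y i ⟶ U), Sieve.ofArrows Y f ∈ J U ∧ ∀ i, Y i ∈ B)
    (n₀ : ℕ)
    (ha : ∀ U ∈ B, ∀ j : ℤ, (j = m - 2 ∨ j = m - 1) →
      CohCx.LimOneIsZero (fun n => ((F n).X j).obj.obj (op U)) (fun n => (((t n).f j).hom.app (op U)).hom))
    (hb : ∀ U ∈ B, CohCx.LimOneIsZero
      (fun n => ((CohCx.sectCx J U).obj (F n)).homology (m - 1))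
      (fun n => (HomologicalComplex.homologyMap ((CohCx.sectCx J U).map (t n)) (m - 1)).hom))
    (hc : ∀ U ∈ B, ∀ k : ℕ, IsIso (HomologicalComplex.homologyMap
      ((CohCx.sectCx J U).map (CohCx.transition F t n₀ k)) m)) :
    IsIso (HomologicalComplex.homologyMap (limit.π (CohCx.opSequence F t) (op n₀)) m) := by
  have hlim : Limits.HasLimitsOfShape ℕᵒᵖ (Sheaf J AddCommGrpCat.{u}) :=
    Groth.Agent.AbSiteDerLib.hasLimitsOfShape_nat
  let π₀ := Limits.limit.π (CohCx.opSequence F t) (Opposite.op n₀)
  have hb' : ∀ U ∈ B, Groth.Agent.AbSiteDerLib.BijAt π₀ m U := by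
    intro U hU
    rw [Groth.Agent.AbSiteDerLib.bijAt_iff_secAt]
    let S := CohCx.sectCx J U
    let G := fun j : ℤ => HomologicalComplex.eval (Sheaf J AddCommGrpCat.{u}) (ComplexShape.up ℤ) j ⋙
      Groth.Agent.AbSiteDerLib.secFun J U
    have hG : ∀ j, Limits.PreservesLimitsOfShape ℕᵒᵖ (G j) := fun j =>
      haveI : Limits.PreservesLimitsOfShape ℕᵒᵖ (Groth.Agent.AbSiteDerLib.secFun J U) :=
        Limits.comp_preservesLimitsOfShape _ _
      Limits.comp_preservesLimitsOfShape _ _
    have htr : ∀ k, S.map (CohCx.transition F t n₀ k) =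
        CohCx.transition (fun n => S.obj (F n)) (fun n => S.map (t n)) n₀ k := by
      intro k
      induction k with
      | zero => exact S.map_id _
      | succ k ih => exact (S.map_comp _ _).trans (congrArg (_ ≫ ·) ih)
    refine Groth.Agent.CohTopLib.MilnorCx.isIso_homologyMap_of_milnor (fun n => S.obj (F n))
      (fun n => S.map (t n)) (fun n => S.map (Limits.limit.π (CohCx.opSequence F t) (Opposite.op n)))
      (fun n => ?_) (fun j s s' h => ?_) (fun j v hv => ?_) m n₀ (ha U hU) (hb U hU)
      (fun k => (htr k) ▸ hc U hU k)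
    · have h := Limits.limit.w (CohCx.opSequence F t) (homOfLE (Nat.le_succ n)).op
      rw [Functor.ofOpSequence_map_homOfLE_succ] at h
      exact (S.map_comp _ _).symm.trans (congrArg S.map h)
    · haveI := hG j
      exact Groth.Agent.CohTopLib.MilnorCx.map_limit_ext (G j) F t s s' h
    · haveI := hG j
      exact Groth.Agent.CohTopLib.MilnorCx.exists_map_limit (G j) F t v hv
  rw [Groth.Agent.AbSiteDerLib.isIso_homologyMap_iff]
  refine ⟨⟨fun {U} s s' h => ?_⟩, ⟨fun {U} s => ?_⟩⟩
  · obtain ⟨ι, Y, f, hcov, hY⟩ := hB U.unop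
    refine J.superset_covering ?_ hcov
    rintro Z g ⟨W, b, _, ⟨i⟩, rfl⟩
    refine Sieve.downward_closed _ ?_ b
    refine (hb' _ (hY i)).1 ?_
    exact (NatTrans.naturality_apply _ _ _).trans ((congrArg _ h).trans (NatTrans.naturality_apply _ _ _).symm)
  · obtain ⟨ι, Y, f, hcov, hY⟩ := hB U
    refine J.superset_covering ?_ hcov
    rintro Z g ⟨W, b, _, ⟨i⟩, rfl⟩
    exact Sieve.downward_closed _ ((hb' _ (hY i)).2 _) b


end Groth.Agent.S0899
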