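import Groth.Statements.S0905
import Groth.Agent.CohLib.Sections
import Mathlib.Algebra.Homology.DerivedCategory.Ext.EnoughProjectives

set_option autoImplicit false
set_option backward.isDefEq.respectTransparency false
set_option backward.isDefEq.respectTransparency.types false
universe u
open CategoryTheory
open CohSite

namespace Groth.Agent.S0905

open Opposite CategoryTheory.Limits in
/-- Parts (1) and (2), for a weakly contractible object U of a site (one over which every epimorphism of
sheaves of sets is surjective on sections): (1) the functor F ↦ F(U) from abelian sheaves to abelian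
groups preserves finite colimits (it is exact, finite limits being automatic), and (2) H^p(U, F) = 0
for every abelian sheaf F and every p > 0. (Part (3) about torsors is not included.) -/
theorem result {C : Type u} [SmallCategory C] (J : GrothendieckTopology C)
    (U : C) (hU : CohSite.IsWeaklyContractible J U) :
    PreservesFiniteColimits (sheafToPresheaf J AddCommGrpCat.{u} ⋙ (evaluation Cᵒᵖ AddCommGrpCat.{u}).obj (op U)) ∧
    ∀ (F : Sheaf J AddCommGrpCat.{u}) (p : ℕ), Subsingleton (CohSite.HU F (p + 1) U) := by
  have hsurj : ∀ {F G : Sheaf J AddCommGrpCat.{u}} (φ : F ⟶ G), Epi φ →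
      Function.Surjective (φ.hom.app (op U)) := fun {F G} φ hφ => by
    haveI : Sheaf.IsLocallySurjective φ :=
      (Sheaf.isLocallySurjective_iff_epi' AddCommGrpCat.{u} φ).2 hφ
    haveI : Presheaf.IsLocallySurjective J
        (Functor.whiskerRight φ.hom (forget AddCommGrpCat.{u})) :=
      (Presheaf.isLocallySurjective_iff_whisker_forget J φ.hom).1 ‹Sheaf.IsLocallySurjective φ›
    haveI : Sheaf.IsLocallySurjective ((sheafCompose J (forget AddCommGrpCat.{u})).map φ) :=
      ‹Presheaf.IsLocallySurjective J (Functor.whiskerRight φ.hom (forget AddCommGrpCat.{u}))›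
    exact hU _ _ ((sheafCompose J (forget AddCommGrpCat.{u})).map φ) inferInstance
  constructor
  · let G := sheafToPresheaf J AddCommGrpCat.{u} ⋙ (evaluation Cᵒᵖ AddCommGrpCat.{u}).obj (op U)
    haveI : PreservesFiniteLimits G := comp_preservesFiniteLimits _ _
    haveI : G.Additive := Functor.additive_of_preserves_binary_products G
    rw [Functor.preservesFiniteColimits_iff_forall_exact_map_and_epi]
    intro S hS
    haveI := hS.mono_f
    exact ⟨hS.exact.map_of_mono_of_preservesKernel G hS.mono_f inferInstance,
      (AddCommGrpCat.epi_iff_surjective _).2 (hsurj S.g hS.epi_g)⟩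
  · intro F p
    haveI : Projective ((presheafToSheaf J AddCommGrpCat.{u}).obj
        (yoneda.obj U ⋙ AddCommGrpCat.free.{u})) := by
      constructor
      intro E X f e he
      obtain ⟨x, hx⟩ := hsurj e he (CohLib.secEquiv U X f)
      refine ⟨(CohLib.secEquiv U E).symm x, (CohLib.secEquiv U X).injective ?_⟩
      rw [CohLib.secEquiv_comp, Equiv.apply_symm_apply, hx]
    have hs : Subsingleton (Abelian.Ext ((presheafToSheaf J AddCommGrpCat.{u}).obj
        (yoneda.obj U ⋙ AddCommGrpCat.free.{u})) F (p + 1)) := subsingleton_of_forall_eq (0 : Abelian.Ext ((presheafToSheaf J AddCommGrpCat.{u}).obj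
        (yoneda.obj U ⋙ AddCommGrpCat.free.{u})) F (p + 1)) fun x => Abelian.Ext.eq_zero_of_projective x
    exact hs

end Groth.Agent.S0905
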