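import Groth.Statements.S0906
import Groth.Agent.HypercovLib.Fill
import Mathlib.CategoryTheory.Sites.Types
import Mathlib.Algebra.Category.Grp.Limits
import Mathlib.Algebra.Homology.ShortComplex.Ab
import Mathlib

set_option autoImplicit false
universe u
open CategoryTheory
open Hyper

namespace Groth.Agent.S0906

open Opposite CategoryTheory.Limits in
/-- For a hypercovering K of an object X of a site with fibre products and an abelian sheaf F, the
degree-zero Cech cohomology group of F with respect to K is isomorphic to F(X). -/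
theorem result {C : Type u} [SmallCategory C] [HasPullbacks C]
    (J : GrothendieckTopology C) (X : C) (K : SimplicialObject (FormalCoproduct.{u} (Over X)))
    [∀ (n : ℕ) (F : (SimplexCategory.Truncated n)ᵒᵖ ⥤ Limits.FormalCoproduct.{u} (Over X)),
      (SimplexCategory.Truncated.inclusion n).op.HasRightKanExtension F]
    (hK : Hyper.IsHypercovering J X K) (F : Sheaf J AddCommGrpCat.{u}) :
    Nonempty (Hyper.cechH X K F.obj 0 ≅ F.obj.obj (op X)) := by
  classical
  let K₀ := K.obj (op (SimplexCategory.mk 0))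
  let K₁ := K.obj (op (SimplexCategory.mk 1))
  let P' := (Over.forget X).op ⋙ F.obj
  let E := (FormalCoproduct.evalOp.{u} (Over X) AddCommGrpCat.{u}).obj P'
  let cx := Hyper.cechCx X K F.obj
  let T := F.obj ⋙ CategoryTheory.forget AddCommGrpCat.{u}
  have hT : Presieve.IsSheaf J T := (isSheaf_iff_isSheaf_of_type _ _).1
    ((Presheaf.isSheaf_iff_isSheaf_forget J F.obj (CategoryTheory.forget AddCommGrpCat.{u})).1 F.property)
  have hcov := hT.isSheafFor (Presieve.ofArrows (fun i => (K₀.obj i).left) fun i => (K₀.obj i).hom) hK.1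
  have hπ : ∀ {β : Type u} (f : β → AddCommGrpCat.{u}) {P : AddCommGrpCat.{u}} (g : ∀ b, P ⟶ f b) (b : β) (x : P),
      Pi.π f b (Pi.lift g x) = g b x := fun f P g b x => by
    rw [← ConcreteCategory.comp_apply, Pi.lift_π]
  -- the value of a cochain on a piece
  let v : ∀ {V : Over X}, E.obj (op K₀) → ((FormalCoproduct.incl (Over X)).obj V ⟶ K₀) → F.obj.obj (op V.left) :=
    fun {V} x m => F.obj.map (m.φ PUnit.unit).left.op (Pi.π (fun i => P'.obj (op (K₀.obj i))) (m.f PUnit.unit) x)
  have hE : ∀ {A B : FormalCoproduct.{u} (Over X)} (m : A ⟶ B) (x : E.obj (op B)) (i : A.I),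
      Pi.π (fun i => P'.obj (op (A.obj i))) i (E.map m.op x) =
        F.obj.map (m.φ i).left.op (Pi.π (fun i => P'.obj (op (B.obj i))) (m.f i) x) := fun {A B} m x i => by
    refine (hπ (fun i => P'.obj (op (A.obj i))) _ i x).trans ?_
    rfl
  have hv : ∀ {V : Over X} (x : E.obj (op K₀)) (m : (FormalCoproduct.incl (Over X)).obj V ⟶ K₀),
      Pi.π (fun _ : PUnit.{u + 1} => P'.obj (op V)) PUnit.unit (E.map m.op x) = v x m := fun x m =>
    hE m x PUnit.unit
  have hvcomp : ∀ {V W : Over X} (h : V ⟶ W) (x : E.obj (op K₀)) (m : (FormalCoproduct.incl (Over X)).obj W ⟶ K₀),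
      v x ((FormalCoproduct.incl (Over X)).map h ≫ m) = F.obj.map h.left.op (v x m) := fun h x m => by
    show F.obj.map (h ≫ m.φ PUnit.unit).left.op _ = _
    rw [Over.comp_left, op_comp, F.obj.map_comp]
    rfl
  -- the differential
  have hd : ∀ x : E.obj (op K₀), cx.d 0 1 x = 0 ↔ E.map (K.δ 0).op x = E.map (K.δ (1 : Fin 2)).op x := fun x => by
    have e : cx.d 0 1 = E.map (K.δ 0).op - E.map (K.δ (1 : Fin 2)).op := by
      show (AlgebraicTopology.AlternatingCofaceMapComplex.obj _).d 0 (0 + 1) = _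
      simp only [AlgebraicTopology.AlternatingCofaceMapComplex.obj, CochainComplex.of_d,
        AlgebraicTopology.AlternatingCofaceMapComplex.objD, Fin.sum_univ_two]
      refine (Fin.sum_univ_two _).trans ?_
      rw [Fin.val_zero, Fin.val_one, pow_zero, pow_one, one_zsmul, neg_one_zsmul, ← sub_eq_add_neg]
      rfl
    rw [e]
    show E.map (K.δ 0).op x - E.map (K.δ (1 : Fin 2)).op x = 0 ↔ _
    exact sub_eq_zero
  -- the restriction map
  let r : F.obj.obj (op X) ⟶ cx.X 0 := Pi.lift fun i : K₀.I => F.obj.map (K₀.obj i).hom.op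
  have hr : ∀ (t : F.obj.obj (op X)) (i : K₀.I),
      Pi.π (fun i => P'.obj (op (K₀.obj i))) i (r t) = F.obj.map (K₀.obj i).hom.op t := fun t i => by
    exact hπ _ _ i t
  have hvr : ∀ {V : Over X} (t : F.obj.obj (op X)) (m : (FormalCoproduct.incl (Over X)).obj V ⟶ K₀),
      v (r t) m = F.obj.map V.hom.op t := fun {V} t m => by
    refine (congrArg (F.obj.map (m.φ PUnit.unit).left.op) (hr t _)).trans ?_
    rw [← ConcreteCategory.comp_apply, ← F.obj.map_comp, ← op_comp]
    exact congrArg (fun g => F.obj.map g.op t) (Over.w (m.φ PUnit.unit))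
  have hrd : r ≫ cx.d 0 1 = 0 := by
    ext t
    show cx.d 0 1 (r t) = 0
    refine (hd _).2 ?_
    refine Concrete.limit_ext _ _ _ fun ⟨i⟩ => ?_
    refine (hE (K.δ 0) (r t) i).trans (Eq.trans ?_ (hE (K.δ (1 : Fin 2)) (r t) i).symm)
    exact (hvr t { f := fun _ => (K.δ 0).f i, φ := fun _ => (K.δ 0).φ i }).trans
      (hvr t { f := fun _ => (K.δ (1 : Fin 2)).f i, φ := fun _ => (K.δ (1 : Fin 2)).φ i }).symm
  let L := cx.liftCycles r 1 (by simp) hrd
  haveI : IsIso L := by
    rw [ConcreteCategory.isIso_iff_bijective]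
    have hinj : Function.Injective (cx.iCycles 0) := (AddCommGrpCat.mono_iff_injective _).1 inferInstance
    have hL : ∀ t, cx.iCycles 0 (L t) = r t := fun t => by
      show (L ≫ cx.iCycles 0) t = _
      rw [HomologicalComplex.liftCycles_i]
    refine ⟨fun t t' htt => ?_, fun z => ?_⟩
    · refine hcov.isSeparatedFor.ext fun Y f hf => ?_
      obtain ⟨i⟩ := hf
      show F.obj.map (K₀.obj i).hom.op t = F.obj.map (K₀.obj i).hom.op t'
      rw [← hr, ← hr, ← hL, ← hL, htt]
    · let x : E.obj (op K₀) := cx.iCycles 0 z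
      have hx : E.map (K.δ 0).op x = E.map (K.δ (1 : Fin 2)).op x := (hd x).1 (by
        show (cx.iCycles 0 ≫ cx.d 0 1) z = 0
        rw [HomologicalComplex.iCycles_d]
        rfl)
      have hedge : ∀ {V : Over X} (e : (FormalCoproduct.incl (Over X)).obj V ⟶ K₁),
          v x (e ≫ K.δ 0) = v x (e ≫ K.δ (1 : Fin 2)) := fun {V} e => by
        rw [← hv, ← hv, op_comp, op_comp, E.map_comp, E.map_comp]
        exact congrArg (fun y => Pi.π (fun _ : PUnit.{u + 1} => P'.obj (op V)) PUnit.unit (E.map e.op y)) hx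
      let s : ∀ i : K₀.I, T.obj (op (K₀.obj i).left) := fun i => Pi.π (fun i => P'.obj (op (K₀.obj i))) i x
      have hcompat : Presieve.Arrows.Compatible T (fun i => (K₀.obj i).hom) s := by
        intro i j Z g₁ g₂ hg
        let W : Over X := Over.mk (g₁ ≫ (K₀.obj i).hom)
        let a : (FormalCoproduct.incl (Over X)).obj W ⟶ K₀ :=
          { f := fun _ => i, φ := fun _ => Over.homMk g₁ }
        let b : (FormalCoproduct.incl (Over X)).obj W ⟶ K₀ :=
          { f := fun _ => j, φ := fun _ => Over.homMk g₂ hg.symm }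
        obtain ⟨c, hc⟩ := HypercovLib.exists_pair K a b
        have hsieve := (J.over X).pullback_stable (c.φ PUnit.unit) (hK.2 0 (c.f PUnit.unit))
        rw [GrothendieckTopology.mem_over_iff] at hsieve
        refine (hT.isSeparated _ hsieve).ext fun Y f hf => ?_
        rw [Sieve.overEquiv_iff] at hf
        obtain ⟨_, γ, _, ⟨i'⟩, hγ⟩ := hf
        let e : (FormalCoproduct.incl (Over X)).obj (Over.mk (f ≫ W.hom)) ⟶ K₁ :=
          { f := fun _ => i'.1, φ := fun _ => γ }
        obtain ⟨h1, h0⟩ := hc (Over.homMk f : Over.mk (f ≫ W.hom) ⟶ W) e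
          ((FormalCoproduct.hom_ext_iff' _ _).2 fun _ => ⟨i'.2, by
            refine Eq.trans ?_ hγ
            exact Category.assoc _ _ _⟩)
        have h := hedge e
        rw [h1, h0, hvcomp, hvcomp] at h
        exact h.symm
      obtain ⟨t, ht, -⟩ := (Presieve.isSheafFor_arrows_iff _ _).1 hcov s hcompat
      refine ⟨t, hinj ?_⟩
      rw [hL]
      refine Concrete.limit_ext _ _ _ fun ⟨i⟩ => ?_
      exact (hr t i).trans (ht i)
  exact ⟨(asIso L ≪≫ cx.isoHomologyπ₀).symm⟩
end Groth.Agent.S0906
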