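import Groth.Statements.S0909
import Groth.Agent.ToposFinLib.Deligne
import Mathlib.CategoryTheory.Sites.Coherent.RegularTopology
import Mathlib.CategoryTheory.Preadditive.Yoneda.Limits

set_option autoImplicit false
set_option backward.isDefEq.respectTransparency false
set_option backward.isDefEq.respectTransparency.types false
universe u
open CategoryTheory
open CohDer

namespace Groth.Agent.S0909

open CategoryTheory.Limits in
/-- Let A be a small abelian category, made into a site by declaring the single epimorphisms to be
coverings (Mathlib's regular topology; the regularity instance is assumed). Then the functor X ↦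
h_X, viewed in abelian sheaves (here: additive Yoneda followed by sheafification, which does not
change h_X since representables are sheaves), is fully faithful and exact, and the site has enough
points (a small conservative family of points, with fibre functors valued in Type u). -/
theorem result {A : Type u} [SmallCategory A] [Abelian A] [Preregular A] :
    (preadditiveYoneda ⋙ presheafToSheaf (regularTopology A) AddCommGrpCat.{u}).Full ∧
    (preadditiveYoneda ⋙ presheafToSheaf (regularTopology A) AddCommGrpCat.{u}).Faithful ∧
    PreservesFiniteLimits (preadditiveYoneda ⋙ presheafToSheaf (regularTopology A) AddCommGrpCat.{u}) ∧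
    PreservesFiniteColimits (preadditiveYoneda ⋙ presheafToSheaf (regularTopology A) AddCommGrpCat.{u}) ∧
    GrothendieckTopology.HasEnoughPoints.{u, u, u} (regularTopology A) := by
  let J := regularTopology A
  have hsh : ∀ X : A, Presheaf.IsSheaf J ((preadditiveYoneda (C := A)).obj X) := fun X => by
    rw [Presheaf.isSheaf_iff_isSheaf_forget J _ (forget AddCommGrpCat.{u}), isSheaf_iff_isSheaf_of_type]
    exact regularTopology.isSheaf_yoneda_obj X
  let R : A ⥤ Sheaf J AddCommGrpCat.{u} := ObjectProperty.lift (Presheaf.IsSheaf J) preadditiveYoneda hsh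
  let e : R ≅ preadditiveYoneda ⋙ presheafToSheaf J AddCommGrpCat.{u} :=
    (Functor.rightUnitor R).symm ≪≫
      Functor.isoWhiskerLeft R (asIso (sheafificationAdjunction J AddCommGrpCat.{u}).counit).symm
  haveI : ∀ T : Aᵒᵖ, PreservesFiniteLimits
      ((preadditiveYoneda (C := A)) ⋙ (evaluation Aᵒᵖ AddCommGrpCat.{u}).obj T) := fun T => by
    change PreservesFiniteLimits (preadditiveCoyoneda.obj T)
    infer_instance
  haveI : PreservesFiniteLimits (preadditiveYoneda (C := A)) :=
    ⟨fun K _ _ => preservesLimitsOfShape_of_evaluation _ K fun T => inferInstance⟩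
  haveI hlim : PreservesFiniteLimits (preadditiveYoneda ⋙ presheafToSheaf J AddCommGrpCat.{u}) :=
    comp_preservesFiniteLimits _ _
  let L := preadditiveYoneda ⋙ presheafToSheaf J AddCommGrpCat.{u}
  haveI : L.Additive := Functor.additive_of_preserves_binary_products L
  haveI hR : R.Full ∧ R.Faithful := ⟨inferInstance, inferInstance⟩
  haveI := hR.1
  haveI := hR.2
  refine ⟨Functor.Full.of_iso e, Functor.Faithful.of_iso e, hlim, ?_, ?_⟩
  · rw [Functor.preservesFiniteColimits_iff_forall_exact_map_and_epi]
    intro S hS
    haveI := hS.mono_f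
    haveI := hS.epi_g
    refine ⟨hS.exact.map_of_mono_of_preservesKernel L hS.mono_f inferInstance, ?_⟩
    haveI : Presheaf.IsLocallySurjective J (preadditiveYoneda.map S.g) := by
      constructor
      intro T s
      haveI : Epi (pullback.fst (s : T ⟶ S.X₃) S.g) := Abelian.epi_pullback_of_epi_g _ _
      haveI : EffectiveEpi (pullback.fst (s : T ⟶ S.X₃) S.g) :=
        haveI := IsRegularEpiCategory.regularEpiOfEpi (pullback.fst (s : T ⟶ S.X₃) S.g)
        inferInstance
      refine regularTopology.mem_sieves_of_hasEffectiveEpi _
        ⟨pullback (s : T ⟶ S.X₃) S.g, pullback.fst (s : T ⟶ S.X₃) S.g, inferInstance,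
          pullback.snd (s : T ⟶ S.X₃) S.g, ?_⟩
      exact pullback.condition.symm
    haveI : Sheaf.IsLocallySurjective (L.map S.g) :=
      (Presheaf.isLocallySurjective_presheafToSheaf_map_iff J (preadditiveYoneda.map S.g)).2 inferInstance
    exact Sheaf.epi_of_isLocallySurjective (L.map S.g)
  · refine ToposFinLib.Deligne.hasEnoughPoints fun U S hS => ?_
    obtain ⟨Y, p, hp, hpS⟩ := (regularTopology.mem_sieves_iff_hasEffectiveEpi S).1 hS
    refine ⟨1, fun _ => Y, fun _ => p, fun _ => hpS, ?_⟩
    exact regularTopology.mem_sieves_of_hasEffectiveEpi _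
      ⟨Y, p, hp, ⟨Y, 𝟙 _, p, ⟨0⟩, Category.id_comp _⟩⟩
end Groth.Agent.S0909
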