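import Groth.Statements.S0919
import Mathlib.CategoryTheory.Adjunction.AdjointFunctorTheorems
import Mathlib.CategoryTheory.Abelian.GrothendieckCategory.EnoughInjectives
-- import your own Groth.Agent.* helpers here

set_option autoImplicit false
set_option linter.style.haveILetI false
universe v u
open CategoryTheory
open CohDer

namespace Groth.Agent.S0919

open CategoryTheory.Limits in
/-- Let A be a Grothendieck abelian category and F a contravariant functor from A to sets (a functor on
the opposite category). Then F is representable if and only if F turns all small colimits of A into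
limits, i.e. preserves small limits as a functor on the opposite category. -/
theorem result {A : Type u} [Category.{v} A] [Abelian A]
    [IsGrothendieckAbelian.{v} A] (F : Aᵒᵖ ⥤ Type v) :
    F.IsRepresentable ↔ PreservesLimitsOfSize.{v, v} F := by
  refine ⟨fun _ => inferInstance, fun _ => ?_⟩
  obtain ⟨G, hG⟩ := HasSeparator.hasSeparator (C := A)
  haveI : Limits.HasLimits Aᵒᵖ := inferInstance
  obtain ⟨L, ⟨adj⟩⟩ := (isRightAdjoint_of_preservesLimits_of_isCoseparating
    (P := ObjectProperty.singleton (Opposite.op G))
    ((isCoseparator_op_iff G).2 hG) F).exists_leftAdjoint
  exact ⟨(L.obj PUnit).unop, ⟨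
    { homEquiv := fun {X} => (opEquiv (L.obj PUnit) (Opposite.op X)).symm.trans
        ((adj.homEquiv PUnit (Opposite.op X)).trans
          { toFun := fun g => g PUnit.unit
            invFun := fun x => ↾fun _ => x
            left_inv := fun g => by ext ⟨⟩; rfl
            right_inv := fun x => rfl })
      homEquiv_comp := fun {X X'} f g => by
        simp [opEquiv, adj.homEquiv_naturality_right] }⟩⟩

end Groth.Agent.S0919
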