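import Groth.Statements.S0930
import Groth.Agent.RDerLib.PlusLES
import Groth.Agent.CohTopLib.Basic

set_option autoImplicit false
universe u
open CategoryTheory
attribute [local instance] HasDerivedCategory.standard
open CohTop CategoryTheory.Limits

namespace Groth.Agent.S0930

/-- For continuous maps f : X -> Y and g : Y -> Z, the composite of the right derived functors Rf_* :
D^+(X) -> D^+(Y) and Rg_* : D^+(Y) -> D^+(Z) is isomorphic to R(g ∘ f)_* (existence of an
isomorphism of functors between bounded below derived categories). -/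
theorem result {X Y Z : TopCat.{u}} (f : X ⟶ Y) (g : Y ⟶ Z) :
    Nonempty ((CohTop.push f).rightDerivedFunctorPlus ⋙ (CohTop.push g).rightDerivedFunctorPlus ≅
      (CohTop.push (f ≫ g)).rightDerivedFunctorPlus) := by
  let F := CohTop.push f
  let G := CohTop.push g
  let H := CohTop.push (f ≫ g)
  let J := (CategoryTheory.InjectiveObject.ι (CohTop.Ab X)).mapHomotopyCategoryPlus
  let e : F.mapHomotopyCategoryPlus ⋙ G.mapHomotopyCategoryPlus ≅ H.mapHomotopyCategoryPlus :=
    Functor.mapHomotopyCategoryPlusCompIso (show F ⋙ G ≅ H from Iso.refl _)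
  let α : H.mapHomotopyCategoryPlus ⋙ DerivedCategory.Plus.Qh ⟶
      DerivedCategory.Plus.Qh ⋙ (F.rightDerivedFunctorPlus ⋙ G.rightDerivedFunctorPlus) :=
    Functor.whiskerRight e.inv _ ≫ (Functor.associator _ _ _).hom ≫
      Functor.whiskerLeft F.mapHomotopyCategoryPlus G.rightDerivedFunctorPlusUnit ≫
      (Functor.associator _ _ _).inv ≫
      Functor.whiskerRight F.rightDerivedFunctorPlusUnit G.rightDerivedFunctorPlus ≫
      (Functor.associator _ _ _).hom
  let τ := H.rightDerivedFunctorPlus.rightDerivedDesc H.rightDerivedFunctorPlusUnit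
    (HomotopyCategory.Plus.quasiIso _) (F.rightDerivedFunctorPlus ⋙ G.rightDerivedFunctorPlus) α
  have hJ : ∀ I, IsIso (τ.app (DerivedCategory.Plus.Qh.obj (J.obj I))) := fun I => by
    have h := H.rightDerivedFunctorPlus.rightDerived_fac_app H.rightDerivedFunctorPlusUnit
      (HomotopyCategory.Plus.quasiIso _) (F.rightDerivedFunctorPlus ⋙ G.rightDerivedFunctorPlus) α (J.obj I)
    let ι' : InjectiveObject (CohTop.Ab X) ⥤ InjectiveObject (CohTop.Ab Y) :=
      ObjectProperty.lift _ (CategoryTheory.InjectiveObject.ι _ ⋙ F) fun P =>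
        @CohTopLib.injective_pf _ _ f P.obj P.property
    haveI : ι'.Additive := ⟨fun {_ _ _ _} => InducedCategory.hom_ext (F.map_add)⟩
    let e' : J ⋙ F.mapHomotopyCategoryPlus ≅ ι'.mapHomotopyCategoryPlus ⋙ (CategoryTheory.InjectiveObject.ι _).mapHomotopyCategoryPlus :=
      Functor.mapHomotopyCategoryPlusCompIso (H := CategoryTheory.InjectiveObject.ι _ ⋙ F) (Iso.refl _) ≪≫
        (Functor.mapHomotopyCategoryPlusCompIso (H := CategoryTheory.InjectiveObject.ι _ ⋙ F) (ObjectProperty.liftCompιIso _ _ _)).symm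
    haveI h1 : IsIso (G.rightDerivedFunctorPlusUnit.app (F.mapHomotopyCategoryPlus.obj (J.obj I))) :=
      (NatTrans.isIso_app_iff_of_iso _ (e'.app I)).2 (show IsIso (G.rightDerivedFunctorPlusUnit.app
        ((CategoryTheory.InjectiveObject.ι (CohTop.Ab Y)).mapHomotopyCategoryPlus.obj (ι'.mapHomotopyCategoryPlus.obj I))) from inferInstance)
    haveI h2 : IsIso (F.rightDerivedFunctorPlusUnit.app (J.obj I)) := inferInstance
    haveI h3 : IsIso (α.app (J.obj I)) := by
      dsimp [α]; infer_instance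
    haveI h4 : IsIso (H.rightDerivedFunctorPlusUnit.app (J.obj I)) := inferInstance
    exact @IsIso.of_isIso_fac_left _ _ _ _ _ _ _ _ h4 h3 h
  haveI : ∀ P, IsIso (τ.app P) := fun P => by
    obtain ⟨K, ⟨a⟩⟩ : ∃ K : HomotopyCategory.Plus (CohTop.Ab X), Nonempty (DerivedCategory.Plus.Qh.obj K ≅ P) :=
      ⟨_, ⟨DerivedCategory.Plus.Qh.objObjPreimageIso P⟩⟩
    obtain ⟨L, hL⟩ := HomotopyCategory.quotient_obj_surjective K.obj
    obtain ⟨n, hn⟩ : CochainComplex.plus _ L := by
      have := K.property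
      rw [← hL, HomotopyCategory.plus_quotient_obj_iff] at this
      exact this
    obtain ⟨M, ⟨b⟩⟩ := Groth.Agent.RDerLib.exists_injQh_obj_iso (⟨L, n, hn⟩ : CochainComplex.Plus (CohTop.Ab X))
    have hK : (HomotopyCategory.Plus.quotient _).obj (⟨L, n, hn⟩ : CochainComplex.Plus (CohTop.Ab X)) = K :=
      ObjectProperty.FullSubcategory.ext hL
    exact (NatTrans.isIso_app_iff_of_iso τ ((CategoryTheory.eqToIso (congrArg DerivedCategory.Plus.Qh.obj hK) ≪≫ a).symm ≪≫ b)).2
      (hJ _)
  haveI : IsIso τ := NatIso.isIso_of_isIso_app _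
  exact ⟨(asIso τ).symm⟩

end Groth.Agent.S0930
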