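import Groth.Statements.S0934
import Groth.Agent.KFlatLib.FPLift
import Groth.Agent.QCohLib.Gen
-- import your own Groth.Agent.* helpers here

set_option autoImplicit false
universe u
open CategoryTheory
open Coh

open CategoryTheory CategoryTheory.Limits AlgebraicGeometry TopologicalSpace Opposite

namespace Groth.Agent.S0934

open AlgebraicGeometry in
open KFlatLib in
theorem lift_free {Y : Scheme.{u}} {n : ℕ} {G F : Y.Modules} (p : G ⟶ F) [Epi p]
    (φ : FlatMod.freeMod Y n ⟶ F) (y : Y) :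
    ∃ (W : Y.Opens) (_ : y ∈ W)
      (ψ : (Scheme.Modules.pullback W.ι).obj (FlatMod.freeMod Y n) ⟶ (Scheme.Modules.pullback W.ι).obj G),
      ψ ≫ (Scheme.Modules.pullback W.ι).map p = (Scheme.Modules.pullback W.ι).map φ := by
  choose W hW hyW t ht using fun i : Fin n => QCohLib.exists_of_app_epi p ⊤
    (freeUEquiv ⊤ F ((structureIso Y).hom ≫ Sigma.ι (fun _ : Fin n => Coh.structureModule Y) i ≫ φ)) y trivial
  let V : Y.Opens := Finset.univ.inf W
  have hV : y ∈ V := Finset.inf_induction (p := fun W : Y.Opens => y ∈ W) trivial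
    (fun _ h₁ _ h₂ => ⟨h₁, h₂⟩) fun i _ => hyW i
  let h : (∐ fun _ : Fin n => freeU V) ⟶ G := Sigma.desc fun i =>
    secMap (G.presheaf.map (homOfLE (Finset.inf_le (Finset.mem_univ i) : V ≤ W i)).op (t i))
  have hh : h ≫ p = resFree V n ≫ φ := Sigma.hom_ext _ _ fun i => by
    simp only [h, resFree, Sigma.ι_desc_assoc, Sigma.ι_map_assoc]
    rw [Category.assoc (resU _), resU_comp, secMap_comp]
    refine congrArg secMap ?_
    rw [QCohLib.app_map, ht, QCohLib.map_map']
    rfl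
  have := isIso_pullback_resFree V n
  refine ⟨V, hV, inv ((Scheme.Modules.pullback V.ι).map (resFree V n)) ≫ (Scheme.Modules.pullback V.ι).map h, ?_⟩
  rw [Category.assoc, ← Functor.map_comp, hh, Functor.map_comp, IsIso.inv_hom_id_assoc]

/-- Schemes; E finite locally free, which on a scheme is locally the same as a direct summand of a
finite free module: let p : G -> F be an epimorphism of O_X-modules and φ : E -> F a morphism with E
finite locally free. Then every point has an open neighbourhood V and a morphism ψ : E|_V -> G|_V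
with ψ ≫ p|_V = φ|_V. -/
theorem result {X : Scheme.{u}} {E F G : X.Modules} (p : G ⟶ F) [Epi p] (φ : E ⟶ F)
    (hE : FlatMod.IsFinLocFree E) (x : X) :
    ∃ (V : X.Opens) (ψ : E.restrict V.ι ⟶ G.restrict V.ι), x ∈ V ∧
      ψ ≫ (Scheme.Modules.restrictFunctor V.ι).map p = (Scheme.Modules.restrictFunctor V.ι).map φ := by
  obtain ⟨U, n, hxU, ⟨e⟩⟩ := hE x
  let α : Scheme.Modules.restrictFunctor U.ι ≅ Scheme.Modules.pullback U.ι :=
    Scheme.Modules.restrictFunctorIsoPullback U.ι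
  let Φ := Scheme.Modules.pullback U.ι
  have hEpi : Epi (Φ.map p) := inferInstance
  let eU : Φ.obj E ≅ FlatMod.freeMod (↑U : Scheme.{u}) n := (α.app E).symm ≪≫ e
  obtain ⟨W, hyW, ψ, hψ⟩ := lift_free (Φ.map p) (eU.inv ≫ Φ.map φ) (⟨x, hxU⟩ : U)
  let V : X.Opens := U.ι ''ᵁ W
  have hVr : ∀ v : V, ∃ w : U, w ∈ W ∧ U.ι w = v.1 := fun v => v.2
  have hVU : V ≤ U := fun v ⟨w, _, hw⟩ => hw ▸ w.2
  let j := X.homOfLE hVU
  have hj : Set.range j ⊆ Set.range W.ι := by
    rintro _ ⟨v, rfl⟩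
    obtain ⟨w, hw, he⟩ := hVr v
    refine ⟨⟨w, hw⟩, U.ι.isOpenEmbedding.injective ?_⟩
    refine he.trans ?_
    rw [← Scheme.Hom.comp_apply, Scheme.homOfLE_ι]
    rfl
  let j' := IsOpenImmersion.lift W.ι j hj
  have hfac : (j' ≫ W.ι) ≫ U.ι = V.ι := by
    rw [IsOpenImmersion.lift_fac, Scheme.homOfLE_ι]
  let β : Scheme.Modules.restrictFunctor V.ι ≅
      Φ ⋙ Scheme.Modules.pullback W.ι ⋙ Scheme.Modules.pullback j' :=
    Scheme.Modules.restrictFunctorIsoPullback V.ι ≪≫ (Scheme.Modules.pullbackCongr hfac).symm ≪≫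
      (Scheme.Modules.pullbackComp (j' ≫ W.ι) U.ι).symm ≪≫
      Functor.isoWhiskerLeft _ (Scheme.Modules.pullbackComp j' W.ι).symm
  let Ψ : (Scheme.Modules.pullback W.ι).obj (Φ.obj E) ⟶ (Scheme.Modules.pullback W.ι).obj (Φ.obj G) :=
    (Scheme.Modules.pullback W.ι).map eU.hom ≫ ψ
  have hΨ : Ψ ≫ (Scheme.Modules.pullback W.ι).map (Φ.map p) = (Scheme.Modules.pullback W.ι).map (Φ.map φ) := by
    rw [Category.assoc, hψ, ← Functor.map_comp, eU.hom_inv_id_assoc]
  refine ⟨V, β.hom.app E ≫ (Scheme.Modules.pullback j').map Ψ ≫ β.inv.app G, ⟨⟨x, hxU⟩, hyW, rfl⟩, ?_⟩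
  rw [Category.assoc, Category.assoc, ← β.inv.naturality p]
  simp only [Functor.comp_map]
  rw [← Functor.map_comp_assoc, hΨ]
  exact NatIso.naturality_2 β φ

end Groth.Agent.S0934
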