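import Groth.Statements.S0938
import Groth.Agent.KFlatLib.PerfectPull
import Mathlib.CategoryTheory.Idempotents.Basic
-- import your own Groth.Agent.* helpers here

set_option autoImplicit false
universe u
open CategoryTheory
open Coh

namespace Groth.Agent.S0938

open AlgebraicGeometry CategoryTheory.Limits KFlatLib Opposite

attribute [local instance] HasFiniteBiproducts.of_hasFiniteCoproducts

variable (X : Scheme.{u})

/-- Global sections as a functor to modules over the global functions. -/
noncomputable def GF : X.Modules ⥤ ModuleCat.{u} Γ(X, ⊤) :=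
  (Scheme.Modules.toPresheafOfModules X ⋙ PresheafOfModules.evaluation _ (op ⊤) : _)

variable {X}

theorem GF_map {M N : X.Modules} (f : M ⟶ N) (v : Γ(M, ⊤)) : (GF X).map f v = f.app ⊤ v := rfl

theorem GF_comp {M N P : X.Modules} (f : M ⟶ N) (g : N ⟶ P) (v : Γ(M, ⊤)) :
    (GF X).map (f ≫ g) v = (GF X).map g ((GF X).map f v) := by
  rw [(GF X).map_comp]; rfl

/-- Evaluation at one. -/
noncomputable def at1 (M : X.Modules) : (Coh.structureModule X ⟶ M) ≃ ((GF X).obj M : Type u) :=
  unitSecEquiv M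

theorem at1_comp {M N : X.Modules} (φ : Coh.structureModule X ⟶ M) (p : M ⟶ N) :
    at1 N (φ ≫ p) = (GF X).map p (at1 M φ) :=
  unitSecEquiv_comp φ p

variable {n : ℕ}

/-- The canonical generators of a free module. -/
noncomputable def gen (i : Fin n) : ((GF X).obj (FlatMod.freeMod X n) : Type u) :=
  at1 _ (Sigma.ι (fun _ : Fin n => Coh.structureModule X) i)

/-- A map out of a free module. -/
noncomputable def descSec {M : X.Modules} (v : Fin n → ((GF X).obj M : Type u)) : FlatMod.freeMod X n ⟶ M :=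
  Sigma.desc fun i => (at1 M).symm (v i)

theorem descSec_gen {M : X.Modules} (v : Fin n → ((GF X).obj M : Type u)) (i : Fin n) :
    (GF X).map (descSec v) (gen i) = v i := by
  rw [gen, ← at1_comp, descSec, Sigma.ι_desc, Equiv.apply_symm_apply]

theorem hom_ext_gen {M : X.Modules} {φ ψ : FlatMod.freeMod X n ⟶ M}
    (h : ∀ i, (GF X).map φ (gen i) = (GF X).map ψ (gen i)) : φ = ψ :=
  Sigma.hom_ext _ _ fun i => (at1 M).injective (by rw [at1_comp, at1_comp]; exact h i)

/-- The projections. -/
noncomputable def proj (i : Fin n) : FlatMod.freeMod X n ⟶ Coh.structureModule X :=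
  Sigma.desc fun j => if j = i then 𝟙 _ else 0

theorem total : (∑ i, proj (X := X) (n := n) i ≫ Sigma.ι (fun _ : Fin n => Coh.structureModule X) i) = 𝟙 _ := by
  refine Sigma.hom_ext _ _ fun j => ?_
  rw [Preadditive.comp_sum, Finset.sum_eq_single j, proj, Sigma.ι_desc_assoc, if_pos rfl,
    Category.id_comp, Category.comp_id]
  · intro b _ hb
    rw [proj, Sigma.ι_desc_assoc, if_neg hb.symm, zero_comp]
  · intro h; exact absurd (Finset.mem_univ j) h

theorem at1_id : at1 (Coh.structureModule X) (𝟙 _) = (1 : Γ(X, ⊤)) := rfl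

theorem GF_add {M N : X.Modules} (f g : M ⟶ N) (v : ((GF X).obj M : Type u)) :
    (GF X).map (f + g) v = (GF X).map f v + (GF X).map g v := rfl

/-- Global sections of a free module are free. -/
noncomputable def L : (Fin n → Γ(X, ⊤)) →ₗ[Γ(X, ⊤)] ((GF X).obj (FlatMod.freeMod X n) : Type u) :=
  Fintype.linearCombination Γ(X, ⊤) gen

theorem proj_gen (i j : Fin n) :
    (GF X).map (proj (X := X) i) (gen j) = (if j = i then (1 : Γ(X, ⊤)) else 0 : Γ(X, ⊤)) := by
  rw [gen, ← at1_comp, proj, Sigma.ι_desc]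
  split_ifs
  · exact at1_id
  · rfl

theorem L_bijective : Function.Bijective (L (X := X) (n := n)) := by
  refine ⟨fun c d h => funext fun i => ?_, fun v => ?_⟩
  · let π : ((GF X).obj (FlatMod.freeMod X n) : Type u) →ₗ[Γ(X, ⊤)] Γ(X, ⊤) :=
      { toFun := fun v => (GF X).map (proj (X := X) i) v
        map_add' := map_add ((GF X).map (proj (X := X) i)).hom
        map_smul' := map_smul ((GF X).map (proj (X := X) i)).hom }
    have hπ : ∀ j, π (gen j) = if j = i then 1 else 0 := proj_gen i
    have key : ∀ c : Fin n → Γ(X, ⊤), π (L c) = c i := fun c => by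
      rw [L, Fintype.linearCombination_apply, map_sum, Finset.sum_eq_single i]
      · rw [map_smul, hπ, if_pos rfl, smul_eq_mul, mul_one]
      · intro b _ hb
        rw [map_smul, hπ, if_neg hb, smul_zero]
      · simp
    rw [← key c, ← key d, h]
  · refine ⟨fun i => (GF X).map (proj i) v, ?_⟩
    rw [L, Fintype.linearCombination_apply]
    have hsum : ∀ (s : Finset (Fin n)) (F : Fin n → (FlatMod.freeMod X n ⟶ FlatMod.freeMod X n)),
        (GF X).map (∑ i ∈ s, F i) v = ∑ i ∈ s, (GF X).map (F i) v := fun s F => by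
      induction s using Finset.induction_on with
      | empty => simp only [Finset.sum_empty]; rfl
      | insert a s ha ih => rw [Finset.sum_insert ha, Finset.sum_insert ha, GF_add, ih]
    calc ∑ i, (show Γ(X, ⊤) from (GF X).map (proj i) v) • gen i
        = ∑ i, (GF X).map (proj i ≫ Sigma.ι (fun _ : Fin n => Coh.structureModule X) i) v := by
          refine Finset.sum_congr rfl fun i _ => ?_
          rw [GF_comp, gen, ← Category.id_comp (Sigma.ι (fun _ : Fin n => Coh.structureModule X) i),
            at1_comp, at1_id, ← map_smul, Category.id_comp]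
          exact congrArg _ (mul_one (show Γ(X, ⊤) from (GF X).map (proj i) v))
      _ = v := by rw [← hsum, total, (GF X).map_id]; rfl

/-- The retracts of finite free modules. -/
def IsRetractFree (M : X.Modules) : Prop :=
  ∃ (n : ℕ) (i : M ⟶ FlatMod.freeMod X n) (r : FlatMod.freeMod X n ⟶ M), i ≫ r = 𝟙 M

theorem retract_apply {M N : X.Modules} {i : M ⟶ N} {r : N ⟶ M} (h : i ≫ r = 𝟙 M) (v : ((GF X).obj M : Type u)) :
    (GF X).map r ((GF X).map i v) = v := by
  rw [← GF_comp, h, (GF X).map_id]; rfl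

theorem faithful_aux {M N : X.Modules} (hM : IsRetractFree M) {φ ψ : M ⟶ N}
    (h : (GF X).map φ = (GF X).map ψ) : φ = ψ := by
  obtain ⟨n, i, r, hir⟩ := hM
  rw [← Category.id_comp φ, ← Category.id_comp ψ, ← hir, Category.assoc, Category.assoc,
    hom_ext_gen (φ := r ≫ φ) (ψ := r ≫ ψ) fun j => by rw [GF_comp, GF_comp, h]]

theorem full_aux {M N : X.Modules} (hM : IsRetractFree M) (h : (GF X).obj M ⟶ (GF X).obj N) :
    ∃ φ : M ⟶ N, (GF X).map φ = h := by
  obtain ⟨n, i, r, hir⟩ := hM
  refine ⟨i ≫ descSec fun j => h ((GF X).map r (gen j)), ModuleCat.hom_ext (LinearMap.ext fun v => ?_)⟩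
  change (GF X).map (i ≫ descSec _) v = h v
  rw [GF_comp]
  obtain ⟨c, hc⟩ := L_bijective.2 ((GF X).map i v)
  have hv := retract_apply hir v
  rw [← hc] at hv ⊢
  rw [← hv, L, Fintype.linearCombination_apply, map_sum, map_sum, map_sum]
  exact Finset.sum_congr rfl fun j _ => by rw [map_smul, map_smul, map_smul, descSec_gen]

theorem finProj_aux {M : X.Modules} (hM : IsRetractFree M) :
    Module.Finite Γ(X, ⊤) ((GF X).obj M) ∧ Module.Projective Γ(X, ⊤) ((GF X).obj M) := by
  obtain ⟨n, i, r, hir⟩ := hM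
  let e := LinearEquiv.ofBijective (L (X := X) (n := n)) L_bijective
  have h1 : ((GF X).map r).hom.comp ((GF X).map i).hom = LinearMap.id := LinearMap.ext (retract_apply hir)
  haveI : Module.Finite Γ(X, ⊤) ((GF X).obj (FlatMod.freeMod X n)) := Module.Finite.equiv e
  haveI : Module.Projective Γ(X, ⊤) ((GF X).obj (FlatMod.freeMod X n)) := Module.Projective.of_equiv e
  exact ⟨Module.Finite.of_surjective ((GF X).map r).hom fun v => ⟨_, retract_apply hir v⟩,
    Module.Projective.of_split _ _ h1⟩

theorem essSurj_aux (N : ModuleCat.{u} Γ(X, ⊤)) [Module.Finite Γ(X, ⊤) N] [Module.Projective Γ(X, ⊤) N] :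
    ∃ (M : X.Modules), IsRetractFree M ∧ Nonempty ((GF X).obj M ≅ N) := by
  obtain ⟨n, p, hp⟩ := Module.Finite.exists_fin' Γ(X, ⊤) N
  obtain ⟨s, hs⟩ := Module.projective_lifting_property p LinearMap.id hp
  let e := LinearEquiv.ofBijective (L (X := X) (n := n)) L_bijective
  let q0 : (GF X).obj (FlatMod.freeMod X n) ⟶ (GF X).obj (FlatMod.freeMod X n) :=
    ModuleCat.ofHom (e.toLinearMap.comp ((s.comp p).comp e.symm.toLinearMap))
  have hfree : IsRetractFree (FlatMod.freeMod X n) := ⟨n, 𝟙 _, 𝟙 _, Category.id_comp _⟩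
  obtain ⟨q, hq⟩ := full_aux hfree q0
  have hps : ∀ v, p (s v) = v := fun v => LinearMap.congr_fun hs v
  have hq0 : ∀ v, (GF X).map q v = e (s (p (e.symm v))) := fun v => by rw [hq]; rfl
  have hqq : q ≫ q = q := faithful_aux hfree (ModuleCat.hom_ext (LinearMap.ext fun v => by
    change (GF X).map (q ≫ q) v = (GF X).map q v
    rw [GF_comp, hq0, hq0, LinearEquiv.symm_apply_apply, hps]))
  obtain ⟨M, i, r, hir, hri⟩ := IsIdempotentComplete.idempotents_split _ q hqq
  refine ⟨M, ⟨n, i, r, hir⟩, ⟨LinearEquiv.toModuleIso (LinearEquiv.ofLinearMap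
    (p.comp (e.symm.toLinearMap.comp ((GF X).map i).hom))
    (((GF X).map r).hom.comp (e.toLinearMap.comp s)) (LinearMap.ext fun v => ?_) (LinearMap.ext fun v => ?_))⟩⟩
  · change p (e.symm ((GF X).map i ((GF X).map r (e (s v))))) = v
    rw [← GF_comp, hri, hq0, LinearEquiv.symm_apply_apply, LinearEquiv.symm_apply_apply, hps, hps]
  · change (GF X).map r (e (s (p (e.symm ((GF X).map i v))))) = v
    rw [← hq0, ← GF_comp, ← GF_comp, ← hri, Category.assoc, hir, Category.comp_id, hir, (GF X).map_id]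
    rfl

theorem equiv_aux (X : Scheme.{u}) :
    Nonempty ((ObjectProperty.FullSubcategory fun M : X.Modules =>
        ∃ (n : ℕ) (i : M ⟶ FlatMod.freeMod X n) (r : FlatMod.freeMod X n ⟶ M), i ≫ r = 𝟙 M) ≌
      (ObjectProperty.FullSubcategory fun N : ModuleCat.{u} (Γ(X, ⊤)) =>
        Module.Finite (Γ(X, ⊤)) N ∧ Module.Projective (Γ(X, ⊤)) N)) := by
  let P : ObjectProperty X.Modules := fun M => IsRetractFree M
  let Q : ObjectProperty (ModuleCat.{u} Γ(X, ⊤)) := fun N =>
    Module.Finite (Γ(X, ⊤)) N ∧ Module.Projective (Γ(X, ⊤)) N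
  let F : P.FullSubcategory ⥤ Q.FullSubcategory :=
    Q.lift (P.ι ⋙ GF X) fun M => finProj_aux M.2
  haveI : F.Faithful := ⟨fun {M N} f g h => ObjectProperty.hom_ext _
    (faithful_aux M.2 (congrArg (Q.ι.map) h))⟩
  haveI : F.Full := ⟨fun {M N} h => by
    obtain ⟨φ, hφ⟩ := full_aux M.2 h.hom
    exact ⟨ObjectProperty.homMk φ, ObjectProperty.hom_ext _ hφ⟩⟩
  haveI : F.EssSurj := ⟨fun N => by
    haveI := N.2.1
    haveI := N.2.2
    obtain ⟨M, hM, ⟨e⟩⟩ := essSurj_aux N.1
    exact ⟨⟨M, hM⟩, ⟨Q.isoMk e⟩⟩⟩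
  haveI : F.IsEquivalence := {}
  exact ⟨F.asEquivalence⟩

open AlgebraicGeometry CategoryTheory.Limits in
/-- For a scheme X with R = Γ(X, O_X), the full subcategory of O_X-modules which are retracts of a
finite free O_X-module is equivalent to the full subcategory of R-modules which are finite and
projective (existence of an equivalence of categories). The published statement is for ringed
spaces; stated here for schemes. -/
theorem result {X : Scheme.{u}} :
    Nonempty ((ObjectProperty.FullSubcategory fun M : X.Modules =>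
        ∃ (n : ℕ) (i : M ⟶ FlatMod.freeMod X n) (r : FlatMod.freeMod X n ⟶ M), i ≫ r = 𝟙 M) ≌
      (ObjectProperty.FullSubcategory fun N : ModuleCat.{u} (Γ(X, ⊤)) =>
        Module.Finite (Γ(X, ⊤)) N ∧ Module.Projective (Γ(X, ⊤)) N)) := by
  exact equiv_aux X

end Groth.Agent.S0938
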