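import Groth.Statements.S6525
import Mathlib

set_option autoImplicit false
universe u
open CategoryTheory
open Hyper

namespace Groth.Agent.S6525

open Opposite CategoryTheory.Limits in
/-- For a hypercovering K of the final object of the topos (Verdier's sense) on a small site with
equalizers, fibre products and binary products and every abelian sheaf F the Čech cohomology group
Ȟ^0(K, F) is isomorphic to H^0(F), the group of global sections (the limit of F over the site).
Existence of an isomorphism only. -/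
theorem result {C : Type u} [SmallCategory C]
    [HasEqualizers C] [HasPullbacks C] [HasBinaryProducts C]
    (J : GrothendieckTopology C) (K : SimplicialObject (FormalCoproduct.{u} C))
    [∀ (n : ℕ) (F : (SimplexCategory.Truncated n)ᵒᵖ ⥤ Limits.FormalCoproduct.{u} C),
      (SimplexCategory.Truncated.inclusion n).op.HasRightKanExtension F]
    (hK : Hyper.IsHypercoveringSite J K) (F : Sheaf J AddCommGrpCat.{u}) :
    Nonempty ((Hyper.cechCxSite K F.obj).homology 0 ≅ limit F.obj) := by
  classical
  let K₀ := K.obj (op (SimplexCategory.mk 0))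
  let K₁ := K.obj (op (SimplexCategory.mk 1))
  let E := (FormalCoproduct.evalOp.{u} C AddCommGrpCat.{u}).obj F.obj
  let cx := Hyper.cechCxSite K F.obj
  let T := F.obj ⋙ CategoryTheory.forget AddCommGrpCat.{u}
  have hT : Presieve.IsSheaf J T := (isSheaf_iff_isSheaf_of_type _ _).1
    ((Presheaf.isSheaf_iff_isSheaf_forget J F.obj (CategoryTheory.forget AddCommGrpCat.{u})).1 F.property)
  obtain ⟨hK0, hK1, -⟩ := hK
  let Y₀ := FormalCoproduct.yoneda.obj K₀
  have hπ : ∀ {β : Type u} (f : β → AddCommGrpCat.{u}) {P : AddCommGrpCat.{u}} (g : ∀ b, P ⟶ f b) (b : β) (x : P),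
      Pi.π f b (Pi.lift g x) = g b x := fun f P g b x => by
    rw [← ConcreteCategory.comp_apply, Pi.lift_π]
  have hE : ∀ {A B : FormalCoproduct.{u} C} (m : A ⟶ B) (x : E.obj (op B)) (i : A.I),
      Pi.π (fun i => F.obj.obj (op (A.obj i))) i (E.map m.op x) =
        F.obj.map (m.φ i).op (Pi.π (fun i => F.obj.obj (op (B.obj i))) (m.f i) x) := fun {A B} m x i => by
    refine (hπ (fun i => F.obj.obj (op (A.obj i))) _ i x).trans ?_
    rfl
  -- the differential
  have hd : ∀ x : E.obj (op K₀), cx.d 0 1 x = 0 ↔ E.map (K.δ 0).op x = E.map (K.δ (1 : Fin 2)).op x := fun x => by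
    have e : cx.d 0 1 = E.map (K.δ 0).op - E.map (K.δ (1 : Fin 2)).op := by
      show (AlgebraicTopology.AlternatingCofaceMapComplex.obj _).d 0 (0 + 1) = _
      simp only [AlgebraicTopology.AlternatingCofaceMapComplex.obj, CochainComplex.of_d,
        AlgebraicTopology.AlternatingCofaceMapComplex.objD, Fin.sum_univ_two]
      refine (Fin.sum_univ_two _).trans ?_
      rw [Fin.val_zero, Fin.val_one, pow_zero, pow_one, one_zsmul, neg_one_zsmul, ← sub_eq_add_neg]
      rfl
    rw [e]
    show E.map (K.δ 0).op x - E.map (K.δ (1 : Fin 2)).op x = 0 ↔ _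
    exact sub_eq_zero
  -- elements of the presheaf of a formal coproduct
  let el : ∀ (A : FormalCoproduct.{u} C) {U : C} (i : A.I), (U ⟶ A.obj i) → (FormalCoproduct.yoneda.obj A).obj (op U) :=
    fun A {U} i g => (Sigma.ι (fun i => yoneda.obj (A.obj i)) i).app (op U) g
  have hel : ∀ (A : FormalCoproduct.{u} C) {U : C} (y : (FormalCoproduct.yoneda.obj A).obj (op U)),
      ∃ (i : A.I) (g : U ⟶ A.obj i), el A i g = y := fun A U y => by
    obtain ⟨⟨i⟩, g, hg⟩ := Types.jointly_surjective_of_isColimit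
      (isColimitOfPreserves ((evaluation Cᵒᵖ (Type u)).obj (op U))
        (colimit.isColimit (Discrete.functor fun i => yoneda.obj (A.obj i)))) y
    exact ⟨i, g, hg⟩
  have hmap : ∀ {A B : FormalCoproduct.{u} C} (m : A ⟶ B) {U : C} (i : A.I) (g : U ⟶ A.obj i),
      (FormalCoproduct.yoneda.map m).app (op U) (el A i g) = el B (m.f i) (g ≫ m.φ i) := fun {A B} m U i g => by
    show (Sigma.ι (fun i => yoneda.obj (A.obj i)) i ≫ Sigma.desc _).app (op U) g = _
    rw [Sigma.ι_desc]
    rfl
  -- the section attached to an element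
  let ν : E.obj (op K₀) → (Y₀ ⟶ T) := fun x =>
    Sigma.desc fun i => yonedaEquiv.symm (show T.obj (op (K₀.obj i)) from Pi.π (fun i => F.obj.obj (op (K₀.obj i))) i x)
  have hν : ∀ (x : E.obj (op K₀)) {U : C} (i : K₀.I) (g : U ⟶ K₀.obj i),
      (ν x).app (op U) (el K₀ i g) = F.obj.map g.op (Pi.π (fun i => F.obj.obj (op (K₀.obj i))) i x) :=
    fun x U i g => by
    show (Sigma.ι (fun i => yoneda.obj (K₀.obj i)) i ≫ Sigma.desc _).app (op U) g = _
    rw [Sigma.ι_desc]
    rfl
  -- the restriction map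
  let r : limit F.obj ⟶ cx.X 0 := Pi.lift fun i : K₀.I => limit.π F.obj (op (K₀.obj i))
  have hr : ∀ (t : ↑(limit F.obj)) (i : K₀.I),
      Pi.π (fun i => F.obj.obj (op (K₀.obj i))) i (r t) = limit.π F.obj (op (K₀.obj i)) t := fun t i => hπ _ _ i t
  have hw : ∀ (t : ↑(limit F.obj)) {U V : C} (g : V ⟶ U),
      F.obj.map g.op (limit.π F.obj (op U) t) = limit.π F.obj (op V) t := fun t U V g => by
    rw [← ConcreteCategory.comp_apply, limit.w]
  have hrd : r ≫ cx.d 0 1 = 0 := by
    ext t
    show cx.d 0 1 (r t) = 0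
    refine (hd _).2 ?_
    refine Concrete.limit_ext _ _ _ fun ⟨i⟩ => ?_
    refine (hE (K.δ 0) (r t) i).trans (Eq.trans ?_ (hE (K.δ (1 : Fin 2)) (r t) i).symm)
    exact ((congrArg _ (hr t _)).trans (hw t _)).trans ((congrArg _ (hr t _)).trans (hw t _)).symm
  let L := cx.liftCycles r 1 (by simp) hrd
  haveI : IsIso L := by
    rw [ConcreteCategory.isIso_iff_bijective]
    have hinj : Function.Injective (cx.iCycles 0) := (AddCommGrpCat.mono_iff_injective _).1 inferInstance
    have hL : ∀ t, cx.iCycles 0 (L t) = r t := fun t => by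
      show (L ≫ cx.iCycles 0) t = _
      rw [HomologicalComplex.liftCycles_i]
    have hloc : ∀ U : C, ∃ R ∈ J U, ∀ ⦃V : C⦄ (h : V ⟶ U), R h → Nonempty (Y₀.obj (op V)) := fun U => by
      let p := yonedaEquiv (terminal.from (yoneda.obj U) : yoneda.obj U ⟶ ⊤_ (Cᵒᵖ ⥤ Type u))
      exact ⟨_, Presheaf.imageSieve_mem J (terminal.from Y₀) p, fun V h hh => ⟨hh.choose⟩⟩
    refine ⟨fun t t' htt => ?_, fun z => ?_⟩
    · refine Concrete.limit_ext _ _ _ fun ⟨U⟩ => ?_
      obtain ⟨R, hR, hne⟩ := hloc U
      refine (hT.isSeparated R hR).ext fun V h hh => ?_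
      obtain ⟨y⟩ := hne h hh
      obtain ⟨i, g, -⟩ := hel K₀ y
      show F.obj.map h.op (limit.π F.obj (op U) t) = F.obj.map h.op (limit.π F.obj (op U) t')
      rw [hw, hw, ← hw t g, ← hw t' g, ← hr, ← hr, ← hL, ← hL, htt]
    · let x : E.obj (op K₀) := cx.iCycles 0 z
      have hx : E.map (K.δ 0).op x = E.map (K.δ (1 : Fin 2)).op x := (hd x).1 (by
        show (cx.iCycles 0 ≫ cx.d 0 1) z = 0
        rw [HomologicalComplex.iCycles_d]
        rfl)
      have hconst : ∀ {U : C} (y y' : Y₀.obj (op U)), (ν x).app (op U) y = (ν x).app (op U) y' := by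
        intro U y y'
        let Φ := prod.lift (yonedaEquiv.symm y) (yonedaEquiv.symm y')
        let p := yonedaEquiv Φ
        have hp1 : (prod.fst : Y₀ ⨯ Y₀ ⟶ Y₀).app (op U) p = y := by
          show (Φ ≫ prod.fst).app (op U) (𝟙 U) = y
          rw [prod.lift_fst]
          exact yonedaEquiv.apply_symm_apply y
        have hp2 : (prod.snd : Y₀ ⨯ Y₀ ⟶ Y₀).app (op U) p = y' := by
          show (Φ ≫ prod.snd).app (op U) (𝟙 U) = y'
          rw [prod.lift_snd]
          exact yonedaEquiv.apply_symm_apply y'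
        let Ψ := prod.lift (FormalCoproduct.yoneda.map (K.δ (1 : Fin 2))) (FormalCoproduct.yoneda.map (K.δ (0 : Fin 2)))
        refine (hT.isSeparated _ (Presheaf.imageSieve_mem J Ψ p)).ext fun V h hh => ?_
        obtain ⟨w, hw'⟩ := hh
        obtain ⟨i, g, rfl⟩ := hel K₁ w
        have h1 : (FormalCoproduct.yoneda.map (K.δ (1 : Fin 2))).app (op V) (el K₁ i g) = Y₀.map h.op y := by
          rw [show FormalCoproduct.yoneda.map (K.δ (1 : Fin 2)) = Ψ ≫ prod.fst from (prod.lift_fst _ _).symm,
            NatTrans.comp_app_apply, hw', NatTrans.naturality_apply, hp1]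
        have h0 : (FormalCoproduct.yoneda.map (K.δ (0 : Fin 2))).app (op V) (el K₁ i g) = Y₀.map h.op y' := by
          rw [show FormalCoproduct.yoneda.map (K.δ (0 : Fin 2)) = Ψ ≫ prod.snd from (prod.lift_snd _ _).symm,
            NatTrans.comp_app_apply, hw', NatTrans.naturality_apply, hp2]
        show T.map h.op ((ν x).app (op U) y) = T.map h.op ((ν x).app (op U) y')
        rw [← NatTrans.naturality_apply, ← NatTrans.naturality_apply, ← h1, ← h0, hmap, hmap, hν, hν,
          op_comp, F.obj.map_comp, op_comp, F.obj.map_comp]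
        refine congrArg (F.obj.map g.op) ?_
        exact (hE (K.δ (1 : Fin 2)) x i).symm.trans
          ((congrArg (Pi.π (fun i => F.obj.obj (op (K₁.obj i))) i) hx.symm).trans (hE (K.δ (0 : Fin 2)) x i))
      have hex : ∀ U : C, ∃ s : T.obj (op U), ∀ ⦃V : C⦄ (h : V ⟶ U) (y : Y₀.obj (op V)),
          T.map h.op s = (ν x).app (op V) y := by
        intro U
        obtain ⟨R, hR, hne⟩ := hloc U
        let fam : Presieve.FamilyOfElements T R.arrows := fun V h hh => (ν x).app (op V) (hne h hh).some
        have hfam : fam.Compatible := fun V₁ V₂ W g₁ g₂ f₁ f₂ h₁ h₂ hc => by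
          show T.map g₁.op ((ν x).app _ _) = T.map g₂.op ((ν x).app _ _)
          rw [← NatTrans.naturality_apply, ← NatTrans.naturality_apply]
          exact hconst _ _
        refine ⟨(hT R hR).amalgamate fam hfam, fun V h y => ?_⟩
        refine (hT.isSeparated _ (J.pullback_stable h hR)).ext fun W k hk => ?_
        rw [← ConcreteCategory.comp_apply, ← T.map_comp, ← op_comp,
          (hT R hR).valid_glue hfam (k ≫ h) hk, ← NatTrans.naturality_apply]
        exact hconst _ _
      choose s hs using hex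
      have hsec : (fun U : Cᵒᵖ => (s U.unop : T.obj U)) ∈ T.sections := by
        intro U V f
        obtain ⟨R, hR, hne⟩ := hloc V.unop
        refine (hT.isSeparated R hR).ext fun W k hk => ?_
        obtain ⟨y⟩ := hne k hk
        show T.map k.op (T.map f (s U.unop)) = T.map k.op (s V.unop)
        rw [← ConcreteCategory.comp_apply, ← T.map_comp, hs V.unop k y,
          show f ≫ k.op = (k ≫ f.unop).op from rfl, hs U.unop (k ≫ f.unop) y]
      let t : ↑(limit F.obj) := (Types.isLimitEquivSections
        (isLimitOfPreserves (CategoryTheory.forget AddCommGrpCat.{u}) (limit.isLimit F.obj))).symm ⟨_, hsec⟩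
      have ht : ∀ U : C, limit.π F.obj (op U) t = s U := fun U =>
        Types.isLimitEquivSections_symm_apply
          (isLimitOfPreserves (CategoryTheory.forget AddCommGrpCat.{u}) (limit.isLimit F.obj))
          ⟨fun U : Cᵒᵖ => (s U.unop : T.obj U), hsec⟩ (op U)
      refine ⟨t, hinj ?_⟩
      rw [hL]
      refine Concrete.limit_ext _ _ _ fun ⟨i⟩ => ?_
      refine (hr t i).trans ((ht _).trans ?_)
      refine ((congr($(T.map_id _) _)).symm.trans (hs (K₀.obj i) (𝟙 _) (el K₀ i (𝟙 _)))).trans ?_
      rw [hν]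
      exact congr($(F.obj.map_id _) _)
  exact ⟨(asIso L ≪≫ cx.isoHomologyπ₀).symm⟩
end Groth.Agent.S6525
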