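import Groth.Statements.S0943
import Groth.Agent.AbSiteDerLib.HduMap
-- import your own Groth.Agent.* helpers here

set_option autoImplicit false
set_option backward.isDefEq.respectTransparency false
universe u
open CategoryTheory
open CohSite

namespace Groth.Agent.S0943

open CategoryTheory.Limits in
/-- Abelian sheaves; the short exact sequence 0 -> R^1 lim H^{m-1}(U, K_n) -> H^m(U, R lim K_n) -> lim
H^m(U, K_n) -> 0 rendered by two consequences: let (K_n) be an inverse system in the derived
category of abelian sheaves on a site with a derived limit L through maps a_n : L -> K_n, U an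
object and m an integer. Then every compatible family of classes in the H^m(U, K_n) lifts to H^m(U,
L), and if the system H^{m-1}(U, K_n) has vanishing R^1 lim the lift is unique (a class with zero
images is zero). -/
theorem result {C : Type u} [SmallCategory C] {J : GrothendieckTopology C}
    [HasDerivedCategory.{u} (Sheaf J AddCommGrpCat.{u})]
    (K : ℕ → DerivedCategory (Sheaf J AddCommGrpCat.{u})) (t : ∀ n, K (n + 1) ⟶ K n) [HasProduct K]
    (L : DerivedCategory (Sheaf J AddCommGrpCat.{u})) (a : ∀ n, L ⟶ K n) (hL : CohCx.IsRlimVia K t L a)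
    (U : C) (m : ℤ) :
    (∀ x : ∀ n, CohCx.HDU (K n) m U,
      (∀ n, x (n + 1) ≫ (shiftFunctor _ m).map (t n) = x n) →
      ∃ y : CohCx.HDU L m U, ∀ n, y ≫ (shiftFunctor _ m).map (a n) = x n) ∧
    (CohCx.LimOneIsZero (fun n => CohCx.HDU (K n) (m - 1) U)
        (fun n => Preadditive.rightComp _ ((shiftFunctor _ (m - 1)).map (t n))) →
      ∀ y : CohCx.HDU L m U, (∀ n, y ≫ (shiftFunctor _ m).map (a n) = 0) → y = 0) := by
  let e := ((DerivedCategory.singleFunctors (Sheaf J AddCommGrpCat.{u})).shiftIso 1 (m - 1) m (by omega)).app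
    (Groth.Agent.AbSiteDerLib.freeAb J U)
  refine ⟨fun x hx => ?_, fun hlim y hy => ?_⟩
  · choose z hz using fun n => (Groth.Agent.AbSiteDerLib.hduMap_bijective U m (K n)).2 (x n)
    have hzt : ∀ n, z (n + 1) ≫ t n = z n := fun n =>
      (Groth.Agent.AbSiteDerLib.hduMap_bijective U m (K n)).1 (by
        rw [Groth.Agent.AbSiteDerLib.hduMap_comp, hz, hz]
        exact hx n)
    obtain ⟨g, hg⟩ := Groth.Agent.AbSiteDerLib.exists_lift_rlim hL z hzt
    exact ⟨Groth.Agent.AbSiteDerLib.hduMap U m L g, fun n => by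
      rw [← Groth.Agent.AbSiteDerLib.hduMap_comp, hg, hz]⟩
  · obtain ⟨z, rfl⟩ := (Groth.Agent.AbSiteDerLib.hduMap_bijective U m L).2 y
    have hz : z = 0 := Groth.Agent.AbSiteDerLib.eq_zero_of_rlim hL
      (Groth.Agent.AbSiteDerLib.surjective_limOne_of_equiv
        (A := fun n => (Groth.Agent.AbSiteDerLib.dgen J U m)⟦(1 : ℤ)⟧ ⟶ K n)
        (B := fun n => CohCx.HDU (K n) (m - 1) U)
        (fun n x => x ≫ t n) (fun n b => b ≫ (shiftFunctor _ (m - 1)).map (t n))
        (fun n => (Groth.Agent.AbSiteDerLib.hduMap U (m - 1) (K n)).comp (Preadditive.leftComp (K n) e.inv))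
        (fun n => (Groth.Agent.AbSiteDerLib.hduMap_bijective U (m - 1) (K n)).comp e.homFromEquiv.bijective)
        (fun n x => (congrArg (Groth.Agent.AbSiteDerLib.hduMap U (m - 1) (K n)) (Category.assoc _ _ _).symm).trans
          (Groth.Agent.AbSiteDerLib.hduMap_comp U (m - 1) _ (t n))) hlim) z
      fun n => (Groth.Agent.AbSiteDerLib.hduMap_bijective U m (K n)).1
        (((Groth.Agent.AbSiteDerLib.hduMap_comp U m z (a n)).trans (hy n)).trans (map_zero _).symm)
    rw [hz, map_zero]


end Groth.Agent.S0943
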