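import Groth.Statements.S0946
import Groth.Agent.CohTopLib.FibreCoh
import Groth.Agent.CohLib.CohPresheaf
-- import your own Groth.Agent.* helpers here

set_option autoImplicit false
universe u
open CategoryTheory
open CohTop

namespace Groth.Agent.S0946

open TopologicalSpace Opposite CategoryTheory.Limits in
/-- Take a quasi-compact subset Z of a topological space X whose points are pairwise separated by
disjoint opens of X, and an abelian sheaf F on X. For every p the group H^p(Z, F|_Z) (cohomology of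
the pullback of F to the subspace Z) is isomorphic to the colimit of the groups H^p(U, F) over the
open neighbourhoods U of Z (existence of an isomorphism with the colimit of the cohomology presheaf
restricted to the opens containing Z). -/
theorem result {X : TopCat.{u}} (Z : Set X) (hZ : IsCompact Z)
    (hsep : ∀ x ∈ Z, ∀ y ∈ Z, x ≠ y → ∃ U V : Opens X, x ∈ U ∧ y ∈ V ∧ Disjoint U V)
    (F : CohTop.Ab X) (p : ℕ) :
    Nonempty ((colimit (ObjectProperty.ι (fun U : (Opens X)ᵒᵖ => Z ⊆ (U.unop : Set X)) ⋙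
        (Sheaf.cohomologyPresheafFunctor (Opens.grothendieckTopology X) p).obj F) : AddCommGrpCat.{u}) ≃+
      CohTop.H ((CohTop.pull (TopCat.ofHom ⟨Subtype.val, continuous_subtype_val⟩ : TopCat.of Z ⟶ X)).obj F) p) := by
  let e : TopCat.of Z ⟶ X := TopCat.ofHom ⟨Subtype.val, continuous_subtype_val⟩
  haveI : CompactSpace (TopCat.of Z) := isCompact_iff_compactSpace.mp hZ
  have he : Topology.IsEmbedding e := Topology.IsEmbedding.subtypeVal
  have hs : CohTopLib.GermFam.Sep (Set.range e) := by
    rintro _ ⟨a, rfl⟩ _ ⟨b, rfl⟩ hne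
    obtain ⟨U, V, ha, hb, hd⟩ := hsep _ a.2 _ b.2 hne
    refine ⟨U, V, U.isOpen, V.isOpen, ha, hb, Set.disjoint_iff_forall_ne.mpr fun x hx y hy h => ?_⟩
    subst h
    exact (hd.le_bot ⟨hx, hy⟩ : x ∈ (⊥ : Opens X)).elim
  have hP : (fun U : (Opens X)ᵒᵖ => Z ⊆ (U.unop : Set X)) = CohTopLib.FibreCoh.nhdsProp e := by
    funext U
    refine propext ⟨fun h => ?_, fun h x hx => h ⟨⟨x, hx⟩, rfl⟩⟩
    rintro _ ⟨z, rfl⟩
    exact h z.2
  rw [hP]
  let W := (Functor.whiskeringLeft _ _ AddCommGrpCat.{u}).obj (CohTopLib.FibreCoh.nhdsProp e).ι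
  let cl : ((CohTopLib.FibreCoh.nhdsProp e).FullSubcategory ⥤ AddCommGrpCat.{u}) ⥤ AddCommGrpCat.{u} := colim
  haveI : PreservesFiniteLimits cl := HasExactColimitsOfShape.preservesFiniteLimits
  haveI : cl.Additive := Functor.additive_of_preserves_binary_products _
  haveI : cl.PreservesHomology := Functor.preservesHomologyOfExact _
  haveI : (CohTopLib.FibreCoh.nearPre e).Additive := inferInstanceAs (W ⋙ cl).Additive
  haveI : (CohTopLib.FibreCoh.nearPre e).PreservesHomology := inferInstanceAs (W ⋙ cl).PreservesHomology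
  obtain ⟨h⟩ := CohLib.nonempty_secCx_homology_iso
    (J := Opens.grothendieckTopology X) (injectiveResolution F) p
  haveI : (CohTopLib.FibreCoh.GZ e).Additive := CohTopLib.FibreCoh.additive_GZ e
  let a := (Groth.Agent.RightDerCompLib.rightDerivedCompExact
    (sheafToPresheaf (Opens.grothendieckTopology X) AddCommGrpCat.{u}) (CohTopLib.FibreCoh.nearPre e) p).app F
  let b := (Groth.Agent.RightDerCompLib.rightDerivedCongr (CohTopLib.FibreCoh.nearIso e he hs) p).app F
  obtain ⟨j⟩ := CohTopLib.FibreCoh.nonempty_rightDerived_GZ e he hs F p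
  let k := (CohTopLib.FibreCoh.nearPre e).mapIso ((injectiveResolution F).isoRightDerivedObj
    (sheafToPresheaf (Opens.grothendieckTopology X) AddCommGrpCat.{u}) p ≪≫ h)
  exact ⟨(k.symm ≪≫ a.symm ≪≫ b ≪≫ j).addCommGroupIsoToAddEquiv⟩


end Groth.Agent.S0946
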