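import Groth.Statements.S0947
import Groth.Agent.CohTopLib.SpecGen
import Groth.Agent.CohLib.CohPresheaf
-- import your own Groth.Agent.* helpers here

set_option autoImplicit false
universe u
open CategoryTheory
open CohTop

namespace Groth.Agent.S0947

open TopologicalSpace Opposite CategoryTheory.Limits in
/-- Let X be a spectral space, F an abelian sheaf on X, E ⊆ X a quasi-compact subset and W the set of
points of X specializing to some point of E. Then for every p the group H^p(W, F|_W) (cohomology of
the pullback of F to the subspace W) is isomorphic to the colimit of the groups H^p(U, F) over the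
quasi-compact open neighbourhoods U of E (existence of an isomorphism). -/
theorem result {X : TopCat.{u}} [SpectralSpace X] (E : Set X)
    (hE : IsCompact E) (F : CohTop.Ab X) (p : ℕ) :
    Nonempty ((colimit (ObjectProperty.ι (fun U : (Opens X)ᵒᵖ => E ⊆ (U.unop : Set X) ∧ IsCompact (U.unop : Set X)) ⋙
        (Sheaf.cohomologyPresheafFunctor (Opens.grothendieckTopology X) p).obj F) : AddCommGrpCat.{u}) ≃+
      CohTop.H ((CohTop.pull (TopCat.ofHom ⟨Subtype.val, continuous_subtype_val⟩ :
        TopCat.of {x : X | ∃ e ∈ E, e ∈ closure {x}} ⟶ X)).obj F) p) := by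
  set W : Set X := {x : X | ∃ e ∈ E, e ∈ closure {x}} with hW
  let e : TopCat.of W ⟶ X := TopCat.ofHom ⟨Subtype.val, continuous_subtype_val⟩
  have he : Topology.IsInducing e := Topology.IsInducing.subtypeVal
  have hr : Set.range e = W := Subtype.range_coe
  have hEW : E ⊆ W := fun x hx => ⟨x, hx, subset_closure rfl⟩
  have hopen : ∀ {O : Set X}, IsOpen O → E ⊆ O → W ⊆ O := fun {O} hO h x hx => by
    obtain ⟨a, ha, hax⟩ := hx
    exact (specializes_iff_mem_closure.mpr hax).mem_open hO (h ha)
  have hg : StableUnderGeneralization (Set.range e) := by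
    rw [hr]
    intro x y hxy hy
    obtain ⟨a, ha, hay⟩ := hy
    exact ⟨a, ha, specializes_iff_mem_closure.mp (hxy.trans (specializes_iff_mem_closure.mpr hay))⟩
  have hc : IsCompact (Set.range e) := by
    rw [hr]
    refine isCompact_of_finite_subcover fun {κ} U hUo hU => ?_
    obtain ⟨t, ht⟩ := hE.elim_finite_subcover U hUo (hEW.trans hU)
    exact ⟨t, hopen (isOpen_biUnion fun i _ => hUo i) ht⟩
  let P : ObjectProperty (Opens X)ᵒᵖ := fun U => E ⊆ (U.unop : Set X) ∧ IsCompact (U.unop : Set X)
  haveI : IsFiltered P.FullSubcategory :=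
    haveI : Nonempty P.FullSubcategory := ⟨⟨op ⊤, Set.subset_univ _, isCompact_univ⟩⟩
    haveI : IsFilteredOrEmpty P.FullSubcategory :=
      { cocone_objs := fun A B => ⟨⟨op (A.obj.unop ⊓ B.obj.unop), fun _ hx => ⟨A.property.1 hx, B.property.1 hx⟩,
          CohTopLib.ColimCoh.qs_inf _ _ A.property.2 B.property.2⟩,
          ObjectProperty.homMk (homOfLE inf_le_left).op, ObjectProperty.homMk (homOfLE inf_le_right).op, trivial⟩
        cocone_maps := fun {_ B} _ _ => ⟨B, 𝟙 B, ObjectProperty.hom_ext _ (Subsingleton.elim _ _)⟩ }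
    ⟨⟩
  have hP : ∀ U, P U → Set.range e ⊆ (U.unop : Set X) := fun U hU => hr.symm ▸ hopen U.unop.2 hU.1
  have hcof : ∀ O : Opens X, Set.range e ⊆ (O : Set X) → ∃ U : Opens X, U ≤ O ∧ P (op U) := fun O hO => by
    obtain ⟨V, h1, h2, h3⟩ := CohTopLib.SpecGen.exists_qc_between hE O (hEW.trans (hr ▸ hO))
    exact ⟨V, h2, h1, h3⟩
  let L := (Functor.whiskeringLeft _ _ AddCommGrpCat.{u}).obj P.ι
  let cl : (P.FullSubcategory ⥤ AddCommGrpCat.{u}) ⥤ AddCommGrpCat.{u} := colim
  haveI : PreservesFiniteLimits cl := HasExactColimitsOfShape.preservesFiniteLimits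
  haveI : cl.Additive := Functor.additive_of_preserves_binary_products _
  haveI : cl.PreservesHomology := Functor.preservesHomologyOfExact _
  haveI : (CohTopLib.SpecGen.nearPre P).Additive := inferInstanceAs (L ⋙ cl).Additive
  haveI : (CohTopLib.SpecGen.nearPre P).PreservesHomology := inferInstanceAs (L ⋙ cl).PreservesHomology
  haveI : (CohTopLib.FibreCoh.GZ e).Additive := CohTopLib.FibreCoh.additive_GZ e
  obtain ⟨h⟩ := CohLib.nonempty_secCx_homology_iso
    (J := Opens.grothendieckTopology X) (injectiveResolution F) p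
  let a := (Groth.Agent.RightDerCompLib.rightDerivedCompExact
    (sheafToPresheaf (Opens.grothendieckTopology X) AddCommGrpCat.{u}) (CohTopLib.SpecGen.nearPre P) p).app F
  let b := (Groth.Agent.RightDerCompLib.rightDerivedCongr (CohTopLib.SpecGen.nearIso e P hP hcof he hg hc) p).app F
  obtain ⟨j⟩ := CohTopLib.SpecGen.nonempty_rightDerived_GZ he hg hc F p
  let k := (CohTopLib.SpecGen.nearPre P).mapIso ((injectiveResolution F).isoRightDerivedObj
    (sheafToPresheaf (Opens.grothendieckTopology X) AddCommGrpCat.{u}) p ≪≫ h)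
  exact ⟨(k.symm ≪≫ a.symm ≪≫ b ≪≫ j).addCommGroupIsoToAddEquiv⟩

end Groth.Agent.S0947
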