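import Groth.Statements.S0957
import Groth.Agent.KFlatLib.DCohBasic
-- import your own Groth.Agent.* helpers here

set_option autoImplicit false
universe u
open CategoryTheory
attribute [local instance] HasDerivedCategory.standard
open DCoh

namespace Groth.Agent.S0957

open AlgebraicGeometry in
/-- Let 0 -> K₁ -> K₂ -> K₃ -> 0 be a short exact sequence of complexes of O_X-modules such that every
term of K₃ is a flat O_X-module. If two of K₁, K₂, K₃ are K-flat then so is the third. -/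
theorem result {X : Scheme.{u}} (S : ShortComplex (CochainComplex X.Modules ℤ))
    (hS : S.ShortExact) (h3 : ∀ n : ℤ, FlatMod.IsFlat (S.X₃.X n)) :
    (DCoh.IsKFlat S.X₁ → DCoh.IsKFlat S.X₂ → DCoh.IsKFlat S.X₃) ∧
    (DCoh.IsKFlat S.X₁ → DCoh.IsKFlat S.X₃ → DCoh.IsKFlat S.X₂) ∧
    (DCoh.IsKFlat S.X₂ → DCoh.IsKFlat S.X₃ → DCoh.IsKFlat S.X₁) := by
  have H := fun x L => KFlatLib.kFlat_two_out_of_three S hS h3 x (L := L)
  refine ⟨fun h₁ h₂ => ?_, fun h₁ h₃ => ?_, fun h₂ h₃ => ?_⟩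
  · exact KFlatLib.isKFlat_of_stalks _ fun x L hL =>
      (H x L).1 (KFlatLib.stalks_isKFlat h₁ x L hL) (KFlatLib.stalks_isKFlat h₂ x L hL)
  · exact KFlatLib.isKFlat_of_stalks _ fun x L hL =>
      (H x L).2.1 (KFlatLib.stalks_isKFlat h₁ x L hL) (KFlatLib.stalks_isKFlat h₃ x L hL)
  · exact KFlatLib.isKFlat_of_stalks _ fun x L hL =>
      (H x L).2.2 (KFlatLib.stalks_isKFlat h₂ x L hL) (KFlatLib.stalks_isKFlat h₃ x L hL)

end Groth.Agent.S0957
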