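import Groth.Statements.S0969
import Groth.Agent.CohDerLib.Basic
-- import your own Groth.Agent.* helpers here

set_option autoImplicit false
universe v v' u u'
open CategoryTheory
open CohDer

namespace Groth.Agent.S0969

/-- Let F be an exact functor of pretriangulated categories which is fully faithful and has an exact
right adjoint G. If G kills only zero objects, then F is an equivalence of categories. -/
theorem result {D : Type u} [Category.{v} D] [Preadditive D] [Limits.HasZeroObject D] [HasShift D ℤ]
    [∀ n : ℤ, (shiftFunctor D n).Additive] [Pretriangulated D]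
    {D' : Type u'} [Category.{v'} D'] [Preadditive D'] [Limits.HasZeroObject D'] [HasShift D' ℤ]
    [∀ n : ℤ, (shiftFunctor D' n).Additive] [Pretriangulated D']
    [IsTriangulated D] [IsTriangulated D']
    (F : D ⥤ D') [F.CommShift ℤ] [F.IsTriangulated] (G : D' ⥤ D) [G.CommShift ℤ] [G.IsTriangulated]
    (adj : F ⊣ G) [F.Full] [F.Faithful] (hG : ∀ X : D', Limits.IsZero (G.obj X) → Limits.IsZero X) :
    F.IsEquivalence := by
  let ε := adj.counit
  haveI : ∀ X, IsIso (ε.app X) := fun X => by
    obtain ⟨C', g, h, hT⟩ := Pretriangulated.distinguished_cocone_triangle (ε.app X)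
    refine (Pretriangulated.Triangle.isZero₃_iff_isIso₁ _ hT).1 (hG _ ?_)
    refine (Pretriangulated.Triangle.isZero₃_iff_isIso₁ _ (G.map_distinguished _ hT)).2 ?_
    show IsIso (G.map (adj.counit.app X))
    haveI : IsIso (adj.unit.app (G.obj X) ≫ G.map (adj.counit.app X)) := by
      rw [adj.right_triangle_components]; exact IsIso.id _
    exact IsIso.of_isIso_comp_left (adj.unit.app (G.obj X)) _
  haveI : IsIso adj.counit := NatIso.isIso_of_isIso_app _
  exact adj.toEquivalence.isEquivalence_functor

end Groth.Agent.S0969
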