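import Groth.Statements.S0973
import Groth.Agent.DerLib.Ghost

set_option autoImplicit false
universe w v u
open CategoryTheory CategoryTheory.Limits
open CohDer

namespace Groth.Agent.S0973

/-- Let K be an object of the derived category of an abelian category with cohomology concentrated in
degrees a, …, b. Suppose that for all i > j and p ≥ 2 every morphism H^i(K) ⟶ H^j(K)[p] in the
derived category (an element of Ext^p) vanishes. Then K splits: it is isomorphic to ⨁_{a ≤ i ≤ b}
Hⁱ(K)[-i]. -/
theorem result {A : Type u} [Category.{v} A] [Abelian A] [HasDerivedCategory.{w} A]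
    (K : DerivedCategory A) (a b : ℤ) [K.IsGE a] [K.IsLE b]
    (hExt : ∀ (i j : ℤ) (p : ℕ), j < i → 2 ≤ p →
      ∀ f : (DerivedCategory.singleFunctor A 0).obj ((DerivedCategory.homologyFunctor A i).obj K) ⟶
        ((DerivedCategory.singleFunctor A 0).obj ((DerivedCategory.homologyFunctor A j).obj K))⟦(p : ℤ)⟧, f = 0)
    [HasBiproduct (fun i : Finset.Icc a b => (DerivedCategory.singleFunctor A (i : ℤ)).obj ((DerivedCategory.homologyFunctor A (i : ℤ)).obj K))] :
    Nonempty (K ≅ ⨁ (fun i : Finset.Icc a b => (DerivedCategory.singleFunctor A (i : ℤ)).obj ((DerivedCategory.homologyFunctor A (i : ℤ)).obj K))) := by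
  classical
  let t := DerivedCategory.TStructure.t (C := A)
  let S := DerivedCategory.singleFunctors A
  let H : ℤ → A := fun i => (DerivedCategory.homologyFunctor A i).obj K
  -- orthogonality of single objects
  have hsingle : ∀ (i j : ℤ), j < i → ∀ (φ : (DerivedCategory.singleFunctor A i).obj (H i) ⟶
      ((DerivedCategory.singleFunctor A j).obj (H j))⟦(1 : ℤ)⟧), φ = 0 := by
    intro i j hji φ
    have hp : ∃ p : ℕ, (p : ℤ) = i - j + 1 ∧ 2 ≤ p := ⟨(i - j + 1).toNat, by omega, by omega⟩
    obtain ⟨p, hp, hp2⟩ := hp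
    let e₀ := (S.shiftIso i 0 i (add_zero i)).app (H i)
    let e₁ := (S.shiftIso 1 (j - 1) j (by omega)).app (H j)
    let e₂ := (S.shiftIso i (-(p : ℤ)) (j - 1) (by omega)).app (H j)
    let e₃ := (S.shiftIso (p : ℤ) (-(p : ℤ)) 0 (by omega)).app (H j)
    have h := hExt i j p hji hp2
      (e₀.inv ≫ (φ ≫ e₁.hom)⟦i⟧' ≫ e₂.hom ≫ e₃.inv)
    have h' : (φ ≫ e₁.hom)⟦i⟧' = 0 := by
      rw [← cancel_epi e₀.inv, ← cancel_mono (e₂.hom ≫ e₃.inv), Category.assoc, comp_zero,
        zero_comp]
      exact h
    rw [Functor.map_eq_zero_iff] at h'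
    exact (cancel_mono e₁.hom).1 (h'.trans zero_comp.symm)
  -- the pieces
  have hpiece : ∀ j : ℤ, Nonempty ((t.truncGELT j (j + 1)).obj K ≅
      (DerivedCategory.singleFunctor A j).obj (H j)) := by
    intro j
    have : ((t.truncLT (j + 1)).obj K).IsLE j := t.isLE_truncLT_obj K (j + 1) j (by lia)
    have : ((t.truncGELT j (j + 1)).obj K).IsLE j :=
      inferInstanceAs (t.IsLE ((t.truncGE j).obj _) j)
    have : ((t.truncGELT j (j + 1)).obj K).IsGE j := t.isGE_truncGE_obj _ j j (by lia)
    obtain ⟨Y, ⟨e⟩⟩ := DerivedCategory.exists_iso_singleFunctor_obj_of_isGE_of_isLE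
      ((t.truncGELT j (j + 1)).obj K) j
    have := Groth.Agent.DerLib.Ghost.isIso_homologyMap_truncLTι K (j + 1) j (by lia)
    have := Groth.Agent.DerLib.Ghost.isIso_homologyMap_truncGEπ ((t.truncLT (j + 1)).obj K) j j
      le_rfl
    let eY : Y ≅ H j :=
      ((DerivedCategory.singleFunctorCompHomologyFunctorIso A j).app Y).symm ≪≫
        (DerivedCategory.homologyFunctor A j).mapIso e.symm ≪≫
        (asIso ((DerivedCategory.homologyFunctor A j).map
          ((t.truncGEπ j).app ((t.truncLT (j + 1)).obj K)))).symm ≪≫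
        asIso ((DerivedCategory.homologyFunctor A j).map ((t.truncLTι (j + 1)).app K))
    exact ⟨e ≪≫ (DerivedCategory.singleFunctor A j).mapIso eY⟩
  -- orthogonality to the lower truncations
  have hvan : ∀ (i : ℤ) (d : ℕ), a + d ≤ i → ∀ (m : ℤ), m = a + d →
      ∀ (φ : (DerivedCategory.singleFunctor A i).obj (H i) ⟶
      ((t.truncLT m).obj K)⟦(1 : ℤ)⟧), φ = 0 := by
    intro i d
    induction d with
    | zero =>
      intro _ m hm φ
      have : IsZero ((t.truncLT m).obj K) := by
        obtain rfl : m = a := by simpa using hm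
        exact t.isZero_truncLT_obj_of_isGE _ K
      exact ((shiftFunctor _ (1 : ℤ)).map_isZero this).eq_of_tgt _ _
    | succ d ih =>
      intro hd m hm φ
      obtain rfl : m = (a + d) + 1 := by omega
      have hT := t.triangleLTLTGELT_distinguished (a + d) ((a + d) + 1) (by omega) K
      set T := (t.triangleLTLTGELT (a + d) ((a + d) + 1) (by omega)).obj K with hTdef
      obtain ⟨e⟩ := hpiece (a + d)
      let e' : T.obj₃ ≅ (DerivedCategory.singleFunctor A (a + d)).obj (H (a + d)) := e
      have h3 : φ ≫ T.mor₂⟦(1 : ℤ)⟧' = 0 := by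
        have := hsingle i (a + d) (by omega) (φ ≫ (T.mor₂ ≫ e'.hom)⟦(1 : ℤ)⟧')
        rw [Functor.map_comp, ← Category.assoc] at this
        exact (cancel_mono (e'.hom⟦(1 : ℤ)⟧')).1 (this.trans zero_comp.symm)
      obtain ⟨z, hz⟩ := Pretriangulated.Triangle.coyoneda_exact₁ _
        (Pretriangulated.rot_of_distTriang _ hT) φ h3
      refine hz.trans ?_
      have hz0 : z ≫ T.mor₁⟦(1 : ℤ)⟧' = 0 := by
        rw [show z = 0 from ih (by omega) _ rfl z, zero_comp]
      exact (Preadditive.comp_neg _ _).trans ((congrArg Neg.neg hz0).trans neg_zero)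
  -- the sections
  have hsec : ∀ i : Finset.Icc a b, ∃ s : (DerivedCategory.singleFunctor A (i : ℤ)).obj (H i) ⟶ K,
      IsIso ((DerivedCategory.homologyFunctor A (i : ℤ)).map s) := by
    rintro ⟨i, hi⟩
    obtain ⟨hai, -⟩ := Finset.mem_Icc.1 hi
    obtain ⟨d, rfl⟩ : ∃ d : ℕ, i = a + d := ⟨(i - a).toNat, by omega⟩
    have hT := t.triangleLTLTGELT_distinguished (a + d) (a + d + 1) (by omega) K
    obtain ⟨e⟩ := hpiece (a + d)
    obtain ⟨s, hs⟩ : ∃ s : (DerivedCategory.singleFunctor A (a + d)).obj (H (a + d)) ⟶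
        (t.truncLT (a + d + 1)).obj K,
        e.inv = s ≫ (t.truncGEπ (a + d)).app ((t.truncLT (a + d + 1)).obj K) := Pretriangulated.Triangle.coyoneda_exact₃ _ hT e.inv
      (hvan (a + d) d le_rfl _ rfl _)
    refine ⟨s ≫ (t.truncLTι (a + d + 1)).app K, ?_⟩
    have := Groth.Agent.DerLib.Ghost.isIso_homologyMap_truncLTι K (a + d + 1) (a + d) (by lia)
    have : ((t.truncLT (a + d + 1)).obj K).IsLE (a + d) := t.isLE_truncLT_obj _ _ _ (by lia)
    have hπ := Groth.Agent.DerLib.Ghost.isIso_homologyMap_truncGEπ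
      ((t.truncLT (a + d + 1)).obj K) (a + d) (a + d) le_rfl
    have : IsIso ((DerivedCategory.homologyFunctor A (a + d)).map s) := by
      have h := congrArg (DerivedCategory.homologyFunctor A (a + d)).map hs
      rw [Functor.map_comp] at h
      exact @IsIso.of_isIso_fac_right _ _ _ _ _ _ _ _ hπ inferInstance h.symm
    rw [Functor.map_comp]
    infer_instance
  choose s hs using hsec
  let f : ∀ i : Finset.Icc a b, DerivedCategory A := fun i =>
    (DerivedCategory.singleFunctor A (i : ℤ)).obj (H i)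
  have hIso : IsIso (biproduct.desc s : ⨁ f ⟶ K) := by
    rw [DerivedCategory.isIso_iff]
    intro n
    have : (DerivedCategory.homologyFunctor A n).Additive :=
      Functor.additive_of_preserves_binary_products _
    let G := DerivedCategory.homologyFunctor A n
    by_cases hn : n ∈ Finset.Icc a b
    · refine @IsIso.of_isIso_fac_left _ _ _ _ _ (G.map (biproduct.ι f ⟨n, hn⟩))
        (G.map (biproduct.desc s)) (G.map (s ⟨n, hn⟩)) ?_ (hs ⟨n, hn⟩)
        (by rw [← G.map_comp, biproduct.ι_desc])
      refine ⟨G.map (biproduct.π f ⟨n, hn⟩), by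
        rw [← G.map_comp, biproduct.ι_π_self, G.map_id], ?_⟩
      rw [← G.map_comp, ← sub_eq_zero, ← G.map_id, ← biproduct.total (f := f), G.map_sum,
        ← Finset.sum_erase_add _ _ (Finset.mem_univ (⟨n, hn⟩ : Finset.Icc a b)), sub_eq_zero]
      rw [Finset.sum_eq_zero, zero_add]
      intro j hj
      rw [G.map_comp]
      have hjn : (j : ℤ) ≠ n := fun h => (Finset.mem_erase.1 hj).1 (Subtype.ext h)
      have hz : IsZero (G.obj (f j)) := by
        rcases lt_or_gt_of_ne hjn with h | h
        · exact DerivedCategory.isZero_of_isLE _ (j : ℤ) n h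
        · exact DerivedCategory.isZero_of_isGE _ (j : ℤ) n h
      rw [hz.eq_of_src (G.map (biproduct.ι f j)) 0, comp_zero]
    · refine isIso_of_source_target_iso_zero _ (IsZero.isoZero ?_) (IsZero.isoZero ?_)
      · rw [IsZero.iff_id_eq_zero, ← G.map_id, ← biproduct.total (f := f), G.map_sum]
        refine Finset.sum_eq_zero fun j _ => ?_
        have hjn : (j : ℤ) ≠ n := fun h => hn (h ▸ j.2)
        have hz : IsZero (G.obj (f j)) := by
          rcases lt_or_gt_of_ne hjn with h | h
          · exact DerivedCategory.isZero_of_isLE _ (j : ℤ) n h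
          · exact DerivedCategory.isZero_of_isGE _ (j : ℤ) n h
        rw [G.map_comp, hz.eq_of_src (G.map (biproduct.ι f j)) 0, comp_zero]
      · rcases not_and_or.1 (fun h => hn (Finset.mem_Icc.2 h)) with h | h
        · exact DerivedCategory.isZero_of_isGE K a n (not_le.1 h)
        · exact DerivedCategory.isZero_of_isLE K b n (not_le.1 h)
  exact ⟨(asIso (biproduct.desc s : ⨁ f ⟶ K)).symm⟩

end Groth.Agent.S0973
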