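import Groth.Statements.S1076
import Mathlib

set_option autoImplicit false
universe v u
open CategoryTheory
open DerLim

namespace Groth.Agent.S1076
open CategoryTheory CategoryTheory.Limits CategoryTheory.Pretriangulated

section
variable {D : Type u} [Category.{v} D] [Preadditive D] [HasCoproducts.{v} D]

/-- Maps into a coproduct that are finite sums of maps into the summands. -/
noncomputable def finSub {ι : Type v} (X : ι → D) (C : D) : AddSubgroup (C ⟶ ∐ X) :=
  AddSubgroup.closure {g | ∃ (k : ι) (a : C ⟶ X k), g = a ≫ Sigma.ι X k}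

/-- Every map into a coproduct is a finite sum of maps into the summands. -/
def Fac (C : D) : Prop := ∀ (ι : Type v) (X : ι → D) (f : C ⟶ ∐ X), f ∈ finSub X C

lemma fac_of_compact {C : D} (hC : CohDer.IsCompactObject C) : Fac C := by
  classical
  intro ι X f
  obtain ⟨x, rfl⟩ := (hC ι X).2 f
  induction x using DirectSum.induction_on with
  | zero => rw [map_zero]; exact zero_mem _
  | of k a =>
    exact AddSubgroup.subset_closure ⟨k, a, by simp [CohDer.homSumToHomCoprod, Preadditive.rightComp]⟩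
  | add x y hx hy => rw [map_add]; exact add_mem hx hy

lemma comp_mem_finSub {ι : Type v} {X : ι → D} {B C : D} (a : B ⟶ C) {f : C ⟶ ∐ X}
    (hf : f ∈ finSub X C) : a ≫ f ∈ finSub X B := by
  induction hf using AddSubgroup.closure_induction with
  | mem g hg =>
    obtain ⟨k, b, rfl⟩ := hg
    exact AddSubgroup.subset_closure ⟨k, a ≫ b, by simp⟩
  | zero => rw [comp_zero]; exact zero_mem _
  | add f g _ _ hf hg => rw [Preadditive.comp_add]; exact add_mem hf hg
  | neg f _ hf => rw [Preadditive.comp_neg]; exact neg_mem hf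

open Classical in
/-- The idempotent of `∐ X` cutting out the finite subfamily `S`. -/
noncomputable def cut {ι : Type v} (X : ι → D) (S : Finset ι) : ∐ X ⟶ ∐ X :=
  Sigma.desc fun k => if k ∈ S then Sigma.ι X k else 0

open Classical in
lemma ι_cut {ι : Type v} (X : ι → D) (S : Finset ι) (k : ι) :
    Sigma.ι X k ≫ cut X S = if k ∈ S then Sigma.ι X k else 0 := by simp [cut]

lemma cut_cut {ι : Type v} (X : ι → D) {S T : Finset ι} (h : S ⊆ T) :
    cut X S ≫ cut X T = cut X S := by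
  refine Sigma.hom_ext _ _ fun k => ?_
  rw [← Category.assoc, ι_cut]
  split_ifs with hk
  · rw [ι_cut, if_pos (h hk)]
  · simp

lemma exists_cut_eq {ι : Type v} {X : ι → D} {C : D} {f : C ⟶ ∐ X} (hf : f ∈ finSub X C) :
    ∃ S : Finset ι, f ≫ cut X S = f := by
  classical
  induction hf using AddSubgroup.closure_induction with
  | mem g hg =>
    obtain ⟨k, b, rfl⟩ := hg
    exact ⟨{k}, by rw [Category.assoc, ι_cut, if_pos (Finset.mem_singleton_self k)]⟩
  | zero => exact ⟨∅, zero_comp⟩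
  | add f g _ _ hf hg =>
    obtain ⟨S, hS⟩ := hf
    obtain ⟨T, hT⟩ := hg
    refine ⟨S ∪ T, ?_⟩
    rw [Preadditive.add_comp]
    congr 1
    · rw [← hS, Category.assoc, cut_cut X Finset.subset_union_left]
    · rw [← hT, Category.assoc, cut_cut X Finset.subset_union_right]
  | neg f _ hf =>
    obtain ⟨S, hS⟩ := hf
    exact ⟨S, by rw [Preadditive.neg_comp, hS]⟩

lemma comp_cut_mem {ι : Type v} (X : ι → D) (S : Finset ι) {C : D} (f : C ⟶ ∐ X) :
    f ≫ cut X S ∈ finSub X C := by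
  classical
  refine comp_mem_finSub f ?_
  have : cut X S = ∑ k ∈ S, (Sigma.desc fun j => if h : j = k then eqToHom (h ▸ rfl) else 0) ≫
      Sigma.ι X k := by
    refine Sigma.hom_ext _ _ fun j => ?_
    rw [Preadditive.comp_sum, ι_cut]
    simp only [Sigma.ι_desc_assoc]
    split_ifs with hj
    · rw [Finset.sum_eq_single j]
      · simp
      · intro k _ hk
        rw [dif_neg (Ne.symm hk), zero_comp]
      · exact fun h => absurd hj h
    · refine (Finset.sum_eq_zero fun k hk => ?_).symm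
      rw [dif_neg (fun h : j = k => hj (h ▸ hk)), zero_comp]
  rw [this]
  exact sum_mem fun k _ => AddSubgroup.subset_closure ⟨k, _, rfl⟩

lemma Fac.biprod [HasBinaryBiproducts D] {A B : D} (hA : Fac A) (hB : Fac B) : Fac (A ⊞ B) := by
  intro ι X f
  have h : f = biprod.fst ≫ (biprod.inl ≫ f) + biprod.snd ≫ (biprod.inr ≫ f) := by
    rw [← Category.assoc, ← Category.assoc biprod.snd, ← Preadditive.add_comp, biprod.total,
      Category.id_comp]
  rw [h]
  exact add_mem (comp_mem_finSub _ (hA _ _ _)) (comp_mem_finSub _ (hB _ _ _))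

variable [HasShift D ℤ] [∀ n : ℤ, (shiftFunctor D n).Additive]

lemma Fac.shift {C : D} (hC : Fac C) (n : ℤ) : Fac ((shiftFunctor D n).obj C) := by
  intro ι X f
  let F := shiftFunctor D (-n)
  let iso := PreservesCoproduct.iso F X
  have h := comp_mem_finSub (shiftShiftNeg C n).hom
    (hC _ (fun k => F.obj (X k)) ((shiftShiftNeg C n).inv ≫ F.map f ≫ iso.hom))
  rw [Iso.hom_inv_id_assoc] at h
  have key : ∀ g ∈ finSub (fun k => F.obj (X k)) (F.obj ((shiftFunctor D n).obj C)),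
      ∃ g' ∈ finSub X ((shiftFunctor D n).obj C), F.map g' = g ≫ iso.inv := by
    intro g hg
    induction hg using AddSubgroup.closure_induction with
    | mem g hg =>
      obtain ⟨k, b, rfl⟩ := hg
      obtain ⟨b', rfl⟩ := F.map_surjective b
      refine ⟨b' ≫ Sigma.ι X k, AddSubgroup.subset_closure ⟨k, b', rfl⟩, ?_⟩
      simp [iso, PreservesCoproduct.inv_hom, ι_comp_sigmaComparison]
    | zero => exact ⟨0, zero_mem _, by simp⟩
    | add g g' _ _ hg hg' =>
      obtain ⟨a, ha, ha'⟩ := hg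
      obtain ⟨b, hb, hb'⟩ := hg'
      exact ⟨a + b, add_mem ha hb, by rw [F.map_add, Preadditive.add_comp, ha', hb']⟩
    | neg g _ hg =>
      obtain ⟨a, ha, ha'⟩ := hg
      exact ⟨-a, neg_mem ha, by rw [F.map_neg, Preadditive.neg_comp, ha']⟩
  obtain ⟨g', hg', heq⟩ := key _ h
  rw [Category.assoc, Iso.hom_inv_id, Category.comp_id] at heq
  rwa [F.map_injective heq] at hg'

variable [HasZeroObject D] [Pretriangulated D]

lemma Fac.fibre (T : Triangle D) (hT : T ∈ distTriang D) (h₂ : Fac T.obj₂) (h₃ : Fac T.obj₃) :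
    Fac T.obj₁ := by
  intro ι X f
  let d : (shiftFunctor D (-1 : ℤ)).obj T.obj₃ ⟶ T.obj₁ := T.invRotate.mor₁
  have hd : Fac ((shiftFunctor D (-1 : ℤ)).obj T.obj₃) := h₃.shift _
  obtain ⟨S, hS⟩ := exists_cut_eq (hd _ _ (d ≫ f))
  rw [Category.assoc] at hS
  have hker : d ≫ (f - f ≫ cut X S) = 0 := by rw [Preadditive.comp_sub, hS, sub_self]
  obtain ⟨g, hg⟩ := Triangle.yoneda_exact₂ _ (inv_rot_of_distTriang _ hT) (f - f ≫ cut X S) hker
  change f - f ≫ cut X S = T.mor₁ ≫ g at hg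
  have h : f = f ≫ cut X S + T.mor₁ ≫ g := by rw [← hg]; abel
  rw [h]
  exact add_mem (comp_cut_mem X S f) (comp_mem_finSub _ (h₂ _ _ g))

variable [IsTriangulated D] {ι : Type v} [DecidableEq ι] (E : ι → D) (i₀ : ι)

/-- The envelope of `s` together with `i₀`. -/
def Env (s : Finset ι) : ObjectProperty D :=
  ObjectProperty.triangEnvelope (fun Y : D => ∃ i ∈ insert i₀ s, Y = E i)

instance (s : Finset ι) : ObjectProperty.Nonempty (fun Y : D => ∃ i ∈ insert i₀ s, Y = E i) :=
  ⟨E i₀, i₀, Finset.mem_insert_self _ _, rfl⟩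

instance (s : Finset ι) : (Env E i₀ s).IsTriangulated := by unfold Env; infer_instance

instance (s : Finset ι) : (Env E i₀ s).IsStableUnderRetracts := by unfold Env; infer_instance

variable {E i₀}

lemma Env.mono {s t : Finset ι} (h : s ⊆ t) : Env E i₀ s ≤ Env E i₀ t :=
  ObjectProperty.monotone_triangEnvelope fun _ ⟨i, hi, e⟩ =>
    ⟨i, Finset.insert_subset_insert _ h hi, e⟩

lemma Env.self (i : ι) : Env E i₀ {i} (E i) :=
  ObjectProperty.le_triangEnvelope _ _
    ⟨i, Finset.mem_insert_of_mem (Finset.mem_singleton_self i), rfl⟩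

lemma Env.biprod {s : Finset ι} {A B : D} (hA : Env E i₀ s A) (hB : Env E i₀ s B) :
    Env E i₀ s (A ⊞ B) :=
  (Env E i₀ s).ext_of_isTriangulatedClosed₂ _ (binaryBiproductTriangle_distinguished A B) hA hB

/-- `f` factors through a finite-envelope object having `Fac`. -/
def Good {C K : D} (f : C ⟶ K) : Prop :=
  ∃ (s : Finset ι) (E' : D) (g : C ⟶ E') (h : E' ⟶ K), Env E i₀ s E' ∧ Fac E' ∧ g ≫ h = f

lemma good_sum (hE : Fac (E i₀)) {κ : Type v} (Y : κ → D)
    (hY : ∀ k, ∃ s, Env E i₀ s (Y k) ∧ Fac (Y k))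
    {C K : D} (y : ∐ Y ⟶ K) {f : C ⟶ ∐ Y} (hf : f ∈ finSub Y C) :
    Good (E := E) (i₀ := i₀) (f ≫ y) := by
  induction hf using AddSubgroup.closure_induction with
  | mem g hg =>
    obtain ⟨k, a, rfl⟩ := hg
    obtain ⟨s, hs, hs'⟩ := hY k
    exact ⟨s, Y k, a, Sigma.ι Y k ≫ y, hs, hs', by simp⟩
  | zero =>
    exact ⟨{i₀}, E i₀, 0, 0, Env.self i₀, hE, by simp⟩
  | add f g _ _ hf hg =>
    obtain ⟨s, A, a, a', hA, hA', hfa⟩ := hf
    obtain ⟨t, B, b, b', hB, hB', hgb⟩ := hg
    exact ⟨s ∪ t, A ⊞ B, Limits.biprod.lift a b, Limits.biprod.desc a' b',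
      Env.biprod (Env.mono Finset.subset_union_left _ hA) (Env.mono Finset.subset_union_right _ hB),
      hA'.biprod hB', by rw [biprod.lift_desc, hfa, hgb, Preadditive.add_comp]⟩
  | neg f _ hf =>
    obtain ⟨s, A, a, a', hA, hA', hfa⟩ := hf
    exact ⟨s, A, -a, a', hA, hA', by rw [Preadditive.neg_comp, hfa, Preadditive.neg_comp]⟩

theorem main (hc : ∀ i, Fac (E i)) (K : ℕ → D) (f : ∀ n, K n ⟶ K (n + 1))
    (h0 : ∃ (κ : Type v) (a : κ → ι) (m : κ → ℤ),
      Nonempty (K 0 ≅ ∐ (fun k => (shiftFunctor D (m k)).obj (E (a k)))))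
    (hstep : ∀ n, ∃ (κ : Type v) (a : κ → ι) (m : κ → ℤ)
      (y : (∐ fun k => (shiftFunctor D (m k)).obj (E (a k))) ⟶ K n)
      (z : K (n + 1) ⟶ (shiftFunctor D (1 : ℤ)).obj
        (∐ fun k => (shiftFunctor D (m k)).obj (E (a k)))),
      Triangle.mk y (f n) z ∈ distTriang D)
    (n : ℕ) : ∀ (C : D), Fac C → ∀ φ : C ⟶ K n,
      ∃ (s : Finset ι) (E' : D) (g : C ⟶ E') (h : E' ⟶ K n), Env E i₀ s E' ∧ g ≫ h = φ := by
  induction n with
  | zero =>
    intro C hC φ
    obtain ⟨κ, a, m, ⟨e⟩⟩ := h0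
    obtain ⟨s, A, g, h, hA, -, hgh⟩ := good_sum (i₀ := i₀) (hc i₀) _
      (fun k => ⟨{a k}, (Env E i₀ {a k}).le_shift (m k) _ (Env.self _), (hc _).shift _⟩)
      e.inv (hC _ _ (φ ≫ e.hom))
    exact ⟨s, A, g, h, hA, by rw [hgh]; simp⟩
  | succ n ih =>
    intro C hC φ
    obtain ⟨κ, a, m, y, z, hT⟩ := hstep n
    let Y := fun k => (shiftFunctor D (m k)).obj (E (a k))
    let iso := PreservesCoproduct.iso (shiftFunctor D (1 : ℤ)) Y
    obtain ⟨s, P₁, g₁, h₁, hP₁, hP₁', hgh⟩ := good_sum (i₀ := i₀) (hc i₀)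
      (fun k => (shiftFunctor D (1 : ℤ)).obj (Y k))
      (fun k => ⟨{a k}, (Env E i₀ {a k}).le_shift (1 : ℤ) _
        ((Env E i₀ {a k}).le_shift (m k) _ (Env.self _)), ((hc _).shift _).shift _⟩)
      iso.inv (hC _ _ ((φ ≫ z) ≫ iso.hom))
    rw [Category.assoc, Iso.hom_inv_id, Category.comp_id] at hgh
    obtain ⟨C', i, w, hC'⟩ := distinguished_cocone_triangle₁ g₁
    have hC'F : Fac C' := Fac.fibre _ hC' hC hP₁'
    have hiz : (i ≫ φ) ≫ z = 0 := by
      have hig : i ≫ g₁ = 0 := comp_distTriang_mor_zero₁₂ _ hC'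
      rw [Category.assoc, ← hgh, reassoc_of% hig, zero_comp]
    obtain ⟨ψ, hψ⟩ : ∃ ψ : C' ⟶ K n, i ≫ φ = ψ ≫ f n :=
      Triangle.coyoneda_exact₃ _ hT (i ≫ φ) hiz
    obtain ⟨t, P₀, g₀, h₀, hP₀, hψ'⟩ := ih C' hC'F ψ
    obtain ⟨M, p, q, hM⟩ := distinguished_cocone_triangle (biprod.lift (-g₀) i)
    have hsnd := rot_of_distTriang _ (binaryBiproductTriangle_distinguished P₀ C)
    let o := Triangulated.someOctahedron (biprod.lift_snd (-g₀) i) hM hsnd hC'
    have hMenv : Env E i₀ (s ∪ t) M :=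
      (Env E i₀ (s ∪ t)).ext_of_isTriangulatedClosed₁ _ o.mem
        (Env.mono Finset.subset_union_left _ hP₁)
        ((Env E i₀ (s ∪ t)).le_shift (1 : ℤ) _ (Env.mono Finset.subset_union_right _ hP₀))
    have hkill : biprod.lift (-g₀) i ≫ Limits.biprod.desc (h₀ ≫ f n) φ = 0 := by
      rw [biprod.lift_desc, Preadditive.neg_comp, ← Category.assoc g₀, hψ', ← hψ]
      exact neg_add_cancel _
    obtain ⟨h, hh⟩ : ∃ h : M ⟶ K (n + 1), Limits.biprod.desc (h₀ ≫ f n) φ = p ≫ h :=
      Triangle.yoneda_exact₂ _ hM (Limits.biprod.desc (h₀ ≫ f n) φ) hkill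
    refine ⟨s ∪ t, M, biprod.inr ≫ p, h, hMenv, ?_⟩
    rw [Category.assoc, ← hh, biprod.inr_desc]

end


open CategoryTheory.Limits CategoryTheory.Pretriangulated in
/-- Let D be a triangulated category with all small direct sums and E a small nonempty family of compact
objects (nonempty so that the envelope of a finite subfamily can contain a zero object). Let X₀ → X₁
→ … be a sequential system in which X₀ is a direct sum of shifts of members of E and each Xₙ → Xₙ₊₁
sits in a distinguished triangle Yₙ → Xₙ → Xₙ₊₁ → Yₙ[1] with Yₙ a direct sum of shifts of members of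
E. Then every morphism from a compact object C to some Xₙ factors through an object of the
triangulated envelope (closure under shifts, finite sums, summands and extensions) of finitely many
members of E. -/
theorem result {D : Type u} [Category.{v} D] [Preadditive D] [Limits.HasZeroObject D] [HasShift D ℤ]
    [∀ n : ℤ, (shiftFunctor D n).Additive] [Pretriangulated D] [IsTriangulated D] [HasCoproducts.{v} D]
    {ι : Type v} [Nonempty ι] (E : ι → D) (hc : ∀ i, CohDer.IsCompactObject (E i))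
    (K : ℕ → D) (f : ∀ n, K n ⟶ K (n + 1))
    (h0 : ∃ (κ : Type v) (a : κ → ι) (m : κ → ℤ), Nonempty (K 0 ≅ ∐ (fun k => (shiftFunctor D (m k)).obj (E (a k)))))
    (hstep : ∀ n, ∃ (κ : Type v) (a : κ → ι) (m : κ → ℤ) (y : (∐ fun k => (shiftFunctor D (m k)).obj (E (a k))) ⟶ K n)
      (z : K (n + 1) ⟶ (shiftFunctor D (1 : ℤ)).obj (∐ fun k => (shiftFunctor D (m k)).obj (E (a k)))),
      Triangle.mk y (f n) z ∈ distinguishedTriangles)
    (C : D) (hC : CohDer.IsCompactObject C) (n : ℕ) (φ : C ⟶ K n) :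
    ∃ (s : Finset ι) (E' : D) (g : C ⟶ E') (h : E' ⟶ K n),
      ObjectProperty.triangEnvelope (fun Y : D => ∃ i ∈ s, Y = E i) E' ∧ g ≫ h = φ := by
  classical
  obtain ⟨i₀⟩ := ‹Nonempty ι›
  obtain ⟨s, E', g, h, hE', hgh⟩ :=
    main (i₀ := i₀) (fun i => fac_of_compact (hc i)) K f h0 hstep n C (fac_of_compact hC) φ
  exact ⟨insert i₀ s, E', g, h, hE', hgh⟩

end Groth.Agent.S1076
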