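import Groth.Statements.S0978
import Groth.Agent.DerLib.BrownAdjoint
import Groth.Agent.S1076

set_option autoImplicit false
universe v u
open CategoryTheory
open CohDer

set_option linter.style.haveILetI false
set_option linter.unusedSectionVars false

namespace Groth.Agent.S0978

open CategoryTheory.Limits CategoryTheory.Pretriangulated.Opposite
open Groth.Agent.DerLib

variable {D : Type u} [Category.{v} D] [Preadditive D] [Limits.HasZeroObject D] [HasShift D ℤ]
  [∀ n : ℤ, (shiftFunctor D n).Additive] [Pretriangulated D] [HasCoproducts.{v} D]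
  [HasColimitsOfShape (Discrete ℕ) D]

/-- Maps from a compact object into a sequential homotopy colimit factor through a stage. -/
theorem exists_lift {X : ℕ → D} (f : ∀ n, X n ⟶ X (n + 1)) {W : D} (q : ∐ X ⟶ W)
    (δ : W ⟶ (∐ X)⟦(1 : ℤ)⟧)
    (hT : Pretriangulated.Triangle.mk (𝟙 (∐ X) - Brown.σ f) q δ ∈ distTriang D)
    {C : D} (hC : CohDer.IsCompactObject C) (u : C ⟶ W) :
    ∃ (n : ℕ) (y : C ⟶ X n), u = y ≫ Sigma.ι X n ≫ q := by
  classical
  have hq : ∀ n, f n ≫ Sigma.ι X (n + 1) ≫ q = Sigma.ι X n ≫ q := fun n => by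
    have h : (Sigma.ι X n ≫ (𝟙 (∐ X) - Brown.σ f)) ≫ q = 0 := (Category.assoc _ _ _).trans
      ((congrArg (Sigma.ι X n ≫ ·) (Pretriangulated.comp_distTriang_mor_zero₁₂ _ hT)).trans
        comp_zero)
    rw [Preadditive.comp_sub, Category.comp_id, Preadditive.sub_comp, sub_eq_zero] at h
    simpa [Brown.σ] using h.symm
  have hle : ∀ {n N : ℕ}, n ≤ N → ∃ t : X n ⟶ X N, Sigma.ι X n ≫ q = t ≫ Sigma.ι X N ≫ q := by
    intro n N h
    induction h with
    | refl => exact ⟨𝟙 _, by simp⟩
    | @step M _ ih =>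
      obtain ⟨t, ht⟩ := ih
      exact ⟨t ≫ f M, by rw [ht, Category.assoc, hq]⟩
  have hinj : ∀ (C' : D), CohDer.IsCompactObject C' → ∀ y : C' ⟶ ∐ X,
      y ≫ (𝟙 _ - Brown.σ f) = 0 → y = 0 := by
    intro C' hC' y hy
    obtain ⟨s, x, rfl⟩ := Brown.exists_sum_of_compact hC' X y
    rw [Preadditive.comp_sub, Category.comp_id, sub_eq_zero] at hy
    let π : ∀ k, ∐ X ⟶ X k := fun k =>
      Sigma.desc fun j => if h : j = k then eqToHom (h ▸ rfl) else 0
    have hσ₀ : Brown.σ f ≫ π 0 = 0 := Limits.Sigma.hom_ext _ _ fun n => by simp [Brown.σ, π]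
    have hσ : ∀ m, Brown.σ f ≫ π (m + 1) = π m ≫ f m := fun m =>
      Limits.Sigma.hom_ext _ _ fun n => by
        rcases eq_or_ne n m with rfl | h
        · simp [Brown.σ, π]
        · simp [Brown.σ, π, h]
    set y := ∑ n ∈ s, x n ≫ Sigma.ι X n with hy'
    have hz : ∀ m, y ≫ π m = 0 := by
      intro m
      induction m with
      | zero => rw [hy, Category.assoc, hσ₀, comp_zero]
      | succ m ih => rw [hy, Category.assoc, hσ, ← Category.assoc, ih, zero_comp]
    refine Finset.sum_eq_zero fun n hn => ?_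
    have := hz n
    rw [hy', Preadditive.sum_comp, Finset.sum_eq_single_of_mem n hn
      (fun k _ hk => by simp [π, hk])] at this
    simp [π] at this
    rw [this, zero_comp]
  have hδ : u ≫ δ = 0 := by
    obtain ⟨y, hy⟩ := (shiftFunctor D (1 : ℤ)).map_surjective
      ((shiftNegShift C (1 : ℤ)).hom ≫ u ≫ δ)
    have hy0 : y = 0 := hinj _
      (CompactLib.compact_of_fac ((CompactLib.fac_of_compact hC).shift (-1))) y
      ((shiftFunctor D (1 : ℤ)).map_injective (by
        rw [Functor.map_comp, hy, Functor.map_zero, Category.assoc, Category.assoc,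
          show δ ≫ (𝟙 _ - Brown.σ f)⟦(1 : ℤ)⟧' = 0 from
            Pretriangulated.comp_distTriang_mor_zero₃₁ _ hT, comp_zero, comp_zero]))
    rw [hy0, Functor.map_zero] at hy
    exact (cancel_epi (shiftNegShift C (1 : ℤ)).hom).1 (hy.symm.trans comp_zero.symm)
  obtain ⟨z, hz⟩ := Pretriangulated.Triangle.coyoneda_exact₃ _ hT u hδ
  change u = z ≫ q at hz
  obtain ⟨s, x, rfl⟩ := Brown.exists_sum_of_compact hC X z
  have ht : ∀ k, ∃ t : X k ⟶ X (s.sup id), k ∈ s → Sigma.ι X k ≫ q = t ≫ Sigma.ι X _ ≫ q :=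
    fun k => if hk : k ∈ s then (hle (Finset.le_sup (f := id) hk)).imp fun t ht _ => ht
      else ⟨0, fun h => absurd h hk⟩
  choose t ht using ht
  refine ⟨s.sup id, ∑ k ∈ s, x k ≫ t k, ?_⟩
  refine hz.trans ((Preadditive.sum_comp _ _ _).trans (Eq.trans ?_ (Preadditive.sum_comp _ _ _).symm))
  exact Finset.sum_congr rfl fun k hk => (Category.assoc (x k) (Sigma.ι X k) q).trans
    ((congrArg (x k ≫ ·) (ht k hk)).trans (Category.assoc (x k) (t k) _).symm)

/-- Compact objects lie in the envelope of a compact generator. -/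
theorem mem_envelope [IsTriangulated D] (E : D) (hE : CohDer.IsCompactObject E)
    (hgen : CohDer.Generates (fun _ : Unit => E)) (C : D) (hC : CohDer.IsCompactObject C) :
    ObjectProperty.triangEnvelope (fun Y : D => Y = E) C := by
  let κ := PUnit.{v + 1}
  let E' : κ → D := fun _ => E
  let H : Dᵒᵖ ⥤ AddCommGrpCat.{v} := preadditiveYoneda.obj C
  have hgen' : ∀ X : D, (∀ (i : κ) (n : ℤ) (f : E' i ⟶ X⟦n⟧), f = 0) → IsZero X :=
    fun X h => hgen X fun _ => h ⟨⟩
  have h2 : Brown.Small E' := Brown.small_of_compact E' (fun _ => hE)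
  let J := Σ p : κ × ℤ, (Brown.sh E' p ⟶ C)
  let z : (∐ fun j : J => Brown.sh E' j.1) ⟶ C := Sigma.desc fun j => j.2
  let St := Σ W : D, (H.obj (Opposite.op W) : Type v)
  have hnext : ∀ s : St, ∃ (t : St) (f : s.1 ⟶ t.1), Brown.pb H f t.2 = s.2 ∧
      (∀ (p : κ × ℤ) (g : Brown.sh E' p ⟶ s.1), Brown.pb H g s.2 = 0 → g ≫ f = 0) ∧
      ∃ (J : Type v) (c : J → κ × ℤ) (k : (∐ fun j => Brown.sh E' (c j)) ⟶ s.1)
        (δ : t.1 ⟶ (∐ fun j => Brown.sh E' (c j))⟦(1 : ℤ)⟧),
        Pretriangulated.Triangle.mk k f δ ∈ distTriang D := fun s => by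
    obtain ⟨W, w, f, h⟩ := Brown.exists_next (E := E') (H := H) s.1 s.2
    exact ⟨⟨W, w⟩, f, h⟩
  choose nx fn hfn hkn htn using hnext
  let S : ℕ → St := fun n => Nat.rec ⟨∐ fun j : J => Brown.sh E' j.1, z⟩ (fun _ s => nx s) n
  obtain ⟨W, w, q, δ, hT, hw, hbij⟩ := Brown.exists_hocolim H h2 (X := fun n => (S n).1)
    (fun n => fn (S n)) (fun n => (S n).2) (fun n => hfn (S n)) (fun n => hkn (S n))
    (fun p e => ⟨Sigma.ι (fun j : J => Brown.sh E' j.1) ⟨p, e⟩, Sigma.ι_desc _ _⟩)
  let w' : W ⟶ C := w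
  have : IsIso w' := Brown.isIso_of_bijective_comp (E := E') hgen' w' hbij
  obtain ⟨n, y, hy⟩ := exists_lift (fun n => fn (S n)) q δ hT hC (inv w')
  haveI : Nonempty κ := ⟨⟨⟩⟩
  obtain ⟨s, E'', g, h, hE'', hgh⟩ := Groth.Agent.S1076.result (ι := κ) E' (fun _ => hE)
    (fun n => (S n).1) (fun n => fn (S n))
    ⟨J, fun j => j.1.1, fun j => j.1.2, ⟨Iso.refl _⟩⟩
    (fun n => by
      obtain ⟨J', c, k, δ', h⟩ := htn (S n)
      exact ⟨J', fun j => (c j).1, fun j => (c j).2, k, δ', h⟩)
    C hC n y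
  have hle : ObjectProperty.triangEnvelope (fun Y : D => ∃ i ∈ s, Y = E' i) ≤
      ObjectProperty.triangEnvelope (fun Y : D => Y = E) :=
    ObjectProperty.monotone_triangEnvelope fun Y ⟨_, _, e⟩ => e
  refine ObjectProperty.prop_of_retract _
    ({ i := g
       r := h ≫ Sigma.ι (fun n => (S n).1) n ≫ q ≫ w'
       retract := ?_ } : Retract C E'') (hle _ hE'')
  rw [← Category.assoc g h, hgh]
  refine Eq.trans ?_ (IsIso.inv_hom_id w')
  exact ((Category.assoc y _ _).trans (congrArg (y ≫ ·) (Category.assoc _ _ _))).symm.trans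
    (congrArg (· ≫ w') hy.symm)

open CategoryTheory.Limits in
/-- Let D be a triangulated category with all small direct sums and E a compact object. Then E generates
D (an object admitting only zero maps from all shifts of E is zero) if and only if D is compactly
generated and every compact object lies in the triangulated envelope of E (objects reachable from E
by shifts, finite sums, direct summands and extensions). -/
theorem result {D : Type u} [Category.{v} D] [Preadditive D] [Limits.HasZeroObject D] [HasShift D ℤ]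
    [∀ n : ℤ, (shiftFunctor D n).Additive] [Pretriangulated D] [IsTriangulated D] [HasCoproducts.{v} D]
    [HasColimitsOfShape (Discrete ℕ) D]
    (E : D) (hE : CohDer.IsCompactObject E) :
    CohDer.Generates (fun _ : Unit => E) ↔
      (CohDer.IsCompactlyGenerated D ∧ ∀ X : D, CohDer.IsCompactObject X → ObjectProperty.triangEnvelope (fun Y : D => Y = E) X) := by
  constructor
  · intro hgen
    refine ⟨⟨PUnit.{v + 1}, fun _ => E, fun _ => hE, fun K h => hgen K fun _ => h ⟨⟩⟩, fun C hC => ?_⟩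
    exact Groth.Agent.S0978.mem_envelope E hE hgen C hC
  · rintro ⟨⟨κ, E', hE', hgen'⟩, henv⟩ K hK
    let P : ObjectProperty D := fun C => ∀ (n : ℤ) (f : C ⟶ K⟦n⟧), f = 0
    haveI : P.IsStableUnderRetracts := ⟨fun {A B} r hB n f => by
      have h := hB n (r.r ≫ f)
      rw [← Category.id_comp f, ← r.retract, Category.assoc, h, comp_zero]⟩
    haveI : P.IsTriangulated :=
      { exists_zero := by
          obtain ⟨Z, hZ⟩ : ∃ Z : D, IsZero Z := HasZeroObject.zero
          exact ⟨Z, hZ, fun n f => hZ.eq_of_src _ _⟩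
        isStableUnderShiftBy := fun m => ⟨fun C hC n f => by
          let e : K⟦n⟧ ≅ (K⟦n - m⟧)⟦m⟧ := (shiftFunctorAdd' D (n - m) m n (by omega)).app K
          obtain ⟨g, hg⟩ := (shiftFunctor D m).map_surjective (f ≫ e.hom)
          rw [hC _ g, Functor.map_zero] at hg
          exact zero_of_comp_mono e.hom hg.symm⟩
        ext₂' := fun T hT h₁ h₃ => ObjectProperty.le_isoClosure _ _ fun n f => by
          obtain ⟨g, hg⟩ := Pretriangulated.Triangle.yoneda_exact₂ T hT f (h₁ n _)
          rw [hg, h₃ n g, comp_zero] }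
    refine hgen' K fun i => ?_
    have hle : ObjectProperty.triangEnvelope (fun Y : D => Y = E) ≤ P :=
      (ObjectProperty.triangEnvelope_le_iff _).2 (by rintro Y rfl; exact hK ())
    exact hle _ (henv _ (hE' i))

end Groth.Agent.S0978
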