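import Groth.Statements.S0982
import Groth.Agent.DerLib.Ghost

set_option autoImplicit false
universe w v u
open CategoryTheory CategoryTheory.Limits
open CohDer

namespace Groth.Agent.S0982

/-- Let K : ℕ ⥤ CochainComplex A ℤ be a sequence of cochain maps K₀ → K₁ → K₂ → … in an abelian category
with Hⁱ(K₀) = 0 for i > 0 and such that for every j < n the map H⁻ʲ(Kⱼ) → H⁻ʲ(Kⱼ₊₁) is zero. Then in
the derived category the composite K₀ → Kₙ factors through the canonical truncation τ_{≤ -n}Kₙ → Kₙ. -/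
theorem result {A : Type u} [Category.{v} A] [Abelian A] [HasDerivedCategory.{w} A]
    (K : ℕ ⥤ CochainComplex A ℤ) (n : ℕ)
    (h0 : ∀ i : ℤ, 0 < i → IsZero ((K.obj 0).homology i))
    (hz : ∀ j : ℕ, j < n → HomologicalComplex.homologyMap (K.map (homOfLE (Nat.le_succ j))) (-(j : ℤ)) = 0) :
    ∃ φ : DerivedCategory.Q.obj (K.obj 0) ⟶ DerivedCategory.Q.obj ((K.obj n).truncLE (-(n : ℤ))),
      φ ≫ DerivedCategory.Q.map ((K.obj n).ιTruncLE (-(n : ℤ))) = DerivedCategory.Q.map (K.map (homOfLE (Nat.zero_le n))) := by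
  suffices ∀ j : ℕ, j ≤ n → ∃ (W : DerivedCategory A) (_ : W.IsLE (-(j : ℤ)))
      (p : DerivedCategory.Q.obj (K.obj 0) ⟶ W) (q : W ⟶ DerivedCategory.Q.obj (K.obj j)),
      p ≫ q = DerivedCategory.Q.map (K.map (homOfLE (Nat.zero_le j))) by
    obtain ⟨W, hW, p, q, hpq⟩ := this n le_rfl
    have hι : ∀ i : ℤ, i ≤ -(n : ℤ) → IsIso ((DerivedCategory.homologyFunctor A i).map
        (DerivedCategory.Q.map ((K.obj n).ιTruncLE (-(n : ℤ))))) := fun i hi => by
      have := (K.obj n).quasiIsoAt_ιTruncLE (-(n : ℤ)) i hi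
      exact Groth.Agent.DerLib.Ghost.isIso_homologyMap_Q_of_quasiIsoAt _ i
    obtain ⟨q', hq'⟩ := Groth.Agent.DerLib.Ghost.exists_lift _ (-(n : ℤ)) hι
      (DerivedCategory.isZero_of_isLE _ (-(n : ℤ)) _ (by omega)) q
    exact ⟨p ≫ q', by rw [Category.assoc, hq', hpq]⟩
  intro j hj
  induction j with
  | zero =>
    have : (DerivedCategory.Q.obj (K.obj 0)).IsLE (-((0 : ℕ) : ℤ)) :=
      (DerivedCategory.isLE_iff _ _).2 fun i hi =>
        (h0 i (by simpa using hi)).of_iso ((DerivedCategory.homologyFunctorFactors A i).app _)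
    exact ⟨_, this, 𝟙 _, 𝟙 _, by simp⟩
  | succ j ih =>
    obtain ⟨W, hW, p, q, hpq⟩ := ih (by omega)
    have hzero : (DerivedCategory.homologyFunctor A (-(j : ℤ))).map
        (DerivedCategory.Q.map (K.map (homOfLE (Nat.le_succ j)))) = 0 := by
      have h := hz j (by omega)
      have h' := (DerivedCategory.homologyFunctorFactors A (-(j : ℤ))).hom.naturality
        (K.map (homOfLE (Nat.le_succ j)))
      rw [show (HomologicalComplex.homologyFunctor A _ (-(j : ℤ))).map
        (K.map (homOfLE (Nat.le_succ j))) = 0 from h, comp_zero] at h'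
      exact (cancel_mono ((DerivedCategory.homologyFunctorFactors A _).hom.app _)).1
        (h'.trans zero_comp.symm)
    obtain ⟨g, hg⟩ := Groth.Agent.DerLib.Ghost.exists_lift_truncLT (-(j : ℤ))
      (q ≫ DerivedCategory.Q.map (K.map (homOfLE (Nat.le_succ j))))
      (by rw [Functor.map_comp, hzero, comp_zero])
    refine ⟨_, DerivedCategory.TStructure.t.isLE_truncLT_obj _ (-(j : ℤ)) _ (by push_cast; omega),
      p ≫ g, (DerivedCategory.TStructure.t.truncLTι (-(j : ℤ))).app _, ?_⟩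
    rw [Category.assoc, hg, ← Category.assoc, hpq, ← Functor.map_comp, ← K.map_comp, homOfLE_comp]

end Groth.Agent.S0982
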