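import Groth.Statements.S0984
import Groth.Agent.DerLib.BrownAdjoint

set_option autoImplicit false
universe v u
open CategoryTheory
open DerLim

namespace Groth.Agent.S0984

open CategoryTheory.Limits CategoryTheory.Pretriangulated in
/-- Let D be a triangulated category with all small direct sums and E a small family of compact objects
which generates D. Every object X of D is a homotopy colimit of a sequential system X₀ → X₁ → X₂ → …
in which X₀ is a direct sum of shifts of members of E and each transition map Xₙ → Xₙ₊₁ sits in a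
distinguished triangle Yₙ → Xₙ → Xₙ₊₁ → Yₙ[1] with Yₙ a direct sum of shifts of members of E. -/
theorem result {D : Type u} [Category.{v} D] [Preadditive D] [Limits.HasZeroObject D] [HasShift D ℤ]
    [∀ n : ℤ, (shiftFunctor D n).Additive] [Pretriangulated D] [IsTriangulated D] [HasCoproducts.{v} D]
    [HasColimitsOfShape (Discrete ℕ) D]
    {ι : Type v} (E : ι → D) (hc : ∀ i, CohDer.IsCompactObject (E i)) (hg : CohDer.Generates E) (X : D) :
    ∃ (K : ℕ → D) (f : ∀ n, K n ⟶ K (n + 1)) (i : ∀ n, K n ⟶ X),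
      DerLim.IsHocolim K f X i ∧
      (∃ (κ : Type v) (a : κ → ι) (m : κ → ℤ), Nonempty (K 0 ≅ ∐ (fun k => (shiftFunctor D (m k)).obj (E (a k))))) ∧
      ∀ n, ∃ (κ : Type v) (a : κ → ι) (m : κ → ℤ) (y : (∐ fun k => (shiftFunctor D (m k)).obj (E (a k))) ⟶ K n)
        (z : K (n + 1) ⟶ (shiftFunctor D (1 : ℤ)).obj (∐ fun k => (shiftFunctor D (m k)).obj (E (a k)))),
        Triangle.mk y (f n) z ∈ distinguishedTriangles := by
  classical
  let H : Dᵒᵖ ⥤ AddCommGrpCat.{v} := preadditiveYoneda.obj X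
  have hpb : ∀ {Y Z : D} (f : Y ⟶ Z) (x : Z ⟶ X), DerLib.Brown.pb H f x = f ≫ x := fun f x => rfl
  have h2 : DerLib.Brown.Small E := DerLib.Brown.small_of_compact E hc
  let J0 : Type v := Σ p : ι × ℤ, DerLib.Brown.sh E p ⟶ X
  let K0 : J0 → D := fun j => (shiftFunctor D j.1.2).obj (E j.1.1)
  let St := Σ W : D, H.obj (Opposite.op W)
  let z0 : H.obj (Opposite.op (∐ K0)) := Sigma.desc fun j : J0 => j.2
  have hnext : ∀ s : St, ∃ (t : St) (f : s.1 ⟶ t.1), DerLib.Brown.pb H f t.2 = s.2 ∧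
      (∀ (p : ι × ℤ) (g : DerLib.Brown.sh E p ⟶ s.1), DerLib.Brown.pb H g s.2 = 0 → g ≫ f = 0) ∧
      ∃ (J : Type v) (c : J → ι × ℤ) (k : (∐ fun j => DerLib.Brown.sh E (c j)) ⟶ s.1)
        (δ : t.1 ⟶ (∐ fun j => DerLib.Brown.sh E (c j))⟦(1 : ℤ)⟧),
        Triangle.mk k f δ ∈ distinguishedTriangles := fun s => by
    obtain ⟨W, w, f, h, h', h''⟩ := DerLib.Brown.exists_next H (E := E) s.1 s.2
    exact ⟨⟨W, w⟩, f, h, h', h''⟩
  choose nx fn hfn hkn htri using hnext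
  let S : ℕ → St := fun n => Nat.rec ⟨∐ K0, z0⟩ (fun _ s => nx s) n
  let K : ℕ → D := fun n => (S n).1
  let f : ∀ n, K n ⟶ K (n + 1) := fun n => fn (S n)
  have hz : ∀ (p : ι × ℤ) (e : H.obj (Opposite.op (DerLib.Brown.sh E p))),
      ∃ y : DerLib.Brown.sh E p ⟶ K 0, DerLib.Brown.pb H y (S 0).2 = e := fun p e =>
    ⟨Sigma.ι K0 ⟨p, e⟩, (hpb _ _).trans (Sigma.ι_desc _ _)⟩
  obtain ⟨W, w, q, δ, hT, -, hbij⟩ := DerLib.Brown.exists_hocolim H h2 (X := K) f
    (fun n => (S n).2) (fun n => hfn (S n)) (fun n => hkn (S n)) hz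
  let φ : W ⟶ X := w
  haveI : IsIso φ := DerLib.Brown.isIso_of_bijective (H := H) h2 hg
    (show H.obj (Opposite.op W) from w) (show H.obj (Opposite.op X) from 𝟙 X) φ
    ((hpb _ _).trans (Category.comp_id φ)) hbij
    (fun p => ⟨fun a b hab => ((hpb _ _).trans (Category.comp_id _)).symm.trans (hab.trans ((hpb _ _).trans (Category.comp_id _))), fun e => ⟨e, (hpb _ _).trans (Category.comp_id _)⟩⟩)
  refine ⟨K, f, fun n => Sigma.ι K n ≫ q ≫ φ, ⟨inv φ ≫ δ, ?_⟩, ⟨J0, fun j => j.1.1, fun j => j.1.2, ⟨Iso.refl _⟩⟩, fun n => ?_⟩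
  · have hd : (Sigma.desc fun n => Sigma.ι K n ≫ q ≫ φ) = q ≫ φ := Sigma.hom_ext _ _ fun n => by simp
    rw [hd]
    refine isomorphic_distinguished _ hT _ ?_
    refine Triangle.isoMk _ _ (Iso.refl _) (Iso.refl _) (asIso φ).symm
      ((Category.comp_id _).trans (Category.id_comp _).symm) ?_ ?_
    · show (q ≫ φ) ≫ inv φ = 𝟙 _ ≫ q
      simp
    · show (inv φ ≫ δ) ≫ (shiftFunctor D (1 : ℤ)).map (𝟙 _) = inv φ ≫ δ
      exact (congrArg (_ ≫ ·) ((shiftFunctor D (1 : ℤ)).map_id _)).trans (Category.comp_id _)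
  · obtain ⟨J, c, k, d, h⟩ := htri (S n)
    exact ⟨J, fun j => (c j).1, fun j => (c j).2, k, d, h⟩

end Groth.Agent.S0984
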