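import Groth.Statements.S0986
import Mathlib.CategoryTheory.Abelian.GrothendieckAxioms.Colim
import Mathlib.CategoryTheory.Functor.OfSequence
import Mathlib.Algebra.Homology.ShortComplex.ShortExact

set_option autoImplicit false
universe v u
open CategoryTheory CategoryTheory.Limits
open DerLim

namespace Groth.Agent.S0986

section
variable {A : Type u} [Category.{v} A] [Abelian A] (F : ℕ ⥤ A)

open ZeroObject in
/-- finite partial sums of the sequence -/
noncomputable def S : ℕ → A
  | 0 => 0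
  | n + 1 => S n ⊞ F.obj n

noncomputable def iL (n : ℕ) : S F n ⟶ S F (n + 1) := biprod.inl
noncomputable def iR (n : ℕ) : F.obj n ⟶ S F (n + 1) := biprod.inr
noncomputable def pL (n : ℕ) : S F (n + 1) ⟶ S F n := biprod.fst
noncomputable def pR (n : ℕ) : S F (n + 1) ⟶ F.obj n := biprod.snd
noncomputable def dS (n : ℕ) {W : A} (a : S F n ⟶ W) (b : F.obj n ⟶ W) : S F (n + 1) ⟶ W := biprod.desc a b

@[reassoc (attr := simp)] lemma iL_pL (n : ℕ) : iL F n ≫ pL F n = 𝟙 _ := biprod.inl_fst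
@[reassoc (attr := simp)] lemma iR_pL (n : ℕ) : iR F n ≫ pL F n = 0 := biprod.inr_fst
@[reassoc (attr := simp)] lemma iL_pR (n : ℕ) : iL F n ≫ pR F n = 0 := biprod.inl_snd
@[reassoc (attr := simp)] lemma iR_pR (n : ℕ) : iR F n ≫ pR F n = 𝟙 _ := biprod.inr_snd
@[reassoc (attr := simp)] lemma iL_dS (n : ℕ) {W : A} (a : S F n ⟶ W) (b : F.obj n ⟶ W) :
    iL F n ≫ dS F n a b = a := biprod.inl_desc a b
@[reassoc (attr := simp)] lemma iR_dS (n : ℕ) {W : A} (a : S F n ⟶ W) (b : F.obj n ⟶ W) :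
    iR F n ≫ dS F n a b = b := biprod.inr_desc a b
lemma ext' {n : ℕ} {W : A} {a b : S F (n + 1) ⟶ W} (h1 : iL F n ≫ a = iL F n ≫ b)
    (h2 : iR F n ≫ a = iR F n ≫ b) : a = b := biprod.hom_ext' _ _ h1 h2
lemma ext {n : ℕ} {W : A} {a b : W ⟶ S F (n + 1)} (h1 : a ≫ pL F n = b ≫ pL F n)
    (h2 : a ≫ pR F n = b ≫ pR F n) : a = b := biprod.hom_ext _ _ h1 h2

/-- partial `1 - shift` -/
noncomputable def u : ∀ n, S F n ⟶ S F (n + 1)
  | 0 => 0
  | n + 1 => dS F n (u n ≫ iL F (n + 1))
      (iR F n ≫ iL F (n + 1) - F.map (homOfLE (Nat.le_succ n)) ≫ iR F (n + 1))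

lemma mono_u : ∀ n, Mono (u F n ≫ pL F n)
  | 0 => Preadditive.mono_of_cancel_zero _ (fun x _ => (isZero_zero A).eq_of_tgt x 0)
  | n + 1 => Preadditive.mono_of_cancel_zero _ (fun x hx => by
      have hx' : x ≫ dS F n (u F n) (iR F n) = 0 := by
        refine Eq.trans ?_ hx
        congr 1
        apply ext' F <;> simp [u, Preadditive.sub_comp]
      have := mono_u n
      have h1 : x ≫ pL F n = 0 := by
        rw [← cancel_mono (u F n ≫ pL F n), zero_comp]
        have e := congrArg (· ≫ pL F n) hx'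
        simp only [zero_comp, Category.assoc] at e
        rw [← e, Category.assoc]
        congr 1
        apply ext' F <;> simp
      apply ext F
      · rw [h1, zero_comp]
      · have e := congrArg (· ≫ pR F n) hx'
        simp only [zero_comp, Category.assoc] at e
        rw [zero_comp, ← e]
        have : pR F n = dS F n (u F n) (iR F n) ≫ pR F n - pL F n ≫ u F n ≫ pR F n := by
          apply ext' F <;> simp [Preadditive.comp_sub]
        conv_lhs => rw [this]
        rw [Preadditive.comp_sub, reassoc_of% h1, zero_comp, sub_zero])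

variable [HasCoproduct F.obj]

local notation "σ" => 𝟙 (∐ F.obj) - DerLim.shiftMap F.obj (fun n => F.map (homOfLE (Nat.le_succ n)))

/-- inclusion of partial sums -/
noncomputable def j : ∀ n, S F n ⟶ ∐ F.obj
  | 0 => 0
  | n + 1 => dS F n (j n) (Sigma.ι F.obj n)

@[reassoc (attr := simp)] lemma iL_j (n : ℕ) : iL F n ≫ j F (n + 1) = j F n := by simp [j]
@[reassoc (attr := simp)] lemma iR_j (n : ℕ) : iR F n ≫ j F (n + 1) = Sigma.ι F.obj n := by simp [j]

lemma j_σ : ∀ n, u F n ≫ j F (n + 1) = j F n ≫ σ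
  | 0 => (isZero_zero A).eq_of_src _ _
  | n + 1 => by
    apply ext' F
    · rw [iL_j_assoc, u, iL_dS_assoc, Category.assoc, iL_j, j_σ n]
    · rw [iR_j_assoc, u, iR_dS_assoc, Preadditive.sub_comp, Category.assoc, iL_j, iR_j,
        Category.assoc, iR_j, Preadditive.comp_sub, Category.comp_id, DerLim.shiftMap, Sigma.ι_desc]

noncomputable def S₀ : ℕ ⥤ A := Functor.ofSequence (X := S F) (fun n => iL F n)
noncomputable def S₁ : ℕ ⥤ A := Functor.ofSequence (X := fun n => S F (n + 1)) (fun n => iL F (n + 1))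

noncomputable def φ : S₀ F ⟶ S₁ F :=
  NatTrans.ofSequence (fun n => u F n) (fun n => by
    refine ((congrArg (· ≫ u F (n + 1)) (Functor.ofSequence_map_homOfLE_succ _ n)).trans ?_).trans
      (congrArg (u F n ≫ ·) (Functor.ofSequence_map_homOfLE_succ _ n)).symm
    exact iL_dS F n _ _)

noncomputable def c₀ : Cocone (S₀ F) where
  pt := ∐ F.obj
  ι := NatTrans.ofSequence (fun n => j F n) (fun n => by
    refine ((congrArg (· ≫ j F (n + 1)) (Functor.ofSequence_map_homOfLE_succ _ n)).trans (iL_j F n)).trans ?_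
    exact (Category.comp_id _).symm)

noncomputable def c₁ : Cocone (S₁ F) where
  pt := ∐ F.obj
  ι := NatTrans.ofSequence (fun n => j F (n + 1)) (fun n => by
    refine ((congrArg (· ≫ j F (n + 2)) (Functor.ofSequence_map_homOfLE_succ _ n)).trans (iL_j F _)).trans ?_
    exact (Category.comp_id _).symm)

lemma fac_aux {W : A} (a : ∀ n, S F (n + 1) ⟶ W) (ha : ∀ n, iL F (n + 1) ≫ a (n + 1) = a n) :
    ∀ n, j F (n + 1) ≫ Sigma.desc (fun n => iR F n ≫ a n) = a n
  | 0 => by
    apply ext' F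
    · exact (isZero_zero A).eq_of_src _ _
    · rw [iR_j_assoc, Sigma.ι_desc]
  | n + 1 => by
    apply ext' F
    · rw [iL_j_assoc, fac_aux a ha n, ha]
    · rw [iR_j_assoc, Sigma.ι_desc]

lemma w₀ (s : Cocone (S₀ F)) (n : ℕ) : iL F n ≫ s.ι.app (n + 1) = s.ι.app n :=
  (congrArg (· ≫ s.ι.app (n + 1)) (Functor.ofSequence_map_homOfLE_succ _ n)).symm.trans
    (s.w (homOfLE (Nat.le_add_right n 1)))

lemma w₁ (s : Cocone (S₁ F)) (n : ℕ) : iL F (n + 1) ≫ s.ι.app (n + 1) = s.ι.app n :=
  (congrArg (· ≫ s.ι.app (n + 1)) (Functor.ofSequence_map_homOfLE_succ _ n)).symm.trans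
    (s.w (homOfLE (Nat.le_add_right n 1)))

noncomputable def hc₀ : IsColimit (c₀ F) where
  desc s := Sigma.desc fun n => iR F n ≫ s.ι.app (n + 1)
  fac s := fun
    | 0 => (isZero_zero A).eq_of_src _ _
    | n + 1 => fac_aux F (fun n => s.ι.app (n + 1)) (fun n => w₀ F s (n + 1)) n
  uniq s m hm := Sigma.hom_ext _ _ fun n => by
    rw [Sigma.ι_desc]
    exact ((congrArg (· ≫ m) (iR_j F n)).symm.trans (Category.assoc _ _ _)).trans (congrArg _ (hm (n + 1)))

noncomputable def hc₁ : IsColimit (c₁ F) where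
  desc s := Sigma.desc fun n => iR F n ≫ s.ι.app n
  fac s n := fac_aux F (fun n => s.ι.app n) (fun n => w₁ F s n) n
  uniq s m hm := Sigma.hom_ext _ _ fun n => by
    rw [Sigma.ι_desc]
    exact ((congrArg (· ≫ m) (iR_j F n)).symm.trans (Category.assoc _ _ _)).trans (congrArg _ (hm n))

variable [HasColimitsOfShape ℕ A] [HasExactColimitsOfShape ℕ A]

lemma mono_σ : Mono σ := by
  have : ∀ n, Mono ((φ F).app n) := fun n => by
    have := mono_u F n
    exact mono_of_mono (u F n) (pL F n)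
  have : Mono (φ F) := NatTrans.mono_of_mono_app _
  exact colim.map_mono' (φ F) (hc₀ F) (hc₁ F) σ (fun n => (j_σ F n).symm)

end

/-- Let A be an abelian category in which colimits of sequences ℕ ⥤ A exist and are exact, and F : ℕ ⥤ A
a sequence whose direct sum ⨁ Fₙ exists. Then the map 1 - shift on ⨁ Fₙ followed by the canonical
map ⨁ Fₙ → colim F is a short exact sequence 0 → ⨁ Fₙ → ⨁ Fₙ → colim F → 0. -/
theorem result {A : Type u} [Category.{v} A] [Abelian A]
    [HasColimitsOfShape ℕ A] [HasExactColimitsOfShape ℕ A] (F : ℕ ⥤ A) [HasCoproduct F.obj] :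
    ∃ w : (𝟙 (∐ F.obj) - DerLim.shiftMap F.obj (fun n => F.map (homOfLE (Nat.le_succ n)))) ≫
        Sigma.desc (fun n => colimit.ι F n) = 0,
      (ShortComplex.mk _ _ w).ShortExact := by
  refine ⟨Sigma.hom_ext _ _ fun n => ?_, ?_⟩
  · simp [DerLim.shiftMap, Preadditive.sub_comp, Preadditive.comp_sub]
  · have hk : ∀ {W : A} (g : (∐ F.obj) ⟶ W), (𝟙 (∐ F.obj) - DerLim.shiftMap F.obj (fun n => F.map (homOfLE (Nat.le_succ n)))) ≫ g = 0 →
        ∀ n, F.map (homOfLE (Nat.le_succ n)) ≫ Sigma.ι F.obj (n + 1) ≫ g = Sigma.ι F.obj n ≫ g := by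
      intro W g hg n
      have := Sigma.ι F.obj n ≫= hg
      simp only [DerLim.shiftMap, Preadditive.sub_comp, Preadditive.comp_sub, Category.id_comp, comp_zero,
        Sigma.ι_desc_assoc, Category.assoc, sub_eq_zero] at this
      exact this.symm
    let cc : ∀ {W : A} (g : (∐ F.obj) ⟶ W), (𝟙 (∐ F.obj) - DerLim.shiftMap F.obj (fun n => F.map (homOfLE (Nat.le_succ n)))) ≫ g = 0 → Cocone F :=
      fun {W} g hg => ⟨W, NatTrans.ofSequence (fun n => Sigma.ι F.obj n ≫ g) (fun n => by
        refine (hk g hg n).trans ?_; exact (Category.comp_id _).symm)⟩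
    refine
      { exact := ShortComplex.exact_of_g_is_cokernel _ (CokernelCofork.IsColimit.ofπ _ _
          (fun g hg => colimit.desc F (cc g hg)) (fun g hg => Sigma.hom_ext _ _ fun n => ?_)
          (fun g hg m hm => colimit.hom_ext fun n => ?_))
        mono_f := mono_σ F
        epi_g := ⟨fun g h e => colimit.hom_ext fun n => ?_⟩ }
    · rw [Sigma.ι_desc_assoc, colimit.ι_desc]; rfl
    · rw [colimit.ι_desc]
      have := Sigma.ι F.obj n ≫= hm
      rw [Sigma.ι_desc_assoc] at this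
      exact this
    · have := Sigma.ι F.obj n ≫= e
      simpa using this

end Groth.Agent.S0986
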