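import Groth.Statements.S0985
import Groth.Agent.S0986
import Mathlib.Algebra.Homology.DerivedCategory.ShortExact
import Mathlib.Algebra.Homology.GrothendieckAbelian
import Mathlib.CategoryTheory.Limits.Preserves.Shapes.Products

set_option autoImplicit false
universe w v u
open CategoryTheory CategoryTheory.Limits
open DerLim

namespace Groth.Agent.S0985

/-- Let A be an abelian category in which colimits of sequences ℕ ⥤ A exist and are exact, and let L : ℕ
⥤ CochainComplex A ℤ be a sequence of complexes. Then the image in the derived category of the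
termwise colimit of L, with the canonical maps from the Lₙ, is a homotopy colimit of the images of
the Lₙ — assuming the termwise direct sum of the Lₙ exists and is preserved by the localization
functor to D(A) (a known result, carried here as a hypothesis rather than proved), and that the
direct sum of the images exists in D(A). -/
theorem result {A : Type u} [Category.{v} A] [Abelian A] [HasDerivedCategory.{w} A]
    [HasColimitsOfShape ℕ A] [HasExactColimitsOfShape ℕ A]
    (L : ℕ ⥤ CochainComplex A ℤ) [HasCoproduct L.obj] [PreservesColimit (Discrete.functor L.obj) (DerivedCategory.Q (C := A))]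
    [HasCoproduct (fun n => DerivedCategory.Q.obj (L.obj n))] :
    DerLim.IsHocolim (fun n => DerivedCategory.Q.obj (L.obj n)) (fun n => DerivedCategory.Q.map (L.map (homOfLE (Nat.le_succ n))))
      (DerivedCategory.Q.obj (colimit L)) (fun n => DerivedCategory.Q.map (colimit.ι L n)) := by
  obtain ⟨w, hS⟩ := Groth.Agent.S0986.result L
  let Q := DerivedCategory.Q (C := A)
  haveI : HasCoproduct (fun n => Q.obj (L.obj n)) := ‹_›
  let e := PreservesCoproduct.iso Q L.obj
  have he : ∀ n, Q.map (Sigma.ι L.obj n) ≫ e.hom = Sigma.ι (fun n => Q.obj (L.obj n)) n := fun n => by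
    rw [← Iso.eq_comp_inv]
    simp [e]
  have h1 : Q.map (𝟙 (∐ L.obj) - DerLim.shiftMap L.obj (fun n => L.map (homOfLE (Nat.le_succ n)))) ≫ e.hom =
      e.hom ≫ (𝟙 _ - DerLim.shiftMap (fun n => Q.obj (L.obj n)) (fun n => Q.map (L.map (homOfLE (Nat.le_succ n))))) := by
    rw [← cancel_epi e.inv, Iso.inv_hom_id_assoc]
    refine Limits.Sigma.hom_ext _ _ fun n => ?_
    rw [show Sigma.ι (fun n => Q.obj (L.obj n)) n ≫ e.inv ≫ _ = Q.map (Sigma.ι L.obj n) ≫ _ from by
      rw [← he n, Category.assoc, Iso.hom_inv_id_assoc]]
    rw [← Functor.map_comp_assoc, Preadditive.comp_sub, Category.comp_id, Functor.map_sub, Preadditive.sub_comp,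
      Preadditive.comp_sub, Category.comp_id, he]
    simp only [DerLim.shiftMap, Sigma.ι_desc, Functor.map_comp, Category.assoc, he]
  have h2 : Q.map (Sigma.desc fun n => colimit.ι L n) = e.hom ≫ Sigma.desc (fun n => Q.map (colimit.ι L n)) := by
    rw [← cancel_epi e.inv, Iso.inv_hom_id_assoc]
    refine Limits.Sigma.hom_ext _ _ fun n => ?_
    rw [← he n, Category.assoc, Iso.hom_inv_id_assoc, ← Functor.map_comp, Sigma.ι_desc, he, Sigma.ι_desc]
  refine ⟨DerivedCategory.triangleOfSESδ hS ≫ (shiftFunctor _ (1 : ℤ)).map e.hom,
    Pretriangulated.isomorphic_distinguished _ (DerivedCategory.triangleOfSES_distinguished hS) _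
      (Iso.symm (Pretriangulated.Triangle.isoMk _ _ e e (Iso.refl _) ?_ ?_ ?_))⟩
  · exact h1
  · exact (Category.comp_id _).trans h2
  · exact (Category.id_comp _).symm

end Groth.Agent.S0985
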