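import Groth.Statements.S0987
import Groth.Agent.KHeartLib.Euler
-- import your own Groth.Agent.* helpers here

set_option autoImplicit false
set_option linter.style.haveILetI false
universe w v u
open CategoryTheory CategoryTheory.Limits
open KZero

namespace Groth.Agent.S0987

/-- For an abelian category A there is an isomorphism between K₀(A) and K₀ of the bounded derived
category D^b(A) (objects of D(A) with bounded cohomology, with the distinguished triangles of D(A))
which sends the class of an object X to the class of X placed in degree 0. -/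
theorem result (A : Type u) [Category.{v} A] [Abelian A] [HasDerivedCategory.{w} A] :
    ∃ φ : KZero.K0 A ≃+ KZero.K0tr (fun X : DerivedCategory A => ∃ a b : ℤ, X.IsGE a ∧ X.IsLE b),
      ∀ X : A, φ (KZero.cl X) =
        KZero.clTr (fun X : DerivedCategory A => ∃ a b : ℤ, X.IsGE a ∧ X.IsLE b) ((DerivedCategory.singleFunctor A 0).obj X) := by
  open Groth.Agent.KHeartLib in
  have hQ : IsHeartClass (⊤ : ObjectProperty A)
      (fun X : DerivedCategory A => ∃ a b : ℤ, X.IsGE a ∧ X.IsLE b) :=
    ⟨fun K h => h, fun K _ i => trivial, fun K a b ha hb _ => ⟨a, b, ha, hb⟩⟩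
  obtain ⟨φ, hφ⟩ := hQ.exists_equiv
  obtain ⟨f, hf⟩ := exists_lift_sub (⊤ : ObjectProperty A) KZero.cl fun S hS _ _ _ => by
    rw [KZero.cl, KZero.cl, KZero.cl, ← QuotientAddGroup.mk_add, QuotientAddGroup.eq_iff_sub_mem]
    exact AddSubgroup.subset_closure ⟨S, hS, by abel⟩
  let g : KZero.K0 A →+ KZero.K0sub (⊤ : ObjectProperty A) := QuotientAddGroup.lift _
    (FreeAbelianGroup.lift fun X : A => KZero.clSub (⊤ : ObjectProperty A) X) (by
      rw [KZero.relAb, AddSubgroup.closure_le]
      rintro _ ⟨S, hS, rfl⟩
      simp [clSub_add (⊤ : ObjectProperty A) S hS trivial trivial trivial])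
  have hg : ∀ X : A, g (KZero.cl X) = KZero.clSub (⊤ : ObjectProperty A) X := fun X => by
    simp [g, KZero.cl]
  have h1 : Function.LeftInverse f g := fun x => by
    obtain ⟨y, rfl⟩ := QuotientAddGroup.mk'_surjective _ x
    induction y using FreeAbelianGroup.induction_on with
    | zero => simp
    | of X =>
      change f (g (KZero.cl X)) = KZero.cl X
      rw [hg, hf X trivial]
    | neg X h => rw [map_neg, map_neg, map_neg, h]
    | add x y hx hy => rw [map_add, map_add, map_add, hx, hy]
  have h2 : Function.RightInverse f g := fun x => by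
    obtain ⟨y, rfl⟩ := QuotientAddGroup.mk'_surjective _ x
    induction y using FreeAbelianGroup.induction_on with
    | zero => simp
    | of X =>
      rw [show QuotientAddGroup.mk' (KZero.relSub (⊤ : ObjectProperty A)) (FreeAbelianGroup.of X) =
        KZero.clSub (⊤ : ObjectProperty A) X.1 from (clSub_of (⊤ : ObjectProperty A) X.2).symm,
        hf X.1 trivial, hg]
    | neg X h => rw [map_neg, map_neg, map_neg, h]
    | add x y hx hy => rw [map_add, map_add, map_add, hx, hy]
  refine ⟨(AddEquiv.ofBijective g ⟨h1.injective, h2.surjective⟩).trans φ, fun X => ?_⟩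
  rw [AddEquiv.trans_apply, AddEquiv.ofBijective_apply, hg, hφ X trivial]

end Groth.Agent.S0987
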