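import Groth.Statements.S0989
import Mathlib.Algebra.Homology.DerivedCategory.HomologySequence
import Mathlib.CategoryTheory.Triangulated.Subcategory
import Mathlib.Algebra.Homology.ExactSequence
-- import your own Groth.Agent.* helpers here

set_option autoImplicit false
set_option linter.style.haveILetI false
universe w v u
open CategoryTheory CategoryTheory.Limits
open CohDer

namespace Groth.Agent.S0989

/-- Let P be a weak Serre class in an abelian category A: P is closed under isomorphisms, holds for a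
zero object, and whenever X₀ → X₁ → X₂ → X₃ → X₄ is exact with P holding for X₀, X₁, X₃, X₄ it holds
for X₂. Then the class of objects of the derived category all of whose cohomology objects satisfy P
is a triangulated subcategory (contains zero, stable under shifts, closed under extensions) which is
moreover closed under retracts (saturated). -/
theorem result {A : Type u} [Category.{v} A] [Abelian A] [HasDerivedCategory.{w} A]
    (P : ObjectProperty A) [P.IsClosedUnderIsomorphisms] (h0 : ∃ Z : A, IsZero Z ∧ P Z)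
    (hP : ∀ S : ComposableArrows A 4, S.Exact → P (S.obj 0) → P (S.obj 1) → P (S.obj 3) → P (S.obj 4) → P (S.obj 2)) :
    ObjectProperty.IsTriangulated (fun X : DerivedCategory A => ∀ n : ℤ, P ((DerivedCategory.homologyFunctor A n).obj X)) ∧
    ObjectProperty.IsStableUnderRetracts (fun X : DerivedCategory A => ∀ n : ℤ, P ((DerivedCategory.homologyFunctor A n).obj X)) := by
  obtain ⟨Z, hZ, hPZ⟩ := h0
  have hzero : ∀ W : A, IsZero W → P W := fun W hW => P.prop_of_iso (hZ.iso hW) hPZ
  have five : ∀ {X₀ X₁ X₂ X₃ X₄ : A} (a : X₀ ⟶ X₁) (b : X₁ ⟶ X₂) (c : X₂ ⟶ X₃) (d : X₃ ⟶ X₄)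
      (w₁ : a ≫ b = 0) (w₂ : b ≫ c = 0) (w₃ : c ≫ d = 0),
      (ShortComplex.mk a b w₁).Exact → (ShortComplex.mk b c w₂).Exact →
      (ShortComplex.mk c d w₃).Exact → P X₀ → P X₁ → P X₃ → P X₄ → P X₂ :=
    fun a b c d w₁ w₂ w₃ h₁ h₂ h₃ p₀ p₁ p₃ p₄ =>
      hP (ComposableArrows.mk₄ a b c d) (ComposableArrows.exact_of_δ₀ h₁.exact_toComposableArrows
        (ComposableArrows.exact_of_δ₀ h₂.exact_toComposableArrows h₃.exact_toComposableArrows))
        p₀ p₁ p₃ p₄
  let Q : ObjectProperty (DerivedCategory A) :=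
    fun X => ∀ n : ℤ, P ((DerivedCategory.homologyFunctor A n).obj X)
  haveI : Q.IsClosedUnderIsomorphisms := ⟨fun e h n =>
    P.prop_of_iso ((DerivedCategory.homologyFunctor A n).mapIso e) (h n)⟩
  refine ⟨?_, ?_⟩
  · haveI hc : Q.ContainsZero :=
      ⟨(HasZeroObject.zero (C := DerivedCategory A)).elim fun W hW => ⟨W, hW, fun n =>
        hzero _ ((DerivedCategory.homologyFunctor A n).map_isZero hW)⟩⟩
    haveI : Q.IsStableUnderShift ℤ := ⟨fun a => ⟨fun X hX n =>
      P.prop_of_iso (((DerivedCategory.homologyFunctor A 0).shiftIso a n (a + n) rfl).app X).symm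
        (hX (a + n))⟩⟩
    haveI : Q.IsTriangulatedClosed₂ := ObjectProperty.IsTriangulatedClosed₂.mk' fun T hT h₁ h₃ n =>
      five _ _ _ _ _ _ _ (DerivedCategory.HomologySequence.exact₁ T hT (n - 1) n)
        (DerivedCategory.HomologySequence.exact₂ T hT n)
        (DerivedCategory.HomologySequence.exact₃ T hT n (n + 1)) (h₃ (n - 1)) (h₁ n) (h₃ n)
        (h₁ (n + 1))
    exact ObjectProperty.IsTriangulated.mk
  · refine ⟨fun {X Y} h hY n => ?_⟩
    let H := DerivedCategory.homologyFunctor A n
    have hr : H.map h.i ≫ H.map h.r = 𝟙 _ := by rw [← H.map_comp, h.retract, H.map_id]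
    let e : H.obj Y ⟶ H.obj Y := 𝟙 _ - H.map h.r ≫ H.map h.i
    have w₁ : e ≫ H.map h.r = 0 := by
      simp only [e, Preadditive.sub_comp, Category.id_comp, Category.assoc, hr, Category.comp_id,
        sub_self]
    haveI : Epi (H.map h.r) := SplitEpi.epi ⟨H.map h.i, hr⟩
    have h₁ : (ShortComplex.mk e (H.map h.r) w₁).Exact :=
      ShortComplex.exact_of_g_is_cokernel _ (CokernelCofork.IsColimit.ofπ' _ _ fun {Z} g hg =>
        ⟨H.map h.i ≫ g, by
          simp only [e, Preadditive.sub_comp, Category.id_comp, sub_eq_zero] at hg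
          exact (Category.assoc _ _ _).symm.trans hg.symm⟩)
    exact five e (H.map h.r) (0 : H.obj X ⟶ Z) (0 : Z ⟶ Z) w₁ comp_zero comp_zero h₁
      ((ShortComplex.exact_iff_epi _ rfl).2 (inferInstanceAs (Epi (H.map h.r))))
      (ShortComplex.exact_of_isZero_X₂ _ hZ) (hY n) (hY n) hPZ hPZ

end Groth.Agent.S0989
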