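import Groth.Statements.S0992
import Mathlib.Algebra.Homology.ShortComplex.Ab
import Mathlib.Algebra.Homology.HomologicalComplexLimits
import Mathlib.Algebra.Category.Grp.Limits
import Mathlib.CategoryTheory.Limits.Types.Limits
import Mathlib.Algebra.Category.Grp.Abelian
-- import your own Groth.Agent.* helpers here

set_option autoImplicit false
universe w
open CategoryTheory CategoryTheory.Limits Opposite
open CohDer

namespace Groth.Agent.S0992

section

variable {I : Type w} [LinearOrder I] (K : Iᵒᵖ ⥤ CochainComplex AddCommGrpCat.{w} ℤ)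

/-- Transition map. -/
abbrev tr {γ β : I} (h : γ ≤ β) (n : ℤ) : (K.obj (op β)).X n →+ (K.obj (op γ)).X n :=
  ((K.map (homOfLE h).op).f n).hom

/-- Differential. -/
abbrev dd (β : I) (i j : ℤ) : (K.obj (op β)).X i →+ (K.obj (op β)).X j :=
  ((K.obj (op β)).d i j).hom

lemma tr_tr {α γ β : I} (h : α ≤ γ) (h' : γ ≤ β) (n : ℤ) (x : (K.obj (op β)).X n) :
    tr K h n (tr K h' n x) = tr K (h.trans h') n x := by
  show ((K.map (homOfLE h').op).f n ≫ (K.map (homOfLE h).op).f n) x = _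
  rw [← HomologicalComplex.comp_f, ← K.map_comp]
  rfl

lemma tr_self {β : I} (n : ℤ) (x : (K.obj (op β)).X n) : tr K (le_refl β) n x = x := by
  show ((K.map (homOfLE (le_refl β)).op).f n) x = x
  rw [show (homOfLE (le_refl β)).op = 𝟙 (op β) from Subsingleton.elim _ _, K.map_id]
  rfl

lemma tr_dd {γ β : I} (h : γ ≤ β) (i j : ℤ) (x : (K.obj (op β)).X i) :
    tr K h j (dd K β i j x) = dd K γ i j (tr K h i x) := by
  show ((K.obj (op β)).d i j ≫ (K.map (homOfLE h).op).f j) x =
    ((K.map (homOfLE h).op).f i ≫ (K.obj (op γ)).d i j) x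
  rw [HomologicalComplex.Hom.comm]

lemma dd_dd (β : I) (i j k : ℤ) (x : (K.obj (op β)).X i) : dd K β j k (dd K β i j x) = 0 := by
  show ((K.obj (op β)).d i j ≫ (K.obj (op β)).d j k) x = 0
  rw [HomologicalComplex.d_comp_d]
  rfl

/-- A compatible family on a subtype. -/
def Compat (P : I → Prop) (m : ℤ) (u : ∀ γ : {γ : I // P γ}, (K.obj (op γ.1)).X m) : Prop :=
  ∀ (γ γ' : {γ : I // P γ}) (h : γ.1 ≤ γ'.1), tr K h m (u γ') = u γ

/-- One step extension. -/
def Step (β : I) : Prop :=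
  ∀ (i j k : ℤ), i + 1 = j → j + 1 = k → ∀ (x : (K.obj (op β)).X j), dd K β j k x = 0 →
    ∀ u : ∀ γ : {γ : I // γ < β}, (K.obj (op γ.1)).X i, Compat K (· < β) i u →
      (∀ γ : {γ : I // γ < β}, dd K γ.1 i j (u γ) = tr K γ.2.le j x) →
      ∃ y, dd K β i j y = x ∧ ∀ γ : {γ : I // γ < β}, tr K γ.2.le i y = u γ

lemma solve [WellFoundedLT I] (P : I → Prop) (hP : ∀ γ β, γ ≤ β → P β → P γ) (hs : ∀ β, P β → Step K β)
    (i j k : ℤ) (hij : i + 1 = j) (hjk : j + 1 = k)
    (z : ∀ γ : {γ : I // P γ}, (K.obj (op γ.1)).X j) (hz : Compat K P j z)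
    (hz0 : ∀ γ, dd K γ.1 j k (z γ) = 0) :
    ∃ u : ∀ γ : {γ : I // P γ}, (K.obj (op γ.1)).X i, Compat K P i u ∧ ∀ γ, dd K γ.1 i j (u γ) = z γ := by
  classical
  let Good : ∀ (β : {γ : I // P γ}) (_ : ∀ γ : {γ : I // P γ}, γ < β → (K.obj (op γ.1)).X i),
      (K.obj (op β.1)).X i → Prop := fun β f y =>
    dd K β.1 i j y = z β ∧ ∀ γ (h : γ < β), tr K h.le i y = f γ h
  let F : ∀ (β : {γ : I // P γ}) (_ : ∀ γ : {γ : I // P γ}, γ < β → (K.obj (op γ.1)).X i),
      (K.obj (op β.1)).X i := fun β f =>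
    if h : ∃ y, Good β f y then h.choose else 0
  let u : ∀ γ : {γ : I // P γ}, (K.obj (op γ.1)).X i := WellFounded.fix wellFounded_lt F
  have hu : ∀ β, u β = F β fun γ _ => u γ := fun β => WellFounded.fix_eq _ _ _
  have hgood : ∀ β, Good β (fun γ _ => u γ) (u β) := by
    intro β
    induction β using WellFoundedLT.induction with
    | _ β ih =>
      have hex : ∃ y, Good β (fun γ _ => u γ) y := by
        obtain ⟨y, hy, hy'⟩ := hs β.1 β.2 i j k hij hjk (z β) (hz0 β)
          (fun γ => u ⟨γ.1, hP _ _ γ.2.le β.2⟩)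
          (fun γ γ' h => by
            rcases lt_or_eq_of_le h with h' | h'
            · exact (ih ⟨γ'.1, hP _ _ γ'.2.le β.2⟩ γ'.2).2 ⟨γ.1, hP _ _ γ.2.le β.2⟩ h'
            · obtain rfl : γ = γ' := Subtype.ext h'
              exact tr_self K i _)
          (fun γ => by
            rw [(ih ⟨γ.1, hP _ _ γ.2.le β.2⟩ γ.2).1]
            exact (hz ⟨γ.1, hP _ _ γ.2.le β.2⟩ β γ.2.le).symm)
        exact ⟨y, hy, fun γ h => hy' ⟨γ.1, h⟩⟩
      rw [hu β]
      simp only [F, dif_pos hex]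
      exact hex.choose_spec
  refine ⟨u, fun γ γ' h => ?_, fun β => (hgood β).1⟩
  rcases lt_or_eq_of_le h with h' | h'
  · exact (hgood γ').2 γ h'
  · obtain rfl : γ = γ' := Subtype.ext h'
    exact tr_self K i _

lemma exact_elt (hac : ∀ (β : I) (n : ℤ), (K.obj (op β)).ExactAt n) (β : I) (i j k : ℤ)
    (hij : i + 1 = j) (hjk : j + 1 = k) (x : (K.obj (op β)).X j) (hx : dd K β j k x = 0) :
    ∃ y, dd K β i j y = x :=
  (ShortComplex.ab_exact_iff _).1
    ((HomologicalComplex.exactAt_iff' _ i j k (by simp; omega) (by simp; omega)).1 (hac β j)) x hx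

theorem step_all [WellFoundedLT I] (hac : ∀ (β : I) (n : ℤ), (K.obj (op β)).ExactAt n)
    (hsurj : ∀ (β : I) (n : ℤ) (u : ∀ γ : {γ : I // γ < β}, (K.obj (op γ.1)).X n),
      Compat K (· < β) n u → ∃ y, ∀ γ : {γ : I // γ < β}, tr K γ.2.le n y = u γ) :
    ∀ β, Step K β := by
  intro β
  induction β using WellFoundedLT.induction with
  | _ β ih =>
    intro i j k hij hjk x hx u hu hdu
    obtain ⟨y', hy'⟩ := hsurj β i u hu
    obtain ⟨w, hw⟩ := exact_elt K hac β i j k hij hjk (x - dd K β i j y')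
      (by rw [map_sub, hx, dd_dd, sub_zero])
    obtain ⟨v, hv, hdv⟩ := solve K (· < β) (fun γ δ h h' => h.trans_lt h') ih (i - 1) i j (by omega) hij
      (fun γ => tr K γ.2.le i w) (fun γ γ' h => tr_tr K h _ i w)
      (fun γ => by rw [← tr_dd, hw, map_sub, tr_dd, hy', hdu, sub_self])
    obtain ⟨v', hv'⟩ := hsurj β (i - 1) v hv
    refine ⟨y' + w - dd K β (i - 1) i v', ?_, fun γ => ?_⟩
    · rw [map_sub, map_add, dd_dd, sub_zero, hw, add_sub_cancel]
    · rw [map_sub, map_add, hy', tr_dd, hv', hdv, add_sub_cancel_right]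

end


/-- Let I be a well-ordered type and K : Iᵒᵖ ⥤ CochainComplex Ab an inverse system of acyclic complexes
of abelian groups such that for every β and every degree n, each family of elements of the Kⁿ_γ (γ <
β) compatible under the transition maps lifts to an element of Kⁿ_β (i.e. Kⁿ_β → lim_{γ<β} Kⁿ_γ is
surjective). Then the limit complex lim K is acyclic. -/
theorem result {I : Type w} [LinearOrder I] [WellFoundedLT I]
    (K : Iᵒᵖ ⥤ CochainComplex AddCommGrpCat.{w} ℤ)
    (hac : ∀ (β : I) (n : ℤ), (K.obj (op β)).ExactAt n)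
    (hsurj : ∀ (β : I) (n : ℤ) (x : ∀ γ : {γ : I // γ < β}, (K.obj (op γ.1)).X n),
      (∀ (γ γ' : {γ : I // γ < β}) (h : γ.1 ≤ γ'.1), ((K.map (homOfLE h).op).f n).hom (x γ') = x γ) →
      ∃ y : (K.obj (op β)).X n, ∀ γ : {γ : I // γ < β}, ((K.map (homOfLE γ.2.le).op).f n).hom y = x γ)
    (n : ℤ) : (limit K).ExactAt n := by
  rw [HomologicalComplex.exactAt_iff' _ (n - 1) n (n + 1) (by simp) (by simp),
    ShortComplex.ab_exact_iff]
  intro x hx
  let π : ∀ (β : I) (m : ℤ), (limit K).X m →+ (K.obj (op β)).X m :=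
    fun β m => ((limit.π K (op β)).f m).hom
  have hπd : ∀ (β : I) (i j : ℤ) (y : (limit K).X i),
      dd K β i j (π β i y) = π β j (((limit K).d i j).hom y) := by
    intro β i j y
    show ((limit.π K (op β)).f i ≫ (K.obj (op β)).d i j) y = ((limit K).d i j ≫ (limit.π K (op β)).f j) y
    rw [HomologicalComplex.Hom.comm]
  have hπt : ∀ (γ β : I) (h : γ ≤ β) (m : ℤ) (y : (limit K).X m), tr K h m (π β m y) = π γ m y := by
    intro γ β h m y
    show ((limit.π K (op β)).f m ≫ (K.map (homOfLE h).op).f m) y = _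
    rw [← HomologicalComplex.comp_f, limit.w]
  obtain ⟨u, hu, hdu⟩ := solve K (fun _ => True) (fun _ _ _ _ => trivial)
    (fun β _ => step_all K hac hsurj β) (n - 1) n (n + 1) (by omega) rfl
    (fun γ => π γ.1 n x) (fun γ γ' h => hπt _ _ h n x)
    (fun γ => by
      rw [hπd]
      exact (congrArg _ hx).trans (map_zero _))
  have hlim : ∀ m : ℤ, IsLimit ((forget AddCommGrpCat.{w}).mapCone
      ((HomologicalComplex.eval AddCommGrpCat.{w} (ComplexShape.up ℤ) m).mapCone (limit.cone K))) := fun m =>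
    isLimitOfPreserves _ (isLimitOfPreserves _ (limit.isLimit K))
  let y : (limit K).X (n - 1) := (Types.isLimitEquivSections (hlim (n - 1))).symm
    ⟨fun β => u ⟨β.unop, trivial⟩, fun {a b} f => by
      have : f = (homOfLE (leOfHom f.unop)).op := Subsingleton.elim _ _
      rw [this]
      exact hu ⟨b.unop, trivial⟩ ⟨a.unop, trivial⟩ (leOfHom f.unop)⟩
  refine ⟨y, (Types.isLimitEquivSections (hlim n)).injective (Subtype.ext (funext fun β => ?_))⟩
  have hy : π β.unop (n - 1) y = u ⟨β.unop, trivial⟩ :=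
    Types.isLimitEquivSections_symm_apply (hlim (n - 1)) _ β
  show π β.unop n (((limit K).d (n - 1) n).hom y) = π β.unop n x
  rw [← hπd, hy]
  exact hdu ⟨β.unop, trivial⟩

end Groth.Agent.S0992
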