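import Groth.Statements.S10000
import Groth.Agent.AlgSpLib.GeomLift
import Groth.Agent.WeightLib.Pts
import Groth.Agent.WeightLib.EtaleQF
import Groth.Agent.AlgSpLib.Points
import Mathlib.FieldTheory.IsAlgClosed.Classification

set_option autoImplicit false
set_option backward.isDefEq.respectTransparency false
set_option backward.isDefEq.respectTransparency.types false
universe u
open CategoryTheory CategoryTheory.Limits AlgebraicGeometry
open AlgSp

namespace Groth.Agent.S10000


variable {S : Scheme.{u}}

open scoped Cardinal in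
theorem exists_embedding_of_card_lt {F E K : Type u} [Field F] [Field E] [Field K] [IsAlgClosed K] (i : F →+* E)
    (j : F →+* K) (h : #E < #K) : ∃ e : E →+* K, e.comp i = j := by
  letI := i.toAlgebra
  letI := j.toAlgebra
  obtain ⟨s, hs⟩ := exists_isTranscendenceBasis F E
  obtain ⟨t, ht⟩ := exists_isTranscendenceBasis F K
  have hst : #s ≤ #t := by
    by_contra hlt
    rw [not_le] at hlt
    have h1 : #s ≤ #E := Cardinal.mk_set_le s
    have h2 : #F ≤ #E := Cardinal.mk_le_of_injective i.injective
    have h3 : #K ≤ ℵ₀ := by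
      have := IsAlgClosed.cardinal_le_max_transcendence_basis' ((↑) : t → K) ht
      rcases le_max_iff.1 this with h4 | h4
      · exact absurd (h4.trans (max_le h2 (hlt.le.trans h1))) h.not_ge
      · exact h4
    haveI : Finite E := Cardinal.lt_aleph0_iff_finite.1 (h.trans_le h3)
    haveI : Module.Finite F E := Module.Finite.of_finite
    haveI := hs.1.isEmpty_of_isAlgebraic
    exact absurd hlt (by simp [Cardinal.mk_eq_zero])
  obtain ⟨σ⟩ := hst
  let A := Algebra.adjoin F (Set.range ((↑) : s → E))
  let ψ : A →ₐ[F] K :=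
    (MvPolynomial.aeval (fun x : s => ((σ x : t) : K))).comp hs.1.aevalEquiv.symm.toAlgHom
  have hψ : Function.Injective ψ :=
    ((algebraicIndependent_iff_injective_aeval).1 ((ht.1.comp σ σ.injective) : AlgebraicIndependent F (fun x : s => ((σ x : t) : K)))).comp
      hs.1.aevalEquiv.symm.injective
  letI : Algebra A K := ψ.toRingHom.toAlgebra
  haveI : FaithfulSMul A K := (faithfulSMul_iff_algebraMap_injective _ _).2 hψ
  haveI : FaithfulSMul A E := (faithfulSMul_iff_algebraMap_injective _ _).2 Subtype.val_injective
  haveI : Algebra.IsAlgebraic A E := hs.isAlgebraic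
  let e : E →ₐ[A] K := IsAlgClosed.lift
  refine ⟨e.toRingHom, RingHom.ext fun r => ?_⟩
  exact (e.commutes (algebraMap F A r)).trans (ψ.commutes r)

open scoped Cardinal in
theorem card_lt_of_finite {F E K : Type u} [Field F] [Field E] [Field K] [IsAlgClosed K] (i : F →+* E)
    (hi : i.Finite) (h : #F < #K) : #E < #K := by
  letI := i.toAlgebra
  haveI : Module.Finite F E := hi
  rcases lt_or_ge (max #F ℵ₀) #K with h' | h'
  · exact (Algebra.IsAlgebraic.cardinalMk_le_max F E).trans_lt h'
  · rcases le_max_iff.1 h' with h'' | h''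
    · exact absurd h'' h.not_ge
    · haveI : Finite F := Cardinal.lt_aleph0_iff_finite.1 (h.trans_le h'')
      haveI : Finite E := Module.finite_of_finite F
      exact (Cardinal.lt_aleph0_of_finite E).trans_le (Cardinal.infinite_iff.1 inferInstance)


/-- For a morphism X ⟶ Y of algebraic spaces and an algebraically closed field k over S that is large
compared with X, X(k) surjects onto |X| ×_{|Y|} Y(k): every pair of a point x of |X| and a k-valued
point of Y with the same image in |Y| comes from a k-valued point of X. (The published statement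
measures largeness by a cardinal attached to X that bounds the residue fields of an etale atlas;
this row asks directly that every residue field of one surjective etale chart U of X have
cardinality smaller than that of k, which is how the bound enters the argument.) -/
theorem result {S : Scheme.{u}} {X Y : AlgSp.Space S} (f : X ⟶ Y)
    {U : Over S} (a : (AlgSp.yon S).obj U ⟶ X.obj) (ha : AlgSp.RepWith @Etale a) (has : AlgSp.RepWith @Surjective a)
    (ybar : AlgSp.FieldPt Y.obj) (hy : ybar.IsGeometric)
    (hk : ∀ u : ↥U.left, Cardinal.mk ↥(U.left.residueField u) < Cardinal.mk ybar.K)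
    (x : AlgSp.Points X.obj) (hx : AlgSp.Points.map f.hom x = AlgSp.Points.mk ybar) :
    ∃ xbar : (AlgSp.yon S).obj ybar.pt ⟶ X.obj, xbar ≫ f.hom = ybar.toHom ∧
      AlgSp.Points.ofPt xbar (IsLocalRing.closedPoint ybar.K) = x := by
  haveI : IsAlgClosed ybar.K := hy
  obtain ⟨u, rfl⟩ := AlgSpLib.surjective_ofPt has x
  obtain ⟨V, b, hb, hbs⟩ := Y.property.atlas
  obtain ⟨v, hv⟩ := AlgSpLib.surjective_ofPt hbs (Points.mk ybar)
  obtain ⟨vbar', hvbar, hvpt⟩ := AlgSpLib.exists_geometric_lift (IsAlgSpace.yon_obj V) Y.property b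
    (AlgSpLib.isEtaleMor_of_repWith hb) ybar hy (Points.schemeHomeo V v) (by
      rw [← hv]; exact (congrFun (AlgSpLib.ofPt_comp_ofScheme b) v).symm)
  obtain ⟨vbar, rfl⟩ := (yon S).map_surjective vbar'
  obtain ⟨W, p, q, sq⟩ := AlgSpLib.exists_isPullback_yon (a ≫ f.hom) b (Y.property.representable_from_yon _)
  haveI : Etale p.left := AlgSpLib.etale_left (AlgSpLib.repWith_of_isPullback sq.flip hb)
  haveI := WeightLib.locallyQuasiFinite_of_etale p.left
  obtain ⟨w, hwu, hwv⟩ := (AlgSpLib.ofPt_eq_ofPt_iff sq u v).1 (by rw [← Points.map_ofPt, hx, hv])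
  have hvv : WeightLib.img vbar.left = q.left w := by
    rw [hwv]
    refine (Points.schemeHomeo V).injective (Eq.trans ?_ hvpt)
    change Points.ofPt (𝟙 _) (vbar.left (IsLocalRing.closedPoint ybar.K)) = Points.ofPt ((yon S).map vbar) _
    rw [← AlgSpLib.ofPt_yon_comp, Category.comp_id]
  obtain ⟨j, hj⟩ := WeightLib.exists_eq_specMap_fromSpecResidueField vbar.left hvv
  have hcard : Cardinal.mk (W.left.residueField w) < Cardinal.mk ybar.K :=
    card_lt_of_finite (p.left.residueFieldMap w).hom (WeightLib.finite_residueFieldMap p.left w)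
      (hk (p.left w))
  obtain ⟨e, he⟩ := exists_embedding_of_card_lt (q.left.residueFieldMap w).hom j.hom hcard
  let wl : Spec (CommRingCat.of ybar.K) ⟶ W.left := Spec.map (CommRingCat.ofHom e) ≫ W.left.fromSpecResidueField w
  have hwq : wl ≫ q.left = vbar.left := by
    rw [← hj, Category.assoc, ← q.left.SpecMap_residueFieldMap_fromSpecResidueField w, ← Spec.map_comp_assoc]
    congr 2
    exact CommRingCat.hom_ext he
  let wl' : ybar.pt ⟶ W := Over.homMk wl (by
    change wl ≫ W.hom = ybar.pt.hom
    rw [← Over.w q, reassoc_of% hwq, Over.w])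
  have hwl : wl' ≫ q = vbar := Over.OverMorphism.ext hwq
  refine ⟨(yon S).map (wl' ≫ p) ≫ a, ?_, ?_⟩
  · rw [Category.assoc, Functor.map_comp, Category.assoc, sq.w, ← Category.assoc, ← Functor.map_comp, hwl]
    exact hvbar
  · rw [AlgSpLib.ofPt_yon_comp, ← hwu]
    refine congrArg _ ?_
    change p.left (wl (IsLocalRing.closedPoint ybar.K)) = _
    exact congrArg p.left (WeightLib.img_specMap_fromSpecResidueField w (CommRingCat.ofHom e))

end Groth.Agent.S10000
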