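import Groth.Statements.S10008
import Groth.Agent.MonoPtLib.LimAffine
import Groth.Agent.AlgSpLib.Qc


set_option autoImplicit false
set_option backward.isDefEq.respectTransparency false
set_option backward.isDefEq.respectTransparency.types false
universe u
open CategoryTheory CategoryTheory.Limits AlgebraicGeometry
open AlgSp

namespace Groth.Agent.S10008

/-- Let `X` be the limit, in fppf sheaves over `S`, of a cofiltered system `(X_i)` of algebraic spaces
over `S` whose transition maps are affine. If every `X_i` is quasi-compact and has at least one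
point, then `X` has a point. -/
theorem result (S : Scheme.{u}) {I : Type u} [SmallCategory I] [IsCofiltered I]
    (D : I ⥤ AlgSp.Sp S) (hD : ∀ i, AlgSp.IsAlgSpace (D.obj i))
    (hDa : ∀ (i j : I) (φ : i ⟶ j), AlgSp.IsAffineMor (D.map φ))
    (c : Cone D) (hc : IsLimit c)
    (hqc : ∀ i, AlgSp.IsQuasiCompactSp (D.obj i)) (hne : ∀ i, Nonempty (AlgSp.Points (D.obj i))) :
    Nonempty (AlgSp.Points c.pt) := by
  obtain ⟨i₀⟩ := (IsCofiltered.nonempty : Nonempty I)
  obtain ⟨E, a, hE, -, has⟩ := AlgSpLib.exists_affine_chart (hqc i₀)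
  obtain ⟨⟨h1⟩, ⟨h2⟩, h3⟩ := MonoPtLib.limit_over_data D hc i₀
  obtain ⟨W, cW, i, fst, p, q, ⟨hcW⟩, haff, hW, sqj, -, -, -⟩ :=
    MonoPtLib.exists_pullback_limit (MonoPtLib.overNat D i₀) (fun k => hDa _ _ k.hom) h1 h2
      (c.π.app i₀) h3 hE a
  have hne' : ∀ k, Nonempty ↥(W.obj k).left := fun k => by
    have hqs : RepWith @Surjective (q k) := AlgSpLib.repWith_of_isPullback (sqj k).flip (by
      change RepWith @Surjective (a ≫ 𝟙 _)
      rw [Category.comp_id]
      exact has)
    obtain ⟨x⟩ := hne k.left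
    obtain ⟨w, -⟩ := AlgSpLib.map_surjective_of_repWith hqs x
    obtain ⟨w, -⟩ := (Points.schemeHomeo (W.obj k)).surjective w
    exact ⟨w⟩
  obtain ⟨hl⟩ := MonoPtLib.scheme_isLimit hcW
  haveI : ∀ k, IsAffine ((W ⋙ Over.forget S).obj k) := hW
  haveI : ∀ k, Nonempty ↥((W ⋙ Over.forget S).obj k) := hne'
  obtain ⟨w⟩ := Scheme.nonempty_of_isLimit _ _ hl
  exact ⟨Points.ofPt fst w⟩

end Groth.Agent.S10008
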