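import Groth.Statements.S10029
import Groth.Agent.ShfLimLib.Conv

set_option autoImplicit false
universe u
open CategoryTheory CategoryTheory.Limits AlgebraicGeometry
open AlgSp

namespace Groth.Agent.S10029

/-- If `a : F ⟶ G` is a relatively limit preserving transformation of presheaves of sets on schemes over
`S`, then the induced morphism of fppf sheafifications is relatively limit preserving. -/
theorem result (S : Scheme.{u}) {F G : AlgSp.PSp S} (a : F ⟶ G)
    (ha : AlgSp.IsRelLimitPreserving a) :
    AlgSp.IsRelLimitPreserving ((presheafToSheaf (AlgSp.J S) (Type (u + 1))).map a).hom := by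
  rw [ShfLimLib.isRelLimitPreserving_iff] at ha ⊢
  exact ShfLimLib.stage_of_locallyBijective (a := a) (ηF := toSheafify (AlgSp.J S) F)
    (ηG := toSheafify (AlgSp.J S) G) (toSheafify_naturality (AlgSp.J S) a).symm (Sheaf.cond _) (Sheaf.cond _) ha

end Groth.Agent.S10029
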