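import Groth.Statements.S10042
import Groth.Agent.AlgSpAffImmLib.Basic
import Groth.Agent.AlgSpFieldLib.SpreadField
import Groth.Agent.AlgSpLib.ImmLocal
import Groth.Agent.AlgSpLib.OnePoint
import Groth.Agent.AlgSpLib.QcQs
-- import your own Groth.Agent.* helpers here

set_option autoImplicit false
set_option backward.isDefEq.respectTransparency false
set_option backward.isDefEq.respectTransparency.types false
universe u
open CategoryTheory CategoryTheory.Limits AlgebraicGeometry
open AlgSp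

namespace Groth.Agent.S10042

section
open AlgSpLib TensorProduct
variable {S : Scheme.{u}}

theorem yon_prod_hom_ext {U V : Over S} {Z : AlgSp.Sp S} {a b : Z ⟶ (AlgSp.yon S).obj (U ⨯ V)}
    (h1 : a ≫ (AlgSp.yon S).map prod.fst = b ≫ (AlgSp.yon S).map prod.fst)
    (h2 : a ≫ (AlgSp.yon S).map prod.snd = b ≫ (AlgSp.yon S).map prod.snd) : a = b := by
  rw [← cancel_mono (PreservesLimitPair.iso (AlgSp.yon S) U V).hom]
  apply Limits.prod.hom_ext <;> simpa [Category.assoc] using ‹_›

/-- Finitely many functions immerse the part of `U` over an affine chart into affine space. -/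
theorem exists_finset_chart [QuasiSeparatedSpace ↥S] {X : AlgSp.Space S} (hqs : AlgSp.IsQuasiSeparatedSp X.obj)
    (hls : AlgSp.IsLocallySeparatedSp X.obj) {U : Over S} [IsAffine U.left] {f : (AlgSp.yon S).obj U ⟶ X.obj}
    (hf : AlgSp.LocP @LocallyOfFiniteType f) {V : Over S} [IsAffine V.left] {b : (AlgSp.yon S).obj V ⟶ X.obj}
    (hb : AlgSp.RepWith @Etale b) :
    ∃ (W : Over S) (rU : W ⟶ U) (rV : W ⟶ V),
      IsPullback ((AlgSp.yon S).map rU) ((AlgSp.yon S).map rV) f b ∧
      ∃ s : Finset Γ(U.left, ⊤), ∀ (σ : Type u) (v : σ → Γ(U.left, ⊤)) (A' : Over S) (φ : U ⟶ A')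
        (y : σ → Γ(A'.left, ⊤)), (∀ i, φ.left.appTop (y i) = v i) → ↑s ⊆ Set.range v →
          IsImmersion (prod.lift rV (rU ≫ φ)).left := by
  obtain ⟨rV, hrV⟩ := (AlgSp.yon S).map_surjective (hb.rep.fst f)
  let W := hb.rep.pullback f
  let rU : W ⟶ U := hb.rep.snd f
  have sqW : IsPullback ((AlgSp.yon S).map rU) ((AlgSp.yon S).map rV) f b := by
    rw [hrV]; exact (hb.rep.isPullback f).flip
  refine ⟨W, rU, rV, sqW, ?_⟩
  haveI : LocallyOfFiniteType rV.left := by
    refine hf ((AlgSp.yon S).map rU) b rV ?_ hb sqW.w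
    exact repWith_of_isPullback sqW.flip hb
  -- `W ⟶ U ×_S V` is a quasi-compact immersion
  let l : W ⟶ U ⨯ V := prod.lift rU rV
  let g : (AlgSp.yon S).obj (U ⨯ V) ⟶ X.obj ⨯ X.obj :=
    prod.lift ((AlgSp.yon S).map prod.fst ≫ f) ((AlgSp.yon S).map prod.snd ≫ b)
  have hl1 : (AlgSp.yon S).map l ≫ (AlgSp.yon S).map prod.fst = (AlgSp.yon S).map rU := by
    rw [← Functor.map_comp, prod.lift_fst]
  have hl2 : (AlgSp.yon S).map l ≫ (AlgSp.yon S).map prod.snd = (AlgSp.yon S).map rV := by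
    rw [← Functor.map_comp, prod.lift_snd]
  have sql : IsPullback ((AlgSp.yon S).map rU ≫ f) ((AlgSp.yon S).map l) (Limits.diag X.obj) g := by
    have hw : ((AlgSp.yon S).map rU ≫ f) ≫ Limits.diag X.obj = (AlgSp.yon S).map l ≫ g := by
      apply Limits.prod.hom_ext
      · simp only [g, prod.lift_fst, Category.assoc, Category.comp_id]; rw [← Category.assoc ((AlgSp.yon S).map l), hl1]
      · simp only [g, prod.lift_snd, Category.assoc, Category.comp_id]; rw [← Category.assoc ((AlgSp.yon S).map l), hl2, sqW.w]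
    have h1 : ∀ c : PullbackCone (Limits.diag X.obj) g, c.fst = c.snd ≫ (AlgSp.yon S).map prod.fst ≫ f := fun c => by
      have := congrArg (· ≫ prod.fst) c.condition; simpa [g] using this
    have h2 : ∀ c : PullbackCone (Limits.diag X.obj) g, c.fst = c.snd ≫ (AlgSp.yon S).map prod.snd ≫ b := fun c => by
      have := congrArg (· ≫ prod.snd) c.condition; simpa [g] using this
    have h3 : ∀ c : PullbackCone (Limits.diag X.obj) g,
        (c.snd ≫ (AlgSp.yon S).map prod.fst) ≫ f = (c.snd ≫ (AlgSp.yon S).map prod.snd) ≫ b := fun c => by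
      rw [Category.assoc, Category.assoc, ← h1, ← h2]
    refine ⟨⟨hw⟩, ⟨PullbackCone.IsLimit.mk _ (fun c => sqW.lift _ _ (h3 c)) (fun c => ?_) (fun c => ?_)
      (fun c m _ hm => ?_)⟩⟩
    · rw [← Category.assoc, sqW.lift_fst, h1, Category.assoc]
    · refine yon_prod_hom_ext ?_ ?_
      · rw [Category.assoc, hl1, sqW.lift_fst]
      · rw [Category.assoc, hl2, sqW.lift_snd]
    · refine sqW.hom_ext ?_ ?_
      · rw [sqW.lift_fst, ← hm, Category.assoc, hl1]
      · rw [sqW.lift_snd, ← hm, Category.assoc, hl2]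
  haveI : IsImmersion l.left := hls.property g _ _ sql
  haveI : QuasiCompact l.left := hqs.property g _ _ sql
  haveI : QuasiCompact V.hom := quasiCompact_of_compactSpace V.hom
  haveI : CompactSpace ↥(U ⨯ V).left := by
    haveI : CompactSpace ↥(pullback U.hom V.hom) :=
      QuasiCompact.compactSpace_of_compactSpace (pullback.fst U.hom V.hom)
    exact (Over.prodLeftIsoPullback U V).inv.homeomorph.compactSpace
  haveI : CompactSpace ↥W.left := QuasiCompact.compactSpace_of_compactSpace l.left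
  -- into the product of the affine schemes
  let A := Γ(U.left, ⊤)
  let B := Γ(V.left, ⊤)
  letI : Algebra (ULift.{u} ℤ) A := ((Int.castRingHom A).comp (ULift.ringEquiv (R := ℤ)).toRingHom).toAlgebra
  letI : Algebra (ULift.{u} ℤ) B := ((Int.castRingHom B).comp (ULift.ringEquiv (R := ℤ)).toRingHom).toAlgebra
  let aA := Spec.map (CommRingCat.ofHom (algebraMap (ULift.{u} ℤ) A))
  let aB := Spec.map (CommRingCat.ofHom (algebraMap (ULift.{u} ℤ) B))
  let ξ := specULiftZIsTerminal.{u}.from S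
  let c : W.left ⟶ pullback aA aB := (l.left ≫ (Over.prodLeftIsoPullback U V).hom) ≫
    pullback.mapDesc U.hom V.hom ξ ≫ pullback.map (U.hom ≫ ξ) (V.hom ≫ ξ) aA aB U.left.isoSpec.hom V.left.isoSpec.hom (𝟙 _)
      (specULiftZIsTerminal.hom_ext _ _) (specULiftZIsTerminal.hom_ext _ _)
  haveI : IsIso U.left.isoSpec.hom := inferInstance
  haveI : IsImmersion c := inferInstance
  have hc1 : c ≫ pullback.fst aA aB = rU.left ≫ U.left.isoSpec.hom := by
    simp only [c, Category.assoc, pullback.lift_fst, pullback.mapDesc, pullback.map]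
    simp [l, ← Category.assoc, ← Over.comp_left]
  have hc2 : c ≫ pullback.snd aA aB = rV.left ≫ V.left.isoSpec.hom := by
    simp only [c, Category.assoc, pullback.lift_snd, pullback.mapDesc, pullback.map]
    simp [l, ← Category.assoc, ← Over.comp_left]
  haveI : LocallyOfFiniteType (rV.left ≫ V.left.isoSpec.hom) := inferInstance
  obtain ⟨s, hs⟩ := AlgSpAffImmLib.exists_finset_immersion_pullback (ULift.{u} ℤ) A B c
    (rU.left ≫ U.left.isoSpec.hom) (rV.left ≫ V.left.isoSpec.hom) hc1 hc2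
  refine ⟨s, fun σ v A' φ y hy hsv => ?_⟩
  let T := (V ⨯ A').left
  let pv : T ⟶ V.left := (prod.fst : V ⨯ A' ⟶ V).left
  let pa : T ⟶ A'.left := (prod.snd : V ⨯ A' ⟶ A').left
  let ψ : MvPolynomial σ B →+* Γ(T, ⊤) := MvPolynomial.eval₂Hom pv.appTop.hom (fun i => pa.appTop (y i))
  let m := (prod.lift rV (rU ≫ φ)).left
  haveI : IsImmersion (m ≫ T.toSpecΓ ≫ Spec.map (CommRingCat.ofHom ψ)) := by
    refine hs σ v hsv _ (fun b' => ?_) (fun i => ?_)
    · rw [AlgSpAffImmLib.η_comp, AlgSpAffImmLib.η_comp_specMap, AlgSpAffImmLib.η_toSpecΓ, Category.comp_id,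
        AlgSpAffImmLib.η_comp, Scheme.isoSpec_hom, AlgSpAffImmLib.η_toSpecΓ]
      show m.appTop (ψ (MvPolynomial.C b')) = rV.left.appTop b'
      rw [MvPolynomial.eval₂Hom_C]
      have : m ≫ pv = rV.left := by
        show ((prod.lift rV (rU ≫ φ)) ≫ prod.fst).left = _; rw [prod.lift_fst]
      have h2 := congrArg (fun k : W.left ⟶ V.left => k.appTop b') this
      simpa using h2
    · rw [AlgSpAffImmLib.η_comp, AlgSpAffImmLib.η_comp_specMap, AlgSpAffImmLib.η_toSpecΓ, Category.comp_id,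
        AlgSpAffImmLib.η_comp, Scheme.isoSpec_hom, AlgSpAffImmLib.η_toSpecΓ]
      show m.appTop (ψ (MvPolynomial.X i)) = rU.left.appTop (v i)
      rw [MvPolynomial.eval₂Hom_X', ← hy i]
      have : m ≫ pa = rU.left ≫ φ.left := by
        show ((prod.lift rV (rU ≫ φ)) ≫ prod.snd).left = _; rw [prod.lift_snd]; rfl
      have h2 := congrArg (fun k : W.left ⟶ A'.left => k.appTop (y i)) this
      simpa using h2
  exact IsImmersion.of_comp m (T.toSpecΓ ≫ Spec.map (CommRingCat.ofHom ψ))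

end

/-- Let `X` be a quasi-separated and locally separated algebraic space over `S`, `U` an affine scheme
over `S` and `f : U ⟶ X` locally of finite type. Then there are an `n` and an immersion `U ⟶ 𝐀^n_X =
X ×_S 𝐀^n_S` over `X`. (The published statement allows any base scheme and uses absolute
quasi-separatedness; this row assumes the base quasi-separated, over which quasi-separatedness
relative to the base is the absolute notion.) -/
theorem result (S : Scheme.{u}) [QuasiSeparatedSpace S]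
    (X : AlgSp.Space S) (hqs : AlgSp.IsQuasiSeparatedSp X.obj) (hls : AlgSp.IsLocallySeparatedSp X.obj)
    (U : Over S) (hU : IsAffine U.left) (f : (AlgSp.yon S).obj U ⟶ X.obj) (hf : AlgSp.LocP @LocallyOfFiniteType f) :
    ∃ (n : ℕ) (i : (AlgSp.yon S).obj U ⟶ X.obj ⨯ (AlgSp.yon S).obj (Over.mk (𝔸(ULift.{u} (Fin n); S) ↘ S))),
      i ≫ prod.fst = f ∧ AlgSp.RepWith @IsImmersion i := by
  classical
  haveI := hU
  obtain ⟨κ, Vs, bs, hVs, hbs, hop, hcov⟩ := AlgSpLib.exists_affine_charts X.property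
  obtain ⟨t, ht⟩ := (isCompact_range (AlgSp.Points.continuous_ofPt f)).elim_finite_subcover
    (fun k => Set.range (AlgSp.Points.map (bs k))) (fun k => (hop k).isOpen_range)
    (fun x _ => Set.mem_iUnion.2 (hcov x))
  have hpiece := fun k : t => by
    haveI := hVs k.1
    exact exists_finset_chart hqs hls hf (hbs k.1)
  choose W rU rV sqW s hs using hpiece
  let F : Finset Γ(U.left, ⊤) := Finset.univ.biUnion s
  let n := F.card
  let v : ULift.{u} (Fin n) → Γ(U.left, ⊤) := fun i => (F.equivFin.symm i.down).1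
  have hv : ∀ k, ↑(s k) ⊆ Set.range v := fun k g hg =>
    ⟨ULift.up (F.equivFin ⟨g, Finset.mem_biUnion.2 ⟨k, Finset.mem_univ _, hg⟩⟩), by simp [v]⟩
  let A' : Over S := Over.mk (𝔸(ULift.{u} (Fin n); S) ↘ S)
  let φ : U ⟶ A' := Over.homMk (AffineSpace.homOfVector U.hom v) (AffineSpace.homOfVector_over _ _)
  refine ⟨n, prod.lift f ((AlgSp.yon S).map φ), prod.lift_fst _ _, ?_⟩
  -- the open subspace covered by the finitely many charts
  let O : Set (AlgSp.Points X.obj) := ⋃ k ∈ t, Set.range (AlgSp.Points.map (bs k))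
  have hO : IsOpen O := isOpen_biUnion fun k _ => (hop k).isOpen_range
  let X₀ := AlgSpLib.openSub X.obj O
  let j : X₀ ⟶ X.obj := AlgSpLib.openSubι X.obj O
  have hj : AlgSp.RepWith @IsOpenImmersion j := AlgSpLib.repWith_openSubι X.obj hO
  have hX₀ : AlgSp.IsAlgSpace X₀ := AlgSpLib.isAlgSpace_openSub X.property hO
  haveI : Mono j := AlgSpLib.mono_of_openImmersion hj
  obtain ⟨f₀, hf₀⟩ := (AlgSpLib.exists_factor_iff hj f).2 (by
    rw [AlgSpLib.range_openSubι, ← AlgSpLib.range_ofPt]; exact ht)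
  have hb₀ : ∀ k : t, ∃ b₀ : (AlgSp.yon S).obj (Vs k.1) ⟶ X₀, b₀ ≫ j = bs k.1 := fun k =>
    (AlgSpLib.exists_factor_iff hj _).2 (by
      rw [AlgSpLib.range_openSubι]; exact Set.subset_biUnion_of_mem (u := fun k => Set.range (AlgSp.Points.map (bs k))) k.2)
  choose b₀ hb₀ using hb₀
  have sqW₀ : ∀ k, IsPullback ((AlgSp.yon S).map (rU k)) ((AlgSp.yon S).map (rV k)) f₀ (b₀ k) := fun k => by
    have hw : (AlgSp.yon S).map (rU k) ≫ f₀ = (AlgSp.yon S).map (rV k) ≫ b₀ k := (cancel_mono j).1 (by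
      rw [Category.assoc, Category.assoc, hf₀, hb₀]; exact (sqW k).w)
    have hc : ∀ c : PullbackCone f₀ (b₀ k), c.fst ≫ f = c.snd ≫ bs k.1 := fun c => by
      rw [← hf₀, ← hb₀ k, ← Category.assoc, c.condition, Category.assoc]
    exact ⟨⟨hw⟩, ⟨PullbackCone.IsLimit.mk _ (fun c => (sqW k).lift c.fst c.snd (hc c))
      (fun c => (sqW k).lift_fst _ _ _) (fun c => (sqW k).lift_snd _ _ _)
      (fun c m h1 h2 => (sqW k).hom_ext (by rw [h1, (sqW k).lift_fst]) (by rw [h2, (sqW k).lift_snd]))⟩⟩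
  have hb₀e : ∀ k, AlgSp.RepWith @Etale (b₀ k) := fun k =>
    AlgSpLib.repWith_of_isPullback (fst := 𝟙 _) (g := j) (by
      refine ⟨⟨by rw [Category.id_comp, hb₀]⟩, ⟨PullbackCone.IsLimit.mk _ (fun c => c.fst)
        (fun c => Category.comp_id _) (fun c => (cancel_mono j).1 (by
          rw [Category.assoc, hb₀]; exact c.condition))
        (fun c m h1 _ => (Category.comp_id m).symm.trans h1)⟩⟩) (hbs k.1)
  let i₀ : (AlgSp.yon S).obj U ⟶ X₀ ⨯ (AlgSp.yon S).obj A' := prod.lift f₀ ((AlgSp.yon S).map φ)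
  have hi : i₀ ≫ prod.map j (𝟙 _) = prod.lift f ((AlgSp.yon S).map φ) := by
    apply Limits.prod.hom_ext <;> simp [i₀, hf₀]
  have hjA : AlgSp.RepWith @IsOpenImmersion (prod.map j (𝟙 ((AlgSp.yon S).obj A'))) :=
    AlgSpLib.repWith_of_isPullback (AlgSpFieldLib.isPullback_prod_left_map j) hj
  rw [show prod.lift f _ = i₀ ≫ prod.map j (𝟙 _) from hi.symm]
  refine AlgSpLib.repWith_comp ?_ (AlgSpLib.repWith_mono
    (fun _ _ g (_ : IsOpenImmersion g) => (inferInstance : IsImmersion g)) hjA)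
  -- the pieces
  have hP : AlgSp.IsAlgSpace (X₀ ⨯ (AlgSp.yon S).obj A') :=
    AlgSpLib.isAlgSpace_prod hX₀ (AlgSp.IsAlgSpace.yon_obj A')
  let g : ∀ k : t, (AlgSp.yon S).obj (Vs k.1 ⨯ A') ⟶ X₀ ⨯ (AlgSp.yon S).obj A' := fun k =>
    (PreservesLimitPair.iso (AlgSp.yon S) (Vs k.1) A').hom ≫ prod.map (b₀ k) (𝟙 _)
  have sqg : ∀ k, IsPullback ((AlgSp.yon S).map (prod.fst : Vs k.1 ⨯ A' ⟶ Vs k.1)) (g k) (b₀ k) prod.fst :=
    fun k => by
      refine IsPullback.of_iso (AlgSpFieldLib.isPullback_prod_left_map (Y := (AlgSp.yon S).obj A') (b₀ k))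
        (PreservesLimitPair.iso (AlgSp.yon S) (Vs k.1) A').symm (Iso.refl _) (Iso.refl _) (Iso.refl _)
        ?_ ?_ ?_ ?_
      · simp
      · simp only [g, Iso.refl_hom, Category.comp_id, Iso.symm_hom, Iso.inv_hom_id_assoc]
      · simp
      · simp
  refine AlgSpLib.repWith_imm_of_fppf (Or.inr (Or.inr rfl)) hP (fun k => AlgSp.IsAlgSpace.yon_obj _)
    (g := g) (AlgSpLib.isFppfCover_of_charts g (fun k => AlgSpLib.repWith_of_isPullback (sqg k) (hb₀e k)) fun z => ?_)
    (AlgSp.IsAlgSpace.yon_obj U) (q := fun k => (AlgSp.yon S).map (rU k))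
    (p := fun k => (AlgSp.yon S).map (prod.lift (rV k) (rU k ≫ φ))) (fun k => ?_) fun k => ?_
  · have : AlgSp.Points.map j (AlgSp.Points.map prod.fst z) ∈ O := by
      rw [← AlgSpLib.range_openSubι X.obj (W := O)]; exact ⟨_, rfl⟩
    obtain ⟨k, hk, w, hw⟩ := Set.mem_iUnion₂.1 this
    have hw' : AlgSp.Points.map (b₀ ⟨k, hk⟩) w = AlgSp.Points.map prod.fst z :=
      AlgSpLib.injective_map_of_mono j (by rw [← AlgSp.Points.map_comp, hb₀]; exact hw)
    obtain ⟨q, -, hq⟩ := AlgSpLib.exists_point_isPullback (sqg ⟨k, hk⟩) w z hw'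
    exact ⟨⟨k, hk⟩, q, hq⟩
  · refine IsPullback.of_bot ?_ ?_ (sqg k).flip
    · have e1 : i₀ ≫ prod.fst = f₀ := prod.lift_fst _ _
      have e2 : (AlgSp.yon S).map (prod.lift (rV k) (rU k ≫ φ)) ≫ (AlgSp.yon S).map prod.fst =
          (AlgSp.yon S).map (rV k) := by rw [← Functor.map_comp, prod.lift_fst]
      rw [e1, e2]
      exact sqW₀ k
    · apply Limits.prod.hom_ext
      · simp only [g, i₀, Category.assoc, prod.map_fst, prod.lift_fst]
        rw [(sqW₀ k).w, ← Category.assoc _ prod.fst, PreservesLimitPair.iso_hom, prodComparison_fst,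
          ← Category.assoc, ← Functor.map_comp, prod.lift_fst]
      · simp only [g, i₀, Category.assoc, prod.map_snd, prod.lift_snd, Category.comp_id,
          PreservesLimitPair.iso_hom, prodComparison_snd, ← Functor.map_comp]
  · refine (repWith_yon_map_iff (P := @IsImmersion) _).2 ?_
    exact hs k _ v A' φ (fun i => AffineSpace.coord S i)
      (fun i => AffineSpace.homOfVector_appTop_coord _ _ i) (hv k)

end Groth.Agent.S10042
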