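import Groth.Statements.S10045
import Groth.Agent.ThickQuotLib.Mor
-- import your own Groth.Agent.* helpers here

set_option autoImplicit false
universe u
open CategoryTheory CategoryTheory.Limits AlgebraicGeometry
open AlgSp

namespace Groth.Agent.S10045

/-- Let `X` be an algebraic space over `S` and `X_red ⟶ X` its reduction (the reduced closed subspace
with the same points). If `X_red` is a scheme, then `X` is a scheme. -/
theorem result (S : Scheme.{u}) (X Z : AlgSp.Space S) (i : Z ⟶ X)
    (hi : AlgSp.IsRedInduced Set.univ i.hom) (hZ : Z.obj.obj.IsRepresentable) : X.obj.obj.IsRepresentable := by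
  obtain ⟨U, ⟨e⟩⟩ := hZ.has_representation
  have hs : AlgSp.RepWith @Surjective i.hom := (AlgSpLib.repWith_surjective_iff hi.1.rep).2 fun x => by
    have : x ∈ Set.range (AlgSp.Points.map i.hom) := hi.2.1 ▸ Set.mem_univ x
    exact this
  have ht : AlgSp.IsThickMor i.hom :=
    ⟨hi.1.rep, fun T W g fst snd sq => ⟨hi.1.property g fst snd sq, hs.property g fst snd sq⟩⟩
  obtain ⟨M, ⟨eM⟩⟩ := ThickQuotLib.isRepSh_of_thick Z.property X.property ht ⟨U, ⟨AlgSp.isoOfRepresentableBy e⟩⟩
  exact (AlgSp.representableByOfIso eM).isRepresentable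

end Groth.Agent.S10045
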