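import Groth.Statements.S10049
import Groth.Agent.MonoPtLib.MinClosed

set_option autoImplicit false
set_option backward.isDefEq.respectTransparency false
set_option backward.isDefEq.respectTransparency.types false
universe u
open CategoryTheory CategoryTheory.Limits AlgebraicGeometry
open AlgSp

namespace Groth.Agent.S10049

/-- Let `X` be an algebraic space, quasi-compact and quasi-separated over the scheme `S`, which is not a
scheme. Then there is a closed subspace `Z ⊂ X` which is not a scheme such that every proper closed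
subspace `Z' ⊊ Z` is a scheme. (The published statement allows any base scheme and uses absolute
quasi-separatedness; this row assumes the base quasi-separated, over which quasi-separatedness
relative to the base is the absolute notion.) -/
theorem result (S : Scheme.{u}) [QuasiSeparatedSpace S]
    (X : AlgSp.Space S) (hXqc : AlgSp.IsQuasiCompactSp X.obj) (hXqs : AlgSp.IsQuasiSeparatedSp X.obj) (hX : ¬ X.obj.obj.IsRepresentable) :
    ∃ (Z : AlgSp.Space S) (i : Z ⟶ X), AlgSp.RepWith @IsClosedImmersion i.hom ∧ ¬ Z.obj.obj.IsRepresentable ∧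
      ∀ (Z' : AlgSp.Space S) (i' : Z' ⟶ Z), AlgSp.RepWith @IsClosedImmersion i'.hom → ¬ IsIso i' → Z'.obj.obj.IsRepresentable := by
  obtain ⟨E, b, hE, hb, hbs⟩ := AlgSpLib.exists_affine_chart hXqc
  haveI := hE
  obtain ⟨Z, ζ, hζ, hnZ, hmin⟩ :=
    Groth.Agent.MonoPtLib.exists_minimal_nonSch b hb hbs X.property hXqc hXqs hX
  let Z₁ : AlgSp.Space S := ⟨Z, AlgSpLib.isAlgSpace_of_representable X.property ζ hζ.rep⟩
  refine ⟨Z₁, ObjectProperty.homMk ζ, hζ, hnZ, fun Z' i' hi' hniso => hmin Z'.obj i'.hom hi' fun h => hniso ?_⟩
  haveI : IsIso ((ObjectProperty.ι (AlgSp.IsAlgSpace (S := S))).map i') := h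
  exact isIso_of_reflects_iso i' (ObjectProperty.ι (AlgSp.IsAlgSpace (S := S)))


end Groth.Agent.S10049
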