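import Groth.Statements.S10050
import Groth.Agent.MinNonSchLib.Main
import Groth.Agent.ThickQuotLib.Scheme
import Groth.Agent.AlgSpRegLib.CutByApps


set_option autoImplicit false
set_option backward.isDefEq.respectTransparency false
set_option backward.isDefEq.respectTransparency.types false
universe u
open CategoryTheory CategoryTheory.Limits AlgebraicGeometry
open AlgSp

namespace Groth.Agent.S10050

/-- Let `X` be an algebraic space, quasi-compact and quasi-separated over the scheme `S`, which is not a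
scheme although every proper closed subspace of `X` is one. Then `X` is reduced and irreducible.
(The published statement allows any base scheme and uses absolute quasi-separatedness; this row
assumes the base quasi-separated, over which quasi-separatedness relative to the base is the
absolute notion.) -/
theorem result (S : Scheme.{u}) [QuasiSeparatedSpace S]
    (X : AlgSp.Space S) (hXqc : AlgSp.IsQuasiCompactSp X.obj) (hXqs : AlgSp.IsQuasiSeparatedSp X.obj) (hX : ¬ X.obj.obj.IsRepresentable)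
    (hmin : ∀ (Z : AlgSp.Space S) (i : Z ⟶ X), AlgSp.RepWith @IsClosedImmersion i.hom → ¬ IsIso i → Z.obj.obj.IsRepresentable) :
    AlgSp.IsReducedSp X.obj ∧ IrreducibleSpace (AlgSp.Points X.obj) := by
  classical
  have hrep : ∀ {F : AlgSp.Sp S}, F.obj.IsRepresentable → AlgSpLib.IsRepSh F := fun {F} h => by
    obtain ⟨T, ⟨e⟩⟩ := h.has_representation
    exact ⟨T, ⟨AlgSp.isoOfRepresentableBy e⟩⟩
  have hX' : ¬ AlgSpLib.IsRepSh X.obj := fun ⟨T, ⟨e⟩⟩ => hX (AlgSp.representableByOfIso e).isRepresentable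
  have hsub : ∀ {Z : AlgSp.Sp S} (hZ : IsAlgSpace Z) (i : Z ⟶ X.obj), AlgSp.RepWith @IsClosedImmersion i →
      ¬ IsIso i → AlgSpLib.IsRepSh Z := fun {Z} hZ i hi hn =>
    hrep (hmin ⟨Z, hZ⟩ (ObjectProperty.homMk i) hi fun h => hn
      (inferInstanceAs (IsIso ((ObjectProperty.ι (AlgSp.IsAlgSpace (S := S))).map (ObjectProperty.homMk i : (⟨Z, hZ⟩ : AlgSp.Space S) ⟶ X)))))
  obtain ⟨Z, i, hZ, hi, hrange, hZr⟩ := AlgSpRegLib.exists_isRedInduced X.property Set.univ isClosed_univ
  have hr : AlgSp.IsReducedSp X.obj := by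
    by_cases h : IsIso i
    · obtain ⟨U, p, hp, hps, hU⟩ := hZr
      exact ⟨U, p ≫ i, AlgSpLib.repWith_comp hp (AlgSpLib.repWith_of_isIso i),
        AlgSpLib.repWith_comp hps (AlgSpLib.repWith_of_isIso i), hU⟩
    · refine (hX' (ThickQuotLib.isRepSh_of_thick hZ X.property ⟨hi.rep, fun T W g fst snd sq => ?_⟩
        (hsub hZ i hi h))).elim
      refine ⟨hi.property g fst snd sq, ⟨fun t => ?_⟩⟩
      have h1 : AlgSp.Points.map g (AlgSp.Points.schemeHomeo T t) ∈ Set.range (AlgSp.Points.map i) := by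
        rw [hrange]; trivial
      obtain ⟨z, hz⟩ := h1
      obtain ⟨w, -, hw⟩ := AlgSpLib.exists_point_isPullback sq z _ hz
      obtain ⟨w, rfl⟩ := (AlgSp.Points.schemeHomeo W).surjective w
      rw [AlgSp.Points.map_yon_map_apply] at hw
      exact ⟨w, (AlgSp.Points.schemeHomeo T).injective hw⟩
  refine ⟨hr, ?_⟩
  haveI : Nonempty (AlgSp.Points X.obj) := by
    by_contra hne
    refine hX' (AlgSpLib.isRepSh_of_openCover (ι := PEmpty.{u + 1}) (W := fun i => i.elim) (fun i => i.elim)
      (fun i => i.elim) fun T b t => ?_)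
    exact (hne ⟨AlgSp.Points.ofPt b t⟩).elim
  haveI : PreirreducibleSpace (AlgSp.Points X.obj) := by
    refine ⟨isPreirreducible_iff_isClosed_union_isClosed.2 fun z1 z2 h1 h2 h12 => ?_⟩
    by_contra hn
    obtain ⟨n1, n2⟩ := not_or.1 hn
    have key : ∀ z : Set (AlgSp.Points X.obj), IsClosed z → ¬ Set.univ ⊆ z → ∃ (T : Over S)
        (b : (AlgSp.yon S).obj T ⟶ X.obj), AlgSp.RepWith @IsClosedImmersion b ∧
          Set.range (AlgSp.Points.ofPt b) = z := by
      intro z hz hne
      obtain ⟨Z', i', hZ', hi', hrange', -⟩ := AlgSpRegLib.exists_isRedInduced X.property z hz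
      have hni : ¬ IsIso i' := fun h => hne fun x _ => by
        rw [← hrange']
        exact ⟨AlgSp.Points.map (inv i') x, by rw [← AlgSp.Points.map_comp, IsIso.inv_hom_id]; exact AlgSp.Points.map_id x⟩
      obtain ⟨T, ⟨e⟩⟩ := hsub hZ' i' hi' hni
      refine ⟨T, e.hom ≫ i', AlgSpLib.repWith_comp (AlgSpLib.repWith_of_isIso e.hom) hi', ?_⟩
      rw [AlgSpLib.range_ofPt, ← hrange']
      ext x
      constructor
      · rintro ⟨y, rfl⟩
        exact ⟨AlgSp.Points.map e.hom y, (AlgSp.Points.map_comp e.hom i' y).symm⟩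
      · rintro ⟨y, rfl⟩
        exact ⟨AlgSp.Points.map e.inv y, by rw [← AlgSp.Points.map_comp, e.inv_hom_id_assoc]⟩
    obtain ⟨T1, b1, hb1, e1⟩ := key z1 h1 n1
    obtain ⟨T2, b2, hb2, e2⟩ := key z2 h2 n2
    exact hX' (MinNonSchLib.isRepSh_of_union X.property hr hb1 hb2 fun x => by
      rw [e1, e2]; exact h12 (Set.mem_univ x))
  exact ⟨inferInstance⟩

end Groth.Agent.S10050
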