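import Groth.Statements.S10053
import Groth.Agent.AlgSpLib.UnivClosed

set_option autoImplicit false
universe u
open CategoryTheory CategoryTheory.Limits AlgebraicGeometry
open AlgSp

namespace Groth.Agent.S10053
open AlgSpLib

/-- For a quasi-compact morphism `f : X ⟶ Y` of algebraic spaces over `S` these conditions are
equivalent: (1) `f` is universally closed; (2) for every `Z ⟶ Y` locally of finite presentation,
with `Z` an algebraic space, the map `|X ×_Y Z| → |Z|` is closed; (3) for some scheme `V` with a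
surjective etale morphism `V ⟶ Y`, the maps `|X ×_Y 𝐀^n_V| → |𝐀^n_V|` are closed for all `n`. Stated
as (1) ↔ (2) and (1) ↔ (3). -/
theorem result (S : Scheme.{u}) {X Y : AlgSp.Space S} (f : X ⟶ Y)
    (hqc : AlgSp.IsQuasiCompactMor f.hom) :
    (AlgSp.IsUnivClosedMor f.hom ↔
      ∀ (Z : AlgSp.Space S) (g : Z ⟶ Y), AlgSp.LocP @LocallyOfFinitePresentation g.hom →
        ∀ (P : AlgSp.Sp S) (fst : P ⟶ X.obj) (snd : P ⟶ Z.obj), IsPullback fst snd f.hom g.hom →
          IsClosedMap (AlgSp.Points.map snd)) ∧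
    (AlgSp.IsUnivClosedMor f.hom ↔
      ∃ (V : Over S) (p : (AlgSp.yon S).obj V ⟶ Y.obj), AlgSp.RepWith @Etale p ∧ AlgSp.RepWith @Surjective p ∧
        ∀ (n : ℕ) (P : AlgSp.Sp S) (fst : P ⟶ X.obj)
          (snd : P ⟶ (AlgSp.yon S).obj (Over.mk ((𝔸(ULift.{u} (Fin n); V.left) ↘ V.left) ≫ V.hom))),
          IsPullback fst snd f.hom ((AlgSp.yon S).map (Over.homMk (𝔸(ULift.{u} (Fin n); V.left) ↘ V.left)) ≫ p) →
            IsClosedMap (AlgSp.Points.map snd)) := by
  refine ⟨⟨fun h Z g _ P fst snd sq => h Z.property g.hom fst snd sq, fun h => ?_⟩, ⟨fun h => ?_, ?_⟩⟩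
  · obtain ⟨V, p, hp, hps⟩ := Y.property.atlas
    refine isUnivClosedMor_of_affineSpace X.property Y.property hqc p hp hps fun n P fst snd sq => ?_
    let An : Over S := Over.mk ((𝔸(ULift.{u} (Fin n); V.left) ↘ V.left) ≫ V.hom)
    let q : An ⟶ V := Over.homMk (𝔸(ULift.{u} (Fin n); V.left) ↘ V.left)
    have hq : LocallyOfFinitePresentation q.left :=
      inferInstanceAs (LocallyOfFinitePresentation (𝔸(ULift.{u} (Fin n); V.left) ↘ V.left))
    refine h ⟨(AlgSp.yon S).obj An, AlgSp.IsAlgSpace.yon_obj An⟩ (ObjectProperty.homMk ((AlgSp.yon S).map q ≫ p)) ?_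
      P fst snd sq
    exact locP_comp (AlgSp.IsAlgSpace.yon_obj An) (AlgSp.IsAlgSpace.yon_obj V) Y.property
      ((locP_yon_map_iff (P := @LocallyOfFinitePresentation) q).2 hq)
      (locP_of_repWith (repWith_mono (fun _ _ g (_ : Etale g) => (inferInstance : LocallyOfFinitePresentation g)) hp))
  · obtain ⟨V, p, hp, hps⟩ := Y.property.atlas
    exact ⟨V, p, hp, hps, fun n P fst snd sq => h (AlgSp.IsAlgSpace.yon_obj _) _ fst snd sq⟩
  · rintro ⟨V, p, hp, hps, h⟩
    exact isUnivClosedMor_of_affineSpace X.property Y.property hqc p hp hps h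

end Groth.Agent.S10053
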