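import Groth.Statements.S10054
import Groth.Agent.UCValLib.Dvr
import Groth.Agent.AlgSpLib.ValRefined

set_option backward.isDefEq.respectTransparency false
set_option backward.isDefEq.respectTransparency.types false

set_option autoImplicit false
universe u
open CategoryTheory CategoryTheory.Limits AlgebraicGeometry
open AlgSp

namespace Groth.Agent.S10054

/-- Let `f : X ⟶ Y` be a morphism of finite type of algebraic spaces over `S` with `Y` locally
Noetherian, and `y ∈ |Y|` a point lying in the closure of `f`'s image on points. Then one can find a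
discrete valuation ring `A` with fraction field `K` and a commutative square `Spec K ⟶ X`, `Spec A ⟶
Y` (over `f` and `Spec K ⟶ Spec A`) sending the closed point of `Spec A` to `y`. (The refinement
that the `K`-point may be taken at a codimension-0 point with `K` a residue field of an etale chart
is not included.) -/
theorem result (S : Scheme.{u}) {X Y : AlgSp.Space S} (f : X ⟶ Y)
    (hft : AlgSp.IsFiniteTypeMor f.hom) (hY : AlgSp.IsLocNoethSp Y.obj) (y : AlgSp.Points Y.obj)
    (hy : y ∈ closure (Set.range (AlgSp.Points.map f.hom))) :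
    ∃ (A : Type u) (_ : CommRing A) (_ : IsDomain A) (_ : IsDiscreteValuationRing A)
      (a : Spec (CommRingCat.of A) ⟶ S)
      (α : (AlgSp.yon S).obj (Over.mk a) ⟶ Y.obj)
      (κ : (AlgSp.yon S).obj (Over.mk (Spec.map (CommRingCat.ofHom (algebraMap A (FractionRing A))) ≫ a)) ⟶ X.obj),
      κ ≫ f.hom = (AlgSp.yon S).map (Over.homMk (Spec.map (CommRingCat.ofHom (algebraMap A (FractionRing A))))) ≫ α ∧
      AlgSp.Points.map α (AlgSp.Points.schemeEquiv (Over.mk a) (IsLocalRing.closedPoint A)) = y := by
  obtain ⟨_, Vs, as, hVs, has, hao, hacov⟩ := AlgSpLib.exists_affine_charts Y.property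
  obtain ⟨i, hi⟩ := hacov y
  rw [← AlgSpLib.range_ofPt] at hi
  obtain ⟨v, hv⟩ := hi
  haveI := hVs i
  let V := Vs i
  let a := as i
  haveI : IsLocallyNoetherian V.left := AlgSpLib.isLocallyNoetherian_of_chart hY (has i)
  haveI : IsNoetherianRing Γ(V.left, ⊤) := IsLocallyNoetherian.component_noetherian ⟨⊤, isAffineOpen_top _⟩
  have sq := IsPullback.of_hasPullback f.hom a
  have hV := IsAlgSpace.yon_obj (S := S) V
  obtain ⟨W, c, hW, hc, hcs⟩ := AlgSpLib.exists_affine_chart
    (hft.2 hV (AlgSpLib.isQuasiCompactSp_yon V) a _ _ sq)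
  haveI := hW
  obtain ⟨ψ, hψ⟩ := (yon S).map_surjective (c ≫ pullback.snd f.hom a)
  haveI : LocallyOfFiniteType ψ.left :=
    AlgSpLib.locP_of_isPullback X.property Y.property hV sq hft.1 c (𝟙 _) ψ hc (repWith_id _ _)
      (by rw [hψ, Category.comp_id])
  have hsub : Points.ofPt a ⁻¹' Set.range (Points.map f.hom) ⊆ ψ.left '' Set.univ := by
    rintro v' ⟨x, hx⟩
    obtain ⟨q, -, hq⟩ := AlgSpLib.exists_point_isPullback sq x (Points.schemeHomeo V v')
      (hx.trans (congrFun (AlgSpLib.ofPt_comp_ofScheme a) v'))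
    obtain ⟨w, hw⟩ := AlgSpLib.surjective_ofPt hcs q
    refine ⟨w, trivial, ?_⟩
    have := congrArg (Points.toScheme V) hq
    rw [← hw, Points.map_ofPt, ← hψ, Points.toScheme_ofPt] at this
    exact this.trans ((Points.schemeHomeo V).symm_apply_apply v')
  have hcl : v ∈ closure (ψ.left '' Set.univ) := closure_mono hsub
    ((AlgSpLib.isOpenMap_ofPt (has i)).preimage_closure_subset_closure_preimage
      (show Points.ofPt a v ∈ closure (Set.range (Points.map f.hom)) from hv.symm ▸ hy))
  obtain ⟨w, -, hw⟩ := UCValLib.exists_specializes_of_mem_closure ψ.left isClosed_univ hcl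
  obtain ⟨R, _, _, _, uK, btD, huK, -, hbt⟩ := UCValLib.exists_dvr_realizing ψ.left w v hw
  let sR : Spec (CommRingCat.of R) ⟶ S := btD ≫ V.hom
  let oU : Over.mk (Spec.map (CommRingCat.ofHom (algebraMap R (FractionRing R))) ≫ sR) ⟶ W :=
    Over.homMk uK (by
      change uK ≫ W.hom = Spec.map _ ≫ btD ≫ V.hom
      rw [← Over.w ψ, reassoc_of% huK])
  let bt : Over.mk sR ⟶ V := Over.homMk btD rfl
  refine ⟨R, inferInstance, inferInstance, inferInstance, sR, (yon S).map bt ≫ a,
    (yon S).map oU ≫ c ≫ pullback.fst f.hom a, ?_, ?_⟩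
  · rw [Category.assoc, Category.assoc, pullback.condition, ← reassoc_of% hψ, ← Functor.map_comp_assoc,
      ← Functor.map_comp_assoc]
    congr 2
    exact Over.OverMorphism.ext huK
  · rw [← hv]
    refine Eq.trans ?_ (congrArg (Points.ofPt a) hbt)
    exact ((congrFun (AlgSpLib.ofPt_comp_ofScheme ((yon S).map bt ≫ a)) _).symm).trans
      (AlgSpLib.ofPt_yon_comp bt a _)

end Groth.Agent.S10054
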