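import Groth.Statements.S10055
import Groth.Agent.MonoPtLib.LimAffine


set_option autoImplicit false
set_option backward.isDefEq.respectTransparency false
set_option backward.isDefEq.respectTransparency.types false
universe u
open CategoryTheory CategoryTheory.Limits AlgebraicGeometry
open AlgSp

namespace Groth.Agent.S10055

/-- Let `(X_i) ⟶ (Y_i)` be a morphism of cofiltered systems of algebraic spaces over `S`, both with
affine transition morphisms, with every `X_i ⟶ Y_i` a closed immersion. Then the induced morphism of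
limits (in fppf sheaves) `lim X_i ⟶ lim Y_i` is a closed immersion. -/
theorem result (S : Scheme.{u}) {I : Type u} [SmallCategory I] [IsCofiltered I]
    (DX DY : I ⥤ AlgSp.Sp S) (hDX : ∀ i, AlgSp.IsAlgSpace (DX.obj i)) (hDY : ∀ i, AlgSp.IsAlgSpace (DY.obj i))
    (hXa : ∀ (i j : I) (φ : i ⟶ j), AlgSp.IsAffineMor (DX.map φ)) (hYa : ∀ (i j : I) (φ : i ⟶ j), AlgSp.IsAffineMor (DY.map φ))
    (τ : DX ⟶ DY) (hτ : ∀ i, AlgSp.RepWith @IsClosedImmersion (τ.app i))
    (cX : Cone DX) (hcX : IsLimit cX) (cY : Cone DY) (hcY : IsLimit cY)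
    (g : cX.pt ⟶ cY.pt) (hg : ∀ i, g ≫ cY.π.app i = cX.π.app i ≫ τ.app i) :
    AlgSp.RepWith @IsClosedImmersion g := by
  refine AlgSpLib.repWith_of_affine fun Z hZ z => ?_
  obtain ⟨W, cW, i, fst, p, q, ⟨hcW⟩, haff, hW, sqj, hi, -, sq⟩ :=
    MonoPtLib.exists_pullback_limit τ (fun j => AlgSpLib.isAffineMor_iff.2
      (AlgSpLib.repWith_mono (fun _ _ u (_ : IsClosedImmersion u) =>
        (inferInstance : IsAffineHom u)) (hτ j))) hcX hcY g hg hZ z
  refine ⟨cW.pt, i, fst, sq, haff, ?_⟩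
  haveI := haff
  haveI : IsAffine Z.left := hZ
  haveI hV : ∀ j, IsAffine ((W ⋙ Over.forget S).obj j) := hW
  obtain ⟨hl⟩ := MonoPtLib.scheme_isLimit hcW
  refine IsClosedImmersion.of_surjective_of_isAffine i.left fun s => ?_
  obtain ⟨j, t, ht⟩ := exists_appTop_π_eq_of_isAffine_of_isLimit _ _ hl s
  haveI : IsAffine (W.obj j).left := hW j
  haveI : IsClosedImmersion (p j).left := (hτ j).2 _ _ _ (sqj j)
  obtain ⟨r, hr⟩ := ((IsClosedImmersion.isAffine_surjective_of_isAffine (p j).left).2) t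
  refine ⟨r, ?_⟩
  rw [← hi j, Over.comp_left, Scheme.Hom.comp_appTop, CommRingCat.comp_apply, hr]
  exact ht

end Groth.Agent.S10055
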