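import Groth.Statements.S10056
import Groth.Agent.MonoPtLib.LimAffine
import Groth.Agent.AlgSpLib.Reduced


set_option autoImplicit false
set_option backward.isDefEq.respectTransparency false
set_option backward.isDefEq.respectTransparency.types false
universe u
open CategoryTheory CategoryTheory.Limits AlgebraicGeometry
open AlgSp

namespace Groth.Agent.S10056

theorem isReduced_limit {S : Scheme.{u}} {J : Type u} [SmallCategory J] [IsCofiltered J]
    (W : J ⥤ Over S) (hW : ∀ j, IsAffine (W.obj j).left) [∀ j, IsReduced (W.obj j).left]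
    (cW : Cone W) (hcW : IsLimit cW) (haff : IsAffine cW.pt.left) : IsReduced cW.pt.left := by
  haveI := haff
  haveI hV : ∀ j, IsAffine ((W ⋙ Over.forget S).obj j) := hW
  obtain ⟨hl⟩ := MonoPtLib.scheme_isLimit hcW
  haveI : _root_.IsReduced Γ(cW.pt.left, ⊤) := ⟨fun s ⟨n, hn⟩ => by
    obtain ⟨j, t, ht⟩ := exists_appTop_π_eq_of_isAffine_of_isLimit _ _ hl s
    subst ht
    obtain ⟨k, φ, hk⟩ := exists_appTop_map_eq_zero_of_isAffine_of_isLimit _ _ hl j (t ^ n)
      (by rw [map_pow]; exact hn)
    rw [map_pow] at hk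
    haveI : IsReduced ((W ⋙ Over.forget S).obj k) := inferInstanceAs (IsReduced (W.obj k).left)
    have h0 := IsReduced.eq_zero _ ⟨n, hk⟩
    rw [← ((Over.forget S).mapCone cW).w φ, Scheme.Hom.comp_appTop, CommRingCat.comp_apply, h0,
      map_zero]⟩
  exact isReduced_of_isAffine_isReduced _



/-- Let `X` be the limit, in fppf sheaves over `S`, of a cofiltered system `(X_i)` of algebraic spaces
over `S` whose transition maps are affine. If each `X_i` is reduced, then `X` is reduced. (The
published statement does not restate that the transition morphisms are affine; the limit it refers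
to is formed under that assumption, which this row states.) -/
theorem result (S : Scheme.{u}) {I : Type u} [SmallCategory I] [IsCofiltered I]
    (D : I ⥤ AlgSp.Sp S) (hD : ∀ i, AlgSp.IsAlgSpace (D.obj i))
    (hDa : ∀ (i j : I) (φ : i ⟶ j), AlgSp.IsAffineMor (D.map φ))
    (c : Cone D) (hc : IsLimit c)
    (hred : ∀ i, AlgSp.IsReducedSp (D.obj i)) : AlgSp.IsReducedSp c.pt := by
  obtain ⟨i₀⟩ := (IsCofiltered.nonempty : Nonempty I)
  obtain ⟨V, a, ha, has⟩ := (hD i₀).atlas
  have hπ := AlgSpLib.isAffineMor_iff.1 (MonoPtLib.isAffineMor_proj D hDa hc i₀)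
  obtain ⟨U, sn, fs, sq⟩ : ∃ (U : Over S) (sn : U ⟶ V) (fs : (yon S).obj U ⟶ c.pt),
      IsPullback fs ((yon S).map sn) (c.π.app i₀) a := ⟨_, _, _, hπ.rep.isPullback a⟩
  refine ⟨U, fs, AlgSpLib.repWith_of_isPullback sq.flip ha,
    AlgSpLib.repWith_of_isPullback sq.flip has, ?_⟩
  let 𝒰 := V.left.affineCover
  haveI : ∀ k, IsReduced ((𝒰.pullback₁ sn.left).X k) := fun k => by
    let Z : Over S := Over.mk (𝒰.f k ≫ V.hom)
    let jk : Z ⟶ V := Over.homMk (𝒰.f k) rfl
    have hZ : IsAffine Z.left := inferInstanceAs (IsAffine (𝒰.X k))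
    have sqk : IsPullback ((yon S).map (pullback.fst sn jk)) ((yon S).map (pullback.snd sn jk))
        ((yon S).map sn) ((yon S).map jk) := (IsPullback.of_hasPullback sn jk).map (yon S)
    obtain ⟨⟨h1⟩, ⟨h2⟩, h3⟩ := MonoPtLib.limit_over_data D hc i₀
    obtain ⟨W, cW, i, fst, p, q, ⟨hcW⟩, haff, hW, sqj, -, -, sqW⟩ :=
      MonoPtLib.exists_pullback_limit (MonoPtLib.overNat D i₀) (fun l => hDa _ _ l.hom) h1 h2
        (c.π.app i₀) h3 hZ ((yon S).map jk ≫ a)
    haveI : ∀ l, IsReduced (W.obj l).left := fun l =>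
      AlgSpLib.isReduced_of_chart (hred l.left) (a := q l)
        (AlgSpLib.repWith_of_isPullback (sqj l).flip (by
          change RepWith @Etale (((yon S).map jk ≫ a) ≫ 𝟙 _)
          rw [Category.comp_id]
          exact AlgSpLib.repWith_comp ((repWith_yon_map_iff _ _).2
            (inferInstanceAs (Etale (𝒰.f k)))) ha))
    haveI : IsReduced cW.pt.left := isReduced_limit W hW cW hcW haff
    obtain ⟨d, -⟩ : ∃ d : (pullback sn jk) ≅ cW.pt, True :=
      ⟨(yon S).preimageIso ((sqk.paste_horiz sq).isoIsPullback _ _ sqW), trivial⟩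
    haveI : IsReduced ((Over.forget S).obj cW.pt) := inferInstanceAs (IsReduced cW.pt.left)
    haveI : IsReduced ((Over.forget S).obj (pullback sn jk)) :=
      isReduced_of_isOpenImmersion ((Over.forget S).mapIso d).hom
    exact isReduced_of_isOpenImmersion
      ((IsPullback.of_hasPullback sn.left (𝒰.f k)).isoIsPullback _ _
        ((IsPullback.of_hasPullback sn jk).map (Over.forget S))).hom
  exact IsReduced.of_openCover _ (𝒰.pullback₁ sn.left)

end Groth.Agent.S10056
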