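import Groth.Statements.S10061
import Groth.Agent.MonoPtLib.LimFiniteApps


set_option autoImplicit false
set_option backward.isDefEq.respectTransparency false
set_option backward.isDefEq.respectTransparency.types false
universe u
open CategoryTheory CategoryTheory.Limits AlgebraicGeometry
open AlgSp

namespace Groth.Agent.S10061

/-- Let `S` be a quasi-separated scheme, `Y` an algebraic space over `S` which is quasi-compact and
quasi-separated over `S`, and `X` the limit, in fppf sheaves, of a cofiltered system `(X_i)` of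
algebraic spaces over `Y`, each quasi-compact and quasi-separated over `S`, whose transition maps
are finite. If each `X_i ⟶ Y` is locally of finite type and `X ⟶ Y` is integral, then `X_i ⟶ Y` is
finite for all `i` mapping to some `i₀`. (The published statement allows any base scheme and uses
absolute quasi-separatedness; this row assumes the base quasi-separated, over which
quasi-separatedness relative to the base is the absolute notion.) -/
theorem result (S : Scheme.{u}) [QuasiSeparatedSpace S] {I : Type u} [SmallCategory I] [IsCofiltered I]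
    (Y : AlgSp.Space S) (D : I ⥤ AlgSp.Sp S) (hD : ∀ i, AlgSp.IsAlgSpace (D.obj i))
    (t : D ⟶ (Functor.const I).obj Y.obj)
    (hDf : ∀ (i j : I) (φ : i ⟶ j), AlgSp.IsFiniteMor (D.map φ))
    (c : Cone D) (hc : IsLimit c) (g : c.pt ⟶ Y.obj) (hg : ∀ i, c.π.app i ≫ t.app i = g)
    (hqc : ∀ i, AlgSp.IsQuasiCompactSp (D.obj i)) (hqs : ∀ i, AlgSp.IsQuasiSeparatedSp (D.obj i))
    (hYqc : AlgSp.IsQuasiCompactSp Y.obj) (hYqs : AlgSp.IsQuasiSeparatedSp Y.obj)
    (hft : ∀ i, AlgSp.LocP @LocallyOfFiniteType (t.app i)) (hX : AlgSp.IsIntegralMor g) :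
    ∃ i₀ : I, ∀ (i : I) (_ : i ⟶ i₀), AlgSp.IsFiniteMor (t.app i) := by
  obtain ⟨i₀, h⟩ := MonoPtLib.eventually_affine_prop (P := @IsFinite) (T := @IsFinite) (R := @IsIntegralHom)
    (fun _ _ u (_ : IsFinite u) => (inferInstance : IsAffineHom u))
    (fun _ _ u (_ : IsFinite u) => (inferInstance : IsAffineHom u))
    le_rfl
    (fun _ _ u (_ : IsIntegralHom u) => (inferInstance : IsAffineHom u))
    (fun W cW hcW hW V hV p hp hl i hi hT hR => by
      haveI := hV; haveI : IsIntegralHom i := hR
      exact MonoPtLib.exists_finite_stage hcW hW p hp hl i hi hT)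
    Y.obj Y.property D hD t (fun i j φ => AlgSpLib.isFiniteMor_iff.1 (hDf i j φ)) c hc g hg hqc hqs
    hYqc hYqs hft (AlgSpLib.isIntegralMor_iff.1 hX)
  exact ⟨i₀, fun i φ => AlgSpLib.isFiniteMor_iff.2 (h i φ)⟩

end Groth.Agent.S10061
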