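import Groth.Statements.S10496
import Groth.Agent.AlgSpRegLib.CutByApps
import Groth.Agent.AlgSpLib.DecentBasic
import Groth.Agent.AlgSpLib.UnivClosed
import Groth.Agent.AlgSpLib.MonoRep
-- import your own Groth.Agent.* helpers here

set_option autoImplicit false
universe u
open CategoryTheory CategoryTheory.Limits AlgebraicGeometry Topology TopologicalSpace
open AlgSp

namespace Groth.Agent.S10496

/-- Let X be a decent algebraic space over a scheme S. For every irreducible closed subset T of |X|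
there is an integral closed subspace Z of X with |Z| = T. -/
theorem result {S : Scheme.{u}} (X : AlgSp.Space S)
    (hX : AlgSp.IsDecent X.obj) (T : Set (AlgSp.Points X.obj)) (hT : IsClosed T) (hTi : IsIrreducible T) :
    ∃ (Z : AlgSp.Space S) (i : Z ⟶ X), AlgSp.RepWith @IsClosedImmersion i.hom ∧ AlgSp.IsIntegralSp Z.obj ∧
      Set.range (AlgSp.Points.map i.hom) = T := by
  obtain ⟨Z, i, hZ, hi, hr, hred⟩ := AlgSpRegLib.exists_isRedInduced X.property T hT
  refine ⟨⟨Z, hZ⟩, ObjectProperty.homMk i, hi, ⟨hred, AlgSpLib.isDecent_of_representable i hi.1 hX, ?_⟩, hr⟩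
  haveI := AlgSpRegLib.mono_of_closedImmersion hi
  have huc := (AlgSpLib.closedImmersion_props hZ X.property hi).1
  have hcl : IsClosedMap (Points.map i) :=
    huc X.property (𝟙 _) (𝟙 _) i (IsPullback.of_horiz_isIso ⟨by simp⟩)
  have he : Topology.IsClosedEmbedding (Points.map i) := Topology.IsClosedEmbedding.of_continuous_injective_isClosedMap
    (Points.continuous_map i) (AlgSpLib.injective_map_of_mono i) hcl
  have hirr : IsIrreducible (Set.range (Points.map i)) := hr.symm ▸ hTi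
  haveI : Nonempty (Points Z) := by
    obtain ⟨x, z, -⟩ := hirr.1
    exact ⟨z⟩
  haveI : PreirreducibleSpace (Points Z) := ⟨by
    rintro u v hu hv ⟨a, -, ha⟩ ⟨b, -, hb⟩
    obtain ⟨u', hu', rfl⟩ := he.isInducing.isOpen_iff.1 hu
    obtain ⟨v', hv', rfl⟩ := he.isInducing.isOpen_iff.1 hv
    obtain ⟨_, ⟨z, rfl⟩, hz⟩ := hirr.2 u' v' hu' hv' ⟨_, ⟨a, rfl⟩, ha⟩ ⟨_, ⟨b, rfl⟩, hb⟩
    exact ⟨z, trivial, hz⟩⟩
  exact ⟨‹Nonempty (Points Z)›⟩

end Groth.Agent.S10496
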