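import Groth.Statements.S10076
import Groth.Agent.S10337
import Groth.Agent.S10496
import Groth.Agent.AlgSpGenFinLib.Basic
import Groth.Agent.AlgSpAffImmLib.Space
import Groth.Agent.AlgSpLib.UnivClosed
import Groth.Agent.AlgSpLib.DecentPoints
import Groth.Agent.AlgSpLib.DecentTop
import Groth.Agent.AlgSpLib.Sep
import Groth.Agent.AlgSpLib.Noeth
import Groth.Agent.AlgSpRegLib.ProperSub
-- import your own Groth.Agent.* helpers here

set_option autoImplicit false
set_option backward.isDefEq.respectTransparency false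
set_option backward.isDefEq.respectTransparency.types false
universe u
open CategoryTheory CategoryTheory.Limits AlgebraicGeometry
open AlgSp

namespace Groth.Agent.S10076

section
open AlgSpLib
variable {S : Scheme.{u}}

/-- Immersion can be tested after a surjection, for monomorphisms locally of finite type. -/
theorem isImmersion_of_surjective_comp {A B C : Scheme.{u}} (p : A ⟶ B) [Surjective p] (l : B ⟶ C) [Mono l]
    [LocallyOfFiniteType l] [IsImmersion (p ≫ l)] : IsImmersion l := by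
  have hr : Set.range (p ≫ l) = Set.range l := by
    rw [Scheme.Hom.comp_base, TopCat.coe_comp, Set.range_comp, p.surjective.range_eq, Set.image_univ]
  let O : C.Opens := ⟨coborder (Set.range l), (hr ▸ (p ≫ l).isLocallyClosed_range).isOpen_coborder⟩
  have hsub : Set.range l ⊆ (O : Set C) := subset_coborder
  let l' : B ⟶ O := IsOpenImmersion.lift O.ι l (by rw [Scheme.Opens.range_ι]; exact hsub)
  have hl' : l' ≫ O.ι = l := IsOpenImmersion.lift_fac _ _ _
  haveI : Mono l' := mono_of_mono_fac hl'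
  haveI : LocallyOfFiniteType (l' ≫ O.ι) := by rw [hl']; infer_instance
  haveI : LocallyOfFiniteType l' := locallyOfFiniteType_of_comp l' O.ι
  haveI : IsImmersion ((p ≫ l') ≫ O.ι) := by rw [Category.assoc, hl']; infer_instance
  haveI : IsImmersion (p ≫ l') := IsImmersion.of_comp _ O.ι
  haveI : IsClosedImmersion (p ≫ l') := by
    refine .of_isPreimmersion _ ?_
    rw [Scheme.Hom.comp_base, TopCat.coe_comp, Set.range_comp, p.surjective.range_eq, Set.image_univ]
    have : Set.range l' = (fun y : ↥(O : Set C) => (y : C)) ⁻¹' Set.range l := by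
      ext y
      constructor
      · rintro ⟨x, rfl⟩
        exact ⟨x, by rw [← hl']; rfl⟩
      · rintro ⟨x, hx⟩
        refine ⟨x, Subtype.ext ?_⟩
        refine Eq.trans ?_ hx
        rw [← hl']
        rfl
    rw [this]
    exact isClosed_preimage_val_coborder
  haveI : UniversallyClosed l' := .of_comp_surjective p l'
  haveI : IsClosedImmersion l' := (IsClosedImmersion.iff_isProper_and_mono l').2 ⟨{}, inferInstance⟩
  rw [← hl']
  infer_instance

/-- Immersion can be tested locally on the target after surjections. -/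
theorem isImmersion_of_local {W P : Scheme.{u}} (l : W ⟶ P) [Mono l] [LocallyOfFiniteType l] {κ : Type*}
    (O : κ → P.Opens) (hO : ⨆ i, O i = ⊤) (Q : κ → Scheme.{u}) (p : ∀ i, Q i ⟶ W)
    (hr : ∀ i, Set.range (p i) = (l ⁻¹' (O i : Set P))) [∀ i, IsImmersion (p i ≫ l)] : IsImmersion l := by
  refine IsZariskiLocalAtTarget.of_iSup_eq_top (P := @IsImmersion) O hO fun i => ?_
  let p' : Q i ⟶ (l ⁻¹ᵁ O i : Scheme) := IsOpenImmersion.lift (l ⁻¹ᵁ O i).ι (p i)
    (by rw [Scheme.Opens.range_ι, hr]; rfl)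
  have hp' : p' ≫ (l ⁻¹ᵁ O i).ι = p i := IsOpenImmersion.lift_fac _ _ _
  haveI : Surjective p' := ⟨fun y => by
    obtain ⟨x, hx⟩ := (hr i).ge (show ((l ⁻¹ᵁ O i).ι y) ∈ l ⁻¹' (O i : Set P) from y.2)
    refine ⟨x, (l ⁻¹ᵁ O i).ι.isOpenEmbedding.injective ?_⟩
    rw [← Scheme.Hom.comp_apply, hp', hx]⟩
  haveI : Mono (l ∣_ O i) := mono_of_mono_fac (h := (l ⁻¹ᵁ O i).ι ≫ l) (morphismRestrict_ι l (O i))
  haveI : IsImmersion ((p' ≫ (l ∣_ O i)) ≫ (O i).ι) := by
    rw [Category.assoc, morphismRestrict_ι, ← Category.assoc, hp']; infer_instance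
  haveI : IsImmersion (p' ≫ (l ∣_ O i)) := IsImmersion.of_comp _ (O i).ι
  exact isImmersion_of_surjective_comp p' _

/-- A morphism from a reduced scheme factors through an immersion containing its image. -/
theorem exists_factor_immersion {X : AlgSp.Sp S} {R T : Over S} [IsReduced R.left] (κ : (AlgSp.yon S).obj R ⟶ X)
    (j : (AlgSp.yon S).obj T ⟶ X) (hj : AlgSp.RepWith @IsImmersion j)
    (h : Set.range (AlgSp.Points.map κ) ⊆ Set.range (AlgSp.Points.map j)) :
    ∃ t : R ⟶ T, (AlgSp.yon S).map t ≫ j = κ := by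
  have sq := hj.rep.isPullback κ
  haveI : IsImmersion (hj.rep.snd κ).left := hj.property_snd κ
  haveI : Surjective (hj.rep.snd κ).left := ⟨fun r => by
    obtain ⟨w, hw⟩ := h ⟨AlgSp.Points.ofScheme R r, rfl⟩
    obtain ⟨q, -, hq⟩ := exists_point_isPullback sq w (AlgSp.Points.ofScheme R r) hw
    obtain ⟨q', rfl⟩ := (AlgSp.Points.schemeHomeo _).surjective q
    exact ⟨q', (AlgSp.Points.schemeHomeo R).injective ((AlgSp.Points.map_yon_map_apply _ q').symm.trans hq)⟩⟩
  haveI : IsClosedImmersion (hj.rep.snd κ).left :=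
    .of_isPreimmersion _ (by rw [(hj.rep.snd κ).left.surjective.range_eq]; exact isClosed_univ)
  haveI : IsIso (hj.rep.snd κ).left := isIso_of_isClosedImmersion_of_surjective _
  haveI : IsIso ((Over.forget S).map (hj.rep.snd κ)) := inferInstanceAs (IsIso (hj.rep.snd κ).left)
  haveI : IsIso (hj.rep.snd κ) := isIso_of_reflects_iso _ (Over.forget S)
  refine ⟨inv (hj.rep.snd κ) ≫ hj.rep.fst' κ, ?_⟩
  rw [Functor.map_comp, Category.assoc, hj.rep.map_fst', sq.w, ← Category.assoc, ← Functor.map_comp,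
    IsIso.inv_hom_id, CategoryTheory.Functor.map_id, Category.id_comp]

/-- The piece over an open of `U` mapping to a subscheme. -/
theorem exists_piece {X : AlgSp.Sp S} {U V R T : Over S} {f : (AlgSp.yon S).obj U ⟶ X}
    {b : (AlgSp.yon S).obj V ⟶ X} {jT : (AlgSp.yon S).obj T ⟶ X} (hjT : AlgSp.RepWith @IsImmersion jT)
    (r : R ⟶ U) [IsImmersion r.left] (t : R ⟶ T) (ht : (AlgSp.yon S).map t ≫ jT = (AlgSp.yon S).map r ≫ f)
    {W : Over S} {rU : W ⟶ U} {rV : W ⟶ V}
    (sqW : IsPullback ((AlgSp.yon S).map rU) ((AlgSp.yon S).map rV) f b) :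
    ∃ (Q : Over S) (p : Q ⟶ W), Set.range p.left = rU.left ⁻¹' Set.range r.left ∧
      IsImmersion (p ≫ prod.lift rU rV).left := by
  let P := hjT.rep.pullback b
  obtain ⟨pT, hpT⟩ := (AlgSp.yon S).map_surjective (hjT.rep.fst b)
  let pV : P ⟶ V := hjT.rep.snd b
  have sqP : IsPullback ((AlgSp.yon S).map pT) ((AlgSp.yon S).map pV) jT b := by
    rw [hpT]; exact hjT.rep.isPullback b
  haveI : IsImmersion pV.left := hjT.property_snd b
  let qR : pullback t pT ⟶ R := pullback.fst t pT
  let qP : pullback t pT ⟶ P := pullback.snd t pT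
  have hq : qR ≫ t = qP ≫ pT := pullback.condition
  have hw : (AlgSp.yon S).map (qR ≫ r) ≫ f = (AlgSp.yon S).map (qP ≫ pV) ≫ b := by
    rw [Functor.map_comp, Functor.map_comp, Category.assoc, Category.assoc, ← ht, ← sqP.w, ← Category.assoc,
      ← Category.assoc, ← Functor.map_comp, ← Functor.map_comp, hq]
  obtain ⟨p, hp⟩ := (AlgSp.yon S).map_surjective (sqW.lift _ _ hw)
  have hp1 : p ≫ rU = qR ≫ r := (AlgSp.yon S).map_injective (by rw [Functor.map_comp, hp, sqW.lift_fst])
  have hp2 : p ≫ rV = qP ≫ pV := (AlgSp.yon S).map_injective (by rw [Functor.map_comp, hp, sqW.lift_snd])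
  refine ⟨pullback t pT, p, ?_, ?_⟩
  · -- the part of `W` over the image of `r`
    apply subset_antisymm
    · rintro _ ⟨q, rfl⟩
      show rU.left (p.left q) ∈ Set.range r.left
      rw [← Scheme.Hom.comp_apply, ← Over.comp_left, hp1, Over.comp_left, Scheme.Hom.comp_apply]
      exact ⟨_, rfl⟩
    · intro w hw'
      obtain ⟨x, hx⟩ := hw'
      obtain ⟨z, hz1, hz2⟩ := exists_point_isPullback
        ((IsPullback.of_hasPullback rU r).map (AlgSp.yon S)) (AlgSp.Points.ofScheme W w) (AlgSp.Points.ofScheme R x)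
        ((AlgSp.Points.map_yon_map_apply rU w).trans ((congrArg (AlgSp.Points.schemeHomeo U) hx.symm).trans
          (AlgSp.Points.map_yon_map_apply r x).symm))
      obtain ⟨z, rfl⟩ := (AlgSp.Points.schemeHomeo _).surjective z
      replace hz1 : (pullback.fst rU r).left z = w := (AlgSp.Points.schemeHomeo W).injective
        ((AlgSp.Points.map_yon_map_apply _ z).symm.trans hz1)
      have hR : (AlgSp.yon S).map (pullback.snd rU r ≫ t) ≫ jT =
          (AlgSp.yon S).map (pullback.fst rU r ≫ rV) ≫ b := by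
        rw [Functor.map_comp, Functor.map_comp, Category.assoc, Category.assoc, ht, ← sqW.w, ← Category.assoc,
          ← Category.assoc, ← Functor.map_comp, ← Functor.map_comp, pullback.condition]
      obtain ⟨sP, hsP⟩ := (AlgSp.yon S).map_surjective (sqP.lift _ _ hR)
      have hs1 : sP ≫ pT = pullback.snd rU r ≫ t :=
        (AlgSp.yon S).map_injective (by rw [Functor.map_comp, hsP, sqP.lift_fst])
      have hs2 : sP ≫ pV = pullback.fst rU r ≫ rV :=
        (AlgSp.yon S).map_injective (by rw [Functor.map_comp, hsP, sqP.lift_snd])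
      let q0 : pullback rU r ⟶ pullback t pT := pullback.lift (pullback.snd rU r) sP hs1.symm
      have hq0 : q0 ≫ p = pullback.fst rU r := by
        refine (AlgSp.yon S).map_injective (sqW.hom_ext ?_ ?_)
        · rw [← Functor.map_comp, ← Functor.map_comp, Category.assoc, hp1]
          congr 1
          rw [pullback.condition, ← Category.assoc]
          simp [q0, qR]
        · rw [← Functor.map_comp, ← Functor.map_comp, Category.assoc, hp2]
          congr 1
          rw [← hs2, ← Category.assoc]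
          simp [q0, qP]
      refine ⟨q0.left z, ?_⟩
      rw [← Scheme.Hom.comp_apply, ← Over.comp_left, hq0]
      exact hz1
  · let lP : P ⟶ T ⨯ V := prod.lift pT pV
    haveI : IsImmersion (lP.left ≫ (prod.snd : T ⨯ V ⟶ V).left) := by
      rw [← Over.comp_left, prod.lift_snd]; infer_instance
    haveI : IsImmersion lP.left := IsImmersion.of_comp _ (prod.snd : T ⨯ V ⟶ V).left
    let qm : pullback t pT ⟶ R ⨯ V := prod.lift qR (qP ≫ pV)
    have sqQ : IsPullback qP qm lP (prod.map t (𝟙 V)) := by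
      have hc : ∀ c : PullbackCone lP (prod.map t (𝟙 V)), (c.snd ≫ prod.fst) ≫ t = c.fst ≫ pT := fun c => by
        have := congrArg (· ≫ prod.fst) c.condition
        simpa [lP] using this.symm
      have hc' : ∀ c : PullbackCone lP (prod.map t (𝟙 V)), c.fst ≫ pV = c.snd ≫ prod.snd := fun c => by
        have := congrArg (· ≫ prod.snd) c.condition
        simpa [lP] using this
      refine ⟨⟨?_⟩, ⟨PullbackCone.IsLimit.mk _ (fun c => pullback.lift (c.snd ≫ prod.fst) c.fst (hc c))
        (fun c => pullback.lift_snd _ _ _) (fun c => ?_) (fun c m h1 h2 => ?_)⟩⟩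
      · apply Limits.prod.hom_ext
        · simp [lP, qm, hq]
        · simp [lP, qm]
      · apply Limits.prod.hom_ext
        · simp [qm, qR]
        · simp [qm, qP, hc']
      · apply pullback.hom_ext
        · rw [pullback.lift_fst, ← h2]; simp [qm, qR]
        · rw [pullback.lift_snd]; exact h1
    haveI : IsImmersion qm.left :=
      MorphismProperty.of_isPullback (P := @IsImmersion) (sqQ.map (Over.forget S)) (inferInstanceAs (IsImmersion lP.left))
    have hmap : IsImmersion (prod.map r (𝟙 V)).left :=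
      MorphismProperty.of_isPullback (P := @IsImmersion)
        ((AlgSpFieldLib.isPullback_prod_left_map (Y := V) r).map (Over.forget S))
        (inferInstanceAs (IsImmersion r.left))
    haveI := hmap
    have he : p ≫ prod.lift rU rV = qm ≫ prod.map r (𝟙 V) := by
      apply Limits.prod.hom_ext
      · simp [qm, hp1]
      · simp [qm, hp2]
    rw [he, Over.comp_left]
    infer_instance

end

/-- Let `X` be a Noetherian algebraic space over `S` (quasi-compact and quasi-separated over `S`,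
locally Noetherian) and `f : Y ⟶ X` of finite presentation. Then there are a dense open subspace `V
⊂ Y`, an `n`, and an immersion `V ⟶ 𝐀^n_X = X ×_S 𝐀^n_S` over `X`. (The published statement allows
any base scheme and uses absolute quasi-separatedness; this row assumes the base quasi-separated,
over which quasi-separatedness relative to the base is the absolute notion.) -/
theorem result (S : Scheme.{u}) [QuasiSeparatedSpace S]
    {Y X : AlgSp.Space S} (f : Y ⟶ X) (hf : AlgSp.IsFinitePresentationMor f.hom)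
    (hXqc : AlgSp.IsQuasiCompactSp X.obj) (hXqs : AlgSp.IsQuasiSeparatedSp X.obj) (hXln : AlgSp.IsLocNoethSp X.obj) :
    ∃ (V : AlgSp.Space S) (j : V ⟶ Y) (n : ℕ)
      (i : V.obj ⟶ X.obj ⨯ (AlgSp.yon S).obj (Over.mk (𝔸(ULift.{u} (Fin n); S) ↘ S))),
      AlgSp.RepWith @IsOpenImmersion j.hom ∧ Dense (Set.range (AlgSp.Points.map j.hom)) ∧
      i ≫ prod.fst = j.hom ≫ f.hom ∧ AlgSp.RepWith @IsImmersion i := by
  classical
  have hYqc : AlgSp.IsQuasiCompactSp Y.obj := AlgSpLib.isQuasiCompactSp_source X.property hf.2.1 hXqc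
  have hflft : AlgSp.LocP @LocallyOfFiniteType f.hom :=
    AlgSpLib.locP_mono (fun _ _ g (_ : LocallyOfFinitePresentation g) => (inferInstance : LocallyOfFiniteType g)) hf.1
  have hYln : AlgSp.IsLocNoethSp Y.obj := AlgSpLib.isLocNoethSp_of_lft Y.property X.property hflft hXln
  have hXd : AlgSp.IsDecent X.obj := AlgSpLib.isDecent_of_isQuasiSeparatedSp X.property hXqs
  have hYd : AlgSp.IsDecent Y.obj := AlgSpLib.isDecent_of_fibres f.hom hXd fun p =>
    AlgSpLib.isDecent_of_isQuasiSeparatedMor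
      (AlgSpLib.isAlgSpace_pullback Y.property (AlgSp.IsAlgSpace.yon_obj _) X.property f.hom p.toHom)
      (g := pullback.snd f.hom p.toHom)
      (AlgSpLib.repWith_diagonal_of_isPullback (IsPullback.of_hasPullback f.hom p.toHom) hf.2.2)
  haveI : T0Space (AlgSp.Points Y.obj) := AlgSpLib.t0Space_points Y.property hYd
  -- finitely many generic points
  obtain ⟨E, pE, hEa, hEe, hEs⟩ := AlgSpLib.exists_affine_chart hYqc
  haveI := hEa
  haveI : IsLocallyNoetherian E.left := AlgSpLib.isLocallyNoetherian_of_chart hYln hEe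
  haveI : CompactSpace ↥E.left := inferInstance
  haveI : IsNoetherian E.left := ⟨⟩
  let F : Set (AlgSp.Points Y.obj) :=
    AlgSp.Points.ofPt pE '' {η | closure ({η} : Set ↥E.left) ∈ irreducibleComponents ↥E.left}
  have hFfin : F.Finite := by
    refine Set.Finite.image _ (Set.Finite.of_finite_image (f := fun η : ↥E.left => closure ({η} : Set ↥E.left))
      (TopologicalSpace.NoetherianSpace.finite_irreducibleComponents.subset (by rintro _ ⟨η, hη, rfl⟩; exact hη)) ?_)
    intro a _ b _ h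
    exact (inseparable_iff_closure_eq.2 h).eq
  have hFcov : ∀ y, ∃ g ∈ F, g ⤳ y := fun y => by
    obtain ⟨q, rfl⟩ := AlgSpLib.map_surjective_of_repWith hEs y
    obtain ⟨e, rfl⟩ := (AlgSp.Points.schemeHomeo E).surjective q
    obtain ⟨C, hC, heC⟩ := exists_mem_irreducibleComponents_subset_of_isIrreducible {e} isIrreducible_singleton
    obtain ⟨η, hη⟩ := QuasiSober.sober hC.1 (isClosed_of_mem_irreducibleComponents C hC)
    refine ⟨AlgSp.Points.ofPt pE η, ⟨η, by rw [Set.mem_setOf_eq, hη.def]; exact hC, rfl⟩, ?_⟩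
    show AlgSp.Points.ofPt pE η ⤳ AlgSp.Points.map pE (AlgSp.Points.ofScheme E e)
    rw [← AlgSp.Points.ofPt_eq_map_ofScheme]
    exact (hη.specializes (heC rfl)).map (AlgSp.Points.continuous_ofPt pE)
  let G : Set (AlgSp.Points Y.obj) := {g | g ∈ F ∧ ∀ h ∈ F, h ⤳ g → h = g}
  have hGfin : G.Finite := hFfin.subset fun g hg => hg.1
  have hGcov : ∀ y, ∃ g ∈ G, g ⤳ y := fun y => by
    obtain ⟨g₀, hg₀, hg₀y⟩ := hFcov y
    obtain ⟨g, ⟨hgF, hgy⟩, hmax⟩ := Set.exists_max_image {g | g ∈ F ∧ g ⤳ y}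
      (fun g => {z | z ∈ F ∧ g ⤳ z}.ncard) (hFfin.subset fun g hg => hg.1) ⟨g₀, hg₀, hg₀y⟩
    refine ⟨g, ⟨hgF, fun h hhF hhg => ?_⟩, hgy⟩
    have hss : {z | z ∈ F ∧ g ⤳ z} ⊆ {z | z ∈ F ∧ h ⤳ z} := fun z hz => ⟨hz.1, hhg.trans hz.2⟩
    have heq := Set.eq_of_subset_of_ncard_le hss (hmax h ⟨hhF, hhg.trans hgy⟩) (hFfin.subset fun z hz => hz.1)
    exact (hhg.antisymm ((heq.ge ⟨hhF, specializes_rfl⟩).2)).eq
  let O : G → Set (AlgSp.Points Y.obj) := fun g => (⋃ h ∈ G \ {g.1}, closure {h})ᶜ
  have hOo : ∀ g, IsOpen (O g) := fun g =>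
    ((hGfin.subset Set.sdiff_subset).isClosed_biUnion fun h _ => isClosed_closure).isOpen_compl
  have hOg : ∀ g : G, g.1 ∈ O g := fun g hmem => by
    obtain ⟨h, ⟨hh, hne⟩, hgh⟩ := Set.mem_iUnion₂.1 hmem
    exact hne (g.2.2 h hh.1 (specializes_iff_mem_closure.2 hgh))
  have hOspec : ∀ g : G, ∀ y ∈ O g, g.1 ⤳ y := fun g y hy => by
    obtain ⟨h, hh, hhy⟩ := hGcov y
    by_cases hne : h = g.1
    · exact hne ▸ hhy
    · exact absurd (Set.mem_iUnion₂.2 ⟨h, ⟨hh, hne⟩, specializes_iff_mem_closure.1 hhy⟩) hy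
  have hOdisj : ∀ g g' : G, g ≠ g' → ∀ y ∈ O g, y ∉ O g' := fun g g' hne y hy hy' =>
    hy' (Set.mem_iUnion₂.2 ⟨g.1, ⟨g.2, fun h => hne (Subtype.ext h)⟩, specializes_iff_mem_closure.1 (hOspec g y hy)⟩)
  -- subschemes of the target
  have hT : ∀ g : G, ∃ (T : Over S) (jT : (AlgSp.yon S).obj T ⟶ X.obj) (Og : Set (AlgSp.Points Y.obj)),
      AlgSp.RepWith @IsImmersion jT ∧ IsOpen Og ∧ g.1 ∈ Og ∧
        ∀ y ∈ Og, y ∈ O g → AlgSp.Points.map f.hom y ∈ Set.range (AlgSp.Points.map jT) := by
    intro g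
    obtain ⟨Z, i, hi, hZi, hr⟩ := Groth.Agent.S10496.result X hXd (closure {AlgSp.Points.map f.hom g.1})
      isClosed_closure isIrreducible_singleton.closure
    haveI := hZi.2.2
    haveI : QuasiSober (AlgSp.Points Z.obj) := SpectralQuot.quasiSober_of_decent Z hZi.2.1
    haveI : Mono i.hom := AlgSpRegLib.mono_of_closedImmersion hi
    obtain ⟨T, bZ, -, hbZ, hzb, -⟩ := AlgSpGenFinLib.exists_affine_nhd hZi.2.1
      (genericPoint_spec (AlgSp.Points Z.obj)) isOpen_univ (Set.mem_univ _)
    have hbo : IsOpen (Set.range (AlgSp.Points.map bZ)) := by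
      rw [← AlgSpLib.range_ofPt]; exact AlgSpGenFinLib.isOpen_range_ofPt hbZ
    refine ⟨T, bZ ≫ i.hom, AlgSp.Points.map f.hom ⁻¹' (AlgSp.Points.map i.hom '' (Set.range (AlgSp.Points.map bZ))ᶜ)ᶜ,
      AlgSpLib.repWith_comp (AlgSpLib.repWith_mono (fun _ _ e (_ : IsOpenImmersion e) => (inferInstance : IsImmersion e)) hbZ)
        (AlgSpLib.repWith_mono (fun _ _ e (_ : IsClosedImmersion e) => (inferInstance : IsImmersion e)) hi),
      (AlgSpLib.isClosed_image_of_closedImmersion Z.property X.property hi hbo.isClosed_compl).isOpen_compl.preimage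
        (AlgSp.Points.continuous_map _), ?_, ?_⟩
    · rintro ⟨z, hz, hzg⟩
      refine hz ?_
      have hzgen : genericPoint (AlgSp.Points Z.obj) ⤳ z := (genericPoint_spec _).specializes trivial
      have h1 : AlgSp.Points.map f.hom g.1 ⤳ AlgSp.Points.map i.hom (genericPoint (AlgSp.Points Z.obj)) :=
        specializes_iff_mem_closure.2 (hr.le ⟨_, rfl⟩)
      have h2 : AlgSp.Points.map i.hom (genericPoint (AlgSp.Points Z.obj)) ⤳ AlgSp.Points.map f.hom g.1 :=
        hzg ▸ hzgen.map (AlgSp.Points.continuous_map _)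
      haveI : T0Space (AlgSp.Points X.obj) := AlgSpLib.t0Space_points X.property hXd
      have h3 : z = genericPoint (AlgSp.Points Z.obj) :=
        AlgSpLib.injective_map_of_mono i.hom (hzg.trans (h1.antisymm h2).eq)
      rw [h3, ← AlgSpLib.range_ofPt]
      exact hzb
    · intro y hy hyO
      obtain ⟨z, hz⟩ := hr.ge (specializes_iff_mem_closure.1 ((hOspec g y hyO).map (AlgSp.Points.continuous_map f.hom)))
      have : z ∈ Set.range (AlgSp.Points.map bZ) := by
        by_contra hne
        exact hy ⟨z, hne, hz⟩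
      obtain ⟨w, rfl⟩ := this
      exact ⟨w, (AlgSp.Points.map_comp _ _ w).trans hz⟩
  choose T jT Og hjT hOgo hgOg hOgT using hT
  -- affine opens
  obtain ⟨Y', jY, hjY, hrep, hdense⟩ := Groth.Agent.S10337.result Y hYd
  obtain ⟨TY, ⟨eY⟩⟩ := hrep.has_representation
  let φ : (AlgSp.yon S).obj TY ⟶ Y.obj := (AlgSp.isoOfRepresentableBy eY).hom ≫ jY.hom
  have hφ : AlgSp.RepWith @IsOpenImmersion φ := AlgSpLib.repWith_comp (AlgSpLib.repWith_of_isIso _) hjY
  have hgφ : ∀ g : G, g.1 ∈ Set.range (AlgSp.Points.ofPt φ) := fun g => by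
    obtain ⟨y, hyO, hyj⟩ := hdense.inter_open_nonempty _ (hOo g) ⟨g.1, hOg g⟩
    have hy' : y ∈ Set.range (AlgSp.Points.ofPt φ) := by
      obtain ⟨w, rfl⟩ := hyj
      obtain ⟨w', rfl⟩ := (AlgSpLib.isHomeomorph_map_of_isIso (AlgSp.isoOfRepresentableBy eY).hom).surjective w
      rw [AlgSpLib.range_ofPt]
      exact ⟨w', AlgSp.Points.map_comp _ _ w'⟩
    exact (hOspec g y hyO).mem_open (AlgSpGenFinLib.isOpen_range_ofPt hφ) hy'
  have hWex : ∀ g : G, ∃ W : TY.left.Opens, IsAffineOpen W ∧ g.1 ∈ AlgSp.Points.ofPt φ '' (W : Set ↥TY.left) ∧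
      ∀ w ∈ W, AlgSp.Points.ofPt φ w ∈ O g ∩ Og g := fun g => by
    obtain ⟨t, ht⟩ := hgφ g
    obtain ⟨_, ⟨W, hW, rfl⟩, htW, hWO⟩ := TY.left.isBasis_affineOpens.exists_subset_of_mem_open
      (show t ∈ AlgSp.Points.ofPt φ ⁻¹' (O g ∩ Og g) by rw [Set.mem_preimage, ht]; exact ⟨hOg g, hgOg g⟩)
      (((hOo g).inter (hOgo g)).preimage (AlgSp.Points.continuous_ofPt φ))
    exact ⟨W, hW, ⟨t, htW, ht⟩, fun w hw => hWO hw⟩
  choose Wg hWga hgW hWgO using hWex
  haveI : Finite G := hGfin.to_subtype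
  have hUa : IsAffineOpen (⨆ g, Wg g) := IsAffineOpen.iSup_of_disjoint hWga fun g g' hne => by
    rw [Function.onFun, disjoint_iff]
    ext w
    simp only [TopologicalSpace.Opens.coe_inf, Set.mem_inter_iff, SetLike.mem_coe, TopologicalSpace.Opens.coe_bot,
      Set.mem_empty_iff_false, iff_false, not_and]
    exact fun hw hw' => hOdisj g g' hne _ (hWgO g w hw).1 (hWgO g' w hw').1
  let U : Over S := Over.mk (Scheme.Opens.ι (⨆ g, Wg g) ≫ TY.hom)
  let a : (AlgSp.yon S).obj U ⟶ Y.obj := (AlgSp.yon S).map (Over.homMk (Scheme.Opens.ι (⨆ g, Wg g)) rfl : U ⟶ TY) ≫ φ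
  have ha : AlgSp.RepWith @IsOpenImmersion a := AlgSpGenFinLib.repWith_restrict hφ _
  have hfa : AlgSp.LocP @LocallyOfFiniteType (a ≫ f.hom) :=
    AlgSpLib.locP_etale_comp (AlgSpLib.isEtaleMor_of_openImmersion ha) hflft
  obtain ⟨n, i, hi1, hi2⟩ := AlgSpAffImmLib.exists_immersion_affineSpace X hXqs U hUa (a ≫ f.hom) hfa
    (fun V b hV hb W rU rV sqW => by
      haveI := hV
      haveI : Mono (prod.lift rU rV) := ⟨fun x y hxy => (AlgSp.yon S).map_injective (sqW.hom_ext
        (by rw [← Functor.map_comp, ← Functor.map_comp]; congr 1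
            simpa using congrArg (· ≫ prod.fst) hxy)
        (by rw [← Functor.map_comp, ← Functor.map_comp]; congr 1
            simpa using congrArg (· ≫ prod.snd) hxy))⟩
      haveI : Mono (prod.lift rU rV).left := (Over.forget S).map_mono (prod.lift rU rV)
      haveI : LocallyOfFiniteType rV.left :=
        hfa ((AlgSp.yon S).map rU) b rV (AlgSpLib.repWith_of_isPullback sqW.flip hb) hb sqW.w
      haveI : LocallyOfFiniteType ((prod.lift rU rV).left ≫ (prod.snd : U ⨯ V ⟶ V).left) := by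
        rw [← Over.comp_left, prod.lift_snd]; infer_instance
      haveI : LocallyOfFiniteType (prod.lift rU rV).left :=
        locallyOfFiniteType_of_comp _ (prod.snd : U ⨯ V ⟶ V).left
      have hpc : ∀ g : G, ∃ (Q : Over S) (p : Q ⟶ W),
          Set.range p.left = rU.left ⁻¹' ((Scheme.Opens.ι (⨆ g, Wg g)) ⁻¹' (Wg g : Set ↥TY.left)) ∧
            IsImmersion (p ≫ prod.lift rU rV).left := by
        intro g
        haveI : IsAffine (Wg g : Scheme) := hWga g
        let A := Γ((Wg g : Scheme), ⊤)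
        let q := CommRingCat.ofHom (Ideal.Quotient.mk (nilradical A))
        haveI : IsClosedImmersion (Spec.map q) := IsClosedImmersion.spec_of_surjective _ Ideal.Quotient.mk_surjective
        haveI : _root_.IsReduced (A ⧸ nilradical A) :=
          (Ideal.isRadical_iff_quotient_reduced _).1 (Ideal.radical_isRadical _)
        haveI : Surjective (Spec.map q) := ⟨fun x => by
          refine ⟨⟨x.asIdeal.map (Ideal.Quotient.mk _), Ideal.map_isPrime_of_surjective Ideal.Quotient.mk_surjective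
            (by rw [Ideal.mk_ker]; exact nilradical_le_prime x.asIdeal)⟩, PrimeSpectrum.ext ?_⟩
          show Ideal.comap (Ideal.Quotient.mk _) (Ideal.map (Ideal.Quotient.mk _) x.asIdeal) = x.asIdeal
          rw [Ideal.comap_map_mk (nilradical_le_prime x.asIdeal)]⟩
        let r₀ := Spec.map q ≫ (Wg g : Scheme).isoSpec.inv ≫ TY.left.homOfLE (le_iSup Wg g)
        let R : Over S := Over.mk (r₀ ≫ U.hom)
        let r : R ⟶ U := Over.homMk r₀ rfl
        haveI : IsReduced R.left := inferInstanceAs (IsReduced (Spec (CommRingCat.of (A ⧸ nilradical A))))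
        haveI : IsImmersion r.left := inferInstanceAs (IsImmersion r₀)
        have hrange : Set.range r.left = (Scheme.Opens.ι (⨆ g, Wg g)) ⁻¹' (Wg g : Set ↥TY.left) := by
          have h1 : Surjective (Spec.map q ≫ (Wg g : Scheme).isoSpec.inv) := inferInstance
          show Set.range ((Spec.map q ≫ (Wg g : Scheme).isoSpec.inv ≫ TY.left.homOfLE (le_iSup Wg g))) = _
          rw [← Category.assoc, Scheme.Hom.comp_base, TopCat.coe_comp, Set.range_comp, h1.surj.range_eq,
            Set.image_univ]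
          ext x
          constructor
          · rintro ⟨y, rfl⟩
            show (TY.left.homOfLE (le_iSup Wg g) ≫ Scheme.Opens.ι (⨆ g, Wg g)) y ∈ (Wg g : Set ↥TY.left)
            rw [Scheme.homOfLE_ι]
            exact y.2
          · intro hx
            exact ⟨⟨x.1, hx⟩, Subtype.ext (by simp)⟩
        obtain ⟨t, ht⟩ := exists_factor_immersion ((AlgSp.yon S).map r ≫ a ≫ f.hom) (jT g) (hjT g) (by
          rw [← AlgSpLib.range_ofPt]
          rintro _ ⟨x, rfl⟩
          rw [AlgSpLib.ofPt_yon_comp, ← AlgSp.Points.map_ofPt, AlgSpLib.ofPt_yon_comp]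
          have hx : Scheme.Opens.ι (⨆ g, Wg g) (r.left x) ∈ Wg g := hrange.le ⟨x, rfl⟩
          exact hOgT g _ (hWgO g _ hx).2 (hWgO g _ hx).1)
        obtain ⟨Q, p, hp, hpi⟩ := exists_piece (hjT g) r t ht sqW
        exact ⟨Q, p, hrange ▸ hp, hpi⟩
      choose Q p hp hpi using hpc
      haveI : ∀ g, IsImmersion ((p g).left ≫ (prod.lift rU rV).left) := fun g => by
        rw [← Over.comp_left]; exact hpi g
      refine isImmersion_of_local _ (fun g => ((prod.fst : U ⨯ V ⟶ U).left ≫ Scheme.Opens.ι (⨆ g, Wg g)) ⁻¹ᵁ Wg g)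
        ?_ (fun g => (Q g).left) (fun g => (p g).left) fun g => ?_
      · refine top_le_iff.1 fun x _ => ?_
        obtain ⟨g, hg⟩ := TopologicalSpace.Opens.mem_iSup.1 ((prod.fst : U ⨯ V ⟶ U).left x).2
        exact TopologicalSpace.Opens.mem_iSup.2 ⟨g, hg⟩
      · rw [hp g]
        ext w
        show Scheme.Opens.ι _ (rU.left w) ∈ Wg g ↔
          Scheme.Opens.ι _ ((prod.fst : U ⨯ V ⟶ U).left ((prod.lift rU rV).left w)) ∈ Wg g
        rw [← Scheme.Hom.comp_apply, ← Over.comp_left, prod.lift_fst])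
  refine ⟨⟨_, AlgSp.IsAlgSpace.yon_obj U⟩, ObjectProperty.homMk a, n, i, ha, ?_, hi1, hi2⟩
  refine dense_iff_closure_eq.2 (Set.eq_univ_of_forall fun y => ?_)
  obtain ⟨g, hg, hgy⟩ := hGcov y
  have hga : g ∈ Set.range (AlgSp.Points.map a) := by
    obtain ⟨t, ht, htg⟩ := hgW ⟨g, hg⟩
    rw [AlgSpGenFinLib.range_restrict]
    exact ⟨t, TopologicalSpace.Opens.mem_iSup.2 ⟨⟨g, hg⟩, ht⟩, htg⟩
  exact closure_mono (Set.singleton_subset_iff.2 hga) (specializes_iff_mem_closure.1 hgy)

end Groth.Agent.S10076
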