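import Groth.Statements.S10084
import Groth.Agent.SubExtLib.Ideals

set_option autoImplicit false
set_option backward.isDefEq.respectTransparency false
set_option backward.isDefEq.respectTransparency.types false
universe u
open CategoryTheory CategoryTheory.Limits AlgebraicGeometry Opposite
open AlgSp

namespace Groth.Agent.S10084

/-- Let `S` be a quasi-separated scheme, `X` an algebraic space over `S`, quasi-compact and
quasi-separated over `S`, and `j : U ⟶ X` an open subspace. Then `U` is quasi-compact exactly when
there are a quasi-coherent sheaf of ideals `I` of finite type on the small etale site of `X`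
(finitely generated ideal of sections on every affine object) and a closed subspace `Z ⟶ X` cut out
by `I` whose points are exactly the points of `X` outside the image of `U`. (The further equivalent
condition that `j` is quasi-compact is not included.) (The published statement allows any base
scheme and uses absolute quasi-separatedness; this row assumes the base quasi-separated, over which
quasi-separatedness relative to the base is the absolute notion.) -/
theorem result {S : Scheme.{u}} [QuasiSeparatedSpace ↥S] (X : AlgSp.Space S)
    (hqc : AlgSp.IsQuasiCompactSp X.obj) (hqs : AlgSp.IsQuasiSeparatedSp X.obj)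
    (U : AlgSp.Space S) (j : U ⟶ X) (hj : AlgSp.RepWith @IsOpenImmersion j.hom) :
    AlgSp.IsQuasiCompactSp U.obj ↔
      ∃ (I : AlgSp.IdealEt X.obj), I.IsQCoh ∧
        (∀ (E : AlgSp.EtOver X.obj) (hE : IsAffine E.obj.left.left), (I.ideal E hE).FG) ∧
        ∃ (Z : AlgSp.Space S) (i : Z ⟶ X), AlgSp.IsCutOutBy I i.hom ∧
          Set.range (AlgSp.Points.map i.hom) = (Set.range (AlgSp.Points.map j.hom))ᶜ := by
  constructor
  · intro hU
    obtain ⟨I, hI, hfg, Z, i, hZ, hcut, hr⟩ := SubExt.exists_ideal X.property hqc hqs
      (FiltLib.isOpen_range_of_openImmersion U.property hj) (FiltLib.isCompact_range_of_qc hU j.hom)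
    exact ⟨I, hI, hfg, ⟨Z, hZ⟩, ObjectProperty.homMk i, hcut, hr⟩
  · rintro ⟨I, -, hfg, Z, i, ⟨hi, rfl⟩, hr⟩
    refine FiltLib.isQuasiCompactSp_of_isCompact_range U.property hj ?_
    rw [← compl_compl (Set.range (AlgSp.Points.map j.hom)), ← hr]
    exact SubExt.isCompact_of_cutOut hqc hi hfg

end Groth.Agent.S10084
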