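import Groth.Statements.S10098
import Groth.Agent.AlgSpLib.SepLqfScheme
import Groth.Agent.AlgSpLib.FpqcMore
import Groth.Agent.AlgSpLib.Fppf
import Groth.Agent.AlgSpLib.MorPack
import Groth.Agent.BootLib.FppfLocal

set_option backward.isDefEq.respectTransparency false
set_option backward.isDefEq.respectTransparency.types false

set_option autoImplicit false
universe u
open CategoryTheory CategoryTheory.Limits AlgebraicGeometry
open AlgSp

namespace Groth.Agent.S10098

/-- Let `E = H ×_G F` be a cartesian square of fppf sheaves of sets over `S`, with `a : E ⟶ F`, `f : E ⟶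
H`, `g : F ⟶ G`, `b : H ⟶ G`. Suppose that `a` and `g` are both representable by algebraic spaces,
that `g` is flat, surjective and locally of finite presentation, and that `a` is separated and
locally quasi-finite. Under these assumptions `b` is representable by schemes, separated, and
locally quasi-finite. -/
theorem result (S : Scheme.{u}) (E F G H : AlgSp.Sp S)
    (a : E ⟶ F) (f : E ⟶ H) (g : F ⟶ G) (b : H ⟶ G) (sq : IsPullback a f g b)
    (hg : AlgSp.RepBySpWith (AlgSp.IsSurjectiveMor ⊓ AlgSp.LocP @Flat ⊓ AlgSp.LocP @LocallyOfFinitePresentation) g.hom)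
    (ha : AlgSp.RepBySpWith
      (AlgSp.IsSeparatedMor ⊓ AlgSp.LocP (@LocallyQuasiFinite ⊓ @LocallyOfFiniteType)) a.hom) :
    AlgSp.RepWith @IsSeparated b ∧ AlgSp.RepWith (@LocallyQuasiFinite ⊓ @LocallyOfFiniteType) b := by
  rw [repBySpWith_hom_iff] at hg ha
  have key : ∀ (T : Over S) (ξ : (yon S).obj T ⟶ G), IsAlgSpace (pullback b ξ) ∧
      IsSeparatedMor (pullback.snd b ξ) ∧
      LocP (@LocallyQuasiFinite ⊓ @LocallyOfFiniteType) (pullback.snd b ξ) := by
    intro T ξ
    have hT : IsAlgSpace ((yon S).obj T) := IsAlgSpace.yon_obj T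
    obtain ⟨hQ, ⟨hQs, hQf⟩, hQp⟩ := hg ξ _ _ (IsPullback.of_hasPullback g ξ)
    obtain ⟨U, p, hp, hps⟩ := hQ.atlas
    obtain ⟨φ, hφ⟩ := (yon S).map_surjective (p ≫ pullback.snd g ξ)
    have e : p ≫ pullback.snd g ξ = (yon S).map φ ≫ 𝟙 _ := by rw [Category.comp_id, hφ]
    haveI : Flat φ.left := hQf p (𝟙 _) φ hp (repWith_id _ _) e
    haveI : LocallyOfFinitePresentation φ.left := hQp p (𝟙 _) φ hp (repWith_id _ _) e
    have hU : ∀ _ : PUnit.{u + 1}, IsAlgSpace ((yon S).obj U) := fun _ => IsAlgSpace.yon_obj U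
    have hcov : IsFppfCover (fun _ : PUnit.{u + 1} => (yon S).obj U) (fun _ => (yon S).map φ) := by
      refine ⟨fun _ => ⟨AlgSpLib.locP_of_repWith ((repWith_yon_map_iff (P := (@Flat : MorphismProperty Scheme.{u})) _).2
          (inferInstance : Flat φ.left)),
        AlgSpLib.locP_of_repWith ((repWith_yon_map_iff
          (P := (@LocallyOfFinitePresentation : MorphismProperty Scheme.{u})) _).2
          (inferInstance : LocallyOfFinitePresentation φ.left))⟩, fun z => ?_⟩
      obtain ⟨y, rfl⟩ := hQs z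
      obtain ⟨x, rfl⟩ := AlgSpLib.map_surjective_of_repWith hps y
      exact ⟨⟨⟩, x, by rw [← Points.map_comp, ← hφ]⟩
    let η := p ≫ pullback.fst g ξ
    have hη : η ≫ g = (yon S).map φ ≫ ξ := by
      rw [hφ, Category.assoc, Category.assoc, pullback.condition]
    have key : ∀ (Q : AlgSp.Sp S) (q : Q ⟶ pullback b ξ) (r : Q ⟶ (yon S).obj U),
        IsPullback q r (pullback.snd b ξ) ((yon S).map φ) → IsAlgSpace Q ∧ IsSeparatedMor r ∧
          LocP (@LocallyQuasiFinite ⊓ @LocallyOfFiniteType) r := by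
      intro Q q r sqQ
      have big := sqQ.paste_horiz (IsPullback.of_hasPullback b ξ)
      have sq' := (IsPullback.of_hasPullback a η).paste_horiz sq.flip
      rw [hη] at sq'
      let e' := big.isoIsPullback _ _ sq'
      have hr : IsPullback (e'.hom ≫ pullback.fst a η) r a η :=
        (IsPullback.of_hasPullback a η).of_iso e'.symm (Iso.refl _) (Iso.refl _) (Iso.refl _) (by simp)
          (by rw [Iso.refl_hom, Category.comp_id, ← big.isoIsPullback_hom_snd _ _ sq', ← Category.assoc]
              simp [e']) (by simp) (by simp)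
      obtain ⟨h1, h2, h3⟩ := ha η _ _ hr
      exact ⟨h1, h2, h3⟩
    have hP : IsAlgSpace (pullback b ξ) :=
      Groth.Agent.Boot.isAlgSpace_of_fppf_cover (X := (yon S).obj T) hT hU (fun _ => (yon S).map φ)
        (fun i => (hcov.1 i).1) (fun i => (hcov.1 i).2) hcov.2 (pullback.snd b ξ)
        fun _ => (key _ _ _ (IsPullback.of_hasPullback _ _)).1
    have hfpqc := AlgSpLib.isFpqcCover_of_isFppfCover hT hU hcov
    have hQi : ∀ _ : PUnit.{u + 1}, IsAlgSpace (pullback (pullback.snd b ξ) ((yon S).map φ)) := fun _ =>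
      (key _ _ _ (IsPullback.of_hasPullback _ _)).1
    refine ⟨hP, ?_, ?_⟩
    · exact (AlgSpLib.isLocalOnBase_fpqc_isSeparatedMor S (fun _ : PUnit.{u + 1} => (yon S).obj U)
        (fun _ => (yon S).map φ) hT hU hfpqc _ hP _ (fun _ => pullback.snd _ _) (fun _ => pullback.fst _ _) hQi
        fun _ => IsPullback.of_hasPullback _ _).2 fun _ => (key _ _ _ (IsPullback.of_hasPullback _ _)).2.1
    · haveI : MorphismProperty.DescendsAlong
          (@LocallyQuasiFinite ⊓ @LocallyOfFiniteType : MorphismProperty Scheme.{u})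
          (@Surjective ⊓ @Flat ⊓ @QuasiCompact) := AlgSpLib.descendsAlong_inf
      exact (AlgSpLib.isLocalOnBase_fpqc_locP_of_descendsAlong S
        (@LocallyQuasiFinite ⊓ @LocallyOfFiniteType : MorphismProperty Scheme.{u})
        (fun _ : PUnit.{u + 1} => (yon S).obj U)
        (fun _ => (yon S).map φ) hT hU hfpqc _ hP _ (fun _ => pullback.snd _ _) (fun _ => pullback.fst _ _) hQi
        fun _ => IsPullback.of_hasPullback _ _).2 fun _ => (key _ _ _ (IsPullback.of_hasPullback _ _)).2.2
  have key' : ∀ (T : Over S) (ξ : (yon S).obj T ⟶ G), ∃ (W : Over S) (s : W ⟶ T) (x : (yon S).obj W ⟶ H),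
      IsPullback x ((yon S).map s) b ξ ∧ IsSeparated s.left ∧
        (@LocallyQuasiFinite ⊓ @LocallyOfFiniteType : MorphismProperty Scheme.{u}) s.left := by
    intro T ξ
    obtain ⟨hP, hsep, hlqf⟩ := key T ξ
    obtain ⟨W, ⟨e⟩⟩ := AlgSpLib.isRepSh_of_sep_lqf hP hsep hlqf
    obtain ⟨s, hs⟩ := (yon S).map_surjective (e.hom ≫ pullback.snd b ξ)
    refine ⟨W, s, e.hom ≫ pullback.fst b ξ, (IsPullback.of_hasPullback b ξ).of_iso e.symm (Iso.refl _)
      (Iso.refl _) (Iso.refl _) (by simp) (by simp [hs]) (by simp) (by simp), ?_, ?_⟩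
    · have sqe : IsPullback e.hom ((yon S).map s) (pullback.snd b ξ) (𝟙 _) :=
        IsPullback.of_horiz_isIso ⟨by rw [hs, Category.comp_id]⟩
      exact (isSeparatedMor_yon_map_iff s).1 (AlgSpLib.repWith_diagonal_of_isPullback sqe hsep)
    · have sqe : IsPullback e.hom ((yon S).map s) (pullback.snd b ξ) (𝟙 _) :=
        IsPullback.of_horiz_isIso ⟨by rw [hs, Category.comp_id]⟩
      exact AlgSp.locP_yon_map (AlgSpLib.locP_of_isPullback hP (IsAlgSpace.yon_obj T) (IsAlgSpace.yon_obj T) sqe hlqf)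
  refine ⟨MorphismProperty.relative.of_exists fun T ξ => ?_, MorphismProperty.relative.of_exists fun T ξ => ?_⟩
  · obtain ⟨W, s, x, h1, h2, -⟩ := key' T ξ
    exact ⟨W, x, s, h1, h2⟩
  · obtain ⟨W, s, x, h1, -, h3⟩ := key' T ξ
    exact ⟨W, x, s, h1, h3⟩

end Groth.Agent.S10098
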