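import Groth.Statements.S10100
import Groth.Agent.AlgSpLib.RepSpBase
import Groth.Agent.AlgSpLib.LocP
-- import your own Groth.Agent.* helpers here

set_option autoImplicit false
universe u
open CategoryTheory CategoryTheory.Limits AlgebraicGeometry
open AlgSp

namespace Groth.Agent.S10100

/-- Let `F` be a presheaf of sets on schemes over `S`, `X` a scheme over `S` and `h_X ⟶ F` a map which
is representable by algebraic spaces and locally quasi-finite. Then `h_X ⟶ F` is representable by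
schemes. -/
theorem result (S : Scheme.{u}) (F : AlgSp.PSp S) (X : Over S)
    (p : (AlgSp.pyon S).obj X ⟶ F)
    (hp : AlgSp.RepBySpWith (AlgSp.LocP (@LocallyQuasiFinite ⊓ @LocallyOfFiniteType)) p) :
    (AlgSp.pyon S).relativelyRepresentable p := by
  intro T ξ
  obtain ⟨hsh, hA, hQ⟩ := hp ξ (pullback.fst p ξ) (pullback.snd p ξ) (IsPullback.of_hasPullback p ξ)
  let G : AlgSp.Sp S := ⟨pullback p ξ, hsh⟩
  let p₁ : G ⟶ (AlgSp.yon S).obj X := ObjectProperty.homMk (pullback.fst p ξ)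
  let p₂ : G ⟶ (AlgSp.yon S).obj T := ObjectProperty.homMk (pullback.snd p ξ)
  let c := PreservesLimitPair.iso (AlgSp.yon S) X T
  let i : G ⟶ (AlgSp.yon S).obj (X ⨯ T) := prod.lift p₁ p₂ ≫ c.inv
  have h1 : i ≫ (AlgSp.yon S).map prod.fst = p₁ := by
    simp only [i, Category.assoc]
    rw [show c.inv ≫ (AlgSp.yon S).map (prod.fst : X ⨯ T ⟶ X) = prod.fst by
      rw [Iso.inv_comp_eq, PreservesLimitPair.iso_hom, prodComparison_fst]]
    exact Limits.prod.lift_fst p₁ p₂
  have h2 : i ≫ (AlgSp.yon S).map prod.snd = p₂ := by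
    simp only [i, Category.assoc]
    rw [show c.inv ≫ (AlgSp.yon S).map (prod.snd : X ⨯ T ⟶ T) = prod.snd by
      rw [Iso.inv_comp_eq, PreservesLimitPair.iso_hom, prodComparison_snd]]
    exact Limits.prod.lift_snd p₁ p₂
  haveI : Mono i := ⟨fun {Z} a b e => by
    have e1 := congrArg (fun k => k ≫ (AlgSp.yon S).map (prod.fst : X ⨯ T ⟶ X)) e
    have e2 := congrArg (fun k => k ≫ (AlgSp.yon S).map (prod.snd : X ⨯ T ⟶ T)) e
    simp only [Category.assoc, h1, h2] at e1 e2
    exact InducedCategory.hom_ext (pullback.hom_ext (congrArg InducedCategory.Hom.hom e1) (congrArg InducedCategory.Hom.hom e2))⟩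
  obtain ⟨W, ⟨e⟩⟩ := AlgSpLib.isRepSh_of_space_mono hA i fun U a r ha hr => by
    have hQ' : (@LocallyQuasiFinite ⊓ @LocallyOfFiniteType : MorphismProperty Scheme.{u}) (r ≫ prod.snd).left :=
      hQ a (𝟙 _) (r ≫ prod.snd) ha (AlgSp.repWith_id _ _)
        (by rw [Category.comp_id, Functor.map_comp, hr, Category.assoc, h2])
    haveI : LocallyOfFiniteType (r.left ≫ (prod.snd : X ⨯ T ⟶ T).left) := hQ'.2
    exact locallyOfFiniteType_of_comp r.left (prod.snd : X ⨯ T ⟶ T).left
  let e' : (AlgSp.pyon S).obj W ≅ pullback p ξ := (sheafToPresheaf _ _).mapIso e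
  obtain ⟨k, hk⟩ := (AlgSp.pyon S).map_surjective (e'.hom ≫ pullback.snd p ξ)
  refine ⟨W, k, e'.hom ≫ pullback.fst p ξ, (IsPullback.of_hasPullback p ξ).of_iso e'.symm (Iso.refl _) (Iso.refl _)
    (Iso.refl _) (by simp) (by simp [hk]) (by simp) (by simp)⟩

end Groth.Agent.S10100
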