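import Groth.Statements.S10105
import Groth.Agent.BootLib.FppfLocal
-- import your own Groth.Agent.* helpers here

set_option autoImplicit false
universe u
open CategoryTheory CategoryTheory.Limits AlgebraicGeometry
open AlgSp

namespace Groth.Agent.S10105

/-- Let `F` be an fppf sheaf of sets over `S` and `{S_i ⟶ S}` an fppf covering. If every `h_{S_i} × F`
is an algebraic space and the coproduct `∐ h_{S_i} × F` (in sheaves) is an algebraic space, then `F`
is an algebraic space: being an algebraic space is fppf local on the base. -/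
theorem result (S : Scheme.{u}) (F : AlgSp.Sp S) {ι : Type u} (Si : ι → Over S)
    (hfl : ∀ i, Flat (Si i).hom) (hfp : ∀ i, LocallyOfFinitePresentation (Si i).hom)
    (hsurj : ∀ x : ↥S, ∃ (i : ι) (y : ↥(Si i).left), (Si i).hom.base y = x)
    (halg : ∀ i, AlgSp.IsAlgSpace ((AlgSp.yon S).obj (Si i) ⨯ F))
    (c : Cofan (fun i => (AlgSp.yon S).obj (Si i) ⨯ F)) (hc : IsColimit c) (hcop : AlgSp.IsAlgSpace c.pt) :
    AlgSp.IsAlgSpace F := by
  let One : Over S := Over.mk (𝟙 S)
  have hT : IsTerminal ((AlgSp.yon S).obj One) := IsTerminal.isTerminalObj (AlgSp.yon S) One Over.mkIdTerminal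
  let o : ∀ i, Si i ⟶ One := fun i => Over.homMk (Si i).hom (Category.comp_id _)
  refine Groth.Agent.Boot.isAlgSpace_of_fppf_cover (AlgSp.IsAlgSpace.yon_obj One)
    (fun i => AlgSp.IsAlgSpace.yon_obj (Si i)) (fun i => (AlgSp.yon S).map (o i))
    (fun i => AlgSpLib.locP_of_repWith ((AlgSp.repWith_yon_map_iff (P := @Flat) (o i)).2 (hfl i)))
    (fun i => AlgSpLib.locP_of_repWith
      ((AlgSp.repWith_yon_map_iff (P := @LocallyOfFinitePresentation) (o i)).2 (hfp i)))
    (fun x => ?_) (hT.from F) (fun i => ?_)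
  · obtain ⟨z, rfl⟩ := (AlgSp.Points.schemeHomeo One).surjective x
    obtain ⟨i, y, hy⟩ := hsurj z
    exact ⟨i, AlgSp.Points.schemeHomeo (Si i) y,
      (AlgSp.Points.map_yon_map_apply (o i) y).trans (congrArg (AlgSp.Points.schemeHomeo One) hy)⟩
  · exact (halg i).of_iso ((IsPullback.of_is_product
      (BinaryFan.IsLimit.mk (BinaryFan.mk (prod.snd : (AlgSp.yon S).obj (Si i) ⨯ F ⟶ F) prod.fst)
        (fun a b => prod.lift b a) (fun a b => prod.lift_snd _ _) (fun a b => prod.lift_fst _ _)
        (fun a b m h1 h2 => prod.hom_ext (h2.trans (prod.lift_fst _ _).symm) (h1.trans (prod.lift_snd _ _).symm))) hT).isoPullback ≪≫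
      pullback.congrHom (hT.hom_ext _ _) (hT.hom_ext _ _))
end Groth.Agent.S10105
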