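import Groth.Statements.S10106
import Groth.Agent.BootLib.Corollaries
-- import your own Groth.Agent.* helpers here

set_option autoImplicit false
universe u
open CategoryTheory CategoryTheory.Limits AlgebraicGeometry
open AlgSp

namespace Groth.Agent.S10106

/-- Let `a : F ⟶ G` and `b : G ⟶ H` be maps of fppf sheaves of sets over `S` where `a` is flat,
surjective, locally of finite presentation and representable by algebraic spaces, and the composite
`a ≫ b` is representable by algebraic spaces. Then so is `b`. -/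
theorem result (S : Scheme.{u}) (F G H : AlgSp.Sp S) (a : F ⟶ G) (b : G ⟶ H)
    (ha : AlgSp.RepBySpWith (AlgSp.IsSurjectiveMor ⊓ AlgSp.LocP @Flat ⊓ AlgSp.LocP @LocallyOfFinitePresentation) a.hom) (hab : AlgSp.RepBySp (a ≫ b).hom) :
    AlgSp.RepBySp b.hom := by
  rw [AlgSp.repBySp_hom_iff]
  intro U ξ P fst snd sq
  have sqa := IsPullback.of_hasPullback a fst
  have hX : AlgSp.IsAlgSpace (pullback a fst) :=
    (AlgSp.repBySp_hom_iff (a ≫ b)).1 hab ξ _ _ (sqa.paste_vert sq)
  refine Groth.Agent.Boot.isAlgSpace_of_repBySp_fppf_cover hX (pullback.snd a fst) ?_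
  rw [AlgSp.repBySpWith_hom_iff] at ha ⊢
  intro V η F' f' s' sq'
  exact ha (η ≫ fst) (f' ≫ pullback.fst a fst) s' (sq'.paste_horiz sqa)
end Groth.Agent.S10106
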