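import Groth.Statements.S10108
import Groth.Agent.EtCritLib.Basic

set_option autoImplicit false
set_option linter.all false
set_option backward.isDefEq.respectTransparency false
set_option backward.isDefEq.respectTransparency.types false
universe u
open CategoryTheory CategoryTheory.Limits AlgebraicGeometry
open AlgSp

namespace Groth.Agent.S10108

/-- A presheaf of sets on schemes over `S` which is a sheaf for the etale topology, has diagonal
representable by schemes, and receives a representable surjective etale map from a scheme over `S`,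
is an algebraic space (in particular an fppf sheaf): algebraic spaces defined with the etale
topology are the same as with the fppf topology. -/
theorem result (S : Scheme.{u}) (F : AlgSp.PSp S)
    (h1 : Presheaf.IsSheaf (QuotSh.J Scheme.etalePrecoverage S) F)
    (h2 : (AlgSp.pyon S).relativelyRepresentable (Limits.diag F))
    (U : Over S) (p : (AlgSp.pyon S).obj U ⟶ F)
    (h3 : (MorphismProperty.inverseImage @Etale (Over.forget S)).relative (AlgSp.pyon S) p ∧
      (MorphismProperty.inverseImage @Surjective (Over.forget S)).relative (AlgSp.pyon S) p) :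
    AlgSp.IsAlgSpaceP F := by
  have hUs : AlgSp.IsAlgSpace ((AlgSp.yon S).obj U) := AlgSp.IsAlgSpace.yon_obj U
  refine EtCritLib.isAlgSpaceP_of_smooth_cover hUs (p := p) (fun V ξ F' fst snd sq => ?_)
    ((isSheaf_iff_isSheaf_of_type _ _).mp h1)
  have hrep := h3.1.rep
  let i := sq.isoIsPullback _ _ (hrep.isPullback ξ)
  have hi : i.hom ≫ (AlgSp.pyon S).map (hrep.snd ξ) = snd := sq.isoIsPullback_hom_snd _ _ _
  have hs : Presheaf.IsSheaf (AlgSp.J S) F' :=
    (Presheaf.isSheaf_of_iso_iff i).2 ((AlgSp.yon S).obj (hrep.pullback ξ)).property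
  let i' : (⟨F', hs⟩ : AlgSp.Sp S) ≅ (AlgSp.yon S).obj (hrep.pullback ξ) :=
    (fullyFaithfulSheafToPresheaf (AlgSp.J S) _).preimageIso i
  refine ⟨hs, (AlgSp.IsAlgSpace.yon_obj _).of_iso i'.symm, ?_⟩
  have e : (ObjectProperty.homMk snd : (⟨F', hs⟩ : AlgSp.Sp S) ⟶ (AlgSp.yon S).obj V) =
      i'.hom ≫ (AlgSp.yon S).map (hrep.snd ξ) := ObjectProperty.hom_ext _ hi.symm
  rw [e]
  haveI he : Etale (hrep.snd ξ).left := h3.1.property ξ (hrep.fst ξ) (hrep.snd ξ) (hrep.isPullback ξ)
  haveI hsu : Surjective (hrep.snd ξ).left := h3.2.property ξ (hrep.fst ξ) (hrep.snd ξ) (hrep.isPullback ξ)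
  refine ⟨AlgStBig.good_surjective.bc.precomp_iso i' _ (AlgSp.IsAlgSpace.yon_obj _) (AlgSp.IsAlgSpace.yon_obj _) ?_,
    AlgStBig.good_smooth.bc.precomp_iso i' _ (AlgSp.IsAlgSpace.yon_obj _) (AlgSp.IsAlgSpace.yon_obj _)
      ((AlgSpLib.locP_yon_map_iff (P := @Smooth) _).mpr inferInstance)⟩
  intro x
  obtain ⟨t, rfl⟩ := (AlgSp.Points.schemeHomeo V).surjective x
  obtain ⟨w, rfl⟩ := (hrep.snd ξ).left.surjective t
  exact ⟨AlgSp.Points.schemeHomeo _ w, AlgSp.Points.map_yon_map_apply _ _⟩

end Groth.Agent.S10108
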