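import Groth.Statements.S10111
import Groth.Agent.AlgSpLib.SheafDesc
import Groth.Agent.AlgSpLib.RepSpBase
import Groth.Agent.EtCritLib.Basic

set_option backward.isDefEq.respectTransparency false
set_option backward.isDefEq.respectTransparency.types false

set_option autoImplicit false
universe u v
open CategoryTheory CategoryTheory.Limits AlgebraicGeometry
open AlgSp

namespace Groth.Agent.S10111

/-- A section which lies fppf locally in a subsheaf representable by spaces lies in it. -/
theorem mem_of_cover {S : Scheme.{u}} {G F : AlgSp.PSp S} (m : G ⟶ F) [Mono m] (hb : AlgSp.RepBySp m)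
    {T : Over S} (x : F.obj (Opposite.op T)) {R : Sieve T} (hR : R ∈ AlgSp.J S T)
    (h : ∀ ⦃T' : Over S⦄ (f : T' ⟶ T), R.arrows f → F.map f.op x ∈ Set.range (m.app (Opposite.op T'))) :
    x ∈ Set.range (m.app (Opposite.op T)) := by
  let ξ : (pyon S).obj T ⟶ F := uliftYonedaEquiv.symm x
  have hξ : ∀ {V : Over S} (g : V ⟶ T), ξ.app (Opposite.op V) ⟨g⟩ = F.map g.op x := fun g => rfl
  have sq := IsPullback.of_hasPullback m ξ
  obtain ⟨hP, -⟩ := hb ξ _ _ sq
  have hsh := (isSheaf_iff_isSheaf_of_type _ _).1 hP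
  have hT := (isSheaf_iff_isSheaf_of_type _ _).1 ((yon S).obj T).property
  choose a ha using h
  let l : ∀ ⦃T' : Over S⦄ (f : T' ⟶ T), R.arrows f → ((pyon S).obj T' ⟶ pullback m ξ) := fun T' f hf =>
    pullback.lift (uliftYonedaEquiv.symm (a f hf)) ((pyon S).map f) (by
      ext V ⟨g⟩
      change m.app V (G.map g.op (a f hf)) = F.map (g ≫ f).op x
      rw [NatTrans.naturality_apply, ha, op_comp, Functor.map_comp_apply])
  let σ : ∀ ⦃T' : Over S⦄ (f : T' ⟶ T), R.arrows f → (pullback m ξ).obj (Opposite.op T') := fun T' f hf =>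
    (l f hf).app _ ⟨𝟙 T'⟩
  have hσ : ∀ ⦃T' : Over S⦄ (f : T' ⟶ T) (hf : R.arrows f),
      (pullback.snd m ξ).app _ (σ f hf) = ⟨f⟩ := fun T' f hf => by
    have := congrArg (fun k => k.app (Opposite.op T') ⟨𝟙 T'⟩)
      (pullback.lift_snd (f := m) (g := ξ) _ _ _ : l f hf ≫ pullback.snd m ξ = (pyon S).map f)
    refine this.trans ?_
    change ULift.up (𝟙 T' ≫ f) = ULift.up f
    rw [Category.id_comp]
  have hinj : ∀ (V : (Over S)ᵒᵖ), Function.Injective ((pullback.snd m ξ).app V) := fun V =>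
    (mono_iff_injective _).1 ((NatTrans.mono_iff_mono_app _).1 inferInstance V)
  let fam : Presieve.FamilyOfElements (pullback m ξ) R.arrows := σ
  have hfam : fam.Compatible := by
    rw [Presieve.compatible_iff_sieveCompatible]
    intro Y Z f g hf
    apply hinj
    change (pullback.snd m ξ).app _ (σ _ _) = (pullback.snd m ξ).app _ ((pullback m ξ).map g.op (σ f hf))
    rw [NatTrans.naturality_apply, hσ, hσ]
    rfl
  have hs : (pullback.snd m ξ).app _ ((hsh R hR).amalgamate fam hfam) = ⟨𝟙 T⟩ := by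
    refine ((hT R hR).isSeparatedFor).ext fun Y g hg => ?_
    change ((pyon S).obj T).map g.op _ = ((pyon S).obj T).map g.op _
    rw [← NatTrans.naturality_apply, (hsh R hR).valid_glue hfam g hg]
    change (pullback.snd m ξ).app _ (σ g hg) = ULift.up (g ≫ 𝟙 T)
    rw [hσ, Category.comp_id]
  refine ⟨(pullback.fst m ξ).app _ ((hsh R hR).amalgamate fam hfam), ?_⟩
  have := congrArg (fun k => k.app (Opposite.op T) ((hsh R hR).amalgamate fam hfam)) sq.w
  refine this.trans ?_
  change ξ.app _ ((pullback.snd m ξ).app _ _) = x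
  rw [hs, hξ, op_id, Functor.map_id_apply]

/-- Let `F` be a presheaf of sets on schemes over `S` which is a Zariski sheaf, and `F_i ⊂ F` a family
of subfunctors which are fppf sheaves, whose inclusions are representable by algebraic spaces, and
such that `∐ F_i ⟶ F` becomes surjective after fppf sheafification (every section of `F` lies fppf
locally in some `F_i`). Then `F` is an fppf sheaf. -/
theorem result (S : Scheme.{u}) (F : AlgSp.PSp S)
    (h1 : Presheaf.IsSheaf (QuotSh.J Scheme.zariskiPrecoverage S) F) {ι : Type v} (Fi : ι → AlgSp.PSp S)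
    (m : ∀ i, Fi i ⟶ F) [∀ i, Mono (m i)] (ha : ∀ i, Presheaf.IsSheaf (AlgSp.J S) (Fi i))
    (hb : ∀ i, AlgSp.RepBySp (m i))
    (hc : ∀ (T : Over S) (x : F.obj (Opposite.op T)), ∃ R ∈ (AlgSp.J S) T,
      ∀ ⦃T' : Over S⦄ (f : T' ⟶ T), R.arrows f → ∃ i, F.map f.op x ∈ Set.range ((m i).app (Opposite.op T'))) :
    Presheaf.IsSheaf (AlgSp.J S) F := by
  have hFi := fun i => (isSheaf_iff_isSheaf_of_type _ _).1 (ha i)
  have hZ := (isSheaf_iff_isSheaf_of_type _ _).1 h1
  have hinj : ∀ i V, Function.Injective ((m i).app V) := fun i V =>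
    (mono_iff_injective _).1 ((NatTrans.mono_iff_mono_app _).1 inferInstance V)
  -- the open image of a flat and locally finitely presented map, and the cover of it
  have himg : ∀ {T V : Over S} (h : V ⟶ T), Flat h.left → LocallyOfFinitePresentation h.left →
      ∃ (W V' : Over S) (j : W ⟶ T) (p : V' ⟶ V) (q : V' ⟶ W), IsOpenImmersion j.left ∧
        Set.range h.left ⊆ Set.range j.left ∧ p ≫ h = q ≫ j ∧ Sieve.ofArrows (fun _ : PUnit.{u + 1} => V') (fun _ => q) ∈ AlgSp.J S W := by
    intro T V h h1 h2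
    let O : T.left.Opens := ⟨Set.range h.left, h.left.isOpenMap.isOpen_range⟩
    let W : Over S := Over.mk (O.ι ≫ T.hom)
    let j : W ⟶ T := Over.homMk O.ι rfl
    have sq := ((IsPullback.of_hasPullback h j).map (Over.forget S))
    refine ⟨W, pullback h j, j, pullback.fst h j, pullback.snd h j, inferInstanceAs (IsOpenImmersion O.ι), ?_,
      pullback.condition, ?_⟩
    · exact fun t ht => ⟨⟨t, ht⟩, rfl⟩
    · refine AlgSpLib.ofArrows_mem_J _ (fun _ => MorphismProperty.of_isPullback sq h1)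
        (fun _ => MorphismProperty.of_isPullback sq h2) fun w => ⟨⟨⟩, ?_⟩
      obtain ⟨v, hv⟩ : j.left w ∈ Set.range h.left := w.2
      obtain ⟨z, -, hz⟩ := Scheme.Pullback.exists_preimage_pullback v w (f := h.left) (g := j.left) hv
      refine ⟨sq.isoPullback.inv z, ?_⟩
      change ((Over.forget S).map (pullback.snd h j)) (sq.isoPullback.inv z) = w
      rw [← Scheme.Hom.comp_apply, sq.isoPullback_inv_snd]
      exact hz
  have hzar : ∀ {T : Over S} {κ : Type u} (W : κ → Over S) (j : ∀ k, W k ⟶ T), (∀ k, IsOpenImmersion (j k).left) →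
      (∀ t, ∃ k, t ∈ Set.range (j k).left) → Sieve.ofArrows W j ∈ QuotSh.J Scheme.zariskiPrecoverage S T := by
    intro T κ W j hj ht
    rw [GrothendieckTopology.mem_over_iff, Sieve.ofArrows, Sieve.overEquiv_generate]
    refine GrothendieckTopology.superset_covering _ ?_ (Precoverage.generate_mem_toGrothendieck
      (R := Presieve.ofArrows (fun k => (W k).left) (fun k => (j k).left))
      ((Scheme.ofArrows_mem_precoverage_iff _).2 ⟨ht, hj⟩))
    refine (Sieve.generate_le_iff _ _).2 ?_
    rintro _ _ ⟨k⟩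
    exact Sieve.le_generate _ _ _ ⟨W k, j k, 𝟙 _, ⟨k⟩, (Category.id_comp _).symm⟩
  -- separatedness
  have hsep : ∀ (T : Over S) (R : Sieve T), R ∈ AlgSp.J S T → ∀ x y : F.obj (Opposite.op T),
      (∀ ⦃T' : Over S⦄ (f : T' ⟶ T), R.arrows f → F.map f.op x = F.map f.op y) → x = y := by
    intro T R hR x y hxy
    obtain ⟨Rx, hRx, hRx'⟩ := hc T x
    obtain ⟨V, h, hmem, hf, hp, hh⟩ :=
      AlgSpLib.exists_family_of_mem ((AlgSp.J S).intersection_covering hR hRx)
    choose W V' j p q hj hjr hpq hq using fun t => himg (h t) (hf t) (hp t)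
    refine ((hZ _ (hzar W j hj fun t => ⟨t, hjr t (hh t)⟩)).isSeparatedFor).ext ?_
    rintro Z g ⟨_, k, _, ⟨t⟩, rfl⟩
    rw [op_comp, Functor.map_comp_apply, Functor.map_comp_apply]
    congr 1
    obtain ⟨i, hi⟩ := hRx' (h t) (hmem t).2
    have hin : ∀ z : F.obj (Opposite.op T), F.map (h t).op z = F.map (h t).op x →
        F.map (j t).op z ∈ Set.range ((m i).app (Opposite.op (W t))) := by
      intro z hz
      refine mem_of_cover (m i) (hb i) _ (hq t) ?_
      rintro Z f ⟨_, l, _, ⟨⟩, rfl⟩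
      obtain ⟨c, hc'⟩ := hi
      refine ⟨(Fi i).map (l ≫ p t).op c, ?_⟩
      rw [NatTrans.naturality_apply, hc', ← hz, ← Functor.map_comp_apply, ← Functor.map_comp_apply, ← op_comp,
        ← op_comp, Category.assoc, Category.assoc, hpq]
    obtain ⟨c, hc₁⟩ := hin x rfl
    obtain ⟨d, hd₁⟩ := hin y (hxy (h t) (hmem t).1).symm
    rw [← hc₁, ← hd₁]
    congr 1
    refine ((hFi i _ (hq t)).isSeparatedFor).ext ?_
    rintro Z f ⟨_, l, _, ⟨⟩, rfl⟩
    apply hinj i
    rw [NatTrans.naturality_apply, NatTrans.naturality_apply, hc₁, hd₁, ← Functor.map_comp_apply,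
      ← Functor.map_comp_apply, ← op_comp, Category.assoc, ← hpq, op_comp, op_comp, Functor.map_comp_apply,
      Functor.map_comp_apply, Functor.map_comp_apply, Functor.map_comp_apply, hxy (h t) (hmem t).1]
  -- existence
  rw [isSheaf_iff_isSheaf_of_type]
  intro T R hR fam hfam
  rw [Presieve.compatible_iff_sieveCompatible] at hfam
  have hfam' : ∀ ⦃Y Z : Over S⦄ (f : Y ⟶ T) (hf : R.arrows f) (g : Z ⟶ Y) (e : Z ⟶ T) (he : R.arrows e),
      g ≫ f = e → F.map g.op (fam f hf) = fam e he := by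
    rintro Y Z f hf g _ he rfl
    exact (hfam f g hf).symm
  choose Rc hRc hRc' using fun (Y : Over S) (f : Y ⟶ T) (hf : R.arrows f) => hc Y (fam f hf)
  obtain ⟨V, h, hmem, hf, hp, hh⟩ := AlgSpLib.exists_family_of_mem
    ((AlgSp.J S).bind_covering hR fun Y f hf => hRc Y f hf)
  have hmem' : ∀ t, ∃ (hR' : R.arrows (h t)) (i : ι), fam (h t) hR' ∈ Set.range ((m i).app (Opposite.op (V t))) := by
    intro t
    obtain ⟨Y, k, f, hf', hk, e⟩ := hmem t
    have hR' : R.arrows (h t) := e ▸ R.downward_closed hf' k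
    obtain ⟨i, hi⟩ := hRc' Y f hf' k hk
    exact ⟨hR', i, by rw [← hfam' f hf' k (h t) hR' e]; exact hi⟩
  choose hR' i a hai using hmem'
  choose W V' j p q hj hjr hpq hq using fun t => himg (h t) (hf t) (hp t)
  have hb' : ∀ t, ∃ b : (Fi (i t)).obj (Opposite.op (W t)), (Fi (i t)).map (q t).op b = (Fi (i t)).map (p t).op (a t) := by
    intro t
    have hs := (Presieve.isSheafFor_arrows_iff _ _).1
      ((Presieve.isSheafFor_iff_generate _).2 (hFi (i t) _ (hq t)))
      (fun _ => (Fi (i t)).map (p t).op (a t)) fun _ _ Z g₁ g₂ e => by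
        apply hinj
        rw [← Functor.map_comp_apply, ← Functor.map_comp_apply, NatTrans.naturality_apply, NatTrans.naturality_apply,
          hai, ← op_comp, ← op_comp,
          hfam' _ (hR' t) (g₁ ≫ p t) _ (R.downward_closed (hR' t) _) rfl,
          hfam' _ (hR' t) (g₂ ≫ p t) _ (R.downward_closed (hR' t) _) (show (g₂ ≫ p t) ≫ h t = (g₁ ≫ p t) ≫ h t by
            rw [Category.assoc, Category.assoc, hpq, ← Category.assoc, ← Category.assoc, e])]
    exact ⟨hs.choose, hs.choose_spec.1 ⟨⟩⟩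
  choose b hb'' using hb'
  let s : ∀ t, F.obj (Opposite.op (W t)) := fun t => (m (i t)).app _ (b t)
  have hrestr : ∀ t {Z : Over S} (g : Z ⟶ W t) (hg : R.arrows (g ≫ j t)), F.map g.op (s t) = fam _ hg := by
    intro t Z g hg
    refine hsep Z _ ((AlgSp.J S).pullback_stable g (hq t)) _ _ ?_
    rintro Z' k ⟨_, l, _, ⟨⟩, hl⟩
    rw [hfam' _ hg k (k ≫ g ≫ j t) (R.downward_closed hg k) rfl, ← Functor.map_comp_apply, ← op_comp, ← hl,
      op_comp, Functor.map_comp_apply]
    change F.map l.op (F.map (q t).op ((m (i t)).app _ (b t))) = _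
    rw [← NatTrans.naturality_apply, hb'', NatTrans.naturality_apply, hai, ← Functor.map_comp_apply, ← op_comp]
    exact hfam' _ (hR' t) _ _ _ (by rw [Category.assoc, hpq, ← Category.assoc, hl, Category.assoc])
  have hcovZ := hzar W j hj fun t => ⟨t, hjr t (hh t)⟩
  have hs := (Presieve.isSheafFor_arrows_iff _ _).1 ((Presieve.isSheafFor_iff_generate _).2 (hZ _ hcovZ)) s
    fun t t' Z g g' e => by
      refine hsep Z _ ((AlgSp.J S).pullback_stable (g ≫ j t) hR) _ _ fun Z' k hk => ?_
      have h1 : R.arrows ((k ≫ g) ≫ j t) := by rw [Category.assoc]; exact hk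
      have h2 : R.arrows ((k ≫ g') ≫ j t') := by rw [Category.assoc, ← e]; exact hk
      rw [← Functor.map_comp_apply, ← Functor.map_comp_apply, ← op_comp, ← op_comp, hrestr t _ h1, hrestr t' _ h2]
      exact (congrArg (fun r => r) (hfam' _ h1 (𝟙 _) _ h2 (by rw [Category.id_comp, Category.assoc, Category.assoc, e]))).symm.trans
        (by rw [op_id, Functor.map_id_apply]) |>.symm
  obtain ⟨x, hx, -⟩ := hs
  refine ⟨x, fun Y f hf' => ?_, fun y hy => ?_⟩
  · have hcov' : Sieve.ofArrows W j ∈ AlgSp.J S T := AlgSpLib.ofArrows_mem_J j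
      (fun t => by haveI := hj t; infer_instance) (fun t => by haveI := hj t; infer_instance)
      fun t => ⟨t, hjr t (hh t)⟩
    refine hsep Y _ ((AlgSp.J S).pullback_stable f hcov') _ _ ?_
    rintro Z k ⟨_, l, _, ⟨t⟩, hl⟩
    have hR'' : R.arrows (l ≫ j t) := by rw [hl]; exact R.downward_closed hf' k
    rw [← Functor.map_comp_apply, ← op_comp, ← hl, op_comp, Functor.map_comp_apply, hx t, hrestr t l hR'']
    exact (hfam' f hf' k _ _ hl.symm).symm
  · refine hsep T R hR _ _ fun Y f hf' => ?_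
    rw [hy f hf']
    symm
    have hcov' : Sieve.ofArrows W j ∈ AlgSp.J S T := AlgSpLib.ofArrows_mem_J j
      (fun t => by haveI := hj t; infer_instance) (fun t => by haveI := hj t; infer_instance)
      fun t => ⟨t, hjr t (hh t)⟩
    refine hsep Y _ ((AlgSp.J S).pullback_stable f hcov') _ _ ?_
    rintro Z k ⟨_, l, _, ⟨t⟩, hl⟩
    have hR'' : R.arrows (l ≫ j t) := by rw [hl]; exact R.downward_closed hf' k
    rw [← Functor.map_comp_apply, ← op_comp, ← hl, op_comp, Functor.map_comp_apply, hx t, hrestr t l hR'']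
    exact (hfam' f hf' k _ _ hl.symm).symm

end Groth.Agent.S10111
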