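import Groth.Statements.S10113
import Groth.Agent.AlgSpLib.QuotRel

set_option autoImplicit false
universe u
open CategoryTheory CategoryTheory.Limits AlgebraicGeometry
open AlgSp

namespace Groth.Agent.S10113

/-- Let `s, t : R ⟶ U` be a pre-relation of algebraic spaces, `M` an algebraic space and `U ⟶ M` a
morphism which coequalizes `s, t`, is a surjection of sheaves, and for which `(t, s) : R ⟶ U ×_M U`
is a surjection of sheaves. Then the induced map `U/R ⟶ M` is an isomorphism: `M` represents the
quotient sheaf. -/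
theorem result (S : Scheme.{u}) (R U M : AlgSp.Sp S)
    (hR : AlgSp.IsAlgSpace R) (hU : AlgSp.IsAlgSpace U) (hM : AlgSp.IsAlgSpace M) (s t : R ⟶ U)
    (q : U ⟶ M) (w : s ≫ q = t ≫ q) [Epi q] [Epi (pullback.lift t s w.symm : R ⟶ pullback q q)] :
    IsIso (AlgSp.quotSpDesc q w) := by
  have : Sheaf.IsLocallySurjective q := (Sheaf.isLocallySurjective_iff_epi' (φ := q)).2 inferInstance
  have : Sheaf.IsLocallySurjective (pullback.lift t s w.symm : R ⟶ pullback q q) :=
    (Sheaf.isLocallySurjective_iff_epi' (φ := (pullback.lift t s w.symm : R ⟶ pullback q q))).2 inferInstance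
  obtain ⟨y, hy⟩ := AlgSpLib.exists_desc q (quotSpπ s t) fun T b b' e => by
    obtain ⟨V, g, h₁, h₂, h₃, hl⟩ := AlgSpLib.exists_lift_of_isLocallySurjective
      (pullback.lift t s w.symm : R ⟶ pullback q q) (pullback.lift b b' e)
    refine AlgSpLib.eq_of_family g h₁ h₂ h₃ fun x => ?_
    obtain ⟨l, hl⟩ := hl x
    have ht : l ≫ t = (AlgSp.yon S).map (g x) ≫ b := by
      have := congrArg (· ≫ pullback.fst q q) hl
      simp only [Category.assoc] at this
      rwa [pullback.lift_fst, pullback.lift_fst] at this
    have hs : l ≫ s = (AlgSp.yon S).map (g x) ≫ b' := by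
      have := congrArg (· ≫ pullback.snd q q) hl
      simp only [Category.assoc] at this
      rwa [pullback.lift_snd, pullback.lift_snd] at this
    rw [← reassoc_of% ht, ← reassoc_of% hs, quotSp_condition]
  refine ⟨y, ?_, ?_⟩
  · rw [← cancel_epi (quotSpπ s t), quotSpπ_desc_assoc, hy, Category.comp_id]
  · rw [← cancel_epi q, ← Category.assoc, hy, quotSpπ_desc, Category.comp_id]

end Groth.Agent.S10113
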