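import Groth.Statements.S10115
import Groth.Agent.AlgSpLib.QuotRel

set_option autoImplicit false
universe u
open CategoryTheory CategoryTheory.Limits AlgebraicGeometry
open AlgSp AlgSp.GroupoidSp

namespace Groth.Agent.S10115

/-- For a groupoid `(U, R, s, t, c)` in algebraic spaces over `B`, let `(U', R', s', t', c')` be its
restriction along a morphism `g : U' ⟶ U` over `B`. Then `U'/R' ⟶ U/R` is injective; if the
composite `h : U' ×_{g, U, t} R ⟶ R ⟶ U` of the projection with `s` is a surjection of fppf sheaves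
(for instance if `g` is), then it is bijective. -/
theorem result (S : Scheme.{u}) (B : AlgSp.Sp S) (hB : AlgSp.IsAlgSpace B)
    (G G' : AlgSp.GroupoidSp B) (hU : AlgSp.IsAlgSpace G.U) (hR : AlgSp.IsAlgSpace G.R)
    (hU' : AlgSp.IsAlgSpace G'.U) (hR' : AlgSp.IsAlgSpace G'.R) (φ : AlgSp.GroupoidSp.Hom G' G)
    (hφ : φ.IsRestriction) (ψ : G'.quot ⟶ G.quot) (hψ : G'.quotπ ≫ ψ = φ.fU ≫ G.quotπ) :
    Mono ψ ∧ (Epi (pullback.snd φ.fU G.t ≫ G.s) → IsIso ψ) := by
  have hpre : IsPreEqvRelSp G.s G.t := fun T => ⟨fun a => ⟨a ≫ G.e, by rw [Category.assoc, G.e_t, Category.comp_id],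
      by rw [Category.assoc, G.e_s, Category.comp_id]⟩,
    fun {a b} ⟨r, h1, h2⟩ => ⟨r ≫ G.i, by rw [Category.assoc, G.i_t, h2], by rw [Category.assoc, G.i_s, h1]⟩,
    fun {a b c} ⟨r, h1, h2⟩ ⟨r', h1', h2'⟩ => ⟨pullback.lift r r' (h2.trans h1'.symm) ≫ G.c,
      by rw [G.comp_t, h1], by rw [G.comp_s, h2']⟩⟩
  have hm : Mono ψ := AlgSpLib.mono_of_rel G.s G.t hpre φ.fU ψ hψ fun T a b r h1 h2 => by
    have hB : a ≫ G'.pU = b ≫ G'.pU := by
      rw [← φ.fU_over, ← Category.assoc, ← h1, Category.assoc, G.t_over, ← G.s_over, ← Category.assoc, h2, Category.assoc]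
    obtain ⟨l, hl₁, hl₂⟩ : ∃ l : (AlgSp.yon S).obj T ⟶ G'.R, l ≫ φ.fR = r ∧ l ≫ G'.j = pullback.lift a b hB :=
      ⟨hφ.lift r (pullback.lift a b hB) (by
        unfold GroupoidSp.Hom.prodMap pullback.map
        apply pullback.hom_ext
        · rw [Category.assoc, GroupoidSp.j_fst, h1, Category.assoc, pullback.lift_fst, pullback.lift_fst_assoc]
        · rw [Category.assoc, GroupoidSp.j_snd, h2, Category.assoc, pullback.lift_snd, pullback.lift_snd_assoc]),
        hφ.lift_fst _ _ _, hφ.lift_snd _ _ _⟩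
    have ht' : l ≫ G'.t = a := by rw [← G'.j_fst, ← Category.assoc, hl₂, pullback.lift_fst]
    have hs' : l ≫ G'.s = b := by rw [← G'.j_snd, ← Category.assoc, hl₂, pullback.lift_snd]
    rw [← ht', ← hs']
    exact AlgSpLib.quotSp_eq_of_rel G'.s G'.t l
  refine ⟨hm, fun hg => ?_⟩
  have : Epi ψ := by
    have h : (pullback.fst φ.fU G.t ≫ G'.quotπ) ≫ ψ = (pullback.snd φ.fU G.t ≫ G.s) ≫ G.quotπ := by
      rw [Category.assoc, hψ, ← Category.assoc, pullback.condition, Category.assoc, Category.assoc]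
      exact congrArg (pullback.snd φ.fU G.t ≫ ·) (quotSp_condition G.s G.t).symm
    have : Epi G.quotπ := AlgSpLib.epi_quotSpπ G.s G.t
    have : Epi ((pullback.fst φ.fU G.t ≫ G'.quotπ) ≫ ψ) := by rw [h]; exact epi_comp _ _
    exact epi_of_epi (pullback.fst φ.fU G.t ≫ G'.quotπ) ψ
  exact isIso_of_mono_of_epi ψ

end Groth.Agent.S10115
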