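import Groth.Statements.S10116
import Groth.Agent.AlgSpLib.Sep
import Groth.Agent.AlgSpLib.Qc
import Mathlib.CategoryTheory.Monoidal.Cartesian.Grp

set_option autoImplicit false
universe u
open CategoryTheory CategoryTheory.Limits AlgebraicGeometry MonoidalCategory MonObj
open AlgSp

namespace Groth.Agent.S10116

open MonoidalCategory CartesianMonoidalCategory MonObj in
theorem isPullback_diag {C : Type*} [Category C] [CartesianMonoidalCategory C] (G : C) [GrpObj G] :
    IsPullback (toUnit G) (lift (𝟙 G) (𝟙 G)) η[G] (fst G G * (snd G G)⁻¹) := by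
  have hc : ∀ {T : C} (m : T ⟶ G ⊗ G), m ≫ (fst G G * (snd G G)⁻¹) = (m ≫ fst G G) * (m ≫ snd G G)⁻¹ := fun m => by
    rw [comp_mul, GrpObj.comp_inv]
  refine IsPullback.of_isLimit' ⟨?_⟩ (PullbackCone.IsLimit.mk _ (fun s => s.snd ≫ fst G G)
    (fun s => toUnit_unique _ _) (fun s => ?_) (fun s m _ h2 => ?_))
  · rw [hc, lift_fst, lift_snd, mul_inv_cancel]; rfl
  · have h : (s.snd ≫ fst G G) * (s.snd ≫ snd G G)⁻¹ = 1 := by
      rw [← hc, ← s.condition, toUnit_unique s.fst (toUnit _)]; rfl
    apply hom_ext
    · simp
    · simp only [Category.assoc, lift_snd, Category.comp_id]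
      exact mul_inv_eq_one.1 h
  · rw [← h2]; simp


/-- Let `G` be a group algebraic space over an algebraic space `B` with unit `e : B ⟶ G`. Then `G ⟶ B`
is separated if and only if `e` is a closed immersion, quasi-separated if and only if `e` is
quasi-compact, and if `G ⟶ B` is locally separated then `e` is an immersion. (The published
statement makes the last part an equivalence as well; this row states only that a locally separated
`G ⟶ B` has `e` an immersion.) -/
theorem result (S : Scheme.{u}) (B : AlgSp.Sp S) (hB : AlgSp.IsAlgSpace B)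
    (G : Over B) [GrpObj G] (hG : AlgSp.IsAlgSpace G.left) :
    (AlgSp.IsSeparatedMor G.hom ↔ AlgSp.RepWith @IsClosedImmersion (η[G]).left) ∧
      (AlgSp.IsQuasiSeparatedMor G.hom ↔ AlgSp.IsQuasiCompactMor (η[G]).left) ∧
      (AlgSp.IsLocallySeparatedMor G.hom → AlgSp.RepWith @IsImmersion (η[G]).left) := by
  have sq' := isPullback_diag G
  have : PreservesLimit (cospan (η[G]) (CartesianMonoidalCategory.fst G G * (CartesianMonoidalCategory.snd G G)⁻¹))
      (Over.forget B) := inferInstance
  have sq : IsPullback G.hom (pullback.diagonal G.hom) (η[G]).left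
      (CartesianMonoidalCategory.fst G G * (CartesianMonoidalCategory.snd G G)⁻¹).left := by
    have h := sq'.map (Over.forget B)
    have h1 : (CartesianMonoidalCategory.toUnit G).left = G.hom := by
      have := Over.w (CartesianMonoidalCategory.toUnit G)
      simpa using this
    have h2 : (CartesianMonoidalCategory.lift (𝟙 G) (𝟙 G)).left = pullback.diagonal G.hom := by
      apply pullback.hom_ext
      · rw [pullback.diagonal_fst]
        exact congrArg CommaMorphism.left (CartesianMonoidalCategory.lift_fst (𝟙 G) (𝟙 G))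
      · rw [pullback.diagonal_snd]
        exact congrArg CommaMorphism.left (CartesianMonoidalCategory.lift_snd (𝟙 G) (𝟙 G))
    change IsPullback (CartesianMonoidalCategory.toUnit G).left (CartesianMonoidalCategory.lift (𝟙 G) (𝟙 G)).left
      (η[G]).left _ at h
    rw [h1, h2] at h
    exact h
  have hsec : (η[G]).left ≫ G.hom = 𝟙 B := Over.w (η[G])
  have e1 : ∀ P : MorphismProperty Scheme.{u}, RepWith P (pullback.diagonal G.hom) → RepWith P (η[G]).left :=
    fun P h => AlgSpLib.repWith_section (f := G.hom) hsec h
  refine ⟨⟨e1 _, fun h => AlgSpLib.repWith_of_isPullback sq h⟩, ⟨fun h => ?_, fun h => ?_⟩, e1 _⟩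
  · exact AlgSpLib.isQuasiCompactMor_of_repWith hB hG (e1 _ h)
  · have hd : Representable (pullback.diagonal G.hom) := (AlgSpLib.repWith_diagonal_properties hG G.hom).1
    have hr : Representable (η[G]).left :=
      (AlgSpLib.repWith_section (f := G.hom) hsec (AlgSpLib.repWith_diagonal_properties hG G.hom).2.1).rep
    exact AlgSpLib.repWith_of_isPullback sq ((AlgSpLib.repWith_quasiCompact_iff hB hG hr).2 h)

end Groth.Agent.S10116
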