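import Groth.Statements.S10117
import Groth.Agent.AlgSpLib.Sheaf
import Mathlib.CategoryTheory.Monoidal.Cartesian.Grp

set_option autoImplicit false
universe u
open CategoryTheory CategoryTheory.Limits AlgebraicGeometry MonoidalCategory MonObj
open AlgSp AlgSp.GAction

namespace Groth.Agent.S10117

open MonoidalCategory CartesianMonoidalCategory MonObj in
theorem eq_of_act_eq {S : Scheme.{u}} {B : AlgSp.Sp S} {G X : Over B} [GrpObj G] (a : AlgSp.GAction G X) (ha : a.IsFree)
    {T : Over S} (β : (AlgSp.yon S).obj T ⟶ B) (g g' : Over.mk β ⟶ G) (x : Over.mk β ⟶ X)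
    (h : lift g x ≫ a.act = lift g' x ≫ a.act) : g = g' := by
  have hmul : ∀ (u v : Over.mk β ⟶ G), lift (lift u v ≫ μ[G]) x ≫ a.act = lift u (lift v x ≫ a.act) ≫ a.act := by
    intro u v
    have := congrArg (lift (lift u v) x ≫ ·) a.mul_act
    simp only [lift_whiskerRight_assoc, lift_lift_associator_hom_assoc, lift_whiskerLeft_assoc] at this
    exact this
  have hone : lift (toUnit _ ≫ η[G]) x ≫ a.act = x := by
    have := congrArg (lift (toUnit (Over.mk β)) x ≫ ·) a.one_act
    simp only [lift_whiskerRight_assoc, lift_leftUnitor_hom] at this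
    exact this
  have h1 : lift (g'⁻¹ * g) x ≫ a.act = x := by
    calc lift (g'⁻¹ * g) x ≫ a.act = lift g'⁻¹ (lift g x ≫ a.act) ≫ a.act := hmul _ _
      _ = lift g'⁻¹ (lift g' x ≫ a.act) ≫ a.act := by rw [h]
      _ = lift (g'⁻¹ * g') x ≫ a.act := (hmul _ _).symm
      _ = lift (1 : Over.mk β ⟶ G) x ≫ a.act := by rw [inv_mul_cancel]
      _ = x := hone
  have h2 : g'⁻¹ * g = 1 := ha β _ x h1
  exact (inv_mul_eq_one.1 h2).symm


/-- If a group algebraic space `G` over `B` acts freely on an algebraic space `X` over `B`, then `G ×_B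
X ⟶ X ×_B X`, `(g, x) ↦ (g x, x)`, is a monomorphism. (The published statement is an equivalence;
this row states only the direction from free to monomorphism.) -/
theorem result (S : Scheme.{u}) (B : AlgSp.Sp S) (hB : AlgSp.IsAlgSpace B)
    (G X : Over B) [GrpObj G] (hG : AlgSp.IsAlgSpace G.left) (hX : AlgSp.IsAlgSpace X.left)
    (a : AlgSp.GAction G X) (ha : a.IsFree) :
    Mono (CartesianMonoidalCategory.lift a.act (CartesianMonoidalCategory.snd G X)).left := by
  refine AlgSpLib.mono_of_injective fun T u v e => ?_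
  let φ := CartesianMonoidalCategory.lift a.act (CartesianMonoidalCategory.snd G X)
  let β := u ≫ (MonoidalCategory.tensorObj G X).hom
  have hv : v ≫ (MonoidalCategory.tensorObj G X).hom = β := by
    change _ = u ≫ _
    rw [← Over.w φ, ← Category.assoc, ← Category.assoc, e]
  let u' : Over.mk β ⟶ MonoidalCategory.tensorObj G X := Over.homMk u rfl
  let v' : Over.mk β ⟶ MonoidalCategory.tensorObj G X := Over.homMk v hv
  suffices h : u' = v' from congrArg CommaMorphism.left h
  have e' : u' ≫ φ = v' ≫ φ := Over.OverMorphism.ext e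
  have hx : u' ≫ CartesianMonoidalCategory.snd G X = v' ≫ CartesianMonoidalCategory.snd G X := by
    have := congrArg (· ≫ CartesianMonoidalCategory.snd X X) e'
    simpa [φ] using this
  have hact : u' ≫ a.act = v' ≫ a.act := by
    have := congrArg (· ≫ CartesianMonoidalCategory.fst X X) e'
    simpa [φ] using this
  refine CartesianMonoidalCategory.hom_ext _ _ (eq_of_act_eq a ha β _ _ (u' ≫ CartesianMonoidalCategory.snd G X) ?_) hx
  conv_rhs => rw [hx]
  have e1 : CartesianMonoidalCategory.lift (u' ≫ CartesianMonoidalCategory.fst G X) (u' ≫ CartesianMonoidalCategory.snd G X) = u' := by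
    apply CartesianMonoidalCategory.hom_ext <;> simp
  have e2 : CartesianMonoidalCategory.lift (v' ≫ CartesianMonoidalCategory.fst G X) (v' ≫ CartesianMonoidalCategory.snd G X) = v' := by
    apply CartesianMonoidalCategory.hom_ext <;> simp
  rw [e1, e2, hact]

end Groth.Agent.S10117
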