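import Groth.Statements.S10121
import Groth.Agent.AlgSpLib.Basic

set_option autoImplicit false
universe u
open CategoryTheory CategoryTheory.Limits AlgebraicGeometry
open AlgSp

namespace Groth.Agent.S10121

/-- For a pre-equivalence relation `s, t : R ⟶ U` of algebraic spaces, the relation on points of `U`
given by `x ∼ y` when some point `r` of `R` has `t(r) = x` and `s(r) = y` is an equivalence relation
on `|U|`. -/
theorem result (S : Scheme.{u}) (R U : AlgSp.Sp S)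
    (hR : AlgSp.IsAlgSpace R) (hU : AlgSp.IsAlgSpace U) (s t : R ⟶ U) (h : AlgSp.IsPreEqvRelSp s t) :
    _root_.Equivalence (fun x y : AlgSp.Points U =>
      ∃ r : AlgSp.Points R, AlgSp.Points.map t r = x ∧ AlgSp.Points.map s r = y) := by
  refine ⟨fun x => ?_, fun {x y} ⟨r, h1, h2⟩ => ?_, fun {x y z} ⟨r, h1, h2⟩ ⟨r', h1', h2'⟩ => ?_⟩
  · obtain ⟨T, a, u, rfl⟩ := AlgSpLib.exists_ofPt_eq x
    obtain ⟨r, h1, h2⟩ := (h T).refl a
    exact ⟨Points.ofPt r u, by rw [Points.map_ofPt, h1], by rw [Points.map_ofPt, h2]⟩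
  · obtain ⟨T, a, u, rfl⟩ := AlgSpLib.exists_ofPt_eq r
    obtain ⟨r', h1', h2'⟩ := (h T).symm (x := a ≫ t) (y := a ≫ s) ⟨a, rfl, rfl⟩
    exact ⟨Points.ofPt r' u, by rw [Points.map_ofPt, h1', ← h2, Points.map_ofPt],
      by rw [Points.map_ofPt, h2', ← h1, Points.map_ofPt]⟩
  · obtain ⟨w, rfl, rfl⟩ := AlgSpLib.exists_point_isPullback (IsPullback.of_hasPullback s t) r r' (h2.trans h1'.symm)
    obtain ⟨T, a, u, rfl⟩ := AlgSpLib.exists_ofPt_eq w
    obtain ⟨r'', k1, k2⟩ := (h T).trans (x := a ≫ pullback.fst s t ≫ t) (y := a ≫ pullback.fst s t ≫ s)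
      (z := a ≫ pullback.snd s t ≫ s) ⟨a ≫ pullback.fst s t, Category.assoc _ _ _, Category.assoc _ _ _⟩
      ⟨a ≫ pullback.snd s t, by rw [Category.assoc, pullback.condition], Category.assoc _ _ _⟩
    exact ⟨Points.ofPt r'' u, by rw [Points.map_ofPt, k1, ← h1]; simp [Points.map_ofPt],
      by rw [Points.map_ofPt, k2, ← h2']; simp [Points.map_ofPt]⟩

end Groth.Agent.S10121
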