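import Groth.Statements.S10122
import Groth.Agent.AlgSpLib.Sep
import Groth.Agent.AlgSpLib.Qc

set_option autoImplicit false
universe u
open CategoryTheory CategoryTheory.Limits AlgebraicGeometry
open AlgSp AlgSp.GroupoidSp

namespace Groth.Agent.S10122

/-- Let `(U, R, s, t, c)` be a groupoid in algebraic spaces over `B` with stabilizer `G ⟶ U` and unit
section `e : U ⟶ G`. Then (1) `j : R ⟶ U ×_B U` is separated iff `G ⟶ U` is separated iff `e` is a
closed immersion; (3) `j` is quasi-separated iff `G ⟶ U` is quasi-separated iff `e` is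
quasi-compact; (2) if `j` or `G ⟶ U` is locally separated then `e` is an immersion. The unit section
is written as any morphism `U ⟶ G` lifting the identity `e : U ⟶ R` of the groupoid. (The published
part (2) is a three-way equivalence; this row states only that `j` locally separated, or `G ⟶ U`
locally separated, implies that `e` is an immersion.) -/
theorem result (S : Scheme.{u}) (B : AlgSp.Sp S) (hB : AlgSp.IsAlgSpace B)
    (G : AlgSp.GroupoidSp B) (hU : AlgSp.IsAlgSpace G.U) (hR : AlgSp.IsAlgSpace G.R)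
    (eG : G.U ⟶ G.stabilizer) (heG : eG ≫ G.stabilizerι = G.e) :
    ((AlgSp.IsSeparatedMor G.j ↔ AlgSp.IsSeparatedMor G.stabilizerToU) ∧
        (AlgSp.IsSeparatedMor G.j ↔ AlgSp.RepWith @IsClosedImmersion eG)) ∧
      ((AlgSp.IsQuasiSeparatedMor G.j ↔ AlgSp.IsQuasiSeparatedMor G.stabilizerToU) ∧
        (AlgSp.IsQuasiSeparatedMor G.j ↔ AlgSp.IsQuasiCompactMor eG)) ∧
      ((AlgSp.IsLocallySeparatedMor G.j → AlgSp.RepWith @IsImmersion eG) ∧
        (AlgSp.IsLocallySeparatedMor G.stabilizerToU → AlgSp.RepWith @IsImmersion eG)) := by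
  unfold GroupoidSp.stabilizer GroupoidSp.stabilizerι GroupoidSp.stabilizerToU at *
  have lift_congr : ∀ {T : AlgSp.Sp S} {α α' β β' : T ⟶ G.R} (h : α ≫ G.s = β ≫ G.t) (h' : α' ≫ G.s = β' ≫ G.t),
      α = α' → β = β' → pullback.lift α β h ≫ G.c = pullback.lift α' β' h' ≫ G.c := by
    rintro T α α' β β' h h' rfl rfl; rfl
  have pre : ∀ {T T' : AlgSp.Sp S} (m : T' ⟶ T) (α β : T ⟶ G.R) (h : α ≫ G.s = β ≫ G.t)
      (h' : (m ≫ α) ≫ G.s = (m ≫ β) ≫ G.t),
      m ≫ pullback.lift α β h ≫ G.c = pullback.lift (m ≫ α) (m ≫ β) h' ≫ G.c := by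
    intro T T' m α β h h'
    rw [← Category.assoc]
    exact congrArg (· ≫ G.c) (pullback.hom_ext (by rw [Category.assoc, pullback.lift_fst, pullback.lift_fst])
      (by rw [Category.assoc, pullback.lift_snd, pullback.lift_snd]))
  have hd1 : G.diag ≫ pullback.fst G.pU G.pU = 𝟙 _ := pullback.lift_fst _ _ _
  have hd2 : G.diag ≫ pullback.snd G.pU G.pU = 𝟙 _ := pullback.lift_snd _ _ _
  have hsec : eG ≫ (pullback.snd G.j G.diag) = 𝟙 G.U := by
    have h := congrArg (fun z => eG ≫ z ≫ pullback.fst G.pU G.pU) (pullback.condition (f := G.j) (g := G.diag))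
    simp only [Category.assoc, GroupoidSp.j_fst, hd1, Category.comp_id] at h
    refine h.symm.trans ?_
    rw [← Category.assoc, show eG ≫ pullback.fst G.j G.diag = G.e from heG, G.e_t]
  let p₁ := pullback.fst G.j G.j
  let p₂ := pullback.snd G.j G.j
  have hp : p₁ ≫ G.j = p₂ ≫ G.j := pullback.condition
  have hpt : p₁ ≫ G.t = p₂ ≫ G.t := by rw [← G.j_fst, ← Category.assoc, hp, Category.assoc]
  have hps : p₁ ≫ G.s = p₂ ≫ G.s := by rw [← G.j_snd, ← Category.assoc, hp, Category.assoc]
  have h0 : (p₂ ≫ G.i) ≫ G.s = p₁ ≫ G.t := by rw [Category.assoc, G.i_s, hpt]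
  obtain ⟨γ, hγdef⟩ : ∃ γ, γ = pullback.lift (p₂ ≫ G.i) p₁ h0 ≫ G.c := ⟨_, rfl⟩
  have hγ : γ ≫ G.j = (p₁ ≫ G.s) ≫ G.diag := by
    apply pullback.hom_ext
    · rw [Category.assoc, Category.assoc, GroupoidSp.j_fst, hd1, Category.comp_id,
        show γ ≫ G.t = _ from hγdef ▸ G.comp_t _ _ h0, Category.assoc, G.i_t, hps]
    · rw [Category.assoc, Category.assoc, GroupoidSp.j_snd, hd2, Category.comp_id,
        show γ ≫ G.s = _ from hγdef ▸ G.comp_s _ _ h0]
  let ρ : pullback G.j G.j ⟶ (pullback G.j G.diag) := pullback.lift γ (p₁ ≫ G.s) hγ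
  have sq : IsPullback G.s (pullback.diagonal G.j) eG ρ := by
    have hd₁ : pullback.diagonal G.j ≫ p₁ = 𝟙 _ := pullback.diagonal_fst _
    have hd₂ : pullback.diagonal G.j ≫ p₂ = 𝟙 _ := pullback.diagonal_snd _
    refine IsPullback.of_isLimit' ⟨?_⟩ (PullbackCone.IsLimit.mk _ (fun c => c.snd ≫ p₁)
      (fun c => ?_) (fun c => ?_) (fun c m _ h2 => ?_))
    · apply pullback.hom_ext
      · rw [Category.assoc, Category.assoc, show eG ≫ pullback.fst G.j G.diag = G.e from heG, pullback.lift_fst]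
        rw [hγdef]
        rw [pre _ _ _ h0 (by rw [← Category.assoc (pullback.diagonal G.j) p₂, hd₂, hd₁, Category.id_comp, G.i_s, Category.id_comp])]
        rw [lift_congr _ (by rw [Category.id_comp, G.i_s, Category.id_comp])
          (show pullback.diagonal G.j ≫ p₂ ≫ G.i = 𝟙 _ ≫ G.i by rw [← Category.assoc, hd₂]) hd₁, G.i_comp (𝟙 G.R),
          Category.id_comp]
      · rw [Category.assoc, Category.assoc, show eG ≫ pullback.snd G.j G.diag = 𝟙 _ from hsec, pullback.lift_snd,
          ← Category.assoc, hd₁, Category.comp_id, Category.id_comp]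
    · have h := congrArg (· ≫ pullback.snd G.j G.diag) c.condition
      simp only [Category.assoc] at h
      rw [show eG ≫ pullback.snd G.j G.diag = 𝟙 _ from hsec, Category.comp_id, pullback.lift_snd] at h
      rw [Category.assoc]
      exact h.symm
    · have h := congrArg (· ≫ pullback.fst G.j G.diag) c.condition
      simp only [Category.assoc] at h
      rw [show eG ≫ pullback.fst G.j G.diag = G.e from heG, pullback.lift_fst] at h
      have hu : c.fst = c.snd ≫ p₁ ≫ G.s := by
        have h := congrArg (· ≫ pullback.snd G.j G.diag) c.condition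
        simp only [Category.assoc] at h
        rwa [show eG ≫ pullback.snd G.j G.diag = 𝟙 _ from hsec, Category.comp_id, pullback.lift_snd] at h
      have hst : (c.snd ≫ p₁) ≫ G.t = (c.snd ≫ p₂) ≫ G.t := by rw [Category.assoc, hpt, Category.assoc]
      have hss : (c.snd ≫ p₁) ≫ G.s = (c.snd ≫ p₂) ≫ G.s := by rw [Category.assoc, hps, Category.assoc]
      have key : c.snd ≫ p₁ = c.snd ≫ p₂ := by
        generalize ha : c.snd ≫ p₁ = a at hst hss ⊢
        generalize hb : c.snd ≫ p₂ = b at hst hss ⊢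
        have hba : (b ≫ G.i) ≫ G.s = a ≫ G.t := by rw [Category.assoc, G.i_s, hst]
        have hg : pullback.lift (b ≫ G.i) a hba ≫ G.c = a ≫ G.s ≫ G.e := by
          have h' : c.snd ≫ γ = pullback.lift (b ≫ G.i) a hba ≫ G.c := by
            rw [hγdef, pre c.snd _ _ h0 (by rw [← Category.assoc c.snd p₂, hb, ha, hba])]
            exact lift_congr _ hba (by rw [← Category.assoc, hb]) ha
          rw [← h', ← h, hu, ← ha]
          simp only [Category.assoc]
        have hbi : b ≫ G.s = (b ≫ G.i) ≫ G.t := by rw [Category.assoc, G.i_t]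
        have h1 := G.assoc b (b ≫ G.i) a hbi hba
        rw [lift_congr _ (by rw [Category.assoc, Category.assoc, G.e_s, Category.comp_id])
          ((G.comp_i b).trans (show b ≫ G.t ≫ G.e = a ≫ G.t ≫ G.e by rw [← Category.assoc, ← hst, Category.assoc])) rfl, G.e_comp a] at h1
        rw [h1, lift_congr _ (by rw [Category.assoc, Category.assoc, G.e_t, Category.comp_id]) rfl
          (hg.trans (show a ≫ G.s ≫ G.e = b ≫ G.s ≫ G.e by rw [← Category.assoc, hss, Category.assoc])), G.comp_e b]
      apply pullback.hom_ext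
      · change ((c.snd ≫ p₁) ≫ pullback.diagonal G.j) ≫ p₁ = c.snd ≫ p₁
        rw [Category.assoc, hd₁, Category.comp_id]
      · change ((c.snd ≫ p₁) ≫ pullback.diagonal G.j) ≫ p₂ = c.snd ≫ p₂
        rw [Category.assoc, hd₂, Category.comp_id, key]
    · rw [← h2, Category.assoc, hd₁, Category.comp_id]
  have hbase : IsPullback (pullback.fst G.j G.diag) (pullback.snd G.j G.diag) G.j G.diag := IsPullback.of_hasPullback _ _
  have hW : IsAlgSpace (pullback G.j G.diag) :=
    AlgSpLib.isAlgSpace_of_isPullback hR hU (AlgSpLib.isAlgSpace_pullback hU hU hB G.pU G.pU) hbase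
  have e1 : ∀ P : MorphismProperty Scheme.{u}, RepWith P (pullback.diagonal (pullback.snd G.j G.diag)) → RepWith P eG :=
    fun P h => AlgSpLib.repWith_section (f := (pullback.snd G.j G.diag)) hsec h
  have e2 : ∀ P : MorphismProperty Scheme.{u}, RepWith P (pullback.diagonal G.j) →
      RepWith P (pullback.diagonal (pullback.snd G.j G.diag)) :=
    fun P h => AlgSpLib.repWith_diagonal_of_isPullback hbase h
  have e3 : ∀ P : MorphismProperty Scheme.{u}, RepWith P eG → RepWith P (pullback.diagonal G.j) :=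
    fun P h => AlgSpLib.repWith_of_isPullback sq h
  have hr : Representable eG := (e1 _ (AlgSpLib.repWith_diagonal_properties hW (pullback.snd G.j G.diag)).2.1).rep
  have hqc : RepWith @QuasiCompact eG ↔ IsQuasiCompactMor eG := AlgSpLib.repWith_quasiCompact_iff hU hW hr
  exact ⟨⟨⟨e2 _, fun h => e3 _ (e1 _ h)⟩, ⟨fun h => e1 _ (e2 _ h), e3 _⟩⟩,
    ⟨⟨e2 _, fun h => e3 _ (e1 _ h)⟩, ⟨fun h => hqc.1 (e1 _ (e2 _ h)), fun h => e3 _ (hqc.2 h)⟩⟩,
    fun h => e1 _ (e2 _ h), e1 _⟩

end Groth.Agent.S10122
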