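import Groth.Statements.S10123
import Groth.Agent.AlgSpLib.LocP

set_option autoImplicit false
universe u
open CategoryTheory CategoryTheory.Limits AlgebraicGeometry
open AlgSp AlgSp.GroupoidSp

namespace Groth.Agent.S10123

/-- Let `(U', R', s', t', c')` be the restriction of a groupoid in algebraic spaces `(U, R, s, t, c)`
over `B` along `g : U' ⟶ U`. If `s, t, g` are locally of finite type (resp. locally of finite
presentation, resp. flat) then so are `s', t'`. -/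
theorem result (S : Scheme.{u}) (B : AlgSp.Sp S) (hB : AlgSp.IsAlgSpace B)
    (G G' : AlgSp.GroupoidSp B) (hU : AlgSp.IsAlgSpace G.U) (hR : AlgSp.IsAlgSpace G.R)
    (hU' : AlgSp.IsAlgSpace G'.U) (hR' : AlgSp.IsAlgSpace G'.R) (φ : AlgSp.GroupoidSp.Hom G' G)
    (hφ : φ.IsRestriction) :
    (AlgSp.LocP @LocallyOfFiniteType G.s → AlgSp.LocP @LocallyOfFiniteType G.t →
        AlgSp.LocP @LocallyOfFiniteType φ.fU →
        AlgSp.LocP @LocallyOfFiniteType G'.s ∧ AlgSp.LocP @LocallyOfFiniteType G'.t) ∧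
      (AlgSp.LocP @LocallyOfFinitePresentation G.s → AlgSp.LocP @LocallyOfFinitePresentation G.t →
        AlgSp.LocP @LocallyOfFinitePresentation φ.fU →
        AlgSp.LocP @LocallyOfFinitePresentation G'.s ∧ AlgSp.LocP @LocallyOfFinitePresentation G'.t) ∧
      (AlgSp.LocP @Flat G.s → AlgSp.LocP @Flat G.t → AlgSp.LocP @Flat φ.fU →
        AlgSp.LocP @Flat G'.s ∧ AlgSp.LocP @Flat G'.t) := by
  have huniv : ∀ {T : AlgSp.Sp S} (r : T ⟶ G.R) (a b : T ⟶ G'.U), r ≫ G.t = a ≫ φ.fU → r ≫ G.s = b ≫ φ.fU →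
      ∃! l : T ⟶ G'.R, l ≫ φ.fR = r ∧ l ≫ G'.t = a ∧ l ≫ G'.s = b := by
    intro T r a b h₁ h₂
    have hab : a ≫ G'.pU = b ≫ G'.pU := by
      rw [← φ.fU_over, ← Category.assoc, ← Category.assoc, ← h₁, ← h₂, Category.assoc, Category.assoc, G.s_over, G.t_over]
    have w : r ≫ G.j = pullback.lift a b hab ≫ φ.prodMap := by
      apply pullback.hom_ext
      · rw [Category.assoc, AlgSp.GroupoidSp.j_fst, AlgSp.GroupoidSp.Hom.prodMap, Category.assoc,
          pullback.lift_fst, pullback.lift_fst_assoc, h₁]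
      · rw [Category.assoc, AlgSp.GroupoidSp.j_snd, AlgSp.GroupoidSp.Hom.prodMap, Category.assoc,
          pullback.lift_snd, pullback.lift_snd_assoc, h₂]
    refine ⟨hφ.lift r (pullback.lift a b hab) w, ⟨hφ.lift_fst _ _ _, ?_, ?_⟩, fun l hl => ?_⟩
    · rw [← AlgSp.GroupoidSp.j_fst, ← Category.assoc, hφ.lift_snd, pullback.lift_fst]
    · rw [← AlgSp.GroupoidSp.j_snd, ← Category.assoc, hφ.lift_snd, pullback.lift_snd]
    · apply hφ.hom_ext
      · rw [hφ.lift_fst, hl.1]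
      · rw [hφ.lift_snd]
        apply pullback.hom_ext
        · rw [Category.assoc, AlgSp.GroupoidSp.j_fst, pullback.lift_fst, hl.2.1]
        · rw [Category.assoc, AlgSp.GroupoidSp.j_snd, pullback.lift_snd, hl.2.2]
  have key : ∀ {P : MorphismProperty Scheme.{u}} [AlgSpLib.EtLocProp P] [P.IsStableUnderComposition]
      (σ τ : G.R ⟶ G.U) (σ' τ' : G'.R ⟶ G'.U), φ.fR ≫ σ = σ' ≫ φ.fU → φ.fR ≫ τ = τ' ≫ φ.fU →
      (∀ {T : AlgSp.Sp S} (r : T ⟶ G.R) (a b : T ⟶ G'.U), r ≫ τ = a ≫ φ.fU → r ≫ σ = b ≫ φ.fU →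
        ∃! l : T ⟶ G'.R, l ≫ φ.fR = r ∧ l ≫ τ' = a ∧ l ≫ σ' = b) →
      AlgSp.LocP P σ → AlgSp.LocP P φ.fU → AlgSp.LocP P σ' := by
    intro P _ _ σ τ σ' τ' hσ hτ hu hs hf
    have hQ := AlgSpLib.isAlgSpace_pullback hR hU' hU σ φ.fU
    let l := pullback.lift φ.fR σ' hσ
    have ex : ∀ c : PullbackCone φ.fU (pullback.fst σ φ.fU ≫ τ), ∃! m : c.pt ⟶ G'.R,
        m ≫ φ.fR = c.snd ≫ pullback.fst σ φ.fU ∧ m ≫ τ' = c.fst ∧ m ≫ σ' = c.snd ≫ pullback.snd σ φ.fU := fun c =>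
      hu (c.snd ≫ pullback.fst σ φ.fU) c.fst (c.snd ≫ pullback.snd σ φ.fU)
          (by rw [Category.assoc]; exact c.condition.symm)
          (by rw [Category.assoc, Category.assoc, pullback.condition])
    have sq : IsPullback τ' l φ.fU (pullback.fst σ φ.fU ≫ τ) := by
      refine ⟨⟨by rw [pullback.lift_fst_assoc, hτ]⟩, ⟨PullbackCone.IsLimit.mk _ (fun c => (ex c).choose)
        (fun c => ?_) (fun c => ?_) (fun c m h₁ h₂ => ?_)⟩⟩
      · exact (ex c).choose_spec.1.2.1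
      · apply pullback.hom_ext
        · rw [Category.assoc, pullback.lift_fst, (ex c).choose_spec.1.1]
        · rw [Category.assoc, pullback.lift_snd, (ex c).choose_spec.1.2.2]
      · refine (ex c).choose_spec.2 m ⟨?_, h₁, ?_⟩
        · rw [← h₂, Category.assoc, pullback.lift_fst]
        · rw [← h₂, Category.assoc, pullback.lift_snd]
    have h2 := AlgSpLib.locP_comp hR' hQ hU' (AlgSpLib.locP_of_isPullback hU' hU hQ sq hf)
      (AlgSpLib.locP_of_isPullback hR hU hU' (IsPullback.of_hasPullback σ φ.fU) hs)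
    rwa [pullback.lift_snd] at h2
  have key' : ∀ {P : MorphismProperty Scheme.{u}} [AlgSpLib.EtLocProp P] [P.IsStableUnderComposition],
      AlgSp.LocP P G.s → AlgSp.LocP P G.t → AlgSp.LocP P φ.fU → AlgSp.LocP P G'.s ∧ AlgSp.LocP P G'.t := by
    intro P _ _ hs ht hf
    refine ⟨key G.s G.t G'.s G'.t φ.comm_s φ.comm_t huniv hs hf,
      key G.t G.s G'.t G'.s φ.comm_t φ.comm_s (fun r a b h₁ h₂ => ?_) ht hf⟩
    simpa [and_comm, and_left_comm] using huniv r b a h₂ h₁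
  exact ⟨key', key', key'⟩

end Groth.Agent.S10123
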