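import Groth.Statements.S10124


set_option autoImplicit false
universe u
open CategoryTheory CategoryTheory.Limits AlgebraicGeometry
open AlgSp AlgSp.GroupoidSp

namespace Groth.Agent.S10124

/-- Let `(U, R, s, t, c)` be a groupoid in algebraic spaces over `B`, `K` a field and `r, r' : Spec K ⟶
R` with `t ∘ r = t ∘ r'`; put `u = s ∘ r`, `u' = s ∘ r'`. Then the fibres `Spec K ×_{u, U, s} R` and
`Spec K ×_{u', U, s} R` are isomorphic as spaces over `Spec K` (existence of an isomorphism over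
`Spec K`). -/
theorem result (S : Scheme.{u}) (B : AlgSp.Sp S) (hB : AlgSp.IsAlgSpace B)
    (G : AlgSp.GroupoidSp B) (hU : AlgSp.IsAlgSpace G.U) (hR : AlgSp.IsAlgSpace G.R)
    (K : Type u) [Field K] (σ : Spec (CommRingCat.of K) ⟶ S)
    (r r' : (AlgSp.yon S).obj (Over.mk σ) ⟶ G.R) (h : r ≫ G.t = r' ≫ G.t) :
    Nonempty (Over.mk (pullback.fst (r ≫ G.s) G.s) ≅ Over.mk (pullback.fst (r' ≫ G.s) G.s)) := by
  have lift_congr : ∀ {T : AlgSp.Sp S} {α α' β β' : T ⟶ G.R} (h : α ≫ G.s = β ≫ G.t) (h' : α' ≫ G.s = β' ≫ G.t),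
      α = α' → β = β' → pullback.lift α β h ≫ G.c = pullback.lift α' β' h' ≫ G.c := by
    rintro T α α' β β' h h' rfl rfl; rfl
  have pre : ∀ {T T' : AlgSp.Sp S} (m : T' ⟶ T) (α β : T ⟶ G.R) (h : α ≫ G.s = β ≫ G.t)
      (h' : (m ≫ α) ≫ G.s = (m ≫ β) ≫ G.t),
      m ≫ pullback.lift α β h ≫ G.c = pullback.lift (m ≫ α) (m ≫ β) h' ≫ G.c := by
    intro T T' m α β h h'
    rw [← Category.assoc]
    exact congrArg (· ≫ G.c) (pullback.hom_ext (by rw [Category.assoc, pullback.lift_fst, pullback.lift_fst])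
      (by rw [Category.assoc, pullback.lift_snd, pullback.lift_snd]))
  have step : ∀ (a b : (AlgSp.yon S).obj (Over.mk σ) ⟶ G.R), a ≫ G.t = b ≫ G.t →
      ∃ f : pullback (a ≫ G.s) G.s ⟶ pullback (b ≫ G.s) G.s, f ≫ pullback.fst _ _ = pullback.fst _ _ ∧
        ∀ (h0 : (a ≫ G.i) ≫ G.s = b ≫ G.t) (h1 : pullback.snd (a ≫ G.s) G.s ≫ G.s =
          (pullback.fst (a ≫ G.s) G.s ≫ pullback.lift (a ≫ G.i) b h0 ≫ G.c) ≫ G.t),
          f ≫ pullback.snd _ _ =
            pullback.lift _ _ h1 ≫ G.c := by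
    intro a b hab
    have h0 : (a ≫ G.i) ≫ G.s = b ≫ G.t := by rw [Category.assoc, G.i_s, hab]
    have h1 : pullback.snd (a ≫ G.s) G.s ≫ G.s =
        (pullback.fst (a ≫ G.s) G.s ≫ pullback.lift (a ≫ G.i) b h0 ≫ G.c) ≫ G.t := by
      rw [Category.assoc (pullback.fst (a ≫ G.s) G.s), G.comp_t, Category.assoc a, G.i_t, ← pullback.condition]
    refine ⟨pullback.lift (pullback.fst _ _) (pullback.lift _ _ h1 ≫ G.c) ?_, pullback.lift_fst _ _ _,
      fun _ _ => pullback.lift_snd _ _ _⟩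
    rw [G.comp_s, Category.assoc (pullback.fst (a ≫ G.s) G.s), G.comp_s]
  have round : ∀ (a b : (AlgSp.yon S).obj (Over.mk σ) ⟶ G.R) (hab : a ≫ G.t = b ≫ G.t)
      (f : pullback (a ≫ G.s) G.s ⟶ pullback (b ≫ G.s) G.s) (g : pullback (b ≫ G.s) G.s ⟶ pullback (a ≫ G.s) G.s),
      (f ≫ pullback.fst _ _ = pullback.fst _ _ ∧
        ∀ (h0 : (a ≫ G.i) ≫ G.s = b ≫ G.t) (h1 : pullback.snd (a ≫ G.s) G.s ≫ G.s =
          (pullback.fst (a ≫ G.s) G.s ≫ pullback.lift (a ≫ G.i) b h0 ≫ G.c) ≫ G.t),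
          f ≫ pullback.snd _ _ = pullback.lift _ _ h1 ≫ G.c) →
      (g ≫ pullback.fst _ _ = pullback.fst _ _ ∧
        ∀ (h0 : (b ≫ G.i) ≫ G.s = a ≫ G.t) (h1 : pullback.snd (b ≫ G.s) G.s ≫ G.s =
          (pullback.fst (b ≫ G.s) G.s ≫ pullback.lift (b ≫ G.i) a h0 ≫ G.c) ≫ G.t),
          g ≫ pullback.snd _ _ = pullback.lift _ _ h1 ≫ G.c) → f ≫ g = 𝟙 _ := by
    intro a b hab f g ⟨hf₁, hf₂⟩ ⟨hg₁, hg₂⟩
    have ha0 : (a ≫ G.i) ≫ G.s = b ≫ G.t := by rw [Category.assoc, G.i_s, hab]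
    have hb0 : (b ≫ G.i) ≫ G.s = a ≫ G.t := by rw [Category.assoc, G.i_s, hab]
    obtain ⟨m, hm⟩ : ∃ m, m = pullback.lift (a ≫ G.i) b ha0 ≫ G.c := ⟨_, rfl⟩
    obtain ⟨n, hn⟩ : ∃ n, n = pullback.lift (b ≫ G.i) a hb0 ≫ G.c := ⟨_, rfl⟩
    have mt : m ≫ G.t = a ≫ G.s := by rw [hm, G.comp_t, Category.assoc, G.i_t]
    have ms : m ≫ G.s = b ≫ G.s := by rw [hm, G.comp_s]
    have nt : n ≫ G.t = b ≫ G.s := by rw [hn, G.comp_t, Category.assoc, G.i_t]
    have hmn : m ≫ G.s = n ≫ G.t := by rw [ms, nt]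
    have hc : pullback.lift m n hmn ≫ G.c = a ≫ G.s ≫ G.e := by
      subst hm hn
      have hbb : b ≫ G.s = (b ≫ G.i) ≫ G.t := by rw [Category.assoc, G.i_t]
      rw [G.assoc (a ≫ G.i) b _ ha0 (hbb.trans (G.comp_t _ _ hb0).symm),
        lift_congr _ (ha0.trans hab.symm) rfl (?_ : _ = a), G.i_comp a]
      rw [← G.assoc b (b ≫ G.i) a hbb hb0,
        lift_congr _ (by rw [Category.assoc, Category.assoc, G.e_s, Category.comp_id])
          ((G.comp_i b).trans (show b ≫ G.t ≫ G.e = a ≫ G.t ≫ G.e by rw [← Category.assoc, ← hab, Category.assoc])) rfl,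
        G.e_comp a]
    apply pullback.hom_ext
    · rw [Category.assoc, hg₁, hf₁, Category.id_comp]
    · have k1 : pullback.snd (a ≫ G.s) G.s ≫ G.s = (pullback.fst (a ≫ G.s) G.s ≫ m) ≫ G.t := by
        rw [Category.assoc, mt, pullback.condition]
      have k2 : pullback.snd (b ≫ G.s) G.s ≫ G.s = (pullback.fst (b ≫ G.s) G.s ≫ n) ≫ G.t := by
        rw [Category.assoc, nt, pullback.condition]
      have ef : f ≫ pullback.snd _ _ = pullback.lift _ _ k1 ≫ G.c := by subst hm; exact hf₂ ha0 k1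
      have eg : g ≫ pullback.snd _ _ = pullback.lift _ _ k2 ≫ G.c := by subst hn; exact hg₂ hb0 k2
      have k3 : (pullback.fst (a ≫ G.s) G.s ≫ m) ≫ G.s = (pullback.fst (a ≫ G.s) G.s ≫ n) ≫ G.t := by
        rw [Category.assoc, hmn, Category.assoc]
      rw [Category.assoc, Category.id_comp, eg, pre f _ _ k2 (by simp only [Category.assoc] at k2 ⊢; rw [k2]),
        lift_congr _ ((G.comp_s _ _ k1).trans k3) ef (show f ≫ pullback.fst _ _ ≫ n = pullback.fst _ _ ≫ n by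
          rw [← Category.assoc, hf₁]),
        G.assoc _ _ _ k1 k3]
      rw [lift_congr _ (by rw [Category.assoc, Category.assoc, G.e_t, Category.comp_id]) rfl
        (show pullback.lift _ _ k3 ≫ G.c = pullback.snd (a ≫ G.s) G.s ≫ G.s ≫ G.e by
          rw [← pre _ m n hmn k3, hc, ← Category.assoc a, ← Category.assoc, pullback.condition, Category.assoc])]
      exact G.comp_e _
  obtain ⟨f, hf⟩ := step r r' h
  obtain ⟨g, hg⟩ := step r' r h.symm
  exact ⟨Over.isoMk ⟨f, g, round r r' h f g hf hg, round r' r h.symm g f hg hf⟩ hf.1⟩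

end Groth.Agent.S10124
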