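import Groth.Statements.S10125
import Groth.Agent.FieldFlatLib.Proj
import Mathlib.CategoryTheory.Monoidal.Cartesian.Grp

set_option autoImplicit false
universe u
open CategoryTheory CategoryTheory.Limits AlgebraicGeometry MonoidalCategory MonObj
open AlgSp

namespace Groth.Agent.S10125

/-- For a group algebraic space `G` over a field `k`, the multiplication `m` of `G`, a morphism `G ×_k G
⟶ G`, is both flat and universally open. (The published situation allows any base scheme `S` with
`k` a field over `S`; this row takes `S = Spec k`.) -/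
theorem result (k : Type u) [Field k]
    (G : Over ((AlgSp.yon (Spec (CommRingCat.of k))).obj (Over.mk (𝟙 _)))) [GrpObj G]
    (hG : AlgSp.IsAlgSpace G.left) :
    AlgSp.LocP @Flat (μ[G]).left ∧ AlgSp.IsUnivOpenMor (μ[G]).left := by
  let F : G ⊗ G ⟶ G ⊗ G := CartesianMonoidalCategory.lift (CartesianMonoidalCategory.fst G G * CartesianMonoidalCategory.snd G G) (CartesianMonoidalCategory.snd G G)
  let F' : G ⊗ G ⟶ G ⊗ G := CartesianMonoidalCategory.lift (CartesianMonoidalCategory.fst G G * (CartesianMonoidalCategory.snd G G)⁻¹) (CartesianMonoidalCategory.snd G G)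
  let e : G ⊗ G ≅ G ⊗ G :=
    { hom := F, inv := F'
      hom_inv_id := by apply CartesianMonoidalCategory.hom_ext <;> simp [F, F', MonObj.comp_mul, GrpObj.comp_inv]
      inv_hom_id := by apply CartesianMonoidalCategory.hom_ext <;> simp [F, F', MonObj.comp_mul, GrpObj.comp_inv] }
  have he : μ[G] = e.hom ≫ CartesianMonoidalCategory.fst G G := by
    simp only [e, F, CartesianMonoidalCategory.lift_fst, Hom.mul_def]
    rw [CartesianMonoidalCategory.lift_fst_snd, Category.id_comp]
  have hsp : AlgSp.IsAlgSpace (G ⊗ G).left :=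
    AlgSpLib.isAlgSpace_pullback hG hG (AlgSp.IsAlgSpace.yon_obj _) G.hom G.hom
  rw [he, Over.comp_left, Over.fst_left]
  exact FieldFlatLib.flat_univOpen_of_iso_proj hG hG hsp (Iso.refl _)
    (IsPullback.of_hasPullback G.hom G.hom) ((Over.forget _).mapIso e)

end Groth.Agent.S10125
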