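import Groth.Statements.S10126
import Groth.Agent.FieldFlatLib.Proj

set_option autoImplicit false
universe u
open CategoryTheory CategoryTheory.Limits AlgebraicGeometry
open AlgSp AlgSp.GroupoidSp

namespace Groth.Agent.S10126

/-- Let `(U, R, s, t, c)` be a groupoid in algebraic spaces over `B` whose object space is `U = Spec k`,
with `k` a field. Then the composition `c : R ×_{s, U, t} R ⟶ R` is flat and universally open. -/
theorem result (S : Scheme.{u}) (B : AlgSp.Sp S) (hB : AlgSp.IsAlgSpace B)
    (G : AlgSp.GroupoidSp B) (hR : AlgSp.IsAlgSpace G.R) (k : Type u) [Field k]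
    (σ : Spec (CommRingCat.of k) ⟶ S) (eU : G.U ≅ (AlgSp.yon S).obj (Over.mk σ)) :
    AlgSp.LocP @Flat G.c ∧ AlgSp.IsUnivOpenMor G.c := by
  have hB' := AlgSp.IsAlgSpace.yon_obj (S := S) (Over.mk σ)
  have hU : AlgSp.IsAlgSpace G.U := AlgSpLib.isAlgSpace_of_representable hB' eU.hom
    (Functor.relativelyRepresentable.of_isIso _ eU.hom)
  let a := pullback.fst G.s G.t
  let b := pullback.snd G.s G.t
  have hab : a ≫ G.s = b ≫ G.t := pullback.condition
  let γ := pullback.fst G.t G.t
  let α := pullback.snd G.t G.t
  have hga : γ ≫ G.t = α ≫ G.t := pullback.condition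
  have h1 : (α ≫ G.i) ≫ G.s = γ ≫ G.t := by rw [Category.assoc, G.i_s, hga]
  have hc : G.c ≫ G.t = a ≫ G.t := by
    have := G.comp_t a b hab
    rwa [show pullback.lift a b hab = 𝟙 _ from pullback.hom_ext ((pullback.lift_fst _ _ _).trans (Category.id_comp _).symm) ((pullback.lift_snd _ _ _).trans (Category.id_comp _).symm), Category.id_comp] at this
  let F : pullback G.s G.t ⟶ pullback G.t G.t := pullback.lift G.c a hc
  let F' : pullback G.t G.t ⟶ pullback G.s G.t := pullback.lift α (pullback.lift (α ≫ G.i) γ h1 ≫ G.c)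
    (by rw [G.comp_t, Category.assoc, G.i_t])
  have hid : ∀ {T : AlgSp.Sp S} (x y : T ⟶ G.R) (h : x ≫ G.s = y ≫ G.t),
      pullback.lift x y h ≫ F = pullback.lift (pullback.lift x y h ≫ G.c) x (G.comp_t x y h) := by
    intro T x y h
    apply pullback.hom_ext
    · rw [Category.assoc, pullback.lift_fst, pullback.lift_fst]
    · rw [Category.assoc, pullback.lift_snd, pullback.lift_snd, pullback.lift_fst]
  have key : ∀ {T : AlgSp.Sp S} (x y : T ⟶ G.R) (h : x ≫ G.s = y ≫ G.t),
      pullback.lift (x ≫ G.i) (pullback.lift x y h ≫ G.c) (by rw [G.comp_t, Category.assoc, G.i_s]) ≫ G.c = y := by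
    intro T x y h
    rw [← G.assoc (x ≫ G.i) x y (by rw [Category.assoc, G.i_s]) h]
    simp only [G.i_comp]
    refine Eq.trans ?_ (G.e_comp y)
    congr 1
    apply pullback.hom_ext
    · rw [pullback.lift_fst, pullback.lift_fst, reassoc_of% h]
    · rw [pullback.lift_snd, pullback.lift_snd]
  have key' : ∀ {T : AlgSp.Sp S} (x z : T ⟶ G.R) (h : (x ≫ G.i) ≫ G.s = z ≫ G.t),
      pullback.lift x (pullback.lift (x ≫ G.i) z h ≫ G.c) (by rw [G.comp_t, Category.assoc, G.i_t]) ≫ G.c = z := by
    intro T x z h
    rw [← G.assoc x (x ≫ G.i) z (by rw [Category.assoc, G.i_t]) h]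
    simp only [G.comp_i]
    refine Eq.trans ?_ (G.e_comp z)
    congr 1
    apply pullback.hom_ext
    · rw [pullback.lift_fst, pullback.lift_fst]
      rw [Category.assoc, G.i_s] at h
      rw [reassoc_of% h]
    · rw [pullback.lift_snd, pullback.lift_snd]
  let e : pullback G.s G.t ≅ pullback G.t G.t :=
    { hom := F, inv := F'
      hom_inv_id := by
        apply pullback.hom_ext
        · rw [Category.assoc, pullback.lift_fst, pullback.lift_snd, Category.id_comp]
        · rw [Category.assoc, pullback.lift_snd, Category.id_comp, ← Category.assoc]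
          refine Eq.trans ?_ (key a b hab)
          congr 1
          apply pullback.hom_ext
          · rw [Category.assoc, pullback.lift_fst, pullback.lift_fst, ← Category.assoc, pullback.lift_snd]
          · rw [Category.assoc, pullback.lift_snd, pullback.lift_snd, pullback.lift_fst,
              show pullback.lift a b hab = 𝟙 _ from pullback.hom_ext ((pullback.lift_fst _ _ _).trans (Category.id_comp _).symm) ((pullback.lift_snd _ _ _).trans (Category.id_comp _).symm),
              Category.id_comp]
      inv_hom_id := by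
        rw [hid]
        apply pullback.hom_ext
        · rw [pullback.lift_fst, Category.id_comp]; exact key' α γ h1
        · rw [pullback.lift_snd, Category.id_comp] }
  have he : G.c = e.hom ≫ pullback.fst G.t G.t := (pullback.lift_fst _ _ _).symm
  rw [he]
  exact FieldFlatLib.flat_univOpen_of_iso_proj hR hR (AlgSpLib.isAlgSpace_pullback hR hR hU G.t G.t) eU
    (IsPullback.of_hasPullback G.t G.t) e

end Groth.Agent.S10126
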