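import Groth.Statements.S10127
import Groth.Agent.AlgSpDecentSepLib.Main

set_option autoImplicit false
set_option backward.isDefEq.respectTransparency false
set_option backward.isDefEq.respectTransparency.types false
-- import your own Groth.Agent.* helpers here

set_option autoImplicit false
noncomputable section
universe u
open CategoryTheory CategoryTheory.Limits AlgebraicGeometry MonoidalCategory MonObj
open AlgSp

namespace Groth.Agent.S10127

open AlgSp MonoidalCategory CartesianMonoidalCategory MonObj GrpObj

variable {S : Scheme.{u}} {B : AlgSp.Sp S} (G : Over B) [GrpObj G]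

/-- The groupoid of a group object. -/
def gpd : AlgSp.GroupoidSp B := by
  let el : ∀ {T : AlgSp.Sp S} (α : T ⟶ G.left), Over.mk (α ≫ G.hom) ⟶ G := fun α => Over.homMk α rfl
  let el' : ∀ {T : AlgSp.Sp S} {α : T ⟶ G.left} (β : T ⟶ G.left), α ≫ G.hom = β ≫ G.hom →
      (Over.mk (α ≫ G.hom) ⟶ G) := fun β h => Over.homMk β h.symm
  refine
    { U := B
      R := G.left
      pU := 𝟙 B
      pR := G.hom
      s := G.hom
      t := G.hom
      e := η[G].left
      i := ι[G].left
      c := μ[G].left
      s_over := Category.comp_id _
      t_over := Category.comp_id _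
      comp_s := fun {T} α β h => ?_
      comp_t := fun {T} α β h => ?_
      assoc := fun {T} α β δ h₁ h₂ => ?_
      e_s := Over.w η[G]
      e_t := Over.w η[G]
      comp_e := fun {T} α => ?_
      e_comp := fun {T} α => ?_
      i_s := Over.w ι[G]
      i_t := Over.w ι[G]
      comp_i := fun {T} α => ?_
      i_comp := fun {T} α => ?_ }
  · have h2 : (pullback.lift α β h ≫ μ[G].left) ≫ G.hom = α ≫ G.hom :=
      Over.w (lift (el α) (el' β h) ≫ μ[G])
    exact h2.trans h
  · exact Over.w (lift (el α) (el' β h) ≫ μ[G])
  · have h3 := _root_.mul_assoc (el α) (el' β h₁) (el' δ (h₁.trans h₂))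
    simp only [Hom.mul_def] at h3
    exact congrArg Over.Hom.left h3
  · have h := _root_.mul_one (el α)
    rw [Hom.one_def, Hom.mul_def] at h
    exact congrArg Over.Hom.left h
  · have h := _root_.one_mul (el α)
    rw [Hom.one_def, Hom.mul_def] at h
    exact congrArg Over.Hom.left h
  · have h := _root_.mul_inv_cancel (el α)
    rw [Hom.one_def, Hom.inv_def, Hom.mul_def] at h
    exact congrArg Over.Hom.left h
  · have h := _root_.inv_mul_cancel (el α)
    rw [Hom.one_def, Hom.inv_def, Hom.mul_def] at h
    exact congrArg Over.Hom.left h


/-- A group algebraic space over a field `k` which is a decent algebraic space is separated. (The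
published situation allows any base scheme `S` with `k` a field over `S`; this row takes `S = Spec
k`.) -/
theorem result (k : Type u) [Field k]
    (G : Over ((AlgSp.yon (Spec (CommRingCat.of k))).obj (Over.mk (𝟙 _)))) [GrpObj G]
    (hG : AlgSp.IsAlgSpace G.left) (hd : AlgSp.IsDecent G.left) : AlgSp.IsSeparatedSp G.left := by
  exact Groth.Agent.AlgSpDecentSepLib.isSeparatedSp_R (gpd G) hG (Iso.refl _) hd

end Groth.Agent.S10127
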