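import Groth.Statements.S10129
import Groth.Agent.AlgSpRegLib.FppfEpi
import Groth.Agent.AlgSpRegLib.ImageApps
import Groth.Agent.AlgSpLib.EqOnDense
import Groth.Agent.AlgSpLib.SheafDesc
-- import your own Groth.Agent.* helpers here

set_option autoImplicit false
universe u
open CategoryTheory CategoryTheory.Limits AlgebraicGeometry
open AlgSp

namespace Groth.Agent.S10129

/-- Consider morphisms `g : X ⟶ Z` and `f : X ⟶ Y` of algebraic spaces over `B`, with `Y ⟶ B` separated
and `g` surjective, flat and locally of finite presentation, and let `V ⊂ Z` be a scheme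
theoretically dense open subspace with `V ⟶ Z` quasi-compact such that `f` restricted to `g⁻¹(V)`
factors through `g⁻¹(V) ⟶ V`. Then `f` factors through `g`. (The published statement does not ask
the open immersion `V ⟶ Z` to be quasi-compact; the published proof pulls the scheme theoretic
density of `V` back along a flat morphism by a lemma that requires it, so this row assumes it.) -/
theorem result (S : Scheme.{u}) (B : AlgSp.Sp S) (hB : AlgSp.IsAlgSpace B)
    (X Y Z : AlgSp.Space S) (pX : X.obj ⟶ B) (pY : Y.obj ⟶ B) (pZ : Z.obj ⟶ B)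
    (f : X.obj ⟶ Y.obj) (g : X.obj ⟶ Z.obj) (hf : f ≫ pY = pX) (hg : g ≫ pZ = pX)
    (hY : AlgSp.IsSeparatedMor pY)
    (hgs : AlgSp.IsSurjectiveMor g) (hgf : AlgSp.LocP @Flat g) (hgp : AlgSp.LocP @LocallyOfFinitePresentation g)
    (V : AlgSp.Sp S) (v : V ⟶ Z.obj) (hv : AlgSp.IsSchDense v) (hvq : AlgSp.IsQuasiCompactMor v)
    (hfac : ∃ φ : V ⟶ Y.obj, pullback.fst g v ≫ f = pullback.snd g v ≫ φ) :
    ∃ h : Z.obj ⟶ Y.obj, g ≫ h = f := by
  obtain ⟨φ, hφ⟩ := hfac
  haveI : AlgSpLib.EtLocProp (@Flat : MorphismProperty Scheme.{u}) := AlgSpLib.etLocProp_of_list (by simp)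
  haveI := AlgSpRegLib.isLocallySurjective_of_fppf X.property Z.property hgf hgp hgs
  have hV : AlgSp.IsAlgSpace V := AlgSpLib.isAlgSpace_of_representable Z.property v hv.1.rep
  have hR := AlgSpLib.isAlgSpace_pullback X.property X.property Z.property g g
  let r1 := pullback.fst g g
  let r2 := pullback.snd g g
  have hr1 : AlgSp.LocP @Flat r1 :=
    AlgSpLib.locP_of_isPullback X.property Z.property X.property (IsPullback.of_hasPullback g g).flip hgf
  have hfl : AlgSp.LocP @Flat (r1 ≫ g) := AlgSpLib.locP_comp hR X.property Z.property hr1 hgf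
  have sqV := IsPullback.of_hasPullback (r1 ≫ g) v
  have hd : AlgSp.IsSchDense (pullback.fst (r1 ≫ g) v) :=
    AlgSpRegLib.isSchDense_preimage_of_flat hR Z.property hV hfl hv hvq sqV.flip
  have hoff : pullback.fst (r1 ≫ g) v ≫ r1 ≫ f = pullback.fst (r1 ≫ g) v ≫ r2 ≫ f := by
    let p := pullback.fst (r1 ≫ g) v
    let q := pullback.snd (r1 ≫ g) v
    have w1 : (p ≫ r1) ≫ g = q ≫ v := (Category.assoc _ _ _).trans pullback.condition
    have w2 : (p ≫ r2) ≫ g = q ≫ v := by
      rw [Category.assoc, show r2 ≫ g = r1 ≫ g from pullback.condition.symm]; exact pullback.condition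
    have a1 := congrArg (pullback.lift (p ≫ r1) q w1 ≫ ·) hφ
    have a2 := congrArg (pullback.lift (p ≫ r2) q w2 ≫ ·) hφ
    simp only [← Category.assoc, pullback.lift_fst, pullback.lift_snd] at a1 a2
    simp only [← Category.assoc]
    exact a1.trans a2.symm
  have heq : r1 ≫ f = r2 ≫ f := by
    refine AlgSpLib.eq_of_eq_on_schImage_top hR hY (r1 ≫ f) (r2 ≫ f) ?_ _
      (AlgSpRegLib.isSchImage_id_of_isSchDense hR hd) hoff
    rw [Category.assoc, Category.assoc, hf, ← hg, ← Category.assoc, ← Category.assoc,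
      show r1 ≫ g = r2 ≫ g from pullback.condition]
  refine AlgSpLib.exists_desc g f fun T b b' e => ?_
  have := congrArg (pullback.lift b b' e ≫ ·) heq
  simp only [← Category.assoc, r1, r2, pullback.lift_fst, pullback.lift_snd] at this
  exact this

end Groth.Agent.S10129
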