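import Groth.Statements.S10130
import Groth.Agent.AlgSpLib.Points

set_option autoImplicit false
universe u
open CategoryTheory CategoryTheory.Limits AlgebraicGeometry
open AlgSp AlgSp.GroupoidSp

namespace Groth.Agent.S10130

/-- Let `(U, R, s, t, c)` be a groupoid in algebraic spaces over `B` with `s, t` open. For every open
subspace `W ⊂ U`, the open subspace `s(t⁻¹(W))` of `U` is `R`-invariant. -/
theorem result (S : Scheme.{u}) (B : AlgSp.Sp S) (hB : AlgSp.IsAlgSpace B)
    (G : AlgSp.GroupoidSp B) (hU : AlgSp.IsAlgSpace G.U) (hR : AlgSp.IsAlgSpace G.R)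
    (hs : AlgSp.IsOpenMor G.s) (ht : AlgSp.IsOpenMor G.t)
    (W W' : AlgSp.Sp S) (w : W ⟶ G.U) (w' : W' ⟶ G.U)
    (hw : AlgSp.RepWith @IsOpenImmersion w) (hw' : AlgSp.RepWith @IsOpenImmersion w')
    (himg : Set.range (AlgSp.Points.map w') =
      AlgSp.Points.map G.s '' (AlgSp.Points.map G.t ⁻¹' Set.range (AlgSp.Points.map w))) :
    G.IsInvariant w' := by
  have inv1 : ∀ ρ : AlgSp.Points G.R, Points.map G.t ρ ∈ Set.range (Points.map w') →
      Points.map G.s ρ ∈ Set.range (Points.map w') := by
    intro ρ h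
    rw [himg] at h ⊢
    obtain ⟨ρ₀, h0, h1⟩ := h
    obtain ⟨z, rfl, rfl⟩ := AlgSpLib.exists_point_isPullback (IsPullback.of_hasPullback G.s G.t) ρ₀ ρ h1
    have key : ∀ z : AlgSp.Points (pullback G.s G.t),
        Points.map G.t (Points.map G.c z) = Points.map G.t (Points.map (pullback.fst G.s G.t) z) ∧
        Points.map G.s (Points.map G.c z) = Points.map G.s (Points.map (pullback.snd G.s G.t) z) := by
      intro z
      have e : pullback.lift (pullback.fst G.s G.t) (pullback.snd G.s G.t) pullback.condition = 𝟙 _ :=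
        pullback.hom_ext (by rw [pullback.lift_fst, Category.id_comp]) (by rw [pullback.lift_snd, Category.id_comp])
      have ht' := G.comp_t _ _ (pullback.condition (f := G.s) (g := G.t))
      have hs' := G.comp_s _ _ (pullback.condition (f := G.s) (g := G.t))
      rw [e, Category.id_comp] at ht' hs'
      constructor
      · rw [← Points.map_comp, ← Points.map_comp, ht']
      · rw [← Points.map_comp, ← Points.map_comp, hs']
    refine ⟨Points.map G.c z, ?_, (key z).2⟩
    rw [Set.mem_preimage, (key z).1]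
    exact h0
  have inv2 : ∀ ρ : AlgSp.Points G.R, Points.map G.s ρ ∈ Set.range (Points.map w') →
      Points.map G.t ρ ∈ Set.range (Points.map w') := by
    intro ρ h
    have := inv1 (Points.map G.i ρ) (by rw [← Points.map_comp, G.i_t]; exact h)
    rwa [← Points.map_comp, G.i_s] at this
  intro T r
  rw [AlgSpLib.exists_factor_iff hw', AlgSpLib.exists_factor_iff hw']
  constructor
  · rintro h _ ⟨y, rfl⟩
    rw [Points.map_comp]
    exact inv1 _ (h ⟨y, (Points.map_comp _ _ _)⟩)
  · rintro h _ ⟨y, rfl⟩
    rw [Points.map_comp]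
    exact inv2 _ (h ⟨y, (Points.map_comp _ _ _)⟩)

end Groth.Agent.S10130
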