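import Groth.Statements.S10131
import Groth.Agent.AlgSpLib.Qc
import Groth.Agent.AlgSpLib.Points
import Groth.Agent.AlgSpRegLib.LargestInvariant
-- import your own Groth.Agent.* helpers here

set_option autoImplicit false
universe u
open CategoryTheory CategoryTheory.Limits AlgebraicGeometry
open AlgSp AlgSp.GroupoidSp

namespace Groth.Agent.S10131

/-- Let `(U, R, s, t, c)` be a groupoid in algebraic spaces over `B` with `s, t` open and quasi-compact.
Then `U` has an open covering by `R`-invariant quasi-compact open subspaces. -/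
theorem result (S : Scheme.{u}) (B : AlgSp.Sp S) (hB : AlgSp.IsAlgSpace B)
    (G : AlgSp.GroupoidSp B) (hU : AlgSp.IsAlgSpace G.U) (hR : AlgSp.IsAlgSpace G.R)
    (hs : AlgSp.IsOpenMor G.s ∧ AlgSp.IsQuasiCompactMor G.s) (ht : AlgSp.IsOpenMor G.t ∧ AlgSp.IsQuasiCompactMor G.t)
    (x : AlgSp.Points G.U) :
    ∃ (W : AlgSp.Sp S) (w : W ⟶ G.U), AlgSp.RepWith @IsOpenImmersion w ∧ G.IsInvariant w ∧
      AlgSp.IsQuasiCompactSp W ∧ x ∈ Set.range (AlgSp.Points.map w) := by
  obtain ⟨E, a, ha, has⟩ := hU.atlas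
  obtain ⟨e, rfl⟩ := AlgSpLib.surjective_ofPt has x
  obtain ⟨A, hA, heA, -⟩ := exists_isAffineOpen_mem_and_subset (U := ⊤) (x := e) trivial
  let W0 : Set (Points G.U) := Points.ofPt a '' A
  have hW0 : IsOpen W0 := AlgSpLib.isOpenMap_ofPt ha _ A.2
  have hW0c : IsCompact W0 := hA.isCompact.image (Points.continuous_ofPt a)
  let O : Set (Points G.U) := Points.map G.t '' (Points.map G.s ⁻¹' W0)
  have hO : IsOpen O := ht.1 _ (hW0.preimage (Points.continuous_map _))
  have hOc : IsCompact O := (AlgSpLib.isCompact_preimage hU hs.2 hW0 hW0c).image (Points.continuous_map _)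
  -- membership in `O` is the same at both ends of an arrow
  have hct : G.c ≫ G.t = pullback.fst G.s G.t ≫ G.t := by
    have := G.comp_t (pullback.fst G.s G.t) (pullback.snd G.s G.t) pullback.condition
    rwa [show pullback.lift (pullback.fst G.s G.t) (pullback.snd G.s G.t) pullback.condition = 𝟙 _ from
      pullback.hom_ext (by simp) (by simp), Category.id_comp] at this
  have hcs : G.c ≫ G.s = pullback.snd G.s G.t ≫ G.s := by
    have := G.comp_s (pullback.fst G.s G.t) (pullback.snd G.s G.t) pullback.condition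
    rwa [show pullback.lift (pullback.fst G.s G.t) (pullback.snd G.s G.t) pullback.condition = 𝟙 _ from
      pullback.hom_ext (by simp) (by simp), Category.id_comp] at this
  have hinv : ∀ ρ : Points G.R, Points.map G.t ρ ∈ O → Points.map G.s ρ ∈ O := by
    rintro ρ ⟨ρ', hρ', he⟩
    have h1 : Points.map G.t ρ = Points.map G.s (Points.map G.i ρ') := by
      rw [← Points.map_comp, G.i_s, he]
    obtain ⟨w, hw₁, hw₂⟩ := AlgSpLib.exists_point_isPullback (IsPullback.of_hasPullback G.s G.t)
      (Points.map G.i ρ') ρ h1.symm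
    refine ⟨Points.map G.i (Points.map G.c w), ?_, ?_⟩
    · show Points.map G.s _ ∈ W0
      rw [← Points.map_comp, G.i_s, ← Points.map_comp, hct, Points.map_comp, hw₁, ← Points.map_comp, G.i_t]
      exact hρ'
    · rw [← Points.map_comp, G.i_t, ← Points.map_comp, hcs, Points.map_comp, hw₂]
  have hinv' : ∀ ρ : Points G.R, Points.map G.s ρ ∈ O → Points.map G.t ρ ∈ O := fun ρ h => by
    have := hinv (Points.map G.i ρ) (by rwa [← Points.map_comp, G.i_t])
    rwa [← Points.map_comp, G.i_s] at this
  refine ⟨AlgSpLib.openSub G.U O, AlgSpLib.openSubι G.U O, AlgSpLib.repWith_openSubι G.U hO, ?_, ?_, ?_⟩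
  · intro T r
    rw [AlgSpLib.exists_lift_openSub, AlgSpLib.exists_lift_openSub]
    exact ⟨fun h t => by rw [← Points.map_ofPt]; exact hinv _ (by rw [Points.map_ofPt]; exact h t),
      fun h t => by rw [← Points.map_ofPt]; exact hinv' _ (by rw [Points.map_ofPt]; exact h t)⟩
  · have hA' := AlgSpLib.isAlgSpace_openSub hU hO
    refine AlgSpLib.isQuasiCompactSp_of_compactSpace hA' ⟨?_⟩
    have hemb : Topology.IsEmbedding (Points.map (AlgSpLib.openSubι G.U O)) := by
      refine (Topology.IsOpenEmbedding.of_continuous_injective_isOpenMap (Points.continuous_map _) ?_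
        (AlgSpLib.isOpenMap_map_of_isEtaleMor hA'
          (AlgSpLib.isEtaleMor_of_openImmersion (AlgSpLib.repWith_openSubι G.U hO)))).isEmbedding
      intro p q e
      have : IsPullback (𝟙 (AlgSpLib.openSub G.U O)) (𝟙 _) (AlgSpLib.openSubι G.U O) (AlgSpLib.openSubι G.U O) :=
        IsKernelPair.id_of_mono _
      obtain ⟨w, rfl, rfl⟩ := AlgSpLib.exists_point_isPullback this p q e
      rfl
    rw [hemb.isCompact_iff, Set.image_univ, AlgSpLib.range_openSubι]
    exact hOc
  · rw [AlgSpLib.range_openSubι]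
    refine ⟨Points.map G.e (Points.ofPt a e), ?_, ?_⟩
    · show Points.map G.s _ ∈ W0
      rw [← Points.map_comp, G.e_s, Points.map_id]
      exact ⟨e, heA, rfl⟩
    · rw [← Points.map_comp, G.e_t, Points.map_id]

end Groth.Agent.S10131
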