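import Groth.Statements.S10132
import Groth.Agent.FieldFlatLib.Proj
import Groth.Agent.AlgSpLib.MorPack
import Groth.Agent.AlgSpLib.Points
import Groth.Agent.AlgSpLib.Sep
-- import your own Groth.Agent.* helpers here

set_option autoImplicit false
universe u
open CategoryTheory CategoryTheory.Limits AlgebraicGeometry
open AlgSp AlgSp.GroupoidSp

namespace Groth.Agent.S10132

/-- Let `(U, R, s, t, c)` be a groupoid in algebraic spaces over `B` whose object space is `U = Spec k`,
let `k ⊂ k'` be a field extension and `(U', R', s', t', c')` the restriction along `Spec k' ⟶ Spec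
k`. Then `s, t, s', t'`, `Spec k' ⟶ Spec k` and `R' ⟶ R` are surjective, flat and universally open,
and `R' ⟶ R` is moreover affine. (The published statement lists every arrow of the restriction
diagram; this row omits the six arrows through `R ×_{s,U} U'` and `U' ×_{U,t} R`, each a base change
of `s`, `t` or `Spec k' ⟶ Spec k`.) -/
theorem result (S : Scheme.{u}) (B : AlgSp.Sp S) (hB : AlgSp.IsAlgSpace B)
    (G G' : AlgSp.GroupoidSp B) (hR : AlgSp.IsAlgSpace G.R) (hR' : AlgSp.IsAlgSpace G'.R)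
    (k k' : Type u) [Field k] [Field k'] [Algebra k k'] (σ : Spec (CommRingCat.of k) ⟶ S)
    (eU : G.U ≅ ((AlgSp.yon S).obj (Over.mk σ)))
    (eU' : G'.U ≅ ((AlgSp.yon S).obj (Over.mk (Spec.map (CommRingCat.ofHom (algebraMap k k')) ≫ σ))))
    (φ : AlgSp.GroupoidSp.Hom G' G) (hφ : φ.IsRestriction)
    (hfU : φ.fU = eU'.hom ≫ (AlgSp.yon S).map (Over.homMk (Spec.map (CommRingCat.ofHom (algebraMap k k'))) rfl :
      Over.mk (Spec.map (CommRingCat.ofHom (algebraMap k k')) ≫ σ) ⟶ Over.mk σ) ≫ eU.inv) :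
    (∀ f ∈ [G.s, G.t], AlgSp.IsSurjectiveMor f ∧ AlgSp.LocP @Flat f ∧ AlgSp.IsUnivOpenMor f) ∧
      (∀ f ∈ [G'.s, G'.t], AlgSp.IsSurjectiveMor f ∧ AlgSp.LocP @Flat f ∧ AlgSp.IsUnivOpenMor f) ∧
      (AlgSp.IsSurjectiveMor φ.fU ∧ AlgSp.LocP @Flat φ.fU ∧ AlgSp.IsUnivOpenMor φ.fU) ∧
      (AlgSp.IsSurjectiveMor φ.fR ∧ AlgSp.LocP @Flat φ.fR ∧ AlgSp.IsUnivOpenMor φ.fR ∧ AlgSp.IsAffineMor φ.fR) := by
  haveI : AlgSpLib.EtLocProp (@Flat : MorphismProperty Scheme.{u}) := AlgSpLib.etLocProp_of_list (Or.inr (Or.inr (Or.inl rfl)))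
  let T := (yon S).obj (Over.mk σ)
  have hT : IsAlgSpace T := IsAlgSpace.yon_obj _
  have hU : IsAlgSpace G.U := hT.of_iso eU.symm
  have hU' : IsAlgSpace G'.U := (IsAlgSpace.yon_obj _).of_iso eU'.symm
  -- morphisms into the spectrum of a field
  have toField : ∀ {F V : Sp S} {K : Type u} [Field K] {τ : Spec (CommRingCat.of K) ⟶ S}
      (e : V ≅ (yon S).obj (Over.mk τ)), IsAlgSpace F → ∀ f : F ⟶ V, LocP @Flat f ∧ IsUnivOpenMor f := by
    intro F V K _ τ e hF f
    have sq : IsPullback (𝟙 F) f (f ≫ e.hom) e.hom := IsPullback.of_horiz_isIso ⟨by rw [Category.id_comp]⟩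
    exact ⟨AlgSpLib.locP_of_isPullback hF (IsAlgSpace.yon_obj _) ((IsAlgSpace.yon_obj _).of_iso e.symm) sq
        (FieldFlatLib.locP_flat_to_field hF _),
      FieldFlatLib.isUnivOpenMor_of_isPullback sq (AlgSpLib.isUnivOpenMor_to_field hF τ _)⟩
  have sec : ∀ {F V : Sp S} (f : F ⟶ V) (e : V ⟶ F), e ≫ f = 𝟙 V → IsSurjectiveMor f := fun f e h y =>
    ⟨Points.map e y, by rw [← Points.map_comp, h, Points.map_id]⟩
  refine ⟨?_, ?_, ?_⟩
  · intro f hf
    simp only [List.mem_cons, List.not_mem_nil, or_false] at hf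
    rcases hf with rfl | rfl
    · exact ⟨sec _ G.e G.e_s, toField eU hR _⟩
    · exact ⟨sec _ G.e G.e_t, toField eU hR _⟩
  · intro f hf
    simp only [List.mem_cons, List.not_mem_nil, or_false] at hf
    rcases hf with rfl | rfl
    · exact ⟨sec _ G'.e G'.e_s, toField eU' hR' _⟩
    · exact ⟨sec _ G'.e G'.e_t, toField eU' hR' _⟩
  have hsub : ∀ y z : Points G.U, y = z := fun y z => by
    haveI : Subsingleton ↥(Over.mk σ).left := inferInstanceAs (Subsingleton (PrimeSpectrum k))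
    haveI : Subsingleton (Points T) := (Points.schemeHomeo (Over.mk σ)).toEquiv.subsingleton_congr.1 inferInstance
    have h := congrArg (Points.map eU.inv) (Subsingleton.elim (Points.map eU.hom y) (Points.map eU.hom z))
    rwa [← Points.map_comp, ← Points.map_comp, eU.hom_inv_id, Points.map_id, Points.map_id] at h
  obtain ⟨hfl, hop⟩ := toField eU hU' φ.fU
  have hsurj : IsSurjectiveMor φ.fU := fun y => by
    have x' := Points.schemeHomeo (Over.mk (Spec.map (CommRingCat.ofHom (algebraMap k k')) ≫ σ))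
      (default : PrimeSpectrum k')
    exact ⟨Points.map eU'.inv x', hsub _ _⟩
  refine ⟨⟨hsurj, hfl, hop⟩, ?_⟩
  have haff : RepWith @IsAffineHom φ.fU := by
    rw [hfU]
    refine MorphismProperty.RespectsIso.precomp _ _ _ (MorphismProperty.RespectsIso.postcomp _ _ _ ?_)
    exact (repWith_yon_map_iff (P := (@IsAffineHom : MorphismProperty Scheme.{u})) _).2
      (inferInstanceAs (IsAffineHom (Spec.map (CommRingCat.ofHom (algebraMap k k')))))
  -- base changes of the map on objects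
  let Q : ∀ ⦃F V : Sp S⦄, (F ⟶ V) → Prop := fun _ _ f =>
    IsSurjectiveMor f ∧ LocP @Flat f ∧ IsUnivOpenMor f ∧ RepWith @IsAffineHom f
  have hQbc : ∀ {F V F' V' : Sp S} {a : F' ⟶ F} {f' : F' ⟶ V'} {f : F ⟶ V} {b : V' ⟶ V}, IsAlgSpace F →
      IsAlgSpace V → IsAlgSpace V' → IsPullback a f' f b → Q f → Q f' := fun hF hV hV' sq h =>
    ⟨AlgSpLib.map_surjective_of_isPullback sq h.1, AlgSpLib.locP_of_isPullback hF hV hV' sq h.2.1,
      FieldFlatLib.isUnivOpenMor_of_isPullback sq h.2.2.1, AlgSpLib.repWith_of_isPullback sq h.2.2.2⟩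
  have hQ : Q φ.fU := ⟨hsurj, hfl, hop, haff⟩
  have hP' := AlgSpLib.isAlgSpace_pullback hU' hU' hB G'.pU G'.pU
  have hM := AlgSpLib.isAlgSpace_pullback hU hU' hB G.pU G'.pU
  have hP := AlgSpLib.isAlgSpace_pullback hU hU hB G.pU G.pU
  let m₁ : pullback G'.pU G'.pU ⟶ pullback G.pU G'.pU :=
    pullback.map _ _ _ _ φ.fU (𝟙 _) (𝟙 B) (by rw [φ.fU_over, Category.comp_id]) (by simp)
  let m₂ : pullback G.pU G'.pU ⟶ pullback G.pU G.pU :=
    pullback.map _ _ _ _ (𝟙 _) φ.fU (𝟙 B) (by simp) (by rw [φ.fU_over, Category.comp_id])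
  have sq₁ : IsPullback (pullback.fst G'.pU G'.pU) m₁ φ.fU (pullback.fst G.pU G'.pU) := by
    refine (IsPullback.of_right ?_ (pullback.lift_fst _ _ _) (IsPullback.of_hasPullback G.pU G'.pU).flip).flip
    have : m₁ ≫ pullback.snd G.pU G'.pU = pullback.snd G'.pU G'.pU :=
      (pullback.lift_snd _ _ _).trans (Category.comp_id _)
    rw [this, φ.fU_over]
    exact (IsPullback.of_hasPullback G'.pU G'.pU).flip
  have sq₂ : IsPullback (pullback.snd G.pU G'.pU) m₂ φ.fU (pullback.snd G.pU G.pU) := by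
    refine (IsPullback.of_right ?_ (pullback.lift_snd _ _ _) (IsPullback.of_hasPullback G.pU G.pU)).flip
    have : m₂ ≫ pullback.fst G.pU G.pU = pullback.fst G.pU G'.pU :=
      (pullback.lift_fst _ _ _).trans (Category.comp_id _)
    rw [this, φ.fU_over]
    exact IsPullback.of_hasPullback G.pU G'.pU
  have hm₁ : Q m₁ := hQbc hU' hU hM sq₁ hQ
  have hm₂ : Q m₂ := hQbc hU' hU hP sq₂ hQ
  have hm : Q (m₁ ≫ m₂) := by
    refine ⟨fun y => ?_, AlgSpLib.locP_comp hP' hM hP hm₁.2.1 hm₂.2.1, ?_,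
      AlgSpLib.repWith_comp hm₁.2.2.2 hm₂.2.2.2⟩
    · obtain ⟨x, rfl⟩ := hm₂.1 y
      obtain ⟨w, rfl⟩ := hm₁.1 x
      exact ⟨w, Points.map_comp _ _ _⟩
    · intro Z Z' hZ g fst snd sq
      have s₂ := IsPullback.of_hasPullback m₂ g
      have hZ₁ := AlgSpLib.isAlgSpace_pullback hM hZ hP m₂ g
      let l : Z' ⟶ pullback m₂ g := pullback.lift (fst ≫ m₁) snd (by rw [Category.assoc, sq.w])
      have s₁ : IsPullback fst l m₁ (pullback.fst m₂ g) :=
        IsPullback.of_bot (by rw [pullback.lift_snd]; exact sq) (pullback.lift_fst _ _ _).symm s₂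
      have hsnd : Points.map snd = Points.map (pullback.snd m₂ g) ∘ Points.map l :=
        funext fun x => by rw [Function.comp_apply, ← Points.map_comp, pullback.lift_snd]
      show IsOpenMap (Points.map snd)
      rw [hsnd]
      exact (show IsOpenMap _ from hm₂.2.2.1 hZ g _ _ s₂).comp (show IsOpenMap _ from hm₁.2.2.1 hZ₁ _ _ _ s₁)
  have e : m₁ ≫ m₂ = φ.prodMap := by
    rw [AlgSp.GroupoidSp.Hom.prodMap]
    apply pullback.hom_ext
    · set_option backward.isDefEq.respectTransparency false in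
      set_option backward.isDefEq.respectTransparency.types false in
      simp [m₁, m₂, pullback.map, pullback.lift_fst, pullback.lift_fst_assoc]
    · set_option backward.isDefEq.respectTransparency false in
      set_option backward.isDefEq.respectTransparency.types false in
      simp [m₁, m₂, pullback.map, pullback.lift_snd, pullback.lift_snd_assoc]
  rw [e] at hm
  have := hQbc hP' hP hR hφ.flip hm
  exact ⟨this.1, this.2.1, this.2.2.1, AlgSpLib.isAffineMor_iff.2 this.2.2.2⟩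

end Groth.Agent.S10132
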