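import Groth.Statements.S10141
import Groth.Agent.AlgSpLib.Bootstrap
import Groth.Agent.ElemGlueLib.Main

set_option backward.isDefEq.respectTransparency false
set_option backward.isDefEq.respectTransparency.types false

set_option autoImplicit false
universe u
open CategoryTheory CategoryTheory.Limits AlgebraicGeometry
open AlgSp

namespace Groth.Agent.S10141

/-- Sections with equal image in the quotient by a groupoid scheme are locally related. -/
theorem exists_rel {S : Scheme.{u}} {R U : Over S} (s t : R ⟶ U)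
    (heqv : ∀ T : Over S, _root_.Equivalence (AlgSpLib.Rel s t T)) {T : Over S} (a b : T ⟶ U)
    (e : (yon S).map a ≫ AlgSpLib.qπ s t = (yon S).map b ≫ AlgSpLib.qπ s t) :
    ∃ (V : T.left → Over S) (c : ∀ x, V x ⟶ T), (∀ x, Flat (c x).left) ∧
      (∀ x, LocallyOfFinitePresentation (c x).left) ∧ (∀ x, x ∈ Set.range (c x).left) ∧
      ∀ x, ∃ r : V x ⟶ R, r ≫ t = c x ≫ a ∧ r ≫ s = c x ≫ b := by
  have hx : (yon S).map s ≫ AlgSpLib.toQuotSh s t = (yon S).map t ≫ AlgSpLib.toQuotSh s t := by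
    apply AlgSpLib.yEq.injective
    rw [AlgSpLib.yEq_map, AlgSpLib.yEq_map]
    have e : AlgSpLib.yEq (AlgSpLib.toQuotSh s t) =
      (toSheafify (AlgSp.J S) (AlgSpLib.quotPsh s t)).app (Opposite.op U) (Quot.mk _ ⟨𝟙 U⟩) := rfl
    rw [e, ← NatTrans.naturality_apply, ← NatTrans.naturality_apply]
    refine congrArg _ (Quot.sound ?_).symm
    exact ⟨𝟙 R, by simp, by simp⟩
  let D := coequalizer.desc (f := QuotSh.repMap Scheme.fppfPrecoverage s) (g := QuotSh.repMap Scheme.fppfPrecoverage t)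
    ((QuotSh.repIsoUliftYoneda Scheme.fppfPrecoverage U).hom ≫ AlgSpLib.toQuotSh s t) (by
      rw [← Category.assoc, AlgSpLib.repIso_naturality, ← Category.assoc, AlgSpLib.repIso_naturality, Category.assoc,
        Category.assoc, hx])
  have hD : AlgSpLib.qπ s t ≫ D = AlgSpLib.toQuotSh s t := by
    rw [AlgSpLib.qπ, Category.assoc]
    erw [coequalizer.π_desc]
    rw [Iso.inv_hom_id_assoc]
  have hab' : (yon S).map a ≫ AlgSpLib.toQuotSh s t = (yon S).map b ≫ AlgSpLib.toQuotSh s t := by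
    rw [← hD, ← Category.assoc, e, Category.assoc]
  have happ : ∀ c : T ⟶ U, AlgSpLib.yEq ((yon S).map c ≫ AlgSpLib.toQuotSh s t) =
      (toSheafify (AlgSp.J S) (AlgSpLib.quotPsh s t)).app (Opposite.op T) (Quot.mk _ ⟨c⟩) := fun c => by
    rw [AlgSpLib.yEq_map]
    have e : AlgSpLib.yEq (AlgSpLib.toQuotSh s t) =
      (toSheafify (AlgSp.J S) (AlgSpLib.quotPsh s t)).app (Opposite.op U) (Quot.mk _ ⟨𝟙 U⟩) := rfl
    rw [e, ← NatTrans.naturality_apply]
    exact congrArg _ (congrArg (Quot.mk _) (ULift.ext _ _ (Category.comp_id c)))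
  have hsieve : Presheaf.equalizerSieve (F := AlgSpLib.quotPsh s t) (X := Opposite.op T) (Quot.mk _ ⟨a⟩)
      (Quot.mk _ ⟨b⟩) ∈ AlgSp.J S T := by
    refine Presheaf.equalizerSieve_mem (AlgSp.J S) (toSheafify (AlgSp.J S) (AlgSpLib.quotPsh s t)) _ _ ?_
    rw [← happ, ← happ, hab']
  obtain ⟨V, c, hc, hcf, hcp, hcs⟩ := AlgSpLib.exists_family_of_mem hsieve
  refine ⟨V, c, hcf, hcp, hcs, fun i => ?_⟩
  have h1 : Quot.mk (AlgSpLib.Rel s t (V i)) ⟨c i ≫ a⟩ = Quot.mk _ ⟨c i ≫ b⟩ := hc i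
  exact (heqv (V i)).eqvGen_iff.1 (Quot.eqvGen_exact h1)

/-- Let `(U, R, s, t, c)` be a groupoid scheme over `S` and `g : U' ⟶ U` a morphism such that the
composite `h : U' ×_{g, U, t} R ⟶ R ⟶ U` of the projection with `s` has open image `W ⊂ U` and `h :
U' ×_{g, U, t} R ⟶ W` is a surjection of fppf sheaves. Then for the restriction `R' = R|_{U'}` the
map of fppf quotient sheaves `U'/R' ⟶ U/R` is representable and an open immersion. -/
theorem result (S : Scheme.{u}) (G : Grpd.GroupoidScheme S)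
    (U' : Scheme.{u}) (g : U' ⟶ G.U) (W : G.U.Opens)
    (hW : (W : Set ↥G.U) = Set.range ⇑(pullback.snd g G.t ≫ G.s))
    (hlift : pullback g G.t ⟶ ↑W) (hh : hlift ≫ W.ι = pullback.snd g G.t ≫ G.s)
    (hsurj : Sheaf.IsLocallySurjective ((AlgSp.yon S).map
      (Over.homMk hlift ((Category.assoc _ _ _).symm.trans (congrArg (· ≫ G.pU) hh)) :
        Over.mk ((pullback.snd g G.t ≫ G.s) ≫ G.pU) ⟶ Over.mk (W.ι ≫ G.pU))))
    (R' : Over S) (s' t' : R' ⟶ Over.mk (g ≫ G.pU)) (r : R' ⟶ Over.mk G.pR)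
    (hsq : IsPullback (prod.lift t' s') r
      (prod.map (Over.homMk g rfl : Over.mk (g ≫ G.pU) ⟶ Over.mk G.pU) (Over.homMk g rfl : Over.mk (g ≫ G.pU) ⟶ Over.mk G.pU))
      (prod.lift (Over.homMk G.t G.t_over : Over.mk G.pR ⟶ Over.mk G.pU) (Over.homMk G.s G.s_over : Over.mk G.pR ⟶ Over.mk G.pU)))
    (ψ : QuotSh.quot Scheme.fppfPrecoverage s' t' ⟶
      QuotSh.quot Scheme.fppfPrecoverage (Over.homMk G.s G.s_over : Over.mk G.pR ⟶ Over.mk G.pU) (Over.homMk G.t G.t_over : Over.mk G.pR ⟶ Over.mk G.pU))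
    (hψ : QuotSh.quotπ Scheme.fppfPrecoverage s' t' ≫ ψ =
      QuotSh.repMap Scheme.fppfPrecoverage (Over.homMk g rfl : Over.mk (g ≫ G.pU) ⟶ Over.mk G.pU) ≫ QuotSh.quotπ Scheme.fppfPrecoverage _ _) :
    AlgSp.RepWith @IsOpenImmersion ψ := by
  let Uo : Over S := Over.mk G.pU
  let Ro : Over S := Over.mk G.pR
  let U'o : Over S := Over.mk (g ≫ G.pU)
  let go : U'o ⟶ Uo := Over.homMk g rfl
  let sG : Ro ⟶ Uo := Over.homMk G.s G.s_over
  let tG : Ro ⟶ Uo := Over.homMk G.t G.t_over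
  let q := AlgSpLib.qπ sG tG
  let q' := AlgSpLib.qπ s' t'
  have hqq : q' ≫ ψ = (yon S).map go ≫ q := by
    change (_ ≫ QuotSh.quotπ Scheme.fppfPrecoverage s' t') ≫ ψ = _ ≫ _ ≫ QuotSh.quotπ Scheme.fppfPrecoverage sG tG
    rw [Category.assoc, hψ, Iso.inv_comp_eq, ← reassoc_of% (AlgSpLib.repIso_naturality go), Iso.hom_inv_id_assoc]
  have hcond := AlgSpLib.qπ_condition sG tG
  have hcond' := AlgSpLib.qπ_condition s' t'
  -- the groupoid relation
  have hpre : ∀ T : Over S, _root_.Equivalence (AlgSpLib.Rel sG tG T) := by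
    intro T
    refine ⟨fun a => ?_, fun {a b} ⟨r, h1, h2⟩ => ?_, fun {a b c} ⟨r, h1, h2⟩ ⟨r', h1', h2'⟩ => ?_⟩
    · let eo : Uo ⟶ Ro := Over.homMk G.e (by
        change G.e ≫ G.pR = G.pU
        rw [← G.s_over, ← Category.assoc, G.e_s, Category.id_comp])
      refine ⟨a.down ≫ eo, ?_, ?_⟩ <;> apply Over.OverMorphism.ext <;>
        simp [eo, sG, tG, G.e_t, G.e_s, Uo]
    · let io : Ro ⟶ Ro := Over.homMk G.i (by
        change G.i ≫ G.pR = G.pR
        conv_lhs => rw [← G.s_over, ← Category.assoc, G.i_s, G.t_over])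
      refine ⟨r ≫ io, ?_, ?_⟩
      · rw [← h2]
        apply Over.OverMorphism.ext; simp [io, sG, tG, G.i_t, Ro]
      · rw [← h1]
        apply Over.OverMorphism.ext; simp [io, sG, tG, G.i_s, Ro]
    · have e : r.left ≫ G.s = r'.left ≫ G.t :=
        congrArg (fun k => k.left) (show r ≫ sG = r' ≫ tG by rw [h2, h1'])
      let m : T ⟶ Ro := Over.homMk (pullback.lift r.left r'.left e ≫ G.c) (by
        change (pullback.lift r.left r'.left e ≫ G.c) ≫ G.pR = T.hom
        rw [← G.s_over, ← Category.assoc, G.comp_s, Category.assoc, G.s_over]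
        exact Over.w r')
      refine ⟨m, ?_, ?_⟩
      · rw [← h1]
        apply Over.OverMorphism.ext
        exact G.comp_t r.left r'.left e
      · rw [← h2']
        apply Over.OverMorphism.ext
        exact G.comp_s r.left r'.left e
  -- injectivity
  haveI hm : Mono ψ := by
    refine AlgSpLib.mono_of_injective fun T a b e => ?_
    obtain ⟨V, c, h1, h2, h3, hl⟩ := AlgSpLib.exists_lift_of_isLocallySurjective q' a
    refine AlgSpLib.hom_ext_of_cover c h1 h2 (fun x => ⟨x, h3 x⟩) fun x => ?_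
    obtain ⟨a₁, ha₁⟩ := hl x
    obtain ⟨V', c', k1, k2, k3, kl⟩ := AlgSpLib.exists_lift_of_isLocallySurjective q' ((yon S).map (c x) ≫ b)
    refine AlgSpLib.hom_ext_of_cover c' k1 k2 (fun y => ⟨y, k3 y⟩) fun y => ?_
    obtain ⟨b₁, hb₁⟩ := kl y
    obtain ⟨a₁, rfl⟩ := (yon S).map_surjective a₁
    obtain ⟨b₁, rfl⟩ := (yon S).map_surjective b₁
    have hab : (yon S).map (c' y ≫ a₁ ≫ go) ≫ q = (yon S).map (b₁ ≫ go) ≫ q := by
      simp only [Functor.map_comp, Category.assoc, ← hqq, reassoc_of% ha₁, reassoc_of% hb₁, e]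
    obtain ⟨V'', c'', m1, m2, m3, ml⟩ := exists_rel sG tG hpre _ _ hab
    refine AlgSpLib.hom_ext_of_cover c'' m1 m2 (fun z => ⟨z, m3 z⟩) fun z => ?_
    obtain ⟨ρ, hρ1, hρ2⟩ := ml z
    let pa : V'' z ⟶ U'o := c'' z ≫ c' y ≫ a₁
    let pb : V'' z ⟶ U'o := c'' z ≫ b₁
    obtain ⟨σ, hσ⟩ : ∃ σ : V'' z ⟶ R', σ ≫ prod.lift t' s' = prod.lift pa pb :=
      ⟨hsq.lift (prod.lift pa pb) ρ (by
        apply Limits.prod.hom_ext
        · simp only [Category.assoc, Limits.prod.map_fst, Limits.prod.lift_fst_assoc, Limits.prod.lift_fst]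
          exact (by simpa only [pa, Category.assoc] using hρ1.symm)
        · simp only [Category.assoc, Limits.prod.map_snd, Limits.prod.lift_snd_assoc, Limits.prod.lift_snd]
          exact (by simpa only [pb, Category.assoc] using hρ2.symm)), hsq.lift_fst _ _ _⟩
    have e1 : σ ≫ t' = pa := by
      have := congrArg (· ≫ prod.fst) hσ
      simp only [Category.assoc, Limits.prod.lift_fst] at this
      exact this.trans (Limits.prod.lift_fst pa pb)
    have e2 : σ ≫ s' = pb := by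
      have := congrArg (· ≫ prod.snd) hσ
      simp only [Category.assoc, Limits.prod.lift_snd] at this
      exact this.trans (Limits.prod.lift_snd pa pb)
    have key : (yon S).map pa ≫ q' = (yon S).map pb ≫ q' := by
      rw [← e1, ← e2, Functor.map_comp, Functor.map_comp, Category.assoc, Category.assoc, hcond']
    rw [← ha₁, ← hb₁]
    simpa only [pa, pb, Functor.map_comp, Category.assoc] using key
  -- the image
  let Pb : Over S := Over.mk ((pullback.snd g G.t ≫ G.s) ≫ G.pU)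
  let Wo : Over S := Over.mk (W.ι ≫ G.pU)
  let jW : Wo ⟶ Uo := Over.homMk W.ι rfl
  let H : Pb ⟶ Wo := Over.homMk hlift ((Category.assoc _ _ _).symm.trans (congrArg (· ≫ G.pU) hh))
  let fstP : Pb ⟶ U'o := Over.homMk (pullback.fst g G.t) (by
    change pullback.fst g G.t ≫ g ≫ G.pU = (pullback.snd g G.t ≫ G.s) ≫ G.pU
    rw [pullback.condition_assoc, G.t_over, Category.assoc, G.s_over])
  have hfst : (yon S).map fstP ≫ q' ≫ ψ = (yon S).map (H ≫ jW) ≫ q := by
    let sndP : Pb ⟶ Ro := Over.homMk (pullback.snd g G.t) (by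
      change pullback.snd g G.t ≫ G.pR = (pullback.snd g G.t ≫ G.s) ≫ G.pU
      rw [Category.assoc, G.s_over])
    have e1 : fstP ≫ go = sndP ≫ tG := Over.OverMorphism.ext pullback.condition
    have e2 : H ≫ jW = sndP ≫ sG := Over.OverMorphism.ext hh
    rw [hqq, ← Functor.map_comp_assoc, e1, e2, Functor.map_comp, Functor.map_comp, Category.assoc,
      Category.assoc, hcond]
  have hlW : ∀ {V : Over S} (l : V ⟶ Uo), (∀ y, l.left y ∈ W) → ∀ y : V.left,
      ∃ (V' : Over S) (c : V' ⟶ V), Flat c.left ∧ LocallyOfFinitePresentation c.left ∧ y ∈ Set.range c.left ∧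
        ∃ u : V' ⟶ U'o, (yon S).map u ≫ q' ≫ ψ = (yon S).map (c ≫ l) ≫ q := by
    intro V l hl y
    let l' : V ⟶ Wo := Over.homMk (IsOpenImmersion.lift W.ι l.left (by
        rintro _ ⟨z, rfl⟩
        exact ⟨⟨_, hl z⟩, rfl⟩)) (by
      change IsOpenImmersion.lift W.ι l.left _ ≫ W.ι ≫ G.pU = V.hom
      rw [IsOpenImmersion.lift_fac_assoc]
      exact Over.w l)
    have el : l' ≫ jW = l := Over.OverMorphism.ext (IsOpenImmersion.lift_fac _ _ _)
    haveI : Sheaf.IsLocallySurjective ((yon S).map H) := hsurj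
    obtain ⟨V', c, h1, h2, h3, hm'⟩ := AlgSpLib.exists_lift_of_isLocallySurjective ((yon S).map H) ((yon S).map l')
    obtain ⟨k, hk⟩ := hm' y
    obtain ⟨k, rfl⟩ := (yon S).map_surjective k
    refine ⟨V' y, c y, h1 y, h2 y, h3 y, k ≫ fstP, ?_⟩
    rw [Functor.map_comp, Category.assoc, hfst, Functor.map_comp, Category.assoc, reassoc_of% hk, ← el]
    simp only [Functor.map_comp, Category.assoc]
  have hmem : ∀ {V : Over S} (l : V ⟶ Uo) (y : V.left),
      Points.ofPt ((yon S).map l ≫ q) y ∈ Set.range (Points.map ψ) ↔ l.left y ∈ W := by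
    intro V l y
    constructor
    · rintro ⟨z, hz⟩
      obtain ⟨T, ξ, t₀, rfl⟩ := AlgSpLib.exists_ofPt_eq z
      obtain ⟨V₁, c₁, -, -, hy₁, hl₁⟩ := AlgSpLib.exists_lift_of_isLocallySurjective q' ξ
      obtain ⟨t₁, ht₁⟩ := hy₁ t₀
      obtain ⟨a, ha⟩ := hl₁ t₀
      obtain ⟨a, rfl⟩ := (yon S).map_surjective a
      have hz' : Points.map q (Points.schemeHomeo Uo ((a ≫ go).left t₁)) =
          Points.map q (Points.schemeHomeo Uo (l.left y)) := by
        have e0 : ∀ u, Points.map q (Points.schemeHomeo Uo u) = Points.ofPt q u := fun u =>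
          (Points.ofPt_eq_map_ofScheme q u).symm
        rw [e0, e0, ← AlgSpLib.ofPt_yon_comp, ← AlgSpLib.ofPt_yon_comp, Functor.map_comp, Category.assoc, ← hqq,
          reassoc_of% ha, AlgSpLib.ofPt_yon_comp, ht₁, ← Points.map_ofPt, hz]
      obtain ⟨κ, hκ₁, hκ₂⟩ := AlgSpLib.exists_point_isPullback (IsPullback.of_hasPullback q q) _ _ hz'
      obtain ⟨T₂, β, t₂, rfl⟩ := AlgSpLib.exists_ofPt_eq κ
      obtain ⟨α₁, hα₁⟩ := (yon S).map_surjective (β ≫ pullback.fst q q)
      obtain ⟨α₂, hα₂⟩ := (yon S).map_surjective (β ≫ pullback.snd q q)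
      obtain ⟨V₃, c₃, -, -, hy₃, hl₃⟩ := exists_rel sG tG hpre α₁ α₂
        (by rw [hα₁, hα₂, Category.assoc, Category.assoc, pullback.condition])
      obtain ⟨t₃, ht₃⟩ := hy₃ t₂
      obtain ⟨ρ, hρ₁, hρ₂⟩ := hl₃ t₂
      have p₁ : α₁.left t₂ = (a ≫ go).left t₁ := by
        rw [Points.map_ofPt, ← hα₁, AlgSpLib.ofPt_yon_map] at hκ₁
        exact (Points.schemeHomeo Uo).injective hκ₁
      have p₂ : α₂.left t₂ = l.left y := by
        rw [Points.map_ofPt, ← hα₂, AlgSpLib.ofPt_yon_map] at hκ₂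
        exact (Points.schemeHomeo Uo).injective hκ₂
      have ht : G.t (ρ.left t₃) = g (a.left t₁) := by
        have := congrArg (fun k => k.left t₃) hρ₁
        refine (Scheme.Hom.comp_apply _ _ _).symm.trans (this.trans ?_)
        rw [Over.comp_left, Scheme.Hom.comp_apply, ht₃, p₁]
        rfl
      have hs : G.s (ρ.left t₃) = l.left y := by
        have := congrArg (fun k => k.left t₃) hρ₂
        refine (Scheme.Hom.comp_apply _ _ _).symm.trans (this.trans ?_)
        rw [Over.comp_left, Scheme.Hom.comp_apply, ht₃, p₂]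
      obtain ⟨w, -, hw⟩ := Scheme.Pullback.exists_preimage_pullback (a.left t₁) (ρ.left t₃) (f := g) (g := G.t) ht.symm
      change l.left y ∈ (W : Set ↥G.U)
      rw [hW]
      exact ⟨w, by rw [Scheme.Hom.comp_apply, hw, hs]⟩
    · intro hy
      let O : V.left.Opens := l.left ⁻¹ᵁ W
      let V₁ : Over S := Over.mk (O.ι ≫ V.hom)
      let o : V₁ ⟶ V := Over.homMk O.ι rfl
      obtain ⟨V', c, -, -, ⟨y', hy'⟩, u, hu⟩ := hlW (o ≫ l) (fun z => z.2) ⟨y, hy⟩
      refine ⟨Points.map q' (Points.schemeHomeo U'o (u.left y')), ?_⟩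
      have : Points.map ψ (Points.map q' (Points.schemeHomeo U'o (u.left y'))) =
          Points.ofPt ((yon S).map u ≫ q' ≫ ψ) y' := by
        rw [AlgSpLib.ofPt_yon_comp, ← Points.map_comp]
        exact (Points.ofPt_eq_map_ofScheme (q' ≫ ψ) _).symm
      rw [this, hu, Functor.map_comp, Category.assoc, AlgSpLib.ofPt_yon_comp, hy', Functor.map_comp, Category.assoc,
        AlgSpLib.ofPt_yon_comp]
      rfl
  have hopen : IsOpen (Set.range (Points.map ψ)) := by
    refine Points.isOpen_iff.2 fun T ξ => isOpen_iff_forall_mem_open.2 fun t ht => ?_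
    obtain ⟨V, c, h1, h2, h3, hl⟩ := AlgSpLib.exists_lift_of_isLocallySurjective q ξ
    obtain ⟨t₁, ht₁⟩ := h3 t
    obtain ⟨l, hl⟩ := hl t
    obtain ⟨l, rfl⟩ := (yon S).map_surjective l
    have := h1 t
    have := h2 t
    have hiff : ∀ y, Points.ofPt ξ ((c t).left y) ∈ Set.range (Points.map ψ) ↔ l.left y ∈ W := fun y => by
      rw [← AlgSpLib.ofPt_yon_comp, ← hl]
      exact hmem l y
    refine ⟨(c t).left '' (l.left ⁻¹' (W : Set ↥G.U)), ?_, (c t).left.isOpenMap _ (W.2.preimage l.left.continuous), ⟨t₁, ?_, ht₁⟩⟩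
    · rintro _ ⟨y, hy, rfl⟩
      exact (hiff y).2 hy
    · refine (hiff t₁).1 ?_
      rw [ht₁]
      exact ht
  let O := AlgSpLib.openSubι (QuotSh.quot Scheme.fppfPrecoverage sG tG) (Set.range (Points.map ψ))
  have hr : RepWith @IsOpenImmersion O := AlgSpLib.repWith_openSubι _ hopen
  obtain ⟨g₀, hg₀⟩ := (AlgSpLib.exists_factor_iff hr ψ).2 (by rw [AlgSpLib.range_openSubι])
  haveI : Mono g₀ := mono_of_mono_fac hg₀
  haveI : Sheaf.IsLocallySurjective g₀ := ElemGlueLib.isLocallySurjective_of_lifts g₀ fun T ξ t => by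
    obtain ⟨V, c, h1, h2, h3, hl⟩ := AlgSpLib.exists_lift_of_isLocallySurjective q (ξ ≫ O)
    obtain ⟨t₁, ht₁⟩ := h3 t
    obtain ⟨l, hl⟩ := hl t
    obtain ⟨l, rfl⟩ := (yon S).map_surjective l
    obtain ⟨V', c', k1, k2, ⟨t₂, ht₂⟩, u, hu⟩ := hlW l (fun y => (hmem l y).1 (by
      rw [hl]
      exact (AlgSpLib.exists_lift_openSub _).1 ⟨(yon S).map (c t) ≫ ξ, Category.assoc _ _ _⟩ y)) t₁
    have := h1 t
    have := h2 t
    refine ⟨V', c' ≫ c t, by rw [Over.comp_left]; infer_instance, by rw [Over.comp_left]; infer_instance,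
      ⟨t₂, by rw [Over.comp_left, Scheme.Hom.comp_apply, ht₂, ht₁]⟩, (yon S).map u ≫ q', ?_⟩
    rw [← cancel_mono O, Category.assoc, hg₀, Category.assoc, hu, Functor.map_comp, Category.assoc, hl,
      Functor.map_comp, Category.assoc, Category.assoc]
  haveI := AlgSpLib.isIso_of_mono_isLocallySurjective g₀
  rw [← hg₀]
  exact AlgSpLib.repWith_comp (AlgSpLib.repWith_of_isIso g₀) hr

end Groth.Agent.S10141
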