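import Groth.Statements.S10142


set_option autoImplicit false
universe u
open CategoryTheory CategoryTheory.Limits AlgebraicGeometry
open AlgSp AlgSp.GroupoidSp

namespace Groth.Agent.S10142

/-- For a groupoid in algebraic spaces `(U, R, s, t, c, e, i)` over `B`: the square with sides `c : R
×_{s,U,t} R ⟶ R`, `pr_1 : R ×_{s,U,t} R ⟶ R`, `s` and `s` is cartesian, and the morphism `R
×_{t,U,t} R ⟶ R ×_{s,U,t} R`, `(α, β) ↦ (α, i(α) ∘ β)`, is an isomorphism whose composite with `c`
is the second projection `pr_1 : R ×_{t,U,t} R ⟶ R`. (The published statement also lists the square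
formed by `pr_0`, `pr_1`, `s`, `t`, which is cartesian by definition of the fibre product.) -/
theorem result (S : Scheme.{u}) (B : AlgSp.Sp S) (hB : AlgSp.IsAlgSpace B)
    (G : AlgSp.GroupoidSp B) (hU : AlgSp.IsAlgSpace G.U) (hR : AlgSp.IsAlgSpace G.R) :
    IsPullback G.c (pullback.snd G.s G.t) G.s G.s ∧
      ∀ φ : pullback G.t G.t ⟶ pullback G.s G.t,
        φ ≫ pullback.fst G.s G.t = pullback.fst G.t G.t →
        φ ≫ pullback.snd G.s G.t =
          pullback.lift (pullback.fst G.t G.t ≫ G.i) (pullback.snd G.t G.t)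
            ((Category.assoc _ _ _).trans ((congrArg (pullback.fst G.t G.t ≫ ·) G.i_s).trans pullback.condition)) ≫ G.c →
        IsIso φ ∧ φ ≫ G.c = pullback.snd G.t G.t := by
  have inv_inv : ∀ {T : AlgSp.Sp S} (α : T ⟶ G.R), α ≫ G.i ≫ G.s = α ≫ G.t ∧ α ≫ G.i ≫ G.t = α ≫ G.s :=
    fun α => ⟨by rw [G.i_s], by rw [G.i_t]⟩
  have lift_congr : ∀ {T : AlgSp.Sp S} {α α' β β' : T ⟶ G.R} (h : α ≫ G.s = β ≫ G.t) (h' : α' ≫ G.s = β' ≫ G.t),
      α = α' → β = β' → pullback.lift α β h ≫ G.c = pullback.lift α' β' h' ≫ G.c := by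
    rintro T α α' β β' h h' rfl rfl; rfl
  have key : ∀ {T : AlgSp.Sp S} (γ β : T ⟶ G.R) (h : γ ≫ G.s = β ≫ G.s),
      ∃! α : T ⟶ G.R, ∃ h' : α ≫ G.s = β ≫ G.t, pullback.lift α β h' ≫ G.c = γ := by
    intro T γ β h
    have h₀ : γ ≫ G.s = (β ≫ G.i) ≫ G.t := by rw [Category.assoc, G.i_t, h]
    have h₁ : (pullback.lift γ (β ≫ G.i) h₀ ≫ G.c) ≫ G.s = β ≫ G.t := by
      rw [G.comp_s, Category.assoc, G.i_s]
    refine ⟨_, ⟨h₁, ?_⟩, fun α ⟨h', hα⟩ => ?_⟩
    · rw [G.assoc γ (β ≫ G.i) β h₀ (by rw [Category.assoc, G.i_s])]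
      rw [lift_congr _ (by rw [Category.assoc, Category.assoc, G.e_t, Category.comp_id]) rfl
        ((G.i_comp β).trans (by rw [← Category.assoc β, ← h, Category.assoc] : β ≫ G.s ≫ G.e = γ ≫ G.s ≫ G.e))]
      exact G.comp_e γ
    · subst hα
      rw [G.assoc α β (β ≫ G.i) h' (by rw [Category.assoc, G.i_t])]
      rw [lift_congr _ (by rw [Category.assoc, Category.assoc, G.e_t, Category.comp_id]) rfl
        ((G.comp_i β).trans (by rw [← Category.assoc β, ← h', Category.assoc] : β ≫ G.t ≫ G.e = α ≫ G.s ≫ G.e))]
      exact (G.comp_e α).symm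
  have hw : G.c ≫ G.s = pullback.snd G.s G.t ≫ G.s := by
    have := G.comp_s (pullback.fst G.s G.t) (pullback.snd G.s G.t) pullback.condition
    rwa [show pullback.lift (pullback.fst G.s G.t) (pullback.snd G.s G.t) pullback.condition = 𝟙 _ by
      exact (pullback.hom_ext (by rw [pullback.lift_fst, Category.id_comp]) (by rw [pullback.lift_snd, Category.id_comp])), Category.id_comp] at this
  have eta : ∀ {T : AlgSp.Sp S} (m : T ⟶ pullback G.s G.t) (h' : (m ≫ pullback.fst G.s G.t) ≫ G.s = (m ≫ pullback.snd G.s G.t) ≫ G.t),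
      pullback.lift (m ≫ pullback.fst G.s G.t) (m ≫ pullback.snd G.s G.t) h' = m := fun m h' =>
    pullback.hom_ext (pullback.lift_fst _ _ _) (pullback.lift_snd _ _ _)
  refine ⟨IsPullback.of_isLimit' ⟨hw⟩ (PullbackCone.IsLimit.mk _
    (fun c => pullback.lift (key c.fst c.snd c.condition).choose c.snd (key c.fst c.snd c.condition).choose_spec.1.1)
    (fun c => (key c.fst c.snd c.condition).choose_spec.1.2)
    (fun c => pullback.lift_snd _ _ _) (fun c m h1 h2 => ?_)), fun φ hφ1 hφ2 => ?_⟩
  · apply pullback.hom_ext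
    · rw [pullback.lift_fst]
      refine (key c.fst c.snd c.condition).choose_spec.2 _ ⟨?_, ?_⟩
      · rw [Category.assoc, pullback.condition, ← Category.assoc, h2]
      · rw [← h1]
        refine congrArg (· ≫ G.c) ?_
        apply pullback.hom_ext
        · rw [pullback.lift_fst]
        · rw [pullback.lift_snd, h2]
    · rw [pullback.lift_snd, h2]
  · have hc : φ ≫ G.c = pullback.snd G.t G.t := by
      have h0 : (pullback.fst G.t G.t ≫ G.i) ≫ G.s = pullback.snd G.t G.t ≫ G.t := by
        rw [Category.assoc, G.i_s, pullback.condition]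
      conv_lhs => rw [← eta φ (by rw [Category.assoc, pullback.condition, Category.assoc])]
      have hb : pullback.fst G.t G.t ≫ G.s = (pullback.lift (pullback.fst G.t G.t ≫ G.i) (pullback.snd G.t G.t) h0 ≫ G.c) ≫ G.t := by
        rw [G.comp_t, Category.assoc, G.i_t]
      rw [lift_congr _ hb hφ1 hφ2, ← G.assoc (pullback.fst G.t G.t) (pullback.fst G.t G.t ≫ G.i)
        (pullback.snd G.t G.t) (by rw [Category.assoc, G.i_t]) h0]
      rw [lift_congr _ (by rw [Category.assoc, Category.assoc, G.e_s, Category.comp_id])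
        ((G.comp_i (pullback.fst G.t G.t)).trans (by rw [← Category.assoc, pullback.condition, Category.assoc])) rfl]
      exact G.e_comp _
    have hct : pullback.fst G.s G.t ≫ G.t = G.c ≫ G.t := by
      have := G.comp_t (pullback.fst G.s G.t) (pullback.snd G.s G.t) pullback.condition
      rw [show pullback.lift (pullback.fst G.s G.t) (pullback.snd G.s G.t) pullback.condition = 𝟙 _ from
        pullback.hom_ext (by rw [pullback.lift_fst, Category.id_comp]) (by rw [pullback.lift_snd, Category.id_comp]),
        Category.id_comp] at this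
      exact this.symm
    refine ⟨⟨pullback.lift (pullback.fst G.s G.t) G.c hct, ?_, ?_⟩, hc⟩
    · apply pullback.hom_ext
      · rw [Category.assoc, pullback.lift_fst, hφ1, Category.id_comp]
      · rw [Category.assoc, pullback.lift_snd, hc, Category.id_comp]
    · apply pullback.hom_ext
      · rw [Category.assoc, hφ1, pullback.lift_fst, Category.id_comp]
      · rw [Category.assoc, hφ2]
        refine Eq.trans ?_ (Category.id_comp _).symm
        have h0 : (pullback.fst G.s G.t ≫ G.i) ≫ G.s = G.c ≫ G.t := by
          rw [Category.assoc, G.i_s]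
          have := G.comp_t (pullback.fst G.s G.t) (pullback.snd G.s G.t) pullback.condition
          rw [show pullback.lift (pullback.fst G.s G.t) (pullback.snd G.s G.t) pullback.condition = 𝟙 _ by
            exact (pullback.hom_ext (by rw [pullback.lift_fst, Category.id_comp]) (by rw [pullback.lift_snd, Category.id_comp])), Category.id_comp] at this
          exact this.symm
        refine (Category.assoc _ _ _).symm.trans ?_
        rw [show pullback.lift (pullback.fst G.s G.t) G.c _ ≫ pullback.lift (pullback.fst G.t G.t ≫ G.i)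
            (pullback.snd G.t G.t) _ = pullback.lift (pullback.fst G.s G.t ≫ G.i) G.c h0 from
          pullback.hom_ext (by rw [Category.assoc, pullback.lift_fst, pullback.lift_fst_assoc, pullback.lift_fst])
            (by rw [Category.assoc, pullback.lift_snd, pullback.lift_snd, pullback.lift_snd])]
        have hc' : pullback.lift (pullback.fst G.s G.t) (pullback.snd G.s G.t) pullback.condition ≫ G.c = G.c := by
          rw [show pullback.lift (pullback.fst G.s G.t) (pullback.snd G.s G.t) pullback.condition = 𝟙 _ by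
            exact (pullback.hom_ext (by rw [pullback.lift_fst, Category.id_comp]) (by rw [pullback.lift_snd, Category.id_comp])), Category.id_comp]
        have hi : (pullback.fst G.s G.t ≫ G.i) ≫ G.s = pullback.fst G.s G.t ≫ G.t := by rw [Category.assoc, G.i_s]
        rw [lift_congr h0 (hi.trans (G.comp_t _ _ pullback.condition).symm) rfl hc'.symm,
          ← G.assoc _ _ _ hi pullback.condition]
        rw [lift_congr _ (by rw [Category.assoc, Category.assoc, G.e_s, Category.comp_id])
          ((G.i_comp (pullback.fst G.s G.t)).trans (by rw [← Category.assoc, pullback.condition, Category.assoc])) rfl]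
        exact G.e_comp _

end Groth.Agent.S10142
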