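import Groth.Statements.S10145


set_option autoImplicit false
universe u
open CategoryTheory CategoryTheory.Limits AlgebraicGeometry
open AlgSp AlgSp.GroupoidSp

namespace Groth.Agent.S10145

/-- Let `(U, R, s, t, c)` be a groupoid in algebraic spaces over `B` whose object space is `U = Spec k`,
and let `r : Spec k ⟶ R` be such that `s ∘ r` and `t ∘ r` are automorphisms of `Spec k`; write `a =
r ∘ (s ∘ r)⁻¹`, so that `s ∘ a = id` and `t ∘ a` is an automorphism. Then `R ⟶ R`, `f ↦ c(a ∘ t ∘ f,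
f)`, is an automorphism of `R` mapping `e` to `a` (the point `r`). -/
theorem result (S : Scheme.{u}) (B : AlgSp.Sp S) (hB : AlgSp.IsAlgSpace B)
    (G : AlgSp.GroupoidSp B) (hR : AlgSp.IsAlgSpace G.R) (k : Type u) [Field k]
    (σ : Spec (CommRingCat.of k) ⟶ S) (eU : G.U ≅ (AlgSp.yon S).obj (Over.mk σ))
    (a : G.U ⟶ G.R) (ha : a ≫ G.s = 𝟙 G.U) [IsIso (a ≫ G.t)] :
    IsIso (pullback.lift (G.t ≫ a) (𝟙 G.R) (((Category.assoc _ _ _).trans (congrArg (G.t ≫ ·) ha)).trans ((Category.comp_id _).trans (Category.id_comp _).symm)) ≫ G.c) ∧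
      G.e ≫ (pullback.lift (G.t ≫ a) (𝟙 G.R) (((Category.assoc _ _ _).trans (congrArg (G.t ≫ ·) ha)).trans ((Category.comp_id _).trans (Category.id_comp _).symm)) ≫ G.c) = a := by
  have lift_congr : ∀ {T : AlgSp.Sp S} {α α' β β' : T ⟶ G.R} (h : α ≫ G.s = β ≫ G.t) (h' : α' ≫ G.s = β' ≫ G.t),
      α = α' → β = β' → pullback.lift α β h ≫ G.c = pullback.lift α' β' h' ≫ G.c := by
    rintro T α α' β β' h h' rfl rfl; rfl
  have pre : ∀ {T T' : AlgSp.Sp S} (m : T' ⟶ T) (α β : T ⟶ G.R) (h : α ≫ G.s = β ≫ G.t)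
      (h' : (m ≫ α) ≫ G.s = (m ≫ β) ≫ G.t),
      m ≫ pullback.lift α β h ≫ G.c = pullback.lift (m ≫ α) (m ≫ β) h' ≫ G.c := by
    intro T T' m α β h h'
    rw [← Category.assoc]
    exact congrArg (· ≫ G.c) (pullback.hom_ext (by rw [Category.assoc, pullback.lift_fst, pullback.lift_fst])
      (by rw [Category.assoc, pullback.lift_snd, pullback.lift_snd]))
  have hf : (G.t ≫ a) ≫ G.s = 𝟙 G.R ≫ G.t := by rw [Category.assoc, ha, Category.comp_id, Category.id_comp]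
  let Φ := pullback.lift (G.t ≫ a) (𝟙 G.R) hf ≫ G.c
  let α₀ : G.R ⟶ G.R := G.t ≫ inv (a ≫ G.t) ≫ a
  have hα : α₀ ≫ G.t = G.t := by
    simp only [α₀, Category.assoc, IsIso.inv_hom_id, Category.comp_id]
  have hb : (α₀ ≫ G.i) ≫ G.s = 𝟙 G.R ≫ G.t := by rw [Category.assoc, G.i_s, hα, Category.id_comp]
  let Ψ := pullback.lift (α₀ ≫ G.i) (𝟙 G.R) hb ≫ G.c
  have hΦt : Φ ≫ G.t = G.t ≫ a ≫ G.t := by rw [show Φ ≫ G.t = _ from G.comp_t _ _ hf, Category.assoc]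
  have hΨt : Ψ ≫ G.t = G.t ≫ inv (a ≫ G.t) := by
    rw [show Ψ ≫ G.t = _ from G.comp_t _ _ hb, Category.assoc, G.i_t]
    simp only [α₀, Category.assoc, ha, Category.comp_id]
  have hΦα : Φ ≫ α₀ = G.t ≫ a := by
    simp only [α₀]
    rw [← Category.assoc Φ, hΦt, Category.assoc, ← Category.assoc (a ≫ G.t), IsIso.hom_inv_id, Category.id_comp]
  have hΨa : Ψ ≫ G.t ≫ a = α₀ := by rw [← Category.assoc, hΨt, Category.assoc]
  refine ⟨⟨Ψ, ?_, ?_⟩, ?_⟩
  · change Φ ≫ Ψ = 𝟙 G.R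
    have h1 : (G.t ≫ a ≫ G.i) ≫ G.s = (G.t ≫ a) ≫ G.t := by simp only [Category.assoc, G.i_s]
    change Φ ≫ pullback.lift (α₀ ≫ G.i) (𝟙 G.R) hb ≫ G.c = 𝟙 G.R
    rw [pre Φ _ _ hb (by simp only [Category.assoc, G.i_s, hα, Category.id_comp])]
    rw [lift_congr _ (h1.trans (G.comp_t _ _ hf).symm) (by rw [← Category.assoc, hΦα, Category.assoc])
      (Category.comp_id Φ), ← G.assoc (G.t ≫ a ≫ G.i) (G.t ≫ a) (𝟙 G.R) h1 hf]
    rw [lift_congr _ (by rw [Category.assoc, Category.assoc, G.e_s, Category.comp_id]) (show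
      pullback.lift (G.t ≫ a ≫ G.i) (G.t ≫ a) h1 ≫ G.c = 𝟙 G.R ≫ G.t ≫ G.e by
        rw [lift_congr h1 (by rw [Category.assoc, G.i_s]) (Category.assoc _ _ _).symm rfl, G.i_comp,
          Category.assoc, reassoc_of% ha, Category.id_comp]) rfl]
    exact G.e_comp _
  · change Ψ ≫ Φ = 𝟙 G.R
    have h1 : α₀ ≫ G.s = (α₀ ≫ G.i) ≫ G.t := ((Category.assoc _ _ _).trans (congrArg (α₀ ≫ ·) G.i_t)).symm
    change Ψ ≫ pullback.lift (G.t ≫ a) (𝟙 G.R) hf ≫ G.c = 𝟙 G.R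
    rw [pre Ψ _ _ hf (by simp only [Category.assoc, ha, Category.comp_id, Category.id_comp])]
    rw [lift_congr _ (h1.trans (G.comp_t _ _ hb).symm) hΨa (Category.comp_id Ψ),
      ← G.assoc α₀ (α₀ ≫ G.i) (𝟙 G.R) h1 hb]
    rw [lift_congr _ (by rw [Category.assoc, Category.assoc, G.e_s, Category.comp_id]) (show
      pullback.lift α₀ (α₀ ≫ G.i) h1 ≫ G.c = 𝟙 G.R ≫ G.t ≫ G.e by
        rw [G.comp_i, ← Category.assoc, hα, Category.id_comp]) rfl]
    exact G.e_comp _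
  · change G.e ≫ pullback.lift (G.t ≫ a) (𝟙 G.R) hf ≫ G.c = a
    rw [pre G.e _ _ hf (by rw [← Category.assoc G.e, G.e_t, Category.id_comp, ha, Category.comp_id, G.e_t])]
    rw [lift_congr _ (by rw [Category.assoc, Category.assoc, G.e_t, Category.comp_id])
      (show G.e ≫ G.t ≫ a = a by rw [← Category.assoc, G.e_t, Category.id_comp])
      (show G.e ≫ 𝟙 G.R = a ≫ G.s ≫ G.e by rw [Category.comp_id, ← Category.assoc, ha, Category.id_comp])]
    exact G.comp_e a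

end Groth.Agent.S10145
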