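import Groth.Statements.S10146
import Mathlib

set_option autoImplicit false
set_option backward.isDefEq.respectTransparency false
set_option backward.isDefEq.respectTransparency.types false

noncomputable section
universe u
open CategoryTheory CategoryTheory.Limits AlgebraicGeometry
open AlgSp AlgSp.GroupoidSp

namespace Groth.Agent.S10146

section fields

/-- A field `Ω₀` containing `k` such that every extension of `k` of small cardinality embeds in a copy of it. -/
def bigField (k : Type u) [Field k] (I : Type u) : Type u :=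
  AlgebraicClosure (FractionRing (MvPolynomial I k))

noncomputable instance (k : Type u) [Field k] (I : Type u) : Field (bigField k I) :=
  inferInstanceAs (Field (AlgebraicClosure (FractionRing (MvPolynomial I k))))

noncomputable instance {R : Type u} [CommRing R] (k : Type u) [Field k] [Algebra R k] (I : Type u) :
    Algebra R (bigField k I) :=
  inferInstanceAs (Algebra R (AlgebraicClosure (FractionRing (MvPolynomial I k))))

instance (k : Type u) [Field k] (I : Type u) : IsAlgClosed (bigField k I) :=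
  inferInstanceAs (IsAlgClosed (AlgebraicClosure (FractionRing (MvPolynomial I k))))

theorem trdeg_bigField (k : Type u) [Field k] (I : Type u) :
    Algebra.trdeg k (bigField k I) = Cardinal.mk I := by
  change Algebra.trdeg k (AlgebraicClosure (FractionRing (MvPolynomial I k))) = _
  haveI : Algebra.IsAlgebraic (MvPolynomial I k) (FractionRing (MvPolynomial I k)) :=
    IsLocalization.isAlgebraic (FractionRing (MvPolynomial I k)) (nonZeroDivisors (MvPolynomial I k))
  rw [← trdeg_add_eq k (FractionRing (MvPolynomial I k))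
      (A := AlgebraicClosure (FractionRing (MvPolynomial I k))),
    ← trdeg_add_eq k (MvPolynomial I k) (A := FractionRing (MvPolynomial I k)),
    trdeg_eq_zero (R := MvPolynomial I k) (A := FractionRing (MvPolynomial I k)),
    trdeg_eq_zero (R := FractionRing (MvPolynomial I k))
      (A := AlgebraicClosure (FractionRing (MvPolynomial I k))),
    add_zero, add_zero, MvPolynomial.trdeg_of_isDomain, Cardinal.lift_id]

/-- Two algebraically closed extensions of `k` with the same transcendence degree are `k`-isomorphic. -/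
theorem exists_algEquiv_of_trdeg {k L M : Type u} [Field k] [Field L] [Field M] [Algebra k L] [Algebra k M]
    [IsAlgClosed L] [IsAlgClosed M] (h : Algebra.trdeg k L = Algebra.trdeg k M) :
    ∃ e : L ≃+* M, ∀ x : k, e (algebraMap k L x) = algebraMap k M x := by
  obtain ⟨s, hs⟩ := exists_isTranscendenceBasis k L
  obtain ⟨t, ht⟩ := exists_isTranscendenceBasis k M
  have hst : Cardinal.mk s = Cardinal.mk t := by rw [hs.cardinalMk_eq_trdeg, ht.cardinalMk_eq_trdeg, h]
  obtain ⟨σ⟩ := Cardinal.eq.1 hst
  letI := IsAlgClosed.isAlgClosure_of_transcendence_basis _ hs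
  letI := IsAlgClosed.isAlgClosure_of_transcendence_basis _ ht
  let e₀ : Algebra.adjoin k (Set.range ((↑) : s → L)) ≃ₐ[k] Algebra.adjoin k (Set.range ((↑) : t → M)) :=
    hs.1.aevalEquiv.symm.trans ((MvPolynomial.renameEquiv k σ).trans ht.1.aevalEquiv)
  refine ⟨IsAlgClosure.equivOfEquiv L M e₀.toRingEquiv, fun x => ?_⟩
  rw [IsScalarTower.algebraMap_apply k (Algebra.adjoin k (Set.range ((↑) : s → L))) L,
    IsAlgClosure.equivOfEquiv_algebraMap]
  change algebraMap _ M (e₀ (algebraMap k _ x)) = _
  rw [e₀.commutes]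
  exact (IsScalarTower.algebraMap_apply k _ M x).symm

theorem exists_embedding {k K : Type u} [Field k] [Field K] (a : k →+* K) :
    ∃ e : bigField k (K ⊕ ULift.{u} ℕ) ≃+* bigField K (K ⊕ ULift.{u} ℕ),
      ∀ x : k, e (algebraMap k _ x) = algebraMap K _ (a x) := by
  letI := a.toAlgebra
  haveI : IsScalarTower k K (bigField K (K ⊕ ULift.{u} ℕ)) :=
    inferInstanceAs (IsScalarTower k K (AlgebraicClosure (FractionRing (MvPolynomial (K ⊕ ULift.{u} ℕ) K))))
  obtain ⟨e, he⟩ := exists_algEquiv_of_trdeg (k := k) (L := bigField k (K ⊕ ULift.{u} ℕ))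
    (M := bigField K (K ⊕ ULift.{u} ℕ)) (by
      rw [trdeg_bigField, ← trdeg_add_eq k K (A := bigField K (K ⊕ ULift.{u} ℕ)), trdeg_bigField]
      obtain ⟨s, hs⟩ := exists_isTranscendenceBasis k K
      have h1 : Algebra.trdeg k K ≤ Cardinal.mk (K ⊕ ULift.{u} ℕ) := by
        rw [← hs.cardinalMk_eq_trdeg]
        exact Cardinal.mk_le_of_injective (f := fun x : s => Sum.inl (x : K))
          (Sum.inl_injective.comp Subtype.val_injective)
      exact (Cardinal.add_eq_right (Cardinal.infinite_iff.1 inferInstance) h1).symm)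
  exact ⟨e, fun x => (he x).trans (IsScalarTower.algebraMap_apply k K _ x)⟩

end fields

variable {S : Scheme.{u}}

theorem points_yon_eq {Ω : Type u} [Field Ω] (w : Spec (CommRingCat.of Ω) ⟶ S)
    (x y : AlgSp.Points ((AlgSp.yon S).obj (Over.mk w))) : x = y := by
  rw [← AlgSp.Points.ofScheme_toScheme _ x, ← AlgSp.Points.ofScheme_toScheme _ y]
  exact congrArg _ (Subsingleton.elim (α := ↥(Spec (CommRingCat.of Ω))) _ _)


/-- Let `(U, R, s, t, c)` be a groupoid in algebraic spaces over `B` whose object space is `U = Spec k`.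
For every point `r` of `R` there are an algebraically closed field extension `k'` of `k` and, on the
restriction `(U', R', s', t', c')` along `Spec k' ⟶ Spec k`, a morphism `r' : Spec k' ⟶ R'` mapping
to `r` in `R` such that `s' ∘ r'` and `t' ∘ r'` are automorphisms of `Spec k'`. -/
theorem result (S : Scheme.{u}) (B : AlgSp.Sp S) (hB : AlgSp.IsAlgSpace B)
    (G : AlgSp.GroupoidSp B) (hR : AlgSp.IsAlgSpace G.R) (k : Type u) [Field k]
    (σ : Spec (CommRingCat.of k) ⟶ S) (eU : G.U ≅ (AlgSp.yon S).obj (Over.mk σ)) (r : AlgSp.Points G.R) :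
    ∃ (k' : Type u) (_ : Field k') (_ : Algebra k k'), IsAlgClosed k' ∧
      ∀ (G' : AlgSp.GroupoidSp B) (φ : AlgSp.GroupoidSp.Hom G' G), φ.IsRestriction → AlgSp.IsAlgSpace G'.R →
        ∀ (eU' : G'.U ≅ (AlgSp.yon S).obj (Over.mk (Spec.map (CommRingCat.ofHom (algebraMap k k')) ≫ σ))),
          φ.fU = eU'.hom ≫ (AlgSp.yon S).map (Over.homMk (Spec.map (CommRingCat.ofHom (algebraMap k k'))) rfl :
            Over.mk (Spec.map (CommRingCat.ofHom (algebraMap k k')) ≫ σ) ⟶ Over.mk σ) ≫ eU.inv →
          ∃ r' : G'.U ⟶ G'.R, (∀ x : AlgSp.Points G'.U, AlgSp.Points.map (r' ≫ φ.fR) x = r) ∧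
            IsIso (r' ≫ G'.s) ∧ IsIso (r' ≫ G'.t) := by
  induction r using AlgSp.Points.ind with
  | h p =>
  obtain ⟨K, str, val⟩ := p
  let pR : (AlgSp.yon S).obj (Over.mk str) ⟶ G.R := (GrothendieckTopology.uliftYonedaEquiv.{u + 1} (AlgSp.J S)).symm val
  -- the two maps of residue fields
  let at' : Over.mk str ⟶ Over.mk σ := (AlgSp.yon S).preimage (pR ≫ G.t ≫ eU.hom)
  let as' : Over.mk str ⟶ Over.mk σ := (AlgSp.yon S).preimage (pR ≫ G.s ≫ eU.hom)
  let a : k →+* K := (Spec.preimage at'.left).hom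
  let b : k →+* K := (Spec.preimage as'.left).hom
  have hat : Spec.map (CommRingCat.ofHom a) = at'.left := Spec.map_preimage at'.left
  have has : Spec.map (CommRingCat.ofHom b) = as'.left := Spec.map_preimage as'.left
  have wat : Spec.map (CommRingCat.ofHom a) ≫ σ = str := by rw [hat]; exact Over.w at'
  have was : Spec.map (CommRingCat.ofHom b) ≫ σ = str := by rw [has]; exact Over.w as'
  let I : Type u := K ⊕ ULift.{u} ℕ
  obtain ⟨ea, hea⟩ := exists_embedding a
  obtain ⟨eb, heb⟩ := exists_embedding b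
  refine ⟨bigField k I, inferInstance, inferInstance, inferInstance, ?_⟩
  intro G' φ hφ hR' eU' hfU
  let ι : k →+* bigField k I := algebraMap k (bigField k I)
  let j : K →+* bigField K I := algebraMap K (bigField K I)
  have hea' : ea.symm.toRingHom.comp (j.comp a) = ι := RingHom.ext fun x => by
    change ea.symm (j (a x)) = ι x
    rw [RingEquiv.symm_apply_eq]; exact (hea x).symm
  let δ : bigField k I →+* bigField k I := ea.symm.toRingHom.comp eb.toRingHom
  have hδ : δ.comp ι = ea.symm.toRingHom.comp (j.comp b) := RingHom.ext fun x => by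
    change ea.symm (eb (ι x)) = ea.symm (j (b x))
    exact congrArg ea.symm (heb x)
  let σ' : Spec (CommRingCat.of (bigField k I)) ⟶ S := Spec.map (CommRingCat.ofHom ι) ≫ σ
  let m₀ : Spec (CommRingCat.of (bigField k I)) ⟶ Spec (CommRingCat.of K) :=
    Spec.map (CommRingCat.ofHom (ea.symm.toRingHom.comp j))
  have hm₀a : m₀ ≫ Spec.map (CommRingCat.ofHom a) = Spec.map (CommRingCat.ofHom ι) := by
    change Spec.map _ ≫ Spec.map _ = _
    rw [← Spec.map_comp, ← CommRingCat.ofHom_comp, ← hea']
    rfl
  have hm₀b : m₀ ≫ Spec.map (CommRingCat.ofHom b) =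
      Spec.map (CommRingCat.ofHom δ) ≫ Spec.map (CommRingCat.ofHom ι) := by
    change Spec.map _ ≫ Spec.map _ = _
    rw [← Spec.map_comp, ← Spec.map_comp, ← CommRingCat.ofHom_comp, ← CommRingCat.ofHom_comp, hδ]
    rfl
  have hm₀ : m₀ ≫ str = σ' := by rw [← wat, ← Category.assoc, hm₀a]
  have hδ' : Spec.map (CommRingCat.ofHom δ) ≫ σ' = σ' := by
    change Spec.map _ ≫ Spec.map _ ≫ σ = _
    rw [← Category.assoc, ← hm₀b, Category.assoc, was]
    exact hm₀
  let m : Over.mk σ' ⟶ Over.mk str := Over.homMk m₀ hm₀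
  let g : Over.mk σ' ⟶ Over.mk σ' := Over.homMk (Spec.map (CommRingCat.ofHom δ)) hδ'
  haveI : IsIso g := by
    haveI : IsIso ((Over.forget S).map g) := by
      change IsIso (Spec.map (CommRingCat.ofHom δ))
      haveI : IsIso (CommRingCat.ofHom δ) :=
        (ConcreteCategory.isIso_iff_bijective _).2 (ea.symm.bijective.comp eb.bijective)
      infer_instance
    exact isIso_of_reflects_iso g (Over.forget S)
  let n : Over.mk σ' ⟶ Over.mk σ := Over.homMk (Spec.map (CommRingCat.ofHom ι)) rfl
  let d : G'.U ⟶ G.R := eU'.hom ≫ (AlgSp.yon S).map m ≫ pR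
  let γ : G'.U ⟶ G'.U := eU'.hom ≫ (AlgSp.yon S).map g ≫ eU'.inv
  have ht : pR ≫ G.t = (AlgSp.yon S).map at' ≫ eU.inv := by
    rw [Functor.map_preimage, Category.assoc, Category.assoc, Iso.hom_inv_id, Category.comp_id]
  have hs : pR ≫ G.s = (AlgSp.yon S).map as' ≫ eU.inv := by
    rw [Functor.map_preimage, Category.assoc, Category.assoc, Iso.hom_inv_id, Category.comp_id]
  have hmt : m ≫ at' = n := Over.OverMorphism.ext (by
    change m₀ ≫ at'.left = _; rw [← hat]; exact hm₀a)
  have hms : m ≫ as' = g ≫ n := Over.OverMorphism.ext (by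
    change m₀ ≫ as'.left = _; rw [← has]; exact hm₀b)
  have hfU' : φ.fU = eU'.hom ≫ (AlgSp.yon S).map n ≫ eU.inv := hfU
  have hdt : d ≫ G.t = φ.fU := by
    rw [hfU', Category.assoc, Category.assoc, ht, ← Functor.map_comp_assoc, hmt]
  have hds : d ≫ G.s = γ ≫ φ.fU := by
    rw [hfU', Category.assoc, Category.assoc, hs, ← Functor.map_comp_assoc, hms]
    simp only [γ, Category.assoc, Iso.inv_hom_id_assoc, Functor.map_comp]
  have hγ : γ ≫ G'.pU = G'.pU := by
    rw [← φ.fU_over, ← Category.assoc, ← hds, Category.assoc, G.s_over, ← G.t_over, ← Category.assoc, hdt]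
  let l : G'.U ⟶ pullback G'.pU G'.pU := pullback.lift (𝟙 _) γ (by rw [Category.id_comp, hγ])
  have hl : d ≫ G.j = l ≫ φ.prodMap := by
    refine pullback.hom_ext ?_ ?_
    · rw [Category.assoc, G.j_fst, hdt]
      simp only [l, GroupoidSp.Hom.prodMap, Category.assoc, pullback.lift_fst, pullback.lift_fst_assoc]
      exact (Category.id_comp _).symm
    · rw [Category.assoc, G.j_snd, hds]
      simp [l, GroupoidSp.Hom.prodMap]
  refine ⟨hφ.lift d l hl, fun x => ?_, ?_, ?_⟩
  · rw [IsPullback.lift_fst]
    have e1 : AlgSp.Points.map d x = AlgSp.Points.map pR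
        (AlgSp.Points.map ((AlgSp.yon S).map m) (AlgSp.Points.map eU'.hom x)) := by
      rw [← AlgSp.Points.map_comp, ← AlgSp.Points.map_comp]
    rw [e1, points_yon_eq str (AlgSp.Points.map ((AlgSp.yon S).map m) (AlgSp.Points.map eU'.hom x))
      (AlgSp.Points.mk
      (⟨K, str, ULift.up (𝟙 (Over.mk str))⟩ : AlgSp.FieldPt ((AlgSp.yon S).obj (Over.mk str)))),
      AlgSp.Points.map_mk]
    congr 1
    change AlgSp.FieldPt.mk K str ((GrothendieckTopology.uliftYonedaEquiv.{u + 1} (AlgSp.J S)) ((GrothendieckTopology.uliftYonedaEquiv.{u + 1} (AlgSp.J S)).symm val)) = _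
    rw [Equiv.apply_symm_apply]
  · have : hφ.lift d l hl ≫ G'.s = γ := by
      rw [← G'.j_snd, ← Category.assoc, IsPullback.lift_snd, pullback.lift_snd]
    rw [this]; infer_instance
  · have : hφ.lift d l hl ≫ G'.t = 𝟙 _ := by
      rw [← G'.j_fst, ← Category.assoc, IsPullback.lift_snd, pullback.lift_fst]
    rw [this]; infer_instance

end Groth.Agent.S10146
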