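import Groth.Statements.S1015
import Groth.Agent.KoszOrthLib.Gen
import Groth.Agent.QRlimLib.Unbounded

set_option autoImplicit false
set_option backward.isDefEq.respectTransparency false
set_option backward.isDefEq.respectTransparency.types false
set_option backward.isDefEq.respectTransparency false
set_option backward.isDefEq.respectTransparency.types false
universe u
open CategoryTheory CategoryTheory.Limits AlgebraicGeometry
attribute [local instance] HasDerivedCategory.standard
open Perf

namespace Groth.Agent.S1015

/-- Let U ⊆ X be an open subscheme whose inclusion is quasi-compact. Every object F of D(O_U) with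
quasi-coherent cohomology sheaves is the restriction of such an object on X: there is a complex G of
O_X-modules with quasi-coherent cohomology sheaves whose termwise restriction to U is isomorphic to
F in D(O_U). -/
theorem result (X : Scheme.{u}) (U : X.Opens) [QuasiCompact U.ι]
    (F : DCoh.D (U : Scheme.{u})) (hF : DCoh.IsQCohD F) :
    ∃ G : CochainComplex X.Modules ℤ, DCoh.IsQCohD (DCoh.toD X G) ∧
      Nonempty (DerivedCategory.Q.obj ((DCoh.restrictCx U).obj G) ≅ F) := by
  haveI := DCohRestrLib.hasRpush U.ι
  let R := (DCoh.Rpush U.ι).obj F
  let G := DerivedCategory.Q.objPreimage R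
  let eG : DerivedCategory.Q.obj G ≅ R := DerivedCategory.Q.objObjPreimageIso R
  have hR : DCoh.IsQCohD R := QRlimLib.isQCohD_rpush U.ι hF
  haveI := KoszOrthLib.isIso_counit U.ι (KoszOrthLib.restrictRpushAdj U.ι)
  refine ⟨G, fun n => @QCohLib.isQCoh_of_iso _ _ _
    ((DerivedCategory.homologyFunctor X.Modules n).mapIso eG.symm) (hR n), ⟨?_⟩⟩
  exact ((Scheme.Modules.restrictFunctor U.ι).mapDerivedCategoryFactors.app G).symm ≪≫
    (DCoh.restrictD U.ι).mapIso eG ≪≫ (asIso (KoszOrthLib.restrictRpushAdj U.ι).counit).app F

end Groth.Agent.S1015
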