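import Groth.Statements.S10152
import Groth.Agent.LinTopLib.Basic

set_option autoImplicit false
universe u v
open LinTop

namespace Groth.Agent.S10152

/-- Let φ : A → B be a taut homomorphism of linearly topologized rings. If A has a countable fundamental
system of open ideals, then so does B (equivalently, the neighbourhood filters of 0 are countably
generated). -/
theorem result
    (A : Type u) [CommRing A] [TopologicalSpace A] [IsTopologicalRing A] [IsLinearTopology A A]
    (B : Type v) [CommRing B] [TopologicalSpace B] [IsTopologicalRing B] [IsLinearTopology B B]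
    (φ : A →+* B) (hφ : LinTop.IsTaut φ) (hA : (nhds (0 : A)).IsCountablyGenerated) :
    (nhds (0 : B)).IsCountablyGenerated := by
  haveI := hA
  obtain ⟨S, hS⟩ := (nhds (0 : A)).exists_antitone_basis
  choose I hI hIS using fun n => LinTopLib.exists_isOpen_ideal_subset (hS.1.mem_of_mem (i := n) trivial)
  refine Filter.HasCountableBasis.isCountablyGenerated (p := fun _ : ℕ => True)
    (s := fun n => ((Ideal.map φ (I n)).closure : Set B))
    ⟨⟨fun U => ⟨fun hU => ?_, fun ⟨n, _, hn⟩ => Filter.mem_of_superset
      ((hφ.2.1 _ (hI n)).mem_nhds ((Ideal.map φ (I n)).closure).zero_mem) hn⟩⟩, Set.to_countable _⟩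
  obtain ⟨J, hJ, hJU⟩ := hφ.2.2 U hU
  obtain ⟨n, -, hn⟩ := hS.1.mem_iff.mp (hJ.mem_nhds J.zero_mem)
  exact ⟨n, trivial, subset_trans
    (LinTopLib.closure_mono (Ideal.map_mono (show I n ≤ J from fun x hx => hn (hIS n hx)))) hJU⟩

end Groth.Agent.S10152
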