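import Groth.Statements.S10155
import Groth.Agent.LinTopLib.FFlat

set_option autoImplicit false
universe u v
open LinTop

namespace Groth.Agent.S10155

/-- Let φ : A → B be a taut homomorphism of linearly topologized rings with dense image. Assume A is
Hausdorff and complete with a countable fundamental system of open ideals and B is Hausdorff. Then φ
is surjective and open, so that B is the quotient of A by the closed ideal ker φ with the quotient
topology, and B is complete. -/
theorem result
    (A : Type u) [CommRing A] [UniformSpace A] [IsUniformAddGroup A] [IsTopologicalRing A]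
    [IsLinearTopology A A] [T2Space A] [CompleteSpace A] (hA : (nhds (0 : A)).IsCountablyGenerated)
    (B : Type v) [CommRing B] [UniformSpace B] [IsUniformAddGroup B] [IsTopologicalRing B]
    [IsLinearTopology B B] [T2Space B]
    (φ : A →+* B) (hφ : LinTop.IsTaut φ) (hd : DenseRange φ) :
    Function.Surjective φ ∧ IsOpenQuotientMap φ ∧ CompleteSpace B := by
  haveI := hA
  obtain ⟨S, hS⟩ := (nhds (0 : A)).exists_antitone_basis
  choose I hI hIS using fun n => LinTopLib.exists_isOpen_ideal_subset (hS.1.mem_of_mem (i := n) trivial)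
  let J : ℕ → Ideal A := fun n => Nat.rec (motive := fun _ => Ideal A) ⊤ (fun k Jk => Jk ⊓ I k) n
  have hJ : ∀ n, IsOpen (J n : Set A) := fun n => by
    induction n with
    | zero => exact isOpen_univ
    | succ n ih => exact LinTopLib.isOpen_inf ih (hI n)
  have hanti : Antitone J := antitone_nat_of_succ_le fun n => inf_le_left
  have hbasis : ∀ W ∈ nhds (0 : A), ∃ n, (J n : Set A) ⊆ W := fun W hW => by
    obtain ⟨n, -, hn⟩ := hS.1.mem_iff.mp hW
    exact ⟨n + 1, fun x hx => hn (hIS n hx.2)⟩
  have hcl := fun n => LinTopLib.closure_image_eq_of_denseRange hd (J n)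
  have hopen' : ∀ n, IsOpen (closure (φ '' (J n : Set A))) := fun n => by
    rw [hcl]; exact hφ.2.1 _ (hJ n)
  have hbasis' : ∀ W ∈ nhds (0 : B), ∃ n, closure (φ '' (J n : Set A)) ⊆ W := fun W hW => by
    obtain ⟨K, hK, hKW⟩ := hφ.2.2 W hW
    obtain ⟨n, hn⟩ := hbasis _ (hK.mem_nhds K.zero_mem)
    refine ⟨n, ?_⟩
    rw [hcl]
    exact subset_trans (LinTopLib.closure_mono (Ideal.map_mono hn)) hKW
  let f : A →+ B := φ.toAddMonoidHom
  let U : ℕ → AddSubgroup A := fun n => (J n).toAddSubgroup
  have hU : Antitone U := fun m n h x hx => hanti h hx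
  have hsurj : Function.Surjective φ := by
    intro b
    have h := LinTopLib.image_eq_closure f hφ.1 U hU hJ hbasis hopen' hbasis' 0
    have hb : b ∈ closure (φ '' (J 0 : Set A)) := by
      rw [show (J 0 : Set A) = Set.univ from rfl, Set.image_univ]; exact hd b
    obtain ⟨a, -, ha⟩ := h.ge hb
    exact ⟨a, ha⟩
  exact ⟨hsurj, ⟨hsurj, hφ.1, LinTopLib.isOpenMap_of_image f hφ.1 U hU hJ hbasis hopen' hbasis'⟩,
    LinTopLib.completeSpace_of_image f hφ.1 U hU hJ hbasis hopen' hbasis' hsurj⟩

end Groth.Agent.S10155
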