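import Groth.Statements.S10156
import Groth.Agent.LinTopLib.Adic

set_option autoImplicit false
universe u v w
open LinTop

namespace Groth.Agent.S10156

/-- Given pre-adic rings A, B, C and continuous ring maps ψ : B → C and φ : A → B, adicness of the
composite A → C implies that ψ is adic. -/
theorem result
    (A : Type u) [CommRing A] [TopologicalSpace A] [IsTopologicalRing A] (hA : LinTop.IsPreadic A)
    (B : Type v) [CommRing B] [TopologicalSpace B] [IsTopologicalRing B] (hB : LinTop.IsPreadic B)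
    (C : Type w) [CommRing C] [TopologicalSpace C] [IsTopologicalRing C] (hC : LinTop.IsPreadic C)
    (φ : A →+* B) (ψ : B →+* C) (hφ : Continuous φ) (hψ : Continuous ψ)
    (h : LinTop.IsAdicHom (ψ.comp φ)) : LinTop.IsAdicHom ψ := by
  obtain ⟨I, hI, hIC⟩ := h
  obtain ⟨J, hJ⟩ := hB
  have hJi := LinTopLib.isIdealOfDefinition_of_isAdic hJ
  refine ⟨J, hJi, ?_⟩
  obtain ⟨hopen, hbasis⟩ := isAdic_iff.mp hIC
  obtain ⟨k, hk, hkJ⟩ := hI.2 _ ((LinTopLib.isOpen_comap hφ hJi.1).mem_nhds (J.comap φ).zero_mem)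
  have h1 : I.map (ψ.comp φ) ^ k ≤ J.map ψ := by
    rw [← Ideal.map_pow, ← Ideal.map_map]
    exact Ideal.map_mono (Ideal.map_le_iff_le_comap.mpr hkJ)
  refine isAdic_iff.mpr ⟨fun n => ?_, fun U hU => ?_⟩
  · refine LinTopLib.isOpen_mono ?_ (hopen (k * n))
    rw [pow_mul]
    exact Ideal.pow_right_mono h1 n
  · obtain ⟨n, hn⟩ := hbasis U hU
    obtain ⟨m, -, hm⟩ := hJi.2 _ ((LinTopLib.isOpen_comap hψ (hopen n)).mem_nhds (Ideal.zero_mem _))
    refine ⟨m, subset_trans ?_ hn⟩
    rw [← Ideal.map_pow]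
    exact Ideal.map_le_iff_le_comap.mpr hm

end Groth.Agent.S10156
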