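import Groth.Statements.S10159
import Groth.Agent.LinTopLib.Adic

set_option autoImplicit false
universe u
open LinTop

namespace Groth.Agent.S10159

/-- `A` seen with the adic topology of the ideal `I`. -/
def AdicModel {A : Type u} [CommRing A] (_I : Ideal A) : Type u := A

instance {A : Type u} [CommRing A] (I : Ideal A) : CommRing (AdicModel I) := inferInstanceAs (CommRing A)

/-- `A` with the adic topology of an ideal of definition maps tautly to `A`. -/
theorem adicModel (A : Type u) [CommRing A] [TopologicalSpace A] [IsTopologicalRing A]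
    (I : Ideal A) (hI : LinTop.IsIdealOfDefinition A I)
    (hopen : ∀ n : ℕ, 0 < n → IsOpen (closure ((I ^ n : Ideal A) : Set A))) :
    ∃ (A' : Type u) (_ : CommRing A') (_ : TopologicalSpace A') (_ : IsTopologicalRing A')
      (φ : A' →+* A), LinTop.IsPreadic A' ∧ LinTop.IsTaut φ := by
  let I' : Ideal (AdicModel I) := I
  letI τ' : TopologicalSpace (AdicModel I) := I'.adicTopology
  haveI hr : IsTopologicalRing (AdicModel I) := I'.ringFilterBasis.isTopologicalRing
  let φ : AdicModel I →+* A := RingHom.id A
  have hadic : IsAdic I' := rfl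
  obtain ⟨hop, hbas⟩ := isAdic_iff.mp hadic
  have hcont : Continuous φ := by
    refine continuous_of_continuousAt_zero φ (fun W hW => ?_)
    rw [map_zero] at hW
    obtain ⟨n, -, hn⟩ := hI.2 W hW
    exact Filter.mem_of_superset ((hop n).mem_nhds (I' ^ n).zero_mem) hn
  refine ⟨AdicModel I, inferInstance, τ', hr, φ, ⟨I', hadic⟩, hcont, fun K hK => ?_, fun W hW => ?_⟩
  · obtain ⟨n, hn⟩ := hbas _ (hK.mem_nhds K.zero_mem)
    refine LinTopLib.isOpen_mono (I := (I ^ n).closure) (J := (K.map φ).closure) ?_
      (LinTopLib.isOpen_closure_pow_of_le hI hI hopen n)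
    exact LinTopLib.closure_mono fun x hx => Ideal.mem_map_of_mem φ (hn hx)
  · obtain ⟨C, hC, hCc, hCW⟩ := exists_mem_nhds_isClosed_subset hW
    obtain ⟨n, -, hn⟩ := hI.2 C hC
    refine ⟨I' ^ n, hop n, subset_trans (closure_minimal ?_ hCc) hCW⟩
    refine subset_trans ?_ hn
    exact Ideal.map_le_iff_le_comap.mpr fun x hx => hx

/-- For a ring A carrying a linear topology, the following four conditions are equivalent: (1) A is
weakly pre-adic; (2) there exist a pre-adic topological ring A' and a taut continuous ring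
homomorphism A' → A (A' is taken in the universe of A, which suffices since A with an adic topology
serves); (3) A has an ideal of definition, and for at least one ideal of definition I every closure
cl(I^n) with n ≥ 1 is open; (4) A has an ideal of definition, and for each of its ideals of
definition I every closure cl(I^n) with n ≥ 1 is open. -/
theorem result
    (A : Type u) [CommRing A] [TopologicalSpace A] [IsTopologicalRing A] [IsLinearTopology A A] :
    List.TFAE [LinTop.IsWeaklyPreadic A,
      ∃ (A' : Type u) (_ : CommRing A') (_ : TopologicalSpace A') (_ : IsTopologicalRing A')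
        (φ : A' →+* A), LinTop.IsPreadic A' ∧ LinTop.IsTaut φ,
      LinTop.IsPreadmissible A ∧ ∃ I : Ideal A, LinTop.IsIdealOfDefinition A I ∧
        ∀ n : ℕ, 0 < n → IsOpen (closure ((I ^ n : Ideal A) : Set A)),
      LinTop.IsPreadmissible A ∧ ∀ I : Ideal A, LinTop.IsIdealOfDefinition A I →
        ∀ n : ℕ, 0 < n → IsOpen (closure ((I ^ n : Ideal A) : Set A))] := by
  tfae_have 1 → 3 := fun h => by
    obtain ⟨I, hI, hopen⟩ := LinTopLib.exists_idealOfDefinition_of_isWeaklyPreadic h
    exact ⟨⟨inferInstance, I, hI⟩, I, hI, fun n _ => hopen n⟩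
  tfae_have 3 → 4 := fun ⟨h, I, hI, hopen⟩ =>
    ⟨h, fun J hJ n _ => LinTopLib.isOpen_closure_pow_of_le hJ hI hopen n⟩
  tfae_have 4 → 1 := fun ⟨h, hopen⟩ => by
    obtain ⟨-, I, hI⟩ := h
    exact LinTopLib.isWeaklyPreadic_of_idealOfDefinition hI (hopen I hI)
  tfae_have 3 → 2 := fun ⟨_, I, hI, hopen⟩ => adicModel A I hI hopen
  tfae_have 2 → 1 := fun ⟨A', i1, i2, i3, φ, hA', hφ⟩ => by
    exact @LinTopLib.isWeaklyPreadic_of_isTaut A' i1 i2 i3 A _ _ _ _ φ hφ
      (@LinTopLib.isWeaklyPreadic_of_isPreadic A' i1 i2 i3 hA')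
  tfae_finish

end Groth.Agent.S10159
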