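import Groth.Statements.S10161
import Groth.Agent.LinTopLib.FFlat

set_option autoImplicit false
universe u
open LinTop

namespace Groth.Agent.S10161

/-- The (separated) completion of a weakly pre-adic linearly topologized ring is weakly adic. -/
theorem result
    (A : Type u) [CommRing A] [UniformSpace A] [IsUniformAddGroup A] [IsTopologicalRing A] [IsLinearTopology A A] (hA : LinTop.IsWeaklyPreadic A) :
    LinTop.IsWeaklyAdic (UniformSpace.Completion A) := by
  haveI := LinTopLib.isLinearTopology_completion (R := A)
  refine ⟨LinTopLib.isWeaklyPreadic_of_isTaut (φ := UniformSpace.Completion.coeRingHom) ?_ hA,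
    inferInstance, inferInstance⟩
  exact ⟨UniformSpace.Completion.continuous_coe A, fun _ hI => LinTopLib.isOpen_closure_map_coe hI,
    fun _ hU => LinTopLib.exists_closure_map_coe_subset hU⟩

end Groth.Agent.S10161
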