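import Groth.Statements.S10162
import Groth.Agent.LinTopLib.Completion

set_option autoImplicit false
universe u
open LinTop

namespace Groth.Agent.S10162

/-- For a linearly topologized ring A, the canonical map from A to its (separated) completion is taut. -/
theorem result
    (A : Type u) [CommRing A] [UniformSpace A] [IsUniformAddGroup A] [IsTopologicalRing A] [IsLinearTopology A A] :
    LinTop.IsTaut (UniformSpace.Completion.coeRingHom : A →+* UniformSpace.Completion A) :=
  ⟨UniformSpace.Completion.continuous_coe A, fun _ hI => LinTopLib.isOpen_closure_map_coe hI,
    fun _ hU => LinTopLib.exists_closure_map_coe_subset hU⟩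

end Groth.Agent.S10162
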