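import Groth.Statements.S10164
import Groth.Agent.LinTopLib.FFlat

set_option autoImplicit false
universe u
open LinTop

namespace Groth.Agent.S10164

/-- Let A be weakly adic and I an ideal of definition of A with I/I₂ finitely generated, where I₂
denotes the closure of I^2 (here: I maps onto a finitely generated ideal of A/I₂). Then A is adic,
and some finitely generated ideal of A is an ideal of definition. -/
theorem result
    (A : Type u) [CommRing A] [UniformSpace A] [IsUniformAddGroup A] [IsTopologicalRing A] (hA : LinTop.IsWeaklyAdic A)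
    (I : Ideal A) (hI : LinTop.IsIdealOfDefinition A I)
    (hfg : (I.map (Ideal.Quotient.mk ((I ^ 2).closure))).FG) :
    LinTop.IsAdicRing A ∧ ∃ J : Ideal A, LinTop.IsIdealOfDefinition A J ∧ J.FG := by
  obtain ⟨hw, hT, hC⟩ := hA
  haveI := hw.1
  haveI := hT
  haveI := hC
  obtain ⟨I₀, hI₀, hopen₀⟩ := LinTopLib.exists_idealOfDefinition_of_isWeaklyPreadic hw
  have hopen := LinTopLib.isOpen_closure_pow_of_le hI hI₀ (fun n _ => hopen₀ n)
  obtain ⟨s, hs⟩ := hfg
  have hlift : ∀ y : {y // y ∈ s}, ∃ x ∈ I, Ideal.Quotient.mk ((I ^ 2).closure) x = y := fun y =>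
    (Ideal.mem_map_iff_of_surjective _ Ideal.Quotient.mk_surjective).mp
      (hs ▸ Submodule.subset_span y.2)
  choose x hxI hx using hlift
  let J : Ideal A := Ideal.span (Set.range x)
  have hJI : J ≤ I := Ideal.span_le.mpr (by rintro _ ⟨y, rfl⟩; exact hxI y)
  have h2 : I ≤ J ⊔ (I ^ 2).closure := by
    have h : I.map (Ideal.Quotient.mk ((I ^ 2).closure)) ≤ J.map (Ideal.Quotient.mk ((I ^ 2).closure)) := by
      rw [← hs]
      refine Submodule.span_le.mpr fun y hy => ?_
      rw [show y = Ideal.Quotient.mk _ (x ⟨y, hy⟩) from (hx ⟨y, hy⟩).symm]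
      exact Ideal.mem_map_of_mem _ (Ideal.subset_span ⟨⟨y, hy⟩, rfl⟩)
    have h' := Ideal.map_le_iff_le_comap.mp h
    rwa [Ideal.comap_map_of_surjective _ Ideal.Quotient.mk_surjective, ← RingHom.ker_eq_comap_bot,
      Ideal.mk_ker] at h'
  have hstep : ∀ n, I ^ n ≤ J ^ n ⊔ (I ^ (n + 1)).closure := by
    intro n
    induction n with
    | zero => simp
    | succ n ih =>
      rw [pow_succ' I n]
      refine (Ideal.mul_mono h2 le_rfl).trans ?_
      rw [Ideal.sup_mul]
      refine sup_le ((Ideal.mul_mono le_rfl ih).trans ?_) ?_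
      · rw [Ideal.mul_sup, ← pow_succ' J]
        refine sup_le_sup_left ?_ _
        refine ((Ideal.mul_mono ((LinTopLib.le_closure J).trans (LinTopLib.closure_mono hJI)) le_rfl).trans
          (LinTopLib.closure_mul_closure_le _ _)).trans ?_
        rw [← pow_succ' I]
      · refine le_trans ?_ le_sup_right
        refine ((Ideal.mul_mono le_rfl (LinTopLib.le_closure _)).trans
          (LinTopLib.closure_mul_closure_le _ _)).trans (le_of_eq ?_)
        rw [← pow_add]; congr 2; omega
  have hclose : ∀ n m, (I ^ n).closure ≤ J ^ n ⊔ (I ^ (n + m)).closure := by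
    intro n m
    induction m with
    | zero => exact le_sup_right
    | succ m ih =>
      refine ih.trans (sup_le le_sup_left ?_)
      refine LinTopLib.closure_le ((hstep (n + m)).trans ?_)
        (LinTopLib.isOpen_mono le_sup_right (hopen (n + (m + 1))))
      exact sup_le_sup (Ideal.pow_le_pow_right (Nat.le_add_right n m)) le_rfl
  have heq : ∀ n, (I ^ n).closure = (J ^ n).closure := by
    refine fun n => le_antisymm (fun y hy => ?_) (LinTopLib.closure_mono (Ideal.pow_right_mono hJI n))
    refine (LinTopLib.closure_eq_iInter _).mpr fun U hU => ?_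
    obtain ⟨m, -, hm⟩ := hI.2 _ (hU.mem_nhds U.zero_mem)
    refine (show J ^ n ⊔ (I ^ (n + m)).closure ≤ J ^ n ⊔ U from sup_le_sup_left ?_ _) (hclose n m hy)
    exact LinTopLib.closure_le ((Ideal.pow_le_pow_right (Nat.le_add_left m n)).trans hm) hU
  have hJfg : J.FG := Submodule.fg_span (Set.finite_range x)
  have hadic : IsAdic J := LinTopLib.isAdic_of_closure_pow_basis J hJfg
    (fun n => by rw [← Ideal.coe_closure, ← heq]; exact hopen n) fun U hU => by
    obtain ⟨K, hK, hKU⟩ := LinTopLib.exists_isOpen_ideal_subset hU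
    obtain ⟨m, -, hm⟩ := hI.2 _ (hK.mem_nhds K.zero_mem)
    exact ⟨m, subset_trans (LinTopLib.closure_le ((Ideal.pow_right_mono hJI m).trans hm) hK) hKU⟩
  exact ⟨⟨⟨J, hadic⟩, hT, hC⟩, J, LinTopLib.isIdealOfDefinition_of_isAdic hadic, hJfg⟩

end Groth.Agent.S10164
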