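import Groth.Statements.S10166
import Groth.Agent.LinTopLib.Basic

set_option autoImplicit false
universe u v
open LinTop

namespace Groth.Agent.S10166

/-- Let φ : A → B be a taut homomorphism of linearly topologized rings such that for every open ideal I
of A, with J the closure of φ(I)B, the induced map A/I → B/J is faithfully flat. If B has a
countable fundamental system of open ideals, then so does A. -/
theorem result
    (A : Type u) [CommRing A] [TopologicalSpace A] [IsTopologicalRing A] [IsLinearTopology A A]
    (B : Type v) [CommRing B] [TopologicalSpace B] [IsTopologicalRing B] [IsLinearTopology B B]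
    (φ : A →+* B) (hφ : LinTop.IsTautFFlat φ) (hB : (nhds (0 : B)).IsCountablyGenerated) :
    (nhds (0 : A)).IsCountablyGenerated := by
  haveI := hB
  obtain ⟨S, hS⟩ := (nhds (0 : B)).exists_antitone_basis
  choose I hI hIS using fun n => hφ.1.2.2 (S n) (hS.1.mem_of_mem (i := n) trivial)
  refine Filter.HasCountableBasis.isCountablyGenerated (p := fun _ : ℕ => True)
    (s := fun n => (I n : Set A))
    ⟨⟨fun U => ⟨fun hU => ?_, fun ⟨n, _, hn⟩ => Filter.mem_of_superset
      ((hI n).mem_nhds (I n).zero_mem) hn⟩⟩, Set.to_countable _⟩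
  obtain ⟨J, hJ, hJU⟩ := LinTopLib.exists_isOpen_ideal_subset hU
  obtain ⟨n, -, hn⟩ := hS.1.mem_iff.mp
    ((hφ.1.2.1 J hJ).mem_nhds ((J.map φ).closure).zero_mem)
  refine ⟨n, trivial, fun x hx => hJU ?_⟩
  rw [← LinTopLib.comap_closure_map_eq hφ hJ]
  exact hn (hIS n (LinTopLib.le_closure _ (Ideal.mem_map_of_mem φ hx)))

end Groth.Agent.S10166
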