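import Groth.Statements.S10167
import Groth.Agent.LinTopLib.Basic

set_option autoImplicit false
universe u v
open LinTop

namespace Groth.Agent.S10167

/-- Let φ : A → B be a taut homomorphism of linearly topologized rings such that for every open ideal I
of A the induced ring map A/I → B/J, where J denotes the closure of φ(I)B, is faithfully flat. If B
has a weak ideal of definition (B is weakly pre-admissible), then so does A. -/
theorem result
    (A : Type u) [CommRing A] [TopologicalSpace A] [IsTopologicalRing A] [IsLinearTopology A A]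
    (B : Type v) [CommRing B] [TopologicalSpace B] [IsTopologicalRing B] [IsLinearTopology B B]
    (φ : A →+* B) (hφ : LinTop.IsTautFFlat φ) (hB : LinTop.IsWeaklyPreadmissible B) :
    LinTop.IsWeaklyPreadmissible A := by
  obtain ⟨-, K, hK⟩ := hB
  obtain ⟨I, hI, hIK⟩ := LinTopLib.IsTaut.exists_le hφ.1 hK.1
  refine ⟨inferInstance, I, hI, fun f hf U hU => ?_⟩
  obtain ⟨J, hJ, hJU⟩ := LinTopLib.exists_isOpen_ideal_subset hU
  show ∀ᶠ n in Filter.atTop, f ^ n ∈ U
  filter_upwards [(hK.2 _ (hIK (LinTopLib.le_closure _ (Ideal.mem_map_of_mem φ hf)))).eventually_mem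
    ((hφ.1.2.1 J hJ).mem_nhds ((J.map φ).closure).zero_mem)] with n hn
  refine hJU ?_
  rw [← LinTopLib.comap_closure_map_eq hφ hJ]
  show φ (f ^ n) ∈ (J.map φ).closure
  rw [map_pow]; exact hn

end Groth.Agent.S10167
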