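import Groth.Statements.S10168
import Groth.Agent.LinTopLib.Basic

set_option autoImplicit false
universe u v
open LinTop

namespace Groth.Agent.S10168

/-- Let φ : A → B be a taut homomorphism of linearly topologized rings such that for every open ideal I
of A, with J the closure of φ(I)B, the induced map A/I → B/J is faithfully flat. If B is
pre-admissible, then A is pre-admissible. -/
theorem result
    (A : Type u) [CommRing A] [TopologicalSpace A] [IsTopologicalRing A] [IsLinearTopology A A]
    (B : Type v) [CommRing B] [TopologicalSpace B] [IsTopologicalRing B] [IsLinearTopology B B]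
    (φ : A →+* B) (hφ : LinTop.IsTautFFlat φ) (hB : LinTop.IsPreadmissible B) :
    LinTop.IsPreadmissible A := by
  obtain ⟨-, K, hK⟩ := hB
  obtain ⟨I, hI, hIK⟩ := LinTopLib.IsTaut.exists_le hφ.1 hK.1
  refine ⟨inferInstance, I, hI, fun U hU => ?_⟩
  obtain ⟨J, hJ, hJU⟩ := LinTopLib.exists_isOpen_ideal_subset hU
  obtain ⟨n, hn, hnK⟩ := hK.2 _ ((hφ.1.2.1 J hJ).mem_nhds ((J.map φ).closure).zero_mem)
  refine ⟨n, hn, fun x hx => hJU ?_⟩
  rw [← LinTopLib.comap_closure_map_eq hφ hJ]
  refine hnK (Ideal.pow_right_mono ((LinTopLib.le_closure _).trans hIK) n ?_)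
  rw [← Ideal.map_pow]
  exact Ideal.mem_map_of_mem φ hx

end Groth.Agent.S10168
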