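import Groth.Statements.S10169
import Groth.Agent.LinTopLib.FFlat

set_option autoImplicit false
universe u v
open LinTop

namespace Groth.Agent.S10169

/-- Let φ : A → B be a taut homomorphism of linearly topologized rings such that for every open ideal I
of A the induced ring map A/I → B/J, where J denotes the closure of φ(I)B, is faithfully flat. Weak
pre-adicness then descends: when B is weakly pre-adic, A is as well. -/
theorem result
    (A : Type u) [CommRing A] [TopologicalSpace A] [IsTopologicalRing A] [IsLinearTopology A A]
    (B : Type v) [CommRing B] [TopologicalSpace B] [IsTopologicalRing B] [IsLinearTopology B B]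
    (φ : A →+* B) (hφ : LinTop.IsTautFFlat φ) (hB : LinTop.IsWeaklyPreadic B) :
    LinTop.IsWeaklyPreadic A := by
  obtain ⟨K, hK, hopenK⟩ := LinTopLib.exists_idealOfDefinition_of_isWeaklyPreadic hB
  obtain ⟨I, hI, -⟩ := LinTopLib.exists_idealOfDefinition_of_isTautFFlat hφ hK
  refine LinTopLib.isWeaklyPreadic_of_idealOfDefinition hI fun n _ => ?_
  have hI' := LinTopLib.isIdealOfDefinition_closure_map hφ.1 hI
  have h := LinTopLib.isOpen_closure_pow_of_le hI' hK (fun m _ => hopenK m) n
  refine LinTopLib.isOpen_closure_of_isOpen_closure_map hφ ?_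
  refine LinTopLib.isOpen_mono (I := (((I.map φ).closure) ^ n).closure) ?_ h
  refine LinTopLib.closure_le_of_isClosed ?_ isClosed_closure
  rw [Ideal.map_pow]
  exact LinTopLib.closure_pow_le _ n

end Groth.Agent.S10169
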