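import Groth.Statements.S1017
import Groth.Agent.KiehlLib.RestrLift
import Groth.Agent.PerfLib.Restrict

set_option autoImplicit false
set_option backward.isDefEq.respectTransparency false
set_option backward.isDefEq.respectTransparency.types false
universe u
open CategoryTheory CategoryTheory.Limits AlgebraicGeometry
attribute [local instance] HasDerivedCategory.standard
open Perf

namespace Groth.Agent.S1017

/-- Let X be a Noetherian scheme and U ⊆ X an open subscheme. Every bounded object F of D(O_U) with
coherent cohomology sheaves is the restriction of such an object on X: there is a complex G of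
O_X-modules, bounded with coherent cohomology as an object of D(O_X), whose termwise restriction to
U is isomorphic to F in D(O_U). -/
theorem result (X : Scheme.{u}) [IsNoetherian X] (U : X.Opens)
    (F : DCoh.D (U : Scheme.{u})) (hF : DCoh.IsCohD F) (a b : ℤ) [F.IsGE a] [F.IsLE b] :
    ∃ (G : CochainComplex X.Modules ℤ) (a' b' : ℤ), DCoh.IsCohD (DCoh.toD X G) ∧ (DCoh.toD X G).IsGE a' ∧ (DCoh.toD X G).IsLE b' ∧
      Nonempty (DerivedCategory.Q.obj ((DCoh.restrictCx U).obj G) ≅ F) := by
  obtain ⟨G, hG, ⟨a', b', ha', hb'⟩, ⟨e⟩⟩ := KiehlLib.exists_bdd_coh_extension U F hF a b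
  let c := DerivedCategory.Q.objObjPreimageIso G
  refine ⟨DerivedCategory.Q.objPreimage G, a', b', fun q => ?_, ?_, ?_, ⟨?_⟩⟩
  · exact QCohLib.isCoh_of_iso ((DerivedCategory.homologyFunctor X.Modules q).mapIso c.symm) (hG q)
  · exact DerivedCategory.TStructure.t.isGE_of_iso c.symm a'
  · exact DerivedCategory.TStructure.t.isLE_of_iso c.symm b'
  · exact (Groth.Agent.PerfLib.resDQIso U.ι _).symm ≪≫ (DCoh.restrictD U.ι).mapIso c ≪≫ e

end Groth.Agent.S1017
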