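import Groth.Statements.S10170
import Groth.Agent.LinTopLib.FFlat
import Mathlib.RingTheory.AdicCompletion.Topology
import Mathlib.RingTheory.Nakayama

set_option autoImplicit false
universe u v
open LinTop

namespace Groth.Agent.S10170

/-- Let φ : A → B be a taut homomorphism of linearly topologized rings such that for every open ideal I
of A the induced ring map A/I → B/J, where J denotes the closure of φ(I)B, is faithfully flat.
Suppose A is Hausdorff and complete, and B is adic with some finitely generated ideal of definition.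
Then A is adic, and some finitely generated ideal of A is an ideal of definition. -/
theorem result
    (A : Type u) [CommRing A] [UniformSpace A] [IsUniformAddGroup A] [IsTopologicalRing A] [IsLinearTopology A A] [T2Space A] [CompleteSpace A]
    (B : Type v) [CommRing B] [UniformSpace B] [IsUniformAddGroup B] [IsTopologicalRing B] (hB : LinTop.IsAdicRing B)
    (hJ : ∃ J : Ideal B, LinTop.IsIdealOfDefinition B J ∧ J.FG)
    (φ : A →+* B) (hφ : LinTop.IsTautFFlat φ) :
    LinTop.IsAdicRing A ∧ ∃ I : Ideal A, LinTop.IsIdealOfDefinition A I ∧ I.FG := by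
  classical
  obtain ⟨hBp, hBT, hBC⟩ := hB
  haveI := hBT
  haveI := hBC
  haveI := LinTopLib.isLinearTopology_of_isPreadic hBp
  obtain ⟨J, hJ, hJfg⟩ := hJ
  have hJa : IsAdic J := LinTopLib.isAdic_of_idealOfDefinition hBp hJ
  have : IsAdicComplete J B := hJa.isAdicComplete_iff.mpr ⟨hBC, hBT⟩
  obtain ⟨I, hI, hIJ⟩ := LinTopLib.exists_idealOfDefinition_of_isTautFFlat hφ hJ
  have hK := LinTopLib.isIdealOfDefinition_closure_map hφ.1 hI
  obtain ⟨c, -, hcK⟩ := (LinTopLib.isIdealOfDefinition_of_isAdic hJa).2 _ (hK.1.mem_nhds (Ideal.zero_mem _))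
  have hJo := (isAdic_iff.mp hJa).1
  have hsub : J ^ c ≤ I.map φ ⊔ J ^ (c + 1) := fun y hy =>
    (LinTopLib.closure_eq_iInter _).mp (hcK hy) _ (hJo (c + 1))
  obtain ⟨I', hI'I, hI'fg, hI'⟩ : ∃ I' : Ideal A, I' ≤ I ∧ I'.FG ∧ J ^ c ≤ I'.map φ ⊔ J ^ (c + 1) := by
    obtain ⟨s, hs⟩ := Submodule.FG.pow hJfg c
    have h1 : ∀ y : {y // y ∈ s}, ∃ t : Finset A, (t : Set A) ⊆ I ∧
        (y : B) ∈ Ideal.span (φ '' (t : Set A)) ⊔ J ^ (c + 1) := by
      intro y
      obtain ⟨a, ha, b, hb, hab⟩ := Submodule.mem_sup.mp (hsub (hs ▸ Submodule.subset_span y.2))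
      rw [Ideal.map] at ha
      obtain ⟨T, hTI, haT⟩ := Submodule.mem_span_finite_of_mem_span ha
      obtain ⟨t, htI, rfl⟩ := Finset.subset_set_image_iff.mp hTI
      exact ⟨t, htI, hab ▸ Submodule.add_mem_sup (by simpa using haT) hb⟩
    choose t htI ht using h1
    classical
    refine ⟨Ideal.span ((Finset.univ.biUnion t : Finset A) : Set A), Ideal.span_le.mpr ?_,
      ⟨_, rfl⟩, ?_⟩
    · intro x hx
      simp only [Finset.coe_biUnion, Set.mem_iUnion] at hx
      obtain ⟨y, -, hy⟩ := hx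
      exact htI y hy
    · conv_lhs => rw [← hs]
      refine Submodule.span_le.mpr fun y hy => ?_
      refine (show Ideal.span (φ '' (t ⟨y, hy⟩ : Set A)) ⊔ J ^ (c + 1) ≤ _ from
        sup_le_sup_right ?_ _) (ht ⟨y, hy⟩)
      rw [Ideal.map_span]
      refine Ideal.span_mono (Set.image_mono fun x hx => ?_)
      simp only [Finset.coe_biUnion, Set.mem_iUnion]
      exact ⟨⟨y, hy⟩, Finset.mem_univ _, hx⟩
  have hnak : J ^ c ≤ I'.map φ := by
    refine Submodule.le_of_le_smul_of_le_jacobson_bot (I := J) (Submodule.FG.pow hJfg c)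
      (IsAdicComplete.le_jacobson_bot J) (hI'.trans (le_of_eq ?_))
    rw [smul_eq_mul, ← pow_succ']
  have hopen : ∀ n, IsOpen (closure ((I' ^ n : Ideal A) : Set A)) := fun n => by
    refine LinTopLib.isOpen_closure_of_isOpen_closure_map hφ ?_
    refine LinTopLib.isOpen_mono (I := J ^ (c * n)) ?_ (hJo _)
    rw [pow_mul, Ideal.map_pow]
    exact (Ideal.pow_right_mono hnak n).trans (LinTopLib.le_closure _)
  have hadic : IsAdic I' := LinTopLib.isAdic_of_closure_pow_basis I' hI'fg hopen fun U hU => by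
    obtain ⟨V, hV, hVU⟩ := LinTopLib.exists_isOpen_ideal_subset hU
    obtain ⟨n, -, hn⟩ := hI.2 _ (hV.mem_nhds V.zero_mem)
    exact ⟨n, subset_trans (LinTopLib.closure_le ((Ideal.pow_right_mono hI'I n).trans hn) hV) hVU⟩
  exact ⟨⟨⟨I', hadic⟩, inferInstance, inferInstance⟩, I', LinTopLib.isIdealOfDefinition_of_isAdic hadic, hI'fg⟩

end Groth.Agent.S10170
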