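import Groth.Statements.S10173
import Groth.Agent.LinTopLib.GroupCompletion
import Mathlib.Topology.Algebra.GroupCompletion
import Mathlib.RingTheory.Finiteness.Ideal
import Mathlib.Topology.Algebra.Module.Basic

set_option autoImplicit false
universe u v
open LinTop

namespace Groth.Agent.S10173

/-- Let R be a commutative ring, I a finitely generated ideal and M a topological R-module (additive
uniform structure, each scalar acting uniformly continuously) having an open submodule M' whose
topology is the I-adic one, i.e. the I^n M' are open in M and form a fundamental system of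
neighbourhoods of 0. Then the separated completion M^ has an open submodule whose topology is I-adic
in the same sense, and for every n ≥ 1 the map M → M^/I^n M^ is surjective with kernel I^n M,
identifying M^/I^n M^ with M/I^n M. -/
theorem result
    {R : Type u} [CommRing R] (I : Ideal R) (hI : I.FG)
    {M : Type v} [AddCommGroup M] [Module R M] [UniformSpace M] [IsUniformAddGroup M]
    [UniformContinuousConstSMul R M]
    (M' : Submodule R M) (hopen : ∀ n : ℕ, IsOpen ((I ^ n • M' : Submodule R M) : Set M))
    (hbasis : ∀ U ∈ nhds (0 : M), ∃ n : ℕ, ((I ^ n • M' : Submodule R M) : Set M) ⊆ U) :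
    (∃ M'' : Submodule R (UniformSpace.Completion M),
        (∀ n : ℕ, IsOpen ((I ^ n • M'' : Submodule R (UniformSpace.Completion M)) :
          Set (UniformSpace.Completion M))) ∧
        ∀ U ∈ nhds (0 : UniformSpace.Completion M), ∃ n : ℕ,
          ((I ^ n • M'' : Submodule R (UniformSpace.Completion M)) :
            Set (UniformSpace.Completion M)) ⊆ U) ∧
      ∀ n : ℕ, 0 < n →
        Function.Surjective ((QuotientAddGroup.mk' (I ^ n • ⊤ : Submodule R (UniformSpace.Completion M)).toAddSubgroup).comp
          (UniformSpace.Completion.toCompl : M →+ UniformSpace.Completion M)) ∧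
        ((QuotientAddGroup.mk' (I ^ n • ⊤ : Submodule R (UniformSpace.Completion M)).toAddSubgroup).comp
          (UniformSpace.Completion.toCompl : M →+ UniformSpace.Completion M)).ker = (I ^ n • ⊤ : Submodule R M).toAddSubgroup := by
  let L : M →ₗ[R] UniformSpace.Completion M :=
    { toFun := fun m => (m : UniformSpace.Completion M)
      map_add' := fun a b => UniformSpace.Completion.coe_add a b
      map_smul' := fun c a => UniformSpace.Completion.coe_smul c a }
  let V : ℕ → Submodule R (UniformSpace.Completion M) := fun k =>
    ((I ^ k • M' : Submodule R M).map L).topologicalClosure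
  have hV : ∀ k, (V k : Set (UniformSpace.Completion M)) =
      (LinTopLib.complSubgroup (I ^ k • M' : Submodule R M).toAddSubgroup : Set (UniformSpace.Completion M)) :=
    fun k => rfl
  have hVopen : ∀ k, IsOpen (V k : Set (UniformSpace.Completion M)) := fun k => by
    rw [hV]; exact LinTopLib.isOpen_complSubgroup (hopen k)
  have hVbasis : ∀ U ∈ nhds (0 : UniformSpace.Completion M),
      ∃ k, (V k : Set (UniformSpace.Completion M)) ⊆ U := fun U hU => by
    obtain ⟨W, hW, hWU⟩ := LinTopLib.exists_complSubgroup_subset (fun W hW => by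
      obtain ⟨k, hk⟩ := hbasis W hW
      exact ⟨(I ^ k • M' : Submodule R M).toAddSubgroup, hopen k, hk⟩) hU
    obtain ⟨k, hk⟩ := hbasis _ (hW.mem_nhds W.zero_mem)
    refine ⟨k, subset_trans ?_ hWU⟩
    rw [hV]
    exact closure_mono (Set.image_mono hk)
  have hVanti : ∀ {k l : ℕ}, k ≤ l → V l ≤ V k := fun h => by
    refine Submodule.topologicalClosure_mono (Submodule.map_mono ?_)
    exact Submodule.smul_mono_left (Ideal.pow_le_pow_right h)
  have hle : ∀ n, I ^ n • V 0 ≤ V n := by
    intro n
    refine Submodule.smul_le.mpr fun c hc x hx => ?_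
    refine map_mem_closure (continuous_const_smul c) hx ?_
    rintro _ ⟨m, hm, rfl⟩
    exact ⟨c • m, Submodule.smul_mem_smul hc (by simpa using hm), map_smul L c m⟩
  have heq : ∀ n, I ^ n • V 0 = V n := by
    intro n
    refine le_antisymm (hle n) fun z hz => ?_
    obtain ⟨r, x, hx⟩ := Submodule.fg_iff_exists_fin_generating_family.mp (Ideal.FG.pow (n := n) hI)
    let f : (Fin r → UniformSpace.Completion M) →+ UniformSpace.Completion M :=
      { toFun := fun a => ∑ i, x i • a i
        map_zero' := Finset.sum_eq_zero fun i _ => smul_zero (x i)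
        map_add' := fun a b => by simp [Pi.add_apply, Finset.sum_add_distrib, smul_add] }
    have hf : Continuous f := by
      show Continuous fun a : Fin r → UniformSpace.Completion M => ∑ i, x i • a i
      exact continuous_finsetSum _ fun i _ => (continuous_apply i).const_smul (x i)
    let U : ℕ → AddSubgroup (Fin r → UniformSpace.Completion M) := fun m =>
      AddSubgroup.pi Set.univ fun _ => (V m).toAddSubgroup
    have hU : ∀ m a, a ∈ U m ↔ ∀ i, a i ∈ V m := fun m a => by simp [U, AddSubgroup.mem_pi]
    have hUopen : ∀ m, IsOpen (U m : Set (Fin r → UniformSpace.Completion M)) := fun m => by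
      rw [show (U m : Set (Fin r → UniformSpace.Completion M)) =
          ⋂ i, (fun a => a i) ⁻¹' (V m : Set (UniformSpace.Completion M)) by
        ext a; simp only [SetLike.mem_coe, hU, Set.mem_iInter, Set.mem_preimage]]
      exact isOpen_iInter_of_finite fun i => (hVopen m).preimage (continuous_apply i)
    have himage : ∀ m, closure (f '' (U m : Set (Fin r → UniformSpace.Completion M))) =
        (V (n + m) : Set (UniformSpace.Completion M)) := by
      intro m
      apply subset_antisymm
      · refine closure_minimal ?_ isClosed_closure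
        rintro _ ⟨a, ha, rfl⟩
        show ∑ i, x i • a i ∈ V (n + m)
        refine Submodule.sum_mem _ fun i _ => ?_
        have h1 : x i ∈ I ^ n := hx ▸ Submodule.subset_span ⟨i, rfl⟩
        refine map_mem_closure (continuous_const_smul (x i)) ((hU m a).mp ha i) ?_
        rintro _ ⟨y, hy, rfl⟩
        refine ⟨x i • y, ?_, map_smul L (x i) y⟩
        rw [SetLike.mem_coe, pow_add, mul_smul]
        exact Submodule.smul_mem_smul h1 hy
      · refine closure_mono ?_
        rintro _ ⟨y, hy, rfl⟩
        rw [SetLike.mem_coe, pow_add, mul_smul] at hy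
        refine Submodule.smul_induction_on hy (fun b hb c hc => ?_) (fun p q hp hq => ?_)
        · rw [← hx, Submodule.mem_span_range_iff_exists_fun] at hb
          obtain ⟨d, rfl⟩ := hb
          refine ⟨fun i => d i • L c, (hU m _).mpr fun i =>
            Submodule.smul_mem _ _ (subset_closure ⟨c, hc, rfl⟩), ?_⟩
          show ∑ i, x i • d i • L c = _
          rw [map_smul, Finset.sum_smul]
          exact Finset.sum_congr rfl fun i _ => by rw [smul_smul, smul_eq_mul, mul_comm]
        · obtain ⟨a, ha, ha'⟩ := hp
          obtain ⟨b, hb, hb'⟩ := hq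
          exact ⟨a + b, add_mem ha hb, by rw [map_add, ha', hb', map_add]⟩
    have hmain := LinTopLib.image_eq_closure f hf U
      (fun m k h a ha => (hU m a).mpr fun i => hVanti h ((hU k a).mp ha i)) hUopen
      (fun W hW => ?_) (fun m => by rw [himage]; exact hVopen _)
      (fun W hW => (hVbasis W hW).imp fun m hm => by
        rw [himage]; exact subset_trans (hVanti (Nat.le_add_left m n)) hm) 0
    · have h0 : z ∈ f '' (U 0 : Set (Fin r → UniformSpace.Completion M)) := by
        rw [hmain, himage]; exact hz
      obtain ⟨a, ha, rfl⟩ := h0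
      show ∑ i, x i • a i ∈ I ^ n • V 0
      exact Submodule.sum_mem _ fun i _ =>
        Submodule.smul_mem_smul (hx ▸ Submodule.subset_span ⟨i, rfl⟩) ((hU 0 a).mp ha i)
    · rw [nhds_pi, Filter.mem_pi] at hW
      obtain ⟨S, hS, t, ht, htW⟩ := hW
      choose m hm using fun i : Fin r => hVbasis _ (ht i)
      exact ⟨Finset.univ.sup m, fun a ha => htW fun i _ => hm i
        (hVanti (Finset.le_sup (Finset.mem_univ i)) ((hU _ a).mp ha i))⟩
  refine ⟨⟨V 0, fun n => by rw [heq]; exact hVopen n,
    fun U hU => (hVbasis U hU).imp fun n hn => by rw [heq]; exact hn⟩, fun n _ => ⟨?_, ?_⟩⟩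
  · have hVT : V n ≤ I ^ n • (⊤ : Submodule R (UniformSpace.Completion M)) :=
      heq n ▸ Submodule.smul_mono le_rfl le_top
    intro y
    obtain ⟨y, rfl⟩ := QuotientAddGroup.mk'_surjective _ y
    obtain ⟨m, hm⟩ := UniformSpace.Completion.denseRange_coe.exists_mem_open
      ((hVopen n).preimage (continuous_const_add (-y)))
      ⟨y, show -y + y ∈ V n by rw [neg_add_cancel]; exact zero_mem _⟩
    refine ⟨m, ?_⟩
    refine ((QuotientAddGroup.mk'_eq_mk' _).mpr ⟨_, hVT hm, ?_⟩).symm
    exact add_neg_cancel_left y (m : UniformSpace.Completion M)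
  · ext m
    rw [AddMonoidHom.mem_ker, AddMonoidHom.comp_apply, ← AddMonoidHom.mem_ker, QuotientAddGroup.ker_mk']
    have hN : IsOpen ((I ^ n • ⊤ : Submodule R M).toAddSubgroup : Set M) :=
      AddSubgroup.isOpen_mono (H₁ := (I ^ n • M' : Submodule R M).toAddSubgroup)
        (fun x hx => Submodule.smul_mono le_rfl le_top hx) (hopen n)
    constructor
    · intro hm
      rw [← LinTopLib.coe_mem_complSubgroup_iff hN]
      have h : I ^ n • (⊤ : Submodule R (UniformSpace.Completion M)) ≤
          ((I ^ n • ⊤ : Submodule R M).map L).topologicalClosure :=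
        Submodule.smul_le.mpr fun c hc x _ => by
          refine map_mem_closure (continuous_const_smul c) (UniformSpace.Completion.denseRange_coe x) ?_
          rintro _ ⟨y, rfl⟩
          exact ⟨c • y, Submodule.smul_mem_smul hc Submodule.mem_top, map_smul L c y⟩
      exact h hm
    · intro hm
      have h : (I ^ n • ⊤ : Submodule R M).map L ≤ I ^ n • ⊤ := by
        rw [Submodule.map_smul'']
        exact Submodule.smul_mono le_rfl le_top
      exact h ⟨m, hm, rfl⟩

end Groth.Agent.S10173
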