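import Groth.Statements.S10181
import Groth.Agent.AlgSpLib.Sep

set_option autoImplicit false
universe u
open CategoryTheory CategoryTheory.Limits AlgebraicGeometry Topology TopologicalSpace
open AlgSp

namespace Groth.Agent.S10181

/-- Let X be an algebraic space over a scheme S and a : h_U ⟶ X a representable etale map from a scheme
U over S whose underlying scheme is separated. Then a is (representable and) separated, and the
scheme R = U ×_X U representing the fibre product h_U ×_X h_U is separated. -/
theorem result {S : Scheme.{u}} (X : AlgSp.Space S) {U : Over S}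
    (a : (AlgSp.yon S).obj U ⟶ X.obj) (ha : AlgSp.RepWith @Etale a) [U.left.IsSeparated] :
    AlgSp.RepWith @IsSeparated a ∧
      ∀ (R : Over S) (s t : R ⟶ U), IsPullback ((AlgSp.yon S).map t) ((AlgSp.yon S).map s) a a →
        R.left.IsSeparated := by
  have hsep : AlgSp.RepWith @IsSeparated a := by
    refine ⟨ha.rep, fun T W g fst snd sq => ?_⟩
    obtain ⟨p, rfl⟩ := (AlgSp.yon S).map_surjective fst
    haveI : Mono (prod.lift p snd) := ⟨fun x y e => by
      have h1 := congrArg (· ≫ Limits.prod.fst) e
      have h2 := congrArg (· ≫ Limits.prod.snd) e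
      simp only [Category.assoc, Limits.prod.lift_fst, Limits.prod.lift_snd] at h1 h2
      refine (AlgSp.yon S).map_injective (sq.hom_ext ?_ ?_)
      · rw [← Functor.map_comp, ← Functor.map_comp, h1]
      · rw [← Functor.map_comp, ← Functor.map_comp, h2]⟩
    haveI : Mono (prod.lift p snd).left := inferInstanceAs (Mono ((Over.forget S).map (prod.lift p snd)))
    haveI hU : IsSeparated U.hom := by
      haveI : IsSeparated (U.hom ≫ terminal.from S) := by
        rw [terminal.comp_from]; exact (Scheme.isSeparated_iff _).1 inferInstance
      exact IsSeparated.of_comp U.hom (terminal.from S)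
    haveI : IsSeparated (Limits.prod.snd : U ⨯ T ⟶ T).left := by
      rw [← Over.prodLeftIsoPullback_hom_snd]; infer_instance
    change IsSeparated snd.left
    have e : (prod.lift p snd).left ≫ (Limits.prod.snd : U ⨯ T ⟶ T).left = snd.left := by
      rw [← Over.comp_left, Limits.prod.lift_snd]
    rw [← e]
    infer_instance
  refine ⟨hsep, fun R s t sq => ?_⟩
  haveI : IsSeparated s.left :=
    (AlgSp.repWith_yon_map_iff (P := (@IsSeparated : MorphismProperty Scheme.{u})) s).1
      (AlgSpLib.repWith_of_isPullback sq hsep)
  haveI : IsSeparated (terminal.from U.left) := (Scheme.isSeparated_iff _).1 inferInstance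
  rw [Scheme.isSeparated_iff, ← terminal.comp_from s.left]
  infer_instance

end Groth.Agent.S10181
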