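import Groth.Statements.S10182
import Groth.Agent.AlgSpLib.Bootstrap
import Groth.Agent.AlgSpLib.SepCrit

set_option autoImplicit false
universe u
open CategoryTheory CategoryTheory.Limits AlgebraicGeometry Topology TopologicalSpace
open AlgSp

namespace Groth.Agent.S10182

instance descendsAlong_quasiCompact : MorphismProperty.DescendsAlong (@QuasiCompact : MorphismProperty Scheme.{u})
    (@Surjective ⊓ @Flat ⊓ @LocallyOfFinitePresentation) where
  of_isPullback {A X Y Z} fst snd f g sq hf h := by
    obtain ⟨⟨h1, h2⟩, h3⟩ := hf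
    haveI : Surjective f := h1
    haveI : Flat f := h2
    haveI : LocallyOfFinitePresentation f := h3
    haveI : QuasiCompact fst := h
    refine ⟨fun U hU hUc => ?_⟩
    choose K hK using fun x : {x : ↥X // f x ∈ U} => TopologicalSpace.Opens.isBasis_iff_nbhd.mp X.isBasis_affineOpens
      (show x.1 ∈ (⟨f ⁻¹' U, hU.preimage f.continuous⟩ : X.Opens) from x.2)
    obtain ⟨t, ht⟩ := hUc.elim_finite_subcover (fun x => f '' (K x : Set ↥X))
      (fun x => f.isOpenMap _ (K x).2) (fun y hy => by
        obtain ⟨x, rfl⟩ := f.surjective y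
        exact Set.mem_iUnion.2 ⟨⟨x, hy⟩, x, (hK _).2.1, rfl⟩)
    have hc : IsCompact (fst ⁻¹' ⋃ x ∈ t, (K x : Set ↥X)) :=
      QuasiCompact.isCompact_preimage (f := fst) _ (isOpen_biUnion fun x _ => (K x).2)
        (t.isCompact_biUnion fun x _ => (hK x).1.isCompact)
    convert hc.image snd.continuous using 1
    ext y
    constructor
    · intro hy
      obtain ⟨x₀, hx₀, x, hx, e⟩ := Set.mem_iUnion₂.1 (ht hy)
      obtain ⟨z, hz₁, hz₂⟩ := Scheme.Pullback.exists_preimage_pullback x y (f := f) (g := g) e
      refine ⟨sq.isoPullback.inv z, ?_, ?_⟩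
      · rw [Set.mem_preimage, ← Scheme.Hom.comp_apply, sq.isoPullback_inv_fst, hz₁]
        exact Set.mem_biUnion hx₀ hx
      · rw [← Scheme.Hom.comp_apply, sq.isoPullback_inv_snd, hz₂]
    · rintro ⟨a, ha, rfl⟩
      obtain ⟨x₀, -, hx⟩ := Set.mem_iUnion₂.1 ha
      change g (snd a) ∈ U
      rw [← Scheme.Hom.comp_apply, ← sq.w, Scheme.Hom.comp_apply]
      exact (hK x₀).2.2 hx

/-- Let X be an algebraic space over a scheme S, U a scheme over S whose underlying scheme is
quasi-separated, p : h_U ⟶ X representable etale and surjective, and R a scheme over S with h_R =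
h_U ×_X h_U. If one of the two projections R ⟶ U is quasi-compact, then X is quasi-separated over S.
(The published statement concludes absolute quasi-separatedness, i.e. over the integers; this row
concludes quasi-separatedness of the diagonal over S, which the same argument gives and which the
absolute notion implies.) -/
theorem result {S : Scheme.{u}} (X : AlgSp.Space S) {R U : Over S}
    (p : (AlgSp.yon S).obj U ⟶ X.obj) (hp : AlgSp.RepWith @Etale p) (hs : AlgSp.RepWith @Surjective p)
    [QuasiSeparatedSpace ↥U.left] (s t : R ⟶ U)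
    (hR : IsPullback ((AlgSp.yon S).map t) ((AlgSp.yon S).map s) p p) [QuasiCompact t.left] :
    AlgSp.IsQuasiSeparatedSp X.obj := by
  haveI : Sheaf.IsLocallySurjective p := AlgSpLib.isLocallySurjective_of_repWith
    (AlgSpLib.repWith_mono (fun _ _ g (_ : Etale g) => (inferInstance : Flat g)) hp)
    (AlgSpLib.repWith_mono (fun _ _ g (_ : Etale g) => (inferInstance : LocallyOfFinitePresentation g)) hp) hs
  haveI := AlgSpLib.isLocallySurjective_prodMap p p
  refine AlgSpLib.repWith_of_cover (AlgSpLib.isPullback_diag_prodMap hR) X.property.diag ?_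
  have e : prod.lift ((AlgSp.yon S).map t) ((AlgSp.yon S).map s) =
      (AlgSp.yon S).map (prod.lift t s) ≫ prodComparison (AlgSp.yon S) U U := by
    apply prod.hom_ext
    · rw [Category.assoc, prodComparison_fst, ← Functor.map_comp, prod.lift_fst, prod.lift_fst]
    · rw [Category.assoc, prodComparison_snd, ← Functor.map_comp, prod.lift_snd, prod.lift_snd]
  haveI : MorphismProperty.RespectsIso (@QuasiCompact : MorphismProperty Scheme.{u}) :=
    MorphismProperty.IsStableUnderBaseChange.respectsIso
  rw [e, MorphismProperty.cancel_right_of_respectsIso (RepWith @QuasiCompact), repWith_yon_map_iff]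
  haveI : QuasiCompact ((prod.lift t s).left ≫ (prod.fst : U ⨯ U ⟶ U).left) := by
    rw [← Over.comp_left, prod.lift_fst]; infer_instance
  haveI : QuasiSeparated U.hom := inferInstance
  haveI : QuasiSeparated (prod.fst : U ⨯ U ⟶ U).left := by
    rw [show (prod.fst : U ⨯ U ⟶ U).left = (Over.prodLeftIsoPullback U U).hom ≫ pullback.fst U.hom U.hom from
      (Over.prodLeftIsoPullback_hom_fst U U).symm]
    infer_instance
  exact QuasiCompact.of_comp (prod.lift t s).left (prod.fst : U ⨯ U ⟶ U).left

end Groth.Agent.S10182
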