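import Groth.Statements.S10185
import Groth.Agent.AlgSpLib.SepCrit

set_option autoImplicit false
universe u
open CategoryTheory CategoryTheory.Limits AlgebraicGeometry Topology TopologicalSpace
open AlgSp

namespace Groth.Agent.S10185

/-- Let S be a quasi-separated scheme and X an algebraic space over S whose diagonal over S is
quasi-compact. Then for all quasi-compact schemes U, V over S mapping to X, every scheme P over S
representing the fibre product h_U ×_X h_V is quasi-compact. (The published statement uses absolute
quasi-separatedness of X; over a quasi-separated base this is the same as quasi-separatedness over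
S, and without a hypothesis on S the relative notion does not suffice: take X = h_S for S
quasi-compact and not quasi-separated.) -/
theorem result {S : Scheme.{u}} [QuasiSeparatedSpace ↥S]
    (X : AlgSp.Space S) (hX : AlgSp.IsQuasiSeparatedSp X.obj) (U V P : Over S) (a : (AlgSp.yon S).obj U ⟶ X.obj) (b : (AlgSp.yon S).obj V ⟶ X.obj)
      (fst : P ⟶ U) (snd : P ⟶ V)
    [CompactSpace ↥U.left] [CompactSpace ↥V.left]
    (h : IsPullback ((AlgSp.yon S).map fst) ((AlgSp.yon S).map snd) a b) :
    CompactSpace ↥P.left := by
  have hl := AlgSpLib.left_lift_of_isPullback (P := @QuasiCompact) hX h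
  have : QuasiCompact (pullback.lift fst.left snd.left ((Over.w fst).trans (Over.w snd).symm)) := hl
  have : QuasiCompact U.hom := quasiCompact_of_compactSpace U.hom
  have : QuasiCompact V.hom := quasiCompact_of_compactSpace V.hom
  have : CompactSpace ↥(pullback U.hom V.hom) :=
    QuasiCompact.compactSpace_of_compactSpace (pullback.snd U.hom V.hom)
  exact QuasiCompact.compactSpace_of_compactSpace
    (pullback.lift fst.left snd.left ((Over.w fst).trans (Over.w snd).symm))

end Groth.Agent.S10185
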