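import Groth.Statements.S10186
import Groth.Agent.AlgSpLib.SepCrit

set_option autoImplicit false
universe u
open CategoryTheory CategoryTheory.Limits AlgebraicGeometry Topology TopologicalSpace
open AlgSp

namespace Groth.Agent.S10186

/-- Let X be an algebraic space over a scheme S such that for all affine schemes U, V over S mapping to
X and every scheme P over S representing h_U ×_X h_V, the scheme P is affine and the ring map from
the tensor product over the integers of the global sections of U and V to the global sections of P,
induced by the two projections, is surjective. Then X is separated over S. (The published statement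
concerns absolute separatedness, over the integers, which this hypothesis also gives and which
implies separatedness over S.) -/
theorem result {S : Scheme.{u}} (X : AlgSp.Space S)
    (h : ∀ (U V P : Over S) (a : (AlgSp.yon S).obj U ⟶ X.obj) (b : (AlgSp.yon S).obj V ⟶ X.obj)
      (fst : P ⟶ U) (snd : P ⟶ V),
      IsAffine U.left → IsAffine V.left →
      IsPullback ((AlgSp.yon S).map fst) ((AlgSp.yon S).map snd) a b →
        IsAffine P.left ∧ Function.Surjective
          (Algebra.TensorProduct.productMap fst.left.appTop.hom.toIntAlgHom snd.left.appTop.hom.toIntAlgHom)) :
    AlgSp.IsSeparatedSp X.obj := by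
  refine AlgSpLib.repWith_diag_of_affine X.property fun Z W Pz snd l p q a b hZ sqP hlp hlq hl => ?_
  obtain ⟨hP, hsurj⟩ := h Z Z Pz a b p q hZ hZ sqP
  have : IsClosedImmersion l.left := hl
  have : IsAffine Z.left := hZ
  have hl₂ : IsClosedImmersion (pullback.lift p.left q.left ((Over.w p).trans (Over.w q).symm)) :=
    (AlgSpLib.productMap_surjective_aux p q).1 hsurj
  have e : snd.left ≫ pullback.diagonal Z.hom =
      l.left ≫ pullback.lift p.left q.left ((Over.w p).trans (Over.w q).symm) := by
    apply pullback.hom_ext
    · rw [Category.assoc, pullback.diagonal_fst, Category.comp_id, Category.assoc, pullback.lift_fst,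
        ← Over.comp_left, hlp]
    · rw [Category.assoc, pullback.diagonal_snd, Category.comp_id, Category.assoc, pullback.lift_snd,
        ← Over.comp_left, hlq]
  have : IsClosedImmersion (snd.left ≫ pullback.diagonal Z.hom) := by rw [e]; infer_instance
  exact IsClosedImmersion.of_comp snd.left (pullback.diagonal Z.hom)

end Groth.Agent.S10186
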