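import Groth.Statements.S10187
import Groth.Agent.AlgSpLib.SepCrit

set_option autoImplicit false
universe u
open CategoryTheory CategoryTheory.Limits AlgebraicGeometry Topology TopologicalSpace
open AlgSp

namespace Groth.Agent.S10187

/-- Let S be a separated scheme and X an algebraic space over S whose diagonal over S is a closed
immersion. Then for all affine schemes U, V over S mapping to X and every scheme P over S
representing h_U ×_X h_V, the scheme P is affine and the ring map from the tensor product over the
integers of the global sections of U and V to the global sections of P, induced by the projections,
is surjective. (The published statement uses absolute separatedness of X; over a separated base this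
agrees with separatedness over S, and without a hypothesis on S the relative notion does not
suffice: take X = h_S for an affine line with doubled origin S and U, V the two copies of the line.) -/
theorem result {S : Scheme.{u}} [S.IsSeparated]
    (X : AlgSp.Space S) (hX : AlgSp.IsSeparatedSp X.obj) (U V P : Over S) (a : (AlgSp.yon S).obj U ⟶ X.obj) (b : (AlgSp.yon S).obj V ⟶ X.obj)
      (fst : P ⟶ U) (snd : P ⟶ V)
    (hU : IsAffine U.left) (hV : IsAffine V.left)
    (h : IsPullback ((AlgSp.yon S).map fst) ((AlgSp.yon S).map snd) a b) :
    IsAffine P.left ∧ Function.Surjective
          (Algebra.TensorProduct.productMap fst.left.appTop.hom.toIntAlgHom snd.left.appTop.hom.toIntAlgHom) := by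
  have hl := AlgSpLib.left_lift_of_isPullback (P := @IsClosedImmersion) hX h
  have : IsAffine U.left := hU
  have : IsAffine V.left := hV
  have : IsClosedImmersion (pullback.lift fst.left snd.left ((Over.w fst).trans (Over.w snd).symm)) := hl
  have : IsSeparated (terminal.from S) := inferInstance
  have : IsClosedImmersion (pullback.mapDesc U.hom V.hom (terminal.from S)) := inferInstance
  have hP : IsAffine P.left := isAffine_of_isAffineHom
    (pullback.lift fst.left snd.left ((Over.w fst).trans (Over.w snd).symm) ≫
      pullback.mapDesc U.hom V.hom (terminal.from S))
  exact ⟨hP, (AlgSpLib.productMap_surjective_aux fst snd).2 inferInstance hl⟩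

end Groth.Agent.S10187
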