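import Groth.Statements.S10188
import Groth.Agent.AlgSpLib.Space

set_option autoImplicit false
universe u
open CategoryTheory CategoryTheory.Limits AlgebraicGeometry Topology TopologicalSpace
open AlgSp

namespace Groth.Agent.S10188

/-- Let P be a property of schemes that is local in the etale topology (for every scheme V and every
etale covering family of V, V has P if and only if all members have P), and let X be an algebraic
space over a scheme S. Then X has P etale locally (some surjective etale chart from a scheme with P)
if and only if every scheme admitting a representable etale map to X has P. -/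
theorem result {S : Scheme.{u}} (P : Scheme.{u} → Prop)
    (hP : ∀ (V : Scheme.{u}) (𝒰 : Scheme.Cover.{u} (Scheme.precoverage @Etale) V), P V ↔ ∀ i, P (𝒰.X i))
    (X : AlgSp.Space S) :
    AlgSp.EtaleLocally P X.obj ↔
      ∀ (U : Over S) (a : (AlgSp.yon S).obj U ⟶ X.obj), AlgSp.RepWith @Etale a → P U.left := by
  constructor
  · rintro ⟨U₀, p, hp, hps, h₀⟩ U a ha
    obtain ⟨W, q, r, sq⟩ := AlgSpLib.exists_isPullback_yon p a hp.rep
    have := AlgSpLib.etale_left (AlgSpLib.repWith_of_isPullback sq hp)
    have := AlgSpLib.surjective_left (AlgSpLib.repWith_of_isPullback sq hps)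
    have := AlgSpLib.etale_left (AlgSpLib.repWith_of_isPullback sq.flip ha)
    have hW : P W.left :=
      (hP _ ⟨⟨Option PUnit.{u + 1}, fun o => o.elim U₀.left fun _ => W.left,
          fun | none => 𝟙 _ | some _ => q.left⟩,
        (Scheme.ofArrows_mem_precoverage_iff _).2
          ⟨fun x => ⟨none, x, rfl⟩, fun | none => inferInstanceAs (Etale (𝟙 _)) | some _ => ‹Etale q.left›⟩⟩).1 h₀ (some ⟨⟩)
    exact (hP _ ⟨⟨PUnit.{u + 1}, fun _ => W.left, fun _ => r.left⟩,
      (Scheme.ofArrows_mem_precoverage_iff _).2
        ⟨fun x => ⟨⟨⟩, r.left.surjective x⟩, fun _ => ‹Etale r.left›⟩⟩).2 fun _ => hW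
  · intro h
    obtain ⟨U₀, p, hp, hps⟩ := X.property.atlas
    exact ⟨U₀, p, hp, hps, h U₀ p hp⟩

end Groth.Agent.S10188
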