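import Groth.Statements.S1019
import Groth.Agent.PCExtLib.Perfect

set_option autoImplicit false
set_option backward.isDefEq.respectTransparency false
set_option backward.isDefEq.respectTransparency.types false
universe u
open CategoryTheory CategoryTheory.Limits AlgebraicGeometry
attribute [local instance] HasDerivedCategory.standard
open Perf

namespace Groth.Agent.S1019

/-- Let X be an affine scheme, U a quasi-compact open subscheme and E a perfect object of D(O_U). There
are an integer r and a finite locally free O_U-module F such that F[-r] ⊕ E extends to a perfect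
complex on X (restriction being computed on a representing complex, termwise), granted the binary
direct sum exists in D(O_U) (it does). -/
theorem result (X : Scheme.{u}) [IsAffine X] (U : X.Opens) (hU : IsCompact (U : Set X))
    (E : DCoh.D (U : Scheme.{u})) (hE : DCoh.IsPerfect E)
    [∀ (A B : DCoh.D (U : Scheme.{u})), HasBinaryBiproduct A B] :
    ∃ (r : ℤ) (F : (U : Scheme.{u}).Modules) (G : CochainComplex X.Modules ℤ), FlatMod.IsFinLocFree F ∧ DCoh.IsPerfect (DCoh.toD X G) ∧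
      Nonempty (DerivedCategory.Q.obj ((DCoh.restrictCx U).obj G) ≅ (DCoh.inD (U : Scheme.{u}) F)⟦-r⟧ ⊞ E) := by
  obtain ⟨E₀, b, hb, hf, ⟨eE⟩⟩ := PCExtLib.exists_finFree_model U hU E (RelFlatLib.isPC_of_isPerfect hE)
  obtain ⟨a, ha⟩ := PCExtLib.exists_cone_bundle U hU E₀ hb hf (PerfLib.isPerfect_of_iso eE.symm hE)
  obtain ⟨M₀, hM₀⟩ := KoszOrthLib.exists_hom_eq_zero_open U hU hE
  obtain ⟨n, hn₁, hn₂⟩ : ∃ n : ℤ, n ≤ a ∧ n - 1 ≤ M₀ := ⟨min a M₀, min_le_left _ _, by omega⟩
  obtain ⟨hF, hz⟩ := ha n hn₁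
  let T := (KoszOrthLib.tX X ⋙ DCoh.restrictD U.ι).mapTriangle.obj
    (Pretriangulated.Triangle.mk (DerivedCategory.Q.map (PerfLib.Brutal.ι E₀ n))
      (DerivedCategory.Q.map (CochainComplex.mappingCone.inr (PerfLib.Brutal.ι E₀ n)))
      (DerivedCategory.Q.map (CochainComplex.mappingCone.triangle (PerfLib.Brutal.ι E₀ n)).mor₃ ≫
        ((DerivedCategory.Q.commShiftIso (1 : ℤ)).hom.app (PerfLib.Brutal.trunc E₀ n))))
  have hT : T ∈ Pretriangulated.distinguishedTriangles :=
    (KoszOrthLib.tX X ⋙ DCoh.restrictD U.ι).map_distinguished _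
      (DerivedCategory.mappingCone_triangle_distinguished (PerfLib.Brutal.ι E₀ n))
  haveI : T.obj₃.IsGE (n - 1) := (DerivedCategory.isGE_iff _ _).2 fun i hi => hz i (by omega)
  haveI : T.obj₃.IsLE (n - 1) := (DerivedCategory.isLE_iff _ _).2 fun i hi => hz i (by omega)
  obtain ⟨F, ⟨eY⟩⟩ := DerivedCategory.exists_iso_singleFunctor_obj_of_isGE_of_isLE T.obj₃ (n - 1)
  have h₂ : T.mor₂ = 0 := by
    rw [← cancel_epi eE.inv, comp_zero]
    exact hM₀ T.obj₃ (KoszOrthLib.isQCohD_restrictD _ (KoszOrthLib.isQCohD_tX _))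
      ((DerivedCategory.isLE_iff _ _).2 fun i hi => hz i (by omega)) _
  obtain ⟨e, -, -⟩ := Pretriangulated.exists_iso_binaryBiproduct_of_distTriang T.invRotate
    (Pretriangulated.inv_rot_of_distTriang _ hT) (by
      change T.mor₂ ≫ _ = 0
      rw [h₂, zero_comp])
  let S := DerivedCategory.singleFunctors (U : Scheme.{u}).Modules
  let eL : (T.obj₃)⟦(-1 : ℤ)⟧ ≅ (DCoh.inD (U : Scheme.{u}) F)⟦-n⟧ :=
    (shiftFunctor _ (-1 : ℤ)).mapIso eY ≪≫ (S.shiftIso (-1) n (n - 1) (by omega)).app F ≪≫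
      ((S.shiftIso (-n) n 0 (by omega)).app F).symm
  refine ⟨n, F, PCExtLib.cX.obj (PerfLib.Brutal.trunc E₀ n), ?_, ?_, ⟨?_⟩⟩
  · exact PerfLib.isFinLocFree_of_iso
      ((DerivedCategory.homologyFunctor (U : Scheme.{u}).Modules (n - 1)).mapIso eY ≪≫
        (DerivedCategory.singleFunctorCompHomologyFunctorIso (U : Scheme.{u}).Modules (n - 1)).app F) hF
  · exact PerfLib.isPerfect_of_iso (PCExtLib.tXQIso _)
      (KoszOrthLib.isPerfect_tX (PCExtLib.isPerfect_of_isBddFree (PCExtLib.isBddFree_trunc hb hf n)))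
  · exact ((Scheme.Modules.restrictFunctor U.ι).mapDerivedCategoryFactors.app _).symm ≪≫
      (DCoh.restrictD U.ι).mapIso (PCExtLib.tXQIso _).symm ≪≫ e ≪≫ biprod.mapIso eL eE

end Groth.Agent.S1019
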