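import Groth.Statements.S10190
import Groth.Agent.AlgSpLib.Points

set_option autoImplicit false
universe u
open CategoryTheory CategoryTheory.Limits AlgebraicGeometry Topology TopologicalSpace
open AlgSp

namespace Groth.Agent.S10190

/-- For an algebraic space X over a scheme S, the set of codimension 0 points of X (points x of |X| such
that, for some representable etale h_U ⟶ X from a scheme U and some point u of U mapping to x, the
local ring of U at u has dimension 0) is dense in |X|. -/
theorem result {S : Scheme.{u}} (X : AlgSp.Space S) :
    Dense {x : AlgSp.Points X.obj |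
      AlgSp.HasAt (fun U u => ringKrullDim ↥(U.presheaf.stalk u) = 0) X.obj x} := by
  refine dense_iff_inter_open.2 fun O hO hne => ?_
  obtain ⟨U, a, ha, has⟩ := X.property.atlas
  obtain ⟨x, hx⟩ := hne
  obtain ⟨u, rfl⟩ := AlgSpLib.surjective_ofPt has x
  obtain ⟨η, hη⟩ := QuasiSober.sober (isIrreducible_irreducibleComponent (x := u)) isClosed_irreducibleComponent
  have hsp : η ⤳ u := hη.specializes mem_irreducibleComponent
  refine ⟨Points.ofPt a η, hsp.mem_open (hO.preimage (Points.continuous_ofPt a)) hx, U, a, η, ha, rfl, ?_⟩
  have hmax : IsMax η := fun y hy => by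
    have hyη : y ⤳ η := hy
    have h1 : irreducibleComponent u = closure {y} := by
      refine (eq_irreducibleComponent isIrreducible_singleton.isPreirreducible.closure ?_).symm
      rw [← hη.def]
      exact hyη.closure_subset
    have h2 : η ⤳ y := hη.specializes (h1 ▸ subset_closure rfl)
    exact h2
  change ringKrullDim (U.left.presheaf.stalk η) = 0
  rw [ringKrullDim_stalk_eq_coheight, Order.coheight_eq_zero.2 hmax]
  rfl

end Groth.Agent.S10190
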