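import Groth.Statements.S10191
import Groth.Agent.AlgSpLib.Points
import Groth.Agent.AlgSpLib.Coprod
import Mathlib.Topology.LocallyClosed

set_option autoImplicit false
universe u
open CategoryTheory CategoryTheory.Limits AlgebraicGeometry Topology TopologicalSpace
open AlgSp

namespace Groth.Agent.S10191

/-- Let i : Z ⟶ X be an immersion of algebraic spaces over a scheme S (a morphism representable by
immersions of schemes). Then |i| : |Z| → |X| is a homeomorphism onto its image, and this image is a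
locally closed subset of |X|. -/
theorem result {S : Scheme.{u}} {Z X : AlgSp.Space S} (i : Z ⟶ X)
    (hi : AlgSp.RepWith @IsImmersion i.hom) :
    IsEmbedding (AlgSp.Points.map i.hom) ∧ IsLocallyClosed (Set.range (AlgSp.Points.map i.hom)) := by
  obtain ⟨U, a, ha, has⟩ := X.property.atlas
  obtain ⟨W, p, q, sq⟩ : ∃ (W : Over S) (q : (AlgSp.yon S).obj W ⟶ Z.obj) (r : W ⟶ U),
      IsPullback q ((AlgSp.yon S).map r) i.hom a :=
    ⟨_, hi.rep.fst a, hi.rep.snd a, hi.rep.isPullback a⟩
  have : IsImmersion q.left := hi.property _ _ _ sq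
  have hps : Function.Surjective (Points.ofPt p) :=
    AlgSpLib.surjective_ofPt (AlgSpLib.repWith_of_isPullback sq.flip has)
  have hcomm : ∀ w, Points.map i.hom (Points.ofPt p w) = Points.ofPt a (q.left w) := fun w => by
    rw [Points.map_ofPt, sq.w, AlgSpLib.ofPt_yon_comp]
  have hlift : ∀ (z : Points Z.obj) (u : ↥U.left), Points.map i.hom z = Points.ofPt a u →
      ∃ w, Points.ofPt p w = z ∧ q.left w = u := by
    intro z u h
    rw [AlgSpLib.ofPt_comp_ofScheme] at h
    obtain ⟨w, h1, h2⟩ := AlgSpLib.exists_point_isPullback sq z _ h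
    obtain ⟨w, rfl⟩ := (Points.schemeHomeo W).surjective w
    rw [Points.map_yon_map_apply] at h2
    refine ⟨w, ?_, (Points.schemeHomeo U).injective h2⟩
    rw [AlgSpLib.ofPt_comp_ofScheme]
    exact h1
  have hq : Topology.IsEmbedding q.left := q.left.isEmbedding
  refine ⟨⟨⟨le_antisymm (continuous_iff_le_induced.1 (Points.continuous_map i.hom)) fun O hO => ?_⟩, ?_⟩, ?_⟩
  · obtain ⟨O', hO', hOO⟩ := hq.isInducing.isOpen_iff.1 (hO.preimage (Points.continuous_ofPt p))
    refine ⟨Points.ofPt a '' O', AlgSpLib.isOpenMap_ofPt ha _ hO', ?_⟩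
    ext z
    constructor
    · rintro ⟨u, hu, e⟩
      obtain ⟨w, rfl, rfl⟩ := hlift z u e.symm
      exact (Set.ext_iff.1 hOO w).1 hu
    · intro hz
      obtain ⟨w, rfl⟩ := hps z
      exact ⟨q.left w, (Set.ext_iff.1 hOO w).2 hz, (hcomm w).symm⟩
  · intro z z' h
    obtain ⟨w, rfl⟩ := hps z
    obtain ⟨w', h1, h2⟩ := hlift z' (q.left w) (h.symm.trans (hcomm w))
    rw [← h1, hq.injective h2]
  · have hpre : Points.ofPt a ⁻¹' Set.range (Points.map i.hom) = Set.range q.left := by
      ext u
      constructor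
      · rintro ⟨z, hz⟩
        obtain ⟨w, -, hw⟩ := hlift z u hz
        exact ⟨w, hw⟩
      · rintro ⟨w, rfl⟩
        exact ⟨_, hcomm w⟩
    have h1 : IsLocallyClosed (Points.ofPt a ⁻¹' Set.range (Points.map i.hom)) := by
      rw [hpre]; exact q.left.isLocallyClosed_range
    rw [isLocallyClosed_iff_isOpen_coborder] at h1 ⊢
    rw [coborder_preimage (AlgSpLib.isOpenMap_ofPt ha) (Points.continuous_ofPt a)] at h1
    exact (AlgSpLib.isQuotientMap_ofPt ha has).isOpen_preimage.1 h1

end Groth.Agent.S10191
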