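import Groth.Statements.S10197
import Groth.Agent.AlgSpLib.OpenGlue
import Groth.Agent.AlgSpLib.Points

set_option autoImplicit false
universe u
open CategoryTheory CategoryTheory.Limits AlgebraicGeometry Topology TopologicalSpace
open AlgSp

namespace Groth.Agent.S10197

/-- An algebraic space X over a scheme S has a largest open subspace which is a scheme: there is an open
subspace X' ⟶ X whose underlying sheaf is representable by a scheme over S, through which every open
subspace of X with representable underlying sheaf factors. -/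
theorem result {S : Scheme.{u}} (X : AlgSp.Space S) :
    ∃ (X' : AlgSp.Space S) (j : X' ⟶ X), AlgSp.RepWith @IsOpenImmersion j.hom ∧ X'.obj.obj.IsRepresentable ∧
      ∀ (X'' : AlgSp.Space S) (j'' : X'' ⟶ X), AlgSp.RepWith @IsOpenImmersion j''.hom →
        X''.obj.obj.IsRepresentable → ∃ k : X'' ⟶ X', k ≫ j = j'' := by
  classical
  obtain ⟨U, a, ha, has⟩ := X.property.atlas
  let W : Set (Points X.obj) := ⋃ (X'' : AlgSp.Space S) (j'' : X'' ⟶ X) (_ : RepWith @IsOpenImmersion j''.hom)
    (_ : X''.obj.obj.IsRepresentable), Set.range (Points.map j''.hom)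
  have hW : IsOpen W := isOpen_iUnion fun X'' => isOpen_iUnion fun j'' => isOpen_iUnion fun hj => isOpen_iUnion fun _ => by
    have := AlgSpLib.isOpenMap_map_of_isEtaleMor X''.property (AlgSpLib.isEtaleMor_of_openImmersion hj)
    exact this.isOpen_range
  let X' : AlgSp.Space S := ⟨AlgSpLib.openSub X.obj W, AlgSpLib.isAlgSpace_openSub X.property hW⟩
  let j : X' ⟶ X := ObjectProperty.homMk (AlgSpLib.openSubι X.obj W)
  have hj : RepWith @IsOpenImmersion j.hom := AlgSpLib.repWith_openSubι X.obj hW
  have hjr : Set.range (Points.map j.hom) = W := AlgSpLib.range_openSubι X.obj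
  refine ⟨X', j, hj, ?_, fun X'' j'' hj'' hr => ?_⟩
  · have key : ∀ u : {u : ↥U.left // Points.ofPt a u ∈ W}, ∃ (V : Over S) (f : (AlgSp.yon S).obj V ⟶ X'.obj),
        RepWith @IsOpenImmersion f ∧ Points.ofPt a u.1 ∈ Set.range (Points.map (f ≫ j.hom)) := by
      rintro ⟨u, hu⟩
      simp only [W, Set.mem_iUnion] at hu
      obtain ⟨X'', j'', hj'', hr, hu⟩ := hu
      obtain ⟨V, ⟨e⟩⟩ := hr.has_representation
      let i := AlgSp.isoOfRepresentableBy e
      have hi : RepWith @IsOpenImmersion (i.hom ≫ j''.hom) :=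
        (RepWith (S := S) @IsOpenImmersion).comp_mem _ _
          (AlgSpLib.repWith_of_isIso (P := @IsOpenImmersion) _) hj''
      have hsub : Set.range (Points.map (i.hom ≫ j''.hom)) ⊆ Set.range (Points.map j.hom) := by
        rw [hjr]
        rintro _ ⟨y, rfl⟩
        simp only [W, Set.mem_iUnion]
        exact ⟨X'', j'', hj'', hr, Points.map i.hom y, (Points.map_comp _ _ y).symm⟩
      obtain ⟨f, hf⟩ := (AlgSpLib.exists_factor_iff hj _).2 hsub
      have := AlgSpLib.mono_of_openImmersion hj
      refine ⟨V, f, ?_, ?_⟩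
      · have sqf : IsPullback (𝟙 _) f (f ≫ j.hom) j.hom := IsPullback.of_isLimit' ⟨Category.id_comp _⟩
          (PullbackCone.IsLimit.mk _ (fun s => s.fst) (fun s => Category.comp_id _)
            (fun s => (cancel_mono j.hom).1 ((Category.assoc _ _ _).trans s.condition))
            (fun s m h1 _ => (Category.comp_id m).symm.trans h1))
        exact AlgSpLib.repWith_of_isPullback sqf (hf ▸ hi)
      · rw [hf]
        obtain ⟨y, hy⟩ := hu
        exact ⟨Points.map i.inv y, by rw [← Points.map_comp, Iso.inv_hom_id_assoc, hy]⟩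
    choose V f hf hmem using key
    suffices h : AlgSpLib.IsRepSh X'.obj by
      obtain ⟨V₀, ⟨e⟩⟩ := h
      exact (AlgSp.representableByOfIso e).isRepresentable
    refine AlgSpLib.isRepSh_of_openCover f hf fun T b t => ?_
    obtain ⟨u, hu⟩ := AlgSpLib.surjective_ofPt has (Points.map j.hom (Points.ofPt b t))
    have huW : Points.ofPt a u ∈ W := by rw [hu, ← hjr]; exact ⟨_, rfl⟩
    refine ⟨⟨u, huW⟩, ?_⟩
    obtain ⟨y, hy⟩ := hmem ⟨u, huW⟩
    rw [hu, Points.map_comp] at hy
    have := AlgSpLib.mono_of_openImmersion hj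
    have hinj : Points.map (f ⟨u, huW⟩) y = Points.ofPt b t := by
      obtain ⟨w, h1, h2⟩ := AlgSpLib.exists_point_isPullback (IsKernelPair.id_of_mono j.hom) _ _ hy
      rw [← h1, ← h2]
    rw [AlgSpLib.ofPt_comp_ofScheme b] at hinj
    obtain ⟨w, -, h2⟩ := AlgSpLib.exists_point_isPullback ((hf ⟨u, huW⟩).rep.isPullback b) y _ hinj
    obtain ⟨w, rfl⟩ := (Points.schemeHomeo _).surjective w
    rw [Points.map_yon_map_apply] at h2
    exact ⟨w, (Points.schemeHomeo T).injective h2⟩
  · obtain ⟨k, hk⟩ := (AlgSpLib.exists_factor_iff hj j''.hom).2 (by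
      rw [hjr]
      intro y hy
      simp only [W, Set.mem_iUnion]
      exact ⟨X'', j'', hj'', hr, hy⟩)
    exact ⟨ObjectProperty.homMk k, InducedCategory.hom_ext hk⟩

end Groth.Agent.S10197
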