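import Groth.Statements.S10210
import Groth.Agent.AlgSpLib.Space

set_option autoImplicit false
universe u
open CategoryTheory CategoryTheory.Limits AlgebraicGeometry Topology TopologicalSpace
open AlgSp

namespace Groth.Agent.S10210

/-- Let X, Y, Z be algebraic spaces over a scheme S, g : X ⟶ Z and h : Y ⟶ Z etale morphisms and f : X ⟶
Y a morphism with f ≫ h = g. Then f is etale. -/
theorem result {S : Scheme.{u}} {X Y Z : AlgSp.Space S} (f : X ⟶ Y) (h : Y ⟶ Z) (g : X ⟶ Z)
    (w : f ≫ h = g) (hg : AlgSp.IsEtaleMor g.hom) (hh : AlgSp.IsEtaleMor h.hom) :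
    AlgSp.IsEtaleMor f.hom := by
  refine (AlgSpLib.isEtaleMor_iff_locP Y.property).2 fun A B a b k ha hb e => ?_
  refine AlgSpLib.etale_cancel k (b ≫ h.hom) ?_ (hh b hb)
  have hw : f.hom ≫ h.hom = g.hom := congrArg (·.hom) w
  rw [← Category.assoc, ← e, Category.assoc, hw]
  exact hg a ha

end Groth.Agent.S10210
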