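import Groth.Statements.S10213
import Groth.Agent.AlgSpLib.Qc

set_option autoImplicit false
universe u
open CategoryTheory CategoryTheory.Limits AlgebraicGeometry Topology TopologicalSpace
open AlgSp

namespace Groth.Agent.S10213

/-- For an algebraic space X over a scheme S there is a surjective etale map h_U ⟶ X where U is a
disjoint union of affine schemes, each of which maps into an affine open of S. -/
theorem result {S : Scheme.{u}} (X : AlgSp.Space S) :
    ∃ (ι : Type u) (V : ι → Scheme.{u}) (_ : ∀ i, IsAffine (V i)) (q : (∐ V) ⟶ S)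
      (p : (AlgSp.yon S).obj (Over.mk q) ⟶ X.obj),
      AlgSp.RepWith @Etale p ∧ AlgSp.RepWith @Surjective p ∧
        ∀ i, ∃ W : S.Opens, IsAffineOpen W ∧ ∀ v : ↥(V i), (Sigma.ι V i ≫ q) v ∈ W := by
  obtain ⟨U, a, ha, has⟩ := X.property.atlas
  choose W hW htW _ using fun t : U.left => exists_isAffineOpen_mem_and_subset (U := ⊤) (x := U.hom t) trivial
  choose O hO htO hOW using fun t : U.left =>
    exists_isAffineOpen_mem_and_subset (U := U.hom ⁻¹ᵁ W t) (x := t) (htW t)
  let V : ↥U.left → Scheme.{u} := fun t => (O t).toScheme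
  let k : ∐ V ⟶ U.left := Sigma.desc fun t => (O t).ι
  have : Etale k := IsZariskiLocalAtSource.sigmaDesc (P := @Etale) fun t => inferInstance
  have : Surjective k := ⟨fun x => ⟨Sigma.ι V x ⟨x, htO x⟩, by rw [← Scheme.Hom.comp_apply, Sigma.ι_desc]; rfl⟩⟩
  let j : Over.mk (k ≫ U.hom) ⟶ U := Over.homMk k rfl
  refine ⟨↥U.left, V, fun t => hO t, k ≫ U.hom, (AlgSp.yon S).map j ≫ a,
    AlgSpLib.repWith_comp ((AlgSp.repWith_yon_map_iff (P := (@Etale : MorphismProperty Scheme.{u})) j).2 ‹_›) ha,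
    AlgSpLib.repWith_comp ((AlgSp.repWith_yon_map_iff (P := (@Surjective : MorphismProperty Scheme.{u})) j).2 ‹_›) has,
    fun t => ⟨W t, hW t, fun v => ?_⟩⟩
  have e : Sigma.ι V t ≫ k ≫ U.hom = (O t).ι ≫ U.hom := by rw [← Category.assoc]; simp [k]
  rw [e]
  exact hOW t v.2

end Groth.Agent.S10213
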