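import Groth.Statements.S10214
import Groth.Agent.AlgSpLib.Qc

set_option autoImplicit false
universe u
open CategoryTheory CategoryTheory.Limits AlgebraicGeometry Topology TopologicalSpace
open AlgSp

namespace Groth.Agent.S10214

/-- Every algebraic space X over a scheme S has a Zariski covering by open subspaces X_i such that each
X_i has a surjective etale map from an affine scheme; moreover the affine schemes may be taken to
map into affine opens of S. -/
theorem result {S : Scheme.{u}} (X : AlgSp.Space S) :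
    ∃ (ι : Type u) (Xi : ι → AlgSp.Space S) (j : ∀ i, Xi i ⟶ X),
      AlgSp.IsZarCover (fun i => (Xi i).obj) (fun i => (j i).hom) ∧
        ∀ i, ∃ (U : Over S) (p : (AlgSp.yon S).obj U ⟶ (Xi i).obj), IsAffine U.left ∧
          AlgSp.RepWith @Etale p ∧ AlgSp.RepWith @Surjective p ∧
          ∃ W : S.Opens, IsAffineOpen W ∧ ∀ v : ↥U.left, U.hom v ∈ W := by
  obtain ⟨U, a, ha, has⟩ := X.property.atlas
  choose W hW htW _ using fun t : U.left => exists_isAffineOpen_mem_and_subset (U := ⊤) (x := U.hom t) trivial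
  choose O hO htO hOW using fun t : U.left =>
    exists_isAffineOpen_mem_and_subset (U := U.hom ⁻¹ᵁ W t) (x := t) (htW t)
  let V : ↥U.left → Over S := fun t => Over.mk ((O t).ι ≫ U.hom)
  let i : ∀ t, V t ⟶ U := fun t => Over.homMk (O t).ι rfl
  have hi : ∀ t, AlgSp.RepWith @Etale ((AlgSp.yon S).map (i t) ≫ a) := fun t =>
    AlgSpLib.repWith_comp ((AlgSp.repWith_yon_map_iff (P := (@Etale : MorphismProperty Scheme.{u})) (i t)).2
      (inferInstanceAs (Etale (O t).ι))) ha
  have hR := fun t => (AlgSpLib.isOpenMap_ofPt (hi t)).isOpen_range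
  refine ⟨↥U.left, fun t => ⟨AlgSpLib.openSub X.obj _, AlgSpLib.isAlgSpace_openSub X.property (hR t)⟩,
    fun t => ObjectProperty.homMk (AlgSpLib.openSubι X.obj _),
    ⟨fun t => AlgSpLib.repWith_openSubι X.obj (hR t), fun x => ?_⟩, fun t => ?_⟩
  · obtain ⟨t, rfl⟩ := AlgSpLib.surjective_ofPt has x
    refine ⟨t, ?_⟩
    change _ ∈ Set.range (AlgSp.Points.map (AlgSpLib.openSubι X.obj _))
    rw [AlgSpLib.range_openSubι]
    exact ⟨⟨t, htO t⟩, AlgSpLib.ofPt_yon_comp (i t) a _⟩
  · obtain ⟨a', -, he, hs⟩ := AlgSpLib.exists_factor_etale_surjective _ (hi t)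
      (AlgSpLib.repWith_openSubι X.obj (hR t)) (AlgSpLib.range_openSubι X.obj)
    exact ⟨V t, a', hO t, he, hs, W t, hW t, fun v => hOW t v.2⟩

end Groth.Agent.S10214
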