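import Groth.Statements.S1022
import Groth.Agent.PerfHomLib.Trunc

set_option autoImplicit false
universe u
open CategoryTheory CategoryTheory.Limits AlgebraicGeometry
attribute [local instance] HasDerivedCategory.standard
open Perf

namespace Groth.Agent.S1022

/-- Let the scheme X be quasi-compact and quasi-separated, P a perfect object of D(O_X), E ∈ D_QCoh(O_X)
and a ∈ ℤ. Then the morphisms P[-i] ⟶ E vanish for all large i if and only if the morphisms P[-i] ⟶
τ_{≥ a}E vanish for all large i. -/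
theorem result (X : Scheme.{u}) [CompactSpace ↥X] [QuasiSeparatedSpace ↥X]
    (P : DCoh.D X) (hP : DCoh.IsPerfect P) (E : DCoh.D X) (hE : DCoh.IsQCohD E) (a : ℤ) :
    (∃ N : ℤ, ∀ i : ℤ, N ≤ i → ∀ φ : P⟦-i⟧ ⟶ E, φ = 0) ↔
    (∃ N : ℤ, ∀ i : ℤ, N ≤ i → ∀ φ : P⟦-i⟧ ⟶ ((DerivedCategory.TStructure.t : CategoryTheory.Triangulated.TStructure (DCoh.D X)).truncGE a).obj E, φ = 0) := by
  obtain ⟨lo, hi, -, hv⟩ := PerfHomLib.exists_van_of_isPerfect hP
  refine ⟨fun ⟨N, hN⟩ => ⟨max N (a - lo), fun i hi => ?_⟩, fun ⟨N, hN⟩ => ⟨max N (a - lo), fun i hi => ?_⟩⟩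
  · exact (PerfHomLib.hom_shift_iff_truncGE hv hE a i (by omega)).1 (hN i (by omega))
  · exact (PerfHomLib.hom_shift_iff_truncGE hv hE a i (by omega)).2 (hN i (by omega))

end Groth.Agent.S1022
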