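import Groth.Statements.S10220
import Groth.Agent.AlgSpRegLib.EnoughPoints
-- import your own Groth.Agent.* helpers here

set_option autoImplicit false
universe u
open CategoryTheory CategoryTheory.Limits AlgebraicGeometry Topology TopologicalSpace
open AlgSp

namespace Groth.Agent.S10220

/-- Let X be an algebraic space over a scheme S and a : F ⟶ G a map of sheaves of sets on the small
etale site of X. Then a is injective (a monomorphism) if and only if the induced map on stalks F_x̄
→ G_x̄ is injective for every geometric point x̄ of X, and a is surjective (an epimorphism of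
sheaves) if and only if all these stalk maps are surjective. -/
theorem result {S : Scheme.{u}} (X : AlgSp.Space S) {F G : AlgSp.EtSh X.obj (Type (u + 1))} (a : F ⟶ G) :
    (Mono a ↔ ∀ p : AlgSp.FieldPt X.obj, p.IsGeometric →
        Function.Injective ((AlgSp.stalkEtFunctor (Type (u + 1)) p).map a)) ∧
    (Epi a ↔ ∀ p : AlgSp.FieldPt X.obj, p.IsGeometric →
        Function.Surjective ((AlgSp.stalkEtFunctor (Type (u + 1)) p).map a)) := by
  have hP := AlgSpRegLib.geomPoints_conservative (X := X.obj) X.property
  constructor
  · rw [(hP.jointlyReflectMonomorphisms (Type (u + 1))).mono_iff a]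
    constructor
    · intro h p hp
      exact (mono_iff_injective _).1 (((MorphismProperty.monomorphisms _).arrow_mk_iso_iff
        (((Functor.mapArrowFunctor _ _).mapIso (AlgSpRegLib.stalkEtIso X.property p hp (Type (u + 1)))).app (Arrow.mk a))).1
          (h ⟨_, p, hp, rfl⟩ : Mono _))
    · rintro h ⟨Φ, p, hp, rfl⟩
      exact ((MorphismProperty.monomorphisms _).arrow_mk_iso_iff
        (((Functor.mapArrowFunctor _ _).mapIso (AlgSpRegLib.stalkEtIso X.property p hp (Type (u + 1)))).app (Arrow.mk a))).2
          ((mono_iff_injective _).2 (h p hp) : Mono _)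
  · rw [(hP.jointlyReflectEpimorphisms (Type (u + 1))).epi_iff a]
    constructor
    · intro h p hp
      exact (epi_iff_surjective _).1 (((MorphismProperty.epimorphisms _).arrow_mk_iso_iff
        (((Functor.mapArrowFunctor _ _).mapIso (AlgSpRegLib.stalkEtIso X.property p hp (Type (u + 1)))).app (Arrow.mk a))).1
          (h ⟨_, p, hp, rfl⟩ : Epi _))
    · rintro h ⟨Φ, p, hp, rfl⟩
      exact ((MorphismProperty.epimorphisms _).arrow_mk_iso_iff
        (((Functor.mapArrowFunctor _ _).mapIso (AlgSpRegLib.stalkEtIso X.property p hp (Type (u + 1)))).app (Arrow.mk a))).2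
          ((epi_iff_surjective _).2 (h p hp) : Epi _)

end Groth.Agent.S10220
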