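import Groth.Statements.S10221
import Groth.Agent.AlgSpRegLib.EnoughPoints
-- import your own Groth.Agent.* helpers here

set_option autoImplicit false
universe u
open CategoryTheory CategoryTheory.Limits AlgebraicGeometry Topology TopologicalSpace
open AlgSp

namespace Groth.Agent.S10221

/-- Let X be an algebraic space over a scheme S. A short complex of abelian sheaves on the small etale
site of X (maps f, g with g ∘ f = 0) is exact if and only if it is exact on stalks at all geometric
points x̄ of X: every element of the middle stalk killed by g_x̄ is in the image of f_x̄. -/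
theorem result {S : Scheme.{u}} (X : AlgSp.Space S) (C : ShortComplex (AlgSp.AbEt X.obj)) :
    C.Exact ↔ ∀ p : AlgSp.FieldPt X.obj, p.IsGeometric →
      ∀ y : ↥((AlgSp.stalkEtFunctor AddCommGrpCat.{u + 1} p).obj C.X₂),
        ((AlgSp.stalkEtFunctor AddCommGrpCat.{u + 1} p).map C.g) y = 0 →
          ∃ x : ↥((AlgSp.stalkEtFunctor AddCommGrpCat.{u + 1} p).obj C.X₁),
            ((AlgSp.stalkEtFunctor AddCommGrpCat.{u + 1} p).map C.f) x = y := by
  have hP := AlgSpRegLib.geomPoints_conservative (X := X.obj) X.property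
  have key : ∀ (p : AlgSp.FieldPt X.obj) (hp : p.IsGeometric),
      ((∀ y : ↥((AlgSp.stalkEtFunctor AddCommGrpCat.{u + 1} p).obj C.X₂),
        ((AlgSp.stalkEtFunctor AddCommGrpCat.{u + 1} p).map C.g) y = 0 →
          ∃ x : ↥((AlgSp.stalkEtFunctor AddCommGrpCat.{u + 1} p).obj C.X₁),
            ((AlgSp.stalkEtFunctor AddCommGrpCat.{u + 1} p).map C.f) x = y) ↔
        (C.map (AlgSpRegLib.geomPoint X.property p hp).sheafFiber).Exact) := fun p hp => by
    let e := AlgSpRegLib.stalkEtIso X.property p hp AddCommGrpCat.{u + 1}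
    haveI : (AlgSp.stalkEtFunctor AddCommGrpCat.{u + 1} p).PreservesZeroMorphisms :=
      Functor.preservesZeroMorphisms_of_iso (F₁ := (AlgSpRegLib.geomPoint X.property p hp).sheafFiber) e
    rw [ShortComplex.exact_iff_of_iso (C.mapNatIso e), ShortComplex.ab_exact_iff]
    exact Iff.rfl
  constructor
  · exact fun h p hp => (key p hp).2 (h.map _)
  · intro h
    rw [ShortComplex.exact_iff_isZero_homology, IsZero.iff_id_eq_zero]
    refine (hP.jointlyFaithful AddCommGrpCat.{u + 1}).map_injective fun Φ => ?_
    obtain ⟨p, hp, e⟩ := Φ.property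
    rw [Functor.map_zero, CategoryTheory.Functor.map_id, ← IsZero.iff_id_eq_zero]
    have hex : (C.map Φ.obj.sheafFiber).Exact := e ▸ (key p hp).1 (h p hp)
    exact (ShortComplex.exact_iff_isZero_homology _).1 hex |>.of_iso (C.mapHomologyIso Φ.obj.sheafFiber).symm

end Groth.Agent.S10221
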