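import Groth.Statements.S10222
import Groth.Agent.AlgSpLib.ReducedStalk
import Groth.Agent.AlgSpLib.Reduced

set_option autoImplicit false
universe u
open CategoryTheory CategoryTheory.Limits AlgebraicGeometry Topology TopologicalSpace
open AlgSp

namespace Groth.Agent.S10222

/-- (1) if and only if (2): an algebraic space X over a scheme S is reduced if and only if at each x ∈
|X| the local ring of X is reduced, the latter meaning that for some scheme U, some representable
etale h_U ⟶ X and some point u of U mapping to x, the local ring of U at u is reduced. (The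
assertions about global sections in the published statement are not part of this row.) -/
theorem result {S : Scheme.{u}} (X : AlgSp.Space S) :
    AlgSp.IsReducedSp X.obj ↔
      ∀ x : AlgSp.Points X.obj, AlgSp.HasAt (fun U u => _root_.IsReduced ↥(U.presheaf.stalk u)) X.obj x := by
  obtain ⟨U, a, ha, has⟩ := X.property.atlas
  constructor
  · intro h x
    haveI := AlgSpLib.isReduced_of_chart h ha
    obtain ⟨u, rfl⟩ := AlgSpLib.surjective_ofPt has x
    exact ⟨U, a, u, ha, rfl, inferInstance⟩
  · intro h
    haveI : ∀ u : U.left, _root_.IsReduced (U.left.presheaf.stalk u) := fun u => by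
      obtain ⟨V, b, v, hb, he, hv⟩ := h (AlgSp.Points.ofPt a u)
      obtain ⟨W, p, q, sq⟩ := AlgSpLib.exists_isPullback_yon a b ha.rep
      obtain ⟨w, rfl, rfl⟩ := (AlgSpLib.ofPt_eq_ofPt_iff sq u v).1 he.symm
      haveI : Etale q.left := AlgSpLib.etale_left (AlgSpLib.repWith_of_isPullback sq ha)
      haveI : Etale p.left := AlgSpLib.etale_left (AlgSpLib.repWith_of_isPullback sq.flip hb)
      haveI := hv
      haveI := AlgSpLib.isReduced_stalk_of_smooth q.left w
      exact AlgSpLib.isReduced_stalk_of_flat p.left w
    exact ⟨U, a, ha, has, isReduced_of_isReduced_stalk U.left⟩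

end Groth.Agent.S10222
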