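import Groth.Statements.S10227
import Groth.Agent.AlgSpRegLib.StalkBranch
-- import your own Groth.Agent.* helpers here

set_option autoImplicit false
universe u
open CategoryTheory CategoryTheory.Limits AlgebraicGeometry Topology TopologicalSpace
open AlgSp

namespace Groth.Agent.S10227

/-- (1) ⇔ (4) ⇔ (5): let X be an algebraic space over a scheme S and x ∈ |X|. The following are
equivalent: for every scheme U, every etale h_U ⟶ X and every point u of U over x, the local ring of
U at u has a unique minimal prime; for every such (U, u), the local ring of U at u is geometrically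
unibranch; for every geometric point x̄ over x, the etale local ring of X at x̄ has a unique minimal
prime. -/
theorem result {S : Scheme.{u}} (X : AlgSp.Space S) (x : AlgSp.Points X.obj) :
    ((∀ (U : Over S) (a : (AlgSp.yon S).obj U ⟶ X.obj) (u : ↥U.left),
        AlgSp.RepWith @Etale a → AlgSp.Points.ofPt a u = x → CAlgX.HasUniqueMinimalPrime ↥(U.left.presheaf.stalk u)) ↔
      (∀ (U : Over S) (a : (AlgSp.yon S).obj U ⟶ X.obj) (u : ↥U.left),
        AlgSp.RepWith @Etale a → AlgSp.Points.ofPt a u = x → CAlg2.IsGeomUnibranch ↥(U.left.presheaf.stalk u))) ∧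
    ((∀ (U : Over S) (a : (AlgSp.yon S).obj U ⟶ X.obj) (u : ↥U.left),
        AlgSp.RepWith @Etale a → AlgSp.Points.ofPt a u = x → CAlgX.HasUniqueMinimalPrime ↥(U.left.presheaf.stalk u)) ↔
      ∀ p : AlgSp.FieldPt X.obj, p.IsGeometric → AlgSp.Points.mk p = x →
        CAlgX.HasUniqueMinimalPrime ↥(AlgSp.OEtStalk p)) := by
  obtain ⟨p₀, hp₀, hx⟩ := AlgSpRegLib.exists_geometric_mk X.property x
  simp only [AlgSpRegLib.hasUniqueMinimalPrime_iff_card, ← Groth.Agent.S9236.result]
  refine ⟨⟨fun h U a u ha hu => ?_, fun h U a u ha hu => ?_⟩, ⟨fun h p hp he => ?_, fun h U a u ha hu => ?_⟩⟩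
  · refine ((AlgSpRegLib.numGeomBranchesAt_chart X.property p₀ hp₀ a ha u (hu.trans hx.symm)).1).trans
      (le_antisymm (AlgSpRegLib.card_le_of_charts X.property p₀ hp₀ 1 fun V b v hb hv => (h V b v hb (hv.trans hx)).le) ?_)
    exact (h U a u ha hu).ge.trans (AlgSpRegLib.numGeomBranchesAt_chart X.property p₀ hp₀ a ha u (hu.trans hx.symm)).2
  · refine le_antisymm ?_ (AlgSpRegLib.one_le_card_minimalPrimes _)
    have h2 := AlgSpRegLib.numGeomBranchesAt_chart X.property p₀ hp₀ a ha u (hu.trans hx.symm)
    exact h2.2.trans (h2.1.symm.trans (h U a u ha hu)).le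
  · obtain ⟨U, a, u, ha, hu⟩ := AlgSpRegLib.exists_chart_at_point X.property x
    exact le_antisymm (AlgSpRegLib.card_le_of_charts X.property p hp 1 fun V b v hb hv => (h V b v hb (hv.trans he)).le)
      ((h U a u ha hu).ge.trans (AlgSpRegLib.numGeomBranchesAt_chart X.property p hp a ha u (hu.trans he.symm)).2)
  · exact le_antisymm ((AlgSpRegLib.numGeomBranchesAt_chart X.property p₀ hp₀ a ha u (hu.trans hx.symm)).2.trans
      (h p₀ hp₀ hx).le) (AlgSpRegLib.one_le_card_minimalPrimes _)


end Groth.Agent.S10227
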