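import Groth.Statements.S10230
import Groth.Agent.AlgSpLib.Points
import Groth.Agent.AlgSpLib.Univ
import Groth.Agent.AlgSpLib.LocP
-- import your own Groth.Agent.* helpers here

set_option autoImplicit false
universe u
open CategoryTheory CategoryTheory.Limits AlgebraicGeometry Topology TopologicalSpace
open AlgSp

namespace Groth.Agent.S10230

/-- Let X be an algebraic space over a scheme S and F a subsheaf of the final object of the small etale
topos of X, i.e. a sheaf of sets all of whose section sets have at most one element. Then there is a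
unique open W of |X| with F = h_W: for every U etale over X, F(U) is nonempty if and only if U ⟶ X
maps |U| into W. -/
theorem result {S : Scheme.{u}} (X : AlgSp.Space S)
    (F : AlgSp.EtSh X.obj (Type (u + 1))) (hF : ∀ E : AlgSp.EtOver X.obj, Subsingleton (F.obj.obj (Opposite.op E))) :
    ∃! W : Set (AlgSp.Points X.obj), IsOpen W ∧
      ∀ E : AlgSp.EtOver X.obj, Nonempty (F.obj.obj (Opposite.op E)) ↔ Set.range (AlgSp.Points.ofPt E.obj.hom) ⊆ W := by
  let W : Set (AlgSp.Points X.obj) :=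
    ⋃ (E : AlgSp.EtOver X.obj) (_ : Nonempty (F.obj.obj (Opposite.op E))), Set.range (AlgSp.Points.ofPt E.obj.hom)
  have hWo : IsOpen W := isOpen_iUnion fun E => isOpen_iUnion fun _ =>
    (AlgSpLib.isOpenMap_ofPt E.property).isOpen_range
  have hW : ∀ E : AlgSp.EtOver X.obj,
      Nonempty (F.obj.obj (Opposite.op E)) ↔ Set.range (AlgSp.Points.ofPt E.obj.hom) ⊆ W := by
    intro E
    refine ⟨fun h => Set.subset_iUnion₂_of_subset E h subset_rfl, fun h => ?_⟩
    have hloc : ∀ t : E.obj.left.left, ∃ (E' : AlgSp.EtOver X.obj) (f : E' ⟶ E),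
        Nonempty (F.obj.obj (Opposite.op E')) ∧ t ∈ Set.range f.hom.left.left := by
      intro t
      obtain ⟨E₁, h₁, t₁, ht₁⟩ := Set.mem_iUnion₂.1 (h ⟨t, rfl⟩)
      obtain ⟨P, p, q, sq⟩ := AlgSpLib.exists_isPullback_yon E.obj.hom E₁.obj.hom E.property.rep
      obtain ⟨z, hz, -⟩ := (AlgSpLib.ofPt_eq_ofPt_iff sq t t₁).1 ht₁.symm
      have hq : AlgSp.RepWith @Etale ((AlgSp.yon S).map q) := AlgSpLib.repWith_of_isPullback sq E.property
      have hP : AlgSp.RepWith @Etale ((AlgSp.yon S).map q ≫ E₁.obj.hom) := AlgSpLib.repWith_comp hq E₁.property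
      let E' : AlgSp.EtOver X.obj := AlgSp.EtOver.mk ((AlgSp.yon S).map q ≫ E₁.obj.hom) hP
      let f : E' ⟶ E := AlgSp.EtOver.homMk p sq.w
      let f₁ : E' ⟶ E₁ := AlgSp.EtOver.homMk q rfl
      exact ⟨E', f, h₁.map (F.obj.map f₁.op), z, hz⟩
    choose E' f hne hmem using hloc
    have hR : Presieve.ofArrows E' f ∈ AlgSp.etPre X.obj E :=
      (AlgSp.ofArrows_mem_etPre_iff E' f).2 fun t => ⟨t, hmem t⟩
    have hsh := (isSheaf_iff_isSheaf_of_type _ _).1 F.property _ (Precoverage.generate_mem_toGrothendieck hR)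
    have hne' : ∀ {Y : AlgSp.EtOver X.obj} (g : Y ⟶ E), (Sieve.generate (Presieve.ofArrows E' f)).arrows g →
        Nonempty (F.obj.obj (Opposite.op Y)) := by
      rintro Y g ⟨Z, k, e, ⟨i⟩, rfl⟩
      exact (hne i).map (F.obj.map k.op)
    let fam : Presieve.FamilyOfElements F.obj (Sieve.generate (Presieve.ofArrows E' f)).arrows :=
      fun Y g hg => (hne' g hg).some
    exact ⟨hsh.amalgamate fam fun Y₁ Y₂ Z g₁ g₂ _ _ _ _ _ => (hF Z).elim _ _⟩
  refine ⟨W, ⟨hWo, hW⟩, fun W' ⟨hW'o, hW'⟩ => Set.Subset.antisymm (fun x hx => ?_) ?_⟩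
  · obtain ⟨U, a, ha, has⟩ := X.property.atlas
    obtain ⟨u, rfl⟩ := AlgSpLib.surjective_ofPt has x
    let O : U.left.Opens := ⟨AlgSp.Points.ofPt a ⁻¹' W', hW'o.preimage (AlgSp.Points.continuous_ofPt a)⟩
    let Oo : Over S := Over.mk (O.ι ≫ U.hom)
    let o : Oo ⟶ U := Over.homMk O.ι rfl
    let E : AlgSp.EtOver X.obj := AlgSp.EtOver.mk ((AlgSp.yon S).map o ≫ a)
      (AlgSpLib.repWith_comp ((repWith_yon_map_iff (P := (@Etale : MorphismProperty Scheme.{u})) o).2
        (inferInstanceAs (Etale O.ι))) ha)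
    have hE : Nonempty (F.obj.obj (Opposite.op E)) := (hW' E).2 (by
      rintro _ ⟨z, rfl⟩
      change AlgSp.Points.ofPt ((AlgSp.yon S).map o ≫ a) z ∈ W'
      rw [AlgSpLib.ofPt_yon_comp]
      exact z.2)
    refine (hW E).1 hE ⟨(⟨u, hx⟩ : O), ?_⟩
    change AlgSp.Points.ofPt ((AlgSp.yon S).map o ≫ a) _ = _
    rw [AlgSpLib.ofPt_yon_comp]
    rfl
  · intro x hx
    obtain ⟨E, hE, hxE⟩ := Set.mem_iUnion₂.1 hx
    exact (hW' E).1 hE hxE


end Groth.Agent.S10230
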