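import Groth.Statements.S10232
import Groth.Agent.AlgSpRegLib.StalkShConseq
-- import your own Groth.Agent.* helpers here

set_option autoImplicit false
universe u
open CategoryTheory CategoryTheory.Limits AlgebraicGeometry Topology TopologicalSpace
open AlgSp

namespace Groth.Agent.S10232

/-- Let X be an algebraic space over a scheme S and x ∈ |X|. Then X is regular at x (for some etale
chart h_U ⟶ X and some point u of U over x, the local ring of U at u is regular) if and only if the
etale local ring of X at x̄ is regular for every geometric point x̄ lying over x, if and only if it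
is regular for some geometric point x̄ lying over x. -/
theorem result {S : Scheme.{u}} (X : AlgSp.Space S) (x : AlgSp.Points X.obj) :
    (AlgSp.HasAt (fun U u => IsRegularLocalRing ↥(U.presheaf.stalk u)) X.obj x ↔
      ∀ p : AlgSp.FieldPt X.obj, p.IsGeometric → AlgSp.Points.mk p = x → IsRegularLocalRing ↥(AlgSp.OEtStalk p)) ∧
    (AlgSp.HasAt (fun U u => IsRegularLocalRing ↥(U.presheaf.stalk u)) X.obj x ↔
      ∃ p : AlgSp.FieldPt X.obj, p.IsGeometric ∧ AlgSp.Points.mk p = x ∧ IsRegularLocalRing ↥(AlgSp.OEtStalk p)) := by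
  have h1 : ∀ p : AlgSp.FieldPt X.obj, p.IsGeometric → AlgSp.Points.mk p = x →
      (AlgSp.HasAt (fun U u => IsRegularLocalRing ↥(U.presheaf.stalk u)) X.obj x ↔
        IsRegularLocalRing ↥(AlgSp.OEtStalk p)) := by
    rintro p hp rfl
    refine ⟨fun ⟨U, a, u, ha, hu, hr⟩ => (AlgSpRegLib.isRegular_iff_OEtStalk X.property p hp a ha u hu).1 hr,
      fun hr => ?_⟩
    obtain ⟨U, a, u, ha, hu⟩ := AlgSpRegLib.exists_chart_at_point X.property (AlgSp.Points.mk p)
    exact ⟨U, a, u, ha, hu, (AlgSpRegLib.isRegular_iff_OEtStalk X.property p hp a ha u hu).2 hr⟩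
  obtain ⟨p₀, hp₀, hx⟩ := AlgSpRegLib.exists_geometric_mk X.property x
  exact ⟨⟨fun h p hp he => (h1 p hp he).1 h, fun h => (h1 p₀ hp₀ hx).2 (h p₀ hp₀ hx)⟩,
    ⟨fun h => ⟨p₀, hp₀, hx, (h1 p₀ hp₀ hx).1 h⟩, fun ⟨p, hp, he, hr⟩ => (h1 p hp he).2 hr⟩⟩


end Groth.Agent.S10232
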