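import Groth.Statements.S10233
import Groth.Agent.AlgSpRegLib.InvariantSub
-- import your own Groth.Agent.* helpers here

set_option autoImplicit false
universe u
open CategoryTheory CategoryTheory.Limits AlgebraicGeometry Topology TopologicalSpace
open AlgSp

namespace Groth.Agent.S10233

/-- Let X be an algebraic space over a scheme S with a presentation (U, R, s, t, p), and let i' : Z' ⟶ U
be an immersion of schemes that is R-invariant, meaning that one locally closed subscheme R' of R is
at the same time the inverse image of Z' under s and under t. Then Z' descends to a locally closed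
subspace of X: there is a morphism of algebraic spaces i : Z ⟶ X representable by immersions
together with a map h_{Z'} ⟶ Z making h_{Z'} the fibre product Z ×_X h_U; moreover i is a closed
(resp. open) immersion when i' is. -/
theorem result {S : Scheme.{u}} (X : AlgSp.Space S) {R U : Over S} (s t : R ⟶ U)
    (p : (AlgSp.yon S).obj U ⟶ X.obj) (hp : AlgSp.IsPresentation s t p)
    {Z' R' : Scheme.{u}} (i' : Z' ⟶ U.left) [IsImmersion i'] (k : R' ⟶ R.left) (s' t' : R' ⟶ Z')
    (hs : IsPullback k s' s.left i') (ht : IsPullback k t' t.left i') :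
    ∃ (Z : AlgSp.Space S) (i : Z ⟶ X) (q : (AlgSp.yon S).obj (Over.mk (i' ≫ U.hom)) ⟶ Z.obj),
      AlgSp.RepWith @IsImmersion i.hom ∧
      IsPullback q ((AlgSp.yon S).map (Over.homMk i' rfl : Over.mk (i' ≫ U.hom) ⟶ U)) i.hom p ∧
      (IsClosedImmersion i' → AlgSp.RepWith @IsClosedImmersion i.hom) ∧
      (IsOpenImmersion i' → AlgSp.RepWith @IsOpenImmersion i.hom) := by
  let W : Over S := Over.mk (i' ≫ U.hom)
  let w : W ⟶ U := Over.homMk i' rfl
  haveI : Mono w := (Over.forget S).mono_of_mono_map (inferInstanceAs (Mono i'))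
  obtain ⟨Z, i, q, hZ, sq, himm⟩ := AlgSpRegLib.exists_sub_of_invariant_mono X.property hp.etale hp.surjective w
    fun T r r₂ e ⟨l, hl⟩ => by
      obtain ⟨m, hm⟩ := (AlgSp.yon S).map_surjective (hp.isPullback.lift ((AlgSp.yon S).map r) ((AlgSp.yon S).map r₂) e)
      have h1 : m ≫ t = r := (AlgSp.yon S).map_injective (by rw [Functor.map_comp, hm, IsPullback.lift_fst])
      have h2 : m ≫ s = r₂ := (AlgSp.yon S).map_injective (by rw [Functor.map_comp, hm, IsPullback.lift_snd])
      have hmt : m.left ≫ t.left = l.left ≫ i' := by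
        have := congrArg (fun g => g.left) (h1.trans hl.symm)
        simpa [w] using this
      have hn : (ht.lift m.left l.left hmt ≫ s') ≫ i' = r₂.left := by
        rw [Category.assoc, ← hs.w, ← Category.assoc, ht.lift_fst, ← Over.comp_left, h2]
      exact ⟨Over.homMk (ht.lift m.left l.left hmt ≫ s') (by
        show _ ≫ i' ≫ U.hom = T.hom
        rw [← Category.assoc, hn, Over.w r₂]), Over.OverMorphism.ext hn⟩
  exact ⟨⟨Z, hZ⟩, ObjectProperty.homMk i, q, himm (Or.inr (Or.inr rfl)) ‹IsImmersion i'›, sq,
    fun h => himm (Or.inl rfl) h, fun h => himm (Or.inr (Or.inl rfl)) h⟩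

end Groth.Agent.S10233
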