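import Groth.Statements.S10236
import Groth.Agent.GrpdLib.QuotSheaf
import Groth.Agent.S10235
import Groth.Agent.Thickening.Basic
import Groth.Agent.ProperOverLib.Basic

set_option autoImplicit false
universe u
open CategoryTheory CategoryTheory.Limits AlgebraicGeometry Topology TopologicalSpace
open AlgSp

namespace Groth.Agent.S10236

open AlgSpLib

theorem surjective_of_isQuotient {S : Scheme.{u}} {R U M : Over S} (s t : R ⟶ U) (m : U ⟶ M)
    (hq : QuotSh.IsQuotient Scheme.fppfPrecoverage s t m) {Y : Over S} (p : U ⟶ Y)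
    (hp : QuotSh.IsQuotient Scheme.fppfPrecoverage s t p) [Surjective p.left] :
    Surjective m.left := by
  obtain ⟨w, hm⟩ := hq
  obtain ⟨w', hp⟩ := hp
  let K := (Scheme.fppfPrecoverage : Precoverage Scheme.{u})
  let i := QuotSh.repIsoUliftYoneda Scheme.fppfPrecoverage (S := S)
  let ψ := (i Y).inv ≫ inv (QuotSh.quotDesc K p w') ≫ QuotSh.quotDesc K m w ≫ (i M).hom
  let φ : Y ⟶ M := (AlgSp.yon S).preimage ψ
  have hφ : (AlgSp.yon S).map φ = ψ := (AlgSp.yon S).map_preimage ψ
  have : IsIso φ := by
    have : IsIso ((AlgSp.yon S).map φ) := by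
      rw [hφ]
      infer_instance
    exact isIso_of_reflects_iso φ (AlgSp.yon S)
  have hrep : ∀ {V : Over S} (g : U ⟶ V) (wg : s ≫ g = t ≫ g),
      QuotSh.quotπ K s t ≫ QuotSh.quotDesc K g wg = QuotSh.repMap K g :=
    fun g wg => coequalizer.π_desc _ _
  have hcomp : p ≫ φ = m := by
    apply (AlgSp.yon S).map_injective
    rw [Functor.map_comp, hφ, ← cancel_epi (i U).hom]
    show (i U).hom ≫ _ ≫ ψ = _
    rw [← reassoc_of% (repIso_naturality p), ← repIso_naturality m]
    rw [← hrep p w', ← hrep m w, Category.assoc, Category.assoc]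
    simp [ψ, i]
  have h1 : IsIso φ.left := inferInstanceAs (IsIso ((Over.forget S).map φ))
  have h2 : p.left ≫ φ.left = m.left := by rw [← Over.comp_left, hcomp]
  rw [← h2]
  infer_instance

/-- Let (U, R, s, t, c) be a groupoid scheme over a scheme S with s, t finite locally free and j = (t,
s) an equivalence relation, such that in each nonempty closed subset of U some point has its whole
equivalence class inside an affine open of U; let U ⟶ M be a finite locally free morphism over S
with R = U ×_M U (the square with t, s cartesian) such that h_M is the quotient of h_U by h_R ⇉ h_U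
in fppf sheaves. Then (1) if U ⟶ S is quasi-separated so is M ⟶ S; (2) if U is quasi-separated so is
M; (3) if U ⟶ S is separated so is M ⟶ S; (4) if U is separated so is M. -/
theorem result {S : Scheme.{u}} (G : Grpd.GroupoidScheme S)
    (hs : Mor2.IsFinLocFree G.s) (ht : Mor2.IsFinLocFree G.t)
    (heq : AlgSp.IsEqvRel (Over.homMk G.s G.s_over : Over.mk G.pR ⟶ Over.mk G.pU) (Over.homMk G.t G.t_over : Over.mk G.pR ⟶ Over.mk G.pU))
    (h3 : ∀ Z : Set ↥G.U, IsClosed Z → Z.Nonempty →
      ∃ u ∈ Z, ∃ W : G.U.Opens, IsAffineOpen W ∧ ∀ r : ↥G.R, G.s r = u → G.t r ∈ W)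
    (M : Over S) (m : Over.mk G.pU ⟶ M) (hm : Mor2.IsFinLocFree m.left) (hR : IsPullback G.t G.s m.left m.left)
    (hq : QuotSh.IsQuotient Scheme.fppfPrecoverage (Over.homMk G.s G.s_over : Over.mk G.pR ⟶ Over.mk G.pU) (Over.homMk G.t G.t_over : Over.mk G.pR ⟶ Over.mk G.pU) m) :
    (QuasiSeparated G.pU → QuasiSeparated M.hom) ∧ (QuasiSeparatedSpace ↥G.U → QuasiSeparatedSpace ↥M.left) ∧
      (IsSeparated G.pU → IsSeparated M.hom) ∧ (G.U.IsSeparated → M.left.IsSeparated) := by
  obtain ⟨Y, p, -, -, _, hp⟩ := Groth.Agent.S10235.exists_surjective_quotient G hs ht heq h3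
  obtain ⟨_, _, _⟩ := hm
  have hm' : Surjective m.left := by
    exact surjective_of_isQuotient _ _ m hq p hp
  have hcomp : m.left ≫ M.hom = G.pU := Over.w m
  have : Surjective (m.left ≫ 𝟙 M.left) := by rwa [Category.comp_id]
  refine ⟨fun h => ?_, fun h => ?_, fun h => ?_, fun h => ?_⟩
  · exact ThickeningLib.quasiSeparated_of_comp_surjective m.left M.hom (by rw [hcomp]; exact h)
  · rw [quasiSeparatedSpace_iff_quasiSeparated] at h ⊢
    exact ThickeningLib.quasiSeparated_of_comp_surjective m.left _
      (by rwa [terminal.comp_from])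
  · have : IsSeparated (m.left ≫ M.hom) := by rw [hcomp]; exact h
    exact ProperOverLib.isSeparated_of_comp_surjective m.left M.hom
  · rw [Scheme.isSeparated_iff] at h ⊢
    have : IsSeparated (m.left ≫ terminal.from M.left) := by rwa [terminal.comp_from]
    exact ProperOverLib.isSeparated_of_comp_surjective m.left _

end Groth.Agent.S10236
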