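import Groth.Statements.S10237
import Groth.Agent.ModEtQcLib.EtalePull
-- import your own Groth.Agent.* helpers here

set_option autoImplicit false
universe u
open CategoryTheory CategoryTheory.Limits AlgebraicGeometry Topology TopologicalSpace
open AlgSp

namespace Groth.Agent.S10237

/-- Let X be an algebraic space over a scheme S and F a sheaf of modules over O_X on the small etale
site of X. If there is a surjective etale map p : h_U ⟶ X from a scheme U such that the pullback
p^*F is a quasi-coherent module, then F is quasi-coherent. -/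
theorem result {S : Scheme.{u}} (X : AlgSp.Space S) (F : AlgSp.ModEt X.obj)
    {U : Over S} (p : (AlgSp.yon S).obj U ⟶ X.obj) (hrep : AlgSp.Representable p)
    (hp : AlgSp.RepWith @Etale p) (hs : AlgSp.RepWith @Surjective p)
    [(SheafOfModules.pushforward.{u + 1} (AlgSp.bcRingHom hrep)).IsRightAdjoint]
    (hF : ((AlgSp.pullModEt hrep).obj F).IsQuasicoherent) :
    F.IsQuasicoherent := by
  have he := AlgSp.isEtaleMor_of_repWith p hp
  have hsurj : ∀ V : AlgSp.EtOver X.obj, Function.Surjective (AlgSp.EtOver.bcπ hrep V).left := fun V =>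
    (((AlgSp.repWith_iff @Surjective p).1 hs).2 V.obj.hom (hrep.fst V.obj.hom) (hrep.snd V.obj.hom)
      (hrep.isPullback V.obj.hom)).surj
  refine ModEtQc.isQuasicoherent_of_bc F (ModEtQc.bc_of_resEt he hrep hsurj F ?_)
  exact (ModEtQc.isQuasicoherent_iff_bc _).1
    (ObjectProperty.prop_of_iso (SheafOfModules.isQuasicoherent (AlgSp.OEtRing ((AlgSp.yon S).obj U))) ((ModEtQc.pullIsoRes he hrep).app F) hF)

end Groth.Agent.S10237
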