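import Groth.Statements.S10238
import Groth.Agent.ModEtQcLib.EtalePull
-- import your own Groth.Agent.* helpers here

set_option autoImplicit false
universe u
open CategoryTheory CategoryTheory.Limits AlgebraicGeometry Topology TopologicalSpace
open AlgSp

namespace Groth.Agent.S10238

/-- Let X be an algebraic space over a scheme S and F a quasi-coherent O_X-module on the small etale
site of X. Then for every affine scheme U and every etale map p : h_U ⟶ X the pullback p^*F is
quasi-coherent. -/
theorem result {S : Scheme.{u}} (X : AlgSp.Space S) (F : AlgSp.ModEt X.obj)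
    (hF : F.IsQuasicoherent) {U : Over S} (hU : IsAffine U.left) (p : (AlgSp.yon S).obj U ⟶ X.obj)
    (hrep : AlgSp.Representable p) (hp : AlgSp.RepWith @Etale p)
    [(SheafOfModules.pushforward.{u + 1} (AlgSp.bcRingHom hrep)).IsRightAdjoint] :
    ((AlgSp.pullModEt hrep).obj F).IsQuasicoherent := by
  exact ObjectProperty.prop_of_iso (SheafOfModules.isQuasicoherent (AlgSp.OEtRing ((AlgSp.yon S).obj U)))
    ((ModEtQc.pullIsoRes (AlgSp.isEtaleMor_of_repWith p hp) hrep).app F).symm
    (ModEtQc.isQuasicoherent_of_bc _ (ModEtQc.bc_resEt _ F ((ModEtQc.isQuasicoherent_iff_bc F).1 hF)))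

end Groth.Agent.S10238
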