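import Groth.Statements.S10239
import Groth.Agent.AlgSpRegLib.StalkBranch
-- import your own Groth.Agent.* helpers here

set_option autoImplicit false
universe u
open CategoryTheory CategoryTheory.Limits AlgebraicGeometry Topology TopologicalSpace
open AlgSp

namespace Groth.Agent.S10239

/-- (1) ⇔ (4) ⇔ (5): let X be an algebraic space over a scheme S, x ∈ |X| and n ≥ 1 an integer. The
following are equivalent: (1) for every scheme U, etale h_U ⟶ X and u ∈ U over x the local ring of U
at u has at most n minimal primes, and for some such (U, u) exactly n; (4) for every such (U, u) the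
number of geometric branches of U at u is n; (5) for every geometric point x̄ over x the etale local
ring of X at x̄ has exactly n minimal primes. -/
theorem result {S : Scheme.{u}} (X : AlgSp.Space S) (x : AlgSp.Points X.obj)
    (n : ℕ) (hn : 1 ≤ n) :
    (((∀ (U : Over S) (a : (AlgSp.yon S).obj U ⟶ X.obj) (u : ↥U.left),
        AlgSp.RepWith @Etale a → AlgSp.Points.ofPt a u = x → (minimalPrimes ↥(U.left.presheaf.stalk u)).encard ≤ n) ∧
        AlgSp.HasAt (fun U u => (minimalPrimes ↥(U.presheaf.stalk u)).encard = n) X.obj x) ↔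
      (∀ (U : Over S) (a : (AlgSp.yon S).obj U ⟶ X.obj) (u : ↥U.left),
        AlgSp.RepWith @Etale a → AlgSp.Points.ofPt a u = x → Brnch.numGeomBranchesAt U.left u = n)) ∧
    ((∀ (U : Over S) (a : (AlgSp.yon S).obj U ⟶ X.obj) (u : ↥U.left),
        AlgSp.RepWith @Etale a → AlgSp.Points.ofPt a u = x → Brnch.numGeomBranchesAt U.left u = n) ↔
      ∀ p : AlgSp.FieldPt X.obj, p.IsGeometric → AlgSp.Points.mk p = x →
        (minimalPrimes ↥(AlgSp.OEtStalk p)).encard = n) := by
  obtain ⟨p₀, hp₀, hx⟩ := AlgSpRegLib.exists_geometric_mk X.property x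
  subst hx
  have hA : ((∀ (U : Over S) (a : (AlgSp.yon S).obj U ⟶ X.obj) (u : ↥U.left),
        AlgSp.RepWith @Etale a → AlgSp.Points.ofPt a u = AlgSp.Points.mk p₀ →
          (minimalPrimes ↥(U.left.presheaf.stalk u)).encard ≤ n) ∧
        AlgSp.HasAt (fun U u => (minimalPrimes ↥(U.presheaf.stalk u)).encard = n) X.obj (AlgSp.Points.mk p₀)) ↔
      ENat.card (minimalPrimes ↥(AlgSp.OEtStalk p₀)) = n := by
    constructor
    · rintro ⟨h1, U, a, u, ha, hu, h2⟩
      exact le_antisymm (AlgSpRegLib.card_le_of_charts X.property p₀ hp₀ n fun V b v hb hv => h1 V b v hb hv)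
        (h2.ge.trans (AlgSpRegLib.numGeomBranchesAt_chart X.property p₀ hp₀ a ha u hu).2)
    · intro h
      refine ⟨fun U a u ha hu => (AlgSpRegLib.numGeomBranchesAt_chart X.property p₀ hp₀ a ha u hu).2.trans h.le, ?_⟩
      obtain ⟨U, a, u, ha, hu, h2⟩ := AlgSpRegLib.exists_chart_card_ge X.property p₀ hp₀ n hn h
      exact ⟨U, a, u, ha, hu, h2⟩
  have hB : ∀ (p : AlgSp.FieldPt X.obj), p.IsGeometric → AlgSp.Points.mk p = AlgSp.Points.mk p₀ →
      ((∀ (U : Over S) (a : (AlgSp.yon S).obj U ⟶ X.obj) (u : ↥U.left),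
        AlgSp.RepWith @Etale a → AlgSp.Points.ofPt a u = AlgSp.Points.mk p₀ → Brnch.numGeomBranchesAt U.left u = n) ↔
      ENat.card (minimalPrimes ↥(AlgSp.OEtStalk p)) = n) := by
    intro p hp he
    constructor
    · intro h
      obtain ⟨U, a, u, ha, hu⟩ := AlgSpRegLib.exists_chart_at_point X.property (AlgSp.Points.mk p)
      exact (AlgSpRegLib.numGeomBranchesAt_chart X.property p hp a ha u hu).1.symm.trans (h U a u ha (hu.trans he))
    · exact fun h U a u ha hu => (AlgSpRegLib.numGeomBranchesAt_chart X.property p hp a ha u (hu.trans he.symm)).1.trans h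
  exact ⟨hA.trans (hB p₀ hp₀ rfl).symm, ⟨fun h p hp he => (hB p hp he).1 h,
    fun h => (hB p₀ hp₀ rfl).2 (h p₀ hp₀ rfl)⟩⟩


end Groth.Agent.S10239
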