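import Groth.Statements.S1024
import Groth.Agent.CohDerLib.Basic
-- import your own Groth.Agent.* helpers here

set_option autoImplicit false
universe v u u'
open CategoryTheory Opposite
open CohDer

namespace Groth.Agent.S1024

/-- Let u : A ⥤ B be a functor between abelian categories and P a family of objects of B such that each
object of B receives an epimorphism from some member of P, and such that for every member Pᵢ there
is an object Q of A with Hom_A(Q, -) ≅ Hom_B(Pᵢ, u(-)) naturally. Then u is a right adjoint (has a
left adjoint). -/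
theorem result {A : Type u} [Category.{v} A] [Abelian A] {B : Type u'} [Category.{v} B] [Abelian B]
    (u : A ⥤ B) {ι : Type*} (P : ι → B)
    (h1 : ∀ X : B, ∃ (i : ι) (π : P i ⟶ X), Epi π)
    (h2 : ∀ i : ι, ∃ Q : A, Nonempty (coyoneda.obj (op Q) ≅ u ⋙ coyoneda.obj (op (P i)))) :
    u.IsRightAdjoint := by
  apply Functor.isRightAdjoint_of_leftAdjointObjIsDefined_eq_top
  have hP : ∀ i, u.leftAdjointObjIsDefined (P i) := fun i => by
    obtain ⟨Q, ⟨e⟩⟩ := h2 i
    exact ⟨Q, ⟨Functor.corepresentableByEquiv.symm e⟩⟩
  funext X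
  refine eq_true ?_
  obtain ⟨i, π, _⟩ := h1 X
  obtain ⟨j, k, _⟩ := h1 (Limits.kernel π)
  let R := Limits.parallelPair (k ≫ Limits.kernel.ι π) 0
  let c : Limits.Cocone R := Limits.CokernelCofork.ofπ π (by simp)
  have hc : Limits.IsColimit c := by
    refine Limits.Cofork.IsColimit.ofExistsUnique fun s => ?_
    have hs : Limits.kernel.ι π ≫ s.π = 0 := by
      rw [← cancel_epi k, Limits.comp_zero, ← Category.assoc]
      exact Limits.CokernelCofork.condition s
    exact ⟨Abelian.epiDesc π s.π hs, Abelian.comp_epiDesc π s.π hs, fun m hm => by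
      rw [← cancel_epi π, Abelian.comp_epiDesc]; exact hm⟩
  refine u.leftAdjointObjIsDefined_of_isColimit hc fun w => ?_
  cases w
  · exact hP j
  · exact hP i

end Groth.Agent.S1024
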