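import Groth.Statements.S10240
import Groth.Agent.ModEtQcLib.Exact
-- import your own Groth.Agent.* helpers here

set_option autoImplicit false
universe u
open CategoryTheory CategoryTheory.Limits AlgebraicGeometry Topology TopologicalSpace
open AlgSp

namespace Groth.Agent.S10240

/-- Let X be an algebraic space over a scheme S. Colimits of quasi-coherent O_X-modules are
quasi-coherent; kernels and cokernels of maps between quasi-coherent O_X-modules are quasi-coherent;
and in a short exact sequence of O_X-modules, if two out of three are quasi-coherent then so is the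
third. -/
theorem result {S : Scheme.{u}} (X : AlgSp.Space S) :
    (∀ (J : Type u) [SmallCategory J] (D : J ⥤ AlgSp.ModEt X.obj) [HasColimit D],
        (∀ j, (D.obj j).IsQuasicoherent) → (colimit D).IsQuasicoherent) ∧
    (∀ (F G : AlgSp.ModEt X.obj) (φ : F ⟶ G), F.IsQuasicoherent → G.IsQuasicoherent →
        (kernel φ).IsQuasicoherent ∧ (cokernel φ).IsQuasicoherent) ∧
    (∀ C : ShortComplex (AlgSp.ModEt X.obj), C.ShortExact →
        (C.X₁.IsQuasicoherent → C.X₂.IsQuasicoherent → C.X₃.IsQuasicoherent) ∧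
        (C.X₁.IsQuasicoherent → C.X₃.IsQuasicoherent → C.X₂.IsQuasicoherent) ∧
        (C.X₂.IsQuasicoherent → C.X₃.IsQuasicoherent → C.X₁.IsQuasicoherent)) := by
  have qc : ∀ {M : AlgSp.ModEt X.obj}, M.IsQuasicoherent → ModEtQc.BC M :=
    fun {M} h => (ModEtQc.isQuasicoherent_iff_bc M).1 h
  have bc : ∀ {M : AlgSp.ModEt X.obj}, ModEtQc.BC M → M.IsQuasicoherent :=
    fun {M} h => ModEtQc.isQuasicoherent_of_bc M h
  refine ⟨fun J _ D _ h => bc (ModEtQc.bc_colimit D fun j => qc (h j)),
    fun F G φ hF hG => ⟨?_, ?_⟩, fun C hC => ⟨fun h1 h2 => bc (ModEtQc.bc_right hC (qc h1) (qc h2)),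
      fun h1 h3 => bc (ModEtQc.bc_middle hC (qc h1) (qc h3)), fun h2 h3 => ?_⟩⟩
  · exact bc (ModEtQc.bc_left (T := ShortComplex.mk (kernel.ι φ) φ (kernel.condition φ))
      (ShortComplex.exact_kernel φ) (qc hF) (qc hG))
  · refine bc (ModEtQc.bc_colimit (parallelPair φ 0) ?_)
    rintro (_ | _)
    · exact qc hF
    · exact qc hG
  · haveI := hC.mono_f
    exact bc (ModEtQc.bc_left hC.exact (qc h2) (qc h3))

end Groth.Agent.S10240
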