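import Groth.Statements.S10242
import Groth.Agent.AlgSpRegLib.GlobalSec
-- import your own Groth.Agent.* helpers here

set_option autoImplicit false
universe u
open CategoryTheory CategoryTheory.Limits AlgebraicGeometry Topology TopologicalSpace
open AlgSp

namespace Groth.Agent.S10242

/-- Let X be a reduced algebraic space over a scheme S. Then the ring of global sections of the
structure sheaf of X (on the small etale site) is reduced, and if a global section f satisfies X =
V(f), meaning that its restriction to every scheme U etale over X has empty non-vanishing locus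
D(f|_U), then f = 0. -/
theorem result {S : Scheme.{u}} (X : AlgSp.Space S) (hX : AlgSp.IsReducedSp X.obj) :
    _root_.IsReduced ↥(AlgSp.gsectEt (AlgSp.OEt X.obj)) ∧
      ∀ f : ↥(AlgSp.gsectEt (AlgSp.OEt X.obj)),
        (∀ E : AlgSp.EtOver X.obj,
            E.obj.left.left.basicOpen ((limit.π (AlgSp.OEt X.obj).obj (Opposite.op E)) f).down = ⊥) →
          f = 0 := by
  have key : ∀ f : ↥(AlgSp.gsectEt (AlgSp.OEt X.obj)), (∀ E : AlgSp.EtOver X.obj,
      E.obj.left.left.basicOpen (AlgSpRegLib.gsec E f) = ⊥) → f = 0 := fun f hf =>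
    AlgSpRegLib.gsec_ext fun E => by
      haveI := AlgSpLib.isReduced_of_chart hX E.property
      rw [map_zero, ← basicOpen_eq_bot_iff]
      exact hf E
  refine ⟨⟨fun f ⟨n, hn⟩ => key f fun E => ?_⟩, key⟩
  haveI := AlgSpLib.isReduced_of_chart hX E.property
  rw [basicOpen_eq_bot_iff]
  exact IsNilpotent.eq_zero ⟨n, by rw [← map_pow, hn, map_zero]⟩

end Groth.Agent.S10242
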