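import Groth.Statements.S10245
import Groth.Agent.ActGrpdLib.Main
import Groth.Agent.GrpdLib.QuotSheaf
import Groth.Agent.QuotLib.Exists

set_option autoImplicit false
universe u
open CategoryTheory CategoryTheory.Limits MonoidalCategory CartesianMonoidalCategory MonObj AlgebraicGeometry Topology TopologicalSpace
open AlgSp

namespace Groth.Agent.S10245

/-- Let G ⟶ S be a finite locally free group scheme over a scheme S acting on a scheme X over S by a : G
×_S X ⟶ X, freely on T-valued points for every S-scheme T. Assume one of the following: the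
structure morphism X ⟶ S is affine; X admits an open immersion into some affine scheme; G ⟶ S is
radicial (universally injective). Then the fppf quotient sheaf X/G is a scheme M: there is q : X ⟶ M
over S exhibiting h_M as the quotient of h_X by the projection and the action G ×_S X ⇉ X in fppf
sheaves; moreover the square formed by the action, the projection and q is cartesian (G ×_S X ≅ X
×_M X) and X ⟶ M has sections fppf locally on M, so that X ⟶ X/G is an fppf G-torsor. (The published
statement also allows X ⟶ S quasi-affine, projective or quasi-projective, or X an open subscheme of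
Proj of a graded ring; those cases are not covered by this row.) -/
theorem result {S : Scheme.{u}} (G X : Over S) [GrpObj G]
    (a : AlgGrp.Action G X) (hG : Mor2.IsFinLocFree G.hom)
    (hfree : ∀ (T : Over S) (g : T ⟶ G) (x : T ⟶ X), lift g x ≫ a.act = x → g = toUnit T ≫ η[G])
    (h3 : IsAffineHom X.hom ∨ (∃ (R : CommRingCat.{u}) (i : X.left ⟶ Spec R), IsOpenImmersion i) ∨
      UniversallyInjective G.hom) :
    ∃ (M : Over S) (q : X ⟶ M), QuotSh.IsQuotient Scheme.fppfPrecoverage (snd G X) a.act q ∧
      IsPullback a.act.left (snd G X).left q.left q.left ∧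
      NonAbH1.IsLocallyTrivialFor Scheme.fppfPrecoverage (Over.mk q.left) := by
  have hb : ∀ x : X.left, ∃ V : X.left.Opens, IsAffineOpen V ∧
      ∀ r : (G ⊗ X).left, (snd G X).left r = x → a.act.left r ∈ V := by
    intro x
    have key : ∀ r : (G ⊗ X).left, (snd G X).left r = x → X.hom (a.act.left r) = X.hom x := by
      intro r hr
      rw [← hr, ← Scheme.Hom.comp_apply, ← Scheme.Hom.comp_apply, Over.w a.act, Over.w (snd G X)]
    rcases h3 with haff | ⟨R, i, hi⟩ | huinj
    · obtain ⟨W, hW, hxW, -⟩ := exists_isAffineOpen_mem_and_subset (X := S) (x := X.hom x) (U := ⊤) trivial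
      exact ⟨X.hom ⁻¹ᵁ W, hW.preimage X.hom, fun r hr => by
        show X.hom (a.act.left r) ∈ W
        rw [key r hr]
        exact hxW⟩
    · haveI := hi
      haveI : IsFinite (snd G X).left := MorphismProperty.pullback_snd (P := @IsFinite) _ _ hG.1
      let Z : Set (Spec R) := i '' (a.act.left '' ((snd G X).left ⁻¹' {x}))
      have hZ : Z.Finite := (((snd G X).left.finite_preimage_singleton x).image _).image _
      obtain ⟨f, hf, hZf⟩ := QuotLib.exists_basicOpen_of_finite (isAffineOpen_top (Spec R))
        (W := i.opensRange) le_top Z hZ (Set.image_subset_range _ _)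
      refine ⟨i ⁻¹ᵁ (Spec R).basicOpen f, ((isAffineOpen_top (Spec R)).basicOpen f).preimage_of_isOpenImmersion i hf,
        fun r hr => ?_⟩
      exact hZf ⟨_, ⟨r, hr, rfl⟩, rfl⟩
    · haveI : UniversallyInjective (snd G X).left :=
        MorphismProperty.pullback_snd (P := @UniversallyInjective) _ _ huinj
      obtain ⟨V, hV, hxV, -⟩ := exists_isAffineOpen_mem_and_subset (X := X.left) (x := x) (U := ⊤) trivial
      refine ⟨V, hV, fun r hr => ?_⟩
      have he : (snd G X).left ((lift (1 : X ⟶ G) (𝟙 X)).left x) = x := by
        rw [← Scheme.Hom.comp_apply, ← Over.comp_left, lift_snd]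
        rfl
      rw [(snd G X).left.injective (hr.trans he.symm), ← Scheme.Hom.comp_apply, ← Over.comp_left,
        GrpShear.lift_one_act]
      exact hxV
  obtain ⟨M, q, hpb, hsurj, -, hflat, hlfp, -⟩ := ActGrpd.exists_quotient a hG hfree hb
  haveI := hsurj
  haveI := hflat
  haveI := hlfp
  refine ⟨M, q, GrpdLib.isQuotient_of_isPullback (snd G X) a.act q hpb, hpb, Presieve.singleton q.left,
    Scheme.Hom.singleton_mem_fppfPrecoverage q.left, ?_⟩
  rintro S' f ⟨⟩
  exact ⟨𝟙 _, Category.id_comp _⟩

end Groth.Agent.S10245
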