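import Groth.Statements.S10246
import Groth.Agent.AlgSpLib.Descend
import Groth.Agent.AlgSpRegLib.GlobalSec

set_option backward.isDefEq.respectTransparency false
set_option backward.isDefEq.respectTransparency.types false

set_option autoImplicit false
universe u
open CategoryTheory CategoryTheory.Limits AlgebraicGeometry Topology TopologicalSpace
open AlgSp AlgSpLib

namespace Groth.Agent.S10246

/-- Morphisms to an affine scheme over a terminal base correspond to ring maps on global functions. -/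
theorem exists_hom {S : Scheme.{u}} (hS : IsTerminal S) (U T : Over S) [IsAffine T.left]
    (ψ : Γ(T.left, ⊤) →+* Γ(U.left, ⊤)) : ∃ g : U ⟶ T, ∀ r, g.left.appTop r = ψ r := by
  refine ⟨Over.homMk (U.left.toSpecΓ ≫ Spec.map (CommRingCat.ofHom ψ) ≫ T.left.isoSpec.inv) (hS.hom_ext _ _),
    fun r => ?_⟩
  have h : (U.left.toSpecΓ ≫ Spec.map (CommRingCat.ofHom ψ) ≫ T.left.isoSpec.inv).appTop = CommRingCat.ofHom ψ := by
    have e : T.left.isoSpec.inv.appTop = (Scheme.ΓSpecIso Γ(T.left, ⊤)).inv := by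
      haveI : IsIso T.left.toSpecΓ.appTop := by rw [Scheme.toSpecΓ_appTop]; infer_instance
      rw [← cancel_mono T.left.toSpecΓ.appTop, ← Scheme.Hom.comp_appTop, Scheme.toSpecΓ_appTop,
        show T.left.toSpecΓ ≫ T.left.isoSpec.inv = 𝟙 _ from T.left.isoSpec.hom_inv_id]
      simp
    rw [Scheme.Hom.comp_appTop, Scheme.Hom.comp_appTop, e, Scheme.toSpecΓ_appTop, Category.assoc,
      ← Scheme.ΓSpecIso_inv_naturality_assoc]
    simp
  exact ConcreteCategory.congr_hom h r

theorem hom_eq {S : Scheme.{u}} (hS : IsTerminal S) {U T : Over S} [IsAffine T.left] {g g' : U ⟶ T}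
    (h : ∀ r, g.left.appTop r = g'.left.appTop r) : g = g' :=
  Over.OverMorphism.ext (ext_of_isAffine (ConcreteCategory.hom_ext _ _ h))

/-- Let X be an algebraic space over a terminal base scheme (so that morphisms over the base are all
morphisms) and T an affine scheme. Then f ↦ f♯ is a bijection from morphisms X ⟶ T to ring maps Γ(T,
O_T) ⟶ Γ(X, O_X), where Γ(X, O_X) is the ring of global sections of the structure sheaf on the small
etale site and f♯ is characterised by: for every scheme U etale over X, following f♯ by the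
restriction Γ(X, O_X) ⟶ Γ(U, O_U) gives the map on global sections of the induced morphism U ⟶ T. -/
theorem result {S : Scheme.{u}} (hS : IsTerminal S) (X : AlgSp.Space S)
    (T : Over S) [IsAffine T.left] (φ : Γ(T.left, ⊤) →+* ↥(AlgSp.gsectEt (AlgSp.OEt X.obj))) :
    ∃! f : X.obj ⟶ (AlgSp.yon S).obj T,
      ∀ (E : AlgSp.EtOver X.obj) (r : Γ(T.left, ⊤)),
        ((limit.π (AlgSp.OEt X.obj).obj (Opposite.op E)) (φ r)).down =
          ((AlgSp.yon S).preimage (E.obj.hom ≫ f)).left.appTop r := by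
  obtain ⟨U, a, ha, has⟩ := X.property.atlas
  let ψ : ∀ E : AlgSp.EtOver X.obj, Γ(T.left, ⊤) →+* Γ(E.obj.left.left, ⊤) := fun E => (AlgSpRegLib.gsec E).comp φ
  choose g hg using fun E => exists_hom hS E.obj.left T (ψ E)
  have hnat : ∀ {E E' : AlgSp.EtOver X.obj} (k : E ⟶ E'), k.hom.left ≫ g E' = g E := fun {E E'} k => by
    refine hom_eq hS fun r => ?_
    rw [hg, Over.comp_left, Scheme.Hom.comp_appTop, CommRingCat.comp_apply, hg]
    exact AlgSpRegLib.gsec_map k (φ r)
  let E₀ : AlgSp.EtOver X.obj := AlgSp.EtOver.mk a ha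
  have key : ∀ (Z : Over S) (p : Z ⟶ U) (E : AlgSp.EtOver X.obj) (c : Z ⟶ E.obj.left),
      (AlgSp.yon S).map p ≫ a = (AlgSp.yon S).map c ≫ E.obj.hom → p ≫ g E₀ = c ≫ g E := by
    intro Z p E c h
    obtain ⟨W, q, d, sq⟩ : ∃ (W : Over S) (q : W ⟶ U) (d : W ⟶ E.obj.left),
        IsPullback ((AlgSp.yon S).map q) ((AlgSp.yon S).map d) a E.obj.hom := exists_isPullback_yon a E.obj.hom ha.rep
    have hd : RepWith @Etale ((AlgSp.yon S).map d) := AlgSpLib.repWith_of_isPullback sq ha
    let EW : AlgSp.EtOver X.obj :=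
      AlgSp.EtOver.mk ((AlgSp.yon S).map d ≫ E.obj.hom) (MorphismProperty.comp_mem _ _ _ hd E.property)
    let k₁ : EW ⟶ E₀ := AlgSp.EtOver.homMk q sq.w
    let k₂ : EW ⟶ E := AlgSp.EtOver.homMk d rfl
    obtain ⟨l, hl⟩ := (AlgSp.yon S).map_surjective (sq.lift _ _ h)
    have h1 : l ≫ q = p := (AlgSp.yon S).map_injective (by rw [Functor.map_comp, hl, sq.lift_fst])
    have h2 : l ≫ d = c := (AlgSp.yon S).map_injective (by rw [Functor.map_comp, hl, sq.lift_snd])
    rw [← h1, ← h2, Category.assoc, Category.assoc]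
    exact congrArg (l ≫ ·) ((hnat k₁).trans (hnat k₂).symm)
  obtain ⟨f, hf⟩ := AlgSpLib.exists_desc_of_atlas ha has ((AlgSp.yon S).map (g E₀)) fun Z p c h => by
    rw [← Functor.map_comp, ← Functor.map_comp]
    exact congrArg _ (key Z p E₀ c h)
  have hfE : ∀ E : AlgSp.EtOver X.obj, E.obj.hom ≫ f = (AlgSp.yon S).map (g E) := fun E => by
    obtain ⟨W, q, d, sq⟩ : ∃ (W : Over S) (q : W ⟶ U) (d : W ⟶ E.obj.left),
        IsPullback ((AlgSp.yon S).map q) ((AlgSp.yon S).map d) a E.obj.hom := exists_isPullback_yon a E.obj.hom ha.rep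
    haveI : Etale d.left := etale_left (AlgSpLib.repWith_of_isPullback sq ha)
    haveI : Surjective d.left := surjective_left (AlgSpLib.repWith_of_isPullback sq has)
    refine AlgSpLib.eq_of_comp_eq d ?_
    rw [← Category.assoc, ← sq.w, Category.assoc, hf, ← Functor.map_comp, ← Functor.map_comp]
    exact congrArg _ (key W q E d sq.w)
  refine ⟨f, fun E r => ?_, fun f' hf' => ?_⟩
  · rw [hfE E, Functor.preimage_map, hg]
    rfl
  · refine AlgSpLib.hom_ext_of_atlas ha has ?_
    rw [hf]
    obtain ⟨g', hg'⟩ := (AlgSp.yon S).map_surjective (a ≫ f')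
    rw [← hg']
    refine congrArg _ (hom_eq hS fun r => ?_)
    have h := hf' E₀ r
    rw [show E₀.obj.hom ≫ f' = (AlgSp.yon S).map g' from hg'.symm, Functor.preimage_map] at h
    exact h.symm.trans (hg E₀ r).symm

end Groth.Agent.S10246
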