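import Groth.Statements.S10247
import Groth.Agent.AlgSpRegLib.SiteEt
import Groth.Prelude.Def_AlgSpOX
-- import your own Groth.Agent.* helpers here

set_option autoImplicit false
universe u
open CategoryTheory CategoryTheory.Limits AlgebraicGeometry Topology TopologicalSpace
open AlgSp

namespace Groth.Agent.S10247

/-- Let X be an algebraic space over a scheme S. Together with its structure sheaf O_X, the small etale
site of X is a locally ringed site: for every scheme U etale over X and every global function f on U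
there is a covering sieve of U in the small etale site along each of whose arrows f or 1 - f pulls
back to a unit, and whenever 0 = 1 holds in the ring of global functions of U the empty sieve covers
U. -/
theorem result {S : Scheme.{u}} (X : AlgSp.Space S) :
    ModSite.IsLocallyRinged (AlgSp.etTop X.obj) (AlgSp.OEt X.obj) := by
  let sub : ∀ (E : AlgSp.EtOver X.obj) (W : E.obj.left.left.Opens),
      { Z : AlgSp.EtOver X.obj // ∃ g : Z ⟶ E, Set.range g.hom.left.left = (W : Set E.obj.left.left) } := fun E W =>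
    let j : Over.mk (W.ι ≫ E.obj.left.hom) ⟶ E.obj.left := Over.homMk W.ι rfl
    ⟨AlgSp.EtOver.mk ((AlgSp.yon S).map j ≫ E.obj.hom) (AlgSpLib.repWith_comp
      ((repWith_yon_map_iff (P := (@Etale : MorphismProperty Scheme.{u})) j).2 (inferInstanceAs (Etale W.ι))) E.property),
      AlgSp.EtOver.homMk j rfl, Scheme.Opens.range_ι W⟩
  refine ⟨fun U f => ?_, fun U h => ?_⟩
  · let T : Sieve U := ⟨fun V g => IsUnit (((AlgSp.OEt X.obj).obj.map g.op).hom f) ∨
        IsUnit (((AlgSp.OEt X.obj).obj.map g.op).hom (1 - f)), fun {V V'} g hg k => by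
      rw [op_comp, CategoryTheory.Functor.map_comp]
      exact hg.imp (fun h => h.map ((AlgSp.OEt X.obj).obj.map k.op).hom)
        (fun h => h.map ((AlgSp.OEt X.obj).obj.map k.op).hom)⟩
    refine ⟨T, (AlgSpRegLib.mem_etTop_iff T).2 fun e => ?_, fun V g hg => hg⟩
    have key : ∀ (r : Γ(U.obj.left.left, ⊤)), e ∈ U.obj.left.left.basicOpen r →
        ∃ (Z : AlgSp.EtOver X.obj) (g : Z ⟶ U), IsUnit (((AlgSp.OEt X.obj).obj.map g.op).hom (ULift.up r)) ∧
          e ∈ Set.range g.hom.left.left := fun r he => by
      obtain ⟨Z, g, hg⟩ := sub U (U.obj.left.left.basicOpen r)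
      refine ⟨Z, g, ?_, hg ▸ he⟩
      rw [AlgSp.OEt_map g]
      have hb : Z.obj.left.left.basicOpen (g.hom.left.left.appTop.hom r) = ⊤ := by
        rw [← Scheme.preimage_basicOpen_top]
        exact top_le_iff.1 fun z _ => hg.le ⟨z, rfl⟩
      exact (show IsUnit (g.hom.left.left.appTop.hom r) from
        RingedSpace.isUnit_of_isUnit_germ Z.obj.left.left.toRingedSpace ⊤ _ fun z _ =>
          (Scheme.mem_basicOpen_top _ _ z).1 (hb.symm.le (Set.mem_univ z))).map (ULift.ringEquiv.symm : _ ≃+* ULift.{u + 1} _)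
    let fd : Γ(U.obj.left.left, ⊤) := f.down
    by_cases he : e ∈ U.obj.left.left.basicOpen fd
    · obtain ⟨Z, g, hu, heg⟩ := key fd he
      exact ⟨Z, g, Or.inl hu, heg⟩
    · have he' : e ∈ U.obj.left.left.basicOpen (1 - fd) := by
        rw [Scheme.mem_basicOpen_top] at he ⊢
        rw [map_sub, map_one]
        exact IsLocalRing.isUnit_one_sub_self_of_mem_nonunits _ he
      obtain ⟨Z, g, hu, heg⟩ := key (1 - fd) he'
      exact ⟨Z, g, Or.inr hu, heg⟩
  · refine (AlgSpRegLib.mem_etTop_iff _).2 fun e => ?_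
    have h' : (0 : Γ(U.obj.left.left, ⊤)) = 1 := congrArg ULift.down h
    have h1 : U.obj.left.left.basicOpen (0 : Γ(U.obj.left.left, ⊤)) = ⊤ := by
      rw [h']; exact Scheme.basicOpen_of_isUnit _ isUnit_one
    rw [Scheme.basicOpen_zero] at h1
    exact (h1.symm.le (Set.mem_univ e) : e ∈ (⊥ : U.obj.left.left.Opens)).elim

end Groth.Agent.S10247
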