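import Groth.Statements.S10252
import Groth.Agent.ModEtQcLib.EtalePull
import Mathlib.Algebra.Category.ModuleCat.Sheaf.Limits
import Mathlib.Algebra.Category.ModuleCat.Presheaf.Limits
import Mathlib.CategoryTheory.Limits.Preserves.Finite
-- import your own Groth.Agent.* helpers here

set_option autoImplicit false
universe u
open CategoryTheory CategoryTheory.Limits AlgebraicGeometry Topology TopologicalSpace
open AlgSp

namespace Groth.Agent.S10252

/-- Exactness clause, for a representable etale morphism: let f : X ⟶ Y be a representable etale
morphism of algebraic spaces over a scheme S. Then the pullback functor f^* from O_Y-modules to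
O_X-modules on the small etale sites is exact: it preserves finite limits (finite colimits being
preserved because it is a left adjoint). (The published statement is for every etale morphism of
algebraic spaces and also identifies f^* with restriction along the functor (U ⟶ X) ↦ (U ⟶ X ⟶ Y);
this row records exactness for representable f, where f^* is the left adjoint of the direct image V
↦ (V ×_Y X).) -/
theorem result {S : Scheme.{u}} {X Y : AlgSp.Space S} (f : X ⟶ Y)
    (hrep : AlgSp.Representable f.hom) (hf : AlgSp.IsEtaleMor f.hom)
    [(SheafOfModules.pushforward.{u + 1} (AlgSp.bcRingHom hrep)).IsRightAdjoint] :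
    PreservesFiniteLimits (AlgSp.pullModEt hrep) := by
  let G := SheafOfModules.toSheaf.{u + 1} (AlgSp.OEtRing X.obj) ⋙ sheafToPresheaf (AlgSp.etTop X.obj) AddCommGrpCat.{u + 1}
  let W := (Functor.whiskeringLeft _ _ AddCommGrpCat.{u + 1}).obj (AlgSp.EtOver.postcomp f.hom hf).op
  haveI : PreservesFiniteLimits W := inferInstance
  haveI : PreservesFiniteLimits (ModEtQc.resEt hf ⋙ G) :=
    inferInstanceAs (PreservesFiniteLimits ((SheafOfModules.toSheaf.{u + 1} (AlgSp.OEtRing Y.obj) ⋙
      sheafToPresheaf (AlgSp.etTop Y.obj) AddCommGrpCat.{u + 1}) ⋙ W))
  haveI : G.ReflectsIsomorphisms := inferInstance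
  haveI : ReflectsFiniteLimits G := inferInstance
  haveI : PreservesFiniteLimits (ModEtQc.resEt hf) := ⟨fun J _ _ => preservesLimitsOfShape_of_reflects_of_preserves _ G⟩
  exact preservesFiniteLimits_of_natIso (ModEtQc.pullIsoRes hf hrep).symm

end Groth.Agent.S10252
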