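import Groth.Statements.S10255
import Groth.Agent.ProjPullEtLib.Pull
-- import your own Groth.Agent.* helpers here

set_option autoImplicit false
set_option backward.isDefEq.respectTransparency false
set_option backward.isDefEq.respectTransparency.types false
universe u
open CategoryTheory CategoryTheory.Limits AlgebraicGeometry Topology TopologicalSpace
open AlgSp

namespace Groth.Agent.S10255

/-- For a representable morphism: let f : X ⟶ Y be a representable morphism of algebraic spaces over a
scheme S and G a quasi-coherent O_Y-module on the small etale site of Y, with u-small modules of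
sections over the affine objects of that site, which is locally projective (for every scheme V etale
over Y the restriction of G to the Zariski site of V has projective modules of sections over all
affine opens). Then the pullback f^*G is locally projective on X: for every scheme U etale over X
the restriction of f^*G to the Zariski site of U has projective modules of sections over all affine
opens. (The published statement is for an arbitrary morphism of algebraic spaces; this row takes f
representable, where f^* is the left adjoint of the direct image V ↦ (V ×_Y X) on modules on the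
small etale sites with scheme objects. Modules on these sites take values one universe up, so the
smallness of sections is stated as a hypothesis; without it the local-projectivity hypothesis,
phrased through Zariski companions with u-small sections, can be vacuous.) -/
theorem result {S : Scheme.{u}} {X Y : AlgSp.Space S} (f : X ⟶ Y)
    (hrep : AlgSp.Representable f.hom)
    [(SheafOfModules.pushforward.{u + 1} (AlgSp.bcRingHom hrep)).IsRightAdjoint]
    (G : AlgSp.ModEt Y.obj) (hG : G.IsQuasicoherent)
    (hsmall : ∀ E : AlgSp.EtOver Y.obj, IsAffine E.obj.left.left → Small.{u} (AlgSp.sectModEt G E))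
    (hproj : ∀ {V : Over S} (q : (AlgSp.yon S).obj V ⟶ Y.obj) (hrepq : AlgSp.Representable q)
      [(SheafOfModules.pushforward.{u + 1} (AlgSp.bcRingHom hrepq)).IsRightAdjoint]
      (H : V.left.Modules) [Coh.IsQCoh H]
      (c : AlgSp.ZarCompanion V.left H ((AlgSp.resSchModEt V).obj ((AlgSp.pullModEt hrepq).obj G)))
      (W : V.left.Opens), AlgSp.RepWith @Etale q → IsAffineOpen W →
        Module.Projective (V.left.ringCatSheaf.obj.obj (Opposite.op W)) (H.val.obj (Opposite.op W)))
    {U : Over S} (p : (AlgSp.yon S).obj U ⟶ X.obj) (hrepp : AlgSp.Representable p)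
    (hp : AlgSp.RepWith @Etale p)
    [(SheafOfModules.pushforward.{u + 1} (AlgSp.bcRingHom hrepp)).IsRightAdjoint]
    (H' : U.left.Modules) [Coh.IsQCoh H']
    (c' : AlgSp.ZarCompanion U.left H'
      ((AlgSp.resSchModEt U).obj ((AlgSp.pullModEt hrepp).obj ((AlgSp.pullModEt hrep).obj G))))
    (W : U.left.Opens) (hW : IsAffineOpen W) :
    Module.Projective (U.left.ringCatSheaf.obj.obj (Opposite.op W)) (H'.val.obj (Opposite.op W)) := by
  haveI : G.IsQuasicoherent := hG
  have hGbc : ModEtQc.BC G := ModEtQc.bc_of_isQuasicoherent G
  haveI : ((AlgSp.pullModEt hrep).obj G).IsQuasicoherent := ModEtQc.isQuasicoherent_pull hrep G Y.property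
  have hPbc := ModEtQc.bc_of_isQuasicoherent ((AlgSp.pullModEt hrep).obj G)
  have hGp : ∀ E : AlgSp.EtOver Y.obj, IsAffine E.obj.left.left →
      Module.Projective (ModEtQc.Ring E) (ModEtQc.sec G E) := by
    intro E hE
    haveI : (SheafOfModules.pushforward.{u + 1} (AlgSp.bcRingHom E.property.1)).IsRightAdjoint :=
      ModEtQc.isRightAdjoint_push E.property.1
    haveI : ∀ W : E.obj.left.left.Opens, Small.{u} (ModEtQc.sec G (ModEtQc.chartObj E.property W)) :=
      fun W => ProjPullEtLib.small_sec G hsmall _
    haveI := ProjPullEtLib.isQCoh_zarMod E.property G hGbc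
    obtain ⟨c⟩ := ProjPullEtLib.nonempty_companion E.property G E.property.1
    have h := (ModEtQc.projective_chart_iff E.property E.property.1 G (ProjPullEtLib.zarMod E.property G) c ⊤).1
      (hproj E.obj.hom E.property.1 (ProjPullEtLib.zarMod E.property G) c ⊤ E.property (isAffineOpen_top _))
    haveI : IsAffine (ModEtQc.chartObj E.property (⊤ : E.obj.left.left.Opens)).obj.left.left :=
      ModEtQc.isAffine_chartObj E.property (isAffineOpen_top _)
    haveI := hE
    refine ModEtQc.projective_sec_map G hGbc (AlgSp.EtOver.homMk (Over.homMk E.obj.left.left.topIso.inv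
      (show E.obj.left.left.topIso.inv ≫ (⊤ : E.obj.left.left.Opens).ι ≫ E.obj.left.hom = E.obj.left.hom by
        simp)) ?_) h
    change (AlgSp.yon S).map _ ≫ (AlgSp.yon S).map _ ≫ E.obj.hom = E.obj.hom
    refine (Category.assoc _ _ _).symm.trans ?_
    rw [← Functor.map_comp]
    convert Category.id_comp E.obj.hom
    refine Eq.trans (congrArg _ (Over.OverMorphism.ext ?_)) ((AlgSp.yon S).map_id _)
    simp
  haveI : IsAffine (ModEtQc.chartObj hp W).obj.left.left := ModEtQc.isAffine_chartObj hp hW
  exact (ModEtQc.projective_chart_iff hp hrepp ((AlgSp.pullModEt hrep).obj G) H' c' W).2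
    (ProjPullEtLib.projective_pull hrep G X.property Y.property hGbc hPbc hGp (ModEtQc.chartObj hp W))

end Groth.Agent.S10255
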