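import Groth.Statements.S10256
import Groth.Agent.AlgSpRegLib.EnoughPoints
-- import your own Groth.Agent.* helpers here

set_option autoImplicit false
universe u
open CategoryTheory CategoryTheory.Limits AlgebraicGeometry Topology TopologicalSpace
open AlgSp

namespace Groth.Agent.S10256

/-- Let X be an algebraic space over a scheme S, F an abelian sheaf on the small etale site of X and x ∈
|X|. Then x lies in the support of F, in the sense that the stalk F_x̄ is nonzero for some geometric
point x̄ over x, if and only if x is the image of a point u of some U etale over X lying in the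
support of some section σ ∈ F(U), i.e. such that σ does not restrict to zero on any V ⟶ U whose
image contains u. (The published definition of the support allows any, equivalently some, geometric
point over x; this row uses the existential form and does not assert that the two readings agree.) -/
theorem result {S : Scheme.{u}} (X : AlgSp.Space S) (F : AlgSp.AbEt X.obj)
    (x : AlgSp.Points X.obj) :
    (∃ p : AlgSp.FieldPt X.obj, p.IsGeometric ∧ AlgSp.Points.mk p = x ∧ ¬ IsZero (AlgSp.stalkEt p F)) ↔
      ∃ (U : AlgSp.EtOver X.obj) (σ : ↥(F.obj.obj (Opposite.op U))) (u : ↥U.obj.left.left),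
        AlgSp.Points.ofPt U.obj.hom u = x ∧
          ∀ (V : AlgSp.EtOver X.obj) (φ : V ⟶ U), (F.obj.map φ.op).hom σ = 0 →
            u ∉ Set.range (fun v => φ.hom.left.left v) := by
  constructor
  · rintro ⟨p, hp, rfl, hF⟩
    haveI := AlgSpLib.isCofiltered_etNbhd X.property p hp
    haveI : PreservesFilteredColimitsOfSize.{u, u + 1} (forget AddCommGrpCat.{u + 1}) :=
      preservesFilteredColimitsOfSize_of_univLE.{u + 1, u + 1, u, u + 1} (forget AddCommGrpCat.{u + 1})
    by_contra hcon
    apply hF
    rw [AddCommGrpCat.isZero_iff_subsingleton]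
    refine subsingleton_of_forall_eq 0 fun z => ?_
    obtain ⟨⟨⟨E, l⟩⟩, σ, rfl⟩ := Concrete.colimit_exists_rep (AlgSp.stalkEtDiagram p F) z
    refine (AlgSpRegLib.stalkι_eq_zero_iff_mem X.property p hp F ⟨E, l⟩ σ).2 ?_
    by_contra hno
    refine hcon ⟨E, σ, l.1.left (IsLocalRing.closedPoint p.K), ?_, fun V φ hφ hmem => hno ⟨V, φ, hφ, hmem⟩⟩
    have hl2 : (AlgSp.yon S).map l.1 ≫ E.obj.hom = p.toHom := l.2
    have h1 := AlgSpLib.ofPt_yon_comp l.1 E.obj.hom (IsLocalRing.closedPoint p.K)
    rw [hl2] at h1
    exact h1.symm.trans (AlgSp.Points.ofPt_toHom p _)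
  · rintro ⟨U, σ, u, rfl, hu⟩
    obtain ⟨p, hp, l, hl, hx⟩ := AlgSpRegLib.exists_geometric_over U u
    refine ⟨p, hp, hx, fun hz => ?_⟩
    rw [AddCommGrpCat.isZero_iff_subsingleton] at hz
    obtain ⟨Z, g, hg, hmem⟩ := (AlgSpRegLib.stalkι_eq_zero_iff_mem X.property p hp F ⟨U, l⟩ σ).1
      (Subsingleton.elim _ _)
    rw [hl] at hmem
    exact hu Z g hg hmem

end Groth.Agent.S10256
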