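import Groth.Statements.S10257
import Groth.Agent.AlgSpRegLib.EnoughPoints
-- import your own Groth.Agent.* helpers here

set_option autoImplicit false
universe u
open CategoryTheory CategoryTheory.Limits AlgebraicGeometry Topology TopologicalSpace
open AlgSp

namespace Groth.Agent.S10257

/-- Let X be an algebraic space over a scheme S and O' a sheaf of commutative rings on the small etale
site of X. Then the support of O', the set of points x ∈ |X| such that the stalk O'_x̄ is not the
zero ring for some geometric point x̄ over x, is closed in |X|. (The published definition of the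
support allows any, equivalently some, geometric point over x; this row uses the existential form
and does not assert that the two readings agree.) -/
theorem result {S : Scheme.{u}} (X : AlgSp.Space S)
    (O' : AlgSp.EtSh X.obj CommRingCat.{u + 1}) :
    IsClosed {x : AlgSp.Points X.obj |
      ∃ p : AlgSp.FieldPt X.obj, p.IsGeometric ∧ AlgSp.Points.mk p = x ∧ Nontrivial ↥(AlgSp.stalkEt p O')} := by
  rw [← isOpen_compl_iff]
  refine isOpen_iff_forall_mem_open.2 fun x hx => ?_
  obtain ⟨U₀, a, ha, has⟩ := X.property.atlas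
  obtain ⟨e₀, rfl⟩ := AlgSpLib.surjective_ofPt has x
  haveI : PreservesFilteredColimitsOfSize.{u, u + 1} (forget CommRingCat.{u + 1}) :=
    preservesFilteredColimitsOfSize_of_univLE.{u + 1, u + 1, u, u + 1} (forget CommRingCat.{u + 1})
  let U : AlgSp.EtOver X.obj := AlgSp.EtOver.mk a ha
  obtain ⟨p, hp, l, hl, hx'⟩ := AlgSpRegLib.exists_geometric_over U e₀
  haveI := AlgSpLib.isCofiltered_etNbhd X.property p hp
  have h0 : (AlgSp.stalkEtι p O' ⟨U, l⟩).hom 1 = (AlgSp.stalkEtι p O' ⟨U, l⟩).hom 0 := by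
    haveI : Subsingleton ↥(AlgSp.stalkEt p O') :=
      not_nontrivial_iff_subsingleton.1 fun hn => hx ⟨p, hp, hx', hn⟩
    exact Subsingleton.elim _ _
  obtain ⟨k, i₁, i₂, e⟩ := Concrete.colimit_exists_of_rep_eq (AlgSp.stalkEtDiagram p O')
    (i := Opposite.op ⟨U, l⟩) (j := Opposite.op ⟨U, l⟩) _ _ h0
  let E := k.unop.1
  have hE : (1 : ↥(O'.obj.obj (Opposite.op E))) = 0 :=
    (map_one _).symm.trans (e.trans (map_zero _))
  refine ⟨Set.range (AlgSp.Points.ofPt E.obj.hom), ?_, ?_, ?_⟩
  · rintro _ ⟨v, rfl⟩ ⟨q, hq, hqv, hn⟩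
    haveI := AlgSpLib.isCofiltered_etNbhd X.property q hq
    obtain ⟨m, hm, -⟩ := AlgSpLib.exists_geometric_lift (IsAlgSpace.yon_obj E.obj.left) X.property E.obj.hom
      (AlgSpLib.isEtaleMor_of_repWith E.property) q hq (AlgSp.Points.schemeHomeo E.obj.left v) (by
        rw [hqv, AlgSpLib.ofPt_comp_ofScheme]; rfl)
    obtain ⟨m', rfl⟩ := (AlgSp.yon S).map_surjective m
    have h1 := congrArg (AlgSp.stalkEtι q O' ⟨E, ⟨m', hm⟩⟩).hom hE
    rw [map_one, map_zero] at h1
    exact one_ne_zero h1
  · exact (AlgSpLib.isOpenMap_ofPt E.property).isOpen_range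
  · refine ⟨k.unop.2.1.left (IsLocalRing.closedPoint p.K), ?_⟩
    rw [← AlgSpLib.ofPt_yon_comp, k.unop.2.2, AlgSp.Points.ofPt_toHom, hx']
    rfl

end Groth.Agent.S10257
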