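import Groth.Statements.S10269
import Groth.Agent.AlgSpLib.MorPack

set_option autoImplicit false
universe u
open CategoryTheory CategoryTheory.Limits AlgebraicGeometry
open AlgSp

namespace Groth.Agent.S10269

/-- A finite morphism of algebraic spaces is integral; an integral morphism locally of finite type is
finite. -/
theorem result {S : Scheme.{u}} {X Y : AlgSp.Space S} (f : X ⟶ Y) :
    (AlgSp.IsFiniteMor f.hom → AlgSp.IsIntegralMor f.hom) ∧
    (AlgSp.IsIntegralMor f.hom → AlgSp.LocP @LocallyOfFiniteType f.hom → AlgSp.IsFiniteMor f.hom) := by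
  refine ⟨fun h => AlgSpLib.isIntegralMor_iff.2 (AlgSpLib.repWith_mono
      (fun _ _ g (_ : IsFinite g) => (inferInstance : IsIntegralHom g)) (AlgSpLib.isFiniteMor_iff.1 h)),
    fun h h' => AlgSpLib.isFiniteMor_iff.2 ?_⟩
  have hr := AlgSpLib.isIntegralMor_iff.1 h
  exact ⟨hr.rep, fun T W g fst snd sq => (IsFinite.iff_isIntegralHom_and_locallyOfFiniteType _).2
    ⟨hr.property g fst snd sq, (AlgSpLib.repWith_of_locP Y.property hr.rep h').property g fst snd sq⟩⟩

end Groth.Agent.S10269
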