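import Groth.Statements.S10277
import Groth.Agent.AlgSpLib.Sep
import Groth.Agent.S9922

set_option autoImplicit false
universe u
open CategoryTheory CategoryTheory.Limits AlgebraicGeometry
open AlgSp

namespace Groth.Agent.S10277

/-- A closed immersion of algebraic spaces is proper. -/
theorem result {S : Scheme.{u}} {X Y : AlgSp.Space S} (i : X ⟶ Y)
    (hi : AlgSp.RepWith @IsClosedImmersion i.hom) : AlgSp.IsProperMor i.hom := by
  haveI : Mono i.hom := AlgSpLib.mono_of_repWith (fun g (_ : IsClosedImmersion g) => inferInstance) hi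
  exact ⟨AlgSpLib.repWith_of_isIso _,
    ⟨AlgSpLib.locP_of_repWith (AlgSpLib.repWith_mono
      (fun _ _ g (_ : IsClosedImmersion g) => (inferInstance : LocallyOfFiniteType g)) hi),
      AlgSpLib.isQuasiCompactMor_of_repWith X.property Y.property (AlgSpLib.repWith_mono
        (fun _ _ g (_ : IsClosedImmersion g) => (inferInstance : QuasiCompact g)) hi)⟩,
    (Groth.Agent.S9922.result i hi.rep).1 (AlgSpLib.repWith_mono
      (fun _ _ g (_ : IsClosedImmersion g) => (inferInstance : UniversallyClosed g)) hi)⟩

end Groth.Agent.S10277
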