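import Groth.Statements.S10281
import Groth.Agent.AlgSpRegLib.ProperCover
-- import your own Groth.Agent.* helpers here

set_option autoImplicit false
universe u
open CategoryTheory CategoryTheory.Limits AlgebraicGeometry
open AlgSp

namespace Groth.Agent.S10281

/-- The scheme theoretic image of a space proper over B in a space separated and locally of finite type
over B is proper over B, and the source surjects onto it. -/
theorem result {S : Scheme.{u}} {X Y Z B : AlgSp.Space S} (h : X ⟶ Y) (f : X ⟶ B)
    (g : Y ⟶ B) (comm : h ≫ g = f) (hf : AlgSp.IsProperMor f.hom) (hg : AlgSp.IsSeparatedMor g.hom)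
    (hg' : AlgSp.LocP @LocallyOfFiniteType g.hom) (i : Z ⟶ Y) (hZ : AlgSp.IsSchImage h.hom i.hom)
    (h' : X ⟶ Z) (fac : h' ≫ i = h) :
    AlgSp.IsProperMor (i ≫ g).hom ∧ AlgSp.IsSurjectiveMor h'.hom := by
  haveI : AlgSpLib.EtLocProp (@LocallyOfFiniteType : MorphismProperty Scheme.{u}) := AlgSpLib.etLocProp_of_list (by simp)
  have e : h.hom ≫ g.hom = f.hom := congrArg (fun k => k.hom) comm
  have e' : h'.hom ≫ i.hom = h.hom := congrArg (fun k => k.hom) fac
  have hh : AlgSp.IsProperMor h.hom := AlgSpLib.isProperMor_of_comp X.property Y.property B.property hg (e ▸ hf)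
  haveI := AlgSpRegLib.mono_of_closedImmersion hZ.1
  have hr : Set.range (Points.map i.hom) ⊆ Set.range (Points.map h.hom) := by
    refine (AlgSpRegLib.range_le_closure_of_isSchImage X.property Y.property hh.2.1.2 hZ).trans ?_
    rw [IsClosed.closure_eq]
    rw [← Set.image_univ]
    exact AlgSpLib.isClosedMap_of_isUnivClosedMor Y.property hh.2.2 _ isClosed_univ
  have hs : Function.Surjective (Points.map h'.hom) := fun w => by
    obtain ⟨x, hx⟩ := hr ⟨w, rfl⟩
    exact ⟨x, AlgSpLib.injective_map_of_mono i.hom (by rw [← Points.map_comp, e', hx])⟩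
  refine ⟨?_, hs⟩
  refine AlgSpRegLib.isProperMor_of_cover (ι := PUnit.{1}) (fun _ => h'.hom) (fun w => ⟨⟨⟩, hs w⟩) Z.property B.property
    (fun _ => X.property) (AlgSpLib.locP_comp Z.property Y.property B.property (AlgSpLib.locP_of_repWith
      (AlgSpLib.repWith_mono (fun _ _ g (_ : IsClosedImmersion g) => (inferInstance : LocallyOfFiniteType g)) hZ.1)) hg')
    (fun _ => AlgSpLib.univClosed_of_comp X.property Z.property Y.property (g := i.hom) (AlgSpLib.repWith_of_isIso _)
      (e' ▸ hh.2.2)) fun _ => ?_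
  show AlgSp.IsProperMor (h'.hom ≫ i.hom ≫ g.hom)
  rw [← Category.assoc, e', e]
  exact hf

end Groth.Agent.S10281
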