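import Groth.Statements.S10292
import Groth.Agent.AlgSpLib.ValExist

set_option autoImplicit false
set_option backward.isDefEq.respectTransparency false
set_option backward.isDefEq.respectTransparency.types false
set_option backward.isDefEq.respectTransparency false
set_option backward.isDefEq.respectTransparency.types false
universe u
open CategoryTheory CategoryTheory.Limits AlgebraicGeometry
open AlgSp

namespace Groth.Agent.S10292

/-- Along a flat morphism of algebraic spaces, a morphism from the spectrum of a valuation ring to the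
target whose closed point is hit lifts to the source after an extension of valuation rings
(injective and local). -/
theorem result {S : Scheme.{u}} {X Y : AlgSp.Space S} (f : X ⟶ Y)
    (hf : AlgSp.LocP @Flat f.hom) (A : Type u) [CommRing A] [IsDomain A] [ValuationRing A]
    (str : Spec (.of A) ⟶ S) (b : (AlgSp.yon S).obj (Over.mk str) ⟶ Y.obj)
    (hb : AlgSp.Points.ofPt b (IsLocalRing.closedPoint A) ∈ Set.range (AlgSp.Points.map f.hom)) :
    ∃ (A' : Type u) (_ : CommRing A') (_ : IsDomain A') (_ : ValuationRing A') (φ : A →+* A'),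
      Function.Injective φ ∧ IsLocalHom φ ∧
      ∃ l : (AlgSp.yon S).obj (Over.mk (Spec.map (CommRingCat.ofHom φ) ≫ str)) ⟶ X.obj,
        l ≫ f.hom = (AlgSp.yon S).map (Over.homMk (Spec.map (CommRingCat.ofHom φ)) rfl :
          Over.mk (Spec.map (CommRingCat.ofHom φ) ≫ str) ⟶ Over.mk str) ≫ b := by
  obtain ⟨x, hx⟩ := hb
  obtain ⟨U, a, ha, has⟩ := X.property.atlas
  obtain ⟨u, rfl⟩ := AlgSpLib.surjective_ofPt has x
  rw [Points.map_ofPt] at hx
  have hrep := Y.property.representable_from_yon (a ≫ f.hom)
  obtain ⟨W, wU, wA, sq⟩ := AlgSpLib.exists_isPullback_yon (a ≫ f.hom) b hrep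
  have hflat : AlgSp.LocP @Flat (a ≫ f.hom) := AlgSpLib.locP_comp (IsAlgSpace.yon_obj U) X.property Y.property
    (AlgSpLib.locP_of_repWith (AlgSpLib.repWith_mono (fun _ _ g (_ : Etale g) => (inferInstance : Flat g)) ha)) hf
  haveI : Flat wA.left := (repWith_yon_map_iff (P := (@Flat : MorphismProperty Scheme.{u})) wA).1
    (AlgSpLib.repWith_of_isPullback sq (AlgSpLib.repWith_of_locP Y.property hrep hflat))
  obtain ⟨w, -, hw⟩ := (AlgSpLib.ofPt_eq_ofPt_iff sq u (IsLocalRing.closedPoint A)).1 hx
  let η : PrimeSpectrum A := ⟨⊥, Ideal.isPrime_bot⟩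
  have hη : η ⤳ wA.left w := (PrimeSpectrum.le_iff_specializes η _).1 (bot_le (α := Ideal A))
  obtain ⟨w', hspec, hw'⟩ := Flat.generalizingMap (f := wA.left) hη
  let ρ : W.left.presheaf.stalk w ⟶ W.left.residueField w' :=
    W.left.presheaf.stalkSpecializes hspec ≫ W.left.residue w'
  obtain ⟨A', hA, hAloc⟩ := IsLocalRing.exists_factor_valuationRing ρ.hom
  let σ : W.left.presheaf.stalk w ⟶ .of A' := CommRingCat.ofHom (ρ.hom.codRestrict _ hA)
  have hσ : Spec.map (CommRingCat.ofHom (algebraMap A' (W.left.residueField w'))) ≫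
      Spec.map σ ≫ W.left.fromSpecStalk w = W.left.fromSpecResidueField w' := by
    rw [Scheme.fromSpecResidueField, ← Scheme.SpecMap_stalkSpecializes_fromSpecStalk hspec]
    simp_rw [← Spec.map_comp_assoc]
    rfl
  obtain ⟨φ, hφ⟩ := Spec.map_surjective (R := .of A) (S := .of A')
    (Spec.map σ ≫ W.left.fromSpecStalk w ≫ wA.left)
  have hloc : IsLocalHom φ.hom := by
    have h2 : Spec.map σ (IsLocalRing.closedPoint A') = IsLocalRing.closedPoint (W.left.presheaf.stalk w) :=
      IsLocalRing.comap_closedPoint (S := A') (ρ.hom.codRestrict A'.toSubring hA)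
    have h1 : PrimeSpectrum.comap φ.hom (IsLocalRing.closedPoint A') = IsLocalRing.closedPoint A := by
      change Spec.map φ (IsLocalRing.closedPoint A') = _
      rw [hφ, Scheme.Hom.comp_apply, Scheme.Hom.comp_apply, h2, W.left.fromSpecStalk_closedPoint]
      exact hw
    exact ((IsLocalRing.local_hom_TFAE φ.hom).out 0 4).2 (congrArg PrimeSpectrum.asIdeal h1)
  have hinj : Function.Injective φ.hom := by
    let κ := IsLocalRing.closedPoint (W.left.residueField w')
    have h1 : (Spec.map (φ ≫ CommRingCat.ofHom (algebraMap A' (W.left.residueField w')))) κ = η := by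
      rw [Spec.map_comp, hφ, reassoc_of% hσ, Scheme.Hom.comp_apply]
      exact (congrArg _ (W.left.fromSpecResidueField_apply w' κ)).trans hw'
    refine (injective_iff_map_eq_zero φ.hom).2 fun r hr => ?_
    have : r ∈ η.asIdeal := by
      rw [← h1]
      show algebraMap A' (W.left.residueField w') (φ.hom r) ∈ κ.asIdeal
      rw [hr, map_zero]
      exact zero_mem _
    exact (Submodule.mem_bot A).1 this
  let lu : Over.mk (Spec.map φ ≫ str) ⟶ W := Over.homMk (Spec.map σ ≫ W.left.fromSpecStalk w) (by
    change _ = Spec.map φ ≫ str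
    rw [hφ, Category.assoc, Category.assoc, Category.assoc]
    exact congrArg (fun m => Spec.map σ ≫ W.left.fromSpecStalk w ≫ m) (Over.w wA).symm)
  refine ⟨A', inferInstance, inferInstance, inferInstance, φ.hom, hinj, hloc,
    (yon S).map lu ≫ (yon S).map wU ≫ a, ?_⟩
  rw [Category.assoc, Category.assoc, sq.w, ← Functor.map_comp_assoc]
  congr 2
  exact Over.OverMorphism.ext (by rw [Over.comp_left]; exact (Category.assoc _ _ _).trans hφ.symm)

end Groth.Agent.S10292
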