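import Groth.Statements.S10294
import Groth.Agent.AlgSpLib.MorPack
import Groth.Agent.AlgSpLib.Noeth

set_option autoImplicit false
universe u
open CategoryTheory CategoryTheory.Limits AlgebraicGeometry
open AlgSp

namespace Groth.Agent.S10294

/-- Finite locally free is the same as finite, flat and locally of finite presentation; over a locally
Noetherian target it is the same as finite and flat. -/
theorem result {S : Scheme.{u}} {X Y : AlgSp.Space S} (f : X ⟶ Y) :
    (AlgSp.IsFinLocFreeMor f.hom ↔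
      (AlgSp.IsFiniteMor f.hom ∧ AlgSp.LocP @Flat f.hom ∧ AlgSp.LocP @LocallyOfFinitePresentation f.hom)) ∧
    (AlgSp.IsLocNoethSp Y.obj →
      (AlgSp.IsFinLocFreeMor f.hom ↔ (AlgSp.IsFiniteMor f.hom ∧ AlgSp.LocP @Flat f.hom))) := by
  have key : AlgSp.IsFinLocFreeMor f.hom ↔
      (AlgSp.IsFiniteMor f.hom ∧ AlgSp.LocP @Flat f.hom ∧ AlgSp.LocP @LocallyOfFinitePresentation f.hom) := by
    constructor
    · exact fun h => ⟨AlgSpLib.isFiniteMor_iff.2 (AlgSpLib.repWith_mono (fun _ _ _ hg => hg.1) h),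
        AlgSpLib.locP_of_repWith (AlgSpLib.repWith_mono (fun _ _ _ hg => hg.2.1) h),
        AlgSpLib.locP_of_repWith (AlgSpLib.repWith_mono (fun _ _ _ hg => hg.2.2) h)⟩
    · rintro ⟨h1, h2, h3⟩
      have h1' := AlgSpLib.isFiniteMor_iff.1 h1
      have h2' := AlgSpLib.repWith_of_locP Y.property h1'.rep h2
      have h3' := AlgSpLib.repWith_of_locP Y.property h1'.rep h3
      exact ⟨h1'.rep, fun _ _ g fst snd sq =>
        ⟨h1'.property g fst snd sq, h2'.property g fst snd sq, h3'.property g fst snd sq⟩⟩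
  refine ⟨key, fun hY => key.trans ⟨fun h => ⟨h.1, h.2.1⟩, fun h => ⟨h.1, h.2, ?_⟩⟩⟩
  exact AlgSpLib.locP_lfp_of_lft hY (AlgSpLib.locP_of_repWith
    (AlgSpLib.repWith_mono (fun _ _ g (_ : IsFinite g) => (inferInstance : LocallyOfFiniteType g))
      (AlgSpLib.isFiniteMor_iff.1 h.1)))

end Groth.Agent.S10294
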