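import Groth.Statements.S10296
import Groth.Agent.NormSpLib.Main

set_option autoImplicit false
set_option backward.isDefEq.respectTransparency false
set_option backward.isDefEq.respectTransparency.types false
universe u
open CategoryTheory CategoryTheory.Limits AlgebraicGeometry
open AlgSp

namespace Groth.Agent.S10296

/-- The induced morphism from the normalization of X in Y to any integral Z -> X through which Y -> X
factors is the normalization of Z in Y. -/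
theorem result {S : Scheme.{u}} {Y X X' Z : AlgSp.Space S} (f : Y ⟶ X)
    (hqc : AlgSp.IsQuasiCompactMor f.hom) (hqs : AlgSp.IsQuasiSeparatedMor f.hom) (ν : X' ⟶ X) (f' : Y ⟶ X')
    (hn : AlgSp.IsRelNormalization f.hom ν.hom f'.hom) (π : Z ⟶ X) (hπ : AlgSp.IsIntegralMor π.hom) (g : Y ⟶ Z)
    (hg : g ≫ π = f) (h : X' ⟶ Z) (h1 : f' ≫ h = g) (h2 : h ≫ π = ν) :
    AlgSp.IsRelNormalization g.hom h.hom f'.hom := by
  obtain ⟨hfac, hνi, hu⟩ := hn
  have hg' : g.hom ≫ π.hom = f.hom := congrArg (fun k : Y ⟶ X => k.hom) hg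
  have h1' : f'.hom ≫ h.hom = g.hom := congrArg (fun k : Y ⟶ Z => k.hom) h1
  have h2' : h.hom ≫ π.hom = ν.hom := congrArg (fun k : X' ⟶ X => k.hom) h2
  have hπ' := AlgSpLib.isIntegralMor_iff.1 hπ
  have hint : AlgSp.IsIntegralMor h.hom := AlgSpLib.isIntegralMor_iff.2
    (AlgSpLib.repWith_of_comp (fun _ _ k (_ : IsClosedImmersion k) => (inferInstance : IsIntegralHom k))
      (AlgSpLib.isSeparatedMor_of_repWith
        (AlgSpLib.repWith_mono (fun _ _ k (_ : IsIntegralHom k) => (inferInstance : IsSeparated k)) hπ'))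
      (h2'.symm ▸ AlgSpLib.isIntegralMor_iff.1 hνi))
  refine ⟨h1', hint, fun Z₂ hZ₂ π₂ g₂ hπ₂ hg₂ => ?_⟩
  have hπ₂' : AlgSp.IsIntegralMor (π₂ ≫ π.hom) :=
    AlgSpLib.isIntegralMor_iff.2 (AlgSpLib.repWith_comp (AlgSpLib.isIntegralMor_iff.1 hπ₂) hπ')
  have hfac₂ : g₂ ≫ π₂ ≫ π.hom = f.hom := by rw [← Category.assoc, hg₂, hg']
  obtain ⟨k, ⟨hk₁, hk₂⟩, hku⟩ := hu hZ₂ (π₂ ≫ π.hom) g₂ hπ₂' hfac₂
  refine ⟨k, ⟨hk₁, (hu Z.property π.hom g.hom hπ hg').unique ⟨?_, ?_⟩ ⟨h1', h2'⟩⟩, fun k' hk' => hku k' ⟨hk'.1, ?_⟩⟩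
  · rw [← Category.assoc, hk₁, hg₂]
  · rw [Category.assoc]; exact hk₂
  · rw [← Category.assoc, hk'.2, h2']

end Groth.Agent.S10296
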