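import Groth.Statements.S10299
import Groth.Agent.NormSpLib.ChartInj
import Groth.Agent.AlgSpLib.AffineDescent
import Groth.Agent.S0573
import Groth.Agent.S0566

set_option autoImplicit false
set_option backward.isDefEq.respectTransparency false
set_option backward.isDefEq.respectTransparency.types false
universe u
open CategoryTheory CategoryTheory.Limits AlgebraicGeometry
open AlgSp

namespace Groth.Agent.S10299

/-- Over a Nagata algebraic space, the normalization of the target in a reduced source of finite type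
and quasi-separated over it is finite. -/
theorem result {S : Scheme.{u}} {X Y Y' : AlgSp.Space S} (f : X ⟶ Y)
    (hY : AlgSp.EtaleLocally (fun U => ∀ V : U.Opens, IsAffineOpen V → CAlg.IsNagata ↑Γ(U, V)) Y.obj)
    (hqs : AlgSp.IsQuasiSeparatedMor f.hom) (hft : AlgSp.IsFiniteTypeMor f.hom)
    (hX : AlgSp.EtaleLocally (fun U => IsReduced U) X.obj) (ν : Y' ⟶ Y) (f' : X ⟶ Y')
    (hn : AlgSp.IsRelNormalization f.hom ν.hom f'.hom) : AlgSp.IsFiniteMor ν.hom := by
  obtain ⟨U, φ, hφ, hφs, hU⟩ := hY
  have hν := AlgSpLib.isIntegralMor_iff.1 hn.2.1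
  obtain ⟨N, prN, μ, sqN, hμ⟩ : ∃ (N : Over S) (prN : (AlgSp.yon S).obj N ⟶ Y'.obj) (μ : N ⟶ U),
      IsPullback prN ((AlgSp.yon S).map μ) ν.hom φ ∧ IsIntegralHom μ.left :=
    ⟨_, _, _, hν.rep.isPullback φ, hν.property_snd φ⟩
  haveI := hμ
  have hfin : IsFinite μ.left := by
    refine IsZariskiLocalAtTarget.of_iSup_eq_top (fun O : U.left.affineOpens => (O : U.left.Opens))
      (iSup_affineOpens_eq_top _) fun O => ?_
    obtain ⟨N', c, μ', sq'⟩ := NormSpLib.exists_pb μ (NormSpLib.openHom U O.1)
    have hfin' : IsFinite μ'.left := by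
      haveI : IsAffine (NormSpLib.openObj U O.1).left := O.2
      haveI : IsIntegralHom μ'.left := NormSpLib.isIntegralHom_snd sq'
      let φO := (AlgSp.yon S).map (NormSpLib.openHom U O.1) ≫ φ
      have hφO : AlgSp.RepWith @Etale φO := AlgSpLib.repWith_comp
        ((AlgSp.repWith_yon_map_iff (P := (@Etale : MorphismProperty Scheme.{u})) (NormSpLib.openHom U O.1)).2
          (inferInstanceAs (Etale O.1.ι))) hφ
      have sqN' : IsPullback ((AlgSp.yon S).map c ≫ prN) ((AlgSp.yon S).map μ') ν.hom φO :=
        (NormSpLib.isPullback_yon sq').paste_horiz sqN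
      have sqF := IsPullback.of_hasPullback f.hom φO
      let g := sqN'.lift (pullback.fst f.hom φO ≫ f'.hom) (pullback.snd f.hom φO) (by
        rw [Category.assoc, hn.1, sqF.w])
      have hg₁ : g ≫ (AlgSp.yon S).map c ≫ prN = pullback.fst f.hom φO ≫ f'.hom := sqN'.lift_fst _ _ _
      have hg₂ : g ≫ (AlgSp.yon S).map μ' = pullback.snd f.hom φO := sqN'.lift_snd _ _ _
      have hnO := NormSpLib.isRelNormalization_smooth_pullback Y.property
        (AlgSp.IsAlgSpace.yon_obj (NormSpLib.openObj U O.1)) X.property Y'.property sqF hft.2 hqs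
        (AlgSpLib.locP_smooth_of_isEtaleMor (AlgSpLib.isEtaleMor_of_repWith hφO)) hn sqN' hg₂ hg₁
      obtain ⟨W, a, gW, hW, ha, has, hagW, hN, hinj⟩ := NormSpLib.exists_injective_chart
        (AlgSpLib.isQuasiCompactMor_of_isPullback sqF hft.2) (NormSpLib.isQuasiSeparatedMor_of_isPullback sqF hqs) hnO
      haveI := hW
      haveI := hN
      have haX : AlgSp.RepWith @Etale (a ≫ pullback.fst f.hom φO) :=
        AlgSpLib.repWith_comp ha (AlgSpLib.repWith_of_isPullback sqF.flip hφO)
      haveI : IsReduced W.left := AlgSpLib.isReduced_of_chart hX haX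
      let w := gW ≫ μ'
      haveI : LocallyOfFiniteType w.left := hft.1 (a ≫ pullback.fst f.hom φO) φO w haX hφO (by
        rw [Category.assoc, sqF.w, Functor.map_comp, Category.assoc, ← reassoc_of% hagW, reassoc_of% hg₂])
      have hR : CAlg.IsNagata Γ((NormSpLib.openObj U O.1).left, ⊤) := by
        let e := O.1.topIso
        let ψ : Γ(U.left, O.1) →+* Γ((NormSpLib.openObj U O.1).left, ⊤) := e.inv.hom
        letI := ψ.toAlgebra
        haveI : Algebra.FiniteType Γ(U.left, O.1) Γ((NormSpLib.openObj U O.1).left, ⊤) :=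
          RingHom.FiniteType.of_surjective ψ (e.commRingCatIsoToRingEquiv.symm.surjective)
        exact Groth.Agent.S0566.result _ (hU O.1 O.2) _
      have hwf : w.left.appTop.hom.FiniteType :=
        (HasRingHomProperty.iff_of_isAffine (P := @LocallyOfFiniteType)).1 inferInstance
      refine (HasAffineProperty.iff_of_isAffine (P := @IsFinite)).2 ⟨inferInstance, ?_⟩
      letI := μ'.left.appTop.hom.toAlgebra
      letI := w.left.appTop.hom.toAlgebra
      haveI : Algebra.FiniteType Γ((NormSpLib.openObj U O.1).left, ⊤) Γ(W.left, ⊤) := hwf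
      haveI : IsReduced W.left := AlgSpLib.isReduced_of_chart hX haX
      haveI : _root_.IsReduced Γ(W.left, ⊤) := inferInstance
      haveI := hR.1
      haveI : Module.Finite Γ((NormSpLib.openObj U O.1).left, ⊤)
          (integralClosure Γ((NormSpLib.openObj U O.1).left, ⊤) Γ(W.left, ⊤)) :=
        Groth.Agent.S0573.result _ hR _
      let ι : Γ(N'.left, ⊤) →ₐ[Γ((NormSpLib.openObj U O.1).left, ⊤)] Γ(W.left, ⊤) :=
        { toRingHom := gW.left.appTop.hom
          commutes' := fun r => by
            show gW.left.appTop (μ'.left.appTop r) = (gW.left ≫ μ'.left).appTop r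
            rw [Scheme.Hom.comp_appTop]; rfl }
      haveI : Algebra.IsIntegral Γ((NormSpLib.openObj U O.1).left, ⊤) Γ(N'.left, ⊤) :=
        ⟨μ'.left.isIntegral_app ⊤ (isAffineOpen_top _)⟩
      let ι' := ι.codRestrict (integralClosure Γ((NormSpLib.openObj U O.1).left, ⊤) Γ(W.left, ⊤))
        fun x => (Algebra.IsIntegral.isIntegral x).map ι
      exact Module.Finite.of_injective ι'.toLinearMap fun x y h => hinj (congrArg Subtype.val h)
    rw [MorphismProperty.arrow_mk_iso_iff @IsFinite (morphismRestrictEq μ.left O.1.opensRange_ι.symm ≪≫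
      morphismRestrictOpensRange μ.left O.1.ι)]
    show IsFinite (pullback.snd μ.left (NormSpLib.openHom U O.1).left)
    rw [← (NormSpLib.isPullback_left sq').isoPullback_inv_snd]
    exact MorphismProperty.RespectsIso.precomp @IsFinite _ _ hfin'
  exact AlgSpLib.isFiniteMor_iff.2 (AlgSpLib.repWith_of_etale_cover
    (fun _ _ k (_ : IsFinite k) => (inferInstance : IsAffineHom k)) hφ hφs sqN
    ((AlgSp.repWith_yon_map_iff (P := (@IsFinite : MorphismProperty Scheme.{u})) μ).2 hfin))

end Groth.Agent.S10299
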