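import Groth.Statements.S10300
import Groth.Agent.NormSpLib.Zmt

set_option autoImplicit false
set_option backward.isDefEq.respectTransparency false
set_option backward.isDefEq.respectTransparency.types false
universe u
open CategoryTheory CategoryTheory.Limits AlgebraicGeometry
open AlgSp

namespace Groth.Agent.S10300

/-- For f quasi-finite and separated, the map from X to the normalization of Y in X is a quasi-compact
open immersion, and f is quasi-affine. -/
theorem result {S : Scheme.{u}} {X Y Y' : AlgSp.Space S}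
    (f : X ⟶ Y) (hqf : AlgSp.LocP (@LocallyQuasiFinite ⊓ @LocallyOfFiniteType) f.hom)
    (hqc : AlgSp.IsQuasiCompactMor f.hom) (hsep : AlgSp.IsSeparatedMor f.hom) (ν : Y' ⟶ Y) (f' : X ⟶ Y')
    (hn : AlgSp.IsRelNormalization f.hom ν.hom f'.hom) :
    AlgSp.RepWith @IsOpenImmersion f'.hom ∧ AlgSp.IsQuasiCompactMor f'.hom ∧ AlgSp.IsQuasiAffineMor f.hom := by
  have hνs : AlgSp.IsSeparatedMor ν.hom := AlgSpLib.isSeparatedMor_of_repWith (AlgSpLib.repWith_mono
    (fun _ _ k (_ : IsIntegralHom k) => (inferInstance : IsSeparated k)) (AlgSpLib.isIntegralMor_iff.1 hn.2.1))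
  refine ⟨NormSpLib.repWith_openImmersion_toNorm X.property Y.property Y'.property hqf hqc hsep hn,
    AlgSpLib.isQuasiCompactMor_of_comp X.property Y'.property Y.property (by rw [hn.1]; exact hqc)
      (AlgSpLib.isQuasiSeparatedMor_of_isSeparatedMor hνs), fun Z hZ g => ?_⟩
  haveI := hZ
  have sq := IsPullback.of_hasPullback f.hom g
  have hF := AlgSpLib.isAlgSpace_pullback X.property (AlgSp.IsAlgSpace.yon_obj Z) Y.property f.hom g
  obtain ⟨W, e, w, hw, _, _, _, _⟩ := NormSpLib.exists_rep_qf hF
    (AlgSpLib.locP_of_isPullback X.property Y.property (AlgSp.IsAlgSpace.yon_obj Z) sq hqf)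
    (AlgSpLib.isQuasiCompactMor_of_isPullback sq hqc) (AlgSpLib.repWith_diagonal_of_isPullback sq hsep)
  exact ⟨W, w, e.hom ≫ pullback.fst f.hom g,
    sq.of_iso e.symm (Iso.refl _) (Iso.refl _) (Iso.refl _) (by simp) (by simp [hw]) (by simp) (by simp),
    AlgSpLib.quasiAffine_of_lqf w.left⟩

end Groth.Agent.S10300
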