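import Groth.Statements.S10312
import Groth.Agent.AlgSpLib.UnrLocusBC
import Groth.Agent.AlgSpLib.NearInv
import Groth.Agent.AlgSpLib.LocP
import Groth.Agent.AlgSpLib.RelDim

set_option autoImplicit false
universe u
open CategoryTheory CategoryTheory.Limits AlgebraicGeometry
open AlgSp

namespace Groth.Agent.S10312

/-- For X -> Y over Z with X -> Z locally of finite type, the locus where X -> Y is unramified is an
open subset of |X| whose formation commutes with base change along any Z' -> Z. -/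
theorem result {S : Scheme.{u}} {X Y Z Z' Y' X' : AlgSp.Space S} (f : X ⟶ Y)
    (p : X ⟶ Z) (q : Y ⟶ Z) (comm : f ≫ q = p) (hp : AlgSp.LocP @LocallyOfFiniteType p.hom) (g : Z' ⟶ Z)
    (a : Y' ⟶ Y) (q' : Y' ⟶ Z') (sq1 : IsPullback a.hom q'.hom q.hom g.hom)
    (b : X' ⟶ X) (f' : X' ⟶ Y') (sq2 : IsPullback b.hom f'.hom f.hom a.hom) :
    IsOpen {x : AlgSp.Points X.obj | AlgSp.HasAtMor (fun U _ h u => ∃ W : U.Opens, u ∈ W ∧ LocallyOfFiniteType (W.ι ≫ h) ∧ FormallyUnramified (W.ι ≫ h)) f.hom x} ∧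
    {x' : AlgSp.Points X'.obj | AlgSp.HasAtMor (fun U _ h u => ∃ W : U.Opens, u ∈ W ∧ LocallyOfFiniteType (W.ι ≫ h) ∧ FormallyUnramified (W.ι ≫ h)) f'.hom x'} =
      AlgSp.Points.map b.hom ⁻¹' {x : AlgSp.Points X.obj | AlgSp.HasAtMor (fun U _ h u => ∃ W : U.Opens, u ∈ W ∧ LocallyOfFiniteType (W.ι ≫ h) ∧ FormallyUnramified (W.ι ≫ h)) f.hom x} := by
  have hpf : AlgSp.LocP @LocallyOfFiniteType (f.hom ≫ q.hom) := by
    rw [← ObjectProperty.FullSubcategory.comp_hom, comm]; exact hp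
  have hf : AlgSp.LocP @LocallyOfFiniteType f.hom :=
    AlgSpLib.locP_of_comp (fun h k hk => AlgSpLib.lft_of_comp h k hk) X.property Y.property Z.property hpf
  have hQ : AlgSpLib.EtInvMor.{u} (fun U _ h u => ∃ W : U.Opens, u ∈ W ∧
      LocallyOfFiniteType (W.ι ≫ h) ∧ FormallyUnramified (W.ι ≫ h)) :=
    @AlgSpLib.near_etInv (@LocallyOfFiniteType ⊓ @FormallyUnramified : MorphismProperty Scheme.{u}) _
  obtain ⟨U, V, α, β, h, hα, hαs, hβ, -, e⟩ := AlgSpLib.exists_chart X.property Y.property f.hom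
  refine ⟨?_, Set.ext fun x' => ?_⟩
  · rw [AlgSpLib.setOf_hasAtMor_eq_image (Q := fun U _ h u => ∃ W : U.Opens, u ∈ W ∧ LocallyOfFiniteType (W.ι ≫ h) ∧ FormallyUnramified (W.ι ≫ h)) hQ hα hαs hβ e]
    exact AlgSpLib.isOpenMap_ofPt hα _ (isOpen_iff_forall_mem_open.2 fun z ⟨W, hz, hW⟩ =>
      ⟨W, fun w hw => ⟨W, hw, hW⟩, W.isOpen, hz⟩)
  · obtain ⟨U, V, U', V', α, β, h, α', β', h', π, v, u', hα, hβ, hα', hβ', e, e', hsq, hu', hu, -⟩ :=
      AlgSpLib.exists_chart_baseChange X.property Y.property Y'.property sq2 x'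
    haveI : LocallyOfFiniteType h.left := hf α β h hα hβ e
    haveI : LocallyOfFiniteType h'.left := MorphismProperty.of_isPullback hsq ‹_›
    rw [Set.mem_preimage, ← hu, ← hu']
    refine (AlgSpLib.hasAtMor_iff (Q := fun U _ h u => ∃ W : U.Opens, u ∈ W ∧ LocallyOfFiniteType (W.ι ≫ h) ∧ FormallyUnramified (W.ι ≫ h)) hQ hα' hβ' e' u').trans (Iff.trans ?_ (AlgSpLib.hasAtMor_iff (Q := fun U _ h u => ∃ W : U.Opens, u ∈ W ∧ LocallyOfFiniteType (W.ι ≫ h) ∧ FormallyUnramified (W.ι ≫ h)) hQ hα hβ e _).symm)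
    refine ⟨fun ⟨W, hW, hW'⟩ => ?_, fun ⟨W, hW, hW'⟩ => ?_⟩
    · obtain ⟨W₀, hW₀, hW₀'⟩ := (AlgSpLib.mem_locus_baseChange_iff hsq u').1 ⟨W, hW, hW'.2⟩
      exact ⟨W₀, hW₀, inferInstance, hW₀'⟩
    · obtain ⟨W₀, hW₀, hW₀'⟩ := (AlgSpLib.mem_locus_baseChange_iff hsq u').2 ⟨W, hW, hW'.2⟩
      exact ⟨W₀, hW₀, inferInstance, hW₀'⟩
end Groth.Agent.S10312
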