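import Groth.Statements.S10313
import Groth.Agent.AlgSpLib.RelDim

set_option autoImplicit false
universe u
open CategoryTheory CategoryTheory.Limits AlgebraicGeometry
open AlgSp

namespace Groth.Agent.S10313

/-- For f locally of finite type there is an open subspace of X on which f is locally quasi-finite,
outside of which the relative dimension is at least 1, and whose formation commutes with base
change. -/
theorem result {S : Scheme.{u}} {X Y : AlgSp.Space S} (f : X ⟶ Y)
    (hf : AlgSp.LocP @LocallyOfFiniteType f.hom) :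
    ∃ (X' : AlgSp.Space S) (j : X' ⟶ X), AlgSp.RepWith @IsOpenImmersion j.hom ∧
      AlgSp.LocP (@LocallyQuasiFinite ⊓ @LocallyOfFiniteType) (j ≫ f).hom ∧
      (∀ x : AlgSp.Points X.obj, x ∉ Set.range (AlgSp.Points.map j.hom) →
        AlgSp.HasAtMor (fun _ _ h u => 1 ≤ FlatMor.fibreDimAt h u) f.hom x) ∧
      ∀ (Y'' X'' : AlgSp.Space S) (g : Y'' ⟶ Y) (b : X'' ⟶ X) (f'' : X'' ⟶ Y''),
        IsPullback b.hom f''.hom f.hom g.hom → ∀ x'' : AlgSp.Points X''.obj,
          AlgSp.Points.map b.hom x'' ∈ Set.range (AlgSp.Points.map j.hom) ↔ AlgSp.HasAtMor (fun U _ h u => ∃ W : U.Opens, u ∈ W ∧ LocallyQuasiFinite (W.ι ≫ h) ∧ LocallyOfFiniteType (W.ι ≫ h)) f''.hom x'' := by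
  obtain ⟨F', j, hF', hj, hq, hr⟩ := AlgSpLib.exists_lqf_open X.property Y.property hf
  refine ⟨⟨F', hF'⟩, ObjectProperty.homMk j, hj, hq, fun x hx => ?_, ?_⟩
  · obtain ⟨U, V, a, b, h, u, ha, hb, e, hu⟩ := AlgSpLib.exists_chart_at X.property Y.property f.hom x
    refine ⟨U, V, a, b, h, u, ha, hb, e, hu, ?_⟩
    have h0 : FlatMor.fibreDimAt h.left u ≠ 0 := fun h0 => hx ((hr x).2 ⟨U, V, a, b, h, u, ha, hb, e, hu, h0⟩)
    show (1 : WithBot ℕ∞) ≤ FlatMor.fibreDimAt h.left u
    have h1 := AlgSpLib.fibreDimAt_nonneg h.left u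
    revert h0 h1
    generalize FlatMor.fibreDimAt h.left u = d
    intro h0 h1
    induction d with
    | bot => simp at h1
    | coe n =>
      have h2 : n ≠ 0 := fun e => h0 (by rw [e]; rfl)
      exact WithBot.coe_le_coe.2 (ENat.one_le_iff_ne_zero.2 h2)
  · intro Y'' X'' g b f'' sq x''
    have hf'' := AlgSpLib.locP_of_isPullback X.property Y.property Y''.property sq hf
    rw [AlgSpLib.hasAtMor_near_lqf_iff X''.property Y''.property hf'',
      AlgSpLib.hasAtMor_fibreDim_baseChange X.property Y.property Y''.property sq hf (fun e => e = 0) x'']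
    exact hr _
end Groth.Agent.S10313
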