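import Groth.Statements.S10315
import Groth.Agent.AlgSpLib.RelDim2
import Groth.Agent.AlgSpLib.Noeth

set_option autoImplicit false
universe u
open CategoryTheory CategoryTheory.Limits AlgebraicGeometry
open AlgSp

namespace Groth.Agent.S10315

/-- For a smooth morphism of locally Noetherian algebraic spaces, the dimension of X at x is the
dimension of Y at the image of x plus the relative dimension of f at x. -/
theorem result {S : Scheme.{u}} {X Y : AlgSp.Space S} (f : X ⟶ Y)
    (hX : AlgSp.IsLocNoethSp X.obj) (hY : AlgSp.IsLocNoethSp Y.obj) (hf : AlgSp.LocP @Smooth f.hom)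
    (x : AlgSp.Points X.obj) (d dX dY : WithBot ℕ∞)
    (hd : AlgSp.HasAtMor (fun _ _ h u => FlatMor.fibreDimAt h u = d) f.hom x)
    (hx : AlgSp.HasAt (fun U u => FlatMor.localDim ↥U u = dX) X.obj x)
    (hy : AlgSp.HasAt (fun U u => FlatMor.localDim ↥U u = dY) Y.obj (AlgSp.Points.map f.hom x)) :
    dX = dY + d := by
  obtain ⟨U, V, a, b, h, ha, has, hb, -, e⟩ := AlgSpLib.exists_chart X.property Y.property f.hom
  obtain ⟨u, rfl⟩ := AlgSpLib.surjective_ofPt has x
  haveI := AlgSpLib.isLocallyNoetherian_of_chart hX ha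
  haveI := AlgSpLib.isLocallyNoetherian_of_chart hY hb
  haveI : Smooth h.left := hf a b h ha hb e
  rw [AlgSpLib.hasAt_iff (AlgSpLib.etInv_localDim fun t => t = dX) ha] at hx
  rw [AlgSpLib.map_ofPt_chart e, AlgSpLib.hasAt_iff (AlgSpLib.etInv_localDim fun t => t = dY) hb] at hy
  rw [AlgSpLib.hasAtMor_iff (AlgSpLib.etInv_fibreDim fun t => t = d) ha hb e] at hd
  obtain ⟨O, n, hu, hn⟩ := AlgSpLib.exists_open_fibreDimAt_of_smooth h.left u
  have h1 := AlgSpLib.localDim_eq_add_fibreDimAt_of_open h.left O.isOpen n hn u hu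
  rw [hx, hy, hd] at h1
  exact h1
end Groth.Agent.S10315
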