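import Groth.Statements.S10317
import Groth.Agent.NormSpLib.ChartInj

set_option autoImplicit false
set_option backward.isDefEq.respectTransparency false
set_option backward.isDefEq.respectTransparency.types false
universe u
open CategoryTheory CategoryTheory.Limits AlgebraicGeometry
open AlgSp

namespace Groth.Agent.S10317

/-- A codimension-0 point of the normalization X' of X in Y is the image of a codimension-0 point of Y.
(The published statement is phrased for a morphism of schemes; this row states it for a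
quasi-compact quasi-separated morphism of algebraic spaces.) -/
theorem result {S : Scheme.{u}} {Y X X' : AlgSp.Space S} (f : Y ⟶ X)
    (hqc : AlgSp.IsQuasiCompactMor f.hom) (hqs : AlgSp.IsQuasiSeparatedMor f.hom) (ν : X' ⟶ X) (f' : Y ⟶ X')
    (hn : AlgSp.IsRelNormalization f.hom ν.hom f'.hom) (x' : AlgSp.Points X'.obj) (hx' : AlgSp.HasAt (fun U u => ringKrullDim ↥(U.presheaf.stalk u) = 0) X'.obj x') :
    ∃ y : AlgSp.Points Y.obj, AlgSp.HasAt (fun U u => ringKrullDim ↥(U.presheaf.stalk u) = 0) Y.obj y ∧ AlgSp.Points.map f'.hom y = x' := by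
  have hQ : AlgSpLib.EtInvPt.{u} (fun U u => ringKrullDim ↥(U.presheaf.stalk u) = 0) := by
    intro U U' a _ u'
    show ringKrullDim _ = 0 ↔ ringKrullDim _ = 0
    rw [AlgSpLib.ringKrullDim_stalk_etale a u']
  obtain ⟨κ, V, φ, hVaff, hφ, -, hcov⟩ := AlgSpLib.exists_affine_charts X.property
  obtain ⟨i, hi⟩ := hcov (AlgSp.Points.map ν.hom x')
  obtain ⟨v, hv⟩ := hi
  haveI : IsAffine (V i).left := hVaff i
  have hν := AlgSpLib.isIntegralMor_iff.1 hn.2.1
  obtain ⟨N, prN, μ, sqN, hμ⟩ : ∃ (N : Over S) (prN : (AlgSp.yon S).obj N ⟶ X'.obj) (μ : N ⟶ V i),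
      IsPullback prN ((AlgSp.yon S).map μ) ν.hom (φ i) ∧ IsIntegralHom μ.left :=
    ⟨_, _, _, hν.rep.isPullback (φ i), hν.property_snd (φ i)⟩
  haveI := hμ
  have sqF := IsPullback.of_hasPullback f.hom (φ i)
  let g := sqN.lift (pullback.fst f.hom (φ i) ≫ f'.hom) (pullback.snd f.hom (φ i)) (by
    rw [Category.assoc, hn.1, sqF.w])
  have hg₁ : g ≫ prN = pullback.fst f.hom (φ i) ≫ f'.hom := sqN.lift_fst _ _ _
  have hg₂ : g ≫ (AlgSp.yon S).map μ = pullback.snd f.hom (φ i) := sqN.lift_snd _ _ _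
  have hnV := NormSpLib.isRelNormalization_smooth_pullback X.property (AlgSp.IsAlgSpace.yon_obj (V i)) Y.property
    X'.property sqF hqc hqs (AlgSpLib.locP_smooth_of_isEtaleMor (AlgSpLib.isEtaleMor_of_repWith (hφ i))) hn sqN
    hg₂ hg₁
  obtain ⟨W, a, gW, hW, ha, has, hagW, hN, hinj⟩ := NormSpLib.exists_injective_chart
    (AlgSpLib.isQuasiCompactMor_of_isPullback sqF hqc) (NormSpLib.isQuasiSeparatedMor_of_isPullback sqF hqs) hnV
  obtain ⟨n, hn₁, -⟩ := AlgSpLib.exists_point_isPullback sqN x' v hv.symm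
  obtain ⟨n, rfl⟩ := (AlgSp.Points.schemeHomeo N).surjective n
  have hprN : AlgSp.RepWith @Etale prN := AlgSpLib.repWith_of_isPullback sqN.flip (hφ i)
  have hn₀ : AlgSp.Points.ofPt prN n = x' := (AlgSp.Points.ofPt_eq_map_ofScheme prN n).trans hn₁
  have h0 : ringKrullDim ↥(N.left.presheaf.stalk n) = 0 :=
    (AlgSpLib.hasAt_iff hQ hprN n).1 (by rw [hn₀]; exact hx')
  haveI := hW
  haveI := hN
  obtain ⟨ξ, hξ, hmax⟩ := NormSpLib.exists_maximal_lift gW.left hinj n
    fun z hz => AlgSpLib.eq_of_specializes_of_stalkDim_zero h0.le hz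
  refine ⟨AlgSp.Points.ofPt (a ≫ pullback.fst f.hom (φ i)) ξ, ⟨W, _, ξ,
    AlgSpLib.repWith_comp ha (AlgSpLib.repWith_of_isPullback sqF.flip (hφ i)), rfl,
    AlgSpLib.stalkDim_eq_zero_of_maximal ξ hmax⟩, ?_⟩
  rw [AlgSp.Points.map_ofPt, Category.assoc, ← hg₁, ← Category.assoc, hagW, AlgSpLib.ofPt_yon_comp,
    show gW.left ξ = n from hξ, hn₀]

end Groth.Agent.S10317
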