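import Groth.Statements.S10318
import Groth.Agent.AlgSpLib.PointFactor

set_option autoImplicit false
universe u
open CategoryTheory CategoryTheory.Limits AlgebraicGeometry
open AlgSp

namespace Groth.Agent.S10318

/-- Over a Jacobson algebraic space, a finite type point of a space locally of finite type over it has
transcendence degree 0 over its image. -/
theorem result {S : Scheme.{u}} {X Y : AlgSp.Space S} (f : X ⟶ Y)
    (hf : AlgSp.LocP @LocallyOfFiniteType f.hom) (hY : AlgSp.EtaleLocally (fun U => JacobsonSpace ↥U) Y.obj)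
    (x : AlgSp.Points X.obj) (hx : AlgSp.HasAt (fun U u => IsClosed ({u} : Set ↥U)) X.obj x) :
    AlgSp.HasAtMor (fun _ _ h u => Dual3.resTrdeg h u = 0) f.hom x := by
  obtain ⟨V, b, hb, hbs, hV⟩ := hY
  obtain ⟨U, a, h, ha, has, hab⟩ := AlgSpLib.exists_chart_over X.property Y.property f.hom b hb hbs
  haveI : LocallyOfFiniteType h.left := hf a b h ha hb hab
  have hjX := AlgSpLib.jacobson_of_lft Y.property X.property ⟨V, b, hb, hbs, hV⟩ hf
  obtain ⟨w, hw, hwx⟩ := AlgSpLib.exists_closed_lift X.property hjX hx a
    (AlgSpLib.locP_of_repWith (AlgSpLib.repWith_mono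
      (fun _ _ g (_ : Etale g) => (inferInstance : LocallyOfFiniteType g)) ha))
    (by obtain ⟨u, hu⟩ := AlgSpLib.surjective_ofPt has x; exact ⟨u, hu⟩)
  refine ⟨U, V, a, b, h, w, ha, hb, hab, hwx, ?_⟩
  haveI : IsClosedImmersion (U.left.fromSpecResidueField w) := isClosed_singleton_iff_isClosedImmersion.1 hw
  have h1 : LocallyOfFiniteType (Spec.map (h.left.residueFieldMap w) ≫ V.left.fromSpecResidueField (h.left w)) := by
    rw [h.left.SpecMap_residueFieldMap_fromSpecResidueField w]
    infer_instance
  have h2 : LocallyOfFiniteType (Spec.map (h.left.residueFieldMap w)) :=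
    locallyOfFiniteType_of_comp _ (V.left.fromSpecResidueField (h.left w))
  have h3 := (HasRingHomProperty.Spec_iff (P := @LocallyOfFiniteType)).1 h2
  unfold Dual3.resTrdeg
  algebraize [(h.left.residueFieldMap w).hom]
  haveI : Module.Finite (V.left.residueField (h.left w)) (U.left.residueField w) :=
    finite_of_finite_type_of_isJacobsonRing _ _
  exact trdeg_eq_zero

end Groth.Agent.S10318
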