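import Groth.Statements.S1032
import Mathlib.Algebra.Homology.DerivedCategory.KInjective
import Mathlib.CategoryTheory.Functor.Derived.PointwiseRightDerived
-- import your own Groth.Agent.* helpers here

set_option autoImplicit false
set_option linter.style.haveILetI false
universe w v v' u u'
open CategoryTheory CategoryTheory.Limits
open CohDer

namespace Groth.Agent.S1032

variable {A : Type u} [Category.{v} A] [Abelian A] [HasDerivedCategory.{w} A]

/-- A K-injective complex is terminal among objects over it in the derived category. -/
noncomputable def isTerminalKInjective (I : CochainComplex A ℤ) [I.IsKInjective] :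
    IsTerminal (CostructuredArrow.mk (𝟙 (DerivedCategory.Qh.obj
      ((HomotopyCategory.quotient A (ComplexShape.up ℤ)).obj I))) :
        CostructuredArrow DerivedCategory.Qh (DerivedCategory.Qh.obj
          ((HomotopyCategory.quotient A (ComplexShape.up ℤ)).obj I))) :=
  IsTerminal.ofUniqueHom
    (fun Y => CostructuredArrow.homMk
      ((CochainComplex.IsKInjective.Qh_map_bijective Y.left I).2 Y.hom).choose
      (by simpa using ((CochainComplex.IsKInjective.Qh_map_bijective Y.left I).2 Y.hom).choose_spec))
    (fun Y m => CostructuredArrow.hom_ext _ _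
      ((CochainComplex.IsKInjective.Qh_map_bijective Y.left I).1 (by
        refine Eq.trans ?_ ((CochainComplex.IsKInjective.Qh_map_bijective Y.left I).2
          Y.hom).choose_spec.symm
        simpa using CostructuredArrow.w m)))

/-- Let A be an abelian category in which every cochain complex admits a quasi-isomorphism to a
K-injective complex, and let F be an exact functor from the homotopy category K(A) to a
pretriangulated category. Then F has a right derived functor RF with respect to quasi-isomorphisms
(defined on D(A)), and the canonical map F(I) ⟶ RF(I) is an isomorphism for every K-injective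
complex I. -/
theorem result {A : Type u} [Category.{v} A] [Abelian A] [HasDerivedCategory.{w} A]
    (hKinj : ∀ K : CochainComplex A ℤ, ∃ (I : CochainComplex A ℤ) (f : K ⟶ I), I.IsKInjective ∧ QuasiIso f)
    {D' : Type u'} [Category.{v'} D'] [Preadditive D'] [Limits.HasZeroObject D'] [HasShift D' ℤ]
    [∀ n : ℤ, (shiftFunctor D' n).Additive] [Pretriangulated D']
    [IsTriangulated D']
    (F : HomotopyCategory A (ComplexShape.up ℤ) ⥤ D') [F.CommShift ℤ] [F.IsTriangulated] :
    F.HasRightDerivedFunctor (HomotopyCategory.quasiIso A (ComplexShape.up ℤ)) ∧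
    ∀ [F.HasRightDerivedFunctor (HomotopyCategory.quasiIso A (ComplexShape.up ℤ))] (I : CochainComplex A ℤ), I.IsKInjective →
      IsIso ((F.totalRightDerivedUnit DerivedCategory.Qh (HomotopyCategory.quasiIso A (ComplexShape.up ℤ))).app
        ((HomotopyCategory.quotient A (ComplexShape.up ℤ)).obj I)) := by
  have hat : ∀ (I : CochainComplex A ℤ) [I.IsKInjective],
      F.HasPointwiseRightDerivedFunctorAt (HomotopyCategory.quasiIso A (ComplexShape.up ℤ))
        ((HomotopyCategory.quotient A (ComplexShape.up ℤ)).obj I) := fun I _ => by
    rw [F.hasPointwiseRightDerivedFunctorAt_iff DerivedCategory.Qh]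
    exact ⟨⟨_, colimitOfDiagramTerminal (isTerminalKInjective I) _⟩⟩
  haveI hpw : F.HasPointwiseRightDerivedFunctor
      (HomotopyCategory.quasiIso A (ComplexShape.up ℤ)) := fun X => by
    obtain ⟨K, rfl⟩ := HomotopyCategory.quotient_obj_surjective X
    obtain ⟨I, f, hI, hf⟩ := hKinj K
    rw [F.hasPointwiseRightDerivedFunctorAt_iff_of_mem _
      ((HomotopyCategory.quotient A (ComplexShape.up ℤ)).map f)
      ((HomotopyCategory.quotient_map_mem_quasiIso_iff f).2
        ((HomologicalComplex.mem_quasiIso_iff _).2 hf))]
    exact hat I
  refine ⟨inferInstance, fun {_} I hI => ?_⟩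
  have hc := Functor.isPointwiseLeftKanExtensionOfHasPointwiseRightDerivedFunctor
    (F.totalRightDerived DerivedCategory.Qh (HomotopyCategory.quasiIso A (ComplexShape.up ℤ)))
    (F.totalRightDerivedUnit DerivedCategory.Qh (HomotopyCategory.quasiIso A (ComplexShape.up ℤ)))
    (HomotopyCategory.quasiIso A (ComplexShape.up ℤ))
    (DerivedCategory.Qh.obj ((HomotopyCategory.quotient A (ComplexShape.up ℤ)).obj I))
  have := IsColimit.isIso_ι_app_of_isTerminal hc _ (isTerminalKInjective I)
  simp at this
  exact this

end Groth.Agent.S1032
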