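import Groth.Statements.S10321
import Groth.Agent.AlgSpLib.SepLqfScheme

set_option autoImplicit false
universe u
open CategoryTheory CategoryTheory.Limits AlgebraicGeometry
open AlgSp

namespace Groth.Agent.S10321

/-- Let X be separated and locally quasi-finite over an affine scheme T, let T' -> T be etale with T'
affine, and let V' be an open subspace of T' ×_T X that is quasi-affine over T'. Then V' maps onto a
quasi-compact open subspace of X that is itself a scheme. -/
theorem result {S : Scheme.{u}} {T T' : Over S} [IsAffine T.left]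
    [IsAffine T'.left] (e : T' ⟶ T) [Etale e.left] {X P V' : AlgSp.Space S} (f : X ⟶ (AlgSp.ofScheme S).obj T)
    (hsep : AlgSp.IsSeparatedMor f.hom) (hqf : AlgSp.LocP (@LocallyQuasiFinite ⊓ @LocallyOfFiniteType) f.hom)
    (p1 : P ⟶ (AlgSp.ofScheme S).obj T') (p2 : P ⟶ X)
    (sq : IsPullback p2.hom p1.hom f.hom ((AlgSp.yon S).map e)) (j : V' ⟶ P)
    (hj : AlgSp.RepWith @IsOpenImmersion j.hom) (hqa : AlgSp.IsQuasiAffineMor (j ≫ p1).hom) :
    ∃ (W : Over S) (i : (AlgSp.yon S).obj W ⟶ X.obj), AlgSp.RepWith @IsOpenImmersion i ∧ CompactSpace ↥W.left ∧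
      Set.range (AlgSp.Points.map i) = Set.range (AlgSp.Points.map (j ≫ p2).hom) := by
  obtain ⟨W₀, ⟨e₀⟩⟩ := AlgSpLib.isRepSh_of_sep_lqf X.property hsep hqf
  obtain ⟨W₁, i₁, fst, sq₁, hW₁⟩ := hqa (Z := T') ‹_› (𝟙 _)
  haveI : IsIso (𝟙 ((AlgSp.yon S).obj T')) := IsIso.id _
  haveI : IsIso fst := IsPullback.isIso_fst_of_isIso (inst := IsIso.id _) sq₁
  haveI : CompactSpace ↥W₁.left := inferInstance
  have hje : RepWith @Etale (j ≫ p2).hom :=
    AlgSpLib.repWith_comp (AlgSpLib.repWith_mono (fun _ _ g (_ : IsOpenImmersion g) => (inferInstance : Etale g)) hj)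
      (AlgSpLib.repWith_of_isPullback sq.flip ((repWith_yon_map_iff (P := (@Etale : MorphismProperty Scheme.{u})) e).2 inferInstance))
  let A : Set ↥W₀.left := Points.schemeHomeo W₀ ⁻¹' (Points.map e₀.inv '' Set.range (Points.map (j ≫ p2).hom))
  have hR : Set.range (Points.map (j ≫ p2).hom) = Set.range (Points.map (fst ≫ (j ≫ p2).hom)) := by
    have hs : Function.Surjective (Points.map fst) := fun x => ⟨Points.map (inv fst) x, by
      rw [← Points.map_comp, IsIso.inv_hom_id, Points.map_id]⟩
    rw [show Points.map (fst ≫ (j ≫ p2).hom) = Points.map (j ≫ p2).hom ∘ Points.map fst from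
      funext (Points.map_comp _ _), Set.range_comp _ (Points.map fst), hs.range_eq, Set.image_univ]
  have hRo : IsOpen (Set.range (Points.map (j ≫ p2).hom)) :=
    (AlgSpLib.isOpenMap_map_of_isEtaleMor V'.property (AlgSpLib.isEtaleMor_of_repWith hje)).isOpen_range
  have hAo : IsOpen A := by
    refine IsOpen.preimage (Points.schemeHomeo W₀).continuous ?_
    rw [Set.image_eq_preimage_of_inverse (f := Points.map e₀.inv) (g := Points.map e₀.hom) (fun x => by
      rw [← Points.map_comp, e₀.inv_hom_id, Points.map_id]) (fun x => by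
      rw [← Points.map_comp, e₀.hom_inv_id, Points.map_id])]
    exact hRo.preimage (Points.continuous_map _)
  have hAc : IsCompact A := by
    refine (Points.schemeHomeo W₀).isCompact_preimage.2 ?_
    refine IsCompact.image ?_ (Points.continuous_map _)
    rw [hR]
    haveI : CompactSpace (Points ((yon S).obj W₁)) := (Points.schemeHomeo W₁).compactSpace
    exact isCompact_range (Points.continuous_map _)
  let O : W₀.left.Opens := ⟨A, hAo⟩
  let iO : Over.mk (O.ι ≫ W₀.hom) ⟶ W₀ := Over.homMk O.ι rfl
  refine ⟨Over.mk (O.ι ≫ W₀.hom), (yon S).map iO ≫ e₀.hom, ?_, isCompact_iff_compactSpace.1 hAc, ?_⟩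
  · exact MorphismProperty.RespectsIso.postcomp _ _ _
      ((repWith_yon_map_iff (P := (@IsOpenImmersion : MorphismProperty Scheme.{u})) iO).2
        (inferInstanceAs (IsOpenImmersion O.ι)))
  · have hO : Set.range (Points.map ((yon S).map iO)) = Points.schemeHomeo W₀ '' A := by
      ext x
      constructor
      · rintro ⟨y, rfl⟩
        obtain ⟨t, rfl⟩ := (Points.schemeHomeo _).surjective y
        exact ⟨t.1, t.2, (Points.map_yon_map_apply iO t).symm⟩
      · rintro ⟨t, ht, rfl⟩
        exact ⟨Points.schemeHomeo _ ⟨t, ht⟩, Points.map_yon_map_apply iO _⟩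
    rw [show Points.map ((yon S).map iO ≫ e₀.hom) = Points.map e₀.hom ∘ Points.map ((yon S).map iO) from
      funext (Points.map_comp _ _), Set.range_comp, hO, (Points.schemeHomeo W₀).image_preimage, ← Set.image_comp]
    refine Eq.trans (Set.image_congr fun x _ => ?_) (Set.image_id _)
    rw [Function.comp_apply, ← Points.map_comp, e₀.inv_hom_id, Points.map_id]
    rfl

end Groth.Agent.S10321
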