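import Groth.Statements.S10323
import Groth.Agent.AlgSpLib.RelDim2
import Groth.Agent.AlgSpLib.Noeth
import Groth.Agent.DimIneqLib.Dim

set_option autoImplicit false
universe u
open CategoryTheory CategoryTheory.Limits AlgebraicGeometry
open AlgSp

namespace Groth.Agent.S10323

open AlgebraicGeometry CategoryTheory in
theorem stalkDim_eq_zero {U : Scheme.{u}} (ξ : U) (h : ∀ z, z ⤳ ξ → z = ξ) :
    ringKrullDim (U.presheaf.stalk ξ) = 0 := by
  haveI : Subsingleton (PrimeSpectrum (U.presheaf.stalk ξ)) := by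
    refine ⟨fun p q => (U.fromSpecStalk ξ).isEmbedding.injective ?_⟩
    have h1 : ∀ p, (U.fromSpecStalk ξ).base p = ξ := fun p => h _ (by
      have : (U.fromSpecStalk ξ).base p ∈ Set.range (U.fromSpecStalk ξ).base := ⟨p, rfl⟩
      rwa [Scheme.range_fromSpecStalk] at this)
    exact (h1 p).trans (h1 q).symm
  exact Order.krullDim_eq_zero


/-- For Y locally Noetherian and f locally of finite type, the dimension of the local ring of X at x is
at most the dimension of the local ring of Y at the image point plus E minus the transcendence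
degree of x over its image, where E bounds the transcendence degrees of the codimension-0 points
specializing to x. -/
theorem result {S : Scheme.{u}} {X Y : AlgSp.Space S} (f : X ⟶ Y)
    (hY : AlgSp.IsLocNoethSp Y.obj) (hf : AlgSp.LocP @LocallyOfFiniteType f.hom) (x : AlgSp.Points X.obj)
    (E : Cardinal.{u})
    (hE : ∀ ξ : AlgSp.Points X.obj, ξ ⤳ x → AlgSp.HasAt (fun U u => ringKrullDim ↥(U.presheaf.stalk u) = 0) X.obj ξ →
      ∀ s : Cardinal.{u}, AlgSp.HasAtMor (fun _ _ h u => Dual3.resTrdeg h u = s) f.hom ξ → s ≤ E)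
    (a b : WithBot ℕ∞) (r : Cardinal.{u})
    (ha : AlgSp.HasAt (fun U u => ringKrullDim ↥(U.presheaf.stalk u) = a) X.obj x)
    (hb : AlgSp.HasAt (fun U u => ringKrullDim ↥(U.presheaf.stalk u) = b) Y.obj (AlgSp.Points.map f.hom x))
    (hr : AlgSp.HasAtMor (fun _ _ h u => Dual3.resTrdeg h u = r) f.hom x) :
    a + ((Cardinal.toENat r : ℕ∞) : WithBot ℕ∞) ≤ b + ((Cardinal.toENat E : ℕ∞) : WithBot ℕ∞) := by
  obtain ⟨U, V, φ, ψ, h, hφ, hφs, hψ, -, e⟩ := AlgSpLib.exists_chart X.property Y.property f.hom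
  obtain ⟨u, rfl⟩ := AlgSpLib.surjective_ofPt hφs x
  haveI := AlgSpLib.isLocallyNoetherian_of_chart hY hψ
  haveI : LocallyOfFiniteType h.left := hf φ ψ h hφ hψ e
  rw [AlgSpLib.hasAt_iff (AlgSpLib.etInv_stalkDim fun t => t = a) hφ] at ha
  rw [AlgSpLib.map_ofPt_chart e, AlgSpLib.hasAt_iff (AlgSpLib.etInv_stalkDim fun t => t = b) hψ] at hb
  rw [AlgSpLib.hasAtMor_iff (AlgSpLib.etInv_resTrdeg fun t => t = r) hφ hψ e] at hr
  obtain ⟨ξ, hmax, hξx, hle⟩ := DimIneqLib.stalk_le h.left u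
  have hs := hE (Points.ofPt φ ξ) (hξx.map (Points.continuous_ofPt φ))
    ⟨U, φ, ξ, hφ, rfl, stalkDim_eq_zero ξ hmax⟩ (Dual3.resTrdeg h.left ξ)
    ⟨U, V, φ, ψ, h, ξ, hφ, hψ, e, rfl, rfl⟩
  rw [← ha, ← hb, ← hr]
  refine hle.trans (add_le_add le_rfl (WithBot.coe_le_coe.mpr ?_))
  exact OrderHomClass.mono Cardinal.toENat hs
end Groth.Agent.S10323
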