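import Groth.Statements.S10324
import Groth.Agent.AlgSpLib.RelDim2
import Groth.Agent.AlgSpLib.Noeth
import Groth.Agent.DimIneqLib.Dim

set_option autoImplicit false
universe u
open CategoryTheory CategoryTheory.Limits AlgebraicGeometry
open AlgSp

namespace Groth.Agent.S10324

open AlgebraicGeometry CategoryTheory in
theorem stalkDim_eq_zero {U : Scheme.{u}} (ξ : U) (h : ∀ z, z ⤳ ξ → z = ξ) :
    ringKrullDim (U.presheaf.stalk ξ) = 0 := by
  haveI : Subsingleton (PrimeSpectrum (U.presheaf.stalk ξ)) := by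
    refine ⟨fun p q => (U.fromSpecStalk ξ).isEmbedding.injective ?_⟩
    have h1 : ∀ p, (U.fromSpecStalk ξ).base p = ξ := fun p => h _ (by
      have : (U.fromSpecStalk ξ).base p ∈ Set.range (U.fromSpecStalk ξ).base := ⟨p, rfl⟩
      rwa [Scheme.range_fromSpecStalk] at this)
    exact (h1 p).trans (h1 q).symm
  exact Order.krullDim_eq_zero


/-- For Y locally Noetherian and f : X -> Y locally of finite type, dim X ≤ dim Y + E where E bounds the
transcendence degrees over Y of the codimension-0 points of X. -/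
theorem result {S : Scheme.{u}} {X Y : AlgSp.Space S} (f : X ⟶ Y)
    (hY : AlgSp.IsLocNoethSp Y.obj) (hf : AlgSp.LocP @LocallyOfFiniteType f.hom) (E : Cardinal.{u})
    (hE : ∀ ξ : AlgSp.Points X.obj, AlgSp.HasAt (fun U u => ringKrullDim ↥(U.presheaf.stalk u) = 0) X.obj ξ → ∀ s : Cardinal.{u}, AlgSp.HasAtMor (fun _ _ h u => Dual3.resTrdeg h u = s) f.hom ξ → s ≤ E) :
    AlgSp.dim X.obj ≤ AlgSp.dim Y.obj + ((Cardinal.toENat E : ℕ∞) : WithBot ℕ∞) := by
  refine iSup_le fun U₀ => iSup_le fun a₀ => iSup_le fun ha₀ => ?_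
  obtain ⟨V, ψ, hψ, hψs⟩ := Y.property.atlas
  obtain ⟨U, p, h, hp, hps, hph⟩ :=
    AlgSpLib.exists_atlas_pullback (IsAlgSpace.yon_obj U₀) Y.property (a₀ ≫ f.hom) ψ
  obtain ⟨q, hq⟩ := (AlgSp.yon S).map_surjective (p ≫ pullback.fst (a₀ ≫ f.hom) ψ)
  have hqe : AlgSp.RepWith @Etale ((AlgSp.yon S).map q) := by
    rw [hq]
    exact AlgSpLib.repWith_comp hp
      (AlgSpLib.repWith_of_isPullback (IsPullback.of_hasPullback _ ψ).flip hψ)
  have hqs : AlgSp.RepWith @Surjective ((AlgSp.yon S).map q) := by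
    rw [hq]
    exact AlgSpLib.repWith_comp hps
      (AlgSpLib.repWith_of_isPullback (IsPullback.of_hasPullback _ ψ).flip hψs)
  haveI : Etale q.left := AlgSpLib.etale_left hqe
  haveI : Surjective q.left := AlgSpLib.surjective_left hqs
  have hφ : AlgSp.RepWith @Etale ((AlgSp.yon S).map q ≫ a₀) := AlgSpLib.repWith_comp hqe ha₀
  have e : ((AlgSp.yon S).map q ≫ a₀) ≫ f.hom = (AlgSp.yon S).map h ≫ ψ := by
    rw [hq, Category.assoc, Category.assoc, pullback.condition, reassoc_of% hph]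
  haveI := AlgSpLib.isLocallyNoetherian_of_chart hY hψ
  haveI : LocallyOfFiniteType h.left := hf _ ψ h hφ hψ e
  refine UOpenLib.le_of_forall_nat_le fun n hn => ?_
  obtain ⟨u₀, hu₀⟩ := DimIneqLib.exists_stalk_of_chain hn
  obtain ⟨u, rfl⟩ := Surjective.surj (f := q.left) u₀
  rw [← AlgSpLib.ringKrullDim_stalk_etale q.left u] at hu₀
  obtain ⟨ξ, hmax, hξx, hle⟩ := DimIneqLib.stalk_le h.left u
  have hs := hE (Points.ofPt ((AlgSp.yon S).map q ≫ a₀) ξ)
    ⟨U, _, ξ, hφ, rfl, stalkDim_eq_zero ξ hmax⟩ (Dual3.resTrdeg h.left ξ)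
    ⟨U, V, _, ψ, h, ξ, hφ, hψ, e, rfl, rfl⟩
  have hdim : topologicalKrullDim V.left ≤ AlgSp.dim Y.obj :=
    le_iSup_of_le V (le_iSup_of_le ψ (le_iSup_of_le hψ le_rfl))
  refine hu₀.trans (le_trans ?_ (hle.trans (add_le_add ((DimIneqLib.stalk_dim_le_dim _).trans hdim)
    (WithBot.coe_le_coe.mpr (OrderHomClass.mono Cardinal.toENat hs)))))
  exact le_add_of_nonneg_right (WithBot.coe_le_coe.mpr zero_le)
end Groth.Agent.S10324
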