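import Groth.Statements.S10325
import Groth.Agent.AlgSpLib.MorPack
import Groth.Agent.AlgSpLib.CoprodOpen
import Groth.Agent.AlgSpLib.Coprod
import Groth.Agent.TwConstLib.Finite
import Mathlib.CategoryTheory.Extensive
-- import your own Groth.Agent.* helpers here

set_option autoImplicit false
universe u
open CategoryTheory CategoryTheory.Limits AlgebraicGeometry
open AlgSp

namespace Groth.Agent.S10325

/-- A finite disjoint union of algebraic spaces finite over Y is finite over Y. -/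
theorem result {S : Scheme.{u}} {n : ℕ} (X : Fin n → AlgSp.Space S) (Y : AlgSp.Space S)
    (g : ∀ i, X i ⟶ Y) (hg : ∀ i, AlgSp.IsFiniteMor (g i).hom) (c : Cofan fun i => (X i).obj) (hc : IsColimit c)
    (d : c.pt ⟶ Y.obj) (hd : ∀ i, c.inj i ≫ d = (g i).hom) : AlgSp.IsFiniteMor d := by
  classical
  intro T hT k
  have sq := IsPullback.of_hasPullback d k
  choose W i fst hpb hW hfin using fun j => hg j hT k
  let b : ∀ j, (AlgSp.yon S).obj (W j) ⟶ pullback d k := fun j =>
    sq.lift (fst j ≫ c.inj j) ((AlgSp.yon S).map (i j)) (by rw [Category.assoc, hd]; exact (hpb j).w)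
  have sqb : ∀ j, IsPullback (fst j) (b j) (c.inj j) (pullback.fst d k) := fun j =>
    IsPullback.of_bot (by rw [hd, sq.lift_snd]; exact hpb j) (sq.lift_fst _ _ _).symm sq
  obtain ⟨hc'⟩ := (FinitaryExtensive.isVanKampen_finiteCoproducts hc).isUniversal
    (Cofan.mk (pullback d k) b)
    (Discrete.natTrans (F := Discrete.functor fun j => (AlgSp.yon S).obj (W j))
      (G := Discrete.functor fun j => (X j).obj) fun ⟨j⟩ => fst j)
    (pullback.fst d k) (NatTrans.ext (funext fun ⟨j⟩ => (sqb j).w)) (NatTrans.equifibered_of_discrete _)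
    (fun ⟨j⟩ => (sqb j).flip)
  let Wl : ULift.{u} (Fin n) → Scheme.{u} := fun j => (W j.down).left
  let q : (∐ Wl) ⟶ T.left := Sigma.desc fun j => (i j.down).left
  let T' : Over S := Over.mk (q ≫ T.hom)
  let qo : T' ⟶ T := Over.homMk q rfl
  let s : ∀ j : ULift.{u} (Fin n), W j.down ⟶ T' := fun j => Over.homMk (Sigma.ι Wl j) (by
    change Sigma.ι Wl j ≫ q ≫ T.hom = _
    rw [Sigma.ι_desc_assoc, Over.w])
  have hso : ∀ j, IsOpenImmersion (s j).left := fun j => inferInstanceAs (IsOpenImmersion (Sigma.ι Wl j))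
  have hsq : ∀ j, s j ≫ qo = i j.down := fun j => Over.OverMorphism.ext (Sigma.ι_desc _ j)
  have hdis : ∀ a a', a ≠ a' → Disjoint (Set.range (s a).left) (Set.range (s a').left) := fun a a' h =>
    Set.disjoint_left.2 fun z h1 h2 => Disjoint.le_bot (disjoint_opensRange_sigmaι Wl a a' h) ⟨h1, h2⟩
  obtain ⟨hC⟩ := AlgSpLib.nonempty_isColimit_yon_cofan s hso
    (fun v => let ⟨j, y, hy⟩ := (sigmaOpenCover Wl).exists_eq v; ⟨j, y, hy⟩) hdis
  let m : (AlgSp.yon S).obj T' ⟶ pullback d k := Cofan.IsColimit.desc hC fun j => b j.down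
  let l : pullback d k ⟶ (AlgSp.yon S).obj T' := Cofan.IsColimit.desc hc' fun j => (AlgSp.yon S).map (s ⟨j⟩)
  have hm : ∀ j, (AlgSp.yon S).map (s j) ≫ m = b j.down := fun j => Cofan.IsColimit.fac hC _ j
  have hl : ∀ j, b j ≫ l = (AlgSp.yon S).map (s ⟨j⟩) := fun j => Cofan.IsColimit.fac hc' _ j
  have h1 : m ≫ l = 𝟙 _ := Cofan.IsColimit.hom_ext hC _ _ fun j => by
    change (AlgSp.yon S).map (s j) ≫ m ≫ l = (AlgSp.yon S).map (s j) ≫ 𝟙 _
    rw [← Category.assoc, hm, hl, Category.comp_id]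
  have h2 : l ≫ m = 𝟙 _ := Cofan.IsColimit.hom_ext hc' _ _ fun j => by
    change b j ≫ l ≫ m = b j ≫ 𝟙 _
    rw [← Category.assoc, hl, hm, Category.comp_id]
  let e : (AlgSp.yon S).obj T' ≅ pullback d k := ⟨m, l, h1, h2⟩
  have hms : m ≫ pullback.snd d k = (AlgSp.yon S).map qo := Cofan.IsColimit.hom_ext hC _ _ fun j => by
    change (AlgSp.yon S).map (s j) ≫ m ≫ pullback.snd d k = (AlgSp.yon S).map (s j) ≫ (AlgSp.yon S).map qo
    rw [← Category.assoc, hm, sq.lift_snd, ← Functor.map_comp, hsq]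
  have hq : IsFinite q := by
    haveI := Fintype.ofFinite (ULift.{u} (Fin n))
    let V : ULift.{u} (Fin n) → (∐ Wl : Scheme.{u}).Opens := fun j => (Sigma.ι Wl j).opensRange
    have htop : Finset.univ.sup V = ⊤ := top_le_iff.1 fun p _ => by
      obtain ⟨j, y, hy⟩ := (sigmaOpenCover Wl).exists_eq p
      exact Finset.le_sup (f := V) (b := j) (@Finset.mem_univ (ULift.{u} (Fin n)) _ j) ⟨y, hy⟩
    have key := TwConstLib.isFinite_biSup q V (fun a a' h => disjoint_opensRange_sigmaι Wl a a' h) (fun j => by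
      have e' : (Sigma.ι Wl j).isoOpensRange.hom ≫ (V j).ι ≫ q = (i j.down).left := by
        rw [Scheme.Hom.isoOpensRange_hom_ι_assoc]; exact Sigma.ι_desc _ j
      rw [← MorphismProperty.cancel_left_of_respectsIso @IsFinite (Sigma.ι Wl j).isoOpensRange.hom, e']
      exact hfin j.down) Finset.univ
    rw [htop] at key
    have hT' : IsFinite ((∐ Wl : Scheme.{u}).topIso.inv ≫ (⊤ : (∐ Wl : Scheme.{u}).Opens).ι ≫ q) := inferInstance
    rwa [show (⊤ : (∐ Wl : Scheme.{u}).Opens).ι = (∐ Wl : Scheme.{u}).topIso.hom from rfl, Iso.inv_hom_id_assoc] at hT'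
  haveI : IsAffine T.left := hT
  haveI : IsFinite qo.left := hq
  exact ⟨T', qo, m ≫ pullback.fst d k, sq.of_iso e.symm (Iso.refl _) (Iso.refl _) (Iso.refl _)
    (by rw [Iso.refl_hom, Category.comp_id, Iso.symm_hom, ← Category.assoc, show e.inv ≫ m = 𝟙 _ from e.inv_hom_id, Category.id_comp])
    (by rw [Iso.refl_hom, Category.comp_id, Iso.symm_hom, ← hms, ← Category.assoc, show e.inv ≫ m = 𝟙 _ from e.inv_hom_id, Category.id_comp])
    (by simp) (by simp), isAffine_of_isAffineHom qo.left, hq⟩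


end Groth.Agent.S10325
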