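import Groth.Statements.S10329
import Groth.Agent.AlgSpLib.RelDim

set_option autoImplicit false
universe u
open CategoryTheory CategoryTheory.Limits AlgebraicGeometry
open AlgSp

namespace Groth.Agent.S10329

/-- If the fibre of a morphism locally of finite type has dimension 0 at a point, then the morphism is
locally quasi-finite on some open subspace containing the image of that point. -/
theorem result {S : Scheme.{u}} {X Y F : AlgSp.Space S} (f : X ⟶ Y)
    (hf : AlgSp.LocP @LocallyOfFiniteType f.hom) (k : Type u) [Field k] (str : Spec (.of k) ⟶ S)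
    (y : (AlgSp.yon S).obj (Over.mk str) ⟶ Y.obj) (p : F ⟶ X) (q : F.obj ⟶ (AlgSp.yon S).obj (Over.mk str))
    (sq : IsPullback p.hom q f.hom y) (z : AlgSp.Points F.obj)
    (hz : AlgSp.HasAt (fun U u => FlatMor.localDim ↥U u = 0) F.obj z) :
    ∃ (X' : AlgSp.Space S) (j : X' ⟶ X), AlgSp.RepWith @IsOpenImmersion j.hom ∧
      AlgSp.Points.map p.hom z ∈ Set.range (AlgSp.Points.map j.hom) ∧
      AlgSp.LocP (@LocallyQuasiFinite ⊓ @LocallyOfFiniteType) (j ≫ f).hom := by
  obtain ⟨F', j, hF', hj, hq, hr⟩ := AlgSpLib.exists_lqf_open X.property Y.property hf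
  refine ⟨⟨F', hF'⟩, ObjectProperty.homMk j, hj, (hr _).2 ?_, hq⟩
  have hpt : IsAlgSpace ((AlgSp.yon S).obj (Over.mk str)) := IsAlgSpace.yon_obj _
  rw [← AlgSpLib.hasAtMor_fibreDim_baseChange X.property Y.property hpt sq hf (fun e => e = 0) z]
  obtain ⟨U, a, h, ha, has, e⟩ := AlgSpLib.exists_chart_over F.property hpt q (𝟙 _)
    (AlgSp.repWith_id _ _) (AlgSp.repWith_id _ _)
  obtain ⟨u, rfl⟩ := AlgSpLib.surjective_ofPt has z
  refine ⟨U, _, a, 𝟙 _, h, u, ha, AlgSp.repWith_id _ _, e, rfl, ?_⟩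
  show FlatMor.fibreDimAt h.left u = 0
  have h1 : FlatMor.localDim U.left u = 0 :=
    (AlgSpLib.hasAt_iff (AlgSpLib.etInv_localDim fun d => d = 0) ha u).1 hz
  exact (AlgSpLib.fibreDimAt_eq_localDim (k := k) h.left u).trans h1
end Groth.Agent.S10329
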