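import Groth.Statements.S10330
import Groth.Agent.FinLocFreePushLib.Mor
-- import your own Groth.Agent.* helpers here

set_option autoImplicit false
set_option backward.isDefEq.respectTransparency false
set_option backward.isDefEq.respectTransparency.types false
universe u
open CategoryTheory CategoryTheory.Limits AlgebraicGeometry Opposite
open AlgSp

namespace Groth.Agent.S10330

/-- A morphism f : X -> Y of algebraic spaces over S that is representable by schemes is finite locally
free (all base changes to schemes are finite, flat and locally of finite presentation) if and only
if f is affine and the direct image f_*O_X on the small etale site of Y is a finite locally free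
O_Y-module (locally on the site it is free on finitely many generators). -/
theorem result {S : Scheme.{u}} {X Y : AlgSp.Space S} (f : X ⟶ Y)
    (hf : AlgSp.Representable f.hom) :
    AlgSp.IsFinLocFreeMor f.hom ↔
      AlgSp.IsAffineMor f.hom ∧
        ∃ q : SheafOfModules.LocalGeneratorsData.{u + 1} ((AlgSp.pushModEt hf).obj (AlgSp.unitModEt X.obj)),
          q.IsLocallyFreeData ∧ q.IsFiniteType := by
  constructor
  · intro h
    have haff := FinLocFreePushLib.isAffineMor_of_finLocFree f h
    exact ⟨haff, FinLocFreePushLib.exists_locallyFreeData _ (FinLocFreePushLib.bc_push_unit f hf haff) fun E hE =>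
      haveI := hE
      FinLocFreePushLib.finite_projective_of_finLocFree f hf h E⟩
  · rintro ⟨haff, q, hq, hq'⟩
    refine FinLocFreePushLib.isFinLocFreeMor_of_chart f hf haff fun E hE => ?_
    haveI := hE
    exact FinLocFreePushLib.finLocFree_snd f hf haff E (FinLocFreePushLib.finite_projective_sec Y.property _
      (FinLocFreePushLib.bc_push_unit f hf haff) q hq hq' E)

end Groth.Agent.S10330
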