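import Groth.Statements.S10333
import Groth.Agent.NormSpLib.Main

set_option autoImplicit false
set_option backward.isDefEq.respectTransparency false
set_option backward.isDefEq.respectTransparency.types false
universe u
open CategoryTheory CategoryTheory.Limits AlgebraicGeometry
open AlgSp

namespace Groth.Agent.S10333

/-- Let f : Y -> X be a morphism of algebraic spaces over S that is quasi-compact and quasi-separated,
and X' -> X the normalization of X in Y (an integral morphism through which f factors, initial among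
such factorizations). If Y is reduced then X' is reduced. -/
theorem result {S : Scheme.{u}} {Y X X' : AlgSp.Space S} (f : Y ⟶ X)
    (hqc : AlgSp.IsQuasiCompactMor f.hom) (hqs : AlgSp.IsQuasiSeparatedMor f.hom) (ν : X' ⟶ X) (f' : Y ⟶ X')
    (hn : AlgSp.IsRelNormalization f.hom ν.hom f'.hom) (hY : AlgSp.IsReducedSp Y.obj) :
    AlgSp.IsReducedSp X'.obj := by
  obtain ⟨Z, i, hZ, hi, hrange, hZr⟩ :=
    AlgSpRegLib.exists_isRedInduced X'.property Set.univ isClosed_univ
  obtain ⟨l, hl⟩ := NormSpLib.exists_factor_of_isReducedSp Y.property hY hi hrange f'.hom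
  haveI : Mono i := AlgSpLib.mono_of_repWith (fun g (_ : IsClosedImmersion g) => inferInstance) hi
  have hi' : AlgSp.RepWith @IsIntegralHom i :=
    AlgSpLib.repWith_mono (fun _ _ g (_ : IsClosedImmersion g) => (inferInstance : IsIntegralHom g)) hi
  have hπ : AlgSp.IsIntegralMor (i ≫ ν.hom) :=
    AlgSpLib.isIntegralMor_iff.2 (AlgSpLib.repWith_comp hi' (AlgSpLib.isIntegralMor_iff.1 hn.2.1))
  obtain ⟨h, ⟨h₁, h₂⟩, -⟩ := hn.2.2 hZ (i ≫ ν.hom) l hπ (by rw [reassoc_of% hl, hn.1])
  have e : h ≫ i = 𝟙 X'.obj := (hn.2.2 X'.property ν.hom f'.hom hn.2.1 hn.1).unique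
    ⟨by rw [reassoc_of% h₁, hl], by rw [Category.assoc, h₂]⟩ ⟨Category.comp_id _, Category.id_comp _⟩
  haveI : IsSplitEpi i := ⟨⟨⟨h, e⟩⟩⟩
  haveI : IsIso i := isIso_of_mono_of_isSplitEpi i
  obtain ⟨U, a, ha, has, hr⟩ := hZr
  refine ⟨U, a ≫ i, ?_, ?_, hr⟩
  · exact (AlgSp.RepWith (S := S) @Etale).cancel_right_of_respectsIso a i |>.2 ha
  · exact (AlgSp.RepWith (S := S) @Surjective).cancel_right_of_respectsIso a i |>.2 has

end Groth.Agent.S10333
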