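import Groth.Statements.S10335
import Groth.Agent.AlgSpLib.FibStalkBC

set_option autoImplicit false
universe u
open CategoryTheory CategoryTheory.Limits AlgebraicGeometry
open AlgSp

namespace Groth.Agent.S10335

/-- In a base change square of algebraic spaces with f : X -> Y locally of finite type and f' : X' -> Y'
its base change along g : Y' -> Y, take a point x' of X' over x. The fibre of f' has a local ring at
x' whose dimension exceeds the corresponding dimension for the fibre of f at x by exactly the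
transcendence degree of x over f(x) minus that of x' over f'(x'), and this excess is never negative;
and for x in X and y' in Y' over the same point of Y some x' over both has excess zero. All four
quantities are read on some chart diagram through the point. -/
theorem result {S : Scheme.{u}} {X Y Y' X' : AlgSp.Space S} (f : X ⟶ Y) (g : Y' ⟶ Y)
    (g' : X' ⟶ X) (f' : X' ⟶ Y') (sq : IsPullback g'.hom f'.hom f.hom g.hom)
    (hf : AlgSp.LocP @LocallyOfFiniteType f.hom) :
    (∀ (x' : AlgSp.Points X'.obj) (e e' : WithBot ℕ∞) (r r' : Cardinal.{u}),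
      AlgSp.HasAtMor (fun _ _ h u => ringKrullDim ↥((h.fiber (h u)).presheaf.stalk (h.asFiber u)) = e) f.hom
          (AlgSp.Points.map g'.hom x') →
      AlgSp.HasAtMor (fun _ _ h u => Dual3.resTrdeg h u = r) f.hom (AlgSp.Points.map g'.hom x') →
      AlgSp.HasAtMor (fun _ _ h u => ringKrullDim ↥((h.fiber (h u)).presheaf.stalk (h.asFiber u)) = e') f'.hom x' →
      AlgSp.HasAtMor (fun _ _ h u => Dual3.resTrdeg h u = r') f'.hom x' →
        e' + ((Cardinal.toENat r' : ℕ∞) : WithBot ℕ∞) = e + ((Cardinal.toENat r : ℕ∞) : WithBot ℕ∞) ∧ e ≤ e') ∧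
    (∀ (x : AlgSp.Points X.obj) (y' : AlgSp.Points Y'.obj) (e : WithBot ℕ∞),
      AlgSp.Points.map f.hom x = AlgSp.Points.map g.hom y' →
      AlgSp.HasAtMor (fun _ _ h u => ringKrullDim ↥((h.fiber (h u)).presheaf.stalk (h.asFiber u)) = e) f.hom x →
        ∃ x' : AlgSp.Points X'.obj, AlgSp.Points.map g'.hom x' = x ∧ AlgSp.Points.map f'.hom x' = y' ∧
          AlgSp.HasAtMor (fun _ _ h u => ringKrullDim ↥((h.fiber (h u)).presheaf.stalk (h.asFiber u)) = e)
            f'.hom x') := by
  have hf' := AlgSpLib.locP_of_isPullback X.property Y.property Y'.property sq hf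
  refine ⟨fun x' e e' r r' he hr he' hr' => ?_, fun x y' e hxy he => ?_⟩
  · obtain ⟨U, V, U', V', a, b, h, a', b', h', p, v, u', ha, hb, ha', hb', h_e, h_e', hsq, rfl, hu, -⟩ :=
      AlgSpLib.exists_chart_baseChange X.property Y.property Y'.property sq x'
    haveI : LocallyOfFiniteType h.left := hf a b h ha hb h_e
    haveI : LocallyOfFiniteType h'.left := hf' a' b' h' ha' hb' h_e'
    rw [← hu] at he hr
    rw [AlgSpLib.hasAtMor_iff (AlgSpLib.etInv_resTrdeg fun t => t = r) ha hb h_e] at hr
    rw [AlgSpLib.hasAtMor_iff (AlgSpLib.etInv_resTrdeg fun t => t = r') ha' hb' h_e'] at hr'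
    rw [← AlgSpLib.fibreStalk_eq_of_hasAtMor hf ha hb h_e _ he,
      ← AlgSpLib.fibreStalk_eq_of_hasAtMor hf' ha' hb' h_e' _ he', ← hr, ← hr',
      ← AlgSpLib.fibreDimAt_eq_stalk_add_resTrdeg, ← AlgSpLib.fibreDimAt_eq_stalk_add_resTrdeg]
    exact ⟨FibDimLib.fibreDimAt_baseChange hsq u', (AlgSpLib.fibreStalk_baseChange hsq u').1⟩
  · obtain ⟨x₀, hx₀, hy₀⟩ := AlgSpLib.exists_point_isPullback sq x y' hxy
    obtain ⟨U, V, U', V', a, b, h, a', b', h', p, v, u', ha, hb, ha', hb', h_e, h_e', hsq, hu', hu, hpa⟩ :=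
      AlgSpLib.exists_chart_baseChange X.property Y.property Y'.property sq x₀
    haveI : LocallyOfFiniteType h.left := hf a b h ha hb h_e
    obtain ⟨z, hzp, hzh, hze⟩ := (AlgSpLib.fibreStalk_baseChange hsq u').2
    refine ⟨AlgSp.Points.ofPt a' z, ?_, ?_, U', V', a', b', h', z, ha', hb', h_e', rfl, ?_⟩
    · rw [AlgSp.Points.map_ofPt, hpa, AlgSpLib.ofPt_yon_comp, hzp, hu, hx₀]
    · rw [AlgSpLib.map_ofPt_chart h_e', hzh, ← AlgSpLib.map_ofPt_chart h_e', hu', hy₀]
    · refine hze.trans ?_
      rw [← hx₀, ← hu] at he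
      exact AlgSpLib.fibreStalk_eq_of_hasAtMor hf ha hb h_e _ he
end Groth.Agent.S10335
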