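import Groth.Statements.S10336
import Groth.Agent.AlgSpLib.AffineFpqc
import Groth.Agent.AlgSpLib.Fppf
import Groth.Agent.AlgSpLib.Points

set_option autoImplicit false
universe u
open CategoryTheory CategoryTheory.Limits AlgebraicGeometry
open AlgSp

namespace Groth.Agent.S10336

instance finLocFree_isZariskiLocalAtTarget : IsZariskiLocalAtTarget (AlgSp.finLocFree : MorphismProperty Scheme.{u}) := by
  have e : (AlgSp.finLocFree : MorphismProperty Scheme.{u}) = Min.min (α := MorphismProperty Scheme.{u}) @IsFinite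
      (Min.min (α := MorphismProperty Scheme.{u}) @Flat @LocallyOfFinitePresentation) := by
    ext X Y f
    exact Iff.rfl
  rw [e]
  infer_instance

/-- Integrality, finiteness and finite local freeness of a morphism f : X -> Y of algebraic spaces over
S can be checked on the restrictions of f over the members of a Zariski covering of Y by open
subspaces. -/
theorem result {S : Scheme.{u}} {X Y : AlgSp.Space S} (f : X ⟶ Y) {ι : Type u}
    (Yi : ι → AlgSp.Space S) (j : ∀ i, Yi i ⟶ Y) (hj : AlgSp.IsZarCover (fun i => (Yi i).obj) (fun i => (j i).hom))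
    (Xi : ι → AlgSp.Sp S) (p : ∀ i, Xi i ⟶ X.obj) (q : ∀ i, Xi i ⟶ (Yi i).obj)
    (sq : ∀ i, IsPullback (p i) (q i) f.hom (j i).hom) :
    ((∀ i, AlgSp.IsIntegralMor (q i)) → AlgSp.IsIntegralMor f.hom) ∧
    ((∀ i, AlgSp.IsFiniteMor (q i)) → AlgSp.IsFiniteMor f.hom) ∧
    ((∀ i, AlgSp.IsFinLocFreeMor (q i)) → AlgSp.IsFinLocFreeMor f.hom) := by
  have hY : IsAlgSpace Y.obj := Y.property
  have hX : IsAlgSpace X.obj := X.property
  have hi : ∀ i, IsAlgSpace (Yi i).obj := fun i => (Yi i).property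
  have hXi : ∀ i, IsAlgSpace (Xi i) := fun i => AlgSpLib.isAlgSpace_of_isPullback hX (hi i) hY (sq i)
  have hfpqc : IsFpqcCover (fun i => (Yi i).obj) (fun i => (j i).hom) :=
    AlgSpLib.isFpqcCover_of_isFppfCover hY hi ⟨fun i => ⟨
      AlgSpLib.locP_of_repWith (AlgSpLib.repWith_mono (fun _ _ g (_ : IsOpenImmersion g) => (inferInstance : Flat g)) (hj.1 i)),
      AlgSpLib.locP_of_repWith (AlgSpLib.repWith_mono
        (fun _ _ g (_ : IsOpenImmersion g) => (inferInstance : LocallyOfFinitePresentation g)) (hj.1 i))⟩, hj.2⟩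
  refine ⟨fun h => ?_, fun h => ?_, fun h => ?_⟩
  · exact AlgSpLib.isIntegralMor_iff.2 ((AlgSpLib.isLocalOnBase_fpqc_repWith_of_affine S @IsIntegralHom
      (fun _ _ g (_ : IsIntegralHom g) => (inferInstance : IsAffineHom g)) _ _ hY hi hfpqc _ hX Xi q p hXi sq).2
      fun i => AlgSpLib.isIntegralMor_iff.1 (h i))
  · exact AlgSpLib.isFiniteMor_iff.2 ((AlgSpLib.isLocalOnBase_fpqc_repWith_of_affine S @IsFinite
      (fun _ _ g (_ : IsFinite g) => (inferInstance : IsAffineHom g)) _ _ hY hi hfpqc _ hX Xi q p hXi sq).2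
      fun i => AlgSpLib.isFiniteMor_iff.1 (h i))
  · exact (AlgSpLib.isLocalOnBase_fpqc_repWith_of_affine S finLocFree
      (fun _ _ g hg => have := hg.1; (inferInstance : IsAffineHom g)) _ _ hY hi hfpqc _ hX Xi q p hXi sq).2 h

end Groth.Agent.S10336
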