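import Groth.Statements.S1034
import Groth.Agent.DerLimLib.Shift
import Groth.Agent.S0986
import Mathlib.CategoryTheory.Triangulated.HomologicalFunctor
import Mathlib.CategoryTheory.Limits.Preserves.Finite
import Mathlib.Algebra.Homology.ShortComplex.Exact

set_option autoImplicit false
universe v v' u u'
open CategoryTheory CategoryTheory.Limits
open DerLim

namespace Groth.Agent.S1034

open CategoryTheory.Pretriangulated in
/-- Let D be a pretriangulated category with countable direct sums, A an abelian category with exact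
colimits of shape ℕ, and H : D ⥤ A a homological functor that preserves countable direct sums. If L
(with maps iₙ : Kₙ ⟶ L) is a homotopy colimit of a system (Kₙ, fₙ), then H(L) is the colimit of the
H(Kₙ): there is an isomorphism colimₙ H(Kₙ) ≅ H(L) compatible with the maps H(iₙ). -/
theorem result {D : Type u} [Category.{v} D] [Preadditive D] [Limits.HasZeroObject D] [HasShift D ℤ]
    [∀ n : ℤ, (shiftFunctor D n).Additive] [Pretriangulated D] [IsTriangulated D] [HasColimitsOfShape (Discrete ℕ) D]
    {A : Type u'} [Category.{v'} A] [Abelian A] [HasColimitsOfShape ℕ A] [HasExactColimitsOfShape ℕ A]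
    (H : D ⥤ A) [H.IsHomological] [PreservesColimitsOfShape (Discrete ℕ) H]
    (K : ℕ → D) (f : ∀ n, K n ⟶ K (n + 1)) (L : D) (i : ∀ n, K n ⟶ L) (hL : DerLim.IsHocolim K f L i) :
    ∃ e : colimit (Functor.ofSequence (fun n => H.map (f n))) ≅ H.obj L,
      ∀ n : ℕ, colimit.ι (Functor.ofSequence (fun n => H.map (f n))) n ≫ e.hom = H.map (i n) := by
  haveI hc : ∀ K : ℕ → D, HasCoproduct (fun n => H.obj (K n)) := fun K =>
    ⟨⟨⟨(Cofan.mk (H.obj (∐ K)) fun n => H.map (Sigma.ι K n)), isColimitOfHasCoproductOfPreservesColimit H K⟩⟩⟩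
  have key : ∀ (K : ℕ → D) (f : ∀ n, K n ⟶ K (n + 1)), ∃ w : H.map (𝟙 (∐ K) - DerLim.shiftMap K f) ≫
      ((PreservesCoproduct.iso H K).hom ≫ Sigma.desc fun n => colimit.ι (Functor.ofSequence fun n => H.map (f n)) n) = 0,
      (ShortComplex.mk _ _ w).ShortExact := by
    intro K f
    haveI : HasCoproduct (Functor.ofSequence fun n => H.map (f n)).obj := hc K
    obtain ⟨w, hS⟩ := Groth.Agent.S0986.result (Functor.ofSequence fun n => H.map (f n))
    simp only [Functor.ofSequence_map_homOfLE_succ] at w hS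
    have h0 := DerLimLib.map_one_sub_shift H K f
    refine ⟨by rw [reassoc_of% h0]; exact (congrArg (fun z => (PreservesCoproduct.iso H K).hom ≫ z) w).trans comp_zero, ?_⟩
    refine ShortComplex.shortExact_of_iso (S₁ := ShortComplex.mk _ _ w) ?_ hS
    refine ShortComplex.isoMk (PreservesCoproduct.iso H K).symm (PreservesCoproduct.iso H K).symm (Iso.refl _) ?_ ?_
    · show (PreservesCoproduct.iso H K).inv ≫ _ = _ ≫ (PreservesCoproduct.iso H K).inv
      exact (Iso.inv_comp_eq _).2 (((Iso.eq_comp_inv _).2 h0).trans (Category.assoc _ _ _))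
    · exact ((PreservesCoproduct.iso H K).inv_hom_id_assoc _).trans (Category.comp_id _).symm
  obtain ⟨c, hT⟩ := hL
  obtain ⟨w1, hS1⟩ := key K f
  obtain ⟨w2, hS2⟩ := key (fun n => (K n)⟦(1 : ℤ)⟧) (fun n => (f n)⟦(1 : ℤ)⟧')
  haveI : HasCoproduct (fun n => (shiftFunctor D (1 : ℤ)).obj (K n)) := inferInstance
  have hmono : Mono (H.map ((shiftFunctor D (1 : ℤ)).map (𝟙 (∐ K) - DerLim.shiftMap K f))) := by
    have h := DerLimLib.map_one_sub_shift (shiftFunctor D (1 : ℤ)) K f
    rw [← Iso.eq_comp_inv] at h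
    rw [h, Functor.map_comp, Functor.map_comp]
    have := hS2.mono_f
    infer_instance
  have e2 := H.map_distinguished_exact _ (Pretriangulated.rot_of_distTriang _ hT)
  have e3 := H.map_distinguished_exact _ (Pretriangulated.rot_of_distTriang _ (Pretriangulated.rot_of_distTriang _ hT))
  have e1 := H.map_distinguished_exact _ hT
  have hc0 : H.map c = 0 := by
    have hz := Pretriangulated.comp_distTriang_mor_zero₂₃ _ (Pretriangulated.rot_of_distTriang _ hT)
    have hz' : c ≫ (shiftFunctor D (1 : ℤ)).map (𝟙 (∐ K) - DerLim.shiftMap K f) = 0 :=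
      neg_eq_zero.1 ((Preadditive.comp_neg _ _).symm.trans hz)
    rw [← cancel_mono (H.map ((shiftFunctor D (1 : ℤ)).map (𝟙 (∐ K) - DerLim.shiftMap K f))), ← H.map_comp, hz', H.map_zero, zero_comp]
  haveI : Epi (H.map (Sigma.desc i)) := e2.epi_f hc0
  have hd := DerLimLib.map_desc H K i
  haveI : Epi ((Pretriangulated.shortComplexOfDistTriangle _ hT).map H).g := ‹Epi (H.map (Sigma.desc i))›
  have e := (e1.gIsCokernel).coconePointUniqueUpToIso hS1.gIsCokernel
  have hcomp := IsColimit.comp_coconePointUniqueUpToIso_hom (e1.gIsCokernel) hS1.gIsCokernel WalkingParallelPair.one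
  refine ⟨((e1.gIsCokernel).coconePointUniqueUpToIso hS1.gIsCokernel).symm, fun n => ?_⟩
  have h3 : H.map (Sigma.desc i) ≫ ((e1.gIsCokernel).coconePointUniqueUpToIso hS1.gIsCokernel).hom =
      (PreservesCoproduct.iso H K).hom ≫ Sigma.desc fun n => colimit.ι (Functor.ofSequence fun n => H.map (f n)) n := hcomp
  rw [Iso.symm_hom, Iso.comp_inv_eq]
  have h4 := congrArg (fun z => H.map (Sigma.ι K n) ≫ z) h3
  simp only [← Category.assoc, ← Functor.map_comp, Sigma.ι_desc, DerLimLib.map_ι_iso_hom] at h4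
  exact h4.symm

end Groth.Agent.S1034
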