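import Groth.Statements.S10358
import Groth.Agent.MiscFlat6.FpqcDesc
import Groth.Agent.AlgSpLib.ImmLocal
import Groth.Agent.AlgSpLib.DecentPoints
import Groth.Agent.AlgSpLib.GeomLift
import Groth.Agent.AlgSpLib.PointMono
import Mathlib.AlgebraicGeometry.ZariskisMainTheorem

set_option autoImplicit false
set_option backward.isDefEq.respectTransparency false
set_option backward.isDefEq.respectTransparency.types false
universe u
open CategoryTheory CategoryTheory.Limits AlgebraicGeometry Topology TopologicalSpace
open AlgSp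

namespace Groth.Agent.S10358


variable {S : Scheme.{u}}

theorem repWith_finite_aux (X : Space S) {T : Over S} (p : (yon S).obj T ⟶ X.obj)
    (hp : RepWith @QuasiCompact p) [IsFinite T.hom] [IsLocallyArtinian T.left] : RepWith @IsFinite p := by
  obtain ⟨X₀, a, ha, has⟩ := X.property.atlas
  let κ := X₀.left.affineOpens
  let E : κ → Over S := fun O => Over.mk (O.2.fromSpec ≫ X₀.hom)
  let ιE : ∀ O, E O ⟶ X₀ := fun O => Over.homMk O.2.fromSpec rfl
  let e : ∀ O, (yon S).obj (E O) ⟶ X.obj := fun O => (yon S).map (ιE O) ≫ a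
  haveI hEA : ∀ O, IsAffine (E O).left := fun O => inferInstanceAs (IsAffine (Spec Γ(X₀.left, O.1)))
  have he : ∀ O, RepWith @Etale (e O) := fun O => AlgSpLib.repWith_comp
    ((repWith_yon_map_iff (P := (@Etale : MorphismProperty Scheme.{u})) (ιE O)).2
      (inferInstanceAs (Etale O.2.fromSpec))) ha
  have hes : ∀ x : Points X.obj, ∃ O, x ∈ Set.range (Points.map (e O)) := fun x => by
    obtain ⟨t, rfl⟩ := AlgSpLib.surjective_ofPt has x
    obtain ⟨O, hO, ht, -⟩ := exists_isAffineOpen_mem_and_subset (U := ⊤) (x := t) trivial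
    obtain ⟨s, rfl⟩ : t ∈ Set.range hO.fromSpec := by rw [hO.range_fromSpec]; exact ht
    refine ⟨⟨O, hO⟩, ?_⟩
    rw [← AlgSpLib.range_ofPt]
    exact ⟨s, AlgSpLib.ofPt_yon_comp (ιE ⟨O, hO⟩) a s⟩
  haveI : MorphismProperty.DescendsAlong @IsFinite
      (@Surjective ⊓ @Flat ⊓ @QuasiCompact : MorphismProperty Scheme.{u}) := AlgSpLib.descendsAlong_isFinite
  refine AlgSpLib.repWith_of_fppf X.property (fun O => IsAlgSpace.yon_obj _)
    (AlgSpLib.isFppfCover_of_charts e he hes) hp.rep (fun O => hp.rep.isPullback (e O)) fun O => ?_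
  refine (repWith_yon_map_iff (P := (@IsFinite : MorphismProperty Scheme.{u})) _).2 ?_
  have sq := hp.rep.isPullback (e O)
  let W := hp.rep.pullback (e O)
  let i : W ⟶ E O := hp.rep.snd (e O)
  haveI : QuasiCompact i.left := hp.property _ _ _ sq
  haveI : CompactSpace W.left := QuasiCompact.compactSpace_of_compactSpace i.left
  obtain ⟨t, ht⟩ := (yon S).map_surjective (hp.rep.fst (e O))
  haveI : Etale t.left := AlgSpLib.etale_left (ht ▸ AlgSpLib.repWith_of_isPullback sq.flip (he O))
  haveI : QuasiSeparatedSpace T.left := inferInstance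
  haveI : QuasiCompact t.left := quasiCompact_of_compactSpace _
  haveI : IsFinite t.left := (AlgSpLib.finLocFree_of_etale_compact t.left).1
  haveI : IsFinite (i.left ≫ (E O).hom) := by
    rw [Over.w i, ← Over.w t]
    infer_instance
  exact IsFinite.of_comp i.left (E O).hom


/-- Let S be a scheme, X a decent algebraic space over S, and Spec k ⟶ X a morphism over S from the
spectrum of a field whose image in S is a closed point s with k finite over κ(s) (Spec k ⟶ S written
through a ring map φ : κ(s) → k). Then Spec k ⟶ X is finite; if moreover φ is bijective (k = κ(s))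
it is a closed immersion. -/
theorem result {S : Scheme.{u}} (X : AlgSp.Space S)
    (hX : AlgSp.IsDecent X.obj) (s : ↥S) (hs : IsClosed ({s} : Set ↥S)) (k : Type u) [Field k]
    (φ : S.residueField s ⟶ CommRingCat.of k) (hφ : φ.hom.Finite)
    (p : (AlgSp.yon S).obj (Over.mk (Spec.map φ ≫ S.fromSpecResidueField s)) ⟶ X.obj) :
    AlgSp.RepWith @IsFinite p ∧
      (Function.Bijective φ.hom → AlgSp.RepWith @IsClosedImmersion p) := by
  haveI : IsClosedImmersion (S.fromSpecResidueField s) := isClosed_singleton_iff_isClosedImmersion.1 hs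
  haveI : IsFinite (Spec.map φ) := (IsFinite.SpecMap_iff φ).2 hφ
  let T : Over S := Over.mk (Spec.map φ ≫ S.fromSpecResidueField s)
  haveI : IsFinite T.hom := inferInstanceAs (IsFinite (Spec.map φ ≫ S.fromSpecResidueField s))
  haveI : IsLocallyArtinian T.left := inferInstanceAs (IsLocallyArtinian (Spec (CommRingCat.of k)))
  let q : FieldPt X.obj :=
    { K := k
      str := Spec.map φ ≫ S.fromSpecResidueField s
      val := (AlgSp.J S).uliftYonedaEquiv p }
  have hq : q.toHom = p := Equiv.symm_apply_apply _ _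
  obtain ⟨r, hr, hrm, hrq⟩ := hX (Points.mk q)
  haveI := hrm
  obtain ⟨c, hc, -⟩ := AlgSpLib.existsUnique_factor_of_mono X.property r q hr
  haveI : CompactSpace ↥q.pt.left := inferInstanceAs (CompactSpace (PrimeSpectrum k))
  haveI : QuasiSeparatedSpace ↥r.pt.left := inferInstanceAs (QuasiSeparatedSpace (PrimeSpectrum r.K))
  haveI : QuasiCompact c.left := quasiCompact_of_compactSpace _
  have hp : RepWith @QuasiCompact p := by
    rw [← hq, ← hc]
    exact AlgSpLib.repWith_comp ((repWith_yon_map_iff _ c).2 ‹QuasiCompact c.left›) hrq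
  have hfin := repWith_finite_aux X (T := T) p hp
  refine ⟨hfin, fun hb => ?_⟩
  haveI : IsIso (Spec.map φ) := by
    haveI : IsIso φ := (ConcreteCategory.isIso_iff_bijective φ).2 hb
    infer_instance
  haveI : Mono T.hom := inferInstanceAs (Mono (Spec.map φ ≫ S.fromSpecResidueField s))
  haveI : Mono p := by
    refine AlgSpLib.mono_of_injective fun Z g g' e => ?_
    obtain ⟨g₀, rfl⟩ := (yon S).map_surjective g
    obtain ⟨g₁, rfl⟩ := (yon S).map_surjective g'
    exact congrArg _ (Over.OverMorphism.ext ((cancel_mono T.hom).1 ((Over.w g₀).trans (Over.w g₁).symm)))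
  have hm := AlgSpLib.repWith_mono_of_mono hfin.rep
  refine ⟨hfin.rep, fun Z W g fst snd sq => ?_⟩
  change IsClosedImmersion snd.left
  haveI : IsFinite snd.left := hfin.property g fst snd sq
  haveI : Mono snd.left := hm.property g fst snd sq
  exact (IsClosedImmersion.iff_isProper_and_mono _).2 ⟨inferInstance, inferInstance⟩

end Groth.Agent.S10358
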