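import Groth.Statements.S10374
import Groth.Agent.FiltLib.Elem
import Groth.Agent.FiltLib.Chain


set_option autoImplicit false
set_option backward.isDefEq.respectTransparency false
set_option backward.isDefEq.respectTransparency.types false
universe u
open CategoryTheory CategoryTheory.Limits AlgebraicGeometry Topology TopologicalSpace
open AlgSp

namespace Groth.Agent.S10374

/-- Let S be a scheme and X a decent algebraic space over S. Every point x ∈ |X| admits an etale
neighbourhood (U, u) ⟶ (X, x) which is elementary, with U an affine scheme and u the only point of U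
over x; being elementary means that Spec κ(u) ⟶ X is a monomorphism, equivalently that the residue
field of X at x maps isomorphically to κ(u). -/
theorem result {S : Scheme.{u}} (X : AlgSp.Space S) (hX : AlgSp.IsDecent X.obj)
    (x : AlgSp.Points X.obj) :
    ∃ (U : Over S) (a : (AlgSp.yon S).obj U ⟶ X.obj) (u : ↥U.left), IsAffine U.left ∧
      AlgSp.IsElemEtaleNbhd a u x ∧ AlgSp.Points.ofPt a ⁻¹' {x} = {u} := by
  obtain ⟨U₁, a₁, h₁, h₁s⟩ := X.property.atlas
  obtain ⟨u₁, rfl⟩ := AlgSpLib.surjective_ofPt h₁s x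
  obtain ⟨U, ι, v, hU, hιv, -, hb⟩ := AlgSpLib.exists_affine_subchart h₁ u₁
  haveI := hU
  subst hιv
  obtain ⟨R, t, s, sq⟩ := AlgSpLib.exists_isPullback_yon _ _ hb.rep
  haveI : Etale t.left := AlgSpLib.etale_left (AlgSpLib.repWith_of_isPullback sq.flip hb)
  haveI := SpectralQuot.isSeparated_t sq
  have hx : AlgSp.Points.ofPt ((AlgSp.yon S).map ι ≫ a₁) v = AlgSp.Points.ofPt a₁ (ι.left v) :=
    AlgSpLib.ofPt_yon_comp ι a₁ v
  rw [← hx]
  have hfin : (t.left ⁻¹' {v}).Finite := by
    refine (((AlgSpLib.exists_decentPt_iff_finite X.property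
      (AlgSp.Points.ofPt ((AlgSp.yon S).map ι ≫ a₁) v)).mpr (hX _) U _ hU hb R s t sq).2).subset fun r hr => ?_
    simp only [Set.mem_preimage, Set.mem_singleton_iff] at hr ⊢
    rw [AlgSpLib.ofPt_yon_comp t, hr]
  classical
  have hex := SpectralQuot.exists_not_atLeast t.left v hfin
  obtain ⟨e, het, -⟩ := FiltLib.exists_lift sq (𝟙 U) (𝟙 U) rfl
  have h1 : SpectralQuot.AtLeast t.left 1 v := SpectralQuot.atLeast_of_points t.left (fun _ => e.left v)
    (fun i j _ => Subsingleton.elim i j) fun _ => by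
      rw [← Scheme.Hom.comp_apply, show e.left ≫ t.left = 𝟙 _ from congrArg CommaMorphism.left het]; rfl
  obtain ⟨n, hn⟩ : ∃ n, Nat.find hex = n + 2 := by
    refine ⟨Nat.find hex - 2, ?_⟩
    have : 1 < Nat.find hex := by
      by_contra h
      rcases Nat.le_one_iff_eq_zero_or_eq_one.1 (not_lt.1 h) with h' | h'
      · exact Nat.find_spec hex (h'.symm ▸ SpectralQuot.atLeast_zero _ _)
      · exact Nat.find_spec hex (h'.symm ▸ h1)
    omega
  have hno : ¬ SpectralQuot.AtLeast t.left (n + 2) v := hn ▸ Nat.find_spec hex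
  have hyes : SpectralQuot.AtLeast t.left (n + 1) v := by
    by_contra h
    exact Nat.find_min hex (hn ▸ Nat.lt_succ_self _) h
  obtain ⟨M, f, -, hf, hrf, hinj, -⟩ := FiltLib.exists_stratum_chart sq hb X.property n
  obtain ⟨w, hw⟩ := hrf.symm.subset ((FiltLib.mem_strata_iff sq hb v).2 hyes)
  obtain ⟨A, hA, hwA, -⟩ := exists_isAffineOpen_mem_and_subset (X := M.left) (x := w) (U := ⊤) trivial
  obtain ⟨V, g, hV, hg, hrg, hgi, -⟩ := FiltLib.exists_affine_restrict hf hinj A hA
  haveI := hV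
  obtain ⟨u, hu⟩ := hrg.symm.subset ⟨w, hwA, hw⟩
  have huZ : AlgSp.Points.ofPt g u ∈ (FiltLib.strata ((AlgSp.yon S).map ι ≫ a₁) t (n + 2))ᶜ := by
    rw [hu]; exact fun h => hno ((FiltLib.mem_strata_iff sq hb v).1 h)
  refine ⟨V, g, u, hV, hu ▸ FiltLib.isElemEtaleNbhd_of_injOver hg hgi huZ, ?_⟩
  ext z
  simp only [Set.mem_preimage, Set.mem_singleton_iff]
  exact ⟨fun hz => FiltLib.eq_of_injOver hg hgi (hz.trans hu.symm) (by rw [hz, ← hu]; exact huZ),
    fun hz => hz ▸ hu⟩


end Groth.Agent.S10374
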