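import Groth.Statements.S10376
import Groth.Agent.NormSpLib.Main

set_option autoImplicit false
set_option backward.isDefEq.respectTransparency false
set_option backward.isDefEq.respectTransparency.types false
universe u
open CategoryTheory CategoryTheory.Limits AlgebraicGeometry Topology TopologicalSpace
open AlgSp

namespace Groth.Agent.S10376

/-- Let S be a scheme, Y and V algebraic spaces over S, j : V ⟶ Y a quasi-compact open immersion, and π
: Z ⟶ V an integral morphism. Then one can find an integral morphism ν : Y' ⟶ Y for which Z is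
isomorphic over V to the preimage in Y' of V: there is j' : Z ⟶ Y' making the square (j', π, ν, j)
cartesian. -/
theorem result {S : Scheme.{u}} {V Y Z : AlgSp.Space S} (j : V ⟶ Y)
    (hj : AlgSp.RepWith @IsOpenImmersion j.hom) (hjq : AlgSp.IsQuasiCompactMor j.hom) (π : Z ⟶ V)
    (hπ : AlgSp.IsIntegralMor π.hom) :
    ∃ (Y' : AlgSp.Space S) (ν : Y' ⟶ Y) (j' : Z ⟶ Y'), AlgSp.IsIntegralMor ν.hom ∧
      IsPullback j'.hom π.hom ν.hom j.hom := by
  have hπ' := AlgSpLib.isIntegralMor_iff.1 hπ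
  haveI : Mono j.hom := AlgSpLib.mono_of_openImmersion hj
  have hsep : AlgSp.IsSeparatedMor (π.hom ≫ j.hom) := AlgSpLib.isSeparatedMor_comp
    (AlgSpLib.isSeparatedMor_of_repWith
      (AlgSpLib.repWith_mono (fun _ _ k (_ : IsIntegralHom k) => (inferInstance : IsSeparated k)) hπ'))
    (AlgSpLib.isSeparatedMor_of_repWith
      (AlgSpLib.repWith_mono (fun _ _ k (_ : IsOpenImmersion k) => (inferInstance : IsSeparated k)) hj))
  have hqc : AlgSp.IsQuasiCompactMor (π.hom ≫ j.hom) := AlgSpLib.isQuasiCompactMor_comp V.property Y.property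
    (AlgSpLib.isQuasiCompactMor_of_repWith Z.property V.property
      (AlgSpLib.repWith_mono (fun _ _ k (_ : IsIntegralHom k) => (inferInstance : QuasiCompact k)) hπ')) hjq
  have hqs := AlgSpLib.isQuasiSeparatedMor_of_isSeparatedMor hsep
  obtain ⟨A, φ, F, bY, p, Y', ν, f', N, a', νN, g, -, -, -, -, hY', -, -, -, -, hn⟩ :=
    NormSpLib.exists_norm_chart Y.property Z.property (π.hom ≫ j.hom) hqc hqs
  have sqP := IsPullback.of_hasPullback ν j.hom
  have hP : AlgSp.IsAlgSpace (pullback ν j.hom) := AlgSpLib.isAlgSpace_pullback hY' V.property Y.property _ _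
  let l := sqP.lift f' π.hom hn.1
  have hl₁ : l ≫ pullback.fst ν j.hom = f' := sqP.lift_fst _ _ _
  have hl₂ : l ≫ pullback.snd ν j.hom = π.hom := sqP.lift_snd _ _ _
  have sq1 : IsPullback (𝟙 Z.obj) π.hom (π.hom ≫ j.hom) j.hom := IsPullback.of_horiz_isIso_mono ⟨by simp⟩
  have hnP := NormSpLib.isRelNormalization_smooth_pullback Y.property V.property Z.property hY' sq1 hqc hqs
    (AlgSpLib.locP_smooth_of_isEtaleMor (AlgSpLib.isEtaleMor_of_openImmersion hj)) hn sqP hl₂
    (by rw [hl₁, Category.id_comp])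
  obtain ⟨k, ⟨hk₁, hk₂⟩, -⟩ := hnP.2.2 Z.property π.hom (𝟙 Z.obj) hπ (Category.id_comp _)
  have hkl : k ≫ l = 𝟙 (pullback ν j.hom) := (hnP.2.2 hP (pullback.snd ν j.hom) l hnP.2.1 hl₂).unique
    ⟨by rw [reassoc_of% hk₁], by rw [Category.assoc, hl₂, hk₂]⟩ ⟨Category.comp_id _, Category.id_comp _⟩
  let L : Z.obj ≅ pullback ν j.hom := ⟨l, k, hk₁, hkl⟩
  refine ⟨⟨Y', hY'⟩, ObjectProperty.homMk ν, ObjectProperty.homMk f', hn.2.1, ?_⟩
  exact sqP.of_iso L.symm (Iso.refl _) (Iso.refl _) (Iso.refl _)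
    (by simp [L, ← hl₁, reassoc_of% hkl]) (by simp [L, ← hl₂, reassoc_of% hkl]) (by simp) (by simp)

end Groth.Agent.S10376
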