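import Groth.Statements.S10377
import Groth.Agent.UBddLib.Space
import Groth.Agent.AlgSpLib.QcQs
import Groth.Agent.SpectralQuot.Space
import Groth.Agent.ProConsLib.Top
-- import your own Groth.Agent.* helpers here

set_option autoImplicit false
universe u
open CategoryTheory CategoryTheory.Limits AlgebraicGeometry Topology TopologicalSpace
open AlgSp

open AlgebraicGeometry CategoryTheory CategoryTheory.Limits TopologicalSpace Topology
set_option backward.isDefEq.respectTransparency false
set_option backward.isDefEq.respectTransparency.types false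
namespace Groth.Agent.S10377

theorem qs_of_mono {S : Scheme.{u}} {F G : AlgSp.Sp S} (j : F ⟶ G) [Mono j] (hG : AlgSp.IsQuasiSeparatedSp G) :
    AlgSp.IsQuasiSeparatedSp F := by
  refine AlgSpLib.repWith_of_isPullback (fst := j) (snd := Limits.diag F) (g := prod.map j j) ⟨⟨?_⟩, ⟨?_⟩⟩ hG
  · apply Limits.prod.hom_ext <;> simp
  · refine PullbackCone.IsLimit.mk _ (fun c => c.snd ≫ prod.fst) (fun c => ?_) (fun c => ?_) (fun c m _ h2 => ?_)
    · have h := congrArg (· ≫ prod.fst) c.condition
      simp only [Category.assoc, Limits.prod.lift_fst, Category.comp_id, Limits.prod.map_fst] at h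
      rw [Category.assoc]; exact h.symm
    · have h₁ := congrArg (· ≫ prod.fst) c.condition
      have h₂ := congrArg (· ≫ prod.snd) c.condition
      simp only [Category.assoc, Limits.prod.lift_fst, Limits.prod.lift_snd, Category.comp_id, Limits.prod.map_fst,
        Limits.prod.map_snd] at h₁ h₂
      apply Limits.prod.hom_ext
      · simp
      · simp only [Category.assoc, Limits.prod.lift_snd, Category.comp_id]
        exact (cancel_mono j).1 (by rw [Category.assoc, Category.assoc, ← h₁, h₂])
    · rw [← h2]; simp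

theorem key {S : Scheme.{u}} [QuasiSeparatedSpace ↥S] (X : AlgSp.Space S) (hX : AlgSp.IsQuasiSeparatedSp X.obj)
    {U : Over S} [IsAffine U.left] (a : (AlgSp.yon S).obj U ⟶ X.obj) (ha : AlgSp.RepWith @Etale a)
    (E : Set (AlgSp.Points X.obj)) :
    SpectralSpace (Set.range (AlgSp.Points.ofPt a)) ∧ (IsConstructible (AlgSp.Points.ofPt a ⁻¹' E) ↔
      IsConstructible ((Subtype.val : Set.range (AlgSp.Points.ofPt a) → AlgSp.Points X.obj) ⁻¹' E)) := by
  let W := Set.range (AlgSp.Points.ofPt a)
  have hWo : IsOpen W := (AlgSpLib.isOpenMap_ofPt ha).isOpen_range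
  let X' : AlgSp.Space S := ⟨AlgSpLib.openSub X.obj W, AlgSpLib.isAlgSpace_openSub X.property hWo⟩
  let J := AlgSpLib.openSubι X.obj W
  obtain ⟨l, hl⟩ := (AlgSpLib.exists_lift_openSub (W := W) a).2 fun t => ⟨t, rfl⟩
  have hJ : IsOpenEmbedding (AlgSp.Points.map J) := by
    refine IsOpenEmbedding.of_continuous_injective_isOpenMap (AlgSp.Points.continuous_map _) ?_
      (AlgSpLib.isOpenMap_map_of_isEtaleMor X'.property
        (AlgSpLib.isEtaleMor_of_openImmersion (AlgSpLib.repWith_openSubι X.obj hWo)))
    intro x y e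
    obtain ⟨w, rfl, rfl⟩ := AlgSpLib.exists_point_isPullback (IsKernelPair.id_of_mono J) x y e
    rfl
  have h₀ : IsPullback (𝟙 _) l a J := by
    have h₁ : IsPullback (𝟙 _) l l (𝟙 _) := IsPullback.of_horiz_isIso ⟨by simp⟩
    have h₂ := UBddLib.isPullback_comp_mono h₁ J
    rwa [Category.id_comp, hl] at h₂
  have hle : AlgSp.RepWith @Etale l := AlgSpLib.repWith_of_isPullback h₀ ha
  have hmap : AlgSp.Points.ofPt a = AlgSp.Points.map J ∘ AlgSp.Points.ofPt l := by
    funext t
    rw [Function.comp_apply, AlgSp.Points.map_ofPt, hl]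
  have hls : Function.Surjective (AlgSp.Points.ofPt l) := fun y => by
    have hy : AlgSp.Points.map J y ∈ W := (AlgSpLib.range_openSubι X.obj).le ⟨y, rfl⟩
    obtain ⟨t, ht⟩ := hy
    exact ⟨t, hJ.injective ((congrFun hmap t).symm.trans ht)⟩
  have hqs' : AlgSp.IsQuasiSeparatedSp X'.obj := qs_of_mono J hX
  have hqc' : AlgSp.IsQuasiCompactSp X'.obj := by
    refine AlgSpLib.isQuasiCompactSp_of_surjective X'.property (f := l) ?_ (AlgSpLib.isQuasiCompactSp_yon U)
    rw [← Set.range_eq_univ, ← AlgSpLib.range_ofPt]
    exact hls.range_eq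
  haveI : SpectralSpace (AlgSp.Points X'.obj) := SpectralQuot.spectralSpace_space X' hqc' hqs'
  have hqcl : AlgSp.IsQuasiCompactMor l :=
    AlgSpLib.isQuasiCompactMor_of_qcSp_qsSp (IsAlgSpace.yon_obj U) X'.property l (AlgSpLib.isQuasiCompactSp_yon U) hqs'
  have hpre : ∀ s, IsConstructible s → IsConstructible (AlgSp.Points.ofPt l ⁻¹' s) := fun s hs =>
    hs.preimage (AlgSp.Points.continuous_ofPt l) fun V hV hVc => by
      have hVc' : IsCompact V := by simpa using hVc isCompact_univ isOpen_univ
      refine IsCompact.isRetrocompact ?_ (hV.preimage (AlgSp.Points.continuous_ofPt l))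
      rw [AlgSpLib.ofPt_comp_ofScheme, Set.preimage_comp]
      exact (AlgSp.Points.schemeHomeo U).isCompact_preimage.2
        (AlgSpLib.isCompact_preimage X'.property hqcl hV hVc')
  let E' : Set (AlgSp.Points X'.obj) := AlgSp.Points.map J ⁻¹' E
  have hE' : IsConstructible (AlgSp.Points.ofPt l ⁻¹' E') ↔ IsConstructible E' := by
    refine ⟨fun h => ?_, hpre E'⟩
    rw [← ProConsLib.isClopen_cons_iff] at h ⊢
    have hc := ProConsLib.continuous_cons hpre
    have hcm : @IsClosedMap _ _ (constructibleTopology _) (constructibleTopology _) (AlgSp.Points.ofPt l) :=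
      @Continuous.isClosedMap _ _ (constructibleTopology _) (constructibleTopology _) ProConsLib.compactSpace_cons
        ProConsLib.t2Space_cons _ hc
    refine ⟨?_, ?_⟩
    · rw [← Set.image_preimage_eq E' hls]
      exact hcm _ h.1
    · rw [← @isClosed_compl_iff _ (constructibleTopology _), ← Set.image_preimage_eq E'ᶜ hls, Set.preimage_compl]
      exact hcm _ (@IsOpen.isClosed_compl _ (constructibleTopology _) _ h.2)
  rw [hmap]
  have hr : Set.range (AlgSp.Points.map J) = Set.range (AlgSp.Points.map J ∘ AlgSp.Points.ofPt l) := by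
    rw [Set.range_comp (AlgSp.Points.map J) (AlgSp.Points.ofPt l), hls.range_eq, Set.image_univ]
  let e : AlgSp.Points X'.obj ≃ₜ Set.range (AlgSp.Points.map J ∘ AlgSp.Points.ofPt l) :=
    hJ.isEmbedding.toHomeomorph.trans (Homeomorph.setCongr hr)
  haveI : CompactSpace (Set.range (AlgSp.Points.map J ∘ AlgSp.Points.ofPt l)) := e.compactSpace
  refine ⟨e.symm.isOpenEmbedding.spectralSpace, ?_⟩
  rw [Set.preimage_comp]
  refine hE'.trans ⟨fun h => ?_, fun h => (IsConstructible.preimage_of_isOpenEmbedding (f := e) e.isOpenEmbedding h :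
    IsConstructible (e ⁻¹' _))⟩
  have h' := h.preimage_of_isOpenEmbedding e.symm.isOpenEmbedding
  convert h' using 1
  ext w
  show (w : AlgSp.Points X.obj) ∈ E ↔ AlgSp.Points.map J (e.symm w) ∈ E
  rw [show AlgSp.Points.map J (e.symm w) = (e (e.symm w) : AlgSp.Points X.obj) from rfl, e.apply_symm_apply]

/-- Let S be a scheme with quasi-separated underlying space, X an algebraic space over S which is
quasi-separated over S, and E ⊆ |X|. Then E is etale locally constructible (its inverse image in
every scheme etale over X is locally constructible) exactly when E, as a subset of the topological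
space |X|, is locally constructible. (The published statement assumes X quasi-separated in the
absolute sense; this row assumes S has quasi-separated underlying space and X quasi-separated over
S, which together imply it.) -/
theorem result {S : Scheme.{u}} [QuasiSeparatedSpace ↥S]
    (X : AlgSp.Space S) (hX : AlgSp.IsQuasiSeparatedSp X.obj) (E : Set (AlgSp.Points X.obj)) :
    (∀ (U : Over S) (a : (AlgSp.yon S).obj U ⟶ X.obj), AlgSp.RepWith @Etale a →
        IsLocallyConstructible (AlgSp.Points.ofPt a ⁻¹' E)) ↔
      IsLocallyConstructible E := by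
  constructor
  · intro h x
    obtain ⟨V, b, hb, hbs⟩ := X.property.atlas
    obtain ⟨v, rfl⟩ := AlgSpLib.surjective_ofPt hbs x
    obtain ⟨O, hO, hvO, -⟩ := exists_isAffineOpen_mem_and_subset (U := ⊤) (x := v) trivial
    let U : Over S := Over.mk (O.ι ≫ V.hom)
    haveI : IsAffine U.left := hO
    let j : U ⟶ V := Over.homMk O.ι rfl
    let a := (AlgSp.yon S).map j ≫ b
    have ha : AlgSp.RepWith @Etale a := AlgSpLib.repWith_comp (P := (@Etale : MorphismProperty Scheme.{u}))
      ((AlgSp.repWith_yon_map_iff (@Etale : MorphismProperty Scheme.{u}) j).2 (inferInstanceAs (Etale O.ι))) hb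
    have hW := (AlgSpLib.isOpenMap_ofPt ha).isOpen_range
    refine ⟨_, hW.mem_nhds ⟨⟨v, hvO⟩, AlgSpLib.ofPt_yon_comp _ _ _⟩, hW, (key X hX a ha E).2.1 ?_⟩
    exact (h U a ha).isConstructible
  · intro h U a ha
    refine Topology.IsLocallyConstructible.of_isOpenCover (U := fun O : U.left.affineOpens => O.1)
      (iSup_affineOpens_eq_top U.left) fun O => ?_
    let U' : Over S := Over.mk (O.1.ι ≫ U.hom)
    haveI : IsAffine U'.left := O.2
    let j : U' ⟶ U := Over.homMk O.1.ι rfl
    let a' := (AlgSp.yon S).map j ≫ a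
    have ha' : AlgSp.RepWith @Etale a' := AlgSpLib.repWith_comp (P := (@Etale : MorphismProperty Scheme.{u}))
      ((AlgSp.repWith_yon_map_iff (@Etale : MorphismProperty Scheme.{u}) j).2 (inferInstanceAs (Etale O.1.ι))) ha
    have hW := (AlgSpLib.isOpenMap_ofPt ha').isOpen_range
    have hl := h.preimage_of_isOpenEmbedding hW.isOpenEmbedding_subtypeVal
    have hc : IsConstructible (AlgSp.Points.ofPt a' ⁻¹' E) := by
      refine (key X hX a' ha' E).2.2 ?_
      haveI : SpectralSpace (Set.range (AlgSp.Points.ofPt a')) := (key X hX a' ha' E).1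
      exact hl.isConstructible
    refine (congrArg IsLocallyConstructible ?_).mp hc.isLocallyConstructible
    ext z
    simp only [a', Set.mem_preimage]
    rw [AlgSpLib.ofPt_yon_comp]
    rfl

end Groth.Agent.S10377
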