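import Groth.Statements.S10385
import Groth.Agent.MonoPtLib.Basic

set_option autoImplicit false
set_option backward.isDefEq.respectTransparency false
set_option backward.isDefEq.respectTransparency.types false

universe u
open CategoryTheory CategoryTheory.Limits AlgebraicGeometry Topology TopologicalSpace
open AlgSp

namespace Groth.Agent.S10385

/-- Let S be a scheme, X and Y algebraic spaces over S, and f : X ⟶ Y a quasi-compact, etale and
surjective morphism. If each point of X can be represented by a monomorphism whose source is the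
spectrum of a field, then so can each point of Y. -/
theorem result {S : Scheme.{u}} {X Y : AlgSp.Space S} (f : X ⟶ Y)
    (hq : AlgSp.IsQuasiCompactMor f.hom) (he : AlgSp.IsEtaleMor f.hom) (hs : AlgSp.IsSurjectiveMor f.hom)
    (hX : ∀ x : AlgSp.Points X.obj, ∃ p : AlgSp.FieldPt X.obj, AlgSp.Points.mk p = x ∧ Mono p.toHom)
    (y : AlgSp.Points Y.obj) : ∃ q : AlgSp.FieldPt Y.obj, AlgSp.Points.mk q = y ∧ Mono q.toHom := by
  obtain ⟨x, hx⟩ := hs y
  obtain ⟨U, a, ha, has⟩ := X.property.atlas
  obtain ⟨u, hu⟩ := AlgSpLib.surjective_ofPt has x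
  have hψ : RepWith @Etale (a ≫ f.hom) := he a ha
  have hy : Points.ofPt (a ≫ f.hom) u = y := by rw [← Points.map_ofPt, hu, hx]
  obtain ⟨R, t, s, sqR⟩ := AlgSpLib.exists_isPullback_yon (a ≫ f.hom) (a ≫ f.hom) hψ.rep
  let j : MonoPtLib.resPt u ⟶ U := MonoPtLib.resι u
  let b : (yon S).obj (MonoPtLib.resPt u) ⟶ Y.obj := (yon S).map j ≫ a ≫ f.hom
  have sqP := IsPullback.of_hasPullback f.hom b
  have hZ := IsAlgSpace.yon_obj (S := S) (MonoPtLib.resPt u)
  have hpr := AlgSpLib.isEtaleMor_of_isPullback X.property Y.property hZ sqP he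
  obtain ⟨V, aV, hV, haV, haVs⟩ := AlgSpLib.exists_affine_chart
    (hq hZ (AlgSpLib.isQuasiCompactSp_yon (MonoPtLib.resPt u)) b _ _ sqP)
  obtain ⟨g, hg⟩ := (yon S).map_surjective (aV ≫ pullback.snd f.hom b)
  haveI : Etale g.left := AlgSpLib.locP_etale_of_isEtaleMor hpr aV (𝟙 _) g haV
    (repWith_id (@Etale : MorphismProperty Scheme.{u}) _) (by rw [Category.comp_id, hg])
  haveI : DiscreteTopology ↥V.left := MonoPtLib.discrete_of_etale g.left
  haveI := hV
  haveI : Finite ↥V.left := finite_of_compact_of_discrete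
  let cX := aV ≫ pullback.fst f.hom b
  obtain ⟨W, wU, wV, sqW⟩ := AlgSpLib.exists_isPullback_yon a cX ha.rep
  have hWfin : {w : W.left | wU.left w = u}.Finite := by
    refine ((Set.finite_univ (α := V.left)).biUnion
      (t := fun v => {w : W.left | wV.left w = v ∧ wU.left w = u}) fun v _ => ?_).subset fun w hw =>
        Set.mem_iUnion₂.2 ⟨wV.left w, trivial, rfl, hw⟩
    obtain hemp | ⟨w₀, hw₀v, hw₀u⟩ :=
      {w : W.left | wV.left w = v ∧ wU.left w = u}.eq_empty_or_nonempty
    · rw [hemp]; exact Set.finite_empty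
    obtain ⟨p, hp, hm⟩ := hX x
    have hpq : Points.mk p = Points.mk (FieldPt.ofPt cX v) := hp.trans (hu.symm.trans
      ((AlgSpLib.ofPt_eq_ofPt_iff sqW u v).2 ⟨w₀, hw₀u, hw₀v⟩))
    obtain ⟨F, fU, fK, sqF⟩ := AlgSpLib.exists_isPullback_yon a p.toHom ha.rep
    haveI : Etale fK.left := AlgSpLib.etale_left (AlgSpLib.repWith_of_isPullback sqF ha)
    haveI : LocallyQuasiFinite fK.left := AlgSpLib.locallyQuasiFinite_of_etale fK.left
    let jv : (FieldPt.ofPt cX v).pt ⟶ V := Over.homMk (V.left.fromSpecResidueField v) rfl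
    have sqv : IsPullback ((yon S).map (pullback.fst wV jv ≫ wU)) ((yon S).map (pullback.snd wV jv)) a
        (FieldPt.ofPt cX v).toHom := by
      rw [FieldPt.toHom_ofPt, Functor.map_comp]
      exact ((IsPullback.of_hasPullback wV jv).map (yon S)).paste_horiz sqW
    refine ((MonoPtLib.finite_points_over_mono X.property hm hpq u sqF sqv ⊤
      (Set.subset_univ _)).image (pullback.fst wV jv).left).subset fun w ⟨hwv, hwu⟩ => ?_
    obtain ⟨z, hz, -⟩ := Scheme.exists_preimage_of_isPullback (AlgSpLib.left_isPullback wV jv) w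
      (IsLocalRing.closedPoint (FieldPt.ofPt cX v).K)
      (hwv.trans (V.left.fromSpecResidueField_apply v _).symm)
    exact ⟨z, by rw [Set.mem_setOf_eq, MonoPtLib.over_comp_apply, hz, hwu], hz⟩
  have hW : (yon S).map (wV ≫ g ≫ j) ≫ a ≫ f.hom = (yon S).map wU ≫ a ≫ f.hom := by
    rw [← Category.assoc ((yon S).map wU), sqW.w, Category.assoc, Category.assoc, sqP.w, ← Category.assoc aV,
      ← hg, Functor.map_comp, Functor.map_comp, Category.assoc, Category.assoc]
  obtain ⟨G, hGt, hGs⟩ := AlgSpLib.kp_lift sqR _ _ hW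
  have hA : {r : R.left | s.left r = u ∧ t.left r = u}.Finite := by
    refine (hWfin.image G.left).subset fun r ⟨hrs, hrt⟩ => ?_
    obtain ⟨e, he, -⟩ := Scheme.exists_preimage_of_isPullback (AlgSpLib.left_isPullback t j) r
      (IsLocalRing.closedPoint (U.left.residueField u)) (hrt.trans (MonoPtLib.resι_apply u _).symm)
    let eR := pullback.fst t j
    let e₁ := pullback.snd t j
    let γ := sqP.lift ((yon S).map (eR ≫ s) ≫ a) ((yon S).map e₁) (by
      rw [Category.assoc, Functor.map_comp, Category.assoc, ← sqR.w, ← Functor.map_comp_assoc,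
        pullback.condition, Functor.map_comp_assoc])
    obtain ⟨K, kV, kE, sqK⟩ := AlgSpLib.exists_isPullback_yon aV γ haV.rep
    haveI : Surjective kE.left := AlgSpLib.surjective_left (AlgSpLib.repWith_of_isPullback sqK haVs)
    obtain ⟨k, hk⟩ := kE.left.surjective e
    obtain ⟨H, hH⟩ := (yon S).map_surjective (sqW.lift ((yon S).map (kE ≫ eR ≫ s)) ((yon S).map kV) (by
      rw [Functor.map_comp, Category.assoc]
      change _ = (yon S).map kV ≫ aV ≫ pullback.fst f.hom b
      rw [← Category.assoc ((yon S).map kV), sqK.w, Category.assoc, sqP.lift_fst]))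
    have hHU : H ≫ wU = kE ≫ eR ≫ s := (yon S).map_injective (by rw [Functor.map_comp, hH, sqW.lift_fst])
    have hHV : H ≫ wV = kV := (yon S).map_injective (by rw [Functor.map_comp, hH, sqW.lift_snd])
    have hkg : kV ≫ g = kE ≫ e₁ := (yon S).map_injective (by
      rw [Functor.map_comp, hg, ← Category.assoc, sqK.w, Category.assoc, sqP.lift_snd, Functor.map_comp])
    have hHG : H ≫ G = kE ≫ eR := by
      apply (yon S).map_injective
      refine sqR.hom_ext ?_ ?_
      · rw [← Functor.map_comp, ← Functor.map_comp]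
        refine congrArg _ ?_
        rw [Category.assoc, hGt, ← Category.assoc, hHV, ← Category.assoc, hkg, Category.assoc, Category.assoc,
          pullback.condition]
      · rw [← Functor.map_comp, ← Functor.map_comp]
        refine congrArg _ ?_
        rw [Category.assoc, hGs, hHU, Category.assoc]
    refine ⟨H.left k, ?_, ?_⟩
    · rw [Set.mem_setOf_eq, ← MonoPtLib.over_comp_apply, hHU, MonoPtLib.over_comp_apply,
        MonoPtLib.over_comp_apply, hk, he, hrs]
    · rw [← MonoPtLib.over_comp_apply, hHG, MonoPtLib.over_comp_apply, hk, he]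
  obtain ⟨q, hq', hm⟩ := MonoPtLib.exists_mono_of_finite_diag Y.property hψ u sqR hA
  exact ⟨q, hq'.trans hy, hm⟩

end Groth.Agent.S10385
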