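import Groth.Statements.S10389
import Groth.Agent.MonoPtLib.Basic

set_option autoImplicit false
set_option backward.isDefEq.respectTransparency false
set_option backward.isDefEq.respectTransparency.types false

universe u
open CategoryTheory CategoryTheory.Limits AlgebraicGeometry Topology TopologicalSpace
open AlgSp

namespace Groth.Agent.S10389

/-- Let W = X ×_Y Z be a fibre product of algebraic spaces over a scheme S with projections p, q, and
let x ∈ |X|, z ∈ |Z| lie over the same point y ∈ |Y|. If y is represented by a monomorphism Spec k ⟶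
Y from the spectrum of a field and g : Z ⟶ Y is quasi-finite at z, then the set of points of |W|
mapping to x and to z is finite. (Special case: Y decent and g etale.) -/
theorem result {S : Scheme.{u}} {X Y Z W : AlgSp.Space S} (f : X ⟶ Y)
    (g : Z ⟶ Y) (p : W ⟶ X) (q : W ⟶ Z) (hW : IsPullback p.hom q.hom f.hom g.hom) (x : AlgSp.Points X.obj)
    (z : AlgSp.Points Z.obj) (hxz : AlgSp.Points.map f.hom x = AlgSp.Points.map g.hom z)
    (hy : ∃ r : AlgSp.FieldPt Y.obj, AlgSp.Points.mk r = AlgSp.Points.map g.hom z ∧ Mono r.toHom)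
    (hg : AlgSp.HasAtMor (fun U _ h u => ∃ W : U.Opens, u ∈ W ∧ LocallyQuasiFinite (W.ι ≫ h) ∧ LocallyOfFiniteType (W.ι ≫ h)) g.hom z) :
    {w : AlgSp.Points W.obj | AlgSp.Points.map p.hom w = x ∧ AlgSp.Points.map q.hom w = z}.Finite := by
  obtain ⟨r, hr, hm⟩ := hy
  obtain ⟨U, V, a, b, h, u, ha, hb, hab, hu, W₀, hu₀, hqf, -⟩ := hg
  obtain ⟨qx, rfl⟩ := Points.mk_surjective x
  let qy : FieldPt Y.obj := qx.map f.hom
  have hqy : qy.toHom = qx.toHom ≫ f.hom := FieldPt.toHom_map f.hom qx
  have hry : Points.mk r = Points.mk qy := hr.trans hxz.symm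
  obtain ⟨T, tU, tK, sqT⟩ := AlgSpLib.exists_isPullback_yon (a ≫ g.hom) qy.toHom
    (Y.property.representable_from_yon _)
  obtain ⟨F, fU, fK, sqF⟩ := AlgSpLib.exists_isPullback_yon (a ≫ g.hom) r.toHom
    (Y.property.representable_from_yon _)
  obtain ⟨FV, vV, vK, sqV⟩ := AlgSpLib.exists_isPullback_yon b r.toHom hb.rep
  obtain ⟨H, hH⟩ := (yon S).map_surjective (sqV.lift ((yon S).map (fU ≫ h)) ((yon S).map fK) (by
    rw [Functor.map_comp, Category.assoc, ← hab, sqF.w]))
  have hHV : H ≫ vV = fU ≫ h := (yon S).map_injective (by rw [Functor.map_comp, hH, sqV.lift_fst])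
  have hHK : H ≫ vK = fK := (yon S).map_injective (by rw [Functor.map_comp, hH, sqV.lift_snd])
  have sqH : IsPullback ((yon S).map fU) ((yon S).map H) ((yon S).map h) ((yon S).map vV) := by
    refine (IsPullback.of_right ?_ (by rw [← Functor.map_comp, ← Functor.map_comp, hHV]) sqV.flip).flip
    rw [← Functor.map_comp, hHK, ← hab]
    exact sqF.flip
  have sqO := (isPullback_morphismRestrict fU.left W₀).paste_vert (AlgSpLib.isPullback_left sqH)
  haveI := hqf
  haveI : LocallyQuasiFinite ((fU.left ⁻¹ᵁ W₀).ι ≫ H.left) :=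
    MorphismProperty.of_isPullback (P := @LocallyQuasiFinite) sqO ‹_›
  haveI : Etale vK.left := AlgSpLib.etale_left (AlgSpLib.repWith_of_isPullback sqV hb)
  haveI : LocallyQuasiFinite vK.left := AlgSpLib.locallyQuasiFinite_of_etale vK.left
  haveI : LocallyQuasiFinite ((fU.left ⁻¹ᵁ W₀).ι ≫ fK.left) := by
    rw [← hHK, Over.comp_left, ← Category.assoc]
    infer_instance
  have hTfin : {t : T.left | tU.left t = u}.Finite :=
    MonoPtLib.finite_points_over_mono Y.property hm hry u sqF sqT (fU.left ⁻¹ᵁ W₀) fun w (hw : fU.left w = u) => by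
      change fU.left w ∈ W₀
      rw [hw]; exact hu₀
  let WU : Sp S := pullback q.hom a
  have sqWU := IsPullback.of_hasPullback q.hom a
  have sqUX : IsPullback (pullback.snd q.hom a) (pullback.fst q.hom a ≫ p.hom) (a ≫ g.hom) f.hom :=
    sqWU.flip.paste_vert hW.flip
  have hw0 : ((yon S).map tK ≫ qx.toHom) ≫ f.hom = ((yon S).map tU ≫ a) ≫ g.hom := by
    rw [Category.assoc, ← hqy, ← sqT.w, Category.assoc]
  let l := hW.lift _ _ hw0
  have hl : l ≫ q.hom = (yon S).map tU ≫ a := hW.lift_snd _ _ _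
  let G : (yon S).obj T ⟶ WU := sqWU.lift l ((yon S).map tU) hl
  have sqG : IsPullback G ((yon S).map tK) (pullback.fst q.hom a ≫ p.hom) qx.toHom := by
    refine IsPullback.of_right ?_ ?_ sqUX
    · rw [sqWU.lift_snd, ← hqy]
      exact sqT
    · rw [sqWU.lift_fst_assoc, hW.lift_fst]
  refine (hTfin.image (fun t => Points.ofPt l t)).subset fun w ⟨hwp, hwq⟩ => ?_
  obtain ⟨w', hw1, hw2⟩ := AlgSpLib.exists_point_isPullback sqWU w (Points.schemeHomeo U u) (by
    rw [hwq, ← hu]
    exact congrFun (AlgSpLib.ofPt_comp_ofScheme a) u)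
  obtain ⟨t', ht1, ht2⟩ := AlgSpLib.exists_point_isPullback sqG w'
    (Points.schemeHomeo qx.pt (IsLocalRing.closedPoint qx.K)) (by
      rw [Points.map_comp, hw1, hwp, ← Points.ofPt_toHom qx (IsLocalRing.closedPoint qx.K)]
      exact congrFun (AlgSpLib.ofPt_comp_ofScheme qx.toHom) _)
  obtain ⟨t, rfl⟩ := (Points.schemeHomeo T).surjective t'
  refine ⟨t, ?_, ?_⟩
  · have := congrArg (Points.map (pullback.snd q.hom a)) ht1
    rw [hw2, ← Points.map_comp, sqWU.lift_snd, Points.map_yon_map_apply] at this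
    exact (Points.schemeHomeo U).injective this
  · change Points.ofPt l t = w
    rw [← hw1, ← ht1, ← Points.map_comp, sqWU.lift_fst]
    exact congrFun (AlgSpLib.ofPt_comp_ofScheme l) t

end Groth.Agent.S10389
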