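import Groth.Statements.S10392
import Groth.Agent.AlgSpLib.FibreCond
import Groth.Agent.SpectralQuot.DecentJacobson

set_option autoImplicit false
set_option backward.isDefEq.respectTransparency false
set_option backward.isDefEq.respectTransparency.types false
universe u
open CategoryTheory CategoryTheory.Limits AlgebraicGeometry Topology TopologicalSpace
open AlgSp

namespace Groth.Agent.S10392

/-- Let k be a field and X a nonempty algebraic space over k which is locally of finite type. Then (2)
|X| is discrete if and only if (4) dim X = 0, and these imply (3) dim |X| = 0; if X is decent then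
(3) implies (2) and (1) |X| finite implies (4). (The published statement asserts (2) ⇔ (3) ⇔ (4) for
every such X and does not exclude the empty space; for the quotient of the affine line over a field
of characteristic zero by the translation action of the integers, |X| is an infinite set with the
indiscrete topology, so (3) holds while (2) and (4) fail, and for the empty space (2) holds while
dim X = ⊥. The equivalence with local quasi-finiteness of X → Spec k is not part of this row.) -/
theorem result (k : Type u) [Field k] (X : AlgSp.Space (Spec (CommRingCat.of k)))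
    (p : X.obj ⟶ (AlgSp.yon (Spec (CommRingCat.of k))).obj (Over.mk (𝟙 _))) (hp : AlgSp.LocP @LocallyOfFiniteType p) [Nonempty (AlgSp.Points X.obj)] :
    (DiscreteTopology (AlgSp.Points X.obj) ↔ AlgSp.dim X.obj = 0) ∧
      (DiscreteTopology (AlgSp.Points X.obj) → topologicalKrullDim (AlgSp.Points X.obj) = 0) ∧
      (AlgSp.IsDecent X.obj → topologicalKrullDim (AlgSp.Points X.obj) = 0 → DiscreteTopology (AlgSp.Points X.obj)) ∧
      (AlgSp.IsDecent X.obj → Finite (AlgSp.Points X.obj) → AlgSp.dim X.obj = 0) := by
  have hpc := fun x => AlgSpLib.point_conditions_over (k := k) (str := 𝟙 _) p hp x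
  have hdd : DiscreteTopology (Points X.obj) ↔ AlgSp.dim X.obj = 0 := by
    rw [AlgSpLib.discrete_iff_forall]
    constructor
    · intro h
      refine le_antisymm (iSup_le fun U => iSup_le fun a => iSup_le fun ha => ?_) ?_
      · rw [FibDimLib.topologicalKrullDim_eq_iSup_localDim]
        exact iSup_le fun u =>
          ((AlgSpLib.hasAt_iff (AlgSpLib.etInv_localDim fun t => t = 0) ha u).1 ((hpc _).2.1.1 (h _))).le
      · obtain ⟨U, a, ha, has⟩ := X.property.atlas
        obtain ⟨u, -⟩ := AlgSpLib.surjective_ofPt has (Classical.arbitrary (Points X.obj))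
        exact ((FibDimLib.localDim_nonneg u).trans (FibDimLib.localDim_le u)).trans
          (le_iSup_of_le U (le_iSup_of_le a (le_iSup_of_le ha le_rfl)))
    · intro h x
      obtain ⟨U, a, ha, has⟩ := X.property.atlas
      obtain ⟨u, rfl⟩ := AlgSpLib.surjective_ofPt has x
      refine (hpc _).2.1.2 ⟨U, a, u, ha, rfl, le_antisymm ((FibDimLib.localDim_le u).trans ?_)
        (FibDimLib.localDim_nonneg u)⟩
      rw [← h]
      exact le_iSup_of_le U (le_iSup_of_le a (le_iSup_of_le ha le_rfl))
  refine ⟨hdd, fun _ => AlgSpLib.dimZero_of_discrete, fun hd h0 => AlgSpLib.discrete_iff_forall.2 fun x =>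
    ((hpc x).2.2 hd).1 (AlgSpLib.localDim_zero_of_dimZero h0 x), fun hd hfin => hdd.1 ?_⟩
  obtain ⟨U, a, h, ha, has, e⟩ := AlgSpLib.exists_chart_over X.property (IsAlgSpace.yon_obj _) p (𝟙 _)
    (AlgSp.repWith_id _ _) (AlgSp.repWith_id _ _)
  haveI : LocallyOfFiniteType h.left := hp a (𝟙 _) h ha (AlgSp.repWith_id _ _) e
  haveI : JacobsonSpace (Over.mk (𝟙 (Spec (CommRingCat.of k)))).left :=
    inferInstanceAs (JacobsonSpace (Spec (CommRingCat.of k)))
  haveI : JacobsonSpace U.left := LocallyOfFiniteType.jacobsonSpace h.left
  haveI := (SpectralQuot.jacobson_iff X hd).1 ⟨U, a, ha, has, inferInstance⟩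
  haveI := hfin
  infer_instance

end Groth.Agent.S10392
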