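import Groth.Statements.S10398
import Groth.Agent.QfNhdLib.Core
import Groth.Agent.S2080
import Groth.Agent.S2081
import Groth.Agent.S10540
-- import your own Groth.Agent.* helpers here

set_option autoImplicit false
universe u
open CategoryTheory CategoryTheory.Limits AlgebraicGeometry Topology TopologicalSpace
open AlgSp

namespace Groth.Agent.S10398

open AlgSpLib

theorem finite_preimage_of_isOpen_singleton {A B : Scheme.{u}} (h : A ⟶ B) [QuasiCompact h] (v : B)
    (H : ∀ w, h.base w = v → IsOpen ({h.asFiber w} : Set (h.fiber (h.base w)))) : (h.base ⁻¹' {v}).Finite := by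
  haveI : CompactSpace (h.fiber v) := QuasiCompact.compactSpace_of_compactSpace (h.fiberToSpecResidueField v)
  haveI : DiscreteTopology (h.fiber v) := discreteTopology_iff_forall_isOpen.2 fun s => by
    rw [← Set.biUnion_of_singleton s]
    refine isOpen_biUnion fun z _ => ?_
    have key : ∀ (w : A) (hw : h.base w = v) (z : h.fiber v), (h.fiberι v).base z = w → IsOpen ({z} : Set (h.fiber v)) := by
      intro w hw
      have h1 := H w hw
      subst hw
      intro z hz
      rwa [show h.asFiber w = z from (h.fiberι _).isEmbedding.injective (by rw [h.fiberι_asFiber]; exact hz.symm)] at h1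
    refine key _ ?_ z rfl
    have : (h.fiberι v).base z ∈ Set.range (h.fiberι v).base := ⟨z, rfl⟩
    rwa [h.range_fiberι] at this
  haveI : Finite (h.fiber v) := finite_of_compact_of_discrete
  rw [← h.range_fiberι v]
  exact Set.finite_range _

theorem restrict_le {A B : Scheme.{u}} (h : A ⟶ B) {U U' : B.Opens} (hle : U ≤ U') (hf : IsFinite (h ∣_ U')) :
    IsFinite (h ∣_ U) := EtLocLib.restrict_of_le h @IsFinite hle hf

theorem isFinite_of_square {A B O : Scheme.{u}} {h : A ⟶ B} {U : B.Opens} (hU : IsFinite (h ∣_ U))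
    {fst : O ⟶ A} {snd : O ⟶ (U : Scheme.{u})} (sq : IsPullback fst snd h U.ι) : IsFinite snd := by
  haveI := hU
  rw [← sq.isoIsPullback_hom_snd _ _ (isPullback_morphismRestrict h U).flip]
  infer_instance

/-- (2) ⇒ (3): let S be a scheme, X and Y algebraic spaces over S, and f : X ⟶ Y a quasi-separated
morphism of finite type, and let y ∈ |Y| be a codimension 0 point of Y. Suppose that at every point
of |X| lying over y the morphism f is quasi-finite. Then there is an open subspace Y' ⊆ Y containing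
y for which the morphism Y' ×_Y X ⟶ Y' is finite. -/
theorem result {S : Scheme.{u}} {X Y : AlgSp.Space S} (f : X ⟶ Y)
    (hqs : AlgSp.IsQuasiSeparatedMor f.hom) (hft : AlgSp.IsFiniteTypeMor f.hom) (y : AlgSp.Points Y.obj)
    (hy : AlgSp.HasAt (fun U u => ringKrullDim ↥(U.presheaf.stalk u) = 0) Y.obj y)
    (hqf : ∀ x : AlgSp.Points X.obj, AlgSp.Points.map f.hom x = y → AlgSp.HasAtMor (fun U _ h u => ∃ W : U.Opens, u ∈ W ∧ LocallyQuasiFinite (W.ι ≫ h) ∧ LocallyOfFiniteType (W.ι ≫ h)) f.hom x) :
    ∃ (Y' X' : AlgSp.Space S) (j : Y' ⟶ Y) (fst : X' ⟶ Y') (snd : X' ⟶ X), AlgSp.RepWith @IsOpenImmersion j.hom ∧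
      y ∈ Set.range (AlgSp.Points.map j.hom) ∧ IsPullback fst.hom snd.hom j.hom f.hom ∧
      AlgSp.IsFiniteMor fst.hom := by
  obtain ⟨U₀, a₀, u₀, ha₀, hy₀, h0⟩ := hy
  subst hy₀
  obtain ⟨O, hO, huO, -⟩ := exists_isAffineOpen_mem_and_subset (U := ⊤) (x := u₀) trivial
  let Vb : Over S := Over.mk (O.ι ≫ U₀.hom)
  haveI : IsAffine Vb.left := hO
  let ιb : Vb ⟶ U₀ := Over.homMk O.ι rfl
  let b : (yon S).obj Vb ⟶ Y.obj := (yon S).map ιb ≫ a₀
  have hb : RepWith @Etale b :=
    repWith_comp ((repWith_yon_map_iff (P := (@Etale : MorphismProperty Scheme.{u})) ιb).2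
      (inferInstanceAs (Etale O.ι))) ha₀
  let v : Vb.left := ⟨u₀, huO⟩
  have hbv : Points.ofPt b v = Points.ofPt a₀ u₀ := ofPt_yon_comp ιb a₀ v
  have hmax : closure {v} ∈ irreducibleComponents (Vb.left : Type u) :=
    Groth.Agent.S2081.mem_components_of_forall_specializes fun z hz =>
      Subtype.ext (eq_of_specializes_of_stalkDim_zero h0.le ((subtype_specializes_iff _ _).mp hz))
  -- the base change and its chart
  have sqb := IsPullback.of_hasPullback f.hom b
  have hVb := IsAlgSpace.yon_obj (S := S) Vb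
  have hX₁ := isAlgSpace_pullback X.property hVb Y.property f.hom b
  let g := pullback.snd f.hom b
  obtain ⟨E, p, hE, hp, hps⟩ := exists_affine_chart
    (hft.2 hVb (isQuasiCompactSp_yon Vb) b _ _ sqb)
  obtain ⟨e, he⟩ := (yon S).map_surjective (p ≫ g)
  have hgl : LocP @LocallyOfFiniteType g := locP_of_isPullback X.property Y.property hVb sqb hft.1
  haveI : LocallyOfFiniteType e.left := hgl p ((yon S).map (𝟙 Vb)) e hp
    ((repWith_yon_map_iff (P := (@Etale : MorphismProperty Scheme.{u})) (𝟙 Vb)).2 (inferInstanceAs (Etale (𝟙 Vb.left))))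
    (by rw [CategoryTheory.Functor.map_id, Category.comp_id, he])
  obtain ⟨R, r₁, r₂, sq⟩ := exists_isPullback_yon p p hp.rep
  have hgq : RepWith @QuasiCompact (pullback.diagonal g) := repWith_diagonal_of_isPullback sqb hqs
  -- the relation
  have hr₁₂ : r₁ ≫ e = r₂ ≫ e := (yon S).map_injective (by
    rw [Functor.map_comp, Functor.map_comp, he, ← Category.assoc, ← Category.assoc, sq.w])
  let l : R ⟶ pullback e e := pullback.lift r₁ r₂ hr₁₂
  have sqE : IsPullback ((yon S).map (pullback.fst e e)) ((yon S).map (pullback.snd e e)) (p ≫ g) (p ≫ g) := by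
    rw [← he]
    exact (IsPullback.of_hasPullback e e).map (yon S)
  let d : pullback p p ⟶ pullback (p ≫ g) (p ≫ g) :=
    pullback.map p p (p ≫ g) (p ≫ g) (𝟙 _) (𝟙 _) g (Category.id_comp _).symm (Category.id_comp _).symm
  have hl : (yon S).map l = sq.isoPullback.hom ≫ d ≫ sqE.isoPullback.inv := by
    rw [← Category.assoc, Iso.eq_comp_inv]
    apply pullback.hom_ext
    · simp only [d, Category.assoc, pullback.lift_fst, IsPullback.isoPullback_hom_fst, Category.comp_id,
        ← Functor.map_comp]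
      exact congrArg (yon S).map (pullback.lift_fst _ _ _)
    · simp only [d, Category.assoc, pullback.lift_snd, IsPullback.isoPullback_hom_snd, Category.comp_id,
        ← Functor.map_comp]
      exact congrArg (yon S).map (pullback.lift_snd _ _ _)
  have sqd := pullback_map_diagonal_isPullback p p g
  haveI : Mono ((yon S).map l) := by
    haveI : Mono d := MorphismProperty.of_isPullback (P := MorphismProperty.monomorphisms (Sp S)) sqd
      (inferInstance : Mono (pullback.diagonal g))
    rw [hl]; infer_instance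
  haveI : Mono l.left := mono_left_of_mono
  haveI : QuasiCompact l.left := by
    refine (repWith_yon_map_iff (P := (@QuasiCompact : MorphismProperty Scheme.{u})) l).1 ?_
    rw [hl, MorphismProperty.cancel_left_of_respectsIso (RepWith @QuasiCompact),
      MorphismProperty.cancel_right_of_respectsIso (RepWith @QuasiCompact)]
    exact repWith_of_isPullback sqd hgq
  have hqq : ∀ {q : pullback e e ⟶ E}, RepWith @QuasiCompact ((yon S).map q) → RepWith @IsSeparated ((yon S).map q) →
      ∀ {r : R ⟶ E}, l ≫ q = r → QuasiCompact r.left ∧ IsSeparated r.left := fun {q} h1 h2 {r} hr => by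
    haveI : QuasiCompact q.left := (repWith_yon_map_iff (P := @QuasiCompact) q).1 h1
    haveI : IsSeparated q.left := (repWith_yon_map_iff (P := @IsSeparated) q).1 h2
    rw [← hr, Over.comp_left]
    exact ⟨inferInstance, inferInstance⟩
  obtain ⟨hr₂qc, hr₂sep⟩ := hqq (q := pullback.snd e e)
    (repWith_of_isPullback sqE (by rw [← he]; exact (repWith_yon_map_iff (P := @QuasiCompact) e).2 inferInstance))
    (repWith_of_isPullback sqE (by rw [← he]; exact (repWith_yon_map_iff (P := @IsSeparated) e).2 inferInstance))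
    (pullback.lift_snd _ _ _)
  haveI := hr₂qc
  haveI := hr₂sep
  haveI : Etale r₂.left := (repWith_yon_map_iff (P := (@Etale : MorphismProperty Scheme.{u})) r₂).1
    (repWith_of_isPullback sq hp)
  -- finite fibres
  have hfib : (e.left.base ⁻¹' {v}).Finite := by
    refine finite_preimage_of_isOpen_singleton e.left v fun w hw => ?_
    have ha : RepWith @Etale (p ≫ pullback.fst f.hom b) := repWith_comp hp (repWith_of_isPullback sqb.flip hb)
    have hcomm : (p ≫ pullback.fst f.hom b) ≫ f.hom = (yon S).map e ≫ b := by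
      rw [he, Category.assoc, sqb.w, Category.assoc]
    have hxy : Points.map f.hom (Points.ofPt (p ≫ pullback.fst f.hom b) w) = Points.ofPt a₀ u₀ := by
      rw [map_ofPt_chart hcomm, hw, hbv]
    exact (fibreDimAt_eq_zero_iff e.left w).1 ((hasAtMor_iff (etInv_fibreDim fun t => t = 0) ha hb hcomm w).1
      ((hasAtMor_near_lqf_iff X.property Y.property hft.1 _).1 (hqf _ hxy)))
  haveI : LocallyQuasiFinite r₂.left := AlgSpLib.locallyQuasiFinite_of_unramified r₂.left
  have hfib₂ : ((r₂ ≫ e).left.base ⁻¹' {v}).Finite := by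
    rw [Over.comp_left, Scheme.Hom.comp_base, TopCat.coe_comp, Set.preimage_comp]
    exact hfib.preimage' fun w _ => r₂.left.finite_preimage_singleton w
  haveI : QuasiCompact (r₂ ≫ e).left := by rw [Over.comp_left]; infer_instance
  haveI : QuasiSeparated (r₂ ≫ e).left := by rw [Over.comp_left]; infer_instance
  haveI : LocallyOfFiniteType (r₂ ≫ e).left := by rw [Over.comp_left]; infer_instance
  obtain ⟨V₁, -, hv₁, hfin₁⟩ := (Groth.Agent.S2080.result e.left v hmax).mp hfib
  obtain ⟨V₂, -, hv₂, hfin₂⟩ := (Groth.Agent.S2080.result (r₂ ≫ e).left v hmax).mp hfib₂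
  obtain ⟨O', hO', hvO', hO'le⟩ := exists_isAffineOpen_mem_and_subset (U := V₁ ⊓ V₂) (x := v) ⟨hv₁, hv₂⟩
  have hle₁ : O' ≤ V₁ := fun z hz => (hO'le hz).1
  have hle₂ : O' ≤ V₂ := fun z hz => (hO'le hz).2
  -- shrinking
  let T : Over S := Over.mk (O'.ι ≫ Vb.hom)
  haveI : IsAffine T.left := hO'
  let ιT : T ⟶ Vb := Over.homMk O'.ι rfl
  have hT := IsAlgSpace.yon_obj (S := S) T
  have sqT := IsPullback.of_hasPullback g ((yon S).map ιT)
  have hX₂ := isAlgSpace_pullback hX₁ hT hVb g ((yon S).map ιT)
  obtain ⟨E₂, jE, e₂, sqE₂⟩ : ∃ (E₂ : Over S) (jE : E₂ ⟶ E) (e₂ : E₂ ⟶ T), IsPullback jE e₂ e ιT :=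
    ⟨_, _, _, IsPullback.of_hasPullback e ιT⟩
  have sqY := sqE₂.map (yon S)
  let p₂ : (yon S).obj E₂ ⟶ pullback g ((yon S).map ιT) :=
    sqT.lift ((yon S).map jE ≫ p) ((yon S).map e₂) (by rw [Category.assoc, ← he, sqY.w])
  have hpe₂ : p₂ ≫ pullback.snd g ((yon S).map ιT) = (yon S).map e₂ := sqT.lift_snd _ _ _
  have sqP₂ : IsPullback ((yon S).map jE) p₂ p (pullback.fst g ((yon S).map ιT)) := by
    refine IsPullback.of_bot ?_ (sqT.lift_fst _ _ _).symm sqT
    rw [← he, hpe₂]
    exact sqY
  have hp₂ := repWith_of_isPullback sqP₂ hp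
  have hps₂ := repWith_of_isPullback sqP₂ hps
  obtain ⟨R₂, s₁, s₂, sqR₂⟩ := exists_isPullback_yon p₂ p₂ hp₂.rep
  obtain ⟨s, hs⟩ := (yon S).map_surjective (sq.lift ((yon S).map s₁ ≫ (yon S).map jE)
    ((yon S).map s₂ ≫ (yon S).map jE) (by
      rw [Category.assoc, Category.assoc, sqP₂.w, ← Category.assoc, sqR₂.w, Category.assoc]))
  have sqR : IsPullback ((yon S).map s) ((yon S).map s₂) ((yon S).map r₂) ((yon S).map jE) := by
    refine IsPullback.of_right ?_ (by rw [hs, sq.lift_snd]) sq
    rw [hs, sq.lift_fst]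
    have h := sqR₂.paste_horiz sqP₂
    rw [← sqP₂.w] at h
    exact h
  have hfin : IsFinite e₂.left :=
    isFinite_of_square (restrict_le e.left hle₁ hfin₁) (sqE₂.map (Over.forget S))
  have hfin' : IsFinite (s₁ ≫ e₂).left := by
    have : s₁ ≫ e₂ = s₂ ≫ e₂ := (yon S).map_injective (by
      rw [Functor.map_comp, Functor.map_comp, ← hpe₂, ← Category.assoc, ← Category.assoc, sqR₂.w])
    rw [this]
    exact isFinite_of_square (restrict_le (r₂ ≫ e).left hle₂ hfin₂)
      (((IsPullback.of_map (yon S) (by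
        apply (yon S).map_injective; rw [Functor.map_comp, Functor.map_comp, sqR.w]) sqR).paste_vert sqE₂).map (Over.forget S))
  have hqcg : IsQuasiCompactMor (pullback.snd g ((yon S).map ιT)) :=
    isQuasiCompactMor_of_isPullback (sqT.paste_horiz sqb) hft.2
  have hg₂ := QfNhdLib.isFiniteMor_of_finite_chart hX₂ hp₂ hps₂ hqcg hpe₂ sqR₂ hfin hfin'
  -- descent to the image
  let c : (yon S).obj T ⟶ Y.obj := (yon S).map ιT ≫ b
  have hc : RepWith @Etale c := repWith_comp
    ((repWith_yon_map_iff (P := (@Etale : MorphismProperty Scheme.{u})) ιT).2 (inferInstanceAs (Etale O'.ι))) hb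
  let W : Set (Points Y.obj) := Set.range (Points.ofPt c)
  have hW : IsOpen W := (isOpenMap_ofPt hc).isOpen_range
  have hY' := isAlgSpace_openSub Y.property hW
  have hj := repWith_openSubι Y.obj hW
  obtain ⟨c', hc'⟩ := (exists_lift_openSub (W := W) c).2 fun t => ⟨t, rfl⟩
  haveI : Mono (openSubι Y.obj W) := mono_of_openImmersion hj
  have sqm : IsPullback (𝟙 ((yon S).obj T)) c' c (openSubι Y.obj W) :=
    ⟨⟨by rw [Category.id_comp, hc']⟩, ⟨PullbackCone.IsLimit.mk _ (fun k => k.fst) (fun k => Category.comp_id _)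
      (fun k => (cancel_mono (openSubι Y.obj W)).1 (by rw [Category.assoc, hc', k.condition]))
      (fun k m h1 _ => by simpa using h1)⟩⟩
  have hc'e := repWith_of_isPullback sqm hc
  have hc's : RepWith @Surjective c' := (repWith_surjective_iff hc'e.rep).2 fun z => by
    have hz : Points.map (openSubι Y.obj W) z ∈ W := by
      have : Points.map (openSubι Y.obj W) z ∈ Set.range (Points.map (openSubι Y.obj W)) := ⟨z, rfl⟩
      rwa [range_openSubι] at this
    obtain ⟨t, ht⟩ := hz
    have h1 : z ∈ Points.map (openSubι Y.obj W) ⁻¹' Set.range (Points.map c) :=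
      ⟨Points.schemeHomeo T t, (congrFun (ofPt_comp_ofScheme c) t).trans ht⟩
    rw [← range_map_of_isPullback sqm] at h1
    exact h1
  let Y' : AlgSp.Space S := ⟨openSub Y.obj W, hY'⟩
  let X' : AlgSp.Space S := ⟨pullback (openSubι Y.obj W) f.hom, isAlgSpace_pullback hY' X.property Y.property _ _⟩
  refine ⟨Y', X', ObjectProperty.homMk (openSubι Y.obj W), ObjectProperty.homMk (pullback.fst _ _),
    ObjectProperty.homMk (pullback.snd _ _), hj, ?_, IsPullback.of_hasPullback _ _, ?_⟩
  · show Points.ofPt a₀ u₀ ∈ Set.range (Points.map (openSubι Y.obj W))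
    rw [range_openSubι]
    exact ⟨⟨v, hvO'⟩, by rw [← hbv]; exact ofPt_yon_comp ιT b _⟩
  · have sq' := (IsPullback.of_hasPullback (openSubι Y.obj W) f.hom).flip
    have big : IsPullback (pullback.fst g ((yon S).map ιT) ≫ pullback.fst f.hom b)
        (pullback.snd g ((yon S).map ιT)) f.hom (c' ≫ openSubι Y.obj W) := by
      rw [hc']; exact sqT.paste_horiz sqb
    refine (Groth.Agent.S10540.result S (fun _ : PUnit.{u + 1} => (yon S).obj T) (fun _ => c') hY' (fun _ => hT)
      (isFpqcCover_chart hc'e hc's) (pullback.fst (openSubι Y.obj W) f.hom) X'.property _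
      (fun _ => pullback.snd g ((yon S).map ιT))
      (fun _ => sq'.lift (pullback.fst g ((yon S).map ιT) ≫ pullback.fst f.hom b)
        (pullback.snd g ((yon S).map ιT) ≫ c') (by rw [big.w, Category.assoc]))
      (fun _ => hX₂) fun _ => IsPullback.of_right (by rw [sq'.lift_fst]; exact big) (sq'.lift_snd _ _ _) sq').2
      fun _ => hg₂

end Groth.Agent.S10398
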