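import Groth.Statements.S10400
import Groth.Agent.QfNhdLib.Affine
import Groth.Agent.S10397
import Groth.Agent.S10540
import Groth.Agent.AlgStLib.Rows3
-- import your own Groth.Agent.* helpers here

set_option autoImplicit false
set_option backward.isDefEq.respectTransparency false
set_option backward.isDefEq.respectTransparency.types false
universe u
open CategoryTheory CategoryTheory.Limits AlgebraicGeometry Topology TopologicalSpace
open AlgSp

namespace Groth.Agent.S10400

open AlgSpLib Topology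

abbrev CZ : ∀ U : Scheme.{u}, ↥U → Prop := fun U x => ringKrullDim ↥(U.presheaf.stalk x) = 0

theorem exists_irreducible_nhd {U : Scheme.{u}} (O : U.Opens)
    (hfin : {m : U | m ∈ O ∧ ringKrullDim (U.presheaf.stalk m) = 0}.Finite) {u : U} (hu : u ∈ O)
    (h0 : ringKrullDim (U.presheaf.stalk u) = 0) :
    ∃ N : U.Opens, N ≤ O ∧ u ∈ N ∧ ∀ w ∈ N, u ⤳ w := by
  let C : Set U := ⋃ m ∈ {m : U | m ∈ O ∧ ringKrullDim (U.presheaf.stalk m) = 0} \ {u}, closure {m}
  have hC : IsClosed C := (hfin.subset Set.diff_subset).isClosed_biUnion fun _ _ => isClosed_closure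
  refine ⟨O ⊓ ⟨Cᶜ, hC.isOpen_compl⟩, inf_le_left, ⟨hu, fun h => ?_⟩, fun w hw => ?_⟩
  · obtain ⟨m, hm, hmu⟩ := Set.mem_iUnion₂.1 h
    exact hm.2 (eq_of_specializes_of_stalkDim_zero h0.le (specializes_iff_mem_closure.2 hmu))
  · obtain ⟨ξ, hξ, hmax⟩ := exists_maximal_generization w
    by_contra hne
    refine hw.2 (Set.mem_iUnion₂.2 ⟨ξ, ⟨⟨hξ.mem_open O.2 hw.1, stalkDim_eq_zero_of_maximal ξ hmax⟩, fun h => ?_⟩,
      specializes_iff_mem_closure.1 hξ⟩)
    exact hne ((Set.mem_singleton_iff.1 h) ▸ hξ)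

theorem mem_of_dense {S : Scheme.{u}} {Y : Sp S} (hd : IsDecent Y)
    (hY0 : {y : Points Y | HasAt CZ Y y}.Finite) {W : Set (Points Y)} (hW : IsOpen W) (hWd : Dense W)
    {y : Points Y} (hy : HasAt CZ Y y) : y ∈ W := by
  obtain ⟨U, a, u, ha, rfl, h0⟩ := hy
  obtain ⟨O, hO, huO, -⟩ := exists_isAffineOpen_mem_and_subset (U := ⊤) (x := u) trivial
  let UO : Over S := Over.mk (O.ι ≫ U.hom)
  let ι : UO ⟶ U := Over.homMk O.ι rfl
  haveI : IsAffine UO.left := hO
  haveI : CompactSpace UO.left := inferInstance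
  have haO : RepWith @Etale ((yon S).map ι ≫ a) :=
    repWith_comp ((repWith_yon_map_iff (P := (@Etale : MorphismProperty Scheme.{u})) ι).2
      (inferInstanceAs (Etale O.ι))) ha
  have hfin : {m : U.left | m ∈ O ∧ ringKrullDim (U.left.presheaf.stalk m) = 0}.Finite := by
    refine Set.Finite.subset ((Set.Finite.preimage' hY0 fun z _ => ?_).image O.ι
      (s := Points.ofPt ((yon S).map ι ≫ a) ⁻¹' {z | HasAt CZ Y z})) ?_
    · obtain ⟨p, rfl, -, hp⟩ := hd z
      exact finite_fibre_of_qc_point hp haO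
    · rintro m ⟨hm, hm0⟩
      refine ⟨⟨m, hm⟩, ?_, rfl⟩
      show HasAt CZ Y _
      rw [ofPt_yon_comp]
      exact ⟨U, a, m, ha, rfl, hm0⟩
  obtain ⟨N, -, huN, hN⟩ := exists_irreducible_nhd O hfin huO h0
  obtain ⟨w, hwN, hwW⟩ := (hWd.preimage (isOpenMap_ofPt ha)).inter_open_nonempty (N : Set U.left) N.2 ⟨u, huN⟩
  exact ((hN w hwN).map (Points.continuous_ofPt a)).mem_open hW hwW

theorem isFiniteMor_precomp {S : Scheme.{u}} {H H' G : Sp S} (i : H ≅ H') {a : H' ⟶ G} (h : IsFiniteMor a) :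
    IsFiniteMor (i.hom ≫ a) := by
  rw [isFiniteMor_iff] at h ⊢
  exact (MorphismProperty.cancel_left_of_respectsIso (RepWith @IsFinite) i.hom a).2 h

theorem hasAt_comp_iff {S : Scheme.{u}} {F G : Sp S} (hF : IsAlgSpace F) {j : F ⟶ G} (hj : RepWith @Etale j)
    (x : Points F) : HasAt CZ G (Points.map j x) ↔ HasAt CZ F x := by
  obtain ⟨U, a, ha, has⟩ := hF.atlas
  obtain ⟨w, rfl⟩ := surjective_ofPt has x
  rw [Points.map_ofPt, hasAt_iff (etInv_stalkDim fun t => t = 0) (repWith_comp ha hj),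
    hasAt_iff (etInv_stalkDim fun t => t = 0) ha]

theorem injective_map_openImm {S : Scheme.{u}} {F G : Sp S} {j : F ⟶ G} (hj : RepWith @IsOpenImmersion j) :
    Function.Injective (Points.map j) := fun x₁ x₂ h => by
  haveI := mono_of_openImmersion hj
  obtain ⟨z, h1, h2⟩ := exists_point_isPullback (IsKernelPair.id_of_mono j) x₁ x₂ h
  exact h1.symm.trans h2

/-- Let f : X ⟶ Y be a morphism locally of finite type of algebraic spaces over a scheme S with Y
decent. Assume the codimension 0 points of X and of Y form finite sets, that a point of X has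
codimension 0 exactly when its image does, and that f is quasi-compact or separated. Then there is a
dense open subspace V ⊆ Y with f⁻¹(V) ⟶ V finite. -/
theorem result {S : Scheme.{u}} {X Y : AlgSp.Space S} (f : X ⟶ Y)
    (hf : AlgSp.LocP @LocallyOfFiniteType f.hom) (hY : AlgSp.IsDecent Y.obj)
    (hX0 : {x : AlgSp.Points X.obj | AlgSp.HasAt (fun U u => ringKrullDim ↥(U.presheaf.stalk u) = 0) X.obj x}.Finite)
    (hY0 : {y : AlgSp.Points Y.obj | AlgSp.HasAt (fun U u => ringKrullDim ↥(U.presheaf.stalk u) = 0) Y.obj y}.Finite)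
    (hpre : ∀ x : AlgSp.Points X.obj, AlgSp.HasAt (fun U u => ringKrullDim ↥(U.presheaf.stalk u) = 0) X.obj x ↔ AlgSp.HasAt (fun U u => ringKrullDim ↥(U.presheaf.stalk u) = 0) Y.obj (AlgSp.Points.map f.hom x))
    (hqs : AlgSp.IsQuasiCompactMor f.hom ∨ AlgSp.IsSeparatedMor f.hom) :
    ∃ (V X' : AlgSp.Space S) (j : V ⟶ Y) (fst : X' ⟶ V) (snd : X' ⟶ X), AlgSp.RepWith @IsOpenImmersion j.hom ∧
      Dense (Set.range (AlgSp.Points.map j.hom)) ∧ IsPullback fst.hom snd.hom j.hom f.hom ∧
      AlgSp.IsFiniteMor fst.hom := by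
  classical
  -- finitely many components
  have hcomp : (irreducibleComponents (Points Y.obj)).Finite := by
    refine Set.Finite.subset (hY0.image fun y => closure {y}) fun C hC => ?_
    have hsub : C ⊆ ⋃ y ∈ {y : Points Y.obj | HasAt CZ Y.obj y}, closure {y} := fun z _ => by
      obtain ⟨U, a, ha, has⟩ := Y.property.atlas
      obtain ⟨w, rfl⟩ := surjective_ofPt has z
      obtain ⟨ξ, hξ, hmax⟩ := exists_maximal_generization w
      exact Set.mem_iUnion₂.2 ⟨_, ⟨U, a, ξ, ha, rfl, stalkDim_eq_zero_of_maximal ξ hmax⟩,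
        specializes_iff_mem_closure.1 (hξ.map (Points.continuous_ofPt a))⟩
    rw [← Set.sUnion_image] at hsub
    obtain ⟨D, hD, hCD⟩ := (isIrreducible_iff_sUnion_isClosed.1 hC.1) (hY0.image fun y => closure {y}).toFinset
      (fun D hD => by
        obtain ⟨y, -, rfl⟩ := (Set.Finite.mem_toFinset _).1 hD
        exact isClosed_closure) (by rwa [Set.Finite.coe_toFinset])
    obtain ⟨y, hy, rfl⟩ := (Set.Finite.mem_toFinset _).1 hD
    exact ⟨y, hy, hC.eq_of_ge isIrreducible_singleton.closure hCD⟩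
  obtain ⟨Y₀, j₀, hj₀, hj₀d, -, -⟩ := (Groth.Agent.S10397.result Y).1 ⟨hY, hcomp⟩
  have hj₀e : RepWith @Etale j₀ :=
    repWith_mono (fun _ _ g (_ : IsOpenImmersion g) => (inferInstance : Etale g)) hj₀
  have hY₀ := IsAlgSpace.yon_obj (S := S) Y₀
  have hinj₀ : Function.Injective (Points.ofPt j₀) := fun w₁ w₂ h => by
    rw [Points.ofPt_eq_map_ofScheme j₀ w₁, Points.ofPt_eq_map_ofScheme j₀ w₂] at h
    exact (Points.schemeHomeo Y₀).injective (injective_map_openImm hj₀ h)
  have hfin₀ : {m : Y₀.left | m ∈ (⊤ : Y₀.left.Opens) ∧ ringKrullDim (Y₀.left.presheaf.stalk m) = 0}.Finite :=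
    Set.Finite.subset (hY0.preimage hinj₀.injOn) fun m hm => ⟨Y₀, j₀, m, hj₀e, rfl, hm.2⟩
  let I := {y : Points Y.obj // HasAt CZ Y.obj y}
  have key : ∀ y : I, ∃ (T : Over S) (c : (yon S).obj T ⟶ Y.obj), RepWith @IsOpenImmersion c ∧
      y.1 ∈ Set.range (Points.ofPt c) ∧ IsFiniteMor (pullback.snd f.hom c) := by
    rintro ⟨y, hy⟩
    obtain ⟨x₀, rfl⟩ := mem_of_dense hY hY0 (isOpenMap_ofPt hj₀e).isOpen_range hj₀d hy
    rw [hasAt_iff (etInv_stalkDim fun t => t = 0) hj₀e] at hy
    obtain ⟨N, -, hx₀N, hN⟩ := exists_irreducible_nhd ⊤ hfin₀ (u := x₀) trivial hy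
    obtain ⟨O, hO, hx₀O, hON⟩ := exists_isAffineOpen_mem_and_subset (U := N) (x := x₀) hx₀N
    let T : Over S := Over.mk (O.ι ≫ Y₀.hom)
    haveI : IsAffine T.left := hO
    let ι : T ⟶ Y₀ := Over.homMk O.ι rfl
    let c : (yon S).obj T ⟶ Y.obj := (yon S).map ι ≫ j₀
    have hc : RepWith @IsOpenImmersion c :=
      repWith_comp ((repWith_yon_map_iff (P := @IsOpenImmersion) ι).2 (inferInstanceAs (IsOpenImmersion O.ι))) hj₀
    have hce : RepWith @Etale c := repWith_mono (fun _ _ g (_ : IsOpenImmersion g) => (inferInstance : Etale g)) hc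
    let v : T.left := ⟨x₀, hx₀O⟩
    have hcv : ∀ t : T.left, Points.map c (Points.schemeHomeo T t) = Points.ofPt c t := fun t =>
      (Points.ofPt_eq_map_ofScheme c t).symm
    have hstalk : ∀ t : T.left, ringKrullDim (T.left.presheaf.stalk t) = 0 ↔
        ringKrullDim (Y₀.left.presheaf.stalk (O.ι t)) = 0 := fun t => by
      refine (hasAt_iff (Q := CZ) (etInv_stalkDim fun t => t = 0) hce t).symm.trans
        (Iff.trans ?_ (hasAt_iff (Q := CZ) (etInv_stalkDim fun t => t = 0) hj₀e (O.ι t)))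
      rw [ofPt_yon_comp]
      rfl
    have hv : ∀ t : T.left, ringKrullDim (T.left.presheaf.stalk t) = 0 ↔ t = v := fun t => by
      refine ⟨fun h => Subtype.ext ?_, fun h => ?_⟩
      · exact (eq_of_specializes_of_stalkDim_zero ((hstalk t).1 h).le (hN t.1 (hON t.2))).symm
      · subst h
        exact (hstalk v).2 hy
    have hT := IsAlgSpace.yon_obj (S := S) T
    have sq := IsPullback.of_hasPullback f.hom c
    have hP := isAlgSpace_pullback X.property hT Y.property f.hom c
    have hfst : RepWith @IsOpenImmersion (pullback.fst f.hom c) := repWith_of_isPullback sq.flip hc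
    have hfste : RepWith @Etale (pullback.fst f.hom c) :=
      repWith_mono (fun _ _ g (_ : IsOpenImmersion g) => (inferInstance : Etale g)) hfst
    have hpre' : ∀ x, HasAt CZ (pullback f.hom c) x ↔
        Points.map (pullback.snd f.hom c) x = Points.schemeHomeo T v := fun x => by
      obtain ⟨t, ht⟩ := (Points.schemeHomeo T).surjective (Points.map (pullback.snd f.hom c) x)
      rw [← hasAt_comp_iff hP hfste, hpre, ← Points.map_comp, sq.w, Points.map_comp, ← ht, hcv,
        hasAt_iff (etInv_stalkDim fun t => t = 0) hce, hv, (Points.schemeHomeo T).injective.eq_iff]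
    obtain ⟨T', j', hj', hvj, hfin⟩ := QfNhdLib.exists_affine_finite hP
      (locP_of_isPullback X.property Y.property hT sq hf) v hv
      (Set.Finite.subset (hX0.preimage (injective_map_openImm hfst).injOn) fun x hx => (hasAt_comp_iff hP hfste x).2 hx)
      hpre' (hqs.imp (isQuasiCompactMor_of_isPullback sq) (repWith_diagonal_of_isPullback sq))
    refine ⟨T', (yon S).map j' ≫ c,
      repWith_comp ((repWith_yon_map_iff (P := @IsOpenImmersion) j').2 hj') hc, ?_, ?_⟩
    · obtain ⟨w, hw⟩ := hvj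
      refine ⟨w, ?_⟩
      rw [ofPt_yon_comp, show j'.left w = v from hw, ofPt_yon_comp]
      rfl
    · have sq2 := (IsPullback.of_hasPullback (pullback.snd f.hom c) ((yon S).map j')).paste_horiz sq
      rw [← sq2.isoPullback_inv_snd]
      exact isFiniteMor_precomp sq2.isoPullback.symm hfin
  choose T c hc hmem hfin using key
  let W : Set (Points Y.obj) := ⋃ y : I, Set.range (Points.ofPt (c y))
  have hce : ∀ y, RepWith @Etale (c y) := fun y =>
    repWith_mono (fun _ _ g (_ : IsOpenImmersion g) => (inferInstance : Etale g)) (hc y)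
  have hW : IsOpen W := isOpen_iUnion fun y => (isOpenMap_ofPt (hce y)).isOpen_range
  have hV := isAlgSpace_openSub Y.property hW
  have hjV := repWith_openSubι Y.obj hW
  haveI : Mono (openSubι Y.obj W) := mono_of_openImmersion hjV
  let V : AlgSp.Space S := ⟨openSub Y.obj W, hV⟩
  let X' : AlgSp.Space S := ⟨pullback (openSubι Y.obj W) f.hom, isAlgSpace_pullback hV X.property Y.property _ _⟩
  refine ⟨V, X', ObjectProperty.homMk (openSubι Y.obj W), ObjectProperty.homMk (pullback.fst _ _),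
    ObjectProperty.homMk (pullback.snd _ _), hjV, ?_, IsPullback.of_hasPullback _ _, ?_⟩
  · show Dense (Set.range (Points.map (openSubι Y.obj W)))
    rw [range_openSubι]
    refine dense_iff_inter_open.2 fun O hO ⟨z, hz⟩ => ?_
    obtain ⟨U, a, ha, has⟩ := Y.property.atlas
    obtain ⟨w, rfl⟩ := surjective_ofPt has z
    obtain ⟨ξ, hξ, hmax⟩ := exists_maximal_generization w
    refine ⟨Points.ofPt a ξ, (hξ.map (Points.continuous_ofPt a)).mem_open hO hz, ?_⟩
    exact Set.mem_iUnion.2 ⟨⟨_, U, a, ξ, ha, rfl, stalkDim_eq_zero_of_maximal ξ hmax⟩, hmem _⟩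
  · haveI : Finite I := (Set.finite_coe_iff (s := {y : Points Y.obj | HasAt CZ Y.obj y})).2 hY0
    obtain ⟨n, ⟨φ⟩⟩ := Finite.exists_equiv_fin I
    let c' : ∀ i : ULift.{u} (Fin n), (yon S).obj (T (φ.symm i.down)) ⟶ openSub Y.obj W := fun i =>
      ((exists_lift_openSub (W := W) (c (φ.symm i.down))).2 fun t => Set.mem_iUnion.2 ⟨_, t, rfl⟩).choose
    have hc' : ∀ i, c' i ≫ openSubι Y.obj W = c (φ.symm i.down) := fun i =>
      ((exists_lift_openSub (W := W) (c (φ.symm i.down))).2 fun t => Set.mem_iUnion.2 ⟨_, t, rfl⟩).choose_spec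
    have hc'e : ∀ i, RepWith @Etale (c' i) := fun i => by
      refine repWith_of_isPullback (fst := 𝟙 _) (f := c (φ.symm i.down)) (g := openSubι Y.obj W) ?_ (hce _)
      exact ⟨⟨by rw [Category.id_comp, hc']⟩, ⟨PullbackCone.IsLimit.mk _ (fun k => k.fst) (fun k => Category.comp_id _)
        (fun k => (cancel_mono (openSubι Y.obj W)).1 (by rw [Category.assoc, hc', k.condition]))
        (fun k m h1 _ => by simpa using h1)⟩⟩
    have sq' := (IsPullback.of_hasPullback (openSubι Y.obj W) f.hom).flip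
    have big : ∀ i, IsPullback (pullback.fst f.hom (c (φ.symm i.down))) (pullback.snd f.hom (c (φ.symm i.down))) f.hom
        (c' i ≫ openSubι Y.obj W) := fun i => by rw [hc']; exact IsPullback.of_hasPullback _ _
    refine (AlgStLib.isLocalOnBase_fppf_of_fpqc (Groth.Agent.S10540.result S) _ c' hV (fun _ => IsAlgSpace.yon_obj _)
      ⟨fun i => ⟨locP_of_repWith (repWith_mono (fun _ _ g (_ : Etale g) => (inferInstance : Flat g)) (hc'e i)),
        locP_of_repWith (repWith_mono (fun _ _ g (_ : Etale g) => (inferInstance : LocallyOfFinitePresentation g)) (hc'e i))⟩,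
        fun z => ?_⟩
      (pullback.fst (openSubι Y.obj W) f.hom) X'.property _
      (fun i => pullback.snd f.hom (c (φ.symm i.down)))
      (fun i => sq'.lift (pullback.fst f.hom (c (φ.symm i.down))) (pullback.snd f.hom (c (φ.symm i.down)) ≫ c' i)
        (by rw [(big i).w, Category.assoc]))
      (fun i => isAlgSpace_pullback X.property (IsAlgSpace.yon_obj _) Y.property _ _)
      fun i => IsPullback.of_right (by rw [sq'.lift_fst]; exact big i) (sq'.lift_snd _ _ _) sq').2 fun i => hfin _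
    have hz : Points.map (openSubι Y.obj W) z ∈ W := by
      have : Points.map (openSubι Y.obj W) z ∈ Set.range (Points.map (openSubι Y.obj W)) := ⟨z, rfl⟩
      rwa [range_openSubι] at this
    obtain ⟨y, t, ht⟩ := Set.mem_iUnion.1 hz
    obtain ⟨i, rfl⟩ : ∃ i : ULift.{u} (Fin n), φ.symm i.down = y := ⟨⟨φ y⟩, φ.symm_apply_apply y⟩
    refine ⟨i, Points.schemeHomeo _ t, injective_map_openImm hjV ?_⟩
    rw [← Points.map_comp, hc']
    exact (Points.ofPt_eq_map_ofScheme _ t).symm.trans ht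

end Groth.Agent.S10400
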