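import Groth.Statements.S3433
import Groth.Agent.MiscFlat6.PropsSmall
import Groth.Agent.HLVTLib.Vanish
-- import your own Groth.Agent.* helpers here

set_option autoImplicit false
universe u
open EGA43

namespace Groth.Agent.S3433

/-- Let A be a Noetherian local ring with maximal ideal m and let Y be the punctured spectrum Spec A ∖
{m}. Then Y is a Jacobson space, and a point p of Y is closed in Y if and only if dim A/p = 1. -/
theorem result (A : Type u) [CommRing A] [IsNoetherianRing A] [IsLocalRing A] :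
    JacobsonSpace ↥({IsLocalRing.closedPoint A}ᶜ : Set (PrimeSpectrum A)) ∧
      ∀ p : ↥({IsLocalRing.closedPoint A}ᶜ : Set (PrimeSpectrum A)),
        IsClosed ({p} : Set ↥({IsLocalRing.closedPoint A}ᶜ : Set (PrimeSpectrum A))) ↔
          ringKrullDim (A ⧸ p.1.asIdeal) = 1 := by
  have he : ({IsLocalRing.closedPoint A}ᶜ : Set (PrimeSpectrum A)) =
      (PrimeSpectrum.zeroLocus (IsLocalRing.maximalIdeal A : Set A))ᶜ := by
    rw [compl_inj_iff]
    ext q
    simp only [Set.mem_singleton_iff, PrimeSpectrum.mem_zeroLocus, SetLike.coe_subset_coe]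
    exact ⟨fun h => by rw [h]; exact le_rfl, fun h => PrimeSpectrum.ext
      (((IsLocalRing.maximalIdeal.isMaximal A).eq_of_le q.isPrime.ne_top h).symm)⟩
  refine ⟨?_, fun p => ?_⟩
  · rw [he]
    exact MiscFlat6.jacobsonSpace_punctured A _ (IsLocalRing.maximalIdeal_le_jacobson _)
  · have hp : p.1.asIdeal ≠ IsLocalRing.maximalIdeal A := fun h => p.2 (PrimeSpectrum.ext h)
    constructor
    · intro hcl
      refine HLVTLib.dim_eq_one_of_forall hp fun b hb hlt => ?_
      by_contra hbm
      have h1 : (⟨b, hb⟩ : PrimeSpectrum A) ∈ ({IsLocalRing.closedPoint A}ᶜ : Set (PrimeSpectrum A)) := fun h =>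
        hbm (congrArg PrimeSpectrum.asIdeal h)
      have h2 : p ⤳ (⟨_, h1⟩ : ↥({IsLocalRing.closedPoint A}ᶜ : Set (PrimeSpectrum A))) :=
        (subtype_specializes_iff _ _).2 ((PrimeSpectrum.le_iff_specializes _ _).1 hlt.le)
      have h3 : (⟨_, h1⟩ : ↥({IsLocalRing.closedPoint A}ᶜ : Set (PrimeSpectrum A))) ∈ ({p} : Set _) :=
        h2.mem_closed hcl (Set.mem_singleton p)
      exact hlt.ne (congrArg (fun t => t.1.asIdeal) h3).symm
    · intro hd
      rw [← closure_subset_iff_isClosed]
      intro q hq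
      have hle : p.1.asIdeal ≤ q.1.asIdeal := (PrimeSpectrum.le_iff_specializes _ _).2
        ((specializes_iff_mem_closure.2 hq).map continuous_subtype_val)
      rcases hle.lt_or_eq with hlt | heq
      · exact absurd (PrimeSpectrum.ext (HLVTLib.eq_maximal_of_dim_one hd hlt)) q.2
      · exact Subtype.ext (PrimeSpectrum.ext heq.symm)


end Groth.Agent.S3433
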