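import Groth.Statements.S10405
import Groth.Agent.AlgSpLib.DecentPack
import Groth.Agent.S3433
import Mathlib.Topology.Spectral.Basic

set_option autoImplicit false
set_option backward.isDefEq.respectTransparency false
set_option backward.isDefEq.respectTransparency.types false
universe u
open CategoryTheory CategoryTheory.Limits AlgebraicGeometry Topology TopologicalSpace
open AlgSp

namespace Groth.Agent.S10405

variable {S : Scheme.{u}}

theorem punctured_generizations {X : Sp S} (hX : IsAlgSpace X) (hd : IsDecent X) (hN : IsLocNoethSp X)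
    (x : Points X) :
    NoetherianSpace {x' : Points X // x' ⤳ x ∧ x' ≠ x} ∧ SpectralSpace {x' : Points X // x' ⤳ x ∧ x' ≠ x} ∧
      QuasiSober {x' : Points X // x' ⤳ x ∧ x' ≠ x} ∧ JacobsonSpace {x' : Points X // x' ⤳ x ∧ x' ≠ x} := by
  obtain ⟨U, a, ha, has⟩ := hX.atlas
  obtain ⟨u, hu⟩ := AlgSpLib.surjective_ofPt has x
  haveI := AlgSpLib.isLocallyNoetherian_of_chart hN ha
  let A := U.left.presheaf.stalk u
  let ι := U.left.fromSpecStalk u
  let P := ({IsLocalRing.closedPoint A}ᶜ : Set (PrimeSpectrum A))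
  have hPo : IsOpen P := (IsLocalRing.isClosed_singleton_closedPoint A).isOpen_compl
  haveI : QuasiSober P := hPo.isOpenEmbedding_subtypeVal.quasiSober
  have hgen : ∀ q : PrimeSpectrum A, ι q ⤳ u := fun q => by
    have : ι q ∈ Set.range ι := ⟨q, rfl⟩
    rwa [Scheme.range_fromSpecStalk] at this
  let φ : P → {x' : Points X // x' ⤳ x ∧ x' ≠ x} := fun p => ⟨Points.ofPt a (ι p.1),
    hu ▸ (hgen p.1).map (Points.continuous_ofPt a), fun h => p.2 (ι.isEmbedding.injective
      ((AlgSpLib.eq_of_specializes_of_noeth hN ha (hu.trans h.symm) (hgen p.1)).symm.trans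
        Scheme.fromSpecStalk_closedPoint.symm))⟩
  have hφ : Continuous φ := Continuous.subtype_mk
    ((Points.continuous_ofPt a).comp (ι.continuous.comp continuous_subtype_val)) _
  have hq : ∀ z : Points X, ∃ r : FieldPt X, Points.mk r = z ∧ RepWith @QuasiCompact r.toHom := fun z =>
    (hd z).imp fun r hr => ⟨hr.1, hr.2.2⟩
  have hsurj : Function.Surjective φ := fun ⟨y, hy, hyx⟩ => by
    obtain ⟨v, hv, hva⟩ := AlgSpLib.exists_generalization_lift hy (hq y) ha hu
    obtain ⟨q, hq⟩ : v ∈ Set.range ι := by rw [Scheme.range_fromSpecStalk]; exact hv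
    subst hq
    refine ⟨⟨q, fun h => hyx ?_⟩, Subtype.ext hva⟩
    rw [← hva, h, Scheme.fromSpecStalk_closedPoint, hu]
  haveI : NoetherianSpace {x' : Points X // x' ⤳ x ∧ x' ≠ x} := noetherianSpace_of_surjective φ hφ hsurj
  haveI : T0Space (Points X) := AlgSpLib.t0Space_points hX hd
  haveI hsob : QuasiSober {x' : Points X // x' ⤳ x ∧ x' ≠ x} := ⟨fun {C} hC hCc => by
    classical
    obtain ⟨T, hTf, hTc, hTi, hT⟩ :=
      NoetherianSpace.exists_finite_set_isClosed_irreducible (hCc.preimage hφ)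
    choose g hg using fun t : T => QuasiSober.sober (hTi t t.2) (hTc t t.2)
    haveI := hTf.fintype
    let F : Finset (Set {x' : Points X // x' ⤳ x ∧ x' ≠ x}) :=
      Finset.univ.image fun t : T => closure {φ (g t)}
    obtain ⟨z, hz, hCz⟩ := isIrreducible_iff_sUnion_isClosed.1 hC F
      (fun z hz => by
        obtain ⟨t, -, rfl⟩ := Finset.mem_image.1 hz
        exact isClosed_closure)
      (fun y hy => by
        obtain ⟨p, rfl⟩ := hsurj y
        obtain ⟨t, ht, hpt⟩ : p ∈ ⋃₀ T := hT ▸ hy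
        refine ⟨_, Finset.mem_image.2 ⟨⟨t, ht⟩, Finset.mem_univ _, rfl⟩, ?_⟩
        exact specializes_iff_mem_closure.1 (((hg ⟨t, ht⟩).specializes hpt).map hφ))
    obtain ⟨t, -, rfl⟩ := Finset.mem_image.1 hz
    refine ⟨φ (g t), le_antisymm ?_ hCz⟩
    refine hCc.closure_subset_iff.2 (Set.singleton_subset_iff.2 ?_)
    have : g t ∈ φ ⁻¹' C := hT.symm ▸ Set.mem_sUnion.2 ⟨t, t.2, (hg t).mem⟩
    exact this⟩
  refine ⟨inferInstance, ?_, hsob, jacobsonSpace_iff_locallyClosed.2 fun Z hZne hZ => ?_⟩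
  · haveI : PrespectralSpace {x' : Points X // x' ⤳ x ∧ x' ≠ x} :=
      PrespectralSpace.of_isTopologicalBasis isTopologicalBasis_opens fun _ _ => NoetherianSpace.isCompact _
    haveI : QuasiSeparatedSpace {x' : Points X // x' ⤳ x ∧ x' ≠ x} :=
      ⟨fun _ _ _ _ _ _ => NoetherianSpace.isCompact _⟩
    exact {}
  haveI : CompactSpace Z := isCompact_iff_compactSpace.1 (NoetherianSpace.isCompact Z)
  haveI : Nonempty Z := hZne.to_subtype
  obtain ⟨⟨w, hwZ⟩, -, hw⟩ := IsClosed.exists_closed_singleton (isClosed_univ (X := Z)) Set.univ_nonempty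
  refine ⟨w, hwZ, ?_⟩
  -- the point `w` is locally closed
  have hwl : IsLocallyClosed ({w} : Set {x' : Points X // x' ⤳ x ∧ x' ≠ x}) := by
    obtain ⟨K, hK, hKw⟩ := isClosed_induced_iff.1 hw
    have : ({w} : Set {x' : Points X // x' ⤳ x ∧ x' ≠ x}) = Z ∩ K := by
      ext y
      constructor
      · rintro rfl
        have : (⟨_, hwZ⟩ : Z) ∈ Subtype.val ⁻¹' K := hKw.symm ▸ rfl
        exact ⟨hwZ, this⟩
      · rintro ⟨hy, hyK⟩
        have : (⟨y, hy⟩ : Z) ∈ Subtype.val ⁻¹' K := hyK
        rw [hKw] at this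
        exact congrArg Subtype.val this
    rw [this]
    exact hZ.inter hK.isLocallyClosed
  -- its preimage is a finite set of closed points of the punctured spectrum
  obtain ⟨O, hO, huO, -⟩ := exists_isAffineOpen_mem_and_subset (U := ⊤) (x := u) trivial
  have hfin : (φ ⁻¹' {w}).Finite := by
    let V : Over S := Over.mk (O.ι ≫ U.hom)
    let j : V ⟶ U := Over.homMk O.ι rfl
    haveI : IsAffine V.left := hO
    have hj : RepWith @Etale ((yon S).map j ≫ a) :=
      AlgSpLib.repWith_comp ((repWith_yon_map_iff (P := (@Etale : MorphismProperty Scheme.{u})) j).2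
        (inferInstanceAs (Etale O.ι))) ha
    obtain ⟨r, hr, -, hrq⟩ := hd w.1
    have h1 := (AlgSpLib.finite_fibre_of_qc_point hrq hj).image j.left
    refine (h1.preimage (f := fun p : P => ι p.1)
      (ι.isEmbedding.injective.comp Subtype.val_injective).injOn).subset fun p hp => ?_
    have hpO : ι p.1 ∈ O := (hgen p.1).mem_open O.isOpen huO
    refine ⟨⟨ι p.1, hpO⟩, ?_, rfl⟩
    rw [Set.mem_preimage, Set.mem_singleton_iff, AlgSpLib.ofPt_yon_comp, hr]
    exact congrArg Subtype.val (show φ p = w from hp)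
  haveI : JacobsonSpace P := (Groth.Agent.S3433.result A).1
  have hclosed : ∀ p, φ p = w → IsClosed ({p} : Set P) := fun p hp => by
    obtain ⟨c, ⟨hcw, hpc⟩, hc⟩ := nonempty_inter_closedPoints (Z := φ ⁻¹' {w} ∩ closure {p})
      ⟨p, hp, subset_closure rfl⟩ ((hwl.preimage hφ).inter isClosed_closure.isLocallyClosed)
    have hsp : p ⤳ c := specializes_iff_mem_closure.2 hpc
    have e : ι p.1 = ι c.1 := (AlgSpLib.eq_of_specializes_of_noeth hN ha (u := ι c.1) (u' := ι p.1)
      (congrArg Subtype.val ((show φ c = w from hcw).trans hp.symm))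
      ((hsp.map continuous_subtype_val).map ι.continuous)).symm
    have : p = c := Subtype.ext (ι.isEmbedding.injective e)
    rw [this]; exact hc
  rw [mem_closedPoints_iff, ← closure_subset_iff_isClosed]
  intro y hy
  obtain ⟨q, rfl⟩ := hsurj y
  have hwq : w.1 ⤳ (φ q).1 := (specializes_iff_mem_closure.2 hy).map continuous_subtype_val
  obtain ⟨v, hv, hva⟩ := AlgSpLib.exists_generalization_lift hwq (hq w.1) ha (u := ι q.1) rfl
  obtain ⟨p₀, hp₀⟩ : v ∈ Set.range ι := by
    rw [Scheme.range_fromSpecStalk]; exact hv.trans (hgen q.1)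
  subst hp₀
  have hp₀P : p₀ ∈ P := fun h => w.2.2 (by rw [← hva, h, Scheme.fromSpecStalk_closedPoint, hu])
  have hp₀w : φ ⟨p₀, hp₀P⟩ = w := Subtype.ext hva
  have : (⟨p₀, hp₀P⟩ : P) ⤳ q := (subtype_specializes_iff _ _).2 (ι.isEmbedding.isInducing.specializes_iff.1 hv)
  have e := (hclosed _ hp₀w).closure_eq ▸ specializes_iff_mem_closure.1 this
  rw [Set.mem_singleton_iff] at e
  rw [e]
  exact hp₀w


/-- Let S be a scheme, X an algebraic space over S which is decent and locally Noetherian, and x ∈ |X|.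
Then the set W of proper generizations of x (points x' ≠ x with x' ⤳ x), with the topology induced
from |X|, is a topological space which is Noetherian, spectral, sober and Jacobson. -/
theorem result {S : Scheme.{u}} (X : AlgSp.Space S)
    (hd : AlgSp.IsDecent X.obj) (hN : AlgSp.IsLocNoethSp X.obj) (x : AlgSp.Points X.obj) :
    NoetherianSpace {x' : AlgSp.Points X.obj // x' ⤳ x ∧ x' ≠ x} ∧
      SpectralSpace {x' : AlgSp.Points X.obj // x' ⤳ x ∧ x' ≠ x} ∧
      QuasiSober {x' : AlgSp.Points X.obj // x' ⤳ x ∧ x' ≠ x} ∧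
      JacobsonSpace {x' : AlgSp.Points X.obj // x' ⤳ x ∧ x' ≠ x} := by
  exact punctured_generizations X.property hd hN x

end Groth.Agent.S10405
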