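import Groth.Statements.S10406
import Groth.Agent.AlgSpLib.DecentTop
import Mathlib.AlgebraicGeometry.Morphisms.Finite

set_option autoImplicit false
set_option backward.isDefEq.respectTransparency false
set_option backward.isDefEq.respectTransparency.types false
universe u
open CategoryTheory CategoryTheory.Limits AlgebraicGeometry Topology TopologicalSpace
open AlgSp

namespace Groth.Agent.S10406

/-- Let S be a scheme, Y and X decent, locally Noetherian algebraic spaces over S, and f : Y ⟶ X a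
surjective finite morphism, and let δ : |X| → ℤ be a function. Suppose δ ∘ |f| is a dimension
function on |Y| (it decreases strictly along nontrivial specializations and by exactly one along
immediate specializations). Then δ is a dimension function on |X|. -/
theorem result {S : Scheme.{u}} {X Y : AlgSp.Space S} (f : Y ⟶ X)
    (hf : AlgSp.IsFiniteMor f.hom) (hs : AlgSp.IsSurjectiveMor f.hom) (hX : AlgSp.IsDecent X.obj)
    (hY : AlgSp.IsDecent Y.obj) (hXN : AlgSp.IsLocNoethSp X.obj) (hYN : AlgSp.IsLocNoethSp Y.obj)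
    (δ : AlgSp.Points X.obj → ℤ)
    (hδ : (∀ a b : AlgSp.Points Y.obj, a ⤳ b → a ≠ b → (δ ∘ AlgSp.Points.map f.hom) b < (δ ∘ AlgSp.Points.map f.hom) a ∧ ((∀ c : AlgSp.Points Y.obj, a ⤳ c → c ⤳ b → c = a ∨ c = b) → (δ ∘ AlgSp.Points.map f.hom) a = (δ ∘ AlgSp.Points.map f.hom) b + 1))) :
    (∀ a b : AlgSp.Points X.obj, a ⤳ b → a ≠ b → δ b < δ a ∧ ((∀ c : AlgSp.Points X.obj, a ⤳ c → c ⤳ b → c = a ∨ c = b) → δ a = δ b + 1)) := by
  have hq : ∀ {A : Space S}, IsDecent A.obj → ∀ z : Points A.obj,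
      ∃ p : FieldPt A.obj, Points.mk p = z ∧ RepWith @QuasiCompact p.toHom := fun {A} hA z => by
    obtain ⟨p, h1, -, h3⟩ := hA z
    exact ⟨p, h1, h3⟩
  obtain ⟨U, a, ha, has⟩ := X.property.atlas
  -- a finite scheme over an affine chart
  have chart : ∀ y : Points X.obj, ∃ (V : Over S) (b : (yon S).obj V ⟶ X.obj) (W : Over S) (i : W ⟶ V)
      (fst : (yon S).obj W ⟶ Y.obj) (v : V.left), Points.ofPt b v = y ∧ RepWith @Etale b ∧
      RepWith @Etale fst ∧ IsFinite i.left ∧ IsPullback fst ((yon S).map i) f.hom b ∧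
      ∀ w, Points.map f.hom (Points.ofPt fst w) = Points.ofPt b (i.left w) := fun y => by
    obtain ⟨u, rfl⟩ := AlgSpLib.surjective_ofPt has y
    obtain ⟨V, j, v, hV, hv, -, hb⟩ := AlgSpLib.exists_affine_subchart ha u
    obtain ⟨W, i, fst, sq, -, hi⟩ := hf hV ((yon S).map j ≫ a)
    refine ⟨V, _, W, i, fst, v, by rw [AlgSpLib.ofPt_yon_comp, hv], hb,
      AlgSpLib.repWith_of_isPullback sq.flip hb, hi, sq, fun w => ?_⟩
    rw [Points.map_ofPt, sq.w, AlgSpLib.ofPt_yon_comp]
  -- points of the fibre product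
  have lift : ∀ {V W : Over S} {b : (yon S).obj V ⟶ X.obj} {i : W ⟶ V} {fst : (yon S).obj W ⟶ Y.obj},
      IsPullback fst ((yon S).map i) f.hom b → ∀ (v : V.left) (z : Points Y.obj),
        Points.map f.hom z = Points.ofPt b v → ∃ w : W.left, Points.ofPt fst w = z ∧ i.left w = v := by
    intro V W b i fst sq v z hz
    obtain ⟨p, hp1, hp2⟩ := AlgSpLib.exists_point_isPullback sq z (Points.schemeHomeo V v)
      (by rw [hz, AlgSpLib.ofPt_comp_ofScheme]; rfl)
    obtain ⟨w, rfl⟩ := (Points.schemeHomeo W).surjective p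
    refine ⟨w, by rw [← hp1, AlgSpLib.ofPt_comp_ofScheme]; rfl, (Points.schemeHomeo V).injective ?_⟩
    rw [← hp2]
    change Points.ofPt (𝟙 _) (i.left w) = Points.map _ (Points.ofPt (𝟙 _) w)
    rw [Points.map_ofPt, ← AlgSpLib.ofPt_yon_comp, Category.id_comp, Category.comp_id]
  have disc : ∀ c d : Points Y.obj, c ⤳ d → Points.map f.hom c = Points.map f.hom d → c = d := by
    intro c d hcd e
    obtain ⟨V, b, W, i, fst, v, hv, hb, hfst, hi, sq, hw⟩ := chart (Points.map f.hom d)
    obtain ⟨w, hwd, hwv⟩ := lift sq v d hv.symm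
    obtain ⟨w', hw', hw'c⟩ := AlgSpLib.exists_generalization_lift hcd (hq hY c) hfst hwd
    have hii : i.left w = i.left w' :=
      AlgSpLib.eq_of_specializes_of_finite X.property (x := Points.map f.hom d) (fun V' b' hV' hb' => by
        obtain ⟨p, hp, hpq⟩ := hq hX (Points.map f.hom d)
        haveI := hV'
        rw [← hp]; exact AlgSpLib.finite_fibre_of_qc_point hpq hb') hb
        (by rw [hwv, hv]) (by rw [← hw, hw'c, e]) (hw'.map i.left.continuous)
    haveI := hi
    have : w' = w := (i.left.isDiscrete_preimage_singleton (i.left w)).eq_of_specializes hw' hii.symm rfl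
    rw [← hw'c, this, hwd]
  intro x y hxy hne
  obtain ⟨c, rfl⟩ := hs x
  obtain ⟨V, b, W, i, fst, v, hv, hb, hfst, hi, sq, hw⟩ := chart y
  obtain ⟨v', hv', hv'x⟩ := AlgSpLib.exists_generalization_lift hxy (hq hX _) hb hv
  obtain ⟨w', hw'c, hw'v⟩ := lift sq v' c hv'x.symm
  haveI := hi
  obtain ⟨w, hww, hwv⟩ : ∃ w, w' ⤳ w ∧ i.left w = v := by
    have h1 : v ∈ i.left '' closure {w'} := by
      have hc := i.left.isClosedMap _ (isClosed_closure (s := ({w'} : Set W.left)))
      refine hv'.mem_closed hc ⟨w', subset_closure rfl, hw'v⟩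
    obtain ⟨w, hw, rfl⟩ := h1
    exact ⟨w, specializes_iff_mem_closure.2 hw, rfl⟩
  have hcd : c ⤳ Points.ofPt fst w := hw'c ▸ hww.map (Points.continuous_ofPt fst)
  have hdy : Points.map f.hom (Points.ofPt fst w) = y := by rw [hw, hwv, hv]
  obtain ⟨h1, h2⟩ := hδ c _ hcd (fun e => hne (by rw [← hdy, ← e]))
  simp only [Function.comp_apply, hdy] at h1 h2
  refine ⟨h1, fun h => h2 fun e hce hed => ?_⟩
  rcases h _ (hce.map (Points.continuous_map f.hom)) (hdy ▸ hed.map (Points.continuous_map f.hom)) with he | he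
  · exact Or.inl (disc _ _ hce he.symm).symm
  · exact Or.inr (disc _ _ hed (he.trans hdy.symm))

end Groth.Agent.S10406
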