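import Groth.Statements.S10409
import Groth.Agent.MonoPtLib.Basic

set_option autoImplicit false
set_option backward.isDefEq.respectTransparency false
set_option backward.isDefEq.respectTransparency.types false

universe u
open CategoryTheory CategoryTheory.Limits AlgebraicGeometry Topology TopologicalSpace
open AlgSp

namespace Groth.Agent.S10409

/-- (3) ⇔ (4): for an algebraic space X over a scheme S and x ∈ |X|, there is a monomorphism Spec k ⟶ X
representing x if and only if there is a morphism Spec k' ⟶ X representing x whose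
self-fibre-product has etale and quasi-compact projections to Spec k'. -/
theorem result {S : Scheme.{u}} (X : AlgSp.Space S)
    (x : AlgSp.Points X.obj) :
    (∃ p : AlgSp.FieldPt X.obj, AlgSp.Points.mk p = x ∧ Mono p.toHom) ↔
      ∃ q : AlgSp.FieldPt X.obj, AlgSp.Points.mk q = x ∧
        ∀ (P : AlgSp.Sp S) (fst snd : P ⟶ (AlgSp.yon S).obj q.pt), IsPullback fst snd q.toHom q.toHom →
          AlgSp.RepWith @Etale fst ∧ AlgSp.RepWith @QuasiCompact fst := by
  constructor
  · rintro ⟨p, hp, hm⟩
    refine ⟨p, hp, fun P fst snd sq => ?_⟩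
    haveI : IsIso fst := sq.isIso_fst_of_mono hm
    exact ⟨AlgSpLib.repWith_of_isIso fst, AlgSpLib.repWith_of_isIso fst⟩
  · rintro ⟨q, rfl, hq⟩
    obtain ⟨R, a, b, sq⟩ := AlgSpLib.exists_isPullback_yon q.toHom q.toHom
      (X.property.representable_from_yon _)
    obtain ⟨he, hc⟩ := hq _ _ _ sq
    haveI : Etale a.left := AlgSpLib.etale_left he
    haveI : QuasiCompact a.left :=
      (repWith_yon_map_iff (P := (@QuasiCompact : MorphismProperty Scheme.{u})) a).1 hc
    obtain ⟨p, hp, hm⟩ := MonoPtLib.exists_mono_of_rel X.property (IsLocalRing.closedPoint q.K) sq.flip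
    exact ⟨p, hp.trans (Points.ofPt_toHom q _), hm⟩

end Groth.Agent.S10409
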