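import Groth.Statements.S10410
import Groth.Agent.MonoPtLib.Basic

set_option autoImplicit false
set_option backward.isDefEq.respectTransparency false
set_option backward.isDefEq.respectTransparency.types false

universe u
open CategoryTheory CategoryTheory.Limits AlgebraicGeometry Topology TopologicalSpace
open AlgSp

namespace Groth.Agent.S10410

/-- Let X be an algebraic space over a scheme S, x ∈ |X|, and φ : U ⟶ X etale with U a scheme. Then x
lies in the image of |U| and the fibres of |U| → |X| and |U ×_X U| → |X| over x are finite, if and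
only if x is represented by a monomorphism Spec k ⟶ X such that Spec k ×_X U is a nonempty scheme
finite over k. -/
theorem result {S : Scheme.{u}} (X : AlgSp.Space S) (x : AlgSp.Points X.obj)
    {U : Over S} (φ : (AlgSp.yon S).obj U ⟶ X.obj) (hφ : AlgSp.RepWith @Etale φ) :
    (x ∈ Set.range (AlgSp.Points.ofPt φ) ∧ (AlgSp.Points.ofPt φ ⁻¹' {x}).Finite ∧
        ∀ (R : Over S) (s t : R ⟶ U), IsPullback ((AlgSp.yon S).map t) ((AlgSp.yon S).map s) φ φ →
          (AlgSp.Points.ofPt ((AlgSp.yon S).map t ≫ φ) ⁻¹' {x}).Finite) ↔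
      ∃ p : AlgSp.FieldPt X.obj, AlgSp.Points.mk p = x ∧ Mono p.toHom ∧
        ∀ (T : Over S) (c : T ⟶ p.pt) (snd : (AlgSp.yon S).obj T ⟶ (AlgSp.yon S).obj U),
          IsPullback ((AlgSp.yon S).map c) snd p.toHom φ → Nonempty ↥T.left ∧ IsFinite c.left := by
  constructor
  · rintro ⟨⟨u, hu⟩, hfin, hR⟩
    obtain ⟨R, t, s, sqR⟩ := AlgSpLib.exists_isPullback_yon φ φ hφ.rep
    obtain ⟨p, hp, hm⟩ := MonoPtLib.exists_mono_of_finite_diag X.property hφ u sqR
      ((hR R s t sqR).subset fun r hr => by
        rw [Set.mem_preimage, Set.mem_singleton_iff, AlgSpLib.ofPt_yon_comp, hr.2, hu])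
    refine ⟨p, hp.trans hu, hm, fun T c snd sq => ?_⟩
    obtain ⟨fU, rfl⟩ := (yon S).map_surjective snd
    have he := AlgSpLib.preimage_mk_eq_range sq.flip
    rw [hp.trans hu] at he
    haveI : Mono ((yon S).map fU) :=
      MorphismProperty.of_isPullback (P := MorphismProperty.monomorphisms _) sq hm
    haveI : Mono fU.left := AlgSpLib.mono_left_of_mono
    haveI : Finite ↥T.left := by
      haveI : Finite (Set.range fU.left) := (he ▸ hfin).to_subtype
      exact Finite.of_injective (Set.rangeFactorization fU.left)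
        fun a b h => fU.left.injective (congrArg Subtype.val h)
    have hne : Nonempty ↥T.left := by
      have h' : u ∈ Set.range fU.left := he ▸ hu
      exact ⟨h'.choose⟩
    haveI : Etale c.left := AlgSpLib.etale_left (AlgSpLib.repWith_of_isPullback sq.flip hφ)
    haveI : LocallyQuasiFinite c.left := AlgSpLib.locallyQuasiFinite_of_etale c.left
    haveI : QuasiCompact c.left := AlgSpLib.quasiCompact_of_finite c.left
    exact ⟨hne, IsFinite.of_locallyQuasiFinite c.left⟩
  · rintro ⟨p, rfl, hm, hT⟩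
    obtain ⟨T, fU, c, sq⟩ := AlgSpLib.exists_isPullback_yon φ p.toHom hφ.rep
    obtain ⟨hne, hc⟩ := hT T c _ sq.flip
    haveI := hc
    haveI : Etale c.left := AlgSpLib.etale_left (AlgSpLib.repWith_of_isPullback sq hφ)
    haveI : DiscreteTopology ↥T.left := MonoPtLib.discrete_of_etale c.left
    haveI : CompactSpace ↥T.left := QuasiCompact.compactSpace_of_compactSpace c.left
    haveI : Finite ↥T.left := finite_of_compact_of_discrete
    have he := AlgSpLib.preimage_mk_eq_range sq
    have hfin : (Points.ofPt φ ⁻¹' {Points.mk p}).Finite := he ▸ Set.finite_range _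
    refine ⟨?_, hfin, fun R s t sqR => ?_⟩
    · obtain ⟨w⟩ := hne
      have h' : fU.left w ∈ Points.ofPt φ ⁻¹' {Points.mk p} := he ▸ Set.mem_range_self w
      exact ⟨_, h'⟩
    refine (hfin.biUnion fun u hu => hfin.biUnion fun u' hu' =>
      AlgSpLib.finite_pairs_of_mono ⟨p, rfl, hm⟩ hφ hu hu' sqR).subset fun r hr => ?_
    rw [Set.mem_preimage, AlgSpLib.ofPt_yon_comp] at hr
    refine Set.mem_iUnion₂.2 ⟨s.left r, ?_, Set.mem_iUnion₂.2 ⟨t.left r, hr, rfl, rfl⟩⟩
    exact ((AlgSpLib.ofPt_eq_ofPt_iff sqR (t.left r) (s.left r)).2 ⟨r, rfl, rfl⟩).symm.trans hr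

end Groth.Agent.S10410
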