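import Groth.Statements.S10411
import Groth.Agent.AlgSpFieldLib.SchematicFinite
import Groth.Agent.SpectralQuot.DenseScheme

set_option autoImplicit false
set_option linter.style.haveILetI false
set_option backward.isDefEq.respectTransparency false
set_option backward.isDefEq.respectTransparency.types false
universe u
open CategoryTheory CategoryTheory.Limits AlgebraicGeometry Topology TopologicalSpace
open AlgSp

namespace Groth.Agent.S10411
open AlgSpLib AlgSpFieldLib SpectralQuot



/-- Let S be a scheme, X and Y algebraic spaces over S, X ⟶ Y a surjective finite locally free morphism,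
and y ∈ |Y|. Then y lies in the schematic locus of Y (some open subspace of Y containing y is a
scheme) if and only if there is an affine open subscheme U ⊆ X containing the preimage of y. -/
theorem result {S : Scheme.{u}} {X Y : AlgSp.Space S} (f : X ⟶ Y)
    (hf : AlgSp.IsFinLocFreeMor f.hom) (hs : AlgSp.RepWith @Surjective f.hom) (y : AlgSp.Points Y.obj) :
    (∃ (Y' : AlgSp.Space S) (j : Y' ⟶ Y), AlgSp.RepWith @IsOpenImmersion j.hom ∧ Y'.obj.obj.IsRepresentable ∧
        y ∈ Set.range (AlgSp.Points.map j.hom)) ↔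
      ∃ (U : Over S) (a : (AlgSp.yon S).obj U ⟶ X.obj), IsAffine U.left ∧ AlgSp.RepWith @IsOpenImmersion a ∧
        AlgSp.Points.map f.hom ⁻¹' {y} ⊆ Set.range (AlgSp.Points.ofPt a) := by
  constructor
  · rintro ⟨Y', j, hj, hr, ⟨z, rfl⟩⟩
    obtain ⟨W, ⟨r⟩⟩ := hr.has_representation
    let e := AlgSp.isoOfRepresentableBy r
    obtain ⟨w, hw⟩ := surjective_ofPt (a := e.hom) (MorphismProperty.RespectsIso.postcomp
      (P := AlgSp.RepWith (@Surjective : MorphismProperty Scheme.{u})) e.hom (𝟙 _) (AlgSp.repWith_id _ W)) z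
    obtain ⟨A, hA, hwA, -⟩ := exists_isAffineOpen_mem_and_subset (U := (⊤ : W.left.Opens)) (x := w) trivial
    let O : Over S := Over.mk (A.ι ≫ W.hom)
    haveI : IsAffine O.left := hA
    let o : O ⟶ W := Over.homMk A.ι rfl
    let c := (AlgSp.yon S).map o ≫ e.hom ≫ j.hom
    have hc : AlgSp.RepWith @IsOpenImmersion c := repWith_comp
      ((AlgSp.repWith_yon_map_iff (@IsOpenImmersion : MorphismProperty Scheme.{u}) o).2 (inferInstanceAs (IsOpenImmersion A.ι)))
      (MorphismProperty.RespectsIso.precomp _ _ _ hj)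
    have hcy : AlgSp.Points.ofPt c ⟨w, hwA⟩ = AlgSp.Points.map j.hom z := by
      rw [← hw, AlgSp.Points.map_ofPt]
      exact ofPt_yon_comp o (e.hom ≫ j.hom) _
    have hfin : Mor2.IsFinLocFree (hf.rep.snd c).left := hf.property_snd c
    haveI : IsFinite (hf.rep.snd c).left := hfin.1
    refine ⟨hf.rep.pullback c, hf.rep.fst c, isAffine_of_isAffineHom (hf.rep.snd c).left,
      repWith_of_isPullback (hf.rep.isPullback c).flip hc, fun x hx => ?_⟩
    obtain ⟨p, hp, -⟩ := exists_point_isPullback (hf.rep.isPullback c) x (AlgSp.Points.schemeHomeo O ⟨w, hwA⟩)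
      ((show AlgSp.Points.map f.hom x = _ from hx).trans (hcy.symm.trans (congrFun (ofPt_comp_ofScheme c) _)))
    obtain ⟨p, rfl⟩ := (AlgSp.Points.schemeHomeo _).surjective p
    exact ⟨p, (congrFun (ofPt_comp_ofScheme _) p).trans hp⟩
  · rintro ⟨U, a, hU, ha, hy⟩
    have hmem := mem_schemeLocus_of_finLocFree X.property Y.property hf hs (j := a) ha y hy
    obtain ⟨X', j', h1, h2, h3⟩ := exists_schemeLocus Y
    exact ⟨X', j', h1, h2, h3 ▸ hmem⟩

end Groth.Agent.S10411
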