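import Groth.Statements.S10412
import Groth.Agent.UBddLib.Space
import Groth.Agent.AlgSpLib.Qc
-- import your own Groth.Agent.* helpers here

set_option autoImplicit false
universe u
open CategoryTheory CategoryTheory.Limits AlgebraicGeometry Topology TopologicalSpace
open AlgSp

open AlgebraicGeometry CategoryTheory CategoryTheory.Limits TopologicalSpace
set_option backward.isDefEq.respectTransparency false
set_option backward.isDefEq.respectTransparency.types false
namespace Groth.Agent.S10412

/-- For an algebraic space X over a scheme S the following are equivalent: (1) X has a Zariski covering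
by open subspaces X_i, each X_i admitting a surjective, etale and quasi-compact morphism U_i ⟶ X_i
with U_i a scheme; (2) there are etale morphisms U_i ⟶ X from schemes, jointly surjective, such that
for each i both projection morphisms from U_i ×_X U_i to U_i are quasi-compact. -/
theorem result {S : Scheme.{u}} (X : AlgSp.Space S) :
    (∃ (ι : Type u) (Xi : ι → AlgSp.Space S) (j : ∀ i, Xi i ⟶ X) (U : ι → Over S)
        (a : ∀ i, (AlgSp.yon S).obj (U i) ⟶ (Xi i).obj),
        AlgSp.IsZarCover (fun i => (Xi i).obj) (fun i => (j i).hom) ∧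
          ∀ i, AlgSp.RepWith @Etale (a i) ∧ AlgSp.RepWith @Surjective (a i) ∧ AlgSp.RepWith @QuasiCompact (a i)) ↔
      ∃ (ι : Type u) (U : ι → Over S) (φ : ∀ i, (AlgSp.yon S).obj (U i) ⟶ X.obj),
        (∀ i, AlgSp.RepWith @Etale (φ i)) ∧
          (∀ x : AlgSp.Points X.obj, ∃ (i : ι) (v : ↥(U i).left), AlgSp.Points.ofPt (φ i) v = x) ∧
          ∀ (i : ι) (R : Over S) (s t : R ⟶ U i), IsPullback ((AlgSp.yon S).map t) ((AlgSp.yon S).map s) (φ i) (φ i) →
            QuasiCompact s.left ∧ QuasiCompact t.left := by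
  constructor
  · rintro ⟨ι, Xi, j, U, a, hj, ha⟩
    refine ⟨ι, U, fun i => a i ≫ (j i).hom, fun i => AlgSpLib.repWith_comp
      (P := (@Etale : MorphismProperty Scheme.{u})) (ha i).1
      (AlgSpLib.repWith_mono (fun _ _ g (_ : IsOpenImmersion g) => (inferInstance : Etale g)) (hj.1 i)),
      fun x => ?_, fun i R s t sq => ?_⟩
    · obtain ⟨i, y, rfl⟩ := hj.2 x
      obtain ⟨v, rfl⟩ := AlgSpLib.surjective_ofPt (ha i).2.1 y
      exact ⟨i, v, (AlgSp.Points.map_ofPt _ _ _).symm⟩
    · haveI := AlgSpLib.mono_of_openImmersion (hj.1 i)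
      have sq' : IsPullback ((AlgSp.yon S).map t) ((AlgSp.yon S).map s) (a i) (a i) := by
        refine IsPullback.of_isLimit' ⟨(cancel_mono (j i).hom).1 (by simpa using sq.w)⟩
          (PullbackCone.IsLimit.mk _ (fun σ => sq.lift σ.fst σ.snd (by rw [reassoc_of% σ.condition]))
            (fun _ => sq.lift_fst _ _ _) (fun _ => sq.lift_snd _ _ _) fun σ m h1 h2 => sq.hom_ext ?_ ?_)
        · rw [sq.lift_fst]; exact h1
        · rw [sq.lift_snd]; exact h2
      exact ⟨(ha i).2.2.property (a i) _ s sq', (ha i).2.2.property (a i) _ t sq'.flip⟩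
  · rintro ⟨ι, U, φ, hφ, hsurj, hqc⟩
    have hW : ∀ i, IsOpen (Set.range (AlgSp.Points.ofPt (φ i))) := fun i =>
      (AlgSpLib.isOpenMap_ofPt (hφ i)).isOpen_range
    let Xi : ι → AlgSp.Space S := fun i =>
      ⟨AlgSpLib.openSub X.obj _, AlgSpLib.isAlgSpace_openSub X.property (hW i)⟩
    choose a ha using fun i => (AlgSpLib.exists_lift_openSub (W := Set.range (AlgSp.Points.ofPt (φ i))) (φ i)).2
      fun t => ⟨t, rfl⟩
    refine ⟨ι, Xi, fun i => ObjectProperty.homMk (AlgSpLib.openSubι X.obj _), U, a,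
      ⟨fun i => AlgSpLib.repWith_openSubι X.obj (hW i), fun x => ?_⟩, fun i => ?_⟩
    · obtain ⟨i, v, hv⟩ := hsurj x
      exact ⟨i, (AlgSpLib.range_openSubι X.obj).ge ⟨v, hv⟩⟩
    · let J := AlgSpLib.openSubι X.obj (Set.range (AlgSp.Points.ofPt (φ i)))
      have h₀ : IsPullback (𝟙 _) (a i) (φ i) J := by
        have h₁ : IsPullback (𝟙 _) (a i) (a i) (𝟙 _) := IsPullback.of_horiz_isIso ⟨by simp⟩
        have h₂ := UBddLib.isPullback_comp_mono h₁ J
        rwa [Category.id_comp, ha i] at h₂
      have hae : AlgSp.RepWith @Etale (a i) := AlgSpLib.repWith_of_isPullback h₀ (hφ i)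
      have has : Function.Surjective (AlgSp.Points.map (a i)) := fun y => by
        have hy : AlgSp.Points.map J y ∈ Set.range (AlgSp.Points.ofPt (φ i)) :=
          (AlgSpLib.range_openSubι X.obj).le ⟨y, rfl⟩
        exact (AlgSpLib.range_map_of_isPullback h₀).ge ((AlgSpLib.range_ofPt (φ i)).le hy)
      refine ⟨hae, (AlgSpLib.repWith_surjective_iff hae.rep).2 has,
        (AlgSpLib.repWith_quasiCompact_iff (IsAlgSpace.yon_obj (U i)) (Xi i).property hae.rep).2 ?_⟩
      obtain ⟨R, t, s, sqR⟩ := AlgSpLib.exists_isPullback_yon (a i) (a i) hae.rep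
      have sqφ : IsPullback ((AlgSp.yon S).map t) ((AlgSp.yon S).map s) (φ i) (φ i) := by
        have h := UBddLib.isPullback_comp_mono sqR J
        rwa [ha i] at h
      haveI := (hqc i R s t sqφ).1
      refine AlgSpLib.isQuasiCompactMor_of_base_change (IsAlgSpace.yon_obj (U i)) (Xi i).property
        (IsAlgSpace.yon_obj (U i)) (fun Z Z' hZ g fst snd sq => ?_) has sqR
        (AlgSpLib.isQuasiCompactMor_of_repWith (IsAlgSpace.yon_obj R) (IsAlgSpace.yon_obj (U i))
          ((AlgSp.repWith_yon_map_iff (@QuasiCompact : MorphismProperty Scheme.{u}) s).2 inferInstance))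
      exact AlgSpLib.isOpenMap_map_of_isEtaleMor
        (AlgSpLib.isAlgSpace_of_isPullback (IsAlgSpace.yon_obj (U i)) hZ (Xi i).property sq)
        (AlgSpLib.isEtaleMor_of_repWith (AlgSpLib.repWith_of_isPullback sq hae))

end Groth.Agent.S10412
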