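import Groth.Statements.S10414
import Groth.Agent.AlgSpLib.OnePoint

set_option autoImplicit false
set_option backward.isDefEq.respectTransparency false
set_option backward.isDefEq.respectTransparency.types false
universe u
open CategoryTheory CategoryTheory.Limits AlgebraicGeometry Topology TopologicalSpace
open AlgSp

namespace Groth.Agent.S10414

/-- Let S be a scheme, X an algebraic space over S, x ∈ |X|, and Z_x ⟶ X the residual space of x (a
monomorphism with image {x} from a space which admits a locally finitely presented, flat, surjective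
morphism whose source is the spectrum of a field). Then Z_x is isomorphic to Spec k' for some field
k' if and only if the point x is represented by some monomorphism Spec k ⟶ X. (The decent case, in
which the right side holds at every point, is not part of this row.) -/
theorem result {S : Scheme.{u}} (X : AlgSp.Space S) (x : AlgSp.Points X.obj)
    {Z : AlgSp.Space S} (i : Z ⟶ X) [Mono i.hom] (hi : Set.range (AlgSp.Points.map i.hom) = {x})
    (hZ : ∃ (k : Type u) (_ : Field k) (str : Spec (CommRingCat.of k) ⟶ S) (p : (AlgSp.yon S).obj (Over.mk str) ⟶ Z.obj),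
        AlgSp.LocP @LocallyOfFinitePresentation p ∧ AlgSp.LocP @Flat p ∧ AlgSp.IsSurjectiveMor p) :
    (∃ (k : Type u) (_ : Field k) (str : Spec (CommRingCat.of k) ⟶ S), Nonempty (Z.obj ≅ (AlgSp.yon S).obj (Over.mk str))) ↔
      ∃ p : AlgSp.FieldPt X.obj, AlgSp.Points.mk p = x ∧ Mono p.toHom := by
  obtain ⟨k, _, str, q, hq₁, hq₂, hq₃⟩ := hZ
  constructor
  · rintro ⟨k', _, str', ⟨e⟩⟩
    let p : FieldPt X.obj :=
      { K := k'
        str := str'
        val := (AlgSp.J S).uliftYonedaEquiv (e.inv ≫ i.hom) }
    have hp : p.toHom = e.inv ≫ i.hom := Equiv.symm_apply_apply _ _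
    refine ⟨p, ?_, ?_⟩
    · rw [← Points.ofPt_toHom p (IsLocalRing.closedPoint p.K), hp, ← Points.map_ofPt]
      exact Set.mem_singleton_iff.1 (hi ▸ Set.mem_range_self _)
    · rw [hp]; exact mono_comp _ _
  · rintro ⟨p, hp, hm⟩
    haveI := hm
    have sq := IsPullback.of_hasPullback i.hom p.toHom
    have hK := IsAlgSpace.yon_obj (S := S) p.pt
    have hP := AlgSpLib.isAlgSpace_of_isPullback Z.property hK X.property sq
    obtain ⟨z, hz⟩ : ∃ z, Points.map i.hom z = x := by
      have : x ∈ Set.range (Points.map i.hom) := hi.symm ▸ rfl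
      exact this
    obtain ⟨w, -, -⟩ := AlgSpLib.exists_point_isPullback sq z
      (Points.schemeHomeo p.pt (IsLocalRing.closedPoint p.K)) (by
        rw [hz, ← hp, ← Points.ofPt_toHom p (IsLocalRing.closedPoint p.K)]
        exact congrFun (AlgSpLib.ofPt_comp_ofScheme p.toHom) _)
    haveI : Mono (pullback.fst i.hom p.toHom) := inferInstance
    haveI : IsIso (pullback.fst i.hom p.toHom) :=
      (AlgSpLib.isEmpty_or_isIso_of_mono hP Z.property _ hq₁ hq₂ hq₃).resolve_left fun h => h.false w
    let d : Z.obj ⟶ (yon S).obj p.pt := inv (pullback.fst i.hom p.toHom) ≫ pullback.snd i.hom p.toHom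
    have hd : d ≫ p.toHom = i.hom := by
      rw [Category.assoc, ← pullback.condition, IsIso.inv_hom_id_assoc]
    haveI : Mono d := mono_of_mono_fac hd
    have hid : RepWith @Surjective (𝟙 ((yon S).obj p.pt)) := repWith_id _ _
    haveI : MorphismProperty.ContainsIdentities (C := Scheme.{u}) @LocallyOfFinitePresentation :=
      ⟨fun _ => inferInstance⟩
    haveI : MorphismProperty.ContainsIdentities (C := Scheme.{u}) @Flat := ⟨fun _ => inferInstance⟩
    haveI : IsIso d :=
      (AlgSpLib.isEmpty_or_isIso_of_mono Z.property hK d (k := p.K) (str := p.str) (p := 𝟙 _)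
        (AlgSpLib.locP_of_repWith (repWith_id _ _)) (AlgSpLib.locP_of_repWith (repWith_id _ _))
        (AlgSpLib.map_surjective_of_repWith hid)).resolve_left fun h => h.false z
    exact ⟨p.K, p.field, p.str, ⟨asIso d⟩⟩

end Groth.Agent.S10414
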