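import Groth.Statements.S10415
import Groth.Agent.MonoPtLib.Residual

set_option autoImplicit false
set_option backward.isDefEq.respectTransparency false
set_option backward.isDefEq.respectTransparency.types false
universe u
open CategoryTheory CategoryTheory.Limits AlgebraicGeometry Topology TopologicalSpace
open AlgSp

namespace Groth.Agent.S10415

/-- Let S be a scheme, Y and X algebraic spaces over S with Y reduced and X locally Noetherian, and f :
Y ⟶ X a morphism with |f|(|Y|) ⊆ {x}. Then f factors through Z_x ⟶ X, where Z_x denotes the residual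
space of X at the point x. -/
theorem result {S : Scheme.{u}} {Y X Z : AlgSp.Space S} (f : Y ⟶ X)
    (x : AlgSp.Points X.obj) (hf : ∀ y : AlgSp.Points Y.obj, AlgSp.Points.map f.hom y = x) (hY : AlgSp.EtaleLocally (fun U => IsReduced U) Y.obj)
    (hX : AlgSp.IsLocNoethSp X.obj) (i : Z ⟶ X) [Mono i.hom] (hi : Set.range (AlgSp.Points.map i.hom) = {x})
    (hZ : ∃ (k : Type u) (_ : Field k) (str : Spec (CommRingCat.of k) ⟶ S) (p : (AlgSp.yon S).obj (Over.mk str) ⟶ Z.obj),
        AlgSp.LocP @LocallyOfFinitePresentation p ∧ AlgSp.LocP @Flat p ∧ AlgSp.IsSurjectiveMor p) :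
    ∃ g : Y ⟶ Z, g ≫ i = f := by
  obtain ⟨k, _, str, p, h1, h2, h3⟩ := hZ
  obtain ⟨A, a, ha, has, hA⟩ := hY
  haveI : IsReduced A.left := hA
  obtain ⟨l, hl⟩ := MonoPtLib.exists_factor_residual_scheme X.property hX Z.property hi h1 h2 h3 (a ≫ f.hom)
    fun t => by rw [← Points.map_ofPt]; exact hf _
  haveI : Sheaf.IsLocallySurjective a := AlgSpLib.isLocallySurjective_of_repWith
    (AlgSpLib.repWith_mono (fun _ _ g (_ : Etale g) => (inferInstance : Flat g)) ha)
    (AlgSpLib.repWith_mono (fun _ _ g (_ : Etale g) => (inferInstance : LocallyOfFinitePresentation g)) ha) has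
  obtain ⟨d, hd⟩ := AlgSpLib.exists_desc a l fun T g g' e => by
    rw [← cancel_mono i.hom, Category.assoc, Category.assoc, hl, ← Category.assoc, e, Category.assoc]
  exact ⟨ObjectProperty.homMk d, ObjectProperty.hom_ext _ ((cancel_epi a).1 (by
    rw [ObjectProperty.FullSubcategory.comp_hom, ObjectProperty.homMk_hom, ← Category.assoc, hd, hl]))⟩

end Groth.Agent.S10415
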