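import Groth.Statements.S9995
import Groth.Agent.AlgSpLib.HasAtMore

set_option autoImplicit false
universe u
open CategoryTheory CategoryTheory.Limits AlgebraicGeometry
open AlgSp

namespace Groth.Agent.S9995

open AlgebraicGeometry CategoryTheory in
theorem finite_zero_dim {U V : Scheme.{u}} (h : U ⟶ V) [LocallyOfFiniteType h] [QuasiCompact h] (v : V) :
    {z : U | h.base z = v ∧ FlatMor.fibreDimAt h z = 0}.Finite := by
  haveI : LocallyOfFiniteType (h.fiberToSpecResidueField v) := UOpenLib.lft_fiberToSpec h v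
  haveI : IsLocallyNoetherian (h.fiber v) :=
    LocallyOfFiniteType.isLocallyNoetherian (h.fiberToSpecResidueField v)
  haveI : IsNoetherian (h.fiber v) := {}
  haveI : TopologicalSpace.NoetherianSpace (h.fiber v) := inferInstance
  let O : Set (h.fiber v) := {w | IsOpen ({w} : Set (h.fiber v))}
  have hO : IsCompact O := TopologicalSpace.NoetherianSpace.isCompact O
  obtain ⟨t, ht⟩ := hO.elim_finite_subcover (fun w : O => ({w.1} : Set (h.fiber v))) (fun w => w.2)
    (fun w hw => Set.mem_iUnion.2 ⟨⟨w, hw⟩, rfl⟩)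
  have hfin : O.Finite := Set.Finite.subset (t.finite_toSet.biUnion fun w _ => Set.finite_singleton w.1) ht
  refine (hfin.image (h.fiberι v).base).subset ?_
  rintro z ⟨rfl, hz⟩
  exact ⟨h.asFiber z, (AlgSpLib.fibreDimAt_eq_zero_iff h z).1 hz, h.fiberι_asFiber z⟩


/-- For a morphism f : X ⟶ Y of algebraic spaces of finite type and a point y of |Y|, the set of points
of |X| over y where f is quasi-finite is finite (in the neighbourhood sense, through some chart
diagram). -/
theorem result {S : Scheme.{u}} {X Y : AlgSp.Space S} (f : X ⟶ Y)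
    (hf : AlgSp.IsFiniteTypeMor f.hom) (y : AlgSp.Points Y.obj) :
    {x : AlgSp.Points X.obj | AlgSp.Points.map f.hom x = y ∧
      AlgSp.HasAtMor (fun U _ h u => ∃ W : U.Opens, u ∈ W ∧ LocallyQuasiFinite (W.ι ≫ h) ∧
        LocallyOfFiniteType (W.ι ≫ h)) f.hom x}.Finite := by
  obtain ⟨V, b, hb, hbs⟩ := Y.property.atlas
  obtain ⟨v₀, rfl⟩ := AlgSpLib.surjective_ofPt hbs y
  obtain ⟨O, hO, hvO, -⟩ := exists_isAffineOpen_mem_and_subset (U := ⊤) (x := v₀) trivial
  let W : Over S := Over.mk (O.ι ≫ V.hom)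
  let j : W ⟶ V := Over.homMk O.ι rfl
  haveI : IsAffine W.left := hO
  let sq := IsPullback.of_hasPullback f.hom ((AlgSp.yon S).map j ≫ b)
  have hW : AlgSp.IsAlgSpace ((AlgSp.yon S).obj W) := IsAlgSpace.yon_obj W
  have hP := AlgSpLib.isAlgSpace_pullback X.property hW Y.property f.hom ((AlgSp.yon S).map j ≫ b)
  obtain ⟨U, a, hU, ha, has⟩ := AlgSpLib.exists_affine_chart
    (hf.2 hW (AlgSpLib.isQuasiCompactSp_yon W) _ _ _ sq)
  haveI := hU
  obtain ⟨h, hh⟩ := (AlgSp.yon S).map_surjective (a ≫ pullback.snd f.hom ((AlgSp.yon S).map j ≫ b))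
  have hlft := AlgSpLib.locP_of_isPullback X.property Y.property hW sq hf.1
  have e : a ≫ pullback.snd f.hom ((AlgSp.yon S).map j ≫ b) = (AlgSp.yon S).map h ≫ 𝟙 _ := by
    rw [hh, Category.comp_id]
  haveI : LocallyOfFiniteType h.left := hlft a (𝟙 _) h ha (AlgSp.repWith_id _ _) e
  refine ((finite_zero_dim h.left (⟨v₀, hvO⟩ : W.left)).image
    (fun z => AlgSp.Points.map (pullback.fst f.hom ((AlgSp.yon S).map j ≫ b)) (AlgSp.Points.ofPt a z))).subset ?_
  rintro x ⟨hxy, hx⟩
  obtain ⟨w, hw, hwv⟩ := AlgSpLib.exists_point_isPullback sq x (AlgSp.Points.ofPt (𝟙 _) (⟨v₀, hvO⟩ : W.left))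
    (by rw [hxy, AlgSp.Points.map_ofPt, Category.id_comp, AlgSpLib.ofPt_yon_comp]; rfl)
  obtain ⟨z, rfl⟩ := AlgSpLib.surjective_ofPt has w
  refine ⟨z, ⟨?_, ?_⟩, hw⟩
  · rw [AlgSpLib.map_ofPt_chart e, AlgSp.Points.ofPt_eq_map_ofScheme, AlgSp.Points.ofPt_eq_map_ofScheme,
      AlgSp.Points.map_id, AlgSp.Points.map_id] at hwv
    exact (AlgSp.Points.schemeHomeo W).injective hwv
  · rw [AlgSpLib.hasAtMor_near_lqf_iff X.property Y.property hf.1, ← hw,
      ← AlgSpLib.hasAtMor_fibreDim_baseChange X.property Y.property hW sq hf.1 (fun t => t = 0)] at hx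
    exact (AlgSpLib.hasAtMor_iff (AlgSpLib.etInv_fibreDim fun t => t = 0) ha (AlgSp.repWith_id _ _) e z).1 hx
end Groth.Agent.S9995
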