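import Groth.Statements.S10418
import Groth.Agent.FiltLib.Open


set_option autoImplicit false
set_option backward.isDefEq.respectTransparency false
set_option backward.isDefEq.respectTransparency.types false
universe u
open CategoryTheory CategoryTheory.Limits AlgebraicGeometry Topology TopologicalSpace
open AlgSp

namespace Groth.Agent.S10418

/-- Let S be a scheme and X an algebraic space over S which is quasi-compact. There are open subspaces X
= U_1 ⊇ U_2 ⊇ U_3 ⊇ ⋯ such that (1) with T_p = U_p ∖ U_{p+1} (reduced induced subspace structure)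
there is a separated scheme V_p with a surjective etale f_p : V_p ⟶ U_p for which the map f_p⁻¹(T_p)
⟶ T_p is an isomorphism, and (2) every x ∈ |X| admitting a representative given by a quasi-compact
morphism from the spectrum of a field lies in T_p for some p. -/
theorem result {S : Scheme.{u}} (X : AlgSp.Space S)
    (hX : AlgSp.IsQuasiCompactSp X.obj) :
    ∃ (Uo : ℕ → AlgSp.Space S) (j : ∀ p, Uo p ⟶ X) (k : ∀ p, Uo (p + 1) ⟶ Uo p)
      (T : ℕ → AlgSp.Space S) (i : ∀ p, T p ⟶ Uo p),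
      (∀ p, AlgSp.RepWith @IsOpenImmersion (j p).hom) ∧ (∀ p, k p ≫ j p = j (p + 1)) ∧ IsIso (j 1) ∧
      (∀ p, AlgSp.IsRedInduced (Set.range (AlgSp.Points.map (k p).hom))ᶜ (i p).hom) ∧
      (∀ p, 1 ≤ p → ∃ (V : Over S) (f : (AlgSp.yon S).obj V ⟶ (Uo p).obj), V.left.IsSeparated ∧
        AlgSp.RepWith @Etale f ∧ AlgSp.RepWith @Surjective f ∧
        ∀ (P : AlgSp.Sp S) (fst : P ⟶ (T p).obj) (snd : P ⟶ (AlgSp.yon S).obj V),
          IsPullback fst snd (i p).hom f → IsIso fst) ∧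
      (∀ x : AlgSp.Points X.obj, (∃ q : AlgSp.FieldPt X.obj, AlgSp.Points.mk q = x ∧ AlgSp.RepWith @QuasiCompact q.toHom) →
        ∃ p, 1 ≤ p ∧ x ∈ Set.range (AlgSp.Points.map ((i p) ≫ (j p)).hom)) := by
  obtain ⟨U, a, hU, ha, has⟩ := AlgSpLib.exists_affine_chart hX
  haveI := hU
  obtain ⟨R, t, s, sq⟩ := AlgSpLib.exists_isPullback_yon a a ha.rep
  obtain ⟨Uo, j, k, T, i, hj, hk, hiso, hr, hi, hV⟩ := FiltLib.exists_filtration X sq ha has
  refine ⟨Uo, j, k, T, i, hj, hk, hiso, hi, fun p hp => ?_, fun x ⟨q, hq, hqc⟩ => ?_⟩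
  · obtain ⟨V, f, h1, -, h2, h3, h4⟩ := hV p hp
    exact ⟨V, f, h1, h2, h3, h4⟩
  haveI : Etale t.left := AlgSpLib.etale_left (AlgSpLib.repWith_of_isPullback sq.flip ha)
  haveI := SpectralQuot.isSeparated_t sq
  obtain ⟨u, rfl⟩ := AlgSpLib.surjective_ofPt has x
  obtain ⟨d, hd, hm, hdq⟩ := AlgSpLib.exists_decentPt_of_qc X.property q hqc
  have hfin : (t.left ⁻¹' {u}).Finite := by
    refine (((AlgSpLib.exists_decentPt_iff_finite X.property (AlgSp.Points.ofPt a u)).mpr
      ⟨d, hd.trans hq, hm, hdq⟩ U a hU ha R s t sq).2).subset fun r hr => ?_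
    simp only [Set.mem_preimage, Set.mem_singleton_iff] at hr ⊢
    rw [AlgSpLib.ofPt_yon_comp, hr]
  classical
  have hex := SpectralQuot.exists_not_atLeast t.left u hfin
  have h1 : SpectralQuot.AtLeast t.left 1 u :=
    (FiltLib.mem_strata_iff sq ha u).1 (by rw [FiltLib.strata_one sq has]; trivial)
  obtain ⟨m, hm'⟩ : ∃ m, Nat.find hex = m + 1 := by
    refine ⟨Nat.find hex - 1, ?_⟩
    have : 0 < Nat.find hex := (Nat.find_pos hex).2 fun h => h (SpectralQuot.atLeast_zero _ _)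
    omega
  have hno : ¬ SpectralQuot.AtLeast t.left (m + 1) u := hm' ▸ Nat.find_spec hex
  have hyes : SpectralQuot.AtLeast t.left m u := by
    by_contra h
    exact Nat.find_min hex (hm' ▸ Nat.lt_succ_self m) h
  refine ⟨m, Nat.one_le_iff_ne_zero.2 fun h0 => hno (h0 ▸ h1), ?_⟩
  obtain ⟨y, hy⟩ := (hr m).symm.subset ((FiltLib.mem_strata_iff sq ha u).2 hyes)
  have hy' : y ∈ (Set.range (AlgSp.Points.map (k m).hom))ᶜ := by
    rintro ⟨z, rfl⟩
    rw [← AlgSp.Points.map_comp, ← ObjectProperty.FullSubcategory.comp_hom, hk m] at hy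
    exact hno ((FiltLib.mem_strata_iff sq ha u).1 ((hr (m + 1)).subset ⟨z, hy⟩))
  obtain ⟨w, rfl⟩ := (hi m).2.1.symm.subset hy'
  refine ⟨w, ?_⟩
  rw [ObjectProperty.FullSubcategory.comp_hom, AlgSp.Points.map_comp]
  exact hy


end Groth.Agent.S10418
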