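import Groth.Statements.S10422
import Mathlib

set_option autoImplicit false
universe u
open Topology TopologicalSpace TensorProduct
open AlgSp

namespace Groth.Agent.S10422

/-- Let A be a ring, k a field, (p_n) a sequence of primes of A which are pairwise distinct, and k →
κ(p_n) field embeddings. Then the closure in Spec(A ⊗ A) of the image of ∐_{n ≠ m} Spec(κ(p_n) ⊗_k
κ(p_m)) meets the diagonal. Here κ(p_n) is any A-algebra K_n which is a field whose structure map
has kernel p_n and whose elements are quotients of images of elements of A. -/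
theorem result (A : Type u) [CommRing A] (k : Type u) [Field k]
    (p : ℕ → PrimeSpectrum A) (hp : Function.Injective p) (K : ℕ → Type u) [∀ n, Field (K n)]
    [∀ n, Algebra A (K n)] [∀ n, Algebra k (K n)]
    (hker : ∀ n, RingHom.ker (algebraMap A (K n)) = (p n).asIdeal)
    (hfrac : ∀ n (x : K n), ∃ a b : A, algebraMap A (K n) b ≠ 0 ∧ x * algebraMap A (K n) b = algebraMap A (K n) a) :
    (closure (⋃ (n : ℕ) (m : ℕ) (_ : n ≠ m),
        Set.range (PrimeSpectrum.comap
          (Algebra.TensorProduct.lift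
            ((Algebra.TensorProduct.includeLeft (R := k) (S := ℤ) (A := K n) (B := K m)).toRingHom.toIntAlgHom.comp
              (Algebra.ofId A (K n)).toRingHom.toIntAlgHom)
            ((Algebra.TensorProduct.includeRight (R := k) (A := K n) (B := K m)).toRingHom.toIntAlgHom.comp
              (Algebra.ofId A (K m)).toRingHom.toIntAlgHom)
            (fun _ _ => Commute.all _ _)).toRingHom)) ∩
      Set.range (PrimeSpectrum.comap (Algebra.TensorProduct.lmul' (S := A) ℤ).toRingHom)).Nonempty := by
  classical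
  let U : Ultrafilter ℕ := Filter.hyperfilter ℕ
  let q : Ideal A :=
    { carrier := {a | ∀ᶠ n in (U : Filter ℕ), a ∈ (p n).asIdeal}
      zero_mem' := Filter.Eventually.of_forall fun n => (p n).asIdeal.zero_mem
      add_mem' := fun ha hb => (ha.and hb).mono fun n h => (p n).asIdeal.add_mem h.1 h.2
      smul_mem' := fun c a ha => ha.mono fun n h => (p n).asIdeal.mul_mem_left c h }
  have hqp : q.IsPrime := by
    refine ⟨fun h => ?_, fun {a b} hab => ?_⟩
    · have h1 : ∀ᶠ n in (U : Filter ℕ), (1 : A) ∈ (p n).asIdeal := (Ideal.eq_top_iff_one q).mp h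
      obtain ⟨n, hn⟩ := h1.exists
      exact (p n).isPrime.ne_top ((Ideal.eq_top_iff_one _).mpr hn)
    · exact Ultrafilter.eventually_or.mp ((show ∀ᶠ n in (U : Filter ℕ), a * b ∈ (p n).asIdeal from hab).mono
        fun n h => (p n).isPrime.mem_or_mem h)
  refine ⟨PrimeSpectrum.comap (Algebra.TensorProduct.lmul' (S := A) ℤ).toRingHom ⟨q, hqp⟩, ?_, ⟨_, rfl⟩⟩
  rw [PrimeSpectrum.isTopologicalBasis_basic_opens.mem_closure_iff]
  rintro _ ⟨c, rfl⟩ hc
  replace hc : ¬ ∀ᶠ n in (U : Filter ℕ), Algebra.TensorProduct.lmul' (S := A) ℤ c ∈ (p n).asIdeal :=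
    fun h => hc h
  rw [← Ultrafilter.eventually_not] at hc
  have hinf : {n | Algebra.TensorProduct.lmul' (S := A) ℤ c ∉ (p n).asIdeal}.Infinite := fun hfin =>
    hfin.notMem_hyperfilter hc
  obtain ⟨N, a, b, hab⟩ : ∃ (N : ℕ) (a b : Fin N → A), c = ∑ l, a l ⊗ₜ[ℤ] b l := by
    clear hc hinf
    induction c with
    | zero => exact ⟨0, 0, 0, by simp⟩
    | tmul x y => exact ⟨1, fun _ => x, fun _ => y, by simp⟩
    | add x y hx hy =>
      obtain ⟨N, a, b, rfl⟩ := hx
      obtain ⟨N', a', b', rfl⟩ := hy
      exact ⟨N + N', Fin.append a a', Fin.append b b', by simp [Fin.sum_univ_add]⟩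
  let e := hinf.natEmbedding
  let s : Fin (N + 1) → ℕ := fun i => (e i).1
  obtain ⟨L, _, _, f, -⟩ : ∃ (L : Type u) (_ : Field L) (_ : Algebra k L)
      (_ : ∀ i : Fin (N + 1), K (s i) →ₐ[k] L), True := by
    suffices ∀ (M : ℕ) (s : Fin M → ℕ), ∃ (L : Type u) (_ : Field L) (_ : Algebra k L)
        (_ : ∀ i : Fin M, K (s i) →ₐ[k] L), True from this _ s
    intro M
    induction M with
    | zero => exact fun s => ⟨k, inferInstance, inferInstance, fun i => i.elim0, trivial⟩
    | succ M ih =>
      intro s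
      obtain ⟨L', _, _, f', -⟩ := ih (fun i => s i.succ)
      have : Nontrivial (K (s 0) ⊗[k] L') :=
        (Algebra.TensorProduct.includeRight_injective (A := K (s 0)) (B := L')
          (algebraMap k (K (s 0))).injective).nontrivial
      obtain ⟨m, hm⟩ := Ideal.exists_maximal (K (s 0) ⊗[k] L')
      letI := Ideal.Quotient.field m
      exact ⟨K (s 0) ⊗[k] L' ⧸ m, inferInstance, inferInstance,
        Fin.cons (α := fun i => K (s i) →ₐ[k] K (s 0) ⊗[k] L' ⧸ m)
          ((Ideal.Quotient.mkₐ k m).comp Algebra.TensorProduct.includeLeft)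
          (fun i => ((Ideal.Quotient.mkₐ k m).comp Algebra.TensorProduct.includeRight).comp (f' i)), trivial⟩
  let v : Fin (N + 1) → Fin N → L := fun i l => f i (algebraMap A (K (s i)) (a l))
  let w : Fin (N + 1) → Fin N → L := fun i l => f i (algebraMap A (K (s i)) (b l))
  obtain ⟨i, j, hij, hne⟩ : ∃ i j, i ≠ j ∧ ∑ l, v i l * w j l ≠ 0 := by
    by_contra h
    push Not at h
    have hdiag : ∀ i, ∑ l, v i l * w i l ≠ 0 := by
      intro i hi
      have hs : Algebra.TensorProduct.lmul' (S := A) ℤ c ∉ (p (s i)).asIdeal := (e i).2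
      rw [← hker, RingHom.mem_ker] at hs
      apply hs
      apply (f i).toRingHom.injective
      rw [map_zero, hab, map_sum, map_sum, map_sum, ← hi]
      refine Finset.sum_congr rfl fun l _ => ?_
      rw [Algebra.TensorProduct.lmul'_apply_tmul, map_mul, map_mul]
      rfl
    have hli : LinearIndependent L v := by
      rw [Fintype.linearIndependent_iff]
      intro g hg j
      have h1 : ∑ i, g i * ∑ l, v i l * w j l = 0 := by
        simp only [Finset.mul_sum]
        rw [Finset.sum_comm]
        refine Finset.sum_eq_zero fun l _ => ?_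
        have := congrFun hg l
        simp only [Finset.sum_apply, Pi.smul_apply, smul_eq_mul, Pi.zero_apply] at this
        rw [← zero_mul (w j l), ← this, Finset.sum_mul]
        simp only [mul_assoc]
      rw [Finset.sum_eq_single j (fun i _ hi => by rw [h i j hi, mul_zero]) (by simp)] at h1
      exact (mul_eq_zero.mp h1).resolve_right (hdiag j)
    have := hli.fintype_card_le_finrank
    simp at this
  have hsne : s i ≠ s j := fun h => hij (Fin.val_injective (e.injective (Subtype.ext h)))
  let φ : K (s i) ⊗[k] K (s j) →ₐ[k] L := Algebra.TensorProduct.productMap (f i) (f j)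
  let P : PrimeSpectrum (K (s i) ⊗[k] K (s j)) := ⟨RingHom.ker φ.toRingHom, RingHom.ker_isPrime _⟩
  refine ⟨_, ?_, Set.mem_iUnion.mpr ⟨s i, Set.mem_iUnion.mpr ⟨s j, Set.mem_iUnion.mpr ⟨hsne, ⟨P, rfl⟩⟩⟩⟩⟩
  intro hmem
  apply hne
  refine Eq.trans ?_ (RingHom.mem_ker.mp hmem)
  subst hab
  simp only [AlgHom.toRingHom_eq_coe, RingHom.coe_coe, map_sum]
  refine Finset.sum_congr rfl fun l _ => ?_
  simp [φ, v, w, Algebra.ofId_apply]

end Groth.Agent.S10422
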