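import Groth.Statements.S1043
import Mathlib
-- import your own Groth.Agent.* helpers here

set_option autoImplicit false
universe v u
open CategoryTheory
open CohDer

namespace Groth.Agent.S1043

open CategoryTheory.Pretriangulated in
/-- Let φ, ψ : T ⟶ T' be two morphisms between distinguished triangles T = (X, Y, Z) and T' = (X', Y',
Z') of a pretriangulated category which agree on the first and third components. If one of the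
following holds — (1) Hom(Y, X') = 0; (2) Hom(Z, Y') = 0; (3) Hom(X, X') = 0 and Hom(Z, X') = 0; (4)
Hom(Z, X') = 0 and Hom(Z, Z') = 0; (5) Hom(X[1], Z') = 0 and Hom(Z, X') = 0 — then φ and ψ also
agree on the middle component. -/
theorem result {D : Type u} [Category.{v} D] [Preadditive D] [Limits.HasZeroObject D] [HasShift D ℤ]
    [∀ n : ℤ, (shiftFunctor D n).Additive] [Pretriangulated D]
    (T T' : Triangle D) (hT : T ∈ distinguishedTriangles) (hT' : T' ∈ distinguishedTriangles)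
    (φ ψ : T ⟶ T') (h₁ : φ.hom₁ = ψ.hom₁) (h₃ : φ.hom₃ = ψ.hom₃)
    (hc : (∀ u : T.obj₂ ⟶ T'.obj₁, u = 0) ∨ (∀ u : T.obj₃ ⟶ T'.obj₂, u = 0) ∨
      ((∀ u : T.obj₁ ⟶ T'.obj₁, u = 0) ∧ (∀ u : T.obj₃ ⟶ T'.obj₁, u = 0)) ∨
      ((∀ u : T.obj₃ ⟶ T'.obj₁, u = 0) ∧ (∀ u : T.obj₃ ⟶ T'.obj₃, u = 0)) ∨
      ((∀ u : (shiftFunctor D (1 : ℤ)).obj T.obj₁ ⟶ T'.obj₃, u = 0) ∧ (∀ u : T.obj₃ ⟶ T'.obj₁, u = 0))) :
    φ.hom₂ = ψ.hom₂ := by
  suffices h : ∀ α : T ⟶ T', α.hom₁ = 0 → α.hom₃ = 0 → α.hom₂ = 0 by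
    have := h (φ - ψ) (sub_eq_zero.mpr h₁) (sub_eq_zero.mpr h₃)
    exact sub_eq_zero.mp this
  intro α hα1 hα3
  have e2 : α.hom₂ ≫ T'.mor₂ = 0 := by rw [← α.comm₂, hα3, Limits.comp_zero]
  have e1 : T.mor₁ ≫ α.hom₂ = 0 := by rw [α.comm₁, hα1, Limits.zero_comp]
  obtain ⟨β, hβ⟩ := Triangle.coyoneda_exact₂ T' hT' α.hom₂ e2
  obtain ⟨γ, hγ⟩ := Triangle.yoneda_exact₂ T hT α.hom₂ e1
  rcases hc with h | h | ⟨hXX, hZX⟩ | ⟨hZX, hZZ⟩ | ⟨hXZ, hZX⟩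
  · rw [hβ, h β, Limits.zero_comp]
  · rw [hγ, h γ, Limits.comp_zero]
  · obtain ⟨δ, hδ⟩ := Triangle.yoneda_exact₂ T hT β (hXX _)
    rw [hβ, hδ, hZX δ, Limits.comp_zero, Limits.zero_comp]
  · obtain ⟨δ, hδ⟩ := Triangle.coyoneda_exact₂ T' hT' γ (hZZ _)
    rw [hγ, hδ, hZX δ, Limits.zero_comp, Limits.comp_zero]
  · have h0 : T.mor₂ ≫ γ ≫ T'.mor₂ = 0 := by rw [← Category.assoc, ← hγ, e2]
    obtain ⟨ε, hε⟩ := Triangle.yoneda_exact₃ T hT (γ ≫ T'.mor₂) h0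
    rw [hXZ ε, Limits.comp_zero] at hε
    obtain ⟨δ, hδ⟩ := Triangle.coyoneda_exact₂ T' hT' γ hε
    rw [hγ, hδ, hZX δ, Limits.zero_comp, Limits.comp_zero]


end Groth.Agent.S1043
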