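import Groth.Statements.S10431
import Groth.Agent.UBddLib.Space
-- import your own Groth.Agent.* helpers here

set_option autoImplicit false
universe u
open CategoryTheory CategoryTheory.Limits AlgebraicGeometry Topology TopologicalSpace
open AlgSp

open AlgebraicGeometry CategoryTheory CategoryTheory.Limits TopologicalSpace
set_option backward.isDefEq.respectTransparency false
set_option backward.isDefEq.respectTransparency.types false
namespace Groth.Agent.S10431

/-- Let S be a scheme, X and Y algebraic spaces over S, and X ⟶ Y a representable morphism. If every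
etale morphism from an affine scheme to Y has universally bounded fibres, then so does every etale
morphism from an affine scheme to X. -/
theorem result {S : Scheme.{u}} {X Y : AlgSp.Space S} (f : X ⟶ Y)
    (hf : AlgSp.Representable f.hom)
    (hY : ∀ (V : Over S) (ψ : (AlgSp.yon S).obj V ⟶ Y.obj), IsAffine V.left → AlgSp.RepWith @Etale ψ → W4dec.HasUnivBddFibres ψ)
    (U : Over S) (φ : (AlgSp.yon S).obj U ⟶ X.obj) (hU : IsAffine U.left) (hφ : AlgSp.RepWith @Etale φ) :
    W4dec.HasUnivBddFibres φ := by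
  haveI := hU
  obtain ⟨W, b, hb, hbs⟩ := Y.property.atlas
  let V : W.left.affineOpens → Over S := fun O => Over.mk (O.1.ι ≫ W.hom)
  let jV : ∀ O, V O ⟶ W := fun O => Over.homMk O.1.ι rfl
  let bV : ∀ O, (AlgSp.yon S).obj (V O) ⟶ Y.obj := fun O => (AlgSp.yon S).map (jV O) ≫ b
  have hbV : ∀ O, AlgSp.RepWith @Etale (bV O) := fun O => AlgSpLib.repWith_comp
    (P := (@Etale : MorphismProperty Scheme.{u}))
    ((AlgSp.repWith_yon_map_iff (@Etale : MorphismProperty Scheme.{u}) (jV O)).2 (inferInstanceAs (Etale O.1.ι))) hb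
  choose R fst snd sq using fun O => show ∃ (R : Over S) (fst : R ⟶ V O) (snd : (AlgSp.yon S).obj R ⟶ X.obj),
    IsPullback snd ((AlgSp.yon S).map fst) f.hom (bV O) from ⟨_, _, _, hf.isPullback (bV O)⟩
  refine UBddLib.hasUnivBddFibres_of_family X.property R snd
    (fun O => AlgSpLib.repWith_of_isPullback (sq O).flip (hbV O)) (fun x => ?_) (fun O => ?_) φ hφ
  · obtain ⟨w, hw⟩ := AlgSpLib.surjective_ofPt hbs (AlgSp.Points.map f.hom x)
    obtain ⟨O, hwO⟩ : ∃ O : W.left.affineOpens, w ∈ O.1 := by
      have : w ∈ (⊤ : W.left.Opens) := trivial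
      rwa [← iSup_affineOpens_eq_top, Opens.mem_iSup] at this
    have hmem : x ∈ Set.range (AlgSp.Points.map (snd O)) := by
      rw [AlgSpLib.range_map_of_isPullback (sq O).flip, Set.mem_preimage, ← AlgSpLib.range_ofPt]
      exact ⟨⟨w, hwO⟩, by rw [AlgSpLib.ofPt_yon_comp]; exact hw⟩
    rw [← AlgSpLib.range_ofPt] at hmem
    exact ⟨O, hmem⟩
  · obtain ⟨n, hn⟩ := hY (V O) (bV O) O.2 (hbV O)
    refine ⟨n, fun q T c s hs => hn (q.map f.hom) T c (s ≫ (AlgSp.yon S).map (fst O)) ?_⟩
    rw [AlgSp.FieldPt.toHom_map]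
    exact hs.paste_vert (sq O)

end Groth.Agent.S10431
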