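import Groth.Statements.S10432
import Groth.Agent.UBddLib.Space
-- import your own Groth.Agent.* helpers here

set_option autoImplicit false
universe u
open CategoryTheory CategoryTheory.Limits AlgebraicGeometry Topology TopologicalSpace
open AlgSp

open AlgebraicGeometry CategoryTheory CategoryTheory.Limits TopologicalSpace
set_option backward.isDefEq.respectTransparency false
set_option backward.isDefEq.respectTransparency.types false
namespace Groth.Agent.S10432

/-- Let X be an algebraic space over a scheme S with a Zariski covering by open subspaces X_i ⟶ X such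
that every etale morphism from an affine scheme to X_i has universally bounded fibres. Then every
etale morphism from an affine scheme to X has universally bounded fibres. -/
theorem result {S : Scheme.{u}} (X : AlgSp.Space S) {ι : Type u}
    (Xi : ι → AlgSp.Space S) (j : ∀ i, Xi i ⟶ X) (hj : AlgSp.IsZarCover (fun i => (Xi i).obj) (fun i => (j i).hom))
    (h : ∀ (i : ι) (V : Over S) (ψ : (AlgSp.yon S).obj V ⟶ (Xi i).obj), IsAffine V.left → AlgSp.RepWith @Etale ψ → W4dec.HasUnivBddFibres ψ)
    (U : Over S) (φ : (AlgSp.yon S).obj U ⟶ X.obj) (hU : IsAffine U.left) (hφ : AlgSp.RepWith @Etale φ) :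
    W4dec.HasUnivBddFibres φ := by
  haveI := hU
  choose W a ha has using fun i => (Xi i).property.atlas
  let ι' : Type u := Σ i, (W i).left.affineOpens
  let V : ι' → Over S := fun O => Over.mk (O.2.1.ι ≫ (W O.1).hom)
  let jV : ∀ O : ι', V O ⟶ W O.1 := fun O => Over.homMk O.2.1.ι rfl
  let aV : ∀ O : ι', (AlgSp.yon S).obj (V O) ⟶ (Xi O.1).obj := fun O => (AlgSp.yon S).map (jV O) ≫ a O.1
  have haV : ∀ O, AlgSp.RepWith @Etale (aV O) := fun O => AlgSpLib.repWith_comp
    (P := (@Etale : MorphismProperty Scheme.{u}))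
    ((AlgSp.repWith_yon_map_iff (@Etale : MorphismProperty Scheme.{u}) (jV O)).2 (inferInstanceAs (Etale O.2.1.ι)))
    (ha O.1)
  refine UBddLib.hasUnivBddFibres_of_family X.property V (fun O => aV O ≫ (j O.1).hom)
    (fun O => AlgSpLib.repWith_comp (P := (@Etale : MorphismProperty Scheme.{u})) (haV O)
      (AlgSpLib.repWith_mono (fun _ _ g (_ : IsOpenImmersion g) => (inferInstance : Etale g)) (hj.1 O.1)))
    (fun x => ?_) (fun O => ?_) φ hφ
  · obtain ⟨i, y, rfl⟩ := hj.2 x
    obtain ⟨w, rfl⟩ := AlgSpLib.surjective_ofPt (has i) y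
    obtain ⟨O, hwO⟩ : ∃ O : (W i).left.affineOpens, w ∈ O.1 := by
      have : w ∈ (⊤ : (W i).left.Opens) := trivial
      rwa [← iSup_affineOpens_eq_top, Opens.mem_iSup] at this
    refine ⟨⟨i, O⟩, ⟨w, hwO⟩, ?_⟩
    rw [← AlgSp.Points.map_ofPt, AlgSpLib.ofPt_yon_comp]
    rfl
  · obtain ⟨n, hn⟩ := h O.1 (V O) (aV O) O.2.2 (haV O)
    haveI := AlgSpLib.mono_of_openImmersion (hj.1 O.1)
    exact ⟨n, UBddLib.degFibresLE_comp_mono (j O.1).hom ((Xi O.1).property.representable_from_yon _)
      (X.property.representable_from_yon _) hn⟩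

end Groth.Agent.S10432
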