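import Groth.Statements.S10433
import Groth.Agent.FibDegLib.Strata
import Groth.Agent.AlgSpLib.Basic
import Groth.Agent.S10192
-- import your own Groth.Agent.* helpers here

set_option autoImplicit false
universe u
open CategoryTheory CategoryTheory.Limits AlgebraicGeometry Topology TopologicalSpace
open AlgSp

open CategoryTheory CategoryTheory.Limits AlgebraicGeometry Opposite
open AlgSp
set_option backward.isDefEq.respectTransparency false
set_option backward.isDefEq.respectTransparency.types false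
set_option linter.style.haveILetI false
namespace Groth.Agent.S10433

variable {S : Scheme.{u}} {F : AlgSp.Sp S} {W : Over S} {w : (AlgSp.yon S).obj W ⟶ F}

/-- The degree of `w` at a point of a test scheme. -/
noncomputable def dg (hr : AlgSp.Representable w) {T : Over S} (g : (AlgSp.yon S).obj T ⟶ F) (t : T.left) :
    Cardinal.{u} :=
  FibDegLib.rk (hr.snd g).left t

/-- Comparison of two represented pullbacks along a morphism of test schemes. -/
theorem exists_isPullback_left {T V T' V' : Over S} {g : (AlgSp.yon S).obj T ⟶ F}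
    {fst : (AlgSp.yon S).obj V ⟶ (AlgSp.yon S).obj W} {c : V ⟶ T}
    (hc : IsPullback fst ((AlgSp.yon S).map c) w g) (a : T' ⟶ T)
    {fst' : (AlgSp.yon S).obj V' ⟶ (AlgSp.yon S).obj W} {c' : V' ⟶ T'}
    (hc' : IsPullback fst' ((AlgSp.yon S).map c') w ((AlgSp.yon S).map a ≫ g)) :
    ∃ m : V' ⟶ V, IsPullback m.left c'.left c.left a.left := by
  let k : (AlgSp.yon S).obj V' ⟶ (AlgSp.yon S).obj V :=
    hc.lift fst' ((AlgSp.yon S).map c' ≫ (AlgSp.yon S).map a) (by rw [hc'.w, Category.assoc])
  obtain ⟨m, hm⟩ := (AlgSp.yon S).map_surjective k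
  refine ⟨m, ?_⟩
  have h2 : IsPullback ((AlgSp.yon S).map m) ((AlgSp.yon S).map c') ((AlgSp.yon S).map c) ((AlgSp.yon S).map a) :=
    IsPullback.of_right (by rw [hm, IsPullback.lift_fst]; exact hc') (by rw [hm, IsPullback.lift_snd]) hc
  have h3 : IsPullback m c' c a := IsPullback.of_map (AlgSp.yon S) (h2.w |> fun e =>
    (AlgSp.yon S).map_injective (by simpa only [Functor.map_comp] using e)) h2
  exact h3.map (Over.forget S)

section

variable (hfl : AlgSp.RepWith @Flat w) (hqf : AlgSp.RepWith @LocallyQuasiFinite w)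
  {n : ℕ} (hb : W4dec.DegFibresLE n w)
include hfl hqf hb

theorem rk_snd_le {T V : Over S} {g : (AlgSp.yon S).obj T ⟶ F}
    {fst : (AlgSp.yon S).obj V ⟶ (AlgSp.yon S).obj W} {c : V ⟶ T}
    (hc : IsPullback fst ((AlgSp.yon S).map c) w g) (t : T.left) :
    FibDegLib.rk c.left t ≤ n := by
  haveI : Flat c.left := hfl.property g fst c hc
  haveI : LocallyQuasiFinite c.left := hqf.property g fst c hc
  let q := AlgSp.FieldPt.ofPt g t
  let ι : q.pt ⟶ T := Over.homMk (T.left.fromSpecResidueField t) rfl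
  have hr := hfl.rep
  have hsq : IsPullback (hr.fst q.toHom) ((AlgSp.yon S).map (hr.snd q.toHom)) w ((AlgSp.yon S).map ι ≫ g) := by
    have := hr.isPullback q.toHom
    have he : q.toHom = (AlgSp.yon S).map ι ≫ g := AlgSp.FieldPt.toHom_ofPt g t
    exact he ▸ this
  obtain ⟨m, hm⟩ := exists_isPullback_left hc ι hsq
  obtain ⟨hfin, hle⟩ := hb q _ (hr.snd q.toHom) (hr.fst q.toHom) (hr.isPullback q.toHom).flip
  haveI := hfin
  let e := (IsPullback.of_hasPullback c.left (T.left.fromSpecResidueField t)).isoIsPullback _ _ hm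
  haveI : Flat (hr.snd q.toHom).left := MorphismProperty.of_isPullback (P := @Flat) hm inferInstance
  calc FibDegLib.rk c.left t
      = FibDegLib.gRank (K := T.left.residueField t) (hr.snd q.toHom).left := by
        rw [FibDegLib.rk]
        exact (FibDegLib.gRank_eq_of_isIso (K := T.left.residueField t) (hr.snd q.toHom).left
          (pullback.snd c.left (T.left.fromSpecResidueField t)) e.hom (IsPullback.isoIsPullback_hom_snd _ _ _ _))
    _ = (((hr.snd q.toHom).left.finrank (IsLocalRing.closedPoint (T.left.residueField t)) : ℕ) : Cardinal.{u}) :=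
        (FibDegLib.natCast_finrank (K := T.left.residueField t) _ _).symm
    _ ≤ n := by exact_mod_cast hle _

theorem dg_eq {T V : Over S} {g : (AlgSp.yon S).obj T ⟶ F}
    {fst : (AlgSp.yon S).obj V ⟶ (AlgSp.yon S).obj W} {c : V ⟶ T}
    (hc : IsPullback fst ((AlgSp.yon S).map c) w g) {T' : Over S} (a : T' ⟶ T) (t' : T'.left) :
    dg hfl.rep ((AlgSp.yon S).map a ≫ g) t' = FibDegLib.rk c.left (a.left t') := by
  haveI : Flat c.left := hfl.property g fst c hc
  haveI : LocallyQuasiFinite c.left := hqf.property g fst c hc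
  have hfin : (c.left ⁻¹' {a.left t'}).Finite :=
    FibDegLib.finite_of_rk_le c.left (rk_snd_le hfl hqf hb hc _)
  obtain ⟨m, hm⟩ := exists_isPullback_left hc a
    (by simpa using hfl.rep.isPullback ((AlgSp.yon S).map a ≫ g) :
      IsPullback (hfl.rep.fst ((AlgSp.yon S).map a ≫ g))
        ((AlgSp.yon S).map (hfl.rep.snd ((AlgSp.yon S).map a ≫ g))) w ((AlgSp.yon S).map a ≫ g))
  let c' := (hfl.rep.snd ((AlgSp.yon S).map a ≫ g)).left
  rw [← FibDegLib.rk_snd c.left a.left t' hfin, dg, FibDegLib.rk, FibDegLib.rk]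
  let e := hm.isoPullback
  exact FibDegLib.gRank_eq_of_isIso (K := T'.left.residueField t') _ _
    (pullback.map c' (T'.left.fromSpecResidueField t') (pullback.snd c.left a.left)
      (T'.left.fromSpecResidueField t') e.hom (𝟙 _) (𝟙 _) (by simp [e, c']) (by simp))
    (by simp [c'])

theorem dg_pt_rel {p q : AlgSp.FieldPt F} (h : AlgSp.FieldPt.Rel p q) :
    dg hfl.rep p.toHom (IsLocalRing.closedPoint p.K) = dg hfl.rep q.toHom (IsLocalRing.closedPoint q.K) := by
  obtain ⟨Ω, _, s, a, b, h⟩ := h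
  have he : (AlgSp.yon S).map a ≫ p.toHom = (AlgSp.yon S).map b ≫ q.toHom := by
    apply (AlgSp.J S).uliftYonedaEquiv.injective
    rw [GrothendieckTopology.uliftYonedaEquiv_comp, GrothendieckTopology.uliftYonedaEquiv_comp]
    change p.toHom.hom.app _ ⟨_⟩ = q.toHom.hom.app _ ⟨_⟩
    rw [AlgSp.FieldPt.toHom_app, AlgSp.FieldPt.toHom_app]
    simpa using h
  have h₁ := dg_eq hfl hqf hb (hfl.rep.isPullback p.toHom) a (IsLocalRing.closedPoint Ω)
  have h₂ := dg_eq hfl hqf hb (hfl.rep.isPullback q.toHom) b (IsLocalRing.closedPoint Ω)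
  rw [he] at h₁
  rw [dg, dg, show IsLocalRing.closedPoint p.K = a.left (IsLocalRing.closedPoint Ω) from Subsingleton.elim _ _,
    show IsLocalRing.closedPoint q.K = b.left (IsLocalRing.closedPoint Ω) from Subsingleton.elim _ _,
    ← h₁, ← h₂]

/-- The degree at a point of the space. -/
noncomputable def deg : AlgSp.Points F → Cardinal.{u} :=
  Quotient.lift (fun p : AlgSp.FieldPt F => dg hfl.rep p.toHom (IsLocalRing.closedPoint p.K))
    fun _ _ h => dg_pt_rel hfl hqf hb h

theorem deg_ofPt {T V : Over S} {g : (AlgSp.yon S).obj T ⟶ F}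
    {fst : (AlgSp.yon S).obj V ⟶ (AlgSp.yon S).obj W} {c : V ⟶ T}
    (hc : IsPullback fst ((AlgSp.yon S).map c) w g) (t : T.left) :
    deg hfl hqf hb (AlgSp.Points.ofPt g t) = FibDegLib.rk c.left t := by
  let q := AlgSp.FieldPt.ofPt g t
  let ι : q.pt ⟶ T := Over.homMk (T.left.fromSpecResidueField t) rfl
  have h := dg_eq hfl hqf hb hc ι (IsLocalRing.closedPoint q.K)
  have hι : ι.left (IsLocalRing.closedPoint q.K) = t := Scheme.fromSpecResidueField_apply t _
  rw [hι] at h
  have he : q.toHom = (AlgSp.yon S).map ι ≫ g := AlgSp.FieldPt.toHom_ofPt g t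
  rw [← he] at h
  exact h

theorem deg_le (x : AlgSp.Points F) : deg hfl hqf hb x ≤ n := by
  induction x using AlgSp.Points.ind with
  | h p => exact rk_snd_le hfl hqf hb (hfl.rep.isPullback p.toHom) _

theorem isClosed_deg_lt (hfp : AlgSp.RepWith @LocallyOfFinitePresentation w)
    (hsep : AlgSp.RepWith @IsSeparated w) (r : ℕ) : IsClosed {x | deg hfl hqf hb x < r} := by
  rw [← isOpen_compl_iff, AlgSp.Points.isOpen_iff]
  intro T g
  have hc := hfl.rep.isPullback g
  let c := hfl.rep.snd g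
  haveI : Flat c.left := hfl.property g _ c hc
  haveI : LocallyQuasiFinite c.left := hqf.property g _ c hc
  haveI : LocallyOfFinitePresentation c.left := hfp.property g _ c hc
  haveI : IsSeparated c.left := hsep.property g _ c hc
  convert FibDegLib.isOpen_setOf_le_rk c.left r using 1
  ext t
  simp only [Set.mem_preimage, Set.mem_compl_iff, Set.mem_setOf_eq, not_lt, deg_ofPt hfl hqf hb hc t]
  rfl

theorem finLocFreeOfDeg_iff (hfp : AlgSp.RepWith @LocallyOfFinitePresentation w)
    (hsep : AlgSp.RepWith @IsSeparated w) {T V : Over S} {g : (AlgSp.yon S).obj T ⟶ F}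
    {fst : (AlgSp.yon S).obj V ⟶ (AlgSp.yon S).obj W} {c : V ⟶ T}
    (hc : IsPullback fst ((AlgSp.yon S).map c) w g) (r : ℕ) :
    Mor2.IsFinLocFreeOfDeg r c.left ↔ ∀ t, deg hfl hqf hb (AlgSp.Points.ofPt g t) = r := by
  haveI : Flat c.left := hfl.property g _ c hc
  haveI : LocallyQuasiFinite c.left := hqf.property g _ c hc
  haveI : LocallyOfFinitePresentation c.left := hfp.property g _ c hc
  haveI : IsSeparated c.left := hsep.property g _ c hc
  simp only [deg_ofPt hfl hqf hb hc]
  refine ⟨fun h t => ?_, fun h => ?_⟩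
  · haveI : IsFinite c.left := h.1.1
    rw [← FibDegLib.natCast_finrank_eq_rk, h.2 t]
  · haveI : IsFinite c.left := FibDegLib.isFinite_of_rk_eq c.left r h
    refine ⟨⟨‹_›, ‹_›, ‹_›⟩, fun t => ?_⟩
    have := (FibDegLib.natCast_finrank_eq_rk c.left t).trans (h t)
    exact_mod_cast this

end


/-- Let S be a scheme, X an algebraic space over S, W a scheme over S, and W ⟶ X a morphism which is
flat, separated, locally of finite presentation and locally quasi-finite, with universally bounded
fibres. Then X has closed subspaces, each reduced, ∅ = Z_{-1} ⊆ Z_0 ⊆ ⋯ ⊆ Z_n with |Z_n| = |X| such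
that, putting X_r = Z_r ∖ Z_{r-1}, for every morphism g : T ⟶ X the second projection W ×_X T ⟶ T is
a finite locally free morphism of degree r exactly when g(|T|) ⊆ |X_r|. (Indexing: Zs 0 = Z_{-1}, Zs
(r+1) = Z_r.) -/
theorem result {S : Scheme.{u}} (X : AlgSp.Space S) {W : Over S}
    (w : (AlgSp.yon S).obj W ⟶ X.obj) (hfl : AlgSp.RepWith @Flat w) (hfp : AlgSp.RepWith @LocallyOfFinitePresentation w)
    (hsep : AlgSp.RepWith @IsSeparated w) (hqf : AlgSp.RepWith @LocallyQuasiFinite w) (hb : W4dec.HasUnivBddFibres w) :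
    ∃ (n : ℕ) (Zs : ℕ → AlgSp.Space S) (i : ∀ r, Zs r ⟶ X),
      (∀ r, AlgSp.IsRedInduced (Set.range (AlgSp.Points.map (i r).hom)) (i r).hom) ∧
      IsEmpty (AlgSp.Points (Zs 0).obj) ∧ Set.range (AlgSp.Points.map (i (n + 1)).hom) = Set.univ ∧
      (∀ r, Set.range (AlgSp.Points.map (i r).hom) ⊆ Set.range (AlgSp.Points.map (i (r + 1)).hom)) ∧
      ∀ (r : ℕ) (T : AlgSp.Space S) (g : T ⟶ X) (P : AlgSp.Sp S) (fst : P ⟶ (AlgSp.yon S).obj W) (snd : P ⟶ T.obj),
        IsPullback fst snd w g.hom →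
          (AlgSp.IsFinLocFreeOfDegMor r snd ↔
            Set.range (AlgSp.Points.map g.hom) ⊆
              Set.range (AlgSp.Points.map (i (r + 1)).hom) \ Set.range (AlgSp.Points.map (i r).hom)) := by
  obtain ⟨n, hb⟩ := hb
  let d := deg hfl hqf hb
  choose Zs i hi using fun r : ℕ => S10192.result X {x | d x < r} (isClosed_deg_lt hfl hqf hb hfp hsep r)
  have hrange : ∀ r, Set.range (AlgSp.Points.map (i r).hom) = {x | d x < r} := fun r => (hi r).2.1
  refine ⟨n, Zs, i, fun r => ?_, ⟨fun z => ?_⟩, ?_, fun r => ?_, fun r T g P fst snd sq => ?_⟩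
  · rw [hrange r]; exact hi r
  · have : AlgSp.Points.map (i 0).hom z ∈ {x | d x < ((0 : ℕ) : Cardinal.{u})} := hrange 0 ▸ ⟨z, rfl⟩
    simp at this
  · rw [hrange]
    exact Set.eq_univ_of_forall fun x => (deg_le hfl hqf hb x).trans_lt (Nat.cast_lt.2 (Nat.lt_succ_self n))
  · rw [hrange, hrange]
    exact fun x (hx : d x < r) => hx.trans (Nat.cast_lt.2 (Nat.lt_succ_self r))
  have hset : Set.range (AlgSp.Points.map (i (r + 1)).hom) \ Set.range (AlgSp.Points.map (i r).hom) =
      {x | d x = r} := by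
    rw [hrange, hrange]
    ext x
    obtain ⟨m, hm⟩ : ∃ m : ℕ, d x = m := Cardinal.lt_aleph0.1
      ((deg_le hfl hqf hb x).trans_lt Cardinal.natCast_lt_aleph0)
    simp only [Set.mem_sdiff, Set.mem_setOf_eq, hm, Nat.cast_lt, Nat.cast_inj]
    omega
  rw [hset]
  constructor
  · rintro h _ ⟨y, rfl⟩
    induction y using AlgSp.Points.ind with
    | h p =>
      rw [← AlgSp.Points.ofPt_toHom p (IsLocalRing.closedPoint p.K), AlgSp.Points.map_ofPt]
      have hc := h.rep.isPullback p.toHom
      exact (finLocFreeOfDeg_iff hfl hqf hb hfp hsep (hc.paste_horiz sq) r).1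
        (h.property p.toHom _ _ hc) _
  · intro h
    refine ⟨MorphismProperty.of_isPullback (P := AlgSp.Representable) sq hfl.rep, fun T₀ V g₀ f₀ c hc => ?_⟩
    refine (finLocFreeOfDeg_iff hfl hqf hb hfp hsep (hc.paste_horiz sq) r).2 fun t => ?_
    rw [← AlgSp.Points.map_ofPt]
    exact h ⟨_, rfl⟩

end Groth.Agent.S10433
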