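import Groth.Statements.S10439
import Groth.Agent.SpectralQuot.DecentSober
-- import your own Groth.Agent.* helpers here

set_option autoImplicit false
universe u
open CategoryTheory CategoryTheory.Limits AlgebraicGeometry Topology TopologicalSpace
open AlgSp

namespace Groth.Agent.S10439

/-- A birational morphism between decent algebraic spaces over a scheme S, each with only finitely many
irreducible components, is dominant: the image of |X| is dense in |Y|. -/
theorem result {S : Scheme.{u}} {X Y : AlgSp.Space S} (f : X ⟶ Y)
    (hX : AlgSp.IsDecent X.obj) (hY : AlgSp.IsDecent Y.obj)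
    (hXf : (irreducibleComponents (AlgSp.Points X.obj)).Finite)
    (hYf : (irreducibleComponents (AlgSp.Points Y.obj)).Finite)
    (hf : W4stk3decentspacesp2.IsBirational f.hom) : AlgSp.IsDominantMor f.hom := by
  haveI := SpectralQuot.quasiSober_of_decent Y hY
  intro y
  exact closure_mono (fun z hz => hf.bijOn.image_eq ▸ hz |>.elim fun x hx => ⟨x, hx.2⟩)
    ((genericPoints.closure (α := AlgSp.Points Y.obj)).ge (Set.mem_univ y))


end Groth.Agent.S10439
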