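import Groth.Statements.S10440
import Groth.Agent.AlgSpLib.ElemNbhd
import Groth.Agent.HenselBranchLib.EtaleHens
-- import your own Groth.Agent.* helpers here

set_option autoImplicit false
universe u
open CategoryTheory CategoryTheory.Limits AlgebraicGeometry Topology TopologicalSpace
open AlgSp

namespace Groth.Agent.S10440

/-- For a decent algebraic space X over a scheme S and x ∈ |X|, let g : (U', u') ⟶ (U, u) be a morphism
of elementary etale neighbourhoods of (X, x). If R is a henselization of O_{U', u'} then, through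
the local ring map O_{U, u} ⟶ O_{U', u'} induced by g, R is a henselization of O_{U, u} as well.
(The published statement identifies the henselian local ring at x, defined as the colimit of global
sections over all elementary etale neighbourhoods, with the henselization of O_{U, u}; that ring is
not a separate construction here, and this row states the resulting independence of the
henselization from the chosen neighbourhood.) -/
theorem result {S : Scheme.{u}} (X : AlgSp.Space S)
    (hX : AlgSp.IsDecent X.obj) (x : AlgSp.Points X.obj) {U U' : Over S}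
    (a : (AlgSp.yon S).obj U ⟶ X.obj) (a' : (AlgSp.yon S).obj U' ⟶ X.obj) (g : U' ⟶ U) (u' : ↥U'.left)
    (hg : (AlgSp.yon S).map g ≫ a = a') (ha : AlgSp.IsElemEtaleNbhd a (g.left.base u') x)
    (ha' : AlgSp.IsElemEtaleNbhd a' u' x) (R : Type u) [CommRing R] [IsLocalRing R]
    [Algebra ↥(U'.left.presheaf.stalk u') R] [IsLocalHom (algebraMap ↥(U'.left.presheaf.stalk u') R)]
    [Hensel.IsHenselization ↥(U'.left.presheaf.stalk u') R] :
    letI : Algebra ↥(U.left.presheaf.stalk (g.left.base u')) R :=
      ((algebraMap ↥(U'.left.presheaf.stalk u') R).comp (g.left.stalkMap u').hom).toAlgebra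
    ∃ (_ : IsLocalHom (algebraMap ↥(U.left.presheaf.stalk (g.left.base u')) R)),
      Hensel.IsHenselization ↥(U.left.presheaf.stalk (g.left.base u')) R := by
  subst hg
  obtain ⟨het, hb⟩ := AlgSpLib.bijective_residueFieldMap_of_elem X.property hX g ha ha'
  haveI := het
  letI : Algebra ↥(U.left.presheaf.stalk (g.left.base u')) R :=
    ((algebraMap ↥(U'.left.presheaf.stalk u') R).comp (g.left.stalkMap u').hom).toAlgebra
  obtain ⟨_, ⟨V, hV, rfl⟩, hxV, -⟩ :=
    U.left.isBasis_affineOpens.exists_subset_of_mem_open (Set.mem_univ (g.left u')) isOpen_univ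
  obtain ⟨_, ⟨W, hW, rfl⟩, huW, hWV⟩ := U'.left.isBasis_affineOpens.exists_subset_of_mem_open
    (show u' ∈ (g.left ⁻¹ᵁ V : Set U'.left) from hxV) (g.left ⁻¹ᵁ V).2
  letI : Algebra Γ(U.left, V) Γ(U'.left, W) := (g.left.appLE V W hWV).hom.toAlgebra
  haveI : Algebra.Etale Γ(U.left, V) Γ(U'.left, W) :=
    RingHom.etale_algebraMap.1 (HasRingHomProperty.appLE @Etale g.left het ⟨V, hV⟩ ⟨W, hW⟩ hWV)
  letI := TopCat.Presheaf.algebra_section_stalk U.left.presheaf (⟨g.left u', hxV⟩ : V)
  letI := TopCat.Presheaf.algebra_section_stalk U'.left.presheaf (⟨u', huW⟩ : W)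
  haveI := hV.isLocalization_stalk ⟨g.left u', hxV⟩
  haveI := hW.isLocalization_stalk ⟨u', huW⟩
  letI : Algebra ↥(U.left.presheaf.stalk (g.left u')) ↥(U'.left.presheaf.stalk u') := (g.left.stalkMap u').hom.toAlgebra
  haveI : IsLocalHom (algebraMap ↥(U.left.presheaf.stalk (g.left u')) ↥(U'.left.presheaf.stalk u')) :=
    inferInstanceAs (IsLocalHom (g.left.stalkMap u').hom)
  haveI : IsScalarTower ↥(U.left.presheaf.stalk (g.left u')) ↥(U'.left.presheaf.stalk u') R :=
    IsScalarTower.of_algebraMap_eq' rfl
  exact HenselBranchLib.isHenselization_comp (hV.primeIdealOf ⟨g.left u', hxV⟩).asIdeal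
    ↥(U.left.presheaf.stalk (g.left u')) Γ(U'.left, W) (hW.primeIdealOf ⟨u', huW⟩).asIdeal ↥(U'.left.presheaf.stalk u')
    (fun c => by
      show (g.left.stalkMap u').hom (U.left.presheaf.germ V (g.left u') hxV c) =
        U'.left.presheaf.germ W u' huW (g.left.appLE V W hWV c)
      exact (Scheme.Hom.germ_stalkMap_apply g.left V u' hxV c).trans
        (TopCat.Presheaf.germ_res_apply U'.left.presheaf (homOfLE hWV) u' huW _).symm)
    (congrArg PrimeSpectrum.asIdeal (IsAffineOpen.comap_primeIdealOf_appLE (f := g.left) V hV W hW hWV huW))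
    (HenselBranchLib.isFrac_of_bijective g.left hV hW hWV huW hb) R

end Groth.Agent.S10440
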