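import Groth.Statements.S10441
import Groth.Agent.HenselBranchLib.ElemBranch
import Groth.Agent.S9235
import Groth.Agent.S9237
import Groth.Agent.HenselBranchLib.EtaleNbhdScheme
-- import your own Groth.Agent.* helpers here

set_option autoImplicit false
universe u
open CategoryTheory CategoryTheory.Limits AlgebraicGeometry Topology TopologicalSpace
open AlgSp

namespace Groth.Agent.S10441

/-- For a decent algebraic space X over a scheme S and x ∈ |X|, fix an elementary etale neighbourhood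
(U₀, u₀) of (X, x) and a henselization R of O_{U₀, u₀} (a model of the henselian local ring at x).
The following are equivalent: (1) O_{U, u} has exactly one minimal prime whenever (U, u) is an
elementary etale neighbourhood of (X, x); (2) a unique irreducible component of U passes through u
for all such (U, u); (3) O_{U, u} is unibranch for all such (U, u); (4) R has exactly one minimal
prime. -/
theorem result {S : Scheme.{u}} (X : AlgSp.Space S)
    (hX : AlgSp.IsDecent X.obj) (x : AlgSp.Points X.obj) {U₀ : Over S}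
    (a₀ : (AlgSp.yon S).obj U₀ ⟶ X.obj) (u₀ : ↥U₀.left) (h₀ : AlgSp.IsElemEtaleNbhd a₀ u₀ x)
    (R : Type u) [CommRing R] [IsLocalRing R] [Algebra ↥(U₀.left.presheaf.stalk u₀) R]
    [IsLocalHom (algebraMap ↥(U₀.left.presheaf.stalk u₀) R)] [Hensel.IsHenselization ↥(U₀.left.presheaf.stalk u₀) R] :
    ((∀ (U : Over S) (a : (AlgSp.yon S).obj U ⟶ X.obj) (u : ↥U.left), AlgSp.IsElemEtaleNbhd a u x →
        CAlgX.HasUniqueMinimalPrime ↥(U.left.presheaf.stalk u)) ↔
      (∀ (U : Over S) (a : (AlgSp.yon S).obj U ⟶ X.obj) (u : ↥U.left), AlgSp.IsElemEtaleNbhd a u x →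
        {Z : Set ↥U.left | Z ∈ irreducibleComponents ↥U.left ∧ u ∈ Z}.encard = 1)) ∧
    ((∀ (U : Over S) (a : (AlgSp.yon S).obj U ⟶ X.obj) (u : ↥U.left), AlgSp.IsElemEtaleNbhd a u x →
        {Z : Set ↥U.left | Z ∈ irreducibleComponents ↥U.left ∧ u ∈ Z}.encard = 1) ↔
      (∀ (U : Over S) (a : (AlgSp.yon S).obj U ⟶ X.obj) (u : ↥U.left), AlgSp.IsElemEtaleNbhd a u x →
        CAlg2.IsUnibranch ↥(U.left.presheaf.stalk u))) ∧
    ((∀ (U : Over S) (a : (AlgSp.yon S).obj U ⟶ X.obj) (u : ↥U.left), AlgSp.IsElemEtaleNbhd a u x →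
        CAlg2.IsUnibranch ↥(U.left.presheaf.stalk u)) ↔ CAlgX.HasUniqueMinimalPrime R) := by
  have hR : ∀ (U : Over S) (a : (AlgSp.yon S).obj U ⟶ X.obj) (u : ↥U.left), AlgSp.IsElemEtaleNbhd a u x →
      Brnch.numBranchesAt U.left u = (minimalPrimes R).encard := fun U a u h => by
    rw [HenselBranchLib.numBranchesAt_elem_eq X.property hX h h₀, ← ENat.card_coe_set_eq, Groth.Agent.S9237.result ↥(U₀.left.presheaf.stalk u₀) R]
    rfl
  have huniq : ∀ (A : Type u) [CommRing A], CAlgX.HasUniqueMinimalPrime A ↔ (minimalPrimes A).encard = 1 := fun A _ => by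
    rw [Set.encard_eq_one]
    exact ⟨fun ⟨p, hp, hu⟩ => ⟨p, Set.ext fun q => ⟨hu q, fun e => e ▸ hp⟩⟩,
      fun ⟨p, hp⟩ => ⟨p, hp.ge rfl, fun q hq => hp.le hq⟩⟩
  have hcomp : ∀ (U : Scheme.{u}) (u : U), {Z : Set U | Z ∈ irreducibleComponents U ∧ u ∈ Z}.encard =
      (minimalPrimes (U.presheaf.stalk u)).encard := fun U u => by
    rw [HenselBranchLib.encard_components, ENat.card_coe_set_eq]
  have hu : ∀ (U : Scheme.{u}) (u : U), CAlg2.IsUnibranch (U.presheaf.stalk u) ↔ Brnch.numBranchesAt U u = 1 :=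
    fun U u => (Groth.Agent.S9235.result _).symm
  refine ⟨⟨fun H U a u h => (hcomp _ u).trans ((huniq _).1 (H U a u h)),
      fun H U a u h => (huniq _).2 ((hcomp _ u).symm.trans (H U a u h))⟩, ⟨fun H U a u h => (hu _ u).2 ?_, fun H U a u h => ?_⟩,
    ⟨fun H => (huniq R).2 ((hR U₀ a₀ u₀ h₀).symm.trans ((hu _ _).1 (H U₀ a₀ u₀ h₀))),
      fun H U a u h => (hu _ u).2 ((hR U a u h).trans ((huniq R).1 H))⟩⟩
  · exact le_antisymm (HenselBranchLib.numBranchesAt_le_of_components (fun U a u h => (H U a u h).le) h)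
      ((H U a u h).ge.trans (HenselBranchLib.components_le_numBranchesAt U.left u))
  · exact le_antisymm ((HenselBranchLib.components_le_numBranchesAt U.left u).trans ((hu _ u).1 (H U a u h)).le)
      (HenselBranchLib.one_le_components U.left u)

end Groth.Agent.S10441
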