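import Groth.Statements.S10443
import Groth.Agent.S9684
import Groth.Agent.AlgSpLib.DecentTop

set_option autoImplicit false
set_option backward.isDefEq.respectTransparency false
set_option backward.isDefEq.respectTransparency.types false
universe u
open CategoryTheory CategoryTheory.Limits AlgebraicGeometry Topology TopologicalSpace
open AlgSp

namespace Groth.Agent.S10443

/-- Let S be a locally Noetherian, universally catenary scheme carrying a dimension function δ, and X a
decent algebraic space over S that is locally of finite type over S. Define δ_X : |X| → ℤ by δ_X(x)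
= δ(s) + (transcendence degree of x over s), s the image of x in S; concretely, for an etale
surjective chart U ⟶ X with U locally of finite type over S, the composite of δ_X with |U| → |X| is
the function induced from δ along U ⟶ S. Then δ_X is a dimension function: strictly decreasing along
nontrivial specializations, and dropping by one along immediate ones. -/
theorem result {S : Scheme.{u}} (δ : ↥S → ℤ) (hS : Cyc.IsSetup S δ)
    (X : AlgSp.Space S) (hX : AlgSp.IsDecent X.obj) {U : Over S} (a : (AlgSp.yon S).obj U ⟶ X.obj)
    (ha : AlgSp.RepWith @Etale a) (hs : AlgSp.RepWith @Surjective a) [LocallyOfFiniteType U.hom]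
    (δX : AlgSp.Points X.obj → ℤ) (hδ : Cyc.DeltaCompat U.hom (δX ∘ AlgSp.Points.ofPt a) δ) :
    ∀ x y : AlgSp.Points X.obj, x ⤳ y → x ≠ y →
      δX y < δX x ∧ ((∀ z : AlgSp.Points X.obj, x ⤳ z → z ⤳ y → z = x ∨ z = y) → δX x = δX y + 1) := by
  intro x y hxy hne
  have hq : ∀ z : Points X.obj, ∃ p : FieldPt X.obj, Points.mk p = z ∧ RepWith @QuasiCompact p.toHom := fun z => by
    obtain ⟨p, h1, -, h3⟩ := hX z
    exact ⟨p, h1, h3⟩
  have hdim := Groth.Agent.S9684.result U.hom δ hS _ hδ
  obtain ⟨u, rfl⟩ := AlgSpLib.surjective_ofPt hs y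
  obtain ⟨u', hu', rfl⟩ := AlgSpLib.exists_generalization_lift hxy (hq x) ha rfl
  obtain ⟨h1, h2⟩ := hdim u' u hu' (fun e => hne (by rw [e]))
  refine ⟨h1, fun h => h2 fun w hw hw' => ?_⟩
  have key : ∀ {v v' : U.left}, v' ⤳ v → Points.ofPt a v = Points.ofPt a v' → v = v' := fun {v v'} hv e =>
    AlgSpLib.eq_of_specializes_of_finite X.property (x := Points.ofPt a v) (fun V b hV hb => by
      obtain ⟨p, hp, hpq⟩ := hq (Points.ofPt a v)
      haveI := hV
      rw [← hp]; exact AlgSpLib.finite_fibre_of_qc_point hpq hb) ha rfl e.symm hv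
  rcases h _ (hw.map (Points.continuous_ofPt a)) (hw'.map (Points.continuous_ofPt a)) with e | e
  · exact Or.inl (key hw e)
  · exact Or.inr (key hw' e.symm).symm

end Groth.Agent.S10443
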