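import Groth.Statements.S10444
import Groth.Agent.AlgSpLib.FibreCond

set_option autoImplicit false
universe u
open CategoryTheory CategoryTheory.Limits AlgebraicGeometry Topology TopologicalSpace
open AlgSp

namespace Groth.Agent.S10444

/-- Take f : X ⟶ Y locally of finite type between algebraic spaces over a scheme S, a field-valued point
Spec k ⟶ Y whose class y ∈ |Y| lies in the image of |f|, the fibre product X_k = Spec k ×_Y X, and
the fibre F = |f|⁻¹(y) ⊆ |X| with the induced topology. Numbering the conditions (1) F finite, (2) F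
discrete, (3) dim F = 0, (4) |X_k| finite, (5) |X_k| discrete, (6) dim |X_k| = 0, (7) dim X_k = 0,
(8) f quasi-finite at all points over y: (5) ⇔ (7) ⇔ (8); (5) ⇒ (6), with the converse when X_k is
decent; (4) ⇒ (5) when X_k is decent; (4) ⇒ (1); (2) ⇒ (3); if Y is decent then (2) ⇔ (5); if X and
Y are decent then (3) ⇒ (2) and (1) ⇒ (2). (The published statement asserts (5) ⇔ (6) for every f
and (2) ⇔ (3) whenever Y is decent, and does not exclude an empty fibre; for the quotient of the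
affine line over a field of characteristic zero by an infinite cyclic group of translations, mapping
to the point, the space of points is infinite and indiscrete, so (3) and (6) hold while (2) and (5)
fail, and for y outside the image (5) holds while (6) and (7) fail; hence the decency hypotheses on
those two converses and the hypothesis that y is in the image. Finiteness of |X_k| for an arbitrary
field k in the class of y is not derived here from (1).) -/
theorem result {S : Scheme.{u}} {X Y : AlgSp.Space S} (f : X ⟶ Y)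
    (hf : AlgSp.LocP @LocallyOfFiniteType f.hom) (r : AlgSp.FieldPt Y.obj)
    (hy : AlgSp.Points.mk r ∈ Set.range (AlgSp.Points.map f.hom)) (Xk : AlgSp.Space S) (fst : Xk ⟶ X)
    (snd : Xk.obj ⟶ (AlgSp.yon S).obj r.pt) (hsq : IsPullback fst.hom snd f.hom r.toHom) :
    (DiscreteTopology (AlgSp.Points Xk.obj) ↔ AlgSp.dim Xk.obj = 0) ∧
    (AlgSp.dim Xk.obj = 0 ↔
      ∀ x : AlgSp.Points X.obj, AlgSp.Points.map f.hom x = AlgSp.Points.mk r → AlgSp.HasAtMor (fun U _ h u => ∃ W : U.Opens, u ∈ W ∧ LocallyQuasiFinite (W.ι ≫ h) ∧ LocallyOfFiniteType (W.ι ≫ h)) f.hom x) ∧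
    (DiscreteTopology (AlgSp.Points Xk.obj) → topologicalKrullDim (AlgSp.Points Xk.obj) = 0) ∧
    (AlgSp.IsDecent Xk.obj → topologicalKrullDim (AlgSp.Points Xk.obj) = 0 →
      DiscreteTopology (AlgSp.Points Xk.obj)) ∧
    (AlgSp.IsDecent Xk.obj → Finite (AlgSp.Points Xk.obj) → DiscreteTopology (AlgSp.Points Xk.obj)) ∧
    (Finite (AlgSp.Points Xk.obj) → (AlgSp.Points.map f.hom ⁻¹' {AlgSp.Points.mk r}).Finite) ∧
    (DiscreteTopology ↥(AlgSp.Points.map f.hom ⁻¹' {AlgSp.Points.mk r}) → topologicalKrullDim ↥(AlgSp.Points.map f.hom ⁻¹' {AlgSp.Points.mk r}) = 0) ∧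
    (AlgSp.IsDecent Y.obj → (DiscreteTopology ↥(AlgSp.Points.map f.hom ⁻¹' {AlgSp.Points.mk r}) ↔ DiscreteTopology (AlgSp.Points Xk.obj))) ∧
    (AlgSp.IsDecent Y.obj → AlgSp.IsDecent X.obj →
      (topologicalKrullDim ↥(AlgSp.Points.map f.hom ⁻¹' {AlgSp.Points.mk r}) = 0 → DiscreteTopology ↥(AlgSp.Points.map f.hom ⁻¹' {AlgSp.Points.mk r})) ∧
        ((AlgSp.Points.map f.hom ⁻¹' {AlgSp.Points.mk r}).Finite → DiscreteTopology ↥(AlgSp.Points.map f.hom ⁻¹' {AlgSp.Points.mk r}))) := by
  have hK : AlgSp.IsAlgSpace ((AlgSp.yon S).obj r.pt) := IsAlgSpace.yon_obj _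
  have hlk := AlgSpLib.locP_of_isPullback X.property Y.property hK hsq hf
  have hpc := fun w => AlgSpLib.point_conditions_over (k := r.K) snd hlk w
  have hdk : DiscreteTopology (AlgSp.Points Xk.obj) ↔ ∀ x : AlgSp.Points X.obj,
      AlgSp.Points.map f.hom x = AlgSp.Points.mk r →
        AlgSp.HasAtMor (fun _ _ h u => FlatMor.fibreDimAt h u = 0) f.hom x := by
    rw [AlgSpLib.discrete_iff_forall]
    refine ⟨fun H x hx => ?_, fun H w => ?_⟩
    · obtain ⟨w, rfl⟩ := AlgSpLib.exists_fibre_point hsq hx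
      exact (AlgSpLib.fibre_pullback_point_iff hf hsq w).1 ((hpc w).2.1.1 (H w))
    · exact (hpc w).2.1.2 ((AlgSpLib.fibre_pullback_point_iff hf hsq w).2
        (H _ (AlgSpLib.map_fst_fibre hsq w)))
  have hne : Nonempty (AlgSp.Points Xk.obj) := by
    obtain ⟨x, hx⟩ := hy
    obtain ⟨w, -⟩ := AlgSpLib.exists_fibre_point hsq hx
    exact ⟨w⟩
  have hneE : Nonempty ↥(AlgSp.Points.map f.hom ⁻¹' {AlgSp.Points.mk r}) := by
    obtain ⟨x, hx⟩ := hy
    exact ⟨⟨x, hx⟩⟩
  have hnear := fun x => AlgSpLib.hasAtMor_near_lqf_iff X.property Y.property hf x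
  refine ⟨hdk.trans (AlgSpLib.dim_fibre_eq_zero_iff hf hy hsq).symm, ?_, fun _ => AlgSpLib.dimZero_of_discrete,
    ?_, ?_, ?_, fun _ => AlgSpLib.dimZero_of_discrete, ?_, ?_⟩
  · rw [AlgSpLib.dim_fibre_eq_zero_iff hf hy hsq]
    exact forall₂_congr fun x _ => (hnear x).symm
  · intro hd h0
    exact AlgSpLib.discrete_iff_forall.2 fun w => ((hpc w).2.2 hd).1 (AlgSpLib.localDim_zero_of_dimZero h0 w)
  · intro hd hfin
    refine AlgSpLib.discrete_iff_forall.2 fun w => ?_
    have h0 := AlgSpLib.zero_of_finite Xk.property hK hlk hd (x := w) (Set.toFinite _)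
    obtain ⟨U, a, m, ha, has, e⟩ := AlgSpLib.exists_chart_over Xk.property hK snd (𝟙 _)
      (AlgSp.repWith_id _ _) (AlgSp.repWith_id _ _)
    obtain ⟨u, rfl⟩ := AlgSpLib.surjective_ofPt has w
    rw [AlgSpLib.hasAtMor_iff (AlgSpLib.etInv_fibreDim fun t => t = 0) ha (AlgSp.repWith_id _ _) e,
      AlgSpLib.fibreDimAt_eq_localDim (k := r.K)] at h0
    exact (hpc _).2.1.2 ⟨U, a, u, ha, rfl, h0⟩
  · intro hfin
    refine (Set.finite_range (AlgSp.Points.map fst.hom)).subset fun x hx => ?_
    obtain ⟨w, hw⟩ := AlgSpLib.exists_fibre_point hsq hx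
    exact ⟨w, hw⟩
  · intro hdY
    rw [hdk, AlgSpLib.discrete_iff_forall]
    exact ⟨fun H x hx => (AlgSpLib.fibre_point_iffs X.property Y.property hf hdY _ ⟨x, hx⟩).1.1 (H _),
      fun H x => (AlgSpLib.fibre_point_iffs X.property Y.property hf hdY _ x).1.2 (H _ x.2)⟩
  · intro hdY hdX
    refine ⟨fun h0 => AlgSpLib.discrete_iff_forall.2 fun x => ?_, fun hfin => AlgSpLib.discrete_iff_forall.2 fun x => ?_⟩
    · exact (AlgSpLib.fibre_localDim_zero_iff X.property hdX Y.property hdY hf _ x).1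
        (AlgSpLib.localDim_zero_of_dimZero h0 x)
    · refine (AlgSpLib.fibre_point_iffs X.property Y.property hf hdY _ x).1.2
        (AlgSpLib.zero_of_finite X.property Y.property hf hdX ?_)
      rw [show AlgSp.Points.map f.hom x.1 = AlgSp.Points.mk r from x.2]
      exact hfin
end Groth.Agent.S10444
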