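import Groth.Statements.S10446
import Groth.Agent.S10398
import Groth.Agent.AlgSpLib.RelDim
import Groth.Agent.AlgSpLib.RelDim2
import Groth.Agent.AlgSpLib.QcQs
import Groth.Agent.AlgSpLib.DecentTop
import Groth.Agent.MonoPtLib.FibreEmb

set_option autoImplicit false
set_option backward.isDefEq.respectTransparency false
set_option backward.isDefEq.respectTransparency.types false
universe u
open CategoryTheory CategoryTheory.Limits AlgebraicGeometry Topology TopologicalSpace
open AlgSp

namespace Groth.Agent.S10446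


variable {S : Scheme.{u}}

theorem finite_fibre_of_isFinite {W Z : Scheme.{u}} (g : W ⟶ Z) [IsFinite g] (z : Z) : (g ⁻¹' {z}).Finite :=
  (g.isProperMap.isCompact_preimage isCompact_singleton).finite (g.isDiscrete_preimage_singleton z)


/-- (1) ⇔ (3): let S be a scheme with quasi-separated underlying space, f : X ⟶ Y a quasi-separated
morphism of algebraic spaces over S that is locally of finite type, with Y quasi-separated over S,
and y ∈ |Y| a point of codimension 0. Then |f|⁻¹(y) is finite if and only if f restricts to a finite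
morphism X' ⟶ Y' between an open subspace X' of X containing the whole fibre |f|⁻¹(y) and an open
subspace Y' of Y through y. (The published statement assumes Y quasi-separated in the absolute
sense; this row assumes S has quasi-separated underlying space and Y quasi-separated over S. Its
condition on the finiteness of |Spec k ×_Y X| is not part of this row.) -/
theorem result {S : Scheme.{u}} [QuasiSeparatedSpace ↥S] {X Y : AlgSp.Space S}
    (f : X ⟶ Y) (hqs : AlgSp.IsQuasiSeparatedMor f.hom) (hft : AlgSp.LocP @LocallyOfFiniteType f.hom)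
    (hY : AlgSp.IsQuasiSeparatedSp Y.obj) (y : AlgSp.Points Y.obj)
    (hy : AlgSp.HasAt (fun U u => ringKrullDim ↥(U.presheaf.stalk u) = 0) Y.obj y) :
    (AlgSp.Points.map f.hom ⁻¹' {y}).Finite ↔
      ∃ (X' Y' : AlgSp.Space S) (i : X' ⟶ X) (j : Y' ⟶ Y) (f' : X' ⟶ Y'), AlgSp.RepWith @IsOpenImmersion i.hom ∧
        AlgSp.RepWith @IsOpenImmersion j.hom ∧ f' ≫ j = i ≫ f ∧ y ∈ Set.range (AlgSp.Points.map j.hom) ∧
          AlgSp.Points.map f.hom ⁻¹' {y} ⊆ Set.range (AlgSp.Points.map i.hom) ∧ AlgSp.IsFiniteMor f'.hom := by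
  let T : Over S := Over.mk (𝟙 S)
  constructor
  · intro hfin
    obtain ⟨U, a, ha, has⟩ := Y.property.atlas
    obtain ⟨gY, -⟩ := AlgSpLib.exists_desc_of_atlas ha has
      ((yon S).map (Over.homMk U.hom (Category.comp_id _) : U ⟶ T))
      fun Z g g' _ => by
        rw [← Functor.map_comp, ← Functor.map_comp]
        exact congrArg _ (Over.OverMorphism.ext (by simp))
    have hgY : IsQuasiSeparatedMor gY := AlgSpLib.repWith_diagonal_of_diag gY hY
    have hfg : IsQuasiSeparatedMor (f.hom ≫ gY) := AlgSpLib.repWith_diagonal_comp hqs hgY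
    have hdX : IsDecent X.obj := AlgSpLib.isDecent_of_isQuasiSeparatedMor X.property hfg
    have hqX : ∀ x : Points X.obj, ∃ p : FieldPt X.obj, Points.mk p = x ∧ RepWith @QuasiCompact p.toHom :=
      fun x => by obtain ⟨p, h1, -, h3⟩ := hdX x; exact ⟨p, h1, h3⟩
    obtain ⟨UX, UY, aX, aY, h₀, haX, hasX, haY, -, e₀⟩ := AlgSpLib.exists_chart X.property Y.property f.hom
    have hch : ∀ x : Points X.obj, ∃ (V : Over S) (jV : V ⟶ UX) (v : V.left), IsAffine V.left ∧
        RepWith @Etale ((yon S).map jV ≫ aX) ∧ Points.ofPt ((yon S).map jV ≫ aX) v = x := fun x => by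
      obtain ⟨u, rfl⟩ := AlgSpLib.surjective_ofPt hasX x
      obtain ⟨V, jV, v, hV, hv, -, hb⟩ := AlgSpLib.exists_affine_subchart haX u
      exact ⟨V, jV, v, hV, hb, by rw [AlgSpLib.ofPt_yon_comp, hv]⟩
    choose V jV v hV hb hvx using hch
    let O : Set (Points X.obj) :=
      ⋃ x ∈ Points.map f.hom ⁻¹' {y}, Set.range (Points.ofPt ((yon S).map (jV x) ≫ aX))
    have hO : IsOpen O := isOpen_biUnion fun x _ => by
      rw [← Set.image_univ]; exact AlgSpLib.isOpenMap_ofPt (hb x) _ isOpen_univ
    let X'' : Space S := ⟨AlgSpLib.openSub X.obj O, AlgSpLib.isAlgSpace_openSub X.property hO⟩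
    let iX := AlgSpLib.openSubι X.obj O
    have hiX : RepWith @IsOpenImmersion iX := AlgSpLib.repWith_openSubι X.obj hO
    haveI : Mono iX := AlgSpLib.mono_of_openImmersion hiX
    have hie := AlgSpLib.isEtaleMor_of_openImmersion hiX
    have hft'' : LocP @LocallyOfFiniteType (iX ≫ f.hom) :=
      AlgSpLib.locP_etale_comp hie hft
    have hqc : IsQuasiCompactSp X''.obj := by
      refine AlgSpLib.isQuasiCompactSp_of_compactSpace X''.property ⟨?_⟩
      have he : Topology.IsOpenEmbedding (Points.map iX) :=
        .of_continuous_injective_isOpenMap (Points.continuous_map iX) (MonoPtLib.injective_map_of_mono iX)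
          (AlgSpLib.isOpenMap_map_of_isEtaleMor X''.property hie)
      rw [he.isEmbedding.isCompact_iff, Set.image_univ, AlgSpLib.range_openSubι]
      refine hfin.isCompact_biUnion fun x _ => ?_
      haveI := hV x
      exact isCompact_range (Points.continuous_ofPt _)
    have hqs'' : IsQuasiSeparatedMor (iX ≫ f.hom) :=
      AlgSpLib.repWith_diagonal_comp (AlgSpLib.repWith_of_isIso _) hqs
    obtain ⟨Y', X', j, fst, snd, hj, hyj, sq, hfst⟩ := Groth.Agent.S10398.result (X := X'') ⟨iX ≫ f.hom⟩ hqs''
      ⟨hft'', AlgSpLib.isQuasiCompactMor_of_qcSp_qsSp X''.property Y.property _ hqc hY⟩ y hy (fun x'' hx'' => by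
        rw [AlgSpLib.hasAtMor_near_lqf_iff X''.property Y.property hft'',
          AlgSpLib.hasAtMor_etale_comp (AlgSpLib.etInv_fibreDim fun d => d = 0) X''.property X.property Y.property
            hie f.hom x'']
        let x := Points.map iX x''
        let h : V x ⟶ UY := jV x ≫ h₀
        have e : ((yon S).map (jV x) ≫ aX) ≫ f.hom = (yon S).map h ≫ aY := by
          rw [Category.assoc, e₀, Functor.map_comp, Category.assoc]
        refine ⟨V x, UY, _, aY, h, v x, hb x, haY, e, hvx x, ?_⟩
        haveI : LocallyOfFiniteType h.left := hft _ aY h (hb x) haY e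
        change FlatMor.fibreDimAt h.left (v x) = 0
        rw [AlgSpLib.fibreDimAt_eq_zero_iff]
        have hsub : h.left ⁻¹' {h.left (v x)} ⊆
            ⋃ x' ∈ Points.map f.hom ⁻¹' {y}, Points.ofPt ((yon S).map (jV x) ≫ aX) ⁻¹' {x'} := fun w hw => by
          refine Set.mem_iUnion₂.2 ⟨_, ?_, rfl⟩
          rw [Set.mem_preimage, Set.mem_singleton_iff, Points.map_ofPt, e, AlgSpLib.ofPt_yon_comp,
            show h.left w = h.left (v x) from hw, ← AlgSpLib.ofPt_yon_comp, ← e, ← Points.map_ofPt, hvx,
            ← Points.map_comp]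
          exact hx''
        have hfF : (h.left ⁻¹' {h.left (v x)}).Finite := (hfin.biUnion fun x' _ => by
          obtain ⟨p, hp, hpq⟩ := hqX x'
          haveI := hV x
          rw [← hp]
          exact AlgSpLib.finite_fibre_of_qc_point hpq (hb x)).subset hsub
        haveI : Finite ↥(h.left.fiber (h.left (v x))) := by
          haveI := hfF.to_subtype
          refine Finite.of_injective (fun w => (⟨(h.left.fiberι (h.left (v x))) w, ?_⟩ : h.left ⁻¹' {h.left (v x)})) ?_
          · have h1 : (h.left.fiberι (h.left (v x))) w ∈ Set.range (h.left.fiberι (h.left (v x))) := ⟨w, rfl⟩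
            rwa [h.left.range_fiberι] at h1
          · exact fun w w' hww => (h.left.fiberι _).isEmbedding.injective (congrArg Subtype.val hww)
        haveI : LocallyOfFiniteType (h.left.fiberToSpecResidueField (h.left (v x))) :=
          UOpenLib.lft_fiberToSpec h.left _
        haveI : JacobsonSpace (h.left.fiber (h.left (v x))) :=
          LocallyOfFiniteType.jacobsonSpace (h.left.fiberToSpecResidueField _)
        exact isOpen_discrete _)
    refine ⟨X', Y', snd ≫ (⟨iX⟩ : X'' ⟶ X), j, fst,
      AlgSpLib.repWith_comp (AlgSpLib.repWith_of_isPullback sq hj) hiX, hj, ?_, hyj, fun x hx => ?_, hfst⟩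
    · ext : 1
      exact sq.w.trans (Category.assoc _ _ _).symm
    · obtain ⟨x'', hx''⟩ : x ∈ Set.range (Points.map iX) := by
        rw [AlgSpLib.range_openSubι]
        exact Set.mem_iUnion₂.2 ⟨x, hx, v x, hvx x⟩
      subst hx''
      obtain ⟨y', hy'⟩ := hyj
      obtain ⟨z, -, hz⟩ := AlgSpLib.exists_point_isPullback sq y' x'' (by
        change Points.map j.hom y' = Points.map (iX ≫ f.hom) x''
        rw [hy', Points.map_comp]
        exact hx.symm)
      exact ⟨z, by change Points.map (snd.hom ≫ iX) z = _; rw [Points.map_comp, hz]⟩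
  · rintro ⟨X', Y', i, j, f', hi, hj, e, ⟨y', rfl⟩, hsub, hf'⟩
    haveI : Mono j.hom := AlgSpLib.mono_of_openImmersion hj
    obtain ⟨U, a, ha, has⟩ := Y'.property.atlas
    obtain ⟨u, hu⟩ := AlgSpLib.surjective_ofPt has y'
    obtain ⟨Z, jZ, z, hZ, hz, -, hb⟩ := AlgSpLib.exists_affine_subchart ha u
    obtain ⟨W, w, fst, sq, -, hw⟩ := hf' hZ ((yon S).map jZ ≫ a)
    haveI := hw
    refine (((finite_fibre_of_isFinite w.left z).image (Points.ofPt fst)).image (Points.map i.hom)).subset ?_
    intro x hx
    obtain ⟨x', rfl⟩ := hsub hx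
    have hx' : Points.map f'.hom x' = y' := MonoPtLib.injective_map_of_mono j.hom (by
      rw [← Points.map_comp, show f'.hom ≫ j.hom = i.hom ≫ f.hom from congrArg (fun t => t.hom) e, Points.map_comp]
      exact hx)
    obtain ⟨p, hp₁, hp₂⟩ := AlgSpLib.exists_point_isPullback sq x' (Points.schemeHomeo Z z) (by
      rw [hx', ← hu, ← hz, ← AlgSpLib.ofPt_yon_comp, AlgSpLib.ofPt_comp_ofScheme]
      rfl)
    obtain ⟨w', rfl⟩ := (Points.schemeHomeo W).surjective p
    refine ⟨x', ⟨w', ?_, by rw [AlgSpLib.ofPt_comp_ofScheme]; exact hp₁⟩, rfl⟩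
    refine (Points.schemeHomeo Z).injective ?_
    rw [← hp₂]
    change Points.ofPt (𝟙 _) (w.left w') = Points.map _ (Points.ofPt (𝟙 _) w')
    rw [Points.map_ofPt, ← AlgSpLib.ofPt_yon_comp, Category.id_comp, Category.comp_id]

end Groth.Agent.S10446
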