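import Groth.Statements.S10447
import Groth.Agent.S9684
import Groth.Agent.S12446
import Groth.Agent.S12447
import Groth.Agent.CatLib.More
import Groth.Agent.CycAffLib.Fibre
import Groth.Agent.AlgSpLib.TrdegInv
import Groth.Agent.AlgSpLib.DecentTop
import Groth.Agent.SpectralQuot.DecentSober

set_option autoImplicit false
set_option backward.isDefEq.respectTransparency false
set_option backward.isDefEq.respectTransparency.types false
universe u
open CategoryTheory CategoryTheory.Limits AlgebraicGeometry Topology TopologicalSpace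
open AlgSp

namespace Groth.Agent.S10447


variable {S : Scheme.{u}}

/-- A dimension function on the generalizations of a point. -/
theorem exists_local_dimFun [IsLocallyNoetherian S]
    (hS : ∀ s : ↥S, CAlg.IsUniversallyCatenary ↥(S.presheaf.stalk s)) (X : Space S) (hX : IsDecent X.obj)
    (p : X.obj ⟶ (yon S).obj (Over.mk (𝟙 S))) (hp : LocP @LocallyOfFiniteType p) (y : Points X.obj) :
    ∃ D : Points X.obj → ℤ, ∀ x z : Points X.obj, x ⤳ z → z ⤳ y → x ≠ z →
      D z < D x ∧ ((∀ w, x ⤳ w → w ⤳ z → w = x ∨ w = z) → D x = D z + 1) := by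
  obtain ⟨U, a, ha, has⟩ := X.property.atlas
  obtain ⟨h, hh⟩ := (yon S).map_surjective (a ≫ p)
  haveI : LocallyOfFiniteType U.hom := by
    have := hp a (𝟙 _) h ha (repWith_id _ _) (by rw [Category.comp_id, hh])
    rw [show U.hom = h.left from by rw [← Over.w h]; exact Category.comp_id _]
    exact this
  have hq : ∀ z : Points X.obj, ∃ p : FieldPt X.obj, Points.mk p = z ∧ RepWith @QuasiCompact p.toHom := fun z => by
    obtain ⟨p, h1, -, h3⟩ := hX z
    exact ⟨p, h1, h3⟩
  obtain ⟨u, rfl⟩ := AlgSpLib.surjective_ofPt has y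
  obtain ⟨S₀, hs₀, δ, hδ₁, hδ₂⟩ := (Groth.Agent.S12447.result S).1 ((Groth.Agent.S12446.result S).2 fun s =>
    (hS s).2 _ (inferInstance : Algebra.FiniteType (S.presheaf.stalk s) (S.presheaf.stalk s))) (U.hom u)
  let f₀ : (U.hom ⁻¹ᵁ S₀).toScheme ⟶ S₀.toScheme := U.hom ∣_ S₀
  haveI : LocallyOfFiniteType f₀ := inferInstanceAs (LocallyOfFiniteType (U.hom ∣_ S₀))
  have hset : Cyc.IsSetup S₀.toScheme δ := by
    refine ⟨inferInstance, fun s => ?_, fun s t hst hne => ⟨hδ₁ s t hst hne, fun him => hδ₂ s t ⟨hst, hne, him⟩⟩⟩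
    letI := (S₀.ι.stalkMap s).hom.toAlgebra
    haveI : Algebra.FiniteType (S.presheaf.stalk (S₀.ι s)) (S₀.toScheme.presheaf.stalk s) :=
      RingHom.FiniteType.of_surjective _ (S₀.ι.stalkMap_surjective s)
    exact CatLib.isUniversallyCatenary_of_finiteType (S.presheaf.stalk (S₀.ι s)) (S₀.toScheme.presheaf.stalk s) (hS _)
  obtain ⟨δ₀, hδ₀⟩ := CycAffLib.exists_deltaCompat f₀ δ
  have hdim := Groth.Agent.S9684.result f₀ δ hset δ₀ hδ₀
  let pt : ↥(U.hom ⁻¹ᵁ S₀).toScheme → Points X.obj := fun w => Points.ofPt a ((U.hom ⁻¹ᵁ S₀).ι w)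
  have hinv : ∀ w w', pt w = pt w' → δ₀ w = δ₀ w' := by
    intro w w' e
    obtain ⟨R, t, s, sq⟩ := AlgSpLib.exists_isPullback_yon a a ha.rep
    haveI : Etale t.left := AlgSpLib.etale_left (AlgSpLib.repWith_of_isPullback sq.flip ha)
    haveI : Etale s.left := AlgSpLib.etale_left (AlgSpLib.repWith_of_isPullback sq ha)
    obtain ⟨r, hrt, hrs⟩ := (AlgSpLib.ofPt_eq_ofPt_iff sq _ _).1 e
    haveI := WeightLib.locallyQuasiFinite_of_etale t.left
    haveI := WeightLib.locallyQuasiFinite_of_etale s.left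
    have hR : t.left ≫ U.hom = s.left ≫ U.hom := (Over.w t).trans (Over.w s).symm
    have hval : ∀ v, δ₀ v = δ (f₀ v) + (Cardinal.toNat (Dual3.resTrdeg U.hom ((U.hom ⁻¹ᵁ S₀).ι v)) : ℕ) := by
      intro v
      obtain ⟨n, hn, hn'⟩ := hδ₀ v
      have hn1 : Dual3.resTrdeg f₀ v = n := hn
      haveI := WeightLib.locallyQuasiFinite_of_etale (U.hom ⁻¹ᵁ S₀).ι
      haveI := WeightLib.locallyQuasiFinite_of_etale S₀.ι
      have e1 : Dual3.resTrdeg (f₀ ≫ S₀.ι) v = Dual3.resTrdeg ((U.hom ⁻¹ᵁ S₀).ι ≫ U.hom) v := by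
        rw [show f₀ ≫ S₀.ι = (U.hom ⁻¹ᵁ S₀).ι ≫ U.hom from morphismRestrict_ι _ _]
      rw [AlgSpLib.resTrdeg_comp, AlgSpLib.resTrdeg_comp, AlgSpLib.resTrdeg_eq_zero_of_lqf S₀.ι,
        AlgSpLib.resTrdeg_eq_zero_of_lqf (U.hom ⁻¹ᵁ S₀).ι, zero_add, add_zero, hn1] at e1
      rw [hn', ← e1, Cardinal.toNat_natCast]
    have e2 : Dual3.resTrdeg (t.left ≫ U.hom) r = Dual3.resTrdeg (s.left ≫ U.hom) r := by rw [hR]
    rw [AlgSpLib.resTrdeg_comp, AlgSpLib.resTrdeg_comp, AlgSpLib.resTrdeg_eq_zero_of_lqf t.left,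
      AlgSpLib.resTrdeg_eq_zero_of_lqf s.left, add_zero, add_zero] at e2
    rw [hrt, hrs] at e2
    have e3 : f₀ w = f₀ w' := by
      refine S₀.ι.isOpenEmbedding.injective ?_
      rw [← Scheme.Hom.comp_apply, ← Scheme.Hom.comp_apply, morphismRestrict_ι, Scheme.Hom.comp_apply,
        Scheme.Hom.comp_apply, ← hrt, ← hrs, ← Scheme.Hom.comp_apply, ← Scheme.Hom.comp_apply, hR]
    rw [hval, hval, e2, e3]
  obtain ⟨D, hD⟩ : ∃ D : Points X.obj → ℤ, ∀ w, D (pt w) = δ₀ w := by
    classical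
    refine ⟨fun x => if hx : ∃ w, pt w = x then δ₀ hx.choose else 0, fun w => ?_⟩
    have hx : ∃ w', pt w' = pt w := ⟨w, rfl⟩
    exact (dif_pos hx).trans (hinv _ _ hx.choose_spec)
  refine ⟨D, fun x z hxz hzy hne => ?_⟩
  obtain ⟨v₂, hv₂, rfl⟩ := AlgSpLib.exists_generalization_lift hzy (hq z) ha rfl
  obtain ⟨v₁, hv₁, rfl⟩ := AlgSpLib.exists_generalization_lift hxz (hq x) ha rfl
  have hu₀ : u ∈ U.hom ⁻¹ᵁ S₀ := hs₀
  have h₂ : v₂ ∈ U.hom ⁻¹ᵁ S₀ := hv₂.mem_open (U.hom ⁻¹ᵁ S₀).2 hu₀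
  have h₁ : v₁ ∈ U.hom ⁻¹ᵁ S₀ := hv₁.mem_open (U.hom ⁻¹ᵁ S₀).2 h₂
  obtain ⟨w₁, rfl⟩ : v₁ ∈ Set.range (U.hom ⁻¹ᵁ S₀).ι := by rw [Scheme.Opens.range_ι]; exact h₁
  obtain ⟨w₂, rfl⟩ : v₂ ∈ Set.range (U.hom ⁻¹ᵁ S₀).ι := by rw [Scheme.Opens.range_ι]; exact h₂
  have h12 : w₁ ⤳ w₂ := (U.hom ⁻¹ᵁ S₀).ι.isOpenEmbedding.isInducing.specializes_iff.1 hv₁
  rw [show Points.ofPt a ((U.hom ⁻¹ᵁ S₀).ι w₁) = pt w₁ from rfl, show Points.ofPt a ((U.hom ⁻¹ᵁ S₀).ι w₂) = pt w₂ from rfl,
    hD, hD]
  obtain ⟨k1, k2⟩ := hdim w₁ w₂ h12 (fun e => hne (congrArg pt e))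
  refine ⟨k1, fun him => k2 fun w hw hw' => ?_⟩
  have hcont : Continuous pt := (Points.continuous_ofPt a).comp (U.hom ⁻¹ᵁ S₀).ι.continuous
  have key : ∀ {v v' : U.left}, v' ⤳ v → Points.ofPt a v = Points.ofPt a v' → v = v' := fun {v v'} hv e =>
    AlgSpLib.eq_of_specializes_of_finite X.property (x := Points.ofPt a v) (fun V b hV hb => by
      obtain ⟨p, hp, hpq⟩ := hq (Points.ofPt a v)
      haveI := hV
      rw [← hp]; exact AlgSpLib.finite_fibre_of_qc_point hpq hb) ha rfl e.symm hv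
  rcases him _ (hw.map hcont) (hw'.map hcont) with e | e
  · exact Or.inl ((U.hom ⁻¹ᵁ S₀).ι.isOpenEmbedding.injective
      (key (hw.map (U.hom ⁻¹ᵁ S₀).ι.continuous) e))
  · exact Or.inr ((U.hom ⁻¹ᵁ S₀).ι.isOpenEmbedding.injective
      (key (hw'.map (U.hom ⁻¹ᵁ S₀).ι.continuous) e.symm).symm)


/-- Let S be a locally Noetherian scheme whose local rings are universally catenary, and X a decent
algebraic space over S with locally finite type structure morphism X ⟶ S. Then the space of points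
|X| is catenary (bounded chains of irreducible closed subsets between any two, and all saturated
chains between the same two of equal length). -/
theorem result {S : Scheme.{u}} [IsLocallyNoetherian S]
    (hS : ∀ s : ↥S, CAlg.IsUniversallyCatenary ↥(S.presheaf.stalk s)) (X : AlgSp.Space S)
    (hX : AlgSp.IsDecent X.obj) (p : X.obj ⟶ (AlgSp.yon S).obj (Over.mk (𝟙 S)))
    (hp : AlgSp.LocP @LocallyOfFiniteType p) :
    W4stk3decentspacesp2.IsCatenarySpace (AlgSp.Points X.obj) := by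
  haveI : QuasiSober (Points X.obj) := SpectralQuot.quasiSober_of_decent X hX
  haveI : T0Space (Points X.obj) := AlgSpLib.t0Space_points X.property hX
  intro T T' hTT'
  let g : TopologicalSpace.IrreducibleCloseds (Points X.obj) → Points X.obj := fun A => A.isIrreducible.genericPoint
  have hg : ∀ A : TopologicalSpace.IrreducibleCloseds (Points X.obj), closure {g A} = (A : Set (Points X.obj)) :=
    fun A => (A.isIrreducible.isGenericPoint_genericPoint A.isClosed).def
  have hle : ∀ {A B : TopologicalSpace.IrreducibleCloseds (Points X.obj)}, A ≤ B → g B ⤳ g A := fun {A B} h =>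
    specializes_iff_mem_closure.2 (by rw [hg B]; exact h ((hg A).subset (subset_closure rfl)))
  have hinj : Function.Injective g := fun A B e => SetLike.coe_injective (by rw [← hg A, ← hg B, e])
  obtain ⟨D, hD⟩ := exists_local_dimFun hS X hX p hp (g T)
  have step : ∀ (q : LTSeries (TopologicalSpace.IrreducibleCloseds (Points X.obj))), q.head = T →
      ∀ i : Fin q.length, g (q i.succ) ⤳ g (q i.castSucc) ∧ g (q i.castSucc) ⤳ g T ∧
        g (q i.succ) ≠ g (q i.castSucc) := fun q hq i =>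
    ⟨hle (q.step i).le, hle (hq ▸ q.head_le _), fun e => (q.step i).ne (hinj e).symm⟩
  have bound : ∀ (q : LTSeries (TopologicalSpace.IrreducibleCloseds (Points X.obj))), q.head = T →
      ∀ i : Fin (q.length + 1), (i : ℤ) ≤ D (g (q i)) - D (g T) := by
    intro q hq i
    induction i using Fin.induction with
    | zero => rw [show q 0 = T from hq]; simp
    | succ i ih =>
      obtain ⟨h1, h2, h3⟩ := step q hq i
      have := (hD _ _ h1 h2 h3).1
      simp only [Fin.val_succ, Fin.val_castSucc, Nat.cast_add, Nat.cast_one] at ih ⊢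
      omega
  have exact_len : ∀ (q : LTSeries (TopologicalSpace.IrreducibleCloseds (Points X.obj))), q.head = T →
      (∀ i : Fin q.length, q.toFun i.castSucc ⋖ q.toFun i.succ) →
      ∀ i : Fin (q.length + 1), (i : ℤ) = D (g (q i)) - D (g T) := by
    intro q hq hc i
    induction i using Fin.induction with
    | zero => rw [show q 0 = T from hq]; simp
    | succ i ih =>
      obtain ⟨h1, h2, h3⟩ := step q hq i
      have := (hD _ _ h1 h2 h3).2 fun w hw hw' => by
        let W : TopologicalSpace.IrreducibleCloseds (Points X.obj) :=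
          ⟨closure {w}, isIrreducible_singleton.closure, isClosed_closure⟩
        have hgW : g W = w :=
          ((W.isIrreducible.isGenericPoint_genericPoint W.isClosed).eq (isGenericPoint_closure (x := w)))
        rcases (hc i).eq_or_eq (c := W)
          (show (q i.castSucc : Set (Points X.obj)) ⊆ closure {w} by
            rw [← hg]; exact specializes_iff_closure_subset.1 hw')
          (show closure {w} ⊆ (q i.succ : Set (Points X.obj)) by
            rw [← hg]; exact specializes_iff_closure_subset.1 hw) with e | e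
        · exact Or.inr (hgW ▸ congrArg g e)
        · exact Or.inl (hgW ▸ congrArg g e)
      simp only [Fin.val_succ, Fin.val_castSucc, Nat.cast_add, Nat.cast_one] at ih ⊢
      omega
  refine ⟨⟨(D (g T') - D (g T)).toNat, fun q hh hl => ?_⟩, fun p q hph hpl hqh hql hp hq => ?_⟩
  · have := bound q hh (Fin.last _)
    rw [show q (Fin.last _) = T' from hl, Fin.val_last] at this
    omega
  · have e1 := exact_len p hph hp (Fin.last _)
    have e2 := exact_len q hqh hq (Fin.last _)
    rw [show p (Fin.last _) = T' from hpl, Fin.val_last] at e1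
    rw [show q (Fin.last _) = T' from hql, Fin.val_last] at e2
    omega

end Groth.Agent.S10447
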