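import Groth.Statements.S10450
import Groth.Agent.AlgSpFieldLib.DimZero

set_option autoImplicit false
set_option linter.style.haveILetI false
set_option backward.isDefEq.respectTransparency false
set_option backward.isDefEq.respectTransparency.types false
universe u
open CategoryTheory CategoryTheory.Limits AlgebraicGeometry Topology TopologicalSpace
open AlgSp

namespace Groth.Agent.S10450
open AlgSpLib AlgSpFieldLib



/-- Let X be a quasi-separated algebraic space of dimension 0 over a quasi-separated scheme S. Then X is
a separated scheme and every quasi-compact open of X is affine. (The published statement allows any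
base scheme S and takes X quasi-separated in the absolute sense; this row asks S to be
quasi-separated and X quasi-separated over S, which together imply absolute quasi-separatedness.) -/
theorem result {S : Scheme.{u}} [QuasiSeparatedSpace S]
    (X : AlgSp.Space S) (hqs : AlgSp.IsQuasiSeparatedSp X.obj) (hd : AlgSp.dim X.obj = 0) :
    ∃ (U : Over S) (_ : (AlgSp.yon S).obj U ≅ X.obj), U.left.IsSeparated ∧
      ∀ V : U.left.Opens, IsCompact (V : Set ↥U.left) → IsAffineOpen V := by
  obtain ⟨W, ⟨e⟩⟩ := isRepSh_of_dim_zero X hd.le fun U R _ S₀ hS₀ hU a _ t s sq =>
    SpectralQuot.compactSpace_relation hqs hS₀ hU sq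
  haveI := quasiSeparatedSpace_of_iso hqs e
  exact ⟨W, e, scheme_of_dim_zero hd.le e⟩

end Groth.Agent.S10450
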