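import Groth.Statements.S10451
import Groth.Agent.AlgSpFieldLib.DimZero

set_option autoImplicit false
set_option linter.style.haveILetI false
set_option backward.isDefEq.respectTransparency false
set_option backward.isDefEq.respectTransparency.types false
universe u
open CategoryTheory CategoryTheory.Limits AlgebraicGeometry Topology TopologicalSpace
open AlgSp

namespace Groth.Agent.S10451
open AlgSpLib AlgSpFieldLib



/-- Let k be a field and X an algebraic space locally of finite type over k with dim X = 0. Then X is a
separated scheme and every quasi-compact open of X is affine. -/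
theorem result (k : Type u) [Field k]
    (X : AlgSp.Space (Spec (CommRingCat.of k))) (p : X.obj ⟶ (AlgSp.yon (Spec (CommRingCat.of k))).obj (Over.mk (𝟙 _)))
    (hp : AlgSp.LocP @LocallyOfFiniteType p) (hd : AlgSp.dim X.obj = 0) :
    ∃ (U : Over (Spec (CommRingCat.of k))) (_ : (AlgSp.yon (Spec (CommRingCat.of k))).obj U ≅ X.obj), U.left.IsSeparated ∧
      ∀ V : U.left.Opens, IsCompact (V : Set ↥U.left) → IsAffineOpen V := by
  obtain ⟨W, ⟨e⟩⟩ := isRepSh_of_dim_zero X hd.le fun U R _ S₀ hS₀ hU a ha t s sq =>
    compactSpace_relation_field p hp hd.le ha sq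
  obtain ⟨h, hh⟩ := (AlgSp.yon (Spec (CommRingCat.of k))).map_surjective (e.hom ≫ p)
  have hft := hp e.hom (𝟙 _) h (MorphismProperty.RespectsIso.postcomp
    (P := AlgSp.RepWith (@Etale : MorphismProperty Scheme.{u})) e.hom (𝟙 _) (AlgSp.repWith_id _ W))
    (AlgSp.repWith_id _ _) (by rw [hh, Category.comp_id])
  have eh : h.left = W.hom := by simpa using Over.w h
  haveI : LocallyOfFiniteType W.hom := eh ▸ hft
  haveI : IsLocallyNoetherian W.left := LocallyOfFiniteType.isLocallyNoetherian W.hom
  exact ⟨W, e, scheme_of_dim_zero hd.le e⟩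

end Groth.Agent.S10451
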