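import Groth.Statements.S10452
import Groth.Agent.AlgSpLib.CodimZero
import Groth.Agent.AlgSpLib.DecentPoints
import Groth.Agent.SpectralQuot.DecentSober

set_option autoImplicit false
universe u
open CategoryTheory CategoryTheory.Limits AlgebraicGeometry Topology TopologicalSpace
open AlgSp

namespace Groth.Agent.S10452

/-- (2) ⇔ (3): let X be a quasi-separated algebraic space over a quasi-separated scheme S and x a point
of X. Then the local ring of X at x is zero-dimensional exactly when x is the generic point of an
irreducible component of |X|. (The published statement allows any base scheme S and takes X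
quasi-separated in the absolute sense; this row asks S to be quasi-separated and X quasi-separated
over S, which together imply absolute quasi-separatedness.) -/
theorem result {S : Scheme.{u}} [QuasiSeparatedSpace S]
    (X : AlgSp.Space S) (hqs : AlgSp.IsQuasiSeparatedSp X.obj) (x : AlgSp.Points X.obj) :
    AlgSp.HasAt (fun U u => ringKrullDim ↥(U.presheaf.stalk u) = 0) X.obj x ↔
      ∃ Z ∈ irreducibleComponents (AlgSp.Points X.obj), IsGenericPoint x Z := by
  have hd := AlgSpLib.isDecent_of_isQuasiSeparatedSp X.property hqs
  haveI : T0Space (AlgSp.Points X.obj) := AlgSpLib.t0Space_points X.property hd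
  haveI : QuasiSober (AlgSp.Points X.obj) := SpectralQuot.quasiSober_of_decent X hd
  constructor
  · rintro ⟨U, a, u, ha, rfl, h0⟩
    obtain ⟨Z, hZ, hxZ⟩ := exists_mem_irreducibleComponents_subset_of_isIrreducible
      (closure {AlgSp.Points.ofPt a u}) isIrreducible_singleton.closure
    obtain ⟨η, hη⟩ := QuasiSober.sober hZ.1 (isClosed_of_mem_irreducibleComponents Z hZ)
    refine ⟨Z, hZ, ?_⟩
    obtain ⟨p, hp, -, hq⟩ := hd η
    obtain ⟨u', hs, hu'⟩ := AlgSpLib.exists_generalization_lift
      (hη.specializes (hxZ (subset_closure rfl))) ⟨p, hp, hq⟩ ha rfl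
    rw [← AlgSpLib.eq_of_specializes_of_stalkDim_zero h0.le hs, hu']
    exact hη
  · rintro ⟨Z, hZ, hx⟩
    obtain ⟨U, a, ha, has⟩ := X.property.atlas
    obtain ⟨u, rfl⟩ := AlgSpLib.surjective_ofPt has x
    obtain ⟨ξ, hξ, hmax⟩ := AlgSpLib.exists_maximal_generization u
    refine ⟨U, a, ξ, ha, ?_, AlgSpLib.stalkDim_eq_zero_of_maximal ξ hmax⟩
    have hs := hξ.map (AlgSp.Points.continuous_ofPt a)
    have hsub : closure {AlgSp.Points.ofPt a u} ⊆ closure {AlgSp.Points.ofPt a ξ} :=
      closure_minimal (Set.singleton_subset_iff.2 (specializes_iff_mem_closure.1 hs)) isClosed_closure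
    have hmax' := hZ.2 isIrreducible_singleton.closure (hx.def ▸ hsub)
    refine (hs.antisymm (hx.specializes ?_)).eq
    exact hmax' (subset_closure rfl)
end Groth.Agent.S10452
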