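import Groth.Statements.S10453
import Groth.Agent.SpectralQuot.SchematicLocus
import Groth.Agent.SpectralQuot.DenseScheme

set_option autoImplicit false
set_option linter.style.haveILetI false
set_option backward.isDefEq.respectTransparency false
set_option backward.isDefEq.respectTransparency.types false
universe u
open CategoryTheory CategoryTheory.Limits AlgebraicGeometry Topology TopologicalSpace
open AlgSp

namespace Groth.Agent.S10453
open AlgSpLib SpectralQuot



/-- Let X be a quasi-separated algebraic space over a quasi-separated scheme S and x a point of X of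
codimension 0 (the local ring of X at x has dimension 0). Then some open subspace of X containing x
is a scheme. (The published statement allows any base scheme S and takes X quasi-separated in the
absolute sense; this row asks S to be quasi-separated and X quasi-separated over S, which together
imply absolute quasi-separatedness.) -/
theorem result {S : Scheme.{u}} [QuasiSeparatedSpace S]
    (X : AlgSp.Space S) (hqs : AlgSp.IsQuasiSeparatedSp X.obj) (x : AlgSp.Points X.obj)
    (hx : AlgSp.HasAt (fun U u => ringKrullDim ↥(U.presheaf.stalk u) = 0) X.obj x) :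
    ∃ (X' : AlgSp.Space S) (j : X' ⟶ X), AlgSp.RepWith @IsOpenImmersion j.hom ∧
      X'.obj.obj.IsRepresentable ∧ x ∈ Set.range (AlgSp.Points.map j.hom) := by
  obtain ⟨V, b, v, hb, rfl, hv⟩ := hx
  obtain ⟨S₀, hS₀, hvS, -⟩ := exists_isAffineOpen_mem_and_subset (U := (⊤ : S.Opens)) (x := V.hom v) trivial
  obtain ⟨O, hO, hvO, hOS⟩ := exists_isAffineOpen_mem_and_subset (U := V.hom ⁻¹ᵁ S₀) (x := v) hvS
  let U : Over S := Over.mk (O.ι ≫ V.hom)
  haveI : IsAffine U.left := hO
  let j : U ⟶ V := Over.homMk O.ι rfl
  let a := (AlgSp.yon S).map j ≫ b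
  have ha : AlgSp.RepWith @Etale a := repWith_comp (P := (@Etale : MorphismProperty Scheme.{u}))
    ((AlgSp.repWith_yon_map_iff (@Etale : MorphismProperty Scheme.{u}) j).2 (inferInstanceAs (Etale O.ι))) hb
  obtain ⟨R, t, s, sq⟩ := exists_isPullback_yon a a ha.rep
  haveI := compactSpace_relation hqs hS₀ (V := U) (by rintro _ ⟨w, rfl⟩; exact hOS w.2) sq
  have h0 : ringKrullDim ↥(U.left.presheaf.stalk (⟨v, hvO⟩ : U.left)) = 0 := by
    rw [← hv]
    exact (ringKrullDim_eq_of_ringEquiv ((asIso (O.ι.stalkMap ⟨v, hvO⟩)).commRingCatIsoToRingEquiv)).symm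
  have hmem := mem_schemeLocus_of_codim_zero X.property ha sq ⟨v, hvO⟩ h0
  rw [ofPt_yon_comp] at hmem
  obtain ⟨X', j', h1, h2, h3⟩ := exists_schemeLocus X
  exact ⟨X', j', h1, h2, h3 ▸ hmem⟩

end Groth.Agent.S10453
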