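import Groth.Statements.S10500
import Groth.Agent.AlgSpLib.FiniteNhd

set_option autoImplicit false
universe u
open CategoryTheory CategoryTheory.Limits AlgebraicGeometry Topology TopologicalSpace
open AlgSp

namespace Groth.Agent.S10500

/-- Let X and Y be integral algebraic spaces over a scheme S with generic points x and y, and f : X ⟶ Y
a morphism which is proper and dominant. Then f is an alteration (finite over some nonempty open
subspace of Y) if and only if x is the only point of X mapping to y. -/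
theorem result {S : Scheme.{u}} {X Y : AlgSp.Space S}
    (hXi : AlgSp.IsIntegralSp X.obj) (hYi : AlgSp.IsIntegralSp Y.obj) (f : X ⟶ Y) (hp : AlgSp.IsProperMor f.hom)
    (hd : AlgSp.IsDominantMor f.hom)
    (x : AlgSp.Points X.obj) (hx : IsGenericPoint x (Set.univ : Set (AlgSp.Points X.obj)))
    (y : AlgSp.Points Y.obj) (hy : IsGenericPoint y (Set.univ : Set (AlgSp.Points Y.obj))) :
    (∃ (V : AlgSp.Space S) (j : V ⟶ Y), AlgSp.RepWith @IsOpenImmersion j.hom ∧ Nonempty (AlgSp.Points V.obj) ∧
      ∀ (P : AlgSp.Space S) (fst : P ⟶ V) (snd : P ⟶ X), IsPullback fst.hom snd.hom j.hom f.hom →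
        AlgSp.IsFiniteMor fst.hom) ↔ (∀ x' : AlgSp.Points X.obj, AlgSp.Points.map f.hom x' = y → x' = x) := by
  rw [← AlgSpLib.unique_iff_qf X.property Y.property hXi.2.1 hYi.2.1 hp.2.1.1 hd hx hy]
  constructor
  · rintro ⟨V, j, hj, ⟨v⟩, H⟩
    have hPs : AlgSp.IsAlgSpace (pullback j.hom f.hom) :=
      AlgSpLib.isAlgSpace_pullback V.property X.property Y.property j.hom f.hom
    have sq := IsPullback.of_hasPullback j.hom f.hom
    have hfin := H ⟨_, hPs⟩ (ObjectProperty.homMk (pullback.fst j.hom f.hom))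
      (ObjectProperty.homMk (pullback.snd j.hom f.hom)) sq
    have hy' : y ∈ Set.range (AlgSp.Points.map j.hom) :=
      (hy.specializes (trivial : AlgSp.Points.map j.hom v ∈ Set.univ)).mem_open
        (AlgSpLib.isOpenMap_map_of_isEtaleMor V.property (AlgSpLib.isEtaleMor_of_openImmersion hj)).isOpen_range
        ⟨v, rfl⟩
    obtain ⟨w, hw⟩ := hy'
    obtain ⟨q, -, hq⟩ := AlgSpLib.exists_point_isPullback sq w x
      (hw.trans (AlgSpLib.generic_map_eq Y.property hYi.2.1 hd hx hy).symm)
    have hlft := AlgSpLib.locP_of_isPullback X.property Y.property V.property sq.flip hp.2.1.1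
    have h0 := (AlgSpLib.locP_lqf_iff_fibreDim_zero hPs V.property hlft).1
      (AlgSpLib.locP_of_repWith (AlgSpLib.repWith_mono
        (fun _ _ g (_ : IsFinite g) => ⟨inferInstance, inferInstance⟩) (AlgSpLib.isFiniteMor_iff.1 hfin))) q
    rw [AlgSpLib.hasAtMor_fibreDim_baseChange X.property Y.property V.property sq.flip hp.2.1.1 (fun t => t = 0), hq]
      at h0
    exact h0
  · intro h0
    obtain ⟨V, j, hj, hy', H⟩ := AlgSpLib.exists_open_finite_of_qf_fibre f y hp (fun x' hx' => by
      rw [(AlgSpLib.unique_iff_qf X.property Y.property hXi.2.1 hYi.2.1 hp.2.1.1 hd hx hy).1 h0 x' hx']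
      exact h0)
    obtain ⟨w, -⟩ := hy'
    exact ⟨V, j, hj, ⟨w⟩, fun P fst snd sq => H P snd fst sq.flip⟩
end Groth.Agent.S10500
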