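import Groth.Statements.S10458
import Groth.Agent.S10496
import Groth.Agent.S10500
import Groth.Agent.AlgSpLib.DecentPoints
import Groth.Agent.AlgSpLib.DecentTop
import Groth.Agent.AlgSpLib.QcQs
import Groth.Agent.AlgSpLib.Sep
import Groth.Agent.SpectralQuot.DecentSober
-- import your own Groth.Agent.* helpers here

set_option autoImplicit false
set_option backward.isDefEq.respectTransparency false
set_option backward.isDefEq.respectTransparency.types false
universe u
open CategoryTheory CategoryTheory.Limits AlgebraicGeometry Topology TopologicalSpace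
open AlgSp

namespace Groth.Agent.S10458

/-- Suppose f : X ⟶ Y is a morphism of algebraic spaces over a scheme S that is proper and surjective,
with Y integral. Then there is an integral closed subspace X' of X such that the restriction X' ⟶ Y
is an alteration: proper and dominant with X' integral, and finite over some nonempty open subspace
of Y. -/
theorem result {S : Scheme.{u}} {X Y : AlgSp.Space S} (f : X ⟶ Y)
    (hf : AlgSp.IsProperMor f.hom) (hs : AlgSp.IsSurjectiveMor f.hom) (hY : AlgSp.IsIntegralSp Y.obj) :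
    ∃ (X' : AlgSp.Space S) (i : X' ⟶ X), AlgSp.RepWith @IsClosedImmersion i.hom ∧ AlgSp.IsIntegralSp X'.obj ∧
      AlgSp.IsProperMor (i ≫ f).hom ∧ AlgSp.IsDominantMor (i ≫ f).hom ∧
      ∃ (V : AlgSp.Space S) (j : V ⟶ Y), AlgSp.RepWith @IsOpenImmersion j.hom ∧ Nonempty (AlgSp.Points V.obj) ∧
        ∀ (P : AlgSp.Space S) (fst : P ⟶ V) (snd : P ⟶ X'), IsPullback fst.hom snd.hom j.hom (i ≫ f).hom →
          AlgSp.IsFiniteMor fst.hom := by
  classical
  have hYd := hY.2.1
  haveI := hY.2.2
  haveI : QuasiSober (AlgSp.Points Y.obj) := SpectralQuot.quasiSober_of_decent Y hYd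
  let y := genericPoint (AlgSp.Points Y.obj)
  have hy : IsGenericPoint y (Set.univ : Set (AlgSp.Points Y.obj)) := genericPoint_spec _
  have hXd : AlgSp.IsDecent X.obj := AlgSpLib.isDecent_of_fibres f.hom hYd fun p =>
    AlgSpLib.isDecent_of_isQuasiSeparatedMor
      (AlgSpLib.isAlgSpace_pullback X.property (AlgSp.IsAlgSpace.yon_obj _) Y.property f.hom p.toHom)
      (g := pullback.snd f.hom p.toHom)
      (AlgSpLib.repWith_diagonal_of_isPullback (IsPullback.of_hasPullback f.hom p.toHom)
        (AlgSpLib.isQuasiSeparatedMor_of_isSeparatedMor hf.1))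
  haveI : T0Space (AlgSp.Points X.obj) := AlgSpLib.t0Space_points X.property hXd
  -- a closed point of the generic fibre
  obtain ⟨p, hp, -, -⟩ := hYd y
  have sq := IsPullback.of_hasPullback f.hom p.toHom
  have hPA := AlgSpLib.isAlgSpace_pullback X.property (AlgSp.IsAlgSpace.yon_obj _) Y.property f.hom p.toHom
  haveI : CompactSpace (AlgSp.Points (pullback f.hom p.toHom)) :=
    AlgSpLib.compactSpace_points_of_isQuasiCompactSp (AlgSpLib.isQuasiCompactSp_source (AlgSp.IsAlgSpace.yon_obj _)
      (AlgSpLib.isQuasiCompactMor_of_isPullback sq hf.2.1.2) (AlgSpLib.isQuasiCompactSp_yon _))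
  have hy1 : AlgSp.Points.map p.toHom (AlgSp.Points.ofScheme p.pt (IsLocalRing.closedPoint p.K)) = y := by
    rw [← AlgSp.Points.ofPt_eq_map_ofScheme]
    exact (AlgSpLib.mk_eq_ofPt_toMor p).symm.trans hp
  let F : Set (AlgSp.Points X.obj) := AlgSp.Points.map f.hom ⁻¹' {y}
  have hFc : IsCompact F := by
    have e : F = Set.range (AlgSp.Points.map (pullback.fst f.hom p.toHom)) := by
      ext z
      constructor
      · intro hz
        obtain ⟨w, hw, -⟩ := AlgSpLib.exists_point_isPullback sq z (AlgSp.Points.ofScheme p.pt (IsLocalRing.closedPoint p.K))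
          ((show AlgSp.Points.map f.hom z = y from hz).trans hy1.symm)
        exact ⟨w, hw⟩
      · rintro ⟨w, rfl⟩
        show AlgSp.Points.map f.hom _ = y
        rw [← AlgSp.Points.map_comp, sq.w, AlgSp.Points.map_comp]
        obtain ⟨v, hv⟩ := (AlgSp.Points.schemeHomeo p.pt).surjective (AlgSp.Points.map (pullback.snd f.hom p.toHom) w)
        haveI : Subsingleton ↥p.pt.left := inferInstanceAs (Subsingleton (PrimeSpectrum p.K))
        rw [← hv, Subsingleton.elim v (IsLocalRing.closedPoint p.K)]
        exact hy1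
    rw [e]
    exact isCompact_range (AlgSp.Points.continuous_map _)
  haveI : CompactSpace F := isCompact_iff_compactSpace.1 hFc
  obtain ⟨x₀, hx₀⟩ := hs y
  obtain ⟨⟨x, hxF⟩, -, hxc⟩ := IsClosed.exists_closed_singleton (X := F) (S := Set.univ) isClosed_univ
    ⟨⟨x₀, hx₀⟩, trivial⟩
  let T : Set (AlgSp.Points X.obj) := closure {x}
  obtain ⟨X', i, hi, hXi, hr⟩ := Groth.Agent.S10496.result X hXd T isClosed_closure isIrreducible_singleton.closure
  have hip := AlgSpLib.isProperMor_of_closedImmersion X'.property X.property hi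
  have hp' : AlgSp.IsProperMor (i ≫ f).hom :=
    AlgSpLib.isProperMor_comp X'.property X.property Y.property hip hf
  haveI := hXi.2.2
  haveI : QuasiSober (AlgSp.Points X'.obj) := SpectralQuot.quasiSober_of_decent X' hXi.2.1
  let x' := genericPoint (AlgSp.Points X'.obj)
  have hx' : IsGenericPoint x' (Set.univ : Set (AlgSp.Points X'.obj)) := genericPoint_spec _
  haveI : Mono i.hom := AlgSpRegLib.mono_of_closedImmersion hi
  have hinj : Function.Injective (AlgSp.Points.map i.hom) := AlgSpLib.injective_map_of_mono i.hom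
  have hover : ∀ z, AlgSp.Points.map (i ≫ f).hom z = y → AlgSp.Points.map i.hom z = x := fun z hz => by
    have hzT : AlgSp.Points.map i.hom z ∈ T := hr.le ⟨z, rfl⟩
    have hzF : AlgSp.Points.map i.hom z ∈ F := (AlgSp.Points.map_comp i.hom f.hom z).symm.trans hz
    have h1 : (⟨_, hzF⟩ : F) ∈ closure ({⟨x, hxF⟩} : Set F) := by
      rw [closure_subtype, Set.image_singleton]
      exact hzT
    rw [hxc.closure_eq] at h1
    exact congrArg Subtype.val h1
  obtain ⟨z₀, hz₀⟩ := hr.ge (subset_closure (Set.mem_singleton x))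
  have hz₀y : AlgSp.Points.map (i ≫ f).hom z₀ = y := (AlgSp.Points.map_comp i.hom f.hom z₀).trans
    ((congrArg (AlgSp.Points.map f.hom) hz₀).trans hxF)
  have hd : AlgSp.IsDominantMor (i ≫ f).hom := by
    show Dense (Set.range (AlgSp.Points.map (i ≫ f).hom))
    exact Dense.mono (Set.singleton_subset_iff.2 ⟨z₀, hz₀y⟩) (dense_iff_closure_eq.2 hy.def)
  refine ⟨X', i, hi, hXi, hp', hd, (Groth.Agent.S10500.result hXi hY (i ≫ f) hp' hd x' hx' y hy).2 fun z hz => ?_⟩
  have h2 := AlgSpLib.generic_map_eq Y.property hYd hd hx' hy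
  exact hinj ((hover z hz).trans (hover x' h2).symm)

end Groth.Agent.S10458
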