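import Groth.Statements.S10459
import Groth.Agent.AlgSpLib.CodimZero
import Groth.Agent.S10324

set_option autoImplicit false
universe u
open CategoryTheory CategoryTheory.Limits AlgebraicGeometry Topology TopologicalSpace
open AlgSp

namespace Groth.Agent.S10459

/-- Let f : X ⟶ Y be a dominant morphism locally of finite type between integral algebraic spaces over a
scheme S, with Y locally Noetherian, and let r be the transcendence degree of the generic point of X
over its image (the generic point of Y). Then dim X ≤ dim Y + r. -/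
theorem result {S : Scheme.{u}} {X Y : AlgSp.Space S} (f : X ⟶ Y)
    (hY : AlgSp.IsLocNoethSp Y.obj) (hXi : AlgSp.IsIntegralSp X.obj) (hYi : AlgSp.IsIntegralSp Y.obj)
    (hd : AlgSp.IsDominantMor f.hom) (hft : AlgSp.LocP @LocallyOfFiniteType f.hom)
    (x : AlgSp.Points X.obj) (hx : IsGenericPoint x (Set.univ : Set (AlgSp.Points X.obj))) (r : ℕ)
    (hr : AlgSp.HasAtMor (fun _ _ h u => Dual3.resTrdeg h u = (r : Cardinal.{u})) f.hom x) :
    AlgSp.dim X.obj ≤ AlgSp.dim Y.obj + ((r : ℕ∞) : WithBot ℕ∞) := by
  have h1 := Groth.Agent.S10324.result f hY hft (r : Cardinal.{u}) fun ξ hξ s hs => le_of_eq ?_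
  · simpa using h1
  · rw [AlgSpLib.eq_generic_of_codimZero hXi.2.1 hx hξ] at hs
    obtain ⟨U, V, a, b, h, u, ha, hb, e, hu, hq⟩ := hs
    rw [← hu, AlgSpLib.hasAtMor_iff (AlgSpLib.etInv_resTrdeg fun t => t = (r : Cardinal.{u})) ha hb e] at hr
    exact hq.symm.trans hr
end Groth.Agent.S10459
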