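import Groth.Statements.S1046
import Mathlib
import Groth.Agent.RgammaCopLib.Main
import Groth.Agent.RDerLib.PlusLES
-- import your own Groth.Agent.* helpers here

set_option autoImplicit false
universe u
open CategoryTheory CategoryTheory.Limits AlgebraicGeometry
attribute [local instance] HasDerivedCategory.standard
open Perf

namespace Groth.Agent.S1046

/-- Let U ⊆ X be an open subscheme with quasi-compact inclusion and T = X ∖ U. Assuming O_X-modules have
enough injectives (true, not recorded), for every bounded below E ∈ D(O_X) with quasi-coherent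
cohomology sheaves, the derived sections with support RΓ_T(E) (right derived functor of F ↦ ker(F →
j_*(F|_U))) has quasi-coherent cohomology sheaves, all supported on T. -/
theorem result (X : Scheme.{u}) (U : X.Opens) [QuasiCompact U.ι] [EnoughInjectives X.Modules]
    (E : DerivedCategory.Plus X.Modules) (hE : DCoh.IsQCohD E.obj) :
    DCoh.IsQCohD ((DCoh.RgammaZPlus U.ι).obj E).obj ∧
    ∀ i : ℤ, CohB1.support (DCoh.HD ((DCoh.RgammaZPlus U.ι).obj E).obj i) ⊆ (U : Set X)ᶜ := by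
  haveI : CxOX.HasRgammaZ U.ι :=
    Groth.Agent.DerLib.KInjDerived.hasRightDerivedFunctor _ KFlatLib.enoughKInj_modules
  haveI : DCoh.HasRpush U.ι := Groth.Agent.DCohRestrLib.hasRpush U.ι
  obtain ⟨E₀, ⟨e₀⟩⟩ : ∃ E₀, Nonempty (DerivedCategory.Plus.Qh.obj E₀ ≅ E) :=
    ⟨_, ⟨DerivedCategory.Plus.Qh.objObjPreimageIso E⟩⟩
  obtain ⟨X₀, rfl⟩ := HomotopyCategory.Plus.quotient_obj_surjective E₀
  obtain ⟨L, ⟨e₁⟩⟩ := Groth.Agent.RDerLib.exists_injQh_obj_iso X₀
  let e : (Groth.Agent.RDerLib.injQh).obj ((HomotopyCategory.Plus.quotient _).obj L) ≅ E := e₁.symm ≪≫ e₀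
  let I : CochainComplex X.Modules ℤ :=
    ((InjectiveObject.ι X.Modules).mapHomologicalComplex (ComplexShape.up ℤ)).obj L.obj
  haveI hI : I.IsKInjective := inferInstanceAs (CochainComplex.IsKInjective
    (((InjectiveObject.ι X.Modules).mapHomologicalComplex (.up ℤ)).obj L.obj))
  let eI : DerivedCategory.Qh.obj ((HomotopyCategory.quotient _ _).obj I) ≅ E.obj :=
    (DerivedCategory.Plus.ι (C := X.Modules)).mapIso e
  have hgu := Groth.Agent.DerLib.KInjDerived.isIso_app (CxOX.RgammaZ U.ι) (CxOXLib.gUnit U)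
    KFlatLib.enoughKInj_modules I
  let φ : ((DCoh.RgammaZPlus U.ι).obj E).obj ≅ (CxOX.RgammaZ U.ι).obj E.obj :=
    (DerivedCategory.Plus.ι (C := X.Modules)).mapIso ((DCoh.RgammaZPlus U.ι).mapIso e.symm) ≪≫
      (Groth.Agent.RDerLib.injFIso (DCoh.gammaZ U.ι)).app ((HomotopyCategory.Plus.quotient _).obj L) ≪≫
      @asIso _ _ _ _ _ hgu ≪≫
      (CxOX.RgammaZ U.ι).mapIso eI
  have hs : CxOX.IsSuppD U.ι ((DCoh.RgammaZPlus U.ι).obj E).obj :=
    CxOXLib.isSuppD_of_iso U.ι φ.symm (CxOXLib.isSuppD_RgammaZ U E.obj)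
  refine ⟨fun n => ?_, fun i => ?_⟩
  · haveI := RgammaCopLib.isQCohD_RgammaZ U hE n
    exact QCohLib.isQCoh_of_iso ((DerivedCategory.homologyFunctor _ n).mapIso φ.symm)
  · exact (hs i).trans (by rw [Scheme.Opens.range_ι])

end Groth.Agent.S1046
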