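import Groth.Statements.S10462
import Groth.Agent.AlgSpFieldLib.SpreadField
-- import your own Groth.Agent.* helpers here

set_option autoImplicit false
set_option backward.isDefEq.respectTransparency false
set_option backward.isDefEq.respectTransparency.types false
universe u
open CategoryTheory CategoryTheory.Limits AlgebraicGeometry Topology TopologicalSpace
open AlgSp

namespace Groth.Agent.S10462

/-- Let k be a field and X a quasi-compact, quasi-separated algebraic space over k. Suppose the base
change X_K is a scheme for some field extension K of k. Then some finite separable extension k' of k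
already makes the base change X_{k'} of X representable by a scheme. -/
theorem result (k : Type u) [Field k] (X : AlgSp.Space (Spec (CommRingCat.of k)))
    (hqc : AlgSp.IsQuasiCompactSp X.obj) (hqs : AlgSp.IsQuasiSeparatedSp X.obj)
    (K : Type u) [Field K] [Algebra k K] (h : (X.obj ⨯ (AlgSp.yon (Spec (CommRingCat.of k))).obj (Over.mk (Spec.map (CommRingCat.ofHom (algebraMap k K))))).obj.IsRepresentable) :
    ∃ (k' : Type u) (_ : Field k') (_ : Algebra k k'), Module.Finite k k' ∧ Algebra.IsSeparable k k' ∧
      (X.obj ⨯ (AlgSp.yon (Spec (CommRingCat.of k))).obj (Over.mk (Spec.map (CommRingCat.ofHom (algebraMap k k'))))).obj.IsRepresentable := by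
  let kbar := AlgebraicClosure k
  obtain ⟨W, ⟨r⟩⟩ := h.has_representation
  let M := AlgebraicClosure K
  let ψ : kbar →ₐ[k] M := IsAlgClosed.lift
  letI : Algebra kbar M := ψ.toRingHom.toAlgebra
  haveI : IsScalarTower k kbar M := IsScalarTower.of_algebraMap_eq fun a => (ψ.commutes a).symm
  have hM := AlgSpFieldLib.isRepSh_bc_of_hom (X := X.obj) (IsScalarTower.toAlgHom k K M)
    ⟨W, ⟨AlgSp.isoOfRepresentableBy r⟩⟩
  have hbar := AlgSpFieldLib.isRepSh_descend_algClosed (K := M) (L := kbar) X.property hqs hM
  obtain ⟨E, hfin, hsep, W₁, ⟨e₁⟩⟩ := AlgSpFieldLib.exists_finite_separable_level (K := kbar) X.property hqc hbar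
  exact ⟨E, inferInstance, inferInstance, hfin, hsep, (AlgSp.representableByOfIso e₁).isRepresentable⟩

end Groth.Agent.S10462
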