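import Groth.Statements.S10463
import Groth.Agent.AlgSpFieldLib.SpreadField
-- import your own Groth.Agent.* helpers here

set_option autoImplicit false
set_option backward.isDefEq.respectTransparency false
set_option backward.isDefEq.respectTransparency.types false
universe u
open CategoryTheory CategoryTheory.Limits AlgebraicGeometry Topology TopologicalSpace
open AlgSp

namespace Groth.Agent.S10463

/-- Let k be a field with algebraic closure k̄ and X a quasi-separated algebraic space over k. If X_K is
a scheme for some field extension K of k, then X_{k̄} is a scheme. -/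
theorem result (k : Type u) [Field k]
    (X : AlgSp.Space (Spec (CommRingCat.of k))) (hqs : AlgSp.IsQuasiSeparatedSp X.obj)
    (K : Type u) [Field K] [Algebra k K] (h : (X.obj ⨯ (AlgSp.yon (Spec (CommRingCat.of k))).obj (Over.mk (Spec.map (CommRingCat.ofHom (algebraMap k K))))).obj.IsRepresentable)
    (kbar : Type u) [Field kbar] [Algebra k kbar] [IsAlgClosure k kbar] :
    (X.obj ⨯ (AlgSp.yon (Spec (CommRingCat.of k))).obj (Over.mk (Spec.map (CommRingCat.ofHom (algebraMap k kbar))))).obj.IsRepresentable := by
  haveI : IsAlgClosed kbar := IsAlgClosure.isAlgClosed k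
  haveI : Algebra.IsAlgebraic k kbar := IsAlgClosure.isAlgebraic
  obtain ⟨W, ⟨r⟩⟩ := h.has_representation
  let M := AlgebraicClosure K
  let ψ : kbar →ₐ[k] M := IsAlgClosed.lift
  letI : Algebra kbar M := ψ.toRingHom.toAlgebra
  haveI : IsScalarTower k kbar M := IsScalarTower.of_algebraMap_eq fun a => (ψ.commutes a).symm
  have hM := AlgSpFieldLib.isRepSh_bc_of_hom (X := X.obj) (IsScalarTower.toAlgHom k K M)
    ⟨W, ⟨AlgSp.isoOfRepresentableBy r⟩⟩
  have hbar := AlgSpFieldLib.isRepSh_descend_algClosed (K := M) (L := kbar) X.property hqs hM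
  obtain ⟨W₁, ⟨e₁⟩⟩ := hbar
  exact (AlgSp.representableByOfIso e₁).isRepresentable

end Groth.Agent.S10463
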