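import Groth.Statements.S10464
import Groth.Agent.AlgSpFieldLib.SpreadTransc
-- import your own Groth.Agent.* helpers here

set_option autoImplicit false
set_option backward.isDefEq.respectTransparency false
set_option backward.isDefEq.respectTransparency.types false
universe u
open CategoryTheory CategoryTheory.Limits AlgebraicGeometry Topology TopologicalSpace
open AlgSp

namespace Groth.Agent.S10464

/-- Let k be a field and X a quasi-separated algebraic space over k. If X_K is a scheme for a purely
transcendental extension K of k (here K is the fraction field of a polynomial ring over k in any set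
of variables; every purely transcendental extension is k-isomorphic to one of these), then X is a
scheme. -/
theorem result (k : Type u) [Field k] (X : AlgSp.Space (Spec (CommRingCat.of k)))
    (hqs : AlgSp.IsQuasiSeparatedSp X.obj) (ι : Type u)
    (h : (X.obj ⨯ (AlgSp.yon (Spec (CommRingCat.of k))).obj (Over.mk (Spec.map (CommRingCat.ofHom (algebraMap k (FractionRing (MvPolynomial ι k))))))).obj.IsRepresentable) :
    X.obj.obj.IsRepresentable := by
  obtain ⟨W, ⟨r⟩⟩ := h.has_representation
  have hK : AlgSpLib.IsRepSh _ := ⟨W, ⟨AlgSp.isoOfRepresentableBy r⟩⟩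
  have hX := X.property
  obtain ⟨U, a, ha, has⟩ := hX.atlas
  have key : AlgSpLib.IsRepSh X.obj := AlgSpFieldLib.isRepSh_of_schemeLocus hX fun x => by
    obtain ⟨u, rfl⟩ := AlgSpLib.surjective_ofPt has x
    obtain ⟨A, hA, huA, -⟩ := exists_isAffineOpen_mem_and_subset (X := U.left) (U := ⊤) (x := u) trivial
    let Ω : Set (AlgSp.Points X.obj) := AlgSp.Points.ofPt a '' (A : Set U.left)
    have hΩ : IsOpen Ω := AlgSpLib.isOpenMap_ofPt ha _ A.2
    have hι := AlgSpLib.repWith_openSubι X.obj hΩ
    let io := AlgSpLib.openSubι X.obj Ω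
    have hO := AlgSpLib.isAlgSpace_openSub hX hΩ
    haveI : Mono io := AlgSpLib.mono_of_openImmersion hι
    have hemb : Topology.IsOpenEmbedding (AlgSp.Points.map io) :=
      Topology.IsOpenEmbedding.of_continuous_injective_isOpenMap (AlgSp.Points.continuous_map io)
        (Groth.Agent.MonoPtLib.points_map_injective_of_mono hO hX io)
        (AlgSpLib.isOpenMap_map_of_isEtaleMor hO (AlgSpLib.isEtaleMor_of_openImmersion hι))
    have hqc : AlgSp.IsQuasiCompactSp (AlgSpLib.openSub X.obj Ω) := by
      refine AlgSpLib.isQuasiCompactSp_of_compactSpace hO ⟨?_⟩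
      rw [hemb.isInducing.isCompact_iff, Set.image_univ, AlgSpLib.range_openSubι]
      exact hA.isCompact.image (AlgSp.Points.continuous_ofPt a)
    refine Set.subset_sUnion_of_mem (show Ω ∈ {Ω | IsOpen Ω ∧ AlgSpLib.IsRepSh (AlgSpLib.openSub X.obj Ω)} from
      ⟨hΩ, AlgSpFieldLib.isRepSh_of_schemeLocus hO fun z =>
        AlgSpFieldLib.mem_schemeLocus_of_purelyTranscendental hO hqc
          (AlgSpLib.isQuasiSeparatedSp_of_mor (Groth.Agent.MonoPtLib.isQuasiSeparatedMor_of_mono io) hqs)
          (AlgSpFieldLib.isRepSh_of_repWith (P := @IsOpenImmersion)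
            (AlgSpLib.repWith_of_isPullback (AlgSpFieldLib.isPullback_prod_left_map io) hι) hK) z⟩) ⟨u, huA, rfl⟩
  obtain ⟨W₁, ⟨e₁⟩⟩ := key
  exact (AlgSp.representableByOfIso e₁).isRepresentable

end Groth.Agent.S10464
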