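import Groth.Statements.S10470
import Groth.Agent.AlgSpFieldLib.Galois

set_option autoImplicit false
set_option linter.style.haveILetI false
set_option backward.isDefEq.respectTransparency false
set_option backward.isDefEq.respectTransparency.types false
universe u
open CategoryTheory CategoryTheory.Limits AlgebraicGeometry Topology TopologicalSpace
open AlgSp

namespace Groth.Agent.S10470
open AlgSpLib AlgSpFieldLib



/-- Let k be a field, K/k a (possibly infinite) Galois extension and X an algebraic space over k. A
closed subset of |X_K| stable under the action of every element of Gal(K/k) is the inverse image of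
a closed subset of |X|. -/
theorem result (k : Type u) [Field k] (X : AlgSp.Space (Spec (CommRingCat.of k))) (K : Type u) [Field K] [Algebra k K] [IsGalois k K]
    (T : Set (AlgSp.Points (X.obj ⨯ (AlgSp.yon (Spec (CommRingCat.of k))).obj (Over.mk (Spec.map (CommRingCat.ofHom (algebraMap k K))))))) (hT : IsClosed T)
    (hσ : ∀ (σ : K ≃ₐ[k] K) (g : (Over.mk (Spec.map (CommRingCat.ofHom (algebraMap k K))) : Over (Spec (CommRingCat.of k))) ⟶ Over.mk (Spec.map (CommRingCat.ofHom (algebraMap k K)))),
      g.left = Spec.map (CommRingCat.ofHom (σ : K ≃ₐ[k] K).toRingHom) →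
        AlgSp.Points.map (Limits.prod.map (𝟙 X.obj) ((AlgSp.yon (Spec (CommRingCat.of k))).map g)) '' T = T) :
    ∃ T₀ : Set (AlgSp.Points X.obj), IsClosed T₀ ∧
      AlgSp.Points.map (Limits.prod.fst : (X.obj ⨯ (AlgSp.yon (Spec (CommRingCat.of k))).obj (Over.mk (Spec.map (CommRingCat.ofHom (algebraMap k K))))) ⟶ X.obj) ⁻¹' T₀ = T := by
  let φ : k →ₐ[k] K := Algebra.ofId k K
  have hk := bijective_fst (k := k) X.obj
  have hko : IsOpenMap (Points.map (Limits.prod.fst : X.obj ⨯ (AlgSp.yon _).obj (Ext k k) ⟶ X.obj)) :=
    isOpenMap_fst X.property (IsAlgSpace.yon_obj _)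
  refine ⟨Points.map Limits.prod.fst '' T, ?_, ?_⟩
  · rw [fst_eq, Set.image_comp]
    exact (Equiv.ofBijective _ hk).toHomeomorphOfContinuousOpen (Points.continuous_map _) hko |>.isClosedMap _
      (isClosedMap_bc X.property φ (algebraMap_isIntegral_iff.mpr inferInstance) T hT)
  · rw [fst_eq, Set.image_comp, Set.preimage_comp, hk.1.preimage_image]
    have e : Algebra.ofId k K = IsScalarTower.toAlgHom k k K := Algebra.ext_id_iff.2 trivial
    rw [e]
    exact preimage_image_of_stable X.property fun σ z hz => (hσ σ (extHom _) rfl).le ⟨z, hz, rfl⟩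

end Groth.Agent.S10470
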