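import Groth.Statements.S10475
import Groth.Agent.GeomRedSpLib.AtPoint
import Groth.Agent.SweepSix.FieldsRed

set_option autoImplicit false
universe u
open CategoryTheory CategoryTheory.Limits AlgebraicGeometry Topology TopologicalSpace
open AlgSp

namespace Groth.Agent.S10475

/-- Let k be a perfect field and X a reduced algebraic space over k. Then X is geometrically reduced
over k (geometrically reduced at every point). -/
theorem result (k : Type u) [Field k] [PerfectField k]
    (X : AlgSp.Space (Spec (CommRingCat.of k))) (hX : AlgSp.EtaleLocally (fun U => IsReduced U) X.obj) (x : AlgSp.Points X.obj) :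
    (∃ (U : Over (Spec (CommRingCat.of k))) (a : (AlgSp.yon (Spec (CommRingCat.of k))).obj U ⟶ X.obj) (u : ↥U.left),
      AlgSp.RepWith @Etale a ∧ AlgSp.Points.ofPt a u = x ∧ FBase.IsGeomReducedAt U.hom u) := by
  obtain ⟨U, a, ha, hs⟩ := X.property.atlas
  obtain ⟨u, hu⟩ := AlgSpLib.surjective_ofPt hs x
  refine ⟨U, a, u, ha, hu, fun K _ _ x' hx' => ?_⟩
  haveI := AlgSpLib.isReduced_of_chart hX ha
  exact SweepSix.FieldsRed.isReduced_stalk_of_perfect U.hom u inferInstance K x' hx'

end Groth.Agent.S10475
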