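import Groth.Statements.S1548
import Groth.Agent.GeomRedFieldLib.Reduction
-- import your own Groth.Agent.* helpers here

set_option autoImplicit false
universe u
open CategoryTheory CategoryTheory.Limits AlgebraicGeometry
open Variety

namespace Groth.Agent.S1548

/-- Let k be a field of characteristic p > 0. If the base change X_{k'} is reduced whenever k' is a
finite purely inseparable extension of k, then X is geometrically reduced over k. -/
theorem result (k : Type u) [Field k] (p : ℕ) [Fact p.Prime] [CharP k p]
    (X : Scheme.{u}) [X.Over (Spec (CommRingCat.of k))]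
    (h : ∀ (k' : Type u) [Field k'] [Algebra k k'] [FiniteDimensional k k'] [IsPurelyInseparable k k'], IsReduced (Curv2.bc k X k')) :
    GeometricallyReduced (X ↘ (Spec (CommRingCat.of k))) := by
  let f := X ↘ Spec (CommRingCat.of k)
  refine GeomRedFieldLib.gr_of_charts f fun T _ _ j hjo hj ↦ ?_
  refine GeomRedFieldLib.isGeometricallyReduced_of_finite_purelyInseparable T fun k' _ _ _ _ ↦ ?_
  haveI := hjo
  obtain ⟨m, hm, -, -⟩ := GeomRedFieldLib.exists_bcChart f k' j hj
  haveI := hm
  haveI : AlgebraicGeometry.IsReduced (Limits.pullback f (GeomRedFieldLib.str k k')) := h k'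
  exact (affine_isReduced_iff _).mp (isReduced_of_isOpenImmersion m)

end Groth.Agent.S1548
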