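import Groth.Statements.S10481
import Groth.Agent.GeomRedSpLib.AtPoint

set_option autoImplicit false
universe u
open CategoryTheory CategoryTheory.Limits AlgebraicGeometry Topology TopologicalSpace
open AlgSp

namespace Groth.Agent.S10481

/-- Let k be a field, f : X ⟶ Y a morphism of algebraic spaces over k and x a point of X at which f is
etale. Then X is geometrically reduced at x if and only if Y is geometrically reduced at the image
of x. -/
theorem result (k : Type u) [Field k] {X Y : AlgSp.Space (Spec (CommRingCat.of k))} (f : X ⟶ Y)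
    (x : AlgSp.Points X.obj)
    (he : AlgSp.HasAtMor (fun U _ h u => ∃ W : U.Opens, u ∈ W ∧ Etale (W.ι ≫ h)) f.hom x) :
    (∃ (U : Over (Spec (CommRingCat.of k))) (a : (AlgSp.yon (Spec (CommRingCat.of k))).obj U ⟶ X.obj) (u : ↥U.left),
      AlgSp.RepWith @Etale a ∧ AlgSp.Points.ofPt a u = x ∧ FBase.IsGeomReducedAt U.hom u) ↔ (∃ (U : Over (Spec (CommRingCat.of k))) (a : (AlgSp.yon (Spec (CommRingCat.of k))).obj U ⟶ Y.obj) (u : ↥U.left),
      AlgSp.RepWith @Etale a ∧ AlgSp.Points.ofPt a u = (AlgSp.Points.map f.hom x) ∧ FBase.IsGeomReducedAt U.hom u) := by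
  obtain ⟨U, V, a, b, h, u, ha, hb, e, hu, W, huW, hW⟩ := he
  show GeomRedSpLib.GRPoint X.obj x ↔ GeomRedSpLib.GRPoint Y.obj _
  rw [GeomRedSpLib.grPoint_iff ha hu, GeomRedSpLib.grPoint_iff hb
    (show Points.ofPt b (h.left.base u) = _ by rw [← hu, AlgSpLib.map_ofPt_chart e])]
  haveI := hW
  have h1 := GeomRedSpLib.isGeomReducedAt_etale_iff (k := k) W.ι U.hom ⟨u, huW⟩
  have h2 := GeomRedSpLib.isGeomReducedAt_etale_iff (k := k) (W.ι ≫ h.left) V.hom ⟨u, huW⟩
  have e' : (W.ι ≫ h.left) ≫ V.hom = W.ι ≫ U.hom := by rw [Category.assoc, Over.w h]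
  rw [e'] at h2
  exact h1.symm.trans h2

end Groth.Agent.S10481
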