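import Groth.Statements.S10482
import Groth.Agent.AlgSpLib.FiniteNhd

set_option autoImplicit false
universe u
open CategoryTheory CategoryTheory.Limits AlgebraicGeometry Topology TopologicalSpace
open AlgSp

namespace Groth.Agent.S10482

/-- (1) ⇔ (2): let k be a field and X an algebraic space over k. Then X is locally quasi-finite over k
if and only if X is locally of finite type over k of dimension at most 0. (The published statement
says dimension 0; dimension at most 0 is used so that the empty space, whose dimension is the bottom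
element, is covered by both sides.) -/
theorem result (k : Type u) [Field k] (X : AlgSp.Space (Spec (CommRingCat.of k))) (p : X.obj ⟶ (AlgSp.yon (Spec (CommRingCat.of k))).obj (Over.mk (𝟙 _))) :
    AlgSp.LocP (@LocallyQuasiFinite ⊓ @LocallyOfFiniteType : MorphismProperty Scheme.{u}) p ↔ AlgSp.LocP @LocallyOfFiniteType p ∧ AlgSp.dim X.obj ≤ 0 := by
  have hpt : AlgSp.IsAlgSpace ((AlgSp.yon (Spec (CommRingCat.of k))).obj (Over.mk (𝟙 _))) := IsAlgSpace.yon_obj _
  constructor
  · intro h
    have hlft : AlgSp.LocP @LocallyOfFiniteType p := AlgSpLib.locP_mono (fun _ _ g hg => hg.2) h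
    refine ⟨hlft, iSup_le fun U₀ => iSup_le fun a₀ => iSup_le fun ha₀ => ?_⟩
    obtain ⟨U, a, m, ha, has, e⟩ := AlgSpLib.exists_chart_over X.property hpt p (𝟙 _)
      (AlgSp.repWith_id _ _) (AlgSp.repWith_id _ _)
    rw [FibDimLib.topologicalKrullDim_eq_iSup_localDim]
    refine iSup_le fun u₀ => ?_
    obtain ⟨u, hu⟩ := AlgSpLib.surjective_ofPt has (AlgSp.Points.ofPt a₀ u₀)
    have h0 := (AlgSpLib.locP_lqf_iff_fibreDim_zero X.property hpt hlft).1 h (AlgSp.Points.ofPt a u)
    rw [AlgSpLib.hasAtMor_iff (AlgSpLib.etInv_fibreDim fun t => t = 0) ha (AlgSp.repWith_id _ _) e,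
      AlgSpLib.fibreDimAt_eq_localDim (k := k)] at h0
    have h1 : AlgSp.HasAt (fun U u => FlatMor.localDim ↥U u = 0) X.obj (AlgSp.Points.ofPt a₀ u₀) :=
      ⟨U, a, u, ha, hu, h0⟩
    exact ((AlgSpLib.hasAt_iff (AlgSpLib.etInv_localDim fun t => t = 0) ha₀ u₀).1 h1).le
  · rintro ⟨hlft, hd⟩
    refine (AlgSpLib.locP_lqf_iff_fibreDim_zero X.property hpt hlft).2 fun x => ?_
    obtain ⟨U, a, m, ha, has, e⟩ := AlgSpLib.exists_chart_over X.property hpt p (𝟙 _)
      (AlgSp.repWith_id _ _) (AlgSp.repWith_id _ _)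
    obtain ⟨u, rfl⟩ := AlgSpLib.surjective_ofPt has x
    refine ⟨U, _, a, 𝟙 _, m, u, ha, AlgSp.repWith_id _ _, e, rfl, ?_⟩
    show FlatMor.fibreDimAt m.left u = 0
    have h1 : topologicalKrullDim U.left ≤ AlgSp.dim X.obj :=
      le_iSup_of_le U (le_iSup_of_le a (le_iSup_of_le ha le_rfl))
    exact (AlgSpLib.fibreDimAt_eq_localDim (k := k) m.left u).trans
      (le_antisymm ((FibDimLib.localDim_le u).trans (h1.trans hd)) (FibDimLib.localDim_nonneg u))
end Groth.Agent.S10482
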