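import Groth.Statements.S10483
import Groth.Agent.AlgSpFieldLib.DimZero

set_option autoImplicit false
set_option linter.style.haveILetI false
set_option backward.isDefEq.respectTransparency false
set_option backward.isDefEq.respectTransparency.types false
universe u
open CategoryTheory CategoryTheory.Limits AlgebraicGeometry Topology TopologicalSpace
open AlgSp

namespace Groth.Agent.S10483
open AlgSpLib AlgSpFieldLib



/-- (1) ⇔ (5): let k be a field and X an algebraic space over k. Then X is locally quasi-finite over k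
if and only if X decomposes as a disjoint union of spectra of finite-dimensional Artinian local
k-algebras: X is a scheme every point of which has an affine open neighbourhood with Artinian local
coordinate ring, finite over k. -/
theorem result (k : Type u) [Field k] (X : AlgSp.Space (Spec (CommRingCat.of k))) (p : X.obj ⟶ (AlgSp.yon (Spec (CommRingCat.of k))).obj (Over.mk (𝟙 _))) :
    AlgSp.LocP (@LocallyQuasiFinite ⊓ @LocallyOfFiniteType : MorphismProperty Scheme.{u}) p ↔
      ∃ (U : Over (Spec (CommRingCat.of k))) (_ : (AlgSp.yon (Spec (CommRingCat.of k))).obj U ≅ X.obj), ∀ u : ↥U.left, ∃ V : U.left.Opens,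
        u ∈ V ∧ IsAffineOpen V ∧ IsArtinianRing ↥Γ(U.left, V) ∧ IsLocalRing ↥Γ(U.left, V) ∧
          IsFinite (V.ι ≫ U.hom) := by
  constructor
  · intro hp
    have hlqf : ∀ (U : Over (Spec (CommRingCat.of k))) (a : (AlgSp.yon (Spec (CommRingCat.of k))).obj U ⟶ X.obj),
        AlgSp.RepWith @Etale a → LocallyQuasiFinite U.hom ∧ LocallyOfFiniteType U.hom := fun U a ha => by
      obtain ⟨h, hh⟩ := (AlgSp.yon (Spec (CommRingCat.of k))).map_surjective (a ≫ p)
      have h' := hp a (𝟙 _) h ha (AlgSp.repWith_id _ _) (by rw [hh, Category.comp_id])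
      have eh : h.left = U.hom := by simpa using Over.w h
      exact eh ▸ h'
    have hdisc : ∀ (U : Over (Spec (CommRingCat.of k))) (a : (AlgSp.yon (Spec (CommRingCat.of k))).obj U ⟶ X.obj),
        AlgSp.RepWith @Etale a → IsLocallyArtinian U.left := fun U a ha => by
      haveI := (hlqf U a ha).1
      haveI : IsLocallyArtinian (Spec (CommRingCat.of k)) := inferInstance
      exact IsLocallyArtinian.of_locallyQuasiFinite U.hom
    have hd : AlgSp.dim X.obj ≤ 0 := iSup_le fun U => iSup_le fun a => iSup_le fun ha => by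
      haveI := hdisc U a ha
      exact topologicalKrullDim_zero_of_discreteTopology _
    have hft : AlgSp.LocP @LocallyOfFiniteType p := fun U V a b h ha hb e => (hp a b h ha hb e).2
    obtain ⟨W, ⟨e⟩⟩ := isRepSh_of_dim_zero X hd fun U R _ S₀ hS₀ hU a ha t s sq =>
      compactSpace_relation_field p hft hd ha sq
    have he : AlgSp.RepWith @Etale e.hom := MorphismProperty.RespectsIso.postcomp
      (P := AlgSp.RepWith (@Etale : MorphismProperty Scheme.{u})) e.hom (𝟙 _) (AlgSp.repWith_id _ W)
    haveI := hdisc W e.hom he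
    haveI := (hlqf W e.hom he).1
    haveI := (hlqf W e.hom he).2
    haveI : IsLocallyNoetherian W.left := LocallyOfFiniteType.isLocallyNoetherian W.hom
    refine ⟨W, e, fun u => ⟨⟨{u}, isOpen_discrete _⟩, rfl, ?_⟩⟩
    have hV : IsAffineOpen (⟨{u}, isOpen_discrete _⟩ : W.left.Opens) :=
      (scheme_of_dim_zero hd e).2 _ isCompact_singleton
    haveI : IsArtinianRing ↥Γ(W.left, ⟨{u}, isOpen_discrete _⟩) :=
      IsLocallyArtinian.isArtinianRing_presheaf_obj (X := W.left) ⟨_, hV⟩
    refine ⟨hV, inferInstance, ?_, ?_⟩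
    · haveI : Nontrivial ↥Γ(W.left, ⟨{u}, isOpen_discrete _⟩) :=
        (W.left.presheaf.germ ⟨{u}, isOpen_discrete _⟩ u rfl).hom.domain_nontrivial
      have hsub : Subsingleton (PrimeSpectrum ↥Γ(W.left, ⟨{u}, isOpen_discrete _⟩)) := ⟨fun P Q => by
        have h1 : hV.fromSpec P ∈ ({u} : Set W.left) := hV.range_fromSpec.le ⟨P, rfl⟩
        have h2 : hV.fromSpec Q ∈ ({u} : Set W.left) := hV.range_fromSpec.le ⟨Q, rfl⟩
        exact hV.fromSpec.isOpenEmbedding.injective ((Set.mem_singleton_iff.1 h1).trans (Set.mem_singleton_iff.1 h2).symm)⟩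
      obtain ⟨M, hM⟩ := Ideal.exists_maximal ↥Γ(W.left, ⟨{u}, isOpen_discrete _⟩)
      exact IsLocalRing.of_unique_max_ideal ⟨M, hM, fun N hN =>
        congrArg PrimeSpectrum.asIdeal (Subsingleton.elim (α := PrimeSpectrum _) ⟨N, hN.isPrime⟩ ⟨M, hM.isPrime⟩)⟩
    · haveI : IsAffine (Scheme.Opens.toScheme (X := W.left) ⟨{u}, isOpen_discrete _⟩) := hV
      exact IsFinite.of_locallyQuasiFinite _
  · rintro ⟨W, e, hW⟩
    choose V hu _ _ _ hfin using hW
    have hcov : TopologicalSpace.IsOpenCover V :=
      top_le_iff.1 fun u _ => TopologicalSpace.Opens.mem_iSup.2 ⟨u, hu u⟩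
    haveI : LocallyQuasiFinite W.hom := by
      rw [IsZariskiLocalAtSource.iff_of_openCover (P := @LocallyQuasiFinite) (W.left.openCoverOfIsOpenCover V hcov)]
      exact fun u => haveI := hfin u; (inferInstanceAs (LocallyQuasiFinite ((V u).ι ≫ W.hom)))
    haveI : LocallyOfFiniteType W.hom := by
      rw [IsZariskiLocalAtSource.iff_of_openCover (P := @LocallyOfFiniteType) (W.left.openCoverOfIsOpenCover V hcov)]
      exact fun u => haveI := hfin u; (inferInstanceAs (LocallyOfFiniteType ((V u).ι ≫ W.hom)))
    intro U B a b h ha hb _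
    obtain ⟨g, hg⟩ := (AlgSp.yon (Spec (CommRingCat.of k))).map_surjective (a ≫ e.inv)
    haveI : Etale g.left := (AlgSp.repWith_yon_map_iff (P := (@Etale : MorphismProperty Scheme.{u})) g).1 (by
      rw [hg]; exact MorphismProperty.RespectsIso.postcomp (P := AlgSp.RepWith (@Etale : MorphismProperty Scheme.{u})) _ _ ha)
    haveI : LocallyQuasiFinite g.left := AlgSpLib.locallyQuasiFinite_of_etale g.left
    haveI : LocallyQuasiFinite (h.left ≫ B.hom) := by rw [Over.w h, ← Over.w g]; infer_instance
    haveI : LocallyOfFiniteType (h.left ≫ B.hom) := by rw [Over.w h, ← Over.w g]; infer_instance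
    exact ⟨LocallyQuasiFinite.of_comp h.left B.hom, locallyOfFiniteType_of_comp h.left B.hom⟩

end Groth.Agent.S10483
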