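import Groth.Statements.S10484
import Groth.Agent.AlgSpRegLib.MonoLqf
import Groth.Agent.AlgSpLib.LocP
-- import your own Groth.Agent.* helpers here

set_option autoImplicit false
universe u
open CategoryTheory CategoryTheory.Limits AlgebraicGeometry Topology TopologicalSpace
open AlgSp

namespace Groth.Agent.S10484

/-- For a field k, local quasi-finiteness over k passes from the target Y of a monomorphism f : X ⟶ Y of
algebraic spaces over k to its source X. -/
theorem result (k : Type u) [Field k] {X Y : AlgSp.Space (Spec (CommRingCat.of k))} (f : X ⟶ Y)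
    [Mono f.hom] (q : Y.obj ⟶ (AlgSp.yon (Spec (CommRingCat.of k))).obj (Over.mk (𝟙 _))) (hq : AlgSp.LocP (@LocallyQuasiFinite ⊓ @LocallyOfFiniteType : MorphismProperty Scheme.{u}) q) :
    AlgSp.LocP (@LocallyQuasiFinite ⊓ @LocallyOfFiniteType : MorphismProperty Scheme.{u}) (f.hom ≫ q) := by
  haveI : AlgSpLib.EtLocProp (@LocallyQuasiFinite ⊓ @LocallyOfFiniteType : MorphismProperty Scheme.{u}) :=
    AlgSpLib.etLocProp_of_list (by simp)
  obtain ⟨V, b, hb, hbs⟩ := Y.property.atlas
  have sq := IsPullback.of_hasPullback f.hom b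
  obtain ⟨U, c, hc, hcs⟩ :=
    (AlgSpLib.isAlgSpace_pullback X.property (IsAlgSpace.yon_obj V) Y.property f.hom b).atlas
  obtain ⟨h, hh⟩ := (AlgSp.yon _).map_surjective (c ≫ pullback.snd f.hom b)
  obtain ⟨v, hv⟩ := (AlgSp.yon _).map_surjective (b ≫ q)
  have hVk := hq b (𝟙 _) v hb (repWith_id _ _) (by rw [Category.comp_id]; exact hv.symm)
  obtain ⟨R, p₁, p₂, sqR⟩ := AlgSpLib.exists_isPullback_yon c c hc.rep
  have hp : Etale p₁.left := AlgSpLib.etale_left (AlgSpLib.repWith_of_isPullback sqR.flip hc)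
  have sqH : IsPullback ((AlgSp.yon _).map p₁) ((AlgSp.yon _).map p₂) ((AlgSp.yon _).map h)
      ((AlgSp.yon _).map h) := by
    rw [hh]
    exact ⟨⟨by rw [← Category.assoc, sqR.w, Category.assoc]⟩, ⟨PullbackCone.IsLimit.mk _
      (fun s => sqR.lift s.fst s.snd ((cancel_mono (pullback.snd f.hom b)).1 (by
        rw [Category.assoc, Category.assoc]; exact s.condition)))
      (fun s => sqR.lift_fst _ _ _) (fun s => sqR.lift_snd _ _ _)
      (fun s m h1 h2 => sqR.hom_ext (by rw [sqR.lift_fst]; exact h1) (by rw [sqR.lift_snd]; exact h2))⟩⟩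
  have sqS := AlgSpLib.isPullback_left sqH
  haveI : Etale (pullback.fst h.left h.left) := by
    rw [← sqS.isoPullback_inv_fst]
    haveI := hp
    infer_instance
  haveI : LocallyQuasiFinite v.left := hVk.1
  haveI : LocallyOfFiniteType v.left := hVk.2
  have key : (@LocallyQuasiFinite ⊓ @LocallyOfFiniteType : MorphismProperty Scheme.{u}) (h ≫ v).left :=
    AlgSpRegLib.lqf_lft_of_etale_kernelPair h.left v.left
  refine AlgSpLib.locP_of_chart (P := (@LocallyQuasiFinite ⊓ @LocallyOfFiniteType : MorphismProperty Scheme.{u}))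
    (a₀ := c ≫ pullback.fst f.hom b) (b₀ := 𝟙 _) (h₀ := h ≫ v)
    (AlgSpLib.repWith_comp hc (AlgSpLib.repWith_of_isPullback sq.flip hb))
    (AlgSpLib.repWith_comp hcs (AlgSpLib.repWith_of_isPullback sq.flip hbs)) (repWith_id _ _) ?_ key
  rw [Category.comp_id, Functor.map_comp, hh, hv, Category.assoc, Category.assoc, pullback.condition_assoc]


end Groth.Agent.S10484
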