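import Groth.Statements.S10487
import Groth.Agent.S10485
import Groth.Agent.AlgSpGenFinLib.Basic
-- import your own Groth.Agent.* helpers here

set_option autoImplicit false
set_option backward.isDefEq.respectTransparency false
set_option backward.isDefEq.respectTransparency.types false
universe u
open CategoryTheory CategoryTheory.Limits AlgebraicGeometry Topology TopologicalSpace
open AlgSp

namespace Groth.Agent.S10487

/-- (3) ⇔ (5): let f : X ⟶ Y be a dominant morphism locally of finite type between integral algebraic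
spaces over a scheme S, with generic points x and y. Then there are nonempty affine opens U ⊂ X and
V ⊂ Y with f(U) ⊂ V and f|_U : U ⟶ V finite, if and only if x is the only point of X mapping to y. -/
theorem result {S : Scheme.{u}} {X Y : AlgSp.Space S} (hXi : AlgSp.IsIntegralSp X.obj) (hYi : AlgSp.IsIntegralSp Y.obj)
    (f : X ⟶ Y) (hft : AlgSp.LocP @LocallyOfFiniteType f.hom) (hd : AlgSp.IsDominantMor f.hom)
    (x : AlgSp.Points X.obj) (hx : IsGenericPoint x (Set.univ : Set (AlgSp.Points X.obj)))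
    (y : AlgSp.Points Y.obj) (hy : IsGenericPoint y (Set.univ : Set (AlgSp.Points Y.obj))) :
    (∃ (U V : Over S) (a : (AlgSp.yon S).obj U ⟶ X.obj) (b : (AlgSp.yon S).obj V ⟶ Y.obj) (g : U ⟶ V),
      IsAffine U.left ∧ IsAffine V.left ∧ Nonempty ↥U.left ∧
        AlgSp.RepWith @IsOpenImmersion a ∧ AlgSp.RepWith @IsOpenImmersion b ∧
          a ≫ f.hom = (AlgSp.yon S).map g ≫ b ∧ IsFinite g.left) ↔ (∀ x' : AlgSp.Points X.obj, AlgSp.Points.map f.hom x' = y → x' = x) := by
  constructor
  · rintro ⟨U, V, a, b, g, _, _, ⟨u⟩, ha, hb, e, hg⟩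
    haveI := hg
    have hu : x ∈ Set.range (AlgSp.Points.ofPt a) :=
      (hx.specializes (trivial : AlgSp.Points.ofPt a u ∈ Set.univ)).mem_open
        (AlgSpGenFinLib.isOpen_range_ofPt ha) ⟨u, rfl⟩
    obtain ⟨t, ht⟩ := hu
    refine (Groth.Agent.S10485.result hXi hYi f hft hd x hx y hy).1
      ⟨U, V, a, b, g, t, AlgSpLib.repWith_mono (Q := @Etale) (fun _ _ h (_ : IsOpenImmersion h) => inferInstance) ha,
        AlgSpLib.repWith_mono (Q := @Etale) (fun _ _ h (_ : IsOpenImmersion h) => inferInstance) hb, e, ht,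
        ⊤, trivial, inferInstance, inferInstance⟩
  · intro hu
    obtain ⟨U, V, a, b, g, hU, hV, ha, hb, e, hg, ⟨t, -⟩, -⟩ :=
      AlgSpGenFinLib.exists_finite_opens hXi.2.1 hYi.2.1 f hft hx hy
        (AlgSpLib.generic_map_eq Y.property hYi.2.1 hd hx hy) hu
    exact ⟨U, V, a, b, g, hU, hV, ⟨t⟩, ha, hb, e, hg⟩

end Groth.Agent.S10487
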