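import Groth.Statements.S10488
import Groth.Agent.S10485
import Groth.Agent.AlgSpGenFinLib.Basic
import Groth.Agent.AlgSpLib.Qc
import Groth.Agent.AlgSpLib.QcQs
-- import your own Groth.Agent.* helpers here

set_option autoImplicit false
set_option backward.isDefEq.respectTransparency false
set_option backward.isDefEq.respectTransparency.types false
universe u
open CategoryTheory CategoryTheory.Limits AlgebraicGeometry Topology TopologicalSpace
open AlgSp

namespace Groth.Agent.S10488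

theorem exists_open_disjoint_image_spec {A B : CommRingCat.{u}} (φ : A ⟶ B) (q : PrimeSpectrum A)
    (hq : closure ({q} : Set (PrimeSpectrum A)) = Set.univ) (Z : Set (PrimeSpectrum B)) (hZ : IsClosed Z)
    (hd : ∀ z ∈ Z, PrimeSpectrum.comap φ.hom z ≠ q) :
    ∃ W : Set (PrimeSpectrum A), IsOpen W ∧ q ∈ W ∧ ∀ z ∈ Z, PrimeSpectrum.comap φ.hom z ∉ W := by
  obtain ⟨I, rfl⟩ := (PrimeSpectrum.isClosed_iff_zeroLocus_ideal Z).1 hZ
  by_cases h : Disjoint (I : Set B) ((Submonoid.map φ.hom.toMonoidHom q.asIdeal.primeCompl : Submonoid B) : Set B)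
  · obtain ⟨p, hp, hIp, hdis⟩ := Ideal.exists_le_prime_disjoint I _ h
    refine absurd (le_antisymm ?_ ?_) (hd ⟨p, hp⟩ hIp)
    · rw [← PrimeSpectrum.asIdeal_le_asIdeal]
      intro r hr
      by_contra hrq
      exact Set.disjoint_left.1 hdis hr ⟨r, hrq, rfl⟩
    · rw [PrimeSpectrum.le_iff_mem_closure, hq]
      trivial
  · obtain ⟨_, hbI, r, hr, rfl⟩ := Set.not_disjoint_iff.1 h
    exact ⟨PrimeSpectrum.basicOpen r, (PrimeSpectrum.basicOpen r).2, hr, fun z hz hzW => hzW (hz hbI)⟩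

/-- A closed set avoiding the fibre over the generic point avoids the preimage of a nonempty open. -/
theorem exists_open_disjoint_image {T V : Scheme.{u}} [IsAffine T] [IsAffine V] (k : T ⟶ V) (v : ↥V)
    (hv : closure ({v} : Set ↥V) = Set.univ) (Z : Set ↥T) (hZ : IsClosed Z) (hd : ∀ z ∈ Z, k z ≠ v) :
    ∃ W : Set ↥V, IsOpen W ∧ v ∈ W ∧ ∀ z ∈ Z, k z ∉ W := by
  obtain ⟨φ, hφ⟩ := Spec.map_surjective (T.isoSpec.inv ≫ k ≫ V.isoSpec.hom)
  have hk : ∀ z, PrimeSpectrum.comap φ.hom (T.isoSpec.hom z) = V.isoSpec.hom (k z) := fun z => by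
    show (Spec.map φ) (T.isoSpec.hom z) = _
    rw [hφ, ← Scheme.Hom.comp_apply, Iso.hom_inv_id_assoc]
    rfl
  have hZ' : IsClosed (T.isoSpec.inv ⁻¹' Z) := hZ.preimage T.isoSpec.inv.continuous
  obtain ⟨W, hW, hvW, hd'⟩ := exists_open_disjoint_image_spec φ (V.isoSpec.hom v) (by
      have h := V.isoSpec.hom.homeomorph.image_closure {v}
      rw [hv, Set.image_univ, Set.image_singleton, V.isoSpec.hom.homeomorph.range_coe] at h
      exact h.symm) _ hZ' (fun z hz he => hd _ hz (by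
      apply V.isoSpec.hom.homeomorph.injective
      show V.isoSpec.hom (k (T.isoSpec.inv z)) = V.isoSpec.hom v
      rw [← hk, ← Scheme.Hom.comp_apply, Iso.inv_hom_id]
      exact he))
  refine ⟨V.isoSpec.hom ⁻¹' W, hW.preimage V.isoSpec.hom.continuous, hvW, fun z hz hzW => hd' (T.isoSpec.hom z) ?_ ?_⟩
  · show T.isoSpec.inv (T.isoSpec.hom z) ∈ Z
    rw [← Scheme.Hom.comp_apply, Iso.hom_inv_id]
    exact hz
  · rw [hk]
    exact hzW

/-- (5) ⇔ (6): let f : X ⟶ Y be a dominant morphism locally of finite type between integral algebraic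
spaces over a scheme S, with generic points x and y, and assume f separated or quasi-compact. Then x
is the only point of X mapping to y if and only if there is a nonempty affine open V ⊂ Y such that
f⁻¹(V) ⟶ V is finite. -/
theorem result {S : Scheme.{u}} {X Y : AlgSp.Space S} (hXi : AlgSp.IsIntegralSp X.obj) (hYi : AlgSp.IsIntegralSp Y.obj)
    (f : X ⟶ Y) (hft : AlgSp.LocP @LocallyOfFiniteType f.hom) (hd : AlgSp.IsDominantMor f.hom)
    (x : AlgSp.Points X.obj) (hx : IsGenericPoint x (Set.univ : Set (AlgSp.Points X.obj)))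
    (y : AlgSp.Points Y.obj) (hy : IsGenericPoint y (Set.univ : Set (AlgSp.Points Y.obj)))
    (hsq : AlgSp.IsSeparatedMor f.hom ∨ AlgSp.IsQuasiCompactMor f.hom) :
    (∀ x' : AlgSp.Points X.obj, AlgSp.Points.map f.hom x' = y → x' = x) ↔
      ∃ (V : Over S) (b : (AlgSp.yon S).obj V ⟶ Y.obj) (U : Over S) (g : U ⟶ V) (a : (AlgSp.yon S).obj U ⟶ X.obj),
        IsAffine V.left ∧ Nonempty ↥V.left ∧ AlgSp.RepWith @IsOpenImmersion b ∧
          IsPullback a ((AlgSp.yon S).map g) f.hom b ∧ IsAffine U.left ∧ IsFinite g.left := by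
  have hxy := AlgSpLib.generic_map_eq Y.property hYi.2.1 hd hx hy
  constructor
  swap
  · rintro ⟨V, b, U, g, a, _, ⟨v₀⟩, hb, sq, _, hg⟩
    haveI := hg
    obtain ⟨v, hv⟩ := (hy.specializes (trivial : AlgSp.Points.ofPt b v₀ ∈ Set.univ)).mem_open
      (AlgSpGenFinLib.isOpen_range_ofPt hb) ⟨v₀, rfl⟩
    obtain ⟨w, hw, -⟩ := AlgSpLib.exists_point_isPullback sq x (AlgSp.Points.ofScheme V v)
      (hxy.trans (hv.symm.trans (AlgSp.Points.ofPt_eq_map_ofScheme b v)))
    have ha : AlgSp.RepWith @IsOpenImmersion a := AlgSpLib.repWith_of_isPullback sq.flip hb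
    obtain ⟨t, rfl⟩ := (AlgSp.Points.schemeHomeo U).surjective w
    exact (Groth.Agent.S10485.result hXi hYi f hft hd x hx y hy).1
      ⟨U, V, a, b, g, t, AlgSpLib.repWith_mono (Q := @Etale) (fun _ _ h (_ : IsOpenImmersion h) => inferInstance) ha,
        AlgSpLib.repWith_mono (Q := @Etale) (fun _ _ h (_ : IsOpenImmersion h) => inferInstance) hb, sq.w,
        (AlgSp.Points.ofPt_eq_map_ofScheme a t).trans hw,
        ⊤, trivial, inferInstance, inferInstance⟩
  intro hu
  obtain ⟨U, V, a, b, g, hU, hV, ha, hb, e, hg, ⟨t, ht⟩, ⟨v, hv⟩⟩ :=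
    AlgSpGenFinLib.exists_finite_opens hXi.2.1 hYi.2.1 f hft hx hy hxy hu
  haveI := hU
  haveI := hV
  haveI := hg
  let P := pullback f.hom b
  have sq : IsPullback (pullback.fst f.hom b) (pullback.snd f.hom b) f.hom b := IsPullback.of_hasPullback _ _
  have hP : AlgSp.IsAlgSpace P :=
    AlgSpLib.isAlgSpace_pullback X.property (AlgSp.IsAlgSpace.yon_obj V) Y.property f.hom b
  -- an open of `V` whose preimage lies in `U`
  have hW : ∃ W : Set ↥V.left, IsOpen W ∧ v ∈ W ∧
      ∀ p : AlgSp.Points P, AlgSp.Points.map (pullback.snd f.hom b) p ∈ AlgSp.Points.ofScheme V '' W →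
        AlgSp.Points.map (pullback.fst f.hom b) p ∈ Set.range (AlgSp.Points.map a) := by
    rcases hsq with hs | hqc
    · let l : (AlgSp.yon S).obj U ⟶ P := pullback.lift a ((AlgSp.yon S).map g) e
      have hl : l ≫ pullback.snd f.hom b = (AlgSp.yon S).map g := pullback.lift_snd _ _ _
      have hl' : l ≫ pullback.fst f.hom b = a := pullback.lift_fst _ _ _
      have huc : AlgSp.IsUnivClosedMor l := by
        refine AlgSpLib.univClosed_of_comp (AlgSp.IsAlgSpace.yon_obj U) hP (AlgSp.IsAlgSpace.yon_obj V)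
          (AlgSpLib.repWith_diagonal_of_isPullback sq hs) ?_
        rw [hl]
        have hr : AlgSp.RepWith @UniversallyClosed ((AlgSp.yon S).map g) :=
          (repWith_yon_map_iff (P := @UniversallyClosed) g).2 inferInstance
        exact (AlgSpLib.isUnivClosedMor_iff_repWith (AlgSp.IsAlgSpace.yon_obj U) (AlgSp.IsAlgSpace.yon_obj V) hr.rep).1 hr
      have hcl : IsClosed (Set.range (AlgSp.Points.map l)) :=
        (huc hP (𝟙 P) (𝟙 _) l (IsPullback.of_horiz_isIso ⟨by simp⟩) : IsClosedMap (AlgSp.Points.map l)).isClosed_range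
      have hj : AlgSp.RepWith @IsOpenImmersion (pullback.fst f.hom b) := AlgSpLib.repWith_of_isPullback sq.flip hb
      haveI := AlgSpLib.mono_of_openImmersion hj
      have hemb : IsOpenEmbedding (AlgSp.Points.map (pullback.fst f.hom b)) :=
        .of_continuous_injective_isOpenMap (AlgSp.Points.continuous_map _) (AlgSpLib.injective_map_of_mono _)
          (AlgSpLib.isOpenMap_map_of_isEtaleMor hP (AlgSpLib.isEtaleMor_of_openImmersion hj))
      refine ⟨Set.univ, isOpen_univ, trivial, fun p _ => ?_⟩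
      let p₀ := AlgSp.Points.map l (AlgSp.Points.ofScheme U t)
      have hp₀ : AlgSp.Points.map (pullback.fst f.hom b) p₀ = x := by
        rw [← AlgSp.Points.map_comp, hl', ← AlgSp.Points.ofPt_eq_map_ofScheme, ht]
      have hp : p₀ ⤳ p := hemb.isInducing.specializes_iff.1 (by
        rw [hp₀]; exact hx.specializes trivial)
      obtain ⟨w, rfl⟩ := hp.mem_closed hcl ⟨_, rfl⟩
      exact ⟨w, by rw [← AlgSp.Points.map_comp, hl']⟩
    · obtain ⟨T, c, hT, -, hcs⟩ := AlgSpLib.exists_affine_chart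
        (AlgSpLib.isQuasiCompactSp_source (AlgSp.IsAlgSpace.yon_obj V)
          (AlgSpLib.isQuasiCompactMor_of_isPullback sq hqc) (AlgSpLib.isQuasiCompactSp_yon V))
      haveI := hT
      obtain ⟨k, hk⟩ := (AlgSp.yon S).map_surjective (c ≫ pullback.snd f.hom b)
      let Z : Set ↥T.left := {s | AlgSp.Points.ofPt (c ≫ pullback.fst f.hom b) s ∈ (Set.range (AlgSp.Points.map a))ᶜ}
      have hZ : IsClosed Z :=
        (((AlgSpLib.isOpenMap_map_of_isEtaleMor (AlgSp.IsAlgSpace.yon_obj U)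
          (AlgSpLib.isEtaleMor_of_openImmersion ha)).isOpen_range).isClosed_compl).preimage
            (AlgSp.Points.continuous_ofPt _)
      have hkf : ∀ s, AlgSp.Points.ofPt b (k.left s) =
          AlgSp.Points.map f.hom (AlgSp.Points.ofPt (c ≫ pullback.fst f.hom b) s) := fun s => by
        rw [← AlgSpLib.ofPt_yon_comp, hk, AlgSp.Points.map_ofPt, Category.assoc, Category.assoc, sq.w]
      obtain ⟨W, hW, hvW, hd'⟩ := exists_open_disjoint_image k.left v (AlgSpGenFinLib.closure_eq_univ hb hy hv) Z hZ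
        (fun s hs hsv => hs (by
          rw [hu _ ((hkf s).symm.trans ((congrArg _ hsv).trans hv)), ← AlgSpLib.range_ofPt]
          exact ⟨t, ht⟩))
      refine ⟨W, hW, hvW, fun p hpW => ?_⟩
      obtain ⟨q, rfl⟩ := AlgSpLib.map_surjective_of_repWith hcs p
      obtain ⟨s, rfl⟩ := (AlgSp.Points.schemeHomeo T).surjective q
      by_contra hp
      refine hd' s ?_ ?_
      · show AlgSp.Points.ofPt (c ≫ pullback.fst f.hom b) s ∈ (Set.range (AlgSp.Points.map a))ᶜ
        rw [AlgSp.Points.ofPt_eq_map_ofScheme, AlgSp.Points.map_comp]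
        exact hp
      · obtain ⟨w, hw, hwe⟩ := hpW
        have : w = k.left s := (AlgSp.Points.schemeEquiv V).injective (hwe.trans (by
          show AlgSp.Points.map (pullback.snd f.hom b) (AlgSp.Points.map c (AlgSp.Points.ofScheme T s)) = _
          rw [← AlgSp.Points.map_comp, ← hk]
          exact AlgSp.Points.map_yon_map_apply k s))
        exact this ▸ hw
  obtain ⟨W, hWo, hvW, hWU⟩ := hW
  obtain ⟨_, ⟨W', hW', rfl⟩, hvW', hW'W⟩ := V.left.isBasis_affineOpens.exists_subset_of_mem_open hvW hWo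
  have hW'a : IsAffineOpen W' := hW'
  haveI : IsFinite (g.left ∣_ W') := inferInstance
  refine ⟨Over.mk (Scheme.Opens.ι W' ≫ V.hom), (AlgSp.yon S).map (Over.homMk (Scheme.Opens.ι W') rfl) ≫ b,
    Over.mk ((g.left ⁻¹ᵁ W').ι ≫ U.hom), Over.homMk (g.left ∣_ W') (by
      show (g.left ∣_ W') ≫ Scheme.Opens.ι W' ≫ V.hom = (g.left ⁻¹ᵁ W').ι ≫ U.hom
      rw [morphismRestrict_ι_assoc, Over.w g]),
    (AlgSp.yon S).map (Over.homMk (g.left ⁻¹ᵁ W').ι rfl) ≫ a,
    hW'a, ⟨⟨v, hvW'⟩⟩, AlgSpGenFinLib.repWith_restrict hb _, ?_, hW'a.preimage g.left, (inferInstance : IsFinite (g.left ∣_ W'))⟩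
  refine AlgSpGenFinLib.isPullback_of_preimage (AlgSpGenFinLib.repWith_restrict ha _)
    (AlgSpGenFinLib.repWith_restrict hb _) ?_ ?_
  · rw [Category.assoc, e, ← Category.assoc, ← Category.assoc, ← Functor.map_comp, ← Functor.map_comp]
    congr 2
    ext : 1
    exact (morphismRestrict_ι g.left W').symm
  · intro z hz
    rw [Set.mem_preimage, AlgSpGenFinLib.range_restrict] at hz
    obtain ⟨w, hw, hwz⟩ := hz
    rw [AlgSpGenFinLib.range_restrict]
    obtain ⟨p, hp1, hp2⟩ := AlgSpLib.exists_point_isPullback sq z (AlgSp.Points.ofScheme V w)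
      (hwz.symm.trans (AlgSp.Points.ofPt_eq_map_ofScheme b w))
    obtain ⟨q, hq⟩ := hWU p ⟨w, hW'W hw, hp2.symm⟩
    obtain ⟨s, rfl⟩ := (AlgSp.Points.schemeHomeo U).surjective q
    have hsz : AlgSp.Points.ofPt a s = z := (AlgSp.Points.ofPt_eq_map_ofScheme a s).trans (hq.trans hp1)
    refine ⟨s, ?_, hsz⟩
    show g.left s ∈ W'
    have : g.left s = w := AlgSpGenFinLib.injective_ofPt hb (by
      rw [← AlgSpLib.ofPt_yon_comp, ← e, ← AlgSp.Points.map_ofPt, hsz, hwz])
    exact this ▸ hw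

end Groth.Agent.S10488
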