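import Groth.Statements.S10489
import Groth.Agent.AlgSpLib.SrcFppf
-- import your own Groth.Agent.* helpers here

set_option autoImplicit false
universe u
open CategoryTheory CategoryTheory.Limits AlgebraicGeometry Topology TopologicalSpace
open AlgSp

namespace Groth.Agent.S10489

/-- Let k be a field and X an algebraic space which is smooth over k. Then X is regular as an algebraic
space. -/
theorem result (k : Type u) [Field k] (X : AlgSp.Space (Spec (CommRingCat.of k))) (p : X.obj ⟶ (AlgSp.yon (Spec (CommRingCat.of k))).obj (Over.mk (𝟙 _))) (hp : AlgSp.LocP @Smooth p) :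
    AlgSp.EtaleLocally (fun U => IsLocallyNoetherian U ∧ ∀ u : ↥U, IsRegularLocalRing ↥(U.presheaf.stalk u)) X.obj := by
  obtain ⟨U, a, ha, has⟩ := X.property.atlas
  obtain ⟨φ, hφ⟩ := (AlgSp.yon (Spec (CommRingCat.of k))).map_surjective (a ≫ p)
  haveI : Smooth φ.left := hp a (𝟙 _) φ ha (repWith_id _ _) (by rw [Category.comp_id]; exact hφ.symm)
  refine ⟨U, a, ha, has, AlgSpLib.isReg_of_smooth φ.left ⟨inferInstanceAs (IsLocallyNoetherian (Spec (CommRingCat.of k))), fun x => ?_⟩⟩
  exact IsRegularLocalRing.of_ringEquiv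
    (AlgebraicGeometry.StructureSheaf.stalkIso k x).toRingEquiv


end Groth.Agent.S10489
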