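import Groth.Statements.S11166
import Groth.Agent.InjRepLib.QCoh
import Groth.Agent.InjRepLib.QHom

set_option autoImplicit false
set_option backward.isDefEq.respectTransparency false
set_option backward.isDefEq.respectTransparency.types false
set_option backward.isDefEq.respectTransparency false
set_option backward.isDefEq.respectTransparency.types false
set_option maxHeartbeats 1000000
set_option linter.style.haveILetI false
universe u
open CategoryTheory CategoryTheory.Limits AlgebraicGeometry
attribute [local instance] HasDerivedCategory.standard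
open Coherent

namespace Groth.Agent.S11166

theorem thick_top (X : Scheme.{u}) [IsLocallyNoetherian X]
    [ObjectProperty.ContainsZero (fun M : X.Modules => Coh.IsQCoh M)] [ObjectProperty.IsClosedUnderKernels (fun M : X.Modules => Coh.IsQCoh M)]
    [ObjectProperty.IsClosedUnderCokernels (fun M : X.Modules => Coh.IsQCoh M)] [ObjectProperty.IsClosedUnderFiniteProducts (fun M : X.Modules => Coh.IsQCoh M)]
    [PreservesFiniteLimits (ObjectProperty.ι (fun M : X.Modules => Coh.IsQCoh M))] [PreservesFiniteColimits (ObjectProperty.ι (fun M : X.Modules => Coh.IsQCoh M))] :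
    InjRepLib.Thick (fun _ : ObjectProperty.FullSubcategory (fun M : X.Modules => Coh.IsQCoh M) => True)
      (fun J => Injective J) where
  zero _ _ := trivial
  iso _ _ := trivial
  coker _ _ _ := trivial
  ext _ _ _ := trivial
  zero' M hM := hM.injective
  iso' e h := Injective.of_iso e h
  env {E D} i _ _ := by
    haveI : Coh.IsQCoh E.obj := E.property
    obtain ⟨J, m, hm, hJ, hi⟩ := InjModLib.exists_injective_qcoh_envelope E.obj
    let G := ObjectProperty.ι (fun M : X.Modules => Coh.IsQCoh M)
    haveI := hi
    haveI : Mono (G.map i) := inferInstance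
    refine ⟨⟨J, hJ⟩, ObjectProperty.homMk (Injective.factorThru m (G.map i)), G.mono_of_mono_map ?_, trivial,
      ⟨fun {A B} g f _ => ⟨ObjectProperty.homMk (Injective.factorThru g.hom (G.map f)), ObjectProperty.hom_ext _ ?_⟩⟩⟩
    · show Mono (G.map i ≫ Injective.factorThru m (G.map i))
      rw [Injective.comp_factorThru]; exact hm
    · exact Injective.comp_factorThru g.hom (G.map f)

/-- Fully faithful functors reflect homotopies. -/
noncomputable def descHomotopy {A B : Type*} [Category A] [Category B] [Preadditive A] [Preadditive B] (G : A ⥤ B)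
    [G.Additive] [G.Full] [G.Faithful] {C D : CochainComplex A ℤ} (f g : C ⟶ D)
    (H : Homotopy ((G.mapHomologicalComplex _).map f) ((G.mapHomologicalComplex _).map g)) : Homotopy f g where
  hom i j := G.preimage (H.hom i j)
  zero i j h := G.map_injective (by rw [G.map_preimage, H.zero i j h, G.map_zero])
  comm i := G.map_injective (by
    refine (H.comm i).trans ?_
    simp only [dNext_eq _ (show (ComplexShape.up ℤ).Rel i (i + 1) by simp),
      prevD_eq _ (show (ComplexShape.up ℤ).Rel (i - 1) i by simp), G.map_add, G.map_comp, G.map_preimage]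
    rfl)

/-- Fully faithful functors are full on complexes. -/
theorem exists_map_eq {A B : Type*} [Category A] [Category B] [Preadditive A] [Preadditive B] (G : A ⥤ B)
    [G.Additive] [G.Full] [G.Faithful] {C D : CochainComplex A ℤ}
    (k : (G.mapHomologicalComplex _).obj C ⟶ (G.mapHomologicalComplex _).obj D) :
    ∃ f : C ⟶ D, (G.mapHomologicalComplex _).map f = k :=
  ⟨{ f := fun i => G.preimage (k.f i)
     comm' := fun i j h => G.map_injective (by simpa using k.comm i j) },
    HomologicalComplex.hom_ext _ _ fun i => G.map_preimage _⟩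

/-- For a locally Noetherian scheme X the natural functor D⁺(QCoh(X)) ⥤ D⁺_qc(O_X) is an equivalence:
granting that quasi-coherent modules form an abelian full subcategory of all O_X-modules with exact
inclusion (instance hypotheses that always hold), the induced functor D(QCoh(X)) ⥤ D(O_X) is fully
faithful on cohomologically bounded below objects, and every object of D(O_X) with Hⁱ = 0 for i < a
and quasi-coherent cohomology sheaves is isomorphic to the image of an object of D(QCoh(X)) with Hⁱ
= 0 for i < a. -/
theorem result (X : Scheme.{u}) [IsLocallyNoetherian X]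
    [ObjectProperty.ContainsZero (fun M : X.Modules => Coh.IsQCoh M)] [ObjectProperty.IsClosedUnderKernels (fun M : X.Modules => Coh.IsQCoh M)]
    [ObjectProperty.IsClosedUnderCokernels (fun M : X.Modules => Coh.IsQCoh M)] [ObjectProperty.IsClosedUnderFiniteProducts (fun M : X.Modules => Coh.IsQCoh M)]
    [PreservesFiniteLimits (ObjectProperty.ι (fun M : X.Modules => Coh.IsQCoh M))] [PreservesFiniteColimits (ObjectProperty.ι (fun M : X.Modules => Coh.IsQCoh M))] :
    (∀ (M N : DerivedCategory (ObjectProperty.FullSubcategory (fun M : X.Modules => Coh.IsQCoh M))) (a b : ℤ), M.IsGE a → N.IsGE b →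
        Function.Bijective (fun f : M ⟶ N => (ObjectProperty.ι (fun M : X.Modules => Coh.IsQCoh M)).mapDerivedCategory.map f)) ∧
      ∀ (K : DCoh.D X) (a : ℤ), K.IsGE a → DCoh.IsQCohD K →
        ∃ M : DerivedCategory (ObjectProperty.FullSubcategory (fun M : X.Modules => Coh.IsQCoh M)), M.IsGE a ∧
          Nonempty ((ObjectProperty.ι (fun M : X.Modules => Coh.IsQCoh M)).mapDerivedCategory.obj M ≅ K) := by
  let P : ObjectProperty X.Modules := fun M : X.Modules => Coh.IsQCoh M
  let G := ObjectProperty.ι P
  let GC := G.mapHomologicalComplex (ComplexShape.up ℤ)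
  let fac := fun C => G.mapDerivedCategoryFactors.app C
  have hnat : ∀ {C C' : CochainComplex P.FullSubcategory ℤ} (g : C ⟶ C'),
      G.mapDerivedCategory.map (DerivedCategory.Q.map g) =
        (fac C).hom ≫ DerivedCategory.Q.map (GC.map g) ≫ (fac C').inv := fun g => by
    rw [← Category.assoc]
    exact (Iso.eq_comp_inv (fac _)).2 (G.mapDerivedCategoryFactors.hom.naturality g)
  constructor
  · intro M N a b _ hN
    haveI := hN
    obtain ⟨K, _, ⟨eK⟩⟩ := N.exists_iso_Q_obj_of_isGE b
    obtain ⟨J, ρ, _, hJge, hJX⟩ := InjRepLib.exists_injective_model (thick_top X) K b (fun _ => trivial)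
    haveI := hJge
    haveI : ∀ n, Injective (J.X n) := fun n => (hJX n).2
    haveI : J.IsKInjective := CochainComplex.isKInjective_of_injective J (b - 1)
    haveI : CochainComplex.IsKInjective (GC.obj J) := by
      haveI : ∀ n, Injective ((GC.obj J).X n) := fun n => InjModLib.injective_of_injective_qcoh (J.X n) (hJX n).2
      haveI : CochainComplex.IsStrictlyGE (GC.obj J) (b - 1) :=
        ⟨fun i hi => G.map_isZero (J.isZero_X_of_isStrictlySupported (ComplexShape.embeddingUpIntGE (b - 1)) i hi)⟩
      exact CochainComplex.isKInjective_of_injective _ (b - 1)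
    let eN : DerivedCategory.Q.obj J ≅ N := (asIso (DerivedCategory.Q.map ρ)).symm ≪≫ eK.symm
    let C := DerivedCategory.Q.objPreimage M
    let eM : DerivedCategory.Q.obj C ≅ M := DerivedCategory.Q.objObjPreimageIso M
    refine ⟨fun f g h => ?_, fun h => ?_⟩
    · have h : G.mapDerivedCategory.map f = G.mapDerivedCategory.map g := h
      obtain ⟨f', hf⟩ := DerLibQ.exists_Q_map_eq (eM.hom ≫ f ≫ eN.inv)
      obtain ⟨g', hg⟩ := DerLibQ.exists_Q_map_eq (eM.hom ≫ g ≫ eN.inv)
      have h2 : DerivedCategory.Q.map (GC.map f') = DerivedCategory.Q.map (GC.map g') := by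
        have h3 : G.mapDerivedCategory.map (DerivedCategory.Q.map f') = G.mapDerivedCategory.map (DerivedCategory.Q.map g') := by
          rw [hf, hg]; simp only [Functor.map_comp, h]
        rw [hnat, hnat] at h3
        exact (cancel_mono (fac J).inv).1 ((cancel_epi (fac C).hom).1 h3)
      obtain ⟨H⟩ := DerLibQ.homotopyOfQ h2
      have h4 := DerivedCategory.Q_map_eq_of_homotopy _ (descHomotopy G f' g' H)
      rw [hf, hg, cancel_epi, cancel_mono] at h4
      exact h4
    · obtain ⟨k, hk⟩ := DerLibQ.exists_Q_map_eq
        ((fac C).inv ≫ (G.mapDerivedCategory.map eM.hom ≫ h ≫ G.mapDerivedCategory.map eN.inv) ≫ (fac J).hom)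
      obtain ⟨f', hf'⟩ := exists_map_eq G k
      refine ⟨eM.inv ≫ DerivedCategory.Q.map f' ≫ eN.hom, ?_⟩
      show G.mapDerivedCategory.map (eM.inv ≫ DerivedCategory.Q.map f' ≫ eN.hom) = h
      rw [Functor.map_comp, Functor.map_comp, hnat, hf', hk]
      simp [← Functor.map_comp, ← Functor.map_comp_assoc]
      exact Category.comp_id h
  · intro K a hKa hKq
    obtain ⟨J, _, hJX, ⟨eJ⟩⟩ := InjRepLib.exists_qcoh_injective_model K hKq a ((DerivedCategory.isGE_iff K a).1 hKa)
    let J' : CochainComplex P.FullSubcategory ℤ :=
      { X := fun n => ⟨J.X n, (hJX n).1⟩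
        d := fun i j => ObjectProperty.homMk (J.d i j)
        shape := fun i j h => ObjectProperty.hom_ext _ (J.shape i j h)
        d_comp_d' := fun i j k _ _ => ObjectProperty.hom_ext _ (J.d_comp_d i j k) }
    let α : GC.obj J' ≅ J := HomologicalComplex.Hom.isoOfComponents (fun _ => Iso.refl _) (fun i j _ => by
      show 𝟙 _ ≫ J.d i j = J.d i j ≫ 𝟙 _
      rw [Category.id_comp, Category.comp_id])
    let e : G.mapDerivedCategory.obj (DerivedCategory.Q.obj J') ≅ K := fac J' ≪≫ DerivedCategory.Q.mapIso α ≪≫ eJ
    refine ⟨DerivedCategory.Q.obj J', (DerivedCategory.isGE_Q_obj_iff _ _).2 ?_, ⟨e⟩⟩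
    rw [CochainComplex.isGE_iff]
    intro i hi
    rw [HomologicalComplex.exactAt_iff, ← ShortComplex.exact_map_iff_of_faithful _ G]
    have hz : ((GC.obj J')).ExactAt i := (HomologicalComplex.exactAt_iff_isZero_homology _ _).2
      (((DerivedCategory.isGE_iff K a).1 hKa i hi).of_iso (((DerivedCategory.homologyFunctorFactors _ i).app _).symm ≪≫
        (DerivedCategory.homologyFunctor _ i).mapIso (DerivedCategory.Q.mapIso α ≪≫ eJ)))
    exact (HomologicalComplex.exactAt_iff _ _).1 hz

end Groth.Agent.S11166
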