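import Groth.Statements.S1049
import Groth.Agent.InjRepLib.Coh
import Groth.Agent.S11166
import Groth.Agent.ExactHpLib.QCat
import Groth.Agent.DescLib.FF

set_option autoImplicit false
set_option backward.isDefEq.respectTransparency false
set_option backward.isDefEq.respectTransparency.types false
set_option backward.isDefEq.respectTransparency false
set_option backward.isDefEq.respectTransparency.types false
set_option linter.style.haveILetI false
universe u
open CategoryTheory CategoryTheory.Limits AlgebraicGeometry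
attribute [local instance] HasDerivedCategory.standard
open Perf

namespace Groth.Agent.S1049

section
universe v₁ v₂ u₁ u₂
variable {A : Type u₁} [Category.{v₁} A] [Abelian A] {B : Type u₂} [Category.{v₂} B] [Abelian B]
  (G : A ⥤ B) [G.Additive] [PreservesFiniteLimits G] [PreservesFiniteColimits G]

theorem isGE_of_iso {K L : DerivedCategory A} (e : K ≅ L) (a : ℤ) (h : K.IsGE a) : L.IsGE a :=
  (DerivedCategory.isGE_iff L a).2 fun i hi =>
    ((DerivedCategory.isGE_iff K a).1 h i hi).of_iso ((DerivedCategory.homologyFunctor A i).mapIso e.symm)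

theorem isLE_of_iso {K L : DerivedCategory A} (e : K ≅ L) (a : ℤ) (h : K.IsLE a) : L.IsLE a :=
  (DerivedCategory.isLE_iff L a).2 fun i hi =>
    ((DerivedCategory.isLE_iff K a).1 h i hi).of_iso ((DerivedCategory.homologyFunctor A i).mapIso e.symm)

theorem isGE_map (M : DerivedCategory A) (a : ℤ) (h : M.IsGE a) : (G.mapDerivedCategory.obj M).IsGE a :=
  (DerivedCategory.isGE_iff _ a).2 fun i hi =>
    (G.map_isZero ((DerivedCategory.isGE_iff M a).1 h i hi)).of_iso ((DerLib.ExactHomology.homologyIso G i).app M)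

theorem isGE_reflect [G.Faithful] (M : DerivedCategory A) (a : ℤ) (h : (G.mapDerivedCategory.obj M).IsGE a) : M.IsGE a :=
  (DerivedCategory.isGE_iff _ a).2 fun i hi => (IsZero.iff_id_eq_zero _).2 (G.map_injective
    ((((DerivedCategory.isGE_iff _ a).1 h i hi).of_iso ((DerLib.ExactHomology.homologyIso G i).app M).symm).eq_of_src _ _))

theorem isLE_reflect [G.Faithful] (M : DerivedCategory A) (a : ℤ) (h : (G.mapDerivedCategory.obj M).IsLE a) : M.IsLE a :=
  (DerivedCategory.isLE_iff _ a).2 fun i hi => (IsZero.iff_id_eq_zero _).2 (G.map_injective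
    ((((DerivedCategory.isLE_iff _ a).1 h i hi).of_iso ((DerLib.ExactHomology.homologyIso G i).app M).symm).eq_of_src _ _))

end

theorem bijective_of_iso {C D : Type*} [Category C] [Category D] {F F' : C ⥤ D} (e : F ≅ F') {M N : C}
    (h : Function.Bijective (fun φ : M ⟶ N => F.map φ)) : Function.Bijective (fun φ : M ⟶ N => F'.map φ) := by
  have : (fun φ : M ⟶ N => F'.map φ) = (fun g => e.inv.app M ≫ g ≫ e.hom.app N) ∘ fun φ => F.map φ :=
    funext fun φ => (NatIso.naturality_1 e φ).symm
  rw [this]
  exact Function.Bijective.comp ⟨fun g g' hh => (cancel_mono (e.hom.app N)).1 ((cancel_epi (e.inv.app M)).1 hh),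
    fun g => ⟨e.hom.app M ≫ g ≫ e.inv.app N, by simp⟩⟩ h

/-- Let X be a Noetherian scheme. Granting that coherent modules contain zero and are closed under
kernels, cokernels and finite products in all O_X-modules, with exact inclusion (true on a
Noetherian scheme, carried as instance hypotheses; they make Coh(O_X) an abelian category), the
induced functor D(Coh(O_X)) ⥤ D(O_X) is fully faithful on bounded objects, and a bounded object of
D(O_X) with coherent cohomology sheaves is isomorphic to the image of a bounded object of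
D(Coh(O_X)). -/
theorem result (X : Scheme.{u}) [IsNoetherian X]
    [ObjectProperty.ContainsZero (fun M : X.Modules => Coh.IsCoh M)] [ObjectProperty.IsClosedUnderKernels (fun M : X.Modules => Coh.IsCoh M)]
    [ObjectProperty.IsClosedUnderCokernels (fun M : X.Modules => Coh.IsCoh M)] [ObjectProperty.IsClosedUnderFiniteProducts (fun M : X.Modules => Coh.IsCoh M)]
    [PreservesFiniteLimits (ObjectProperty.ι (fun M : X.Modules => Coh.IsCoh M))] [PreservesFiniteColimits (ObjectProperty.ι (fun M : X.Modules => Coh.IsCoh M))] :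
    (∀ (M N : DerivedCategory (ObjectProperty.FullSubcategory (fun M : X.Modules => Coh.IsCoh M))) (a b : ℤ), M.IsGE a → M.IsLE b → N.IsGE a → N.IsLE b →
      Function.Bijective (fun φ : M ⟶ N => (ObjectProperty.ι (fun M : X.Modules => Coh.IsCoh M)).mapDerivedCategory.map φ)) ∧
    ∀ (K : DCoh.D X) (a b : ℤ), K.IsGE a → K.IsLE b → DCoh.IsCohD K →
      ∃ M : DerivedCategory (ObjectProperty.FullSubcategory (fun M : X.Modules => Coh.IsCoh M)), M.IsGE a ∧ M.IsLE b ∧
        Nonempty ((ObjectProperty.ι (fun M : X.Modules => Coh.IsCoh M)).mapDerivedCategory.obj M ≅ K) := by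
  let P : ObjectProperty X.Modules := fun M => Coh.IsQCoh M
  haveI : P.ContainsZero := ExactHpLib.containsZero X
  haveI : P.IsClosedUnderKernels := ExactHpLib.closedKer X
  haveI : P.IsClosedUnderCokernels := ExactHpLib.closedCoker X
  haveI : P.IsClosedUnderFiniteProducts := ExactHpLib.closedFin X
  haveI : PreservesFiniteLimits P.ι := (ExactHpLib.exact_ι X).1
  haveI : PreservesFiniteColimits P.ι := (ExactHpLib.exact_ι X).2
  let Q : ObjectProperty X.Modules := fun M => Coh.IsCoh M
  let G : Q.FullSubcategory ⥤ P.FullSubcategory := ObjectProperty.lift P Q.ι (fun M => M.property.1)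
  haveI : G.Full := ⟨fun {A B} f => ⟨ObjectProperty.homMk f.hom, rfl⟩⟩
  haveI : G.Faithful := ⟨fun {A B f g} h => ObjectProperty.hom_ext _ (congrArg (fun k => k.hom) h :)⟩
  haveI : G.Additive := ⟨fun {A B f g} => rfl⟩
  let gι : G ⋙ P.ι ≅ Q.ι := Iso.refl _
  haveI : PreservesFiniteLimits (G ⋙ P.ι) := preservesFiniteLimits_of_natIso gι.symm
  haveI : PreservesFiniteColimits (G ⋙ P.ι) := preservesFiniteColimits_of_natIso gι.symm
  haveI : PreservesFiniteLimits G := ⟨fun J _ _ => preservesLimitsOfShape_of_reflects_of_preserves G P.ι⟩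
  haveI : PreservesFiniteColimits G := ⟨fun J _ _ => preservesColimitsOfShape_of_reflects_of_preserves G P.ι⟩
  let ε : G.mapDerivedCategory ⋙ P.ι.mapDerivedCategory ≅ Q.ι.mapDerivedCategory := Groth.DescLib.mapDerivedCompIso G P.ι
  obtain ⟨hff, hess⟩ := S11166.result X
  have hess' : ∀ M : P.FullSubcategory, Coh.IsCoh M.obj → ∃ b, Nonempty (G.obj b ≅ M) :=
    fun M hM => ⟨⟨M.obj, hM⟩, ⟨Iso.refl _⟩⟩
  constructor
  · intro M N a b hMa hMb hNa _
    have h1 := InjRepLib.bijective_of_le G (InjRepLib.coThick_coh X) (fun b => b.property) hess' M N b hMb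
    have h2 := hff _ _ a a (isGE_map G M a hMa) (isGE_map G N a hNa)
    exact bijective_of_iso ε (h2.comp h1)
  · intro K a b hKa hKb hKc
    obtain ⟨M₀, hM₀, ⟨e₀⟩⟩ := hess K a hKa fun n => (hKc n).1
    have hcoh : ∀ n, Coh.IsCoh ((DerivedCategory.homologyFunctor P.FullSubcategory n).obj M₀).obj := fun n =>
      QCohLib.isCoh_of_iso ((DerivedCategory.homologyFunctor X.Modules n).mapIso e₀.symm ≪≫
        (DerLib.ExactHomology.homologyIso P.ι n).app M₀) (hKc n)
    obtain ⟨M, hMb, ⟨e⟩⟩ := InjRepLib.exists_of_le G (InjRepLib.coThick_coh X) hess' M₀ b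
      (isLE_reflect P.ι M₀ b (isLE_of_iso e₀.symm b hKb)) hcoh
    refine ⟨M, isGE_reflect G M a (isGE_of_iso e.symm a hM₀), hMb,
      ⟨(ε.app M).symm ≪≫ P.ι.mapDerivedCategory.mapIso e ≪≫ e₀⟩⟩

end Groth.Agent.S1049
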