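import Groth.Statements.S10490
import Groth.Agent.AlgSpLib.Points
import Groth.Agent.S1550
-- import your own Groth.Agent.* helpers here

set_option autoImplicit false
universe u
open CategoryTheory CategoryTheory.Limits AlgebraicGeometry Topology TopologicalSpace
open AlgSp

namespace Groth.Agent.S10490

/-- Let k be a field and X an algebraic space smooth over k. Then the points of X which are images of
morphisms Spec k' ⟶ X over k with k' a finite separable extension of k form a dense subset of |X|. -/
theorem result (k : Type u) [Field k] (X : AlgSp.Space (Spec (CommRingCat.of k))) (p : X.obj ⟶ (AlgSp.yon (Spec (CommRingCat.of k))).obj (Over.mk (𝟙 _))) (hp : AlgSp.LocP @Smooth p) :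
    Dense {x : AlgSp.Points X.obj | ∃ (k' : Type u) (_ : Field k') (_ : Algebra k k'),
      Module.Finite k k' ∧ Algebra.IsSeparable k k' ∧
        ∃ v : X.obj.obj.obj (Opposite.op (Over.mk (Spec.map (CommRingCat.ofHom (algebraMap k k'))))),
          AlgSp.Points.mk ⟨k', Spec.map (CommRingCat.ofHom (algebraMap k k')), v⟩ = x} := by
  rw [dense_iff_inter_open]
  rintro W hW ⟨x, hxW⟩
  obtain ⟨U, a, ha, has⟩ := X.property.atlas
  obtain ⟨φ, hφ⟩ := (AlgSp.yon (Spec (CommRingCat.of k))).map_surjective (a ≫ p)
  have hsm : Smooth φ.left := hp a (𝟙 _) φ ha (repWith_id _ _) (by rw [Category.comp_id]; exact hφ.symm)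
  letI : U.left.Over (Spec (CommRingCat.of k)) := ⟨φ.left⟩
  haveI : Smooth (U.left ↘ Spec (CommRingCat.of k)) := hsm
  obtain ⟨u₀, rfl⟩ := AlgSpLib.surjective_ofPt has x
  obtain ⟨u, huW, -, hfin, hsep⟩ := dense_iff_inter_open.1 (Groth.Agent.S1550.result k U.left) _
    (hW.preimage (AlgSp.Points.continuous_ofPt a)) ⟨u₀, hxW⟩
  letI := Curv2.resAlgebra k U.left u
  refine ⟨AlgSp.Points.ofPt a u, huW, U.left.residueField u, inferInstance, inferInstance, hfin, hsep, ?_⟩
  have hw : φ.left = U.hom := (Category.comp_id _).symm.trans (Over.w φ)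
  have hc : Spec.map (CommRingCat.ofHom (algebraMap k (U.left.residueField u))) =
      U.left.fromSpecResidueField u ≫ U.hom := by
    rw [← hw]
    have hc : CommRingCat.ofHom (algebraMap k (U.left.residueField u)) =
        (Scheme.ΓSpecIso (CommRingCat.of k)).inv ≫ φ.left.appTop ≫ U.left.presheaf.germ ⊤ u trivial ≫
          U.left.residue u := rfl
    rw [hc, Spec.map_comp, Spec.map_comp, Spec.map_comp]
    show _ = (Spec.map (U.left.residue u) ≫ U.left.fromSpecStalk u) ≫ φ.left
    simp only [Category.assoc]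
    congr 1
    rw [← Scheme.fromSpecStalk_toSpecΓ_assoc, ← Scheme.toSpecΓ_naturality_assoc]
    simp [toSpecΓ_SpecMap_ΓSpecIso_inv]
  rw [hc]
  exact ⟨_, rfl⟩


end Groth.Agent.S10490
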