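import Groth.Statements.S10491
import Groth.Agent.AlgSpLib.Noeth
-- import your own Groth.Agent.* helpers here

set_option autoImplicit false
universe u
open CategoryTheory CategoryTheory.Limits AlgebraicGeometry Topology TopologicalSpace
open AlgSp

namespace Groth.Agent.S10491

/-- Let X be an algebraic space over a scheme S which is locally Noetherian, and T ⊂ |X| a closed
subset. Then every point of |X| has a neighbourhood meeting only finitely many irreducible
components of T. -/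
theorem result {S : Scheme.{u}} (X : AlgSp.Space S)
    (hX : AlgSp.IsLocNoethSp X.obj) (T : Set (AlgSp.Points X.obj)) (hT : IsClosed T) :
    LocallyFinite (fun Z : ↥(irreducibleComponents ↥T) => ((↑) : ↥T → AlgSp.Points X.obj) '' (Z : Set ↥T)) := by
  intro x
  obtain ⟨W, hW, hxW, hN⟩ := AlgSpLib.exists_noetherian_nhd X.property hX x
  haveI := hN
  refine ⟨W, hW.mem_nhds hxW, ?_⟩
  let f : ↥((Subtype.val : ↥T → AlgSp.Points X.obj) ⁻¹' W) → ↥T := Subtype.val
  have hf : Topology.IsOpenEmbedding f := (hW.preimage continuous_subtype_val).isOpenEmbedding_subtypeVal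
  haveI : NoetherianSpace ↥((Subtype.val : ↥T → AlgSp.Points X.obj) ⁻¹' W) :=
    Topology.IsInducing.noetherianSpace (i := fun z => (⟨(z.1 : AlgSp.Points X.obj), z.2⟩ : ↥W)) (by
      have h1 : Topology.IsInducing
          (((↑) : ↥T → AlgSp.Points X.obj) ∘ f) := Topology.IsInducing.subtypeVal.comp Topology.IsInducing.subtypeVal
      exact (Topology.IsInducing.subtypeVal (t := W)).of_comp_iff.mp h1)
  have hne : ∀ Z : ↥(irreducibleComponents ↥T),
      (((↑) : ↥T → AlgSp.Points X.obj) '' (Z : Set ↥T) ∩ W).Nonempty → ((Z : Set ↥T) ∩ Set.range f).Nonempty := by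
    rintro Z ⟨_, ⟨z, hz, rfl⟩, hzW⟩
    exact ⟨z, hz, ⟨z, hzW⟩, rfl⟩
  let g : {Z : ↥(irreducibleComponents ↥T) | (((↑) : ↥T → AlgSp.Points X.obj) '' (Z : Set ↥T) ∩ W).Nonempty} →
      ↥(irreducibleComponents ↥((Subtype.val : ↥T → AlgSp.Points X.obj) ⁻¹' W)) := fun Z =>
    ⟨f ⁻¹' (Z.1 : Set ↥T), preimage_mem_irreducibleComponents Z.1.2 hf (hne Z.1 Z.2)⟩
  haveI := (NoetherianSpace.finite_irreducibleComponents
    (α := ↥((Subtype.val : ↥T → AlgSp.Points X.obj) ⁻¹' W))).to_subtype
  refine Set.finite_coe_iff.mp (Finite.of_injective g fun Z Z' h => ?_)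
  have key : ∀ V : ↥{Z : ↥(irreducibleComponents ↥T) | (((↑) : ↥T → AlgSp.Points X.obj) '' (Z : Set ↥T) ∩ W).Nonempty},
      closure (f '' (f ⁻¹' (V.1 : Set ↥T))) = (V.1 : Set ↥T) := fun V => by
    obtain ⟨z, hz, w, rfl⟩ := hne V.1 V.2
    exact closure_image_preimage_of_isPreirreducible f hf.isOpenMap _ ⟨w, hz⟩ V.1.2.1.2
      (isClosed_of_mem_irreducibleComponents _ V.1.2)
  have h' : f ⁻¹' (Z.1 : Set ↥T) = f ⁻¹' (Z'.1 : Set ↥T) := congrArg Subtype.val h
  exact Subtype.ext (Subtype.ext (by rw [← key Z, ← key Z', h']))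


end Groth.Agent.S10491
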