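import Groth.Statements.S10492
import Groth.Agent.AlgSpLib.CodimZero
import Groth.Agent.AlgSpLib.DecentTop
import Groth.Agent.SpectralQuot.DecentSober
import Mathlib.RingTheory.LocalProperties.IntegrallyClosed
-- import your own Groth.Agent.* helpers here

set_option autoImplicit false
universe u
open CategoryTheory CategoryTheory.Limits AlgebraicGeometry Topology TopologicalSpace
open AlgSp

namespace Groth.Agent.S10492

/-- Let X be a normal integral algebraic space over a scheme S. Each point x of X lies in the image of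
some etale morphism U ⟶ X from an affine scheme U that is normal and integral. -/
theorem result {S : Scheme.{u}} (X : AlgSp.Space S)
    (hXi : AlgSp.IsIntegralSp X.obj)
    (hXn : AlgSp.EtaleLocally (fun U => ∀ u : ↥U, IsDomain ↥(U.presheaf.stalk u) ∧
      IsIntegrallyClosed ↥(U.presheaf.stalk u)) X.obj)
    (x : AlgSp.Points X.obj) :
    ∃ (U : Over S) (a : (AlgSp.yon S).obj U ⟶ X.obj), AlgSp.RepWith @Etale a ∧ IsAffine U.left ∧
      IsIntegral U.left ∧ IsIntegrallyClosed ↥Γ(U.left, ⊤) ∧ x ∈ Set.range (AlgSp.Points.ofPt a) := by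
  obtain ⟨-, hd, hirr⟩ := hXi
  obtain ⟨U, a, ha, has, hn⟩ := hXn
  haveI := hirr
  haveI := SpectralQuot.quasiSober_of_decent X hd
  let η := genericPoint (AlgSp.Points X.obj)
  have hη : IsGenericPoint η (Set.univ : Set (AlgSp.Points X.obj)) := genericPoint_spec _
  obtain ⟨p, hp, -, hq⟩ := hd η
  obtain ⟨u, rfl⟩ := AlgSpLib.surjective_ofPt has x
  obtain ⟨O, hO, huO, -⟩ := exists_isAffineOpen_mem_and_subset (U := ⊤) (x := u) trivial
  let Oo : Over S := Over.mk (O.ι ≫ U.hom)
  let o : Oo ⟶ U := Over.homMk O.ι rfl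
  haveI : IsAffine Oo.left := hO
  let b := (AlgSp.yon S).map o ≫ a
  have hb : AlgSp.RepWith @Etale b :=
    AlgSpLib.repWith_comp ((repWith_yon_map_iff (P := (@Etale : MorphismProperty Scheme.{u})) o).2
      (inferInstanceAs (Etale O.ι))) ha
  let M : Set Oo.left := {z | ∀ w, w ⤳ z → w = z}
  have hM : M.Finite := by
    refine (AlgSpLib.finite_fibre_of_qc_point hq hb).subset fun z hz => ?_
    obtain ⟨z', hz', e⟩ := AlgSpLib.exists_generalization_lift (hη.specializes trivial) ⟨p, hp, hq⟩ hb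
      (rfl : AlgSp.Points.ofPt b z = AlgSp.Points.ofPt b z)
    rw [Set.mem_preimage, Set.mem_singleton_iff, hp, ← hz z' hz', e]
  let u' : Oo.left := ⟨u, huO⟩
  have hdom : ∀ z : Oo.left, IsDomain (Oo.left.presheaf.stalk z) ∧ IsIntegrallyClosed (Oo.left.presheaf.stalk z) := by
    intro z
    haveI := (hn z.1).1
    haveI := (hn z.1).2
    let e : U.left.presheaf.stalk z.1 ≃+* Oo.left.presheaf.stalk z :=
      (asIso (O.ι.stalkMap z)).commRingCatIsoToRingEquiv
    exact ⟨e.symm.toMulEquiv.isDomain _, IsIntegrallyClosed.of_equiv e⟩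
  have huniq : ∀ z z' : Oo.left, z ∈ M → z' ∈ M → z ⤳ u' → z' ⤳ u' → z = z' := by
    haveI := (hdom u').1
    let g := Oo.left.fromSpecStalk u' ⟨⊥, Ideal.isPrime_bot⟩
    have hg : ∀ w : Oo.left, w ⤳ u' → g ⤳ w := fun w hw => by
      obtain ⟨Q, rfl⟩ : w ∈ Set.range (Oo.left.fromSpecStalk u').base := by
        rw [Scheme.range_fromSpecStalk]; exact hw
      exact ((PrimeSpectrum.le_iff_specializes ⟨⊥, Ideal.isPrime_bot⟩ Q).1
        (show (⊥ : Ideal _) ≤ Q.asIdeal from bot_le)).map (Oo.left.fromSpecStalk u').continuous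
    intro z z' hz hz' h h'
    rw [← hz g (hg z h), ← hz' g (hg z' h')]
  obtain ⟨z₀, hz₀, hmax₀⟩ := AlgSpLib.exists_maximal_generization u'
  have hz₀M : z₀ ∈ M := hmax₀
  let C : Set Oo.left := ⋃ z ∈ M \ {z₀}, closure {z}
  have hC : IsClosed C := (hM.sdiff).isClosed_biUnion fun _ _ => isClosed_closure
  have hmemC : ∀ w, w ∈ C ↔ ∃ z, z ∈ M ∧ z ≠ z₀ ∧ z ⤳ w := fun w => by
    simp [C, specializes_iff_mem_closure, and_assoc]
  let W : Oo.left.Opens := ⟨Cᶜ, hC.isOpen_compl⟩
  have huW : u' ∈ W := by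
    intro h
    obtain ⟨z, hz, hne, hzu⟩ := (hmemC u').1 h
    exact hne (huniq z z₀ hz hz₀M hzu hz₀)
  have hWsub : (W : Set Oo.left) ⊆ closure {z₀} := fun w hw => by
    obtain ⟨z, hz, hzmax⟩ := AlgSpLib.exists_maximal_generization w
    by_cases e : z = z₀
    · exact specializes_iff_mem_closure.1 (e ▸ hz)
    · exact absurd ((hmemC w).2 ⟨z, hzmax, e, hz⟩) hw
  obtain ⟨W', hW', huW', hle⟩ := exists_isAffineOpen_mem_and_subset (U := W) (x := u') huW
  haveI : IrreducibleSpace W'.toScheme :=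
    (Subtype.irreducibleSpace ⟨⟨u', huW'⟩, isPreirreducible_singleton.closure.open_subset W'.2
      (hle.trans hWsub)⟩)
  haveI : ∀ z : W'.toScheme, _root_.IsReduced (W'.toScheme.presheaf.stalk z) := fun z => by
    haveI := (hdom (W'.ι z)).1
    exact isReduced_of_injective (inv (W'.ι.stalkMap z)).hom
      (ConcreteCategory.bijective_of_isIso (inv (W'.ι.stalkMap z))).1
  haveI : IsReduced W'.toScheme := isReduced_of_isReduced_stalk W'.toScheme
  haveI : IsIntegral W'.toScheme := isIntegral_of_irreducibleSpace_of_isReduced W'.toScheme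
  let Wo : Over S := Over.mk (W'.ι ≫ Oo.hom)
  let w : Wo ⟶ Oo := Over.homMk W'.ι rfl
  haveI : IsAffine Wo.left := hW'
  haveI : Nonempty Wo.left := ⟨⟨u', huW'⟩⟩
  haveI : IsIntegral Wo.left := ‹IsIntegral W'.toScheme›
  refine ⟨Wo, (AlgSp.yon S).map w ≫ b,
    AlgSpLib.repWith_comp ((repWith_yon_map_iff (P := (@Etale : MorphismProperty Scheme.{u})) w).2
      (inferInstanceAs (Etale W'.ι))) hb, hW', ‹_›, ?_, ⟨⟨u', huW'⟩, ?_⟩⟩
  · haveI : IsDomain Γ(Wo.left, ⊤) := inferInstance
    refine IsIntegrallyClosed.of_localization_maximal fun P _ _ => ?_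
    let y : PrimeSpectrum Γ(Wo.left, ⊤) := ⟨P, inferInstance⟩
    let z := (isAffineOpen_top Wo.left).fromSpec y
    letI : Algebra Γ(Wo.left, ⊤) (Wo.left.presheaf.stalk z) := (Wo.left.presheaf.germ ⊤ z trivial).hom.toAlgebra
    haveI : IsLocalization.AtPrime (Wo.left.presheaf.stalk z) P :=
      (isAffineOpen_top Wo.left).isLocalization_stalk' y trivial
    haveI := (hdom (W'.ι z)).1
    haveI := (hdom (W'.ι z)).2
    haveI : IsIntegrallyClosed (Wo.left.presheaf.stalk z) :=
      IsIntegrallyClosed.of_equiv (asIso (W'.ι.stalkMap z)).commRingCatIsoToRingEquiv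
    exact IsIntegrallyClosed.of_equiv
      (IsLocalization.algEquiv P.primeCompl (Wo.left.presheaf.stalk z) (Localization.AtPrime P)).toRingEquiv
  · rw [AlgSpLib.ofPt_yon_comp, AlgSpLib.ofPt_yon_comp]
    rfl


end Groth.Agent.S10492
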