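import Groth.Statements.S10497
import Groth.Agent.AlgSpFieldLib.Reduced

set_option autoImplicit false
set_option linter.style.haveILetI false
set_option backward.isDefEq.respectTransparency false
set_option backward.isDefEq.respectTransparency.types false
universe u
open CategoryTheory CategoryTheory.Limits AlgebraicGeometry Topology TopologicalSpace
open AlgSp

namespace Groth.Agent.S10497
open AlgSpLib AlgSpFieldLib



/-- Let k be a field and X a decent algebraic space over k. Then all base changes X_K to field
extensions K of k are integral exactly when X is geometrically reduced over k and every |X_K| is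
irreducible. -/
theorem result (k : Type u) [Field k] (X : AlgSp.Space (Spec (CommRingCat.of k))) (hX : AlgSp.IsDecent X.obj) :
    (∀ (K : Type u) [Field K] [Algebra k K], AlgSp.IsIntegralSp (X.obj ⨯ (AlgSp.yon (Spec (CommRingCat.of k))).obj (Over.mk (Spec.map (CommRingCat.ofHom (algebraMap k K)))))) ↔
      (∀ x : AlgSp.Points X.obj, (∃ (U : Over (Spec (CommRingCat.of k))) (a : (AlgSp.yon (Spec (CommRingCat.of k))).obj U ⟶ X.obj) (u : ↥U.left),
      AlgSp.RepWith @Etale a ∧ AlgSp.Points.ofPt a u = x ∧ FBase.IsGeomReducedAt U.hom u)) ∧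
        ∀ (K : Type u) [Field K] [Algebra k K], IrreducibleSpace (AlgSp.Points (X.obj ⨯ (AlgSp.yon (Spec (CommRingCat.of k))).obj (Over.mk (Spec.map (CommRingCat.ofHom (algebraMap k K)))))) := by
  obtain ⟨U, a, ha, has⟩ := X.property.atlas
  constructor
  · refine fun h => ⟨fun x => ?_, fun K _ _ => (h K).2.2⟩
    obtain ⟨u, rfl⟩ := surjective_ofPt has x
    refine ⟨U, a, u, ha, rfl, fun K _ _ x' _ => ?_⟩
    haveI := isReduced_bc_of_reduced (h K).1 ha
    exact inferInstanceAs (_root_.IsReduced ((FBase.bc U.hom K).presheaf.stalk x'))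
  · rintro ⟨hr, hi⟩ K _ _
    refine ⟨etaleLocally_reduced_bc ha has ?_, isDecent_bc hX _, hi K⟩
    haveI : ∀ v : ↥(FBase.bc U.hom K), _root_.IsReduced ((FBase.bc U.hom K).presheaf.stalk v) := fun v => by
      obtain ⟨U', a', u', ha', e, hg⟩ := hr (Points.ofPt a ((FBase.bcπ U.hom K).base v))
      obtain ⟨W, p, q, sq⟩ := exists_isPullback_yon a a' ha.rep
      haveI := etale_left (repWith_of_isPullback sq ha)
      haveI := etale_left (repWith_of_isPullback sq.flip ha')
      obtain ⟨w, h1, h2⟩ := (ofPt_eq_ofPt_iff sq _ u').1 e.symm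
      exact isReduced_stalk_bc_of_etale p.left q.left U.hom U'.hom
        ((Over.w p).trans (Over.w q).symm) w (h2.symm ▸ hg) v h1.symm
    exact isReduced_of_isReduced_stalk _

end Groth.Agent.S10497
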