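import Groth.Statements.S10498
import Groth.Agent.S0539
import Groth.Agent.S9407
import Groth.Agent.HenselLib.LocalCover
import Groth.Agent.HenselLib.IndEtale
import Groth.Agent.HenselLib.HenselizationExists
-- import your own Groth.Agent.* helpers here

set_option autoImplicit false
set_option linter.style.haveILetI false
set_option maxHeartbeats 1000000
set_option backward.isDefEq.respectTransparency false
universe u
open TensorProduct
open Hensel

namespace Groth.Agent.S10498

/-- (1) ⇔ (2): let k be a field, A a local k-algebra and R a strict henselization of A. Then A is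
geometrically reduced over k (K ⊗_k A reduced for every field extension K of k) if and only if R is
geometrically reduced over k. -/
theorem result (k : Type u) [Field k]
    (A : Type u) [CommRing A] [IsLocalRing A] [Algebra k A]
    (R : Type u) [CommRing R] [IsLocalRing R] [Algebra A R] [IsLocalHom (algebraMap A R)]
    [Hensel.IsStrictHenselization A R] [Algebra k R] [IsScalarTower k A R] :
    (∀ (K : Type u) [Field K] [Algebra k K], IsReduced (TensorProduct k K A)) ↔
      ∀ (K : Type u) [Field K] [Algebra k K], IsReduced (TensorProduct k K R) := by
  open TensorProduct in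
  haveI : Module.FaithfullyFlat A R := Groth.Agent.S0539.result A R
  constructor
  · intro h K _ _
    haveI := h K
    obtain ⟨e⟩ := HenselLib.nonempty_algEquiv_SH (R := A) R
    have hcov : ∀ x : R, HenselLib.EtCov (R := A) x := HenselLib.etCov_of_algEquiv e (HenselLib.etCov_hens _)
    refine ⟨fun z hz => ?_⟩
    classical
    obtain ⟨G, hG⟩ := TensorProduct.exists_finset z
    obtain ⟨U, _, _, _, q, _, ψ, hloc, hflat, hs⟩ := HenselLib.exists_local_cover hcov (G.image Prod.snd)
    let L := Localization.AtPrime q
    letI : Algebra k U := ((algebraMap A U).comp (algebraMap k A)).toAlgebra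
    haveI : IsScalarTower k A U := .of_algebraMap_eq fun _ => rfl
    haveI : IsScalarTower k A L := .of_algebraMap_eq fun r => by
      rw [IsScalarTower.algebraMap_apply k U L, IsScalarTower.algebraMap_apply A U L]
      rfl
    letI := (ψ : L →+* R).toAlgebra
    haveI : Module.Flat L R := hflat
    haveI : IsLocalHom (algebraMap L R) := hloc
    haveI : Module.FaithfullyFlat L R := Module.FaithfullyFlat.of_flat_of_isLocalHom
    let ψk : L →ₐ[k] R := ψ.restrictScalars k
    have hred : IsReduced (K ⊗[k] L) := by
      let W := A ⊗[k] K
      haveI : IsReduced W := isReduced_of_injective (Algebra.TensorProduct.comm k A K).toRingEquiv.toRingHom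
        (Algebra.TensorProduct.comm k A K).injective
      haveI : IsReduced (W ⊗[A] U) := Groth.Agent.S9407.result W _
      let eU : K ⊗[k] U ≃+* W ⊗[A] U :=
        (Algebra.TensorProduct.comm k K U).toRingEquiv.trans
          ((Algebra.TensorProduct.cancelBaseChange k A A U K).symm.toRingEquiv.trans
            (Algebra.TensorProduct.comm A U W).toRingEquiv)
      haveI : IsReduced (K ⊗[k] U) := isReduced_of_injective eU.toRingHom eU.injective
      letI : Algebra (K ⊗[k] U) (K ⊗[k] L) :=
        (Algebra.TensorProduct.map (AlgHom.id k K) (IsScalarTower.toAlgHom k U L)).toRingHom.toAlgebra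
      haveI : IsScalarTower K (K ⊗[k] U) (K ⊗[k] L) := .of_algebraMap_eq fun x =>
        ((Algebra.TensorProduct.map (AlgHom.id K K) (IsScalarTower.toAlgHom k U L)).commutes x).symm
      haveI : IsLocalization (q.primeCompl.map (Algebra.TensorProduct.includeRight (R := k) (A := K) (B := U))) (K ⊗[k] L) :=
        IsLocalization.tensorProduct_tensorProduct_right k K q.primeCompl L (by
          ext u
          show Algebra.TensorProduct.map (AlgHom.id k K) (IsScalarTower.toAlgHom k U L) ((1 : K) ⊗ₜ[k] u) = _
          rw [Algebra.TensorProduct.map_tmul]
          rfl)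
      exact isReduced_localizationPreserves (q.primeCompl.map
        (Algebra.TensorProduct.includeRight (R := k) (A := K) (B := U))) (K ⊗[k] L) inferInstance
    have hψ : Function.Injective ψk := FaithfulSMul.algebraMap_injective L R
    have hinj : Function.Injective (Algebra.TensorProduct.map (AlgHom.id k K) ψk) :=
      Module.Flat.lTensor_preserves_injective_linearMap (M := K) ψk.toLinearMap hψ
    have hs' : ∀ r ∈ G.image Prod.snd, ∃ l : L, ψ l = r := hs
    choose! l hl using hs'
    have hz' : Algebra.TensorProduct.map (AlgHom.id k K) ψk (∑ p ∈ G, p.1 ⊗ₜ[k] l p.2) = z := by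
      rw [hG, map_sum]
      exact Finset.sum_congr rfl fun p hp => by
        rw [Algebra.TensorProduct.map_tmul, AlgHom.id_apply]
        exact congrArg (fun t => p.1 ⊗ₜ[k] t) (hl _ (Finset.mem_image_of_mem _ hp))
    rw [← hz'] at hz ⊢
    rw [((IsNilpotent.map_iff hinj).1 hz).eq_zero, map_zero]
  · intro h K _ _
    haveI := h K
    exact isReduced_of_injective (Algebra.TensorProduct.map (AlgHom.id k K) (IsScalarTower.toAlgHom k A R))
      (Module.Flat.lTensor_preserves_injective_linearMap (M := K) (IsScalarTower.toAlgHom k A R).toLinearMap
        (FaithfulSMul.algebraMap_injective A R))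

end Groth.Agent.S10498
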