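import Groth.Statements.S10502
import Groth.Agent.GeomRedSpLib.AtPoint

set_option autoImplicit false
universe u
open CategoryTheory CategoryTheory.Limits AlgebraicGeometry Topology TopologicalSpace
open AlgSp

namespace Groth.Agent.S10502

/-- Let k be a field, X an algebraic space over k and K/k a field extension. Then X being geometrically
reduced over k is equivalent to its base change X_K being geometrically reduced over K. -/
theorem result (k : Type u) [Field k] (X : AlgSp.Space (Spec (CommRingCat.of k))) (K : Type u) [Field K] [Algebra k K] :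
    (∀ x : AlgSp.Points X.obj, (∃ (U : Over (Spec (CommRingCat.of k))) (a : (AlgSp.yon (Spec (CommRingCat.of k))).obj U ⟶ X.obj) (u : ↥U.left),
      AlgSp.RepWith @Etale a ∧ AlgSp.Points.ofPt a u = x ∧ FBase.IsGeomReducedAt U.hom u)) ↔
      ∀ x' : AlgSp.Points (X.obj ⨯ (AlgSp.yon (Spec (CommRingCat.of k))).obj (Over.mk (Spec.map (CommRingCat.ofHom (algebraMap k K))))), (∃ (U' : Over (Spec (CommRingCat.of k))) (a' : (AlgSp.yon (Spec (CommRingCat.of k))).obj U' ⟶ (X.obj ⨯ (AlgSp.yon (Spec (CommRingCat.of k))).obj (Over.mk (Spec.map (CommRingCat.ofHom (algebraMap k K))))))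
        (q : U' ⟶ Over.mk (Spec.map (CommRingCat.ofHom (algebraMap k K)))) (u' : ↥U'.left),
        AlgSp.RepWith @Etale a' ∧ a' ≫ Limits.prod.snd = (AlgSp.yon (Spec (CommRingCat.of k))).map q ∧
          AlgSp.Points.ofPt a' u' = x' ∧ FBase.IsGeomReducedAt q.left u') := by
  refine ⟨fun h x' => (GeomRedSpLib.grPoint_iff_grPointBC K X.property x').1 (h _), fun h x => ?_⟩
  obtain ⟨U, a, ha, hs⟩ := X.property.atlas
  obtain ⟨u, hu⟩ := AlgSpLib.surjective_ofPt hs x
  haveI : Surjective (GeomRedSpLib.fieldObj k K).hom := GeomRedFieldLib.surjective_str K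
  haveI : Surjective (pullback.fst U.hom (GeomRedSpLib.fieldObj k K).hom) :=
    MorphismProperty.pullback_fst _ _ ‹_›
  obtain ⟨w, hw⟩ := (pullback.fst U.hom (GeomRedSpLib.fieldObj k K).hom).surjective u
  let w' := (Over.prodLeftIsoPullback U (GeomRedSpLib.fieldObj k K)).inv.base w
  have hw' : (prod.fst (X := U) (Y := GeomRedSpLib.fieldObj k K)).left.base w' = u := by
    rw [← Scheme.Hom.comp_apply, Over.prodLeftIsoPullback_inv_fst]
    exact hw
  have h1 := (GeomRedSpLib.grPoint_iff_grPointBC K X.property _).2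
    (h (Points.ofPt (GeomRedSpLib.bcChart a (GeomRedSpLib.fieldObj k K)) w'))
  rwa [Points.map_ofPt, GeomRedSpLib.bcChart_fst, AlgSpLib.ofPt_yon_comp, hw', hu] at h1

end Groth.Agent.S10502
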