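import Groth.Statements.S10509
import Groth.Agent.AlgSpLib.SrcDescent
import Groth.Agent.S0412

set_option autoImplicit false
universe u
open CategoryTheory CategoryTheory.Limits AlgebraicGeometry
open AlgSp

namespace Groth.Agent.S10509

/-- A smooth covering of an algebraic space `X` over `S` by algebraic spaces can be refined by an etale
covering of `X` by algebraic spaces: there is an etale covering `{U_j ⟶ X}` each member of which
factors through some member of the given smooth covering. -/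
theorem result {S : Scheme.{u}} (X : AlgSp.Space S) {ι : Type u}
    (Xi : ι → AlgSp.Space S) (g : ∀ i, Xi i ⟶ X)
    (h : AlgSp.IsSmCover (fun i => (Xi i).obj) (fun i => (g i).hom)) :
    ∃ (κ : Type u) (U : κ → AlgSp.Space S) (c : ∀ j, U j ⟶ X),
      AlgSp.IsEtCover (fun j => (U j).obj) (fun j => (c j).hom) ∧
      ∀ j, ∃ (i : ι) (r : U j ⟶ Xi i), r ≫ g i = c j := by
  obtain ⟨U, a, ha, has⟩ := X.property.atlas
  have key : ∀ u : ↥U.left, ∃ (V : Over S) (p : V ⟶ U) (v : ↥V.left) (i : ι)
      (r : (AlgSp.yon S).obj V ⟶ (Xi i).obj), Etale p.left ∧ p.left v = u ∧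
      r ≫ (g i).hom = (AlgSp.yon S).map p ≫ a := by
    intro u
    obtain ⟨i, y, hy⟩ := h.2 (AlgSp.Points.ofPt a u)
    have hW := AlgSpLib.isAlgSpace_pullback (Xi i).property (AlgSp.IsAlgSpace.yon_obj U) X.property (g i).hom a
    obtain ⟨W, c, hc, hcs⟩ := hW.atlas
    obtain ⟨p, hp⟩ := (AlgSp.yon S).map_surjective (c ≫ pullback.snd (g i).hom a)
    have hq : AlgSp.RepWith @Etale (c ≫ pullback.fst (g i).hom a) :=
      AlgSpLib.repWith_comp hc (AlgSpLib.repWith_of_isPullback (IsPullback.of_hasPullback (g i).hom a).flip ha)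
    haveI : Smooth p.left := h.1 i (c ≫ pullback.fst (g i).hom a) a p hq ha
      (by rw [hp, Category.assoc, Category.assoc, pullback.condition])
    obtain ⟨z, -, hz⟩ := AlgSpLib.exists_point_isPullback (IsPullback.of_hasPullback (g i).hom a) y
      (AlgSp.Points.ofScheme U u) (by rw [hy, ← AlgSp.Points.ofPt_eq_map_ofScheme])
    obtain ⟨w, hw⟩ := AlgSpLib.map_surjective_of_repWith hcs z
    obtain ⟨w, rfl⟩ := (AlgSp.Points.schemeEquiv W).surjective w
    have hu : u ∈ Set.range p.left := ⟨w, by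
      apply (AlgSp.Points.schemeEquiv U).injective
      refine (AlgSp.Points.map_yon_map_apply p w).symm.trans ?_
      change AlgSp.Points.map ((AlgSp.yon S).map p) _ = _
      rw [hp, AlgSp.Points.map_comp]
      exact (congrArg _ hw).trans hz⟩
    obtain ⟨S', e, s', he, hs', t, ht⟩ := Groth.Agent.S0412.result p.left u hu
    have hT : t ≫ W.hom = e ≫ U.hom := by rw [← ht, Category.assoc, Over.w p]
    obtain ⟨T, hT'⟩ : ∃ T : Over.mk (e ≫ U.hom) ⟶ W, T ≫ p = Over.homMk e :=
      ⟨Over.homMk t hT, by ext : 1; exact ht⟩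
    refine ⟨Over.mk (e ≫ U.hom), Over.homMk e, s', i,
      (AlgSp.yon S).map T ≫ c ≫ pullback.fst (g i).hom a, he, hs', ?_⟩
    rw [Category.assoc, Category.assoc, pullback.condition, ← Category.assoc c, ← hp,
      ← Category.assoc, ← Functor.map_comp, hT']
  choose V p v i r hp hv hr using key
  let Vs : ↥U.left → AlgSp.Space S := fun u => ⟨(AlgSp.yon S).obj (V u), AlgSp.IsAlgSpace.yon_obj (V u)⟩
  refine ⟨↥U.left, Vs, fun u => ObjectProperty.homMk ((AlgSp.yon S).map (p u) ≫ a), ⟨fun u => ?_, fun x => ?_⟩,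
    fun u => ⟨i u, ObjectProperty.homMk (r u), ObjectProperty.hom_ext _ (hr u)⟩⟩
  · exact AlgSpLib.isEtaleMor_of_repWith (AlgSpLib.repWith_comp
      ((AlgSp.repWith_yon_map_iff (P := (@Etale : MorphismProperty Scheme.{u})) (p u)).2 (hp u)) ha)
  · obtain ⟨y, rfl⟩ := AlgSpLib.map_surjective_of_repWith has x
    obtain ⟨u, rfl⟩ := (AlgSp.Points.schemeEquiv U).surjective y
    refine ⟨u, AlgSp.Points.ofScheme (V u) (v u), ?_⟩
    change AlgSp.Points.map ((AlgSp.yon S).map (p u) ≫ a) _ = _
    rw [AlgSp.Points.map_comp]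
    exact congrArg _ ((AlgSp.Points.map_yon_map_apply (p u) (v u)).trans (congrArg _ (hv u)))

end Groth.Agent.S10509
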