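import Groth.Statements.S10511
import Groth.Agent.AlgSpLib.ImmLocal
import Groth.Agent.AlgSpLib.Univ
import Groth.Agent.AlgSpLib.Points

set_option backward.isDefEq.respectTransparency false
set_option backward.isDefEq.respectTransparency.types false

set_option autoImplicit false
universe u
open CategoryTheory CategoryTheory.Limits AlgebraicGeometry
open AlgSp

namespace Groth.Agent.S10511

/-- Induction for the iterated fibre products of a family. -/
theorem widePullback_induction {S : Scheme.{u}} {U : Sp S} {ι : Type u} {Ui : ι → Sp S} (g : ∀ i, Ui i ⟶ U)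
    (Φ : ∀ {B : Sp S}, (B ⟶ U) → Prop) (hiso : ∀ {B B' : Sp S} (e : B ≅ B') (b : B' ⟶ U), Φ b → Φ (e.hom ≫ b))
    (h0 : ∀ i, Φ (g i))
    (hstep : ∀ {B P : Sp S} (b : B ⟶ U) (i : ι) (x : P ⟶ B) (y : P ⟶ Ui i),
      IsPullback x y b (g i) → Φ b → Φ (x ≫ b)) :
    ∀ (n : ℕ) (c : Fin (n + 1) → ι), Φ (WidePullback.base (fun k : Fin (n + 1) => g (c k))) := by
  intro n
  induction n with
  | zero =>
    intro c
    let a := fun k : Fin 1 => g (c k)
    let inv₀ : Ui (c 0) ⟶ widePullback U (fun k => Ui (c k)) a :=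
      WidePullback.lift (g (c 0)) (fun k => eqToHom (congrArg (fun k => Ui (c k)) (Fin.fin_one_eq_zero k).symm)) (fun k => by
        obtain rfl : (0 : Fin 1) = k := (Fin.fin_one_eq_zero k).symm
        simp [a])
    let e : widePullback U (fun k => Ui (c k)) a ≅ Ui (c 0) :=
      { hom := WidePullback.π a 0
        inv := inv₀
        hom_inv_id := WidePullback.hom_ext _ _ _ (fun k => by
            obtain rfl : (0 : Fin 1) = k := (Fin.fin_one_eq_zero k).symm
            simp [inv₀])
          (by simp [inv₀, a, WidePullback.π_arrow])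
        inv_hom_id := by simp [inv₀] }
    have h := hiso e (g (c 0)) (h0 (c 0))
    rwa [show e.hom ≫ g (c 0) = WidePullback.base a from WidePullback.π_arrow a 0] at h
  | succ n ih =>
    intro c
    let a := fun k : Fin (n + 2) => g (c k)
    let a' := fun k : Fin (n + 1) => g (c k.castSucc)
    have hb := ih (fun k => c k.castSucc)
    have sq := IsPullback.of_hasPullback (WidePullback.base a') (g (c (Fin.last (n + 1))))
    let hom₁ : widePullback U (fun k => Ui (c k)) a ⟶ pullback (WidePullback.base a') (g (c (Fin.last (n + 1)))) :=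
      pullback.lift (WidePullback.lift (WidePullback.base a) (fun k => WidePullback.π a k.castSucc)
        (fun k => WidePullback.π_arrow a k.castSucc)) (WidePullback.π a (Fin.last (n + 1)))
        (by rw [WidePullback.lift_base]; exact (WidePullback.π_arrow a _).symm)
    let inv₁ : pullback (WidePullback.base a') (g (c (Fin.last (n + 1)))) ⟶ widePullback U (fun k => Ui (c k)) a :=
      WidePullback.lift (pullback.fst _ _ ≫ WidePullback.base a')
        (Fin.lastCases (pullback.snd _ _) fun k => pullback.fst _ _ ≫ WidePullback.π a' k)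
        (Fin.lastCases (by simp [a, pullback.condition]) fun k => by
          simp only [Fin.lastCases_castSucc, Category.assoc]
          exact congrArg _ (WidePullback.π_arrow a' k))
    let e : widePullback U (fun k => Ui (c k)) a ≅ pullback (WidePullback.base a') (g (c (Fin.last (n + 1)))) :=
      { hom := hom₁
        inv := inv₁
        hom_inv_id := WidePullback.hom_ext _ _ _
          (Fin.lastCases (by simp [hom₁, inv₁]) fun k => by simp [hom₁, inv₁, a'])
          (by simp [hom₁, inv₁, a'])
        inv_hom_id := by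
          apply pullback.hom_ext
          · apply WidePullback.hom_ext
            · intro k; simp [hom₁, inv₁, a']
            · simp [hom₁, inv₁, a']
          · simp [hom₁, inv₁] }
    have h := hiso e _ (hstep (WidePullback.base a') _ _ _ sq hb)
    rwa [show e.hom ≫ pullback.fst _ _ ≫ WidePullback.base a' = WidePullback.base a by
      simp [e, hom₁, a']] at h

/-- The fibre product of two schemes over a scheme inside sheaves. -/
theorem exists_yon_pullback {S : Scheme.{u}} {U B B' P : Sp S} {W E E' : Over S} (e : U ≅ (yon S).obj W)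
    {b : B ⟶ U} {b' : B' ⟶ U} (e₁ : B ≅ (yon S).obj E) (e₂ : B' ≅ (yon S).obj E') (j : E ⟶ W) (j' : E' ⟶ W)
    (h₁ : b ≫ e.hom = e₁.hom ≫ (yon S).map j) (h₂ : b' ≫ e.hom = e₂.hom ≫ (yon S).map j')
    {x : P ⟶ B} {y : P ⟶ B'} (sq : IsPullback x y b b') :
    ∃ e' : P ≅ (yon S).obj (pullback j j'), (x ≫ b) ≫ e.hom = e'.hom ≫ (yon S).map (pullback.fst j j' ≫ j) := by
  have sqP : IsPullback (x ≫ e₁.hom) (y ≫ e₂.hom) ((yon S).map j) ((yon S).map j') :=
    sq.of_iso (Iso.refl _) e₁ e₂ e (by simp) (by simp) h₁ h₂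
  have sqY := (IsPullback.of_hasPullback j j').map (yon S)
  refine ⟨sqP.isoIsPullback _ _ sqY, ?_⟩
  rw [Functor.map_comp, ← Category.assoc _ ((yon S).map (pullback.fst j j')), sqP.isoIsPullback_hom_fst _ _ sqY,
    Category.assoc, Category.assoc, h₁]

/-- Let `X` be an algebraic space over `S` and `P` a property of sheaves over `X` such that, for every
algebraic space `U` over `X` and every fppf covering `{U_i ⟶ U}` by algebraic spaces, `P` holds for
`U` as soon as it holds for all the iterated fibre products `U_{i_0} ×_U ⋯ ×_U U_{i_n}` (`n ≥ 0`,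
taken in fppf sheaves) over `X`. If `P` holds for every sheaf over `X` that is isomorphic to an
affine scheme and flat and locally of finite presentation over `X`, then `P` holds for `X`. -/
theorem result {S : Scheme.{u}} (X : AlgSp.Space S)
    (P : ∀ ⦃U : AlgSp.Sp S⦄, (U ⟶ X.obj) → Prop)
    (hP : ∀ ⦃U : AlgSp.Sp S⦄ (a : U ⟶ X.obj), AlgSp.IsAlgSpace U →
      ∀ ⦃ι : Type u⦄ (Ui : ι → AlgSp.Sp S) (g : ∀ i, Ui i ⟶ U), (∀ i, AlgSp.IsAlgSpace (Ui i)) →
      AlgSp.IsFppfCover Ui g →
      (∀ (n : ℕ) (c : Fin (n + 1) → ι),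
        P (WidePullback.base (fun k : Fin (n + 1) => g (c k)) ≫ a)) → P a)
    (haff : ∀ ⦃U : AlgSp.Sp S⦄ (a : U ⟶ X.obj) (T : Over S) (e : U ≅ (AlgSp.yon S).obj T), IsAffine T.left →
      AlgSp.LocP @Flat a → AlgSp.LocP @LocallyOfFinitePresentation a → P a) :
    P (𝟙 X.obj) := by
  -- cutting by open pieces
  have opens : ∀ (C D : Over S → Prop), (∀ (W : Over S), C W → ∀ (E E' : Over S) (j : E ⟶ W) (j' : E' ⟶ W),
        IsOpenImmersion j.left → IsOpenImmersion j'.left → D E → D E' → D (pullback j j')) →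
      (∀ (W : Over S), C W → ∀ w : W.left, ∃ (E : Over S) (j : E ⟶ W), IsOpenImmersion j.left ∧
        w ∈ Set.range j.left ∧ D E) →
      (∀ ⦃U : Sp S⦄ (a : U ⟶ X.obj) (W : Over S), (U ≅ (yon S).obj W) → D W →
        LocP @Flat a → LocP @LocallyOfFinitePresentation a → P a) →
      ∀ ⦃U : Sp S⦄ (a : U ⟶ X.obj) (W : Over S), (U ≅ (yon S).obj W) → C W →
        LocP @Flat a → LocP @LocallyOfFinitePresentation a → P a := by
    intro C D hinter hcov hD U a W e hW hf hp
    choose E j hjo hw hE using hcov W hW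
    let g : ∀ w : W.left, (yon S).obj (E w) ⟶ U := fun w => (yon S).map (j w) ≫ e.inv
    have hg : ∀ w, RepWith @Etale (g w) := fun w => AlgSpLib.repWith_comp
      ((repWith_yon_map_iff (P := (@Etale : MorphismProperty Scheme.{u})) (j w)).2
        (by have := hjo w; infer_instance)) (AlgSpLib.repWith_of_isIso e.inv)
    have hU : IsAlgSpace U := AlgSpLib.isAlgSpace_of_representable (IsAlgSpace.yon_obj W) e.hom
      (AlgSpLib.repWith_of_isIso (P := @Etale) e.hom).rep
    refine hP a hU (fun w => (yon S).obj (E w)) g (fun w => IsAlgSpace.yon_obj _)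
      (AlgSpLib.isFppfCover_of_charts g hg fun y => ?_) fun n c => ?_
    · obtain ⟨w, hw'⟩ := (Points.schemeHomeo W).surjective (Points.map e.hom y)
      obtain ⟨z, hz⟩ := hw w
      refine ⟨w, Points.schemeHomeo _ z, ?_⟩
      rw [Points.map_comp, Points.map_yon_map_apply, hz, hw', ← Points.map_comp, e.hom_inv_id, Points.map_id]
    · have key := widePullback_induction g (fun {B} b => ∃ (E' : Over S) (j' : E' ⟶ W) (e' : B ≅ (yon S).obj E'),
          b ≫ e.hom = e'.hom ≫ (yon S).map j' ∧ IsOpenImmersion j'.left ∧ D E')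
        (fun {B B'} ε b ⟨E', j', e', h1, h2, h3⟩ => ⟨E', j', ε ≪≫ e', by simp [h1], h2, h3⟩)
        (fun w => ⟨E w, j w, Iso.refl _, by simp [g], hjo w, hE w⟩)
        (fun {B Q} b w x y sq ⟨E', j', e', h1, h2, h3⟩ => by
          obtain ⟨e'', he''⟩ := exists_yon_pullback e e' (Iso.refl _) j' (j w) h1 (by simp [g]) sq
          refine ⟨_, _, e'', he'', ?_, hinter W hW _ _ _ _ h2 (hjo w) h3 (hE w)⟩
          rw [Over.comp_left]
          haveI : IsOpenImmersion (pullback.fst j' (j w)).left :=
            MorphismProperty.of_isPullback (P := @IsOpenImmersion)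
              ((IsPullback.of_hasPullback j' (j w)).map (Over.forget S)).flip (hjo w)
          infer_instance) n c
      obtain ⟨E', j', e', h1, h2, h3⟩ := key
      have hb : IsEtaleMor (WidePullback.base (fun k => g (c k))) := by
        have : WidePullback.base (fun k => g (c k)) = e'.hom ≫ (yon S).map j' ≫ e.inv := by
          rw [← Category.assoc, ← h1, Category.assoc, e.hom_inv_id, Category.comp_id]
        rw [this]
        exact AlgSpLib.isEtaleMor_of_repWith (AlgSpLib.repWith_comp (AlgSpLib.repWith_of_isIso e'.hom)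
          (AlgSpLib.repWith_comp ((repWith_yon_map_iff (P := (@Etale : MorphismProperty Scheme.{u})) j').2
            (by infer_instance)) (AlgSpLib.repWith_of_isIso e.inv)))
      exact hD _ E' e' h3 (AlgSpLib.locP_etale_comp hb hf) (AlgSpLib.locP_etale_comp hb hp)
  -- separated schemes
  have hsep : ∀ ⦃U : Sp S⦄ (a : U ⟶ X.obj) (W : Over S), (U ≅ (yon S).obj W) → W.left.IsSeparated →
      LocP @Flat a → LocP @LocallyOfFinitePresentation a → P a := by
    refine opens (fun W => W.left.IsSeparated) (fun W => IsAffine W.left) (fun W hW E E' j j' hj hj' hE hE' => ?_)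
      (fun W hW w => ?_) fun U a W e hW => haff a W e hW
    · haveI : W.left.IsSeparated := hW
      haveI : IsAffine E.left := hE
      haveI : IsAffine E'.left := hE'
      haveI : IsAffineHom j'.left := ⟨fun O hO => by
        rw [← j'.left.isAffineOpen_iff_of_isOpenImmersion, j'.left.image_preimage_eq_opensRange_inf]
        exact (isAffineOpen_opensRange j'.left).inf hO⟩
      have sq := (IsPullback.of_hasPullback j j').map (Over.forget S)
      haveI : IsAffineHom ((Over.forget S).map (pullback.fst j j')) :=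
        MorphismProperty.of_isPullback (P := @IsAffineHom) sq.flip ‹IsAffineHom j'.left›
      haveI : IsAffine ((Over.forget S).obj E) := hE
      exact isAffine_of_isAffineHom ((Over.forget S).map (pullback.fst j j'))
    · obtain ⟨O, hO, hwO, -⟩ := exists_isAffineOpen_mem_and_subset (X := W.left) (x := w) (U := ⊤) trivial
      exact ⟨Over.mk (O.ι ≫ W.hom), Over.homMk O.ι rfl, inferInstanceAs (IsOpenImmersion O.ι),
        ⟨⟨w, hwO⟩, rfl⟩, hO⟩
  -- all schemes
  have hsch : ∀ ⦃U : Sp S⦄ (a : U ⟶ X.obj) (W : Over S), (U ≅ (yon S).obj W) → True →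
      LocP @Flat a → LocP @LocallyOfFinitePresentation a → P a := by
    refine opens (fun _ => True) (fun W => W.left.IsSeparated) (fun W _ E E' j j' hj hj' hE hE' => ?_)
      (fun W _ w => ?_) hsep
    · haveI : E.left.IsSeparated := hE
      have sq := (IsPullback.of_hasPullback j j').map (Over.forget S)
      haveI : IsOpenImmersion ((Over.forget S).map (pullback.fst j j')) :=
        MorphismProperty.of_isPullback (P := @IsOpenImmersion) sq.flip hj'
      refine ⟨?_⟩
      haveI : IsSeparated ((Over.forget S).map (pullback.fst j j')) := inferInstance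
      haveI : IsSeparated (terminal.from E.left) := inferInstance
      rw [Subsingleton.elim (terminal.from (pullback j j').left)
        (((Over.forget S).map (pullback.fst j j')) ≫ terminal.from E.left)]
      exact IsSeparated.stableUnderComposition.comp_mem _ _ ‹IsSeparated ((Over.forget S).map (pullback.fst j j'))›
        ‹IsSeparated (terminal.from E.left)›
    · obtain ⟨O, hO, hwO, -⟩ := exists_isAffineOpen_mem_and_subset (X := W.left) (x := w) (U := ⊤) trivial
      haveI : IsAffine (Over.mk (O.ι ≫ W.hom) : Over S).left := hO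
      exact ⟨Over.mk (O.ι ≫ W.hom), Over.homMk O.ι rfl, inferInstanceAs (IsOpenImmersion O.ι),
        ⟨⟨w, hwO⟩, rfl⟩, inferInstance⟩
  -- the space
  obtain ⟨κ, V, a, -, ha, -, hcov⟩ := AlgSpLib.exists_affine_charts X.property
  refine hP (𝟙 X.obj) X.property (fun i => (yon S).obj (V i)) a (fun i => IsAlgSpace.yon_obj _)
    (AlgSpLib.isFppfCover_of_charts a ha hcov) fun n c => ?_
  obtain ⟨⟨E, ⟨e⟩⟩, he⟩ := widePullback_induction a
    (fun {B} b => (∃ E : Over S, Nonempty (B ≅ (yon S).obj E)) ∧ RepWith @Etale b)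
    (fun {B B'} ε b ⟨⟨E, ⟨e⟩⟩, hb⟩ => ⟨⟨E, ⟨ε ≪≫ e⟩⟩, AlgSpLib.repWith_comp (AlgSpLib.repWith_of_isIso ε.hom) hb⟩)
    (fun i => ⟨⟨V i, ⟨Iso.refl _⟩⟩, ha i⟩)
    (fun {B Q} b i x y sq ⟨⟨E, ⟨e⟩⟩, hb⟩ => by
      have hx : RepWith @Etale x := AlgSpLib.repWith_of_isPullback sq.flip (ha i)
      refine ⟨?_, AlgSpLib.repWith_comp hx hb⟩
      have hrep : Representable (x ≫ e.hom) :=
        (AlgSpLib.repWith_comp hx (AlgSpLib.repWith_of_isIso (P := @Etale) e.hom)).rep
      exact ⟨hrep.pullback (𝟙 _), ⟨(@asIso _ _ _ _ (hrep.fst (𝟙 _))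
        (hrep.isPullback (𝟙 _)).isIso_fst_of_isIso).symm⟩⟩) n c
  rw [Category.comp_id]
  exact hsch _ E e trivial
    (AlgSpLib.locP_of_repWith (AlgSpLib.repWith_mono (fun _ _ g (_ : Etale g) => (inferInstance : Flat g)) he))
    (AlgSpLib.locP_of_repWith (AlgSpLib.repWith_mono
      (fun _ _ g (_ : Etale g) => (inferInstance : LocallyOfFinitePresentation g)) he))

end Groth.Agent.S10511
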