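import Groth.Statements.S7190
import Groth.Agent.FinSurjLib.Local

set_option autoImplicit false
universe w u
open FlatMor

namespace Groth.Agent.S7190

open AlgebraicGeometry CategoryTheory Limits in
/-- An fppf covering {T_i → T} of schemes (flat, locally of finite presentation, jointly surjective) is
a ph covering. -/
theorem result {T : Scheme.{u}} (E : PreZeroHypercover.{w} T)
    (hflat : ∀ i, Flat (E.f i)) (hfp : ∀ i, LocallyOfFinitePresentation (E.f i))
    (hsurj : ∀ t : T, ∃ (i : E.I₀) (x : E.X i), E.f i x = t) : HTop.IsPhCover E := by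
  classical
  refine ⟨fun i => by haveI := hfp i; infer_instance, fun U => ?_⟩
  obtain ⟨A, φ, hfin, -, hφs, n, g, hg, hh⟩ :=
    FinSurjLib.exists_affine_cover E.X E.f hflat hfp U.2 (fun t _ => hsurj t)
  let p : Spec A ⟶ ((U : T.Opens) : Scheme.{u}) := Spec.map φ ≫ U.2.isoSpec.inv
  let F : PreZeroHypercover.{0} ((U : T.Opens) : Scheme.{u}) :=
    ⟨Fin n, fun j => Spec (CommRingCat.of (Localization.Away (g j))),
      fun j => Spec.map (CommRingCat.ofHom (algebraMap A (Localization.Away (g j)))) ≫ p⟩
  haveI : IsFinite (Spec.map φ) := (IsFinite.SpecMap_iff φ).2 hfin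
  refine ⟨F, ⟨U.2, (inferInstance : Finite (Fin n)), fun j => isAffine_Spec _, Spec A, p,
    fun j => Spec.map (CommRingCat.ofHom (algebraMap A (Localization.Away (g j)))), inferInstance, inferInstance,
    fun j => IsOpenImmersion.of_isLocalization (g j), fun j => rfl, fun x => ?_⟩, fun j => ?_⟩
  · by_contra! hx
    refine x.isPrime.ne_top (top_le_iff.1 (hg ▸ Ideal.span_le.2 ?_))
    rintro _ ⟨j, rfl⟩
    by_contra hj
    exact hx j ((PrimeSpectrum.localization_away_comap_range (Localization.Away (g j)) (g j)).ge hj)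
  · obtain ⟨i, h, hi⟩ := hh j
    refine ⟨i, h, hi.trans ?_⟩
    simp only [F, p, Category.assoc, Spec.map_comp, IsAffineOpen.fromSpec]

end Groth.Agent.S7190
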