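import Groth.Statements.S10514
import Groth.Agent.PhLib.Scheme
import Groth.Agent.AlgSpLib.Fppf
import Groth.Agent.S7190

set_option autoImplicit false
universe u
open CategoryTheory CategoryTheory.Limits AlgebraicGeometry
open AlgSp

namespace Groth.Agent.S10514

/-- An fppf covering of an algebraic space `X` over `S` by algebraic spaces is a ph covering of `X`: its
members are locally of finite type and every morphism from an affine scheme `Z` to `X` admits a
standard ph covering of `Z` whose members lift through members of the family. -/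
theorem result {S : Scheme.{u}} (X : AlgSp.Space S) {ι : Type u}
    (Xi : ι → AlgSp.Space S) (g : ∀ i, Xi i ⟶ X)
    (h : AlgSp.IsFppfCover (fun i => (Xi i).obj) (fun i => (g i).hom)) :
    AlgSp.IsPhCover (fun i => (Xi i).obj) (fun i => (g i).hom) := by
  refine ⟨fun i => AlgSpLib.locP_mono (P := @LocallyOfFinitePresentation) (Q := @LocallyOfFiniteType)
      (fun _ _ f hf => by haveI : LocallyOfFinitePresentation f := hf; infer_instance) (h.1 i).2,
    fun Z hZ c => ?_⟩
  haveI : IsAffine Z.left := hZ
  choose E φ hE hflat hfp hz i l hl using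
    AlgSpLib.exists_affine_fppf_nhd X.property (fun i => (Xi i).property) h c
  let F₀ : PreZeroHypercover.{u} Z.left := ⟨Z.left, fun z => (E z).left, fun z => (φ z).left⟩
  have hF₀ : HTop.IsPhCover F₀ := Groth.Agent.S7190.result F₀ hflat hfp fun z =>
    let ⟨x, hx⟩ := hz z; ⟨z, x, hx⟩
  obtain ⟨F, hF, hFG⟩ := PhLib.exists_standardPh (PhLib.stable_lifts F₀ (𝟙 Z.left))
    (PhLib.dom_of_isPhCover F₀ hF₀ (𝟙 Z.left))
  refine ⟨F, hF, fun j => ?_⟩
  obtain ⟨z, m, hm⟩ := hFG j
  have hm' : m ≫ (φ z).left = F.f j := hm.trans (Category.comp_id _)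
  let a : Over.mk (F.f j ≫ Z.hom) ⟶ E z := Over.homMk m (by
    show m ≫ (E z).hom = F.f j ≫ Z.hom
    rw [← hm', Category.assoc, Over.w])
  refine ⟨i z, (AlgSp.yon S).map a ≫ l z, ?_⟩
  rw [Category.assoc, hl z, ← Category.assoc, ← Functor.map_comp]
  congr 2
  ext1
  exact hm'

end Groth.Agent.S10514
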