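import Groth.Statements.S10517
import Groth.Agent.PhLib.Scheme
import Groth.Agent.AlgSpLib.LocP

set_option autoImplicit false
universe u
open CategoryTheory CategoryTheory.Limits AlgebraicGeometry
open AlgSp

namespace Groth.Agent.S10517

/-- If `{X_i ⟶ X}` is a ph covering of the algebraic space `X` by algebraic spaces and each `X_i` has a
ph covering `{X_ij ⟶ X_i}` by algebraic spaces, then the composites `X_ij ⟶ X_i ⟶ X`, indexed by the
pairs `(i, j)`, form a ph covering of `X`. -/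
theorem result {S : Scheme.{u}} (X : AlgSp.Space S) {ι : Type u}
    (Xi : ι → AlgSp.Space S) (g : ∀ i, Xi i ⟶ X) (κ : ι → Type u) (Xij : ∀ i, κ i → AlgSp.Space S)
    (gij : ∀ i j, Xij i j ⟶ Xi i)
    (h : AlgSp.IsPhCover (fun i => (Xi i).obj) (fun i => (g i).hom))
    (hij : ∀ i, AlgSp.IsPhCover (fun j => (Xij i j).obj) (fun j => (gij i j).hom)) :
    AlgSp.IsPhCover (fun r : Σ i, κ i => (Xij r.1 r.2).obj) (fun r => (gij r.1 r.2 ≫ g r.1).hom) := by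
  refine ⟨fun r => AlgSpLib.locP_comp (Xij r.1 r.2).property (Xi r.1).property X.property
    ((hij r.1).1 r.2) (h.1 r.1), fun Z hZ c => ?_⟩
  let G₁ : ∀ W : Scheme.{u}, (W ⟶ Z.left) → Prop := fun W k =>
    ∃ (i : ι) (l : (AlgSp.yon S).obj (Over.mk (k ≫ Z.hom)) ⟶ (Xi i).obj),
      l ≫ (g i).hom = (AlgSp.yon S).map (Over.homMk k rfl : Over.mk (k ≫ Z.hom) ⟶ Z) ≫ c
  let G : ∀ W : Scheme.{u}, (W ⟶ Z.left) → Prop := fun W k =>
    ∃ (r : Σ i, κ i) (l : (AlgSp.yon S).obj (Over.mk (k ≫ Z.hom)) ⟶ (Xij r.1 r.2).obj),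
      l ≫ (gij r.1 r.2 ≫ g r.1).hom = (AlgSp.yon S).map (Over.homMk k rfl : Over.mk (k ≫ Z.hom) ⟶ Z) ≫ c
  have key : ∀ {P Q : Over S} {Y : AlgSp.Sp S} (a : P ⟶ Q) (q : Q ⟶ Z) (r : P ⟶ Z) (_ : a ≫ q = r)
      (l : (AlgSp.yon S).obj Q ⟶ Y) (m : Y ⟶ X.obj) (_ : l ≫ m = (AlgSp.yon S).map q ≫ c),
      ((AlgSp.yon S).map a ≫ l) ≫ m = (AlgSp.yon S).map r ≫ c := by
    intro P Q Y a q r hr l m hlm
    rw [← hr, Functor.map_comp, Category.assoc, hlm, Category.assoc]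
  have hG₁ : PhLib.Stable G₁ := by
    rintro W W' a k ⟨i, l, hl⟩
    refine ⟨i, (AlgSp.yon S).map (Over.homMk a (Category.assoc _ _ _).symm :
      Over.mk ((a ≫ k) ≫ Z.hom) ⟶ Over.mk (k ≫ Z.hom)) ≫ l, ?_⟩
    exact key _ _ _ (by ext1; rfl) _ _ hl
  have hG : PhLib.Stable G := by
    rintro W W' a k ⟨r, l, hl⟩
    refine ⟨r, (AlgSp.yon S).map (Over.homMk a (Category.assoc _ _ _).symm :
      Over.mk ((a ≫ k) ≫ Z.hom) ⟶ Over.mk (k ≫ Z.hom)) ≫ l, ?_⟩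
    exact key _ _ _ (by ext1; rfl) _ _ hl
  obtain ⟨F, hF, hFG⟩ := h.2 Z hZ c
  haveI : IsAffine Z.left := hZ
  obtain ⟨F', hF', hF'G⟩ := PhLib.exists_standardPh hG (PhLib.Dom.trans hG₁ hG
    (PhLib.Dom.of_standardPh hG₁ hF fun j => hFG j) fun V k hV ⟨i, l, hl⟩ => by
      obtain ⟨E, hE, hEl⟩ := (hij i).2 (Over.mk (k ≫ Z.hom)) hV l
      refine PhLib.Dom.of_standardPh (hG.restr k) hE fun j => ?_
      obtain ⟨j', l', hl'⟩ := hEl j
      let a : Over.mk ((E.f j ≫ k) ≫ Z.hom) ⟶ Over.mk (E.f j ≫ k ≫ Z.hom) :=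
        Over.homMk (𝟙 _) ((Category.id_comp _).trans (Category.assoc _ _ _).symm)
      refine ⟨⟨i, j'⟩, (AlgSp.yon S).map a ≫ l', ?_⟩
      show ((AlgSp.yon S).map a ≫ l') ≫ (gij i j').hom ≫ (g i).hom = _
      refine key a (Over.homMk (E.f j) rfl ≫ Over.homMk k rfl) _ ?_ _ _ ?_
      · ext1
        exact Category.id_comp _
      · exact ((Category.assoc _ _ _).symm.trans (congrArg (· ≫ (g i).hom) hl')).trans
          (key _ _ _ rfl l _ hl))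
  exact ⟨F', hF', fun j => hF'G j⟩

end Groth.Agent.S10517
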