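import Groth.Statements.S1053
import Groth.Agent.CohDerLib.Basic
-- import your own Groth.Agent.* helpers here

set_option autoImplicit false
universe w v u
open CategoryTheory CategoryTheory.Limits
open CohDer

namespace Groth.Agent.S1053

/-- Let P and K be cochain complexes in an abelian category with P bounded, consisting of projective
objects and zero in degrees below n, and with Hⁱ(K) = 0 for all i ≥ n. Then every morphism P ⟶ K in
the homotopy category and every morphism P ⟶ K in the derived category is zero. -/
theorem result {A : Type u} [Category.{v} A] [Abelian A] [HasDerivedCategory.{w} A]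
    (P K : CochainComplex A ℤ) (n b : ℤ) [P.IsStrictlyGE n] [P.IsStrictlyLE b] (hP : ∀ i : ℤ, Projective (P.X i))
    (hK : ∀ i : ℤ, n ≤ i → IsZero (K.homology i)) :
    (∀ φ : (HomotopyCategory.quotient A (ComplexShape.up ℤ)).obj P ⟶ (HomotopyCategory.quotient A (ComplexShape.up ℤ)).obj K, φ = 0) ∧
    (∀ φ : DerivedCategory.Q.obj P ⟶ DerivedCategory.Q.obj K, φ = 0) := by
  haveI := CochainComplex.isKProjective_of_projective P b
  have hD : ∀ φ : DerivedCategory.Q.obj P ⟶ DerivedCategory.Q.obj K, φ = 0 := by
    intro φ
    haveI : K.IsLE (n - 1) := by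
      rw [CochainComplex.isLE_iff]
      intro i hi
      rw [HomologicalComplex.exactAt_iff_isZero_homology]
      exact hK i (by omega)
    haveI : IsIso (DerivedCategory.Q.map (K.ιTruncLE (n - 1))) :=
      by rw [DerivedCategory.isIso_Q_map_iff_quasiIso]; infer_instance
    let j := asIso (DerivedCategory.Q.map (K.ιTruncLE (n - 1)))
    obtain ⟨g, hg⟩ := (CochainComplex.IsKProjective.Qh_map_bijective P
      ((HomotopyCategory.quotient A (ComplexShape.up ℤ)).obj (K.truncLE (n - 1)))).2
      (φ ≫ j.inv)
    obtain ⟨g', rfl⟩ := (HomotopyCategory.quotient A (ComplexShape.up ℤ)).map_surjective g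
    have h0 : g' = 0 := by
      ext i
      rcases lt_or_ge i n with hi | hi
      · exact (P.isZero_of_isStrictlyGE n i hi).eq_of_src _ _
      · exact ((K.truncLE (n - 1)).isZero_of_isStrictlyLE (n - 1) i (by omega)).eq_of_tgt _ _
    rw [h0, Functor.map_zero, Functor.map_zero] at hg
    exact (cancel_mono j.inv).1 (hg.symm.trans zero_comp.symm)
  refine ⟨fun φ => ?_, hD⟩
  exact (CochainComplex.IsKProjective.Qh_map_bijective P _).1 ((hD _).trans (Functor.map_zero _ _ _).symm)

end Groth.Agent.S1053
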