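import Groth.Statements.S10550
import Groth.Agent.AlgSpLib.SrcFppf

set_option autoImplicit false
universe u
open CategoryTheory CategoryTheory.Limits AlgebraicGeometry
open AlgSp

namespace Groth.Agent.S10550

/-- The property of morphisms of algebraic spaces over S given by f is locally of finite type (on etale
charts) is fppf local on the source: for a morphism f : X ⟶ Y of algebraic spaces and a fppf
covering of X by algebraic spaces X_i, f has the property if and only if every composite X_i ⟶ X ⟶ Y
has it. -/
theorem result (S : Scheme.{u}) :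
    AlgSp.IsLocalOnSource (AlgSp.IsFppfCover (S := S)) (AlgSp.LocP @LocallyOfFiniteType) := by
  intro ι X Xi g hX hXi hτ Y f hY
  haveI : IsZariskiLocalAtSource (@Flat ⊓ @LocallyOfFinitePresentation : MorphismProperty Scheme.{u}) :=
    inferInstance
  refine ⟨fun hf i => AlgSpLib.locP_comp (hXi i) hX hY ?_ hf, fun h =>
    AlgSpLib.locP_of_src_cover @LocallyOfFiniteType (@Flat ⊓ @LocallyOfFinitePresentation)
      (fun π k hπ hπs hh => by
        obtain ⟨h1, h2⟩ := hπ
        haveI : Flat π := h1
        haveI : LocallyOfFinitePresentation π := h2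
        haveI := hπs
        haveI : LocallyOfFiniteType (π ≫ k) := hh
        exact Groth.Agent.S5938.result π k)
      hX hXi g (fun i U V a b k ha hb e => ?_) hτ.2 h⟩
  · exact AlgSpLib.locP_mono (fun _ _ g (_ : LocallyOfFinitePresentation g) => (inferInstance : LocallyOfFiniteType g)) (hτ.1 i).2
  · exact ⟨(hτ.1 i).1 a b k ha hb e, (hτ.1 i).2 a b k ha hb e⟩

end Groth.Agent.S10550
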