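import Groth.Statements.S10553
import Groth.Agent.AlgSpLib.SrcFppf

set_option autoImplicit false
universe u
open CategoryTheory CategoryTheory.Limits AlgebraicGeometry
open AlgSp

namespace Groth.Agent.S10553

/-- The property of morphisms of algebraic spaces over S given by f is smooth (on etale charts) is
smooth local on the source: for a morphism f : X ⟶ Y of algebraic spaces and a smooth covering of X
by algebraic spaces X_i, f has the property if and only if every composite X_i ⟶ X ⟶ Y has it. -/
theorem result (S : Scheme.{u}) :
    AlgSp.IsLocalOnSource (AlgSp.IsSmCover (S := S)) (AlgSp.LocP @Smooth) := by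
  intro ι X Xi g hX hXi hτ Y f hY
  refine ⟨fun hf i => AlgSpLib.locP_comp (hXi i) hX hY (hτ.1 i) hf, fun h =>
    AlgSpLib.locP_of_src_cover @Smooth @Smooth
      (fun π k (hπ : Smooth π) hπs (hh : Smooth (π ≫ k)) => by
        haveI := hπs
        exact FlatLib.smooth_of_fppf_comp π k)
      hX hXi g hτ.1 hτ.2 h⟩

end Groth.Agent.S10553
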