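import Groth.Statements.S10557
import Groth.Agent.AlgSpRegLib.FppfFactor
-- import your own Groth.Agent.* helpers here

set_option autoImplicit false
universe u
open CategoryTheory CategoryTheory.Limits AlgebraicGeometry
open AlgSp

namespace Groth.Agent.S10557

/-- Let g : X ⟶ Y and h : Y ⟶ Z be morphisms of algebraic spaces over S with g a surjection of fppf
sheaves (locally surjective for the fppf topology). For P one of flat, locally of finite type,
locally of finite presentation (checked on etale charts): if the composite X ⟶ Z has P then h has P. -/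
theorem result {S : Scheme.{u}} {X Y Z : AlgSp.Space S} (g : X ⟶ Y) (h : Y ⟶ Z)
    (hg : Sheaf.IsLocallySurjective g.hom) :
    (AlgSp.LocP @Flat (g ≫ h).hom → AlgSp.LocP @Flat h.hom) ∧
    (AlgSp.LocP @LocallyOfFiniteType (g ≫ h).hom → AlgSp.LocP @LocallyOfFiniteType h.hom) ∧
    (AlgSp.LocP @LocallyOfFinitePresentation (g ≫ h).hom →
      AlgSp.LocP @LocallyOfFinitePresentation h.hom) := by
  haveI := hg
  have cast : ∀ P : MorphismProperty Scheme.{u}, AlgSp.LocP P (g ≫ h).hom → AlgSp.LocP P (g.hom ≫ h.hom) :=
    fun P hh => hh
  haveI : AlgSpLib.EtLocProp (@Flat : MorphismProperty Scheme.{u}) := AlgSpLib.etLocProp_of_list (by simp)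
  haveI : AlgSpLib.EtLocProp (@LocallyOfFiniteType : MorphismProperty Scheme.{u}) := AlgSpLib.etLocProp_of_list (by simp)
  haveI : AlgSpLib.EtLocProp (@LocallyOfFinitePresentation : MorphismProperty Scheme.{u}) := AlgSpLib.etLocProp_of_list (by simp)
  refine ⟨fun hh => ?_, fun hh => ?_, fun hh => ?_⟩
  · exact AlgSpRegLib.locP_of_isLocallySurjective_comp @Flat
      (fun e hh => by haveI := hh; exact AlgSpRegLib.flat_of_factor e) X.property Y.property Z.property _ _ (cast _ hh)
  · exact AlgSpRegLib.locP_of_isLocallySurjective_comp @LocallyOfFiniteType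
      (fun e hh => by haveI := hh; exact AlgSpRegLib.locallyOfFiniteType_of_factor e) X.property Y.property Z.property _ _ (cast _ hh)
  · exact AlgSpRegLib.locP_of_isLocallySurjective_comp @LocallyOfFinitePresentation
      (fun e hh => by haveI := hh; exact AlgSpRegLib.locallyOfFinitePresentation_of_factor e) X.property Y.property Z.property _ _ (cast _ hh)


end Groth.Agent.S10557
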