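import Groth.Statements.S10579
import Groth.Agent.AlgSpLib.LocP
import Groth.Agent.AlgSpLib.Points
import Groth.Agent.HensFormalLib.Radicial
-- import your own Groth.Agent.* helpers here

set_option autoImplicit false
universe u
open CategoryTheory CategoryTheory.Limits AlgebraicGeometry
open AlgSp

namespace Groth.Agent.S10579

/-- Let f : X ⟶ Y be a morphism of algebraic spaces over S and x ∈ |X|. If X is geometrically unibranch
at x and f is flat at x, then Y is geometrically unibranch at the image point f(x). Here an
algebraic space is geometrically unibranch at a point when for every etale chart from a scheme U and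
every point u of U over it the local ring of U at u is geometrically unibranch. -/
theorem result {S : Scheme.{u}} {X Y : AlgSp.Space S} (f : X ⟶ Y) (x : AlgSp.Points X.obj)
    (hf : AlgSp.IsFlatAtMor f.hom x)
    (hX : ∀ (U : Over S) (a : (AlgSp.yon S).obj U ⟶ X.obj) (v : ↥U.left), AlgSp.RepWith @Etale a →
      AlgSp.Points.ofPt a v = x → CAlg2.IsGeomUnibranch ↥(U.left.presheaf.stalk v))
    (V : Over S) (b : (AlgSp.yon S).obj V ⟶ Y.obj) (w : ↥V.left) (hb : AlgSp.RepWith @Etale b)
    (hw : AlgSp.Points.ofPt b w = AlgSp.Points.map f.hom x) :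
    CAlg2.IsGeomUnibranch ↥(V.left.presheaf.stalk w) := by
  obtain ⟨U, c, h, hc, hcs, hch⟩ := AlgSpLib.exists_atlas_pullback X.property Y.property f.hom b
  have sq := IsPullback.of_hasPullback f.hom b
  have hw' : Points.map f.hom x = Points.map b (Points.ofScheme V w) := by
    rw [← hw, Points.ofPt_eq_map_ofScheme]
  obtain ⟨z, hz1, hz2⟩ := AlgSpLib.exists_point_isPullback sq x _ hw'
  obtain ⟨u, rfl⟩ := AlgSpLib.surjective_ofPt hcs z
  rw [Points.map_ofPt] at hz1 hz2
  have hu : h.left u = w := by
    rw [hch, ← Category.comp_id ((yon S).map h), AlgSpLib.ofPt_yon_comp] at hz2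
    exact (Points.schemeHomeo V).injective hz2
  have ha : AlgSp.RepWith @Etale (c ≫ pullback.fst f.hom b) :=
    AlgSpLib.repWith_comp hc (AlgSpLib.repWith_of_isPullback sq.flip hb)
  have e : (c ≫ pullback.fst f.hom b) ≫ f.hom = (yon S).map h ≫ b := by
    rw [← hch, Category.assoc, Category.assoc, sq.w]
  have hflat : (Scheme.Hom.stalkMap h.left u).hom.Flat :=
    hf (c ≫ pullback.fst f.hom b) b h u ha hb e hz1
  have hgu := hX U (c ≫ pullback.fst f.hom b) u ha hz1
  subst hu
  algebraize [(Scheme.Hom.stalkMap h.left u).hom]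
  haveI : IsLocalHom (algebraMap ↥(V.left.presheaf.stalk (h.left u)) ↥(U.left.presheaf.stalk u)) :=
    inferInstanceAs (IsLocalHom (Scheme.Hom.stalkMap h.left u).hom)
  exact HensFormalLib.isGeomUnibranch_of_faithfullyFlat _ _ hgu

end Groth.Agent.S10579
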