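import Groth.Statements.S10580
import Groth.Agent.AlgSpLib.SrcLocal

set_option autoImplicit false
universe u
open CategoryTheory CategoryTheory.Limits AlgebraicGeometry
open AlgSp

namespace Groth.Agent.S10580
open AlgSpLib

/-- Let P be a property of morphisms of schemes and P_spaces the induced property of morphisms of
algebraic spaces over S (P on every etale chart diagram). For τ one of fpqc, fppf, smooth, etale: if
P is τ local on the source for morphisms of schemes, then P_spaces is τ local on the source for
morphisms of algebraic spaces. (The published statement assumes P etale local on the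
source-and-target, which is what makes the chart-wise property the right notion; the implication
itself holds for every P and is stated that way. The syntomic case is not included. τ-locality on
the source for schemes is taken in the form that includes invariance of P under isomorphisms, which
the published definition requires implicitly.) -/
theorem result (S : Scheme.{u}) (P : MorphismProperty Scheme.{u}) :
    (P.IsLocalAtSource Scheme.fpqcPrecoverage → AlgSp.IsLocalOnSource (AlgSp.IsFpqcCover (S := S)) (AlgSp.LocP P)) ∧
    (P.IsLocalAtSource Scheme.fppfPrecoverage → AlgSp.IsLocalOnSource (AlgSp.IsFppfCover (S := S)) (AlgSp.LocP P)) ∧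
    (P.IsLocalAtSource (Scheme.precoverage @Smooth) → AlgSp.IsLocalOnSource (AlgSp.IsSmCover (S := S)) (AlgSp.LocP P)) ∧
    (P.IsLocalAtSource Scheme.etalePrecoverage → AlgSp.IsLocalOnSource (AlgSp.IsEtCover (S := S)) (AlgSp.LocP P)) := by
  have : (@Flat ⊓ @LocallyOfFinitePresentation : MorphismProperty Scheme.{u}).ContainsIdentities :=
    ⟨fun _ => ⟨inferInstance, inferInstance⟩⟩
  have : MorphismProperty.ContainsIdentities (@Smooth : MorphismProperty Scheme.{u}) := ⟨fun _ => inferInstance⟩
  refine ⟨fun _ => isLocalOnSource_fpqc_of_isLocalAtSource P, fun h' => ?_, fun _ => ?_, fun h' => ?_⟩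
  · have : P.IsLocalAtSource (Scheme.precoverage (@Flat ⊓ @LocallyOfFinitePresentation)) := h'
    exact isLocalOnSource_of_isLocalAtSource_precoverage P (@Flat ⊓ @LocallyOfFinitePresentation)
      (fun _ _ f (_ : Etale f) => ⟨inferInstance, inferInstance⟩) _ fun _ _ _ _ h =>
      ⟨fun i _ _ a b k ha hb e => ⟨(h.1 i).1 a b k ha hb e, (h.1 i).2 a b k ha hb e⟩, h.2⟩
  · exact isLocalOnSource_of_isLocalAtSource_precoverage P @Smooth etale_le_smooth _ fun _ _ _ _ h => h
  · have : P.IsLocalAtSource (Scheme.precoverage @Etale) := h'
    exact isLocalOnSource_of_isLocalAtSource_precoverage P @Etale le_rfl _ fun _ _ _ _ h =>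
      ⟨fun i => locP_etale_of_isEtaleMor (h.1 i), h.2⟩

end Groth.Agent.S10580
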