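import Groth.Statements.S10581
import Groth.Agent.AlgSpFlatMonoLib
import Groth.Agent.AlgSpLib.LocP

set_option autoImplicit false
set_option backward.isDefEq.respectTransparency false
set_option backward.isDefEq.respectTransparency.types false
universe u
open CategoryTheory CategoryTheory.Limits AlgebraicGeometry
open AlgSp

namespace Groth.Agent.S10581

/-- If a morphism of algebraic spaces is both flat and a monomorphism, then it is representable by
schemes. Flatness is the etale-local condition on charts; the monomorphism condition is taken in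
fppf sheaves. -/
theorem result {S : Scheme.{u}} {X Y : AlgSp.Space S} (f : X ⟶ Y)
    (hflat : AlgSp.LocP @Flat f.hom) [Mono f.hom] : AlgSp.Representable f.hom := by
  intro T ξ
  have sq := IsPullback.of_hasPullback f.hom ξ
  have hT := IsAlgSpace.yon_obj (S := S) T
  have hP := AlgSpLib.isAlgSpace_pullback X.property hT Y.property f.hom ξ
  haveI : Mono (pullback.snd f.hom ξ) := inferInstance
  have hl := AlgSpLib.locP_of_isPullback X.property Y.property hT sq hflat
  obtain ⟨U, a, ha, has⟩ := hP.atlas
  obtain ⟨p, hp⟩ := (yon S).map_surjective (a ≫ pullback.snd f.hom ξ)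
  haveI : Flat p.left := hl a (𝟙 _) p ha (AlgSp.repWith_id _ _) (by rw [Category.comp_id, hp])
  obtain ⟨W, ⟨e⟩⟩ := AlgSpFlatMono.isRepSh_of_flat_mono hP (pullback.snd f.hom ξ) a ha has p hp
  obtain ⟨s, hs⟩ := (yon S).map_surjective (e.hom ≫ pullback.snd f.hom ξ)
  exact ⟨W, s, e.hom ≫ pullback.fst f.hom ξ, sq.of_iso e.symm (Iso.refl _) (Iso.refl _) (Iso.refl _)
    (by simp) (by simp [hs]) (by simp) (by simp)⟩

end Groth.Agent.S10581
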