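import Groth.Statements.S10592
import Groth.Agent.AlgSpThickLib.Global
-- import your own Groth.Agent.* helpers here

set_option autoImplicit false
universe u
open CategoryTheory CategoryTheory.Limits AlgebraicGeometry
open AlgSp

namespace Groth.Agent.S10592

/-- Consider a morphism (f, f') from the thickening X ⊂ X' to the thickening Y ⊂ Y' of algebraic spaces
over S, meaning: i : X ⟶ X' and j : Y ⟶ Y' are thickenings (representable, every base change to a
scheme a surjective closed immersion) and i ≫ f' = f ≫ j. Assume moreover that the square is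
cartesian (X = Y ×_{Y'} X') and that i is a finite order thickening (for one n, on every affine
etale scheme chart of X' the (n+1)-st power of the ideal of the base change of X vanishes). Then f
is a closed immersion, resp. proper, resp. finite, resp. an immersion, if and only if f' is
(immersions of algebraic spaces being the representable ones). -/
theorem result {S : Scheme.{u}} {X X' Y Y' : AlgSp.Space S} (i : X ⟶ X') (j : Y ⟶ Y')
    (f : X ⟶ Y) (f' : X' ⟶ Y')
    (hi : AlgSp.IsThickMor i.hom)
    (hj : AlgSp.IsThickMor j.hom) (w : i ≫ f' = f ≫ j)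
    (hcart : IsPullback i.hom f.hom f'.hom j.hom)
    (hfo : AlgSp.IsFinThickMor i.hom) :
    (AlgSp.RepWith @IsClosedImmersion f.hom ↔ AlgSp.RepWith @IsClosedImmersion f'.hom) ∧
    (AlgSp.IsProperMor f.hom ↔ AlgSp.IsProperMor f'.hom) ∧
    (AlgSp.IsFiniteMor f.hom ↔ AlgSp.IsFiniteMor f'.hom) ∧
    (AlgSp.RepWith @IsImmersion f.hom ↔ AlgSp.RepWith @IsImmersion f'.hom) := by
  have hb : ∀ h : AlgSp.LocP @LocallyOfFiniteType f'.hom, AlgSp.LocP @LocallyOfFiniteType f.hom := fun h =>
    AlgSpLib.locP_of_isPullback X'.property Y'.property Y.property hcart h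
  have hl : ∀ h : AlgSp.LocP @LocallyOfFiniteType f.hom, AlgSp.LocP @LocallyOfFiniteType f'.hom := fun h =>
    AlgSpThickLib.locP_lft_of_thick hj hcart hfo h
  have cX := X.property
  have cX' := X'.property
  have cY := Y.property
  have cY' := Y'.property
  refine ⟨⟨fun h => ?_, fun h => AlgSpLib.repWith_of_isPullback hcart h⟩, ⟨fun h => ?_, fun h => ?_⟩,
    ⟨fun h => ?_, fun h => AlgSpLib.isFiniteMor_iff.2
      (AlgSpLib.repWith_of_isPullback hcart (AlgSpLib.isFiniteMor_iff.1 h))⟩,
    ⟨fun h => ?_, fun h => AlgSpLib.repWith_of_isPullback hcart h⟩⟩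
  · have h1 : AlgSp.LocP @LocallyOfFiniteType f.hom := AlgSpLib.locP_of_repWith (AlgSpLib.repWith_mono
      (fun _ _ g (_ : IsClosedImmersion g) => (inferInstance : LocallyOfFiniteType g)) h)
    exact (AlgSpThickLib.closedImmersion_iff cX cX' cY cY' hj hcart h1 (hl h1)).1 h
  · exact (AlgSpThickLib.isProperMor_iff cX cX' cY cY' hj hcart h.2.1.1 (hl h.2.1.1)).1 h
  · exact (AlgSpThickLib.isProperMor_iff cX cX' cY cY' hj hcart (hb h.2.1.1) h.2.1.1).2 h
  · have h1 : AlgSp.LocP @LocallyOfFiniteType f.hom :=
      ((AlgSpLib.isFiniteMor_iff_affine_proper cX cY).1 h).2.2.1.1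
    exact (AlgSpThickLib.isFiniteMor_iff' cX cX' cY cY' hj hcart h1 (hl h1)).1 h
  · have h1 : AlgSp.LocP @LocallyOfFiniteType f.hom := AlgSpLib.locP_of_repWith (AlgSpLib.repWith_mono
      (fun _ _ g (_ : IsImmersion g) => (inferInstance : LocallyOfFiniteType g)) h)
    exact (AlgSpThickLib.immersion_iff cX cX' cY cY' hj hcart h1 (hl h1)).1 h

end Groth.Agent.S10592
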