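import Groth.Statements.S10595
import Groth.Agent.AlgSpThickLib.DeformGlobal
-- import your own Groth.Agent.* helpers here

set_option autoImplicit false
universe u
open CategoryTheory CategoryTheory.Limits AlgebraicGeometry
open AlgSp

namespace Groth.Agent.S10595

/-- Let iB : B ⟶ B' be a finite order thickening of algebraic spaces over S (a thickening such that for
one n the (n+1)-st power of the ideal vanishes on every affine etale scheme chart), f' : X' ⟶ Y' a
morphism of algebraic spaces over B' (via g' : Y' ⟶ B') with X' flat over B', and f : X ⟶ Y, g : Y ⟶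
B its base change to B (both squares to iB cartesian, iX ≫ f' = f ≫ iY). If f is flat, then f' is
flat and g' : Y' ⟶ B' is flat at every point of Y' in the image of f'. -/
theorem result {S : Scheme.{u}} {X X' Y Y' B B' : AlgSp.Space S} (iX : X ⟶ X') (iY : Y ⟶ Y') (iB : B ⟶ B')
    (f : X ⟶ Y) (f' : X' ⟶ Y') (g : Y ⟶ B) (g' : Y' ⟶ B')
    (hcX : IsPullback iX.hom (f ≫ g).hom (f' ≫ g').hom iB.hom) (hcY : IsPullback iY.hom g.hom g'.hom iB.hom)
    (w : iX ≫ f' = f ≫ iY)
    (hB : AlgSp.IsFinThickMor iB.hom) (hflat : AlgSp.LocP @Flat (f' ≫ g').hom)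
    (hf : AlgSp.LocP @Flat f.hom) :
    AlgSp.LocP @Flat f'.hom ∧
    ∀ x' : AlgSp.Points X'.obj, AlgSp.IsFlatAtMor g'.hom (AlgSp.Points.map f'.hom x') := by
  have hwY : AlgSp.IsThickMor iY.hom := AlgSpLib.repWith_of_isPullback hcY.flip hB.choose_spec.1
  have e : iX.hom ≫ f'.hom = f.hom ≫ iY.hom := congr($(w).hom)
  have sX : IsPullback iX.hom (f.hom ≫ g.hom) (f'.hom ≫ g'.hom) iB.hom := hcX
  have sF : AlgSp.LocP @Flat (f'.hom ≫ g'.hom) := hflat
  have hc : IsPullback iX.hom f.hom f'.hom iY.hom := IsPullback.of_bot sX e hcY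
  have cX := X.property
  have cX' := X'.property
  have cY := Y.property
  have cY' := Y'.property
  have cB' := B'.property
  have h1 := (AlgSpThickLib.flat_iff cX' cY' cB' sX hcY e hB sF).1 hf
  exact ⟨h1, AlgSpThickLib.isFlatAtMor_image cX' cY' h1 sF⟩

end Groth.Agent.S10595
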