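import Groth.Statements.S10596
import Groth.Agent.AlgSpThickLib.DeformGlobal
-- import your own Groth.Agent.* helpers here

set_option autoImplicit false
universe u
open CategoryTheory CategoryTheory.Limits AlgebraicGeometry
open AlgSp

namespace Groth.Agent.S10596

/-- Let iB : B ⟶ B' be a finite order thickening of algebraic spaces over S (a thickening such that for
one n the (n+1)-st power of the ideal vanishes on every affine etale scheme chart), f' : X' ⟶ Y' a
morphism of algebraic spaces over B' (via g' : Y' ⟶ B') with X' flat over B', and f : X ⟶ Y, g : Y ⟶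
B its base change to B (both squares to iB cartesian, iX ≫ f' = f ≫ iY). Then f is locally of finite
type of relative dimension d, resp. flat, resp. locally of finite type, locally quasi-finite,
locally of finite presentation, smooth, unramified, etale, if and only if f' is (etale-local sense;
locally quasi-finite and unramified include locally of finite type). -/
theorem result {S : Scheme.{u}} {X X' Y Y' B B' : AlgSp.Space S} (iX : X ⟶ X') (iY : Y ⟶ Y') (iB : B ⟶ B')
    (f : X ⟶ Y) (f' : X' ⟶ Y') (g : Y ⟶ B) (g' : Y' ⟶ B')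
    (hcX : IsPullback iX.hom (f ≫ g).hom (f' ≫ g').hom iB.hom) (hcY : IsPullback iY.hom g.hom g'.hom iB.hom)
    (w : iX ≫ f' = f ≫ iY)
    (hB : AlgSp.IsFinThickMor iB.hom) (hflat : AlgSp.LocP @Flat (f' ≫ g').hom) (d : ℕ) :
    ((AlgSp.LocP @LocallyOfFiniteType f.hom ∧
        ∀ x, AlgSp.HasAtMor (fun _ _ h u => FlatMor.fibreDimAt h u = (d : WithBot ℕ∞)) f.hom x) ↔
      (AlgSp.LocP @LocallyOfFiniteType f'.hom ∧
        ∀ x', AlgSp.HasAtMor (fun _ _ h u => FlatMor.fibreDimAt h u = (d : WithBot ℕ∞)) f'.hom x')) ∧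
    (AlgSp.LocP @Flat f.hom ↔ AlgSp.LocP @Flat f'.hom) ∧
    (AlgSp.LocP @LocallyOfFiniteType f.hom ↔ AlgSp.LocP @LocallyOfFiniteType f'.hom) ∧
    (AlgSp.LocP (@LocallyQuasiFinite ⊓ @LocallyOfFiniteType) f.hom ↔
      AlgSp.LocP (@LocallyQuasiFinite ⊓ @LocallyOfFiniteType) f'.hom) ∧
    (AlgSp.LocP @LocallyOfFinitePresentation f.hom ↔ AlgSp.LocP @LocallyOfFinitePresentation f'.hom) ∧
    (AlgSp.LocP @Smooth f.hom ↔ AlgSp.LocP @Smooth f'.hom) ∧
    (AlgSp.LocP (@LocallyOfFiniteType ⊓ @FormallyUnramified) f.hom ↔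
      AlgSp.LocP (@LocallyOfFiniteType ⊓ @FormallyUnramified) f'.hom) ∧
    (AlgSp.IsEtaleMor f.hom ↔ AlgSp.IsEtaleMor f'.hom) := by
  have hwY : AlgSp.IsThickMor iY.hom := AlgSpLib.repWith_of_isPullback hcY.flip hB.choose_spec.1
  have e : iX.hom ≫ f'.hom = f.hom ≫ iY.hom := congr($(w).hom)
  have sX : IsPullback iX.hom (f.hom ≫ g.hom) (f'.hom ≫ g'.hom) iB.hom := hcX
  have sF : AlgSp.LocP @Flat (f'.hom ≫ g'.hom) := hflat
  have hc : IsPullback iX.hom f.hom f'.hom iY.hom := IsPullback.of_bot sX e hcY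
  have cX := X.property
  have cX' := X'.property
  have cY := Y.property
  have cY' := Y'.property
  have cB' := B'.property
  have hl := (AlgSpThickLib.lft_iff cX' cY' cB' sX hcY e hB sF).1
  refine ⟨⟨fun h => ?_, fun h => ?_⟩, AlgSpThickLib.flat_iff cX' cY' cB' sX hcY e hB sF,
    AlgSpThickLib.lft_iff cX' cY' cB' sX hcY e hB sF, ⟨fun h => ?_, fun h => ?_⟩,
    AlgSpThickLib.lfp_iff cX' cY' cB' sX hcY e hB sF, AlgSpThickLib.smooth_iff cX' cY' cB' sX hcY e hB sF,
    ⟨fun h => ?_, fun h => ?_⟩, AlgSpThickLib.etale_iff cX' cY' cB' sX hcY e hB sF⟩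
  · exact ⟨hl h.1, (AlgSpThickLib.fibreDim_iff cX' cY cY' hwY hc (hl h.1)
      (fun t => t = (d : WithBot ℕ∞))).1 h.2⟩
  · exact ⟨AlgSpLib.locP_of_isPullback cX' cY' cY hc h.1, (AlgSpThickLib.fibreDim_iff cX' cY cY' hwY hc h.1
      (fun t => t = (d : WithBot ℕ∞))).2 h.2⟩
  · exact AlgSpThickLib.locP_lqf_of_thick hwY hc (hl (AlgSpLib.locP_mono inf_le_right h)) h
  · exact AlgSpLib.locP_of_isPullback cX' cY' cY hc h
  · exact AlgSpThickLib.locP_unr_of_thick hwY hc (hl (AlgSpLib.locP_mono inf_le_left h)) h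
  · exact AlgSpLib.locP_of_isPullback cX' cY' cY hc h

end Groth.Agent.S10596
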