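import Groth.Statements.S10597
import Groth.Agent.AlgSpThickLib.DeformGlobal
-- import your own Groth.Agent.* helpers here

set_option autoImplicit false
universe u
open CategoryTheory CategoryTheory.Limits AlgebraicGeometry
open AlgSp

namespace Groth.Agent.S10597

/-- Let iB : B ⟶ B' be a finite order thickening of algebraic spaces over S (a thickening such that for
one n the (n+1)-st power of the ideal vanishes on every affine etale scheme chart), f' : X' ⟶ Y' a
morphism of algebraic spaces over B' (via g' : Y' ⟶ B') with X' flat over B', and f : X ⟶ Y, g : Y ⟶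
B its base change to B (both squares to iB cartesian, iX ≫ f' = f ≫ iY). Then f is an isomorphism,
resp. an open immersion, resp. a monomorphism, resp. finite locally free, resp. finite locally free
of degree d, if and only if f' is. -/
theorem result {S : Scheme.{u}} {X X' Y Y' B B' : AlgSp.Space S} (iX : X ⟶ X') (iY : Y ⟶ Y') (iB : B ⟶ B')
    (f : X ⟶ Y) (f' : X' ⟶ Y') (g : Y ⟶ B) (g' : Y' ⟶ B')
    (hcX : IsPullback iX.hom (f ≫ g).hom (f' ≫ g').hom iB.hom) (hcY : IsPullback iY.hom g.hom g'.hom iB.hom)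
    (w : iX ≫ f' = f ≫ iY)
    (hB : AlgSp.IsFinThickMor iB.hom) (hflat : AlgSp.LocP @Flat (f' ≫ g').hom) :
    (IsIso f.hom ↔ IsIso f'.hom) ∧
    (AlgSp.RepWith @IsOpenImmersion f.hom ↔ AlgSp.RepWith @IsOpenImmersion f'.hom) ∧
    (Mono f.hom ↔ Mono f'.hom) ∧
    (AlgSp.IsFinLocFreeMor f.hom ↔ AlgSp.IsFinLocFreeMor f'.hom) ∧
    (∀ d : ℕ, AlgSp.IsFinLocFreeOfDegMor d f.hom ↔ AlgSp.IsFinLocFreeOfDegMor d f'.hom) := by
  have hwY : AlgSp.IsThickMor iY.hom := AlgSpLib.repWith_of_isPullback hcY.flip hB.choose_spec.1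
  have e : iX.hom ≫ f'.hom = f.hom ≫ iY.hom := congr($(w).hom)
  have sX : IsPullback iX.hom (f.hom ≫ g.hom) (f'.hom ≫ g'.hom) iB.hom := hcX
  have sF : AlgSp.LocP @Flat (f'.hom ≫ g'.hom) := hflat
  have hc : IsPullback iX.hom f.hom f'.hom iY.hom := IsPullback.of_bot sX e hcY
  have cX := X.property
  have cX' := X'.property
  have cY := Y.property
  have cY' := Y'.property
  have cB' := B'.property
  have hE := (AlgSpThickLib.etale_iff cX' cY' cB' sX hcY e hB sF).1
  obtain ⟨q, hqB, hqe, hqX⟩ := AlgSpThickLib.exists_diag_data sX hc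
  have hP' := AlgSpLib.isAlgSpace_pullback cX' cX' cY' f'.hom f'.hom
  have hM := AlgSpThickLib.mono_iff_of_etale cX cX' cY cY' hB.choose_spec.1 sX hcY e
    (AlgSpThickLib.etale_iff cX' hP' cB' hqX hqB hqe hB (by rwa [pullback.diagonal_fst_assoc])).1
  have hflf := AlgSpThickLib.finLocFree_iff cX cX' cY cY' hB.choose_spec.1 sX hcY e (AlgSpThickLib.lft_iff cX' cY' cB' sX hcY e hB sF).1 (AlgSpThickLib.flat_iff cX' cY' cB' sX hcY e hB sF).1 (AlgSpThickLib.lfp_iff cX' cY' cB' sX hcY e hB sF).1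
  exact ⟨AlgSpThickLib.isIso_iff_of_etale cX cX' cY cY' hB.choose_spec.1 sX hcY e hE hM,
    AlgSpThickLib.openImmersion_iff_of_etale cX cX' cY cY' hB.choose_spec.1 sX hcY e hE hM, hM, hflf,
    AlgSpThickLib.finLocFreeOfDeg_iff cX cX' cY cY' hB.choose_spec.1 sX hcY e hflf⟩

end Groth.Agent.S10597
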