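import Groth.Statements.S10599
import Groth.Agent.AlgSpThickLib.DeformGlobal
-- import your own Groth.Agent.* helpers here

set_option autoImplicit false
universe u
open CategoryTheory CategoryTheory.Limits AlgebraicGeometry
open AlgSp

namespace Groth.Agent.S10599

/-- Let iB : B ⟶ B' be a thickening of algebraic spaces over S (representable, every base change to a
scheme a surjective closed immersion), f' : X' ⟶ Y' a morphism of algebraic spaces over B' (via g' :
Y' ⟶ B') with Y' locally of finite type over B' and X' flat and locally of finite presentation over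
B', and f : X ⟶ Y, g : Y ⟶ B its base change to B (both squares to iB cartesian, iX ≫ f' = f ≫ iY).
Then f is locally of finite type of relative dimension d, resp. flat, resp. locally quasi-finite,
smooth, unramified, etale, if and only if f' is (etale-local sense; locally quasi-finite and
unramified include locally of finite type). -/
theorem result {S : Scheme.{u}} {X X' Y Y' B B' : AlgSp.Space S} (iX : X ⟶ X') (iY : Y ⟶ Y') (iB : B ⟶ B')
    (f : X ⟶ Y) (f' : X' ⟶ Y') (g : Y ⟶ B) (g' : Y' ⟶ B')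
    (hcX : IsPullback iX.hom (f ≫ g).hom (f' ≫ g').hom iB.hom) (hcY : IsPullback iY.hom g.hom g'.hom iB.hom)
    (w : iX ≫ f' = f ≫ iY)
    (hB : AlgSp.IsThickMor iB.hom)
    (hg' : AlgSp.LocP @LocallyOfFiniteType g'.hom)
    (hflat : AlgSp.LocP @Flat (f' ≫ g').hom) (hfp : AlgSp.LocP @LocallyOfFinitePresentation (f' ≫ g').hom) (d : ℕ) :
    ((AlgSp.LocP @LocallyOfFiniteType f.hom ∧
        ∀ x, AlgSp.HasAtMor (fun _ _ h u => FlatMor.fibreDimAt h u = (d : WithBot ℕ∞)) f.hom x) ↔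
      (AlgSp.LocP @LocallyOfFiniteType f'.hom ∧
        ∀ x', AlgSp.HasAtMor (fun _ _ h u => FlatMor.fibreDimAt h u = (d : WithBot ℕ∞)) f'.hom x')) ∧
    (AlgSp.LocP @Flat f.hom ↔ AlgSp.LocP @Flat f'.hom) ∧
    (AlgSp.LocP (@LocallyQuasiFinite ⊓ @LocallyOfFiniteType) f.hom ↔
      AlgSp.LocP (@LocallyQuasiFinite ⊓ @LocallyOfFiniteType) f'.hom) ∧
    (AlgSp.LocP @Smooth f.hom ↔ AlgSp.LocP @Smooth f'.hom) ∧
    (AlgSp.LocP (@LocallyOfFiniteType ⊓ @FormallyUnramified) f.hom ↔
      AlgSp.LocP (@LocallyOfFiniteType ⊓ @FormallyUnramified) f'.hom) ∧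
    (AlgSp.IsEtaleMor f.hom ↔ AlgSp.IsEtaleMor f'.hom) := by
  have hwY : AlgSp.IsThickMor iY.hom := AlgSpLib.repWith_of_isPullback hcY.flip hB
  have e : iX.hom ≫ f'.hom = f.hom ≫ iY.hom := congr($(w).hom)
  have sX : IsPullback iX.hom (f.hom ≫ g.hom) (f'.hom ≫ g'.hom) iB.hom := hcX
  have sF : AlgSp.LocP @Flat (f'.hom ≫ g'.hom) := hflat
  have hc : IsPullback iX.hom f.hom f'.hom iY.hom := IsPullback.of_bot sX e hcY
  have cX := X.property
  have cX' := X'.property
  have cY := Y.property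
  have cY' := Y'.property
  have cB' := B'.property
  have sP : AlgSp.LocP @LocallyOfFinitePresentation (f'.hom ≫ g'.hom) := hfp
  have hl' : AlgSp.LocP @LocallyOfFinitePresentation f'.hom :=
    AlgSpThickLib.lfp_of_fp_over_ft cX' cY' cB' hg' sP
  have hft' : AlgSp.LocP @LocallyOfFiniteType f'.hom :=
    AlgSpLib.locP_mono (fun _ _ k (_ : LocallyOfFinitePresentation k) => (inferInstance : LocallyOfFiniteType k)) hl'
  have hft : AlgSp.LocP @LocallyOfFiniteType f.hom := AlgSpLib.locP_of_isPullback cX' cY' cY hc hft'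
  have hl : AlgSp.LocP @LocallyOfFiniteType f.hom → AlgSp.LocP @LocallyOfFiniteType f'.hom := fun _ => hft'
  refine ⟨⟨fun h => ?_, fun h => ?_⟩, AlgSpThickLib.flat_iff_fp cX' cY' cB' sX hcY e hB hg' sF sP,
    ⟨fun h => ?_, fun h => ?_⟩, AlgSpThickLib.smooth_iff_fp cX' cY' cB' sX hcY e hB hg' sF sP,
    ⟨fun h => ?_, fun h => ?_⟩, AlgSpThickLib.etale_iff_fp cX' cY' cB' sX hcY e hB hg' sF sP⟩
  · exact ⟨hl h.1, (AlgSpThickLib.fibreDim_iff cX' cY cY' hwY hc (hl h.1)
      (fun t => t = (d : WithBot ℕ∞))).1 h.2⟩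
  · exact ⟨AlgSpLib.locP_of_isPullback cX' cY' cY hc h.1, (AlgSpThickLib.fibreDim_iff cX' cY cY' hwY hc h.1
      (fun t => t = (d : WithBot ℕ∞))).2 h.2⟩
  · exact AlgSpThickLib.locP_lqf_of_thick hwY hc (hl (AlgSpLib.locP_mono inf_le_right h)) h
  · exact AlgSpLib.locP_of_isPullback cX' cY' cY hc h
  · exact AlgSpThickLib.locP_unr_of_thick hwY hc (hl (AlgSpLib.locP_mono inf_le_left h)) h
  · exact AlgSpLib.locP_of_isPullback cX' cY' cY hc h

end Groth.Agent.S10599
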