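import Groth.Statements.S10600
import Groth.Agent.AlgSpThickLib.DeformGlobal
-- import your own Groth.Agent.* helpers here

set_option autoImplicit false
universe u
open CategoryTheory CategoryTheory.Limits AlgebraicGeometry
open AlgSp

namespace Groth.Agent.S10600

/-- Let iB : B ⟶ B' be a thickening of algebraic spaces over S (representable, every base change to a
scheme a surjective closed immersion), f' : X' ⟶ Y' a morphism of algebraic spaces over B' (via g' :
Y' ⟶ B') with Y' locally of finite type over B' and X' flat and locally of finite presentation over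
B', and f : X ⟶ Y, g : Y ⟶ B its base change to B (both squares to iB cartesian, iX ≫ f' = f ≫ iY).
Then f is an isomorphism, resp. an open immersion, resp. a monomorphism, resp. finite locally free,
resp. finite locally free of degree d, if and only if f' is. -/
theorem result {S : Scheme.{u}} {X X' Y Y' B B' : AlgSp.Space S} (iX : X ⟶ X') (iY : Y ⟶ Y') (iB : B ⟶ B')
    (f : X ⟶ Y) (f' : X' ⟶ Y') (g : Y ⟶ B) (g' : Y' ⟶ B')
    (hcX : IsPullback iX.hom (f ≫ g).hom (f' ≫ g').hom iB.hom) (hcY : IsPullback iY.hom g.hom g'.hom iB.hom)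
    (w : iX ≫ f' = f ≫ iY)
    (hB : AlgSp.IsThickMor iB.hom)
    (hg' : AlgSp.LocP @LocallyOfFiniteType g'.hom)
    (hflat : AlgSp.LocP @Flat (f' ≫ g').hom) (hfp : AlgSp.LocP @LocallyOfFinitePresentation (f' ≫ g').hom) :
    (IsIso f.hom ↔ IsIso f'.hom) ∧
    (AlgSp.RepWith @IsOpenImmersion f.hom ↔ AlgSp.RepWith @IsOpenImmersion f'.hom) ∧
    (Mono f.hom ↔ Mono f'.hom) ∧
    (AlgSp.IsFinLocFreeMor f.hom ↔ AlgSp.IsFinLocFreeMor f'.hom) ∧
    (∀ d : ℕ, AlgSp.IsFinLocFreeOfDegMor d f.hom ↔ AlgSp.IsFinLocFreeOfDegMor d f'.hom) := by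
  have hwY : AlgSp.IsThickMor iY.hom := AlgSpLib.repWith_of_isPullback hcY.flip hB
  have e : iX.hom ≫ f'.hom = f.hom ≫ iY.hom := congr($(w).hom)
  have sX : IsPullback iX.hom (f.hom ≫ g.hom) (f'.hom ≫ g'.hom) iB.hom := hcX
  have sF : AlgSp.LocP @Flat (f'.hom ≫ g'.hom) := hflat
  have hc : IsPullback iX.hom f.hom f'.hom iY.hom := IsPullback.of_bot sX e hcY
  have cX := X.property
  have cX' := X'.property
  have cY := Y.property
  have cY' := Y'.property
  have cB' := B'.property
  have sP : AlgSp.LocP @LocallyOfFinitePresentation (f'.hom ≫ g'.hom) := hfp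
  have hl' : AlgSp.LocP @LocallyOfFinitePresentation f'.hom :=
    AlgSpThickLib.lfp_of_fp_over_ft cX' cY' cB' hg' sP
  have hft' : AlgSp.LocP @LocallyOfFiniteType f'.hom :=
    AlgSpLib.locP_mono (fun _ _ k (_ : LocallyOfFinitePresentation k) => (inferInstance : LocallyOfFiniteType k)) hl'
  have hft : AlgSp.LocP @LocallyOfFiniteType f.hom := AlgSpLib.locP_of_isPullback cX' cY' cY hc hft'
  have hE := (AlgSpThickLib.etale_iff_fp cX' cY' cB' sX hcY e hB hg' sF sP).1
  obtain ⟨q, hqB, hqe, hqX⟩ := AlgSpThickLib.exists_diag_data sX hc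
  have hP' := AlgSpLib.isAlgSpace_pullback cX' cX' cY' f'.hom f'.hom
  have hgP : AlgSp.LocP @LocallyOfFiniteType (pullback.fst f'.hom f'.hom ≫ f'.hom ≫ g'.hom) :=
    AlgSpLib.locP_comp hP' cX' cB'
      (AlgSpLib.locP_of_isPullback cX' cY' cX' (IsPullback.of_hasPullback f'.hom f'.hom).flip hft')
      (AlgSpLib.locP_mono (fun _ _ k (_ : LocallyOfFinitePresentation k) => (inferInstance : LocallyOfFiniteType k)) sP)
  have hM := AlgSpThickLib.mono_iff_of_etale cX cX' cY cY' hB sX hcY e
    (AlgSpThickLib.etale_iff_fp cX' hP' cB' hqX hqB hqe hB hgP (by rwa [pullback.diagonal_fst_assoc])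
      (by rwa [pullback.diagonal_fst_assoc])).1
  have hflf := AlgSpThickLib.finLocFree_iff cX cX' cY cY' hB sX hcY e (fun _ => hft') (AlgSpThickLib.flat_iff_fp cX' cY' cB' sX hcY e hB hg' sF sP).1 (fun _ => hl')
  exact ⟨AlgSpThickLib.isIso_iff_of_etale cX cX' cY cY' hB sX hcY e hE hM,
    AlgSpThickLib.openImmersion_iff_of_etale cX cX' cY cY' hB sX hcY e hE hM, hM, hflf,
    AlgSpThickLib.finLocFreeOfDeg_iff cX cX' cY cY' hB sX hcY e hflf⟩

end Groth.Agent.S10600
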