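import Groth.Statements.S9734
import Groth.Agent.WeightLib.Local
-- import your own Groth.Agent.* helpers here

set_option autoImplicit false
universe u
open FlatMor

namespace Groth.Agent.S9734

section helper
open AlgebraicGeometry CategoryTheory Limits IsLocalRing WeightLib
variable {Y : Scheme.{u}}

/-- An etale neighbourhood whose residue field receives a given finite separable extension. -/
theorem exists_etale_nbhd_field_iso (y : Y) (K : Type u) [Field K] [Algebra (Y.residueField y) K]
    [FiniteDimensional (Y.residueField y) K] [Algebra.IsSeparable (Y.residueField y) K] :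
    ∃ (V : Scheme.{u}) (g : V ⟶ Y) (_ : Etale g) (v : V) (c : Y.residueField y ⟶ V.residueField v)
      (ι : K ≃+* V.residueField v), g v = y ∧
      Spec.map c ≫ Y.fromSpecResidueField y = V.fromSpecResidueField v ≫ g ∧
      ι.toRingHom.comp (algebraMap (Y.residueField y) K) = c.hom := by
  classical
  obtain ⟨_, ⟨U, hU, rfl⟩, hyU, -⟩ := Y.isBasis_affineOpens.exists_subset_of_mem_open
    (Set.mem_univ y) isOpen_univ
  let l : Spec (Y.residueField y) ⟶ Spec Γ(Y, U) :=
    IsOpenImmersion.lift hU.fromSpec (Y.fromSpecResidueField y) (by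
      rw [Scheme.range_fromSpecResidueField, IsAffineOpen.range_fromSpec]
      simpa using hyU)
  have hl : l ≫ hU.fromSpec = Y.fromSpecResidueField y := IsOpenImmersion.lift_fac ..
  obtain ⟨u, hu⟩ := Spec.map_surjective l
  haveI : IsPreimmersion (l ≫ hU.fromSpec) := by rw [hl]; infer_instance
  haveI : IsPreimmersion (Spec.map u) := hu ▸ IsPreimmersion.of_comp l hU.fromSpec
  have hfrac : ∀ c : Y.residueField y, ∃ a b : Γ(Y, U), u b ≠ 0 ∧ u b * c = u a := by
    intro c
    obtain ⟨a, b, c', hc', hb, e⟩ := RingHom.surjectiveOnStalks_iff_forall_ideal.mp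
      ((IsPreimmersion.SpecMap_iff u).mp ‹_›).2 ⊥ bot_ne_top c
    rw [Ideal.mem_bot] at hc' hb
    refine ⟨a, b, hb, mul_left_cancel₀ hc' ?_⟩
    rw [← mul_assoc]
    exact e
  obtain ⟨α, hα⟩ := Field.exists_primitive_element (Y.residueField y) K
  have hint : IsIntegral (Y.residueField y) α := .of_finite _ _
  choose a b hb hab using fun i ↦ hfrac ((minpoly (Y.residueField y) α).coeff i)
  let n := (minpoly (Y.residueField y) α).natDegree
  let d := ∏ i ∈ Finset.range n, b i
  have hd : u d ≠ 0 := by
    simp only [d, map_prod]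
    exact Finset.prod_ne_zero_iff.mpr fun i _ ↦ hb i
  let p := (minpoly (Y.residueField y) α).scaleRoots (u d)
  let β : K := algebraMap _ K (u d) * α
  have hpmon : p.Monic := (Polynomial.monic_scaleRoots_iff _).mpr (minpoly.monic hint)
  have hproot : Polynomial.aeval β p = 0 :=
    Polynomial.scaleRoots_aeval_eq_zero (minpoly.aeval _ _)
  have hβtop : IntermediateField.adjoin (Y.residueField y) {β} = ⊤ := by
    rw [eq_top_iff, ← hα, IntermediateField.adjoin_simple_le_iff]
    have : α = (algebraMap _ K (u d))⁻¹ * β := by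
      simp only [β]
      rw [inv_mul_cancel_left₀]
      exact (map_ne_zero _).mpr hd
    rw [this]
    exact mul_mem (inv_mem (IntermediateField.algebraMap_mem _ _))
      (IntermediateField.mem_adjoin_simple_self _ _)
  have hpmin : p = minpoly (Y.residueField y) β := by
    refine Polynomial.eq_of_monic_of_dvd_of_natDegree_le (minpoly.monic (.of_finite _ _)) hpmon
      (minpoly.dvd _ _ hproot) ?_
    rw [Polynomial.natDegree_scaleRoots, ← IntermediateField.adjoin.finrank (.of_finite _ β),
      ← IntermediateField.adjoin.finrank hint, hα, hβtop]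
  have hplift : p ∈ Polynomial.lifts u.hom := by
    rw [Polynomial.lifts_iff_coeff_lifts]
    intro i
    rw [Polynomial.coeff_scaleRoots]
    rcases lt_trichotomy i n with hi | hi | hi
    · obtain ⟨r, hr⟩ := Finset.dvd_prod_of_mem b (Finset.mem_range.mpr hi)
      obtain ⟨k, hk⟩ := Nat.exists_eq_add_of_lt hi
      refine ⟨a i * r * d ^ k, ?_⟩
      rw [show (minpoly (Y.residueField y) α).natDegree - i = k + 1 by
        change n - i = k + 1
        omega]
      have hd' : u d = u (b i) * u r := by rw [← map_mul]; exact congr_arg _ hr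
      simp only [map_mul, map_pow, pow_succ, hd', ← hab i]
      ring
    · refine ⟨1, ?_⟩
      rw [map_one, hi, show n = (minpoly (Y.residueField y) α).natDegree from rfl,
        Polynomial.coeff_natDegree, (minpoly.monic hint).leadingCoeff, Nat.sub_self, pow_zero,
        one_mul]
    · exact ⟨0, by rw [map_zero, Polynomial.coeff_eq_zero_of_natDegree_lt hi, zero_mul]⟩
  obtain ⟨m, hm, -, hmmon⟩ := Polynomial.lifts_and_natDegree_eq_and_monic hplift hpmon
  letI : Algebra Γ(Y, U) K := ((algebraMap (Y.residueField y) K).comp u.hom).toAlgebra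
  let S : StandardEtalePair Γ(Y, U) :=
    ⟨m, hmmon, Polynomial.derivative m, 1, 0, 1, by simp⟩
  have hev : ∀ q : Polynomial Γ(Y, U),
      Polynomial.aeval β q = Polynomial.aeval β (q.map u.hom) := fun q ↦ by
    rw [Polynomial.aeval_def, Polynomial.aeval_def, Polynomial.eval₂_map]
    rfl
  have hβS : S.HasMap β := by
    refine ⟨by rw [hev]; change Polynomial.aeval β (m.map u.hom) = 0; rw [hm, hproot], ?_⟩
    rw [isUnit_iff_ne_zero, hev]
    change Polynomial.aeval β ((Polynomial.derivative m).map u.hom) ≠ 0
    rw [← Polynomial.derivative_map, hm, hpmin]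
    exact (Algebra.IsSeparable.isSeparable (Y.residueField y) β).aeval_derivative_ne_zero
      (minpoly.aeval _ _)
  let φ : Γ(Y, U) ⟶ .of S.Ring := CommRingCat.ofHom (algebraMap _ _)
  have hφ : φ.hom.Etale := RingHom.etale_algebraMap.mpr inferInstance
  haveI : Etale (Spec.map φ) := HasRingHomProperty.Spec_iff.mpr hφ
  let ψ : CommRingCat.of S.Ring ⟶ .of K := CommRingCat.ofHom (S.lift β hβS).toRingHom
  let g := Spec.map φ ≫ hU.fromSpec
  let t : Spec (.of K) ⟶ Spec (.of S.Ring) := Spec.map ψ
  let v : Spec (.of S.Ring) := img t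
  obtain ⟨e, he⟩ := exists_eq_specMap_fromSpecResidueField t (x := v) rfl
  have htg : t ≫ g =
      Spec.map (CommRingCat.ofHom (algebraMap (Y.residueField y) K)) ≫
        Y.fromSpecResidueField y := by
    rw [← hl, ← hu, ← Spec.map_comp_assoc]
    simp only [← Spec.map_comp_assoc]
    congr 2
    ext r
    exact (S.lift β hβS).commutes r
  have hgv : g v = y := by
    change img (t ≫ g) = y
    rw [htg, img_specMap_fromSpecResidueField]
  obtain ⟨c, hc⟩ : ∃ c : Y.residueField y ⟶ (Spec (.of S.Ring)).residueField v,
      Spec.map c ≫ Y.fromSpecResidueField y = Scheme.fromSpecResidueField _ v ≫ g := by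
    refine ⟨(Y.residueFieldCongr hgv).inv ≫ g.residueFieldMap v, ?_⟩
    rw [Spec.map_comp, Category.assoc]
    rw [← Scheme.Hom.SpecMap_residueFieldMap_fromSpecResidueField]
    congr 1
    exact Y.residueFieldCongr_fromSpecResidueField hgv.symm
  have hce : c ≫ e = CommRingCat.ofHom (algebraMap (Y.residueField y) K) := by
    apply Spec.map_inj.mp
    rw [← cancel_mono (Y.fromSpecResidueField y), Spec.map_comp, Category.assoc, hc, reassoc_of% he,
      htg]
  obtain ⟨ev, hev'⟩ := Spec.map_surjective (Scheme.fromSpecResidueField (Spec (.of S.Ring)) v)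
  have hβmem : β ∈ e.hom.fieldRange := by
    refine ⟨ev S.X, ?_⟩
    have : ev ≫ e = ψ := Spec.map_inj.mp (by rw [Spec.map_comp, hev']; exact he)
    change (ev ≫ e).hom S.X = β
    rw [this]
    exact S.lift_X β hβS
  have hsurj : Function.Surjective e := by
    intro k
    have hsub : IntermediateField.adjoin (Y.residueField y) {β} ≤
        e.hom.fieldRange.toIntermediateField (fun r ↦ ⟨c r, congr($(hce).hom r)⟩) :=
      IntermediateField.adjoin_simple_le_iff.mpr hβmem
    exact hsub (hβtop ▸ IntermediateField.mem_top)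
  let eq := RingEquiv.ofBijective e.hom ⟨e.hom.injective, hsurj⟩
  refine ⟨_, g, inferInstance, v, c, eq.symm, hgv, hc, ?_⟩
  ext r
  apply eq.injective
  change eq (eq.symm _) = e.hom (c.hom r)
  rw [RingEquiv.apply_symm_apply]
  exact congr($(hce.symm).hom r)

end helper

open AlgebraicGeometry CategoryTheory Limits in
/-- Let S be a scheme, s a point of S and k a finite separable field extension of the residue field
κ(s). Then there is an étale neighbourhood (U, u) ⟶ (S, s) whose residue field extension κ(u)/κ(s)
is isomorphic to k/κ(s). -/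
theorem result (S : Scheme.{u}) (s : S) (k : Type u) [Field k]
    [Algebra (S.residueField s) k] [FiniteDimensional (S.residueField s) k] [Algebra.IsSeparable (S.residueField s) k] :
    ∃ (U : Scheme.{u}) (g : U ⟶ S) (u : U) (hu : g u = s), Etale g ∧
      letI := ((S.residueFieldCongr hu).inv ≫ g.residueFieldMap u).hom.toAlgebra
      Nonempty (k ≃ₐ[S.residueField s] U.residueField u) := by
  obtain ⟨V, g, hg, v, c, e, hv, hc, hι⟩ := exists_etale_nbhd_field_iso s k
  refine ⟨V, g, v, hv, hg, ?_⟩
  have hc' : c = (S.residueFieldCongr hv).inv ≫ g.residueFieldMap v := by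
    apply Spec.map_inj.mp
    rw [← cancel_mono (S.fromSpecResidueField s), hc, Spec.map_comp, Category.assoc,
      ← Scheme.Hom.SpecMap_residueFieldMap_fromSpecResidueField]
    congr 1
    exact (S.residueFieldCongr_fromSpecResidueField hv.symm).symm
  letI := ((S.residueFieldCongr hv).inv ≫ g.residueFieldMap v).hom.toAlgebra
  refine ⟨AlgEquiv.ofRingEquiv (f := e) fun r => ?_⟩
  rw [RingHom.algebraMap_toAlgebra, ← hc']
  exact RingHom.congr_fun hι r

end Groth.Agent.S9734
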