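import Groth.Statements.S10601
import Groth.Agent.S9734
import Groth.Agent.S1405
import Groth.Agent.AlgSpLib.Noeth
import Groth.Agent.AlgSpLib.GeomLift
import Groth.Agent.AlgSpLib.CodimZero
import Groth.Agent.AlgSpLib.TrdegInv
import Mathlib.FieldTheory.PurelyInseparable.Basic

set_option autoImplicit false
set_option backward.isDefEq.respectTransparency false
set_option backward.isDefEq.respectTransparency.types false
universe u
open CategoryTheory CategoryTheory.Limits AlgebraicGeometry
open AlgSp

namespace Groth.Agent.S10601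


variable {S : Scheme.{u}}

theorem exists_nbhd_unique_lift {U V : Scheme.{u}} (h : U ⟶ V) {K : Type u} [Field K]
    (σ : Spec (CommRingCat.of K) ⟶ U)
    (hfin : (h.residueFieldMap (σ (IsLocalRing.closedPoint K))).hom.Finite) :
    ∃ (W : Scheme.{u}) (g : W ⟶ V) (_ : Etale g) (ω : Spec (CommRingCat.of K) ⟶ W), ω ≫ g = σ ≫ h ∧
      ∀ A B : Spec (CommRingCat.of K) ⟶ pullback h g, A ≫ pullback.fst h g = σ → A ≫ pullback.snd h g = ω →
        B ≫ pullback.snd h g = ω → B (IsLocalRing.closedPoint K) = A (IsLocalRing.closedPoint K) → A = B := by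
  obtain ⟨e, he⟩ := WeightLib.exists_eq_specMap_fromSpecResidueField σ (x := σ (IsLocalRing.closedPoint K)) rfl
  generalize σ (IsLocalRing.closedPoint K) = u at e he hfin
  subst he
  letI : Algebra (V.residueField (h u)) (U.residueField u) := (h.residueFieldMap u).hom.toAlgebra
  haveI : Module.Finite (V.residueField (h u)) (U.residueField u) := hfin
  let M := separableClosure (V.residueField (h u)) (U.residueField u)
  haveI : FiniteDimensional (V.residueField (h u)) M := inferInstance
  haveI : Algebra.IsSeparable (V.residueField (h u)) M := inferInstance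
  obtain ⟨W, g, hg, w, c, ι, hgw, hc, hι⟩ := Groth.Agent.S9734.exists_etale_nbhd_field_iso (h u) M
  let ew : W.residueField w ⟶ CommRingCat.of K :=
    CommRingCat.ofHom ((e.hom.comp (algebraMap M (U.residueField u))).comp ι.symm.toRingHom)
  refine ⟨W, g, hg, Spec.map ew ≫ W.fromSpecResidueField w, ?_, fun A B hA hAw hBw hpt => ?_⟩
  · rw [Category.assoc, ← hc, Category.assoc, ← h.SpecMap_residueFieldMap_fromSpecResidueField u,
      ← Spec.map_comp_assoc, ← Spec.map_comp_assoc]
    congr 2
    ext r
    have hr : c.hom r = ι (algebraMap _ M r) := (RingHom.congr_fun hι r).symm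
    change e.hom (algebraMap M (U.residueField u) (ι.symm (c.hom r))) = e.hom ((h.residueFieldMap u).hom r)
    rw [hr, RingEquiv.symm_apply_apply]
    rfl
  · let P := pullback h g
    obtain ⟨eA, heA⟩ := WeightLib.exists_eq_specMap_fromSpecResidueField A (x := A (IsLocalRing.closedPoint K)) rfl
    obtain ⟨eB, heB⟩ := WeightLib.exists_eq_specMap_fromSpecResidueField B (x := A (IsLocalRing.closedPoint K)) hpt
    generalize A (IsLocalRing.closedPoint K) = q at eA eB heA heB
    subst heA heB
    have hu : WeightLib.img (P.fromSpecResidueField q ≫ pullback.fst h g) = u := by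
      have := congrArg WeightLib.img hA
      rw [WeightLib.img_specMap_fromSpecResidueField, Category.assoc] at this
      rw [← this]
      unfold WeightLib.img
      simp only [Scheme.Hom.comp_apply]
      exact congrArg (pullback.fst h g) ((Scheme.fromSpecResidueField_apply q _).trans
        (Scheme.fromSpecResidueField_apply q _).symm)
    have hw : WeightLib.img (P.fromSpecResidueField q ≫ pullback.snd h g) = w := by
      have := congrArg WeightLib.img hAw
      rw [WeightLib.img_specMap_fromSpecResidueField, Category.assoc] at this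
      rw [← this]
      unfold WeightLib.img
      simp only [Scheme.Hom.comp_apply]
      exact congrArg (pullback.snd h g) ((Scheme.fromSpecResidueField_apply q _).trans
        (Scheme.fromSpecResidueField_apply q _).symm)
    obtain ⟨a, ha⟩ := WeightLib.exists_eq_specMap_fromSpecResidueField
      (Ω := P.residueField q) (P.fromSpecResidueField q ≫ pullback.fst h g) hu
    obtain ⟨b, hb⟩ := WeightLib.exists_eq_specMap_fromSpecResidueField
      (Ω := P.residueField q) (P.fromSpecResidueField q ≫ pullback.snd h g) hw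
    have ka : ∀ (x : P.residueField q ⟶ CommRingCat.of K),
        (Spec.map x ≫ P.fromSpecResidueField q) ≫ pullback.fst h g = Spec.map (a ≫ x) ≫ U.fromSpecResidueField u :=
      fun x => by rw [Category.assoc, ← ha, ← Category.assoc, ← Spec.map_comp]
    have kb : ∀ (x : P.residueField q ⟶ CommRingCat.of K),
        (Spec.map x ≫ P.fromSpecResidueField q) ≫ pullback.snd h g = Spec.map (b ≫ x) ≫ W.fromSpecResidueField w :=
      fun x => by rw [Category.assoc, ← hb, ← Category.assoc, ← Spec.map_comp]
    rw [ka, cancel_mono, Spec.map_inj] at hA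
    rw [kb, cancel_mono, Spec.map_inj] at hAw hBw
    refine pullback.hom_ext ?_ (by rw [kb, kb, hAw, hBw])
    rw [ka, ka]
    congr 2
    refine CommRingCat.hom_ext (IsPurelyInseparable.injective_comp_algebraMap M (U.residueField u) K ?_)
    have hAm : ∀ m : M, eA.hom (a.hom (algebraMap M (U.residueField u) m)) = eA.hom (b.hom (ι m)) := fun m => by
      have h1 := congrArg (fun t => t.hom (algebraMap M (U.residueField u) m)) hA
      have h2 := congrArg (fun t => t.hom (ι m)) hAw
      simp only [CommRingCat.hom_comp, RingHom.comp_apply] at h1 h2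
      rw [h1, h2]
      change _ = e.hom (algebraMap M (U.residueField u) (ι.symm (ι m)))
      rw [RingEquiv.symm_apply_apply]
    refine RingHom.ext fun m => ?_
    change eA.hom (a.hom (algebraMap M (U.residueField u) m)) = eB.hom (a.hom (algebraMap M (U.residueField u) m))
    have hm : a.hom (algebraMap M (U.residueField u) m) = b.hom (ι m) := eA.hom.injective (hAm m)
    rw [hm]
    have h2 := congrArg (fun t => t.hom (ι m)) (hAw.trans hBw.symm)
    simpa only [CommRingCat.hom_comp, RingHom.comp_apply] using h2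

theorem finite_residue_of_injective {U V : Over S} {F : Sp S} {α : (yon S).obj U ⟶ F} (hα : RepWith @Etale α)
    {π : F ⟶ (yon S).obj V} {h : U ⟶ V} (e : α ≫ π = (yon S).map h) [LocallyOfFiniteType h.left]
    (hπ : Function.Injective (Points.map π)) (u : U.left) : (h.left.residueFieldMap u).hom.Finite := by
  have hsame : ∀ z, h.left z = h.left u → Points.ofPt α z = Points.ofPt α u := fun z hz => hπ (by
    rw [Points.map_ofPt, Points.map_ofPt, e, ← Category.comp_id ((yon S).map h), AlgSpLib.ofPt_yon_comp,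
      AlgSpLib.ofPt_yon_comp, hz])
  obtain ⟨R, t, s, sq⟩ := AlgSpLib.exists_isPullback_yon α α hα.rep
  haveI : Etale t.left := AlgSpLib.etale_left (AlgSpLib.repWith_of_isPullback sq.flip hα)
  haveI : Etale s.left := AlgSpLib.etale_left (AlgSpLib.repWith_of_isPullback sq hα)
  haveI := WeightLib.locallyQuasiFinite_of_etale t.left
  haveI := WeightLib.locallyQuasiFinite_of_etale s.left
  have hts : t.left ≫ h.left = s.left ≫ h.left := by
    have := congrArg (· ≫ π) sq.w
    simp only [Category.assoc, e, ← Functor.map_comp] at this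
    exact congrArg Over.Hom.left ((yon S).map_injective this)
  have hinv : ∀ z, h.left z = h.left u → Dual3.resTrdeg h.left z = Dual3.resTrdeg h.left u := fun z hz => by
    obtain ⟨r, rfl, hr⟩ := (AlgSpLib.ofPt_eq_ofPt_iff sq z u).1 (hsame z hz)
    have : Dual3.resTrdeg (t.left ≫ h.left) r = Dual3.resTrdeg (s.left ≫ h.left) r := by rw [hts]
    rw [AlgSpLib.resTrdeg_comp, AlgSpLib.resTrdeg_comp, AlgSpLib.resTrdeg_eq_zero_of_lqf t.left,
      AlgSpLib.resTrdeg_eq_zero_of_lqf s.left, add_zero, add_zero, hr] at this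
    exact this
  let v := h.left u
  haveI : LocallyOfFiniteType (h.left.fiberToSpecResidueField v) := UOpenLib.lft_fiberToSpec h.left v
  haveI : JacobsonSpace (h.left.fiber v) := LocallyOfFiniteType.jacobsonSpace (h.left.fiberToSpecResidueField v)
  have hmem : ∀ w : h.left.fiber v, h.left ((h.left.fiberι v) w) = v := fun w => by
    have h1 : (h.left.fiberι v) w ∈ Set.range (h.left.fiberι v) := ⟨w, rfl⟩
    rwa [h.left.range_fiberι] at h1
  obtain ⟨w, -, hw⟩ := nonempty_inter_closedPoints (Z := (Set.univ : Set (h.left.fiber v)))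
    ⟨h.left.asFiber u, trivial⟩ isClosed_univ.isLocallyClosed
  have hz := AlgSpLib.fibreClosureDim_le_zero_of_closed h.left ((h.left.fiberι v) w) fun z hz hs => by
    obtain ⟨z', rfl⟩ : z ∈ Set.range (h.left.fiberι v) := by
      rw [h.left.range_fiberι]; exact hz.trans (hmem w)
    have h' : w ⤳ z' := (h.left.fiberι v).isEmbedding.isInducing.specializes_iff.1 hs
    have : z' ∈ ({w} : Set (h.left.fiber v)) := h'.mem_closed (mem_closedPoints_iff.1 hw) rfl
    exact congrArg _ this
  rw [AlgSpLib.fibreClosureDim_eq_resTrdeg] at hz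
  have h0 : Dual3.resTrdeg h.left u = 0 := by
    rw [← hinv _ (hmem w)]
    exact Cardinal.toENat_eq_zero.1 (le_antisymm (WithBot.coe_le_coe.1 hz) zero_le)
  letI := (h.left.residueFieldMap u).hom.toAlgebra
  haveI : Algebra.EssFiniteType (V.left.residueField (h.left u)) (U.left.residueField u) :=
    Groth.Agent.S1405.essFiniteType_residueFieldMap h.left u
  haveI : Algebra.IsAlgebraic (V.left.residueField (h.left u)) (U.left.residueField u) :=
    trdeg_eq_zero_iff.1 h0
  exact (Algebra.finite_of_essFiniteType_of_isAlgebraic : Module.Finite (V.left.residueField (h.left u)) (U.left.residueField u))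

theorem exists_lift_fieldPt {F G : Sp S} (hF : IsAlgSpace F) (hG : IsAlgSpace G) {φ : F ⟶ G} (hφ : IsEtaleMor φ)
    {K : Type u} [Field K] [IsAlgClosed K] {str : Spec (CommRingCat.of K) ⟶ S}
    (x : (yon S).obj (Over.mk str) ⟶ G) (z : Points F)
    (hz : Points.map φ z = Points.ofPt x (IsLocalRing.closedPoint K)) :
    ∃ l : (yon S).obj (Over.mk str) ⟶ F, l ≫ φ = x ∧ Points.ofPt l (IsLocalRing.closedPoint K) = z := by
  let p : FieldPt G := { K := K, str := str, val := (AlgSp.J S).uliftYonedaEquiv x }
  have hp : p.toHom = x := Equiv.symm_apply_apply _ _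
  obtain ⟨l, hl₁, hl₂⟩ := AlgSpLib.exists_geometric_lift hF hG φ hφ p (inferInstanceAs (IsAlgClosed K)) z (by
    rw [hz, ← Points.ofPt_toHom p (IsLocalRing.closedPoint p.K), hp])
  exact ⟨l, hl₁.trans hp, hl₂⟩

theorem eq_of_geometric {X Y : Space S} (f : X ⟶ Y) (hft : LocP @LocallyOfFiniteType f.hom)
    (hinj : ∀ (V : AlgSp.Space S) (g : V ⟶ Y), AlgSp.IsEtaleMor g.hom →
      ∀ (P : AlgSp.Sp S) (fst : P ⟶ X.obj) (snd : P ⟶ V.obj), IsPullback fst snd f.hom g.hom →
        Function.Injective (AlgSp.Points.map snd))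
    {K : Type u} [Field K] [IsAlgClosed K] (str : Spec (CommRingCat.of K) ⟶ S)
    (a b : (yon S).obj (Over.mk str) ⟶ X.obj) (e : a ≫ f.hom = b ≫ f.hom) : a = b := by
  obtain ⟨V₀, b₀, hb₀, hb₀s⟩ := Y.property.atlas
  obtain ⟨v₀, hv₀⟩ := AlgSpLib.surjective_ofPt hb₀s (Points.ofPt (a ≫ f.hom) (IsLocalRing.closedPoint K))
  obtain ⟨vl, hvl, -⟩ := exists_lift_fieldPt (IsAlgSpace.yon_obj V₀) Y.property
    (AlgSpLib.isEtaleMor_of_repWith hb₀) (a ≫ f.hom) (Points.schemeHomeo V₀ v₀) (by
      rw [← hv₀]; exact (congrFun (AlgSpLib.ofPt_comp_ofScheme b₀) v₀).symm)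
  have hX' := AlgSpLib.isAlgSpace_pullback X.property (IsAlgSpace.yon_obj V₀) Y.property f.hom b₀
  have sq' := IsPullback.of_hasPullback f.hom b₀
  have hπ : Function.Injective (Points.map (pullback.snd f.hom b₀)) :=
    hinj ⟨_, IsAlgSpace.yon_obj V₀⟩ ⟨b₀⟩ (AlgSpLib.isEtaleMor_of_repWith hb₀) _ _ _ sq'
  let a' : (yon S).obj (Over.mk str) ⟶ pullback f.hom b₀ := pullback.lift a vl hvl.symm
  let b' : (yon S).obj (Over.mk str) ⟶ pullback f.hom b₀ := pullback.lift b vl (e.symm.trans hvl.symm)
  suffices a' = b' by simpa [a', b'] using congrArg (· ≫ pullback.fst f.hom b₀) this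
  obtain ⟨U, α, hα, hαs⟩ := hX'.atlas
  obtain ⟨h, hh⟩ := (yon S).map_surjective (α ≫ pullback.snd f.hom b₀)
  haveI : LocallyOfFiniteType h.left :=
    AlgSpLib.locP_of_isPullback X.property Y.property (IsAlgSpace.yon_obj V₀) sq' hft α (𝟙 _) h hα (repWith_id _ _)
      (by rw [Category.comp_id, hh])
  obtain ⟨z, hz⟩ := AlgSpLib.surjective_ofPt hαs (Points.ofPt a' (IsLocalRing.closedPoint K))
  obtain ⟨ua', hua, -⟩ := exists_lift_fieldPt (IsAlgSpace.yon_obj U) hX'
    (AlgSpLib.isEtaleMor_of_repWith hα) a' (Points.schemeHomeo U z) (by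
      rw [← hz]; exact (congrFun (AlgSpLib.ofPt_comp_ofScheme α) z).symm)
  obtain ⟨ua, rfl⟩ := (yon S).map_surjective ua'
  obtain ⟨W, g, hg, ω, hω, huniq⟩ := exists_nbhd_unique_lift h.left ua.left
    (finite_residue_of_injective hα hh.symm hπ _)
  let W' : Over S := Over.mk (g ≫ V₀.hom)
  let g' : W' ⟶ V₀ := Over.homMk g rfl
  let ω' : Over.mk str ⟶ W' := Over.homMk ω (by
    change ω ≫ g ≫ V₀.hom = str
    rw [reassoc_of% hω, Over.w h]
    exact Over.w ua)
  have hge : IsEtaleMor ((yon S).map g') := (isEtaleMor_yon_map_iff g').2 hg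
  have hωv : (yon S).map ω' ≫ (yon S).map g' = vl := by
    have : ω' ≫ g' = ua ≫ h := Over.OverMorphism.ext hω
    rw [← Functor.map_comp, this, Functor.map_comp, hh, ← Category.assoc, hua, pullback.lift_snd]
  have hP := AlgSpLib.isAlgSpace_pullback hX' (IsAlgSpace.yon_obj W') (IsAlgSpace.yon_obj V₀)
    (pullback.snd f.hom b₀) ((yon S).map g')
  have sqP := IsPullback.of_hasPullback (pullback.snd f.hom b₀) ((yon S).map g')
  let π' := pullback.snd (pullback.snd f.hom b₀) ((yon S).map g')
  have hπ' : Function.Injective (Points.map π') :=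
    hinj ⟨_, IsAlgSpace.yon_obj W'⟩ ⟨(yon S).map g' ≫ b₀⟩
      (AlgSpLib.isEtaleMor_comp (AlgSpLib.isEtaleMor_of_repWith hb₀) hge) _ _ _ (sqP.flip.paste_vert sq'.flip).flip
  let a'' := sqP.lift a' ((yon S).map ω') (by rw [hωv]; exact pullback.lift_snd _ _ _)
  let b'' := sqP.lift b' ((yon S).map ω') (by rw [hωv]; exact pullback.lift_snd _ _ _)
  let UW : Over S := Over.mk (pullback.fst h.left g ≫ U.hom)
  let r₁ : UW ⟶ U := Over.homMk (pullback.fst h.left g) rfl
  let r₂ : UW ⟶ W' := Over.homMk (pullback.snd h.left g) (by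
    change pullback.snd _ _ ≫ g ≫ V₀.hom = pullback.fst _ _ ≫ U.hom
    rw [← Over.w h, pullback.condition_assoc])
  have sqU : IsPullback r₁ r₂ h g' := AlgSpLib.isPullback_over (IsPullback.of_hasPullback h.left g)
  have sqU' := sqU.map (yon S)
  let β : (yon S).obj UW ⟶ pullback (pullback.snd f.hom b₀) ((yon S).map g') :=
    sqP.lift ((yon S).map r₁ ≫ α) ((yon S).map r₂) (by rw [Category.assoc, ← hh]; exact sqU'.w)
  have sqβ : IsPullback ((yon S).map r₁) β α (pullback.fst _ _) :=
    IsPullback.of_bot (by rw [sqP.lift_snd, ← hh]; exact sqU') (sqP.lift_fst _ _ _).symm sqP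
  have hβ : IsEtaleMor β := AlgSpLib.isEtaleMor_of_repWith (AlgSpLib.repWith_of_isPullback sqβ hα)
  obtain ⟨A, hA⟩ := (yon S).map_surjective (sqU'.lift ((yon S).map ua) ((yon S).map ω') (by
    rw [hωv, hh, ← Category.assoc, hua, pullback.lift_snd]))
  have hA₁ : A ≫ r₁ = ua := (yon S).map_injective (by rw [Functor.map_comp, hA, sqU'.lift_fst])
  have hA₂ : A ≫ r₂ = ω' := (yon S).map_injective (by rw [Functor.map_comp, hA, sqU'.lift_snd])
  have hAβ : (yon S).map A ≫ β = a'' := sqP.hom_ext
    (by rw [Category.assoc, sqP.lift_fst, ← Category.assoc, ← Functor.map_comp, hA₁, hua, sqP.lift_fst])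
    (by rw [Category.assoc, sqP.lift_snd, ← Functor.map_comp, hA₂, sqP.lift_snd])
  let q := A.left (IsLocalRing.closedPoint K)
  have hq : Points.map β (Points.schemeHomeo UW q) = Points.ofPt b'' (IsLocalRing.closedPoint K) := by
    have h1 : Points.map β (Points.schemeHomeo UW q) = Points.ofPt a'' (IsLocalRing.closedPoint K) := by
      rw [← hAβ, AlgSpLib.ofPt_yon_comp]
      exact (congrFun (AlgSpLib.ofPt_comp_ofScheme β) q).symm
    rw [h1]
    exact hπ' (by rw [Points.map_ofPt, Points.map_ofPt, sqP.lift_snd, sqP.lift_snd])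
  obtain ⟨B', hB', hBq⟩ := exists_lift_fieldPt (IsAlgSpace.yon_obj UW) hP hβ b'' (Points.schemeHomeo UW q) hq
  obtain ⟨B, rfl⟩ := (yon S).map_surjective B'
  have hB₂ : B ≫ r₂ = ω' := (yon S).map_injective (by
    have := congrArg (· ≫ π') hB'
    simp only [π', β, b'', Category.assoc, sqP.lift_snd] at this
    rw [Functor.map_comp]
    exact this)
  have hBpt : B.left (IsLocalRing.closedPoint K) = q := (Points.schemeHomeo UW).injective (by
    rw [← hBq]
    change Points.ofPt (𝟙 _) _ = Points.ofPt ((yon S).map B) _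
    rw [← AlgSpLib.ofPt_yon_comp, Category.comp_id])
  have hAB : A = B := Over.OverMorphism.ext (huniq A.left B.left (congrArg Over.Hom.left hA₁)
    (congrArg Over.Hom.left hA₂) (congrArg Over.Hom.left hB₂) hBpt)
  have : a'' = b'' := by rw [← hAβ, ← hB', hAB]
  rw [← sqP.lift_fst a' ((yon S).map ω') (by rw [hωv]; exact pullback.lift_snd _ _ _),
    ← sqP.lift_fst b' ((yon S).map ω') (by rw [hωv]; exact pullback.lift_snd _ _ _)]
  exact congrArg (· ≫ _) this


/-- Take a morphism f : X ⟶ Y of algebraic spaces over S that is locally of finite type and such that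
for every etale morphism V ⟶ Y of algebraic spaces the base change X ×_Y V ⟶ V is injective on
points. Then f is universally injective. -/
theorem result {S : Scheme.{u}} {X Y : AlgSp.Space S} (f : X ⟶ Y)
    (hft : AlgSp.LocP @LocallyOfFiniteType f.hom)
    (hinj : ∀ (V : AlgSp.Space S) (g : V ⟶ Y), AlgSp.IsEtaleMor g.hom →
      ∀ (P : AlgSp.Sp S) (fst : P ⟶ X.obj) (snd : P ⟶ V.obj), IsPullback fst snd f.hom g.hom →
        Function.Injective (AlgSp.Points.map snd)) :
    AlgSp.IsUnivInjectiveMor f.hom := by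
  refine (AlgSpLib.univInjective_iff_surjective_diagonal X.property).2 fun z => ?_
  induction z using Points.ind with
  | h p =>
  let L := AlgebraicClosure p.K
  let j : Spec (CommRingCat.of L) ⟶ Spec (CommRingCat.of p.K) := Spec.map (CommRingCat.ofHom (algebraMap p.K L))
  let j' : Over.mk (j ≫ p.str) ⟶ p.pt := Over.homMk j rfl
  let c : (yon S).obj (Over.mk (j ≫ p.str)) ⟶ pullback f.hom f.hom := (yon S).map j' ≫ p.toHom
  have hc : Points.ofPt c (IsLocalRing.closedPoint L) = Points.mk p := by
    rw [← Points.ofPt_toHom p (IsLocalRing.closedPoint p.K), AlgSpLib.ofPt_yon_comp]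
    exact congrArg _ (Subsingleton.elim (α := PrimeSpectrum p.K) _ _)
  have e := eq_of_geometric f hft hinj (K := L) _ (c ≫ pullback.fst _ _) (c ≫ pullback.snd _ _)
    (by simp only [Category.assoc, pullback.condition])
  refine ⟨Points.ofPt (c ≫ pullback.fst _ _) (IsLocalRing.closedPoint L), ?_⟩
  rw [Points.map_ofPt, ← hc]
  refine congrArg (fun t => Points.ofPt t _) (pullback.hom_ext ?_ ?_)
  · rw [Category.assoc, Category.assoc, pullback.diagonal_fst, Category.comp_id]
  · rw [Category.assoc, Category.assoc, pullback.diagonal_snd, Category.comp_id, e]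

end Groth.Agent.S10601
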