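import Groth.Statements.S10607
import Groth.Agent.EtThickLib.UHEss

set_option autoImplicit false
universe u
open CategoryTheory CategoryTheory.Limits AlgebraicGeometry
open AlgSp

namespace Groth.Agent.S10607

/-- Take a morphism f : X ⟶ Y of algebraic spaces over S that is integral, universally injective and
surjective. Then V ↦ X ×_Y V is an equivalence from the category of algebraic spaces etale over Y to
the category of algebraic spaces etale over X, stated through pullback squares: (full faithfulness)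
given V₁', V₂' etale over Y with base changes V₁, V₂ to X, every morphism V₁ ⟶ V₂ over X is the base
change of a unique morphism V₁' ⟶ V₂' over Y; (essential surjectivity) every algebraic space etale
over X is the base change of an algebraic space etale over Y. -/
theorem result {S : Scheme.{u}}
    {X Y : AlgSp.Space S} (f : X ⟶ Y) (h1 : AlgSp.IsIntegralMor f.hom) (h2 : AlgSp.IsUnivInjectiveMor f.hom)
    (h3 : AlgSp.IsSurjectiveMor f.hom) :
    (∀ (V₁' V₂' V₁ V₂ : AlgSp.Space S) (a₁ : V₁' ⟶ Y) (a₂ : V₂' ⟶ Y) (b₁ : V₁ ⟶ X) (b₂ : V₂ ⟶ X)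
        (c₁ : V₁ ⟶ V₁') (c₂ : V₂ ⟶ V₂'),
        AlgSp.IsEtaleMor a₁.hom → AlgSp.IsEtaleMor a₂.hom →
        IsPullback b₁.hom c₁.hom f.hom a₁.hom → IsPullback b₂.hom c₂.hom f.hom a₂.hom →
        ∀ φ : V₁ ⟶ V₂, φ ≫ b₂ = b₁ →
          ∃! φ' : V₁' ⟶ V₂', φ' ≫ a₂ = a₁ ∧ c₁ ≫ φ' = φ ≫ c₂) ∧
    (∀ (V : AlgSp.Space S) (b : V ⟶ X), AlgSp.IsEtaleMor b.hom →
        ∃ (V' : AlgSp.Space S) (a : V' ⟶ Y) (c : V ⟶ V'),
          AlgSp.IsEtaleMor a.hom ∧ IsPullback b.hom c.hom f.hom a.hom) := by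
  have hu : EtThickLib.IsUH f.hom := EtThickLib.IsUH.of_mor X.property Y.property h1 h2 h3
  refine ⟨fun V₁' V₂' V₁ V₂ a₁ a₂ b₁ b₂ c₁ c₂ ha₁ ha₂ sq₁ sq₂ φ hφ => ?_, fun V b hb => ?_⟩
  · have hφ' : φ.hom ≫ b₂.hom = b₁.hom := congrArg (fun k => k.hom) hφ
    obtain ⟨l, ⟨hl₁, hl₂⟩, hu'⟩ := (hu.of_isPullback sq₁).existsUnique_lift V₁.property V₁'.property
      V₂'.property Y.property ha₂ (φ.hom ≫ c₂.hom) a₁.hom
      (by rw [Category.assoc, ← sq₂.w, ← Category.assoc, hφ', sq₁.w])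
    exact ⟨ObjectProperty.homMk l, ⟨ObjectProperty.hom_ext _ hl₂, ObjectProperty.hom_ext _ hl₁⟩,
      fun l' hl' => ObjectProperty.hom_ext _ (hu' l'.hom
        ⟨congrArg (fun k => k.hom) hl'.2, congrArg (fun k => k.hom) hl'.1⟩)⟩
  · obtain ⟨E, aE, k, hE, haE, sq⟩ := hu.exists_lift_space X.property Y.property V.property hb
    exact ⟨⟨E, hE⟩, ObjectProperty.homMk aE, ObjectProperty.homMk k, haE, sq⟩

end Groth.Agent.S10607
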