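import Groth.Statements.S10613
import Groth.Agent.AlgSpLib.MonoRep
import Groth.Agent.AlgSpLib.MorPack
import Groth.Agent.AlgSpLib.FormalCharts
-- import your own Groth.Agent.* helpers here

set_option autoImplicit false
universe u
open CategoryTheory CategoryTheory.Limits AlgebraicGeometry
open AlgSp

namespace Groth.Agent.S10613

/-- For a morphism f : X ⟶ Y of algebraic spaces over S, these four conditions on f are equivalent: (a)
unramified plus monomorphism; (b) unramified plus universally injective; (c) a monomorphism that is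
locally of finite type; (d) universally injective, locally of finite type and formally unramified
(lifting sense). In that case f is representable by schemes, separated and locally quasi-finite.
(Unramified is the etale-local condition locally of finite type and formally unramified on charts;
monomorphisms are taken in fppf sheaves.) -/
theorem result {S : Scheme.{u}} {X Y : AlgSp.Space S} (f : X ⟶ Y) :
    ((AlgSp.LocP (@LocallyOfFiniteType ⊓ @FormallyUnramified) f.hom ∧ Mono f.hom) ↔
      (AlgSp.LocP (@LocallyOfFiniteType ⊓ @FormallyUnramified) f.hom ∧ AlgSp.IsUnivInjectiveMor f.hom)) ∧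
    ((AlgSp.LocP (@LocallyOfFiniteType ⊓ @FormallyUnramified) f.hom ∧ Mono f.hom) ↔
      (AlgSp.LocP @LocallyOfFiniteType f.hom ∧ Mono f.hom)) ∧
    ((AlgSp.LocP (@LocallyOfFiniteType ⊓ @FormallyUnramified) f.hom ∧ Mono f.hom) ↔
      (AlgSp.IsUnivInjectiveMor f.hom ∧ AlgSp.LocP @LocallyOfFiniteType f.hom ∧ AlgSp.IsFormallyUnramifiedMor f.hom)) ∧
    (AlgSp.LocP @LocallyOfFiniteType f.hom ∧ Mono f.hom →
      AlgSp.Representable f.hom ∧ AlgSp.IsSeparatedMor f.hom ∧
        AlgSp.LocP (@LocallyQuasiFinite ⊓ @LocallyOfFiniteType) f.hom) := by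
  have hX := X.property
  have hY := Y.property
  have key : AlgSp.LocP @LocallyOfFiniteType f.hom ∧ Mono f.hom →
      AlgSp.LocP (@LocallyOfFiniteType ⊓ @FormallyUnramified) f.hom ∧ AlgSp.IsUnivInjectiveMor f.hom ∧
        AlgSp.Representable f.hom ∧ AlgSp.IsSeparatedMor f.hom ∧
        AlgSp.LocP (@LocallyQuasiFinite ⊓ @LocallyOfFiniteType) f.hom := by
    rintro ⟨h, hm⟩
    haveI := hm
    have hr := AlgSpLib.representable_of_mono_lft hX hY h
    have hl := AlgSpLib.repWith_of_locP hY hr h
    have hmo := AlgSpLib.repWith_mono_of_mono hr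
    refine ⟨AlgSpLib.locP_of_repWith ⟨hr, fun T W g fst snd sq => ?_⟩, AlgSpLib.isUnivInjectiveMor_of_mono hX, hr,
      AlgSpLib.isSeparatedMor_of_repWith (AlgSpLib.repWith_isSeparated_of_mono hr),
      AlgSpLib.locP_of_repWith ⟨hr, fun T W g fst snd sq => ?_⟩⟩
    · haveI : Mono snd.left := hmo.property g fst snd sq
      exact ⟨hl.property g fst snd sq, (inferInstance : FormallyUnramified snd.left)⟩
    · haveI : Mono snd.left := hmo.property g fst snd sq
      haveI : LocallyOfFiniteType snd.left := hl.property g fst snd sq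
      exact ⟨(inferInstance : LocallyQuasiFinite snd.left), (inferInstance : LocallyOfFiniteType snd.left)⟩
  refine ⟨⟨fun h => ⟨h.1, (key ⟨AlgSpLib.locP_mono inf_le_left h.1, h.2⟩).2.1⟩,
      fun h => ⟨h.1, AlgSpLib.mono_of_unramified_univInjective hX hY h.1 h.2⟩⟩,
    ⟨fun h => ⟨AlgSpLib.locP_mono inf_le_left h.1, h.2⟩, fun h => ⟨(key h).1, h.2⟩⟩,
    ⟨fun h => ⟨(key ⟨AlgSpLib.locP_mono inf_le_left h.1, h.2⟩).2.1, AlgSpLib.locP_mono inf_le_left h.1,
        (AlgSpLib.isFormallyUnramifiedMor_iff_locP hX hY f.hom).2 (AlgSpLib.locP_mono inf_le_right h.1)⟩,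
      fun h => ?_⟩, fun h => (key h).2.2⟩
  have hu : AlgSp.LocP (@LocallyOfFiniteType ⊓ @FormallyUnramified) f.hom := fun U V a b k ha hb e =>
    ⟨h.2.1 a b k ha hb e, (AlgSpLib.isFormallyUnramifiedMor_iff_locP hX hY f.hom).1 h.2.2 a b k ha hb e⟩
  exact ⟨hu, AlgSpLib.mono_of_unramified_univInjective hX hY hu h.1⟩

end Groth.Agent.S10613
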