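import Groth.Statements.S9771
import Groth.Agent.S1487
import Groth.Agent.WeilResLib.FlatUnramified


-- import your own Groth.Agent.* helpers here

set_option autoImplicit false
universe u
open FlatMor

namespace Groth.Agent.S9771

open AlgebraicGeometry CategoryTheory Limits in
/-- An unramified (formally unramified and locally of finite type) flat morphism of schemes is formally
étale. (When the morphism is moreover locally of finite presentation this is the statement that flat
unramified morphisms are étale; the content here is the case without finite presentation.) -/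
theorem result {X S : Scheme.{u}} (f : X ⟶ S)
    [Flat f] [FormallyUnramified f] [LocallyOfFiniteType f] : MoreMor.IsFormallyEtaleHom f := by
  refine (Groth.Agent.S1487.result f).mpr fun U V hU hV hUV => ?_
  have h1 := HasRingHomProperty.appLE (P := @AlgebraicGeometry.Flat) f inferInstance ⟨V, hV⟩ ⟨U, hU⟩ hUV
  have h2 := HasRingHomProperty.appLE (P := @AlgebraicGeometry.FormallyUnramified) f inferInstance ⟨V, hV⟩ ⟨U, hU⟩ hUV
  have h3 := f.finiteType_appLE hV hU hUV
  letI := (f.appLE V U hUV).hom.toAlgebra
  haveI : Module.Flat Γ(S, V) Γ(X, U) := h1
  haveI : Algebra.FormallyUnramified Γ(S, V) Γ(X, U) := h2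
  haveI : Algebra.FiniteType Γ(S, V) Γ(X, U) := h3
  exact Groth.Agent.WeilRes.formallyEtale_of_flat

end Groth.Agent.S9771
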