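import Groth.Statements.S10638
import Groth.Agent.EtThickLib.Main
import Groth.Agent.AlgSpLib.UnivThickBC
import Groth.Agent.AlgSpLib.LocalST
-- import your own Groth.Agent.* helpers here

set_option autoImplicit false
universe u
open CategoryTheory CategoryTheory.Limits AlgebraicGeometry
open AlgSp AlgSpLib

namespace Groth.Agent.S10638

/-- Take a formally unramified morphism h : Z ⟶ X of algebraic spaces over S with universal first order
thickening (iZ : Z ⟶ Z', hZ' : Z' ⟶ X). Let v : V ⟶ Z and w : U ⟶ X be etale morphisms of algebraic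
spaces and ψ : V ⟶ U with ψ ≫ w = v ≫ h. Then ψ is formally unramified, and for a universal first
order thickening (iV : V ⟶ V', hV' : V' ⟶ U) of V over U, every e' : V' ⟶ Z' with iV ≫ e' = v ≫ iZ
and e' ≫ hZ' = hV' ≫ w (there is exactly one) is etale. (The published statement also identifies the
conormal sheaf of V over U with the restriction of that of Z over X; this row omits that clause.) -/
theorem result {S : Scheme.{u}} {Z X Z' V U V' : AlgSp.Space S} (h : Z ⟶ X)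
    (hh : AlgSp.IsFormallyUnramifiedMor h.hom) (iZ : Z ⟶ Z') (hZ' : Z' ⟶ X) (HZ : AlgSp.IsUnivFOThick h.hom iZ.hom hZ'.hom)
    (v : V ⟶ Z) (w : U ⟶ X) (hv : AlgSp.IsEtaleMor v.hom) (hw : AlgSp.IsEtaleMor w.hom) (ψ : V ⟶ U)
    (c : ψ ≫ w = v ≫ h) :
    AlgSp.IsFormallyUnramifiedMor ψ.hom ∧
    ∀ (iV : V ⟶ V') (hV' : V' ⟶ U), AlgSp.IsUnivFOThick ψ.hom iV.hom hV'.hom →
      ∀ e' : V' ⟶ Z', iV ≫ e' = v ≫ iZ → e' ≫ hZ' = hV' ≫ w → AlgSp.IsEtaleMor e'.hom := by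
  have cc : ψ.hom ≫ w.hom = v.hom ≫ h.hom := congrArg (fun k => k.hom) c
  have hwf : IsFormallyEtaleMor w.hom := AlgSpLib.isFormallyEtaleMor_of_isEtaleMor U.property X.property hw
  have hvf : IsFormallyEtaleMor v.hom := AlgSpLib.isFormallyEtaleMor_of_isEtaleMor V.property Z.property hv
  refine ⟨AlgSpLib.Formal.unramified_of_comp (b := w.hom)
    (cc ▸ AlgSpLib.Formal.unramified_comp (AlgSpLib.Formal.etale_iff.1 hvf).2 hh), fun iV hV' HV e' he₁ he₂ => ?_⟩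
  replace he₁ : iV.hom ≫ e'.hom = v.hom ≫ iZ.hom := congrArg (fun k => k.hom) he₁
  replace he₂ : e'.hom ≫ hZ'.hom = hV'.hom ≫ w.hom := congrArg (fun k => k.hom) he₂
  obtain ⟨W₀, a, ha, has⟩ := V.property.atlas
  have hav : RepWith @Etale (a ≫ v.hom) := hv a ha
  obtain ⟨W₁, q₁, k₁, hq₁, sq₁⟩ := EtThickLib.exists_lift Z'.property HZ.1.1 (a ≫ v.hom) hav
  obtain ⟨W₂, q₂, k₂, hq₂, sq₂⟩ := EtThickLib.exists_lift V'.property HV.1.1 a ha
  have H₁ := AlgSpLib.isUnivFOThick_etale_baseChange Z'.property (AlgSp.IsAlgSpace.yon_obj W₁) HZ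
    (AlgSpLib.isEtaleMor_of_repWith hq₁) sq₁
  have H₂ := AlgSpLib.isUnivFOThick_comp (AlgSpLib.isUnivFOThick_etale_baseChange V'.property
    (AlgSp.IsAlgSpace.yon_obj W₂) HV (AlgSpLib.isEtaleMor_of_repWith hq₂) sq₂) hwf
  have eh : (a ≫ ψ.hom) ≫ w.hom = (a ≫ v.hom) ≫ h.hom := by simp only [Category.assoc, cc]
  rw [eh] at H₂
  have hA := AlgSp.IsAlgSpace.yon_obj (S := S)
  obtain ⟨m, ⟨hm₁, hm₂⟩, -⟩ := H₁.2.2 (hA W₀) (hA W₂) _ (𝟙 _) ((q₂ ≫ hV'.hom) ≫ w.hom) H₂.1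
    (by rw [H₂.2.1, Category.id_comp])
  obtain ⟨n, ⟨hn₁, hn₂⟩, -⟩ := H₂.2.2 (hA W₀) (hA W₁) _ (𝟙 _) (q₁ ≫ hZ'.hom) H₁.1
    (by rw [H₁.2.1, Category.id_comp])
  rw [Category.id_comp] at hm₁ hn₁
  have hmn : m ≫ n = 𝟙 _ := by
    refine (H₂.2.2 (hA W₀) (hA W₂) _ (𝟙 _) ((q₂ ≫ hV'.hom) ≫ w.hom) H₂.1
      (by rw [H₂.2.1, Category.id_comp])).unique ⟨?_, ?_⟩ ⟨by rw [Category.id_comp, Category.comp_id], Category.id_comp _⟩
    · rw [reassoc_of% hm₁, hn₁, Category.id_comp]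
    · rw [Category.assoc, hn₂, hm₂]
  have hnm : n ≫ m = 𝟙 _ := by
    refine (H₁.2.2 (hA W₀) (hA W₁) _ (𝟙 _) (q₁ ≫ hZ'.hom) H₁.1
      (by rw [H₁.2.1, Category.id_comp])).unique ⟨?_, ?_⟩ ⟨by rw [Category.id_comp, Category.comp_id], Category.id_comp _⟩
    · rw [reassoc_of% hn₁, hm₁, Category.id_comp]
    · rw [Category.assoc, hm₂, hn₂]
  haveI : IsIso m := ⟨n, hmn, hnm⟩
  have key : q₂ ≫ e'.hom = m ≫ q₁ := by
    refine (HZ.2.2 (hA W₀) (hA W₂) _ (a ≫ v.hom) ((q₂ ≫ hV'.hom) ≫ w.hom) H₂.1 H₂.2.1).unique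
      ⟨?_, ?_⟩ ⟨?_, ?_⟩
    · rw [← reassoc_of% sq₂.w, he₁, Category.assoc]
    · simp only [Category.assoc, he₂]
    · rw [reassoc_of% hm₁, ← sq₁.w]
    · rw [Category.assoc]; exact hm₂
  refine (AlgSpLib.isEtaleMor_iff_locP Z'.property).2 (AlgSpLib.locP_of_cover V'.property
    (fun _ : PUnit.{u + 1} => hA W₂) (fun _ => q₂) (fun _ => AlgSpLib.isEtaleMor_of_repWith hq₂)
    (fun x => ?_) fun _ => ?_)
  · obtain ⟨y, hy⟩ := AlgSpLib.map_surjective_of_repWith (AlgSpLib.repWith_mono inf_le_right HV.1.1) x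
    obtain ⟨z, hz⟩ := AlgSpLib.map_surjective_of_repWith has y
    refine ⟨PUnit.unit, AlgSp.Points.map ((AlgSp.yon S).map k₂) z, ?_⟩
    rw [← AlgSp.Points.map_comp, ← sq₂.w, AlgSp.Points.map_comp, hz, hy]
  · rw [key]
    exact (AlgSpLib.isEtaleMor_iff_locP Z'.property).1
      (AlgSpLib.isEtaleMor_comp (AlgSpLib.isEtaleMor_of_repWith hq₁) (AlgSpLib.isEtaleMor_of_isIso' m))


end Groth.Agent.S10638
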