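import Groth.Statements.S10644
import Groth.Agent.CurvOpenLib.WhereUnr
import Groth.Agent.CurvOpenLib.WhereFlat
-- import your own Groth.Agent.* helpers here

set_option autoImplicit false
universe u
open CategoryTheory CategoryTheory.Limits AlgebraicGeometry
open AlgSp

namespace Groth.Agent.S10644

/-- For morphisms f : X ⟶ Y, p : X ⟶ Z and q : Y ⟶ Z of algebraic spaces over S with f ≫ q = p, where p
is flat, universally closed and locally of finite presentation and q is closed, separated and
locally of finite type, there is an open subspace W of Z with the following property: a morphism of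
algebraic spaces g : Z' ⟶ Z factors through W exactly when the base change X' ⟶ Y' of f along g is
an isomorphism. Here the base change of f along g is any f' : X' ⟶ Y' obtained from pullback squares
Y' = Y ×_Z Z' and X' = X ×_Y Y' of algebraic spaces over S, and W ⊂ Z is given as a representable
open immersion w : W ⟶ Z. -/
theorem result {S : Scheme.{u}} {X Y Z : AlgSp.Space S}
    (f : X ⟶ Y) (p : X ⟶ Z) (q : Y ⟶ Z) (hc : f ≫ q = p)
    (hp1 : AlgSp.LocP @LocallyOfFinitePresentation p.hom) (hp2 : AlgSp.LocP @Flat p.hom)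
    (hp3 : AlgSp.IsUnivClosedMor p.hom) (hq1 : AlgSp.LocP @LocallyOfFiniteType q.hom)
    (hq2 : AlgSp.IsClosedMor q.hom) (hq3 : AlgSp.IsSeparatedMor q.hom) :
    ∃ (W : AlgSp.Space S) (w : W ⟶ Z), AlgSp.RepWith @IsOpenImmersion w.hom ∧
      ∀ (Z' : AlgSp.Space S) (g : Z' ⟶ Z),
        (∃ k : Z' ⟶ W, k ≫ w = g) ↔
          ∀ (Y' : AlgSp.Space S) (gY : Y' ⟶ Y) (q' : Y' ⟶ Z'),
            IsPullback gY.hom q'.hom q.hom g.hom →
            ∀ (X' : AlgSp.Space S) (gX : X' ⟶ X) (f' : X' ⟶ Y'),
              IsPullback gX.hom f'.hom f.hom gY.hom →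
                IsIso f'.hom := by
  subst hc
  have hp1l : LocP @LocallyOfFiniteType (f ≫ q).hom :=
    AlgSpLib.locP_mono (fun _ _ g (_ : LocallyOfFinitePresentation g) => (inferInstance : LocallyOfFiniteType g)) hp1
  have huc : IsUnivClosedMor f.hom := AlgSpLib.univClosed_of_comp X.property Y.property Z.property hq3 hp3
  have hcl : IsClosedMap (Points.map (pullback.snd f.hom f.hom ≫ (f ≫ q).hom)) :=
    AlgSpLib.isClosedMap_of_isUnivClosedMor Z.property (AlgSpLib.isUnivClosedMor_comp X.property Z.property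
      (AlgSpLib.univSp_of_isPullback (IsPullback.of_hasPullback f.hom f.hom) huc) hp3)
  have hpc : IsClosedMor (f ≫ q).hom := AlgSpLib.isClosedMap_of_isUnivClosedMor Z.property hp3
  have hci : ∀ (Z' : AlgSp.Space S) (g : Z' ⟶ Z) (d : WhereLib.BC f q g),
      RepWith @IsClosedImmersion d.f'.hom ↔
        Set.range (Points.map g.hom) ⊆ WhereUnr.unrLocus f q ∩ WhereUnr.injLocus f q := fun Z' g d =>
    (WhereUnr.closedImmersion_iff d.X'.property d.Y'.property
      (AlgSpLib.locP_of_isPullback X.property Y.property d.Y'.property d.hX (WhereUnr.lft_of_comp' hp1l))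
      (AlgSpLib.univSp_of_isPullback d.hX huc)).trans (WhereUnr.unrInj_bc_iff hp1l d)
  have key : ∀ (Z' : AlgSp.Space S) (g : Z' ⟶ Z) (d : WhereLib.BC f q g),
      IsIso d.f'.hom ↔ Set.range (Points.map g.hom) ⊆
        (WhereUnr.unrLocus f q ∩ WhereUnr.injLocus f q) ∩ WhereFlat.flatSurjLocus f q := fun Z' g d => by
    rw [Set.subset_inter_iff, ← hci Z' g d, ← WhereFlat.flatSurj_bc_iff hp1 hp2 hq1 d]
    constructor
    · intro hiso
      exact ⟨(RepWith @IsClosedImmersion).of_isIso _, AlgSpLib.isSurjectiveMor_of_isIso _,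
        AlgSpLib.locP_of_repWith ((RepWith @Flat).of_isIso _)⟩
    · rintro ⟨hc, hs, hfl⟩
      haveI : Mono d.f'.hom := AlgSpLib.mono_of_repWith (fun g (_ : IsClosedImmersion g) => inferInstance) hc
      exact AlgSpLib.isIso_of_flat_qc_surjective_mono d.X'.property d.Y'.property d.f'.hom hfl
        (AlgSpLib.isQuasiCompactMor_of_univClosed d.X'.property d.Y'.property (AlgSpLib.univSp_of_isPullback d.hX huc)) hs
  obtain ⟨W, w, hw, hfac⟩ := WhereLib.exists_open Z (((WhereUnr.isOpen_unrLocus hp1l hpc).inter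
    (WhereUnr.isOpen_injLocus hp1l hcl)).inter (WhereFlat.isOpen_flatSurjLocus hp1 hpc hq1 hq2))
  refine ⟨W, w, hw, fun Z' g => (hfac Z' g).trans ⟨fun H Y' gY q' hY X' gX f' hX => ?_, fun H => ?_⟩⟩
  · exact (key Z' g ⟨Y', gY, q', hY, X', gX, f', hX⟩).2 H
  · obtain ⟨d⟩ := WhereLib.nonempty_bc f q g
    exact (key Z' g d).1 (H d.Y' d.gY d.q' d.hY d.X' d.gX d.f' d.hX)

end Groth.Agent.S10644
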