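import Groth.Statements.S10645
import Groth.Agent.CurvOpenLib.KoszSpace
-- import your own Groth.Agent.* helpers here

set_option autoImplicit false
universe u
open CategoryTheory CategoryTheory.Limits AlgebraicGeometry
open AlgSp

namespace Groth.Agent.S10645

/-- For morphisms f : X ⟶ Y, p : X ⟶ Z and q : Y ⟶ Z of algebraic spaces over S with f ≫ q = p, where p
is flat, closed and locally of finite presentation and q is flat and also locally of finite
presentation, there is an open subspace W of Z with the following property: a morphism of algebraic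
spaces g : Z' ⟶ Z factors through W exactly when the base change X' ⟶ Y' of f along g is a local
complete intersection (Koszul) morphism, i.e. Koszul at every point etale locally on source and
target. Here the base change of f along g is any f' : X' ⟶ Y' obtained from pullback squares Y' = Y
×_Z Z' and X' = X ×_Y Y' of algebraic spaces over S, and W ⊂ Z is given as a representable open
immersion w : W ⟶ Z. -/
theorem result {S : Scheme.{u}} {X Y Z : AlgSp.Space S}
    (f : X ⟶ Y) (p : X ⟶ Z) (q : Y ⟶ Z) (hc : f ≫ q = p)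
    (hp1 : AlgSp.LocP @Flat p.hom) (hp2 : AlgSp.LocP @LocallyOfFinitePresentation p.hom)
    (hp3 : AlgSp.IsClosedMor p.hom) (hq1 : AlgSp.LocP @Flat q.hom)
    (hq2 : AlgSp.LocP @LocallyOfFinitePresentation q.hom) :
    ∃ (W : AlgSp.Space S) (w : W ⟶ Z), AlgSp.RepWith @IsOpenImmersion w.hom ∧
      ∀ (Z' : AlgSp.Space S) (g : Z' ⟶ Z),
        (∃ k : Z' ⟶ W, k ≫ w = g) ↔
          ∀ (Y' : AlgSp.Space S) (gY : Y' ⟶ Y) (q' : Y' ⟶ Z'),
            IsPullback gY.hom q'.hom q.hom g.hom →
            ∀ (X' : AlgSp.Space S) (gX : X' ⟶ X) (f' : X' ⟶ Y'),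
              IsPullback gX.hom f'.hom f.hom gY.hom →
                AlgSp.IsLCIMor f'.hom := by
  subst hc
  let K : Set (Points X.obj) := {x | LocPAt (fun h u => LCILocusLib.Koz h u) f.hom x}
  let O : Set (Points Z.obj) := (Points.map (f ≫ q).hom '' Kᶜ)ᶜ
  have hO : IsOpen O :=
    (hp3 _ (KoszSpace.isOpen_locPAt X.property Y.property f.hom).isClosed_compl).isOpen_compl
  refine ⟨⟨_, AlgSpLib.isAlgSpace_openSub Z.property hO⟩, ObjectProperty.homMk (AlgSpLib.openSubι Z.obj O),
    AlgSpLib.repWith_openSubι Z.obj hO, fun Z' g => ?_⟩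
  have hfac := AlgSpLib.exists_factor_iff (AlgSpLib.repWith_openSubι Z.obj hO) g.hom
  rw [AlgSpLib.range_openSubι] at hfac
  constructor
  · rintro ⟨k, hk⟩ Y' gY q' hY X' gX f' hX
    rw [KoszSpace.isLCIMor_iff_forall]
    intro x'
    rw [KoszSpace.locPAt_baseChange_iff X.property Y.property Z.property Z'.property hp1 hp2 hq1 hq2 hY hX x']
    by_contra hK
    refine hfac.1 ⟨k.hom, congrArg (fun φ : Z' ⟶ Z => φ.hom) hk⟩
      ⟨Points.map q'.hom (Points.map f'.hom x'), rfl⟩ ⟨_, hK, ?_⟩
    rw [← Points.map_comp, ← Points.map_comp, ← Points.map_comp, hY.w.symm, ← Category.assoc, ← hX.w]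
    rw [Category.assoc]
    rfl
  · intro H
    obtain ⟨k, hk⟩ := hfac.2 (by
      rintro _ ⟨z', rfl⟩ ⟨x, hx, hxz⟩
      let Y' : AlgSp.Space S := ⟨_, AlgSpLib.isAlgSpace_pullback Y.property Z'.property Z.property q.hom g.hom⟩
      let gY : Y' ⟶ Y := ObjectProperty.homMk (pullback.fst q.hom g.hom)
      let X' : AlgSp.Space S := ⟨_, AlgSpLib.isAlgSpace_pullback X.property Y'.property Y.property f.hom gY.hom⟩
      have hY : IsPullback gY.hom (pullback.snd q.hom g.hom) q.hom g.hom := IsPullback.of_hasPullback _ _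
      have hX := IsPullback.of_hasPullback f.hom gY.hom
      obtain ⟨y', hy', -⟩ := AlgSpLib.exists_point_isPullback hY (Points.map f.hom x) z'
        (by rw [← hxz, ← Points.map_comp]; rfl)
      obtain ⟨x', hx', -⟩ := AlgSpLib.exists_point_isPullback hX x y' hy'.symm
      have h' := H Y' gY (ObjectProperty.homMk (pullback.snd q.hom g.hom)) hY X'
        (ObjectProperty.homMk (pullback.fst f.hom gY.hom)) (ObjectProperty.homMk (pullback.snd f.hom gY.hom)) hX
      have := (KoszSpace.locPAt_baseChange_iff X.property Y.property Z.property Z'.property hp1 hp2 hq1 hq2 hY hX x').1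
        (KoszSpace.isLCIMor_iff_forall.1 h' x')
      rw [hx'] at this
      exact hx this)
    exact ⟨ObjectProperty.homMk k, ObjectProperty.hom_ext _ hk⟩

end Groth.Agent.S10645
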