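import Groth.Statements.S10646
import Groth.Agent.NormSpLib.ZmtLocal

set_option autoImplicit false
set_option backward.isDefEq.respectTransparency false
set_option backward.isDefEq.respectTransparency.types false
universe u
open CategoryTheory CategoryTheory.Limits AlgebraicGeometry
open AlgSp

namespace Groth.Agent.S10646

open AlgSpLib

/-- An open and finite piece of `X`, étale over an open piece of the normalisation, through `x`. -/
theorem exists_piece {S : Scheme.{u}} {X Y Y' : Sp S} (hX : IsAlgSpace X) (hY : IsAlgSpace Y) (hY' : IsAlgSpace Y')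
    {f : X ⟶ Y} {ν : Y' ⟶ Y} {f' : X ⟶ Y'} (hqc : IsQuasiCompactMor f) (hsep : IsSeparatedMor f)
    (hn : IsRelNormalization f ν f') {x : Points X}
    (hx : HasAtMor (fun U _ h u => ∃ W : U.Opens, u ∈ W ∧ LocallyQuasiFinite (W.ι ≫ h) ∧
      LocallyOfFiniteType (W.ι ≫ h)) f x) :
    ∃ (I T : Over S) (jX : (yon S).obj I ⟶ X) (c : (yon S).obj I ⟶ Y') (b : (yon S).obj T ⟶ Y) (i : I ⟶ T),
      RepWith @Etale jX ∧ RepWith @Etale c ∧ RepWith @Etale b ∧ IsFinite i.left ∧
      jX ≫ f = (yon S).map i ≫ b ∧ IsPullback jX (𝟙 ((yon S).obj I)) f' c ∧ x ∈ Set.range (Points.map jX) := by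
  obtain ⟨T, b, F, bX, p, I, j, i, hb, sqF, hj, hjc, hi, hfin, hxr⟩ := NormSpLib.exists_finite_piece hX hY hsep hx
  haveI := hfin
  have hν := isIntegralMor_iff.1 hn.2.1
  obtain ⟨N, prN, μ, sqN, hμ⟩ : ∃ (N : Over S) (prN : (yon S).obj N ⟶ Y') (μ : N ⟶ T),
      IsPullback prN ((yon S).map μ) ν b ∧ IsIntegralHom μ.left :=
    ⟨_, _, _, hν.rep.isPullback b, hν.property_snd b⟩
  haveI := hμ
  let g := sqN.lift (bX ≫ f') p (by rw [Category.assoc, hn.1, sqF.w])
  have hg₁ : g ≫ prN = bX ≫ f' := sqN.lift_fst _ _ _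
  have hg₂ : g ≫ (yon S).map μ = p := sqN.lift_snd _ _ _
  have hnT := NormSpLib.isRelNormalization_smooth_pullback hY (IsAlgSpace.yon_obj T) hX hY' sqF hqc
    (isQuasiSeparatedMor_of_isSeparatedMor hsep) (locP_smooth_of_isEtaleMor (isEtaleMor_of_repWith hb)) hn sqN
    hg₂ hg₁
  have hip : j ≫ p = (yon S).map i := by assumption
  obtain ⟨k, hk, sqk⟩ := NormSpLib.exists_open_of_finite_piece
    (isAlgSpace_of_isPullback hX (IsAlgSpace.yon_obj T) hY sqF) hnT hj hjc hip
  have sqg : IsPullback bX g f' prN := IsPullback.of_bot (by rw [hg₂, hn.1]; exact sqF) hg₁.symm sqN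
  refine ⟨I, T, j ≫ bX, (yon S).map k ≫ prN, b, i, ?_, ?_, hb, hfin, ?_, sqk.paste_horiz sqg, hxr⟩
  · exact repWith_comp (repWith_mono (fun _ _ g (_ : IsOpenImmersion g) => (inferInstance : Etale g)) hj)
      (repWith_of_isPullback sqF.flip hb)
  · haveI := hk
    exact repWith_comp ((repWith_yon_map_iff (P := (@Etale : MorphismProperty Scheme.{u})) k).2 inferInstance)
      (repWith_of_isPullback sqN.flip hb)
  · rw [Category.assoc, sqF.w, reassoc_of% hip]


/-- For a separated morphism f : X ⟶ Y of finite type between algebraic spaces over S, with X ⟶ Y' ⟶ Y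
(f' followed by ν) the normalization of Y in X, there is an open subspace U' of Y' (a representable
open immersion j : U' ⟶ Y') such that for the inverse image P = X ×_{Y'} U' the projection P ⟶ U' is
an isomorphism and the image of |P| in |X| consists exactly of those points of |X| where f is
quasi-finite (some etale chart diagram through the point on which the top arrow is locally
quasi-finite and locally of finite type on an open neighbourhood). -/
theorem result {S : Scheme.{u}} {X Y Y' : AlgSp.Space S} (f : X ⟶ Y) (ν : Y' ⟶ Y) (f' : X ⟶ Y')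
    (hf1 : AlgSp.IsFiniteTypeMor f.hom) (hf2 : AlgSp.IsSeparatedMor f.hom)
    (hn : AlgSp.IsRelNormalization f.hom ν.hom f'.hom) :
    ∃ (U' : AlgSp.Space S) (j : U' ⟶ Y'), AlgSp.RepWith @IsOpenImmersion j.hom ∧
      ∀ (P : AlgSp.Space S) (fst : P ⟶ X) (snd : P ⟶ U'), IsPullback fst.hom snd.hom f'.hom j.hom →
        IsIso snd.hom ∧
          Set.range (AlgSp.Points.map fst.hom) = {x | AlgSp.HasAtMor (fun U _ h u => ∃ W : U.Opens, u ∈ W ∧ LocallyQuasiFinite (W.ι ≫ h) ∧ LocallyOfFiniteType (W.ι ≫ h)) f.hom x} := by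
  let good := fun (x : AlgSp.Points X.obj) => AlgSp.HasAtMor (fun U _ h u => ∃ W : U.Opens, u ∈ W ∧
    LocallyQuasiFinite (W.ι ≫ h) ∧ LocallyOfFiniteType (W.ι ≫ h)) f.hom x
  choose I T jX c b i hjX hc hb hfin hcomm sqc hxI using fun x : {x // good x} =>
    exists_piece X.property Y.property Y'.property hf1.2 hf2 hn x.2
  let B : Set (Points Y'.obj) := ⋃ x : {x // good x}, Set.range (Points.map (c x))
  have hB : IsOpen B := isOpen_iUnion fun x =>
    (isOpenMap_map_of_isEtaleMor (IsAlgSpace.yon_obj _) (isEtaleMor_of_repWith (hc x))).isOpen_range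
  let j := openSubι Y'.obj B
  have hj : RepWith @IsOpenImmersion j := repWith_openSubι _ hB
  have hrj : Set.range (Points.map j) = B := range_openSubι _
  haveI : Mono j := mono_of_openImmersion hj
  have hU : IsAlgSpace (openSub Y'.obj B) := isAlgSpace_openSub Y'.property hB
  refine ⟨⟨openSub Y'.obj B, hU⟩, ObjectProperty.homMk j, hj, fun P fst' snd' sq => ?_⟩
  let fst : P.obj ⟶ X.obj := fst'.hom
  let snd : P.obj ⟶ openSub Y'.obj B := snd'.hom
  have sqP : IsPullback fst snd f'.hom j := sq
  have hrange : Set.range (Points.map fst) = Points.map f'.hom ⁻¹' B := by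
    rw [range_map_of_isPullback sqP.flip, hrj]
  refine ⟨?_, ?_⟩
  · choose cU hcU using fun x => (exists_factor_iff hj (c x)).2 (by
      rw [hrj]; exact Set.subset_iUnion (fun x : {x // good x} => Set.range (Points.map (c x))) x)
    have hcUe : ∀ x, RepWith @Etale (cU x) := fun x => FiltLib.repWith_of_comp_mono (by rw [hcU]; exact hc x)
    have hpiece : ∀ (x : {x // good x}) (Q : Over S) (v : (yon S).obj Q ⟶ X.obj) (r : (yon S).obj Q ⟶ (yon S).obj (I x)),
        v ≫ f'.hom = r ≫ c x → v = r ≫ jX x := fun x Q v r e => by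
      rw [← (sqc x).lift_fst v r e]
      have := (sqc x).lift_snd v r e
      rw [Category.comp_id] at this
      rw [this]
    have hlift : ∀ (Q : Over S) (s : (yon S).obj Q ⟶ openSub Y'.obj B), ∃! l, l ≫ snd = s := by
      intro Q s
      choose Qx q r sqQ using fun x => exists_isPullback_yon (cU x) s (hcUe x).rep
      haveI : ∀ x, Etale (r x).left := fun x => etale_left (repWith_of_isPullback (sqQ x) (hcUe x))
      have hcov : ∀ t : Q.left, ∃ x, t ∈ Set.range (r x).left := fun t => by
        obtain ⟨x, hx⟩ := Set.mem_iUnion.1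
          (hrj.le (Set.mem_range_self (f := Points.map j) (Points.map s (Points.schemeHomeo Q t))))
        obtain ⟨z, hz⟩ := hx
        have e : Points.map (cU x) z = Points.map s (Points.schemeHomeo Q t) := injective_map_of_mono j (by
          rw [← Points.map_comp, hcU, hz])
        obtain ⟨w, -, hw⟩ := exists_point_isPullback (sqQ x) z _ e
        obtain ⟨w, rfl⟩ := (Points.schemeHomeo _).surjective w
        exact ⟨x, w, (Points.schemeHomeo Q).injective (by rw [← hw, Points.map_yon_map_apply])⟩
      choose sel hsel using hcov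
      have hcov' : ∀ t : Q.left, ∃ t' : Q.left, t ∈ Set.range (r (sel t')).left := fun t => ⟨t, hsel t⟩
      have huniq : ∀ l l' : (yon S).obj Q ⟶ P.obj, l ≫ snd = s → l' ≫ snd = s → l = l' := fun l l' e e' => by
        refine AlgSpLib.hom_ext_of_cover (fun t : Q.left => r (sel t)) (fun _ => inferInstance) (fun _ => inferInstance) hcov' fun x => ?_
        have key : ∀ l : (yon S).obj Q ⟶ P.obj, l ≫ snd = s →
            ((yon S).map (r (sel x)) ≫ l) ≫ fst = (yon S).map (q (sel x)) ≫ jX (sel x) := fun l e =>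
          hpiece (sel x) _ _ _ (by
            rw [Category.assoc, Category.assoc, sqP.w, reassoc_of% e, ← reassoc_of% (sqQ (sel x)).w, hcU])
        apply sqP.hom_ext
        · rw [key l e, key l' e']
        · rw [Category.assoc, Category.assoc, e, e']
      choose lx hlx₁ hlx₂ using fun x => (⟨sqP.lift ((yon S).map (q x) ≫ jX x) ((yon S).map (r x) ≫ s) (by
          rw [Category.assoc, (sqc x).w, Category.id_comp, Category.assoc, ← reassoc_of% (sqQ x).w, hcU]),
        sqP.lift_fst _ _ _, sqP.lift_snd _ _ _⟩ :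
        ∃ l, l ≫ fst = (yon S).map (q x) ≫ jX x ∧ l ≫ snd = (yon S).map (r x) ≫ s)
      obtain ⟨l, hl⟩ := exists_amalgamation (fun t : Q.left => r (sel t)) (fun _ => inferInstance)
        (fun _ => inferInstance) hcov' (fun t => lx (sel t)) fun tx ty Q' u v e => by
          apply sqP.hom_ext
          · generalize sel tx = x at u e ⊢
            generalize sel ty = y at v e ⊢
            refine (hpiece y _ _ ((yon S).map (v ≫ q y)) ?_).trans ?_
            · rw [Category.assoc, Category.assoc, reassoc_of% hlx₁ x, (sqc x).w, Category.id_comp,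
                ← hcU x, ← hcU y, reassoc_of% (sqQ x).w, (yon S).map_comp v (q y), Category.assoc,
                reassoc_of% (sqQ y).w, ← Functor.map_comp_assoc, ← Functor.map_comp_assoc, e]
            · rw [Category.assoc, hlx₁, Functor.map_comp, Category.assoc]
          · rw [Category.assoc, Category.assoc, hlx₂, hlx₂, ← Functor.map_comp_assoc, ← Functor.map_comp_assoc, e]
      have hfin' : ∀ t, (yon S).map (r (sel t)) ≫ l ≫ snd = (yon S).map (r (sel t)) ≫ s := fun t => by
        rw [reassoc_of% hl t, hlx₂]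
      refine ⟨l, AlgSpLib.hom_ext_of_cover (fun t : Q.left => r (sel t)) (fun _ => inferInstance) (fun _ => inferInstance) hcov' fun x => ?_,
        fun l' hl' => huniq l' l hl' (AlgSpLib.hom_ext_of_cover (fun t : Q.left => r (sel t)) (fun _ => inferInstance)
          (fun _ => inferInstance) hcov' hfin')⟩
      exact hfin' x
    obtain ⟨A, aA, haA, haAs⟩ := hU.atlas
    obtain ⟨σ₀, hσ₀, -⟩ := hlift A aA
    obtain ⟨σ, hσ⟩ := exists_desc_of_atlas haA haAs σ₀ fun Q u v e => (hlift Q ((yon S).map v ≫ aA)).unique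
      (by rw [Category.assoc, hσ₀, e]) (by rw [Category.assoc, hσ₀])
    have h1 : σ ≫ snd = 𝟙 _ := hom_ext_of_atlas haA haAs (by rw [reassoc_of% hσ, hσ₀, Category.comp_id])
    have h2 : snd ≫ σ = 𝟙 _ := NormSpLib.hom_ext_sheaf fun Q x => (hlift Q (x ≫ snd)).unique
      (by simp only [Category.assoc, h1, Category.comp_id]) (by rw [Category.comp_id])
    show IsIso snd
    exact ⟨σ, h2, h1⟩
  · show Set.range (Points.map fst) = {x | good x}
    rw [hrange]
    ext x
    constructor
    · intro hx
      obtain ⟨y, z, hz⟩ := Set.mem_iUnion.1 hx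
      obtain ⟨w, hw, -⟩ := exists_point_isPullback (sqc y) x z hz.symm
      obtain ⟨w, rfl⟩ := (Points.schemeHomeo _).surjective w
      haveI := hfin y
      refine ⟨I y, T y, jX y, b y, i y, w, hjX y, hb y, hcomm y, ?_, ⊤, trivial, inferInstance, inferInstance⟩
      exact (Points.ofPt_eq_map_ofScheme _ w).trans hw
    · intro hx
      obtain ⟨z, hz⟩ := hxI ⟨x, hx⟩
      exact Set.mem_iUnion.2 ⟨⟨x, hx⟩, z, by
        have := congrArg (fun k => Points.map k z) (sqc ⟨x, hx⟩).w
        simp only [Category.id_comp, Points.map_comp] at this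
        rw [← this, hz]⟩

end Groth.Agent.S10646
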