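import Groth.Statements.S10651
import Groth.Agent.S9964
import Groth.Agent.S10281
import Groth.Agent.S10444
import Groth.Agent.S10650
import Groth.Agent.AlgSpLib.DecentPoints
import Groth.Agent.AlgSpLib.QcQs
import Groth.Agent.AlgSpLib.Sep
import Groth.Agent.AlgSpRegLib.ProperSub
-- import your own Groth.Agent.* helpers here

set_option autoImplicit false
set_option backward.isDefEq.respectTransparency false
set_option backward.isDefEq.respectTransparency.types false
universe u
open CategoryTheory CategoryTheory.Limits AlgebraicGeometry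
open AlgSp

namespace Groth.Agent.S10651

/-- Consider morphisms h : X ⟶ Y, f : X ⟶ B, g : Y ⟶ B of algebraic spaces over S with h ≫ g = f, a
point b of |B| and a field point k of B in the class of b. Assume f is proper, g is separated and
locally of finite type, and either (a) for the fibres X_k ⟶ Y_k of h over k (pullbacks in fppf
sheaves) the image of |X_k| in |Y_k| is finite, or (b) the image in |Y| of the fibre of |X| ⟶ |B|
over b is finite and B is decent. Then over some open subspace B' of B containing b the base change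
X_{B'} ⟶ Y_{B'} of h lands in a closed subspace Z of Y_{B'} that is finite over B' (it factors
through Z). -/
theorem result {S : Scheme.{u}} {X Y B : AlgSp.Space S} (h : X ⟶ Y) (f : X ⟶ B) (g : Y ⟶ B) (hc : h ≫ g = f)
    (b : AlgSp.Points B.obj) (k : AlgSp.FieldPt B.obj) (hk : AlgSp.Points.mk k = b)
    (hf : AlgSp.IsProperMor f.hom) (hg1 : AlgSp.IsSeparatedMor g.hom) (hg2 : AlgSp.LocP @LocallyOfFiniteType g.hom)
    (h3 : (∀ (Yk : AlgSp.Sp S) (gY : Yk ⟶ Y.obj) (sY : Yk ⟶ (AlgSp.yon S).obj k.pt),
            IsPullback gY sY g.hom k.toHom →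
            ∀ (Xk : AlgSp.Sp S) (gX : Xk ⟶ X.obj) (hk' : Xk ⟶ Yk), IsPullback gX hk' h.hom gY →
              (Set.range (AlgSp.Points.map hk')).Finite) ∨
          ((AlgSp.Points.map h.hom '' (AlgSp.Points.map f.hom ⁻¹' {b})).Finite ∧ AlgSp.IsDecent B.obj)) :
    ∃ (B' : AlgSp.Space S) (j : B' ⟶ B), AlgSp.RepWith @IsOpenImmersion j.hom ∧
      b ∈ Set.range (AlgSp.Points.map j.hom) ∧
        ∀ (YB : AlgSp.Space S) (gY : YB ⟶ Y) (sY : YB ⟶ B'), IsPullback gY.hom sY.hom g.hom j.hom →
          ∀ (XB : AlgSp.Space S) (gX : XB ⟶ X) (hB : XB ⟶ YB), IsPullback gX.hom hB.hom h.hom gY.hom →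
            ∃ (Z : AlgSp.Space S) (i : Z ⟶ YB) (e : XB ⟶ Z), AlgSp.RepWith @IsClosedImmersion i.hom ∧
              AlgSp.IsFiniteMor (i ≫ sY).hom ∧ e ≫ i = hB := by
  classical
  obtain ⟨Z, i, hi⟩ := Groth.Agent.S9964.result h
  obtain ⟨f₁, hf₁⟩ := hi.2.1
  let h' : X ⟶ Z := ObjectProperty.homMk f₁
  have fac : h' ≫ i = h := ObjectProperty.hom_ext _ hf₁
  obtain ⟨hpr, hsu⟩ := Groth.Agent.S10281.result h f g hc hf hg1 hg2 i hi h' fac
  haveI : Mono i.hom := AlgSpLib.mono_of_repWith (fun e (_ : IsClosedImmersion e) => inferInstance) hi.1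
  have hinj : Function.Injective (AlgSp.Points.map i.hom) := AlgSpLib.injective_map_of_mono i.hom
  have hqf : ∀ z : AlgSp.Points Z.obj, AlgSp.Points.map (i ≫ g).hom z = b →
      AlgSp.HasAtMor (fun U _ e u => ∃ W : U.Opens, u ∈ W ∧ LocallyQuasiFinite (W.ι ≫ e) ∧
        LocallyOfFiniteType (W.ι ≫ e)) (i ≫ g).hom z := by
    intro z₀ hz₀
    let Yk := pullback g.hom k.toHom
    have sqY : IsPullback (pullback.fst g.hom k.toHom) (pullback.snd g.hom k.toHom) g.hom k.toHom :=
      IsPullback.of_hasPullback _ _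
    have hYk := AlgSpLib.isAlgSpace_pullback Y.property (AlgSp.IsAlgSpace.yon_obj _) B.property g.hom k.toHom
    let Zk := pullback i.hom (pullback.fst g.hom k.toHom)
    have sqZ : IsPullback (pullback.fst i.hom (pullback.fst g.hom k.toHom)) (pullback.snd i.hom _) i.hom
        (pullback.fst g.hom k.toHom) := IsPullback.of_hasPullback _ _
    have hZk := AlgSpLib.isAlgSpace_pullback Z.property hYk Y.property i.hom (pullback.fst g.hom k.toHom)
    have sqZk : IsPullback (pullback.fst i.hom (pullback.fst g.hom k.toHom))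
        (pullback.snd i.hom (pullback.fst g.hom k.toHom) ≫ pullback.snd g.hom k.toHom) (i ≫ g).hom k.toHom :=
      sqZ.paste_vert sqY
    obtain ⟨c0, c1, -, -, c4, -, -, c7, c8⟩ := Groth.Agent.S10444.result (i ≫ g) hpr.2.1.1 k (hk ▸ ⟨z₀, hz₀⟩)
      ⟨Zk, hZk⟩ (ObjectProperty.homMk (pullback.fst i.hom (pullback.fst g.hom k.toHom)))
      (pullback.snd i.hom (pullback.fst g.hom k.toHom) ≫ pullback.snd g.hom k.toHom) sqZk
    have hdisc : DiscreteTopology (AlgSp.Points Zk) := by
      rcases h3 with h3 | ⟨h3, hBd⟩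
      · have hZkd : AlgSp.IsDecent Zk := AlgSpLib.isDecent_of_isQuasiSeparatedMor hZk
          (g := pullback.snd i.hom (pullback.fst g.hom k.toHom) ≫ pullback.snd g.hom k.toHom)
          (AlgSpLib.repWith_diagonal_of_isPullback sqZk (AlgSpLib.isQuasiSeparatedMor_of_isSeparatedMor hpr.1))
        let Xk := pullback h.hom (pullback.fst g.hom k.toHom)
        have sqX : IsPullback (pullback.fst h.hom (pullback.fst g.hom k.toHom)) (pullback.snd h.hom _) h.hom
            (pullback.fst g.hom k.toHom) := IsPullback.of_hasPullback _ _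
        have hfin := h3 Yk _ _ sqY Xk _ _ sqX
        have ew : (pullback.fst h.hom (pullback.fst g.hom k.toHom) ≫ f₁) ≫ i.hom =
            pullback.snd h.hom _ ≫ pullback.fst g.hom k.toHom := by rw [Category.assoc, hf₁]; exact sqX.w
        let m : Xk ⟶ Zk := pullback.lift _ _ ew
        have hm : m ≫ pullback.snd i.hom _ = pullback.snd h.hom _ := pullback.lift_snd _ _ _
        have sqm : IsPullback (pullback.fst h.hom (pullback.fst g.hom k.toHom)) m f₁
            (pullback.fst i.hom (pullback.fst g.hom k.toHom)) := by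
          refine IsPullback.of_bot ?_ (pullback.lift_fst _ _ _).symm sqZ
          rw [hm, hf₁]
          exact sqX
        have hsub : Set.range (AlgSp.Points.map (pullback.snd i.hom (pullback.fst g.hom k.toHom))) ⊆
            Set.range (AlgSp.Points.map (pullback.snd h.hom (pullback.fst g.hom k.toHom))) := by
          rintro _ ⟨w, rfl⟩
          obtain ⟨x, hx⟩ := hsu (AlgSp.Points.map (pullback.fst i.hom _) w)
          obtain ⟨v, -, hv⟩ := AlgSpLib.exists_point_isPullback sqm x w hx
          exact ⟨v, by rw [← hm, AlgSp.Points.map_comp, hv]⟩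
        haveI : Finite (AlgSp.Points Zk) := Set.finite_univ_iff.1 <| by
          have := hfin.subset hsub
          rw [← Set.image_univ] at this
          exact Set.Finite.of_finite_image this (AlgSpLib.injective_map_of_mono _).injOn
        exact c4 hZkd inferInstance
      · have hZd : AlgSp.IsDecent Z.obj := AlgSpLib.isDecent_of_fibres (i ≫ g).hom hBd fun p =>
          AlgSpLib.isDecent_of_isQuasiSeparatedMor
            (AlgSpLib.isAlgSpace_pullback Z.property (AlgSp.IsAlgSpace.yon_obj _) B.property (i ≫ g).hom p.toHom)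
            (g := pullback.snd (i ≫ g).hom p.toHom)
            (AlgSpLib.repWith_diagonal_of_isPullback (IsPullback.of_hasPullback (i ≫ g).hom p.toHom)
              (AlgSpLib.isQuasiSeparatedMor_of_isSeparatedMor hpr.1))
        refine (c7 hBd).1 ((c8 hBd hZd).2 ?_)
        refine Set.Finite.of_finite_image (h3.subset ?_) hinj.injOn
        rintro _ ⟨w, hw, rfl⟩
        obtain ⟨x, rfl⟩ := hsu w
        refine ⟨x, ?_, ?_⟩
        · show AlgSp.Points.map f.hom x = b
          rw [← hk, ← (show AlgSp.Points.map (i ≫ g).hom (AlgSp.Points.map f₁ x) = AlgSp.Points.mk k from hw),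
            ← AlgSp.Points.map_comp, ← hc, ← fac]
          rw [Category.assoc]
          rfl
        · rw [← AlgSp.Points.map_comp]
          exact congrArg (fun e => AlgSp.Points.map e x) hf₁.symm
    exact c1.1 (c0.1 hdisc) z₀ (hz₀.trans hk.symm)
  obtain ⟨B', j, hj, hbj, H⟩ := Groth.Agent.S10650.result (i ≫ g) b hpr hqf
  refine ⟨B', j, hj, hbj, fun YB gY sY sqYB XB gX hB sqXB => ?_⟩
  have sq : IsPullback (pullback.fst i.hom gY.hom) (pullback.snd i.hom gY.hom) i.hom gY.hom :=
    IsPullback.of_hasPullback _ _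
  have hP := AlgSpLib.isAlgSpace_pullback Z.property YB.property Y.property i.hom gY.hom
  have ew : (gX.hom ≫ f₁) ≫ i.hom = hB.hom ≫ gY.hom := by rw [Category.assoc, hf₁]; exact sqXB.w
  exact ⟨⟨_, hP⟩, ObjectProperty.homMk (pullback.snd i.hom gY.hom), ObjectProperty.homMk (pullback.lift _ _ ew),
    AlgSpLib.repWith_of_isPullback sq hi.1,
    H ⟨_, hP⟩ (ObjectProperty.homMk (pullback.fst i.hom gY.hom))
      (ObjectProperty.homMk (pullback.snd i.hom gY.hom) ≫ sY) (sq.paste_vert sqYB),
    ObjectProperty.hom_ext _ (pullback.lift_snd _ _ ew)⟩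

end Groth.Agent.S10651
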