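import Groth.Statements.S10652
import Groth.Agent.S0451
import Groth.Agent.AlgSpLib.Qc
import Groth.Agent.AlgSpLib.LocP
-- import your own Groth.Agent.* helpers here

set_option autoImplicit false
set_option backward.isDefEq.respectTransparency false
set_option linter.all false
universe u
open CategoryTheory CategoryTheory.Limits AlgebraicGeometry
open AlgSp

namespace Groth.Agent.S10652

open CategoryTheory CategoryTheory.Limits AlgebraicGeometry Opposite AlgSp AlgSpLib TopologicalSpace

theorem schDominant {X : Scheme.{u}} (W : X.Opens) [QuasiCompact W.ι] (h : CInt.IsSchematicallyDense W) :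
    IsSchemeTheoreticallyDominant W.ι := by
  constructor
  refine Scheme.IdealSheafData.ext (funext fun U => ?_)
  simp only [Scheme.Hom.ker_apply, Scheme.IdealSheafData.ideal_bot, Pi.bot_apply]
  rw [← RingHom.injective_iff_ker_eq_bot]
  rw [Scheme.Opens.ι_app]
  have he : W.ι ''ᵁ (W.ι ⁻¹ᵁ U.1) = U.1 ⊓ W := by
    rw [Scheme.Hom.image_preimage_eq_opensRange_inf, Scheme.Opens.opensRange_ι, inf_comm]
  intro a b hab
  apply h U.1
  have key := congrArg (X.presheaf.map (homOfLE (he.ge)).op).hom hab
  have hcomb : ∀ c, (X.presheaf.map (homOfLE (he.ge)).op).hom ((X.presheaf.map (homOfLE (show W.ι ''ᵁ (W.ι ⁻¹ᵁ U.1) ≤ U.1 from he.le.trans inf_le_left)).op).hom c) =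
      X.presheaf.map (homOfLE (inf_le_left : U.1 ⊓ W ≤ U.1)).op c := fun c => by
    show ((X.presheaf.map _) ≫ (X.presheaf.map _)).hom c = _
    rw [← Functor.map_comp]; rfl
  rw [← hcomb, ← hcomb]
  exact key

/-- For a flat morphism f : X ⟶ Y of algebraic spaces over S which is locally of finite type, and an
open subspace j : V ⟶ Y which is quasi-compact (as a morphism) and scheme theoretically dense (on
some etale surjective scheme chart its inverse image is a schematically dense open): if the base
change X ×_Y V ⟶ V is locally of finite presentation then so is f. -/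
theorem result {S : Scheme.{u}} {X Y V : AlgSp.Space S} (f : X ⟶ Y) (j : V ⟶ Y)
    (hf1 : AlgSp.LocP @LocallyOfFiniteType f.hom) (hf2 : AlgSp.LocP @Flat f.hom)
    (hj1 : AlgSp.IsQuasiCompactMor j.hom) (hj2 : AlgSp.IsSchDense j.hom)
    (P : AlgSp.Space S) (fst : P ⟶ X) (snd : P ⟶ V) (hP : IsPullback fst.hom snd.hom f.hom j.hom)
    (hV : AlgSp.LocP @LocallyOfFinitePresentation snd.hom) :
    AlgSp.LocP @LocallyOfFinitePresentation f.hom := by
  obtain ⟨hjop, V₀, φ, W, g₀, hφ, hφs, sq₀, hdense⟩ := hj2
  obtain ⟨U₀, a, h, ha, has, e⟩ := exists_chart_over X.property Y.property f.hom φ hφ hφs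
  haveI : LocallyOfFiniteType h.left := hf1 a φ h ha hφ e
  haveI : Flat h.left := hf2 a φ h ha hφ e
  let Wo : Over S := Over.mk (W.ι ≫ V₀.hom)
  let wm : Wo ⟶ V₀ := Over.homMk W.ι rfl
  haveI hqc : QuasiCompact W.ι := by
    rw [quasiCompact_iff_forall_isAffineOpen]
    intro A hA
    let Z : Over S := Over.mk (A.ι ≫ V₀.hom)
    let zm : Z ⟶ V₀ := Over.homMk A.ι rfl
    haveI : IsAffine Z.left := hA
    haveI : CompactSpace ↥Z.left := inferInstance
    have sqA := (IsPullback.of_hasPullback wm zm).map (yon S)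
    have hP' := hj1 (IsAlgSpace.yon_obj Z) (isQuasiCompactSp_yon Z) ((yon S).map zm ≫ φ) _ _
      (sqA.flip.paste_vert sq₀.flip).flip
    haveI := compactSpace_points_of_isQuasiCompactSp hP'
    haveI : CompactSpace ↥(pullback wm zm).left := (Points.schemeHomeo (pullback wm zm)).symm.compactSpace
    have sqL : IsPullback (pullback.fst wm zm).left (pullback.snd wm zm).left W.ι A.ι := isPullback_left sqA
    have hc := isCompact_range (pullback.fst wm zm).left.continuous
    suffices hh : Set.range (pullback.fst wm zm).left = ((W.ι ⁻¹ᵁ A : W.toScheme.Opens) : Set W.toScheme) by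
      rw [← hh] ; exact hc
    ext w
    symm
    constructor
    · intro hw
      obtain ⟨p, hp, -⟩ := Scheme.exists_preimage_of_isPullback sqL w ⟨W.ι w, hw⟩ rfl
      exact ⟨p, hp⟩
    · rintro ⟨p, rfl⟩
      show W.ι ((pullback.fst wm zm).left p) ∈ A
      have hw' : W.ι ((pullback.fst wm zm).left p) = A.ι ((pullback.snd wm zm).left p) :=
        congrArg (fun m : (pullback wm zm).left ⟶ V₀.left => m p) sqL.w
      rw [hw']
      exact ((pullback.snd wm zm).left p).2
  haveI := schDominant W hdense
  let U₁ : Over S := Over.mk ((h.left ⁻¹ᵁ W).ι ≫ U₀.hom)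
  let u : U₁ ⟶ U₀ := Over.homMk (h.left ⁻¹ᵁ W).ι rfl
  let k : U₁ ⟶ Wo := Over.homMk (h.left ∣_ W) (by
    show (h.left ∣_ W) ≫ W.ι ≫ V₀.hom = (h.left ⁻¹ᵁ W).ι ≫ U₀.hom
    rw [morphismRestrict_ι_assoc, Over.w h])
  have sqk : IsPullback k u wm h := by
    refine IsPullback.of_map (Over.forget S) ?_ (isPullback_morphismRestrict h.left W)
    ext
    exact morphismRestrict_ι h.left W
  have outer := (sqk.map (yon S)).paste_horiz sq₀
  rw [← e] at outer
  let l : (yon S).obj U₁ ⟶ P.obj := hP.lift ((yon S).map u ≫ a) ((yon S).map k ≫ g₀) (by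
    rw [Category.assoc, Category.assoc]
    exact (outer.w.trans (Category.assoc _ _ _).symm |>.symm).trans (by simp [Category.assoc]))
  have sql : IsPullback l ((yon S).map u) fst.hom a := by
    refine IsPullback.of_right ?_ (hP.lift_fst _ _ _) hP.flip
    rw [hP.lift_snd]
    exact outer
  have hl : RepWith @Etale l := repWith_of_isPullback sql.flip ha
  have hlfp : LocallyOfFinitePresentation (h.left ∣_ W) :=
    hV l g₀ k hl (repWith_of_isPullback sq₀.flip hφ) (hP.lift_snd _ _ _)
  haveI := hlfp
  exact locP_of_chart ha has hφ e (Groth.Agent.S0451.result h.left W)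

end Groth.Agent.S10652
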