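import Groth.Statements.S10654
import Groth.Agent.AlgSpLib.FiniteNhd

set_option autoImplicit false
universe u
open CategoryTheory CategoryTheory.Limits AlgebraicGeometry
open AlgSp

namespace Groth.Agent.S10654

/-- For a flat proper morphism f : X ⟶ Y of algebraic spaces over S and an open subspace j : V ⟶ Y with
|V| dense in |Y| such that the base change X ×_Y V ⟶ V is finite: f is finite over all of Y,
provided either j is quasi-compact or f is locally of finite presentation. -/
theorem result {S : Scheme.{u}} {X Y V : AlgSp.Space S} (f : X ⟶ Y) (j : V ⟶ Y)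
    (hf1 : AlgSp.LocP @Flat f.hom) (hf2 : AlgSp.IsProperMor f.hom)
    (hj1 : AlgSp.RepWith @IsOpenImmersion j.hom) (hj2 : Dense (Set.range (AlgSp.Points.map j.hom)))
    (P : AlgSp.Space S) (fst : P ⟶ X) (snd : P ⟶ V) (hP : IsPullback fst.hom snd.hom f.hom j.hom)
    (hV : AlgSp.IsFiniteMor snd.hom)
    (h : AlgSp.LocP @LocallyOfFinitePresentation f.hom ∨ AlgSp.IsQuasiCompactMor j.hom) :
    AlgSp.IsFiniteMor f.hom := by
  have hlqf : AlgSp.LocP (@LocallyQuasiFinite ⊓ @LocallyOfFiniteType) snd.hom :=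
    AlgSpLib.locP_of_repWith (AlgSpLib.repWith_mono
      (fun _ _ g (_ : IsFinite g) => ⟨inferInstance, inferInstance⟩) (AlgSpLib.isFiniteMor_iff.1 hV))
  have hlft := AlgSpLib.locP_of_isPullback X.property Y.property V.property hP hf2.2.1.1
  refine AlgSpLib.isFiniteMor_of_proper_lqf X.property Y.property hf2
    ((AlgSpLib.locP_lqf_iff_fibreDim_zero X.property Y.property hf2.2.1.1).2 fun x => ?_)
  obtain ⟨U, W, a, b, m, u, ha, hb, e, hu, hq⟩ := AlgSpLib.relDim_le_of_dense X.property Y.property V.property 0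
    hf1 hf2.2.1.1 hj1 hj2 hP (fun z => by
      obtain ⟨U, W, a, b, m, u, ha, hb, e, hu, hq⟩ :=
        (AlgSpLib.locP_lqf_iff_fibreDim_zero P.property V.property hlft).1 hlqf z
      exact ⟨U, W, a, b, m, u, ha, hb, e, hu, hq.le⟩) h x
  exact ⟨U, W, a, b, m, u, ha, hb, e, hu, le_antisymm hq (AlgSpLib.fibreDimAt_nonneg _ _)⟩
end Groth.Agent.S10654
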