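import Groth.Statements.S1066
import Groth.Agent.DerBCLib.Models
import Groth.Agent.KFlatLib.TorAmpMore

set_option autoImplicit false
set_option backward.isDefEq.respectTransparency false
set_option backward.isDefEq.respectTransparency.types false
universe u
open CategoryTheory CategoryTheory.Limits AlgebraicGeometry Opposite
attribute [local instance] HasDerivedCategory.standard
open Perf

namespace Groth.Agent.S1066

/-- In the case of a single module and in weak form: let f : X ⟶ S be quasi-compact and quasi-separated,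
E ∈ D(O_X) with quasi-coherent cohomology sheaves, G a quasi-coherent O_X-module flat over S, and g
: S' ⟶ S any morphism, with X' = X ×_S S', projections g' : X' ⟶ X and f' : X' ⟶ S'. Assuming the
derived functors exist, Lg^*Rf_*(E ⊗^L G) and Rf'_*(L(g')^*E ⊗^L (g')^*G) are isomorphic in
D(O_{S'}). (The source proves the canonical base change map is an isomorphism; here only the
existence of an isomorphism is asserted.) -/
theorem result {X S S' : Scheme.{u}} (f : X ⟶ S) [QuasiCompact f] [QuasiSeparated f] (g : S' ⟶ S)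
    (E : DCoh.D X) (hE : DCoh.IsQCohD E) (G : X.Modules) (hG : Coh.IsQCoh G) (hflat : FlatMod.IsFlatOver f G)
    [DCoh.HasLTensorMod G] [DCoh.HasRpush f] [DCoh.HasLpull g]
    [DCoh.HasLpull (pullback.fst f g)] [DCoh.HasRpush (pullback.snd f g)]
    [DCoh.HasLTensorMod ((Scheme.Modules.pullback (pullback.fst f g)).obj G)] :
    Nonempty ((DCoh.Lpull g).obj ((DCoh.Rpush f).obj ((DCoh.LTensorMod G).obj E)) ≅
      (DCoh.Rpush (pullback.snd f g)).obj ((DCoh.LTensorMod ((Scheme.Modules.pullback (pullback.fst f g)).obj G)).obj ((DCoh.Lpull (pullback.fst f g)).obj E))) := by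
  classical
  obtain ⟨T, hT, ⟨eT⟩⟩ := KFlatLib.exists_good_rep E
  have hTq : DCoh.IsQCohD (DerivedCategory.Q.obj T) := KFlatLib.isQCohD_iso eT.symm hE
  haveI := hG
  let Z := (KFlatLib.tensorModCx G).obj T
  have hZq : DCoh.IsQCohD (DerivedCategory.Q.obj Z) := DerBCLib.isQCohD_tensorMod hT.1 hTq G
  obtain ⟨M, q, hM, hq, hfl⟩ :=
    DerBCLib.exists_injRes ((ProjFormLib.pullC (pullback.fst f g)).obj Z)
  haveI := hM
  haveI := hq
  obtain ⟨d, -⟩ := DerBCLib.exists_terminal_data (pullback.fst f g) (DerBCLib.wi_of_isKInjective M) hfl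
    ((ProjFormLib.cxAdj (pullback.fst f g)).homEquiv Z M q)
  haveI := DerBCLib.quasiIso_bMap (IsPullback.of_hasPullback f g) hZq
    (DerBCLib.hasLocModel_tensorMod hT.1 hTq hG hflat) hfl d
  haveI := d.qis
  let L' := (ProjFormLib.pushC f).obj d.L
  let A := (KFlatLib.resP S).obj L'
  haveI : QuasiIso ((KFlatLib.resψ S).app L') := KFlatLib.quasiIso_resψ _
  obtain ⟨eR⟩ := DerBCLib.nonempty_rpush_wi (f := f) d.wi
  obtain ⟨eM⟩ := ProjFormLib.nonempty_push_iso (f := pullback.snd f g) M
  let G' := (Scheme.Modules.pullback (pullback.fst f g)).obj G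
  have hT' : DCoh.IsKFlat ((KFlatLib.pullCx (pullback.fst f g)).obj T) :=
    KFlatLib.isKFlat_pull _ hT.1
  exact ⟨(DCoh.Lpull g).mapIso
      ((DCoh.Rpush f).mapIso ((DCoh.LTensorMod G).mapIso eT.symm ≪≫
        KFlatLib.lTensorModObjIso G T hT.1 ≪≫ asIso (DerivedCategory.Q.map d.j)) ≪≫ eR ≪≫
        (asIso (DerivedCategory.Q.map ((KFlatLib.resψ S).app L'))).symm) ≪≫
    KFlatLib.lpullObjIso g A (KFlatLib.good_resP L').1 ≪≫
    asIso (DerivedCategory.Q.map (DerBCLib.bMap (IsPullback.of_hasPullback f g).w d)) ≪≫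
    eM.symm ≪≫
    (DCoh.Rpush (pullback.snd f g)).mapIso
      ((asIso (DerivedCategory.Q.map q)).symm ≪≫
        DerivedCategory.Q.mapIso ((DerBCLib.pullTensCxIso (pullback.fst f g) G).app T) ≪≫
        (KFlatLib.lTensorModObjIso G' _ hT').symm ≪≫
        (DCoh.LTensorMod G').mapIso ((KFlatLib.lpullObjIso (pullback.fst f g) T hT.1).symm ≪≫
          (DCoh.Lpull (pullback.fst f g)).mapIso eT))⟩

end Groth.Agent.S1066
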