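import Groth.Statements.S10664
import Groth.Agent.CurvOpenLib.KoszSpace
-- import your own Groth.Agent.* helpers here

set_option autoImplicit false
universe u
open CategoryTheory CategoryTheory.Limits AlgebraicGeometry
open AlgSp

namespace Groth.Agent.S10664

/-- For a local complete intersection (Koszul) morphism f : X ⟶ Y of algebraic spaces over S, a smooth g
: P ⟶ Y, an etale e : U ⟶ X and a representable immersion i : U ⟶ P with i ≫ g = e ≫ f, the
immersion i is Koszul-regular as an immersion of algebraic spaces. -/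
theorem result {S : Scheme.{u}} {X Y P U : AlgSp.Space S} (f : X ⟶ Y) (g : P ⟶ Y) (e : U ⟶ X) (i : U ⟶ P)
    (hc : i ≫ g = e ≫ f) (hf : AlgSp.IsLCIMor f.hom) (hg : AlgSp.LocP @Smooth g.hom)
    (he : AlgSp.IsEtaleMor e.hom) (hi : AlgSp.RepWith @IsImmersion i.hom) :
    AlgSp.IsRegImmMor RegImm.Kind.koszul i.hom := by
  have hi' : AlgSp.IsLCIMor i.hom := by
    refine KoszSpace.isLCIMor_of_comp_smooth U.property P.property Y.property hg ?_
    have := KoszSpace.isLCIMor_etale_comp he hf
    have h2 : i.hom ≫ g.hom = e.hom ≫ f.hom := congrArg (fun φ : U ⟶ Y => φ.hom) hc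
    rw [h2]; exact this
  refine ⟨hi.rep, fun V W b fst snd hb sq => ?_⟩
  haveI : IsImmersion snd.left := hi.property b fst snd sq
  refine KoszAtLib.koszul_of_immersion_smooth snd.left (𝟙 V.left) ?_
  rw [Category.comp_id]
  exact KoszSpace.lciMor_chart hi' (AlgSpLib.repWith_of_isPullback sq.flip hb) hb sq.w

end Groth.Agent.S10664
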