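import Groth.Statements.S10665
import Groth.Agent.CurvOpenLib.KoszSpace
-- import your own Groth.Agent.* helpers here

set_option autoImplicit false
universe u
open CategoryTheory CategoryTheory.Limits AlgebraicGeometry
open AlgSp

namespace Groth.Agent.S10665

/-- A Koszul-regular immersion between algebraic spaces over S (representable, Koszul-regular immersion
on every etale scheme chart of the target) is a local complete intersection morphism (Koszul at
every point, etale locally on source and target). -/
theorem result {S : Scheme.{u}} {X Y : AlgSp.Space S} (i : X ⟶ Y) (hi : AlgSp.IsRegImmMor RegImm.Kind.koszul i.hom) :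
    AlgSp.IsLCIMor i.hom := by
  intro U V a b h ha hb e
  obtain ⟨W, fst, snd, sq⟩ : ∃ (W : Over S) (fst : (yon S).obj W ⟶ X.obj) (snd : W ⟶ V),
      IsPullback fst ((yon S).map snd) i.hom b := ⟨hi.1.pullback b, hi.1.fst b, hi.1.snd b, hi.1.isPullback b⟩
  have hk : KoszAtLib.LCIMor snd.left := KoszAtLib.lciMor_of_regularImmersion snd.left (hi.2 b fst snd hb sq)
  obtain ⟨γ, hγ⟩ := (yon S).map_surjective (sq.lift a ((yon S).map h) e)
  have hγh : γ ≫ snd = h := (yon S).map_injective (by rw [Functor.map_comp, hγ, sq.lift_snd])
  have hγa : (yon S).map γ ≫ fst = a := by rw [hγ, sq.lift_fst]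
  haveI : Etale γ.left := AlgSpLib.etale_cancel γ fst (by rw [hγa]; exact ha)
    (AlgSpLib.repWith_of_isPullback sq.flip hb)
  rw [← hγh]
  exact (KoszAtLib.forall_isKoszulAt_iff _).2
    (MorphismProperty.comp_mem KoszAtLib.LCIMor γ.left snd.left (KoszAtLib.lciMor_of_smooth γ.left) hk)

end Groth.Agent.S10665
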