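import Groth.Statements.S10667
import Groth.Agent.CurvOpenLib.KoszSpace
import Groth.Agent.AlgSpLib.Fpqc
-- import your own Groth.Agent.* helpers here

set_option autoImplicit false
universe u
open CategoryTheory CategoryTheory.Limits AlgebraicGeometry
open AlgSp

namespace Groth.Agent.S10667

/-- The property of being a local complete intersection morphism of algebraic spaces over S is fpqc
local on the base: for an fpqc covering of an algebraic space Y by algebraic spaces Y_i and pullback
squares X_i = X ×_Y Y_i, a morphism f : X ⟶ Y is a local complete intersection morphism if and only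
if every base change X_i ⟶ Y_i is. -/
theorem result {S : Scheme.{u}} : AlgSp.IsLocalOnBase (AlgSp.IsFpqcCover (S := S)) AlgSp.IsLCIMor := by
  intro ι Y Yi g hY hYi hτ X f hX Xi p q hXi sq
  refine ⟨fun hf i => KoszSpace.isLCIMor_of_isPullback hX hY (hYi i) (hτ.1 i) (sq i) hf, fun h => ?_⟩
  obtain ⟨κ, V, b, hV, hbe, -, hbs⟩ := AlgSpLib.exists_affine_charts hY
  rw [KoszSpace.isLCIMor_iff_forall]
  intro x
  obtain ⟨k, y, hy⟩ := hbs (Points.map f x)
  obtain ⟨z, hz, -⟩ := AlgSpLib.exists_point_isPullback (IsPullback.of_hasPullback f (b k)) x y hy.symm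
  have hPk := AlgSpLib.isAlgSpace_pullback hX (IsAlgSpace.yon_obj (V k)) hY f (b k)
  obtain ⟨U, a, ha, has⟩ := hPk.atlas
  obtain ⟨φ, hφ⟩ := (yon S).map_surjective (a ≫ pullback.snd f (b k))
  obtain ⟨u, rfl⟩ := AlgSpLib.surjective_ofPt has z
  rw [Points.map_ofPt] at hz
  subst hz
  refine (KoszSpace.locPAt_iff_chart (b := b k) (h := φ)
    (AlgSpLib.repWith_comp ha (AlgSpLib.repWith_of_isPullback (IsPullback.of_hasPullback f (b k)).flip (hbe k)))
    (hbe k) (by rw [Category.assoc, pullback.condition, hφ, Category.assoc]) u).2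
    ((CurvOpenLib.forall_koz_iff φ.left).2 ?_ u)
  have : IsAffine (V k).left := hV k
  obtain ⟨W, c, J, Wj, s, hW, hc, hcs, hso, hss, hl⟩ := KoszSpace.exists_flat_refinement hY hYi hτ (V k) (b k) (hbe k)
  refine KoszAtLib.lciMor_descent φ.left c.left (pullback.snd φ.left c.left) (pullback.fst φ.left c.left)
    (IsPullback.of_hasPullback _ _) ?_
  choose jw hjw using hss
  refine IsZariskiLocalAtTarget.of_iSup_eq_top (P := KoszAtLib.LCIMor)
    (fun w : W.left => (s (jw w)).left.opensRange) ?_ fun w => ?_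
  · exact TopologicalSpace.Opens.ext (Set.eq_univ_of_forall fun w => by
      rw [TopologicalSpace.Opens.coe_iSup]; exact Set.mem_iUnion.2 ⟨w, hjw w⟩)
  · refine (KoszAtLib.LCIMor.arrow_mk_iso_iff
      (morphismRestrictOpensRange (pullback.snd φ.left c.left) (s (jw w)).left)).2 ?_
    let j := jw w
    let U' : Over S := pullback φ (s j ≫ c)
    have sqU : IsPullback ((yon S).map (pullback.fst φ (s j ≫ c))) ((yon S).map (pullback.snd φ (s j ≫ c)))
        ((yon S).map φ) ((yon S).map (s j ≫ c)) := (IsPullback.of_hasPullback φ (s j ≫ c)).map (yon S)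
    rw [hφ] at sqU
    have sqQ := IsPullback.of_hasPullback (pullback.snd f (b k)) ((yon S).map (s j ≫ c))
    let a' : (yon S).obj U' ⟶ pullback (pullback.snd f (b k)) ((yon S).map (s j ≫ c)) :=
      sqQ.lift ((yon S).map (pullback.fst φ (s j ≫ c)) ≫ a) ((yon S).map (pullback.snd φ (s j ≫ c)))
        (by rw [Category.assoc]; exact sqU.w)
    have sqa : IsPullback ((yon S).map (pullback.fst φ (s j ≫ c))) a' a
        (pullback.fst (pullback.snd f (b k)) ((yon S).map (s j ≫ c))) :=
      IsPullback.of_bot (by rw [sqQ.lift_snd]; exact sqU) (sqQ.lift_fst _ _ _).symm sqQ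
    have ha' : RepWith @Etale a' := AlgSpLib.repWith_of_isPullback sqa ha
    obtain ⟨i, l, hlf, e⟩ := hl j
    have big := sqQ.paste_horiz (IsPullback.of_hasPullback f (b k))
    rw [← e] at big
    have sqi := IsPullback.of_right (by rw [(sq i).lift_fst]; exact big)
      ((sq i).lift_snd _ _ (big.w.trans (Category.assoc _ _ _).symm)) (sq i)
    have key : KoszAtLib.LCIMor (pullback.snd φ (s j ≫ c)).left :=
      KoszSpace.lciMor_chart
        (KoszSpace.isLCIMor_of_isPullback (hXi i) (hYi i) (IsAlgSpace.yon_obj (Wj j)) hlf sqi (h i))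
        (a := a') ha' (AlgSp.repWith_id _ _) (by rw [Category.comp_id]; exact sqQ.lift_snd _ _ _)
    have sqS : IsPullback (pullback.fst φ (s j ≫ c)).left (pullback.snd φ (s j ≫ c)).left φ.left
        ((s j).left ≫ c.left) :=
      AlgSpLib.isPullback_left ((IsPullback.of_hasPullback φ (s j ≫ c)).map (yon S))
    rw [← sqS.isoPullback_hom_snd, KoszAtLib.LCIMor.cancel_left_of_respectsIso] at key
    change KoszAtLib.LCIMor (pullback.snd (pullback.snd φ.left c.left) (s j).left)
    rwa [← pullbackLeftPullbackSndIso_hom_snd, KoszAtLib.LCIMor.cancel_left_of_respectsIso]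

end Groth.Agent.S10667
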