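import Groth.Statements.S10669
import Groth.Agent.AlgSpLib.Reduced
import Groth.Agent.AlgSpLib.Iso
import Mathlib.AlgebraicGeometry.Morphisms.Flat
import Mathlib.RingTheory.Nakayama

set_option backward.isDefEq.respectTransparency false
set_option backward.isDefEq.respectTransparency.types false
open scoped TensorProduct

set_option autoImplicit false
universe u
open CategoryTheory CategoryTheory.Limits AlgebraicGeometry
open AlgSp

namespace Groth.Agent.S10669

/-- A Noetherian ring with a regular element `π` and reduced quotient by `π` is reduced near the zero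
locus of `π`. -/
theorem exists_away_reduced {A : Type u} [CommRing A] [IsNoetherianRing A] {π : A} (hπ : IsSMulRegular A π)
    (hred : _root_.IsReduced (A ⧸ Ideal.span {π})) :
    ∃ r : A, r - 1 ∈ Ideal.span {π} ∧ _root_.IsReduced (Localization.Away r) := by
  obtain ⟨r, hr1, hr2⟩ := Submodule.exists_sub_one_mem_and_smul_eq_zero_of_fg_of_le_smul (Ideal.span {π})
    (nilradical A) (IsNoetherian.noetherian _) (fun x hx => by
      have h : Ideal.Quotient.mk (Ideal.span {π}) x = 0 :=
        ((mem_nilradical.1 hx).map (Ideal.Quotient.mk (Ideal.span {π}))).eq_zero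
      obtain ⟨y, rfl⟩ := Ideal.mem_span_singleton'.1 (Ideal.Quotient.eq_zero_iff_mem.1 h)
      obtain ⟨n, hn⟩ := mem_nilradical.1 hx
      have hy : y ∈ nilradical A := by
        refine mem_nilradical.2 ⟨n, (hπ.pow n) ?_⟩
        change π ^ n • y ^ n = π ^ n • (0 : A)
        rw [smul_zero, smul_eq_mul, ← mul_pow, mul_comm, hn]
      rw [mul_comm]
      exact Submodule.smul_mem_smul (Ideal.mem_span_singleton_self π) hy)
  refine ⟨r, hr1, ⟨fun x ⟨n, hn⟩ => ?_⟩⟩
  obtain ⟨a, ⟨_, k, rfl⟩, rfl⟩ := IsLocalization.exists_mk'_eq (Submonoid.powers r) x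
  have h : algebraMap A (Localization.Away r) (a ^ n) = 0 := by
    rw [map_pow, ← IsLocalization.mk'_spec (Localization.Away r) a (⟨r ^ k, k, rfl⟩ : Submonoid.powers r),
      mul_pow, hn, zero_mul]
  obtain ⟨⟨_, m, rfl⟩, hm⟩ := (IsLocalization.map_eq_zero_iff (Submonoid.powers r) _ _).1 h
  change r ^ m * a ^ n = 0 at hm
  have hnil : r ^ m * a ∈ nilradical A := by
    refine mem_nilradical.2 ⟨n + 1, ?_⟩
    calc (r ^ m * a) ^ (n + 1) = (r ^ m) ^ n * a * (r ^ m * a ^ n) := by ring
      _ = 0 := by rw [hm, mul_zero]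
  have h2 := hr2 _ hnil
  rw [smul_eq_mul] at h2
  rw [IsLocalization.mk'_eq_zero_iff]
  exact ⟨⟨r ^ (m + 1), m + 1, rfl⟩, by rw [← h2]; ring⟩

/-- For a discrete valuation ring R with residue field κ and fraction field K and an algebraic space X
over Spec R whose structure morphism s (to the terminal sheaf h_{Spec R}) is flat and proper: if the
special fibre X ×_{Spec R} Spec κ is reduced (some etale surjective scheme chart is reduced), then X
is reduced and so is the generic fibre X ×_{Spec R} Spec K. -/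
theorem result (R : Type u) [CommRing R] [IsDomain R] [IsDiscreteValuationRing R]
    {X : AlgSp.Space (Spec (CommRingCat.of R))}
    (s : X.obj ⟶ (AlgSp.yon (Spec (CommRingCat.of R))).obj (Over.mk (𝟙 _)))
    (hs1 : AlgSp.IsProperMor s) (hs2 : AlgSp.LocP @Flat s)
    (h0 : ∀ (X0 : AlgSp.Sp (Spec (CommRingCat.of R))) (fst : X0 ⟶ X.obj)
      (snd : X0 ⟶ (AlgSp.yon (Spec (CommRingCat.of R))).obj
        (Over.mk (Spec.map (CommRingCat.ofHom (IsLocalRing.residue R))))),
      IsPullback fst snd s ((AlgSp.yon (Spec (CommRingCat.of R))).map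
        (Over.homMk (Spec.map (CommRingCat.ofHom (IsLocalRing.residue R))) (Category.comp_id _) :
          Over.mk (Spec.map (CommRingCat.ofHom (IsLocalRing.residue R))) ⟶ Over.mk (𝟙 _))) →
      AlgSp.EtaleLocally (fun U => IsReduced U) X0) :
    AlgSp.EtaleLocally (fun U => IsReduced U) X.obj ∧
      ∀ (Xη : AlgSp.Sp (Spec (CommRingCat.of R))) (fst : Xη ⟶ X.obj)
        (snd : Xη ⟶ (AlgSp.yon (Spec (CommRingCat.of R))).obj
          (Over.mk (Spec.map (CommRingCat.ofHom (algebraMap R (FractionRing R)))))),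
        IsPullback fst snd s ((AlgSp.yon (Spec (CommRingCat.of R))).map
          (Over.homMk (Spec.map (CommRingCat.ofHom (algebraMap R (FractionRing R)))) (Category.comp_id _) :
            Over.mk (Spec.map (CommRingCat.ofHom (algebraMap R (FractionRing R)))) ⟶ Over.mk (𝟙 _))) →
        AlgSp.EtaleLocally (fun U => IsReduced U) Xη := by
  let B : Over (Spec (CommRingCat.of R)) := Over.mk (𝟙 _)
  let κm := Spec.map (CommRingCat.ofHom (IsLocalRing.residue R))
  let ιo : Over.mk κm ⟶ B := Over.homMk κm (Category.comp_id _)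
  obtain ⟨ϖ, hϖ⟩ := IsDiscreteValuationRing.exists_irreducible R
  obtain ⟨U, p, hp, hps⟩ := X.property.atlas
  obtain ⟨φ, hφ⟩ := (yon _).map_surjective (p ≫ s)
  have hφ' : p ≫ s = (yon _).map φ ≫ 𝟙 _ := by rw [Category.comp_id, hφ]
  haveI : LocallyOfFiniteType φ.left := hs1.2.1.1 p (𝟙 _) φ hp (repWith_id _ _) hφ'
  haveI : Flat φ.left := hs2 p (𝟙 _) φ hp (repWith_id _ _) hφ'
  haveI : IsLocallyNoetherian B.left := inferInstanceAs (IsLocallyNoetherian (Spec (CommRingCat.of R)))
  haveI : IsLocallyNoetherian U.left := LocallyOfFiniteType.isLocallyNoetherian φ.left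
  -- the special fibre of the chart is reduced
  have sqX := IsPullback.of_hasPullback s ((yon _).map ιo)
  have sqU := IsPullback.of_hasPullback φ ιo
  have hred₀ : IsReduced (pullback φ ιo).left := by
    have big := (sqU.map (yon _))
    rw [hφ] at big
    let a := sqX.lift ((yon _).map (pullback.fst φ ιo) ≫ p) ((yon _).map (pullback.snd φ ιo))
      (by rw [Category.assoc]; exact big.w)
    have sqa : IsPullback ((yon _).map (pullback.fst φ ιo)) a p (pullback.fst s ((yon _).map ιo)) :=
      IsPullback.of_bot (by rw [sqX.lift_snd]; exact big) (sqX.lift_fst _ _ _).symm sqX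
    exact AlgSpLib.isReduced_of_chart (h0 _ _ _ sqX) (AlgSpLib.repWith_of_isPullback sqa hp)
  -- reduced affine neighbourhoods of the special points
  have key : ∀ u : U.left, φ.left u = IsLocalRing.closedPoint R →
      ∃ (A : CommRingCat.{u}) (j : Spec A ⟶ U.left), IsReduced (Spec A) ∧ IsOpenImmersion j ∧ u ∈ Set.range j := by
    intro u hu
    obtain ⟨W, hW, huW, -⟩ := exists_isAffineOpen_mem_and_subset (X := U.left) (x := u) (U := ⊤) trivial
    let A := Γ(U.left, W)
    let g := Spec.preimage (hW.fromSpec ≫ φ.left)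
    have hg : Spec.map g = hW.fromSpec ≫ φ.left := Spec.map_preimage _
    letI : Algebra R A := g.hom.toAlgebra
    haveI : IsNoetherianRing A := IsLocallyNoetherian.component_noetherian ⟨W, hW⟩
    haveI : Module.Flat R A := by
      have h : Flat (Spec.map g) := by rw [hg]; infer_instance
      exact (HasRingHomProperty.Spec_iff (P := @Flat)).1 h
    have hπ : IsSMulRegular A (algebraMap R A ϖ) := by
      have h := IsSMulRegular.of_flat (S := A) (IsSMulRegular.of_ne_zero (R := R) (M := R) hϖ.ne_zero)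
      exact h
    have hred : _root_.IsReduced (A ⧸ Ideal.span {algebraMap R A ϖ}) := by
      have hsp : Ideal.span {algebraMap R A ϖ} = (IsLocalRing.maximalIdeal R).map (algebraMap R A) := by
        rw [hϖ.maximalIdeal_eq, Ideal.map_span, Set.image_singleton]
      have sqU' := sqU.map (Over.forget _)
      have sq' := (IsPullback.of_hasPullback hW.fromSpec (pullback.fst φ ιo).left).paste_vert sqU'.flip.flip
      let e : Spec (CommRingCat.of (A ⊗[R] IsLocalRing.ResidueField R)) ≅
          pullback (Spec.map g) κm := (pullbackSpecIso R A (IsLocalRing.ResidueField R)).symm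
      haveI : IsReduced (pullback hW.fromSpec (pullback.fst φ ιo).left) :=
        isReduced_of_isOpenImmersion (pullback.snd hW.fromSpec (pullback.fst φ ιo).left)
      have sq'' : IsPullback (pullback.fst hW.fromSpec (pullback.fst φ ιo).left)
          (pullback.snd hW.fromSpec (pullback.fst φ ιo).left ≫ (pullback.snd φ ιo).left) (Spec.map g) κm := by
        rw [hg]; exact sq'
      haveI : IsReduced (Spec (CommRingCat.of (A ⊗[R] IsLocalRing.ResidueField R))) :=
        isReduced_of_isOpenImmersion (e.hom ≫ sq''.isoPullback.inv)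
      haveI : _root_.IsReduced (A ⊗[R] IsLocalRing.ResidueField R) := (affine_isReduced_iff (CommRingCat.of (A ⊗[R] IsLocalRing.ResidueField R))).1 inferInstance
      rw [hsp]
      haveI : _root_.IsReduced (A ⊗[R] (R ⧸ IsLocalRing.maximalIdeal R)) :=
        ‹_root_.IsReduced (A ⊗[R] IsLocalRing.ResidueField R)›
      exact isReduced_of_injective
        (Algebra.TensorProduct.quotIdealMapEquivTensorQuot A (IsLocalRing.maximalIdeal R)).toRingEquiv.toRingHom
        (Algebra.TensorProduct.quotIdealMapEquivTensorQuot A (IsLocalRing.maximalIdeal R)).injective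
    obtain ⟨r, hr, hred'⟩ := exists_away_reduced hπ hred
    refine ⟨CommRingCat.of (Localization.Away r),
      Spec.map (CommRingCat.ofHom (algebraMap A (Localization.Away r))) ≫ hW.fromSpec,
      (affine_isReduced_iff _).2 hred', inferInstance, ?_⟩
    obtain ⟨z, hz⟩ : u ∈ Set.range hW.fromSpec := by rw [hW.range_fromSpec]; exact huW
    have hzπ : algebraMap R A ϖ ∈ z.asIdeal := by
      have : Spec.map g z = IsLocalRing.closedPoint R := by
        rw [hg, Scheme.Hom.comp_apply, hz]
        exact hu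
      have h2 : ϖ ∈ (Spec.map g z).asIdeal := by
        rw [this]
        change ϖ ∈ IsLocalRing.maximalIdeal R
        rw [hϖ.maximalIdeal_eq]
        exact Ideal.mem_span_singleton_self ϖ
      exact h2
    have hzr : z ∈ PrimeSpectrum.basicOpen r := fun hr' => z.2.ne_top ((Ideal.eq_top_iff_one _).2 (by
      have := z.asIdeal.sub_mem hr' (show r - 1 ∈ z.asIdeal from
        (Ideal.span_le (I := z.asIdeal)).2 (Set.singleton_subset_iff.2 hzπ) hr)
      simpa using this))
    rw [← SetLike.mem_coe, ← PrimeSpectrum.localization_away_comap_range (Localization.Away r) r] at hzr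
    obtain ⟨w, hw⟩ := hzr
    refine ⟨w, ?_⟩
    rw [Scheme.Hom.comp_apply, ← hz]
    exact congrArg _ hw
  choose A j hA hj hju using key
  let κ := {u : U.left // φ.left u = IsLocalRing.closedPoint R}
  let C : Scheme.{u} := ∐ fun u : κ => Spec (A u.1 u.2)
  let π₀ : C ⟶ U.left := Sigma.desc fun u : κ => j u.1 u.2
  haveI : IsReduced C := by
    haveI : ∀ i, IsReduced ((sigmaOpenCover fun u : κ => Spec (A u.1 u.2)).X i) := fun i => hA i.1 i.2
    exact IsReduced.of_openCover _ (sigmaOpenCover fun u : κ => Spec (A u.1 u.2))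
  haveI : Etale π₀ := IsZariskiLocalAtSource.sigmaDesc (P := @Etale) fun u => by
    have := hj u.1 u.2
    infer_instance
  let O : Over (Spec (CommRingCat.of R)) := Over.mk (π₀ ≫ U.hom)
  let πo : O ⟶ U := Over.homMk π₀ rfl
  have hO : RepWith @Etale ((yon _).map πo ≫ p) :=
    AlgSpLib.repWith_comp ((repWith_yon_map_iff (P := (@Etale : MorphismProperty Scheme.{u})) πo).2 ‹Etale π₀›) hp
  have hOs : Function.Surjective (Points.ofPt ((yon _).map πo ≫ p)) := by
    by_contra hne
    let C' : Set (Points X.obj) := (Set.range (Points.ofPt ((yon _).map πo ≫ p)))ᶜ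
    have hC' : IsClosed C' := (AlgSpLib.isOpenMap_ofPt hO).isOpen_range.isClosed_compl
    obtain ⟨x, hx⟩ : C'.Nonempty := by
      rw [Function.Surjective] at hne
      push_neg at hne
      obtain ⟨x, hx⟩ := hne
      exact ⟨x, fun ⟨o, ho⟩ => hx o ho⟩
    have hcl : IsClosedMap (Points.map s) :=
      hs1.2.2 (IsAlgSpace.yon_obj _) (𝟙 _) (𝟙 _) s (IsPullback.of_horiz_isIso ⟨by simp⟩)
    have hD : IsClosed (Points.schemeHomeo B ⁻¹' (Points.map s '' C')) :=
      (hcl _ hC').preimage (Points.schemeHomeo B).continuous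
    obtain ⟨b, hb⟩ := (Points.schemeHomeo B).surjective (Points.map s x)
    have hmem : IsLocalRing.closedPoint R ∈ Points.schemeHomeo B ⁻¹' (Points.map s '' C') :=
      (IsLocalRing.specializes_closedPoint b).mem_closed hD ⟨x, hx, hb.symm⟩
    obtain ⟨x', hx', hsx⟩ := hmem
    obtain ⟨u, rfl⟩ := AlgSpLib.surjective_ofPt hps x'
    have hu : φ.left u = IsLocalRing.closedPoint R := by
      rw [Points.map_ofPt, ← hφ] at hsx
      refine (Points.schemeHomeo B).injective (Eq.trans ?_ hsx)
      change Points.ofPt (𝟙 _) _ = _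
      rw [← AlgSpLib.ofPt_yon_comp, Category.comp_id]
    obtain ⟨w, hw⟩ := hju u hu
    refine hx' ⟨Sigma.ι (fun u : κ => Spec (A u.1 u.2)) ⟨u, hu⟩ w, ?_⟩
    rw [AlgSpLib.ofPt_yon_comp]
    congr 1
    change π₀ _ = u
    rw [← Scheme.Hom.comp_apply, Sigma.ι_desc]
    exact hw
  have hOS : RepWith @Surjective ((yon _).map πo ≫ p) := (AlgSpLib.repWith_surjective_iff hO.rep).2 fun x => by
    obtain ⟨o, rfl⟩ := hOs x
    exact ⟨Points.schemeHomeo O o, (Points.ofPt_eq_map_ofScheme _ o).symm⟩
  refine ⟨⟨O, _, hO, hOS, ‹IsReduced C›⟩, fun Xη fst snd sq => ?_⟩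
  let Km := Spec.map (CommRingCat.ofHom (algebraMap R (FractionRing R)))
  let jK : Over.mk Km ⟶ B := Over.homMk Km (Category.comp_id _)
  haveI : IsLocalization.Away ϖ (FractionRing R) := by
    refine (isLocalization_iff (Submonoid.powers ϖ) (FractionRing R)).2 ⟨?_, fun z => ?_, fun {x y} h =>
      ⟨1, by rw [IsFractionRing.injective R (FractionRing R) h]⟩⟩
    · rintro ⟨_, n, rfl⟩
      rw [map_pow]
      exact (IsUnit.mk0 _ ((map_ne_zero_iff _ (IsFractionRing.injective R (FractionRing R))).2 hϖ.ne_zero)).pow n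
    · obtain ⟨a, b, hb, rfl⟩ := IsFractionRing.div_surjective (A := R) z
      have hb0 := nonZeroDivisors.ne_zero hb
      obtain ⟨n, v, rfl⟩ := IsDiscreteValuationRing.eq_unit_mul_pow_irreducible hb0 hϖ
      refine ⟨⟨a * ↑v⁻¹, ⟨_, n, rfl⟩⟩, ?_⟩
      have hne : algebraMap R (FractionRing R) (↑v * ϖ ^ n) ≠ 0 :=
        (map_ne_zero_iff _ (IsFractionRing.injective R (FractionRing R))).2 hb0
      rw [div_mul_eq_mul_div, div_eq_iff hne, ← map_mul, ← map_mul]
      congr 1
      calc a * ϖ ^ n = a * (↑v⁻¹ * ↑v) * ϖ ^ n := by rw [Units.inv_mul, mul_one]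
        _ = a * ↑v⁻¹ * (↑v * ϖ ^ n) := by ring
  haveI : IsOpenImmersion Km := IsOpenImmersion.of_isLocalization (S := FractionRing R) ϖ
  let ψ : O ⟶ B := πo ≫ φ
  have big := ((IsPullback.of_hasPullback ψ jK).map (yon _))
  have hψ : (yon _).map ψ = ((yon _).map πo ≫ p) ≫ s := by
    rw [Functor.map_comp, hφ, Category.assoc]
  rw [hψ] at big
  let a := sq.lift ((yon _).map (pullback.fst ψ jK) ≫ (yon _).map πo ≫ p) ((yon _).map (pullback.snd ψ jK))
    (by rw [Category.assoc]; exact big.w)
  have sqa : IsPullback ((yon _).map (pullback.fst ψ jK)) a ((yon _).map πo ≫ p) fst :=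
    IsPullback.of_bot (by rw [sq.lift_snd]; exact big) (sq.lift_fst _ _ _).symm sq
  haveI : IsOpenImmersion (pullback.fst ψ jK).left :=
    MorphismProperty.of_isPullback (P := @IsOpenImmersion)
      ((IsPullback.of_hasPullback ψ jK).map (Over.forget _)).flip (inferInstance : IsOpenImmersion Km)
  haveI : IsReduced O.left := ‹IsReduced C›
  exact ⟨pullback ψ jK, a, AlgSpLib.repWith_of_isPullback sqa hO, AlgSpLib.repWith_of_isPullback sqa hOS,
    isReduced_of_isOpenImmersion (pullback.fst ψ jK).left⟩

end Groth.Agent.S10669
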