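import Groth.Statements.S10670
import Groth.Agent.AlgSpGeomFibre.Basic

set_option autoImplicit false
set_option backward.isDefEq.respectTransparency false
set_option backward.isDefEq.respectTransparency.types false
universe u
open CategoryTheory CategoryTheory.Limits AlgebraicGeometry
open AlgSp

namespace Groth.Agent.S10670

/-- For morphisms f : X ⟶ Y and g : Y' ⟶ Y between algebraic spaces over S, f' : X' ⟶ Y' the base change
of f along g, an algebraically closed field point k' of Y' and an algebraically closed field point k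
of Y whose class in |Y| is the image of the class of k', the fibres X'_{k'} and X_k (pullbacks in
fppf sheaves) have the same number of connected components of their spaces of points, counted in ℕ∞.
With g the identity this says the number of geometric connected components of the fibre over a point
of |Y| is well defined. -/
theorem result {S : Scheme.{u}} {X Y X' Y' : AlgSp.Space S} (f : X ⟶ Y) (g : Y' ⟶ Y) (gX : X' ⟶ X) (f' : X' ⟶ Y')
    (hsq : IsPullback gX.hom f'.hom f.hom g.hom)
    (k' : AlgSp.FieldPt Y'.obj) (hk' : k'.IsGeometric) (k : AlgSp.FieldPt Y.obj) (hk : k.IsGeometric)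
    (hkk : AlgSp.Points.mk k = AlgSp.Points.map g.hom (AlgSp.Points.mk k'))
    (Xk' : AlgSp.Sp S) (a' : Xk' ⟶ X'.obj) (b' : Xk' ⟶ (AlgSp.yon S).obj k'.pt) (h' : IsPullback a' b' f'.hom k'.toHom)
    (Xk : AlgSp.Sp S) (a : Xk ⟶ X.obj) (b : Xk ⟶ (AlgSp.yon S).obj k.pt) (h : IsPullback a b f.hom k.toHom) :
    ENat.card (_root_.ConnectedComponents (AlgSp.Points Xk')) = ENat.card (_root_.ConnectedComponents (AlgSp.Points Xk)) := by
  haveI := hk
  haveI := hk'
  have hXk : AlgSp.IsAlgSpace Xk :=
    AlgSpLib.isAlgSpace_of_isPullback X.property (IsAlgSpace.yon_obj _) Y.property h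
  have hXk' : AlgSp.IsAlgSpace Xk' :=
    AlgSpLib.isAlgSpace_of_isPullback X'.property (IsAlgSpace.yon_obj _) Y'.property h'
  rw [Points.map_mk, Points.mk_eq_mk_iff] at hkk
  obtain ⟨Ω, hΩ, w, α, β, hαβ⟩ := hkk
  letI := hΩ
  haveI : IsSepClosed k.K := haveI : IsAlgClosed k.K := hk; inferInstance
  haveI : IsSepClosed k'.K := haveI : IsAlgClosed k'.K := hk'; inferInstance
  have e : (AlgSp.yon S).map α ≫ k.toHom = (AlgSp.yon S).map β ≫ (k'.map g.hom).toHom := by
    apply (AlgSp.J S).uliftYonedaEquiv.injective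
    rw [← GrothendieckTopology.uliftYonedaEquiv_naturality, ← GrothendieckTopology.uliftYonedaEquiv_naturality,
      FieldPt.uliftYonedaEquiv_toHom, FieldPt.uliftYonedaEquiv_toHom]
    exact hαβ
  rw [FieldPt.toHom_map] at e
  have sqP := IsPullback.of_hasPullback f.hom ((AlgSp.yon S).map α ≫ k.toHom)
  have sq₁ := IsPullback.of_right' sqP h
  have sqP' : IsPullback (pullback.fst f.hom ((AlgSp.yon S).map α ≫ k.toHom))
      (pullback.snd f.hom ((AlgSp.yon S).map α ≫ k.toHom)) f.hom
      ((AlgSp.yon S).map β ≫ k'.toHom ≫ g.hom) := by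
    rw [← e]; exact sqP
  have sq₂ := IsPullback.of_right' sqP' (h'.paste_horiz hsq)
  obtain ⟨_, _, _⟩ := AlgSpGeomFibre.field_hom_props (K := k.K) α
  obtain ⟨_, _, _⟩ := AlgSpGeomFibre.field_hom_props (K := k'.K) β
  exact (ENat.card_congr (Equiv.ofBijective _ (AlgSpGeomFibre.bijective_connectedComponentsMap β sq₂ hXk'))).symm.trans
    (ENat.card_congr (Equiv.ofBijective _ (AlgSpGeomFibre.bijective_connectedComponentsMap α sq₁ hXk)))

end Groth.Agent.S10670
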