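import Groth.Statements.S10676
import Groth.Agent.AlgSpEtSplit.Lifts

set_option autoImplicit false
set_option backward.isDefEq.respectTransparency false
set_option backward.isDefEq.respectTransparency.types false
universe u
open CategoryTheory CategoryTheory.Limits AlgebraicGeometry
open AlgSp

namespace Groth.Agent.S10676

/-- For a separated morphism f : X ⟶ Y of algebraic spaces over S which is locally of finite type, a
point y of |Y| and a finite set xs of points of |X| mapping to y at each of which f is quasi-finite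
(some etale chart diagram through the point has top arrow locally quasi-finite and locally of finite
type on an open neighbourhood), assuming moreover that f is quasi-compact or Y is decent: there are
an etale morphism of algebraic spaces a : U ⟶ Y and a point u of |U| over y such that for the base
change P = U ×_Y X there is an open and closed subspace V ⊂ P, finite over U, such that every point
of |V| over u maps into xs and no point of |P| outside |V| lying over u maps into xs. -/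
theorem result {S : Scheme.{u}} {X Y : AlgSp.Space S} (f : X ⟶ Y) (y : AlgSp.Points Y.obj)
    (xs : Finset (AlgSp.Points X.obj)) (hxs : ∀ x ∈ xs, AlgSp.Points.map f.hom x = y)
    (hf1 : AlgSp.LocP @LocallyOfFiniteType f.hom) (hf2 : AlgSp.IsSeparatedMor f.hom)
    (hf3 : ∀ x ∈ xs, AlgSp.HasAtMor (fun U _ h u => ∃ W : U.Opens, u ∈ W ∧ LocallyQuasiFinite (W.ι ≫ h) ∧ LocallyOfFiniteType (W.ι ≫ h)) f.hom x)
    (hf4 : AlgSp.IsQuasiCompactMor f.hom ∨ AlgSp.IsDecent Y.obj) :
    ∃ (U : AlgSp.Space S) (a : U ⟶ Y) (u : AlgSp.Points U.obj), AlgSp.IsEtaleMor a.hom ∧ AlgSp.Points.map a.hom u = y ∧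
      ∀ (P : AlgSp.Space S) (prX : P ⟶ X) (prU : P ⟶ U), IsPullback prX.hom prU.hom f.hom a.hom →
        ∃ (V : AlgSp.Space S) (jV : V ⟶ P), AlgSp.RepWith @IsOpenImmersion jV.hom ∧ AlgSp.RepWith @IsClosedImmersion jV.hom ∧
          AlgSp.IsFiniteMor (jV ≫ prU).hom ∧
          (∀ v : AlgSp.Points V.obj, AlgSp.Points.map (jV ≫ prU).hom v = u → AlgSp.Points.map (jV ≫ prX).hom v ∈ xs) ∧
          ∀ w : AlgSp.Points P.obj, w ∉ Set.range (AlgSp.Points.map jV.hom) → AlgSp.Points.map prU.hom w = u →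
            AlgSp.Points.map prX.hom w ∉ xs := by
  obtain ⟨V₀, b₀, hb₀, hbs₀⟩ := Y.property.atlas
  obtain ⟨v₀, rfl⟩ := AlgSpLib.surjective_ofPt hbs₀ y
  obtain ⟨V, j, v, hV, rfl, -, hb⟩ := AlgSpLib.exists_affine_subchart hb₀ v₀
  haveI := hV
  let b := (AlgSp.yon S).map j ≫ b₀
  have hy : Points.ofPt b v = Points.ofPt b₀ (j.left v) := AlgSpLib.ofPt_yon_comp j b₀ v
  obtain ⟨X', c, hc, hcs, hfin⟩ : ∃ (X' : Over S) (c : (AlgSp.yon S).obj X' ⟶ pullback f.hom b),
      RepWith @Etale c ∧ RepWith @Surjective c ∧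
        {ξ : Points (pullback f.hom b) | Points.map (pullback.snd f.hom b) ξ = Points.ofPt (𝟙 _) v ∧
          Points.map (pullback.fst f.hom b) ξ ∈ xs}.Finite := by
    rcases hf4 with hqc | hd
    · obtain ⟨X', c, hX', hc, hcs⟩ := AlgSpLib.exists_affine_chart
        (hqc (IsAlgSpace.yon_obj V) (AlgSpLib.isQuasiCompactSp_yon V) b _ _ (IsPullback.of_hasPullback f.hom b))
      haveI := hX'
      exact ⟨X', c, hc, hcs, (AlgSpEtSplit.finite_points_over_of_qc f b hf1 c hc hcs v).subset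
        fun ξ hξ => ⟨hξ.1, hf3 _ hξ.2⟩⟩
    · obtain ⟨X', c, hc, hcs⟩ :=
        (AlgSpLib.isAlgSpace_pullback X.property (IsAlgSpace.yon_obj V) Y.property f.hom b).atlas
      exact ⟨X', c, hc, hcs, (xs.finite_toSet.biUnion fun x _ =>
        AlgSpEtSplit.finite_points_over_of_decent f b hb hd x).subset
          fun ξ hξ => Set.mem_biUnion hξ.2 rfl⟩
  obtain ⟨h, hh⟩ := (AlgSp.yon S).map_surjective (c ≫ pullback.snd f.hom b)
  obtain ⟨n, ξ, hinj, hrange⟩ := hfin.fin_param
  have hmem : ∀ i, ξ i ∈ Set.range ξ := fun i => ⟨i, rfl⟩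
  simp only [hrange, Set.mem_setOf_eq] at hmem
  choose x hx hxv hxq using fun i =>
    AlgSpEtSplit.exists_qf_lift f b hf1 c hc hcs h hh.symm v (ξ i) (hmem i).1 (hf3 _ (hmem i).2)
  obtain ⟨U, a, u, h1, h2, h3⟩ := AlgSpEtSplit.exists_split f hf1 hf2 b hb v c hc hcs h hh.symm x
    (fun i j e => hinj (by rw [← hx i, ← hx j, e])) hxv hxq
  refine ⟨U, a, u, h1, h2.trans hy, fun P prX prU sq => ?_⟩
  obtain ⟨Vs, jV, ho, hcl, hf, hin, -, hout⟩ := h3 P prX prU sq
  refine ⟨Vs, jV, ho, hcl, hf, fun p hp => ?_, fun w hw hwu => hout {x | x ∈ xs} (fun η h1 h2 => ?_) w hw hwu⟩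
  · obtain ⟨i, hi⟩ := hin p hp
    rw [hi, hx]
    exact (hmem i).2
  · obtain ⟨i, hi⟩ : η ∈ Set.range ξ := by rw [hrange]; exact ⟨h1, h2⟩
    exact ⟨i, (hx i).trans hi⟩

end Groth.Agent.S10676
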