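import Groth.Statements.S10677
import Groth.Agent.AlgSpEtSplit.Lifts

set_option autoImplicit false
set_option backward.isDefEq.respectTransparency false
set_option backward.isDefEq.respectTransparency.types false
universe u
open CategoryTheory CategoryTheory.Limits AlgebraicGeometry
open AlgSp

namespace Groth.Agent.S10677

/-- For a separated morphism f : X ⟶ Y of algebraic spaces over S which is locally of finite type and a
point x of |X| with image y at which f is quasi-finite (some etale chart diagram through x has top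
arrow locally quasi-finite and locally of finite type on an open neighbourhood), there are an etale
morphism a : U ⟶ Y and a point u of |U| over y such that for the base change P = U ×_Y X there is an
open and closed subspace V ⊂ P, finite over U, containing a point mapping to x in |X| and to u in
|U|. -/
theorem result {S : Scheme.{u}} {X Y : AlgSp.Space S} (f : X ⟶ Y) (x : AlgSp.Points X.obj)
    (hf1 : AlgSp.LocP @LocallyOfFiniteType f.hom) (hf2 : AlgSp.IsSeparatedMor f.hom)
    (hf3 : AlgSp.HasAtMor (fun U _ h u => ∃ W : U.Opens, u ∈ W ∧ LocallyQuasiFinite (W.ι ≫ h) ∧ LocallyOfFiniteType (W.ι ≫ h)) f.hom x) :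
    ∃ (U : AlgSp.Space S) (a : U ⟶ Y) (u : AlgSp.Points U.obj), AlgSp.IsEtaleMor a.hom ∧
      AlgSp.Points.map a.hom u = AlgSp.Points.map f.hom x ∧
      ∀ (P : AlgSp.Space S) (prX : P ⟶ X) (prU : P ⟶ U), IsPullback prX.hom prU.hom f.hom a.hom →
        ∃ (V : AlgSp.Space S) (jV : V ⟶ P), AlgSp.RepWith @IsOpenImmersion jV.hom ∧ AlgSp.RepWith @IsClosedImmersion jV.hom ∧
          AlgSp.IsFiniteMor (jV ≫ prU).hom ∧
          ∃ v : AlgSp.Points V.obj, AlgSp.Points.map (jV ≫ prX).hom v = x ∧ AlgSp.Points.map (jV ≫ prU).hom v = u := by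
  obtain ⟨U, V, a, b, h, u, ha, hb, e, hu, hq⟩ := hf3
  have hfx : Points.map f.hom x = Points.ofPt b (h.left u) := hu ▸ AlgSpLib.map_ofPt_chart e u
  obtain ⟨X', c, hc, hcs⟩ := (AlgSpLib.isAlgSpace_pullback X.property (IsAlgSpace.yon_obj V) Y.property f.hom b).atlas
  obtain ⟨h', hh'⟩ := (AlgSp.yon S).map_surjective (c ≫ pullback.snd f.hom b)
  obtain ⟨ξ, hξ₁, hξ₂⟩ := AlgSpLib.exists_point_isPullback (IsPullback.of_hasPullback f.hom b) x
    (Points.ofPt (𝟙 _) (h.left u)) (by rw [hfx, Points.map_ofPt, Category.id_comp])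
  obtain ⟨x', hx', hv, hqf⟩ := AlgSpEtSplit.exists_qf_lift f b hf1 c hc hcs h' hh'.symm (h.left u) ξ hξ₂
    (by rw [hξ₁, ← hu]; exact ⟨U, V, a, b, h, u, ha, hb, e, rfl, hq⟩)
  obtain ⟨U₁, a₁, u₁, h1, h2, h3⟩ := AlgSpEtSplit.exists_split f hf1 hf2 b hb (h.left u) c hc hcs h' hh'.symm
    (ι := Unit) (fun _ => x') (fun _ _ _ => rfl) (fun _ => hv) (fun _ => hqf)
  refine ⟨U₁, a₁, u₁, h1, h2.trans hfx.symm, fun P prX prU sq => ?_⟩
  obtain ⟨Vs, jV, ho, hcl, hfin, -, hex, -⟩ := h3 P prX prU sq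
  obtain ⟨p, hp, hpu⟩ := hex ()
  exact ⟨Vs, jV, ho, hcl, hfin, p, by rw [hp, hx', hξ₁], hpu⟩

end Groth.Agent.S10677
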