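import Groth.Statements.S10678
import Groth.Agent.AlgSpLib.HasAtMore

set_option autoImplicit false
universe u
open CategoryTheory CategoryTheory.Limits AlgebraicGeometry
open AlgSp

namespace Groth.Agent.S10678

/-- For a morphism f : X ⟶ Y of finite type between algebraic spaces over S, a point y of |Y| and any
field point k of Y in the class of y, with fibre X_k (pullback in fppf sheaves): the dimension of
X_k (supremum of the dimensions of its etale scheme charts) is -∞ exactly when y lies outside the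
image of |X|, and for every natural number d it is at most d exactly when f has relative dimension
at most d at every point of |X| over y (some etale chart diagram through the point whose top arrow
has local fibre dimension at most d there). -/
theorem result {S : Scheme.{u}} {X Y : AlgSp.Space S} (f : X ⟶ Y) (hf : AlgSp.IsFiniteTypeMor f.hom)
    (y : AlgSp.Points Y.obj) (k : AlgSp.FieldPt Y.obj) (hk : AlgSp.Points.mk k = y)
    (Xk : AlgSp.Sp S) (fst : Xk ⟶ X.obj) (snd : Xk ⟶ (AlgSp.yon S).obj k.pt) (h : IsPullback fst snd f.hom k.toHom) :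
    (AlgSp.dim Xk = ⊥ ↔ y ∉ Set.range (AlgSp.Points.map f.hom)) ∧
      ∀ d : ℕ, (AlgSp.dim Xk ≤ d ↔
        ∀ x : AlgSp.Points X.obj, AlgSp.Points.map f.hom x = y →
          AlgSp.HasAtMor (fun _ _ h u => FlatMor.fibreDimAt h u ≤ (d : WithBot ℕ∞)) f.hom x) := by
  have hK : IsAlgSpace ((AlgSp.yon S).obj k.pt) := IsAlgSpace.yon_obj _
  have hXk := AlgSpLib.isAlgSpace_of_isPullback X.property hK Y.property h
  obtain ⟨U, a, m, ha, has, e⟩ := AlgSpLib.exists_chart_over hXk hK snd (𝟙 _)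
    (AlgSp.repWith_id _ _) (AlgSp.repWith_id _ _)
  have hky : ∀ p : AlgSp.Points ((AlgSp.yon S).obj k.pt), AlgSp.Points.map k.toHom p = y := by
    intro p
    obtain ⟨t, rfl⟩ := (AlgSp.Points.schemeHomeo k.pt).surjective p
    rw [← hk, AlgSpLib.mk_eq_ofPt_toMor, AlgSp.Points.ofPt_eq_map_ofScheme]
    exact congrArg _ (congrArg (AlgSp.Points.schemeHomeo k.pt) (Subsingleton.elim (α := PrimeSpectrum k.K) _ _))
  have hmap : ∀ w : AlgSp.Points Xk, AlgSp.Points.map f.hom (AlgSp.Points.map fst w) = y := fun w => by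
    obtain ⟨u, rfl⟩ := AlgSpLib.surjective_ofPt has w
    rw [AlgSp.Points.map_ofPt, AlgSp.Points.map_ofPt, Category.assoc, h.w, ← Category.assoc,
      ← AlgSp.Points.map_ofPt]
    exact hky _
  have hlift : ∀ x : AlgSp.Points X.obj, AlgSp.Points.map f.hom x = y →
      ∃ u : U.left, AlgSp.Points.map fst (AlgSp.Points.ofPt a u) = x := fun x hx => by
    obtain ⟨p⟩ : Nonempty (AlgSp.Points ((AlgSp.yon S).obj k.pt)) :=
      ⟨AlgSp.Points.schemeHomeo k.pt (IsLocalRing.closedPoint k.K)⟩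
    obtain ⟨w, hw, -⟩ := AlgSpLib.exists_point_isPullback h x p (by rw [hx, hky])
    obtain ⟨u, rfl⟩ := AlgSpLib.surjective_ofPt has w
    exact ⟨u, hw⟩
  refine ⟨⟨fun hbot => ?_, fun hy => ?_⟩, fun d => ⟨fun hd x hx => ?_, fun H => ?_⟩⟩
  · rintro ⟨x, hx⟩
    obtain ⟨u, -⟩ := hlift x hx
    have h1 : topologicalKrullDim U.left ≤ AlgSp.dim Xk :=
      le_iSup_of_le U (le_iSup_of_le a (le_iSup_of_le ha le_rfl))
    rw [hbot] at h1
    exact absurd (le_antisymm h1 bot_le) (ne_bot_of_le_ne_bot WithBot.coe_ne_bot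
      ((FibDimLib.localDim_nonneg u).trans (FibDimLib.localDim_le u)))
  · refine le_antisymm (iSup_le fun U₀ => iSup_le fun a₀ => iSup_le fun _ => ?_) bot_le
    have : IsEmpty U₀.left := ⟨fun u₀ => hy ⟨_, hmap (AlgSp.Points.ofPt a₀ u₀)⟩⟩
    rw [FibDimLib.topologicalKrullDim_eq_iSup_localDim, iSup_of_empty]
  · obtain ⟨u, rfl⟩ := hlift x hx
    refine (AlgSpLib.hasAtMor_fibreDim_baseChange X.property Y.property hK h hf.1
      (fun t => t ≤ (d : WithBot ℕ∞)) _).1 ⟨U, _, a, 𝟙 _, m, u, ha, AlgSp.repWith_id _ _, e, rfl, ?_⟩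
    show FlatMor.fibreDimAt m.left u ≤ d
    refine (AlgSpLib.fibreDimAt_eq_localDim (k := k.K) m.left u).le.trans ((FibDimLib.localDim_le u).trans ?_)
    have h1 : topologicalKrullDim U.left ≤ AlgSp.dim Xk :=
      le_iSup_of_le U (le_iSup_of_le a (le_iSup_of_le ha le_rfl))
    exact h1.trans hd
  · refine iSup_le fun U₀ => iSup_le fun a₀ => iSup_le fun ha₀ => ?_
    rw [FibDimLib.topologicalKrullDim_eq_iSup_localDim]
    refine iSup_le fun u₀ => ?_
    obtain ⟨u, hu⟩ := AlgSpLib.surjective_ofPt has (AlgSp.Points.ofPt a₀ u₀)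
    have h1 := (AlgSpLib.hasAtMor_fibreDim_baseChange X.property Y.property hK h hf.1
      (fun t => t ≤ (d : WithBot ℕ∞)) (AlgSp.Points.ofPt a u)).2 (H _ (hmap _))
    rw [AlgSpLib.hasAtMor_iff (Q := fun _ _ h u => FlatMor.fibreDimAt h u ≤ (d : WithBot ℕ∞))
      (AlgSpLib.etInv_fibreDim fun t => t ≤ (d : WithBot ℕ∞)) ha (AlgSp.repWith_id _ _) e] at h1
    have h2 : AlgSp.HasAt (fun U u => FlatMor.localDim ↥U u ≤ d) Xk (AlgSp.Points.ofPt a₀ u₀) :=
      ⟨U, a, u, ha, hu, (AlgSpLib.fibreDimAt_eq_localDim (k := k.K) m.left u).symm.le.trans h1⟩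
    exact (AlgSpLib.hasAt_iff (Q := fun U u => FlatMor.localDim ↥U u ≤ (d : WithBot ℕ∞))
      (AlgSpLib.etInv_localDim fun t => t ≤ (d : WithBot ℕ∞)) ha₀ u₀).1 h2
end Groth.Agent.S10678
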