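import Groth.Statements.S10681
import Groth.Agent.AlgSpGeomFibre.Transfer
import Groth.Agent.AlgSpLib.GeomLift
import Groth.Agent.S9734
import Groth.Agent.S10469

set_option autoImplicit false
set_option backward.isDefEq.respectTransparency false
set_option backward.isDefEq.respectTransparency.types false
universe u
open CategoryTheory CategoryTheory.Limits AlgebraicGeometry
open AlgSp

namespace Groth.Agent.S10681

theorem exists_factor_residueField {X : Scheme.{u}} {K : Type u} [Field K] (m : Spec (CommRingCat.of K) ⟶ X) :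
    ∃ δ : X.residueField (m (IsLocalRing.closedPoint K)) ⟶ CommRingCat.of K,
      Spec.map δ ≫ X.fromSpecResidueField (m (IsLocalRing.closedPoint K)) = m :=
  ⟨_, Scheme.descResidueField_stalkClosedPointTo_fromSpecResidueField K X m⟩

/-- For a morphism f : X ⟶ Y between algebraic spaces over S and a geometric point ȳ of Y (an
algebraically closed field point), the geometric fibre X_ȳ (pullback in fppf sheaves) has connected
space of points if and only if for every scheme V with a representable etale a : h_V ⟶ Y and every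
point v of V through which ȳ factors, the fibre of X ×_Y V ⟶ V over v (pullback along the residue
field point of v) has connected space of points. -/
theorem result {S : Scheme.{u}} {X Y : AlgSp.Space S} (f : X ⟶ Y) (yb : AlgSp.FieldPt Y.obj) (hyb : yb.IsGeometric)
    (Xyb : AlgSp.Sp S) (fst : Xyb ⟶ X.obj) (snd : Xyb ⟶ (AlgSp.yon S).obj yb.pt) (h : IsPullback fst snd f.hom yb.toHom) :
    ConnectedSpace (AlgSp.Points Xyb) ↔
      ∀ (V : Over S) (a : (AlgSp.yon S).obj V ⟶ Y.obj), AlgSp.RepWith @Etale a →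
        ∀ (v : ↥V.left) (c : yb.pt ⟶ V), (AlgSp.yon S).map c ≫ a = yb.toHom → c.left (IsLocalRing.closedPoint yb.K) = v →
          ∀ (Xv : AlgSp.Sp S) (fst' : Xv ⟶ X.obj)
            (snd' : Xv ⟶ (AlgSp.yon S).obj (Over.mk (V.left.fromSpecResidueField v ≫ V.hom))),
            IsPullback fst' snd' f.hom ((AlgSp.yon S).map (Over.homMk (V.left.fromSpecResidueField v) rfl :
              Over.mk (V.left.fromSpecResidueField v ≫ V.hom) ⟶ V) ≫ a) →
            ConnectedSpace (AlgSp.Points Xv) := by
  constructor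
  · intro hc V a ha v c hca hcv Xv fst' snd' sq'
    subst hcv
    let Kv : Over S := Over.mk (V.left.fromSpecResidueField (c.left (IsLocalRing.closedPoint yb.K)) ≫ V.hom)
    let m : Spec (CommRingCat.of yb.K) ⟶ V.left := c.left
    obtain ⟨δ, key⟩ := exists_factor_residueField (K := yb.K) m
    let c' : yb.pt ⟶ Kv := Over.homMk (Spec.map δ)
      ((Category.assoc _ _ _).symm.trans ((congrArg (· ≫ V.hom) key).trans (Over.w c)))
    have hyb : yb.toHom = (AlgSp.yon S).map c' ≫ (AlgSp.yon S).map (Over.homMk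
        (V.left.fromSpecResidueField (c.left (IsLocalRing.closedPoint yb.K))) rfl : Kv ⟶ V) ≫ a := by
      rw [← hca, ← Functor.map_comp_assoc]
      exact congrArg (fun q => (AlgSp.yon S).map q ≫ a) (Over.OverMorphism.ext key.symm)
    rw [hyb] at h
    have sql := IsPullback.of_right' h sq'
    refine (AlgSpLib.map_surjective_of_isPullback sql.flip fun y => ?_).connectedSpace (Points.continuous_map _)
    haveI : Subsingleton Kv.left := inferInstanceAs (Subsingleton (Spec (V.left.residueField _)))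
    obtain ⟨t, rfl⟩ := (Points.schemeHomeo Kv).surjective y
    exact ⟨Points.schemeHomeo yb.pt (IsLocalRing.closedPoint yb.K : Spec (CommRingCat.of yb.K)), by
      rw [Points.map_yon_map_apply]; exact congrArg _ (Subsingleton.elim _ _)⟩
  · intro hall
    haveI : IsAlgClosed yb.K := hyb
    obtain ⟨V, a, ha, has⟩ := Y.property.atlas
    obtain ⟨v, hv⟩ := AlgSpLib.surjective_ofPt has (Points.mk yb)
    obtain ⟨ub, hub, hubv⟩ := AlgSpLib.exists_geometric_lift (IsAlgSpace.yon_obj V) Y.property a
      (AlgSpLib.isEtaleMor_of_repWith ha) yb hyb (Points.ofPt (𝟙 _) v)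
      (by rw [Points.map_ofPt, Category.id_comp, hv])
    obtain ⟨c, rfl⟩ := (AlgSp.yon S).map_surjective ub
    have hcv : c.left (IsLocalRing.closedPoint yb.K) = v := by
      have := congrArg (Points.toScheme V) hubv
      rwa [Points.toScheme_ofPt, Points.toScheme_ofScheme] at this
    subst hcv
    let k : Type u := V.left.residueField (c.left (IsLocalRing.closedPoint yb.K))
    let m : Spec (CommRingCat.of yb.K) ⟶ V.left := c.left
    obtain ⟨δ, key⟩ : ∃ δ : CommRingCat.of k ⟶ CommRingCat.of yb.K,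
        Spec.map δ ≫ V.left.fromSpecResidueField (c.left (IsLocalRing.closedPoint yb.K)) = c.left :=
      exists_factor_residueField (K := yb.K) m
    letI : Algebra k yb.K := δ.hom.toAlgebra
    let gk : Spec (CommRingCat.of k) ⟶ S :=
      V.left.fromSpecResidueField (c.left (IsLocalRing.closedPoint yb.K)) ≫ V.hom
    let i₀ : Over.mk gk ⟶ V := Over.homMk (V.left.fromSpecResidueField (c.left (IsLocalRing.closedPoint yb.K))) rfl
    have sqv := IsPullback.of_hasPullback f.hom ((AlgSp.yon S).map i₀ ≫ a)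
    obtain ⟨e, he⟩ := AlgSpLib.Shriek.exists_iso_of_over gk (pullback.snd f.hom ((AlgSp.yon S).map i₀ ≫ a))
    let F := AlgSpLib.Shriek.fib gk (pullback.snd f.hom ((AlgSp.yon S).map i₀ ≫ a))
    have hXv : IsAlgSpace (pullback f.hom ((AlgSp.yon S).map i₀ ≫ a)) :=
      AlgSpLib.isAlgSpace_pullback X.property (IsAlgSpace.yon_obj _) Y.property _ _
    have hF : IsAlgSpace F := (AlgSpLib.Shriek.isAlgSpace_shr_iff (g := gk) F).1
      (AlgSpLib.isAlgSpace_of_representable hXv e.hom
        (AlgSpLib.repWith_of_isIso (P := @IsOpenImmersion) e.hom).rep)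
    have hFp : ∀ (L : Over (Spec (CommRingCat.of k))), IsAlgSpace (F ⨯ (AlgSp.yon _).obj L) := fun L =>
      AlgSpLib.isAlgSpace_prod hF (IsAlgSpace.yon_obj L)
    have hgeo := (Groth.Agent.S10469.result k ⟨F, hF⟩).2 fun E _ _ hfin hsep => by
      haveI := hfin
      haveI := hsep
      obtain ⟨V₁, g₁, hg₁, v₁, cm, ι, -, hcm, hι⟩ :=
        Groth.Agent.S9734.exists_etale_nbhd_field_iso (c.left (IsLocalRing.closedPoint yb.K)) E
      let φ : E →ₐ[k] yb.K := IsAlgClosed.lift
      let Vo : Over S := Over.mk (g₁ ≫ V.hom)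
      let gV : Vo ⟶ V := Over.homMk g₁ rfl
      let ψ : CommRingCat.of ↥(V₁.residueField v₁) ⟶ CommRingCat.of yb.K :=
        CommRingCat.ofHom (φ.toRingHom.comp ι.symm.toRingHom)
      have hψ : cm ≫ ψ = δ := CommRingCat.hom_ext (RingHom.ext fun z => by
        have h1 : ι (algebraMap k E z) = cm.hom z := DFunLike.congr_fun hι z
        show φ (ι.symm (cm.hom z)) = δ.hom z
        rw [← h1, RingEquiv.symm_apply_apply, φ.commutes]
        rfl)
      have hs : (Spec.map ψ ≫ V₁.fromSpecResidueField v₁) ≫ g₁ = c.left := by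
        rw [Category.assoc, ← hcm, ← Spec.map_comp_assoc, hψ, key]
      let c₁ : yb.pt ⟶ Vo := Over.homMk (Spec.map ψ ≫ V₁.fromSpecResidueField v₁)
        ((Category.assoc _ _ _).symm.trans ((congrArg (· ≫ V.hom) hs).trans (Over.w c)))
      have hc₁ : c₁ ≫ gV = c := Over.OverMorphism.ext hs
      have ha₁ : RepWith @Etale ((AlgSp.yon S).map gV ≫ a) := AlgSpLib.repWith_comp
        ((repWith_yon_map_iff (P := (@Etale : MorphismProperty Scheme.{u})) gV).2 hg₁) ha
      let EX : Over (Spec (CommRingCat.of k)) := Over.mk (Spec.map (CommRingCat.ofHom (algebraMap k E)))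
      let K₁ : Over S := Over.mk (V₁.fromSpecResidueField v₁ ≫ Vo.hom)
      let j : (Over.map gk).obj EX ⟶ Over.mk gk := Over.homMk EX.hom rfl
      let θ : Spec (CommRingCat.of E) ≅ Spec (V₁.residueField v₁) :=
        asIso (Spec.map (RingEquiv.toCommRingCatIso (R := (↑(V₁.residueField v₁) : Type u)) (S := E) ι.symm).hom)
      have hθ : θ.inv ≫ Spec.map (CommRingCat.ofHom (algebraMap k E)) = Spec.map cm := by
        rw [Iso.inv_comp_eq]
        show _ = Spec.map _ ≫ _
        rw [← Spec.map_comp]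
        congr 1
        refine CommRingCat.hom_ext (RingHom.ext fun z => ?_)
        show algebraMap k E z = ι.symm (cm.hom z)
        exact (ι.symm_apply_apply _).symm.trans (congrArg ι.symm (DFunLike.congr_fun hι z))
      let θo : K₁ ≅ (Over.map gk).obj EX := Over.isoMk θ.symm (by
        show θ.inv ≫ Spec.map (CommRingCat.ofHom (algebraMap k E)) ≫ gk = _
        rw [reassoc_of% hθ]
        show Spec.map cm ≫ _ ≫ V.hom = V₁.fromSpecResidueField v₁ ≫ g₁ ≫ V.hom
        rw [reassoc_of% hcm])
      have hpt : ((AlgSp.yon S).mapIso θo).hom ≫ (AlgSp.yon S).map j ≫ (AlgSp.yon S).map i₀ ≫ a =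
          (AlgSp.yon S).map (Over.homMk (V₁.fromSpecResidueField v₁) rfl : K₁ ⟶ Vo) ≫ (AlgSp.yon S).map gV ≫ a := by
        simp only [Functor.mapIso_hom, ← Functor.map_comp_assoc]
        congr 2
        refine Over.OverMorphism.ext ?_
        show θ.inv ≫ Spec.map (CommRingCat.ofHom (algebraMap k E)) ≫ V.left.fromSpecResidueField _ = _
        rw [reassoc_of% hθ]
        exact hcm
      have sqE := (AlgSpGeomFibre.isPullback_shr_prod gk e he EX).paste_horiz sqv
      let θY := (AlgSp.yon S).mapIso θo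
      obtain ⟨A, B, hsq⟩ : ∃ (A : (AlgSpLib.Shriek.shr gk).obj (F ⨯ (AlgSp.yon _).obj EX) ⟶ X.obj)
          (B : (AlgSpLib.Shriek.shr gk).obj (F ⨯ (AlgSp.yon _).obj EX) ⟶ (AlgSp.yon S).obj K₁),
          IsPullback A B f.hom ((AlgSp.yon S).map (Over.homMk (V₁.fromSpecResidueField v₁) rfl : K₁ ⟶ Vo) ≫
            (AlgSp.yon S).map gV ≫ a) := by
        refine ⟨((AlgSpLib.Shriek.shr gk).map prod.fst ≫ e.hom) ≫ pullback.fst f.hom ((AlgSp.yon S).map i₀ ≫ a),
          ((AlgSpLib.Shriek.shr gk).map prod.snd ≫ AlgSpLib.Shriek.yonMap gk EX) ≫ θY.inv, IsPullback.of_iso sqE (Iso.refl _) (Iso.refl _) θY.symm (Iso.refl _) ?_ ?_ ?_ ?_⟩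
        · rw [Iso.refl_hom, Iso.refl_hom, Category.comp_id, Category.id_comp]
        · rw [Iso.refl_hom, Iso.symm_hom, Category.id_comp]
        · rw [Iso.refl_hom, Iso.refl_hom, Category.comp_id, Category.id_comp]
        · rw [Iso.refl_hom, Iso.symm_hom, Category.comp_id, ← hpt, Iso.inv_hom_id_assoc]
      refine (AlgSpGeomFibre.connectedSpace_shr_iff gk (hFp EX)).1 ?_
      exact hall Vo ((AlgSp.yon S).map gV ≫ a) ha₁ v₁ c₁
        (by rw [← Functor.map_comp_assoc, hc₁, hub]) (by
          show V₁.fromSpecResidueField v₁ (Spec.map ψ _) = v₁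
          exact Scheme.fromSpecResidueField_apply _ _) _ A B hsq
    let KX : Over (Spec (CommRingCat.of k)) := Over.mk (Spec.map (CommRingCat.ofHom (algebraMap k yb.K)))
    haveI : ConnectedSpace (Points (F ⨯ (AlgSp.yon _).obj KX)) := hgeo yb.K
    haveI := (AlgSpGeomFibre.connectedSpace_shr_iff gk (hFp KX)).2 inferInstance
    let θK : yb.pt ≅ (Over.map gk).obj KX := Over.isoMk (Iso.refl _) (by
      show 𝟙 _ ≫ Spec.map δ ≫ gk = yb.str
      rw [Category.id_comp]
      show Spec.map δ ≫ _ ≫ V.hom = _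
      rw [reassoc_of% key]
      exact Over.w c)
    refine AlgSpGeomFibre.connectedSpace_of_iso (S := S) (f := f.hom) ((AlgSp.yon S).mapIso θK)
      ((AlgSpGeomFibre.isPullback_shr_prod gk e he KX).paste_horiz sqv) (?_ : IsPullback fst snd f.hom _)
    have : ((AlgSp.yon S).mapIso θK).hom ≫ (AlgSp.yon S).map (Over.homMk KX.hom rfl : (Over.map gk).obj KX ⟶ Over.mk gk) ≫
        (AlgSp.yon S).map i₀ ≫ a = yb.toHom := by
      rw [← hub]
      simp only [Functor.mapIso_hom, ← Functor.map_comp_assoc]
      congr 2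
      refine Over.OverMorphism.ext ?_
      show 𝟙 _ ≫ Spec.map δ ≫ V.left.fromSpecResidueField _ = _
      rw [Category.id_comp]
      exact key
    rw [this]
    exact h

end Groth.Agent.S10681
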