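import Groth.Statements.S10688
import Groth.Agent.CurvOpenLib.GorSpace
import Groth.Agent.GorLib.BaseChangeScheme
-- import your own Groth.Agent.* helpers here

set_option autoImplicit false
universe u
open CategoryTheory CategoryTheory.Limits AlgebraicGeometry
open AlgSp

namespace Groth.Agent.S10688

/-- For a morphism f : X ⟶ Y between algebraic spaces over S with locally Noetherian fibres, g : Y' ⟶ Y
locally of finite type, f' : X' ⟶ Y' the base change (a pullback square of algebraic spaces) with
projection g' : X' ⟶ X, and x' a point of |X'| with image x: (1) if f is Gorenstein at x then so is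
f' at x'; (2) when f is flat at x, Gorensteinness of f' at x' implies that of f at x; (3) the same
conclusion holds if instead g is flat at the image of x' and f' is Gorenstein at x'. Here f is
Gorenstein at x when in every etale chart diagram through x the top arrow is Gorenstein at the point
over x (flat there, with Gorenstein local ring of its fibre), and the fibres of a morphism are
locally Noetherian when every fibre over a field point (pullback in fppf sheaves) is a locally
Noetherian algebraic space. -/
theorem result {S : Scheme.{u}} {X Y X' Y' : AlgSp.Space S} (f : X ⟶ Y) (g : Y' ⟶ Y) (g' : X' ⟶ X) (f' : X' ⟶ Y')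
    (hsq : IsPullback g'.hom f'.hom f.hom g.hom)
    (hf : ∀ (k : AlgSp.FieldPt Y.obj) (Xk : AlgSp.Sp S) (a : Xk ⟶ X.obj) (b : Xk ⟶ (AlgSp.yon S).obj k.pt),
        IsPullback a b f.hom k.toHom → AlgSp.IsLocNoethSp Xk)
    (hg : AlgSp.LocP @LocallyOfFiniteType g.hom) (x' : AlgSp.Points X'.obj) :
    (AlgSp.LocPAt (fun h u => Dual3.IsGorensteinAt h u) f.hom (AlgSp.Points.map g'.hom x') → AlgSp.LocPAt (fun h u => Dual3.IsGorensteinAt h u) f'.hom x') ∧
      (AlgSp.IsFlatAtMor f.hom (AlgSp.Points.map g'.hom x') → AlgSp.LocPAt (fun h u => Dual3.IsGorensteinAt h u) f'.hom x' →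
        AlgSp.LocPAt (fun h u => Dual3.IsGorensteinAt h u) f.hom (AlgSp.Points.map g'.hom x')) ∧
      (AlgSp.IsFlatAtMor g.hom (AlgSp.Points.map f'.hom x') → AlgSp.LocPAt (fun h u => Dual3.IsGorensteinAt h u) f'.hom x' →
        AlgSp.LocPAt (fun h u => Dual3.IsGorensteinAt h u) f.hom (AlgSp.Points.map g'.hom x')) := by
  obtain ⟨U, V, U', V', a, b, h, a', b', h', p, v, u', ha, hb, ha', hb', e, e', hsq', rfl, hu, ev⟩ :=
    GorSpace.exists_chart_baseChange X.property Y.property Y'.property hsq x'
  haveI : LocallyOfFiniteType v.left := hg b' b v hb' hb ev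
  have i := GorSpace.locPAt_iff_chart Y.property hf ha hb e (p.left u')
  have i' := GorSpace.locPAt_iff_chart Y'.property (GorSpace.noethFibSp_baseChange hsq hf) ha' hb' e' u'
  obtain ⟨k₁, k₂, k₃⟩ := GorLib.gorensteinAt_baseChange h.left v.left h'.left p.left hsq' u'
    (Or.inl ⟨inferInstance, GorSpace.noethFib_chart Y.property hf ha hb e _⟩)
  rw [← hu, i, i', AlgSpLib.map_ofPt_chart e']
  exact ⟨k₁, fun hfl => k₂ (hfl a b h _ ha hb e rfl), fun hfl => k₃ (hfl b' b v _ hb' hb ev rfl)⟩

end Groth.Agent.S10688
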