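import Groth.Statements.S10690
import Groth.Agent.CurvOpenLib.GorSpace
-- import your own Groth.Agent.* helpers here

set_option autoImplicit false
universe u
open CategoryTheory CategoryTheory.Limits AlgebraicGeometry
open AlgSp

namespace Groth.Agent.S10690

/-- For a morphism f : X ⟶ Y between algebraic spaces over S whose fibres are locally Noetherian, the
following are equivalent: (1) f is Gorenstein at every point of |X|; (2) f is flat and for some
scheme V with a representable etale surjective b : h_V ⟶ Y every fibre of X ×_Y V ⟶ V over a point v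
of V (pullback along the residue field point of v) is a Gorenstein algebraic space (some etale
surjective scheme chart is a Gorenstein scheme); (3) f is flat and the same holds for every scheme V
with a representable etale b : h_V ⟶ Y. Here f is Gorenstein at x when in every etale chart diagram
through x the top arrow is Gorenstein at the point over x (flat there, with Gorenstein local ring of
its fibre), and the fibres of a morphism are locally Noetherian when every fibre over a field point
(pullback in fppf sheaves) is a locally Noetherian algebraic space. (The published statement also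
characterises being Gorenstein at a single point through strict henselizations; that part is stated
separately and not included here.) -/
theorem result {S : Scheme.{u}} {X Y : AlgSp.Space S} (f : X ⟶ Y)
    (hf : ∀ (k : AlgSp.FieldPt Y.obj) (Xk : AlgSp.Sp S) (a : Xk ⟶ X.obj) (b : Xk ⟶ (AlgSp.yon S).obj k.pt),
        IsPullback a b f.hom k.toHom → AlgSp.IsLocNoethSp Xk) :
    [∀ x : AlgSp.Points X.obj, AlgSp.LocPAt (fun h u => Dual3.IsGorensteinAt h u) f.hom x,
      AlgSp.LocP @Flat f.hom ∧ ∃ (V : Over S) (b : (AlgSp.yon S).obj V ⟶ Y.obj),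
        AlgSp.RepWith @Etale b ∧ AlgSp.RepWith @Surjective b ∧
          ∀ (v : ↥V.left) (Xv : AlgSp.Sp S) (a : Xv ⟶ X.obj)
            (c : Xv ⟶ (AlgSp.yon S).obj (Over.mk (V.left.fromSpecResidueField v ≫ V.hom))),
            IsPullback a c f.hom ((AlgSp.yon S).map (Over.homMk (V.left.fromSpecResidueField v) rfl :
              Over.mk (V.left.fromSpecResidueField v ≫ V.hom) ⟶ V) ≫ b) →
            AlgSp.EtaleLocally Dual3.IsGorenstein Xv,
      AlgSp.LocP @Flat f.hom ∧ ∀ (V : Over S) (b : (AlgSp.yon S).obj V ⟶ Y.obj), AlgSp.RepWith @Etale b →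
          ∀ (v : ↥V.left) (Xv : AlgSp.Sp S) (a : Xv ⟶ X.obj)
            (c : Xv ⟶ (AlgSp.yon S).obj (Over.mk (V.left.fromSpecResidueField v ≫ V.hom))),
            IsPullback a c f.hom ((AlgSp.yon S).map (Over.homMk (V.left.fromSpecResidueField v) rfl :
              Over.mk (V.left.fromSpecResidueField v ≫ V.hom) ⟶ V) ≫ b) →
            AlgSp.EtaleLocally Dual3.IsGorenstein Xv].TFAE := by
  tfae_have 1 → 3 := fun H => by
    refine ⟨?_, ?_⟩
    · intro U V a b h ha hb e
      rw [Flat.iff_flat_stalkMap]
      exact fun u => (H _ a b h u ha hb e rfl).1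
    · intro V b hb v Xv a c sq
      obtain ⟨U, r, h, hr, hrs, hrh⟩ := AlgSpLib.exists_atlas_pullback X.property Y.property f.hom b
      have ha : RepWith @Etale (r ≫ pullback.fst f.hom b) :=
        AlgSpLib.repWith_comp hr (AlgSpLib.repWith_of_isPullback (IsPullback.of_hasPullback f.hom b).flip hb)
      have e : (r ≫ pullback.fst f.hom b) ≫ f.hom = (yon S).map h ≫ b := by
        rw [Category.assoc, pullback.condition, reassoc_of% hrh]
      obtain ⟨Uv, r', i, hr', hrs'⟩ := GorSpace.exists_fibre_chart hrh v sq
      refine ⟨Uv, r', hr' hr, hrs' hrs, GorSpace.isGorenstein_etale_of i.hom ⟨?_, fun y => ?_⟩⟩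
      · exact GorSpace.noethFib_chart Y.property hf ha hb e v
      · exact (GorLib.gorenstein_fibre_stalk_iff h.left v y _ rfl).2
          ((GorLib.isGorensteinAt_iff h.left _).1 (H _ _ b h _ ha hb e rfl)).2
  tfae_have 3 → 2 := fun H => by
    obtain ⟨V, b, hb, hbs⟩ := Y.property.atlas
    exact ⟨H.1, V, b, hb, hbs, H.2 V b hb⟩
  tfae_have 2 → 1 := by
    rintro ⟨hfl, V, b, hb, hbs, H⟩ x
    obtain ⟨U, r, h, hr, hrs, hrh⟩ := AlgSpLib.exists_atlas_pullback X.property Y.property f.hom b
    have sqb := (IsPullback.of_hasPullback f.hom b).flip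
    have ha : RepWith @Etale (r ≫ pullback.fst f.hom b) :=
      AlgSpLib.repWith_comp hr (AlgSpLib.repWith_of_isPullback sqb hb)
    have has : RepWith @Surjective (r ≫ pullback.fst f.hom b) :=
      AlgSpLib.repWith_comp hrs (AlgSpLib.repWith_of_isPullback sqb hbs)
    have e : (r ≫ pullback.fst f.hom b) ≫ f.hom = (yon S).map h ≫ b := by
      rw [Category.assoc, pullback.condition, reassoc_of% hrh]
    obtain ⟨u, rfl⟩ := AlgSpLib.surjective_ofPt has x
    rw [GorSpace.locPAt_iff_chart Y.property hf ha hb e u]
    haveI : Flat h.left := hfl _ b h ha hb e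
    have sqk := IsPullback.of_hasPullback f.hom ((yon S).map (Over.homMk (V.left.fromSpecResidueField (h.left u)) rfl :
      Over.mk (V.left.fromSpecResidueField (h.left u) ≫ V.hom) ⟶ V) ≫ b)
    obtain ⟨Uv, r', i, hr', hrs'⟩ := GorSpace.exists_fibre_chart hrh (h.left u) sqk
    have hUv : Dual3.IsGorenstein (h.left.fiber (h.left u)) :=
      GorSpace.isGorenstein_etale_of i.inv (GorSpace.isGorenstein_of_chart (H _ _ _ _ sqk) (hr' hr))
    exact ⟨Flat.stalkMap h.left u, hUv.2 _⟩
  tfae_finish

end Groth.Agent.S10690
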