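import Groth.Statements.S10691
import Groth.Agent.CurvOpenLib.GorSpace
import Groth.Agent.S3624
import Groth.Agent.S0538
import Groth.Agent.S0539
import Groth.Agent.S0540
-- import your own Groth.Agent.* helpers here

set_option autoImplicit false
universe u
open CategoryTheory CategoryTheory.Limits AlgebraicGeometry
open AlgSp

namespace Groth.Agent.S10691

/-- For locally Noetherian algebraic spaces X, Y over S and a flat morphism f : X ⟶ Y, with X Gorenstein
(some etale surjective scheme chart is a Gorenstein scheme): f is Gorenstein at every point of |X|,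
and for every point x of |X| the etale local ring of Y at a geometric point over f(x), presented as
a strict henselization R of the local ring of an etale scheme chart V of Y at a point v over f(x),
is a Gorenstein local ring. Here f is Gorenstein at x when in every etale chart diagram through x
the top arrow is Gorenstein at the point over x (flat there, with Gorenstein local ring of its
fibre), and the fibres of a morphism are locally Noetherian when every fibre over a field point
(pullback in fppf sheaves) is a locally Noetherian algebraic space. -/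
theorem result {S : Scheme.{u}} {X Y : AlgSp.Space S} (f : X ⟶ Y) (hf : AlgSp.LocP @Flat f.hom)
    (hX1 : AlgSp.IsLocNoethSp X.obj) (hY1 : AlgSp.IsLocNoethSp Y.obj)
    (hX2 : AlgSp.EtaleLocally Dual3.IsGorenstein X.obj) :
    (∀ x : AlgSp.Points X.obj, AlgSp.LocPAt (fun h u => Dual3.IsGorensteinAt h u) f.hom x) ∧
      ∀ (x : AlgSp.Points X.obj) (V : Over S) (b : (AlgSp.yon S).obj V ⟶ Y.obj), AlgSp.RepWith @Etale b →
        ∀ (v : ↥V.left), AlgSp.Points.ofPt b v = AlgSp.Points.map f.hom x →
          ∀ (R : Type u) [CommRing R] [IsLocalRing R] [Algebra ↥(V.left.presheaf.stalk v) R]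
            [IsLocalHom (algebraMap ↥(V.left.presheaf.stalk v) R)]
            [Hensel.IsStrictHenselization ↥(V.left.presheaf.stalk v) R],
            LocCoh.IsGorensteinLocalRing R := by
  refine ⟨fun x U V a b h u ha hb e _ => ?_, fun x V b hb v hv R _ _ _ _ _ => ?_⟩
  · haveI := AlgSpLib.isLocallyNoetherian_of_chart hY1 hb
    haveI : Flat h.left := hf a b h ha hb e
    exact (Groth.Agent.S3624.result _ _ h.left (GorSpace.isGorenstein_of_chart hX2 ha)).1 u
  · obtain ⟨U, r, h, hr, hrs, hrh⟩ := AlgSpLib.exists_atlas_pullback X.property Y.property f.hom b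
    obtain ⟨q, -, hq⟩ := AlgSpLib.exists_point_isPullback (IsPullback.of_hasPullback f.hom b) x (Points.ofPt (𝟙 _) v)
      (by rw [← hv, Points.map_ofPt, Category.id_comp])
    obtain ⟨u, rfl⟩ := AlgSpLib.surjective_ofPt hrs q
    have ha : RepWith @Etale (r ≫ pullback.fst f.hom b) :=
      AlgSpLib.repWith_comp hr (AlgSpLib.repWith_of_isPullback (IsPullback.of_hasPullback f.hom b).flip hb)
    have e : (r ≫ pullback.fst f.hom b) ≫ f.hom = (yon S).map h ≫ b := by
      rw [Category.assoc, pullback.condition, reassoc_of% hrh]
    rw [Points.map_ofPt, hrh] at hq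
    obtain rfl : h.left u = v := by
      have := congrArg (Points.toScheme V) hq
      rw [Points.toScheme_ofPt, ← CategoryTheory.Functor.map_id, Points.toScheme_ofPt] at this
      exact this
    haveI := AlgSpLib.isLocallyNoetherian_of_chart hY1 hb
    haveI : Flat h.left := hf _ b h ha hb e
    have hA := (Groth.Agent.S3624.result _ _ h.left (GorSpace.isGorenstein_of_chart hX2 ha)).2 u
    let A := V.left.presheaf.stalk (h.left u)
    haveI : IsNoetherianRing R := (Groth.Agent.S0540.result A R).1 inferInstance
    haveI : Module.FaithfullyFlat A R := Groth.Agent.S0539.result A R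
    refine (GorLib.gorenstein_flat_iff A R).2 ⟨hA, ?_⟩
    haveI : ((IsLocalRing.maximalIdeal A).map (algebraMap A R)).IsMaximal := by
      rw [Groth.Agent.S0538.result A R]; infer_instance
    letI := Ideal.Quotient.field ((IsLocalRing.maximalIdeal A).map (algebraMap A R))
    exact Groth.Agent.S0342.result _

end Groth.Agent.S10691
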