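import Groth.Statements.S10693
import Groth.Agent.CurvOpenLib.GorSpace
import Groth.Agent.HenselBranchLib.SHQuot
import Groth.Agent.HenselBranchLib.IndEtLocal
import Groth.Agent.S12237
import Groth.Agent.S0538
import Groth.Agent.S0539
import Groth.Agent.S0540
-- import your own Groth.Agent.* helpers here

set_option autoImplicit false
universe u
open CategoryTheory CategoryTheory.Limits AlgebraicGeometry
open AlgSp

namespace Groth.Agent.S10693

/-- Flatness over the base passes to a strict henselization of the base. -/
theorem flat_of_flat_comp (A R' R : Type u) [CommRing A] [IsLocalRing A] [CommRing R'] [IsLocalRing R']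
    [Algebra A R'] [IsLocalHom (algebraMap A R')] [Hensel.IsStrictHenselization A R'] [CommRing R] [Algebra R' R]
    [Algebra A R] [IsScalarTower A R' R] [Module.Flat A R] : Module.Flat R' R := by
  classical
  have hcov : ∀ x : R', HenselLib.EtCov (R := A) x := fun x => by
    obtain ⟨e⟩ := HenselLib.nonempty_algEquiv_SH (R := A) R'
    have h := (HenselLib.etCov_hens (R := A) (HenselLib.ker_scθ A) (e.symm x)).map e.toAlgHom
    rwa [show e.toAlgHom (e.symm x) = x from e.apply_symm_apply x] at h
  refine Module.Flat.iff_forall_isTrivialRelation.2 fun {l} r y hry => ?_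
  obtain ⟨U, _, _, _, ξ, hξ⟩ := HenselLib.exists_etale_cover (R := A) (Finset.univ.image r) fun x _ => hcov x
  choose w hw using fun i => hξ (r i) (Finset.mem_image_of_mem r (Finset.mem_univ i))
  letI : Algebra U R := ((algebraMap R' R).comp ξ.toRingHom).toAlgebra
  haveI : Module.Flat U R :=
    HenselBranchLib.flat_of_etale_hom (R := A) ((IsScalarTower.toAlgHom A R' R).comp ξ)
  obtain ⟨k, a, z, hz, ha⟩ := Module.Flat.isTrivialRelation_of_sum_smul_eq_zero (R := U) (M := R)
    (f := w) (x := y) (by
      refine Eq.trans (Finset.sum_congr rfl fun i _ => ?_) hry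
      rw [Algebra.smul_def, Algebra.smul_def, ← hw i]; rfl)
  refine ⟨k, fun i j => ξ (a i j), z, fun i => (hz i).trans (Finset.sum_congr rfl fun j _ => ?_), fun j => ?_⟩
  · rw [Algebra.smul_def, Algebra.smul_def]; rfl
  · have := congrArg ξ (ha j)
    rw [map_sum, map_zero] at this
    refine Eq.trans (Finset.sum_congr rfl fun i _ => ?_) this
    rw [map_mul]
    exact congrArg (· * _) (hw i).symm

/-- (pointwise part) for a morphism f : X ⟶ Y between algebraic spaces over S with locally Noetherian
fibres and a point x of |X|, take an etale chart diagram through x: schemes U, V over S with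
representable etale a : h_U ⟶ X, b : h_V ⟶ Y, a morphism h : U ⟶ V over S with a ≫ f = h_h ≫ b, and
a point u of U over x; let R be a strict henselization of the local ring of U at u, R' one of the
local ring of V at h u, and φ : R' ⟶ R a local homomorphism compatible with the map of local rings
induced by h (these present the etale local rings of Y and X at compatible geometric points). Then f
is Gorenstein at x if and only if φ is flat and R / m_{R'} R is a Gorenstein local ring. Here f is
Gorenstein at x when in every etale chart diagram through x the top arrow is Gorenstein at the point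
over x (flat there, with Gorenstein local ring of its fibre), and the fibres of a morphism are
locally Noetherian when every fibre over a field point (pullback in fppf sheaves) is a locally
Noetherian algebraic space. -/
theorem result {S : Scheme.{u}} {X Y : AlgSp.Space S} (f : X ⟶ Y)
    (hf : ∀ (k : AlgSp.FieldPt Y.obj) (Xk : AlgSp.Sp S) (a : Xk ⟶ X.obj) (b : Xk ⟶ (AlgSp.yon S).obj k.pt),
        IsPullback a b f.hom k.toHom → AlgSp.IsLocNoethSp Xk)
    (x : AlgSp.Points X.obj) {U V : Over S} (a : (AlgSp.yon S).obj U ⟶ X.obj) (b : (AlgSp.yon S).obj V ⟶ Y.obj)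
    (h : U ⟶ V) (ha : AlgSp.RepWith @Etale a) (hb : AlgSp.RepWith @Etale b) (hc : a ≫ f.hom = (AlgSp.yon S).map h ≫ b)
    (u : ↥U.left) (hu : AlgSp.Points.ofPt a u = x)
    (R : Type u) [CommRing R] [IsLocalRing R] [Algebra ↥(U.left.presheaf.stalk u) R]
    [IsLocalHom (algebraMap ↥(U.left.presheaf.stalk u) R)] [Hensel.IsStrictHenselization ↥(U.left.presheaf.stalk u) R]
    (R' : Type u) [CommRing R'] [IsLocalRing R'] [Algebra ↥(V.left.presheaf.stalk (h.left u)) R']
    [IsLocalHom (algebraMap ↥(V.left.presheaf.stalk (h.left u)) R')]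
    [Hensel.IsStrictHenselization ↥(V.left.presheaf.stalk (h.left u)) R']
    (φ : R' →+* R) [IsLocalHom φ]
    (hφ : φ.comp (algebraMap ↥(V.left.presheaf.stalk (h.left u)) R') =
      (algebraMap ↥(U.left.presheaf.stalk u) R).comp (h.left.stalkMap u).hom) :
    AlgSp.LocPAt (fun h u => Dual3.IsGorensteinAt h u) f.hom x ↔
      φ.Flat ∧ LocCoh.IsGorensteinLocalRing (R ⧸ (IsLocalRing.maximalIdeal R').map φ) := by
  subst hu
  have hlf := GorSpace.noethFib_chart Y.property hf ha hb hc
  rw [GorSpace.locPAt_iff_chart Y.property hf ha hb hc u, GorLib.isGorensteinAt_iff]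
  let A := V.left.presheaf.stalk (h.left u)
  let B := U.left.presheaf.stalk u
  let ψ : A →+* B := (h.left.stalkMap u).hom
  haveI : IsLocalHom ψ := inferInstanceAs (IsLocalHom (h.left.stalkMap u).hom)
  have hffR : Module.FaithfullyFlat B R := Groth.Agent.S0539.result B R
  refine and_congr ⟨fun hψ => ?_, fun hflφ => ?_⟩ ?_
  · letI := φ.toAlgebra
    letI : Algebra A R := ((algebraMap B R).comp ψ).toAlgebra
    haveI : IsScalarTower A R' R := IsScalarTower.of_algebraMap_eq' hφ.symm
    haveI : Module.Flat A R :=
      RingHom.flat_algebraMap_iff.1 (hψ.comp (RingHom.flat_algebraMap_iff.2 inferInstance))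
    exact flat_of_flat_comp A R' R
  · haveI : Module.FaithfullyFlat A R' := Groth.Agent.S0539.result A R'
    refine SweepSix.flat_of_comp ψ (algebraMap B R) (RingHom.flat_algebraMap_iff.2 inferInstance) ?_
    rw [← hφ]
    exact (RingHom.flat_algebraMap_iff.2 inferInstance).comp hflφ
  · let I : Ideal B := (IsLocalRing.maximalIdeal A).map ψ
    have hI : I ≤ IsLocalRing.maximalIdeal B :=
      ((IsLocalRing.local_hom_TFAE ψ).out 0 2).mp (show IsLocalHom ψ from inferInstanceAs (IsLocalHom (h.left.stalkMap u).hom))
    obtain ⟨_, _, _, hSH⟩ := HenselBranchLib.isStrictHenselization_quot B R I hI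
    haveI := hlf (h.left u)
    haveI : IsNoetherianRing (B ⧸ I) := GorLib.isNoetherianRing_fibre h.left u
    haveI := (Groth.Agent.S0540.result (B ⧸ I) (R ⧸ I.map (algebraMap B R))).1 inferInstance
    haveI : Module.FaithfullyFlat (B ⧸ I) (R ⧸ I.map (algebraMap B R)) :=
      Groth.Agent.S0539.result (B ⧸ I) (R ⧸ I.map (algebraMap B R))
    have hm : (IsLocalRing.maximalIdeal R').map φ = I.map (algebraMap B R) := by
      rw [← Groth.Agent.S0538.result A R', Ideal.map_map, hφ, ← Ideal.map_map]
    rw [GorLib.gorenstein_congr (Ideal.quotEquivOfEq hm),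
      GorLib.gorenstein_flat_iff (B ⧸ I) (R ⧸ I.map (algebraMap B R))]
    refine (and_iff_left ?_).symm
    haveI : ((IsLocalRing.maximalIdeal (B ⧸ I)).map (algebraMap (B ⧸ I) (R ⧸ I.map (algebraMap B R)))).IsMaximal := by
      rw [Groth.Agent.S0538.result (B ⧸ I) (R ⧸ I.map (algebraMap B R))]; infer_instance
    letI := Ideal.Quotient.field
      ((IsLocalRing.maximalIdeal (B ⧸ I)).map (algebraMap (B ⧸ I) (R ⧸ I.map (algebraMap B R))))
    exact Groth.Agent.S0342.result _

end Groth.Agent.S10693
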