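import Groth.Statements.S10695
import Groth.Agent.MonoPtLib.FamilyDesc
import Groth.Agent.AlgSpLib.EtaleLift

set_option autoImplicit false
set_option backward.isDefEq.respectTransparency false
set_option backward.isDefEq.respectTransparency.types false
universe u
open CategoryTheory CategoryTheory.Limits AlgebraicGeometry
open AlgSp

namespace Groth.Agent.S10695

/-- Suppose `(U ⊂ W, f : V → W)`, a square of algebraic spaces over `S`, is elementary distinguished
(`j` an open immersion, `f` etale and an isomorphism over the reduced closed complement of `U`) and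
let `P` with its two projections be a fibre product `U ×_W V`. Then `W` is the pushout of `U` and
`V` along `P` among algebraic spaces over `S`. -/
theorem result {S : Scheme.{u}} {U V W P : AlgSp.Space S} (j : U ⟶ W) (f : V ⟶ W)
    (hsq : AlgSp.IsElemDistSq j.hom f.hom) (p : P ⟶ U) (q : P ⟶ V)
    (hP : IsPullback p.hom q.hom j.hom f.hom) : IsPushout p q j f := by
  obtain ⟨hj, hf, T, Q, i, p₁, p₂, hi, sqQ, hp₁⟩ := hsq
  haveI := hp₁
  obtain ⟨U₀, uA, huA, huAs⟩ := U.property.atlas
  obtain ⟨V₀, vA, hvA, hvAs⟩ := V.property.atlas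
  let κ := ULift.{u} Bool
  let Wf : κ → Over S := fun k => match k.down with | false => U₀ | true => V₀
  let w : ∀ k, (yon S).obj (Wf k) ⟶ W.obj := fun k => match k with
    | ⟨false⟩ => uA ≫ j.hom
    | ⟨true⟩ => vA ≫ f.hom
  have hjm : Mono j.hom := AlgSpLib.mono_of_openImmersion hj
  have hw : ∀ k, RepWith @Etale (w k) := by
    rintro ⟨_ | _⟩
    · exact AlgSpLib.repWith_comp huA
        (AlgSpLib.repWith_mono (fun _ _ g (_ : IsOpenImmersion g) => (inferInstance : Etale g)) hj)
    · exact hf vA hvA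
  have hout : ∀ z : Points W.obj, z ∉ Set.range (Points.map j.hom) →
      z ∈ Set.range (Points.map i) := fun z hz => by rw [hi.2.1]; exact hz
  have hws : ∀ z : Points W.obj, ∃ k, z ∈ Set.range (Points.ofPt (w k)) := by
    intro z
    by_cases hz : z ∈ Set.range (Points.map j.hom)
    · obtain ⟨u, rfl⟩ := hz
      obtain ⟨u₀, rfl⟩ := AlgSpLib.surjective_ofPt huAs u
      exact ⟨⟨false⟩, u₀, (Points.map_ofPt _ _ _).symm⟩
    · obtain ⟨t, rfl⟩ := hout z hz
      obtain ⟨v₀, hv₀⟩ := AlgSpLib.surjective_ofPt hvAs (Points.map p₂ (Points.map (inv p₁) t))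
      refine ⟨⟨true⟩, v₀, ?_⟩
      change Points.ofPt (vA ≫ f.hom) v₀ = _
      rw [← Points.map_ofPt, hv₀, ← Points.map_comp, ← Points.map_comp, ← sqQ.w, IsIso.inv_hom_id_assoc]
  have hw0 : p.hom ≫ j.hom = q.hom ≫ f.hom := hP.w
  refine IsPushout.of_isColimit (c := PushoutCocone.mk j f (by ext : 1; exact hw0)) ?_
  have hk : ∀ c : PushoutCocone p q, ∃! y : W.obj ⟶ c.pt.obj,
      ∀ k, w k ≫ y = (match k with
        | ⟨false⟩ => uA ≫ c.inl.hom
        | ⟨true⟩ => vA ≫ c.inr.hom : (yon S).obj (Wf k) ⟶ c.pt.obj) := by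
    intro c
    have hcond : p.hom ≫ c.inl.hom = q.hom ≫ c.inr.hom := congrArg (fun m => m.hom) c.condition
    have hUV : ∀ (Z : Sp S) (a : Z ⟶ U.obj) (b : Z ⟶ V.obj), a ≫ j.hom = b ≫ f.hom →
        a ≫ c.inl.hom = b ≫ c.inr.hom := fun Z a b e => by
      conv_lhs => rw [← hP.lift_fst a b e, Category.assoc, hcond]
      rw [← Category.assoc, hP.lift_snd]
    have hVV : ∀ (Z : Over S) (a b : (yon S).obj Z ⟶ V.obj), a ≫ f.hom = b ≫ f.hom →
        a ≫ c.inr.hom = b ≫ c.inr.hom := fun Z a b e => by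
      let d := pullback.diagonal f.hom
      have hd : RepWith @IsOpenImmersion d :=
        AlgSpLib.openImmersion_diagonal_of_isEtaleMor V.property W.property hf
      let π : (yon S).obj Z ⟶ pullback f.hom f.hom := pullback.lift a b e
      obtain ⟨Z₁, g₁, h₁, sq₁⟩ : ∃ (Z₁ : Over S) (g₁ : (yon S).obj Z₁ ⟶ V.obj) (h₁ : Z₁ ⟶ Z),
          IsPullback g₁ ((yon S).map h₁) d π := ⟨_, _, _, hd.rep.isPullback π⟩
      obtain ⟨Z₂, g₂, h₂, sq₂⟩ : ∃ (Z₂ : Over S) (g₂ : (yon S).obj Z₂ ⟶ U.obj) (h₂ : Z₂ ⟶ Z),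
          IsPullback g₂ ((yon S).map h₂) j.hom (a ≫ f.hom) := ⟨_, _, _, hj.rep.isPullback _⟩
      have ho₁ : IsOpenImmersion h₁.left := hd.property π g₁ h₁ sq₁
      have ho₂ : IsOpenImmersion h₂.left := hj.property _ g₂ h₂ sq₂
      let Zf : κ → Over S := fun k => match k.down with | false => Z₁ | true => Z₂
      let hh : ∀ k, Zf k ⟶ Z := fun k => match k with | ⟨false⟩ => h₁ | ⟨true⟩ => h₂
      refine AlgSpLib.hom_ext_of_cover hh (by rintro ⟨_ | _⟩ <;> change Flat (Over.Hom.left _) <;>
        infer_instance) (by rintro ⟨_ | _⟩ <;> change LocallyOfFinitePresentation (Over.Hom.left _) <;>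
        infer_instance) (fun z => ?_) ?_
      · have hr₁ : Set.range (Points.map ((yon S).map h₁)) = Points.map π ⁻¹' Set.range (Points.map d) :=
          AlgSpLib.range_map_of_isPullback sq₁
        have hr₂ : Set.range (Points.map ((yon S).map h₂)) =
            Points.map (a ≫ f.hom) ⁻¹' Set.range (Points.map j.hom) :=
          AlgSpLib.range_map_of_isPullback sq₂
        have hlift : ∀ {A : Over S} (h : A ⟶ Z), Points.schemeHomeo Z z ∈ Set.range (Points.map ((yon S).map h)) →
            z ∈ Set.range h.left := fun {A} h ⟨y, hy⟩ => by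
          obtain ⟨y₀, rfl⟩ := (Points.schemeHomeo A).surjective y
          refine ⟨y₀, (Points.schemeHomeo Z).injective (Eq.trans ?_ hy)⟩
          change Points.ofPt (𝟙 _) (h.left y₀) = Points.map _ (Points.ofPt (𝟙 _) y₀)
          rw [Points.map_ofPt, ← AlgSpLib.ofPt_yon_comp, Category.id_comp, Category.comp_id]
        by_cases hz : Points.map (a ≫ f.hom) (Points.schemeHomeo Z z) ∈ Set.range (Points.map j.hom)
        · exact ⟨⟨true⟩, hlift h₂ (by rw [hr₂]; exact hz)⟩
        · refine ⟨⟨false⟩, hlift h₁ ?_⟩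
          rw [hr₁]
          obtain ⟨t, ht⟩ := hout _ hz
          have sqE := IsPullback.of_hasPullback (pullback.fst f.hom f.hom ≫ f.hom) i
          obtain ⟨ε, hε, -⟩ := AlgSpLib.exists_point_isPullback sqE (Points.map π (Points.schemeHomeo Z z)) t
            (by rw [← Points.map_comp, pullback.lift_fst_assoc, ht])
          let e₁ := pullback.fst (pullback.fst f.hom f.hom ≫ f.hom) i
          let e₂ := pullback.snd (pullback.fst f.hom f.hom ≫ f.hom) i
          have hc₁ : e₂ ≫ i = (e₁ ≫ pullback.fst f.hom f.hom) ≫ f.hom := by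
            rw [Category.assoc]; exact pullback.condition.symm
          have hc₂ : e₂ ≫ i = (e₁ ≫ pullback.snd f.hom f.hom) ≫ f.hom := by
            exact hc₁.trans ((Category.assoc _ _ _).trans ((congrArg (e₁ ≫ ·) pullback.condition).trans (Category.assoc _ _ _).symm))
          have heq : sqQ.lift e₂ _ hc₁ = sqQ.lift e₂ _ hc₂ := by
            rw [← cancel_mono p₁, sqQ.lift_fst, sqQ.lift_fst]
          have heq' := congrArg (· ≫ p₂) heq
          simp only [sqQ.lift_snd] at heq'
          have hfac : (e₁ ≫ pullback.fst f.hom f.hom) ≫ d = e₁ := pullback.hom_ext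
            (by rw [Category.assoc, pullback.diagonal_fst, Category.comp_id])
            (by rw [Category.assoc, pullback.diagonal_snd, Category.comp_id, heq'])
          exact ⟨Points.map (e₁ ≫ pullback.fst f.hom f.hom) ε, by rw [← Points.map_comp, hfac]; exact hε⟩
      · rintro ⟨_ | _⟩
        · change (yon S).map h₁ ≫ a ≫ _ = (yon S).map h₁ ≫ b ≫ _
          have ea : (yon S).map h₁ ≫ a = g₁ := by
            have := congrArg (· ≫ pullback.fst f.hom f.hom) sq₁.w
            simp only [d, π, Category.assoc, pullback.diagonal_fst, pullback.lift_fst, Category.comp_id] at this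
            exact this.symm
          have eb : (yon S).map h₁ ≫ b = g₁ := by
            have := congrArg (· ≫ pullback.snd f.hom f.hom) sq₁.w
            simp only [d, π, Category.assoc, pullback.diagonal_snd, pullback.lift_snd, Category.comp_id] at this
            exact this.symm
          rw [← Category.assoc, ← Category.assoc, ea, eb]
        · change (yon S).map h₂ ≫ a ≫ _ = (yon S).map h₂ ≫ b ≫ _
          have e₁' : g₂ ≫ j.hom = ((yon S).map h₂ ≫ a) ≫ f.hom := by rw [Category.assoc]; exact sq₂.w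
          have e₂' : g₂ ≫ j.hom = ((yon S).map h₂ ≫ b) ≫ f.hom := by
            rw [e₁', Category.assoc, Category.assoc, e]
          rw [← Category.assoc, ← Category.assoc, ← hUV _ _ _ e₁', ← hUV _ _ _ e₂']
    refine MonoPtLib.exists_unique_desc_of_family w hw hws _ ?_
    rintro ⟨_ | _⟩ ⟨_ | _⟩ Z g g' e <;> simp only [w] at e ⊢ <;>
      rw [← Category.assoc, ← Category.assoc] at e ⊢
    · rw [(cancel_mono j.hom).1 e]
    · exact hUV _ _ _ e
    · exact (hUV _ _ _ e.symm).symm
    · exact hVV _ _ _ e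
  choose y hy hyu using hk
  refine PushoutCocone.IsColimit.mk _ (fun c => ⟨y c⟩) (fun c => ?_) (fun c => ?_) fun c m hm₁ hm₂ => ?_
  · ext : 1
    refine AlgSpLib.hom_ext_of_atlas huA huAs ?_
    exact (Category.assoc _ _ _).symm.trans (hy c ⟨false⟩)
  · ext : 1
    refine AlgSpLib.hom_ext_of_atlas hvA hvAs ?_
    exact (Category.assoc _ _ _).symm.trans (hy c ⟨true⟩)
  · ext : 1
    refine hyu c m.hom ?_
    rintro ⟨_ | _⟩
    · change (uA ≫ j.hom) ≫ m.hom = uA ≫ c.inl.hom
      rw [← hm₁, Category.assoc]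
      rfl
    · change (vA ≫ f.hom) ≫ m.hom = vA ≫ c.inr.hom
      rw [← hm₂, Category.assoc]
      rfl

end Groth.Agent.S10695
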