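import Groth.Statements.S10698
import Groth.Agent.AlgSpLib.ImmLocal
import Groth.Agent.AlgSpLib.Iso
import Groth.Agent.AlgSpLib.Sep
import Groth.Agent.AlgSpLib.Points

set_option autoImplicit false
set_option backward.isDefEq.respectTransparency false
set_option backward.isDefEq.respectTransparency.types false
universe u
open CategoryTheory CategoryTheory.Limits AlgebraicGeometry
open AlgSp

namespace Groth.Agent.S10698


variable {S : Scheme.{u}}

theorem closedImmersion_of_immersion {F G : Sp S} {c : F ⟶ G} (hc : RepWith @IsImmersion c)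
    (hcl : IsClosed (Set.range (Points.map c))) : RepWith @IsClosedImmersion c := by
  refine MorphismProperty.relative_of_snd hc.rep fun T ξ => ?_
  have hs : IsImmersion (hc.rep.snd ξ).left := hc.property ξ _ _ (hc.rep.isPullback ξ)
  change IsClosedImmersion (hc.rep.snd ξ).left
  haveI : IsImmersion (hc.rep.snd ξ).left := hs
  refine IsClosedImmersion.of_isPreimmersion _ ?_
  have e : Set.range (hc.rep.snd ξ).left = Points.ofPt ξ ⁻¹' Set.range (Points.map c) := by
    have hr := AlgSpLib.range_map_of_isPullback (hc.rep.isPullback ξ)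
    ext t
    rw [Set.mem_preimage, AlgSpLib.ofPt_comp_ofScheme, Function.comp_apply, ← Set.mem_preimage, ← hr,
      ← AlgSpLib.range_ofPt]
    constructor
    · rintro ⟨w, rfl⟩
      refine ⟨w, ?_⟩
      change _ = Points.ofPt (𝟙 _) _
      rw [← AlgSpLib.ofPt_yon_comp, Category.comp_id]
    · rintro ⟨w, hw⟩
      refine ⟨w, (Points.schemeHomeo T).injective (Eq.trans ?_ hw)⟩
      change Points.ofPt (𝟙 _) _ = _
      rw [← AlgSpLib.ofPt_yon_comp, Category.comp_id]
  rw [e]
  exact hcl.preimage (Points.continuous_ofPt ξ)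

theorem immersion_of_comp_openImmersion {F G H : Sp S} (hG : IsAlgSpace G) {c : F ⟶ G} {q : G ⟶ H}
    (ho : RepWith @IsOpenImmersion (c ≫ q)) (hq : RepWith @IsClosedImmersion (pullback.diagonal q)) :
    RepWith @IsImmersion c := by
  let s : F ⟶ pullback (c ≫ q) q := pullback.lift (𝟙 F) c (Category.id_comp _)
  have hs : RepWith @IsClosedImmersion s := AlgSpLib.repWith_section (pullback.lift_fst _ _ _)
    (AlgSpLib.repWith_diagonal_of_isPullback (IsPullback.of_hasPullback (c ≫ q) q).flip hq)
  have ho' : RepWith @IsOpenImmersion (pullback.snd (c ≫ q) q) :=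
    AlgSpLib.repWith_of_isPullback (IsPullback.of_hasPullback (c ≫ q) q) ho
  have e : s ≫ pullback.snd (c ≫ q) q = c := pullback.lift_snd _ _ _
  rw [← e]
  exact AlgSpLib.repWith_comp
    (AlgSpLib.repWith_mono (fun _ _ g (_ : IsClosedImmersion g) => (inferInstance : IsImmersion g)) hs)
    (AlgSpLib.repWith_mono (fun _ _ g (_ : IsOpenImmersion g) => (inferInstance : IsImmersion g)) ho')

/-- The product of two etale morphisms over `Y` is etale. -/
theorem map_etale_surjective {A B X Y : Sp S} (hA : IsAlgSpace A) (hB : IsAlgSpace B) (hX : IsAlgSpace X)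
    (hY : IsAlgSpace Y) (g : X ⟶ Y) {a : A ⟶ X} {b : B ⟶ X} (ha : IsEtaleMor a) (hb : IsEtaleMor b) :
    IsEtaleMor (pullback.map (a ≫ g) (b ≫ g) g g a b (𝟙 Y) (Category.comp_id _) (Category.comp_id _)) ∧
      ∀ z : Points (pullback g g), Points.map (pullback.fst g g) z ∈ Set.range (Points.map a) →
        Points.map (pullback.snd g g) z ∈ Set.range (Points.map b) →
        z ∈ Set.range (Points.map
          (pullback.map (a ≫ g) (b ≫ g) g g a b (𝟙 Y) (Category.comp_id _) (Category.comp_id _))) := by
  let q₁ : pullback (a ≫ g) (b ≫ g) ⟶ pullback g (b ≫ g) :=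
    pullback.lift (pullback.fst _ _ ≫ a) (pullback.snd _ _) (by rw [Category.assoc, pullback.condition])
  let q₂ : pullback g (b ≫ g) ⟶ pullback g g :=
    pullback.lift (pullback.fst _ _) (pullback.snd _ _ ≫ b) (by rw [Category.assoc, pullback.condition])
  have sq₁ : IsPullback (pullback.fst (a ≫ g) (b ≫ g)) q₁ a (pullback.fst g (b ≫ g)) :=
    IsPullback.of_bot (v₂₁ := pullback.snd g (b ≫ g))
      (by rw [pullback.lift_snd]; exact IsPullback.of_hasPullback _ _) (pullback.lift_fst _ _ _).symm
      (IsPullback.of_hasPullback g (b ≫ g))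
  have sq₂ : IsPullback (pullback.snd g (b ≫ g)) q₂ b (pullback.snd g g) :=
    IsPullback.of_bot (v₂₁ := pullback.fst g g)
      (by rw [pullback.lift_fst]; exact (IsPullback.of_hasPullback _ _).flip) (pullback.lift_snd _ _ _).symm
      (IsPullback.of_hasPullback g g).flip
  have e : q₁ ≫ q₂ =
      pullback.map (a ≫ g) (b ≫ g) g g a b (𝟙 Y) (Category.comp_id _) (Category.comp_id _) := by
    apply pullback.hom_ext <;> simp [q₁, q₂]
  have h₁ : IsEtaleMor q₁ := AlgSpLib.isEtaleMor_of_isPullback hA hX
    (AlgSpLib.isAlgSpace_pullback hX hB hY _ _) sq₁ ha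
  have h₂ : IsEtaleMor q₂ := AlgSpLib.isEtaleMor_of_isPullback hB hX
    (AlgSpLib.isAlgSpace_pullback hX hX hY _ _) sq₂ hb
  refine ⟨e ▸ AlgSpLib.isEtaleMor_comp h₂ h₁, ?_⟩
  rintro z ⟨x₁, hx₁⟩ ⟨x₂, hx₂⟩
  obtain ⟨z', -, hz'⟩ := AlgSpLib.exists_point_isPullback sq₂ x₂ z hx₂
  obtain ⟨z'', -, hz''⟩ := AlgSpLib.exists_point_isPullback sq₁ x₁ z' (by
    rw [hx₁, ← hz', ← Points.map_comp, pullback.lift_fst])
  exact ⟨z'', by rw [← e, Points.map_comp, hz'', hz']⟩


/-- Let `g : X → Y` be a morphism of algebraic spaces over `S` and `(U ⊂ X, f : V → X)` an elementary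
distinguished square. Suppose `U → Y` and `V → Y` are both separated, that the canonical morphism `c
: U ×_X V → U ×_Y V` (between chosen fibre products `PX`, `PY`) is closed on points, and that the
canonical morphism `d : V ×_X V → V ×_Y V` (between chosen fibre products `QX`, `QY`) is
representable and a closed immersion. Then `g` is separated. (The published statement omits the
condition on `V ×_X V → V ×_Y V`; its proof identifies the piece of `X ×_Y X` over `V ×_Y V` with
`V`, which is `V ×_X V`, and without that condition the affine line with doubled origin over a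
field, with `U` the complement of the two origins and `V` the disjoint union of the two standard
charts, satisfies every other hypothesis and is not separated. With it, the diagonal of `g` is a
closed immersion over each of the four pieces `U ×_Y U`, `U ×_Y V`, `V ×_Y U`, `V ×_Y V` of an etale
cover of `X ×_Y X`; for `c`, which is an immersion because `U → X` is an open immersion and `U → Y`
is separated, closedness on points suffices.) -/
theorem result {S : Scheme.{u}} {U V X Y PX PY QX QY : AlgSp.Space S} (g : X ⟶ Y)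
    (j : U ⟶ X) (f : V ⟶ X) (hsq : AlgSp.IsElemDistSq j.hom f.hom)
    (hU : AlgSp.IsSeparatedMor (j ≫ g).hom) (hV : AlgSp.IsSeparatedMor (f ≫ g).hom)
    (pX : PX ⟶ U) (qX : PX ⟶ V) (hPX : IsPullback pX.hom qX.hom j.hom f.hom)
    (pY : PY ⟶ U) (qY : PY ⟶ V) (hPY : IsPullback pY.hom qY.hom (j ≫ g).hom (f ≫ g).hom)
    (c : PX ⟶ PY) (hc₁ : c ≫ pY = pX) (hc₂ : c ≫ qY = qX) (hcl : AlgSp.IsClosedMor c.hom)
    (rX₁ rX₂ : QX ⟶ V) (hQX : IsPullback rX₁.hom rX₂.hom f.hom f.hom)
    (rY₁ rY₂ : QY ⟶ V) (hQY : IsPullback rY₁.hom rY₂.hom (f ≫ g).hom (f ≫ g).hom)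
    (d : QX ⟶ QY) (hd₁ : d ≫ rY₁ = rX₁) (hd₂ : d ≫ rY₂ = rX₂)
    (hdcl : AlgSp.RepWith @IsClosedImmersion d.hom) : AlgSp.IsSeparatedMor g.hom := by
  obtain ⟨hj, hf, T, Q, i, p₁, p₂, hi, sqQ, hp₁⟩ := hsq
  haveI := hp₁
  haveI := AlgSpLib.mono_of_openImmersion hj
  have hje := AlgSpLib.isEtaleMor_of_openImmersion hj
  let κ := ULift.{u} Bool
  let A : κ → Space S := fun k => match k.down with | false => U | true => V
  let a : ∀ k, (A k).obj ⟶ X.obj := fun k => match k with | ⟨false⟩ => j.hom | ⟨true⟩ => f.hom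
  have hae : ∀ k, IsEtaleMor (a k) := by rintro ⟨_ | _⟩; exacts [hje, hf]
  have has : ∀ x : Points X.obj, ∃ k, x ∈ Set.range (Points.map (a k)) := by
    intro x
    by_cases hx : x ∈ Set.range (Points.map j.hom)
    · exact ⟨⟨false⟩, hx⟩
    · obtain ⟨t, rfl⟩ : x ∈ Set.range (Points.map i) := by rw [hi.2.1]; exact hx
      refine ⟨⟨true⟩, Points.map (inv p₁ ≫ p₂) t, ?_⟩
      change Points.map f.hom _ = _
      rw [← Points.map_comp, Category.assoc, ← sqQ.w, IsIso.inv_hom_id_assoc]
  let m : ∀ k : κ × κ, pullback (a k.1 ≫ g.hom) (a k.2 ≫ g.hom) ⟶ pullback g.hom g.hom := fun k =>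
    pullback.map _ _ _ _ (a k.1) (a k.2) (𝟙 _) (Category.comp_id _) (Category.comp_id _)
  have hXX := AlgSpLib.isAlgSpace_pullback X.property X.property Y.property g.hom g.hom
  have hm : ∀ k : κ × κ, _ := fun k =>
    map_etale_surjective (A k.1).property (A k.2).property X.property Y.property g.hom (hae k.1) (hae k.2)
  have hcov : IsFppfCover (fun k : κ × κ => pullback (a k.1 ≫ g.hom) (a k.2 ≫ g.hom)) m := by
    refine ⟨fun k => ⟨?_, ?_⟩, fun z => ?_⟩
    · intro U₁ V₁ b b' h h₁ h₂ e
      have := (AlgSpLib.locP_etale_iff hXX).2 (hm k).1 b b' h h₁ h₂ e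
      infer_instance
    · intro U₁ V₁ b b' h h₁ h₂ e
      have := (AlgSpLib.locP_etale_iff hXX).2 (hm k).1 b b' h h₁ h₂ e
      infer_instance
    · obtain ⟨k₁, hk₁⟩ := has (Points.map (pullback.fst g.hom g.hom) z)
      obtain ⟨k₂, hk₂⟩ := has (Points.map (pullback.snd g.hom g.hom) z)
      exact ⟨(k₁, k₂), (hm (k₁, k₂)).2 z hk₁ hk₂⟩
  refine AlgSpLib.repWith_imm_of_fppf (Or.inl rfl) hXX
    (fun k => AlgSpLib.isAlgSpace_pullback (A k.1).property (A k.2).property Y.property _ _) hcov X.property
    (fun k : κ × κ => pullback_map_diagonal_isPullback (a k.1) (a k.2) g.hom) ?_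
  have hjg : RepWith @IsClosedImmersion (pullback.diagonal (j.hom ≫ g.hom)) := hU
  have hfg : RepWith @IsClosedImmersion (pullback.diagonal (f.hom ≫ g.hom)) := hV
  have key : RepWith @IsClosedImmersion c.hom := by
    refine closedImmersion_of_immersion (immersion_of_comp_openImmersion PY.property (q := qY.hom) ?_ ?_) ?_
    · have e : c.hom ≫ qY.hom = qX.hom := congrArg (fun t => t.hom) hc₂
      rw [e]
      exact AlgSpLib.repWith_of_isPullback hPX hj
    · exact AlgSpLib.repWith_diagonal_of_isPullback hPY hjg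
    · simpa [Set.image_univ] using hcl _ isClosed_univ
  have hcp : c.hom ≫ pY.hom = pX.hom := congrArg (fun t => t.hom) hc₁
  have hcq : c.hom ≫ qY.hom = qX.hom := congrArg (fun t => t.hom) hc₂
  rintro ⟨⟨_ | _⟩, ⟨_ | _⟩⟩
  · have e : pullback.mapDesc j.hom j.hom g.hom =
        pullback.fst j.hom j.hom ≫ pullback.diagonal (j.hom ≫ g.hom) := by
      refine pullback.hom_ext ?_ ?_
      · rw [pullback.lift_fst, Category.assoc, pullback.diagonal_fst]
      · rw [pullback.lift_snd, Category.assoc, pullback.diagonal_snd, Category.comp_id, Category.comp_id,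
          ← cancel_mono j.hom]
        exact pullback.condition.symm
    change RepWith @IsClosedImmersion (pullback.mapDesc j.hom j.hom g.hom)
    rw [e]
    exact AlgSpLib.repWith_comp (AlgSpLib.repWith_of_isIso _) hjg
  · have e : pullback.mapDesc j.hom f.hom g.hom =
        hPX.isoPullback.inv ≫ c.hom ≫ hPY.isoPullback.hom := by
      rw [Iso.eq_inv_comp]
      refine pullback.hom_ext ?_ ?_
      · simp only [Category.assoc, pullback.lift_fst, Category.comp_id]
        erw [IsPullback.isoPullback_hom_fst, IsPullback.isoPullback_hom_fst]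
        exact hcp.symm
      · simp only [Category.assoc, pullback.lift_snd, Category.comp_id]
        erw [IsPullback.isoPullback_hom_snd, IsPullback.isoPullback_hom_snd]
        exact hcq.symm
    change RepWith @IsClosedImmersion (pullback.mapDesc j.hom f.hom g.hom)
    rw [e]
    exact AlgSpLib.repWith_comp (AlgSpLib.repWith_of_isIso _)
      (AlgSpLib.repWith_comp key (AlgSpLib.repWith_of_isIso _))
  · have e : pullback.mapDesc f.hom j.hom g.hom =
        hPX.flip.isoPullback.inv ≫ c.hom ≫ hPY.flip.isoPullback.hom := by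
      rw [Iso.eq_inv_comp]
      refine pullback.hom_ext ?_ ?_
      · simp only [Category.assoc, pullback.lift_fst, Category.comp_id]
        erw [IsPullback.isoPullback_hom_fst, IsPullback.isoPullback_hom_fst]
        exact hcq.symm
      · simp only [Category.assoc, pullback.lift_snd, Category.comp_id]
        erw [IsPullback.isoPullback_hom_snd, IsPullback.isoPullback_hom_snd]
        exact hcp.symm
    change RepWith @IsClosedImmersion (pullback.mapDesc f.hom j.hom g.hom)
    rw [e]
    exact AlgSpLib.repWith_comp (AlgSpLib.repWith_of_isIso _)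
      (AlgSpLib.repWith_comp key (AlgSpLib.repWith_of_isIso _))
  · have hd₁' : d.hom ≫ rY₁.hom = rX₁.hom := congrArg (fun t => t.hom) hd₁
    have hd₂' : d.hom ≫ rY₂.hom = rX₂.hom := congrArg (fun t => t.hom) hd₂
    have e : pullback.mapDesc f.hom f.hom g.hom =
        hQX.isoPullback.inv ≫ d.hom ≫ hQY.isoPullback.hom := by
      rw [Iso.eq_inv_comp]
      refine pullback.hom_ext ?_ ?_
      · simp only [Category.assoc, pullback.lift_fst, Category.comp_id]
        erw [IsPullback.isoPullback_hom_fst, IsPullback.isoPullback_hom_fst]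
        exact hd₁'.symm
      · simp only [Category.assoc, pullback.lift_snd, Category.comp_id]
        erw [IsPullback.isoPullback_hom_snd, IsPullback.isoPullback_hom_snd]
        exact hd₂'.symm
    change RepWith @IsClosedImmersion (pullback.mapDesc f.hom f.hom g.hom)
    rw [e]
    exact AlgSpLib.repWith_comp (AlgSpLib.repWith_of_isIso _)
      (AlgSpLib.repWith_comp hdcl (AlgSpLib.repWith_of_isIso _))

end Groth.Agent.S10698
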