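import Groth.Statements.S1070
import Groth.Agent.KoszOrthLib.PnPC

set_option autoImplicit false
set_option backward.isDefEq.respectTransparency false
set_option backward.isDefEq.respectTransparency.types false
universe u
open CategoryTheory CategoryTheory.Limits AlgebraicGeometry Opposite
attribute [local instance] HasDerivedCategory.standard
open Perf

namespace Groth.Agent.S1070

/-- Let A be a ring, X = P^n_A with structure morphism π : X ⟶ Spec A, and K ∈ D(O_X) with
quasi-coherent cohomology sheaves. Assuming Rπ_* and the derived functors - ⊗^L O_X(d) exist, K is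
pseudo-coherent (m-pseudo-coherent for all m) if and only if Rπ_*(K ⊗^L O_X(d)) is pseudo-coherent
on Spec A for each d = 0, 1, …, n. (The source states (5) with RΓ(X, -) in D(A); on the affine
scheme Spec A the two formulations correspond under D(A) ≃ D_QCoh(Spec A).) -/
theorem result (n : ℕ) (A : Type u) [CommRing A]
    [DCoh.HasRpush (CohB1.ProjSpace.toSpec n A)] [∀ d : ℤ, DCoh.HasLTensorMod (Twist.twistProjSpace n A d)]
    (K : DCoh.D (CohB1.ProjSpace n A)) (hK : DCoh.IsQCohD K) :
    (∀ m : ℤ, DCoh.IsPseudoCoherentD m K) ↔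
      ∀ d : ℕ, d ≤ n → ∀ m : ℤ, DCoh.IsPseudoCoherentD m
        ((DCoh.Rpush (CohB1.ProjSpace.toSpec n A)).obj ((DCoh.LTensorMod (Twist.twistProjSpace n A (d : ℤ))).obj K)) := by
  obtain ⟨hp, hfl, hl⟩ := Groth.Agent.KoszOrthLib.projSpace_hyps n A
  haveI := hp
  haveI := hfl
  haveI := hl
  obtain ⟨_, _⟩ := QRlimLib.exists_isTriangulated_rpush (CohB1.ProjSpace.toSpec n A)
  constructor
  · intro h d _ m
    have hL := PicPnLib.twist_inv n A (d : ℤ)
    obtain ⟨hq, hfp, hfl'⟩ := CohCmpLib.rank_one_hyps (CohB1.ProjSpace.toSpec n A)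
      ((CohCmpLib.invertible_iff_rank_one _).1 hL)
    haveI := hq
    exact KiehlLib.isPC_rpush_lTensor (CohB1.ProjSpace.toSpec n A) _ hfp hfl' K h m
  · intro h m
    refine Groth.Agent.KoszOrthLib.isPC_of_twPC n A hK (fun d hd j => ?_) m
    obtain ⟨e⟩ := Groth.Agent.KoszOrthLib.nonempty_LTensorMod_iso_TD (Twist.twistProjSpace n A (d : ℤ))
    exact Groth.Agent.PerfLib.isPC_of_iso ((DCoh.Rpush _).mapIso (e.app K)) (h d hd j)

end Groth.Agent.S1070
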