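import Groth.Statements.S10701
import Groth.Agent.SpPushLib.Glue
-- import your own Groth.Agent.* helpers here

set_option autoImplicit false
set_option backward.isDefEq.respectTransparency false
set_option backward.isDefEq.respectTransparency.types false
universe u
open CategoryTheory CategoryTheory.Limits AlgebraicGeometry
open AlgSp

namespace Groth.Agent.S10701

/-- Let `t : X → X'` be a thickening of algebraic spaces over `S` and `f : X → Y` an affine morphism of
algebraic spaces over `S`. Then there is a pushout `Y' = Y ⨿_X X'` in the category of algebraic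
spaces over `S`, and `Y → Y'` is a thickening. (The accompanying description of the structure sheaf
of `Y'` on the small etale site as the fibre product of the structure sheaves of `Y` and `X'` over
that of `X` is not restated here.) -/
theorem result {S : Scheme.{u}} {X X' Y : AlgSp.Space S} (t : X ⟶ X')
    (ht : AlgSp.IsThickMor t.hom) (f : X ⟶ Y) (hf : AlgSp.IsAffineMor f.hom) :
    ∃ (Y' : AlgSp.Space S) (f' : X' ⟶ Y') (t' : Y ⟶ Y'), IsPushout t f f' t' ∧ AlgSp.IsThickMor t'.hom := by
  obtain ⟨H', f', t', hH', htt, hc, -, huniv⟩ := Groth.Agent.SpPush.exists_glueChart X.property X'.property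
    Y.property ht (AlgSpLib.isAffineMor_iff.1 hf)
  let E : AlgSp.Space S := ⟨H', hH'⟩
  let fE : X' ⟶ E := ObjectProperty.homMk f'
  let tE : Y ⟶ E := ObjectProperty.homMk t'
  have hw : t ≫ fE = f ≫ tE := ObjectProperty.hom_ext _ hc
  choose m hm huq using fun s : PushoutCocone t f =>
    huniv s.pt s.inl.hom s.inr.hom (congrArg (fun k : X ⟶ s.pt => k.hom) s.condition)
  exact ⟨E, fE, tE, ⟨⟨hw⟩, ⟨PushoutCocone.IsColimit.mk hw (fun s => ObjectProperty.homMk (m s))
    (fun s => ObjectProperty.hom_ext _ (hm s).1) (fun s => ObjectProperty.hom_ext _ (hm s).2)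
    (fun s k h1 h2 => ObjectProperty.hom_ext _ (huq s k.hom ⟨congrArg (fun k : X' ⟶ s.pt => k.hom) h1,
      congrArg (fun k : Y ⟶ s.pt => k.hom) h2⟩))⟩⟩, htt⟩

end Groth.Agent.S10701
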