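import Groth.Statements.S10702
import Groth.Agent.AlgSpLib.SheafDesc
import Groth.Agent.AlgSpLib.LocP
import Groth.Agent.AlgSpLib.Points

set_option autoImplicit false
universe u
open CategoryTheory CategoryTheory.Limits AlgebraicGeometry
open AlgSp

namespace Groth.Agent.S10702

/-- Consider a commutative diagram of algebraic spaces over `S` with top row `A → C → E`, bottom row `B
→ D → F` and vertical maps `A → B`, `C → D`, `E → F`. If the left square and the outer rectangle are
cartesian and `B → D` is surjective etale, then the right square is cartesian. -/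
theorem result {S : Scheme.{u}} {A B C D E F : AlgSp.Space S} (ac : A ⟶ C) (ab : A ⟶ B)
    (cd : C ⟶ D) (bd : B ⟶ D) (ce : C ⟶ E) (df : D ⟶ F) (ef : E ⟶ F)
    (hl : IsPullback ac.hom ab.hom cd.hom bd.hom) (hcomm : cd ≫ df = ce ≫ ef)
    (hout : IsPullback (ac ≫ ce).hom ab.hom ef.hom (bd ≫ df).hom) (hsurj : AlgSp.IsSurjectiveMor bd.hom)
    (het : AlgSp.IsEtaleMor bd.hom) : IsPullback ce.hom cd.hom ef.hom df.hom := by
  have hc : cd.hom ≫ df.hom = ce.hom ≫ ef.hom := congrArg (fun t => t.hom) hcomm
  have hout' : IsPullback (ac.hom ≫ ce.hom) ab.hom ef.hom (bd.hom ≫ df.hom) := hout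
  have hP := AlgSpLib.isAlgSpace_pullback D.property E.property F.property df.hom ef.hom
  have sqP := IsPullback.of_hasPullback df.hom ef.hom
  let k : C.obj ⟶ pullback df.hom ef.hom := pullback.lift cd.hom ce.hom hc
  have sqQ := IsPullback.of_hasPullback bd.hom (pullback.fst df.hom ef.hom)
  have hQ := AlgSpLib.isAlgSpace_pullback B.property hP D.property bd.hom (pullback.fst df.hom ef.hom)
  haveI : Sheaf.IsLocallySurjective (pullback.snd bd.hom (pullback.fst df.hom ef.hom)) :=
    AlgSpLib.isLocallySurjective_of_etale_surjective hQ hP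
      (AlgSpLib.isEtaleMor_of_isPullback B.property D.property hP sqQ het)
      (AlgSpLib.map_surjective_of_isPullback sqQ hsurj)
  let j : A.obj ⟶ pullback bd.hom (pullback.fst df.hom ef.hom) :=
    pullback.lift ab.hom (ac.hom ≫ k) (by rw [Category.assoc, pullback.lift_fst]; exact hl.w.symm)
  haveI : IsIso j := by
    have big := sqQ.flip.paste_horiz sqP.flip
    have e : j = (hout'.isoIsPullback _ _ big).hom := by
      apply big.hom_ext
      · rw [IsPullback.isoIsPullback_hom_fst, pullback.lift_snd_assoc, Category.assoc, pullback.lift_snd]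
      · rw [IsPullback.isoIsPullback_hom_snd, pullback.lift_fst]
    rw [e]; infer_instance
  have sq : IsPullback ac.hom j k (pullback.snd bd.hom (pullback.fst df.hom ef.hom)) :=
    (IsPullback.of_right (by rw [pullback.lift_fst, pullback.lift_fst]; exact hl.flip) (pullback.lift_snd _ _ _) sqQ).flip
  haveI : IsIso k := AlgSpLib.isIso_of_isPullback sq
  exact IsPullback.of_iso sqP.flip (asIso k).symm (Iso.refl _) (Iso.refl _) (Iso.refl _)
    (by simp only [asIso_hom, Iso.symm_hom, asIso_inv, Iso.refl_hom, Category.comp_id]; rw [IsIso.eq_inv_comp]; exact pullback.lift_snd _ _ _) (by simp only [asIso_hom, Iso.symm_hom, asIso_inv, Iso.refl_hom, Category.comp_id]; rw [IsIso.eq_inv_comp]; exact pullback.lift_fst _ _ _) (by simp) (by simp)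

end Groth.Agent.S10702
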