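import Groth.Statements.S10704
import Groth.Agent.AlgSpLib.FpqcMore
import Groth.Agent.AlgSpLib.ImmLocal
import Groth.Agent.AlgSpLib.Qc
import Mathlib.Topology.Spectral.ConstructibleTopology
import Mathlib.AlgebraicGeometry.Morphisms.FinitePresentation

set_option autoImplicit false
set_option backward.isDefEq.respectTransparency false
set_option backward.isDefEq.respectTransparency.types false
universe u
open CategoryTheory CategoryTheory.Limits AlgebraicGeometry
open AlgSp

namespace Groth.Agent.S10704


variable {S : Scheme.{u}}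

theorem isCompact_of_isConstructible' {X : Type u} [TopologicalSpace X] [CompactSpace X] [QuasiSeparatedSpace X]
    [PrespectralSpace X] {C : Set X} (hC : Topology.IsConstructible C) : IsCompact C := by
  rcases isEmpty_or_nonempty X with hX | hX
  · rw [Set.eq_empty_of_isEmpty C]; exact isCompact_empty
  let T := {V : Set X | IsOpen V ∧ IsCompact V}
  haveI : Nonempty T := ⟨⟨Set.univ, isOpen_univ, CompactSpace.isCompact_univ⟩⟩
  induction C, hC using Topology.IsConstructible.induction_of_isTopologicalBasis (b := fun V : T => (V : Set X)) with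
  | basis => simpa [T] using (PrespectralSpace.isTopologicalBasis (X := X))
  | isCompact_basis i => exact i.2.2
  | sdiff i s hs => exact i.2.2.diff (isOpen_biUnion fun j _ => j.2.1)
  | union s hs t ht h1 h2 => exact h1.union h2

theorem isFpqcCover_finite_affine {κ : Type u} [Finite κ] {E : Over S} [IsAffine E.left] {P : κ → Over S}
    (p : ∀ k, P k ⟶ E) [∀ k, IsAffine (P k).left] (hp : ∀ k, Flat (p k).left)
    (hs : ∀ e : E.left, ∃ k, e ∈ Set.range (p k).left) :
    IsFpqcCover (fun k => (yon S).obj (P k)) (fun k => (yon S).map (p k)) := by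
  have : Fintype κ := Fintype.ofFinite κ
  refine ⟨fun k => (AlgSpLib.locP_yon_map_iff (P := (@Flat : MorphismProperty Scheme.{u})) _).2 (hp k),
    fun Z hZ h => ?_⟩
  obtain ⟨h₀, rfl⟩ := (yon S).map_surjective h
  let e := Fintype.equivFin κ
  let Wz : κ → Over S := fun k => Over.mk (pullback.fst h₀.left (p k).left ≫ Z.hom)
  let cz : ∀ k, Wz k ⟶ Z := fun k => Over.homMk (pullback.fst h₀.left (p k).left) rfl
  let lz : ∀ k, Wz k ⟶ P k := fun k => Over.homMk (pullback.snd h₀.left (p k).left) (by
    change pullback.snd _ _ ≫ (P k).hom = pullback.fst _ _ ≫ Z.hom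
    rw [← Over.w (p k), ← Over.w h₀, pullback.condition_assoc])
  refine ⟨Fintype.card κ, fun r => Wz (e.symm r), fun r => cz (e.symm r), fun r => ?_, fun r => ?_, fun z => ?_,
    fun r => ⟨e.symm r, (yon S).map (lz (e.symm r)), ?_⟩⟩
  · exact inferInstanceAs (IsAffine (pullback h₀.left (p (e.symm r)).left))
  · have := hp (e.symm r)
    exact inferInstanceAs (Flat (pullback.fst h₀.left (p (e.symm r)).left))
  · obtain ⟨k, w, hw⟩ := hs (h₀.left z)
    obtain ⟨v, hv, -⟩ := Scheme.Pullback.exists_preimage_pullback (f := h₀.left) (g := (p k).left) z w hw.symm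
    refine ⟨e k, ?_⟩
    change z ∈ Set.range (cz (e.symm (e k))).left
    rw [e.symm_apply_apply]
    exact ⟨v, hv⟩
  · rw [← Functor.map_comp, ← Functor.map_comp]
    exact congrArg _ (Over.OverMorphism.ext pullback.condition.symm)

theorem flat_localization_of_stalks {A B : CommRingCat.{u}} (φ : A ⟶ B) (J : Ideal B) (M : Submonoid B)
    (hM : ∀ b, b ∈ M ↔ b - 1 ∈ J)
    (h : ∀ x : Spec B, J ≤ x.asIdeal → ((Spec.map φ).stalkMap x).hom.Flat) :
    (φ ≫ CommRingCat.ofHom (algebraMap B (Localization M))).hom.Flat := by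
  algebraize [φ.hom, (φ ≫ CommRingCat.ofHom (algebraMap B (Localization M))).hom]
  haveI : IsScalarTower A B (Localization M) := IsScalarTower.of_algebraMap_eq fun _ => rfl
  refine RingHom.flat_algebraMap_iff.2 ?_
  refine Module.flat_of_isLocalized_maximal (R := A) (S := Localization M) (M := Localization M)
    (fun P _ => Localization.AtPrime P) (fun P _ => Algebra.linearMap (Localization M) (Localization.AtPrime P))
    fun P hP => ?_
  let p : Ideal B := P.comap (algebraMap B (Localization M))
  have hdisj : ∀ b ∈ M, b ∉ p := fun b hb hbp =>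
    hP.ne_top (Ideal.eq_top_of_isUnit_mem _ hbp (IsLocalization.map_units (Localization M) (⟨b, hb⟩ : M)))
  have hJp : J ≤ p := by
    intro b hb
    by_contra hbp
    have hne : p ⊔ J ≠ ⊤ := fun he => by
      obtain ⟨x, hx, y, hy, hxy⟩ := Submodule.mem_sup.1 (he ▸ (Submodule.mem_top : (1 : B) ∈ ⊤))
      refine hdisj x ((hM x).2 ?_) hx
      have : x - 1 = -y := by rw [← hxy]; ring
      rw [this]
      exact J.neg_mem hy
    obtain ⟨m, hm, hle⟩ := Ideal.exists_le_maximal _ hne
    have hd : Disjoint (M : Set B) (m : Set B) := Set.disjoint_left.2 fun x hxM hxm => hm.ne_top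
      (m.eq_top_iff_one.2 (by simpa using m.sub_mem hxm (le_sup_right.trans hle ((hM x).1 hxM))))
    have hprime := IsLocalization.isPrime_of_isPrime_disjoint M (Localization M) m hm.isPrime hd
    have hPle : P ≤ m.map (algebraMap B (Localization M)) := by
      conv_lhs => rw [← IsLocalization.map_comap M (Localization M) P]
      exact Ideal.map_mono (le_sup_left.trans hle)
    rw [← hP.eq_of_le hprime.ne_top hPle] at hprime
    have hpm : p = m := by
      change P.comap _ = m
      rw [hP.eq_of_le (IsLocalization.isPrime_of_isPrime_disjoint M (Localization M) m hm.isPrime hd).ne_top hPle]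
      exact IsLocalization.comap_map_of_isPrime_disjoint M (Localization M) hm.isPrime hd
    exact hbp (hpm ▸ le_sup_right.trans hle hb)
  let x : PrimeSpectrum B := ⟨p, inferInstance⟩
  let st := (Spec.structureSheaf B).presheaf.stalk x
  have hflat : (φ ≫ StructureSheaf.toStalk B x).hom.Flat := by
    have h1 : Flat (Spec.map ((Spec.map φ).stalkMap x)) := Flat.SpecMap_iff.2 (h x hJp)
    have h2 : Flat ((Spec A).fromSpecStalk (Spec.map φ x)) := by
      rw [Spec.fromSpecStalk_eq']
      exact Flat.SpecMap_iff.2 (RingHom.flat_algebraMap_iff.2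
        (IsLocalization.flat ((Spec.structureSheaf A).presheaf.stalk (Spec.map φ x))
          (PrimeSpectrum.asIdeal (Spec.map φ x)).primeCompl))
    have h3 : Flat (Spec.map ((Spec.map φ).stalkMap x) ≫ (Spec A).fromSpecStalk (Spec.map φ x)) := inferInstance
    rw [Scheme.SpecMap_stalkMap_fromSpecStalk, Spec.fromSpecStalk_eq'] at h3
    erw [← Spec.map_comp] at h3
    exact Flat.SpecMap_iff.1 h3
  haveI : IsLocalization.AtPrime (Localization.AtPrime P) p :=
    IsLocalization.isLocalization_isLocalization_atPrime_isLocalization M (Localization.AtPrime P) P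
  letI : Algebra A st := ((algebraMap B st).comp φ.hom).toAlgebra
  haveI : IsScalarTower A B st := IsScalarTower.of_algebraMap_eq fun _ => rfl
  haveI : IsScalarTower A B (Localization.AtPrime P) := IsScalarTower.of_algebraMap_eq fun a => by
    rw [IsScalarTower.algebraMap_apply A (Localization M) (Localization.AtPrime P),
      IsScalarTower.algebraMap_apply A B (Localization M),
      ← IsScalarTower.algebraMap_apply B (Localization M) (Localization.AtPrime P)]
  haveI : IsLocalization p.primeCompl st := StructureSheaf.IsLocalization.to_stalk B x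
  haveI : Module.Flat A st := RingHom.flat_algebraMap_iff.1 (show (algebraMap A st).Flat from hflat)
  exact Module.Flat.of_linearEquiv
    ((IsLocalization.algEquiv p.primeCompl (Localization.AtPrime P) st).restrictScalars A).toLinearEquiv

theorem exists_affine_piece {X : Sp S} {Z : Sp S} {i : Z ⟶ X} (hi : RepWith @IsClosedImmersion i)
    (hifp : LocP @LocallyOfFinitePresentation i) (hX : IsAlgSpace X) (hZ : IsAlgSpace Z)
    {E : Over S} [IsAffine E.left] (e : (yon S).obj E ⟶ X) :
    IsCompact (Points.ofPt e ⁻¹' Set.range (Points.map i))ᶜ ∧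
      IsClosed (Points.ofPt e ⁻¹' Set.range (Points.map i)) := by
  have sq := hi.rep.isPullback e
  let K := hi.rep.pullback e
  haveI : IsClosedImmersion (hi.rep.snd e).left := hi.property e _ _ sq
  haveI : LocallyOfFinitePresentation (hi.rep.snd e).left :=
    AlgSpLib.locP_of_isPullback hZ hX (IsAlgSpace.yon_obj E) sq hifp (𝟙 _) (𝟙 _) (hi.rep.snd e)
      (repWith_id _ K) (repWith_id _ E) (by simp)
  have eq : Points.ofPt e ⁻¹' Set.range (Points.map i) = Set.range (hi.rep.snd e).left := by
    have hr := AlgSpLib.range_map_of_isPullback sq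
    ext t
    rw [Set.mem_preimage, AlgSpLib.ofPt_comp_ofScheme, Function.comp_apply, ← Set.mem_preimage, ← hr,
      ← AlgSpLib.range_ofPt]
    constructor
    · rintro ⟨w, hw⟩
      refine ⟨w, (Points.schemeHomeo E).injective (Eq.trans ?_ hw)⟩
      change Points.ofPt (𝟙 _) _ = _
      rw [← AlgSpLib.ofPt_yon_comp, Category.comp_id]
    · rintro ⟨w, rfl⟩
      refine ⟨w, ?_⟩
      change _ = Points.ofPt (𝟙 _) _
      rw [← AlgSpLib.ofPt_yon_comp, Category.comp_id]
  rw [eq]
  refine ⟨isCompact_of_isConstructible' (Topology.IsConstructible.compl ?_),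
    (hi.rep.snd e).left.isClosedEmbedding.isClosed_range⟩
  rw [← Set.image_univ]
  exact (hi.rep.snd e).left.isConstructible_image Topology.IsConstructible.univ


/-- Let `f : Y → X` be a quasi-compact quasi-separated morphism of algebraic spaces over `S`, `i : Z →
X` a closed immersion of finite presentation such that `f⁻¹Z → Z` is an isomorphism and `f` is flat
at every point of `|f⁻¹Z|`, and let `U ⊂ X` be the open subspace complementary to `Z`. Then there is
an fpqc covering `{X_k → X}` refining the family `{U → X, Y → X}`: every `X_k → X` factors through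
`U` or through `Y`. -/
theorem result {S : Scheme.{u}} {X Y Z FZ U : AlgSp.Space S} (f : Y ⟶ X)
    (hqc : AlgSp.IsQuasiCompactMor f.hom) (hqs : AlgSp.IsQuasiSeparatedMor f.hom) (i : Z ⟶ X)
    (hi : AlgSp.RepWith @IsClosedImmersion i.hom) (hifp : AlgSp.LocP @LocallyOfFinitePresentation i.hom)
    (iY : FZ ⟶ Y) (fZ : FZ ⟶ Z) (hFZ : IsPullback iY.hom fZ.hom f.hom i.hom) [IsIso fZ]
    (hflat : ∀ y ∈ Set.range (AlgSp.Points.map iY.hom), AlgSp.IsFlatAtMor f.hom y) (j : U ⟶ X)
    (hj : AlgSp.RepWith @IsOpenImmersion j.hom)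
    (hU : Set.range (AlgSp.Points.map j.hom) = (Set.range (AlgSp.Points.map i.hom))ᶜ) :
    ∃ (ι : Type u) (W : ι → AlgSp.Space S) (w : ∀ k, W k ⟶ X),
      AlgSp.IsFpqcCover (fun k => (W k).obj) (fun k => (w k).hom) ∧
        ∀ k, (∃ l : W k ⟶ U, l ≫ j = w k) ∨ (∃ l : W k ⟶ Y, l ≫ f = w k) := by
  obtain ⟨X₀, a, ha, has⟩ := X.property.atlas
  let κ := X₀.left.affineOpens
  let E : κ → Over S := fun O => Over.mk (O.2.fromSpec ≫ X₀.hom)
  let ιE : ∀ O, E O ⟶ X₀ := fun O => Over.homMk O.2.fromSpec rfl
  let e : ∀ O, (yon S).obj (E O) ⟶ X.obj := fun O => (yon S).map (ιE O) ≫ a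
  haveI hEA : ∀ O, IsAffine (E O).left := fun O => inferInstanceAs (IsAffine (Spec Γ(X₀.left, O.1)))
  have he : ∀ O, RepWith @Etale (e O) := fun O => AlgSpLib.repWith_comp
    ((repWith_yon_map_iff (P := (@Etale : MorphismProperty Scheme.{u})) (ιE O)).2
      (inferInstanceAs (Etale O.2.fromSpec))) ha
  have hes : ∀ x : Points X.obj, ∃ O, x ∈ Set.range (Points.map (e O)) := fun x => by
    obtain ⟨t, rfl⟩ := AlgSpLib.surjective_ofPt has x
    obtain ⟨O, hO, ht, -⟩ := exists_isAffineOpen_mem_and_subset (U := ⊤) (x := t) trivial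
    obtain ⟨s, rfl⟩ : t ∈ Set.range hO.fromSpec := by rw [hO.range_fromSpec]; exact ht
    refine ⟨⟨O, hO⟩, ?_⟩
    rw [← AlgSpLib.range_ofPt]
    exact ⟨s, AlgSpLib.ofPt_yon_comp (ιE ⟨O, hO⟩) a s⟩
  have hκcov : IsFpqcCover (fun O => (yon S).obj (E O)) e :=
    AlgSpLib.isFpqcCover_of_isFppfCover X.property (fun O => IsAlgSpace.yon_obj _)
      (AlgSpLib.isFppfCover_of_charts e he hes)
  have hpieces : ∀ O : κ, ∃ (I : Type u) (_ : Finite I) (P : I → Over S) (p : ∀ n, P n ⟶ E O),
      (∀ n, IsAffine (P n).left) ∧ (∀ n, Flat (p n).left) ∧ (∀ x : (E O).left, ∃ n, x ∈ Set.range (p n).left) ∧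
      ∀ n, (∃ l, l ≫ j.hom = (yon S).map (p n) ≫ e O) ∨ ∃ l, l ≫ f.hom = (yon S).map (p n) ≫ e O := by
    intro O
    obtain ⟨hcpt, hTcl⟩ := exists_affine_piece hi hifp X.property Z.property (e O)
    let T : Set (E O).left := Points.ofPt (e O) ⁻¹' Set.range (Points.map i.hom)
    let C : (E O).left.Opens := ⟨Tᶜ, hTcl.isOpen_compl⟩
    haveI : CompactSpace C.toScheme := isCompact_iff_compactSpace.1 hcpt
    let 𝒰 := C.toScheme.affineCover.finiteSubcover
    -- the chart of `Y` over `E O`
    have sq := IsPullback.of_hasPullback f.hom (e O)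
    obtain ⟨W₀, c₀, hW₀, hc₀, hc₀s⟩ := AlgSpLib.exists_affine_chart
      (hqc (IsAlgSpace.yon_obj (E O)) (AlgSpLib.isQuasiCompactSp_yon (E O)) (e O) _ _ sq)
    haveI : IsAffine W₀.left := hW₀
    let B := Γ(W₀.left, ⊤)
    let W : Over S := Over.mk (W₀.left.isoSpec.inv ≫ W₀.hom)
    let w₀ : W ⟶ W₀ := Over.homMk W₀.left.isoSpec.inv rfl
    let c : (yon S).obj W ⟶ pullback f.hom (e O) := (yon S).map w₀ ≫ c₀
    have hw₀ : RepWith @Etale ((yon S).map w₀) :=
      (repWith_yon_map_iff (P := (@Etale : MorphismProperty Scheme.{u})) w₀).2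
        (inferInstanceAs (Etale W₀.left.isoSpec.inv))
    have hc : RepWith @Etale c := AlgSpLib.repWith_comp hw₀ hc₀
    have hcs : RepWith @Surjective c := AlgSpLib.repWith_comp
      ((repWith_yon_map_iff (P := (@Surjective : MorphismProperty Scheme.{u})) w₀).2
        (inferInstanceAs (Surjective W₀.left.isoSpec.inv))) hc₀s
    obtain ⟨h, hh⟩ := (yon S).map_surjective (c ≫ pullback.snd f.hom (e O))
    let φY := c ≫ pullback.fst f.hom (e O)
    have hφY : RepWith @Etale φY :=
      AlgSpLib.repWith_comp hc (AlgSpLib.repWith_of_isPullback sq.flip (he O))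
    have hsq : φY ≫ f.hom = (yon S).map h ≫ e O := by
      rw [hh]
      exact ((Category.assoc _ _ _).trans (congrArg (c ≫ ·) pullback.condition)).trans (Category.assoc _ _ _).symm
    let hs : Spec B ⟶ Spec Γ(X₀.left, O.1) := h.left
    let φ := Spec.preimage hs
    have hφ : Spec.map φ = hs := Spec.map_preimage hs
    let J : Ideal B := PrimeSpectrum.vanishingIdeal (hs ⁻¹' T)
    have hJ : ∀ x : Spec B, J ≤ x.asIdeal → hs x ∈ T := fun x hx => by
      have : x ∈ PrimeSpectrum.zeroLocus (J : Set B) := hx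
      rw [PrimeSpectrum.zeroLocus_vanishingIdeal_eq_closure,
        (hTcl.preimage hs.continuous).closure_eq] at this
      exact this
    let M : Submonoid B :=
      { carrier := {b | b - 1 ∈ J}
        one_mem' := by simp
        mul_mem' := fun {x y} hx hy => by
          change x * y - 1 ∈ J
          rw [show x * y - 1 = x * (y - 1) + (x - 1) by ring]
          exact J.add_mem (J.mul_mem_left _ hy) hx }
    have hfl : (φ ≫ CommRingCat.ofHom (algebraMap B (Localization M))).hom.Flat := by
      refine flat_localization_of_stalks φ J M (fun _ => Iff.rfl) fun x hx => ?_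
      rw [hφ]
      obtain ⟨z, hz⟩ := hJ x hx
      obtain ⟨p, hp, -⟩ := AlgSpLib.exists_point_isPullback hFZ (Points.ofPt φY x) z (by
        rw [hz, Points.map_ofPt, hsq]
        exact AlgSpLib.ofPt_yon_comp h (e O) x)
      exact hflat _ ⟨p, hp⟩ φY (e O) h x hφY (he O) hsq rfl
    let g : Spec (CommRingCat.of (Localization M)) ⟶ Spec B :=
      Spec.map (CommRingCat.ofHom (algebraMap B (Localization M)))
    let Pl : Over S := Over.mk (g ≫ W.hom)
    let gl : Pl ⟶ W := Over.homMk g rfl

    refine ⟨Option 𝒰.I₀, inferInstance,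
      fun n => n.elim Pl (fun n => Over.mk ((𝒰.f n ≫ C.ι) ≫ (E O).hom)),
      fun n => match n with
        | none => gl ≫ h
        | some n => Over.homMk (𝒰.f n ≫ C.ι) rfl, ?_, ?_, ?_, ?_⟩
    · rintro (_ | n)
      · exact inferInstanceAs (IsAffine (Spec _))
      · exact inferInstanceAs (IsAffine (𝒰.X n))
    · rintro (_ | n)
      · change Flat (g ≫ hs)
        rw [← hφ, ← Spec.map_comp]
        exact Flat.SpecMap_iff.2 hfl
      · exact inferInstanceAs (Flat (𝒰.f n ≫ C.ι))
    · intro x
      by_cases hx : x ∈ T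
      · obtain ⟨z, hz⟩ := hx
        let y := Points.map iY.hom (Points.map (inv fZ).hom z)
        have hy : Points.map f.hom y = Points.ofPt (e O) x := by
          rw [← hz, ← Points.map_comp, hFZ.w, Points.map_comp, ← Points.map_comp (inv fZ).hom fZ.hom]
          have : (inv fZ).hom ≫ fZ.hom = 𝟙 _ := congrArg (fun t => t.hom) (IsIso.inv_hom_id fZ)
          rw [this, Points.map_id]
        obtain ⟨p, -, hp⟩ := AlgSpLib.exists_point_isPullback sq y (Points.schemeHomeo _ x) (by
          rw [hy, AlgSpLib.ofPt_comp_ofScheme]; rfl)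
        obtain ⟨w, rfl⟩ := AlgSpLib.surjective_ofPt hcs p
        have hwx : hs w = x := by
          rw [Points.map_ofPt, ← hh, ← Category.comp_id ((yon S).map h), AlgSpLib.ofPt_yon_comp] at hp
          exact (Points.schemeHomeo (E O)).injective hp
        have hwT : w ∈ hs ⁻¹' T := by rw [Set.mem_preimage, hwx]; exact ⟨z, hz⟩
        refine ⟨none, ?_⟩
        change x ∈ Set.range (g ≫ hs)
        have hwr : w ∈ Set.range g := by
          change w ∈ Set.range (PrimeSpectrum.comap (algebraMap B (Localization M)))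
          rw [PrimeSpectrum.localization_comap_range (Localization M) M]
          refine Set.disjoint_left.2 fun b hb hbw => w.isPrime.ne_top (w.asIdeal.eq_top_iff_one.2 ?_)
          have := (PrimeSpectrum.mem_vanishingIdeal _ _).1 hb w hwT
          simpa using w.asIdeal.sub_mem hbw this
        obtain ⟨v, rfl⟩ := hwr
        exact ⟨v, hwx⟩
      · obtain ⟨v, hv⟩ := 𝒰.covers ⟨x, hx⟩
        refine ⟨some (𝒰.idx ⟨x, hx⟩), v, ?_⟩
        change C.ι ((𝒰.f _) v) = x
        rw [hv]
        rfl
    · rintro (_ | n)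
      · refine Or.inr ⟨(yon S).map gl ≫ φY, ?_⟩
        rw [Category.assoc, hsq, ← Category.assoc, ← Functor.map_comp]
      · refine Or.inl ((AlgSpLib.exists_factor_iff hj _).2 ?_)
        rw [← AlgSpLib.range_ofPt, hU]
        rintro _ ⟨v, rfl⟩
        have : (C.ι ((𝒰.f n) v)) ∈ (C : Set (E O).left) := by
          rw [← Scheme.Opens.range_ι]; exact ⟨_, rfl⟩
        intro hv
        refine this ?_
        rw [Set.mem_preimage]
        erw [AlgSpLib.ofPt_yon_comp] at hv
        exact hv
  choose I hI P p hPA hpf hps hfac using hpieces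
  refine ⟨Σ O, I O, fun r => ⟨(yon S).obj (P r.1 r.2), IsAlgSpace.yon_obj _⟩,
    fun r => ⟨(yon S).map (p r.1 r.2) ≫ e r.1⟩, ?_, fun r => ?_⟩
  · exact AlgSpLib.isFpqcCover_sigma (gij := fun O n => (yon S).map (p O n)) X.property
      (fun O => IsAlgSpace.yon_obj (E O)) (fun O n => IsAlgSpace.yon_obj (P O n)) hκcov
      fun O => by
        haveI := hI O
        haveI := hPA O
        exact isFpqcCover_finite_affine (p O) (hpf O) (hps O)
  · rcases hfac r.1 r.2 with ⟨l, hl⟩ | ⟨l, hl⟩
    · exact Or.inl ⟨⟨l⟩, by ext : 1; exact hl⟩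
    · exact Or.inr ⟨⟨l⟩, by ext : 1; exact hl⟩

end Groth.Agent.S10704
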