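import Groth.Statements.S10705
import Groth.Agent.S10704
import Groth.Agent.AlgSpLib.Iso

set_option autoImplicit false
set_option backward.isDefEq.respectTransparency false
set_option backward.isDefEq.respectTransparency.types false
universe u
open CategoryTheory CategoryTheory.Limits AlgebraicGeometry
open AlgSp

namespace Groth.Agent.S10705


variable {S : Scheme.{u}}

theorem isIso_snd_of_factor {X₁ X₂ Q Q₁ T : Sp S} {a : X₁ ⟶ X₂} {q : Q ⟶ X₂} {a' : Q₁ ⟶ Q} {b : Q₁ ⟶ X₁}
    (h : IsPullback b a' a q) [IsIso a'] {g : T ⟶ X₂} (t : T ⟶ Q) (ht : t ≫ q = g) :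
    IsIso (pullback.snd a g) := by
  subst ht
  let r : pullback a (t ≫ q) ⟶ Q₁ :=
    h.lift (pullback.fst _ _) (pullback.snd _ _ ≫ t) (by rw [Category.assoc, pullback.condition])
  have sq : IsPullback r (pullback.snd a (t ≫ q)) a' t :=
    IsPullback.of_right (by rw [h.lift_fst]; exact IsPullback.of_hasPullback a (t ≫ q)) (h.lift_snd _ _ _) h
  exact MorphismProperty.of_isPullback (P := MorphismProperty.isomorphisms (Sp S)) sq ‹IsIso a'›


/-- Let `f : Y → X` be a quasi-compact quasi-separated morphism of algebraic spaces over `S`, `i : Z →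
X` a closed immersion of finite presentation such that `f⁻¹Z → Z` is an isomorphism and `f` is flat
at every point of `|f⁻¹Z|`, and let `U ⊂ X` be the open subspace complementary to `Z`. Let `a : X₁ →
X₂` be a morphism of algebraic spaces over `X`. If the base change of `a` to `U` and the base change
of `a` to `Y` are isomorphisms, then `a` is an isomorphism: the formal glueing functor reflects
isomorphisms. -/
theorem result {S : Scheme.{u}} {X Y Z FZ U : AlgSp.Space S} (f : Y ⟶ X)
    (hqc : AlgSp.IsQuasiCompactMor f.hom) (hqs : AlgSp.IsQuasiSeparatedMor f.hom) (i : Z ⟶ X)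
    (hi : AlgSp.RepWith @IsClosedImmersion i.hom) (hifp : AlgSp.LocP @LocallyOfFinitePresentation i.hom)
    (iY : FZ ⟶ Y) (fZ : FZ ⟶ Z) (hFZ : IsPullback iY.hom fZ.hom f.hom i.hom) [IsIso fZ]
    (hflat : ∀ y ∈ Set.range (AlgSp.Points.map iY.hom), AlgSp.IsFlatAtMor f.hom y) (j : U ⟶ X)
    (hj : AlgSp.RepWith @IsOpenImmersion j.hom)
    (hU : Set.range (AlgSp.Points.map j.hom) = (Set.range (AlgSp.Points.map i.hom))ᶜ)
    {X₁ X₂ QU QU₁ QY QY₁ : AlgSp.Space S} (p₂ : X₂ ⟶ X) (a : X₁ ⟶ X₂)
    (qU : QU ⟶ X₂) (rU : QU ⟶ U) (hQU : IsPullback qU.hom rU.hom p₂.hom j.hom) (aU : QU₁ ⟶ QU)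
    (bU : QU₁ ⟶ X₁) (hQU₁ : IsPullback bU.hom aU.hom a.hom qU.hom) [IsIso aU] (qY : QY ⟶ X₂) (rY : QY ⟶ Y)
    (hQY : IsPullback qY.hom rY.hom p₂.hom f.hom) (aY : QY₁ ⟶ QY) (bY : QY₁ ⟶ X₁)
    (hQY₁ : IsPullback bY.hom aY.hom a.hom qY.hom) [IsIso aY] : IsIso a := by
  obtain ⟨ι, W, w, hw, hfac⟩ := Groth.Agent.S10704.result f hqc hqs i hi hifp iY fZ hFZ hflat j hj hU
  let T : ι → Sp S := fun k => pullback (w k).hom p₂.hom
  have hT : ∀ k, IsAlgSpace (T k) := fun k =>
    AlgSpLib.isAlgSpace_pullback (W k).property X₂.property X.property _ _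
  have hcov := AlgSpLib.isFpqcCover_of_isPullback X.property X₂.property (fun k => (W k).property) hw
    (k := p₂.hom) fun k => IsPullback.of_hasPullback (w k).hom p₂.hom
  have h : IsIso a.hom := (AlgSpLib.isLocalOnBase_fpqc_isomorphisms S _ _ X₂.property hT hcov a.hom X₁.property _
    (fun k => pullback.snd a.hom (pullback.snd (w k).hom p₂.hom))
    (fun k => pullback.fst a.hom (pullback.snd (w k).hom p₂.hom))
    (fun k => AlgSpLib.isAlgSpace_pullback X₁.property (hT k) X₂.property _ _)
    fun k => IsPullback.of_hasPullback _ _).2 fun k => by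
      rcases hfac k with ⟨l, hl⟩ | ⟨l, hl⟩
      · haveI : IsIso aU.hom := inferInstanceAs (IsIso ((ObjectProperty.ι _).map aU))
        refine isIso_snd_of_factor hQU₁
          (hQU.lift (pullback.snd _ _) (pullback.fst _ _ ≫ l.hom) ?_) (hQU.lift_fst _ _ _)
        rw [Category.assoc, ← pullback.condition]
        exact congrArg _ (congrArg (fun t => t.hom) hl).symm
      · haveI : IsIso aY.hom := inferInstanceAs (IsIso ((ObjectProperty.ι _).map aY))
        refine isIso_snd_of_factor hQY₁
          (hQY.lift (pullback.snd _ _) (pullback.fst _ _ ≫ l.hom) ?_) (hQY.lift_fst _ _ _)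
        rw [Category.assoc, ← pullback.condition]
        exact congrArg _ (congrArg (fun t => t.hom) hl).symm
  haveI : IsIso ((ObjectProperty.ι _).map a) := h
  exact isIso_of_fully_faithful (ObjectProperty.ι _) a

end Groth.Agent.S10705
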