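import Groth.Statements.S10707
import Groth.Agent.GluePairHom.EqSpace

set_option autoImplicit false
universe u
open CategoryTheory CategoryTheory.Limits AlgebraicGeometry TensorProduct
open AlgSp

namespace Groth.Agent.S10707

/-- Let `(R → R', f)` be a glueing pair, `X = Spec R`, `U = Spec R_f`, `X' = Spec R'`, and let `Y`, `Z`
be algebraic spaces over `X` glueable for `(R → R', f)`. Two morphisms `a, b : Y → Z` over `X` whose
base changes to `U` agree and whose base changes to `X'` agree are equal. -/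
theorem result (R : Type u) [CommRing R] (R' : Type u) [CommRing R'] [Algebra R R']
    (f : R) (hRR' : EtGlue.IsGlueingPair R R' f) {Y Z YU YX' : AlgSp.Space (Spec (CommRingCat.of R))}
    (hY : (∀ (A : Type u) [CommRing A] [Algebra R A]
      (g : (AlgSp.yon (Spec (CommRingCat.of R))).obj (Over.mk (Spec.map (CommRingCat.ofHom (algebraMap R A))) : Over (Spec (CommRingCat.of R))) ⟶ Y.obj),
      AlgSp.RepWith @Etale g → EtGlue.IsGlueable R R' f A))
    (hZ : (∀ (A : Type u) [CommRing A] [Algebra R A]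
      (g : (AlgSp.yon (Spec (CommRingCat.of R))).obj (Over.mk (Spec.map (CommRingCat.ofHom (algebraMap R A))) : Over (Spec (CommRingCat.of R))) ⟶ Z.obj),
      AlgSp.RepWith @Etale g → EtGlue.IsGlueable R R' f A))
    (a b : Y ⟶ Z) (πZ : Z.obj ⟶ (AlgSp.yon (Spec (CommRingCat.of R))).obj (Over.mk (𝟙 _)))
    (inU : (Over.mk (Spec.map (CommRingCat.ofHom (algebraMap R (Localization.Away f)))) : Over (Spec (CommRingCat.of R))) ⟶ Over.mk (𝟙 _))
    (uY : YU ⟶ Y) (vY : YU.obj ⟶ (AlgSp.yon (Spec (CommRingCat.of R))).obj (Over.mk (Spec.map (CommRingCat.ofHom (algebraMap R (Localization.Away f)))) : Over (Spec (CommRingCat.of R))))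
    (hYU : IsPullback uY.hom vY (a.hom ≫ πZ) ((AlgSp.yon (Spec (CommRingCat.of R))).map inU))
    (inX' : (Over.mk (Spec.map (CommRingCat.ofHom (algebraMap R R'))) : Over (Spec (CommRingCat.of R))) ⟶ Over.mk (𝟙 _))
    (uY' : YX' ⟶ Y) (vY' : YX'.obj ⟶ (AlgSp.yon (Spec (CommRingCat.of R))).obj (Over.mk (Spec.map (CommRingCat.ofHom (algebraMap R R'))) : Over (Spec (CommRingCat.of R))))
    (hYX' : IsPullback uY'.hom vY' (a.hom ≫ πZ) ((AlgSp.yon (Spec (CommRingCat.of R))).map inX'))
    (haU : uY ≫ a = uY ≫ b) (haX' : uY' ≫ a = uY' ≫ b) : a = b := by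
  obtain ⟨U, g, hg, hgs⟩ := Y.property.atlas
  choose O hO hmem using fun x : U.left => exists_isAffineOpen_mem_and_subset (U := ⊤) (x := x) trivial
  let j : ∀ x, (Over.mk ((O x).ι ≫ U.hom) : Over (Spec (CommRingCat.of R))) ⟶ U := fun x => Over.homMk (O x).ι rfl
  haveI : ∀ x, IsOpenImmersion (j x).left := fun x => inferInstanceAs (IsOpenImmersion (O x).ι)
  refine ObjectProperty.hom_ext _ (AlgSpLib.hom_ext_of_atlas hg hgs (AlgSpLib.hom_ext_of_cover j
    (fun x => inferInstance) (fun x => inferInstance) (fun x => ⟨x, ⟨x, (hmem x).1⟩, rfl⟩) fun x => ?_))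
  haveI : IsAffine (Over.mk ((O x).ι ≫ U.hom)).left := hO x
  refine GluePairHom.eq_of_corners hRR' Z.property hY ((AlgSp.yon _).map (j x) ≫ g)
    (AlgSpLib.repWith_comp ((repWith_yon_map_iff (P := (@Etale : MorphismProperty Scheme.{u})) (j x)).2 inferInstance)
      hg) (fun T e r => ?_) fun T e r => ?_
  · have w : uY.hom ≫ a.hom = uY.hom ≫ b.hom := congrArg InducedCategory.Hom.hom haU
    let l := hYU.lift ((AlgSp.yon _).map e ≫ (AlgSp.yon _).map (j x) ≫ g) ((AlgSp.yon _).map r)
      (GluePairHom.comp_terminal _ _)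
    calc _ = l ≫ uY.hom ≫ a.hom := by simp only [l, hYU.lift_fst_assoc, Category.assoc]
      _ = l ≫ uY.hom ≫ b.hom := by rw [w]
      _ = _ := by simp only [l, hYU.lift_fst_assoc, Category.assoc]
  · have w : uY'.hom ≫ a.hom = uY'.hom ≫ b.hom := congrArg InducedCategory.Hom.hom haX'
    let l := hYX'.lift ((AlgSp.yon _).map e ≫ (AlgSp.yon _).map (j x) ≫ g) ((AlgSp.yon _).map r)
      (GluePairHom.comp_terminal _ _)
    calc _ = l ≫ uY'.hom ≫ a.hom := by simp only [l, hYX'.lift_fst_assoc, Category.assoc]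
      _ = l ≫ uY'.hom ≫ b.hom := by rw [w]
      _ = _ := by simp only [l, hYX'.lift_fst_assoc, Category.assoc]

end Groth.Agent.S10707
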