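import Groth.Statements.S10708
import Groth.Agent.FiltLib.Chain
import Groth.Agent.AlgSpLib.Noeth
import Groth.Agent.AlgSpLib.CoprodOpen


set_option autoImplicit false
set_option backward.isDefEq.respectTransparency false
set_option backward.isDefEq.respectTransparency.types false
universe u
open CategoryTheory CategoryTheory.Limits AlgebraicGeometry
open AlgSp

namespace Groth.Agent.S10708

/-- Let `X` be a Noetherian algebraic space over a quasi-separated base scheme `S` (quasi-compact,
quasi-separated over `S`, locally Noetherian) and `U ⊂ X` a dense open subspace different from `X`.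
Then one can find an etale morphism `V → X` from an affine scheme `V` for which `W = U ∪ Im(V → X)`,
an open subspace, properly contains `U`, the pair `(U ⊂ W, V → W)` forms an elementary distinguished
square, and `U ×_W V → U` has dense image. (The base scheme is taken quasi-separated so that
quasi-separatedness over `S` is the absolute notion.) -/
theorem result {S : Scheme.{u}} [QuasiSeparatedSpace S] {X U : AlgSp.Space S}
    (hqc : AlgSp.IsQuasiCompactSp X.obj) (hqs : AlgSp.IsQuasiSeparatedSp X.obj) (hN : AlgSp.IsLocNoethSp X.obj)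
    (j : U ⟶ X) (hj : AlgSp.RepWith @IsOpenImmersion j.hom) (hdense : Dense (Set.range (AlgSp.Points.map j.hom)))
    (hne : Set.range (AlgSp.Points.map j.hom) ≠ Set.univ) :
    ∃ (V : Over S) (_ : IsAffine V.left) (W : AlgSp.Space S) (jW : W ⟶ X) (jU : U ⟶ W) (φ : (AlgSp.ofScheme S).obj V ⟶ W)
      (P : AlgSp.Space S) (p : P ⟶ U) (q : P ⟶ (AlgSp.ofScheme S).obj V),
      AlgSp.RepWith @Etale (φ ≫ jW).hom ∧ AlgSp.RepWith @IsOpenImmersion jW.hom ∧ jU ≫ jW = j ∧
        Set.range (AlgSp.Points.map jW.hom) =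
          Set.range (AlgSp.Points.map j.hom) ∪ Set.range (AlgSp.Points.map (φ ≫ jW).hom) ∧
        Set.range (AlgSp.Points.map jW.hom) ≠ Set.range (AlgSp.Points.map j.hom) ∧
        AlgSp.IsElemDistSq jU.hom φ.hom ∧ IsPullback p.hom q.hom jU.hom φ.hom ∧ AlgSp.IsDominantMor p.hom := by
  haveI := AlgSpLib.noetherianSpace_points hqc hN
  have hRo := FiltLib.isOpen_range_of_openImmersion U.property hj
  have hRc : IsCompact (Set.range (AlgSp.Points.map j.hom)) := TopologicalSpace.NoetherianSpace.isCompact _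
  -- a chart on an affine scheme leaving the open, injective over the complement
  obtain ⟨V₁, g₁, hV₁, hg₁, hi₁, hnot⟩ : ∃ (V : Over S) (g : (AlgSp.yon S).obj V ⟶ X.obj),
      IsAffine V.left ∧ AlgSp.RepWith @Etale g ∧ FiltLib.InjOver g (Set.range (AlgSp.Points.map j.hom))ᶜ ∧
      ¬ Set.range (AlgSp.Points.ofPt g) ⊆ Set.range (AlgSp.Points.map j.hom) := by
    by_contra hno
    refine hne (Set.eq_univ_of_univ_subset (FiltLib.open_induction X.property hqc hqs
      (fun O => O ⊆ Set.range (AlgSp.Points.map j.hom)) _ hRo hRc subset_rfl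
      fun O₁ V g _ _ hsub hV hg hgi hQ => Set.union_subset hQ ?_))
    by_contra hnsub
    exact hno ⟨V, g, hV, hg, hgi.mono (Set.compl_subset_compl.2 hQ), hnsub⟩
  haveI := hV₁
  -- a chart on an affine scheme covering the open
  obtain ⟨V₂, g₂, hV₂, hg₂, hs₂⟩ := AlgSpLib.exists_affine_chart
    (FiltLib.isQuasiCompactSp_of_isCompact_range U.property hj hRc)
  haveI := hV₂
  have hg₂j : AlgSp.RepWith @Etale (g₂ ≫ j.hom) := AlgSpLib.repWith_comp hg₂ (AlgSpLib.repWith_mono
    (fun _ _ g (_ : IsOpenImmersion g) => (inferInstance : Etale g)) hj)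
  -- their disjoint union
  let V : Over S := Over.mk (coprod.desc V₁.hom V₂.hom)
  let W : ULift.{u} Bool → Over S := fun b => bif b.down then V₁ else V₂
  let s : ∀ b, W b ⟶ V := fun ⟨b⟩ => match b with
    | true => Over.homMk coprod.inl (coprod.inl_desc _ _)
    | false => Over.homMk coprod.inr (coprod.inr_desc _ _)
  have hso : ∀ b, IsOpenImmersion (s b).left := fun ⟨b⟩ => match b with
    | true => inferInstanceAs (IsOpenImmersion (coprod.inl : V₁.left ⟶ V₁.left ⨿ V₂.left))
    | false => inferInstanceAs (IsOpenImmersion (coprod.inr : V₂.left ⟶ V₁.left ⨿ V₂.left))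
  have hcompl := isCompl_range_inl_inr V₁.left V₂.left
  have hcov : ∀ v : V.left, ∃ b, v ∈ Set.range (s b).left := fun v => by
    rcases hcompl.sup_eq_top.symm.subset (Set.mem_univ v) with h | h
    · exact ⟨⟨true⟩, h⟩
    · exact ⟨⟨false⟩, h⟩
  obtain ⟨hc⟩ := AlgSpLib.nonempty_isColimit_yon_cofan s hso hcov (by
    rintro ⟨_ | _⟩ ⟨_ | _⟩ hne'
    · exact absurd rfl hne'
    · exact hcompl.disjoint.symm
    · exact hcompl.disjoint
    · exact absurd rfl hne')
  let gs : ∀ b, (AlgSp.yon S).obj (W b) ⟶ X.obj := fun ⟨b⟩ => match b with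
    | true => g₁
    | false => g₂ ≫ j.hom
  let g : (AlgSp.yon S).obj V ⟶ X.obj := Cofan.IsColimit.desc hc gs
  have hgs : ∀ b, (AlgSp.yon S).map (s b) ≫ g = gs b := fun b => Cofan.IsColimit.fac hc gs b
  haveI : IsAffine V.left := inferInstanceAs (IsAffine (V₁.left ⨿ V₂.left))
  have hg : AlgSp.RepWith @Etale g := by
    refine AlgSpLib.repWith_of_source_cover (fun b => (AlgSp.yon S).map (s b))
      (fun b => (AlgSp.repWith_yon_map_iff (P := (@IsOpenImmersion : MorphismProperty Scheme.{u})) (s b)).2 (hso b))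
      (fun x => ?_) (fun b => ?_)
    · obtain ⟨v, rfl⟩ := (AlgSp.Points.schemeHomeo V).surjective x
      obtain ⟨b, z, rfl⟩ := hcov v
      exact ⟨b, AlgSp.Points.schemeHomeo (W b) z, AlgSp.Points.map_yon_map_apply _ _⟩
    · rw [hgs]
      obtain ⟨_ | _⟩ := b
      · exact hg₂j
      · exact hg₁
  have hpt : ∀ b z, AlgSp.Points.ofPt g ((s b).left z) = AlgSp.Points.ofPt (gs b) z := fun b z => by
    rw [← hgs, AlgSpLib.ofPt_yon_comp]
  have hrange : Set.range (AlgSp.Points.ofPt g) =
      Set.range (AlgSp.Points.ofPt g₁) ∪ Set.range (AlgSp.Points.map j.hom) := by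
    ext y
    constructor
    · rintro ⟨v, rfl⟩
      obtain ⟨⟨_ | _⟩, z, rfl⟩ := hcov v
      · right
        erw [hpt]
        show AlgSp.Points.ofPt (g₂ ≫ j.hom) z ∈ _
        rw [← AlgSp.Points.map_ofPt]
        exact ⟨_, rfl⟩
      · left; erw [hpt]; exact ⟨z, rfl⟩
    · rintro (⟨z, rfl⟩ | ⟨z, rfl⟩)
      · exact ⟨(s ⟨true⟩).left z, hpt ⟨true⟩ z⟩
      · obtain ⟨w, rfl⟩ := AlgSpLib.surjective_ofPt hs₂ z
        exact ⟨(s ⟨false⟩).left w, (hpt ⟨false⟩ w).trans (AlgSp.Points.map_ofPt _ _ _).symm⟩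
  have hinj : FiltLib.InjOver g (Set.range (AlgSp.Points.map j.hom))ᶜ := by
    intro Ω _ _ str x y e hx
    have hlift : ∀ w : Over.mk str ⟶ V,
        AlgSp.Points.ofPt g (w.left (IsLocalRing.closedPoint Ω)) ∈ (Set.range (AlgSp.Points.map j.hom))ᶜ →
        ∃ w' : Over.mk str ⟶ V₁, w' ≫ s ⟨true⟩ = w := fun w hw => by
      have hr : Set.range w.left ⊆ Set.range (s ⟨true⟩).left := by
        rintro _ ⟨z, rfl⟩
        rw [Subsingleton.elim (α := PrimeSpectrum Ω) z (IsLocalRing.closedPoint Ω)]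
        obtain ⟨⟨_ | _⟩, z', hz'⟩ := hcov (w.left (IsLocalRing.closedPoint Ω))
        · rw [← hz'] at hw
          erw [hpt] at hw
          exact absurd ⟨_, AlgSp.Points.map_ofPt _ _ _⟩ hw
        · exact ⟨z', hz'⟩
      haveI := hso ⟨true⟩
      exact ⟨Over.homMk (IsOpenImmersion.lift (s ⟨true⟩).left w.left hr) (by
        show IsOpenImmersion.lift (s ⟨true⟩).left w.left hr ≫ (W ⟨true⟩).hom = _
        rw [← Over.w (s ⟨true⟩), IsOpenImmersion.lift_fac_assoc, Over.w w]),
        Over.OverMorphism.ext (IsOpenImmersion.lift_fac _ _ _)⟩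
    have hy : AlgSp.Points.ofPt g (y.left (IsLocalRing.closedPoint Ω)) ∈
        (Set.range (AlgSp.Points.map j.hom))ᶜ := by
      rw [← AlgSpLib.ofPt_yon_comp, ← e, AlgSpLib.ofPt_yon_comp]; exact hx
    obtain ⟨x', rfl⟩ := hlift x hx
    obtain ⟨y', rfl⟩ := hlift y hy
    rw [Functor.map_comp, Functor.map_comp, Category.assoc, Category.assoc] at e
    erw [hgs] at e
    rw [show x' = y' from hi₁ Ω str x' y' e (by rw [← hpt ⟨true⟩]; exact hx)]
  have hO : IsOpen (Set.range (AlgSp.Points.map j.hom) ∪ Set.range (AlgSp.Points.ofPt g)) :=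
    hRo.union (AlgSpLib.isOpenMap_ofPt hg).isOpen_range
  let W' : AlgSp.Space S := FiltLib.openSpace X _ hO
  let jW : W' ⟶ X := FiltLib.openSpaceι X _ hO
  have hjW := FiltLib.repWith_openSpaceι X hO
  have hrW : Set.range (AlgSp.Points.map jW.hom) = _ := FiltLib.range_openSpaceι X hO
  obtain ⟨k, φ, hk, hφ, hsq⟩ := FiltLib.exists_step j jW hj hjW g hg hrW.symm hinj
  have hP := AlgSpLib.isAlgSpace_pullback U.property (IsAlgSpace.yon_obj V) W'.property k.hom φ.hom
  have hsqP := IsPullback.of_hasPullback k.hom φ.hom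
  refine ⟨V, inferInstance, W', jW, k, φ, ⟨_, hP⟩, ObjectProperty.homMk (pullback.fst k.hom φ.hom),
    ObjectProperty.homMk (pullback.snd k.hom φ.hom), ?_, hjW, hk, ?_, ?_, hsq, hsqP, ?_⟩
  · rw [ObjectProperty.FullSubcategory.comp_hom, hφ]; exact hg
  · rw [hrW, ObjectProperty.FullSubcategory.comp_hom, hφ, AlgSpLib.range_ofPt]
  · rw [hrW]
    intro h
    exact hnot (Set.Subset.trans (Set.subset_union_left.trans hrange.symm.subset)
      (Set.subset_union_right.trans h.subset))
  · haveI := AlgSpLib.mono_of_openImmersion hj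
    have hsurj : Function.Surjective (AlgSp.Points.map (pullback.fst k.hom φ.hom)) := fun z => by
      obtain ⟨v, hv⟩ := hrange.symm.subset (Or.inr ⟨z, rfl⟩)
      haveI := AlgSpLib.mono_of_openImmersion hjW
      obtain ⟨w, hw, -⟩ := AlgSpLib.exists_point_isPullback hsqP z (AlgSp.Points.ofPt (𝟙 _) v)
        (AlgSpLib.injective_map_of_mono jW.hom (by
          rw [← AlgSp.Points.map_comp, ← ObjectProperty.FullSubcategory.comp_hom, hk, AlgSp.Points.map_ofPt,
            Category.id_comp, AlgSp.Points.map_ofPt, hφ, hv]))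
      exact ⟨w, hw⟩
    exact hsurj.denseRange


end Groth.Agent.S10708
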