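import Groth.Statements.S1071
import Groth.Agent.KRRRegLib.Koszul
import Groth.Agent.KoszOrthLib.PnGen

set_option autoImplicit false
universe u
open CategoryTheory CategoryTheory.Limits AlgebraicGeometry
open Perf

namespace Groth.Agent.S1071

section
open CategoryTheory CategoryTheory.Limits AlgebraicGeometry
open Groth.Agent.KoszOrthLib (O1 coordSec exists_genAt_coordSec)

variable {C : Type*} [Category C]

/-- A coproduct over `Fin a` plus one over `Fin b`. -/
theorem sigmaAdd [Preadditive C] [HasBinaryBiproducts C] (X : C) (a b : ℕ)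
    [HasCoproduct fun _ : Fin a => X] [HasCoproduct fun _ : Fin b => X] [HasCoproduct fun _ : Fin (a + b) => X] :
    Nonempty (((∐ fun _ : Fin a => X) ⊞ ∐ fun _ : Fin b => X) ≅ ∐ fun _ : Fin (a + b) => X) := by
  refine ⟨⟨biprod.desc (Sigma.desc fun i => Sigma.ι (fun _ : Fin (a + b) => X) (Fin.castAdd b i))
      (Sigma.desc fun i => Sigma.ι (fun _ : Fin (a + b) => X) (Fin.natAdd a i)),
    Sigma.desc (Fin.addCases (fun i => Sigma.ι (fun _ : Fin a => X) i ≫ biprod.inl)
      (fun i => Sigma.ι (fun _ : Fin b => X) i ≫ biprod.inr)), ?_, ?_⟩⟩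
  · refine biprod.hom_ext' _ _ ?_ ?_ <;> refine Sigma.hom_ext _ _ fun i => ?_ <;> simp
  · refine Sigma.hom_ext _ _ fun i => ?_
    refine Fin.addCases (fun i => ?_) (fun i => ?_) i <;> simp

theorem kz_term (n : ℕ) (A : Type u) [CommRing A] (a : ℤ) :
    ∀ (l : List Γ(O1 n A, ⊤)) (j : ℕ), Nonempty ((KRRRegLib.Kz (Twist.twistProjSpace n A a) l).X (-(j : ℤ)) ≅
      ∐ fun _ : Fin (Nat.choose l.length j) => Twist.twistProjSpace n A (a + (l.length : ℤ) - (j : ℤ)))
  | [], 0 => by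
    refine ⟨HomologicalComplex.singleObjXIsoOfEq _ _ _ _ (by simp) ≪≫ ?_⟩
    haveI : Unique (Fin (Nat.choose 0 0)) := inferInstanceAs (Unique (Fin 1))
    exact eqToIso (congrArg (Twist.twistProjSpace n A) (by simp)) ≪≫
      (coproductUniqueIso (fun _ : Fin (Nat.choose 0 0) => Twist.twistProjSpace n A (a + (0 : ℕ) - (0 : ℕ)))).symm
  | [], j + 1 => by
    haveI : IsEmpty (Fin (Nat.choose ([] : List Γ(O1 n A, ⊤)).length (j + 1))) := by
      simp only [List.length_nil, Nat.choose_zero_succ]; infer_instance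
    refine ⟨IsZero.iso (KRRRegLib.isZero_X _ _ _ (by simp)) ?_⟩
    exact (IsZero.iff_id_eq_zero _).2 (Sigma.hom_ext _ _ fun i => IsEmpty.elim ‹_› i)
  | σ :: l, j => by
    classical
    let K := KRRRegLib.Kz (Twist.twistProjSpace n A a) l
    let T := DCoh.tensorRightMod (O1 n A)
    haveI := KoszOrthLib.preservesFiniteColimits_O1 n A
    let e0 := HomologicalComplex.homotopyCofiber.XIsoBiprod ((KRRRegLib.secC σ).app K) (-(j : ℤ)) (-(j : ℤ) + 1) rfl
    obtain ⟨e2⟩ := kz_term n A a l j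
    obtain ⟨et⟩ : Nonempty ((T.obj (K.X (-(j : ℤ)))) ≅
        ∐ fun _ : Fin (Nat.choose l.length j) => Twist.twistProjSpace n A (a + ((σ :: l).length : ℤ) - (j : ℤ))) := by
      obtain ⟨c⟩ := PicPnLib.twist_add n A (a + (l.length : ℤ) - (j : ℤ)) 1
      exact ⟨T.mapIso e2 ≪≫ PreservesCoproduct.iso T _ ≪≫ Sigma.mapIso fun _ =>
        c ≪≫ eqToIso (congrArg (Twist.twistProjSpace n A) (by simp; ring))⟩
    rcases j with - | j
    · have hz : IsZero (K.X (-((0 : ℕ) : ℤ) + 1)) := KRRRegLib.isZero_X _ _ _ (by simp)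
      exact ⟨e0 ≪≫ biprod.mapIso (Iso.refl _) et ≪≫ (isoZeroBiprod hz).symm ≪≫
        eqToIso (by rw [Nat.choose_zero_right, Nat.choose_zero_right])⟩
    · obtain ⟨e1⟩ := kz_term n A a l j
      obtain ⟨e3⟩ := sigmaAdd (Twist.twistProjSpace n A (a + ((σ :: l).length : ℤ) - ((j + 1 : ℕ) : ℤ)))
        (Nat.choose l.length j) (Nat.choose l.length (j + 1))
      exact ⟨e0 ≪≫ biprod.mapIso (K.XIsoOfEq (by push_cast; ring) ≪≫ e1 ≪≫ Sigma.mapIso fun _ =>
        eqToIso (congrArg (Twist.twistProjSpace n A) (by simp; ring))) et ≪≫ e3 ≪≫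
          eqToIso (by rw [List.length_cons, Nat.choose_succ_succ'])⟩

end


/-- Let A be a ring, X = P^n_A and a ∈ ℤ. There is a cochain complex of O_X-modules, exact in every
degree, whose term in degree i is isomorphic to the direct sum of (n+1 choose i) copies of O_X(a +
i) for 0 ≤ i ≤ n + 1 and is zero in all other degrees. -/
theorem result (n : ℕ) (A : Type u) [CommRing A] (a : ℤ) :
    ∃ C : CochainComplex (CohB1.ProjSpace n A).Modules ℤ, (∀ i : ℤ, C.ExactAt i) ∧
      (∀ i : ℕ, i ≤ n + 1 → Nonempty (C.X (i : ℤ) ≅ ∐ fun _ : Fin (Nat.choose (n + 1) i) => Twist.twistProjSpace n A (a + i))) ∧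
      (∀ i : ℤ, i < 0 ∨ (n : ℤ) + 1 < i → IsZero (C.X i)) := by
  classical
  let K := KRRRegLib.Kz (Twist.twistProjSpace n A a) (List.ofFn (KoszOrthLib.coordSec n A))
  have hl : (List.ofFn (KoszOrthLib.coordSec n A)).length = n + 1 := List.length_ofFn
  refine ⟨(CategoryTheory.shiftFunctor (CochainComplex (CohB1.ProjSpace n A).Modules ℤ) (-((n : ℤ) + 1))).obj K,
    fun i => ?_, fun i hi => ?_, fun i hi => ?_⟩
  · have h := KRRRegLib.acyclic (PicPnLib.twist_inv n A 1) (Twist.twistProjSpace n A a) _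
      (fun x => KoszOrthLib.exists_genAt_coordSec n A x)
    rw [HomologicalComplex.exactAt_iff_isZero_homology]
    exact (h (i + -((n : ℤ) + 1))).isZero_homology.of_iso
      ((CochainComplex.ShiftSequence.shiftIso _ (-((n : ℤ) + 1)) i _ (by ring)).app K)
  · obtain ⟨e⟩ := kz_term n A a (List.ofFn (KoszOrthLib.coordSec n A)) (n + 1 - i)
    refine ⟨K.XIsoOfEq (show (i : ℤ) + -((n : ℤ) + 1) = -((n + 1 - i : ℕ) : ℤ) by omega) ≪≫ e ≪≫ eqToIso ?_⟩
    rw [hl, Nat.choose_symm hi, show a + ((n + 1 : ℕ) : ℤ) - ((n + 1 - i : ℕ) : ℤ) = a + (i : ℤ) by omega]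
  · exact KRRRegLib.isZero_X _ _ _ (by rw [hl]; push_cast; omega)

end Groth.Agent.S1071
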