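import Groth.Statements.S10721
import Groth.Prelude.Def_EtGlue
import Mathlib.LinearAlgebra.TensorProduct.RightExactness
import Mathlib.RingTheory.Localization.BaseChange

set_option autoImplicit false
universe u
open TensorProduct
open EtAlg

namespace Groth.Agent.S10721

/-- Glueing along a glueing pair detects closed immersions of affine schemes, stated for coordinate
rings. Let `(R → R', f)` be a glueing pair and `φ : A → B` a homomorphism of `R`-algebras with `A`,
`B` glueable as `R`-modules (so `Spec A`, `Spec B` are affine and glueable over `Spec R`). Then `φ`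
is surjective (a closed immersion on spectra) if and only if `A_f → B_f` and `R' ⊗_R A → R' ⊗_R B`
are surjective. -/
theorem result (R : Type u) [CommRing R] (R' : Type u) [CommRing R'] [Algebra R R'] (f : R)
    (hRR' : EtGlue.IsGlueingPair R R' f) (A B : Type u) [CommRing A] [Algebra R A] [CommRing B] [Algebra R B]
    (hA : EtGlue.IsGlueable R R' f A) (hB : EtGlue.IsGlueable R R' f B) (φ : A →ₐ[R] B) :
    Function.Surjective φ ↔
      Function.Surjective (Localization.awayMap φ.toRingHom (algebraMap R A f)) ∧ Function.Surjective (Algebra.TensorProduct.map (AlgHom.id R R') φ).toRingHom := by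
  classical
  have hmap : ∀ t, (Algebra.TensorProduct.map (AlgHom.id R R') φ).toRingHom t = φ.toLinearMap.lTensor R' t := fun t => by
    induction t using TensorProduct.induction_on with
    | zero => simp
    | tmul r a => rfl
    | add s t hs ht => rw [map_add, map_add, hs, ht]
  constructor
  · intro h
    refine ⟨fun z => ?_, fun t => ?_⟩
    · obtain ⟨b, ⟨s, n, rfl⟩, rfl⟩ := IsLocalization.exists_mk'_eq (Submonoid.powers (φ.toRingHom (algebraMap R A f))) z
      obtain ⟨a, rfl⟩ := h b
      refine ⟨IsLocalization.mk' _ a (⟨algebraMap R A f ^ n, n, rfl⟩ : Submonoid.powers (algebraMap R A f)), ?_⟩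
      rw [Localization.awayMap, IsLocalization.Away.map, IsLocalization.map_mk']
      refine IsLocalization.mk'_eq_iff_eq.2 ?_
      simp [map_pow]
    · obtain ⟨s, hs⟩ := LinearMap.lTensor_surjective R' (g := φ.toLinearMap) h t
      exact ⟨s, (hmap s).trans hs⟩
  rintro ⟨h1, h2⟩ b
  -- an expression of `b` after inverting `f`
  obtain ⟨n, a, ha⟩ : ∃ (n : ℕ) (a : A), f ^ n • b = φ a := by
    obtain ⟨z, hz⟩ := h1 (algebraMap B _ b)
    obtain ⟨a, ⟨s, n, rfl⟩, rfl⟩ := IsLocalization.exists_mk'_eq (Submonoid.powers (algebraMap R A f)) z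
    rw [Localization.awayMap, IsLocalization.Away.map, IsLocalization.map_mk', IsLocalization.mk'_eq_iff_eq_mul,
      ← map_mul] at hz
    obtain ⟨⟨c, m, rfl⟩, hc⟩ := IsLocalization.exists_of_eq (M := Submonoid.powers (φ.toRingHom (algebraMap R A f))) hz
    refine ⟨m + n, f ^ m • a, ?_⟩
    simp only [AlgHom.toRingHom_eq_coe, RingHom.coe_coe, AlgHom.commutes, map_pow] at hc
    rw [map_smul, Algebra.smul_def, Algebra.smul_def, map_pow, map_pow, hc, pow_add]
    ring
  obtain ⟨x, hx⟩ := h2 ((1 : R') ⊗ₜ[R] b)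
  rw [hmap] at hx
  let S := Submonoid.powers f
  let y : LocalizedModule S A := LocalizedModule.mk a (⟨f ^ n, n, rfl⟩ : S)
  let w : R' ⊗[R] A := f ^ n • x - (1 : R') ⊗ₜ[R] a
  have hz : EtGlue.locOfTensor R R' f A x - EtGlue.tensorOfLoc R R' f A y = LocalizedModule.mk w (⟨f ^ n, n, rfl⟩ : S) := by
    simp only [y, w, EtGlue.tensorOfLoc, LocalizedModule.mkLinearMap_apply, IsLocalizedModule.map_LocalizedModules,
      TensorProduct.mk_apply, sub_eq_add_neg]
    rw [← LocalizedModule.mk_cancel (⟨f ^ n, n, rfl⟩ : S) x, ← LocalizedModule.mk_neg, LocalizedModule.mk_add_mk]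
    rw [← smul_add, LocalizedModule.mk_cancel_common_left]
    rfl
  -- `w` dies in `R' ⊗ im φ` after multiplying by a power of `f`
  let φ' : A →ₗ[R] LinearMap.range φ.toLinearMap := φ.toLinearMap.rangeRestrict
  have hw : (LinearMap.range φ.toLinearMap).subtype.lTensor R' (φ'.lTensor R' w) = 0 := by
    rw [← LinearMap.comp_apply, ← LinearMap.lTensor_comp, show (LinearMap.range φ.toLinearMap).subtype ∘ₗ φ' = φ.toLinearMap from rfl]
    simp only [w, map_sub, map_smul, hx, LinearMap.lTensor_tmul]
    rw [← TensorProduct.tmul_smul, ha]; exact sub_self _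
  have hkill : ∀ t : R' ⊗[R] (LinearMap.range φ.toLinearMap),
      (LinearMap.range φ.toLinearMap).subtype.lTensor R' t = 0 → ∃ m : ℕ, f ^ m • t = 0 := by
    intro t ht
    have hbij : Function.Surjective (IsLocalizedModule.map S (LocalizedModule.mkLinearMap S (LinearMap.range φ.toLinearMap))
        (LocalizedModule.mkLinearMap S B) (LinearMap.range φ.toLinearMap).subtype) := fun u => by
      induction u using LocalizedModule.induction_on with | h b' s => ?_
      obtain ⟨s, k, rfl⟩ := s
      obtain ⟨z, hz⟩ := h1 (algebraMap B _ b')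
      obtain ⟨a', ⟨s', n', rfl⟩, rfl⟩ := IsLocalization.exists_mk'_eq (Submonoid.powers (algebraMap R A f)) z
      rw [Localization.awayMap, IsLocalization.Away.map, IsLocalization.map_mk', IsLocalization.mk'_eq_iff_eq_mul,
        ← map_mul] at hz
      obtain ⟨⟨c, m, rfl⟩, hc⟩ := IsLocalization.exists_of_eq (M := Submonoid.powers (φ.toRingHom (algebraMap R A f))) hz
      simp only [AlgHom.toRingHom_eq_coe, RingHom.coe_coe, AlgHom.commutes, map_pow] at hc
      refine ⟨LocalizedModule.mk ⟨φ (f ^ m • a'), ⟨_, rfl⟩⟩ ⟨f ^ (m + n' + k), _, rfl⟩, ?_⟩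
      rw [IsLocalizedModule.map_LocalizedModules, LocalizedModule.mk_eq]
      refine ⟨1, ?_⟩
      simp only [one_smul, Submonoid.smul_def, Submodule.subtype_apply]
      rw [map_smul, Algebra.smul_def, Algebra.smul_def, Algebra.smul_def, map_pow, map_pow, map_pow, hc]
      ring
    have hinj : Function.Injective (IsLocalizedModule.map S (LocalizedModule.mkLinearMap S (LinearMap.range φ.toLinearMap))
        (LocalizedModule.mkLinearMap S B) (LinearMap.range φ.toLinearMap).subtype) :=
      IsLocalizedModule.map_injective S _ _ _ (Submodule.injective_subtype _)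
    let e := LinearEquiv.ofBijective _ ⟨hinj, hbij⟩
    have hcomp : (LocalizedModule.mkLinearMap S (LinearMap.range φ.toLinearMap)) =
        e.symm.toLinearMap ∘ₗ LocalizedModule.mkLinearMap S B ∘ₗ (LinearMap.range φ.toLinearMap).subtype := by
      refine LinearMap.ext fun v => e.injective ?_
      rw [LinearMap.comp_apply, LinearEquiv.coe_coe, e.apply_symm_apply]
      exact IsLocalizedModule.map_apply S _ _ _ v
    have h0 : LinearMap.lTensor R' (LocalizedModule.mkLinearMap S (LinearMap.range φ.toLinearMap)) t = 0 := by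
      rw [hcomp, LinearMap.lTensor_comp, LinearMap.lTensor_comp, LinearMap.comp_apply, LinearMap.comp_apply, ht,
        map_zero, map_zero]
    have hc' : ∀ t' : R' ⊗[R] LinearMap.range φ.toLinearMap,
        TensorProduct.AlgebraTensorModule.rTensor R R' (LocalizedModule.mkLinearMap S (LinearMap.range φ.toLinearMap))
          (TensorProduct.comm R R' _ t') = TensorProduct.comm R R' _
            (LinearMap.lTensor R' (LocalizedModule.mkLinearMap S (LinearMap.range φ.toLinearMap)) t') := fun t' => by
      induction t' using TensorProduct.induction_on with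
      | zero => simp
      | tmul r v => rfl
      | add a b ha hb => simp only [map_add, ha, hb]
    have h0' := hc' t
    rw [h0, map_zero] at h0'
    obtain ⟨⟨c, m, rfl⟩, hc⟩ := IsLocalizedModule.exists_of_eq (S := S) (h0'.trans (map_zero _).symm)
    refine ⟨m, (TensorProduct.comm R R' _).injective ?_⟩
    simp only [Submonoid.smul_def, smul_zero] at hc
    rw [map_smul, map_zero]; exact hc
  obtain ⟨m, hm⟩ := hkill _ hw
  obtain ⟨d, hd⟩ : ∃ d, (LinearMap.ker φ.toLinearMap).subtype.lTensor R' d = f ^ m • w :=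
    (lTensor_exact R' (f := (LinearMap.ker φ.toLinearMap).subtype) (g := φ')
      (fun v => by
        rw [Set.mem_range]
        exact ⟨fun hv => ⟨⟨v, congrArg Subtype.val hv⟩, rfl⟩, fun ⟨u, hu⟩ => Subtype.ext (hu ▸ u.2)⟩)
      φ.toLinearMap.surjective_rangeRestrict (f ^ m • w)).1 (by rw [map_smul, hm])
  -- splitting along the glueing pair
  have hsplit : ∀ (d : R' ⊗[R] LinearMap.ker φ.toLinearMap) (L : ℕ), ∃ (x₁ : R' ⊗[R] A) (y₁ : LocalizedModule S A),
      φ.toLinearMap.lTensor R' x₁ = 0 ∧
      IsLocalizedModule.map S (LocalizedModule.mkLinearMap S A) (LocalizedModule.mkLinearMap S B) φ.toLinearMap y₁ = 0 ∧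
      EtGlue.locOfTensor R R' f A x₁ - EtGlue.tensorOfLoc R R' f A y₁ =
        LocalizedModule.mk ((LinearMap.ker φ.toLinearMap).subtype.lTensor R' d) (⟨f ^ L, L, rfl⟩ : S) := by
    intro d L
    induction d using TensorProduct.induction_on with
    | zero => exact ⟨0, 0, map_zero _, map_zero _, by simp [LocalizedModule.zero_mk]⟩
    | add d₁ d₂ i₁ i₂ =>
      obtain ⟨x₁, y₁, p₁, q₁, r₁⟩ := i₁
      obtain ⟨x₂, y₂, p₂, q₂, r₂⟩ := i₂
      refine ⟨x₁ + x₂, y₁ + y₂, by rw [map_add, p₁, p₂, add_zero], by rw [map_add, q₁, q₂, add_zero], ?_⟩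
      rw [map_add, map_add, map_add, ← LocalizedModule.mk_cancel_common_left (⟨f ^ L, L, rfl⟩ : S), smul_add,
        ← LocalizedModule.mk_add_mk, ← r₁, ← r₂]
      abel
    | tmul r k =>
      obtain ⟨x₁, v, hv⟩ := hRR'.2.2.2 (IsLocalization.mk' _ r (⟨algebraMap R R' f ^ L, L, rfl⟩ : Submonoid.powers (algebraMap R R' f)))
      obtain ⟨u, ⟨s, Q, rfl⟩, rfl⟩ := IsLocalization.exists_mk'_eq (Submonoid.powers f) v
      rw [Localization.awayMap, IsLocalization.Away.map, IsLocalization.map_mk'] at hv
      have hv' : algebraMap R' (Localization.Away (algebraMap R R' f)) (f ^ (L + Q) • x₁ - f ^ L • algebraMap R R' u) =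
          algebraMap R' _ (f ^ Q • r) := by
        have e1 := IsLocalization.mk'_spec (Localization.Away (algebraMap R R' f)) r
          (⟨algebraMap R R' f ^ L, L, rfl⟩ : Submonoid.powers (algebraMap R R' f))
        have e2 := IsLocalization.mk'_spec (Localization.Away (algebraMap R R' f)) (algebraMap R R' u)
          (⟨algebraMap R R' f ^ Q, Q, rfl⟩ : Submonoid.powers (algebraMap R R' f))
        rw [← hv] at e1
        simp only [map_pow] at e1 e2
        simp only [Algebra.smul_def, map_sub, map_mul, map_pow, pow_add]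
        linear_combination (algebraMap R' (Localization.Away (algebraMap R R' f)) (algebraMap R R' f)) ^ Q * e1 + (algebraMap R' (Localization.Away (algebraMap R R' f)) (algebraMap R R' f)) ^ L * e2
      obtain ⟨⟨c, P, rfl⟩, hP⟩ := IsLocalization.exists_of_eq (M := Submonoid.powers (algebraMap R R' f)) hv'
      refine ⟨x₁ ⊗ₜ (k : A), LocalizedModule.mk (u • (k : A)) (⟨f ^ Q, Q, rfl⟩ : S), ?_, ?_, ?_⟩
      · show x₁ ⊗ₜ[R] φ.toLinearMap (k : A) = 0
        rw [LinearMap.mem_ker.1 k.2, TensorProduct.tmul_zero]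
      · rw [IsLocalizedModule.map_LocalizedModules, map_smul, LinearMap.mem_ker.1 k.2, smul_zero, LocalizedModule.zero_mk]
      · simp only [EtGlue.tensorOfLoc, LocalizedModule.mkLinearMap_apply, IsLocalizedModule.map_LocalizedModules,
          TensorProduct.mk_apply, LinearMap.lTensor_tmul, Submodule.subtype_apply, sub_eq_add_neg, ← LocalizedModule.mk_neg,
          LocalizedModule.mk_add_mk]
        rw [LocalizedModule.mk_eq]
        refine ⟨⟨f ^ P, P, rfl⟩, ?_⟩
        simp only [Submonoid.smul_def, Submonoid.coe_mul, Submonoid.coe_one, one_mul]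
        have hP' : f ^ (P + (L + Q)) • x₁ - f ^ (P + L) • algebraMap R R' u = f ^ (P + Q) • r := by
          simp only [Algebra.smul_def, map_mul, map_pow, pow_add] at hP ⊢
          linear_combination hP
        have hT := congrArg (fun t => t ⊗ₜ[R] (k : A)) hP'
        simp only [TensorProduct.sub_tmul, ← TensorProduct.smul_tmul'] at hT
        rw [show algebraMap R R' u ⊗ₜ[R] (k : A) = (1 : R') ⊗ₜ[R] (u • (k : A)) by
          rw [Algebra.algebraMap_eq_smul_one, TensorProduct.smul_tmul]] at hT
        linear_combination (norm := module) hT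
  obtain ⟨x₁, y₁, p₁, q₁, r₁⟩ := hsplit d (m + n)
  have hagree : EtGlue.locOfTensor R R' f A (x - x₁) = EtGlue.tensorOfLoc R R' f A (y - y₁) := by
    rw [← sub_eq_zero, map_sub, map_sub]
    have hmk : LocalizedModule.mk (f ^ m • w) (⟨f ^ (m + n), m + n, rfl⟩ : S) = LocalizedModule.mk w (⟨f ^ n, n, rfl⟩ : S) := by
      rw [LocalizedModule.mk_eq]
      exact ⟨1, by simp only [one_smul, Submonoid.smul_def, smul_smul, pow_add]; ring_nf⟩
    rw [hd, hmk, ← hz] at r₁
    calc _ = (EtGlue.locOfTensor R R' f A x - EtGlue.tensorOfLoc R R' f A y) -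
          (EtGlue.locOfTensor R R' f A x₁ - EtGlue.tensorOfLoc R R' f A y₁) := by abel
      _ = 0 := by rw [r₁, sub_self]
  obtain ⟨a', ha', ha''⟩ := hA.2 _ _ hagree
  refine ⟨a', hB.1 (Prod.ext ?_ ?_)⟩
  · show (1 : R') ⊗ₜ[R] φ.toLinearMap a' = _
    rw [← LinearMap.lTensor_tmul, ha', map_sub, hx, p₁, sub_zero]
  · show LocalizedModule.mkLinearMap S B (φ.toLinearMap a') = _
    rw [← IsLocalizedModule.map_apply S (LocalizedModule.mkLinearMap S A) (LocalizedModule.mkLinearMap S B) φ.toLinearMap,
      ha'', map_sub, q₁, sub_zero]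
    show IsLocalizedModule.map S _ _ φ.toLinearMap (LocalizedModule.mk a (⟨f ^ n, n, rfl⟩ : S)) = _
    show _ = LocalizedModule.mk b 1
    rw [IsLocalizedModule.map_LocalizedModules, LocalizedModule.mk_eq]
    exact ⟨1, by simp only [one_smul, Submonoid.smul_def]; exact ha.symm⟩

end Groth.Agent.S10721
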