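import Groth.Statements.S10723
import Mathlib
import Groth.Agent.GlueAlgLib.Hom
-- import your own Groth.Agent.* helpers here

set_option autoImplicit false
universe u
open TensorProduct
open EtAlg

namespace Groth.Agent.S10723

set_option maxHeartbeats 400000

/-- Glueing along a glueing pair detects morphisms of affine schemes that are flat and of finite
presentation, stated for coordinate rings. Let `(R → R', f)` be a glueing pair and `φ : A → B` a
homomorphism of `R`-algebras with `A`, `B` glueable as `R`-modules (so `Spec A`, `Spec B` are affine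
and glueable over `Spec R`). Then `φ` is flat and of finite presentation if and only if `A_f → B_f`
and `R' ⊗_R A → R' ⊗_R B` are. -/
theorem result (R : Type u) [CommRing R] (R' : Type u) [CommRing R'] [Algebra R R'] (f : R)
    (hRR' : EtGlue.IsGlueingPair R R' f) (A B : Type u) [CommRing A] [Algebra R A] [CommRing B] [Algebra R B]
    (hA : EtGlue.IsGlueable R R' f A) (hB : EtGlue.IsGlueable R R' f B) (φ : A →ₐ[R] B) :
    (φ.toRingHom.Flat ∧ φ.toRingHom.FinitePresentation) ↔
      ((Localization.awayMap φ.toRingHom (algebraMap R A f)).Flat ∧ (Localization.awayMap φ.toRingHom (algebraMap R A f)).FinitePresentation) ∧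
        ((Algebra.TensorProduct.map (AlgHom.id R R') φ).toRingHom.Flat ∧ (Algebra.TensorProduct.map (AlgHom.id R R') φ).toRingHom.FinitePresentation) := by
  let := φ.toRingHom.toAlgebra
  let : Algebra A (R' ⊗[R] A) := Algebra.TensorProduct.rightAlgebra
  let := (Localization.awayMap φ.toRingHom (algebraMap R A f)).toAlgebra
  let := (Algebra.TensorProduct.map (AlgHom.id R R') φ).toRingHom.toAlgebra
  obtain ⟨hp, ⟨e₁⟩, ⟨e₂⟩⟩ := Groth.Agent.GlueAlgLib.exists_corners hRR' hA φ
  change (Module.Flat A B ∧ Algebra.FinitePresentation A B) ↔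
    (Module.Flat _ _ ∧ Algebra.FinitePresentation _ _) ∧ (Module.Flat _ _ ∧ Algebra.FinitePresentation _ _)
  refine ⟨fun ⟨_, _⟩ => ⟨⟨Module.Flat.of_linearEquiv e₁.symm.toLinearEquiv,
      Algebra.FinitePresentation.equiv e₁⟩, Module.Flat.of_linearEquiv e₂.symm.toLinearEquiv,
      Algebra.FinitePresentation.equiv e₂⟩, fun ⟨⟨_, _⟩, _, _⟩ => ?_⟩
  have := Module.Flat.of_linearEquiv e₁.toLinearEquiv
  have := Algebra.FinitePresentation.equiv e₁.symm
  have := Module.Flat.of_linearEquiv e₂.toLinearEquiv
  have := Algebra.FinitePresentation.equiv e₂.symm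
  have := Groth.Agent.GlueFlatLib.flat_of_glueing hp B
  exact ⟨inferInstance, Groth.Agent.GlueAlgLib.finitePresentation_of_glueing hp B⟩

end Groth.Agent.S10723
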