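import Groth.Statements.S10726
import Groth.Agent.GluePairHom.Main

set_option autoImplicit false
universe u
open CategoryTheory CategoryTheory.Limits AlgebraicGeometry TensorProduct
open AlgSp

set_option maxHeartbeats 800000

namespace Groth.Agent.S10726

/-- Let `(R → R', f)` be a glueing pair, `X = Spec R`, `U = Spec R_f`, `X' = Spec R'`, `U' = U ×_X X'`,
and let `Y`, `Z` be algebraic spaces over `X`, glueable for `(R → R', f)`, with `Z` having affine
diagonal over `X`. Then morphisms `a : U ×_X Y → U ×_X Z` over `U` and `b : X' ×_X Y → X' ×_X Z`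
over `X'` that induce the same morphism over `U'` are induced by a unique morphism `Y → Z` over `X`.
(The published statement asks both spaces to have affine diagonal over `X`; this row asks it only of
`Z`, which is all the argument uses.) -/
theorem result (R : Type u) [CommRing R] (R' : Type u) [CommRing R'] [Algebra R R']
    (f : R) (hRR' : EtGlue.IsGlueingPair R R' f) {Y Z YU ZU YX ZX YU' ZU' : AlgSp.Space (Spec (CommRingCat.of R))}
    (hY : (∀ (A : Type u) [CommRing A] [Algebra R A]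
      (g : (AlgSp.yon (Spec (CommRingCat.of R))).obj (Over.mk (Spec.map (CommRingCat.ofHom (algebraMap R A))) : Over (Spec (CommRingCat.of R))) ⟶ Y.obj),
      AlgSp.RepWith @Etale g → EtGlue.IsGlueable R R' f A))
    (hZ : (∀ (A : Type u) [CommRing A] [Algebra R A]
      (g : (AlgSp.yon (Spec (CommRingCat.of R))).obj (Over.mk (Spec.map (CommRingCat.ofHom (algebraMap R A))) : Over (Spec (CommRingCat.of R))) ⟶ Z.obj),
      AlgSp.RepWith @Etale g → EtGlue.IsGlueable R R' f A))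
    (hZd : AlgSp.IsAffineMor (Limits.diag Z.obj)) (πY : Y.obj ⟶ (AlgSp.yon (Spec (CommRingCat.of R))).obj (Over.mk (𝟙 _)))
    (πZ : Z.obj ⟶ (AlgSp.yon (Spec (CommRingCat.of R))).obj (Over.mk (𝟙 _)))
    (inU : (Over.mk (Spec.map (CommRingCat.ofHom (algebraMap R (Localization.Away f)))) : Over (Spec (CommRingCat.of R))) ⟶ Over.mk (𝟙 _))
    (inX : (Over.mk (Spec.map (CommRingCat.ofHom (algebraMap R R'))) : Over (Spec (CommRingCat.of R))) ⟶ Over.mk (𝟙 _))
    (uY : YU ⟶ Y) (sY : YU.obj ⟶ (AlgSp.yon (Spec (CommRingCat.of R))).obj (Over.mk (Spec.map (CommRingCat.ofHom (algebraMap R (Localization.Away f)))) : Over (Spec (CommRingCat.of R))))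
    (hYU : IsPullback uY.hom sY πY ((AlgSp.yon (Spec (CommRingCat.of R))).map inU))
    (uZ : ZU ⟶ Z) (sZ : ZU.obj ⟶ (AlgSp.yon (Spec (CommRingCat.of R))).obj (Over.mk (Spec.map (CommRingCat.ofHom (algebraMap R (Localization.Away f)))) : Over (Spec (CommRingCat.of R))))
    (hZU : IsPullback uZ.hom sZ πZ ((AlgSp.yon (Spec (CommRingCat.of R))).map inU))
    (xY : YX ⟶ Y) (rY : YX.obj ⟶ (AlgSp.yon (Spec (CommRingCat.of R))).obj (Over.mk (Spec.map (CommRingCat.ofHom (algebraMap R R'))) : Over (Spec (CommRingCat.of R))))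
    (hYX : IsPullback xY.hom rY πY ((AlgSp.yon (Spec (CommRingCat.of R))).map inX))
    (xZ : ZX ⟶ Z) (rZ : ZX.obj ⟶ (AlgSp.yon (Spec (CommRingCat.of R))).obj (Over.mk (Spec.map (CommRingCat.ofHom (algebraMap R R'))) : Over (Spec (CommRingCat.of R))))
    (hZX : IsPullback xZ.hom rZ πZ ((AlgSp.yon (Spec (CommRingCat.of R))).map inX))
    (mY₁ : YU' ⟶ YU) (mY₂ : YU' ⟶ YX) (hYU' : IsPullback mY₁.hom mY₂.hom uY.hom xY.hom)
    (mZ₁ : ZU' ⟶ ZU) (mZ₂ : ZU' ⟶ ZX) (hZU' : IsPullback mZ₁.hom mZ₂.hom uZ.hom xZ.hom)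
    (a : YU ⟶ ZU) (ha : a.hom ≫ sZ = sY) (b : YX ⟶ ZX) (hb : b.hom ≫ rZ = rY) (c : YU' ⟶ ZU')
    (hc₁ : c ≫ mZ₁ = mY₁ ≫ a) (hc₂ : c ≫ mZ₂ = mY₂ ≫ b) :
    ∃! φ : Y ⟶ Z, uY ≫ φ = a ≫ uZ ∧ xY ≫ φ = b ≫ xZ := by
  have agree : ∀ {T : Over (Spec (CommRingCat.of R))} (y : (AlgSp.yon (Spec (CommRingCat.of R))).obj T ⟶ Y.obj) r r',
      GluePairHom.rho hYU (a.hom ≫ uZ.hom) y r = GluePairHom.rho hYX (b.hom ≫ xZ.hom) y r' := by
    intro T y r r'
    have e : hYU.lift y ((AlgSp.yon _).map r) (GluePairHom.comp_terminal _ _) ≫ uY.hom =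
        hYX.lift y ((AlgSp.yon _).map r') (GluePairHom.comp_terminal _ _) ≫ xY.hom := by
      rw [hYU.lift_fst, hYX.lift_fst]
    have h₁ : c.hom ≫ mZ₁.hom = mY₁.hom ≫ a.hom := congrArg InducedCategory.Hom.hom hc₁
    have h₂ : c.hom ≫ mZ₂.hom = mY₂.hom ≫ b.hom := congrArg InducedCategory.Hom.hom hc₂
    rw [GluePairHom.rho, GluePairHom.rho]
    conv_lhs => rw [← hYU'.lift_fst _ _ e]
    conv_rhs => rw [← hYU'.lift_snd _ _ e]
    rw [Category.assoc, Category.assoc, ← reassoc_of% h₁, ← reassoc_of% h₂, hZU'.w]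
  obtain ⟨φ, ⟨hφU, hφX⟩, huniq⟩ := GluePairHom.existsUnique_glue hRR' Y.property Z.property hZd hY
    (fun y r => GluePairHom.rho hYU (a.hom ≫ uZ.hom) y r) (fun y r => GluePairHom.rho hYX (b.hom ≫ xZ.hom) y r)
    (fun g y r => GluePairHom.map_rho hYU _ g y r) (fun g y r => GluePairHom.map_rho hYX _ g y r) agree
  refine ⟨ObjectProperty.homMk φ, ⟨?_, ?_⟩, fun ψ hψ => ?_⟩
  · refine ObjectProperty.hom_ext _ (GrothendieckTopology.hom_ext_uliftYoneda.{u + 1} (AlgSp.J _) fun T l => ?_)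
    obtain ⟨r, hr⟩ := (AlgSp.yon _).map_surjective (l ≫ sY)
    change l ≫ uY.hom ≫ φ = l ≫ a.hom ≫ uZ.hom
    rw [← Category.assoc, hφU T _ r]
    exact GluePairHom.rho_self hYU _ l r hr
  · refine ObjectProperty.hom_ext _ (GrothendieckTopology.hom_ext_uliftYoneda.{u + 1} (AlgSp.J _) fun T l => ?_)
    obtain ⟨r, hr⟩ := (AlgSp.yon _).map_surjective (l ≫ rY)
    change l ≫ xY.hom ≫ φ = l ≫ b.hom ≫ xZ.hom
    rw [← Category.assoc, hφX T _ r]
    exact GluePairHom.rho_self hYX _ l r hr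
  · refine ObjectProperty.hom_ext _ (huniq ψ.hom ⟨fun T y r => ?_, fun T y r => ?_⟩)
    · have e : uY.hom ≫ ψ.hom = a.hom ≫ uZ.hom := congrArg InducedCategory.Hom.hom hψ.1
      change y ≫ ψ.hom = GluePairHom.rho hYU (a.hom ≫ uZ.hom) y r
      rw [GluePairHom.rho, ← e, hYU.lift_fst_assoc]
    · have e : xY.hom ≫ ψ.hom = b.hom ≫ xZ.hom := congrArg InducedCategory.Hom.hom hψ.2
      change y ≫ ψ.hom = GluePairHom.rho hYX (b.hom ≫ xZ.hom) y r
      rw [GluePairHom.rho, ← e, hYX.lift_fst_assoc]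

end Groth.Agent.S10726
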