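import Groth.Statements.S10747
import Groth.Agent.ModEtQcLib.Sub
import Groth.Agent.ModEtQcLib.Coherent
import Groth.Agent.AlgSpLib.Qc
-- import your own Groth.Agent.* helpers here

set_option autoImplicit false
set_option backward.isDefEq.respectTransparency false
set_option backward.isDefEq.respectTransparency.types false
universe u
open CategoryTheory CategoryTheory.Limits AlgebraicGeometry Opposite
open AlgSp

namespace Groth.Agent.S10747

/-- Let X be a Noetherian algebraic space over S (quasi-compact, quasi-separated, locally Noetherian)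
and M a coherent O_X-module on the small etale site of X (of finite presentation, X being locally
Noetherian). Then every increasing sequence N₁ ≤ N₂ ≤ … of subobjects of M whose underlying modules
are quasi-coherent is eventually constant. -/
theorem result {S : Scheme.{u}} (X : AlgSp.Space S)
    (hqc : AlgSp.IsQuasiCompactSp X.obj) (hqs : AlgSp.IsQuasiSeparatedSp X.obj) (hN : AlgSp.IsLocNoethSp X.obj)
    (M : AlgSp.ModEt X.obj) [M.IsFinitePresentation] (N : ℕ →o Subobject M)
    (hq : ∀ n, (Subobject.underlying.obj (N n)).IsQuasicoherent) :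
    ∃ n, ∀ m, n ≤ m → N m = N n := by
  obtain ⟨U, p, hU, hp, hps⟩ := AlgSpLib.exists_affine_chart hqc
  let E₀ : EtOver X.obj := EtOver.mk p hp
  haveI : IsAffine E₀.obj.left.left := hU
  haveI := ModEtQc.isNoetherianRing_ring hN E₀
  haveI := ModEtQc.finite_sec M (ModEtQc.bc_of_isQuasicoherent M) E₀
  let c : ℕ →o Submodule (ModEtQc.Ring E₀) (ModEtQc.sec M E₀) :=
    ⟨fun n => LinearMap.range (ModEtQc.appS (N n).arrow E₀), fun n m hnm => by
      rintro _ ⟨x, rfl⟩
      exact ⟨ModEtQc.appS (Subobject.ofLE _ _ (N.monotone hnm)) E₀ x,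
        congrArg (fun φ => ModEtQc.appS φ E₀ x) (Subobject.ofLE_arrow (N.monotone hnm))⟩⟩
  obtain ⟨n, hn⟩ := monotone_stabilizes_iff_noetherian.2 (isNoetherian_of_isNoetherianRing_of_finite (ModEtQc.Ring E₀) (ModEtQc.sec M E₀)) c
  refine ⟨n, fun m hnm => ?_⟩
  let A : ModEt X.obj := Subobject.underlying.obj (N n)
  let B : ModEt X.obj := Subobject.underlying.obj (N m)
  let k : A ⟶ B := Subobject.ofLE _ _ (N.monotone hnm)
  have hk0 : Function.Surjective (ModEtQc.appS k E₀) := fun y => by
    obtain ⟨x, hx⟩ := (SetLike.ext_iff.1 (hn m hnm) (ModEtQc.appS (N m).arrow E₀ y)).2 ⟨y, rfl⟩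
    refine ⟨x, ModEtQc.injective_appS (N m).arrow E₀ ?_⟩
    exact (congrArg (fun φ => ModEtQc.appS φ E₀ x) (Subobject.ofLE_arrow (N.monotone hnm))).trans hx
  have hB : ModEtQc.BC B := by
    haveI := hq m
    exact ModEtQc.bc_of_isQuasicoherent B
  have key : ∀ (Z : EtOver X.obj), IsAffine Z.obj.left.left → (Z ⟶ E₀) → Function.Surjective (ModEtQc.appS k Z) := by
    intro Z hZ a y
    obtain ⟨t, rfl⟩ := (((ModEtQc.isTilde_iff_evS B E₀).1 (hB E₀ hU)) (Over.mk a) hZ).2 y
    obtain ⟨s, rfl⟩ := LinearMap.lTensor_surjective (ModEtQc.Ring (Over.mk a).left) hk0 t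
    exact ⟨_, (ModEtQc.evS_natural k (Over.mk a) s).symm⟩
  have : IsIso k := ModEtQc.isIso_of_locally_surjective k fun E s => by
    obtain ⟨ι, Y, g, hY, hc⟩ := ModEtQc.exists_affine_cover (EtOver.prodObj E E₀)
    have hsurj : Surjective (EtOver.prodFst E E₀).hom.left.left :=
      ((repWith_iff @Surjective E₀.obj.hom).1 hps).2 E.obj.hom _ _ (E₀.property.1.isPullback E.obj.hom)
    refine ⟨ULift.{u + 1} ι, fun i => Y i.down, fun i => g i.down ≫ EtOver.prodFst E E₀, fun x => ?_, fun i => ?_⟩
    · obtain ⟨z, rfl⟩ := hsurj.surj x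
      obtain ⟨i, w, rfl⟩ := hc z
      exact ⟨⟨i⟩, w, rfl⟩
    · exact key _ (hY i.down) (g i.down ≫ EtOver.prodSnd E E₀) _
  exact (le_antisymm (N.monotone hnm) (Subobject.le_of_comm (inv k) (by
    rw [IsIso.inv_comp_eq]; exact (Subobject.ofLE_arrow (N.monotone hnm)).symm))).symm

end Groth.Agent.S10747
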