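import Groth.Statements.S1075
import Groth.Agent.DerLib.KInjUse
import Mathlib.Algebra.Homology.DerivedCategory.DerivabilityStructureInjectives
-- import your own Groth.Agent.* helpers here

set_option autoImplicit false
set_option linter.style.haveILetI false
universe w v u
open CategoryTheory CategoryTheory.Limits
open CohDer

namespace Groth.Agent.S1075

/-- In D(A), for A abelian with enough injectives and countable products, every sequence of
bounded-below objects has a product, so derived limits of such sequences exist. -/
theorem result {A : Type u} [Category.{v} A] [Abelian A] [HasDerivedCategory.{w} A]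
    [HasLimitsOfShape (Discrete ℕ) A] [EnoughInjectives A]
    (K : ℕ → DerivedCategory A) (hK : ∀ n, ∃ a : ℤ, (K n).IsGE a) : HasProduct K := by
  have key : ∀ n, ∃ I : CochainComplex A ℤ, I.IsKInjective ∧
      Nonempty (K n ≅ DerivedCategory.Q.obj I) := fun n => by
    obtain ⟨a, ha⟩ := hK n
    obtain ⟨M, hM, ⟨e⟩⟩ := (K n).exists_iso_Q_obj_of_isGE a
    obtain ⟨L, f, hf, hLi, hLn⟩ :=
      CochainComplex.Plus.modelCategoryQuillen.exists_quasiIso_injective M a
    exact ⟨L, CochainComplex.isKInjective_of_injective L a,
      ⟨e ≪≫ asIso (DerivedCategory.Q.map f)⟩⟩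
  choose I hI e using key
  exact Groth.Agent.DerLib.KInjUse.hasProduct_of_kInjective K I hI e

end Groth.Agent.S1075
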