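import Groth.Statements.S10750
import Groth.Agent.AlgSpLib.FiniteNhd
import Groth.Agent.AlgSpLib.DecentPoints

set_option autoImplicit false
universe u
open CategoryTheory CategoryTheory.Limits AlgebraicGeometry Opposite
open AlgSp

namespace Groth.Agent.S10750

/-- Take a proper morphism f : X ⟶ Y of algebraic spaces over S whose target Y is locally Noetherian,
and let y be a geometric point of Y such that the fibre X_y (a pullback of f along the corresponding
morphism from the spectrum of the algebraically closed field) has finitely many points. Then there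
is an open subspace V of Y containing the image of y such that the base change X ×_Y V ⟶ V is
finite. -/
theorem result {S : Scheme.{u}} {X Y : AlgSp.Space S}
    (f : X ⟶ Y) (hY : AlgSp.IsLocNoethSp Y.obj) (hf : AlgSp.IsProperMor f.hom) (y : AlgSp.FieldPt Y.obj)
    (hy : y.IsGeometric) (Xy : AlgSp.Sp S) (fst : Xy ⟶ X.obj) (snd : Xy ⟶ (AlgSp.yon S).obj y.pt)
    (hsq : IsPullback fst snd f.hom y.toHom) (hfin : Finite (AlgSp.Points Xy)) :
    ∃ (V : AlgSp.Space S) (j : V ⟶ Y), AlgSp.RepWith @IsOpenImmersion j.hom ∧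
      AlgSp.Points.mk y ∈ Set.range (AlgSp.Points.map j.hom) ∧
        ∀ (P : AlgSp.Space S) (fst' : P ⟶ X) (snd' : P ⟶ V), IsPullback fst'.hom snd'.hom f.hom j.hom →
          AlgSp.IsFiniteMor snd'.hom := by
  have hK : AlgSp.IsAlgSpace ((AlgSp.yon S).obj y.pt) := IsAlgSpace.yon_obj _
  have hXy := AlgSpLib.isAlgSpace_of_isPullback X.property hK Y.property hsq
  have hd : AlgSp.IsDecent Xy := AlgSpLib.isDecent_of_isQuasiSeparatedMor hXy
    (AlgSpLib.isQuasiSeparatedMor_of_isSeparatedMor (AlgSpLib.repWith_diagonal_of_isPullback hsq hf.1))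
  refine AlgSpLib.exists_open_finite_of_qf_fibre f _ hf fun x hx => ?_
  obtain ⟨w, rfl⟩ := AlgSpLib.exists_fibre_point hsq hx
  exact (AlgSpLib.hasAtMor_fibreDim_baseChange X.property Y.property hK hsq hf.2.1.1 (fun t => t = 0) w).1
    (AlgSpLib.zero_of_finite hXy hK (AlgSpLib.locP_of_isPullback X.property Y.property hK hsq hf.2.1.1) hd
      (Set.toFinite _))
end Groth.Agent.S10750
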