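import Groth.Statements.S10755
import Groth.Agent.ModEtQcLib.SuppCoh
-- import your own Groth.Agent.* helpers here

set_option autoImplicit false
set_option backward.isDefEq.respectTransparency false
set_option backward.isDefEq.respectTransparency.types false
universe u
open CategoryTheory CategoryTheory.Limits AlgebraicGeometry Opposite
open AlgSp

namespace Groth.Agent.S10755

/-- Let X be a Noetherian algebraic space over S (quasi-compact, quasi-separated, locally Noetherian), M
a coherent O_X-module on the small etale site of X (of finite presentation, X being locally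
Noetherian), I a quasi-coherent sheaf of ideals on X and i : Z ⟶ X the closed subspace cut out by I.
Then I^n M = 0 for some n ≥ 0 (on every affine object U of the site the ideal I^n(U) annihilates
every section of M over U) if and only if the support of M is contained in |Z| set-theoretically
(the stalk of M at every geometric point of X whose image in |X| is not in |Z| vanishes). -/
theorem result {S : Scheme.{u}} (X : AlgSp.Space S)
    (hqc : AlgSp.IsQuasiCompactSp X.obj) (hqs : AlgSp.IsQuasiSeparatedSp X.obj) (hN : AlgSp.IsLocNoethSp X.obj)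
    (M : AlgSp.ModEt X.obj) [M.IsFinitePresentation] (I : AlgSp.IdealEt X.obj) (hI : I.IsQCoh)
    {Z : AlgSp.Space S} (i : Z ⟶ X) (hZ : AlgSp.IsCutOutBy I i.hom) :
    (∃ n : ℕ, ∀ (E : AlgSp.EtOver X.obj) (hE : IsAffine E.obj.left.left) (s : AlgSp.sectModEt M E),
        (I ^ n).ideal E hE ≤ AlgSp.annSect s) ↔
      ∀ x : AlgSp.FieldPt X.obj, x.IsGeometric → AlgSp.Points.mk x ∉ Set.range (AlgSp.Points.map i.hom) →
        IsZero (AlgSp.stalkEt x ((AlgSp.toAbEt X.obj).obj M)) := by
  refine ⟨fun ⟨n, hn⟩ x hx hxZ => ModEtQc.isZero_stalk_of_forall X.property M x hx fun N hN' s =>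
    ModEtQc.stalkι_eq_zero_of_not_le X.property M x hx N s fun hle => hxZ ?_, fun h =>
      ModEtQc.pow_le_ann_of_support hN hqc M I hI i hZ h⟩
  have hle' : (I.ideal N.1 hN') ^ n ≤ AlgSp.primeAtPt N.1.obj.left.left (N.2.1.left (IsLocalRing.closedPoint x.K)) :=
    (hn N.1 hN' s).trans hle
  have := ((ModEtQc.cuts_of_isCutOutBy hN I hZ N.1 hN').2 _).1
    (fun a ha => Ideal.IsPrime.mem_of_pow_mem inferInstance n (hle' (Ideal.pow_mem_pow ha n)))
  rwa [← AlgSpLib.ofPt_yon_comp, N.2.2, AlgSp.Points.ofPt_toHom] at this

end Groth.Agent.S10755
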