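import Groth.Statements.S10768
import Groth.Agent.FiltLib.Chain


set_option autoImplicit false
set_option backward.isDefEq.respectTransparency false
set_option backward.isDefEq.respectTransparency.types false
universe u
open CategoryTheory CategoryTheory.Limits AlgebraicGeometry
open AlgSp

namespace Groth.Agent.S10768

/-- Let X be a quasi-compact and quasi-separated algebraic space over S, W ⊂ X a quasi-compact open
subspace, and P a property of open subspaces of X (pairs of an algebraic space and a representable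
open immersion into X). Assume (1) W has property P, and (2) given any elementary distinguished
square (W₁ ⊂ W₂, V ⟶ W₂) where W₁ ⊂ W₂ are quasi-compact open subspaces of X containing W and V is
affine, P for W₁ implies P for W₂. Then P holds for X (with its identity). Quasi-separatedness is
relative to S with S quasi-separated. -/
theorem result {S : Scheme.{u}} [QuasiSeparatedSpace ↥S] (X : AlgSp.Space S)
    (hXc : AlgSp.IsQuasiCompactSp X.obj) (hXs : AlgSp.IsQuasiSeparatedSp X.obj)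
    (P : ∀ U : AlgSp.Space S, (U ⟶ X) → Prop)
    (W : AlgSp.Space S) (jW : W ⟶ X) (hjW : AlgSp.RepWith @IsOpenImmersion jW.hom)
    (hWc : AlgSp.IsQuasiCompactSp W.obj) (h1 : P W jW)
    (h2 : ∀ (W₁ W₂ V : AlgSp.Space S) (j₁ : W₁ ⟶ X) (j₂ : W₂ ⟶ X) (k : W₁ ⟶ W₂) (m : W ⟶ W₁) (f : V ⟶ W₂),
      AlgSp.RepWith @IsOpenImmersion j₁.hom → AlgSp.RepWith @IsOpenImmersion j₂.hom →
      k ≫ j₂ = j₁ → m ≫ j₁ = jW →
      AlgSp.IsQuasiCompactSp W₁.obj → AlgSp.IsQuasiCompactSp W₂.obj →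
      (∃ T : Over S, IsAffine T.left ∧ Nonempty ((AlgSp.yon S).obj T ≅ V.obj)) →
      AlgSp.IsElemDistSq k.hom f.hom → P W₁ j₁ → P W₂ j₂) :
    P X (𝟙 X) := by
  suffices H : ∀ (W₂ : AlgSp.Space S) (j₂ : W₂ ⟶ X), AlgSp.RepWith @IsOpenImmersion j₂.hom →
      Set.range (AlgSp.Points.map j₂.hom) = Set.univ → P W₂ j₂ by
    exact H X (𝟙 X) (AlgSpLib.repWith_of_isIso (𝟙 X.obj))
      (Set.range_eq_univ.2 fun x => ⟨x, AlgSp.Points.map_id x⟩)
  refine FiltLib.open_induction X.property hXc hXs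
    (fun O => ∀ (W₂ : AlgSp.Space S) (j₂ : W₂ ⟶ X), AlgSp.RepWith @IsOpenImmersion j₂.hom →
      Set.range (AlgSp.Points.map j₂.hom) = O → P W₂ j₂)
    (Set.range (AlgSp.Points.map jW.hom)) (FiltLib.isOpen_range_of_openImmersion W.property hjW)
    (FiltLib.isCompact_range_of_qc hWc jW.hom) ?_ ?_
  · intro W₂ j₂ hj₂ hr
    obtain ⟨V, g, hV, hg, hrg, -, hi⟩ := FiltLib.exists_empty_chart X.property
    obtain ⟨k, f, hk, -, hsq⟩ := FiltLib.exists_step jW j₂ hjW hj₂ g hg (by rw [hrg, Set.union_empty, hr]) (hi _)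
    exact h2 W W₂ _ jW j₂ k (𝟙 W) f hjW hj₂ hk (Category.id_comp _) hWc
      (FiltLib.isQuasiCompactSp_of_isCompact_range W₂.property hj₂ (hr ▸ FiltLib.isCompact_range_of_qc hWc jW.hom))
      ⟨V, hV, ⟨Iso.refl _⟩⟩ hsq h1
  · intro O₁ V g hO hc hsub hV hg hgi hQ W₂ j₂ hj₂ hr
    haveI := hV
    have hj₁ : AlgSp.RepWith @IsOpenImmersion (FiltLib.openSpaceι X O₁ hO).hom := FiltLib.repWith_openSpaceι X hO
    have hr₁ : Set.range (AlgSp.Points.map (FiltLib.openSpaceι X O₁ hO).hom) = O₁ := FiltLib.range_openSpaceι X hO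
    obtain ⟨k, f, hk, -, hsq⟩ := FiltLib.exists_step (FiltLib.openSpaceι X O₁ hO) j₂ hj₁ hj₂ g hg
      (by rw [hr₁, hr]) (by rw [hr₁]; exact hgi)
    obtain ⟨m, hm⟩ := (AlgSpLib.exists_factor_iff hj₁ jW.hom).2 (by rw [hr₁]; exact hsub)
    exact h2 _ W₂ _ _ j₂ k (ObjectProperty.homMk m) f hj₁ hj₂ hk (ObjectProperty.hom_ext _ hm)
      (FiltLib.isQuasiCompactSp_of_isCompact_range (FiltLib.openSpace X O₁ hO).property hj₁ (hr₁.symm ▸ hc))
      (FiltLib.isQuasiCompactSp_of_isCompact_range W₂.property hj₂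
        (hr ▸ hc.union (isCompact_range (AlgSp.Points.continuous_ofPt g))))
      ⟨V, hV, ⟨Iso.refl _⟩⟩ hsq (hQ _ _ hj₁ hr₁)


end Groth.Agent.S10768
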