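import Groth.Statements.S10769
import Groth.Agent.ModEtQcLib.Sub
import Groth.Agent.FiltSectLib.Coprod
-- import your own Groth.Agent.* helpers here

set_option autoImplicit false
universe u
open CategoryTheory CategoryTheory.Limits AlgebraicGeometry
attribute [local instance] HasDerivedCategory.standard
open AlgSp

namespace Groth.Agent.S10769

/-- Let X be an algebraic space over S and E_i a family of objects of D(O_X) (modules on the small etale
site) with quasi-coherent cohomology sheaves. Granted that the direct sum of the E_i exists in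
D(O_X) (it does), the direct sum again has quasi-coherent cohomology sheaves; thus D_QCoh(O_X) has
direct sums and they agree with those of D(O_X). -/
theorem result {S : Scheme.{u}} (X : AlgSp.Space S) {ι : Type (u + 1)}
    (E : ι → AlgSp.DModEt X.obj) [HasCoproduct E]
    (hE : ∀ i, DCoh.IsQCohDMod (AlgSp.OEtRing X.obj) (E i)) :
    DCoh.IsQCohDMod (AlgSp.OEtRing X.obj) (∐ E) := by
  intro m
  let A := AlgSp.ModEt X.obj
  haveI : IsGrothendieckAbelian.{u + 1} A := ModEtQc.isGrothendieckAbelian_modEt
  haveI : HasFiniteBiproducts A := Abelian.hasFiniteBiproducts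
  haveI : AB4OfSize.{u + 1} A := AB4.of_AB5 A
  let P := fun i => DerivedCategory.Q.objPreimage (E i)
  let φ := DerivedCategory.homologyFunctorFactors A m
  obtain ⟨hP⟩ := FiltSectLib.isColimit_target
    (c := (HomologicalComplex.homologyFunctor A (ComplexShape.up ℤ) m).mapCocone (Cofan.mk (∐ P) (Sigma.ι P)))
    (c' := (DerivedCategory.Q ⋙ DerivedCategory.homologyFunctor A m).mapCocone (Cofan.mk (∐ P) (Sigma.ι P)))
    (Functor.whiskerLeft _ φ.inv) (φ.inv.app _) (fun j => φ.inv.naturality _)
    (Groth.Agent.FreeResLib.isColimitHomology (Discrete.functor P) (coproductIsCoproduct P) m)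
  obtain ⟨h⟩ := FiltSectLib.nonempty_isColimit_cofan (DerivedCategory.homologyFunctor A m) E P
    (fun i => DerivedCategory.Q.objObjPreimageIso (E i)) hP
  exact ObjectProperty.prop_of_iso (SheafOfModules.isQuasicoherent (AlgSp.OEtRing X.obj))
    ((coproductIsCoproduct _).coconePointUniqueUpToIso h)
    (ModEtQc.isQuasicoherent_of_bc _ (ModEtQc.bc_colimit (X := X.obj)
      (Discrete.functor fun i => DCoh.HDMod (AlgSp.OEtRing X.obj) (E i) m)
      fun i => (ModEtQc.isQuasicoherent_iff_bc _).1 (hE i.as m)))

end Groth.Agent.S10769
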