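import Groth.Statements.S1077
import Groth.Agent.FinLenLib.Basic
-- import your own Groth.Agent.* helpers here

set_option autoImplicit false
set_option linter.style.haveILetI false
universe v u
open CategoryTheory CategoryTheory.Limits
open CohDer

namespace Groth.Agent.S1077

/-- An object X of an abelian category is Artinian and Noetherian if and only if there is a finite chain
of subobjects ⊥ = F₀ ≤ F₁ ≤ … ≤ Fₙ = ⊤ of X whose successive quotients Fᵢ₊₁/Fᵢ are simple. -/
theorem result {A : Type u} [Category.{v} A] [Abelian A] (X : A) :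
    (IsArtinianObject X ∧ IsNoetherianObject X) ↔
      ∃ (n : ℕ) (F : Fin (n + 1) → Subobject X) (hF : Monotone F), F 0 = ⊥ ∧ F (Fin.last n) = ⊤ ∧
        ∀ i : Fin n, Simple (cokernel (Subobject.ofLE (F (Fin.castSucc i)) (F (Fin.succ i)) (hF (Fin.castSucc_lt_succ (i := i)).le))) := by
  constructor
  · rintro ⟨hA, hN⟩
    suffices ∀ U : Subobject X, ∃ (n : ℕ) (F : Fin (n + 1) → Subobject X) (hF : Monotone F), F 0 = ⊥ ∧
        F (Fin.last n) = U ∧ ∀ i : Fin n, Simple (cokernel (Subobject.ofLE (F (Fin.castSucc i)) (F (Fin.succ i))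
          (hF (Fin.castSucc_lt_succ (i := i)).le))) from this ⊤
    intro U
    induction U using (wellFounded_lt (α := Subobject X)).induction with
    | _ U ih =>
      rcases eq_or_ne U ⊥ with rfl | hU
      · exact ⟨0, fun _ => ⊥, fun _ _ _ => le_rfl, rfl, rfl, fun i => i.elim0⟩
      · obtain ⟨V, hV, hmax⟩ := (wellFounded_gt (α := Subobject X)).has_min {W | W < U} ⟨⊥, bot_lt_iff_ne_bot.2 hU⟩
        have hcov : V ⋖ U := ⟨hV, fun {W} h₁ h₂ => hmax W h₂ h₁⟩
        obtain ⟨n, F, hF, h0, hlast, hs⟩ := ih V hV
        have hG : Monotone (Fin.snoc F U : Fin (n + 2) → Subobject X) := Fin.monotone_iff_le_succ.2 fun i => by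
          induction i using Fin.lastCases with
          | last => rw [Fin.snoc_castSucc, Fin.succ_last, Fin.snoc_last, hlast]; exact hV.le
          | cast j => rw [Fin.snoc_castSucc, Fin.succ_castSucc, Fin.snoc_castSucc]; exact hF (Fin.castSucc_lt_succ (i := j)).le
        have key : ∀ {P Q P' Q' : Subobject X} (hpq : P ≤ Q) (hpq' : P' ≤ Q'), P = P' → Q = Q' →
            Simple (cokernel (Subobject.ofLE P Q hpq)) → Simple (cokernel (Subobject.ofLE P' Q' hpq')) := by
          rintro P Q P' Q' hpq hpq' rfl rfl hh
          exact hh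
        refine ⟨n + 1, Fin.snoc F U, hG, ?_, Fin.snoc_last _ _, fun i => ?_⟩
        · rw [← Fin.castSucc_zero, Fin.snoc_castSucc, h0]
        · induction i using Fin.lastCases with
          | last => exact key hcov.le (hG (Fin.castSucc_lt_succ (i := Fin.last n)).le) (by rw [Fin.snoc_castSucc, hlast]) (by rw [Fin.succ_last, Fin.snoc_last]) (FinLenLib.simple_cokernel_of_covBy hcov)
          | cast j => exact key (hF (Fin.castSucc_lt_succ (i := j)).le) (hG (Fin.castSucc_lt_succ (i := Fin.castSucc j)).le) (by rw [Fin.snoc_castSucc]) (by rw [Fin.succ_castSucc, Fin.snoc_castSucc]) (hs j)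
  · rintro ⟨n, F, hF, h0, hlast, hs⟩
    have key : ∀ i : Fin (n + 1), IsArtinianObject (F i : A) ∧ IsNoetherianObject (F i : A) := by
      intro i
      induction i using Fin.induction with
      | zero =>
        rw [h0]
        have hz : IsZero ((⊥ : Subobject X) : A) := (isZero_zero A).of_iso Subobject.botCoeIsoZero
        exact ⟨isArtinianObject_of_isZero hz, isNoetherianObject_of_isZero hz⟩
      | succ j ih =>
        let S := ShortComplex.mk (Subobject.ofLE (F (Fin.castSucc j)) (F (Fin.succ j)) (hF (Fin.castSucc_lt_succ (i := j)).le))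
          (cokernel.π _) (cokernel.condition _)
        have hS : S.ShortExact := ShortComplex.ShortExact.mk'
          (ShortComplex.exact_of_g_is_cokernel _ (cokernelIsCokernel _)) (by dsimp [S]; infer_instance) (by dsimp [S]; infer_instance)
        haveI := hs j
        obtain ⟨ha, hn⟩ := FinLenLib.artinian_noetherian_of_simple S.X₃
        exact ⟨FinLenLib.isArtinianObject_of_shortExact hS ih.1 ha,
          FinLenLib.isNoetherianObject_of_shortExact hS ih.2 hn⟩
    obtain ⟨ha, hn⟩ := key (Fin.last n)
    rw [hlast] at ha hn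
    haveI := ha
    haveI := hn
    exact ⟨isArtinianObject_of_mono (inv (⊤ : Subobject X).arrow), isNoetherianObject_of_mono (inv (⊤ : Subobject X).arrow)⟩

end Groth.Agent.S1077
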