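import Groth.Statements.S10772
import Groth.Agent.AlgSpPerfLib.Coherent
import Groth.Agent.AlgSpAffLib.Criterion
import Groth.Agent.DerLib.KInjUse
import Groth.Agent.S10771

set_option autoImplicit false
set_option linter.style.haveILetI false
set_option backward.isDefEq.respectTransparency false
set_option backward.isDefEq.respectTransparency.types false
set_option maxHeartbeats 1000000
set_option synthInstance.maxHeartbeats 200000
universe u
open CategoryTheory CategoryTheory.Limits AlgebraicGeometry
attribute [local instance] HasDerivedCategory.standard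
open AlgSp

namespace Groth.Agent.S10772

open Groth.Agent

/-- A quasi-coherent module receiving an epimorphism from the cohomology of a strictly perfect complex
has a finite presentation over the affine objects over the complex. -/
theorem exists_finite_presentation {S : Scheme.{u}} {X : AlgSp.Sp S} (hXn : AlgSp.IsLocNoethSp X) {V W : AlgSp.EtOver X}
    (g : W ⟶ V) [IsAffine W.obj.left.left] (M : AlgSp.ModEt X) (hM : M.IsQuasicoherent)
    (P : CochainComplex (AlgSp.ModEtOn V) ℤ) (hP : DCoh.IsStrictlyPerfectMod (AlgSp.OEtOn V) P) (i : ℤ)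
    (f : P.homology i ⟶ M.over V) [Epi f] : ∃ Q : (M.over W).Presentation, Q.IsFinite := by
  let R := AlgSpPerfLib.rm g
  haveI : PreservesFiniteColimits R := inferInstance
  haveI := ModEtQc.isNoetherianRing_ring hXn W
  let K := (AlgSpPerfLib.mapC R).obj P
  have hK : DCoh.IsStrictlyPerfectMod (AlgSp.OEtOn W) K := AlgSpPerfLib.isStrictlyPerfect_rm g hP
  have hM' : ModEtQc.IsTilde (M.over W) := (ModEtQc.isQuasicoherent_iff_bc M).1 hM W ‹_›
  let f' : K.homology i ⟶ M.over W :=
    ((P.sc i).mapHomologyIso R).hom ≫ R.map f ≫ (SheafOfModules.overFunctorMap (AlgSp.OEtRing X) g).hom.app M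
  haveI : Epi f' :=
    @epi_comp _ _ _ _ _ _ inferInstance _ (@epi_comp _ _ _ _ _ _ (R.map_epi f) _
      (inferInstanceAs (Epi ((SheafOfModules.overFunctorMap (AlgSp.OEtRing X) g).app M).hom)))
  haveI := AlgSpPerfLib.finite_gamma_homology hK.2 i
  haveI := AlgSpPerfLib.finite_gamma_of_epi f'
    (AlgSpPerfLib.isTilde_homology K (fun j => AlgSpPerfLib.isTilde_summand (hK.2 j)) i) hM'
  exact ModEtQc.exists_finite_presentation_of_isTilde hM'

theorem isZero_of_atlas {S : Scheme.{u}} {X : AlgSp.Sp S} {U : Over S} [IsAffine U.left] (p : (AlgSp.yon S).obj U ⟶ X)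
    (hp : AlgSp.RepWith @Etale p) (hs : AlgSp.RepWith @Surjective p) (M : AlgSp.ModEt X) (hM : M.IsQuasicoherent)
    (h : Subsingleton (ModEtQc.sec M (AlgSpCohColim.e0 p hp))) : IsZero M := by
  have hz : IsZero ((AlgSp.resModEt (AlgSpCohColim.e0 p hp)).obj M) := by
    haveI : IsAffine (AlgSpCohColim.e0 p hp).obj.left.left := ‹IsAffine U.left›
    exact AlgSpPerfLib.isZero_of_isTilde ((ModEtQc.isQuasicoherent_iff_bc M).1 hM _ ‹_›)
      (@ModuleCat.isZero_of_subsingleton _ _ ((ModEtQc.Γt (AlgSpCohColim.e0 p hp)).obj ((AlgSp.resModEt (AlgSpCohColim.e0 p hp)).obj M)) h)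
  have hT : ∀ (T : AlgSp.EtOver X) (t : T ⟶ AlgSpCohColim.e0 p hp), Subsingleton (ModEtQc.sec M T) := fun T t =>
    subsingleton_of_forall_eq 0 fun x =>
      ConcreteCategory.congr_hom (congrArg (fun φ : (AlgSp.resModEt (AlgSpCohColim.e0 p hp)).obj M ⟶ _ =>
        φ.val.app (Opposite.op (Over.mk t))) (hz.eq_of_src (𝟙 _) 0)) x
  have hsub : ∀ Z, Subsingleton (ModEtQc.sec M Z) := fun Z => ⟨fun x y =>
    ModEtQc.eq_of_cover M (fun _ : PUnit.{1} => AlgSpCohColim.prd p hp Z) (fun _ => AlgSpCohColim.prdπ p hp Z)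
      (fun e => ⟨⟨⟩, (hs.property _ _ _ (hp.rep.isPullback Z.obj.hom)).surj e⟩) x y
      fun _ => @Subsingleton.elim _ (hT _ (AlgSpCohColim.prdk p hp Z)) _ _⟩
  refine (IsZero.iff_id_eq_zero M).2 (SheafOfModules.hom_ext (PresheafOfModules.hom_ext fun Z => ?_))
  ext x
  exact @Subsingleton.elim _ (hsub Z.unop) _ _

/-- Let X be a Noetherian algebraic space over S (quasi-compact, quasi-separated, locally Noetherian)
and E an object of D(O_X) (modules on the small etale site) with quasi-coherent cohomology sheaves.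
For an integer m the following are equivalent: (1) H^i(E) is coherent (here: of finite type, the
cohomology sheaves being quasi-coherent on a locally Noetherian space) for i ≥ m and H^i(E) = 0 for
all large i; (2) E is m-pseudo-coherent. In particular E is pseudo-coherent exactly when it is
bounded above with coherent cohomology sheaves. -/
theorem result {S : Scheme.{u}} (X : AlgSp.Space S)
    (hXc : AlgSp.IsQuasiCompactSp X.obj) (hXs : AlgSp.IsQuasiSeparatedSp X.obj) (hXn : AlgSp.IsLocNoethSp X.obj)
    (E : AlgSp.DModEt X.obj) (hE : DCoh.IsQCohDMod (AlgSp.OEtRing X.obj) E) (m : ℤ) :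
    AlgSp.IsPseudoCoherentEtD m E ↔
      (∀ i : ℤ, m ≤ i → (DCoh.HDMod (AlgSp.OEtRing X.obj) E i).IsFiniteType) ∧ ∃ b : ℤ, E.IsLE b := by
  constructor
  · intro h
    constructor
    · intro i hi
      let M := DCoh.HDMod (AlgSp.OEtRing X.obj) E i
      let I := {W : AlgSp.EtOver X.obj // ∃ Q : (M.over W).Presentation, Q.IsFinite}
      have hc : (AlgSp.etTop X.obj).CoversTop (fun W : I => W.1) := by
        intro U
        obtain ⟨ι, V, g, hg, hV⟩ := h U
        rw [AlgSp.ofArrows_mem_etPre_iff] at hg
        choose κ Y h' hY hh using fun k => ModEtQc.exists_affine_cover (V k)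
        refine (AlgSp.etTop X.obj).superset_covering ?_
          (AlgSp.ofArrows_mem_etTop (fun q : Σ k, κ k => Y q.1 q.2) (fun q => h' q.1 q.2 ≫ g q.1) fun x => by
            obtain ⟨k, v, rfl⟩ := hg x
            obtain ⟨l, y, rfl⟩ := hh k v
            exact ⟨⟨k, l⟩, y, rfl⟩)
        rw [Sieve.generate_le_iff]
        intro Z q hq
        obtain ⟨⟨k, l⟩⟩ := hq
        obtain ⟨P, α, hP, hα, hαm⟩ := hV k
        haveI : Epi ((DerivedCategory.homologyFunctor _ i).map α) := by
          rcases eq_or_lt_of_le hi with rfl | hlt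
          · exact hαm
          · haveI := hα i hlt
            infer_instance
        let f : P.homology i ⟶ M.over (V k) := (DerivedCategory.homologyFunctorFactors _ i).inv.app P ≫
          (DerivedCategory.homologyFunctor _ i).map α ≫
          (DerLib.ExactHomology.homologyIso (AlgSp.resModEt (V k)) i).hom.app E
        haveI : Epi f := @epi_comp _ _ _ _ _ _
          (inferInstanceAs (Epi ((DerivedCategory.homologyFunctorFactors _ i).app P).inv)) _
          (@epi_comp _ _ _ _ _ _ ‹Epi ((DerivedCategory.homologyFunctor _ i).map α)› _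
            (inferInstanceAs (Epi ((DerLib.ExactHomology.homologyIso (AlgSp.resModEt (V k)) i).app E).hom)))
        haveI := hY k l
        exact ⟨⟨_, exists_finite_presentation hXn (h' k l) M (hE i) P hP i f⟩, ⟨𝟙 _⟩⟩
      choose Q hQ using fun W : I => W.2
      let σ : SheafOfModules.QuasicoherentData (J := AlgSp.etTop X.obj) (R := AlgSp.OEtRing X.obj) M :=
        { I := I
          X := fun W => W.1
          coversTop := hc
          presentation := Q }
      haveI : σ.IsFinitePresentation := { isFinite_presentation := fun W => hQ W }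
      haveI : M.IsFinitePresentation := { exists_quasicoherentData := ⟨σ, inferInstance⟩ }
      infer_instance
    · obtain ⟨U, p, hU, hp, hs⟩ := AlgSpLib.exists_affine_chart hXc
      haveI := hU
      let E₀ := AlgSpCohColim.e0 p hp
      haveI : IsAffine E₀.obj.left.left := hU
      obtain ⟨ι, V, v, hv, hV⟩ := h E₀
      obtain ⟨n, Y, q, hY, hR, hcov⟩ := ModEtQc.exists_finite_affine_refinement
        (AlgSp.ofArrows_mem_etTop V v ((AlgSp.ofArrows_mem_etPre_iff V v).1 hv))
      have hb : ∀ k, ∃ b : ℤ, ∀ i, b < i → IsZero ((AlgSp.resModEt (Y k)).obj (DCoh.HDMod (AlgSp.OEtRing X.obj) E i)) := by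
        intro k
        obtain ⟨Z, h', r, hr, -⟩ := hR k
        obtain ⟨j⟩ := hr
        obtain ⟨P, α, ⟨⟨a', b', hab⟩, -⟩, hα, -⟩ := hV j
        refine ⟨max b' m, fun i hi => ?_⟩
        haveI := hα i (by omega)
        have h1 : IsZero (P.homology i) :=
          (HomologicalComplex.exactAt_iff_isZero_homology _ _).1 (HomologicalComplex.ExactAt.of_isZero (hab i (by omega)))
        have h2 : IsZero ((AlgSp.resModEt (V j)).obj (DCoh.HDMod (AlgSp.OEtRing X.obj) E i)) :=
          h1.of_iso ((((DerLib.ExactHomology.homologyIso (AlgSp.resModEt (V j)) i).app E).symm ≪≫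
            (asIso ((DerivedCategory.homologyFunctor _ i).map α)).symm) ≪≫
            (DerivedCategory.homologyFunctorFactors _ i).app P)
        exact ((AlgSpPerfLib.rm h').map_isZero h2).of_iso
          ((SheafOfModules.overFunctorMap (AlgSp.OEtRing X.obj) h').app _).symm
      choose b hb using hb
      obtain ⟨B, hB⟩ := Finset.exists_le (Finset.univ.image b)
      refine ⟨B, (DerivedCategory.isLE_iff E B).2 fun i hi => isZero_of_atlas p hp hs _ (hE i) ⟨fun x y =>
        ModEtQc.eq_of_cover _ Y q hcov x y fun k => ?_⟩⟩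
      exact @Subsingleton.elim _ (ModuleCat.subsingleton_of_isZero ((ModEtQc.Γt (Y k)).map_isZero
        (hb k i (lt_of_le_of_lt (hB _ (Finset.mem_image.2 ⟨k, Finset.mem_univ k, rfl⟩)) hi)))) _ _
  · rintro ⟨hfin, b, hb⟩ U
    haveI : EnoughInjectives (AlgSp.ModEt X.obj) := ModEtInjLib.enoughInjectives_sheaf (AlgSp.OEtRing X.obj)
    haveI : IsGrothendieckAbelian.{u + 1} (AlgSp.ModEt X.obj) := AlgSpRlimLib.isGrothendieckAbelian_modEt
    obtain ⟨C, hC, ⟨eC⟩⟩ := DerLib.KInjUse.exists_iso_Q_kInjective E
    haveI := hC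
    let eH : ∀ i, DCoh.HDMod (AlgSp.OEtRing X.obj) E i ≅ C.homology i := fun i =>
      (DerivedCategory.homologyFunctor _ i).mapIso eC ≪≫ (DerivedCategory.homologyFunctorFactors _ i).app C
    obtain ⟨κ, Y, g, hY, hcov⟩ := ModEtQc.exists_affine_cover U
    refine ⟨ULift.{u + 1} κ, fun k => Y k.down, fun k => g k.down, (AlgSp.ofArrows_mem_etPre_iff _ _).2 fun x => ?_, fun k => ?_⟩
    · obtain ⟨k, hk⟩ := hcov x
      exact ⟨⟨k⟩, hk⟩
    haveI := hY k.down
    haveI := ModEtQc.isNoetherianRing_ring hXn (Y k.down)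
    obtain ⟨P, ψ, hP, hiso, hepi⟩ := AlgSpPerfLib.exists_strictlyPerfect_approx (E := Y k.down) C
      (fun q => ObjectProperty.prop_of_iso (SheafOfModules.isQuasicoherent (AlgSp.OEtRing X.obj)) (eH q) (hE q)) m b
      (fun i hi => by
        haveI := hfin i hi
        haveI : Module.Finite (ModEtQc.Ring (Y k.down))
            ((ModEtQc.Γt (Y k.down)).obj ((AlgSp.resModEt (Y k.down)).obj (DCoh.HDMod (AlgSp.OEtRing X.obj) E i))) :=
          ModEtQc.finite_sec _ ((ModEtQc.isQuasicoherent_iff_bc _).1 (hE i)) (Y k.down)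
        exact Module.Finite.equiv
          ((ModEtQc.Γt (Y k.down)).mapIso ((AlgSp.resModEt (Y k.down)).mapIso (eH i))).toLinearEquiv)
      (fun i hi => (DerivedCategory.isZero_of_isLE E b i hi).of_iso (eH i).symm)
    let ι' : DerivedCategory.Q.obj ((AlgSpPerfLib.mapC (AlgSp.resModEt (Y k.down))).obj C) ⟶
        (AlgSp.resDEt (Y k.down)).obj E :=
      (AlgSp.resModEt (Y k.down)).mapDerivedCategoryFactors.inv.app C ≫ (AlgSp.resDEt (Y k.down)).map eC.inv
    haveI : IsIso ι' := inferInstance
    refine ⟨P, DerivedCategory.Q.map ψ ≫ ι', hP, fun j hj => ?_, ?_⟩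
    · haveI := hiso j hj
      haveI : IsIso ((DerivedCategory.homologyFunctor _ j).map (DerivedCategory.Q.map ψ)) :=
        (NatIso.isIso_map_iff (DerivedCategory.homologyFunctorFactors _ j) ψ).2 ‹_›
      rw [Functor.map_comp]
      infer_instance
    · haveI : Epi ((DerivedCategory.homologyFunctor _ m).map (DerivedCategory.Q.map ψ)) :=
        ((MorphismProperty.epimorphisms _).arrow_mk_iso_iff
          (((Functor.mapArrowFunctor _ _).mapIso (DerivedCategory.homologyFunctorFactors _ m)).app (Arrow.mk ψ))).2 hepi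
      rw [Functor.map_comp]
      exact epi_comp _ _

end Groth.Agent.S10772
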