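import Groth.Statements.S10776
import Groth.Agent.AlgSpPerfLib.Shifts

set_option autoImplicit false
set_option backward.isDefEq.respectTransparency false
set_option backward.isDefEq.respectTransparency.types false
universe u
open CategoryTheory CategoryTheory.Limits AlgebraicGeometry
attribute [local instance] HasDerivedCategory.standard
open AlgSp

namespace Groth.Agent.S10776

/-- Let X be a quasi-compact and quasi-separated algebraic space over S, K a perfect object of D(O_X)
(modules on the small etale site) and L a bounded object of D_QCoh(O_X). Then Ext^n(K, L) = Hom(K,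
L[n]) vanishes for all but finitely many n: there is N with Hom(K, L[n]) = 0 whenever |n| ≥ N.
Quasi-separatedness is relative to S with S quasi-separated. -/
theorem result {S : Scheme.{u}} [QuasiSeparatedSpace ↥S] (X : AlgSp.Space S)
    (hXc : AlgSp.IsQuasiCompactSp X.obj) (hXs : AlgSp.IsQuasiSeparatedSp X.obj)
    (K : AlgSp.DModEt X.obj) (hK : AlgSp.IsPerfectEtD K)
    (L : AlgSp.DModEt X.obj) (hL : DCoh.IsQCohDMod (AlgSp.OEtRing X.obj) L)
    (a b : ℤ) (hLa : L.IsGE a) (hLb : L.IsLE b) :
    ∃ N : ℕ, ∀ n : ℤ, (N : ℤ) ≤ |n| → ∀ φ : K ⟶ L⟦n⟧, φ = 0 := by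
  obtain ⟨a₀, b₀, -, h⟩ := AlgSpPerfLib.vanishes_of_isPerfect hXc hXs K hK
  refine ⟨(|a| + |b| + |a₀| + |b₀| + 1).toNat, fun n hn φ => h _ (AlgSpPerfLib.isQCoh_shift hL n) (fun i hi hi' => ?_) φ⟩
  have hnn : |a| + |b| + |a₀| + |b₀| + 1 ≤ |n| := le_trans (Int.self_le_toNat _) hn
  have ha := abs_nonneg a
  have := le_abs_self a; have := neg_le_abs a
  have := le_abs_self b; have := neg_le_abs b
  have := le_abs_self a₀; have := neg_le_abs a₀
  have := le_abs_self b₀; have := neg_le_abs b₀
  refine IsZero.of_iso ?_ (AlgSpPerfLib.hShift L n i (n + i) rfl)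
  rcases abs_cases n with ⟨h1, -⟩ | ⟨h1, -⟩
  · exact DerivedCategory.isZero_of_isLE L b (n + i) (by omega)
  · exact DerivedCategory.isZero_of_isGE L a (n + i) (by omega)

end Groth.Agent.S10776
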