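import Groth.Statements.S10778
import Groth.Agent.AlgSpPerfLib.Shifts

set_option autoImplicit false
set_option backward.isDefEq.respectTransparency false
set_option backward.isDefEq.respectTransparency.types false
universe u
open CategoryTheory CategoryTheory.Limits AlgebraicGeometry
attribute [local instance] HasDerivedCategory.standard
open AlgSp

namespace Groth.Agent.S10778

/-- Let X be a quasi-compact and quasi-separated algebraic space over S, P a perfect object of D(O_X)
(modules on the small etale site), E an object of D_QCoh(O_X) and a ∈ ℤ. Then the morphisms P[-i] ⟶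
E vanish for all large i if and only if the morphisms P[-i] ⟶ τ_{≥ a}E vanish for all large i.
Quasi-separatedness is relative to S with S quasi-separated. -/
theorem result {S : Scheme.{u}} [QuasiSeparatedSpace ↥S] (X : AlgSp.Space S)
    (hXc : AlgSp.IsQuasiCompactSp X.obj) (hXs : AlgSp.IsQuasiSeparatedSp X.obj)
    (P : AlgSp.DModEt X.obj) (hP : AlgSp.IsPerfectEtD P)
    (E : AlgSp.DModEt X.obj) (hE : DCoh.IsQCohDMod (AlgSp.OEtRing X.obj) E) (a : ℤ) :
    (∃ N : ℤ, ∀ i : ℤ, N ≤ i → ∀ φ : P⟦-i⟧ ⟶ E, φ = 0) ↔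
      (∃ N : ℤ, ∀ i : ℤ, N ≤ i → ∀ φ : P⟦-i⟧ ⟶ ((DerivedCategory.TStructure.t : CategoryTheory.Triangulated.TStructure (AlgSp.DModEt X.obj)).truncGE a).obj E, φ = 0) := by
  obtain ⟨a₀, b₀, -, h⟩ := AlgSpPerfLib.vanishes_of_isPerfect hXc hXs P hP
  constructor <;> rintro ⟨N, hN⟩ <;> refine ⟨max N (a - a₀), fun i hi => ?_⟩
  · exact (AlgSpPerfLib.vanish_iff_truncGE h hE a i (by omega)).1 (hN i (by omega))
  · exact (AlgSpPerfLib.vanish_iff_truncGE h hE a i (by omega)).2 (hN i (by omega))

end Groth.Agent.S10778
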