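import Groth.Statements.S1078
import Mathlib
import Mathlib
-- import your own Groth.Agent.* helpers here

set_option autoImplicit false
universe v u
open CategoryTheory CategoryTheory.Limits
open CohDer

namespace Groth.Agent.S1078

/-- Let X be an object of an abelian category with two finite chains of subobjects ⊥ = F₀ ≤ … ≤ Fₙ = ⊤
and ⊥ = G₀ ≤ … ≤ Gₘ = ⊤ whose successive quotients are simple. Then n = m, and after transporting
along this equality there is a permutation σ of the indices with Fᵢ₊₁/Fᵢ ≅ G_{σ(i)+1}/G_{σ(i)} for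
all i. -/
theorem result {A : Type u} [Category.{v} A] [Abelian A] (X : A)
    (n : ℕ) (F : Fin (n + 1) → Subobject X) (hF : Monotone F) (hF0 : F 0 = ⊥) (hFn : F (Fin.last n) = ⊤) (hFs : ∀ i : Fin n, Simple (cokernel (Subobject.ofLE (F (Fin.castSucc i)) (F (Fin.succ i)) (hF (Fin.castSucc_lt_succ (i := i)).le))))
    (m : ℕ) (G : Fin (m + 1) → Subobject X) (hG : Monotone G) (hG0 : G 0 = ⊥) (hGm : G (Fin.last m) = ⊤) (hGs : ∀ j : Fin m, Simple (cokernel (Subobject.ofLE (G (Fin.castSucc j)) (G (Fin.succ j)) (hG (Fin.castSucc_lt_succ (i := j)).le)))) :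
    ∃ (e : n = m) (σ : Equiv.Perm (Fin m)), ∀ i : Fin n,
      Nonempty (cokernel (Subobject.ofLE (F (Fin.castSucc i)) (F (Fin.succ i)) (hF (Fin.castSucc_lt_succ (i := i)).le)) ≅
        cokernel (Subobject.ofLE (G (Fin.castSucc (σ (Fin.cast e i)))) (G (Fin.succ (σ (Fin.cast e i)))) (hG (Fin.castSucc_lt_succ (i := σ (Fin.cast e i))).le))) := by
  classical
  -- factors
  have hsecond : ∀ a b : Subobject X,
      Nonempty (cokernel (Subobject.ofLE (a ⊓ b) b inf_le_right) ≅ cokernel (Subobject.ofLE a (a ⊔ b) le_sup_left)) := by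
    intro a b
    let j := Subobject.ofLE b (a ⊔ b) le_sup_right
    let u : (b : A) ⟶ cokernel (Subobject.ofLE a (a ⊔ b) le_sup_left) := j ≫ cokernel.π _
    have hw : Subobject.ofLE (a ⊓ b) b inf_le_right ≫ u = 0 := by
      simp only [u, j, ← Category.assoc, Subobject.ofLE_comp_ofLE]
      rw [← Subobject.ofLE_comp_ofLE (a ⊓ b) a (a ⊔ b) inf_le_left le_sup_left, Category.assoc, cokernel.condition,
        comp_zero]
    let φ := cokernel.desc _ u hw
    haveI : Mono φ := by
      refine Preadditive.mono_of_cancel_zero _ fun {T} g hg => ?_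
      obtain ⟨T', π, hπ, l, hl⟩ : ∃ (T' : A) (π : T' ⟶ T) (_ : Epi π) (l : T' ⟶ (b : A)), l ≫ cokernel.π _ = π ≫ g :=
        ⟨pullback g (cokernel.π _), pullback.fst _ _, inferInstance, pullback.snd _ _, pullback.condition.symm⟩
      have h0 : (l ≫ j) ≫ cokernel.π (Subobject.ofLE a (a ⊔ b) le_sup_left) = 0 := by
        have : l ≫ u = 0 := by
          rw [← cokernel.π_desc _ u hw, ← Category.assoc, hl, Category.assoc, hg, comp_zero]
        rw [Category.assoc]; exact this
      let la : T' ⟶ (a : A) := Abelian.monoLift _ (l ≫ j) h0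
      have hla : la ≫ a.arrow = l ≫ b.arrow := by
        rw [← Subobject.ofLE_arrow (le_sup_left : a ≤ a ⊔ b), ← Category.assoc, Abelian.monoLift_comp, Category.assoc]
        simp [j]
      have hf : (a ⊓ b).Factors (l ≫ b.arrow) :=
        (Subobject.inf_factors _).mpr ⟨by rw [← hla]; exact Subobject.factors_comp_arrow la, Subobject.factors_comp_arrow l⟩
      have hl2 : (a ⊓ b).factorThru _ hf ≫ Subobject.ofLE (a ⊓ b) b inf_le_right = l := by
        rw [← cancel_mono b.arrow, Category.assoc, Subobject.ofLE_arrow, Subobject.factorThru_arrow]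
      rw [← cancel_epi π, comp_zero, ← hl, ← hl2, Category.assoc, cokernel.condition, comp_zero]
    haveI : Epi φ := by
      refine Preadditive.epi_of_cancel_zero _ fun {T} g hg => ?_
      let h := cokernel.π (Subobject.ofLE a (a ⊔ b) le_sup_left) ≫ g
      let K := Subobject.mk (kernel.ι h ≫ (a ⊔ b).arrow)
      have ha : a ≤ K := Subobject.le_mk_of_comm (kernel.lift h (Subobject.ofLE a (a ⊔ b) le_sup_left)
        (by simp only [h, cokernel.condition_assoc, zero_comp])) (by simp)
      have hb : b ≤ K := Subobject.le_mk_of_comm (kernel.lift h j (by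
        have : u ≫ g = 0 := by rw [← cokernel.π_desc _ u hw, Category.assoc, hg, comp_zero]
        simpa [u, h] using this)) (by simp [j])
      have hle : a ⊔ b ≤ K := sup_le ha hb
      have h0 : h = 0 := by
        have e : (Subobject.ofLE (a ⊔ b) K hle ≫ (Subobject.underlyingIso _).hom) ≫ kernel.ι h = 𝟙 _ := by
          rw [← cancel_mono (a ⊔ b).arrow, Category.assoc, Category.assoc, Category.id_comp]
          simp [K]
        rw [← Category.id_comp h, ← e, Category.assoc, kernel.condition, comp_zero]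
      rw [← cancel_epi (cokernel.π (Subobject.ofLE a (a ⊔ b) le_sup_left)), comp_zero]
      exact h0
    haveI : IsIso φ := isIso_of_mono_of_epi φ
    exact ⟨asIso φ⟩
  let Max : Subobject X → Subobject X → Prop := fun a b => ∃ h : a ≤ b, Simple (cokernel (Subobject.ofLE a b h))
  have hcov : ∀ {a b}, Max a b → a ⋖ b := by
    rintro a b ⟨h, hs⟩
    refine ⟨lt_of_le_of_ne h fun e => ?_, fun c hac hcb => ?_⟩
    · subst e
      haveI := hs
      haveI : IsIso (Subobject.ofLE a a h) := by rw [Subobject.ofLE_refl]; infer_instance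
      exact Simple.not_isZero (cokernel (Subobject.ofLE a a h)) (isZero_cokernel_of_epi _)
    · haveI := hs
      let m := cokernel.desc (Subobject.ofLE a c hac.le) (Subobject.ofLE c b hcb.le ≫ cokernel.π (Subobject.ofLE a b h))
        (by rw [← Category.assoc, Subobject.ofLE_comp_ofLE, cokernel.condition])
      haveI : Mono m := by
        refine Preadditive.mono_of_cancel_zero _ fun {T} g hg => ?_
        obtain ⟨T', π, hπ, l, hl⟩ : ∃ (T' : A) (π : T' ⟶ T) (_ : Epi π) (l : T' ⟶ (c : A)), l ≫ cokernel.π _ = π ≫ g :=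
          ⟨pullback g (cokernel.π _), pullback.fst _ _, inferInstance, pullback.snd _ _, pullback.condition.symm⟩
        have h0 : (l ≫ Subobject.ofLE c b hcb.le) ≫ cokernel.π (Subobject.ofLE a b h) = 0 := by
          have : l ≫ cokernel.π _ ≫ m = 0 := by rw [← Category.assoc, hl, Category.assoc, hg, comp_zero]
          simpa [m] using this
        have hl2 : Abelian.monoLift _ _ h0 ≫ Subobject.ofLE a c hac.le = l := by
          rw [← cancel_mono (Subobject.ofLE c b hcb.le), Category.assoc, Subobject.ofLE_comp_ofLE, Abelian.monoLift_comp]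
        rw [← cancel_epi π, comp_zero, ← hl, ← hl2, Category.assoc, cokernel.condition, comp_zero]
      by_cases h0 : m = 0
      · refine hac.not_ge ?_
        have h1 : Subobject.ofLE c b hcb.le ≫ cokernel.π (Subobject.ofLE a b h) = 0 := by
          rw [← cokernel.π_desc (Subobject.ofLE a c hac.le) (Subobject.ofLE c b hcb.le ≫ cokernel.π (Subobject.ofLE a b h))
            (by rw [← Category.assoc, Subobject.ofLE_comp_ofLE, cokernel.condition])]
          change cokernel.π _ ≫ m = 0
          rw [h0, comp_zero]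
        exact Subobject.le_of_comm (Abelian.monoLift _ _ h1) (by
          rw [← Subobject.ofLE_arrow h, ← Category.assoc, Abelian.monoLift_comp, Subobject.ofLE_arrow])
      · haveI : IsIso m := isIso_of_mono_of_nonzero h0
        haveI : Epi (Subobject.ofLE c b hcb.le) := by
          refine Preadditive.epi_of_cancel_zero _ fun {T} g hg => ?_
          have hga : Subobject.ofLE a b h ≫ g = 0 := by
            rw [← Subobject.ofLE_comp_ofLE a c b hac.le hcb.le, Category.assoc, hg, comp_zero]
          have : m ≫ cokernel.desc _ g hga = 0 := by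
            rw [← cancel_epi (cokernel.π (Subobject.ofLE a c hac.le)), comp_zero]
            simp [m, hg]
          rw [← cokernel.π_desc _ g hga, (cancel_epi m).mp (this.trans comp_zero.symm), comp_zero]
        haveI := isIso_of_mono_of_epi (Subobject.ofLE c b hcb.le)
        exact hcb.not_ge (Subobject.le_of_comm (inv (Subobject.ofLE c b hcb.le)) (by simp))
  letI J : JordanHolderLattice (Subobject X) :=
    { IsMaximal := Max
      lt_of_isMaximal := fun h => (hcov h).lt
      sup_eq_of_isMaximal := fun h h' hne => (hcov h).wcovBy.sup_eq (hcov h').wcovBy hne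
      isMaximal_inf_left_of_isMaximal_sup := fun {x y} _ hy => by
        obtain ⟨hle, hs⟩ := hy
        refine ⟨inf_le_left, ?_⟩
        obtain ⟨e⟩ := hsecond y x
        haveI := hs
        have key : ∀ (p q : Subobject X) (_ : p = y ⊔ x) (_ : q = y ⊓ x) (h1 : y ≤ p) (h2 : q ≤ x),
            Simple (cokernel (Subobject.ofLE y p h1)) → Simple (cokernel (Subobject.ofLE q x h2)) := by
          rintro p q rfl rfl h1 h2 hs'
          haveI := hs'
          exact Simple.of_iso e
        exact key (x ⊔ y) (x ⊓ y) (sup_comm x y) (inf_comm x y) hle inf_le_left hs }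
  let s₁ : CompositionSeries (Subobject X) :=
    { length := n, toFun := F, step := fun i => ⟨_, hFs i⟩ }
  let s₂ : CompositionSeries (Subobject X) :=
    { length := m, toFun := G, step := fun i => ⟨_, hGs i⟩ }
  obtain ⟨σ, hσ⟩ := CompositionSeries.jordan_holder s₁ s₂ (hF0.trans hG0.symm) (hFn.trans hGm.symm)
  have e : n = m := by simpa [s₁, s₂] using Fintype.card_congr σ
  subst e
  refine ⟨rfl, σ, fun i => ?_⟩
  let R : Subobject X × Subobject X → Subobject X × Subobject X → Prop := fun p q =>
    p = q ∨ ∃ (h : p.1 ≤ p.2) (h' : q.1 ≤ q.2), Nonempty (cokernel (Subobject.ofLE p.1 p.2 h) ≅ cokernel (Subobject.ofLE q.1 q.2 h'))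
  have key := JordanHolderLattice.Iso.rel R (Or.inl rfl)
    (fun {p q} h => h.imp Eq.symm fun ⟨h1, h2, ⟨e⟩⟩ => ⟨h2, h1, ⟨e.symm⟩⟩)
    (fun {p q r} h h' => by
      rcases h with rfl | ⟨h1, h2, ⟨e⟩⟩
      · exact h'
      rcases h' with rfl | ⟨h1', h2', ⟨e'⟩⟩
      · exact Or.inr ⟨h1, h2, ⟨e⟩⟩
      · exact Or.inr ⟨h1, h2', ⟨e ≪≫ e'⟩⟩)
    (fun {x y} _ => Or.inr ⟨le_sup_left, inf_le_right, ⟨(hsecond x y).some.symm⟩⟩) (hσ i)
  rcases key with he | ⟨h1, h2, h3⟩
  · have e1 : F i.castSucc = G (σ i).castSucc := congrArg Prod.fst he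
    have e2 : F i.succ = G (σ i).succ := congrArg Prod.snd he
    have : ∀ (a b a' b' : Subobject X) (h : a ≤ b) (h' : a' ≤ b'), a = a' → b = b' →
        Nonempty (cokernel (Subobject.ofLE a b h) ≅ cokernel (Subobject.ofLE a' b' h')) := by
      rintro a b _ _ h h' rfl rfl
      exact ⟨Iso.refl _⟩
    exact this _ _ _ _ _ _ e1 e2
  · exact h3

end Groth.Agent.S1078
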