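import Groth.Statements.S10784
import Groth.Agent.AlgSpRlimLib.Bounds

set_option autoImplicit false
set_option backward.isDefEq.respectTransparency false
set_option backward.isDefEq.respectTransparency.types false
universe u
open CategoryTheory CategoryTheory.Limits AlgebraicGeometry
attribute [local instance] HasDerivedCategory.standard
open AlgSp

namespace Groth.Agent.S10784

/-- Let X be an algebraic space over S, F : Mod(O_X) ⥤ Ab (modules on the small etale site) a left exact
additive functor commuting with countable direct products, and N ≥ 0 an integer with R^pF(G) = 0 for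
every p ≥ N and every quasi-coherent module G (right derived functors computed with injective
resolutions). Assume the total right derived functor RF : D(O_X) ⥤ D(Ab) exists. Let E be in
D_QCoh(O_X) and a, b integers. If H^i(E) = 0 for all i < a, then H^i(RF(E)) = 0 for all i < a; and
if H^i(E) = 0 for all i > b, then H^i(RF(E)) = 0 for all i > b + N - 1. (Either bound may be absent:
the two implications are stated separately, so E need not be bounded on the other side.) -/
theorem result {S : Scheme.{u}} (X : AlgSp.Space S)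
    (F : AlgSp.ModEt X.obj ⥤ AddCommGrpCat.{u + 1}) [F.Additive] [PreservesFiniteLimits F]
    [PreservesLimitsOfShape (Discrete ℕ) F] [EnoughInjectives (AlgSp.ModEt X.obj)] (N : ℕ)
    (hF : ∀ G : AlgSp.ModEt X.obj, G.IsQuasicoherent → ∀ p : ℕ, N ≤ p → IsZero ((F.rightDerived p).obj G))
    [(F.mapHomotopyCategory (ComplexShape.up ℤ) ⋙ DerivedCategory.Qh).HasRightDerivedFunctor
      (HomotopyCategory.quasiIso (AlgSp.ModEt X.obj) (ComplexShape.up ℤ))]
    (E : AlgSp.DModEt X.obj) (hE : DCoh.IsQCohDMod (AlgSp.OEtRing X.obj) E) (a b : ℤ) :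
    ((∀ i : ℤ, i < a → IsZero (DCoh.HDMod (AlgSp.OEtRing X.obj) E i)) →
      ∀ i : ℤ, i < a → IsZero ((DerivedCategory.homologyFunctor AddCommGrpCat.{u + 1} i).obj (((F.mapHomotopyCategory (ComplexShape.up ℤ) ⋙ DerivedCategory.Qh).totalRightDerived DerivedCategory.Qh (HomotopyCategory.quasiIso (AlgSp.ModEt X.obj) (ComplexShape.up ℤ))).obj E))) ∧
    ((∀ i : ℤ, b < i → IsZero (DCoh.HDMod (AlgSp.OEtRing X.obj) E i)) →
      ∀ i : ℤ, b + N - 1 < i → IsZero ((DerivedCategory.homologyFunctor AddCommGrpCat.{u + 1} i).obj (((F.mapHomotopyCategory (ComplexShape.up ℤ) ⋙ DerivedCategory.Qh).totalRightDerived DerivedCategory.Qh (HomotopyCategory.quasiIso (AlgSp.ModEt X.obj) (ComplexShape.up ℤ))).obj E))) := by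
  let α := (F.mapHomotopyCategory (ComplexShape.up ℤ) ⋙ DerivedCategory.Qh).totalRightDerivedUnit DerivedCategory.Qh
      (HomotopyCategory.quasiIso (AlgSp.ModEt X.obj) (ComplexShape.up ℤ))
  refine ⟨fun h i hi => ?_, fun h i hi => ?_⟩
  · haveI : E.IsGE a := (DerivedCategory.isGE_iff E a).2 h
    exact Groth.Agent.DerLib.Amplitude.leftBound_rightDerived F _ α Groth.Agent.AlgSpRlimLib.enoughKInj_modEt E a i
      inferInstance (by omega)
  · haveI := Groth.Agent.AlgSpRlimLib.isIso_GH_π F _ α N hF E hE (i - N + 1) i (by omega)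
    refine IsZero.of_iso ?_ (asIso ((Groth.Agent.AlgSpRlimLib.GH _ i).map
      (((DerivedCategory.TStructure.t : CategoryTheory.Triangulated.TStructure (AlgSp.DModEt X.obj)).truncGEπ (i - N + 1)).app E)))
    obtain ⟨_, _⟩ := Groth.Agent.DerLib.KInjDerived.exists_isTriangulated_map
      (Groth.Agent.AlgSpRlimLib.enoughKInj_modEt (X := X.obj)) F _ α
    refine Functor.map_isZero _ ?_
    rw [IsZero.iff_id_eq_zero]
    haveI : IsIso (0 : ((DerivedCategory.TStructure.t : CategoryTheory.Triangulated.TStructure (AlgSp.DModEt X.obj)).truncGE (i - N + 1)).obj E ⟶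
        ((DerivedCategory.TStructure.t : CategoryTheory.Triangulated.TStructure (AlgSp.DModEt X.obj)).truncGE (i - N + 1)).obj E) := by
      refine (DerivedCategory.isIso_iff (AlgSp.ModEt X.obj) _).2 fun q => ?_
      suffices hz : IsZero ((DerivedCategory.homologyFunctor (AlgSp.ModEt X.obj) q).obj
          (((DerivedCategory.TStructure.t : CategoryTheory.Triangulated.TStructure (AlgSp.DModEt X.obj)).truncGE (i - N + 1)).obj E)) from
        hz.isIso hz _
      by_cases hq : i - N + 1 ≤ q
      · haveI := Groth.Agent.DerLib.Ghost.isIso_homologyMap_truncGEπ E (i - N + 1) q hq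
        exact (h q (by omega)).of_iso (asIso ((DerivedCategory.homologyFunctor (AlgSp.ModEt X.obj) q).map
          (((DerivedCategory.TStructure.t : CategoryTheory.Triangulated.TStructure (AlgSp.DModEt X.obj)).truncGEπ (i - N + 1)).app E))).symm
      · exact DerivedCategory.isZero_of_isGE _ (i - N + 1) q (by omega)
    exact (cancel_epi (0 : ((DerivedCategory.TStructure.t : CategoryTheory.Triangulated.TStructure (AlgSp.DModEt X.obj)).truncGE (i - N + 1)).obj E ⟶
        ((DerivedCategory.TStructure.t : CategoryTheory.Triangulated.TStructure (AlgSp.DModEt X.obj)).truncGE (i - N + 1)).obj E)).1 (by simp)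

end Groth.Agent.S10784
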