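import Groth.Statements.S1686
import Groth.Agent.SDivLib.Stalk
import Mathlib.RingTheory.Ideal.MinimalPrime.Basic
import Mathlib.Topology.KrullDimension

set_option autoImplicit false
universe u
open CategoryTheory CategoryTheory.Limits AlgebraicGeometry TopologicalSpace
open SDiv

namespace Groth.Agent.S1686

/-- Let D be the closed subscheme of an effective Cartier divisor on a scheme S and d a point of D with
image s in S. If the local dimension of S at s is finite, then the local dimension of D at d is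
strictly smaller. -/
theorem result (S : Scheme.{u}) (𝓘 : S.IdealSheafData) (h𝓘 : BlowUp.IsEffCartierIdeal 𝓘) (d : ↥𝓘.subscheme)
    (hfin : FlatMor.localDim ↥S (𝓘.subschemeι d) ≠ ⊤) :
    FlatMor.localDim ↥𝓘.subscheme d < FlatMor.localDim ↥S (𝓘.subschemeι d) := by
  classical
  have hne : Nonempty {U : TopologicalSpace.Opens S // 𝓘.subschemeι d ∈ U} := ⟨⟨⊤, trivial⟩⟩
  obtain ⟨U, hU⟩ : ∃ U : {U : TopologicalSpace.Opens S // 𝓘.subschemeι d ∈ U},
      topologicalKrullDim (U.1 : Set S) = FlatMor.localDim S (𝓘.subschemeι d) :=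
    ciInf_mem fun U : {U : TopologicalSpace.Opens S // 𝓘.subschemeι d ∈ U} => topologicalKrullDim (U.1 : Set S)
  rw [← hU] at hfin ⊢
  let V : TopologicalSpace.Opens 𝓘.subscheme := 𝓘.subschemeι ⁻¹ᵁ U.1
  have hle : FlatMor.localDim 𝓘.subscheme d ≤ topologicalKrullDim (V : Set 𝓘.subscheme) :=
    iInf_le (fun W : {W : TopologicalSpace.Opens 𝓘.subscheme // d ∈ W} => topologicalKrullDim (W.1 : Set 𝓘.subscheme))
      ⟨V, U.2⟩
  refine lt_of_le_of_lt hle ?_
  -- the map to the ambient open
  let g : ↥(V : Set 𝓘.subscheme) → ↥(U.1 : Set S) := fun w => ⟨𝓘.subschemeι w.1, w.2⟩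
  have hg : Topology.IsClosedEmbedding g :=
    (𝓘.subschemeι.isClosedEmbedding).restrictPreimage (U.1 : Set S)
  have hgen : ∀ w, ∃ η, η ⤳ g w ∧ η ≠ g w := by
    intro w
    obtain ⟨W, hxW, c, hc, hIc⟩ := h𝓘 (𝓘.subschemeι w.1)
    have hxI : 𝓘.subschemeι w.1 ∈ 𝓘.support := by
      rw [← SetLike.mem_coe, ← Scheme.IdealSheafData.range_subschemeι]; exact ⟨_, rfl⟩
    obtain ⟨q, hq, hqle⟩ := Ideal.exists_minimalPrimes_le (I := (⊥ : Ideal Γ(S, W.1))) (J := SDivLib.prm W hxW) bot_le
    haveI : q.IsPrime := hq.1.1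
    obtain ⟨η, hηW, rfl⟩ := SDivLib.exists_point W q
    have hη : η ⤳ 𝓘.subschemeι w.1 := (SDivLib.specializes_iff_prm W hxW hηW).2 hqle
    have hne : η ≠ 𝓘.subschemeι w.1 := by
      rintro rfl
      exact Set.disjoint_left.1 (Ideal.disjoint_nonZeroDivisors_of_mem_minimalPrimes hq)
        ((SDivLib.mem_support_iff_le 𝓘 W hxW).1 hxI (hIc ▸ Ideal.mem_span_singleton_self c)) hc
    exact ⟨⟨η, hη.mem_open U.1.2 w.2⟩, (subtype_specializes_iff _ _).2 hη,
      fun e => hne (congrArg Subtype.val e)⟩
  have hqs : QuasiSober ↥(U.1 : Set S) := U.1.2.isOpenEmbedding_subtypeVal.quasiSober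
  have hbound : ∀ p : LTSeries (TopologicalSpace.IrreducibleCloseds ↥(V : Set 𝓘.subscheme)),
      (((p.length + 1 : ℕ) : ℕ∞) : WithBot ℕ∞) ≤ topologicalKrullDim ↥(U.1 : Set S) := by
    intro p
    have hmono := TopologicalSpace.IrreducibleCloseds.map_strictMono_of_isInducing hg.isInducing
    let q := p.map _ hmono
    obtain ⟨z, hz⟩ := QuasiSober.sober q.last.isIrreducible q.last.isClosed
    obtain ⟨w, hw⟩ : z ∈ Set.range g := by
      have h1 : z ∈ closure (g '' (p.last : Set _)) := by
        have := hz.mem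
        rw [LTSeries.last_map] at this
        exact this
      exact closure_minimal (Set.image_subset_range _ _) hg.isClosed_range h1
    obtain ⟨η, hη, hne⟩ := hgen w
    rw [hw] at hη hne
    let top : TopologicalSpace.IrreducibleCloseds ↥(U.1 : Set S) :=
      ⟨closure {η}, isIrreducible_singleton.closure, isClosed_closure⟩
    have hlt : q.last < top := by
      refine lt_of_le_of_ne (fun y hy => specializes_iff_mem_closure.mp (hη.trans (hz.specializes hy))) fun he => hne ?_
      have he' : (q.last : Set _) = closure {η} := congrArg (fun s : TopologicalSpace.IrreducibleCloseds ↥(U.1 : Set S) => (s : Set ↥(U.1 : Set S))) he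
      rw [he'] at hz
      exact (isGenericPoint_closure (x := η)).eq hz
    exact Order.LTSeries.length_le_krullDim (q.snoc top hlt)
  induction hv : topologicalKrullDim ↥(U.1 : Set S) with
  | bot =>
    have hu : Nonempty ↥(U.1 : Set S) := ⟨⟨_, U.2⟩⟩
    haveI : Nonempty (TopologicalSpace.IrreducibleCloseds ↥(U.1 : Set S)) :=
      ⟨⟨closure {⟨_, U.2⟩}, isIrreducible_singleton.closure, isClosed_closure⟩⟩
    exact absurd ((Order.krullDim_nonneg (α := TopologicalSpace.IrreducibleCloseds ↥(U.1 : Set S))).trans_eq hv) (by simp)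
  | coe m =>
    induction m using ENat.recTopCoe with
    | top => exact absurd hv hfin
    | coe m =>
      rcases m with _ | m
      · exfalso
        haveI : Nonempty (TopologicalSpace.IrreducibleCloseds ↥(V : Set 𝓘.subscheme)) :=
          ⟨⟨closure {⟨d, U.2⟩}, isIrreducible_singleton.closure, isClosed_closure⟩⟩
        have h := (hbound (RelSeries.singleton _ (Classical.arbitrary _))).trans_eq hv
        exact absurd (Nat.cast_le.1 (WithBot.coe_le_coe.1 h)) (by simp)
      · refine lt_of_le_of_lt (b := ((m : ℕ∞) : WithBot ℕ∞)) (iSup_le fun p => ?_)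
          (WithBot.coe_lt_coe.2 (Nat.cast_lt.2 (Nat.lt_succ_self m)))
        have h := (hbound p).trans_eq hv
        exact WithBot.coe_le_coe.2 (Nat.cast_le.2 (Nat.le_of_succ_le_succ (Nat.cast_le.1 (WithBot.coe_le_coe.1 h))))

end Groth.Agent.S1686
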