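import Groth.Statements.S10803
import Groth.Agent.CurvOpenLib.NoethFibre
-- import your own Groth.Agent.* helpers here

set_option autoImplicit false
universe u
open CategoryTheory CategoryTheory.Limits AlgebraicGeometry Topology TopologicalSpace
open AlgSp

namespace Groth.Agent.S10803

/-- (3) ⇒ (2) (with (2) ⇒ (1) ⇒ (3) immediate, this gives the equivalence of the three conditions
defining a locally Noetherian fibre over y): take a morphism f : X ⟶ Y of algebraic spaces over a
scheme S and a point y of |Y|. Suppose that for some field k and some point p : Spec k ⟶ Y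
representing y the fibre X_p (any pullback of f along the morphism of p) is locally Noetherian. Then
for every scheme V, every representable etale h_V ⟶ Y and every point v of V mapping to y, the fibre
X_v = Spec κ(v) ×_Y X is locally Noetherian. -/
theorem result {S : Scheme.{u}} (X Y : AlgSp.Space S) (f : X ⟶ Y)
    (y : AlgSp.Points Y.obj) (p : AlgSp.FieldPt Y.obj) (hp : AlgSp.Points.mk p = y)
    (hNoeth : ∀ ⦃P : AlgSp.Sp S⦄ (fst : P ⟶ X.obj) (snd : P ⟶ (AlgSp.yon S).obj p.pt),
      IsPullback fst snd f.hom p.toHom → AlgSp.IsLocNoethSp P)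
    (V : Over S) (b : (AlgSp.yon S).obj V ⟶ Y.obj) (hb : AlgSp.RepWith @Etale b) (v : ↥V.left)
    (hv : AlgSp.Points.ofPt b v = y)
    {Q : AlgSp.Sp S} (qfst : Q ⟶ X.obj) (qsnd : Q ⟶ (AlgSp.yon S).obj (AlgSp.FieldPt.ofPt b v).pt)
    (hQ : IsPullback qfst qsnd f.hom (AlgSp.FieldPt.ofPt b v).toHom) :
    AlgSp.IsLocNoethSp Q := by
  obtain ⟨W, w₁, w₂, sqW⟩ := AlgSpLib.exists_isPullback_yon b p.toHom hb.rep
  haveI : Etale w₂.left := AlgSpLib.etale_left (AlgSpLib.repWith_of_isPullback sqW hb)
  obtain ⟨w, hw, -⟩ := (AlgSpLib.ofPt_eq_ofPt_iff sqW v (IsLocalRing.closedPoint p.K)).1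
    (by rw [hv, Points.ofPt_toHom, hp])
  subst hw
  haveI : Subsingleton ↥p.pt.left := inferInstanceAs (Subsingleton (PrimeSpectrum p.K))
  haveI : LocallyQuasiFinite w₂.left := AlgSpLib.locallyQuasiFinite_of_etale w₂.left
  haveI : DiscreteTopology ↥W.left := by
    have h := w₂.left.isDiscrete_preimage_singleton (w₂.left w)
    rw [show w₂.left ⁻¹' {w₂.left w} = Set.univ from Set.eq_univ_of_forall fun _ => Subsingleton.elim (α := ↥p.pt.left) _ _] at h
    exact isDiscrete_univ_iff.1 h
  haveI : IsClosedImmersion (W.left.fromSpecResidueField w) :=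
    (AlgebraicGeometry.isClosed_singleton_iff_isClosedImmersion).1 (isClosed_discrete _)
  let E : Over S := Over.mk (W.left.fromSpecResidueField w ≫ W.hom)
  let ι : E ⟶ W := Over.homMk (W.left.fromSpecResidueField w) rfl
  let eB : E ⟶ (FieldPt.ofPt b (w₁.left w)).pt := Over.homMk (Spec.map (w₁.left.residueFieldMap w)) (by
    change Spec.map _ ≫ V.left.fromSpecResidueField _ ≫ V.hom = W.left.fromSpecResidueField w ≫ W.hom
    rw [w₁.left.SpecMap_residueFieldMap_fromSpecResidueField_assoc, Over.w w₁])
  let eA : E ⟶ p.pt := ι ≫ w₂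
  haveI : LocallyOfFiniteType eA.left :=
    inferInstanceAs (LocallyOfFiniteType (W.left.fromSpecResidueField w ≫ w₂.left))
  obtain ⟨_, _⟩ := NoethFibre.surjective_flat_spec (L := W.left.residueField w) eB.left
  haveI : IsAffineHom eB.left := inferInstanceAs (IsAffineHom (Spec.map (w₁.left.residueFieldMap w)))
  refine NoethFibre.isLocNoethSp_fibre X.property Y.property f.hom p.toHom _ eA eB ?_ hNoeth hQ
  rw [FieldPt.toHom_ofPt, Functor.map_comp, Category.assoc, ← sqW.w, ← Category.assoc, ← Category.assoc,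
    ← Functor.map_comp, ← Functor.map_comp]
  congr 2
  exact Over.OverMorphism.ext (w₁.left.SpecMap_residueFieldMap_fromSpecResidueField w).symm

end Groth.Agent.S10803
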