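import Groth.Statements.S10804
import Groth.Agent.CurvOpenLib.NoethFibre
-- import your own Groth.Agent.* helpers here

set_option autoImplicit false
universe u
open CategoryTheory CategoryTheory.Limits AlgebraicGeometry Topology TopologicalSpace
open AlgSp

namespace Groth.Agent.S10804

/-- (3) ⇒ (4): let f : X ⟶ Y be a morphism of algebraic spaces over a scheme S, and let p : Spec k ⟶ Y
and p₀ : Spec k₀ ⟶ Y be field-valued points defining the same point of |Y|, with h_{Spec k₀} ⟶ Y a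
monomorphism. If the fibre X_p = Spec k ×_Y X (any pullback of f along the morphism of p) is locally
Noetherian, then the fibre X_{p₀} is locally Noetherian. -/
theorem result {S : Scheme.{u}} (X Y : AlgSp.Space S) (f : X ⟶ Y)
    (p p₀ : AlgSp.FieldPt Y.obj) (hpp : AlgSp.Points.mk p = AlgSp.Points.mk p₀) (hmono : Mono p₀.toHom)
    (hNoeth : ∀ ⦃P : AlgSp.Sp S⦄ (fst : P ⟶ X.obj) (snd : P ⟶ (AlgSp.yon S).obj p.pt),
      IsPullback fst snd f.hom p.toHom → AlgSp.IsLocNoethSp P)
    {Q : AlgSp.Sp S} (qfst : Q ⟶ X.obj) (qsnd : Q ⟶ (AlgSp.yon S).obj p₀.pt)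
    (hQ : IsPullback qfst qsnd f.hom p₀.toHom) :
    AlgSp.IsLocNoethSp Q := by
  obtain ⟨W, w₁, w₂, sqW⟩ :=
    AlgSpLib.exists_isPullback_yon p₀.toHom p.toHom (Y.property.representable_from_yon _)
  obtain ⟨w, -, -⟩ := (AlgSpLib.ofPt_eq_ofPt_iff sqW (IsLocalRing.closedPoint p₀.K) (IsLocalRing.closedPoint p.K)).1
    (by rw [Points.ofPt_toHom, Points.ofPt_toHom, hpp])
  haveI : Mono ((yon S).map w₂) := sqW.mono_snd_of_mono
  haveI : Mono w₂ := (yon S).mono_of_mono_map inferInstance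
  haveI : Mono w₂.left := inferInstanceAs (Mono ((Over.forget S).map w₂))
  obtain ⟨O, hO, hwO, -⟩ := exists_isAffineOpen_mem_and_subset (U := ⊤) (x := w) trivial
  haveI : IsAffine O := hO
  haveI : IsAffine p.pt.left := inferInstanceAs (IsAffine (Spec (CommRingCat.of p.K)))
  haveI : Subsingleton ↥p.pt.left := inferInstanceAs (Subsingleton (PrimeSpectrum p.K))
  haveI : IsIntegral p.pt.left := inferInstanceAs (IsIntegral (Spec (CommRingCat.of p.K)))
  haveI : Surjective (O.ι ≫ w₂.left) := ⟨fun y => ⟨⟨w, hwO⟩, Subsingleton.elim _ _⟩⟩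
  haveI : IsIso (O.ι ≫ w₂.left) := Flat.isIso_of_surjective_of_mono (O.ι ≫ w₂.left)
  let σ : p.pt ⟶ W := Over.homMk (inv (O.ι ≫ w₂.left) ≫ O.ι) (by
    rw [Category.assoc, IsIso.inv_comp_eq, Category.assoc, Over.w w₂])
  have hσ : σ ≫ w₂ = 𝟙 p.pt := Over.OverMorphism.ext (by simp [σ])
  let eB : p.pt ⟶ p₀.pt := σ ≫ w₁
  haveI : LocallyOfFiniteType (𝟙 p.pt : p.pt ⟶ p.pt).left := inferInstanceAs (LocallyOfFiniteType (𝟙 p.pt.left))
  obtain ⟨_, _⟩ := NoethFibre.surjective_flat_spec (L := p.K) (K := p₀.K) eB.left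
  haveI : IsAffineHom eB.left := by
    haveI : IsAffine p₀.pt.left := inferInstanceAs (IsAffine (Spec (CommRingCat.of p₀.K)))
    infer_instance
  refine NoethFibre.isLocNoethSp_fibre X.property Y.property f.hom p.toHom p₀.toHom (𝟙 p.pt) eB ?_ hNoeth hQ
  rw [CategoryTheory.Functor.map_id, Category.id_comp, Functor.map_comp, Category.assoc, sqW.w, ← Category.assoc,
    ← Functor.map_comp, hσ, CategoryTheory.Functor.map_id, Category.id_comp]

end Groth.Agent.S10804
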