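import Groth.Statements.S10807
import Groth.Agent.AlgSpRegLib.CartierSpace
import Groth.Agent.AlgSpLib.MorPack
import Groth.Agent.AlgSpLib.SheafDesc
import Groth.Agent.BlowUpLib.Props
import Groth.Agent.PrinPartLib.FP
import Groth.Agent.S8859

set_option autoImplicit false
set_option backward.isDefEq.respectTransparency false
set_option backward.isDefEq.respectTransparency.types false
universe u
open CategoryTheory CategoryTheory.Limits AlgebraicGeometry Topology TopologicalSpace
open AlgSp

namespace Groth.Agent.S10807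

/-- A proper morphism of schemes is a proper morphism of the algebraic spaces they represent. -/
theorem isProperMor_yon {S : Scheme.{u}} {B V : Over S} (c : B ⟶ V) [IsProper c.left] :
    IsProperMor ((yon S).map c) := by
  have hr : RepWith @IsProper ((yon S).map c) :=
    (repWith_yon_map_iff (P := (@IsProper : MorphismProperty Scheme.{u})) c).2 ‹_›
  exact ⟨AlgSpLib.isSeparatedMor_of_repWith
      (AlgSpLib.repWith_mono (fun _ _ g (_ : IsProper g) => (inferInstance : IsSeparated g)) hr),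
    ⟨AlgSpLib.locP_of_repWith
      (AlgSpLib.repWith_mono (fun _ _ g (_ : IsProper g) => (inferInstance : LocallyOfFiniteType g)) hr),
      AlgSpLib.isQuasiCompactMor_of_repWith (IsAlgSpace.yon_obj B) (IsAlgSpace.yon_obj V)
        (AlgSpLib.repWith_mono (fun _ _ g (_ : IsProper g) => (inferInstance : QuasiCompact g)) hr)⟩,
    (AlgSpLib.isUnivClosedMor_iff_repWith (IsAlgSpace.yon_obj B) (IsAlgSpace.yon_obj V) hr.rep).1
      (AlgSpLib.repWith_mono (fun _ _ g (_ : IsProper g) => (inferInstance : UniversallyClosed g)) hr)⟩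

/-- The ideal of the inverse image of a closed subspace in a scheme mapping to a chart. -/
theorem comap_eq {S : Scheme.{u}} {F G : Sp S} {i : F ⟶ G} {V T : Over S} {φ : (yon S).obj V ⟶ G}
    {ψ : (yon S).obj T ⟶ G} {I : V.left.IdealSheafData} {J : T.left.IdealSheafData}
    {fI : (yon S).obj (Over.mk (I.subschemeι ≫ V.hom)) ⟶ F}
    {fJ : (yon S).obj (Over.mk (J.subschemeι ≫ T.hom)) ⟶ F}
    (sqI : IsPullback fI ((yon S).map (Over.homMk I.subschemeι rfl : Over.mk (I.subschemeι ≫ V.hom) ⟶ V)) i φ)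
    (sqJ : IsPullback fJ ((yon S).map (Over.homMk J.subschemeι rfl : Over.mk (J.subschemeι ≫ T.hom) ⟶ T)) i ψ)
    (q : T ⟶ V) (hq : (yon S).map q ≫ φ = ψ) : J = I.comap q.left := by
  haveI : IsClosedImmersion (Over.homMk I.subschemeι rfl : Over.mk (I.subschemeι ≫ V.hom) ⟶ V).left :=
    (inferInstance : IsClosedImmersion I.subschemeι)
  haveI : IsClosedImmersion (Over.homMk J.subschemeι rfl : Over.mk (J.subschemeι ≫ T.hom) ⟶ T).left :=
    (inferInstance : IsClosedImmersion J.subschemeι)
  have h := AlgSpRegLib.comap_ker_eq sqI sqJ q (𝟙 T) (by rw [hq, (yon S).map_id, Category.id_comp])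
  simpa using! h.symm

/-- A morphism from a scheme with effective Cartier inverse image ideal is a test object of the blowing up. -/
theorem invImage_of_chart {S : Scheme.{u}} {F G : Sp S} {i : F ⟶ G} (hi : RepWith @IsClosedImmersion i)
    {V T : Over S} {φ : (yon S).obj V ⟶ G} {I : V.left.IdealSheafData}
    {fI : (yon S).obj (Over.mk (I.subschemeι ≫ V.hom)) ⟶ F}
    (sqI : IsPullback fI ((yon S).map (Over.homMk I.subschemeι rfl : Over.mk (I.subschemeι ≫ V.hom) ⟶ V)) i φ)
    {ψ : (yon S).obj T ⟶ G} (q : T ⟶ V) (hq : (yon S).map q ≫ φ = ψ)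
    (hc : BlowUp.IsEffCartierIdeal (I.comap q.left)) : InvImageIsEffCartier i ψ := by
  obtain ⟨J, fJ, sqJ⟩ := AlgSpRegLib.exists_ideal hi ψ
  refine ⟨_, fJ, _, sqJ, AlgSpLib.repWith_of_isPullback sqJ hi, T, 𝟙 _, J, 𝟙 _, repWith_id _ T, repWith_id _ T,
    IsPullback.of_horiz_isIso ⟨by simp⟩, ?_⟩
  rw [comap_eq sqI sqJ q hq]
  exact hc

/-- Over a scheme chart, a blowing up of spaces is the blowing up of the chart. -/
theorem exists_iso_scheme_blowUp {S : Scheme.{u}} {X X' Z : Sp S} (hX : IsAlgSpace X) (hX' : IsAlgSpace X')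
    {i : Z ⟶ X} (hi : RepWith @IsClosedImmersion i) {b : X' ⟶ X} (hb : IsBlowUpSp b i)
    {V : Over S} {φ : (yon S).obj V ⟶ X} (hφ : RepWith @Etale φ) {P : Sp S} {fst : P ⟶ X'}
    {snd : P ⟶ (yon S).obj V} (sq : IsPullback fst snd b φ) {I : V.left.IdealSheafData}
    {fI : (yon S).obj (Over.mk (I.subschemeι ≫ V.hom)) ⟶ Z}
    (sqI : IsPullback fI ((yon S).map (Over.homMk I.subschemeι rfl : Over.mk (I.subschemeι ≫ V.hom) ⟶ V)) i φ)
    {B : Over S} (c : B ⟶ V) (hc : BlowUp.IsBlowUp c.left I) :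
    ∃ e : P ⟶ (yon S).obj B, IsIso e ∧ e ≫ (yon S).map c = snd := by
  have hP : IsAlgSpace P := AlgSpLib.isAlgSpace_of_isPullback hX' (IsAlgSpace.yon_obj V) hX sq
  have hV := IsAlgSpace.yon_obj (S := S) V
  obtain ⟨h, hh, -⟩ := hb.2 (IsAlgSpace.yon_obj B) ((yon S).map c ≫ φ) (invImage_of_chart hi sqI c rfl hc.1)
  let α : (yon S).obj B ⟶ P := sq.lift h ((yon S).map c) hh
  have hαs : α ≫ snd = (yon S).map c := sq.lift_snd _ _ _
  obtain ⟨U, a, ha, has⟩ := hP.atlas
  haveI : Sheaf.IsLocallySurjective a := AlgSpLib.isLocallySurjective_of_repWith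
    (AlgSpLib.repWith_mono (fun _ _ g (_ : Etale g) => (inferInstance : Flat g)) ha)
    (AlgSpLib.repWith_mono (fun _ _ g (_ : Etale g) => (inferInstance : LocallyOfFinitePresentation g)) ha) has
  have hfst : RepWith @Etale fst := AlgSpLib.repWith_of_isPullback sq.flip hφ
  let q : U ⟶ V := (yon S).preimage (a ≫ snd)
  have hq : (yon S).map q = a ≫ snd := (yon S).map_preimage _
  have hqφ : (yon S).map q ≫ φ = (a ≫ fst) ≫ b := by
    rw [hq, Category.assoc, Category.assoc, sq.w]
  obtain ⟨Q, fQ, sQ, sqQ, hQ⟩ := hb.1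
  obtain ⟨J, fJ, sqJ⟩ := AlgSpRegLib.exists_ideal hQ.1 (a ≫ fst)
  have hJ : BlowUp.IsEffCartierIdeal J :=
    (AlgSpRegLib.isEffCartierSub_iff hX' hQ.1).1 hQ U (a ≫ fst) (AlgSpLib.repWith_comp ha hfst) J fJ sqJ
  have hU : BlowUp.IsEffCartierIdeal (I.comap q.left) := by
    rw [← comap_eq sqI (sqJ.paste_horiz sqQ) q hqφ]
    exact hJ
  obtain ⟨p', hp', -⟩ := hc.2 U.left q.left hU
  let p : U ⟶ B := Over.homMk p' (by rw [← Over.w c, ← Category.assoc, hp', Over.w])
  have hp : p ≫ c = q := Over.OverMorphism.ext hp'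
  obtain ⟨R, r₁, r₂, sqR⟩ := AlgSpLib.exists_isPullback_yon a a ha.rep
  have hpd : r₁ ≫ p = r₂ ≫ p := by
    have hcq : r₁ ≫ q = r₂ ≫ q := (yon S).map_injective (by
      rw [Functor.map_comp, Functor.map_comp, hq, ← Category.assoc, ← Category.assoc, sqR.w])
    haveI : Etale r₁.left := AlgSpLib.etale_left (AlgSpLib.repWith_of_isPullback sqR.flip ha)
    refine Over.OverMorphism.ext ((hc.2 R.left (r₁.left ≫ q.left) ?_).unique ?_ ?_)
    · rw [Scheme.IdealSheafData.comap_comp]
      exact BlowUpLib.isEffCartier_comap_of_flat _ hU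
    · rw [← hp]; simp
    · rw [show r₁.left ≫ q.left = r₂.left ≫ q.left from congrArg (fun t => CommaMorphism.left t) hcq, ← hp]; simp
  obtain ⟨β, hβ⟩ := AlgSpLib.exists_desc a ((yon S).map p) fun T x y e => by
    let x' : T ⟶ U := (yon S).preimage x
    let y' : T ⟶ U := (yon S).preimage y
    let l : T ⟶ R := (yon S).preimage (sqR.lift x y e)
    have h1 : (yon S).map l ≫ (yon S).map r₁ = x := by
      rw [(yon S).map_preimage]; exact sqR.lift_fst _ _ _
    have h2 : (yon S).map l ≫ (yon S).map r₂ = y := by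
      rw [(yon S).map_preimage]; exact sqR.lift_snd _ _ _
    rw [← h1, ← h2, Category.assoc, Category.assoc, ← (yon S).map_comp r₁, ← (yon S).map_comp r₂, hpd]
  haveI : Epi a := inferInstance
  have hβs : β ≫ (yon S).map c = snd := by
    rw [← cancel_epi a, ← Category.assoc, hβ, ← Functor.map_comp, hp, hq]
  have h1 : α ≫ β = 𝟙 _ := by
    let g : B ⟶ B := (yon S).preimage (α ≫ β)
    have hg : (yon S).map g = α ≫ β := (yon S).map_preimage _
    have hgc : g ≫ c = c := (yon S).map_injective (by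
      rw [Functor.map_comp, hg, Category.assoc, hβs, hαs])
    have hgid : g = 𝟙 B := Over.OverMorphism.ext ((hc.2 B.left c.left hc.1).unique
      (by rw [← Over.comp_left, hgc]) (by simp))
    rw [← hg, hgid, (yon S).map_id]
  refine ⟨β, ⟨⟨α, ?_, h1⟩⟩, hβs⟩
  refine sq.hom_ext ?_ (by rw [Category.assoc, hαs, hβs, Category.id_comp])
  rw [← cancel_epi a]
  refine (hb.2 (IsAlgSpace.yon_obj U) ((a ≫ fst) ≫ b) (invImage_of_chart hi sqI q hqφ hU)).unique ?_ ?_
  · have hw : (β ≫ α) ≫ fst ≫ b = snd ≫ φ := by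
      rw [sq.w, Category.assoc, reassoc_of% hαs, ← Category.assoc, hβs]
    simp only [Category.assoc] at hw ⊢
    rw [hw, sq.w]
  · simp only [Category.assoc, Category.id_comp]

/-- Let X be an algebraic space over a scheme S and Z ⟶ X a closed subspace of finite presentation (its
ideal is of finite type), and let b : X' ⟶ X be the blowing up of X in Z, characterised by its
universal property: the inverse image of Z under b is an effective Cartier divisor (one-chart sense)
and every morphism from an algebraic space to X under which the inverse image of Z is an effective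
Cartier divisor factors uniquely through b. Then b is a proper morphism. -/
theorem result {S : Scheme.{u}} (X X' Z : AlgSp.Space S)
    (i : Z ⟶ X) (hi : AlgSp.RepWith (@IsClosedImmersion ⊓ @LocallyOfFinitePresentation) i.hom)
    (b : X' ⟶ X) (hb : AlgSp.IsBlowUpSp b.hom i.hom) :
    AlgSp.IsProperMor b.hom := by
  have hcl : RepWith @IsClosedImmersion i.hom := AlgSpLib.repWith_mono (fun _ _ _ hg => hg.1) hi
  obtain ⟨V, φ, hφ, hφs⟩ := X.property.atlas
  obtain ⟨I, fI, sqI⟩ := AlgSpRegLib.exists_ideal hcl φ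
  have hI : BlowUp.IsFiniteTypeIdeal I := fun U => by
    haveI : IsClosedImmersion I.subschemeι := inferInstance
    haveI : LocallyOfFinitePresentation I.subschemeι := (hi.2 φ _ _ sqI).2
    have := PrinPartLib.fg_ker I.subschemeι U
    rwa [Scheme.IdealSheafData.ker_subschemeι] at this
  obtain ⟨B₀, c₀, hc₀⟩ := Groth.Agent.S8859.result V.left I
  haveI : IsProper c₀ := BlowUpLib.isProper_of_isBlowUp hc₀ hI
  let c : Over.mk (c₀ ≫ V.hom) ⟶ V := Over.homMk c₀ rfl
  haveI : IsProper c.left := ‹_›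
  have sq := IsPullback.of_hasPullback b.hom φ
  obtain ⟨e, he, hec⟩ := exists_iso_scheme_blowUp X.property X'.property hcl hb hφ sq sqI c hc₀
  refine AlgSpLib.isProperMor_of_etale_cover X'.property X.property hφ hφs
    (fst := inv e ≫ pullback.fst b.hom φ) (snd := (yon S).map c) (sq.of_iso (asIso e) (Iso.refl _) (Iso.refl _)
      (Iso.refl _) (by simp) (by simp [hec]) (by simp) (by simp)) (isProperMor_yon c)

end Groth.Agent.S10807
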