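import Groth.Statements.S10809
import Groth.Agent.ModEtQcLib.WeakAss
import Groth.Agent.AlgSpRegLib.WeakAssBasic
-- import your own Groth.Agent.* helpers here

set_option autoImplicit false
universe u
open CategoryTheory CategoryTheory.Limits AlgebraicGeometry Topology TopologicalSpace
open AlgSp

namespace Groth.Agent.S10809

/-- (1) ⇔ (2): let X be an algebraic space over a scheme S, F a quasi-coherent O_X-module on the small
etale site of X and x a point of |X|. Then x is a weakly associated point of F (for SOME affine
scheme U etale over X and some point u of U over x, u is weakly associated to F restricted to U: the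
prime ideal of u is minimal over the annihilator of some section of F over U) if and only if for
EVERY affine scheme U etale over X and every point u of U over x, u is weakly associated to F
restricted to U. (The third equivalent condition, through the stalk at a geometric point, is not
part of this row; the every-chart side is stated for affine charts, to which the general case
reduces by passing to an affine open neighbourhood.) -/
theorem result {S : Scheme.{u}} (X : AlgSp.Space S)
    (M : AlgSp.ModEt X.obj) [M.IsQuasicoherent] (x : AlgSp.Points X.obj) :
    x ∈ AlgSp.WeakAssEt M ↔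
      ∀ (E : AlgSp.EtOver X.obj) [IsAffine E.obj.left.left] (u : ↥E.obj.left.left),
        AlgSp.Points.ofPt E.obj.hom u = x → AlgSp.IsWeakAssOn M E u := by
  constructor
  · rintro ⟨E, hE, u, hu, hw⟩ E' _ u' hu'
    haveI := hE
    exact (ModEtQc.isWeakAssOn_congr M (ModEtQc.bc_of_isQuasicoherent M) u u' (hu.trans hu'.symm)).1 hw
  · intro h
    obtain ⟨U, p, hp, hps⟩ := X.property.atlas
    obtain ⟨v, hv⟩ := AlgSpLib.surjective_ofPt hps x
    obtain ⟨E, g, hE, w, hw⟩ := AlgSpRegLib.exists_affine_over (AlgSp.EtOver.mk p hp) v
    have hx : AlgSp.Points.ofPt E.obj.hom w = x := by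
      rw [← hv, ← hw, ← AlgSp.EtOver.w g, AlgSpLib.ofPt_yon_comp]
      rfl
    haveI := hE
    exact ⟨E, hE, w, hx, h E w hx⟩

end Groth.Agent.S10809
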