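import Groth.Statements.S10820
import Groth.Agent.HomogFactorLib.Basic
import Groth.Agent.GenusZeroLib.PSpace
import Groth.Agent.ProjSectLib.Basic


-- import your own Groth.Agent.* helpers here

set_option autoImplicit false
universe u
open AlgebraicGeometry Topology TopologicalSpace
open Variety

namespace Groth.Agent.S10820

/-- For a field k, n ≥ 2 and a nonzero homogeneous polynomial f of degree d ≥ 1 in n + 1 variables, the
hypersurface V_+(f) in projective n-space over k (as a subspace of Proj of the polynomial ring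
graded by degree) is connected and nonempty. -/
theorem result (k : Type u) [Field k] (n d : ℕ) (hn : 2 ≤ n)
    (f : MvPolynomial (Fin (n + 1)) k) (hf : f.IsHomogeneous d) (hd : 0 < d) (hf0 : f ≠ 0) :
    IsConnected (ProjectiveSpectrum.zeroLocus (CohB1.polyGrading n k)
      ({f} : Set (MvPolynomial (Fin (n + 1)) k))) := by
  classical
  obtain ⟨s, hs, u, hu⟩ := WfDvdMonoid.exists_factors f hf0
  let η : ProjectiveSpectrum (CohB1.polyGrading n k) := GenusZeroLib.genPt k n
  have hη : ProjDimLib.dPt η = n := GenusZeroLib.dPt_genPt k n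
  have hηle : ∀ z, η ≤ z := fun z a ha => by
    have h0 : a = 0 := (Submodule.mem_bot _).mp ha
    exact h0 ▸ zero_mem z.asHomogeneousIdeal.toIdeal
  -- factors are homogeneous of positive degree
  have hfac : ∀ g ∈ s, ∃ e, 0 < e ∧ g.IsHomogeneous e := by
    intro g hg
    obtain ⟨c, hc⟩ : g ∣ f := (Multiset.dvd_prod hg).trans ⟨u, hu.symm⟩
    have hc0 : c ≠ 0 := fun h => hf0 (by rw [hc, h, mul_zero])
    obtain ⟨e, he⟩ := HomogFactorLib.exists_isHomogeneous_of_mul (hs g hg).ne_zero hc0 (hc ▸ hf : (g * c).IsHomogeneous d)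
    refine ⟨e, Nat.pos_of_ne_zero fun he0 => ?_, he⟩
    subst he0
    have hgc : g = MvPolynomial.C (g.coeff 0) :=
      MvPolynomial.totalDegree_eq_zero_iff_eq_C.mp (Nat.le_zero.mp he.totalDegree_le)
    refine (hs g hg).not_isUnit ?_
    rw [hgc]
    refine IsUnit.map _ (Ne.isUnit fun h0 => (hs g hg).ne_zero ?_)
    rw [hgc, h0, map_zero]
  -- any two factors meet
  have hmeet : ∀ g ∈ s, ∀ g' ∈ s, ∃ z : ProjectiveSpectrum (CohB1.polyGrading n k),
      g ∈ z.asHomogeneousIdeal ∧ g' ∈ z.asHomogeneousIdeal := by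
    intro g hg g' hg'
    obtain ⟨e, he, heg⟩ := hfac g hg
    obtain ⟨e', he', heg'⟩ := hfac g' hg'
    obtain ⟨z, -, hz, -⟩ := ProjSectLib.exists_mem η 2 ![g, g'] ![e, e']
      (fun i => by fin_cases i <;> simp [heg, heg']) (fun i => by fin_cases i <;> simp [he, he']) (by omega)
    exact ⟨z, hz 0, hz 1⟩
  -- the pieces are irreducible
  have hirr : ∀ g ∈ s, IsPreconnected (ProjectiveSpectrum.zeroLocus (CohB1.polyGrading n k) ({g} : Set _)) := by
    intro g hg
    obtain ⟨z, hz, -⟩ := hmeet g hg g hg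
    obtain ⟨e, -, heg⟩ := hfac g hg
    let y : ProjectiveSpectrum (CohB1.polyGrading n k) :=
      ⟨⟨Ideal.span {g}, Ideal.homogeneous_span _ _ (by rintro a rfl; exact ⟨e, heg⟩)⟩,
        (Ideal.span_singleton_prime (hs g hg).ne_zero).mpr (hs g hg).prime,
        fun h => z.not_irrelevant_le (le_trans h ((Ideal.span_singleton_le_iff_mem _).mpr hz))⟩
    have hcl : ProjectiveSpectrum.zeroLocus (CohB1.polyGrading n k) ({g} : Set _) = closure {y} := by
      ext w
      rw [← ProjectiveSpectrum.le_iff_mem_closure]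
      constructor
      · intro h
        exact (Ideal.span_singleton_le_iff_mem w.asHomogeneousIdeal.toIdeal).mpr (h rfl)
      · intro h a ha
        rw [Set.mem_singleton_iff] at ha
        subst ha
        exact h (Ideal.mem_span_singleton_self a)
    rw [hcl]
    exact isPreconnected_singleton.closure
  have hcov : ProjectiveSpectrum.zeroLocus (CohB1.polyGrading n k) ({f} : Set _) =
      ⋃ g ∈ {g | g ∈ s}, ProjectiveSpectrum.zeroLocus (CohB1.polyGrading n k) ({g} : Set _) := by
    ext w
    simp only [Set.mem_iUnion, ProjectiveSpectrum.mem_zeroLocus, Set.singleton_subset_iff, Set.mem_setOf_eq,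
      exists_prop]
    constructor
    · intro h
      have h' : s.prod ∈ w.asHomogeneousIdeal.toIdeal := by
        have : f ∈ w.asHomogeneousIdeal.toIdeal := h
        rw [← hu] at this
        exact (Ideal.mul_unit_mem_iff_mem _ u.isUnit).mp this
      exact (w.isPrime.multiset_prod_mem_iff_exists_mem s).mp h'
    · rintro ⟨g, hg, hgw⟩
      obtain ⟨c, hc⟩ : g ∣ f := (Multiset.dvd_prod hg).trans ⟨u, hu.symm⟩
      change f ∈ w.asHomogeneousIdeal.toIdeal
      rw [hc]
      exact Ideal.mul_mem_right _ _ hgw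
  have hne : ∃ g, g ∈ s := by
    refine Multiset.exists_mem_of_ne_zero fun h0 => ?_
    subst h0
    rw [Multiset.prod_zero, one_mul] at hu
    have hdeg : f.totalDegree = d := hf.totalDegree hf0
    obtain ⟨c, -, hc⟩ := MvPolynomial.isUnit_iff_eq_C_of_isReduced.mp (hu ▸ u.isUnit)
    rw [hc, MvPolynomial.totalDegree_C] at hdeg
    omega
  obtain ⟨g₀, hg₀⟩ := hne
  obtain ⟨z₀, hz₀, -⟩ := hmeet g₀ hg₀ g₀ hg₀
  refine ⟨⟨z₀, ?_⟩, ?_⟩
  · rw [hcov]
    exact Set.mem_biUnion hg₀ (Set.singleton_subset_iff.mpr hz₀)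
  · rw [hcov]
    refine IsPreconnected.biUnion_of_reflTransGen hirr fun g hg g' hg' => Relation.ReflTransGen.single ?_
    obtain ⟨z, h1, h2⟩ := hmeet g hg g' hg'
    exact ⟨⟨z, Set.singleton_subset_iff.mpr h1, Set.singleton_subset_iff.mpr h2⟩, hg⟩

end Groth.Agent.S10820
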