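import Groth.Statements.S10821
import Groth.Agent.HomogFactorLib.Basic
import Groth.Agent.GenusZeroLib.PSpace


-- import your own Groth.Agent.* helpers here

set_option autoImplicit false
universe u
open AlgebraicGeometry Topology TopologicalSpace
open Variety

namespace Groth.Agent.S10821

/-- For a field k and an irreducible closed subset Z of projective n-space over k, Z has codimension 1
(the longest chain of irreducible closed subsets strictly above Z has length 1) if and only if Z is
the zero set V_+(f) of an irreducible homogeneous polynomial f in n + 1 variables. -/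
theorem result (k : Type u) [Field k] (n : ℕ)
    (Z : TopologicalSpace.IrreducibleCloseds (ProjectiveSpectrum (CohB1.polyGrading n k))) :
    Order.coheight Z = 1 ↔
      ∃ (d : ℕ) (f : MvPolynomial (Fin (n + 1)) k), f.IsHomogeneous d ∧ Irreducible f ∧
        (Z : Set (ProjectiveSpectrum (CohB1.polyGrading n k))) =
          ProjectiveSpectrum.zeroLocus (CohB1.polyGrading n k) ({f} : Set (MvPolynomial (Fin (n + 1)) k)) := by
  classical
  let P := MvPolynomial (Fin (n + 1)) k
  let PS := ProjectiveSpectrum (CohB1.polyGrading n k)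
  let η : PS := GenusZeroLib.genPt k n
  have hη : ∀ a : P, a ∈ η.asHomogeneousIdeal → a = 0 := fun a ha => (Submodule.mem_bot _).mp ha
  have hmemcl : ∀ (y z : PS), z ∈ closure ({y} : Set PS) ↔ ∀ a : P, a ∈ y.asHomogeneousIdeal → a ∈ z.asHomogeneousIdeal :=
    fun y z => (ProjectiveSpectrum.le_iff_mem_closure _ y z).symm
  let cl : PS → TopologicalSpace.IrreducibleCloseds PS := fun y =>
    ⟨closure {y}, isIrreducible_singleton.closure, isClosed_closure⟩
  have hgen : ∀ W : TopologicalSpace.IrreducibleCloseds PS, ∃ w : PS, closure ({w} : Set PS) = W :=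
    fun W => QuasiSober.sober W.isIrreducible W.isClosed
  have htop : ∀ W : TopologicalSpace.IrreducibleCloseds PS, W ≤ cl η := by
    intro W z _
    exact (hmemcl η z).mpr fun a ha => by rw [hη a ha]; exact zero_mem z.asHomogeneousIdeal.toIdeal
  have hηne : ∀ (f : P), f ≠ 0 → η ∉ ProjectiveSpectrum.zeroLocus (CohB1.polyGrading n k) {f} :=
    fun f hf h => hf (hη f (h rfl))
  -- the point of an irreducible form
  have hpt : ∀ (f : P) (d : ℕ), f.IsHomogeneous d → Irreducible f → ∀ z : PS, f ∈ z.asHomogeneousIdeal →
      ∃ y : PS, y.asHomogeneousIdeal.toIdeal = Ideal.span {f} ∧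
        closure ({y} : Set PS) = ProjectiveSpectrum.zeroLocus (CohB1.polyGrading n k) {f} := by
    intro f d hd hirr z hz
    have hsp : Ideal.span {f} ≤ z.asHomogeneousIdeal.toIdeal :=
      (Ideal.span_singleton_le_iff_mem _).mpr hz
    have hhom : (Ideal.span {f}).IsHomogeneous (CohB1.polyGrading n k) :=
      Ideal.homogeneous_span _ _ (by
        rintro a rfl
        exact ⟨d, hd⟩)
    let y : PS := ⟨⟨_, hhom⟩, (Ideal.span_singleton_prime hirr.ne_zero).mpr hirr.prime,
      fun h => z.not_irrelevant_le (h.trans hsp)⟩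
    refine ⟨y, rfl, ?_⟩
    ext w
    rw [hmemcl]
    constructor
    · intro h a ha
      rw [Set.mem_singleton_iff] at ha
      subst ha
      exact h a (Ideal.mem_span_singleton_self a)
    · intro h a ha
      exact (Ideal.span_singleton_le_iff_mem w.asHomogeneousIdeal.toIdeal).mpr (h rfl) ha
  -- irreducible forms in a nonzero point
  have hirrmem : ∀ z : PS, z ≠ η → ∃ (f : P) (d : ℕ), f.IsHomogeneous d ∧ Irreducible f ∧
      f ∈ z.asHomogeneousIdeal := by
    intro z hz
    obtain ⟨a, ha, ha0⟩ : ∃ a ∈ z.asHomogeneousIdeal.toIdeal, a ≠ 0 := by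
      by_contra! h
      exact hz (ProjectiveSpectrum.ext (HomogeneousIdeal.ext (le_antisymm
        (fun a ha => by rw [h a ha]; exact zero_mem η.asHomogeneousIdeal.toIdeal)
        (fun a ha => by rw [hη a ha]; exact zero_mem z.asHomogeneousIdeal.toIdeal))))
    obtain ⟨e, he⟩ : ∃ e, MvPolynomial.homogeneousComponent e a ≠ 0 := by
      by_contra! h
      exact ha0 (by rw [← MvPolynomial.sum_homogeneousComponent a]; simp [h])
    set b := MvPolynomial.homogeneousComponent e a
    have hb : b ∈ z.asHomogeneousIdeal.toIdeal := by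
      have := z.asHomogeneousIdeal.2 e ha
      rwa [show (↑((DirectSum.decompose (CohB1.polyGrading n k) a) e) : P) = b from
        MvPolynomial.decomposition.decompose'_apply a e] at this
    have hnu : ¬ IsUnit b := fun h => z.isPrime.ne_top (Ideal.eq_top_of_isUnit_mem _ hb h)
    obtain ⟨s, hs, u, hu⟩ := WfDvdMonoid.exists_factors b he
    have hprod : s.prod ∈ z.asHomogeneousIdeal.toIdeal := by
      rw [← hu] at hb
      exact (Ideal.mul_unit_mem_iff_mem _ u.isUnit).mp hb
    obtain ⟨f, hfs, hf⟩ := z.isPrime.multiset_prod_mem_iff_exists_mem s |>.mp hprod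
    obtain ⟨g, hg⟩ : f ∣ b := (Multiset.dvd_prod hfs).trans ⟨u, hu.symm⟩
    have hbh : (f * g).IsHomogeneous e := by
      rw [← hg]; exact MvPolynomial.homogeneousComponent_isHomogeneous e a
    have hg0 : g ≠ 0 := fun h0 => he (by change b = 0; rw [hg, h0, mul_zero])
    obtain ⟨d, hd⟩ := HomogFactorLib.exists_isHomogeneous_of_mul (hs f hfs).ne_zero hg0 hbh
    exact ⟨f, d, hd, hs f hfs, hf⟩
  obtain ⟨x, hx⟩ := hgen Z
  constructor
  · intro h
    have hxη : x ≠ η := by
      rintro rfl
      have : Z = cl η := TopologicalSpace.IrreducibleCloseds.ext hx.symm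
      have h0 : Order.coheight Z = 0 := Order.coheight_eq_zero.mpr fun W _ => this ▸ htop W
      rw [h] at h0
      exact one_ne_zero h0
    obtain ⟨f, d, hd, hirr, hf⟩ := hirrmem x hxη
    obtain ⟨y, hy, hcl⟩ := hpt f d hd hirr x hf
    refine ⟨d, f, hd, hirr, ?_⟩
    by_contra hne
    have hle : Z ≤ cl y := by
      intro w hw
      replace hw : w ∈ closure ({x} : Set PS) := hx ▸ hw
      exact closure_minimal (Set.singleton_subset_iff.mpr (by rw [hcl]; simpa using hf)) isClosed_closure hw
    have hlt : Z < cl y := lt_of_le_of_ne hle fun e => hne (by rw [e]; exact hcl)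
    have h0 := (Order.coheight_eq_coe_iff (n := 1)).mp (by exact_mod_cast h) |>.2.2 (cl y) hlt
    have hmax : IsMax (cl y) := Order.coheight_eq_zero.mp (Order.lt_one_iff.mp (by exact_mod_cast h0))
    have : η ∈ closure ({y} : Set PS) := hmax (htop (cl y)) (subset_closure rfl)
    rw [hcl] at this
    exact hηne f hirr.ne_zero this
  · rintro ⟨d, f, hd, hirr, hZ⟩
    have hxZ : x ∈ ProjectiveSpectrum.zeroLocus (CohB1.polyGrading n k) {f} := by
      rw [← hZ, ← hx]; exact subset_closure rfl
    obtain ⟨y, hy, hcl⟩ := hpt f d hd hirr x (hxZ rfl)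
    have hZy : Z = cl y := TopologicalSpace.IrreducibleCloseds.ext (hZ.trans hcl.symm)
    refine le_antisymm ((Order.coheight_le_coe_iff (n := 1)).mpr fun W hW => ?_) (Order.one_le_iff_ne_zero.mpr ?_)
    · obtain ⟨w, hw⟩ := hgen W
      have hW' : W = cl w := TopologicalSpace.IrreducibleCloseds.ext hw.symm
      suffices w = η by
        rw [show Order.coheight W = 0 from Order.coheight_eq_zero.mpr fun V _ => by
          rw [hW', this]; exact htop V]
        norm_num
      by_contra hwη
      obtain ⟨g, e, he, hg, hgw⟩ := hirrmem w hwη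
      have hyw : y ∈ closure ({w} : Set PS) := by
        rw [hw]; exact hW.le (by rw [hZy]; exact subset_closure rfl)
      have hfg : g ∈ Ideal.span {f} := hy ▸ (hmemcl w y).mp hyw g hgw
      have hassoc : Associated f g := hirr.associated_of_dvd hg (Ideal.mem_span_singleton.mp hfg)
      have hfw : f ∈ w.asHomogeneousIdeal.toIdeal := by
        obtain ⟨u, hu⟩ := hassoc
        rw [← hu] at hgw
        exact (Ideal.mul_unit_mem_iff_mem _ u.isUnit).mp hgw
      refine hW.not_ge ?_
      rw [hW', hZy]
      intro z hz
      change z ∈ closure ({y} : Set PS)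
      rw [hcl]
      intro a ha
      rw [Set.mem_singleton_iff] at ha
      subst ha
      exact (hmemcl w z).mp hz a hfw
    · intro h0
      have hmax := Order.coheight_eq_zero.mp h0
      have : η ∈ (Z : Set PS) := hmax (htop Z) (subset_closure rfl)
      rw [hZ] at this
      exact hηne f hirr.ne_zero this

end Groth.Agent.S10821
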