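import Groth.Statements.S10822
import Groth.Agent.ProjDimLib.Basic

set_option autoImplicit false
universe u
open AlgebraicGeometry Topology TopologicalSpace
open Variety

namespace Groth.Agent.S10822

/-- Let k be a field, X an irreducible closed subset of projective n-space over k of positive dimension,
and f a homogeneous polynomial in n + 1 variables whose zero set V_+(f) is nonempty and does not
contain X. Then X meets V_+(f), and every irreducible component C of X ∩ V_+(f) has dim C + 1 = dim
X, i.e. codimension 1 in X (all maximal chains of irreducible closed subsets of X have length dim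
X). -/
theorem result (k : Type u) [Field k] (n d : ℕ)
    (X : Set (ProjectiveSpectrum (CohB1.polyGrading n k))) (hXc : IsClosed X) (hXi : IsIrreducible X)
    (hXd : 0 < topologicalKrullDim ↥X)
    (f : MvPolynomial (Fin (n + 1)) k) (hf : f.IsHomogeneous d)
    (hV : (ProjectiveSpectrum.zeroLocus (CohB1.polyGrading n k)
      ({f} : Set (MvPolynomial (Fin (n + 1)) k))).Nonempty)
    (hX : ¬ X ⊆ ProjectiveSpectrum.zeroLocus (CohB1.polyGrading n k)
      ({f} : Set (MvPolynomial (Fin (n + 1)) k))) :
    (X ∩ ProjectiveSpectrum.zeroLocus (CohB1.polyGrading n k)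
        ({f} : Set (MvPolynomial (Fin (n + 1)) k))).Nonempty ∧
      ∀ C ∈ irreducibleComponents ↥(X ∩ ProjectiveSpectrum.zeroLocus (CohB1.polyGrading n k)
          ({f} : Set (MvPolynomial (Fin (n + 1)) k))),
        topologicalKrullDim ↥C + 1 = topologicalKrullDim ↥X := by
  have hη := hXi.isGenericPoint_genericPoint (hXc)
  set η := hXi.genericPoint with hηdef
  have hηX : η ∈ X := by rw [← hη.def]; exact subset_closure rfl
  have hXle : ∀ x ∈ X, η ≤ x := fun x hx => ProjDimLib.le_of_specializes (hη.specializes hx)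
  have hXdim : topologicalKrullDim ↥X = ((ProjDimLib.dPt η : ℕ) : WithBot ℕ∞) := by
    rw [← ProjDimLib.dim_closure, hη.def]
  obtain ⟨t, ht⟩ : ∃ t, ProjDimLib.dPt η = t + 1 := by
    refine ⟨ProjDimLib.dPt η - 1, (Nat.succ_pred_eq_of_pos ?_).symm⟩
    rw [hXdim] at hXd
    exact_mod_cast hXd
  set V := ProjectiveSpectrum.zeroLocus (CohB1.polyGrading n k) ({f} : Set (MvPolynomial (Fin (n + 1)) k))
    with hVdef
  have hfη : f ∉ η.asHomogeneousIdeal.toIdeal := fun h => hX fun x hx => by
    rw [hVdef, ProjectiveSpectrum.mem_zeroLocus, Set.singleton_subset_iff]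
    exact hXle x hx h
  have hf' : f ∈ CohB1.polyGrading n k d := (MvPolynomial.mem_homogeneousSubmodule _ _).2 hf
  have hfm : f ∈ MvPolynomial.idealOfVars (Fin (n + 1)) k := by
    obtain ⟨z, hz⟩ := hV
    rw [ProjectiveSpectrum.mem_zeroLocus, Set.singleton_subset_iff] at hz
    exact ProjDimLib.le_idealOfVars (HomogeneousIdeal.isHomogeneous _) z.isPrime.ne_top hz
  have hW : IsClosed (X ∩ V) := hXc.inter (ProjectiveSpectrum.isClosed_zeroLocus _ _)
  refine ⟨?_, fun C hC => ?_⟩
  · obtain ⟨q, hq, hqh, hle, hfq, -, hne⟩ :=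
      ProjDimLib.exists_prime_section (HomogeneousIdeal.isHomogeneous _) hf' hfm hfη ht
    refine ⟨ProjDimLib.mkPt q hqh hne, ProjDimLib.mem_of_le hXc hηX hle, ?_⟩
    rw [hVdef, ProjectiveSpectrum.mem_zeroLocus, Set.singleton_subset_iff]
    exact hfq
  · have : QuasiSober ↥(X ∩ V) := hW.isClosedEmbedding_subtypeVal.quasiSober
    have hCi : IsIrreducible C := hC.1
    have hw := hCi.isGenericPoint_genericPoint (isClosed_of_mem_irreducibleComponents C hC)
    set w := hCi.genericPoint with hwdef
    have hwmem : f ∈ w.1.asHomogeneousIdeal.toIdeal := by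
      exact Set.singleton_subset_iff.1 ((ProjectiveSpectrum.mem_zeroLocus _ _ _).1 w.2.2)
    obtain ⟨q, hq, hqw⟩ := Ideal.exists_minimalPrimes_le
      (I := η.asHomogeneousIdeal.toIdeal ⊔ Ideal.span {f}) (J := w.1.asHomogeneousIdeal.toIdeal)
      (sup_le (hXle _ w.2.1) ((Ideal.span_singleton_le_iff_mem _).2 hwmem))
    have : q.IsPrime := hq.1.1
    obtain ⟨hqh, hqd, hq0⟩ :=
      GradedHilbLib.natDegree_of_mem_minimalPrimes (HomogeneousIdeal.isHomogeneous _) hf' hfη ht hq
    let z : ↥(X ∩ V) := ⟨ProjDimLib.mkPt q hqh hq0,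
      ProjDimLib.mem_of_le hXc hηX (show η ≤ ProjDimLib.mkPt q hqh hq0 from le_sup_left.trans hq.1.2), by
        rw [hVdef, ProjectiveSpectrum.mem_zeroLocus, Set.singleton_subset_iff]
        exact hq.1.2 (Ideal.mem_sup_right (Ideal.mem_span_singleton_self f))⟩
    have hzw : z ⤳ w := (subtype_specializes_iff _ _).2 (ProjDimLib.specializes_of_le hqw)
    have hsub : C ⊆ closure {z} := hw.def ▸ closure_minimal
      (Set.singleton_subset_iff.2 hzw.mem_closure) isClosed_closure
    have heq : closure {z} = C := Set.Subset.antisymm (hC.2 isIrreducible_singleton.closure hsub) hsub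
    have himg : Subtype.val '' C = closure ({z.1} : Set (ProjectiveSpectrum (CohB1.polyGrading n k))) := by
      rw [← heq, ← hW.isClosedEmbedding_subtypeVal.closure_image_eq, Set.image_singleton]
    let e : ↥C ≃ₜ ↥(closure ({z.1} : Set (ProjectiveSpectrum (CohB1.polyGrading n k)))) :=
      (IsEmbedding.subtypeVal.homeomorphImage C).trans (Homeomorph.setCongr himg)
    rw [IsHomeomorph.topologicalKrullDim_eq e e.isHomeomorph, ProjDimLib.dim_closure, hXdim, ht]
    show (((GradedHilbLib.hilb q).natDegree : ℕ) : WithBot ℕ∞) + 1 = _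
    rw [hqd]
    push_cast
    rfl

end Groth.Agent.S10822
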