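import Groth.Statements.S10823
import Groth.Agent.ProjSectLib.Basic


-- import your own Groth.Agent.* helpers here

set_option autoImplicit false
universe u
open AlgebraicGeometry Topology TopologicalSpace
open Variety

namespace Groth.Agent.S10823

/-- Let k be a field, X an irreducible closed subset of projective n-space over k, and f_1, …, f_r
nonzero homogeneous polynomials of positive degrees in n + 1 variables. Then every irreducible
component C of X ∩ V_+(f_1, …, f_r) has codimension at most r in X, i.e. dim X ≤ dim C + r, and if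
dim X ≥ r the intersection is nonempty. -/
theorem result (k : Type u) [Field k] (n r : ℕ)
    (X : Set (ProjectiveSpectrum (CohB1.polyGrading n k))) (hXc : IsClosed X) (hXi : IsIrreducible X)
    (f : Fin r → MvPolynomial (Fin (n + 1)) k) (d : Fin r → ℕ)
    (hf : ∀ i, (f i).IsHomogeneous (d i)) (hd : ∀ i, 0 < d i) (hf0 : ∀ i, f i ≠ 0) :
    (∀ C ∈ irreducibleComponents ↥(X ∩ ProjectiveSpectrum.zeroLocus (CohB1.polyGrading n k) (Set.range f)),
        topologicalKrullDim ↥X ≤ topologicalKrullDim ↥C + (r : WithBot ℕ∞)) ∧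
      ((r : WithBot ℕ∞) ≤ topologicalKrullDim ↥X →
        (X ∩ ProjectiveSpectrum.zeroLocus (CohB1.polyGrading n k) (Set.range f)).Nonempty) := by
  obtain ⟨x, hx⟩ := QuasiSober.sober hXi hXc
  have hdimX : topologicalKrullDim ↥X = ((ProjDimLib.dPt x : ℕ) : WithBot ℕ∞) :=
    hx ▸ ProjDimLib.dim_closure x
  have hmemX : ∀ y, y ∈ X ↔ x ≤ y := fun y => by
    rw [← hx]
    exact (ProjectiveSpectrum.le_iff_mem_closure _ x y).symm
  have hmemV : ∀ y : ProjectiveSpectrum (CohB1.polyGrading n k),
      y ∈ ProjectiveSpectrum.zeroLocus (CohB1.polyGrading n k) (Set.range f) ↔ ∀ i, f i ∈ y.asHomogeneousIdeal :=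
    fun y => ⟨fun h i => h ⟨i, rfl⟩, fun h a ⟨i, hi⟩ => hi ▸ h i⟩
  set Y := X ∩ ProjectiveSpectrum.zeroLocus (CohB1.polyGrading n k) (Set.range f)
  have hY : IsClosed Y := hXc.inter (ProjectiveSpectrum.isClosed_zeroLocus _ _)
  refine ⟨fun C hC => ?_, fun hr => ?_⟩
  · have hirrC : IsIrreducible (Subtype.val '' C) :=
      hC.1.image _ continuous_subtype_val.continuousOn
    have hclC : IsClosed (Subtype.val '' C) :=
      hY.isClosedEmbedding_subtypeVal.isClosedMap _ (isClosed_of_mem_irreducibleComponents C hC)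
    obtain ⟨y, hy⟩ := QuasiSober.sober hirrC hclC
    have hyY : y ∈ Y := by
      obtain ⟨c, -, hc⟩ : y ∈ Subtype.val '' C := hy ▸ subset_closure rfl
      exact hc ▸ c.2
    have hdimC : topologicalKrullDim ↥C = ((ProjDimLib.dPt y : ℕ) : WithBot ℕ∞) := by
      rw [← ProjDimLib.dim_closure y, hy]
      exact IsHomeomorph.topologicalKrullDim_eq _ (Topology.IsEmbedding.subtypeVal.homeomorphImage C).isHomeomorph
    have hle := ProjSectLib.dPt_le_add x r f d hf hd y ((hmemX y).1 hyY.1) ((hmemV y).1 hyY.2)
      fun w hxw hfw hwy => by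
        have hw : w ∈ Y := ⟨(hmemX w).2 hxw, (hmemV w).2 hfw⟩
        have hcl : closure {w} ⊆ Y := closure_minimal (Set.singleton_subset_iff.2 hw) hY
        have hyw : Subtype.val '' C ⊆ closure {w} := by
          rw [← hy]
          exact closure_minimal (Set.singleton_subset_iff.2
            ((ProjectiveSpectrum.le_iff_mem_closure _ w y).1 hwy)) isClosed_closure
        have hsub : C ⊆ Subtype.val ⁻¹' closure {w} := fun c hc => hyw ⟨c, hc, rfl⟩
        have hirr' : IsIrreducible (Subtype.val ⁻¹' closure {w} : Set Y) := by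
          have : (Subtype.val ⁻¹' closure {w} : Set Y) = closure {⟨w, hw⟩} := by
            rw [hY.isClosedEmbedding_subtypeVal.isEmbedding.isInducing.closure_eq_preimage_closure_image]
            simp
          rw [this]
          exact isIrreducible_singleton.closure
        have hwC : (⟨w, hw⟩ : Y) ∈ C := hC.2 hirr' hsub (subset_closure rfl)
        have hwy' : w ∈ closure ({y} : Set _) := hy ▸ ⟨_, hwC, rfl⟩
        exact le_antisymm hwy ((ProjectiveSpectrum.le_iff_mem_closure _ y w).2 hwy')
    rw [hdimX, hdimC]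
    exact_mod_cast hle
  · rw [hdimX] at hr
    obtain ⟨y, hxy, hfy, -⟩ := ProjSectLib.exists_mem x r f d hf hd (by exact_mod_cast hr)
    exact ⟨y, (hmemX y).2 hxy, (hmemV y).2 hfy⟩

end Groth.Agent.S10823
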