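import Groth.Statements.S10824
import Groth.Agent.GradedHilbLib.CI


-- import your own Groth.Agent.* helpers here

set_option autoImplicit false
universe u
open Variety

namespace Groth.Agent.S10824

/-- Let k be a field, S the polynomial ring in three variables over k with degree-d part S_d, and f, g
nonzero homogeneous polynomials of positive degrees n and m with no common non-unit factor. Then for
every d ≥ n + m the degree-d part of S/(f, g), namely S_d modulo its intersection with the ideal (f,
g), has dimension n·m over k. -/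
theorem result (k : Type u) [Field k] (n m d : ℕ)
    (f g : MvPolynomial (Fin 3) k) (hf : f.IsHomogeneous n) (hg : g.IsHomogeneous m)
    (hn : 0 < n) (hm : 0 < m) (hf0 : f ≠ 0) (hg0 : g ≠ 0) (hfg : IsRelPrime f g) (hd : n + m ≤ d) :
    Module.finrank k
        (↥(MvPolynomial.homogeneousSubmodule (Fin 3) k d) ⧸
          Submodule.comap (MvPolynomial.homogeneousSubmodule (Fin 3) k d).subtype
            ((Ideal.span ({f, g} : Set (MvPolynomial (Fin 3) k))).restrictScalars k)) = n * m := by
  have hbot : ∀ j : ℕ, GradedHilbLib.hf (⊥ : Ideal (MvPolynomial (Fin 3) k)) j = ((j + 2).choose 2 : ℕ) := by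
    intro j
    rw [GradedHilbLib.hf, Submodule.restrictScalars_bot, bot_inf_eq, finrank_bot, Nat.cast_zero, sub_zero,
      show CohB1.polyGrading 2 k j = MvPolynomial.homogeneousSubmodule (Fin (2 + 1)) k j from rfl,
      ← GrSyzLib.stdGr_nat k 2 j, GrSyzLib.finrank_stdGr, GrSyzLib.hS, if_pos (by omega), Int.toNat_natCast, add_comm 2 j]
  have hcol0 : Submodule.colon (⊥ : Ideal (MvPolynomial (Fin 3) k)) {f} = ⊥ := by
    refine le_antisymm (fun a ha => ?_) bot_le
    have := Submodule.mem_colon_singleton.1 ha
    rw [Submodule.mem_bot, smul_eq_mul, mul_eq_zero] at this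
    exact (Submodule.mem_bot _).2 (this.resolve_right hf0)
  have hF : ∀ j, n ≤ j → GradedHilbLib.hf (Ideal.span {f}) j =
      ((j + 2).choose 2 : ℕ) - (((j - n) + 2).choose 2 : ℕ) := by
    intro j hj
    have := GradedHilbLib.hf_sup_span (n := 2) (I := ⊥) (Ideal.IsHomogeneous.bot _) (g := f) (e := n) hf hf0 hj
    rwa [bot_sup_eq, hcol0, hbot, hbot] at this
  have hcol : Submodule.colon (Ideal.span {f}) {g} = Ideal.span {f} := by
    refine le_antisymm (fun a ha => ?_) fun a ha => Submodule.mem_colon_singleton.2 (Ideal.mul_mem_right _ _ ha)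
    have := Submodule.mem_colon_singleton.1 ha
    rw [smul_eq_mul, Ideal.mem_span_singleton] at this
    exact Ideal.mem_span_singleton.2 (hfg.dvd_of_dvd_mul_right this)
  have hspan : Ideal.span {f} ⊔ Ideal.span {g} = Ideal.span ({f, g} : Set (MvPolynomial (Fin 3) k)) := by
    rw [← Ideal.span_union, Set.singleton_union]
  have key := GradedHilbLib.hf_sup_span (n := 2) (I := Ideal.span {f})
    (Ideal.homogeneous_span _ _ (by rintro a rfl; exact ⟨n, hf⟩)) (g := g) (e := m) hg hg0
    (show m ≤ d by omega)
  rw [hspan, hcol, hF d (by omega), hF (d - m) (by omega)] at key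
  rw [GradedHilbLib.hf] at key
  set I := (Ideal.span ({f, g} : Set (MvPolynomial (Fin 3) k))).restrictScalars k
  set A := MvPolynomial.homogeneousSubmodule (Fin 3) k d with hA
  haveI : Module.Finite k A := GradedHilbLib.piece_finite k 2 d
  have h1 := Submodule.finrank_quotient_add_finrank (Submodule.comap A.subtype I)
  have h2 : Module.finrank k ↥(Submodule.comap A.subtype I) = Module.finrank k ↥(I ⊓ A) := by
    rw [(Submodule.equivMapOfInjective A.subtype A.injective_subtype _).finrank_eq, Submodule.map_comap_subtype,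
      inf_comm]
  rw [h2] at h1
  have h1' : (Module.finrank k (↥A ⧸ Submodule.comap A.subtype I) : ℚ) + Module.finrank k ↥(I ⊓ A) =
      Module.finrank k A := by exact_mod_cast h1
  have hq : ∀ j : ℕ, (((j + 2).choose 2 : ℕ) : ℚ) = ((j : ℚ) + 2) * ((j : ℚ) + 1) / 2 := by
    intro j
    rw [Nat.cast_choose_two]
    push_cast
    ring
  simp only [hq] at key
  rw [Nat.cast_sub (show n ≤ d by omega), Nat.cast_sub (show n ≤ d - m by omega),
    Nat.cast_sub (show m ≤ d by omega)] at key
  have : (Module.finrank k (↥A ⧸ Submodule.comap A.subtype I) : ℚ) = ((n * m : ℕ) : ℚ) := by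
    push_cast
    change (Module.finrank k A : ℚ) - (Module.finrank k ↥(I ⊓ A) : ℚ) = _ at key
    linear_combination h1' + key
  exact_mod_cast this

end Groth.Agent.S10824
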