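import Groth.Statements.S10825
import Groth.Agent.CommAlgDim.Integral
import Mathlib.RingTheory.Norm.Transitivity
import Mathlib.RingTheory.Norm.Basic
import Mathlib.FieldTheory.Minpoly.IsIntegrallyClosed
import Mathlib.RingTheory.Ideal.GoingUp
import Mathlib.RingTheory.Spectrum.Prime.Topology
import Mathlib.Topology.KrullDimension
import Mathlib.RingTheory.KrullDimension.Basic
import Mathlib.RingTheory.IntegralClosure.IsIntegralClosure.Basic

set_option autoImplicit false
universe u
open Topology
open CAlg

namespace Groth.Agent.S10825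
theorem krullDim_zeroLocus {R : Type u} [CommRing R] (I : Ideal R) :
    topologicalKrullDim ↥(PrimeSpectrum.zeroLocus (I : Set R)) = ringKrullDim (R ⧸ I) := by
  let g := Ideal.Quotient.mk I
  have he : Topology.IsClosedEmbedding (PrimeSpectrum.comap g) :=
    PrimeSpectrum.isClosedEmbedding_comap_of_surjective _ g Ideal.Quotient.mk_surjective
  have hr : Set.range (PrimeSpectrum.comap g) = PrimeSpectrum.zeroLocus (I : Set R) := by
    rw [range_comap_of_surjective _ g Ideal.Quotient.mk_surjective, Ideal.mk_ker]
  let e : PrimeSpectrum (R ⧸ I) ≃ₜ ↥(PrimeSpectrum.zeroLocus (I : Set R)) :=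
    he.isEmbedding.toHomeomorph.trans (Homeomorph.setCongr hr)
  rw [← IsHomeomorph.topologicalKrullDim_eq e e.isHomeomorph, PrimeSpectrum.topologicalKrullDim_eq_ringKrullDim]

/-- Let A → B be an injective integral homomorphism of integral domains with fraction fields K and L, L
a finite extension of K, and A integrally closed. For b in B the norm N_{L/K}(b) lies in A; if a
denotes this element of A, then the image of the closed set V(b) of Spec B under Spec B → Spec A is
exactly V(a), and V(b) and V(a) have the same dimension. -/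
theorem result
    (A B K L : Type u) [CommRing A] [IsDomain A] [CommRing B] [IsDomain B] [Algebra A B]
    [Field K] [Field L] [Algebra A K] [IsFractionRing A K] [Algebra B L] [IsFractionRing B L]
    [Algebra A L] [Algebra K L] [IsScalarTower A B L] [IsScalarTower A K L]
    [FiniteDimensional K L] [Algebra.IsIntegral A B] [IsIntegrallyClosed A]
    (hinj : Function.Injective (algebraMap A B))
    (b : B) (a : A) (ha : algebraMap A K a = Algebra.norm K (algebraMap B L b)) :
    PrimeSpectrum.comap (algebraMap A B) '' PrimeSpectrum.zeroLocus ({b} : Set B) =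
        PrimeSpectrum.zeroLocus ({a} : Set A) ∧
      topologicalKrullDim ↥(PrimeSpectrum.zeroLocus ({b} : Set B)) =
        topologicalKrullDim ↥(PrimeSpectrum.zeroLocus ({a} : Set A)) := by
  classical
  set I : Ideal B := Ideal.span {b}
  set J : Ideal A := I.comap (algebraMap A B)
  have hKinj : Function.Injective (algebraMap A K) := IsFractionRing.injective A K
  have hLinj : Function.Injective (algebraMap B L) := IsFractionRing.injective B L
  haveI := Module.Free.chooseBasis K L
  -- `a` lies in `(b)`
  have haJ : a ∈ J := by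
    set x := algebraMap B L b
    have hxA : IsIntegral A x := (Algebra.IsIntegral.isIntegral (R := A) b).algebraMap
    have hxK : IsIntegral K x := hxA.tower_top
    set μ := minpoly A x
    have hμ : minpoly K x = μ.map (algebraMap A K) := minpoly.isIntegrallyClosed_eq_field_fractions' K hxA
    let pb := IntermediateField.adjoin.powerBasis hxK
    have hgen : Algebra.norm K (IntermediateField.AdjoinSimple.gen K x) =
        algebraMap A K ((-1) ^ pb.dim * μ.coeff 0) := by
      rw [show IntermediateField.AdjoinSimple.gen K x = pb.gen from rfl,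
        Algebra.PowerBasis.norm_gen_eq_coeff_zero_minpoly, show pb.gen = IntermediateField.AdjoinSimple.gen K x from rfl,
        IntermediateField.minpoly_gen, hμ, Polynomial.coeff_map, map_mul, map_pow, map_neg, map_one]
    have he : a = ((-1) ^ pb.dim * μ.coeff 0) ^ Module.finrank (IntermediateField.adjoin K {x}) L := by
      apply hKinj
      rw [ha, Algebra.norm_eq_norm_adjoin K x, hgen, map_pow]
    have hc : μ.coeff 0 ∈ J := by
      have h0 : Polynomial.aeval b μ = 0 := by
        apply hLinj
        rw [← Polynomial.aeval_algebraMap_apply, map_zero]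
        exact minpoly.aeval A x
      have h1 := congrArg (Polynomial.aeval b) (Polynomial.X_mul_divX_add μ)
      rw [h0, map_add, map_mul, Polynomial.aeval_X, Polynomial.aeval_C] at h1
      show algebraMap A B (μ.coeff 0) ∈ I
      rw [eq_neg_of_add_eq_zero_right h1]
      exact neg_mem (Ideal.mul_mem_right _ _ (Ideal.mem_span_singleton_self b))
    rw [he]
    exact Ideal.pow_mem_of_mem _ (Ideal.mul_mem_left _ _ hc) _ Module.finrank_pos
  -- elements of `(b)` are roots of multiples of `a`
  have hJ : ∀ s ∈ J, s ^ Module.finrank K L ∈ Ideal.span ({a} : Set A) := by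
    intro s hs
    obtain ⟨y, hy⟩ := Ideal.mem_span_singleton'.1 (Ideal.mem_comap.1 hs)
    have hint : IsIntegral A (Algebra.norm K (algebraMap B L y)) :=
      Algebra.isIntegral_norm K (Algebra.IsIntegral.isIntegral (R := A) y).algebraMap
    obtain ⟨t, ht⟩ := IsIntegrallyClosed.algebraMap_eq_of_integral hint
    refine Ideal.mem_span_singleton'.2 ⟨t, hKinj ?_⟩
    rw [map_mul, ht, ha, ← map_mul, ← map_mul, hy, map_pow, ← IsScalarTower.algebraMap_apply A B L,
      IsScalarTower.algebraMap_apply A K L, Algebra.norm_algebraMap]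
  have hd : 0 < Module.finrank K L := Module.finrank_pos
  have hVJ : PrimeSpectrum.zeroLocus ({a} : Set A) = PrimeSpectrum.zeroLocus (J : Set A) := by
    ext p
    rw [PrimeSpectrum.mem_zeroLocus, PrimeSpectrum.mem_zeroLocus]
    refine ⟨fun h s hs => p.2.mem_of_pow_mem _ (Ideal.span_le.2 h (hJ s hs)), fun h => ?_⟩
    rintro _ rfl
    exact h haJ
  have hVI : PrimeSpectrum.zeroLocus ({b} : Set B) = PrimeSpectrum.zeroLocus (I : Set B) :=
    (PrimeSpectrum.zeroLocus_span _).symm
  have himage : PrimeSpectrum.comap (algebraMap A B) '' PrimeSpectrum.zeroLocus (I : Set B) =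
      PrimeSpectrum.zeroLocus (J : Set A) := by
    ext p
    constructor
    · rintro ⟨q, hq, rfl⟩
      exact fun s hs => hq hs
    · intro hp
      obtain ⟨Q, hQ, hQprime, hQp⟩ := Ideal.exists_ideal_over_prime_of_isIntegral p.asIdeal I hp
      exact ⟨⟨Q, hQprime⟩, hQ, PrimeSpectrum.ext hQp⟩
  rw [hVJ, hVI]
  refine ⟨himage, ?_⟩
  rw [krullDim_zeroLocus, krullDim_zeroLocus]
  letI : Algebra (A ⧸ J) (B ⧸ I) := (Ideal.quotientMap I (algebraMap A B) le_rfl).toAlgebra
  haveI : Algebra.IsIntegral (A ⧸ J) (B ⧸ I) := by
    refine ⟨fun z => ?_⟩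
    obtain ⟨z, rfl⟩ := Ideal.Quotient.mk_surjective z
    obtain ⟨P, hP, he⟩ := Algebra.IsIntegral.isIntegral (R := A) z
    refine ⟨P.map (Ideal.Quotient.mk J), hP.map _, ?_⟩
    rw [Polynomial.eval₂_map]
    have : (algebraMap (A ⧸ J) (B ⧸ I)).comp (Ideal.Quotient.mk J) = (Ideal.Quotient.mk I).comp (algebraMap A B) :=
      RingHom.ext fun r => rfl
    rw [this, ← Polynomial.hom_eval₂, he, map_zero]
  exact CommAlgDim.ringKrullDim_eq_of_integral (A ⧸ J) (B ⧸ I) Ideal.quotientMap_injective

end Groth.Agent.S10825
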