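import Groth.Statements.S10826
import Groth.Agent.CohenLib.PSHom
import Mathlib.RingTheory.AdicCompletion.Functoriality
import Mathlib.RingTheory.MvPowerSeries.Substitution
import Mathlib.LinearAlgebra.Matrix.NonsingularInverse
import Mathlib.RingTheory.Nakayama

set_option autoImplicit false
open CAlg

namespace Groth.Agent.S10826
open MvPowerSeries

variable {R : Type*} [CommRing R] {n : ℕ}

theorem mem_vars_iff (f : MvPowerSeries (Fin n) R) : f ∈ CohenLib.varsIdeal R n ↔ constantCoeff f = 0 := by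
  rw [← CohenLib.ker_constantCoeff, RingHom.mem_ker]

theorem sub_C_mem (f : MvPowerSeries (Fin n) R) : f - C (constantCoeff f) ∈ CohenLib.varsIdeal R n := by
  rw [mem_vars_iff, map_sub, constantCoeff_C, sub_self]

theorem exists_sum_X {f : MvPowerSeries (Fin n) R} (hf : f ∈ CohenLib.varsIdeal R n) :
    ∃ g : Fin n → MvPowerSeries (Fin n) R, f = ∑ j, g j * X j := by
  obtain ⟨g, hg⟩ := Ideal.mem_span_range_iff_exists_fun.1 hf
  exact ⟨g, hg.symm⟩

theorem coeff_single_mul_X (g : MvPowerSeries (Fin n) R) (i j : Fin n) :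
    coeff (Finsupp.single j 1) (g * X i) = if i = j then constantCoeff g else 0 := by
  classical
  rw [X_def, coeff_mul_monomial, mul_one]
  by_cases h : i = j
  · subst h
    rw [if_pos le_rfl, if_pos rfl, tsub_self, coeff_zero_eq_constantCoeff_apply]
  · rw [if_neg h, if_neg]
    intro hle
    have h1 := hle i
    rw [Finsupp.single_eq_same, Finsupp.single_eq_of_ne h] at h1
    omega

theorem coeff_single_eq_zero_of_mem_sq {f : MvPowerSeries (Fin n) R}
    (hf : f ∈ CohenLib.varsIdeal R n * CohenLib.varsIdeal R n) (j : Fin n) : coeff (Finsupp.single j 1) f = 0 := by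
  induction hf using Submodule.mul_induction_on' with
  | mem_mul_mem a ha b hb =>
    obtain ⟨g, rfl⟩ := exists_sum_X hb
    rw [Finset.mul_sum, map_sum]
    refine Finset.sum_eq_zero fun i _ => ?_
    rw [← mul_assoc, coeff_single_mul_X, map_mul, (mem_vars_iff a).1 ha, zero_mul, ite_self]
  | add a _ b _ ha hb => rw [map_add, ha, hb, add_zero]

theorem linear_part {f : MvPowerSeries (Fin n) R} (hf : constantCoeff f = 0) :
    f - ∑ j, C (coeff (Finsupp.single j 1) f) * X j ∈ CohenLib.varsIdeal R n * CohenLib.varsIdeal R n := by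
  obtain ⟨g, rfl⟩ := exists_sum_X ((mem_vars_iff f).2 hf)
  have hc : ∀ j, coeff (Finsupp.single j 1) (∑ i, g i * X i) = constantCoeff (g j) := fun j => by
    rw [map_sum]
    simp only [coeff_single_mul_X, Finset.sum_ite_eq', Finset.mem_univ, if_true]
  simp only [hc, ← Finset.sum_sub_distrib, ← sub_mul]
  exact sum_mem fun j _ => Ideal.mul_mem_mul (sub_C_mem _) (Ideal.subset_span ⟨j, rfl⟩)

theorem map_C (φ : MvPowerSeries (Fin n) R →ₐ[R] MvPowerSeries (Fin n) R) (r : R) : φ (C r) = C r := by
  have h := φ.commutes r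
  rwa [algebraMap_apply, Algebra.algebraMap_self, RingHom.id_apply] at h

theorem map_le (φ : MvPowerSeries (Fin n) R →ₐ[R] MvPowerSeries (Fin n) R)
    (h0 : ∀ i, constantCoeff (φ (X i)) = 0) :
    (CohenLib.varsIdeal R n).map φ.toRingHom ≤ CohenLib.varsIdeal R n := by
  rw [CohenLib.varsIdeal, Ideal.map_span, Ideal.span_le]
  rintro _ ⟨_, ⟨i, rfl⟩, rfl⟩
  exact (mem_vars_iff _).2 (h0 i)

theorem constantCoeff_map (φ : MvPowerSeries (Fin n) R →ₐ[R] MvPowerSeries (Fin n) R)
    (h0 : ∀ i, constantCoeff (φ (X i)) = 0) (f : MvPowerSeries (Fin n) R) :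
    constantCoeff (φ f) = constantCoeff f := by
  have h := (mem_vars_iff _).1 (map_le φ h0 (Ideal.mem_map_of_mem φ.toRingHom (sub_C_mem f)))
  change constantCoeff (φ (f - C (constantCoeff f))) = 0 at h
  rwa [map_sub, map_sub, map_C, constantCoeff_C, sub_eq_zero] at h

theorem algHom_ext (φ ψ : MvPowerSeries (Fin n) R →ₐ[R] MvPowerSeries (Fin n) R)
    (hφ : ∀ i, constantCoeff (φ (X i)) = 0) (hψ : ∀ i, constantCoeff (ψ (X i)) = 0)
    (h : ∀ i, φ (X i) = ψ (X i)) : φ = ψ := by
  set m := CohenLib.varsIdeal R n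
  have hH := (CohenLib.isAdicComplete_varsIdeal (n := n) R).toIsHausdorff
  refine AlgHom.ext fun f => sub_eq_zero.1 (hH.haus _ fun k => ?_)
  rw [SModEq.zero, smul_eq_mul, Ideal.mul_top]
  induction k generalizing f with
  | zero => simp
  | succ k ih =>
    obtain ⟨g, hg⟩ := exists_sum_X (sub_C_mem f)
    have e : φ f - ψ f = φ (f - C (constantCoeff f)) - ψ (f - C (constantCoeff f)) := by
      rw [map_sub, map_sub, map_C, map_C, sub_sub_sub_cancel_right]
    rw [e, hg, map_sum, map_sum, ← Finset.sum_sub_distrib]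
    refine sum_mem fun j _ => ?_
    rw [map_mul, map_mul, ← h j, ← sub_mul, pow_succ]
    exact Ideal.mul_mem_mul (ih (g j)) ((mem_vars_iff _).2 (hφ j))

theorem surjective_of_jacobian (φ : MvPowerSeries (Fin n) R →ₐ[R] MvPowerSeries (Fin n) R)
    (h0 : ∀ i, constantCoeff (φ (X i)) = 0)
    (hJ : IsUnit (Matrix.det (Matrix.of fun i j : Fin n => coeff (Finsupp.single j 1) (φ (X i))))) :
    Function.Surjective φ := by
  set m := CohenLib.varsIdeal R n
  set J : Matrix (Fin n) (Fin n) R := Matrix.of fun i j : Fin n => coeff (Finsupp.single j 1) (φ (X i))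
  haveI := CohenLib.isAdicComplete_varsIdeal (n := n) R
  have hle : m ≤ m.map φ.toRingHom ⊔ m * m := by
    conv_lhs => rw [show m = Ideal.span (Set.range MvPowerSeries.X) from rfl]
    rw [Ideal.span_le]
    rintro _ ⟨k, rfl⟩
    have hk : ∑ i, C (J⁻¹ k i) * φ (X i) - X k ∈ m * m := by
      have e : X k = ∑ i, C (J⁻¹ k i) * ∑ j, C (J i j) * X j := by
        simp only [Finset.mul_sum, ← mul_assoc, ← map_mul]
        rw [Finset.sum_comm]
        simp only [← Finset.sum_mul, ← map_sum, ← Matrix.mul_apply, Matrix.nonsing_inv_mul _ hJ, Matrix.one_apply]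
        simp [ite_mul, Finset.sum_ite_eq]
      rw [e, ← Finset.sum_sub_distrib]
      refine sum_mem fun i _ => ?_
      rw [← mul_sub]
      exact Ideal.mul_mem_left _ _ (linear_part (h0 i))
    have h2 : X k = (∑ i, C (J⁻¹ k i) * φ (X i)) + -(∑ i, C (J⁻¹ k i) * φ (X i) - X k) := by ring
    rw [SetLike.mem_coe, h2]
    exact Submodule.add_mem_sup (sum_mem fun i _ => Ideal.mul_mem_left _ _
      (Ideal.mem_map_of_mem φ.toRingHom (Ideal.subset_span ⟨i, rfl⟩))) (neg_mem hk)
  have hfg : m.FG := Submodule.fg_span (Set.finite_range _)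
  have hmap : m.map φ.toRingHom = m :=
    le_antisymm (map_le φ h0) (Submodule.le_of_le_smul_of_le_jacobson_bot hfg (IsAdicComplete.le_jacobson_bot m) hle)
  haveI : IsHausdorff (m.map φ.toRingHom) (MvPowerSeries (Fin n) R) := by rw [hmap]; infer_instance
  refine surjective_of_mk_map_comp_surjective (I := m) φ.toRingHom ?_
  intro z
  obtain ⟨f, rfl⟩ := Ideal.Quotient.mk_surjective z
  refine ⟨C (constantCoeff f), Ideal.Quotient.eq.2 ?_⟩
  change φ (C (constantCoeff f)) - f ∈ m.map φ.toRingHom
  rw [hmap, map_C, ← neg_sub]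
  exact neg_mem (sub_C_mem f)

/-- Let R be a commutative ring, n ≥ 1, and φ an R-algebra homomorphism from the power series ring in n
variables over R to itself that sends each variable to a power series without constant term. If the
Jacobian matrix at the origin, whose (i, j) entry is the coefficient of X_j in φ(X_i), has
invertible determinant in R, then φ is an isomorphism (bijective). -/
theorem result
    (R : Type*) [CommRing R] (n : ℕ) (hn : 1 ≤ n)
    (φ : MvPowerSeries (Fin n) R →ₐ[R] MvPowerSeries (Fin n) R)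
    (h0 : ∀ i, MvPowerSeries.constantCoeff (φ (MvPowerSeries.X i)) = 0)
    (hJ : IsUnit (Matrix.det (Matrix.of fun i j : Fin n =>
      MvPowerSeries.coeff (Finsupp.single j 1) (φ (MvPowerSeries.X i))))) :
    Function.Bijective φ := by
  classical
  open MvPowerSeries in
  have hsurj := surjective_of_jacobian φ h0 hJ
  choose y hy using fun i : Fin n => hsurj (MvPowerSeries.X i)
  have hy0 : ∀ i, MvPowerSeries.constantCoeff (y i) = 0 := fun i => by
    rw [← constantCoeff_map φ h0 (y i), hy, MvPowerSeries.constantCoeff_X]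
  let ψ : MvPowerSeries (Fin n) R →ₐ[R] MvPowerSeries (Fin n) R :=
    MvPowerSeries.substAlgHom (MvPowerSeries.hasSubst_of_constantCoeff_zero hy0)
  have hψX : ∀ i, ψ (MvPowerSeries.X i) = y i := fun i => MvPowerSeries.substAlgHom_X _ i
  have hψ0 : ∀ i, MvPowerSeries.constantCoeff (ψ (MvPowerSeries.X i)) = 0 := fun i => by rw [hψX]; exact hy0 i
  have hid : φ.comp ψ = AlgHom.id R _ := by
    refine algHom_ext _ _ (fun i => ?_) (fun i => MvPowerSeries.constantCoeff_X i) (fun i => ?_)
    · rw [AlgHom.comp_apply, hψX, hy, MvPowerSeries.constantCoeff_X]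
    · rw [AlgHom.comp_apply, hψX, hy, AlgHom.id_apply]
  set J : Matrix (Fin n) (Fin n) R := Matrix.of fun i j : Fin n => MvPowerSeries.coeff (Finsupp.single j 1) (φ (MvPowerSeries.X i))
  set D : Matrix (Fin n) (Fin n) R := Matrix.of fun i j : Fin n => MvPowerSeries.coeff (Finsupp.single j 1) (ψ (MvPowerSeries.X i))
  have hDJ : D * J = 1 := by
    ext i k
    have h1 := map_le φ h0
    have h2 : φ (y i - ∑ j, MvPowerSeries.C (D i j) * MvPowerSeries.X j) ∈
        CohenLib.varsIdeal R n * CohenLib.varsIdeal R n := by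
      have h3 : y i - ∑ j, MvPowerSeries.C (D i j) * MvPowerSeries.X j ∈ CohenLib.varsIdeal R n * CohenLib.varsIdeal R n := by
        rw [← hψX i]; exact linear_part (hψ0 i)
      have h4 := Ideal.mem_map_of_mem φ.toRingHom h3
      rw [Ideal.map_mul] at h4
      exact Ideal.mul_mono h1 h1 h4
    have h5 := coeff_single_eq_zero_of_mem_sq h2 k
    rw [map_sub, map_sub, hy, map_sum, map_sum, sub_eq_zero] at h5
    rw [Matrix.mul_apply, Matrix.one_apply]
    have h6 : MvPowerSeries.coeff (Finsupp.single k 1) (MvPowerSeries.X i : MvPowerSeries (Fin n) R) = if i = k then 1 else 0 := by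
      rw [← one_mul (MvPowerSeries.X i : MvPowerSeries (Fin n) R), coeff_single_mul_X, map_one]
    rw [← h6, h5]
    refine Finset.sum_congr rfl fun j _ => ?_
    rw [map_mul, map_C, MvPowerSeries.coeff_C_mul]
    rfl
  have hD : IsUnit D.det := by
    have h := congrArg Matrix.det hDJ
    rw [Matrix.det_mul, Matrix.det_one] at h
    exact IsUnit.of_mul_eq_one _ h
  refine ⟨fun a b hab => ?_, hsurj⟩
  obtain ⟨a, rfl⟩ := surjective_of_jacobian ψ hψ0 hD a
  obtain ⟨b, rfl⟩ := surjective_of_jacobian ψ hψ0 hD b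
  rw [← AlgHom.comp_apply, ← AlgHom.comp_apply φ ψ, hid] at hab
  exact congrArg ψ hab

end Groth.Agent.S10826
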