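import Groth.Statements.S10832
import Mathlib

set_option autoImplicit false
set_option backward.isDefEq.respectTransparency false
universe u
open CategoryTheory AlgebraicGeometry Topology
open Variety

namespace Groth.Agent.S10832

/-- For a nonempty scheme X of finite type over a field k the following are equivalent: X has Krull
dimension 0; X is affine with ring of global sections finite over k and equal to the product of all
its local rings via the germ maps; the underlying space of X is discrete; the underlying space of X
is finite. -/
theorem result (k : Type u) [Field k] {X : Scheme.{u}} [Nonempty X]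
    (f : X ⟶ Spec (CommRingCat.of k)) [LocallyOfFiniteType f] [QuasiCompact f] :
    [topologicalKrullDim ↥X = 0,
      IsAffine X ∧ f.appTop.hom.Finite ∧
        Function.Bijective (fun s : Γ(X, ⊤) => fun x : X => X.presheaf.germ ⊤ x trivial s),
      DiscreteTopology ↥X,
      Finite ↥X].TFAE := by
  haveI : IsLocallyArtinian (Spec (CommRingCat.of k)) := Scheme.isLocallyArtinianScheme_Spec.mpr inferInstance
  haveI : IsLocallyNoetherian X := LocallyOfFiniteType.isLocallyNoetherian f
  haveI : CompactSpace X := QuasiCompact.compactSpace_of_compactSpace f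
  haveI : JacobsonSpace X := LocallyOfFiniteType.jacobsonSpace f
  have h34 : DiscreteTopology X → Finite X := fun _ => finite_of_compact_of_discrete
  have h43 : Finite X → DiscreteTopology X := fun _ => inferInstance
  have h31 : DiscreteTopology X → topologicalKrullDim X = 0 := fun _ => by
    refine le_antisymm (topologicalKrullDim_zero_of_discreteTopology X) ?_
    haveI : Nonempty (TopologicalSpace.IrreducibleCloseds X) :=
      ⟨⟨closure {Classical.arbitrary X}, isIrreducible_singleton.closure, isClosed_closure⟩⟩
    exact Order.krullDim_nonneg
  have h13 : topologicalKrullDim X = 0 → DiscreteTopology X := fun h => by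
    haveI : IsLocallyArtinian X := .of_topologicalKrullDim_le_zero h.le
    exact IsLocallyArtinian.discreteTopology
  have h32 : DiscreteTopology X → IsAffine X ∧ f.appTop.hom.Finite ∧
      Function.Bijective (fun s : Γ(X, ⊤) => fun x : X => X.presheaf.germ ⊤ x trivial s) := by
    intro hd
    haveI : IsLocallyArtinian X := .of_isLocallyNoetherian_of_discreteTopology
    haveI : Finite X := h34 hd
    haveI : LocallyQuasiFinite f :=
      LocallyQuasiFinite.of_finite_preimage_singleton f fun y => Set.toFinite _
    haveI : IsFinite f := IsFinite.of_locallyQuasiFinite f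
    haveI : IsAffine X := inferInstance
    refine ⟨inferInstance, ((HasAffineProperty.iff_of_isAffine (P := @IsFinite) (f := f)).mp inferInstance).2,
      fun s t h => ?_, fun g => ?_⟩
    · exact TopCat.Presheaf.section_ext X.sheaf ⊤ s t fun x _ => congrFun h x
    · have hg : ∀ x : X, ∃ s : Γ(X, ⟨({x} : Set X), isOpen_discrete _⟩),
          X.presheaf.germ ⟨({x} : Set X), isOpen_discrete _⟩ x rfl s = g x := by
        intro x
        obtain ⟨U, hxU, s, hs⟩ := X.presheaf.exists_germ_eq (g x)
        exact ⟨X.presheaf.map (homOfLE (show (⟨({x} : Set X), isOpen_discrete _⟩ : X.Opens) ≤ U from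
            fun y hy => by rw [Set.mem_singleton_iff.1 hy]; exact hxU)).op s,
          (X.presheaf.germ_res_apply _ x rfl s).trans hs⟩
      choose s hs using hg
      let U : X → X.Opens := fun x => ⟨({x} : Set X), isOpen_discrete _⟩
      obtain ⟨t, ht, -⟩ := X.sheaf.existsUnique_gluing' U ⊤ (fun x => homOfLE le_top)
        (fun y _ => by exact TopologicalSpace.Opens.mem_iSup.2 ⟨y, rfl⟩) s (fun x y => by
          refine TopCat.Presheaf.section_ext X.sheaf _ _ _ fun z hz => ?_
          obtain rfl : z = x := hz.1
          obtain rfl : z = y := hz.2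
          rfl)
      refine ⟨t, funext fun x => ?_⟩
      rw [← hs x, ← ht x]
      exact (X.presheaf.germ_res_apply (homOfLE le_top) x rfl t).symm
  have h23 : IsAffine X ∧ f.appTop.hom.Finite ∧
      Function.Bijective (fun s : Γ(X, ⊤) => fun x : X => X.presheaf.germ ⊤ x trivial s) → DiscreteTopology X := by
    rintro ⟨ha, hf, -⟩
    haveI : IsFinite f := (HasAffineProperty.iff_of_isAffine (P := @IsFinite) (f := f)).mpr ⟨ha, hf⟩
    have he : ⇑f ⁻¹' {IsLocalRing.closedPoint k} = Set.univ :=
      Set.eq_univ_of_forall fun y => Subsingleton.elim (α := PrimeSpectrum k) _ _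
    have h := f.isDiscrete_preimage_singleton (IsLocalRing.closedPoint k)
    rwa [he, isDiscrete_univ_iff] at h
  tfae_have 1 → 3 := h13
  tfae_have 3 → 2 := h32
  tfae_have 2 → 3 := h23
  tfae_have 3 → 4 := h34
  tfae_have 4 → 3 := h43
  tfae_have 3 → 1 := h31
  tfae_finish

end Groth.Agent.S10832
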