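import Groth.Statements.S10833
import Groth.Agent.FibDimLib.Formula
-- import your own Groth.Agent.* helpers here

set_option autoImplicit false
universe u
open Variety

namespace Groth.Agent.S10833

/-- Let k be a field and A a k-algebra of finite type that is an integral domain. Then every chain of
prime ideals of A admitting no refinement — it starts at the zero ideal, ends at a maximal ideal,
and no prime ideal lies strictly between two consecutive members — has length equal to the Krull
dimension of A. -/
theorem result (k A : Type u) [Field k] [CommRing A]
    [IsDomain A] [Algebra k A] [Algebra.FiniteType k A] (c : LTSeries (PrimeSpectrum A))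
    (h0 : c.head.asIdeal = ⊥) (hmax : c.last.asIdeal.IsMaximal)
    (hsat : ∀ i : Fin c.length, c i.castSucc ⋖ c i.succ) :
    (c.length : WithBot ℕ∞) = ringKrullDim A := by
  haveI : IsNoetherianRing A := Algebra.FiniteType.isNoetherianRing k A
  have hcat := FibDimLib.isCatenary_of_finiteType_field (k := k) A
  have hidx : ∀ i : Fin (c.length + 1), (c i).asIdeal.height = ((i : ℕ) : ℕ∞) := by
    intro i
    induction i using Fin.induction with
    | zero =>
      rw [show c 0 = c.head from rfl, h0, Ideal.height_bot]
      rfl
    | succ i ih =>
      rw [CatLib.isCatenary_height_covBy hcat (hsat i), ih]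
      simp
  have hlast := hidx (Fin.last c.length)
  haveI := hmax
  have h := MaxHeight.affine_domain k A c.last.asIdeal
  rw [← h]
  exact_mod_cast congrArg (fun x : ℕ∞ => (x : WithBot ℕ∞)) hlast.symm

end Groth.Agent.S10833
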