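import Groth.Statements.S10834
import Mathlib
import Groth.Agent.SMTLib.CMQuot
import Groth.Agent.NormalLib.Regular
import Groth.Agent.NormalLib.Serre

set_option autoImplicit false
universe u
open CAlg

namespace Groth.Agent.S10834

/-- Let A be a Noetherian ring whose localizations at all prime ideals are regular local rings, and f an
element of A generating a prime ideal, so that A/(f) is an integral domain (an integral hypersurface
in the regular affine scheme Spec A). Then A/(f) is normal (integrally closed in its fraction field)
if and only if it is regular in codimension 1, i.e. its localization at every prime at which the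
local ring has dimension 1 is a regular local ring. -/
theorem result (A : Type u) [CommRing A]
    [IsNoetherianRing A] (hreg : ∀ (p : Ideal A) (_ : p.IsPrime), IsRegularLocalRing (Localization.AtPrime p))
    (f : A) (hf : (Ideal.span ({f} : Set A)).IsPrime) :
    IsIntegrallyClosed (A ⧸ Ideal.span ({f} : Set A)) ↔
      ∀ q : PrimeSpectrum (A ⧸ Ideal.span ({f} : Set A)),
        ringKrullDim (Localization.AtPrime q.asIdeal) = 1 →
          IsRegularLocalRing (Localization.AtPrime q.asIdeal) := by
  haveI := hf
  set R := A ⧸ Ideal.span ({f} : Set A) with hR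
  let π := Ideal.Quotient.mk (Ideal.span ({f} : Set A))
  have hS2 : LocCoh.HasSk 2 R R := by
    intro p _
    let q := p.comap π
    let B := Localization.AtPrime q
    haveI : IsRegularLocalRing B := hreg q inferInstance
    haveI : IsDomain B := CommAlgDim.isDomain_of_isRegularLocalRing B
    let yB := algebraMap A B f
    have hym : yB ∈ IsLocalRing.maximalIdeal B := (IsLocalization.AtPrime.to_map_mem_maximal_iff B q f).2 (by
      show π f ∈ p
      rw [show π f = 0 from Ideal.Quotient.eq_zero_iff_mem.2 (Ideal.subset_span rfl)]
      exact p.zero_mem)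
    have hB : CommAlgDim.IsCM B := CommAlgDim.isCM_of_isRegularLocalRing B
    have : Nontrivial (B ⧸ Ideal.span {yB}) := Ideal.Quotient.nontrivial_iff.mpr
      (ne_top_of_le_ne_top (IsLocalRing.maximalIdeal.isMaximal B).ne_top
        ((Ideal.span_singleton_le_iff_mem _).mpr hym))
    haveI : IsLocalRing (B ⧸ Ideal.span {yB}) := .of_surjective' _ Ideal.Quotient.mk_surjective
    haveI : LocCoh.IsCohenMacaulayLocalRing (B ⧸ Ideal.span {yB}) := by
      by_cases hy : yB = 0
      · haveI := SMTLib.isCohenMacaulayLocalRing_of_isCM B hB
        exact SMTLib.isCohenMacaulayLocalRing_of_ringEquiv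
          ((RingEquiv.quotientBot B).symm.trans (Ideal.quotEquivOfEq (by rw [hy, Ideal.span_singleton_zero])))
      · exact SMTLib.isCohenMacaulayLocalRing_of_isCM _ (hB.quotient_singleton
          (IsSMulRegular.of_right_eq_zero_of_smul fun x hx => (mul_eq_zero.1 hx).resolve_left hy) hym)
    let g : R →+* B ⧸ Ideal.span {yB} :=
      Ideal.quotientMap _ (algebraMap A B) (by
        rw [Ideal.span_singleton_le_iff_mem, Ideal.mem_comap]; exact Ideal.subset_span rfl)
    letI := g.toAlgebra
    have hmap : q.primeCompl.map π = p.primeCompl := by
      ext x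
      constructor
      · rintro ⟨z, hz, rfl⟩; exact hz
      · intro hx
        obtain ⟨z, rfl⟩ := Ideal.Quotient.mk_surjective x
        exact ⟨z, hx, rfl⟩
    have hloc : IsLocalization p.primeCompl (B ⧸ Ideal.span {yB}) := by
      rw [← hmap]
      refine IsLocalization.of_surjective (S := B) q.primeCompl π Ideal.Quotient.mk_surjective (Ideal.Quotient.mk _)
        Ideal.Quotient.mk_surjective (RingHom.ext fun _ => rfl) ?_
      rw [Ideal.mk_ker, Ideal.mk_ker, Ideal.map_span, Set.image_singleton]
    haveI hcm : LocCoh.IsCohenMacaulayLocalRing (Localization.AtPrime p) :=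
      SMTLib.isCohenMacaulayLocalRing_of_ringEquiv
        (IsLocalization.algEquiv p.primeCompl (B ⧸ Ideal.span {yB}) (Localization.AtPrime p)).toRingEquiv
    refine (min_le_right _ _).trans (le_of_eq ?_)
    let e := (IsLocalizedModule.iso p.primeCompl (Algebra.linearMap R (Localization.AtPrime p))).extendScalarsOfIsLocalization
      p.primeCompl (Localization.AtPrime p)
    rw [CommAlgDim.depth_congr e, Module.supportDim_eq_of_equiv e]
    exact hcm.supportDim_eq_depth
  have hdim : ∀ q : PrimeSpectrum R, ringKrullDim (Localization.AtPrime q.asIdeal) = (q.asIdeal.height : WithBot ℕ∞) :=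
    fun q => IsLocalization.AtPrime.ringKrullDim_eq_height q.asIdeal _
  constructor
  · intro hic q hq
    have hn : NormalLib.LocNormal R :=
      NormalLib.locNormal_of_isIntegrallyClosedIn (minimalPrimes.finite_of_isNoetherianRing R)
        (FractionRing R) (fun x hx => IsIntegrallyClosed.isIntegral_iff.mp hx)
    refine (NormalLib.serre_normal_iff.mp hn).1 q.asIdeal ?_
    rw [hdim] at hq
    exact_mod_cast hq.le
  · intro h
    have h1 : LocCoh.HasRk 1 R := by
      intro p hp hle
      rcases hle.lt_or_eq with hlt | heq
      · exact NormalLib.R0_of_isReduced p (by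
          rw [Nat.cast_one, ENat.lt_one_iff_eq_zero] at hlt
          simp [hlt])
      · exact h ⟨p, hp⟩ (by rw [hdim]; simp [heq])
    have hn : NormalLib.LocNormal R := NormalLib.serre_normal_iff.mpr ⟨h1, hS2⟩
    exact (isIntegrallyClosed_iff_isIntegrallyClosedIn (FractionRing R)).mpr
      (hn.isIntegrallyClosedIn (FractionRing R))

end Groth.Agent.S10834
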