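import Groth.Statements.S10835
import Mathlib
import Groth.Agent.BiratOpenLib.Basic
import Groth.Agent.BiratOpenLib.Primitive
import Groth.Agent.BiratOpenLib.Affine
import Groth.Agent.GeomRedFieldLib.Locus
import Groth.Agent.CurveFFLib.GenEtale
-- import your own Groth.Agent.* helpers here

set_option autoImplicit false
universe u
open CategoryTheory AlgebraicGeometry
attribute [local instance] Curv2.stalkAlgebra
open Variety

namespace Groth.Agent.S10835

/-- Let k be a field and X an integral scheme of finite type over k whose function field admits a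
transcendence basis s_1, …, s_d over k over which it is separable algebraic (this holds whenever the
function field is a separable extension of k in the sense of field theory, e.g. for k perfect, and
then d = dim X). Then some nonempty open subscheme of X is isomorphic, over k, to a nonempty open
subscheme of Spec k[T_1, …, T_d][T]/(g) for a monic polynomial g over k[T_1, …, T_d] which is
irreducible and separable over the fraction field k(T_1, …, T_d). -/
theorem result (k : Type u) [Field k]
    (X : Scheme.{u}) [X.Over (Spec (CommRingCat.of k))] [IsIntegral X]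
    [LocallyOfFiniteType (X ↘ Spec (CommRingCat.of k))] [QuasiCompact (X ↘ Spec (CommRingCat.of k))]
    (d : ℕ) (s : Fin d → X.presheaf.stalk (genericPoint X)) (hs : IsTranscendenceBasis k s)
    (hsep : Algebra.IsSeparable ↥(IntermediateField.adjoin k (Set.range s)) (X.presheaf.stalk (genericPoint X))) :
    ∃ (g : Polynomial (MvPolynomial (Fin d) k)), g.Monic ∧
      Irreducible (g.map (algebraMap (MvPolynomial (Fin d) k) (FractionRing (MvPolynomial (Fin d) k)))) ∧
      (g.map (algebraMap (MvPolynomial (Fin d) k) (FractionRing (MvPolynomial (Fin d) k)))).Separable ∧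
      ∃ (U : X.Opens) (V : (Spec (CommRingCat.of (AdjoinRoot g))).Opens) (e : (U : Scheme.{u}) ≅ (V : Scheme.{u})),
        (U : Set X).Nonempty ∧ (V : Set (Spec (CommRingCat.of (AdjoinRoot g)))).Nonempty ∧
        e.hom ≫ V.ι ≫ Spec.map (CommRingCat.ofHom (algebraMap k (AdjoinRoot g))) =
          U.ι ≫ (X ↘ Spec (CommRingCat.of k)) := by
  let L := X.functionField
  letI : Algebra k L := Curv2.stalkAlgebra k X (genericPoint X)
  haveI : Algebra.EssFiniteType k L := CurveFFLib.essFiniteType_functionField
  obtain ⟨g, hgm, hgi, hgs, φ, hφ, hfrac⟩ := BiratOpenLib.exists_hypersurface k L d s hs hsep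
  haveI : IsDomain (AdjoinRoot g) := hφ.isDomain φ.toRingHom
  haveI : Algebra.FiniteType k (AdjoinRoot g) :=
    Algebra.FiniteType.trans (R := k) (S := MvPolynomial (Fin d) k) inferInstance inferInstance
  haveI : LocallyOfFiniteType (Spec.map (CommRingCat.ofHom (algebraMap k (AdjoinRoot g)))) := by
    rw [HasRingHomProperty.Spec_iff (P := @LocallyOfFiniteType)]
    exact RingHom.finiteType_algebraMap.2 inferInstance
  letI : Algebra (CommRingCat.of (AdjoinRoot g)) X.functionField := φ.toRingHom.toAlgebra
  haveI : FaithfulSMul (CommRingCat.of (AdjoinRoot g)) X.functionField :=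
    (faithfulSMul_iff_algebraMap_injective _ _).2 hφ
  haveI : IsFractionRing (CommRingCat.of (AdjoinRoot g)) X.functionField := IsFractionRing.of_field _ _ hfrac
  haveI : IsDomain (CommRingCat.of (AdjoinRoot g)) := ‹IsDomain (AdjoinRoot g)›
  obtain ⟨U, V, hU, ψ, hψ⟩ := BiratOpenLib.exists_open_iso_affine (X ↘ Spec (CommRingCat.of k))
    (CommRingCat.of (AdjoinRoot g)) (CommRingCat.ofHom (algebraMap k (AdjoinRoot g)))
    (CommRingCat.ofHom (Curv2.stalkMap k X (genericPoint X)))
    (GeomRedFieldLib.fromSpecStalk_comp_over X (genericPoint X)) (fun c => φ.commutes c)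
  exact ⟨g, hgm, hgi, hgs, U, V, ψ, hU, ⟨_, (ψ.hom ⟨_, hU.some_mem⟩).2⟩, hψ⟩

end Groth.Agent.S10835
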