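import Groth.Statements.S10836
import Mathlib


-- import your own Groth.Agent.* helpers here

set_option autoImplicit false
universe u
open Coh

namespace Groth.Agent.S10836

/-- Let A be a commutative ring, M a finitely generated projective A-module whose rank at every prime is
r, and Z a finite set of prime ideals of A. Then there is an element s of A outside every prime of Z
such that the localized module M_s has a basis of r elements over A_s. (The published statement is
for a finite locally free module of constant rank r on a scheme and a finite set of points inside an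
affine open Spec A, and produces a basic open D(s) containing the points on which the module is free
of rank r; its argument begins by replacing the scheme with Spec A, and this row states that case.) -/
theorem result (A : Type u) [CommRing A]
    (M : Type u) [AddCommGroup M] [Module A M] [Module.Finite A M] [Module.Projective A M] (r : ℕ)
    (hr : ∀ p : PrimeSpectrum A, Module.rankAtStalk M p = r)
    (Z : Set (PrimeSpectrum A)) (hZ : Z.Finite) :
    ∃ s : A, (∀ p ∈ Z, s ∉ p.asIdeal) ∧
      Nonempty (Module.Basis (Fin r) (Localization.Away s) (LocalizedModule (Submonoid.powers s) M)) := by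
  classical
  let S : Submonoid A := ⨅ p ∈ Z, p.asIdeal.primeCompl
  have hS : ∀ a, a ∈ S ↔ ∀ p ∈ Z, a ∉ p.asIdeal := fun a => by
    simp only [S, Submonoid.mem_iInf]
    rfl
  let B := Localization S
  haveI : Finite (MaximalSpectrum B) := by
    haveI : Finite Z := hZ.to_subtype
    have key : ∀ P : MaximalSpectrum B, ∃ p : Z, P.asIdeal = p.1.asIdeal.map (algebraMap A B) := by
      intro P
      have hsub : ((P.asIdeal.comap (algebraMap A B) : Ideal A) : Set A) ⊆ ⋃ p ∈ hZ.toFinset, (p.asIdeal : Set A) := by
        intro a ha
        by_contra hna
        simp only [Set.mem_iUnion, SetLike.mem_coe, Set.Finite.mem_toFinset, not_exists] at hna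
        exact P.isMaximal.ne_top (Ideal.eq_top_of_isUnit_mem _ ha (IsLocalization.map_units B (⟨a, (hS a).mpr hna⟩ : S)))
      obtain ⟨p, hp, hle⟩ := (Ideal.subset_union_prime (f := fun p : PrimeSpectrum A => p.asIdeal)
        ⟨P.asIdeal.comap (algebraMap A B), inferInstance⟩ ⟨P.asIdeal.comap (algebraMap A B), inferInstance⟩
        (fun q _ _ _ => q.2)).mp hsub
      have hpZ : p ∈ Z := hZ.mem_toFinset.mp hp
      refine ⟨⟨p, hpZ⟩, ?_⟩
      have hdisj : Disjoint (S : Set A) (p.asIdeal : Set A) :=
        Set.disjoint_left.mpr fun a ha ha' => (hS a).mp ha p hpZ ha'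
      haveI hpr : (p.asIdeal.map (algebraMap A B)).IsPrime :=
        IsLocalization.isPrime_of_isPrime_disjoint S B _ p.2 hdisj
      refine P.isMaximal.eq_of_le hpr.ne_top ?_
      rw [← IsLocalization.map_comap S B P.asIdeal]
      exact Ideal.map_mono hle
    choose f hf using key
    exact Finite.of_injective f fun P Q h => MaximalSpectrum.ext (by rw [hf, hf, h])
  haveI : Module.Finite B (TensorProduct A B M) := inferInstance
  obtain ⟨b⟩ := Module.nonempty_basis_of_flat_of_finrank_eq B (TensorProduct A B M) r (fun P => by
    letI := Ideal.Quotient.field P.asIdeal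
    have h1 := Module.rankAtStalk_eq_finrank_of_free (R := B ⧸ P.asIdeal) (M := TensorProduct B (B ⧸ P.asIdeal) (TensorProduct A B M))
    have h2 := congrFun h1 ⟨⊥, Ideal.isPrime_bot⟩
    rw [Module.rankAtStalk_baseChange, Module.rankAtStalk_baseChange, hr] at h2
    exact h2.symm)
  haveI : Module.FinitePresentation A M := Module.finitePresentation_of_projective _ _
  obtain ⟨s, hs, b', -⟩ := Module.FinitePresentation.exists_basis_localizedModule_powers S
    (TensorProduct.mk A B M 1) B b
  exact ⟨s, (hS s).mp hs, ⟨b'⟩⟩

end Groth.Agent.S10836
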