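import Groth.Statements.S10840
import Groth.Agent.ProjSectLib.Forms


-- import your own Groth.Agent.* helpers here

set_option autoImplicit false
universe u
open AlgebraicGeometry Topology
open Variety

namespace Groth.Agent.S10840

/-- For a field k and nonzero homogeneous polynomials f, g of positive degrees in three variables, the
common zero set V_+(f, g) in the projective plane over k is zero-dimensional as a topological
subspace exactly when f and g are coprime, i.e. their only common divisors are the non-zero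
constants. -/
theorem result (k : Type u) [Field k] (n m : ℕ)
    (f g : MvPolynomial (Fin 3) k) (hf : f.IsHomogeneous n) (hg : g.IsHomogeneous m)
    (hn : 0 < n) (hm : 0 < m) (hf0 : f ≠ 0) (hg0 : g ≠ 0) :
    topologicalKrullDim ↥(ProjectiveSpectrum.zeroLocus (CohB1.polyGrading 2 k)
        ({f, g} : Set (MvPolynomial (Fin 3) k))) = 0 ↔ IsRelPrime f g := by
  classical
  let η := GenusZeroLib.genPt k 2
  have hη : ProjDimLib.dPt η = 2 := GenusZeroLib.dPt_genPt k 2
  have hmem : ∀ y : ProjectiveSpectrum (CohB1.polyGrading 2 k),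
      y ∈ ProjectiveSpectrum.zeroLocus (CohB1.polyGrading 2 k) ({f, g} : Set (MvPolynomial (Fin 3) k)) ↔
        f ∈ y.asHomogeneousIdeal ∧ g ∈ y.asHomogeneousIdeal := fun y => Set.pair_subset_iff
  have hcl : IsClosed (ProjectiveSpectrum.zeroLocus (CohB1.polyGrading 2 k) ({f, g} : Set (MvPolynomial (Fin 3) k))) :=
    ProjectiveSpectrum.isClosed_zeroLocus _ _
  constructor
  · intro h c hcf hcg
    by_contra hc
    have hc0 : c ≠ 0 := fun h0 => hf0 (zero_dvd_iff.mp (h0 ▸ hcf))
    obtain ⟨i, hi, hic⟩ := WfDvdMonoid.exists_irreducible_factor hc hc0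
    obtain ⟨t, ht⟩ := hic.trans hcf
    have ht0 : t ≠ 0 := fun h0 => hf0 (by rw [ht, h0, mul_zero])
    obtain ⟨e, he⟩ := HomogFactorLib.exists_isHomogeneous_of_mul hi.ne_zero ht0 (ht ▸ hf : (i * t).IsHomogeneous n)
    have hepos := ProjSectLib.pos_degree hi he
    obtain ⟨z, -, hz, -⟩ := ProjSectLib.exists_mem η 1 (fun _ => i) (fun _ => e) (fun _ => he) (fun _ => hepos) (by omega)
    obtain ⟨y, hy, -⟩ := ProjSectLib.exists_formPt he hi (hz 0)
    have hiy : i ∈ y.asHomogeneousIdeal.toIdeal := hy ▸ Ideal.mem_span_singleton_self i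
    have hle := ProjSectLib.dPt_le_add η 1 (fun _ => i) (fun _ => e) (fun _ => he) (fun _ => hepos) y
      (ProjSectLib.genPt_le y) (fun _ => hiy) fun w _ hw hwy => le_antisymm hwy fun a ha => by
        have ha' : a ∈ y.asHomogeneousIdeal.toIdeal := ha
        rw [hy] at ha'
        exact (Ideal.span_singleton_le_iff_mem w.asHomogeneousIdeal.toIdeal).mpr (hw 0) ha'
    have hdim := ProjDimLib.dPt_le_dim hcl ((hmem y).mpr
      ⟨Ideal.mem_of_dvd _ (hic.trans hcf) hiy, Ideal.mem_of_dvd _ (hic.trans hcg) hiy⟩)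
    rw [h] at hdim
    have hdim' : ProjDimLib.dPt y ≤ 0 := by exact_mod_cast hdim
    omega
  · intro h
    have hzero : ∀ y ∈ ProjectiveSpectrum.zeroLocus (CohB1.polyGrading 2 k) ({f, g} : Set (MvPolynomial (Fin 3) k)),
        ProjDimLib.dPt y ≤ 0 := by
      intro y hy
      rw [hmem] at hy
      have hyη : y ≠ η := fun e => hf0 ((Submodule.mem_bot _).mp (e ▸ hy.1))
      obtain ⟨i, e, he, hi, hiy⟩ := ProjSectLib.exists_form_mem hyη
      obtain ⟨z, hz, hzy⟩ := ProjSectLib.exists_formPt he hi hiy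
      have hηz : η < z := lt_of_le_of_ne (ProjSectLib.genPt_le z) fun e' => hi.ne_zero
        ((Submodule.mem_bot _).mp (show i ∈ η.asHomogeneousIdeal.toIdeal by rw [e', hz]; exact Ideal.mem_span_singleton_self i))
      have h1 := ProjDimLib.dPt_lt hηz
      rcases eq_or_lt_of_le hzy with heq | hlt
      · subst heq
        have hf' : f ∈ z.asHomogeneousIdeal.toIdeal := hy.1
        have hg' : g ∈ z.asHomogeneousIdeal.toIdeal := hy.2
        rw [hz, Ideal.mem_span_singleton] at hf' hg'
        exact absurd (h hf' hg') hi.not_isUnit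
      · have := ProjDimLib.dPt_lt hlt
        omega
    obtain ⟨y, -, hy, -⟩ := ProjSectLib.exists_mem η 2 ![f, g] ![n, m]
      (fun i => by fin_cases i <;> simp [hf, hg]) (fun i => by fin_cases i <;> simp [hn, hm]) (by omega)
    refine le_antisymm (by simpa using ProjDimLib.dim_le hcl hzero) ?_
    have := ProjDimLib.dPt_le_dim hcl ((hmem y).mpr ⟨hy 0, hy 1⟩)
    rwa [Nat.le_zero.1 (hzero y ((hmem y).mpr ⟨hy 0, hy 1⟩))] at this

end Groth.Agent.S10840
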