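import Groth.Statements.S10849
import Mathlib.Algebra.Polynomial.Laurent
import Mathlib.Algebra.Polynomial.Reverse
import Mathlib.LinearAlgebra.Matrix.ToLinearEquiv
import Mathlib.LinearAlgebra.Matrix.NonsingularInverse
import Mathlib.Data.Fin.Tuple.Sort
import Mathlib.RingTheory.Polynomial.Basic
import Mathlib.Tactic.Ring
-- import your own Groth.Agent.* helpers here

set_option autoImplicit false
universe u
open VbP1

namespace Groth.Agent.S10849

open Polynomial Matrix

variable {k : Type u} [Field k]

/-- Reflecting a polynomial corresponds to inverting the variable. -/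
theorem toLaurent_eq_T_mul_invert (p : k[X]) (N : ℕ) (h : p.natDegree ≤ N) :
    p.toLaurent = LaurentPolynomial.T (N : ℤ) * LaurentPolynomial.invert (p.reflect N).toLaurent := by
  refine induction_with_natDegree_le
    (fun p => p.toLaurent = LaurentPolynomial.T (N : ℤ) * LaurentPolynomial.invert (p.reflect N).toLaurent) N
    (by simp) ?_ ?_ p h
  · intro m r _ hm
    rw [reflect_C_mul_X_pow, revAt_le hm]
    simp only [map_mul, map_pow, toLaurent_C, toLaurent_X, LaurentPolynomial.invert_C, LaurentPolynomial.invert_T,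
      LaurentPolynomial.T_pow]
    rw [mul_left_comm, ← LaurentPolynomial.T_add]
    congr 2
    omega
  · intro f g _ _ hf hg
    rw [reflect_add, map_add, map_add, map_add, mul_add, ← hf, ← hg]

theorem isUnit_of_toLaurent {q : k[X]} (h : IsUnit q.toLaurent) (h0 : q.coeff 0 ≠ 0) : IsUnit q := by
  obtain ⟨v, hv⟩ := h.exists_right_inv
  obtain ⟨m, b, hb⟩ := v.exists_T_pow
  have hqb : q * b = X ^ m := toLaurent_injective (by
    rw [map_mul, hb, ← mul_assoc, hv, one_mul, map_pow, toLaurent_X, LaurentPolynomial.T_pow, mul_one])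
  obtain ⟨i, -, hu⟩ := (dvd_prime_pow (prime_X (R := k)) m).1 ⟨b, hqb.symm⟩
  cases i with
  | zero => exact associated_one_iff_isUnit.1 (by simpa using hu)
  | succ i => exact absurd (X_dvd_iff.1 ((dvd_pow_self X (Nat.succ_ne_zero i)).trans hu.symm.dvd)) h0

variable {n : ℕ}

/-- Degree of a row. -/
def rdeg (M : Matrix (Fin n) (Fin n) k[X]) (i : Fin n) : ℕ :=
  Finset.univ.sup fun j => (M i j).natDegree

/-- Reduction step for a polynomial matrix. -/
theorem exists_smaller (M : Matrix (Fin n) (Fin n) k[X]) (hM : M.det ≠ 0)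
    (hL : (Matrix.of fun i j => (M i j).coeff (rdeg M i)).det = 0) :
    ∃ U : Matrix (Fin n) (Fin n) k[X], IsUnit U ∧ ∑ i, rdeg (U * M) i < ∑ i, rdeg M i := by
  classical
  obtain ⟨c, hc0, hc⟩ := Matrix.exists_vecMul_eq_zero_iff.2 hL
  obtain ⟨j₀, hj₀⟩ : ∃ j, c j ≠ 0 := Function.ne_iff.1 hc0
  obtain ⟨i, hi, himax⟩ := (Finset.univ.filter fun j => c j ≠ 0).exists_max_image (rdeg M)
    ⟨j₀, by simp [hj₀]⟩
  have hci : c i ≠ 0 := (Finset.mem_filter.1 hi).2
  let w : Fin n → k[X] := fun j => C (c j) * X ^ (rdeg M i - rdeg M j)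
  let U : Matrix (Fin n) (Fin n) k[X] := (1 : Matrix (Fin n) (Fin n) k[X]).updateRow i w
  have hUdet : U.det = C (c i) := by
    have h := Matrix.det_updateRow_sum (1 : Matrix (Fin n) (Fin n) k[X]) i w
    rw [show (∑ j, w j • (1 : Matrix (Fin n) (Fin n) k[X]) j) = w by
      funext l; simp [Finset.sum_apply, Matrix.one_apply], Matrix.det_one] at h
    rw [h]
    simp [w]
  have hU : IsUnit U := (Matrix.isUnit_iff_isUnit_det U).2 (hUdet ▸ isUnit_C.2 hci.isUnit)
  refine ⟨U, hU, ?_⟩
  have hrow : ∀ l ≠ i, ∀ j, (U * M) l j = M l j := fun l hl j => by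
    simp [U, Matrix.mul_apply, Matrix.updateRow_ne hl, Matrix.one_apply]
  have hrowi : ∀ j, (U * M) i j = ∑ l, w l * M l j := fun j => by
    simp [U, Matrix.mul_apply]
  have hcoeff : ∀ j m, rdeg M i ≤ m → ((U * M) i j).coeff m = 0 := by
    intro j m hm
    have hmj := congrFun hc j
    simp only [Matrix.vecMul, dotProduct, Matrix.of_apply, Pi.zero_apply] at hmj
    rw [hrowi, finsetSum_coeff]
    have hterm : ∀ l, (w l * M l j).coeff m =
        if m = rdeg M i then c l * (M l j).coeff (rdeg M l) else 0 := by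
      intro l
      by_cases hl : c l = 0
      · simp [w, hl]
      have hle := himax l (by simp [hl])
      simp only [w, mul_assoc, coeff_C_mul, coeff_X_pow_mul']
      rw [if_pos (by omega)]
      rcases eq_or_lt_of_le hm with rfl | hlt
      · rw [if_pos rfl, Nat.sub_sub_self hle]
      · rw [if_neg (by omega), coeff_eq_zero_of_natDegree_lt, mul_zero]
        have : (M l j).natDegree ≤ rdeg M l :=
          Finset.le_sup (f := fun j => (M l j).natDegree) (Finset.mem_univ j)
        omega
    simp only [hterm]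
    split_ifs
    · exact hmj
    · exact Finset.sum_const_zero
  refine Finset.sum_lt_sum (fun l _ => ?_) ⟨i, Finset.mem_univ _, ?_⟩
  · rcases eq_or_ne l i with rfl | hl
    · refine Finset.sup_le fun j _ => natDegree_le_iff_coeff_eq_zero.2 fun m hm => hcoeff j m hm.le
    · simp only [rdeg, hrow l hl]; exact le_rfl
  · rcases Nat.eq_zero_or_pos (rdeg M i) with hd | hd
    · exfalso
      have hz : ∀ j, (U * M) i j = 0 := fun j => Polynomial.ext fun m => by
        rw [hcoeff j m (by omega), coeff_zero]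
      have := Matrix.det_eq_zero_of_row_eq_zero (A := U * M) i hz
      rw [Matrix.det_mul, hUdet, mul_eq_zero] at this
      exact this.elim (fun h => hci (C_eq_zero.1 h)) hM
    · refine (Finset.sup_lt_iff (by simpa using hd)).2 fun j _ => ?_
      rw [show rdeg M i = rdeg M i - 1 + 1 by omega, Nat.lt_succ_iff]
      exact natDegree_le_iff_coeff_eq_zero.2 fun m hm => hcoeff j m (by omega)

/-- Let k be a field and n a natural number. For every invertible n × n matrix A with entries in the
Laurent polynomial ring k[T, T⁻¹] there are matrices P and Q over k[T], invertible over k[T], and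
integers d_1 ≥ d_2 ≥ … ≥ d_n (indexed by Fin n, antitone) such that A = P · diag(T^{d_i}) · Q⁻,
where Q⁻ is obtained from Q by the substitution T ↦ T⁻¹ (so Q⁻ is invertible over k[T⁻¹]). -/
theorem result (k : Type u) [Field k] (n : ℕ)
    (A : Matrix (Fin n) (Fin n) (LaurentPolynomial k)) (hA : IsUnit A) :
    ∃ (P Q : Matrix (Fin n) (Fin n) (Polynomial k)) (d : Fin n → ℤ),
      IsUnit P ∧ IsUnit Q ∧ Antitone d ∧
        A = P.map Polynomial.toLaurent * Matrix.diagonal (fun i => LaurentPolynomial.T (d i)) *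
          (Q.map Polynomial.toLaurent).map LaurentPolynomial.invert := by
  classical
  choose Ne M' hM' using fun i j => (A i j).exists_T_pow
  let N := Finset.univ.sup fun p : Fin n × Fin n => Ne p.1 p.2
  have hle : ∀ i j, Ne i j ≤ N := fun i j => Finset.le_sup (f := fun p : Fin n × Fin n => Ne p.1 p.2) (Finset.mem_univ (i, j))
  let M₀ : Matrix (Fin n) (Fin n) k[X] := Matrix.of fun i j => M' i j * X ^ (N - Ne i j)
  have hM₀ : M₀.map (toLaurent (R := k)) = (LaurentPolynomial.T (N : ℤ) : LaurentPolynomial k) • A := by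
    ext1 i j
    simp only [M₀, Matrix.map_apply, Matrix.of_apply, Matrix.smul_apply, smul_eq_mul, map_mul, map_pow,
      hM', toLaurent_X, LaurentPolynomial.T_pow, mul_one]
    rw [mul_assoc, ← LaurentPolynomial.T_add, mul_comm]
    congr 2
    have := hle i j
    omega
  have hmapdet : ∀ M : Matrix (Fin n) (Fin n) k[X], (M.map (toLaurent (R := k))).det = toLaurent M.det :=
    fun M => ((toLaurent : k[X] →+* LaurentPolynomial k).map_det M).symm
  have hM₀u : IsUnit (toLaurent M₀.det) := by
    rw [← hmapdet, hM₀, Matrix.det_smul]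
    exact ((LaurentPolynomial.isUnit_T _).pow _).mul ((Matrix.isUnit_iff_isUnit_det A).1 hA)
  have hex : ∃ s, ∃ U : Matrix (Fin n) (Fin n) k[X], IsUnit U ∧ ∑ i, rdeg (U * M₀) i = s :=
    ⟨_, 1, isUnit_one, rfl⟩
  obtain ⟨U, hU, hUs⟩ := Nat.find_spec hex
  let M := U * M₀
  have hMu : IsUnit (toLaurent M.det) := by
    simp only [M, Matrix.det_mul, map_mul]
    exact (((Matrix.isUnit_iff_isUnit_det U).1 hU).map _).mul hM₀u
  have hM0 : M.det ≠ 0 := fun h => not_isUnit_zero (by rw [h, map_zero] at hMu; exact hMu)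
  have hL : (Matrix.of fun i j => (M i j).coeff (rdeg M i)).det ≠ 0 := by
    intro h
    obtain ⟨U', hU', hlt⟩ := exists_smaller M hM0 h
    refine Nat.find_min hex (m := ∑ i, rdeg (U' * M) i) (by rw [← hUs]; exact hlt) ⟨U' * U, hU'.mul hU, ?_⟩
    simp [M, Matrix.mul_assoc]
  let Q₀ : Matrix (Fin n) (Fin n) k[X] := Matrix.of fun i j => (M i j).reflect (rdeg M i)
  let d : Fin n → ℤ := fun i => (rdeg M i : ℤ)
  have hfac : M.map (toLaurent (R := k)) =
      Matrix.diagonal (fun i => LaurentPolynomial.T (d i)) * (Q₀.map (toLaurent (R := k))).map LaurentPolynomial.invert := by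
    ext1 i j
    rw [Matrix.diagonal_mul]
    exact toLaurent_eq_T_mul_invert _ _ (Finset.le_sup (f := fun j => (M i j).natDegree) (Finset.mem_univ j))
  have hQ₀ : IsUnit Q₀ := by
    rw [Matrix.isUnit_iff_isUnit_det]
    refine isUnit_of_toLaurent ?_ ?_
    · have h1 := congrArg Matrix.det hfac
      have h2 : IsUnit (M.map (toLaurent (R := k))).det := by rw [hmapdet]; exact hMu
      rw [h1, Matrix.det_mul] at h2
      have h3 : ((Q₀.map (toLaurent (R := k))).map LaurentPolynomial.invert).det =
          LaurentPolynomial.invert (toLaurent Q₀.det) := by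
        rw [← hmapdet]
        exact ((LaurentPolynomial.invert (R := k)).toRingHom.map_det (Q₀.map (toLaurent (R := k)))).symm
      rw [h3] at h2
      exact (MulEquiv.isUnit_map (LaurentPolynomial.invert (R := k))).1 (isUnit_of_mul_isUnit_right h2)
    · have h4 : (Polynomial.constantCoeff Q₀.det) = (Matrix.of fun i j => (M i j).coeff (rdeg M i)).det := by
        rw [RingHom.map_det]
        congr 1
        ext i j
        simp [Q₀, coeff_reflect, revAt_le]
      rw [← Polynomial.constantCoeff_apply, h4]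
      exact hL
  let σ := Tuple.sort (fun i => -(d i - N))
  refine ⟨(↑(hU.unit⁻¹) : Matrix (Fin n) (Fin n) k[X]).submatrix id σ, Q₀.submatrix σ id, fun i => d (σ i) - N,
    ?_, ?_, fun a b hab => neg_le_neg_iff.1 (Tuple.monotone_sort (fun i => -(d i - N)) hab), ?_⟩
  · exact Matrix.isUnit_submatrix_equiv (e₁ := Equiv.refl _) (e₂ := σ) |>.2 (Units.isUnit _)
  · exact Matrix.isUnit_submatrix_equiv (e₁ := σ) (e₂ := Equiv.refl _) |>.2 hQ₀
  · have h5 : (↑(hU.unit⁻¹) : Matrix (Fin n) (Fin n) k[X]).map (toLaurent (R := k)) * M.map (toLaurent (R := k)) = M₀.map (toLaurent (R := k)) := by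
      rw [← Matrix.map_mul]
      simp only [M, ← Matrix.mul_assoc, IsUnit.val_inv_mul, Matrix.one_mul]
    have h6 : A = (LaurentPolynomial.T (-(N : ℤ)) : LaurentPolynomial k) • M₀.map (toLaurent (R := k)) := by
      rw [hM₀, smul_smul, ← LaurentPolynomial.T_add, neg_add_cancel, LaurentPolynomial.T_zero, one_smul]
    rw [h6, ← h5, hfac]
    ext1 i j
    simp only [Matrix.smul_apply, Matrix.mul_apply, Matrix.map_apply, Matrix.submatrix_apply, id_eq,
      Matrix.diagonal_apply, mul_ite, mul_zero, ite_mul, zero_mul, Finset.sum_ite_eq, Finset.sum_ite_eq',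
      Finset.mem_univ, if_true, smul_eq_mul, Finset.mul_sum]
    refine (Fintype.sum_equiv σ _ _ fun l => ?_).symm
    rw [sub_eq_add_neg, LaurentPolynomial.T_add]
    ring

end Groth.Agent.S10849
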