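import Groth.Statements.S1085
import Mathlib.CategoryTheory.Abelian.Refinements

set_option autoImplicit false
universe v u
open CategoryTheory CategoryTheory.Limits Opposite
open FilD

namespace Groth.Agent.S1085

section
variable {A : Type u} [Category.{v} A] [Abelian A] (S : ShortComplex (FilD.FilF A))

local notation "Xp" p => S.X₁.obj.obj (op p)
local notation "Yp" p => S.X₂.obj.obj (op p)
local notation "Zp" p => S.X₃.obj.obj (op p)

private lemma zero_app (p : ℤ) : S.f.hom.app (op p) ≫ S.g.hom.app (op p) = 0 := by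
  show (S.f ≫ S.g).hom.app (op p) = 0
  rw [S.zero]
  rfl

private lemma step (hS : ∀ p : ℤ, (S.map (FilD.grF A p)).Exact) (p : ℤ) {T : A} (y : T ⟶ Yp p)
    (z : T ⟶ Zp (p + 1)) (hy : y ≫ S.g.hom.app (op p) = z ≫ S.X₃.obj.map (FilD.stepHom p)) :
    ∃ (T' : A) (π : T' ⟶ T) (_ : Epi π) (x : T' ⟶ Xp p) (y' : T' ⟶ Yp (p + 1)),
      π ≫ y = x ≫ S.f.hom.app (op p) + y' ≫ S.X₂.obj.map (FilD.stepHom p) ∧
      y' ≫ S.g.hom.app (op (p + 1)) = π ≫ z := by
  let πX := cokernel.π (S.X₁.obj.map (FilD.stepHom p))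
  let πY := cokernel.π (S.X₂.obj.map (FilD.stepHom p))
  let πZ := cokernel.π (S.X₃.obj.map (FilD.stepHom p))
  have hf : πX ≫ (S.map (FilD.grF A p)).f = S.f.hom.app (op p) ≫ πY := cokernel.π_desc _ _ _
  have hg : πY ≫ (S.map (FilD.grF A p)).g = S.g.hom.app (op p) ≫ πZ := cokernel.π_desc _ _ _
  obtain ⟨T₁, π₁, _, xb, hxb⟩ := (hS p).exact_up_to_refinements (y ≫ πY) (by
    refine (Category.assoc _ _ _).trans ((congrArg (y ≫ ·) hg).trans ?_)
    show y ≫ S.g.hom.app (op p) ≫ πZ = 0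
    rw [reassoc_of% hy, cokernel.condition, comp_zero])
  obtain ⟨T₂, π₂, _, x, hx⟩ := surjective_up_to_refinements_of_epi πX xb
  have h0 : (π₂ ≫ π₁ ≫ y - x ≫ S.f.hom.app (op p)) ≫ πY = 0 := by
    rw [Preadditive.sub_comp, Category.assoc, Category.assoc, Category.assoc, sub_eq_zero]
    exact (congrArg (π₂ ≫ ·) hxb).trans (((Category.assoc _ _ _).symm.trans
      (congrArg (· ≫ (S.map (FilD.grF A p)).f) hx)).trans ((Category.assoc _ _ _).trans (congrArg (x ≫ ·) hf)))
  obtain ⟨T₃, π₃, _, y', hy'⟩ := (ShortComplex.exact_of_g_is_cokernel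
    (ShortComplex.mk _ πY (cokernel.condition _)) (cokernelIsCokernel _)).exact_up_to_refinements _ h0
  have hy'' : π₃ ≫ (π₂ ≫ π₁ ≫ y - x ≫ S.f.hom.app (op p)) = y' ≫ S.X₂.obj.map (FilD.stepHom p) := hy'
  have := S.X₃.property.1 (FilD.stepHom p)
  refine ⟨T₃, π₃ ≫ π₂ ≫ π₁, inferInstance, π₃ ≫ x, y', ?_, ?_⟩
  · rw [← hy'']; simp
  · rw [← cancel_mono (S.X₃.obj.map (FilD.stepHom p)), Category.assoc,
      ← S.g.hom.naturality, ← reassoc_of% hy'']
    simp [hy, zero_app]

private lemma exactAt (hS : ∀ p : ℤ, (S.map (FilD.grF A p)).Exact) (p : ℤ) {T : A} (y : T ⟶ Yp p)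
    (hy : y ≫ S.g.hom.app (op p) = 0) :
    ∃ (T' : A) (π : T' ⟶ T) (_ : Epi π) (x : T' ⟶ Xp p), π ≫ y = x ≫ S.f.hom.app (op p) := by
  obtain ⟨b, hb⟩ := S.X₂.property.2.1
  induction h : (b - p).toNat generalizing p T with
  | zero =>
    refine ⟨T, 𝟙 _, inferInstance, 0, ?_⟩
    rw [(hb p (by omega)).eq_of_tgt y 0]; simp
  | succ k ih =>
    obtain ⟨T₁, π₁, _, x, y', e1, e2⟩ := step S hS p y 0 (by rw [hy, zero_comp])
    rw [comp_zero] at e2
    obtain ⟨T₂, π₂, _, x', e3⟩ := ih (p + 1) y' e2 (by omega)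
    refine ⟨T₂, π₂ ≫ π₁, inferInstance, π₂ ≫ x + x' ≫ S.X₁.obj.map (FilD.stepHom p), ?_⟩
    rw [Category.assoc, e1, Preadditive.comp_add, reassoc_of% e3, Preadditive.add_comp,
      Category.assoc, Category.assoc, S.f.hom.naturality]

private lemma strictG (hS : ∀ p : ℤ, (S.map (FilD.grF A p)).Exact) (p q : ℤ) (h : p ≤ q) {T : A}
    (y : T ⟶ Yp p) (z : T ⟶ Zp q) (hy : y ≫ S.g.hom.app (op p) = z ≫ S.X₃.obj.map (homOfLE h).op) :
    ∃ (T' : A) (π : T' ⟶ T) (_ : Epi π) (y' : T' ⟶ Yp q), π ≫ z = y' ≫ S.g.hom.app (op q) := by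
  induction hk : (q - p).toNat generalizing p T with
  | zero =>
    obtain rfl : p = q := by omega
    refine ⟨T, 𝟙 _, inferInstance, y, ?_⟩
    rw [hy, show (homOfLE h).op = 𝟙 (op p) from rfl, CategoryTheory.Functor.map_id, Category.comp_id, Category.id_comp]
  | succ k ih =>
    have h' : p + 1 ≤ q := by omega
    have hc : (homOfLE h).op = (homOfLE h').op ≫ FilD.stepHom p := rfl
    rw [hc, CategoryTheory.Functor.map_comp, ← Category.assoc] at hy
    obtain ⟨T₁, π₁, _, x, y', -, e2⟩ := step S hS p y _ hy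
    obtain ⟨T₂, π₂, _, y'', e3⟩ := ih (p + 1) h' y' (π₁ ≫ z) (by rw [e2, Category.assoc]) (by omega)
    exact ⟨T₂, π₂ ≫ π₁, inferInstance, y'', by rw [Category.assoc, e3]⟩

private lemma strict_of_lift {F G : FilD.FilF A} (φ : F ⟶ G)
    (H : ∀ (p q : ℤ) (h : p ≤ q) (T : A) (y : T ⟶ F.obj.obj (op p)) (z : T ⟶ G.obj.obj (op q)),
      y ≫ φ.hom.app (op p) = z ≫ G.obj.map (homOfLE h).op →
      ∃ (T' : A) (π : T' ⟶ T) (_ : Epi π) (y' : T' ⟶ F.obj.obj (op q)), π ≫ z = y' ≫ φ.hom.app (op q)) :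
    FilD.IsStrict φ := by
  intro p q h
  have := G.property.1 (homOfLE h).op
  refine le_antisymm (le_inf ?_ ?_) ?_
  · simpa only [φ.hom.naturality] using
      imageSubobject_comp_le (F.obj.map (homOfLE h).op) (φ.hom.app (op p))
  · exact imageSubobject_le_mk _ _ (φ.hom.app (op q)) rfl
  · set P := imageSubobject (φ.hom.app (op p)) ⊓ Subobject.mk (G.obj.map (homOfLE h).op) with hP
    have h1 : P ≤ imageSubobject (φ.hom.app (op p)) := inf_le_left
    have h2 : P ≤ Subobject.mk (G.obj.map (homOfLE h).op) := inf_le_right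
    obtain ⟨T₁, π₁, _, y, hy⟩ := surjective_up_to_refinements_of_epi
      (factorThruImageSubobject (φ.hom.app (op p))) (Subobject.ofLE _ _ h1)
    let z := π₁ ≫ Subobject.ofLEMk P _ h2
    obtain ⟨T₂, π₂, _, y', hy'⟩ := H p q h T₁ y z (by
      simp only [z, Category.assoc, Subobject.ofLEMk_comp]
      rw [← imageSubobject_arrow_comp (φ.hom.app (op p)), ← reassoc_of% hy, Subobject.ofLE_arrow])
    have hc : P.arrow ≫ cokernel.π (imageSubobject (φ.hom.app (op q) ≫ G.obj.map (homOfLE h).op)).arrow = 0 := by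
      rw [← cancel_epi π₁, ← cancel_epi π₂, comp_zero, comp_zero, ← Subobject.ofLEMk_comp h2]
      simp only [z] at hy'
      simp only [← Category.assoc] at hy' ⊢
      rw [hy']
      simp only [Category.assoc]
      have e := congrArg (y' ≫ ·) (congrArg (· ≫ cokernel.π
        (imageSubobject (φ.hom.app (op q) ≫ G.obj.map (homOfLE h).op)).arrow)
        (imageSubobject_arrow_comp (φ.hom.app (op q) ≫ G.obj.map (homOfLE h).op)))
      simp only [Category.assoc, cokernel.condition, comp_zero] at e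
      exact e.symm
    exact Subobject.le_of_comm (Abelian.monoLift _ _ hc) (Abelian.monoLift_comp _ _ hc)

end

/-- Let A be an abelian category and S = (X ⟶ Y ⟶ Z) a short complex (composite zero) of finite filtered
objects such that grᵖ X ⟶ grᵖ Y ⟶ grᵖ Z is exact for every p. Then for every p the sequence of p-th
filtration steps Fᵖ X ⟶ Fᵖ Y ⟶ Fᵖ Z is exact, and both morphisms of S are strict. -/
theorem result {A : Type u} [Category.{v} A] [Abelian A] (S : ShortComplex (FilD.FilF A))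
    (hS : ∀ p : ℤ, (S.map (FilD.grF A p)).Exact) :
    (∀ p : ℤ, (S.map ((FilD.IsFinFil A).ι ⋙ (evaluation ℤᵒᵖ A).obj (op p))).Exact) ∧
      FilD.IsStrict S.f ∧ FilD.IsStrict S.g := by
  refine ⟨fun p => ?_, strict_of_lift S.f ?_, strict_of_lift S.g fun p q h T y z hy => strictG S hS p q h y z hy⟩
  · rw [ShortComplex.exact_iff_exact_up_to_refinements]
    exact fun T y hy => exactAt S hS p y hy
  · intro p q h T y z hy
    refine exactAt S hS q z ?_
    have := S.X₃.property.1 (homOfLE h).op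
    rw [← cancel_mono (S.X₃.obj.map (homOfLE h).op), Category.assoc, ← S.g.hom.naturality, ← reassoc_of% hy,
      zero_app, comp_zero, zero_comp]

end Groth.Agent.S1085
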