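import Groth.Statements.S10851
import Groth.Agent.MeroLib.DepthTwo

-- import your own Groth.Agent.* helpers here

set_option autoImplicit false
universe u
open Mero

namespace Groth.Agent.S10851




open AlgebraicGeometry in
/-- Let X be a locally Noetherian scheme and D a divisor on X (a global section of K_X^×/O_X^×). Then
the support of D has codimension at least 1 in X: for every point z at which the germ of D is
non-trivial, the local ring O_{X,z} has Krull dimension at least 1. -/
theorem result {X : Scheme.{u}} [IsLocallyNoetherian X]
    (D : Mero.Divisor X) (z : X) (hz : z ∈ Mero.supp D) :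
    (1 : WithBot ℕ∞) ≤ ringKrullDim (X.presheaf.stalk z) := by
  by_contra hlt
  rw [not_le] at hlt
  have h0 : ringKrullDim (X.presheaf.stalk z) = 0 := by
    refine le_antisymm ?_ ringKrullDim_nonneg_of_nontrivial
    revert hlt
    generalize ringKrullDim (X.presheaf.stalk z) = d
    intro hlt
    cases d with
    | bot => exact bot_le
    | coe n =>
      cases n with
      | top => exact absurd hlt (by simp)
      | coe k =>
        have hk : k < 1 := by exact_mod_cast hlt
        exact_mod_cast Nat.lt_one_iff.1 hk |>.le
  exact hz (MeroLib.eq_one_of_units (fun a => MeroLib.isUnit_of_maximal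
    (fun w hw => MeroLib.eq_of_specializes_of_dim_zero h0 hw) _ (Mero.regStalk_le_nonZeroDivisors z a.2)) D)


end Groth.Agent.S10851
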