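import Groth.Statements.S10852
import Groth.Agent.GrassLib.Free

set_option autoImplicit false
universe u
open Grass

namespace Groth.Agent.S10852

open AlgebraicGeometry CategoryTheory in
/-- Let R be a commutative ring and k < n natural numbers. Suppose the scheme X over Spec R represents
the Grassmannian functor of rank-k locally free quotients of the free module R^n (bijections,
compatible with base change along R-algebra maps, between Spec R-morphisms Spec A → X and submodules
of A^n whose quotient is finite projective of constant rank k). Then the structure morphism X → Spec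
R is smooth of relative dimension k(n − k), and X has a finite open covering by subschemes each
isomorphic over Spec R to affine space of dimension k(n − k). -/
theorem result (R : Type u) [CommRing R]
    (n k : ℕ) (hk : k < n) (X : Over (Spec (CommRingCat.of R)))
    (e : ∀ A : CommAlgCat.{u} R,
      (Over.mk (Spec.map (CommRingCat.ofHom (algebraMap R A))) ⟶ X) ≃
        (Module.Grassmannian.functor (R := R) (M := Fin n → R) k).obj A)
    (he : ∀ (A B : CommAlgCat.{u} R) (φ : A ⟶ B)
      (g : Over.mk (Spec.map (CommRingCat.ofHom (algebraMap R A))) ⟶ X)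
      (g' : Over.mk (Spec.map (CommRingCat.ofHom (algebraMap R B))) ⟶ X),
      g'.left = Spec.map (CommRingCat.ofHom φ.hom.toRingHom) ≫ g.left →
        e B g' = (Module.Grassmannian.functor (R := R) (M := Fin n → R) k).map φ (e A g)) :
    SmoothOfRelativeDimension (k * (n - k)) X.hom ∧
      ∃ (ι : Type) (_ : Finite ι) (U : ι → X.left.Opens), ⨆ i, U i = ⊤ ∧
        ∀ i, Nonempty (Over.mk ((U i).ι ≫ X.hom) ≅
          Over.mk (𝔸(ULift.{u} (Fin (k * (n - k))); Spec (CommRingCat.of R)) ↘ Spec (CommRingCat.of R))) := by
  let P : GrassLib.RepPair R (Fin n → R) k := ⟨X, e, fun A B φ g g' hg => he A B (CommAlgCat.ofHom φ) g g' hg⟩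
  refine ⟨P.smoothOfRelativeDimension, Fin k ↪ Fin n, inferInstance, fun σ => P.chartOpen (GrassLib.stdTuple R σ),
    P.iSup_std_chart, fun σ => ?_⟩
  obtain ⟨i, hi⟩ := P.exists_std_chart_iso σ
  refine ⟨Over.isoMk (i ≪≫ (AffineSpace.SpecIso _ (CommRingCat.of R)).symm) ?_⟩
  show (i.hom ≫ (AffineSpace.SpecIso (ULift.{u} (Fin (k * (n - k)))) (CommRingCat.of R)).inv) ≫ _ = _ ≫ X.hom
  rw [Category.assoc]
  refine (congrArg (i.hom ≫ ·) (AffineSpace.SpecIso_inv_over (n := ULift.{u} (Fin (k * (n - k)))) (CommRingCat.of R))).trans ?_
  exact hi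


end Groth.Agent.S10852
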