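import Groth.Statements.S10856
import Groth.Agent.MeroLib.Weak

-- import your own Groth.Agent.* helpers here

set_option autoImplicit false
universe u
open Mero

namespace Groth.Agent.S10856




open AlgebraicGeometry CategoryTheory TopologicalSpace in
/-- Let X be a scheme and f a global section of the sheaf of meromorphic functions K_X. The domain of
definition of f, i.e. the set of points x whose value f_x ∈ K_{X,x} lies in the image of the local
ring O_{X,x}, is the underlying set of an open subscheme D of X, and D is schematically dense in X: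
for every open subset V of X the restriction map from sections of O_X over V to sections over V ∩ D
is injective. -/
theorem result {X : Scheme.{u}} (f : Γ(Mero.kmod X, ⊤)) :
    ∃ D : X.Opens,
      (D : Set X) = {x | f.1 ⟨x, Opens.mem_top x⟩ ∈ (algebraMap (X.presheaf.stalk x) (Mero.KStalk X x)).range} ∧
        ∀ V : X.Opens, Function.Injective (X.presheaf.map (homOfLE (inf_le_left : V ⊓ D ≤ V)).op) := by
  let S : Set X := {x | f.1 ⟨x, Opens.mem_top x⟩ ∈ (algebraMap (X.presheaf.stalk x) (Mero.KStalk X x)).range}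
  have hS : IsOpen S := isOpen_iff_forall_mem_open.2 fun x hx => by
    obtain ⟨O, hO, r, hxO, hr⟩ := MeroLib.exists_nhd_range f (Opens.mem_top x) hx
    exact ⟨O, fun y hy => ⟨_, (hr y hy).symm⟩, O.2, hxO⟩
  refine ⟨⟨S, hS⟩, rfl, fun V a b hab => MeroLib.eq_of_weak a b fun y hy hw => ?_⟩
  have hyS : y ∈ S := by
    obtain ⟨W, hW, c, d, hyW, hcd⟩ := MeroLib.exists_frac f (Opens.mem_top y)
    obtain ⟨e, he⟩ := hw.isUnit_germ d.2 hyW
    refine ⟨(↑e⁻¹ : X.presheaf.stalk y) * X.presheaf.germ W y hyW c, Eq.symm ?_⟩
    refine (hcd y hyW).trans (IsLocalization.mk'_eq_iff_eq_mul.2 ?_)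
    rw [← map_mul, mul_right_comm]
    change _ = algebraMap _ _ ((↑e⁻¹ : X.presheaf.stalk y) * X.presheaf.germ W y hyW d.1 * _)
    rw [← he, Units.inv_mul, one_mul]
  have := congrArg (X.presheaf.germ (V ⊓ ⟨S, hS⟩) y ⟨hy, hyS⟩) hab
  rwa [MeroLib.germ_res, MeroLib.germ_res] at this


end Groth.Agent.S10856
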