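import Groth.Statements.S10857
import Mathlib
import Groth.Agent.CohCmpLib.HomLift
import Groth.Agent.DepthLib.RegAB
import Groth.Agent.KFlatLib.Stalk
import Groth.Agent.QCohLib.Coherent
-- import your own Groth.Agent.* helpers here

set_option autoImplicit false
universe u
open QCohSup

namespace Groth.Agent.S10857

open AlgebraicGeometry CategoryTheory CategoryTheory.Limits in
/-- Take a quasi-compact scheme X, a finite-type quasi-coherent O_X-module F, and G a quasi-coherent
O_X-module which is the colimit of a filtered diagram of quasi-coherent O_X-modules G_j. A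
homomorphism u : G → F is an epimorphism if and only if there is an index j₀ such that for every
index j admitting a map from j₀ the composite G_j → G → F is an epimorphism. -/
theorem result {X : Scheme.{u}} [CompactSpace X]
    {J : Type u} [SmallCategory J] [IsFiltered J] (D : J ⥤ X.Modules) [∀ j, Coh.IsQCoh (D.obj j)]
    (c : Cocone D) (hc : IsColimit c) [Coh.IsQCoh c.pt]
    (F : X.Modules) [Coh.IsQCoh F] (hF : CohB1.IsFT F) (u : c.pt ⟶ F) :
    Epi u ↔ ∃ j₀ : J, ∀ j : J, Nonempty (j₀ ⟶ j) → Epi (c.ι.app j ≫ u) := by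
  classical
  haveI : Nonempty J := IsFiltered.nonempty
  let sf := fun x => DerSch.stalkFunctor X x
  have hmono : ∀ {j j' : J} (a : j ⟶ j') (x : X),
      Function.Surjective ((sf x).map (c.ι.app j ≫ u)).hom → Function.Surjective ((sf x).map (c.ι.app j' ≫ u)).hom := by
    intro j j' a x h y
    obtain ⟨z, hz⟩ := h y
    refine ⟨((sf x).map (D.map a)).hom z, ?_⟩
    rw [← c.w a, Category.assoc, Functor.map_comp, ModuleCat.hom_comp, LinearMap.comp_apply] at hz
    exact hz
  constructor
  · intro hu
    let U : J → Set X := fun j => (CohB1.support (cokernel (c.ι.app j ≫ u)))ᶜ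
    have hU : ∀ j, IsOpen (U j) := fun j =>
      (QCohLib.isClosed_support _ (QCohLib.isFT_of_epi (cokernel.π (c.ι.app j ≫ u)) hF)).isOpen_compl
    have hUiff : ∀ j (x : X), x ∈ U j ↔ Function.Surjective ((sf x).map (c.ι.app j ≫ u)).hom := fun j x =>
      ⟨fun h => (CohCmpLib.surjective_stalk_iff x).2 (not_not.mp h),
        fun h h' => h' ((CohCmpLib.surjective_stalk_iff x).1 h)⟩
    have hcov : Set.univ ⊆ ⋃ j, U j := by
      intro x _
      haveI : PreservesColimitsOfSize.{u, u} (sf x) := inferInstance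
      haveI : Module.Finite (X.presheaf.stalk x) ((sf x).obj F) := DepthLib.finite_stalk F hF x
      have hsurj : Function.Surjective ((sf x).map u).hom := (ModuleCat.epi_iff_surjective _).1 inferInstance
      obtain ⟨s, hs⟩ := Module.Finite.fg_top (R := X.presheaf.stalk x) (M := (sf x).obj F)
      choose z hz using fun y : s => hsurj y.1
      choose k w hw using fun y : s =>
        Concrete.isColimit_exists_rep _ (isColimitOfPreserves (sf x) hc) (z y)
      obtain ⟨j, hj⟩ := IsFiltered.sup_objs_exists (Finset.univ.image k)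
      refine Set.mem_iUnion.mpr ⟨j, (hUiff j x).2 (LinearMap.range_eq_top.1 (top_le_iff.1 ?_))⟩
      rw [← hs, Submodule.span_le]
      intro y hy
      obtain ⟨a⟩ := hj (Finset.mem_image_of_mem k (Finset.mem_univ ⟨y, hy⟩))
      refine ⟨((sf x).map (D.map a)).hom (w ⟨y, hy⟩), ?_⟩
      have h1 : ((sf x).map (D.map a ≫ c.ι.app j ≫ u)).hom (w ⟨y, hy⟩) = y := by
        rw [← Category.assoc, c.w a, Functor.map_comp, ModuleCat.hom_comp, LinearMap.comp_apply]
        exact (congrArg ((sf x).map u).hom (hw ⟨y, hy⟩)).trans (hz ⟨y, hy⟩)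
      rw [Functor.map_comp, ModuleCat.hom_comp, LinearMap.comp_apply] at h1
      exact h1
    have hdir : Directed (· ⊆ ·) U := fun i j =>
      ⟨IsFiltered.max i j, fun x hx => (hUiff _ x).2 (hmono (IsFiltered.leftToMax i j) x ((hUiff i x).1 hx)),
        fun x hx => (hUiff _ x).2 (hmono (IsFiltered.rightToMax i j) x ((hUiff j x).1 hx))⟩
    obtain ⟨j₀, hj₀⟩ := isCompact_univ.elim_directed_cover U hU hcov hdir
    refine ⟨j₀, fun j ⟨a⟩ => CohCmpLib.epi_of_stalk_surjective fun x => ?_⟩
    exact hmono a x ((hUiff j₀ x).1 (hj₀ (Set.mem_univ x)))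
  · rintro ⟨j₀, h⟩
    haveI := h j₀ ⟨𝟙 _⟩
    exact epi_of_epi (c.ι.app j₀) u

end Groth.Agent.S10857
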