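import Groth.Statements.S10859
import Groth.Agent.GrassLib.Quot

set_option autoImplicit false
universe u
open Grass

namespace Groth.Agent.S10859

open AlgebraicGeometry CategoryTheory in
/-- Let R be a commutative ring, v : M₁ → M₂ a surjective homomorphism of R-modules and k a natural
number. Suppose X₁ and X₂ are schemes over Spec R representing the Grassmannian functors of rank-k
locally free quotients of M₁ and of M₂ (bijections e₁, e₂ between Spec R-morphisms Spec A → X_i and
submodules of A ⊗_R M_i with finite projective quotient of constant rank k, compatible with base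
change along R-algebra maps). Then there is a Spec R-morphism c : X₂ → X₁ which on A-valued points
sends a submodule N of A ⊗_R M₂ to its preimage under A ⊗ v, and every such c is a closed immersion.
(The published statement is for a surjection of quasi-coherent modules over an arbitrary base
scheme, where the two Grassmannians are known to be schemes; this row takes the base affine and the
two representing schemes as hypotheses, with no finiteness condition on the modules.) -/
theorem result (R : Type u) [CommRing R]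
    (M₁ M₂ : Type u) [AddCommGroup M₁] [Module R M₁]
    [AddCommGroup M₂] [Module R M₂]
    (v : M₁ →ₗ[R] M₂) (hv : Function.Surjective v) (k : ℕ)
    (X₁ X₂ : Over (Spec (CommRingCat.of R)))
    (e₁ : ∀ A : CommAlgCat.{u} R,
      (Over.mk (Spec.map (CommRingCat.ofHom (algebraMap R A))) ⟶ X₁) ≃
        (Module.Grassmannian.functor (R := R) (M := M₁) k).obj A)
    (he₁ : ∀ (A B : CommAlgCat.{u} R) (φ : A ⟶ B)
      (g : Over.mk (Spec.map (CommRingCat.ofHom (algebraMap R A))) ⟶ X₁)
      (g' : Over.mk (Spec.map (CommRingCat.ofHom (algebraMap R B))) ⟶ X₁),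
      g'.left = Spec.map (CommRingCat.ofHom φ.hom.toRingHom) ≫ g.left →
        e₁ B g' = (Module.Grassmannian.functor (R := R) (M := M₁) k).map φ (e₁ A g))
    (e₂ : ∀ A : CommAlgCat.{u} R,
      (Over.mk (Spec.map (CommRingCat.ofHom (algebraMap R A))) ⟶ X₂) ≃
        (Module.Grassmannian.functor (R := R) (M := M₂) k).obj A)
    (he₂ : ∀ (A B : CommAlgCat.{u} R) (φ : A ⟶ B)
      (g : Over.mk (Spec.map (CommRingCat.ofHom (algebraMap R A))) ⟶ X₂)
      (g' : Over.mk (Spec.map (CommRingCat.ofHom (algebraMap R B))) ⟶ X₂),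
      g'.left = Spec.map (CommRingCat.ofHom φ.hom.toRingHom) ≫ g.left →
        e₂ B g' = (Module.Grassmannian.functor (R := R) (M := M₂) k).map φ (e₂ A g)) :
    (∃ c : X₂ ⟶ X₁, ∀ (A : CommAlgCat.{u} R)
        (g : Over.mk (Spec.map (CommRingCat.ofHom (algebraMap R A))) ⟶ X₂),
        (e₁ A (g ≫ c)).toSubmodule = (e₂ A g).toSubmodule.comap (v.baseChange A)) ∧
      ∀ c : X₂ ⟶ X₁, (∀ (A : CommAlgCat.{u} R)
        (g : Over.mk (Spec.map (CommRingCat.ofHom (algebraMap R A))) ⟶ X₂),
        (e₁ A (g ≫ c)).toSubmodule = (e₂ A g).toSubmodule.comap (v.baseChange A)) →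
        IsClosedImmersion c.left := by
  let P₁ : GrassLib.RepPair R M₁ k := ⟨X₁, e₁, fun A B φ g g' hg => he₁ A B (CommAlgCat.ofHom φ) g g' hg⟩
  let P₂ : GrassLib.RepPair R M₂ k := ⟨X₂, e₂, fun A B φ g g' hg => he₂ A B (CommAlgCat.ofHom φ) g g' hg⟩
  obtain ⟨c, hc⟩ := GrassLib.exists_quot_morphism hv P₁ P₂
  refine ⟨⟨c, fun A g => ?_⟩, fun c hc => ?_⟩
  · have h3 : ∀ {ζ ζ' : GrassLib.Fam R M₁ k X₂.left}, ζ = ζ' → ∀ (a : GrassLib.APt ζ.g A)
        (b : GrassLib.APt ζ'.g A), a.hom = b.hom → ζ.val A a = ζ'.val A b := by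
      rintro ζ _ rfl a b hab
      exact ζ.val_congr hab
    have h := h3 hc ⟨g.left, by
      rw [show (GrassLib.Fam.map c.left P₁.fam).g = X₂.hom from Over.w c]; exact Over.w g⟩ ⟨g.left, Over.w g⟩ rfl
    exact congrArg Module.Grassmannian.toSubmodule h
  · refine GrassLib.isClosedImmersion_of_quot hv P₁ P₂ c.left (GrassLib.Fam.ext' (Over.w c) fun A a b hab => ?_)
    refine Module.Grassmannian.ext ?_
    refine Eq.trans ?_ (hc A (Over.homMk b.hom b.over))
    show (e₁ A _).toSubmodule = (e₁ A _).toSubmodule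
    congr 2
    exact Over.OverMorphism.ext (by show a.hom ≫ c.left = b.hom ≫ c.left; rw [hab])


end Groth.Agent.S10859
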