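import Groth.Statements.S10863
import Mathlib.RingTheory.LocalRing.ResidueField.Ideal
import Mathlib.RingTheory.TensorProduct.Maps
import Mathlib.RingTheory.Artinian.Module
import Mathlib.FieldTheory.SeparableDegree

set_option autoImplicit false
set_option backward.isDefEq.respectTransparency false
set_option backward.isDefEq.respectTransparency.types false
universe u
open CAlg

namespace Groth.Agent.S10863

open TensorProduct in
/-- Let k be a field, A a finite-dimensional local k-algebra with residue field κ, and k' a field
extension of k. Then the separable degree of κ over k equals the sum over the maximal ideals m' of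
k' ⊗_k A (the points of the base-changed finite scheme lying over the given point) of the separable
degrees over k' of their residue fields. -/
theorem result (k A k' : Type u) [Field k] [CommRing A] [Algebra k A]
    [Module.Finite k A] [IsLocalRing A] [Field k'] [Algebra k k'] :
    Field.finSepDegree k (IsLocalRing.ResidueField A) =
      ∑ᶠ m : MaximalSpectrum (k' ⊗[k] A),
        Field.finSepDegree k' (IsLocalRing.ResidueField (Localization.AtPrime m.asIdeal)) := by
  classical
  let Ω := AlgebraicClosure k'
  let κ := IsLocalRing.ResidueField A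
  -- maps of `A` to a field kill the maximal ideal
  haveI : IsArtinianRing A := IsArtinianRing.of_finite k A
  haveI : Module.Finite k κ := Module.Finite.of_surjective
    (IsScalarTower.toAlgHom k A κ).toLinearMap IsLocalRing.residue_surjective
  have h1 : Field.finSepDegree k κ = Nat.card (A →ₐ[k] Ω) := by
    rw [Field.finSepDegree_eq_of_isAlgClosed k κ Ω]
    refine Nat.card_congr (Equiv.ofBijective (fun ψ => ψ.comp (IsScalarTower.toAlgHom k A κ))
      ⟨fun a b h => AlgHom.ext fun z => ?_, fun φ => ?_⟩)
    · obtain ⟨z, rfl⟩ := IsLocalRing.residue_surjective z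
      exact DFunLike.congr_fun h z
    · haveI := RingHom.ker_isPrime φ.toRingHom
      have hker : RingHom.ker φ.toRingHom = IsLocalRing.maximalIdeal A :=
        IsLocalRing.eq_maximalIdeal inferInstance
      refine ⟨Ideal.Quotient.liftₐ (IsLocalRing.maximalIdeal A) φ
        (fun a ha => RingHom.mem_ker.1 (hker.ge ha)), AlgHom.ext fun a => rfl⟩
  let B := k' ⊗[k] A
  haveI : IsArtinianRing B := IsArtinianRing.of_finite k' B
  let Km : MaximalSpectrum B → Type u := fun m => m.asIdeal.ResidueField
  haveI : ∀ m : MaximalSpectrum B, Module.Finite k' (Km m) := fun m =>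
    Module.Finite.trans B (Km m)
  let e : (Σ m : MaximalSpectrum B, (m.asIdeal.ResidueField →ₐ[k'] Ω)) → (B →ₐ[k'] Ω) :=
    fun p => p.2.comp (IsScalarTower.toAlgHom k' B p.1.asIdeal.ResidueField)
  have hker : ∀ p, RingHom.ker (e p).toRingHom = p.1.asIdeal := fun p => by
    ext b
    rw [RingHom.mem_ker]
    show p.2 (algebraMap B _ b) = 0 ↔ _
    rw [map_eq_zero, Ideal.algebraMap_residueField_eq_zero]
  have he : Function.Bijective e := by
    refine ⟨?_, fun φ => ?_⟩
    · rintro ⟨m, a⟩ ⟨m', b⟩ h
      obtain rfl : m = m' := MaximalSpectrum.ext ((hker ⟨m, a⟩).symm.trans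
        ((congrArg (fun g : B →ₐ[k'] Ω => RingHom.ker g.toRingHom) h).trans (hker ⟨m', b⟩)))
      congr 1
      refine AlgHom.ext fun z => ?_
      obtain ⟨z, rfl⟩ := m.asIdeal.algebraMap_residueField_surjective z
      exact DFunLike.congr_fun h z
    · haveI := RingHom.ker_isPrime φ.toRingHom
      haveI : (RingHom.ker φ.toRingHom).IsMaximal := IsArtinianRing.isMaximal_of_isPrime _
      let m : MaximalSpectrum B := ⟨RingHom.ker φ.toRingHom, inferInstance⟩
      let q := AlgEquiv.ofBijective (IsScalarTower.toAlgHom k' (B ⧸ m.asIdeal) m.asIdeal.ResidueField)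
        (Ideal.bijective_algebraMap_quotient_residueField m.asIdeal)
      refine ⟨⟨m, (Ideal.Quotient.liftₐ m.asIdeal φ (fun a ha => ha)).comp q.symm.toAlgHom⟩,
        AlgHom.ext fun b => ?_⟩
      show (Ideal.Quotient.liftₐ m.asIdeal φ (fun a ha => ha)) (q.symm (algebraMap B _ b)) = φ b
      rw [show algebraMap B m.asIdeal.ResidueField b = q (Ideal.Quotient.mk m.asIdeal b) from
        (IsScalarTower.algebraMap_apply B (B ⧸ m.asIdeal) _ b), AlgEquiv.symm_apply_apply]
      rfl
  letI := Fintype.ofFinite (MaximalSpectrum B)
  show Field.finSepDegree k κ = _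
  rw [h1, Nat.card_congr (Algebra.TensorProduct.liftEquivRight k k' A Ω),
    ← Nat.card_eq_of_bijective e he, Nat.card_sigma, finsum_eq_sum_of_fintype]
  exact Finset.sum_congr rfl fun m _ =>
    (Field.finSepDegree_eq_of_isAlgClosed k' m.asIdeal.ResidueField Ω).symm

end Groth.Agent.S10863
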