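import Groth.Statements.S10865
import Groth.Agent.DevissExtLib.Data
-- import your own Groth.Agent.* helpers here

set_option autoImplicit false
universe u
open Coherent

namespace Groth.Agent.S10865

open CategoryTheory CategoryTheory.Limits AlgebraicGeometry in
/-- Let X be a nonempty Noetherian scheme and K an isomorphism-closed class of O_X-modules such that (a)
in a short exact sequence of coherent modules, if the middle and right terms lie in K so does the
left one, and if the two outer terms lie in K so does the middle one; (b) if a coherent F has some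
d-fold direct sum (d ≥ 1) in K then F lies in K. If for every integral closed subscheme i : Z → X
there is a coherent O_Z-module with nonzero stalk at the generic point whose direct image under i
lies in K, then every coherent O_X-module lies in K. (For the empty scheme the hypotheses hold for
the empty class, so X is taken nonempty here.) -/
theorem result (X : Scheme.{u}) [IsNoetherian X] [Nonempty X]
    (K : ObjectProperty X.Modules) [K.IsClosedUnderIsomorphisms]
    (ha : ∀ S : ShortComplex X.Modules, S.ShortExact → Coh.IsCoh S.X₁ → Coh.IsCoh S.X₂ → Coh.IsCoh S.X₃ →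
      (K S.X₂ → K S.X₃ → K S.X₁) ∧ (K S.X₁ → K S.X₃ → K S.X₂))
    (hb : ∀ (F : X.Modules) (d : ℕ), 1 ≤ d → Coh.IsCoh F → K (∐ fun _ : Fin d => F) → K F)
    (hgen : ∀ (Z : Scheme.{u}) (i : Z ⟶ X) [IsClosedImmersion i] [IsIntegral Z],
      ∃ H : Z.Modules, Coh.IsCoh H ∧ Nontrivial (H.presheaf.stalk (genericPoint Z)) ∧
        K ((Scheme.Modules.pushforward i).obj H))
    (F : X.Modules) (hF : Coh.IsCoh F) : K F := by
  have hgen' : ∀ η : X, ∃ (Z : Scheme.{u}) (i : Z ⟶ X), IsClosedImmersion i ∧ IsIntegral Z ∧
      Set.range ⇑i = closure {η} := fun η =>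
    DevissLib.exists_integral_closed isClosed_closure (isIrreducible_singleton (x := η)).closure
  have h0 : ∀ M : X.Modules, IsZero M → K M := fun M hM => by
    obtain ⟨x⟩ := ‹Nonempty X›
    obtain ⟨Z, i, hi, hZ, -⟩ := hgen' x
    obtain ⟨H, hH, -, hKH⟩ := hgen Z i
    let G := (Scheme.Modules.pushforward i).obj H
    let S : ShortComplex X.Modules := ShortComplex.mk (0 : M ⟶ G) (𝟙 G) zero_comp
    have hS : S.ShortExact :=
      { exact := (ShortComplex.exact_iff_mono _ rfl).mpr inferInstance
        mono_f := ⟨fun a b _ => hM.eq_of_tgt a b⟩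
        epi_g := inferInstanceAs (Epi (𝟙 G)) }
    have hGc : Coh.IsCoh G := QCohLib.isCoh_push_finite i H hH
    exact (ha S hS (DevissLib.isCoh_of_isZero hM) hGc hGc).1 hKH hKH
  refine DevissExt.devissage K (fun M N ⟨e⟩ h => K.prop_of_iso e h) h0 (fun S hS a b c => (ha S hS a b c).2)
    (fun M r hM hr h => hb M r hr hM h) Set.univ isClosed_univ (fun η _ ih => ?_) F hF (Set.subset_univ _)
  obtain ⟨Z, i, hi, hZ, hr⟩ := hgen' η
  obtain ⟨H, hH, hnt, hKH⟩ := hgen Z i
  have hη : i (genericPoint Z) = η :=
    IsGenericPoint.eq (S := closure {η}) ((DevissExt.closure_generic i).trans hr) rfl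
  subst hη
  exact DevissExt.gdata_of_left K (fun S hS a b c => (ha S hS a b c).1) ih
    (QCohLib.isCoh_push_finite i H hH) ((DevissLib.support_push_subset i H).trans hr.le)
    (DevissExt.mem_support_push_of_nontrivial i H hnt)
    (fun r hr m => DevissExt.killed_stalk (fun U hU hη a ha s => DevissExt.smul_push_eq_zero i H U hU hη a ha s) r hr m)
    hKH

end Groth.Agent.S10865
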