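import Groth.Statements.S10866
import Groth.Agent.CohExtLib.Generic
import Groth.Agent.DevissExtLib.Data
import Groth.Agent.KHeartLib.CohSupp

set_option autoImplicit false
universe u
open Coherent

namespace Groth.Agent.S10866

open CategoryTheory AlgebraicGeometry in
/-- Let f : X → Y be a morphism of Noetherian schemes such that for every integral closed subscheme i :
Z → X there is a coherent O_Z-module with nonzero stalk at the generic point of Z whose direct image
under i followed by f is coherent on Y. Then the direct image f_*F of every coherent O_X-module F is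
coherent. -/
theorem result {X Y : Scheme.{u}} [IsNoetherian X] [IsNoetherian Y]
    (f : X ⟶ Y)
    (hgen : ∀ (Z : Scheme.{u}) (i : Z ⟶ X) [IsClosedImmersion i] [IsIntegral Z],
      ∃ H : Z.Modules, Coh.IsCoh H ∧ Nontrivial (H.presheaf.stalk (genericPoint Z)) ∧
        Coh.IsCoh ((Scheme.Modules.pushforward (i ≫ f)).obj H))
    (F : X.Modules) (hF : Coh.IsCoh F) : Coh.IsCoh ((Scheme.Modules.pushforward f).obj F) := by
  haveI : (Coh.push f).IsRightAdjoint :=
    (Scheme.Modules.pullbackPushforwardAdjunction f).isRightAdjoint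
  haveI : (Coh.push f).Additive := Functor.additive_of_preserves_binary_products _
  refine DevissExt.devissage (fun M : X.Modules => Coh.IsCoh ((Coh.push f).obj M))
    (fun M N ⟨e⟩ h => QCohLib.isCoh_of_iso ((Coh.push f).mapIso e) h)
    (fun M h => DevissLib.isCoh_of_isZero ((Coh.push f).map_isZero h)) ?_ ?_ Set.univ isClosed_univ ?_ F hF
    (Set.subset_univ _)
  · intro S hS h1 h2 h3 hP1 hP3
    haveI := h2.1
    haveI := hP1.1
    haveI := hP3.1
    haveI : Coh.IsQCoh ((Coh.push f).obj S.X₂) := QCohLib.isQCoh_pushforward f S.X₂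
    haveI := hS.mono_f
    let φ := (Coh.push f).map S.g
    have hI : Coh.IsCoh (Abelian.image φ) :=
      QCohLib.isCoh_of_mono (Abelian.image.ι φ) hP3 (QCohLib.isQCoh_image φ)
    have hl := Limits.KernelFork.mapIsLimit _ hS.fIsKernel (Coh.push f)
    let e : (Coh.push f).obj S.X₁ ≅ Limits.kernel φ :=
      Limits.IsLimit.conePointUniqueUpToIso hl (Limits.limit.isLimit _)
    exact Groth.Agent.KHeartLib.isCoh_of_shortExact (DevissLib.kerImSeq_shortExact φ)
      (QCohLib.isCoh_of_iso e hP1) hI
  · intro M r hM hr h
    haveI := hM.1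
    let j := Limits.Sigma.ι (fun _ : Fin r => M) ⟨0, hr⟩
    haveI : Mono ((Coh.push f).map j) := inferInstance
    exact QCohLib.isCoh_of_mono ((Coh.push f).map j) h (QCohLib.isQCoh_pushforward f M)
  · intro η _ _
    obtain ⟨Z, i, hi, hZ, hr⟩ :=
      DevissLib.exists_integral_closed (X := X) isClosed_closure (isIrreducible_singleton (x := η)).closure
    haveI := hi
    haveI := hZ
    obtain ⟨H, hH, hnt, hcoh⟩ := hgen Z i
    have hξ : i (genericPoint Z) = η :=
      IsGenericPoint.eq (S := closure {η}) ((DevissExt.closure_generic i).trans hr) rfl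
    let G := (Coh.push i).obj H
    have hG : Coh.IsCoh G := QCohLib.isCoh_push_finite i H hH
    have hPG : Coh.IsCoh ((Coh.push f).obj G) :=
      QCohLib.isCoh_of_iso ((Scheme.Modules.pushforwardComp i f).app H).symm hcoh
    refine ⟨G, hG, (DevissLib.support_push_subset i H).trans hr.le,
      hξ ▸ DevissExt.mem_support_push_of_nontrivial i H hnt, ?_, fun J hJ => ?_⟩
    · subst hξ
      exact fun a ha m => DevissExt.killed_stalk (DevissExt.smul_push_eq_zero i H) a ha m
    · have hJG := CohExtLib.isCoh_idealMul J hG
      haveI := hJG.1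
      refine ⟨_, 𝟙 _, inferInstance, hJG.1, ?_, ?_⟩
      · rw [Category.id_comp]
        exact CohExtLib.bijective_stalk_idealMulι J G hJ
      · haveI : Mono ((Coh.push f).map (Dual3.idealMulι J G)) := inferInstance
        exact QCohLib.isCoh_of_mono ((Coh.push f).map (Dual3.idealMulι J G)) hPG
          (QCohLib.isQCoh_pushforward f _)

end Groth.Agent.S10866
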