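import Groth.Statements.S10867
import Mathlib
import Groth.Agent.S9566

set_option autoImplicit false
universe u
open Mor

namespace Groth.Agent.S10867

open CategoryTheory CategoryTheory.Limits AlgebraicGeometry

theorem formallyUnramified_of_closedPoints {X Y : Scheme.{u}} (f : X ⟶ Y) [LocallyOfFiniteType f]
    [JacobsonSpace X] (h : ∀ x : X, IsClosed ({x} : Set X) → (f.stalkMap x).hom.FormallyUnramified) :
    FormallyUnramified f := by
  constructor
  intro U hU V hV e
  letI := (f.appLE U V e).hom.toAlgebra
  haveI : Algebra.FiniteType Γ(Y, U) Γ(X, V) := f.finiteType_appLE hU hV e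
  change Algebra.FormallyUnramified Γ(Y, U) Γ(X, V)
  rw [Algebra.formallyUnramified_iff_forall]
  intro P
  obtain ⟨M, hM, hPM⟩ := Ideal.exists_le_maximal P.asIdeal P.2.ne_top
  suffices hMu : Algebra.IsUnramifiedAt Γ(Y, U) M by
    exact Algebra.isOpen_unramifiedLocus.stableUnderGeneralization
      ((PrimeSpectrum.le_iff_specializes P ⟨M, hM.isPrime⟩).mp hPM) hMu
  let v : Spec Γ(X, V) := ⟨M, hM.isPrime⟩
  have hxV : hV.fromSpec v ∈ V := by
    have := Set.mem_range_self (f := hV.fromSpec) v
    rw [hV.range_fromSpec] at this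
    exact this
  have hpo : hV.primeIdealOf ⟨hV.fromSpec v, hxV⟩ = v :=
    hV.fromSpec.isOpenEmbedding.injective (hV.fromSpec_primeIdealOf _)
  have hx : IsClosed ({hV.fromSpec v} : Set X) := by
    have : v ∈ closedPoints (Spec Γ(X, V)) :=
      mem_closedPoints_iff.mpr ((PrimeSpectrum.isClosed_singleton_iff_isMaximal v).mpr hM)
    rw [← hV.fromSpec.isOpenEmbedding.preimage_closedPoints] at this
    exact mem_closedPoints_iff.mp this
  have hunr := h _ hx
  let p := (hU.primeIdealOf ⟨f (hV.fromSpec v), e hxV⟩).asIdeal
  let q := (hV.primeIdealOf ⟨hV.fromSpec v, hxV⟩).asIdeal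
  haveI : q.LiesOver p :=
    ⟨congr($(IsAffineOpen.comap_primeIdealOf_appLE U hU V hV e hxV).1).symm⟩
  letI := Localization.AtPrime.algebraOfLiesOver p q
  haveI : Algebra.FormallyUnramified (Localization.AtPrime p) (Localization.AtPrime q) :=
    RingHom.formallyUnramified_algebraMap.mp
      ((RingHom.FormallyUnramified.respectsIso.arrow_mk_iso_iff
        (IsAffineOpen.arrowStalkMapIso f U hU V hV e hxV)).mp hunr)
  have hq : Algebra.IsUnramifiedAt Γ(Y, U) q :=
    Algebra.FormallyUnramified.comp _ (Localization.AtPrime p) _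
  have : (⟨q, inferInstance⟩ : PrimeSpectrum Γ(X, V)) ∈ Algebra.unramifiedLocus Γ(Y, U) Γ(X, V) := hq
  rw [show (⟨q, inferInstance⟩ : PrimeSpectrum Γ(X, V)) = v from hpo] at this
  exact this

theorem formallyUnramified_stalkMap {k : Type u} [Field k] [IsAlgClosed k]
    {X Y : Scheme.{u}} (f : X ⟶ Y) (q : Y ⟶ Spec (CommRingCat.of k)) [LocallyOfFiniteType q]
    [LocallyOfFiniteType (f ≫ q)] [LocallyOfFiniteType f] (x : X) (hx : IsClosed ({x} : Set X))
    (hT : Ideal.map (f.stalkMap x).hom (IsLocalRing.maximalIdeal (Y.presheaf.stalk (f.base x))) ⊔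
        IsLocalRing.maximalIdeal (X.presheaf.stalk x) ^ 2 = IsLocalRing.maximalIdeal (X.presheaf.stalk x)) :
    (f.stalkMap x).hom.FormallyUnramified := by
  haveI : IsLocallyNoetherian X := LocallyOfFiniteType.isLocallyNoetherian (f ≫ q)
  rw [Groth.Agent.S9566.formallyUnramified_stalk_iff f x]
  have hm : Ideal.map (f.stalkMap x).hom (IsLocalRing.maximalIdeal (Y.presheaf.stalk (f x))) =
      IsLocalRing.maximalIdeal (X.presheaf.stalk x) := by
    refine le_antisymm (le_sup_left.trans hT.le) ?_
    refine Submodule.le_of_le_smul_of_le_jacobson_bot (I := IsLocalRing.maximalIdeal (X.presheaf.stalk x))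
      (IsNoetherian.noetherian _) (IsLocalRing.maximalIdeal_le_jacobson _) ?_
    rw [smul_eq_mul, ← sq]
    exact hT.ge
  have hs : Function.Surjective (f.residueFieldMap x).hom := by
    have he : (residueFieldIsoBase (f ≫ q) x hx).inv =
        Spec.preimage (Y.fromSpecResidueField (f x) ≫ q) ≫ f.residueFieldMap x := by
      apply Spec.map_injective
      rw [Spec.map_comp, Spec.map_preimage, SpecMap_residueFieldIsoBase_inv,
        Scheme.Hom.SpecMap_residueFieldMap_fromSpecResidueField_assoc]
    intro a
    obtain ⟨b, hb⟩ := (ConcreteCategory.bijective_of_isIso (residueFieldIsoBase (f ≫ q) x hx).inv).surjective a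
    rw [he] at hb
    exact ⟨_, hb⟩
  letI := (f.residueFieldMap x).hom.toAlgebra
  refine ⟨hm, Module.Finite.of_surjective (Algebra.linearMap (Y.residueField (f x)) (X.residueField x)) hs, ⟨fun a => ?_⟩⟩
  obtain ⟨b, rfl⟩ := hs a
  exact isSeparable_algebraMap b

/-- In the case of an algebraically closed base field k and K = k: let X, Y be k-schemes of finite type
and f : X → Y a proper k-morphism which is injective on closed points and such that for every closed
point x of X the ideal generated by the image of the maximal ideal of the local ring at f(x),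
together with the square of the maximal ideal at x, is the whole maximal ideal at x (the cotangent
map is surjective, i.e. the tangent map at x is injective). Then f is a closed immersion. (The
published statement allows any field k and tests points and tangent spaces with values in an
algebraically closed extension K of k; this row is the case K = k.) -/
theorem result (k : Type u) [Field k] [IsAlgClosed k]
    {X Y : Scheme.{u}} (f : X ⟶ Y) (q : Y ⟶ Spec (CommRingCat.of k)) [LocallyOfFiniteType q] [QuasiCompact q]
    [LocallyOfFiniteType (f ≫ q)] [IsProper f]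
    (hinj : Set.InjOn f.base {x : X | IsClosed ({x} : Set X)})
    (hT : ∀ x : X, IsClosed ({x} : Set X) →
      Ideal.map (f.stalkMap x).hom (IsLocalRing.maximalIdeal (Y.presheaf.stalk (f.base x))) ⊔
        IsLocalRing.maximalIdeal (X.presheaf.stalk x) ^ 2 = IsLocalRing.maximalIdeal (X.presheaf.stalk x)) :
    IsClosedImmersion f := by
  haveI : JacobsonSpace X := LocallyOfFiniteType.jacobsonSpace (f ≫ q)
  haveI : FormallyUnramified f :=
    formallyUnramified_of_closedPoints f fun x hx => formallyUnramified_stalkMap f q x hx (hT x hx)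
  let Δ := pullback.diagonal f
  let π : pullback f f ⟶ Spec (CommRingCat.of k) := pullback.fst f f ≫ f ≫ q
  haveI : JacobsonSpace (pullback f f : Scheme.{u}) := LocallyOfFiniteType.jacobsonSpace π
  have hcl : ∀ z : (pullback f f : Scheme.{u}), IsClosed ({z} : Set _) → z ∈ Set.range Δ.base := by
    intro z hz
    let t := pointOfClosedPoint π z hz
    have h1 : (t ≫ pullback.fst f f) ≫ (f ≫ q) = 𝟙 _ := by
      rw [Category.assoc]; exact pointOfClosedPoint_comp π z hz
    have h2 : (t ≫ pullback.snd f f) ≫ (f ≫ q) = 𝟙 _ := by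
      rw [Category.assoc, ← pullback.condition_assoc]; exact pointOfClosedPoint_comp π z hz
    have he : t ≫ pullback.fst f f = t ≫ pullback.snd f f := by
      refine ext_of_apply_closedPoint_eq (f ≫ q) h1 h2 ?_
      refine hinj (pointEquivClosedPoint (f ≫ q) ⟨_, h1⟩).2 (pointEquivClosedPoint (f ≫ q) ⟨_, h2⟩).2 ?_
      change ((t ≫ pullback.fst f f) ≫ f).base (IsLocalRing.closedPoint k) =
        ((t ≫ pullback.snd f f) ≫ f).base (IsLocalRing.closedPoint k)
      simp only [Category.assoc, pullback.condition]
    have ht : t = (t ≫ pullback.fst f f) ≫ Δ := by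
      apply pullback.hom_ext
      · rw [Category.assoc, Category.assoc]; erw [pullback.diagonal_fst]; rw [Category.comp_id]
      · rw [Category.assoc, Category.assoc]; erw [pullback.diagonal_snd]; rw [Category.comp_id]; exact he.symm
    refine ⟨(t ≫ pullback.fst f f).base (IsLocalRing.closedPoint k), ?_⟩
    rw [← Scheme.Hom.comp_apply, ← ht]
    exact pointOfClosedPoint_apply π z hz _
  haveI : Surjective Δ := ⟨fun z => by
    by_contra hz
    obtain ⟨w, hw, hwc⟩ := nonempty_inter_closedPoints (Z := (Set.range Δ.base)ᶜ) ⟨z, hz⟩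
      Δ.isOpenEmbedding.isOpen_range.isClosed_compl.isLocallyClosed
    exact hw (hcl w hwc)⟩
  haveI : IsIso Δ :=
    (isIso_iff_isOpenImmersion_and_surjective _).mpr ⟨inferInstance, inferInstance⟩
  haveI : Mono f := (pullback.isIso_diagonal_iff f).mp ‹IsIso Δ›
  exact (IsClosedImmersion.iff_isProper_and_mono _).mpr ⟨inferInstance, inferInstance⟩

end Groth.Agent.S10867
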