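import Groth.Statements.S10868
-- import your own Groth.Agent.* helpers here

set_option autoImplicit false
universe u
open Mor

namespace Groth.Agent.S10868

open CategoryTheory AlgebraicGeometry in
/-- f : X → Y is a finite morphism exactly when it is proper and quasi-affine (quasi-compact, with the
inverse image of every affine open subscheme of Y a quasi-affine scheme). -/
theorem result {X Y : Scheme.{u}} (f : X ⟶ Y) :
    IsFinite f ↔ IsProper f ∧ Mor2.IsQuasiAffine f := by
  refine ⟨fun _ => ⟨inferInstance, inferInstance, fun V hV => ?_⟩, fun ⟨_, hq⟩ => ?_⟩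
  · haveI : IsAffine (f ⁻¹ᵁ V : Scheme) := hV.preimage f
    infer_instance
  · haveI : IsAffineHom f := ⟨fun V hV => by
      haveI : IsAffine (V : Scheme) := hV
      haveI : (f ⁻¹ᵁ V : Scheme).IsQuasiAffine := hq.2 V hV
      let W : Scheme := (f ⁻¹ᵁ V : Scheme)
      let g : W ⟶ V := f ∣_ V
      haveI : UniversallyClosed g :=
        IsZariskiLocalAtTarget.restrict (inferInstance : UniversallyClosed f) V
      have hg : g = W.toSpecΓ ≫ Spec.map g.appTop ≫ (V : Scheme).isoSpec.inv := by
        rw [← Category.assoc, ← Scheme.toSpecΓ_naturality]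
        simp [Scheme.isoSpec]
      haveI : UniversallyClosed (W.toSpecΓ ≫ Spec.map g.appTop ≫ (V : Scheme).isoSpec.inv) := by
        rw [← hg]; infer_instance
      haveI : UniversallyClosed W.toSpecΓ :=
        UniversallyClosed.of_comp_of_isSeparated W.toSpecΓ (Spec.map g.appTop ≫ (V : Scheme).isoSpec.inv)
      haveI : IsClosedImmersion W.toSpecΓ :=
        IsClosedImmersion.of_isPreimmersion _ W.toSpecΓ.isClosedMap.isClosed_range
      haveI : IsIso W.toSpecΓ := IsClosedImmersion.isIso_iff_ker_eq_bot.mpr W.ker_toSpecΓ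
      exact IsAffine.of_isIso W.toSpecΓ⟩
    exact IsFinite.iff_isProper_and_isAffineHom.mpr ⟨‹_›, ‹_›⟩

end Groth.Agent.S10868
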