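import Groth.Statements.S10870
import Groth.Agent.DetDimLib.Basic

set_option backward.isDefEq.respectTransparency false

set_option autoImplicit false
universe u
open CAlgX

namespace Groth.Agent.S10870

/-- For a field k and 0 ≤ r ≤ min(n, m), the affine determinantal scheme of n × m matrices of rank at
most r over k — the spectrum of the polynomial ring on the entries of the generic n × m matrix
modulo the ideal of its (r+1) × (r+1) minors — has dimension r(m + n − r). -/
theorem result (k : Type u) [Field k] (n m r : ℕ) (hr : r ≤ min n m) :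
    ringKrullDim (MvPolynomial (Fin n × Fin m) k ⧸ CAlgX.minorIdeal (Matrix.of fun (i : Fin n) (j : Fin m) => (MvPolynomial.X (i, j) : MvPolynomial (Fin n × Fin m) k)) (r + 1)) =
      ((r * (m + n - r) : ℕ) : WithBot ℕ∞) := by
  rcases Nat.eq_zero_or_pos m with rfl | hm
  · obtain rfl : r = 0 := by omega
    haveI : IsEmpty (Fin n × Fin 0) := inferInstance
    have hbot : CAlgX.minorIdeal (Matrix.of fun (i : Fin n) (j : Fin 0) =>
        (MvPolynomial.X (i, j) : MvPolynomial (Fin n × Fin 0) k)) (0 + 1) = ⊥ := by
      unfold CAlgX.minorIdeal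
      rw [Ideal.span_eq_bot]
      rintro _ ⟨⟨f, g⟩, rfl⟩
      exact (g 0).elim0
    rw [hbot, ringKrullDim_eq_of_ringEquiv ((RingEquiv.quotientBot _).trans
      (MvPolynomial.isEmptyRingEquiv k (Fin n × Fin 0))), ringKrullDim_eq_zero_of_field]
    simp
  · rw [show m + n - r = n + m - r by omega]
    exact DetDimLib.ringKrullDim_generic k n m r hm (by omega) (by omega)

end Groth.Agent.S10870
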