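import Groth.Statements.S10871
import Mathlib


-- import your own Groth.Agent.* helpers here

set_option autoImplicit false
universe u
open AlgebraicGeometry
open Curves

namespace Groth.Agent.S10871

/-- Every open subscheme of the spectrum of a Dedekind domain is affine. -/
theorem result (A : Type u) [CommRing A] [IsDedekindDomain A]
    (U : (Spec (CommRingCat.of A)).Opens) : IsAffineOpen U := by
  classical
  suffices h : IsAffineHom U.ι by
    haveI := h
    exact isAffine_of_isAffineHom U.ι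
  refine isAffineHom_of_forall_exists_isAffineOpen _ fun x => ?_
  suffices key : ∃ g t : A, x ∈ (PrimeSpectrum.basicOpen g : (Spec (CommRingCat.of A)).Opens) ∧
      U ⊓ (PrimeSpectrum.basicOpen g : (Spec (CommRingCat.of A)).Opens)
        = (PrimeSpectrum.basicOpen t : (Spec (CommRingCat.of A)).Opens) by
    obtain ⟨g, t, hxg, ht⟩ := key
    refine ⟨PrimeSpectrum.basicOpen g, hxg, IsAffineOpen.Spec_basicOpen (R := CommRingCat.of A) g, ?_⟩
    rw [← U.ι.isAffineOpen_iff_of_isOpenImmersion, U.ι.image_preimage_eq_opensRange_inf,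
      U.opensRange_ι, ht]
    exact IsAffineOpen.Spec_basicOpen (R := CommRingCat.of A) t
  have hbasis := PrimeSpectrum.isTopologicalBasis_basic_opens (R := A)
  by_cases hxU : x ∈ U
  · obtain ⟨_, ⟨g, rfl⟩, hxg, hgU⟩ := hbasis.exists_subset_of_mem_open hxU U.isOpen
    refine ⟨g, g, hxg, inf_eq_right.2 fun y hy => hgU hy⟩
  by_cases hU : (U : Set (Spec (CommRingCat.of A))) = ∅
  · refine ⟨1, 0, by rw [PrimeSpectrum.basicOpen_one]; trivial, ?_⟩
    rw [PrimeSpectrum.basicOpen_zero, show U = ⊥ from TopologicalSpace.Opens.ext hU]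
    exact bot_inf_eq _
  obtain ⟨y, hy⟩ := Set.nonempty_iff_ne_empty.2 hU
  obtain ⟨_, ⟨t, rfl⟩, hyt, htU⟩ := hbasis.exists_subset_of_mem_open hy U.isOpen
  have ht0 : t ≠ 0 := fun h => hyt (h ▸ zero_mem y.asIdeal)
  have htx : t ∈ x.asIdeal := by
    by_contra h
    exact hxU (htU h)
  set S : Set (Ideal A) := {q | q.IsPrime ∧ t ∈ q ∧ q ≠ x.asIdeal} with hS
  have hmax : ∀ q : Ideal A, q.IsPrime → t ∈ q → q.IsMaximal := fun q hq htq => by
    haveI := hq
    exact Ring.DimensionLEOne.maximalOfPrime (fun h => ht0 (by rwa [h, Ideal.mem_bot] at htq)) hq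
  have hfin : S.Finite := by
    have h0 : (Ideal.span {t} : Ideal A) ≠ 0 := by simpa [Ideal.span_singleton_eq_bot] using ht0
    refine ((Ideal.finite_factors h0).image fun v => v.asIdeal).subset fun q hq => ?_
    have hne : q ≠ ⊥ := fun h => ht0 (by have := hq.2.1; rwa [h, Ideal.mem_bot] at this)
    refine ⟨⟨q, hq.1, hne⟩, ?_, rfl⟩
    exact Ideal.dvd_iff_le.2 ((Ideal.span_singleton_le_iff_mem _).2 hq.2.1)
  have hex : ∀ q ∈ hfin.toFinset, ∃ a ∈ q, a ∉ x.asIdeal := by
    intro q hq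
    obtain ⟨hq1, hq2, hq3⟩ := hfin.mem_toFinset.1 hq
    exact Set.not_subset.1 fun h => hq3 ((hmax q hq1 hq2).eq_of_le x.isPrime.ne_top h)
  choose a ha hax using hex
  set g : A := ∏ q ∈ hfin.toFinset.attach, a q.1 q.2 with hg
  have hgx : g ∉ x.asIdeal := by
    rw [hg, Ideal.IsPrime.prod_mem_iff]
    push Not
    exact fun q _ => hax q.1 q.2
  refine ⟨g, t * g, hgx, ?_⟩
  ext z
  refine ⟨fun hz => ?_, fun hz => ?_⟩
  · obtain ⟨hzU, hzg⟩ := hz
    show t * g ∉ z.asIdeal
    intro hmem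
    rcases z.isPrime.mem_or_mem hmem with h | h
    · by_cases hzx : z.asIdeal = x.asIdeal
      · exact hxU ((PrimeSpectrum.ext hzx : z = x) ▸ hzU)
      · have hzS : z.asIdeal ∈ hfin.toFinset := hfin.mem_toFinset.2 ⟨z.isPrime, h, hzx⟩
        refine hzg ?_
        show g ∈ z.asIdeal
        rw [hg]
        exact z.isPrime.prod_mem_iff.2 ⟨⟨z.asIdeal, hzS⟩, Finset.mem_attach _ _, ha _ hzS⟩
    · exact hzg h
  · have hz' : t * g ∉ z.asIdeal := hz
    exact ⟨htU (fun h => hz' (Ideal.mul_mem_right _ _ h)), fun h => hz' (Ideal.mul_mem_left _ _ h)⟩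

end Groth.Agent.S10871
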