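import Groth.Statements.S6384
import Groth.Agent.FlatBCLib.Basic


-- import your own Groth.Agent.* helpers here

set_option autoImplicit false
universe u
open scoped TensorProduct
open CAlg

namespace Groth.Agent.S6384

/-- Let φ : R → R' be a ring map, I ⊆ R an ideal and M an R-module such that M/IM is R/I-flat and R' ⊗_R
M is R'-flat. Put I₂ = φ⁻¹(φ(I²) R'). Then M/I₂M is flat over R/I₂. -/
theorem result (R R' : Type u) [CommRing R] [CommRing R'] [Algebra R R']
    (I : Ideal R) (M : Type u) [AddCommGroup M] [Module R M] [Module.Flat (R ⧸ I) ((R ⧸ I) ⊗[R] M)]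
    [Module.Flat R' (R' ⊗[R] M)] :
    Module.Flat (R ⧸ ((I ^ 2).map (algebraMap R R')).comap (algebraMap R R'))
      ((R ⧸ ((I ^ 2).map (algebraMap R R')).comap (algebraMap R R')) ⊗[R] M) := by
  let I₂ : Ideal R := ((I ^ 2).map (algebraMap R R')).comap (algebraMap R R')
  let I' : Ideal R' := (I ^ 2).map (algebraMap R R')
  let N : Submodule R (R ⧸ I₂) := Submodule.map (Submodule.mkQ (I₂ : Submodule R R)) I
  let ψ : (R ⧸ I₂) →ₗ[R] (R' ⧸ I') :=
    Submodule.liftQ (I₂ : Submodule R R) ((Ideal.Quotient.mkₐ R I').toLinearMap.comp (Algebra.linearMap R R'))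
      (fun r hr => LinearMap.mem_ker.2 (show Ideal.Quotient.mk I' (algebraMap R R' r) = 0 from
        Ideal.Quotient.eq_zero_iff_mem.2 (Ideal.mem_comap.1 hr)))
  have hψ : Function.Injective ψ := by
    rw [← LinearMap.ker_eq_bot, Submodule.eq_bot_iff]
    intro y hy
    obtain ⟨r, rfl⟩ := Submodule.mkQ_surjective (I₂ : Submodule R R) y
    exact (Submodule.Quotient.mk_eq_zero _).2 (Ideal.mem_comap.2 (Ideal.Quotient.eq_zero_iff_mem.1 hy))
  let J : Submodule R' (R' ⧸ I') := Submodule.map (Submodule.mkQ (I' : Submodule R' R')) (I.map (algebraMap R R'))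
  have hmul : ∀ r ∈ I, ∀ x ∈ I, r * x ∈ I₂ := fun r hr x hx => Ideal.mem_comap.2 (Ideal.mem_map_of_mem _ (by
    rw [pow_two]; exact Ideal.mul_mem_mul hr hx))
  have hN : ∀ r ∈ I, ∀ x ∈ N, r • x = (0 : R ⧸ I₂) := by
    rintro r hr _ ⟨x, hx, rfl⟩
    exact (Submodule.Quotient.mk_eq_zero _).2 (hmul r hr x hx)
  have hA : ∀ r ∈ I, ∀ a : R ⧸ I₂, r • a ∈ N := by
    intro r hr a
    obtain ⟨x, rfl⟩ := Submodule.mkQ_surjective (I₂ : Submodule R R) a
    exact ⟨r * x, I.mul_mem_right x hr, rfl⟩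
  have hJ : ∀ r ∈ I, ∀ y : J, r • y = 0 := by
    rintro r hr ⟨_, y, hy, rfl⟩
    refine Subtype.ext ?_
    show r • Submodule.mkQ (I' : Submodule R' R') y = 0
    rw [← algebraMap_smul R' r (Submodule.mkQ (I' : Submodule R' R') y), ← map_smul]
    refine (Submodule.Quotient.mk_eq_zero _).2 ?_
    show algebraMap R R' r * y ∈ I'
    rw [show I' = (I ^ 2).map (algebraMap R R') from rfl, pow_two, Ideal.map_mul]
    exact Ideal.mul_mem_mul (Ideal.mem_map_of_mem _ hr) hy
  have hψJ : ∀ x ∈ N, ψ x ∈ J := by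
    rintro _ ⟨x, hx, rfl⟩
    exact ⟨algebraMap R R' x, Ideal.mem_map_of_mem _ hx, rfl⟩
  let j : N →ₗ[R] J :=
    { toFun := fun x => ⟨ψ x.1, hψJ x.1 x.2⟩
      map_add' := fun x y => Subtype.ext (map_add ψ x.1 y.1)
      map_smul' := fun r x => Subtype.ext (map_smul ψ r x.1) }
  have hj : Function.Injective j := fun x y h =>
    Subtype.ext (hψ (congrArg (fun z : J => (z : R' ⧸ I')) h))
  have h2 := FlatBCLib.rTensor_injective_of_smul_eq_zero (M := M) (I := I)
    (fun r hr x => Subtype.ext (hN r hr x.1 x.2)) hJ j hj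
  have h3 := FlatBCLib.rTensor_injective (R := R) (M := M) (S := R') J.subtype J.injective_subtype
  have h1 : Function.Injective (LinearMap.rTensor M N.subtype) := by
    intro z w h
    refine h2 (h3 ?_)
    rw [← LinearMap.comp_apply, ← LinearMap.comp_apply, ← LinearMap.rTensor_comp,
      show (J.subtype.restrictScalars R).comp j = ψ.comp N.subtype from LinearMap.ext fun _ => rfl,
      LinearMap.rTensor_comp, LinearMap.comp_apply, LinearMap.comp_apply, h]
  exact FlatBCLib.flat_of_rTensor_injective fun b =>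
    FlatBCLib.rTensor_injective_of_two_step N hN hA h1 (b.restrictScalars R)

end Groth.Agent.S6384
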