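import Groth.Statements.S10876
import Groth.Agent.S6384
import Groth.Agent.FlatCrit.Basic
import Groth.Agent.FlatBCLib.Basic


-- import your own Groth.Agent.* helpers here

set_option autoImplicit false
universe u
open TensorProduct
open CAlg

namespace Groth.Agent.S10876

/-- Descent of flatness along finite injective maps: let A → B be a local homomorphism of Noetherian
local rings and A → A' an injective ring homomorphism making A' a finite A-module. Then B is A-flat
if and only if the base change A' ⊗_A B is A'-flat. -/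
theorem result (A B A' : Type u) [CommRing A] [CommRing B]
    [CommRing A'] [IsNoetherianRing A] [IsLocalRing A] [IsNoetherianRing B] [IsLocalRing B]
    [Algebra A B] [IsLocalHom (algebraMap A B)] [Algebra A A'] [Module.Finite A A']
    (hinj : Function.Injective (algebraMap A A')) :
    Module.Flat A B ↔ Module.Flat A' (A' ⊗[A] B) := by
  refine ⟨fun h => inferInstance, fun h => ?_⟩
  let m := IsLocalRing.maximalIdeal A
  have hfield : Module.Flat (A ⧸ m) ((A ⧸ m) ⊗[A] B) := by
    letI := Ideal.Quotient.field m
    infer_instance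
  have step : ∀ k : ℕ, ∃ J : Ideal A, Module.Flat (A ⧸ J) ((A ⧸ J) ⊗[A] B) ∧
      J.map (algebraMap A A') ≤ (m.map (algebraMap A A')) ^ (2 ^ k) := by
    intro k
    induction k with
    | zero => exact ⟨m, hfield, by simp⟩
    | succ k ih =>
      obtain ⟨J, hJ, hle⟩ := ih
      refine ⟨((J ^ 2).map (algebraMap A A')).comap (algebraMap A A'),
        Groth.Agent.S6384.result A A' J B, Ideal.map_comap_le.trans ?_⟩
      rw [Ideal.map_pow, show 2 ^ (k + 1) = 2 ^ k * 2 from pow_succ 2 k, pow_mul]
      exact Ideal.pow_right_mono hle 2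
  let N : Submodule A A' := LinearMap.range (Algebra.linearMap A A')
  obtain ⟨c, hc⟩ := m.exists_pow_inf_eq_pow_smul N
  refine FlatCrit.flat_of_flat_quotient_pow m ((show m.map (algebraMap A B) ≤ IsLocalRing.maximalIdeal B from
    ((IsLocalRing.local_hom_TFAE (algebraMap A B)).out 0 2).1 ‹_›).trans
    (IsLocalRing.maximalIdeal_le_jacobson _)) fun j => ?_
  obtain ⟨J, hJ, hle⟩ := step (j + c)
  have hJj : J ≤ m ^ j := by
    intro x hx
    have h1 : algebraMap A A' x ∈ (m.map (algebraMap A A')) ^ (j + c) :=
      Ideal.pow_le_pow_right Nat.lt_two_pow_self.le (hle (Ideal.mem_map_of_mem _ hx))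
    have h2 : algebraMap A A' x ∈ m ^ (j + c) • (⊤ : Submodule A A') := by
      rw [Ideal.smul_top_eq_map, Ideal.map_pow]; exact h1
    have h3 : algebraMap A A' x ∈ m ^ j • N := by
      have h4 : algebraMap A A' x ∈ m ^ (j + c) • (⊤ : Submodule A A') ⊓ N := ⟨h2, x, rfl⟩
      rw [hc (j + c) (by omega), Nat.add_sub_cancel] at h4
      exact Submodule.smul_mono le_rfl inf_le_right h4
    rw [show N = (⊤ : Submodule A A).map (Algebra.linearMap A A') from (Submodule.map_top _).symm,
      ← Submodule.map_smul'', smul_eq_mul, Ideal.mul_top] at h3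
    obtain ⟨y, hy, hyx⟩ := h3
    rwa [← hinj hyx]
  refine FlatBCLib.flat_of_rTensor_injective fun b => ?_
  refine FlatBCLib.rTensor_injective_of_smul_eq_zero (M := B) (I := J) ?_ ?_
    ((b.subtype).restrictScalars A) b.injective_subtype
  · intro r hr x
    refine Subtype.ext ?_
    show r • (x : A ⧸ m ^ j) = 0
    rw [Algebra.smul_def, Ideal.Quotient.algebraMap_eq, Ideal.Quotient.eq_zero_iff_mem.2 (hJj hr), zero_mul]
  · intro r hr x
    rw [Algebra.smul_def, Ideal.Quotient.algebraMap_eq, Ideal.Quotient.eq_zero_iff_mem.2 (hJj hr), zero_mul]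

end Groth.Agent.S10876
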