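import Groth.Statements.S10877
-- import your own Groth.Agent.* helpers here

set_option autoImplicit false
universe u
open CategoryTheory AlgebraicGeometry
open FlatMor

namespace Groth.Agent.S10877

open CategoryTheory CategoryTheory.Limits AlgebraicGeometry

theorem mem_of_forall_specializes {X : Scheme.{u}} (hfin : (irreducibleComponents (X : Type u)).Finite)
    (U : X.Opens) (hd : Dense (U : Set X)) {η : X} (hmax : ∀ w, w ⤳ η → w = η) : η ∈ U := by
  let C := irreducibleComponent η
  obtain ⟨g, hg⟩ := QuasiSober.sober (isIrreducible_irreducibleComponent (x := η))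
    isClosed_irreducibleComponent
  obtain rfl : g = η := hmax g (hg.specializes mem_irreducibleComponent)
  let O : Set X := (⋃ D ∈ irreducibleComponents (X : Type u) \ {C}, D)ᶜ
  have hO : IsOpen O := ((hfin.diff).isClosed_biUnion
    fun D hD => isClosed_of_mem_irreducibleComponents D hD.1).isOpen_compl
  have hgO : g ∈ O := by
    intro hmem
    obtain ⟨D, ⟨hD, hDC⟩, hgD⟩ := Set.mem_iUnion₂.1 hmem
    apply hDC
    have hCD : C ⊆ D := hg.def.symm.subset.trans (closure_minimal (Set.singleton_subset_iff.2 hgD)
      (isClosed_of_mem_irreducibleComponents D hD))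
    exact subset_antisymm
      ((irreducibleComponent_mem_irreducibleComponents g).2 hD.1 hCD) hCD
  obtain ⟨z, hzO, hzU⟩ := hd.inter_open_nonempty O hO ⟨g, hgO⟩
  obtain ⟨D, hD, hzD⟩ : ∃ D ∈ irreducibleComponents (X : Type u), z ∈ D :=
    ⟨_, irreducibleComponent_mem_irreducibleComponents z, mem_irreducibleComponent⟩
  have hDC : D = C := by
    by_contra hne
    exact hzO (Set.mem_iUnion₂.2 ⟨D, ⟨hD, hne⟩, hzD⟩)
  subst hDC
  exact (hg.specializes hzD).mem_open U.2 hzU

/-- A separated morphism f : X → Y, with X having finitely many irreducible components, which restricts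
to an open immersion on each member of a cover of X by dense open subsets, is an open immersion. -/
theorem result {X Y : Scheme.{u}} (f : X ⟶ Y) [IsSeparated f]
    (hfin : (irreducibleComponents (X : Type u)).Finite) {ι : Type u} (U : ι → X.Opens)
    (hU : ⨆ i, U i = ⊤) (hd : ∀ i, Dense (U i : Set X)) (h : ∀ i, IsOpenImmersion ((U i).ι ≫ f)) :
    IsOpenImmersion f := by
  have hcov : ∀ x : X, ∃ i, x ∈ U i := fun x => TopologicalSpace.Opens.mem_iSup.1
    (hU.symm ▸ trivial : x ∈ ⨆ i, U i)
  have hinj : Function.Injective f := by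
    intro x₁ x₂ hx
    obtain ⟨i, hi⟩ := hcov x₁
    obtain ⟨j, hj⟩ := hcov x₂
    have := h i
    have := h j
    let a := (U i).ι ≫ f
    let b := (U j).ι ≫ f
    have hab : a (⟨x₁, hi⟩ : U i) = b (⟨x₂, hj⟩ : U j) := hx
    obtain ⟨p, hp₁, hp₂⟩ := Scheme.Pullback.exists_preimage_pullback
      (f := a) (g := b) _ _ hab
    let q : pullback a b ⟶ Y := pullback.fst a b ≫ a
    let t : pullback a b ⟶ pullback f f :=
      pullback.lift (pullback.fst a b ≫ (U i).ι) (pullback.snd a b ≫ (U j).ι)
        (by rw [Category.assoc, Category.assoc]; exact pullback.condition)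
    have hE : IsClosed (t ⁻¹' Set.range (pullback.diagonal f)) :=
      (pullback.diagonal f).isClosedEmbedding.isClosed_range.preimage t.continuous
    obtain ⟨η, hη⟩ := QuasiSober.sober (isIrreducible_irreducibleComponent (x := p))
      isClosed_irreducibleComponent
    have hηp : η ⤳ p := hη.specializes mem_irreducibleComponent
    have hηmax : ∀ w, w ⤳ η → w = η := fun w hw => by
      have h' := (irreducibleComponent_mem_irreducibleComponents p).2
        isIrreducible_singleton.closure (hη.def ▸ specializes_iff_closure_subset.1 hw)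
      rw [← hη.def] at h'
      exact (hw.antisymm (specializes_iff_closure_subset.2 h')).eq
    have haj : (pullback.fst a b η).1 ∈ U j := by
      refine mem_of_forall_specializes hfin (U j) (hd j) fun w hw => ?_
      obtain ⟨w', rfl⟩ : ∃ w' : U i, (U i).ι w' = w :=
        ⟨⟨w, (U i).2.stableUnderGeneralization hw (pullback.fst a b η).2⟩, rfl⟩
      have hw1 : w' ⤳ pullback.fst a b η := (U i).ι.isEmbedding.specializes_iff.1 hw
      obtain ⟨w'', hw''⟩ : w' ∈ Set.range (pullback.fst a b) :=
        (pullback.fst a b).isOpenEmbedding.isOpen_range.stableUnderGeneralization hw1 ⟨η, rfl⟩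
      subst hw''
      rw [hηmax w'' ((pullback.fst a b).isEmbedding.specializes_iff.1 hw1)]
      rfl
    let V := U i ⊓ U j
    let l : (V : Scheme) ⟶ pullback a b :=
      pullback.lift (X.homOfLE inf_le_left) (X.homOfLE inf_le_right) (by simp [a, b])
    let c : V := ⟨(pullback.fst a b η).1, (pullback.fst a b η).2, haj⟩
    have hl1 : pullback.fst a b (l c) = pullback.fst a b η := by
      rw [← Scheme.Hom.comp_apply, pullback.lift_fst]
      apply (U i).ι.isEmbedding.injective
      rw [← Scheme.Hom.comp_apply, Scheme.homOfLE_ι]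
      rfl
    have hlc : l c = η := (pullback.fst a b).isEmbedding.injective hl1
    have hmem : η ∈ t ⁻¹' Set.range (pullback.diagonal f) := by
      refine ⟨c.1, ?_⟩
      rw [← hlc, ← Scheme.Hom.comp_apply, show (c.1 : X) = V.ι c from rfl,
        ← Scheme.Hom.comp_apply]
      rw [show V.ι ≫ pullback.diagonal f = l ≫ t by
        apply pullback.hom_ext
        · simp only [Category.assoc, pullback.diagonal_fst, Category.comp_id, t, pullback.lift_fst]
          rw [← Category.assoc, pullback.lift_fst, Scheme.homOfLE_ι]
        · simp only [Category.assoc, pullback.diagonal_snd, Category.comp_id, t, pullback.lift_snd]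
          rw [← Category.assoc, pullback.lift_snd, Scheme.homOfLE_ι]]
    obtain ⟨z, hz⟩ := hηp.mem_closed hE hmem
    have h₁ : z = x₁ := by
      have := congrArg (pullback.fst f f) hz
      simp only [t, ← Scheme.Hom.comp_apply, pullback.lift_fst, pullback.diagonal_fst,
        ] at this
      rw [show (𝟙 X : X ⟶ X) z = z from rfl] at this
      rw [this, Scheme.Hom.comp_apply, hp₁]
      rfl
    have h₂ : z = x₂ := by
      have := congrArg (pullback.snd f f) hz
      simp only [t, ← Scheme.Hom.comp_apply, pullback.lift_snd, pullback.diagonal_snd,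
        ] at this
      rw [show (𝟙 X : X ⟶ X) z = z from rfl] at this
      rw [this, Scheme.Hom.comp_apply, hp₂]
      rfl
    rw [← h₁, h₂]
  exact IsOpenImmersion.of_openCover_source f (X.openCoverOfIsOpenCover U hU) hinj h

end Groth.Agent.S10877
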