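import Groth.Statements.S10878
import Mathlib


set_option autoImplicit false
set_option linter.all false
universe u
open CategoryTheory AlgebraicGeometry
open FlatMor

namespace Groth.Agent.S10878

theorem closed_restrict {X Y : Scheme.{u}} (f : X ⟶ Y) [IsSeparated f] (U : X.Opens)
    (hd : Dense (U : Set X)) [IsImmersion (U.ι ≫ f)] :
    f ⁻¹ᵁ (U.ι ≫ f).coborderRange = U := by
  let g := U.ι ≫ f
  let V := g.coborderRange
  have hle : U ≤ f ⁻¹ᵁ V := by
    intro x hx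
    have : g ⟨x, hx⟩ ∈ Set.range V.ι := ⟨g.liftCoborder ⟨x, hx⟩, congrArg (fun (t : U.toScheme ⟶ Y) => t ⟨x, hx⟩) g.liftCoborder_ι⟩
    rw [Scheme.Opens.range_ι] at this
    exact this
  have hfac : X.homOfLE hle ≫ (f ∣_ V) = g.liftCoborder := by
    rw [← cancel_mono V.ι, Category.assoc, morphismRestrict_ι, Scheme.homOfLE_ι_assoc, g.liftCoborder_ι]
  haveI : IsSeparated (f ∣_ V) := inferInstance
  haveI : IsClosedImmersion (X.homOfLE hle ≫ (f ∣_ V)) := by rw [hfac]; infer_instance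
  haveI : IsClosedImmersion (X.homOfLE hle) := IsClosedImmersion.of_comp _ (f ∣_ V)
  refine le_antisymm ?_ hle
  intro x hx
  by_contra hxU
  have hcl := (X.homOfLE hle).isClosedEmbedding.isClosed_range
  let O : Set X := (f ⁻¹ᵁ V).ι '' (Set.range (X.homOfLE hle))ᶜ
  have hO : IsOpen O := (f ⁻¹ᵁ V).ι.isOpenEmbedding.isOpenMap _ hcl.isOpen_compl
  have hne : O.Nonempty := by
    refine ⟨x, ⟨x, hx⟩, ?_, rfl⟩
    rintro ⟨a, ha⟩
    apply hxU
    have h2 : ((f ⁻¹ᵁ V).ι) (X.homOfLE hle a) = U.ι a := by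
      rw [← Scheme.Hom.comp_apply, Scheme.homOfLE_ι]
    rw [ha] at h2
    have h3 : x = a.1 := h2
    rw [h3]
    exact a.2
  obtain ⟨y, hyU, hyO⟩ := hd.inter_open_nonempty O hO hne
  obtain ⟨z, hz, rfl⟩ := hyU
  refine hz ⟨⟨z.1, hyO⟩, ?_⟩
  apply (f ⁻¹ᵁ V).ι.isOpenEmbedding.injective
  rw [← Scheme.Hom.comp_apply, Scheme.homOfLE_ι]
  rfl


/-- A separated morphism f : X → Y, with X having finitely many irreducible components, which restricts
to an immersion on each member of a cover of X by dense open subsets, is an immersion. -/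
theorem result {X Y : Scheme.{u}} (f : X ⟶ Y) [IsSeparated f]
    (hfin : (irreducibleComponents (X : Type u)).Finite) {ι : Type u} (U : ι → X.Opens)
    (hU : ⨆ i, U i = ⊤) (hd : ∀ i, Dense (U i : Set X)) (h : ∀ i, IsImmersion ((U i).ι ≫ f)) :
    IsImmersion f := by
  haveI := h
  let V : ι → Y.Opens := fun i => ((U i).ι ≫ f).coborderRange
  let T : Y.Opens := ⨆ i, V i
  have hT : Set.range f ⊆ Set.range T.ι := by
    rintro _ ⟨x, rfl⟩
    obtain ⟨i, hi⟩ := TopologicalSpace.Opens.mem_iSup.1 (show x ∈ ⨆ i, U i from hU ▸ trivial)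
    rw [Scheme.Opens.range_ι]
    have : x ∈ f ⁻¹ᵁ V i := (closed_restrict f (U i) (hd i)).symm ▸ hi
    exact TopologicalSpace.Opens.mem_iSup.2 ⟨i, this⟩
  let f' : X ⟶ T := IsOpenImmersion.lift T.ι f hT
  have hf' : f' ≫ T.ι = f := IsOpenImmersion.lift_fac _ _ _
  have hW : ⨆ i, T.ι ⁻¹ᵁ V i = ⊤ := by
    rw [← Scheme.Hom.preimage_iSup]
    exact T.ι_preimage_self
  haveI : IsClosedImmersion f' := by
    refine IsZariskiLocalAtTarget.of_iSup_eq_top (fun i => T.ι ⁻¹ᵁ V i) hW fun i => ?_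
    let W := T.ι ⁻¹ᵁ V i
    have hW' : f' ⁻¹ᵁ W = U i := by
      show f' ⁻¹ᵁ T.ι ⁻¹ᵁ V i = U i
      rw [← Scheme.Hom.comp_preimage, hf']
      exact closed_restrict f (U i) (hd i)
    have hr : Set.range (W.ι ≫ T.ι) = Set.range (V i).ι := by
      rw [Scheme.Opens.range_ι]
      ext y
      constructor
      · rintro ⟨a, rfl⟩; exact a.2
      · intro hy
        have hyT : y ∈ T := TopologicalSpace.Opens.mem_iSup.2 ⟨i, hy⟩
        exact ⟨⟨⟨y, hyT⟩, hy⟩, rfl⟩
    let j : W.toScheme ⟶ (V i).toScheme := IsOpenImmersion.lift (V i).ι (W.ι ≫ T.ι) hr.le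
    have hj : j ≫ (V i).ι = W.ι ≫ T.ι := IsOpenImmersion.lift_fac _ _ _
    haveI : IsOpenImmersion j := by
      haveI : IsOpenImmersion (j ≫ (V i).ι) := by rw [hj]; infer_instance
      exact IsOpenImmersion.of_comp j (V i).ι
    haveI : Surjective j := ⟨fun y => by
      obtain ⟨a, ha⟩ : (V i).ι y ∈ Set.range (W.ι ≫ T.ι) := hr.symm ▸ ⟨y, rfl⟩
      refine ⟨a, (V i).ι.isOpenEmbedding.injective ?_⟩
      rw [← ha, ← hj]
      rfl⟩
    haveI : IsIso j := (isIso_iff_isOpenImmersion_and_surjective j).2 ⟨inferInstance, inferInstance⟩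
    have heq : (f' ∣_ W) ≫ j = (X.isoOfEq hW').hom ≫ ((U i).ι ≫ f).liftCoborder := by
      rw [← cancel_mono (V i).ι, Category.assoc, Category.assoc, hj, morphismRestrict_ι_assoc,
        ((U i).ι ≫ f).liftCoborder_ι, hf', Scheme.isoOfEq_hom_ι_assoc]
    have : IsClosedImmersion ((f' ∣_ W) ≫ j) := by rw [heq]; infer_instance
    exact (MorphismProperty.cancel_right_of_respectsIso @IsClosedImmersion _ j).1 this
  rw [← hf']
  infer_instance

end Groth.Agent.S10878
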