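import Groth.Statements.S10879
import Groth.Agent.PurBirLib.Apps

set_option autoImplicit false
universe u
open CategoryTheory AlgebraicGeometry
open FlatMor

namespace Groth.Agent.S10879

/-- Take integral schemes X' and X and a separated surjective morphism f : X' → X which is birational in
the sense that the induced map of function fields (the stalk map of f at the generic point of X') is
an isomorphism, and suppose f is affine (e.g. a normalization) or locally of finite presentation
(e.g. a blow-up of a Noetherian integral scheme). Then f is flat exactly when it is an isomorphism. -/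
theorem result {X' X : Scheme.{u}} [IsIntegral X'] [IsIntegral X]
    (f : X' ⟶ X) [Surjective f] [IsSeparated f] (hK : IsIso (f.stalkMap (genericPoint X')))
    (h : IsAffineHom f ∨ LocallyOfFinitePresentation f) :
    Flat f ↔ IsIso f := by
  refine ⟨fun hf => ?_, fun hi => inferInstance⟩
  have hgen : f (genericPoint X') = genericPoint X := by
    obtain ⟨x, hx⟩ := f.surjective (genericPoint X)
    have h2 : f (genericPoint X') ⤳ genericPoint X :=
      hx ▸ ((genericPoint_spec X').specializes trivial).map f.continuous
    exact (((genericPoint_spec X).specializes trivial).antisymm h2).eq.symm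
  rcases h with ha | hlfp
  · exact PurBirLib.isIso_of_flat_affine f ⟨hgen, hK⟩
  · have hb : PurBirLib.Bir f := ⟨hgen, hK⟩
    have hiso : ∀ x, IsIso (f.stalkMap x) := fun x => by
      haveI := PurBirLib.isIso_ff f hb
      refine (ConcreteCategory.isIso_iff_bijective _).2 ⟨PurBirLib.stalkMap_injective f hb x, fun b => ?_⟩
      obtain ⟨w, hw⟩ := (ConcreteCategory.bijective_of_isIso (PurBirLib.ff f hb)).2
        (algebraMap (X'.presheaf.stalk x) X'.functionField b)
      obtain ⟨⟨a, s⟩, has⟩ := IsLocalization.surj (nonZeroDivisors (X.presheaf.stalk (f x))) w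
      have hbs : b * f.stalkMap x s = f.stalkMap x a := by
        refine IsFractionRing.injective (X'.presheaf.stalk x) X'.functionField ?_
        rw [map_mul, PurBirLib.ff_comm f hb, PurBirLib.ff_comm f hb, ← hw]
        exact (map_mul (PurBirLib.ff f hb).hom _ _).symm.trans (congrArg (PurBirLib.ff f hb).hom has)
      algebraize [(f.stalkMap x).hom]
      haveI : Module.Flat (X.presheaf.stalk (f x)) (X'.presheaf.stalk x) := Flat.stalkMap f x
      haveI : IsLocalHom (algebraMap (X.presheaf.stalk (f x)) (X'.presheaf.stalk x)) :=
        inferInstanceAs (IsLocalHom (f.stalkMap x).hom)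
      haveI : Module.FaithfullyFlat (X.presheaf.stalk (f x)) (X'.presheaf.stalk x) :=
        Module.FaithfullyFlat.of_flat_of_isLocalHom
      have hmem : a ∈ Ideal.span {(s : X.presheaf.stalk (f x))} := by
        rw [← Ideal.comap_map_eq_self_of_faithfullyFlat (B := X'.presheaf.stalk x) (Ideal.span {(s : X.presheaf.stalk (f x))}),
          Ideal.mem_comap, Ideal.map_span, Set.image_singleton, Ideal.mem_span_singleton']
        exact ⟨b, hbs⟩
      obtain ⟨c, rfl⟩ := Ideal.mem_span_singleton'.1 hmem
      refine ⟨c, mul_right_cancel₀ (fun h0 => nonZeroDivisors.coe_ne_zero s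
        (PurBirLib.stalkMap_injective f hb x (h0.trans (map_zero _).symm))) ?_⟩
      exact (map_mul (f.stalkMap x).hom c s).symm.trans hbs.symm
    refine (MorphismProperty.isomorphisms.iff (C := Scheme.{u}) (f := f)).1 ?_
    choose x hx using f.surjective
    choose U hU hUi using fun y => PurBirLib.exists_isIso_restrict f hb (x y) (hiso _)
    refine (IsZariskiLocalAtTarget.iff_of_iSup_eq_top (P := MorphismProperty.isomorphisms Scheme.{u}) U ?_).2 hUi
    exact eq_top_iff.2 fun y _ => TopologicalSpace.Opens.mem_iSup.2 ⟨y, (congrArg (· ∈ U y) (hx y)).mp (hU y)⟩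

end Groth.Agent.S10879
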