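import Groth.Statements.S10881
import Groth.Agent.CMFlatLib.QFFlat
import Groth.Agent.EquidimLib.DimEquality
import Groth.Agent.UOpenLib.FibreDim
import Groth.Agent.CommAlgDim.GlobalDim
import Groth.Agent.S9501

set_option autoImplicit false
universe u
open CategoryTheory AlgebraicGeometry
open FlatMor

namespace Groth.Agent.S10881

theorem dim_zero_of_singleton {A : Type u} [TopologicalSpace A] {S : Set A} {a : A}
    (h : ∀ v ∈ S, v = a) (ha : a ∈ S := by first | exact specializes_rfl | assumption) :
    topologicalKrullDim S = 0 := by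
  haveI : Unique ↥S := ⟨⟨⟨a, ha⟩⟩, fun v ↦ Subtype.ext (h v v.2)⟩
  refine le_antisymm (topologicalKrullDim_zero_of_discreteTopology _) ?_
  haveI : Nonempty (TopologicalSpace.IrreducibleCloseds ↥S) :=
    ⟨⟨Set.univ, ⟨Set.univ_nonempty, Set.subsingleton_univ.isPreirreducible⟩, isClosed_univ⟩⟩
  exact Order.krullDim_nonneg

/-- A finite morphism f : X → Y between regular schemes (locally Noetherian with regular local rings)
under which each irreducible component of X dominates some irreducible component of Y is flat, hence
finite locally free. (The published statement asks only that f be dominant; for X the disjoint union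
of the affine line and a point, mapped to the affine line Y by the identity and the inclusion of a
closed point, f is finite and dominant between regular schemes but not flat, and the published
argument uses injectivity of the local ring maps, which holds exactly under the component-wise
dominance assumed here.) -/
theorem result {X Y : Scheme.{u}} (f : X ⟶ Y) [IsFinite f]
    [IsLocallyNoetherian X] [IsLocallyNoetherian Y]
    (hX : ∀ x : X, IsRegularLocalRing (X.presheaf.stalk x))
    (hY : ∀ y : Y, IsRegularLocalRing (Y.presheaf.stalk y))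
    (hdom : ∀ Z ∈ irreducibleComponents (X : Type u), closure (f.base '' Z) ∈ irreducibleComponents (Y : Type u)) :
    Flat f := by
  have key : ∀ (s : Y) (w : f.fiber s), (f.stalkMap (f.fiberι s w)).hom.Flat := by
    intro s w
    haveI : DiscreteTopology ↥(f.base ⁻¹' {s}) := (f.isDiscrete_preimage_singleton s).to_subtype
    have hw0 : ringKrullDim ((f.fiber s).presheaf.stalk w) = 0 := by
      rw [EquidimLib.stalk_dim_eq w]
      refine dim_zero_of_singleton (a := w) fun v hv ↦ ?_
      refine (f.fiberHomeo s).injective ?_
      exact specializes_iff_eq.mp ((hv : v ⤳ w).map (f.fiberHomeo s).continuous)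
    have hfib : ∀ z : X, UOpenLib.fibreClosureDim f z = 0 := fun z ↦ by
      rw [UOpenLib.fibreClosureDim_eq_inter]
      haveI : DiscreteTopology ↥(f.base ⁻¹' {f.base z}) := (f.isDiscrete_preimage_singleton (f z)).to_subtype
      refine dim_zero_of_singleton (a := z) (fun v hv ↦ ?_) ⟨subset_closure rfl, rfl⟩
      have h : (⟨z, rfl⟩ : ↥(f.base ⁻¹' {f.base z})) ⤳ ⟨v, hv.2⟩ :=
        Topology.IsInducing.subtypeVal.specializes_iff.mp (specializes_iff_mem_closure.mpr hv.1)
      exact congrArg Subtype.val (specializes_iff_eq.mp h).symm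
    let x := f.fiberι s w
    haveI := hX x
    haveI := hY (f x)
    haveI := CommAlgDim.isDomain_of_isRegularLocalRing (Y.presheaf.stalk (f x))
    obtain ⟨ξ, hξ, hξx, hd⟩ := EquidimLib.exists_max_dimBetween x
    obtain ⟨η, hη, hηy, hdy⟩ := EquidimLib.exists_max_dimBetween (f x)
    have hfξ : closure {f ξ} ∈ irreducibleComponents (Y : Type u) := by
      have h := hdom _ hξ
      have e : closure (f.base '' closure {ξ}) = closure {f ξ} := by
        rw [closure_image_closure f.continuous, Set.image_singleton]
      rwa [e] at h
    have hηeq : η = f ξ := by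
      obtain ⟨P, hP⟩ := EquidimLib.exists_stalkPt hηy
      obtain ⟨P', hP'⟩ := EquidimLib.exists_stalkPt (hξx.map f.continuous)
      have hmin : ∀ (Q : PrimeSpectrum (Y.presheaf.stalk (f x))) (v : Y), EquidimLib.stalkPt (f x) Q = v →
          closure {v} ∈ irreducibleComponents (Y : Type u) → Q = ⟨⊥, Ideal.isPrime_bot⟩ := by
        intro Q v hQ hv
        refine le_antisymm (EquidimLib.le_of_stalkPt ?_) (bot_le (a := Q.asIdeal))
        have h := EquidimLib.specializes_stalkPt (x := f x)
          (show (⟨⊥, Ideal.isPrime_bot⟩ : PrimeSpectrum (Y.presheaf.stalk (f x))) ≤ Q from bot_le (a := Q.asIdeal))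
        rw [hQ] at h ⊢
        rw [FibDimLib.eq_of_specializes_of_closure_mem hv h]
      rw [← hP, ← hP', hmin P η hP hη, hmin P' (f ξ) hP' hfξ]
    have hcat : CAlg.IsUniversallyCatenary (Y.presheaf.stalk (f.base x)) := by
      haveI := CommAlgDim.isRegularRing_of_isRegularLocalRing (Y.presheaf.stalk (f x))
      exact CatLib.isUniversallyCatenary_of_isCMRing CatLib.isCMRing_of_isRegularRing
    have hdim := EquidimLib.dimBetween_add_fibreClosureDim_eq f hξx hcat
    rw [hfib, hfib, add_zero, add_zero, hd, ← hηeq, hdy] at hdim
    obtain ⟨hsurj, hker⟩ := Groth.Agent.S9501.result f s w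
    letI := (f.stalkMap (f.fiberι s w)).hom.toAlgebra
    let e0 := (RingHom.quotientKerEquivOfSurjective hsurj).symm.trans (Ideal.quotEquivOfEq hker)
    haveI : IsLocalHom (algebraMap (Y.presheaf.stalk (f (f.fiberι s w))) (X.presheaf.stalk (f.fiberι s w))) :=
      inferInstanceAs (IsLocalHom (f.stalkMap (f.fiberι s w)).hom)
    refine CMFlatLib.flat_of_isCM_of_dim _ _ (CommAlgDim.isCM_of_isRegularLocalRing _) ?_
    show _ = _ + ringKrullDim (X.presheaf.stalk (f.fiberι s w) ⧸
      Ideal.map (f.stalkMap (f.fiberι s w)).hom _)
    rw [← ringKrullDim_eq_of_ringEquiv e0, hw0, add_zero]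
    exact hdim
  refine (Flat.iff_flat_stalkMap f).mpr fun x ↦ ?_
  have h := key (f x) (f.asFiber x)
  rw [f.fiberι_asFiber] at h
  exact h
end Groth.Agent.S10881
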