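import Groth.Statements.S10882
import Groth.Agent.CMFlatLib.QFFlat
import Groth.Agent.CMFlatLib.Open
import Groth.Agent.FibDimLib.ClosureDim
import Groth.Agent.FibDimLib.Pure
import Groth.Agent.UOpenLib.Chevalley
import Groth.Agent.S9501

set_option autoImplicit false
universe u
open CategoryTheory AlgebraicGeometry
open FlatMor

namespace Groth.Agent.S10882

theorem dim_closure_nonneg {A : Type u} [TopologicalSpace A] (a : A) :
    (0 : WithBot ℕ∞) ≤ topologicalKrullDim (closure ({a} : Set A)) :=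
  (FibDimLib.localDim_nonneg (⟨a, subset_closure rfl⟩ : closure ({a} : Set A))).trans
    (FibDimLib.localDim_le _)

theorem exists_nat_of_add_eq {a b : WithBot ℕ∞} {n : ℕ} (ha : 0 ≤ a) (hb : 0 ≤ b)
    (h : a + b = n) : ∃ i j : ℕ, a = i ∧ b = j ∧ i + j = n := by
  obtain ⟨a, rfl⟩ := WithBot.ne_bot_iff_exists.mp (ne_bot_of_le_ne_bot WithBot.coe_ne_bot ha)
  obtain ⟨b, rfl⟩ := WithBot.ne_bot_iff_exists.mp (ne_bot_of_le_ne_bot WithBot.coe_ne_bot hb)
  have h' : a + b = n := WithBot.coe_injective h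
  obtain ⟨i, rfl⟩ := ENat.ne_top_iff_exists.mp (show a ≠ ⊤ by rintro rfl; simp at h')
  obtain ⟨j, rfl⟩ := ENat.ne_top_iff_exists.mp (show b ≠ ⊤ by rintro rfl; simp at h')
  exact ⟨i, j, rfl, rfl, by exact_mod_cast h'⟩

theorem dim_cancel {cy cw ox oy ow : WithBot ℕ∞} {e d : ℕ} (hde : d ≤ e)
    (hcy : 0 ≤ cy) (hcw : 0 ≤ cw) (hox : 0 ≤ ox) (hoy : 0 ≤ oy) (how : 0 ≤ ow)
    (h1 : cy + cw + ox = e) (h2 : cy + oy = d) (h3 : cw + ow = (e - d : ℕ)) :
    ox = oy + ow := by
  obtain ⟨a, b, rfl, rfl, hab⟩ := exists_nat_of_add_eq hcy hoy h2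
  obtain ⟨c, g, rfl, rfl, hcg⟩ := exists_nat_of_add_eq hcw how h3
  obtain ⟨m, l, hm, rfl, hml⟩ := exists_nat_of_add_eq (add_nonneg hcy hcw) hox h1
  have : a + c = m := by exact_mod_cast hm
  exact_mod_cast (by omega : l = b + g)

/-- Let X and Y be schemes locally of finite type over a field k and f : X → Y a k-morphism, with Y
regular (all local rings regular), X Cohen–Macaulay (all local rings Cohen–Macaulay), X
equidimensional of dimension e, Y equidimensional of dimension d ≤ e, and all fibres of f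
equidimensional of dimension e − d (every irreducible component of every fibre has dimension e − d).
Then f is flat. -/
theorem result (k : Type u) [Field k] {X Y : Scheme.{u}}
    (q : Y ⟶ Spec (CommRingCat.of k)) [LocallyOfFiniteType q] (f : X ⟶ Y) [LocallyOfFiniteType (f ≫ q)]
    (hY : ∀ y : Y, IsRegularLocalRing (Y.presheaf.stalk y))
    (hX : ∀ x : X, LocCoh.IsCohenMacaulayLocalRing (X.presheaf.stalk x))
    (e d : ℕ) (hde : d ≤ e)
    (hXe : ∀ Z ∈ irreducibleComponents (X : Type u), topologicalKrullDim Z = e)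
    (hYd : ∀ Z ∈ irreducibleComponents (Y : Type u), topologicalKrullDim Z = d)
    (hfib : ∀ y : Y, ∀ Z ∈ irreducibleComponents (f.base ⁻¹' {y}), topologicalKrullDim Z = (e - d : ℕ)) :
    Flat f := by
  haveI : LocallyOfFiniteType f := locallyOfFiniteType_of_comp f q
  haveI : IsLocallyNoetherian Y := LocallyOfFiniteType.isLocallyNoetherian q
  haveI : IsLocallyNoetherian X := LocallyOfFiniteType.isLocallyNoetherian (f ≫ q)
  have key : ∀ (s : Y) (w : f.fiber s), (f.stalkMap (f.fiberι s w)).hom.Flat := by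
    intro s w
    have hs : f (f.fiberι s w) = s := (Set.ext_iff.mp (f.range_fiberι s) _).mp ⟨w, rfl⟩
    haveI : LocallyOfFiniteType (f.fiberToSpecResidueField s) := UOpenLib.lft_fiberToSpec f s
    have hp : FibDimLib.IsPureDim (f.fiber s) (e - d) := fun Z hZ ↦ by
      let H := f.fiberHomeo s
      have hZ' : H.symm ⁻¹' Z ∈ irreducibleComponents ↥(f.base ⁻¹' {s}) :=
        preimage_mem_irreducibleComponents hZ H.symm.isOpenEmbedding (let ⟨z, hz⟩ := hZ.1.nonempty
          ⟨z, hz, H z, H.symm_apply_apply z⟩)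
      rw [← hfib s _ hZ']
      exact IsHomeomorph.topologicalKrullDim_eq _
        ((H.image Z).trans (Homeomorph.setCongr (H.image_eq_preimage_symm Z))).isHomeomorph
    have h1 := FibDimLib.IsPureDim.localDim_eq (f ≫ q) hXe (f.fiberι s w)
    have h2 := FibDimLib.IsPureDim.localDim_eq q hYd (f (f.fiberι s w))
    let qs : f.fiber s ⟶ Spec (CommRingCat.of (Y.residueField s)) := f.fiberToSpecResidueField s
    haveI : LocallyOfFiniteType qs := UOpenLib.lft_fiberToSpec f s
    have h3 := hp.localDim_eq qs w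
    rw [FibDimLib.localDim_eq_closure_add_stalk (f ≫ q),
      FibDimLib.topologicalKrullDim_closure_eq_add q f, UOpenLib.fibreClosureDim_fiberι f s w] at h1
    rw [FibDimLib.localDim_eq_closure_add_stalk q] at h2
    rw [FibDimLib.localDim_eq_closure_add_stalk qs] at h3
    obtain ⟨hsurj, hker⟩ := Groth.Agent.S9501.result f s w
    letI := (f.stalkMap (f.fiberι s w)).hom.toAlgebra
    let e0 := (RingHom.quotientKerEquivOfSurjective hsurj).symm.trans (Ideal.quotEquivOfEq hker)
    haveI : IsLocalHom (algebraMap (Y.presheaf.stalk (f (f.fiberι s w))) (X.presheaf.stalk (f.fiberι s w))) :=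
      inferInstanceAs (IsLocalHom (f.stalkMap (f.fiberι s w)).hom)
    haveI := hY (f (f.fiberι s w))
    refine CMFlatLib.flat_of_isCM_of_dim _ _
      ((CMFlatLib.isCohenMacaulayLocalRing_iff_isCM _).mp (hX _)) ?_
    show _ = _ + ringKrullDim (X.presheaf.stalk (f.fiberι s w) ⧸
      Ideal.map (f.stalkMap (f.fiberι s w)).hom _)
    rw [← ringKrullDim_eq_of_ringEquiv e0]
    exact dim_cancel hde (dim_closure_nonneg _) (dim_closure_nonneg _)
      ringKrullDim_nonneg_of_nontrivial ringKrullDim_nonneg_of_nontrivial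
      ringKrullDim_nonneg_of_nontrivial h1 h2 h3
  refine (Flat.iff_flat_stalkMap f).mpr fun x ↦ ?_
  have h := key (f x) (f.asFiber x)
  rw [f.fiberι_asFiber] at h
  exact h
end Groth.Agent.S10882
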