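import Groth.Statements.S10883
import Groth.Agent.DetSmoothLib.Singular
import Groth.Agent.DetSmoothLib.Chart



set_option autoImplicit false
universe u
open CAlgX

namespace Groth.Agent.S10883

/-- Let k be a field and 0 < r < min(n, m), and let B be the coordinate ring of the affine determinantal
scheme of n × m matrices of rank at most r over k (polynomial ring on the entries of the generic
matrix modulo its (r+1) × (r+1) minors). A prime P of B is a smooth point over k (the localization
B_P is formally smooth over k) exactly when it corresponds to a matrix of rank exactly r, i.e. when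
P does not contain the image of the ideal generated by the r × r minors. -/
theorem result (k : Type u) [Field k] (n m r : ℕ) (hr0 : 0 < r)
    (hr : r < min n m)
    (P : PrimeSpectrum (MvPolynomial (Fin n × Fin m) k ⧸ CAlgX.minorIdeal (Matrix.of fun (i : Fin n) (j : Fin m) => (MvPolynomial.X (i, j) : MvPolynomial (Fin n × Fin m) k)) (r + 1))) :
    P ∈ Algebra.smoothLocus k (MvPolynomial (Fin n × Fin m) k ⧸ CAlgX.minorIdeal (Matrix.of fun (i : Fin n) (j : Fin m) => (MvPolynomial.X (i, j) : MvPolynomial (Fin n × Fin m) k)) (r + 1)) ↔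
      ¬ (CAlgX.minorIdeal (Matrix.of fun (i : Fin n) (j : Fin m) => (MvPolynomial.X (i, j) : MvPolynomial (Fin n × Fin m) k)) r).map
          (Ideal.Quotient.mk (CAlgX.minorIdeal (Matrix.of fun (i : Fin n) (j : Fin m) => (MvPolynomial.X (i, j) : MvPolynomial (Fin n × Fin m) k)) (r + 1))) ≤ P.asIdeal := by
  constructor
  · intro hsm hle
    refine DetSmoothLib.not_isSmoothAt (CAlgX.minorIdeal (DetSmoothLib.gen k n m) (r + 1))
      (DetSmoothLib.minorIdeal_ne_bot (by omega) (by omega)) P.asIdeal (fun g hg i => ?_) hsm
    exact DetSmoothLib.pderiv_mem (P.asIdeal.comap (Ideal.Quotient.mk _)) (Ideal.map_le_iff_le_comap.1 hle) hg i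
  · intro hle
    rw [Ideal.map_le_iff_le_comap] at hle
    obtain ⟨f, g, hfg⟩ : ∃ (f : Fin r → Fin n) (g : Fin r → Fin m),
        Ideal.Quotient.mk (CAlgX.minorIdeal (DetSmoothLib.gen k n m) (r + 1)) ((DetSmoothLib.gen k n m).submatrix f g).det ∉ P.asIdeal := by
      by_contra hc
      push_neg at hc
      refine hle (Ideal.span_le.2 ?_)
      rintro _ ⟨⟨f, g⟩, rfl⟩
      exact hc f g
    haveI : Algebra.FinitePresentation k (MvPolynomial (Fin n × Fin m) k ⧸ CAlgX.minorIdeal (DetSmoothLib.gen k n m) (r + 1)) :=
      Algebra.FinitePresentation.of_finiteType.1 inferInstance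
    exact Algebra.basicOpen_subset_smoothLocus_iff.2 (DetSmoothLib.formallySmooth_chart (k := k) f g _ rfl _ rfl) hfg

end Groth.Agent.S10883
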