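import Groth.Statements.S10884
import Groth.Agent.FibDimLib.FibreJumps

set_option autoImplicit false
universe u
open CategoryTheory AlgebraicGeometry
open Variety

namespace Groth.Agent.S10884

/-- Let Y be a scheme of finite type over a field k and f : X → Y a dominant morphism of finite type all
of whose non-empty fibres have dimension r. Then dim X = r + dim Y. -/
theorem result (k : Type u) [Field k] {X Y : Scheme.{u}}
    (q : Y ⟶ Spec (CommRingCat.of k)) [LocallyOfFiniteType q] [QuasiCompact q]
    (f : X ⟶ Y) [LocallyOfFiniteType f] [QuasiCompact f] (hdom : DenseRange f.base) (r : ℕ)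
    (hfib : ∀ y : Y, (f.base ⁻¹' {y}).Nonempty → topologicalKrullDim (f.base ⁻¹' {y}) = r) :
    topologicalKrullDim X = (r : WithBot ℕ∞) + topologicalKrullDim Y := by
  haveI : IsLocallyNoetherian Y := LocallyOfFiniteType.isLocallyNoetherian q
  haveI : CompactSpace Y := QuasiCompact.compactSpace_of_compactSpace q
  haveI : IsNoetherian Y := {}
  haveI : LocallyOfFinitePresentation f := inferInstance
  refine le_antisymm (FibDimLib.topologicalKrullDim_le_of_points fun x => ?_)
    (FibDimLib.add_le_topologicalKrullDim k q f r fun η hη => (hfib η ?_).ge)
  · rw [FibDimLib.topologicalKrullDim_closure_eq_add q f x, add_comm (r : WithBot ℕ∞)]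
    refine add_le_add (topologicalKrullDim_subspace_le _ _) ?_
    refine (topologicalKrullDim_subspace_le _ _).trans ?_
    rw [IsHomeomorph.topologicalKrullDim_eq _ (f.fiberHomeo (f.base x)).isHomeomorph]
    exact (hfib (f.base x) ⟨x, rfl⟩).le
  · have hE : Topology.IsConstructible (Set.range f.base) := by
      rw [← Set.image_univ]
      exact f.isConstructible_image Topology.IsConstructible.univ
    let z : closure (Set.range f.base) := ⟨η, hdom.closure_range.ge (Set.mem_univ η)⟩
    refine FibDimLib.mem_of_generic_closure_constructible hE (z := z) ?_
    refine ⟨isIrreducible_singleton.closure, fun W hW hzW w hw => ?_⟩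
    -- a larger irreducible set has the same generic point
    have hW' : IsIrreducible (closure W) := hW.closure
    haveI : QuasiSober ↥(closure (Set.range f.base)) := isClosed_closure.isClosedEmbedding_subtypeVal.quasiSober
    have hg := hW'.isGenericPoint_genericPoint_closure
    rw [closure_closure] at hg
    have hgz : hW'.genericPoint ⤳ z :=
      hg.specializes (subset_closure (hzW (subset_closure rfl)))
    have : (hW'.genericPoint : Y) = η := hη _ (hgz.map continuous_subtype_val)
    rw [show z = hW'.genericPoint from Subtype.ext this.symm]
    exact hg.def.ge (subset_closure hw)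

end Groth.Agent.S10884
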