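import Groth.Statements.S10886
import Mathlib.Topology.Constructible
import Mathlib.Topology.KrullDimension
-- import your own Groth.Agent.* helpers here

set_option autoImplicit false
universe u
open CategoryTheory AlgebraicGeometry
open Curves

namespace Groth.Agent.S10886

/-- In an irreducible Noetherian scheme of dimension one every constructible subset is either a finite
set of closed points or the complement of such a set; in particular it is open or closed. -/
theorem result {X : Scheme.{u}} [IsNoetherian X]
    [IrreducibleSpace X] (hX : topologicalKrullDim X = 1) (s : Set X) (hs : Topology.IsConstructible s) :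
    (s.Finite ∧ (∀ x ∈ s, IsClosed ({x} : Set X))) ∨ (sᶜ.Finite ∧ ∀ x ∈ sᶜ, IsClosed ({x} : Set X)) := by
  classical
  have hclosed : ∀ x : X, x ≠ genericPoint X → IsClosed ({x} : Set X) := by
    intro x hx
    rw [← closure_eq_iff_isClosed]
    refine Set.Subset.antisymm (fun y hy => ?_) subset_closure
    by_contra hne
    have hirr : ∀ z : X, IsIrreducible (closure ({z} : Set X)) := fun z => isIrreducible_singleton.closure
    let a : TopologicalSpace.IrreducibleCloseds X := ⟨closure {y}, hirr y, isClosed_closure⟩
    let b : TopologicalSpace.IrreducibleCloseds X := ⟨closure {x}, hirr x, isClosed_closure⟩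
    let c : TopologicalSpace.IrreducibleCloseds X := ⟨closure {genericPoint X}, hirr _, isClosed_closure⟩
    have hab : a < b := by
      refine lt_of_le_of_ne (show closure {y} ⊆ closure {x} from closure_minimal (by simpa using hy) isClosed_closure) ?_
      intro e
      have e' : closure ({y} : Set X) = closure {x} := congrArg (fun t : TopologicalSpace.IrreducibleCloseds X => (t : Set X)) e
      exact hne ((show IsGenericPoint y (closure {x}) from e').eq rfl)
    have hbc : b < c := by
      refine lt_of_le_of_ne (show closure {x} ⊆ closure {genericPoint X} from by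
        rw [(genericPoint_spec X).def]; exact Set.subset_univ _) ?_
      intro e
      have e' : closure ({x} : Set X) = closure {genericPoint X} :=
        congrArg (fun t : TopologicalSpace.IrreducibleCloseds X => (t : Set X)) e
      exact hx ((show IsGenericPoint x (closure {genericPoint X}) from e').eq rfl)
    have h2 : ((2 : ℕ) : WithBot ℕ∞) ≤ topologicalKrullDim X := Order.LTSeries.length_le_krullDim
      ((((RelSeries.singleton _ a).snoc b hab).snoc c (by simpa using hbc)) : LTSeries _)
    rw [hX] at h2
    exact absurd (by exact_mod_cast h2 : (2 : ℕ) ≤ 1) (by norm_num)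
  have hfin : ∀ Z : Set X, IsClosed Z → genericPoint X ∉ Z → Z.Finite := by
    intro Z hZ hη
    obtain ⟨S, hSf, hSc, hSi, hSZ⟩ := TopologicalSpace.NoetherianSpace.exists_finite_set_isClosed_irreducible hZ
    rw [hSZ, Set.sUnion_eq_biUnion]
    refine hSf.biUnion fun t ht => ?_
    obtain ⟨x, hx⟩ := QuasiSober.sober (hSi t ht) (hSc t ht)
    have hxZ : x ∈ Z := hSZ ▸ Set.mem_sUnion_of_mem hx.mem ht
    rw [← hx.def, (hclosed x fun e => hη (e ▸ hxZ)).closure_eq]
    exact Set.finite_singleton x
  have key : ∀ t : Set X, Topology.IsConstructible t →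
      (t.Finite ∧ genericPoint X ∉ t) ∨ (tᶜ.Finite ∧ genericPoint X ∈ t) := by
    intro t ht
    induction ht using Topology.IsConstructible.empty_union_induction with
    | open_retrocompact U hU _ =>
      by_cases hη : genericPoint X ∈ U
      · exact Or.inr ⟨hfin _ hU.isClosed_compl (fun h => h hη), hη⟩
      · have : U = ∅ := Set.not_nonempty_iff_eq_empty.mp fun hne =>
          hη ((genericPoint_spec X).mem_open_set_iff hU |>.mpr (by simpa using hne))
        exact Or.inl ⟨this ▸ Set.finite_empty, hη⟩
    | union s₁ hs₁ s₂ hs₂ h₁ h₂ =>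
      rcases h₁ with ⟨f₁, n₁⟩ | ⟨f₁, n₁⟩ <;> rcases h₂ with ⟨f₂, n₂⟩ | ⟨f₂, n₂⟩
      · exact Or.inl ⟨f₁.union f₂, fun h => h.elim n₁ n₂⟩
      all_goals refine Or.inr ⟨?_, by simp [n₁, n₂]⟩; rw [Set.compl_union]
      · exact f₂.subset Set.inter_subset_right
      · exact f₁.subset Set.inter_subset_left
      · exact f₁.subset Set.inter_subset_left
    | compl t ht h =>
      rcases h with ⟨f, n⟩ | ⟨f, n⟩
      · exact Or.inr ⟨by rwa [compl_compl], n⟩
      · exact Or.inl ⟨f, fun h => h n⟩
  rcases key s hs with ⟨f, n⟩ | ⟨f, n⟩
  · exact Or.inl ⟨f, fun x hx => hclosed x fun e => n (e ▸ hx)⟩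
  · exact Or.inr ⟨f, fun x hx => hclosed x fun e => (e ▸ hx) n⟩

end Groth.Agent.S10886
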