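import Groth.Statements.S10887
import Groth.Agent.FlatDedLib.Basic
import Mathlib
-- import your own Groth.Agent.* helpers here

set_option autoImplicit false
universe u
open CategoryTheory AlgebraicGeometry
open FlatMor

namespace Groth.Agent.S10887
set_option linter.all false

/-- (i) ⇔ (iii): let Y be a Dedekind scheme — an integral Noetherian scheme of dimension at most one all
of whose local rings are regular — and f : X → Y a morphism of schemes with X reduced. Then f is
flat if and only if every irreducible component of X dominates Y. (Without reducedness only the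
forward implication holds.) -/
theorem result {X Y : Scheme.{u}} [IsIntegral Y]
    [IsNoetherian Y] (hreg : ∀ y : Y, IsRegularLocalRing (Y.presheaf.stalk y)) (hdim : topologicalKrullDim Y ≤ 1)
    (f : X ⟶ Y) [IsReduced X] :
    Flat f ↔ ∀ Z ∈ irreducibleComponents (X : Type u), Dense (f.base '' Z) := by
  constructor
  · intro hf Z hZ
    have hZc := isClosed_of_mem_irreducibleComponents Z hZ
    obtain ⟨z, hz⟩ := QuasiSober.sober hZ.1 hZc
    have hfz : f.base z = genericPoint Y := by
      rw [FlatDedLib.eq_generic_iff, eq_bot_iff]
      intro a ha
      by_contra ha0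
      have hm : (f.stalkMap z).hom a ∈ IsLocalRing.maximalIdeal (X.presheaf.stalk z) := by
        rw [← IsLocalRing.maximalIdeal_comap (f.stalkMap z).hom] at ha
        exact ha
      have hmin : ∀ P : ↥(Spec (X.presheaf.stalk z)), P = IsLocalRing.closedPoint _ := by
        intro P
        have h1 : (X.fromSpecStalk z).base P ⤳ z := by
          have : (X.fromSpecStalk z).base P ∈ Set.range (X.fromSpecStalk z) := ⟨P, rfl⟩
          rw [Scheme.range_fromSpecStalk] at this
          exact this
        have h2 : z ⤳ (X.fromSpecStalk z).base P := by
          have hsub : Z ⊆ closure {(X.fromSpecStalk z).base P} := by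
            rw [← hz.def]
            exact closure_minimal (Set.singleton_subset_iff.2 (specializes_iff_mem_closure.1 h1)) isClosed_closure
          have := hZ.2 isIrreducible_singleton.closure hsub
          rw [specializes_iff_mem_closure, hz.def]
          exact this (subset_closure rfl)
        apply (X.fromSpecStalk z).isEmbedding.injective
        rw [Scheme.fromSpecStalk_closedPoint]
        exact (h1.antisymm h2).eq
      have hnil : (f.stalkMap z).hom a ∈ nilradical (X.presheaf.stalk z) := by
        rw [nilradical_eq_sInf, Submodule.mem_sInf]
        intro P hP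
        have := congrArg PrimeSpectrum.asIdeal (hmin ⟨P, hP⟩)
        rw [show P = (IsLocalRing.closedPoint (X.presheaf.stalk z)).asIdeal from this]
        exact hm
      rw [nilradical_eq_zero] at hnil
      have h10 : (1 : X.presheaf.stalk z) = 0 := FlatDedLib.cancel_of_flat f z a 1 ha0 (by
        rw [mul_one]; exact hnil)
      exact one_ne_zero h10
    intro y
    have hm : genericPoint Y ∈ f.base '' Z := ⟨z, hz.mem, hfz⟩
    refine closure_mono (Set.singleton_subset_iff.2 hm) ?_
    rw [genericPoint_closure]; trivial
  · intro h
    refine FlatDedLib.flat_of_cancel hreg hdim f fun x a b ha hab => ?_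
    by_contra hb
    have : b ∉ nilradical (X.presheaf.stalk x) := by rw [nilradical_eq_zero]; exact hb
    rw [nilradical_eq_sInf, Submodule.mem_sInf] at this
    push_neg at this
    obtain ⟨P, hP, hbP⟩ := this
    haveI : Ideal.IsPrime P := hP
    obtain ⟨Q, hQ, hQP⟩ := Ideal.exists_minimalPrimes_le (J := P) (bot_le (a := P))
    haveI hQp : Q.IsPrime := hQ.1.1
    have hbQ : b ∉ Q := fun hb => hbP (hQP hb)
    have haQ : (f.stalkMap x).hom a ∈ Q :=
      (hQp.mem_or_mem (show (f.stalkMap x).hom a * b ∈ Q by rw [hab]; exact Q.zero_mem)).resolve_right hbQ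
    let q : ↥(Spec (X.presheaf.stalk x)) := (⟨Q, hQp⟩ : PrimeSpectrum (X.presheaf.stalk x))
    let x' := (X.fromSpecStalk x).base q
    have hcomp : closure {x'} ∈ irreducibleComponents (X : Type u) := by
      refine ⟨isIrreducible_singleton.closure, fun T hT hle => ?_⟩
      obtain ⟨t, ht⟩ := QuasiSober.sober hT.closure isClosed_closure
      have h1 : t ⤳ x' := ht.specializes (subset_closure (hle (subset_closure rfl)))
      have h2 : x' ⤳ x := by
        have : x' ∈ Set.range (X.fromSpecStalk x) := ⟨q, rfl⟩
        rw [Scheme.range_fromSpecStalk] at this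
        exact this
      have h3 : t ∈ Set.range (X.fromSpecStalk x) := by
        rw [Scheme.range_fromSpecStalk]; exact h1.trans h2
      obtain ⟨r, hr⟩ := h3
      have h4 : r ⤳ q := (X.fromSpecStalk x).isEmbedding.isInducing.specializes_iff.1 (by
        show (X.fromSpecStalk x).base r ⤳ (X.fromSpecStalk x).base q
        rw [show (X.fromSpecStalk x).base r = t from hr]; exact h1)
      have h5 : r = q := PrimeSpectrum.ext
        (le_antisymm ((PrimeSpectrum.le_iff_specializes _ _).2 h4)
          (hQ.2 ⟨r.isPrime, bot_le⟩ ((PrimeSpectrum.le_iff_specializes _ _).2 h4)))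
      refine subset_closure.trans ?_
      rw [← ht.def, ← hr, h5]
    have hd := h _ hcomp
    have hη : f.base x' = genericPoint Y := by
      have h6 : f.base '' closure {x'} ⊆ closure {f.base x'} := by
        refine (image_closure_subset_closure_image f.continuous).trans ?_
        rw [Set.image_singleton]
      have h7 : genericPoint Y ∈ closure ({f.base x'} : Set Y) :=
        closure_minimal h6 isClosed_closure (hd _)
      exact (genericPoint_specializes _).antisymm (specializes_iff_mem_closure.2 h7) |>.eq.symm
    have hbot := (FlatDedLib.comap_eq_bot_iff f x q).1 hη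
    exact ha (Ideal.mem_bot.1 (hbot ▸ (show a ∈ q.asIdeal.comap (f.stalkMap x).hom from haQ)))

end Groth.Agent.S10887
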