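import Groth.Statements.S10889
import Groth.Agent.FibDimLib.Apps

set_option autoImplicit false
universe u
open CategoryTheory AlgebraicGeometry
open FlatMor

namespace Groth.Agent.S10889

/-- Let f : X → Y be proper, flat and of finite presentation, and let V be the set of points of Y whose
fibre is (non-empty and) zero-dimensional. Then V is a clopen subset of Y, and over every open
subset of V the restriction of f is finite, hence finite locally free. -/
theorem result {X Y : Scheme.{u}} (f : X ⟶ Y) [IsProper f] [Flat f]
    [LocallyOfFinitePresentation f] :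
    IsClopen {y : Y | topologicalKrullDim (f.base ⁻¹' {y}) = 0} ∧
      ∀ U : Y.Opens, (U : Set Y) ⊆ {y : Y | topologicalKrullDim (f.base ⁻¹' {y}) = 0} → IsFinite (f ∣_ U) := by
  have he : {y : Y | topologicalKrullDim (f.base ⁻¹' {y}) = 0} = {y : Y | topologicalKrullDim (f.fiber y) = 0} := by
    ext y
    show _ = _ ↔ _ = _
    rw [IsHomeomorph.topologicalKrullDim_eq _ (f.fiberHomeo y).isHomeomorph]
  refine ⟨he ▸ FibDimLib.isClopen_fiber_dim_zero f, fun U hU => ?_⟩
  exact FibDimLib.isFinite_morphismRestrict_of_dim_zero f U fun y hy => (hU hy).le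


end Groth.Agent.S10889
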