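import Groth.Statements.S10890
import Mathlib
import Groth.Agent.BELib.Conv
-- import your own Groth.Agent.* helpers here

set_option autoImplicit false
universe u
open CAlgX

namespace Groth.Agent.S10890

/-- (i) ⇔ (ii): let R be a local ring, A an n × m matrix over R regarded as a linear map R^m → R^n, and
1 ≤ r ≤ n. Then the image of A is a direct summand of R^n of rank r if and only if every (r+1) ×
(r+1) minor of A is zero and the r × r minors of A generate the unit ideal. (The printed statement
is over an arbitrary ring with 'direct summand of rank r'; its proof localises at once, and this row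
states the local case, where a direct summand of R^n is free and its rank is its finrank.) -/
theorem result (R : Type u) [CommRing R] [IsLocalRing R] (n m r : ℕ)
    (hr : 1 ≤ r) (hrn : r ≤ n) (A : Matrix (Fin n) (Fin m) R) :
    (∃ N' : Submodule R (Fin n → R), IsCompl (LinearMap.range (Matrix.mulVecLin A)) N' ∧
        Module.finrank R (LinearMap.range (Matrix.mulVecLin A)) = r) ↔
      (CAlgX.minorIdeal A (r + 1) = ⊥ ∧ CAlgX.minorIdeal A r = ⊤) := by
  constructor
  · rintro ⟨N', hN', hfr⟩
    haveI : Module.Finite R (Fin n → R) := inferInstance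
    let π := Submodule.projectionOnto _ _ hN'
    have hπ : ∀ x : LinearMap.range (Matrix.mulVecLin A), π x = x := fun x => Submodule.projectionOnto_apply_left hN' x
    haveI : Module.Projective R (LinearMap.range (Matrix.mulVecLin A)) :=
      Module.Projective.of_split (LinearMap.range (Matrix.mulVecLin A)).subtype π (LinearMap.ext hπ)
    haveI : Module.Finite R (LinearMap.range (Matrix.mulVecLin A)) :=
      Module.Finite.of_surjective π (fun x => ⟨x, hπ x⟩)
    haveI : Module.Free R (LinearMap.range (Matrix.mulVecLin A)) := Module.free_of_flat_of_isLocalRing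
    subst hfr
    exact Groth.Agent.BELib.minors_of_summand A (Module.finBasis R _) π hπ
  · rintro ⟨h0, h1⟩
    obtain ⟨f, hf⟩ := Groth.Agent.BELib.exists_coordinates A h0 h1
    let π := LinearMap.funLeft R R f
    refine ⟨LinearMap.ker π, ⟨disjoint_iff.2 (eq_bot_iff.2 fun v hv => ?_), codisjoint_iff.2 (eq_top_iff.2 fun v _ => ?_)⟩, ?_⟩
    · exact congrArg Subtype.val (hf.1 (a₁ := ⟨v, hv.1⟩) (a₂ := 0) (by rw [map_zero]; exact hv.2))
    · obtain ⟨w, hw⟩ := hf.2 (π v)
      refine Submodule.mem_sup.2 ⟨w, w.2, v - w, ?_, add_sub_cancel _ _⟩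
      rw [LinearMap.mem_ker, map_sub, sub_eq_zero]
      exact hw.symm
    · rw [(LinearEquiv.ofBijective _ hf).finrank_eq, Module.finrank_fin_fun]

end Groth.Agent.S10890
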