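import Groth.Statements.S10891
import Mathlib.RingTheory.RootsOfUnity.PrimitiveRoots
import Mathlib.Algebra.MvPolynomial.Basic
import Mathlib.Algebra.MvPolynomial.Eval
-- import your own Groth.Agent.* helpers here

set_option autoImplicit false
set_option linter.style.haveILetI false
universe u
open CAlg

namespace Groth.Agent.S10891

/-- Let k be a field containing a primitive r-th root of unity ζ and 0 < a < r. The cyclic group of r-th
roots of unity acts on k[X, Y] through the generator X ↦ ζ⁻¹ X, Y ↦ ζ^(−a) Y, and the ring of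
invariants of this action is generated as a k-algebra by the monomials X^i Y^j with 0 ≤ i, j ≤ r,
(i, j) ≠ (r, r) and i + a·j ≡ 0 (mod r). (The printed statement writes n for the order of the group,
which the surrounding section calls r.) -/
theorem result (k : Type u) [Field k] (r a : ℕ) (ha : 0 < a) (har : a < r)
    (ζ : k) (hζ : IsPrimitiveRoot ζ r) (p : MvPolynomial (Fin 2) k) :
    MvPolynomial.aeval (fun i : Fin 2 => if i = 0 then MvPolynomial.C ζ⁻¹ * MvPolynomial.X 0
        else MvPolynomial.C (ζ⁻¹ ^ a) * (MvPolynomial.X 1 : MvPolynomial (Fin 2) k)) p = p ↔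
      p ∈ Algebra.adjoin k {q : MvPolynomial (Fin 2) k | ∃ i j : ℕ, i ≤ r ∧ j ≤ r ∧ ¬ (i = r ∧ j = r) ∧
        r ∣ i + a * j ∧ q = MvPolynomial.X 0 ^ i * MvPolynomial.X 1 ^ j} := by
  classical
  set φ := MvPolynomial.aeval (R := k) (fun i : Fin 2 => if i = 0 then MvPolynomial.C ζ⁻¹ * MvPolynomial.X 0
        else MvPolynomial.C (ζ⁻¹ ^ a) * (MvPolynomial.X 1 : MvPolynomial (Fin 2) k)) with hφ
  set G := Algebra.adjoin k {q : MvPolynomial (Fin 2) k | ∃ i j : ℕ, i ≤ r ∧ j ≤ r ∧ ¬ (i = r ∧ j = r) ∧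
        r ∣ i + a * j ∧ q = MvPolynomial.X 0 ^ i * MvPolynomial.X 1 ^ j} with hG
  have hmon : ∀ i j : ℕ, φ (MvPolynomial.X 0 ^ i * MvPolynomial.X 1 ^ j) =
      MvPolynomial.C (ζ⁻¹ ^ (i + a * j)) * (MvPolynomial.X 0 ^ i * MvPolynomial.X 1 ^ j) := by
    intro i j
    simp only [hφ, map_mul, map_pow, MvPolynomial.aeval_X, if_true, if_neg (show (1 : Fin 2) ≠ 0 by decide)]
    rw [mul_pow, mul_pow, pow_add, pow_mul]
    ring
  constructor
  · intro hp
    rw [p.as_sum]
    refine sum_mem fun s hs => ?_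
    have es : ∀ c : k, (MvPolynomial.monomial s) c = MvPolynomial.C c * (MvPolynomial.X 0 ^ s 0 * MvPolynomial.X 1 ^ s 1) := by
      intro c
      rw [MvPolynomial.monomial_eq, Finsupp.prod_fintype _ _ (fun i => pow_zero _), Fin.prod_univ_two]
    have hdiv : r ∣ s 0 + a * s 1 := by
      have hcoef : MvPolynomial.coeff s p * ζ⁻¹ ^ (s 0 + a * s 1) = MvPolynomial.coeff s p := by
        conv_rhs => rw [← hp, p.as_sum, map_sum, MvPolynomial.coeff_sum]
        rw [Finset.sum_eq_single_of_mem s hs]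
        · rw [es, map_mul, hmon, MvPolynomial.algHom_C, MvPolynomial.algebraMap_eq, ← mul_assoc, ← map_mul, ← es, MvPolynomial.coeff_monomial, if_pos rfl]
        · intro t _ hts
          have et : (MvPolynomial.monomial t) (MvPolynomial.coeff t p) = MvPolynomial.C (MvPolynomial.coeff t p) * (MvPolynomial.X 0 ^ t 0 * MvPolynomial.X 1 ^ t 1) := by
            rw [MvPolynomial.monomial_eq, Finsupp.prod_fintype _ _ (fun i => pow_zero _), Fin.prod_univ_two]
          rw [et, map_mul, hmon, MvPolynomial.algHom_C, MvPolynomial.algebraMap_eq, ← mul_assoc, ← map_mul,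
            show MvPolynomial.X (R := k) (0 : Fin 2) ^ t 0 * MvPolynomial.X 1 ^ t 1 = (MvPolynomial.monomial t) 1 by
              rw [MvPolynomial.monomial_eq, Finsupp.prod_fintype _ _ (fun i => pow_zero _), Fin.prod_univ_two]
              exact (one_mul _).symm.trans (congrArg (· * _) (map_one MvPolynomial.C).symm),
            MvPolynomial.C_mul_monomial, MvPolynomial.coeff_monomial, if_neg hts]
      have h1 : ζ⁻¹ ^ (s 0 + a * s 1) = 1 :=
        mul_left_cancel₀ (MvPolynomial.mem_support_iff.1 hs) (hcoef.trans (mul_one _).symm)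
      exact (hζ.inv.pow_eq_one_iff_dvd _).1 h1
    rw [es]
    refine mul_mem (G.algebraMap_mem _) ?_
    have hX : (MvPolynomial.X 0 : MvPolynomial (Fin 2) k) ^ r ∈ G :=
      Algebra.subset_adjoin ⟨r, 0, le_rfl, Nat.zero_le _, by omega, by simp, by simp⟩
    have hY : (MvPolynomial.X 1 : MvPolynomial (Fin 2) k) ^ r ∈ G :=
      Algebra.subset_adjoin ⟨0, r, Nat.zero_le _, le_rfl, by omega, by simp, by simp⟩
    have hr : 0 < r := by omega
    have hrest : MvPolynomial.X (R := k) (0 : Fin 2) ^ (s 0 % r) * MvPolynomial.X 1 ^ (s 1 % r) ∈ G := by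
      refine Algebra.subset_adjoin ⟨_, _, (Nat.mod_lt _ hr).le, (Nat.mod_lt _ hr).le, fun h => (Nat.mod_lt _ hr).ne h.1, ?_, rfl⟩
      have h2 : (s 0 % r + a * (s 1 % r)) % r = (s 0 + a * s 1) % r := by
        rw [Nat.add_mod, Nat.mod_mod, Nat.mul_mod, Nat.mod_mod, ← Nat.mul_mod, ← Nat.add_mod]
      exact Nat.dvd_of_mod_eq_zero (h2.trans (Nat.mod_eq_zero_of_dvd hdiv))
    have hfin := mul_mem (mul_mem (pow_mem hX (s 0 / r)) (pow_mem hY (s 1 / r))) hrest
    convert hfin using 1
    conv_lhs => rw [← Nat.div_add_mod (s 0) r, ← Nat.div_add_mod (s 1) r]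
    rw [pow_add, pow_add, pow_mul, pow_mul]
    ring
  · intro hp
    induction hp using Algebra.adjoin_induction with
    | mem q hq =>
      obtain ⟨i, j, -, -, -, hd, rfl⟩ := hq
      rw [hmon, (hζ.inv.pow_eq_one_iff_dvd _).2 hd, map_one, one_mul]
    | algebraMap c => exact AlgHom.commutes φ c
    | add x y _ _ hx hy => rw [map_add, hx, hy]
    | mul x y _ _ hx hy => rw [map_mul, hx, hy]

end Groth.Agent.S10891
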