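import Groth.Statements.S8863
import Groth.Agent.AssPointLib.Dense
-- import your own Groth.Agent.* helpers here

set_option autoImplicit false
universe u
open CategoryTheory CategoryTheory.Limits AlgebraicGeometry TopologicalSpace
open SDiv

namespace Groth.Agent.S8863

/-- Let X be a locally Noetherian scheme and x a point of X. Then the monoid S_x of germs at x of
regular sections of O_X (sections whose germ at every point of their open of definition is a
nonzerodivisor) is the whole monoid of nonzerodivisors of O_{X,x}; consequently K_{X,x} is the total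
ring of fractions of O_{X,x}. -/
theorem result (X : Scheme.{u}) [IsLocallyNoetherian X] (x : ↥X) :
    Mero.regStalk X x = nonZeroDivisors ↑(X.presheaf.stalk x) := by
  classical
  refine le_antisymm (Mero.regStalk_le_nonZeroDivisors x) fun g hg => ?_
  obtain ⟨V, hV, hxV⟩ := QCohLib.exists_affine_nhd x
  haveI : IsNoetherianRing Γ(X, V) := IsLocallyNoetherian.component_noetherian ⟨V, hV⟩
  let alg := X.presheaf.algebra_section_stalk (⟨x, hxV⟩ : V)
  have hloc : IsLocalization.AtPrime (X.presheaf.stalk x) (hV.primeIdealOf ⟨x, hxV⟩).asIdeal :=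
    hV.isLocalization_stalk ⟨x, hxV⟩
  obtain ⟨⟨a, s⟩, hg'⟩ := IsLocalization.surj (hV.primeIdealOf ⟨x, hxV⟩).asIdeal.primeCompl g
  have hs : IsUnit (X.presheaf.germ V x hxV s.1) := AssPointLib.isUnit_germ hV hxV s.2
  have hga : g * X.presheaf.germ V x hxV s.1 = X.presheaf.germ V x hxV a := hg'
  have ha : X.presheaf.germ V x hxV a ∈ nonZeroDivisors (X.presheaf.stalk x) := by
    rw [← hga]; exact mul_mem hg hs.mem_nonZeroDivisors
  let J : Ideal Γ(X, V) := (Ideal.span ({a} : Set Γ(X, V))).annihilator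
  have hJ : ∀ b, b ∈ J → b * a = 0 := fun b hb => by
    simpa using (Submodule.mem_annihilator_span_singleton a b).mp hb
  obtain ⟨T, hT⟩ : J.FG := IsNoetherian.noetherian J
  have hkill : ∀ b : T, ∃ t, t ∉ (hV.primeIdealOf ⟨x, hxV⟩).asIdeal ∧ t * b.1 = 0 := fun b => by
    refine (AssPointLib.germ_eq_zero_iff hV hxV b.1).mp ((mem_nonZeroDivisors_iff_right.mp ha) _ ?_)
    rw [← map_mul, hJ b.1 (hT ▸ Ideal.subset_span b.2), map_zero]
  choose t ht htb using hkill
  let c := s.1 * ∏ b, t b
  have hc : c ∉ (hV.primeIdealOf ⟨x, hxV⟩).asIdeal :=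
    (hV.primeIdealOf ⟨x, hxV⟩).asIdeal.primeCompl.mul_mem s.2 (prod_mem fun b _ => ht b)
  let W := X.basicOpen c
  have hWV : W ≤ V := X.basicOpen_le c
  have hxW : x ∈ W := (AssPointLib.mem_basicOpen_iff hV hxV c).mpr hc
  have hWs : W ≤ X.basicOpen s.1 := by
    simp only [W, c, Scheme.basicOpen_mul]
    exact inf_le_left
  let ρ := X.presheaf.map (homOfLE hWV).op
  have hsW : IsUnit (ρ s.1) := by
    refine RingedSpace.isUnit_of_isUnit_germ X.toRingedSpace W _ fun y hy => ?_
    rw [TopCat.Presheaf.germ_res_apply]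
    exact (X.mem_basicOpen s.1 y (hWV hy)).mp (hWs hy)
  obtain ⟨v, hv⟩ := hsW.exists_left_inv
  refine ⟨W, hxW, v * ρ a, fun y => ?_, ?_⟩
  · have hyV : y.1 ∈ V := hWV y.2
    rw [map_mul]
    refine mul_mem (((IsUnit.of_mul_eq_one _ hv).map (X.presheaf.germ W y.1 y.2).hom).mem_nonZeroDivisors) ?_
    rw [TopCat.Presheaf.germ_res_apply, mem_nonZeroDivisors_iff_right]
    intro z hz
    let alg' := X.presheaf.algebra_section_stalk (⟨y.1, hyV⟩ : V)
    have hloc' : IsLocalization.AtPrime (X.presheaf.stalk y.1) (hV.primeIdealOf ⟨y.1, hyV⟩).asIdeal :=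
      hV.isLocalization_stalk ⟨y.1, hyV⟩
    obtain ⟨⟨b, r⟩, hz'⟩ := IsLocalization.surj (hV.primeIdealOf ⟨y.1, hyV⟩).asIdeal.primeCompl z
    have hzb : z * X.presheaf.germ V y.1 hyV r.1 = X.presheaf.germ V y.1 hyV b := hz'
    have h0 : X.presheaf.germ V y.1 hyV (b * a) = 0 := by
      rw [map_mul, ← hzb, mul_right_comm, hz, zero_mul]
    obtain ⟨w, hw, hw0⟩ := (AssPointLib.germ_eq_zero_iff hV hyV _).mp h0
    have hwb : w * b ∈ J := (Submodule.mem_annihilator_span_singleton a _).mpr (by
      rw [smul_eq_mul, mul_assoc]; exact hw0)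
    have hcJ : ∀ e ∈ J, c * e = 0 := by
      intro e he
      have hle : J ≤ (Ideal.span ({c} : Set Γ(X, V))).annihilator := by
        rw [← hT, Ideal.span_le]
        intro b hb
        rw [SetLike.mem_coe, Submodule.mem_annihilator_span_singleton, smul_eq_mul]
        obtain ⟨d, hd⟩ := Finset.dvd_prod_of_mem t (Finset.mem_univ (⟨b, hb⟩ : T))
        show b * (s.1 * ∏ b, t b) = 0
        have hbt : b * t ⟨b, hb⟩ = 0 := by rw [mul_comm]; exact htb ⟨b, hb⟩
        rw [hd, mul_left_comm, ← mul_assoc b, hbt, zero_mul, mul_zero]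
      have := (Submodule.mem_annihilator_span_singleton c e).mp (hle he)
      rw [mul_comm]; exact this
    have h1 : X.presheaf.germ V y.1 hyV b = 0 := by
      have := congr_arg (X.presheaf.germ V y.1 hyV) (hcJ _ hwb)
      rw [map_mul _ c, map_mul _ w, map_zero] at this
      exact (AssPointLib.isUnit_germ hV hyV hw).mul_right_eq_zero.mp
        (((X.mem_basicOpen c y.1 hyV).mp y.2).mul_right_eq_zero.mp this)
    rw [h1] at hzb
    exact (AssPointLib.isUnit_germ hV hyV r.2).mul_left_eq_zero.mp hzb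
  · rw [map_mul, TopCat.Presheaf.germ_res_apply, ← hga]
    have h1 : X.presheaf.germ W x hxW v * X.presheaf.germ V x hxV s.1 = 1 := by
      have := congr_arg (X.presheaf.germ W x hxW) hv
      rwa [map_mul, map_one, TopCat.Presheaf.germ_res_apply] at this
    rw [mul_left_comm, h1, mul_one]

end Groth.Agent.S8863
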