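import Groth.Statements.S10892
import Groth.Agent.S8863
import Mathlib.AlgebraicGeometry.Properties
import Mathlib.Topology.NoetherianSpace
-- import your own Groth.Agent.* helpers here

set_option autoImplicit false
universe u
open CategoryTheory AlgebraicGeometry
open Curves

namespace Groth.Agent.S10892

open AlgebraicGeometry CategoryTheory TopologicalSpace

variable {C : Scheme.{u}} [IsNoetherian C]
  (hC : ∀ x : C, IsClosed ({x} : Set C) → ringKrullDim (C.presheaf.stalk x) = 1)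

include hC in
theorem isUnit_of_not_closed (x : C) (hx : ¬ IsClosed ({x} : Set C)) (a : C.presheaf.stalk x)
    (ha : a ∈ nonZeroDivisors (C.presheaf.stalk x)) : IsUnit a := by
  obtain ⟨y, hy, hyc⟩ := (isClosed_closure (s := ({x} : Set C))).exists_closed_singleton
    ⟨x, subset_closure rfl⟩
  have hxy : x ⤳ y := specializes_iff_mem_closure.2 hy
  have hne : y ≠ x := fun h => hx (h ▸ hyc)
  have hlt : y < x := lt_of_le_not_ge (by exact hxy) fun h =>
    hne ((Specializes.antisymm (show y ⤳ x from h) hxy).eq)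
  have h1 : Order.coheight y = 1 := by
    have := hC y hyc
    rw [ringKrullDim_stalk_eq_coheight] at this
    exact_mod_cast this
  have h0 : Order.coheight x = 0 := by
    have := Order.coheight_add_one_le hlt
    rw [h1] at this
    by_contra h
    have h2 : (1 : ℕ∞) ≤ Order.coheight x := ENat.one_le_iff_ne_zero.2 h
    have h3 := (add_le_add h2 le_rfl).trans this
    norm_num at h3
  have hd : ringKrullDim (C.presheaf.stalk x) = 0 := by
    rw [ringKrullDim_stalk_eq_coheight, h0]; rfl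
  haveI : Ring.KrullDimLE 0 (C.presheaf.stalk x) := Ring.krullDimLE_iff.2 hd.le
  by_contra hu
  obtain ⟨n, hn⟩ := (Ring.KrullDimLE.isNilpotent_iff_mem_nonunits (x := a)).2 hu
  exact nonZeroDivisors.ne_zero (pow_mem ha n) hn

include hC in
theorem germ_trivial (x : C) (hx : ¬ IsClosed ({x} : Set C)) (g : Mero.Germ C x) : g = 1 := by
  obtain ⟨u, rfl⟩ := QuotientGroup.mk_surjective g
  rw [QuotientGroup.eq_one_iff]
  have hle : ∀ s : Mero.regStalk C x, IsUnit (s : C.presheaf.stalk x) := fun s =>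
    isUnit_of_not_closed hC x hx _ (Mero.regStalk_le_nonZeroDivisors x s.2)
  have hb : Function.Bijective (algebraMap (C.presheaf.stalk x) (Mero.KStalk C x)) :=
    (IsLocalization.atUnits (C.presheaf.stalk x) (Mero.regStalk C x) (S := Mero.KStalk C x)
      fun s hs => hle ⟨s, hs⟩).bijective
  let e := RingEquiv.ofBijective _ hb
  exact ⟨Units.map e.symm.toMonoidHom u, Units.ext (e.apply_symm_apply _)⟩

theorem finite_closed_points {S : Set C} (Z : Closeds C) (V : C.Opens) (hS : S ⊆ (Z : Set C) ∩ V)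
    (hpt : ∀ y ∈ (Z : Set C) ∩ V, IsClosed ({y} : Set C)) : S.Finite := by
  obtain ⟨T, hT, hirr, hZ⟩ := NoetherianSpace.exists_finite_set_closeds_irreducible Z
  suffices h : ((Z : Set C) ∩ V).Finite from h.subset hS
  have hcover : (Z : Set C) ∩ V ⊆ ⋃ t ∈ T, ((t : Set C) ∩ V) := by
    rintro y ⟨hyZ, hyV⟩
    rw [hZ, sSup_eq_iSup] at hyZ
    have : y ∈ ⋃ t ∈ T, (t : Set C) := by
      have hc : IsClosed (⋃ t ∈ T, (t : Set C)) := hT.isClosed_biUnion fun t _ => t.isClosed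
      have hle : (⨆ t ∈ T, t : Closeds C) ≤ ⟨_, hc⟩ := iSup₂_le fun t ht => Set.subset_biUnion_of_mem ht
      exact hle hyZ
    obtain ⟨t, ht, hyt⟩ := Set.mem_iUnion₂.1 this
    exact Set.mem_iUnion₂.2 ⟨t, ht, hyt, hyV⟩
  refine (hT.biUnion fun t ht => Set.Subsingleton.finite fun a ha b hb => ?_).subset hcover
  obtain ⟨η, hη⟩ := QuasiSober.sober (hirr t ht) t.isClosed
  have hηV : η ∈ (V : Set C) := (hη.specializes ha.1).mem_open V.2 ha.2
  have htZ : t ≤ Z := hZ ▸ le_sSup ht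
  have hc := hpt η ⟨htZ hη.mem, hηV⟩
  have : (t : Set C) = {η} := hη.def.symm.trans hc.closure_eq
  rw [this] at ha hb
  exact (Set.mem_singleton_iff.1 ha.1).trans (Set.mem_singleton_iff.1 hb.1).symm

theorem mk_mem_stalkUnits {x : C} (u : (Mero.KStalk C x)ˣ) (a : C.presheaf.stalk x) (s : Mero.regStalk C x)
    (hu : (u : Mero.KStalk C x) = LocalizedModule.mk a s) (ha : IsUnit a) (hs : IsUnit (s : C.presheaf.stalk x)) :
    u ∈ Mero.stalkUnits C x := by
  refine ⟨ha.unit * hs.unit⁻¹, Units.ext ?_⟩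
  change algebraMap (C.presheaf.stalk x) (Mero.KStalk C x) ((ha.unit * hs.unit⁻¹ : (C.presheaf.stalk x)ˣ) : _) = _
  rw [hu]
  refine LocalizedModule.mk_eq.2 ⟨1, ?_⟩
  simp only [one_smul, Submonoid.smul_def, smul_eq_mul, Units.val_mul, IsUnit.unit_spec]
  simp [mul_left_comm]

include hC in
theorem bad_closed {U : C.Opens} (A B : Mero.regSub C U) (y : C) (hyU : y ∈ U)
    (h : y ∉ C.basicOpen A.1 ⊓ C.basicOpen B.1) : IsClosed ({y} : Set C) := by
  by_contra hy
  exact h ⟨(C.mem_basicOpen A.1 y hyU).2 (isUnit_of_not_closed hC y hy _ (A.2 ⟨y, hyU⟩)),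
    (C.mem_basicOpen B.1 y hyU).2 (isUnit_of_not_closed hC y hy _ (B.2 ⟨y, hyU⟩))⟩

include hC in
theorem bad_finite {U : C.Opens} (A B : Mero.regSub C U) :
    ((U : Set C) \ (C.basicOpen A.1 ⊓ C.basicOpen B.1 : C.Opens)).Finite := by
  refine finite_closed_points ⟨((C.basicOpen A.1 ⊓ C.basicOpen B.1 : C.Opens) : Set C)ᶜ,
    (C.basicOpen A.1 ⊓ C.basicOpen B.1).2.isClosed_compl⟩ U (fun y hy => ⟨hy.2, hy.1⟩) ?_
  exact fun y hy => bad_closed hC A B y hy.2 hy.1

include hC in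
theorem finite_of_mem (g : ∀ x : C, Mero.Germ C x) (hg : g ∈ Mero.divisorGroup C) :
    {x : C | g x ≠ 1}.Finite := by
  have loc : ∀ x : C, ∃ (V : C.Opens), x ∈ V ∧ ({y : C | g y ≠ 1} ∩ V).Finite := by
    intro x
    obtain ⟨U, hxU, f, hf⟩ := hg x
    obtain ⟨V₁, hx₁, i₁, a, b, w₁⟩ := f.1.2 ⟨x, hxU⟩
    obtain ⟨V₂, hx₂, i₂, c, d, w₂⟩ := (↑f⁻¹ : Γ(Mero.kmod C, U)).2 ⟨x, hxU⟩
    let r₁ := C.presheaf.map (homOfLE (inf_le_left : V₁ ⊓ V₂ ≤ V₁)).op
    let r₂ := C.presheaf.map (homOfLE (inf_le_right : V₁ ⊓ V₂ ≤ V₂)).op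
    have hA : r₁ a ∈ Mero.regSub C (V₁ ⊓ V₂) := fun y => by
      have e : (f.1.1 ⟨y.1, i₁.le y.2.1⟩) * ((↑f⁻¹ : Γ(Mero.kmod C, U)).1 ⟨y.1, i₁.le y.2.1⟩) = 1 := by
        rw [← Mero.kmod_mul_apply, f.mul_inv]; rfl
      have e₁ : f.1.1 ⟨y.1, i₁.le y.2.1⟩ = _ := w₁ ⟨y.1, y.2.1⟩
      have e₂ : (↑f⁻¹ : Γ(Mero.kmod C, U)).1 ⟨y.1, i₁.le y.2.1⟩ = _ := w₂ ⟨y.1, y.2.2⟩
      rw [e₁, e₂] at e
      obtain ⟨t, ht⟩ := LocalizedModule.mk_eq.1
        ((LocalizedModule.mk_mul_mk.symm.trans e).trans (Mero.mk_self_eq_one (1 : Mero.regStalk C y.1)).symm)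
      simp only [Submonoid.smul_def, smul_eq_mul, Submonoid.coe_one, one_mul, Submonoid.coe_mul, mul_one] at ht
      rw [TopCat.Presheaf.germ_res_apply]
      have hbd : (Mero.regGerm (⟨y.1, y.2.1⟩ : V₁) b : C.presheaf.stalk y.1) *
          Mero.regGerm (⟨y.1, y.2.2⟩ : V₂) d ∈ nonZeroDivisors (C.presheaf.stalk y.1) :=
        mul_mem (b.2 ⟨y.1, y.2.1⟩) (d.2 ⟨y.1, y.2.2⟩)
      have h3 := mul_mem (Mero.regStalk_le_nonZeroDivisors _ t.2) hbd
      rw [← ht] at h3
      exact (mul_mem_nonZeroDivisors.1 (mul_mem_nonZeroDivisors.1 h3).2).1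
    let B : Mero.regSub C (V₁ ⊓ V₂) := ⟨r₁ b.1, Mero.regSub_res _ b.2⟩
    refine ⟨V₁ ⊓ V₂, ⟨hx₁, hx₂⟩, (bad_finite hC ⟨r₁ a, hA⟩ B).subset fun y hy => ⟨hy.2, fun hgood => hy.1 ?_⟩⟩
    have hy₁ : y ∈ V₁ := hy.2.1
    rw [show g y = _ from hf ⟨y, i₁.le hy₁⟩, Mero.germOf, QuotientGroup.eq_one_iff]
    refine mk_mem_stalkUnits _ _ (Mero.regGerm (⟨y, hy₁⟩ : V₁) b) (w₁ ⟨y, hy₁⟩) ?_ ?_
    · have := (C.mem_basicOpen (r₁ a) y hy.2).1 hgood.1
      rwa [TopCat.Presheaf.germ_res_apply] at this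
    · have := (C.mem_basicOpen (r₁ b.1) y hy.2).1 hgood.2
      rwa [TopCat.Presheaf.germ_res_apply] at this
  choose V hxV hfin using loc
  obtain ⟨t, ht⟩ := isCompact_univ.elim_finite_subcover (fun x => (V x : Set C)) (fun x => (V x).2)
    fun x _ => Set.mem_iUnion.2 ⟨x, hxV x⟩
  refine (t.finite_toSet.biUnion fun x _ => hfin x).subset fun y hy => ?_
  obtain ⟨x, hx, hyx⟩ := Set.mem_iUnion₂.1 (ht (Set.mem_univ y))
  exact Set.mem_iUnion₂.2 ⟨x, hx, hy, hyx⟩

include hC in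
theorem mem_of_finite (g : ∀ x : C, Mero.Germ C x) (hfin : {x : C | g x ≠ 1}.Finite)
    (hgen : ∀ x : C, ¬ IsClosed ({x} : Set C) → g x = 1) : g ∈ Mero.divisorGroup C := by
  intro x
  obtain ⟨u, hu⟩ := QuotientGroup.mk_surjective (g x)
  obtain ⟨⟨a, s⟩, has⟩ := IsLocalization.surj (Mero.regStalk C x) (u : Mero.KStalk C x)
  have ha : a ∈ Mero.regStalk C x := by
    rw [Groth.Agent.S8863.result C x, mem_nonZeroDivisors_iff_right]
    intro z hz
    apply Mero.algebraMap_KStalk_injective x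
    have h2 : algebraMap (C.presheaf.stalk x) (Mero.KStalk C x) z * algebraMap _ _ a = 0 := by
      rw [← map_mul, hz, map_zero]
    rw [← has] at h2
    rw [map_zero]
    exact (u.isUnit.mul (IsLocalization.map_units _ s)).mul_left_eq_zero.1 h2
  obtain ⟨U₁, hx₁, A, hA, hAa⟩ := ha
  obtain ⟨U₂, hx₂, B, hB, hBs⟩ := s.2
  let U := U₁ ⊓ U₂
  let A' : Mero.regSub C U := ⟨C.presheaf.map (homOfLE (inf_le_left : U ≤ U₁)).op A, Mero.regSub_res _ hA⟩
  let B' : Mero.regSub C U := ⟨C.presheaf.map (homOfLE (inf_le_right : U ≤ U₂)).op B, Mero.regSub_res _ hB⟩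
  let T : Set C := (((U : Set C) \ (C.basicOpen A'.1 ⊓ C.basicOpen B'.1 : C.Opens)) ∪ {y | g y ≠ 1}) \ {x}
  have hTf : T.Finite := ((bad_finite hC A' B').union hfin).subset Set.sdiff_subset
  have hTc : IsClosed T := by
    rw [← Set.biUnion_of_singleton T]
    refine hTf.isClosed_biUnion fun y hy => ?_
    rcases hy.1 with h | h
    · exact bad_closed hC A' B' y h.1 h.2
    · exact not_not.1 fun hnc => h (hgen y hnc)
  let W : C.Opens := U ⊓ ⟨Tᶜ, hTc.isOpen_compl⟩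
  let j : W ⟶ U := homOfLE inf_le_left
  let A₀ : Mero.regSub C W := ⟨C.presheaf.map j.op A'.1, Mero.regSub_res _ A'.2⟩
  let B₀ : Mero.regSub C W := ⟨C.presheaf.map j.op B'.1, Mero.regSub_res _ B'.2⟩
  let mkK : Mero.regSub C W → Mero.regSub C W → Γ(Mero.kmod C, W) := fun P Q =>
    ⟨fun y => LocalizedModule.mk (C.presheaf.germ W y.1 y.2 P.1) (Mero.regGerm y Q),
      fun y => ⟨W, y.2, 𝟙 _, P.1, Q, fun _ => rfl⟩⟩
  have hinv : ∀ P Q : Mero.regSub C W, mkK P Q * mkK Q P = 1 := fun P Q => Subtype.ext (funext fun y => by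
    rw [Mero.kmod_mul_apply, Mero.kmod_one_apply]
    refine LocalizedModule.mk_mul_mk.trans ((Mero.mk_congr (mul_comm _ _) ?_).trans
      (Mero.mk_self_eq_one (Mero.regGerm y Q * Mero.regGerm y P)))
    rfl)
  let f : Γ(Mero.kmod C, W)ˣ := ⟨mkK A₀ B₀, mkK B₀ A₀, hinv A₀ B₀, hinv B₀ A₀⟩
  have hxW : x ∈ W := ⟨⟨hx₁, hx₂⟩, fun h => h.2 rfl⟩
  refine ⟨W, hxW, f, fun y => ?_⟩
  obtain ⟨y, hyW⟩ := y
  by_cases hyx : y = x
  · subst hyx
    rw [← hu, Mero.germOf]
    refine congrArg _ (Units.ext ?_)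
    change (u : Mero.KStalk C y) =
      LocalizedModule.mk (C.presheaf.germ W y hyW A₀.1) (Mero.regGerm (⟨y, hyW⟩ : W) B₀)
    have eA : C.presheaf.germ W y hyW A₀.1 = a := by
      simp only [A₀, A', TopCat.Presheaf.germ_res_apply]; exact hAa
    have eB : C.presheaf.germ W y hyW B₀.1 = (s : C.presheaf.stalk y) := by
      simp only [B₀, B', TopCat.Presheaf.germ_res_apply]; exact hBs
    rw [Mero.mk_congr (s' := s) eA eB]
    refine (IsLocalization.map_units (Mero.KStalk C y) s).mul_right_cancel ?_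
    rw [has]
    change LocalizedModule.mk a 1 = LocalizedModule.mk a s * LocalizedModule.mk (s : C.presheaf.stalk y) 1
    exact (LocalizedModule.mk_eq.2 ⟨1, by simp [Submonoid.smul_def, mul_comm]⟩).trans LocalizedModule.mk_mul_mk.symm
  · have hyT : y ∉ T := hyW.2
    have hy1 : g y = 1 := not_not.1 fun h => hyT ⟨Or.inr h, hyx⟩
    have hgood : y ∈ C.basicOpen A'.1 ⊓ C.basicOpen B'.1 :=
      not_not.1 fun h => hyT ⟨Or.inl ⟨hyW.1, h⟩, hyx⟩
    rw [hy1, Mero.germOf, eq_comm, QuotientGroup.eq_one_iff]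
    refine mk_mem_stalkUnits _ (C.presheaf.germ W y hyW A₀.1) (Mero.regGerm (⟨y, hyW⟩ : W) B₀) rfl ?_ ?_
    · simp only [A₀, TopCat.Presheaf.germ_res_apply]
      exact (C.mem_basicOpen A'.1 y hyW.1).1 hgood.1
    · simp only [B₀, TopCat.Presheaf.germ_res_apply]
      exact (C.mem_basicOpen B'.1 y hyW.1).1 hgood.2

/-- On an absolute curve C (Noetherian, local rings at closed points one-dimensional) the map sending a
divisor to its germs at the closed points is an isomorphism from Div(C) onto the direct sum over the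
closed points x of the groups K_{C,x}^× / O_{C,x}^× (K_{C,x} the total ring of fractions of the
local ring). With divisors realised as families of germs, this says: a family of germs is a divisor
exactly when it is trivial outside a finite set of closed points. -/
theorem result {C : Scheme.{u}} [IsNoetherian C]
    (hC : ∀ x : C, IsClosed ({x} : Set C) → ringKrullDim (C.presheaf.stalk x) = 1)
    (g : ∀ x : C, Mero.Germ C x) :
    g ∈ Mero.divisorGroup C ↔ ({x : C | g x ≠ 1}.Finite ∧ ∀ x : C, ¬ IsClosed ({x} : Set C) → g x = 1) := by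
  classical
  refine ⟨fun hg => ⟨finite_of_mem hC g hg, fun x hx => germ_trivial hC x hx (g x)⟩, fun ⟨hfin, hgen⟩ => ?_⟩
  exact mem_of_finite hC g hfin hgen

end Groth.Agent.S10892
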