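import Groth.Statements.S10893
import Groth.Agent.S10892
import Groth.Agent.S8863
import Mathlib.RingTheory.Ideal.AssociatedPrime.Localization
import Mathlib.RingTheory.Ideal.AssociatedPrime.Finiteness


set_option autoImplicit false
set_option backward.isDefEq.respectTransparency false
set_option backward.isDefEq.respectTransparency.types false
set_option maxHeartbeats 1000000
universe u
open CategoryTheory AlgebraicGeometry
open Curves

namespace Groth.Agent.S10893

/-- The points whose maximal ideal consists of zero divisors are finite in number. -/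
theorem finite_bad (C : Scheme.{u}) [IsNoetherian C] :
    {x : C | ∀ a ∈ IsLocalRing.maximalIdeal (C.presheaf.stalk x),
      a ∉ nonZeroDivisors (C.presheaf.stalk x)}.Finite := by
  classical
  have loc : ∀ U : C.affineOpens, ({x : C | ∀ a ∈ IsLocalRing.maximalIdeal (C.presheaf.stalk x),
      a ∉ nonZeroDivisors (C.presheaf.stalk x)} ∩ (U.1 : Set C)).Finite := by
    intro U
    haveI : IsNoetherianRing Γ(C, U.1) := IsLocallyNoetherian.component_noetherian U
    have hfin : (associatedPrimes Γ(C, U.1) Γ(C, U.1)).Finite := associatedPrimes.finite _ _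
    refine Set.Finite.subset ((hfin.preimage
      (f := fun p : PrimeSpectrum Γ(C, U.1) => p.asIdeal) fun a _ b _ h => PrimeSpectrum.ext h).image
        (fun p => U.2.fromSpec p)) ?_
    rintro x ⟨hx, hxU⟩
    refine ⟨U.2.primeIdealOf ⟨x, hxU⟩, ?_, U.2.fromSpec_primeIdealOf ⟨x, hxU⟩⟩
    letI := C.presheaf.algebra_section_stalk (⟨x, hxU⟩ : U.1)
    haveI := U.2.isLocalization_stalk ⟨x, hxU⟩
    haveI : IsLocalizedModule (U.2.primeIdealOf ⟨x, hxU⟩).asIdeal.primeCompl
        (Algebra.linearMap Γ(C, U.1) (C.presheaf.stalk x)) :=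
      (isLocalizedModule_iff_isLocalization' _ _).mpr inferInstance
    have hass : IsLocalRing.maximalIdeal (C.presheaf.stalk x) ∈
        associatedPrimes (C.presheaf.stalk x) (C.presheaf.stalk x) := by
      have hfin' : (associatedPrimes (C.presheaf.stalk x) (C.presheaf.stalk x)).Finite :=
        associatedPrimes.finite _ _
      have hsub : ((IsLocalRing.maximalIdeal (C.presheaf.stalk x) : Ideal (C.presheaf.stalk x)) :
          Set (C.presheaf.stalk x)) ⊆ ⋃ p ∈ (hfin'.toFinset : Set (Ideal (C.presheaf.stalk x))), id p := by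
        intro a ha
        rw [Set.Finite.coe_toFinset]
        exact (biUnion_associatedPrimes_eq_compl_nonZeroDivisors (C.presheaf.stalk x)).ge (hx a ha)
      obtain ⟨p, hp, hle⟩ := (Ideal.subset_union_prime ⊥ ⊥
        (fun p hp _ _ => (hfin'.mem_toFinset.1 hp).isPrime)).1 hsub
      have hp' := hfin'.mem_toFinset.1 hp
      rwa [(IsLocalRing.maximalIdeal.isMaximal _).eq_of_le hp'.isPrime.ne_top hle]
    have := Module.associatedPrimes.comap_mem_associatedPrimes_of_mem_associatedPrimes_of_isLocalizedModule_of_fg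
      (U.2.primeIdealOf ⟨x, hxU⟩).asIdeal.primeCompl
      (Algebra.linearMap Γ(C, U.1) (C.presheaf.stalk x)) _ hass (IsNoetherian.noetherian _)
    show (U.2.primeIdealOf ⟨x, hxU⟩).asIdeal ∈ associatedPrimes Γ(C, U.1) Γ(C, U.1)
    rw [← IsLocalization.AtPrime.comap_maximalIdeal (C.presheaf.stalk x) (U.2.primeIdealOf ⟨x, hxU⟩).asIdeal]
    exact this
  obtain ⟨t, ht⟩ := isCompact_univ.elim_finite_subcover (fun U : C.affineOpens => (U.1 : Set C))
    (fun U => U.1.2) fun x _ => by
      obtain ⟨U, hU, hxU, -⟩ := exists_isAffineOpen_mem_and_subset (U := ⊤) (x := x) trivial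
      exact Set.mem_iUnion.2 ⟨⟨U, hU⟩, hxU⟩
  refine (t.finite_toSet.biUnion fun U _ => loc U).subset fun y hy => ?_
  obtain ⟨U, hU, hyU⟩ := Set.mem_iUnion₂.1 (ht (Set.mem_univ y))
  exact Set.mem_iUnion₂.2 ⟨U, hU, hy, hyU⟩

/-- Let C be an absolute curve (Noetherian, local rings at closed points one-dimensional) none of whose
points is open, and U ⊆ C an open dense subset. Then there is an effective divisor D on C with
support contained in U and meeting every irreducible component of C. -/
theorem result {C : Scheme.{u}} [IsNoetherian C]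
    (hC : ∀ x : C, IsClosed ({x} : Set C) → ringKrullDim (C.presheaf.stalk x) = 1)
    (hpt : ∀ x : C, ¬ IsOpen ({x} : Set C)) (U : C.Opens) (hU : Dense (U : Set C)) :
    ∃ D : Mero.Divisor C, Mero.IsEffective D ∧ Mero.supp D ⊆ (U : Set C) ∧
      ∀ Z ∈ irreducibleComponents (C : Type u), (Mero.supp D ∩ Z).Nonempty := by
  classical
  let B := {x : C | ∀ a ∈ IsLocalRing.maximalIdeal (C.presheaf.stalk x),
    a ∉ nonZeroDivisors (C.presheaf.stalk x)}
  have hB : B.Finite := finite_bad C
  have hfc : (irreducibleComponents (C : Type u)).Finite :=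
    TopologicalSpace.NoetherianSpace.finite_irreducibleComponents
  have hBc : IsClosed {x ∈ B | IsClosed ({x} : Set C)} := by
    rw [← Set.biUnion_of_singleton {x ∈ B | IsClosed ({x} : Set C)}]
    exact (hB.subset fun x hx => hx.1).isClosed_biUnion fun y hy => hy.2
  have key : ∀ Z ∈ irreducibleComponents (C : Type u), ∃ x ∈ Z ∩ (U : Set C),
      IsClosed ({x} : Set C) ∧ x ∉ B := by
    intro Z hZ
    have hZc := isClosed_of_mem_irreducibleComponents Z hZ
    have hirr : IsIrreducible Z := hZ.1
    let R : Set C := ⋃ Z' ∈ irreducibleComponents (C : Type u) \ {Z}, Z'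
    have hRc : IsClosed R := (hfc.subset Set.sdiff_subset).isClosed_biUnion fun Z' h =>
      isClosed_of_mem_irreducibleComponents Z' h.1
    have hcov : ∀ x : C, x ∉ R → x ∈ Z := fun x hx => by
      by_contra h
      exact hx (Set.mem_biUnion ⟨irreducibleComponent_mem_irreducibleComponents x,
        fun e => h ((Set.mem_singleton_iff.1 e) ▸ mem_irreducibleComponent)⟩ mem_irreducibleComponent)
    obtain ⟨η, hη⟩ := QuasiSober.sober hirr hZc
    have hηR : η ∉ R := by
      intro h
      obtain ⟨Z', hZ', hηZ'⟩ := Set.mem_iUnion₂.1 h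
      have : Z ⊆ Z' := hη.def ▸ closure_minimal (Set.singleton_subset_iff.2 hηZ')
        (isClosed_of_mem_irreducibleComponents Z' hZ'.1)
      exact hZ'.2 (le_antisymm (hZ.2 hZ'.1.1 this) this)
    have hηU : η ∈ (U : Set C) := by
      obtain ⟨y, hy, hyU⟩ := hU.inter_open_nonempty Rᶜ hRc.isOpen_compl ⟨η, hηR⟩
      exact (hη.specializes (hcov y hy)).mem_open U.2 hyU
    let V : Set C := (U : Set C) ∩ Rᶜ ∩ {x ∈ B | IsClosed ({x} : Set C)}ᶜ
    have hVo : IsOpen V := (U.2.inter hRc.isOpen_compl).inter hBc.isOpen_compl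
    -- minimal points are not closed
    have hηcl : ¬ IsClosed ({η} : Set C) := by
      intro hc
      have hZη : Z = {η} := hη.def.symm.trans hc.closure_eq
      refine hpt η ?_
      have : ({η} : Set C) = Rᶜ := by
        ext y
        exact ⟨fun h => (Set.mem_singleton_iff.1 h) ▸ hηR, fun h => hZη ▸ hcov y h⟩
      rw [this]; exact hRc.isOpen_compl
    have hηV : η ∈ V := ⟨⟨hηU, hηR⟩, fun h => hηcl h.2⟩
    by_contra hno
    push Not at hno
    -- every point of `V` is generic, so `V` is open and reduced to `η`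
    have hV1 : V = {η} := by
      refine Set.eq_singleton_iff_unique_mem.2 ⟨hηV, fun y hy => ?_⟩
      by_contra hne
      have hyZ : y ∈ Z := hcov y hy.1.2
      by_cases hyc : IsClosed ({y} : Set C)
      · exact hy.2 ⟨hno y ⟨hyZ, hy.1.1⟩ hyc, hyc⟩
      · obtain ⟨z, hz, hzc⟩ := (isClosed_closure (s := ({y} : Set C))).exists_closed_singleton
          ⟨y, subset_closure rfl⟩
        have hyz : y ⤳ z := specializes_iff_mem_closure.2 hz
        have hηy : η ⤳ y := hη.specializes hyZ
        have hzy : z ≠ y := fun h => hyc (h ▸ hzc)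
        have hlt₁ : z < y := lt_of_le_not_ge (by exact hyz) fun h =>
          hzy ((Specializes.antisymm (show z ⤳ y from h) hyz).eq)
        have hlt₂ : y < η := lt_of_le_not_ge (by exact hηy) fun h =>
          hne ((Specializes.antisymm (show y ⤳ η from h) hηy).eq)
        have h1 : Order.coheight z = 1 := by
          have := hC z hzc
          rw [ringKrullDim_stalk_eq_coheight] at this
          exact_mod_cast this
        have h2 := Order.coheight_add_one_le hlt₁
        have h3 := Order.coheight_add_one_le hlt₂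
        rw [h1] at h2
        have h4 : (1 : ℕ∞) ≤ Order.coheight y := le_trans le_add_self h3
        have h5 := (add_le_add h4 (le_refl (1 : ℕ∞))).trans h2
        norm_num at h5
    exact hpt η (hV1 ▸ hVo)
  choose x hx hxc hxB using key
  have ht : ∀ Z hZ, ∃ a ∈ IsLocalRing.maximalIdeal (C.presheaf.stalk (x Z hZ)),
      a ∈ nonZeroDivisors (C.presheaf.stalk (x Z hZ)) := fun Z hZ => by
    have := hxB Z hZ
    simpa [B] using this
  let F : Set C := {y | ∃ Z hZ, x Z hZ = y}
  have hF : F.Finite := by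
    haveI := hfc.to_subtype
    refine (Set.finite_range fun Z : irreducibleComponents (C : Type u) => x Z.1 Z.2).subset ?_
    rintro y ⟨Z, hZ, rfl⟩
    exact ⟨⟨Z, hZ⟩, rfl⟩
  have hFt : ∀ y ∈ F, ∃ a : Mero.regStalk C y, (a : C.presheaf.stalk y) ∈ IsLocalRing.maximalIdeal _ := by
    rintro y ⟨Z, hZ, rfl⟩
    obtain ⟨a, ha, ha'⟩ := ht Z hZ
    exact ⟨⟨a, (Groth.Agent.S8863.result C _).ge ha'⟩, ha⟩
  choose a ha using hFt
  let g : ∀ y : C, Mero.Germ C y := fun y =>
    if h : y ∈ F then QuotientGroup.mk (IsLocalization.map_units (Mero.KStalk C y) (a y h)).unit else 1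
  have hne : ∀ y (h : y ∈ F), g y ≠ 1 := by
    intro y h hg
    simp only [g, dif_pos h, QuotientGroup.eq_one_iff] at hg
    obtain ⟨v, hv⟩ := hg
    have hv' := congrArg Units.val hv
    simp only [Units.coe_map, IsUnit.unit_spec] at hv'
    have := Mero.algebraMap_KStalk_injective y hv'
    exact (IsLocalRing.mem_maximalIdeal _).1 (ha y h) (this ▸ v.isUnit)
  have hgF : ∀ y, g y ≠ 1 → y ∈ F := fun y hy => by
    by_contra h; exact hy (dif_neg h)
  refine ⟨⟨g, (Groth.Agent.S10892.result hC g).2 ⟨hF.subset hgF, fun y hy => ?_⟩⟩, fun y => ?_, ?_, ?_⟩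
  · refine dif_neg fun ⟨Z, hZ, h⟩ => hy (h ▸ hxc Z hZ)
  · by_cases h : y ∈ F
    · exact ⟨a y h, dif_pos h⟩
    · refine ⟨1, (dif_neg h).trans ((QuotientGroup.eq_one_iff _).2 ?_).symm⟩
      exact ⟨1, Units.ext (by simp)⟩
  · rintro y hy
    obtain ⟨Z, hZ, rfl⟩ := hgF y hy
    exact (hx Z hZ).2
  · exact fun Z hZ => ⟨x Z hZ, hne _ ⟨Z, hZ, rfl⟩, (hx Z hZ).1⟩

end Groth.Agent.S10893
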