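import Groth.Statements.S10894
import Mathlib
import Groth.Agent.S10892
import Groth.Agent.S8863
-- import your own Groth.Agent.* helpers here

set_option autoImplicit false
universe u
open CategoryTheory AlgebraicGeometry
open Curves

namespace Groth.Agent.S10894

/-- On an absolute curve C (Noetherian, local rings at closed points one-dimensional) every divisor D is
a difference of two effective divisors each supported inside the support of D (divisors are written
multiplicatively, so the difference is D₁ · D₂⁻¹). -/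
theorem result {C : Scheme.{u}} [IsNoetherian C]
    (hC : ∀ x : C, IsClosed ({x} : Set C) → ringKrullDim (C.presheaf.stalk x) = 1) (D : Mero.Divisor C) :
    ∃ D₁ D₂ : Mero.Divisor C, Mero.IsEffective D₁ ∧ Mero.IsEffective D₂ ∧ D = D₁ * D₂⁻¹ ∧
      Mero.supp D₁ ⊆ Mero.supp D ∧ Mero.supp D₂ ⊆ Mero.supp D := by
  classical
  obtain ⟨hfin, hgen⟩ := (Groth.Agent.S10892.result hC D.1).1 D.2
  have key : ∀ x : C, ∃ a s : Mero.regStalk C x,
      D.1 x = QuotientGroup.mk ((IsLocalization.map_units (Mero.KStalk C x) a).unit *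
        (IsLocalization.map_units (Mero.KStalk C x) s).unit⁻¹) := by
    intro x
    obtain ⟨u, hu⟩ := QuotientGroup.mk_surjective (D.1 x)
    obtain ⟨⟨a, s⟩, has⟩ := IsLocalization.surj (Mero.regStalk C x) (u : Mero.KStalk C x)
    have ha : a ∈ Mero.regStalk C x := by
      rw [Groth.Agent.S8863.result C x, mem_nonZeroDivisors_iff_right]
      intro z hz
      apply Mero.algebraMap_KStalk_injective x
      have h2 : algebraMap (C.presheaf.stalk x) (Mero.KStalk C x) z * algebraMap _ _ a = 0 := by
        rw [← map_mul, hz, map_zero]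
      rw [← has] at h2
      rw [map_zero]
      exact (u.isUnit.mul (IsLocalization.map_units _ s)).mul_left_eq_zero.1 h2
    refine ⟨⟨a, ha⟩, s, ?_⟩
    rw [← hu]
    congr 1
    rw [eq_mul_inv_iff_mul_eq]
    exact Units.ext has
  choose a s has using key
  let g₁ : ∀ x : C, Mero.Germ C x := fun x => if D.1 x = 1 then 1 else
    QuotientGroup.mk (IsLocalization.map_units (Mero.KStalk C x) (a x)).unit
  let g₂ : ∀ x : C, Mero.Germ C x := fun x => if D.1 x = 1 then 1 else
    QuotientGroup.mk (IsLocalization.map_units (Mero.KStalk C x) (s x)).unit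
  have h1 : g₁ ∈ Mero.divisorGroup C := (Groth.Agent.S10892.result hC g₁).2
    ⟨hfin.subset fun x hx h => hx (if_pos h), fun x hx => if_pos (hgen x hx)⟩
  have h2 : g₂ ∈ Mero.divisorGroup C := (Groth.Agent.S10892.result hC g₂).2
    ⟨hfin.subset fun x hx h => hx (if_pos h), fun x hx => if_pos (hgen x hx)⟩
  have one_eff : ∀ x : C, ∃ c : Mero.regStalk C x,
      (1 : Mero.Germ C x) = QuotientGroup.mk (IsLocalization.map_units (Mero.KStalk C x) c).unit :=
    fun x => ⟨1, by
      rw [eq_comm, QuotientGroup.eq_one_iff]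
      exact ⟨1, Units.ext (by simp)⟩⟩
  refine ⟨⟨g₁, h1⟩, ⟨g₂, h2⟩, fun x => ?_, fun x => ?_, Subtype.ext (funext fun x => ?_),
    fun x hx h => hx (if_pos h), fun x hx h => hx (if_pos h)⟩
  · by_cases h : D.1 x = 1
    · obtain ⟨c, hc⟩ := one_eff x
      exact ⟨c, (if_pos h).trans hc⟩
    · exact ⟨a x, if_neg h⟩
  · by_cases h : D.1 x = 1
    · obtain ⟨c, hc⟩ := one_eff x
      exact ⟨c, (if_pos h).trans hc⟩
    · exact ⟨s x, if_neg h⟩
  · change D.1 x = g₁ x * (g₂ x)⁻¹
    by_cases h : D.1 x = 1
    · simp only [g₁, g₂, h, if_true, inv_one]; exact (one_mul (1 : Mero.Germ C x)).symm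
    · simp only [g₁, g₂, if_neg h]
      rw [has x, QuotientGroup.mk_mul, QuotientGroup.mk_inv]

end Groth.Agent.S10894
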