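import Groth.Statements.S10895
import Mathlib
import Groth.Agent.Unram17Lib.EtaleChartPullback
-- import your own Groth.Agent.* helpers here

set_option autoImplicit false
universe u
open CategoryTheory AlgebraicGeometry
open FlatMor

namespace Groth.Agent.S10895

/-- A closed immersion of finite presentation which is flat at a point x is an isomorphism over some
open neighbourhood of the image of x. -/
theorem result {X Y : Scheme.{u}} (f : X ⟶ Y) [IsClosedImmersion f]
    [LocallyOfFinitePresentation f] (x : X) (hflat : (f.stalkMap x).hom.Flat) :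
    ∃ V : Y.Opens, f.base x ∈ V ∧ IsIso (f ∣_ V) := by
  classical
  obtain ⟨_, ⟨V, hV, rfl⟩, hxV, -⟩ :=
    Y.isBasis_affineOpens.exists_subset_of_mem_open (Set.mem_univ (f x)) isOpen_univ
  have hU : IsAffineOpen (f ⁻¹ᵁ V) := hV.preimage f
  have hsurj : Function.Surjective (f.app V) := f.app_surjective V hV
  obtain ⟨G, hG⟩ : (RingHom.ker (f.app V).hom).FG := by
    have hfp := f.finitePresentation_appLE hV hU le_rfl
    rw [← Scheme.Hom.app_eq_appLE] at hfp
    letI := (f.app V).hom.toAlgebra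
    haveI : Algebra.FinitePresentation Γ(Y, V) Γ(X, f ⁻¹ᵁ V) := hfp
    exact Algebra.FinitePresentation.ker_fG_of_surjective (Algebra.ofId Γ(Y, V) Γ(X, f ⁻¹ᵁ V)) hsurj
  have hinj : Function.Injective (f.stalkMap x).hom := by
    letI := (f.stalkMap x).hom.toAlgebra
    haveI : IsLocalHom (algebraMap (Y.presheaf.stalk (f x)) (X.presheaf.stalk x)) :=
      inferInstanceAs (IsLocalHom (f.stalkMap x).hom)
    haveI : Module.Flat (Y.presheaf.stalk (f x)) (X.presheaf.stalk x) := hflat
    haveI : Module.FaithfullyFlat (Y.presheaf.stalk (f x)) (X.presheaf.stalk x) :=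
      Module.FaithfullyFlat.of_flat_of_isLocalHom
    exact FaithfulSMul.algebraMap_injective (Y.presheaf.stalk (f x)) (X.presheaf.stalk x)
  letI := TopCat.Presheaf.algebra_section_stalk Y.presheaf (⟨f x, hxV⟩ : V)
  haveI := hV.isLocalization_stalk ⟨f x, hxV⟩
  have hann : ∀ g ∈ G, ∃ r : Γ(Y, V), r ∉ (hV.primeIdealOf ⟨f x, hxV⟩).asIdeal ∧ r * g = 0 := by
    intro g hg
    have hg0 : f.app V g = 0 := hG.le (Submodule.subset_span hg)
    have h1 : algebraMap Γ(Y, V) (Y.presheaf.stalk (f x)) g = 0 := by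
      apply hinj
      rw [map_zero]
      refine (Scheme.Hom.germ_stalkMap_apply f V x hxV g).trans ?_
      rw [hg0, map_zero]
    obtain ⟨⟨r, hr⟩, hrg⟩ :=
      (IsLocalization.map_eq_zero_iff (hV.primeIdealOf ⟨f x, hxV⟩).asIdeal.primeCompl _ g).mp h1
    exact ⟨r, hr, hrg⟩
  choose! r hr hrg using hann
  let R := ∏ g ∈ G, r g
  have hR : R ∉ (hV.primeIdealOf ⟨f x, hxV⟩).asIdeal := fun h => by
    obtain ⟨g, hg, hgp⟩ := Ideal.IsPrime.prod_mem_iff.mp h
    exact hr g hg hgp
  have hRI : ∀ z, f.app V z = 0 → R * z = 0 := by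
    intro z hz
    have hz' : z ∈ Ideal.span (G : Set Γ(Y, V)) := hG.ge hz
    induction hz' using Submodule.span_induction with
    | mem g hg =>
      obtain ⟨c, hc⟩ := Finset.dvd_prod_of_mem r hg
      show (∏ g ∈ G, r g) * g = 0
      rw [hc, mul_right_comm, hrg g hg, zero_mul]
    | zero => rw [mul_zero]
    | add a b ha hb ha' hb' =>
      have ha0 : f.app V a = 0 := hG.le ha
      have hb0 : f.app V b = 0 := hG.le hb
      rw [mul_add, ha' ha0, hb' hb0, add_zero]
    | smul c a ha ha' => rw [smul_eq_mul, mul_left_comm, ha' (hG.le ha), mul_zero]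
  let W := Y.basicOpen R
  have hW : IsAffineOpen W := hV.basicOpen R
  have hxW : f x ∈ W := by
    rw [Y.mem_basicOpen _ _ hxV]
    exact (IsLocalization.AtPrime.isUnit_to_map_iff (Y.presheaf.stalk (f x)) _ R).mpr hR
  refine ⟨W, hxW, ?_⟩
  haveI hlocY : IsLocalization.Away R Γ(Y, W) := hV.isLocalization_basicOpen R
  have hWinj : Function.Injective (f.app W) := by
    refine (injective_iff_map_eq_zero _).mpr fun z hz => ?_
    obtain ⟨⟨a, ⟨_, k, rfl⟩⟩, ha⟩ := IsLocalization.surj (Submonoid.powers R) z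
    have hnat : ∀ b : Γ(Y, V), f.app W (algebraMap Γ(Y, V) Γ(Y, W) b) =
        X.presheaf.map (homOfLE (show f ⁻¹ᵁ W ≤ f ⁻¹ᵁ V from fun w hw => Y.basicOpen_le R hw)).op (f.app V b) := fun b => by
      show (Y.presheaf.map (homOfLE (Y.basicOpen_le R)).op ≫ f.app W) b = _
      rw [f.naturality]
      rfl
    haveI hlocX : IsLocalization.Away (f.app V R) Γ(X, X.basicOpen (f.app V R)) := hU.isLocalization_basicOpen _
    letI : Algebra Γ(X, f ⁻¹ᵁ V) Γ(X, f ⁻¹ᵁ W) :=
      (X.presheaf.map (homOfLE (show f ⁻¹ᵁ W ≤ f ⁻¹ᵁ V from fun w hw => Y.basicOpen_le R hw)).op).hom.toAlgebra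
    haveI : IsLocalization.Away (f.app V R) Γ(X, f ⁻¹ᵁ W) :=
      hU.isLocalization_of_eq_basicOpen _ _ (f.preimage_basicOpen R)
    have h0 : algebraMap Γ(X, f ⁻¹ᵁ V) Γ(X, f ⁻¹ᵁ W) (f.app V a) = 0 := by
      show X.presheaf.map _ (f.app V a) = 0
      rw [← hnat, ← ha, map_mul, hz, zero_mul]
    obtain ⟨⟨_, l, rfl⟩, hl⟩ := (IsLocalization.map_eq_zero_iff (Submonoid.powers (f.app V R)) _ _).mp h0
    have hmem := hRI (R ^ l * a) (by rw [map_mul, map_pow]; exact hl)
    have hu : IsUnit (algebraMap Γ(Y, V) Γ(Y, W) R) := IsLocalization.Away.algebraMap_isUnit R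
    have h2 : algebraMap Γ(Y, V) Γ(Y, W) a = 0 := by
      have h3 := congrArg (algebraMap Γ(Y, V) Γ(Y, W)) hmem
      rw [map_zero, ← mul_assoc, map_mul, ← pow_succ', map_pow] at h3
      exact (hu.pow _).mul_right_eq_zero.mp h3
    rw [h2] at ha
    exact ((hu.pow k).mul_left_eq_zero).mp (by rw [← ha, map_pow])
  haveI : IsAffine W.toScheme := hW
  haveI : IsAffine (f ⁻¹ᵁ W).toScheme := hW.preimage f
  haveI hiso : IsIso (f ∣_ W).appTop := by
    rw [ConcreteCategory.isIso_iff_bijective]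
    have hbij : Function.Bijective (f.app W) := ⟨hWinj, f.app_surjective W hW⟩
    have heq : ⇑(f ∣_ W).appTop = ⇑(f ⁻¹ᵁ W).topIso.inv ∘ ⇑(f.app W) ∘ ⇑W.topIso.hom := by
      funext z
      obtain ⟨z, rfl⟩ := W.topIso.commRingCatIsoToRingEquiv.symm.surjective z
      show (f ∣_ W).appTop (W.topIso.inv z) = (f ⁻¹ᵁ W).topIso.inv (f.app W (W.topIso.hom (W.topIso.inv z)))
      rw [Unram17Lib.morphismRestrict_appTop_topIso, Iso.inv_hom_id_apply]
    rw [heq]
    exact (ConcreteCategory.bijective_of_isIso (f ⁻¹ᵁ W).topIso.inv).comp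
      (hbij.comp (ConcreteCategory.bijective_of_isIso W.topIso.hom))
  exact (HasAffineProperty.iff_of_isAffine (P := MorphismProperty.isomorphisms Scheme)).mpr ⟨inferInstance, hiso⟩

end Groth.Agent.S10895
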