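import Groth.Statements.S12424
import Mathlib


-- import your own Groth.Agent.* helpers here

set_option autoImplicit false
universe u
open Cubic

namespace Groth.Agent.S12424

/-- Let k be an algebraically closed field of characteristic zero and S = V_+(f) ⊂ P^3_k a smooth cubic
surface, f a nonzero homogeneous cubic in four variables with the Jacobian condition at every
nonzero zero. For every hyperplane H of P^3_k the scheme-theoretic intersection S ∩ H is reduced;
concretely, for every 4 × 3 matrix A of rank 3 over k (a linear parametrisation of H), the ternary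
cubic obtained from f by substituting X_i ↦ Σ_j A_{ij} Y_j is squarefree. -/
theorem result (k : Type u) [Field k] [IsAlgClosed k] [CharZero k]
    (f : MvPolynomial (Fin 4) k) (hf : f.IsHomogeneous 3) (hf0 : f ≠ 0)
    (hsm : ∀ v : Fin 4 → k, v ≠ 0 → MvPolynomial.eval v f = 0 →
      ∃ i : Fin 4, MvPolynomial.eval v (MvPolynomial.pderiv i f) ≠ 0)
    (A : Matrix (Fin 4) (Fin 3) k) (hA : A.rank = 3) :
    Squarefree (MvPolynomial.aeval (fun i : Fin 4 => ∑ j : Fin 3, MvPolynomial.C (A i j) * MvPolynomial.X j) f) := by
  classical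
  intro q hq
  by_contra hqu
  set g : Fin 4 → MvPolynomial (Fin 3) k :=
    fun i => ∑ j : Fin 3, MvPolynomial.C (A i j) * MvPolynomial.X j with hg
  set F := MvPolynomial.aeval g f with hF
  have hsmul : ∀ {σ : Type} [Fintype σ] {P : MvPolynomial σ k} {d : ℕ}, P.IsHomogeneous d →
      ∀ (t : k) (v : σ → k), MvPolynomial.eval (fun i => t * v i) P = t ^ d * MvPolynomial.eval v P := by
    intro σ _ P d hP t v
    rw [MvPolynomial.eval_eq', MvPolynomial.eval_eq', Finset.mul_sum]
    refine Finset.sum_congr rfl fun m hm => ?_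
    have hd : ∑ i, m i = d := by
      rw [← hP (MvPolynomial.mem_support_iff.mp hm), Finsupp.weight_apply, Finsupp.sum_fintype]
      · simp
      · simp
    simp only [mul_pow, Finset.prod_mul_distrib, Finset.prod_pow_eq_pow_sum, hd]
    ring
  have hFh : F.IsHomogeneous 3 := by
    refine hf.aeval g (n := 1) (fun i => ?_)
    exact MvPolynomial.IsHomogeneous.sum _ _ _ fun j _ => (MvPolynomial.isHomogeneous_X k j).C_mul _
  have hchain : ∀ (j : Fin 3) (P : MvPolynomial (Fin 4) k), MvPolynomial.pderiv j (MvPolynomial.aeval g P) =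
      ∑ i, MvPolynomial.C (A i j) * MvPolynomial.aeval g (MvPolynomial.pderiv i P) := by
    intro j P
    induction P using MvPolynomial.induction_on with
    | C a => simp
    | add P Q hP hQ => simp only [map_add, hP, hQ, mul_add, Finset.sum_add_distrib]
    | mul_X P l hP =>
      have hgl : MvPolynomial.pderiv j (g l) = MvPolynomial.C (A l j) := by
        simp [hg, MvPolynomial.pderiv_X, Pi.single_apply]
      simp only [map_mul, MvPolynomial.aeval_X, MvPolynomial.pderiv_mul, hP, hgl, MvPolynomial.pderiv_X,
        Pi.single_apply, map_add, apply_ite (MvPolynomial.aeval g), map_one, map_zero, mul_ite, mul_one,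
        mul_zero, mul_add, Finset.sum_add_distrib, Finset.sum_ite_eq, Finset.sum_ite_eq', Finset.mem_univ,
        if_true, Finset.sum_mul]
      congr 1
      · exact Finset.sum_congr rfl fun i _ => by ring
      · ring
  set G : Fin 3 → MvPolynomial (Fin 3) k := fun j => MvPolynomial.pderiv j F with hG
  -- the linear form
  obtain ⟨a, ha, hGa⟩ : ∃ a : Fin 3 → k, a ≠ 0 ∧
      ∀ (y : Fin 3 → k), ∑ j, a j * y j = 0 → ∀ j, MvPolynomial.eval y (G j) = 0 := by
    by_cases hF0 : F = 0
    · exact ⟨fun _ => 1, fun h => one_ne_zero (congrFun h 0), fun y _ j => by simp [hG, hF0]⟩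
    obtain ⟨M, hM⟩ := hq
    have hq0 : q ≠ 0 := by rintro rfl; exact hF0 (by rw [hM]; ring)
    have hM0 : M ≠ 0 := by rintro rfl; exact hF0 (by rw [hM]; ring)
    have hdeg : F.totalDegree = q.totalDegree + q.totalDegree + M.totalDegree := by
      rw [hM, MvPolynomial.totalDegree_mul_of_isDomain (mul_ne_zero hq0 hq0) hM0,
        MvPolynomial.totalDegree_mul_of_isDomain hq0 hq0]
    rw [hFh.totalDegree hF0] at hdeg
    have hq1 : q.totalDegree = 1 := by
      rcases Nat.eq_zero_or_pos q.totalDegree with h | h
      · exfalso; apply hqu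
        rw [MvPolynomial.totalDegree_eq_zero_iff_eq_C.mp h] at hq0 ⊢
        exact (Ne.isUnit fun h' => hq0 (by rw [h', map_zero])).map MvPolynomial.C
      · omega
    set l := MvPolynomial.homogeneousComponent 1 q with hl
    have hlh : l.IsHomogeneous 1 := MvPolynomial.homogeneousComponent_isHomogeneous 1 q
    obtain ⟨a, ha⟩ := (Submodule.mem_span_range_iff_exists_fun k).mp
      (MvPolynomial.homogeneousSubmodule_one_eq_span_X (R := k) (σ := Fin 3) ▸
        (MvPolynomial.mem_homogeneousSubmodule 1 l).mpr hlh)
    have hqe : q = MvPolynomial.C (MvPolynomial.coeff 0 q) + l := by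
      have h := MvPolynomial.sum_homogeneousComponent q
      rw [hq1, Finset.sum_range_succ, Finset.sum_range_one, MvPolynomial.homogeneousComponent_zero] at h
      exact h.symm
    have hl0 : l ≠ 0 := fun h => by
      rw [hqe, h, add_zero, MvPolynomial.totalDegree_C] at hq1
      exact zero_ne_one hq1
    have hle : ∀ y, MvPolynomial.eval y l = ∑ j, a j * y j := fun y => by
      rw [← ha]; simp
    have hGh : ∀ j, (G j).IsHomogeneous 2 := fun j => by simpa [hG] using hFh.pderiv (i := j)
    refine ⟨a, fun h => hl0 (by rw [← ha, h]; simp), fun y hy j => ?_⟩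
    have hzero : ∀ z, MvPolynomial.eval z q = 0 → MvPolynomial.eval z (G j) = 0 := fun z hz => by
      simp [hG, hM, MvPolynomial.pderiv_mul, hz]
    by_cases hc : MvPolynomial.coeff 0 q = 0
    · refine hzero y ?_
      rw [hqe, hc, map_zero, zero_add, hle, hy]
    · have hGl : G j * l = 0 := by
        refine MvPolynomial.funext fun z => ?_
        rw [map_mul, map_zero]
        by_cases hz : MvPolynomial.eval z l = 0
        · rw [hz, mul_zero]
        · set t := -(MvPolynomial.coeff 0 q) / MvPolynomial.eval z l with ht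
          have h1 := hzero (fun i => t * z i) (by
            rw [hqe, map_add, MvPolynomial.eval_C, hsmul hlh, pow_one, ht, div_mul_cancel₀ _ hz, add_neg_cancel])
          rw [hsmul (hGh j)] at h1
          have ht0 : t ≠ 0 := div_ne_zero (neg_ne_zero.mpr hc) hz
          rw [(mul_eq_zero.mp h1).resolve_left (pow_ne_zero _ ht0), zero_mul]
      rw [(mul_eq_zero.mp hGl).resolve_right hl0, map_zero]
  let φ : (Fin 3 → k) →ₗ[k] k := ∑ j, a j • LinearMap.proj j
  have hφ : ∀ y, φ y = ∑ j, a j * y j := fun y => by simp [φ]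
  have hW : 2 ≤ Module.finrank k (LinearMap.ker φ) := by
    have h := LinearMap.finrank_range_add_finrank_ker φ
    have h' := Submodule.finrank_le (LinearMap.range φ)
    rw [Module.finrank_pi, Fintype.card_fin] at h
    rw [Module.finrank_self] at h'
    omega
  obtain ⟨e, he⟩ := exists_linearIndependent_of_le_finrank hW
  have hinj : Function.Injective A.mulVecLin := by
    rw [← LinearMap.ker_eq_bot, ← Submodule.finrank_eq_zero]
    have h := LinearMap.finrank_range_add_finrank_ker A.mulVecLin
    rw [show Module.finrank k (LinearMap.range A.mulVecLin) = 3 from hA, Module.finrank_pi, Fintype.card_fin] at h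
    omega
  obtain ⟨w, hw⟩ : ∃ w : Fin 4 → k, w ∉ LinearMap.range A.mulVecLin := by
    by_contra hc
    push Not at hc
    have : LinearMap.range A.mulVecLin = ⊤ := eq_top_iff.mpr fun v _ => hc v
    have h := hA
    rw [Matrix.rank, this, finrank_top, Module.finrank_pi, Fintype.card_fin] at h
    omega
  set c : MvPolynomial (Fin 3) k := ∑ i, MvPolynomial.C (w i) * MvPolynomial.aeval g (MvPolynomial.pderiv i f) with hc
  have hch : c.IsHomogeneous 2 := MvPolynomial.IsHomogeneous.sum _ _ _ fun i _ =>
    MvPolynomial.IsHomogeneous.C_mul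
      (by simpa using (hf.pderiv (i := i)).aeval g (n := 1) (fun l =>
        MvPolynomial.IsHomogeneous.sum _ _ _ fun j _ => (MvPolynomial.isHomogeneous_X k j).C_mul _)) _
  obtain ⟨y, hy0, hyφ, hyc⟩ : ∃ y : Fin 3 → k, y ≠ 0 ∧ φ y = 0 ∧ MvPolynomial.eval y c = 0 := by
    have hne : ∀ s t : k, (s ≠ 0 ∨ t ≠ 0) → (s • (e 0 : Fin 3 → k) + t • (e 1 : Fin 3 → k)) ≠ 0 := by
      intro s t hst h
      have h2 := Fintype.linearIndependent_iff.mp he ![s, t] (by
        rw [Fin.sum_univ_two]
        exact Subtype.ext (by simpa using h))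
      rcases hst with hs | ht
      · exact hs (h2 0)
      · exact ht (h2 1)
    have hmem : ∀ s t : k, φ (s • (e 0 : Fin 3 → k) + t • (e 1 : Fin 3 → k)) = 0 := fun s t => by
      rw [map_add, map_smul, map_smul, LinearMap.mem_ker.mp (e 0).2, LinearMap.mem_ker.mp (e 1).2, smul_zero,
        smul_zero, add_zero]
    let Q : Polynomial k := MvPolynomial.aeval
      (fun j => Polynomial.C ((e 0 : Fin 3 → k) j) + Polynomial.C ((e 1 : Fin 3 → k) j) * Polynomial.X) c
    have hQ : ∀ s, Q.eval s = MvPolynomial.eval ((1 : k) • (e 0 : Fin 3 → k) + s • (e 1 : Fin 3 → k)) c := by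
      intro s
      rw [← Polynomial.coe_evalRingHom]
      show (Polynomial.evalRingHom s) (MvPolynomial.aeval _ c) = _
      rw [MvPolynomial.aeval_def, MvPolynomial.eval₂_comp_left, MvPolynomial.eval]
      congr 1
      · ext x; simp
      · funext j; simp; ring
    by_cases hdQ : Q.degree = 0
    · have hQC := Polynomial.eq_C_of_degree_eq_zero hdQ
      set c₀ := Q.coeff 0
      refine ⟨(e 1 : Fin 3 → k), by simpa using hne 0 1 (Or.inr one_ne_zero), LinearMap.mem_ker.mp (e 1).2, ?_⟩
      -- c(s e0 + e1) = s^2 * c₀ for s ≠ 0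
      let R : Polynomial k := MvPolynomial.aeval
        (fun j => Polynomial.C ((e 0 : Fin 3 → k) j) * Polynomial.X + Polynomial.C ((e 1 : Fin 3 → k) j)) c
      have hR : ∀ s, R.eval s = MvPolynomial.eval (s • (e 0 : Fin 3 → k) + (e 1 : Fin 3 → k)) c := by
        intro s
        rw [← Polynomial.coe_evalRingHom]
        show (Polynomial.evalRingHom s) (MvPolynomial.aeval _ c) = _
        rw [MvPolynomial.aeval_def, MvPolynomial.eval₂_comp_left, MvPolynomial.eval]
        congr 1
        · ext x; simp
        · funext j; simp; ring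
      have hRz : (R - Polynomial.C c₀ * Polynomial.X ^ 2) * Polynomial.X = 0 := by
        refine Polynomial.funext fun s => ?_
        rw [Polynomial.eval_mul, Polynomial.eval_X, Polynomial.eval_zero]
        by_cases hs : s = 0
        · rw [hs, mul_zero]
        · have h1 : s • (e 0 : Fin 3 → k) + (e 1 : Fin 3 → k) =
              fun j => s * ((1 : k) • (e 0 : Fin 3 → k) + s⁻¹ • (e 1 : Fin 3 → k)) j := by
            funext j; simp; field_simp
          rw [Polynomial.eval_sub, hR, h1, hsmul hch, ← hQ, hQC]
          simp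
          left; ring
      have hR0 := (mul_eq_zero.mp hRz).resolve_right Polynomial.X_ne_zero
      have h2 := congrArg (Polynomial.eval 0) hR0
      simpa [hR] using h2
    · obtain ⟨s, hs⟩ := IsAlgClosed.exists_root Q hdQ
      exact ⟨_, hne 1 s (Or.inl one_ne_zero), hmem 1 s, by rw [← hQ]; exact hs⟩
  set v := A.mulVecLin y with hv
  have hv0 : v ≠ 0 := fun h => hy0 (hinj (h.trans (map_zero _).symm))
  have hev : ∀ P, MvPolynomial.eval y (MvPolynomial.aeval g P) = MvPolynomial.eval v P := by
    intro P
    rw [MvPolynomial.aeval_def, MvPolynomial.eval₂_comp_left, MvPolynomial.eval]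
    congr 1
    · ext x; simp
    · funext i; simp [hg, hv, Matrix.mulVec, dotProduct]
  set d : Fin 4 → k := fun i => MvPolynomial.eval v (MvPolynomial.pderiv i f) with hd
  let ψ : (Fin 4 → k) →ₗ[k] k := ∑ i, d i • LinearMap.proj i
  have hψr : LinearMap.range A.mulVecLin ≤ LinearMap.ker ψ := by
    rintro _ ⟨z, rfl⟩
    have h : ∀ j, ∑ i, A i j * d i = 0 := by
      intro j
      have h1 := hGa y (by rw [← hφ]; exact hyφ) j
      rw [hG] at h1
      simp only at h1
      rw [hF, hchain, map_sum] at h1
      simp only [map_mul, MvPolynomial.eval_C, hev] at h1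
      exact h1
    rw [LinearMap.mem_ker]
    simp only [ψ, LinearMap.sum_apply, LinearMap.smul_apply, LinearMap.proj_apply, smul_eq_mul,
      Matrix.mulVecLin_apply, Matrix.mulVec, dotProduct, Finset.mul_sum]
    rw [Finset.sum_comm]
    refine Finset.sum_eq_zero fun j _ => ?_
    rw [Finset.sum_congr rfl fun i _ => show d i * (A i j * z j) = A i j * d i * z j by ring,
      ← Finset.sum_mul, h j, zero_mul]
  have hψw : ψ w = 0 := by
    rw [hc, map_sum] at hyc
    simp only [map_mul, MvPolynomial.eval_C, hev] at hyc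
    simpa [ψ, hd, mul_comm] using hyc
  have hψ : ψ = 0 := by
    rw [← LinearMap.ker_eq_top]
    refine Submodule.eq_top_of_finrank_eq ?_
    have hlt : LinearMap.range A.mulVecLin < LinearMap.ker ψ :=
      lt_of_le_of_ne hψr fun h => hw (h ▸ hψw)
    have h := Submodule.finrank_lt_finrank_of_lt hlt
    rw [show Module.finrank k (LinearMap.range A.mulVecLin) = 3 from hA] at h
    have h' := Submodule.finrank_le (LinearMap.ker ψ)
    rw [Module.finrank_pi, Fintype.card_fin] at h' ⊢
    omega
  have hd0 : ∀ i, d i = 0 := fun i => by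
    simpa [ψ, Pi.single_apply] using LinearMap.congr_fun hψ (Pi.single i 1)
  have hfv : MvPolynomial.eval v f = 0 := by
    have h := congrArg (MvPolynomial.eval v) hf.sum_X_mul_pderiv
    rw [map_sum, Finset.sum_eq_zero (fun i _ => by rw [map_mul]; exact mul_eq_zero_of_right _ (hd0 i))] at h
    simpa using h.symm
  obtain ⟨i, hi⟩ := hsm v hv0 hfv
  exact hi (hd0 i)

end Groth.Agent.S12424
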