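import Groth.Statements.S10897
import Mathlib
import Groth.Agent.S12424
-- import your own Groth.Agent.* helpers here

set_option autoImplicit false
set_option maxHeartbeats 1000000
universe u
open Cubic

namespace Groth.Agent.S10897

/-- Over an algebraically closed field of characteristic zero, through a point s of a smooth cubic
surface S = V_+(f) ⊂ P^3 there pass at most three lines contained in S, and these lines are
coplanar. With s given by a nonzero vector v with f(v) = 0, the lines through s on S are the
2-dimensional subspaces of k^4 containing v on which f vanishes; there are at most three of them and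
one 3-dimensional subspace contains them all. -/
theorem result (k : Type u) [Field k] [IsAlgClosed k] [CharZero k]
    (f : MvPolynomial (Fin 4) k) (hf : f.IsHomogeneous 3) (hf0 : f ≠ 0)
    (hsm : ∀ v : Fin 4 → k, v ≠ 0 → MvPolynomial.eval v f = 0 →
      ∃ i : Fin 4, MvPolynomial.eval v (MvPolynomial.pderiv i f) ≠ 0)
    (v : Fin 4 → k) (hv : v ≠ 0) (hfv : MvPolynomial.eval v f = 0) :
    {U : Submodule k (Fin 4 → k) | v ∈ U ∧ (Module.finrank k ↥U = 2 ∧ ∀ u ∈ U, MvPolynomial.eval u f = 0)}.Finite ∧
      {U : Submodule k (Fin 4 → k) | v ∈ U ∧ (Module.finrank k ↥U = 2 ∧ ∀ u ∈ U, MvPolynomial.eval u f = 0)}.ncard ≤ 3 ∧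
      ∃ H : Submodule k (Fin 4 → k), Module.finrank k ↥H = 3 ∧
        ∀ U : Submodule k (Fin 4 → k), v ∈ U → (Module.finrank k ↥U = 2 ∧ ∀ u ∈ U, MvPolynomial.eval u f = 0) → U ≤ H := by
  classical
  set d : Fin 4 → k := fun i => MvPolynomial.eval v (MvPolynomial.pderiv i f) with hd
  let φ : (Fin 4 → k) →ₗ[k] k := ∑ i, d i • LinearMap.proj i
  have hφ : ∀ u, φ u = ∑ i, d i * u i := fun u => by simp [φ]
  obtain ⟨i0, hi0⟩ := hsm v hv hfv
  have hφ0 : φ ≠ 0 := fun h => hi0 (by simpa [φ, Pi.single_apply, hd] using LinearMap.congr_fun h (Pi.single i0 1))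
  set H := LinearMap.ker φ with hH
  have hH3 : Module.finrank k H = 3 := by
    have h := LinearMap.finrank_range_add_finrank_ker φ
    have hr : Module.finrank k (LinearMap.range φ) = 1 := by
      have h1 := Submodule.finrank_le (LinearMap.range φ)
      rw [Module.finrank_self] at h1
      have h2 : Module.finrank k (LinearMap.range φ) ≠ 0 := by
        rw [Ne, Submodule.finrank_eq_zero, LinearMap.range_eq_bot]; exact hφ0
      omega
    rw [hr, Module.finrank_pi, Fintype.card_fin] at h
    rw [hH]; omega
  set S := {U : Submodule k (Fin 4 → k) | v ∈ U ∧ (Module.finrank k ↥U = 2 ∧ ∀ u ∈ U, MvPolynomial.eval u f = 0)}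
  have heval : ∀ (a b : Fin 4 → k) (t : k) (P : MvPolynomial (Fin 4) k),
      Polynomial.eval t (MvPolynomial.aeval (fun i => Polynomial.C (a i) + Polynomial.C (b i) * Polynomial.X) P) =
        MvPolynomial.eval (a + t • b) P := by
    intro a b t P
    rw [← Polynomial.coe_evalRingHom, MvPolynomial.aeval_def, MvPolynomial.eval₂_comp_left, MvPolynomial.eval]
    congr 1
    · ext x; simp
    · funext i; simp; ring
  have hUH : ∀ U ∈ S, U ≤ H := by
    rintro U ⟨hvU, -, hU⟩ u hu
    let L : Fin 4 → Polynomial k := fun i => Polynomial.C (v i) + Polynomial.C (u i) * Polynomial.X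
    have hchain : ∀ P : MvPolynomial (Fin 4) k, Polynomial.derivative (MvPolynomial.aeval L P) =
        ∑ i, Polynomial.C (u i) * MvPolynomial.aeval L (MvPolynomial.pderiv i P) := by
      intro P
      induction P using MvPolynomial.induction_on with
      | C a => simp
      | add P Q hP hQ => simp only [map_add, hP, hQ, mul_add, Finset.sum_add_distrib]
      | mul_X P l hP =>
        have hgl : Polynomial.derivative (L l) = Polynomial.C (u l) := by simp [L]
        simp only [map_mul, MvPolynomial.aeval_X, Polynomial.derivative_mul, hP, hgl, MvPolynomial.pderiv_mul,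
          MvPolynomial.pderiv_X, Pi.single_apply, map_add, apply_ite (MvPolynomial.aeval L), map_one, map_zero,
          mul_ite, mul_one, mul_zero, mul_add, Finset.sum_add_distrib, Finset.sum_ite_eq, Finset.sum_ite_eq',
          Finset.mem_univ, if_true, Finset.sum_mul]
        congr 1
        · exact Finset.sum_congr rfl fun i _ => by ring
        · ring
    have h0 : MvPolynomial.aeval L f = 0 := Polynomial.funext fun t => by
      rw [heval, Polynomial.eval_zero]
      exact hU _ (U.add_mem hvU (U.smul_mem t hu))
    have h1 := congrArg (Polynomial.eval 0) (hchain f)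
    rw [h0, Polynomial.derivative_zero, Polynomial.eval_zero, Polynomial.eval_finset_sum] at h1
    rw [hH, LinearMap.mem_ker, hφ, h1]
    refine Finset.sum_congr rfl fun i _ => ?_
    rw [Polynomial.eval_mul, Polynomial.eval_C, heval, zero_smul, add_zero, hd, mul_comm]
  have h4 : ∀ F : Finset (Submodule k (Fin 4 → k)), (↑F : Set (Submodule k (Fin 4 → k))) ⊆ S → F.card ≤ 3 := by
    intro F hF
    by_contra hcard
    have hne : F.Nonempty := Finset.card_pos.mp (by omega)
    obtain ⟨U0, hU0⟩ := hne
    obtain ⟨w2, hw2H, hw2⟩ : ∃ w2 ∈ H, ∀ U ∈ F, w2 ∉ U := by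
      by_contra hc
      push Not at hc
      obtain ⟨U, hU⟩ := Subspace.exists_eq_top_of_iUnion_eq_univ
        (p := fun U : F => (U : Submodule k (Fin 4 → k)).comap H.subtype) (by
          refine Set.eq_univ_of_forall fun x => ?_
          obtain ⟨U, hU, hxU⟩ := hc x.1 x.2
          exact Set.mem_iUnion.mpr ⟨⟨U, hU⟩, hxU⟩)
      have : H ≤ (U : Submodule k (Fin 4 → k)) := Submodule.comap_subtype_eq_top.mp hU
      have := Submodule.finrank_mono this
      have := (hF U.2).2.1
      omega
    obtain ⟨hvU0, hU02, -⟩ := hF hU0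
    obtain ⟨w1, hw1U, hw1⟩ : ∃ w1 ∈ U0, w1 ∉ Submodule.span k {v} := by
      by_contra hc
      push Not at hc
      have := Submodule.finrank_mono (show U0 ≤ Submodule.span k {v} from hc)
      rw [finrank_span_singleton hv] at this
      omega
    have hind : ∀ c s t : k, c • v + s • w1 + t • w2 = 0 → c = 0 ∧ s = 0 ∧ t = 0 := by
      intro c s t h
      have ht : t = 0 := by
        by_contra ht
        refine hw2 U0 hU0 ?_
        rw [show w2 = t⁻¹ • (-(c • v + s • w1)) by rw [← eq_neg_of_add_eq_zero_right h, inv_smul_smul₀ ht]]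
        exact U0.smul_mem _ (U0.neg_mem (U0.add_mem (U0.smul_mem _ hvU0) (U0.smul_mem _ hw1U)))
      subst ht
      rw [zero_smul, add_zero] at h
      have hs : s = 0 := by
        by_contra hs
        refine hw1 (Submodule.mem_span_singleton.mpr ⟨s⁻¹ * (-c), ?_⟩)
        rw [mul_smul, neg_smul, ← eq_neg_of_add_eq_zero_right h, inv_smul_smul₀ hs]
      subst hs
      rw [zero_smul, add_zero] at h
      exact ⟨(smul_eq_zero.mp h).resolve_right hv, rfl, rfl⟩
    let A : Matrix (Fin 4) (Fin 3) k := Matrix.of fun i j => ![v i, w1 i, w2 i] j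
    have hAv : ∀ y : Fin 3 → k, A.mulVec y = y 0 • v + y 1 • w1 + y 2 • w2 := fun y => by
      funext i
      simp [A, Matrix.mulVec, dotProduct, Fin.sum_univ_three]
      ring
    have hAinj : Function.Injective A.mulVecLin := by
      rw [injective_iff_map_eq_zero]
      intro y hy
      rw [Matrix.mulVecLin_apply, hAv] at hy
      obtain ⟨h0, h1, h2⟩ := hind _ _ _ hy
      funext j; fin_cases j <;> assumption
    have hA : A.rank = 3 := by
      rw [Matrix.rank, LinearMap.finrank_range_of_inj hAinj, Module.finrank_pi, Fintype.card_fin]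
    have hspanH : H = LinearMap.range A.mulVecLin := by
      refine (Submodule.eq_of_le_of_finrank_eq ?_ (by rw [hH3]; exact hA)).symm
      rintro _ ⟨y, rfl⟩
      rw [Matrix.mulVecLin_apply, hAv]
      exact H.add_mem (H.add_mem (H.smul_mem _ (hUH U0 (hF hU0) hvU0)) (H.smul_mem _ (hUH U0 (hF hU0) hw1U)))
        (H.smul_mem _ hw2H)
    have hr : ∀ U : F, ∃ r : k, w1 + r • w2 ∈ (U : Submodule k (Fin 4 → k)) := by
      rintro ⟨U, hU⟩
      obtain ⟨hvU, hU2, -⟩ := hF hU
      obtain ⟨u, huU, hu⟩ : ∃ u ∈ U, u ∉ Submodule.span k {v} := by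
        by_contra hc
        push Not at hc
        have := Submodule.finrank_mono (show U ≤ Submodule.span k {v} from hc)
        rw [finrank_span_singleton hv] at this
        omega
      obtain ⟨y, hy⟩ : u ∈ LinearMap.range A.mulVecLin := hspanH ▸ hUH U (hF hU) huU
      rw [Matrix.mulVecLin_apply, hAv] at hy
      have hmem : y 1 • w1 + y 2 • w2 ∈ U := by
        have := U.sub_mem huU (U.smul_mem (y 0) hvU)
        rwa [← hy, add_assoc, add_sub_cancel_left] at this
      have hy1 : y 1 ≠ 0 := by
        intro h1
        rw [h1, zero_smul, zero_add] at hmem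
        by_cases h2 : y 2 = 0
        · exact hu (Submodule.mem_span_singleton.mpr ⟨y 0, by rw [← hy, h1, h2]; simp⟩)
        · exact hw2 U hU (by simpa [smul_smul, h2] using U.smul_mem (y 2)⁻¹ hmem)
      exact ⟨(y 1)⁻¹ * y 2, by simpa [smul_add, smul_smul, hy1] using U.smul_mem (y 1)⁻¹ hmem⟩
    choose r hr using hr
    have hrinj : Function.Injective r := by
      intro U U' h
      have key : ∀ W : F, (W : Submodule k (Fin 4 → k)) = Submodule.span k {v, w1 + r W • w2} := by
        intro W
        obtain ⟨hvW, hW2, -⟩ := hF W.2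
        refine (Submodule.eq_of_le_of_finrank_eq ?_ ?_).symm
        · rw [Submodule.span_le]
          rintro _ (rfl | rfl)
          · exact hvW
          · exact hr W
        · have hli : LinearIndependent k ![v, w1 + r W • w2] := by
            rw [LinearIndependent.pair_iff]
            intro c s hcs
            obtain ⟨h0, h1, -⟩ := hind c s (s * r W) (by rw [← hcs, smul_add, smul_smul, add_assoc])
            exact ⟨h0, h1⟩
          rw [hW2, show ({v, w1 + r W • w2} : Set (Fin 4 → k)) = Set.range ![v, w1 + r W • w2] by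
            simp [Matrix.range_cons, Set.pair_comm], finrank_span_eq_card hli, Fintype.card_fin]
      exact Subtype.ext (by rw [key U, key U', h])
    have hzero : ∀ c t : k, MvPolynomial.eval (c • v + w1 + t • w2) f = 0 := by
      intro c t
      have hP : MvPolynomial.aeval
          (fun i => Polynomial.C ((c • v + w1) i) + Polynomial.C (w2 i) * Polynomial.X) f = 0 := by
        refine Polynomial.eq_zero_of_natDegree_lt_card_of_eval_eq_zero _ hrinj (fun U => ?_) ?_
        · rw [heval, add_assoc]
          exact (hF U.2).2.2 _ (Submodule.add_mem _ (Submodule.smul_mem _ c (hF U.2).1) (hr U))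
        · rw [Fintype.card_coe]
          have := MvPolynomial.aeval_natDegree_le (n := 1) f (le_of_eq (hf.totalDegree hf0))
            (fun i => Polynomial.C ((c • v + w1) i) + Polynomial.C (w2 i) * Polynomial.X) (fun i => by
              exact (Polynomial.natDegree_add_le _ _).trans (max_le (by simp [← map_mul, ← map_add])
                ((Polynomial.natDegree_C_mul_le _ _).trans Polynomial.natDegree_X_le)))
          omega
      have := congrArg (Polynomial.eval t) hP
      rwa [heval, Polynomial.eval_zero] at this
    have hsmul : ∀ (s : k) (x : Fin 4 → k), MvPolynomial.eval (s • x) f = s ^ 3 * MvPolynomial.eval x f := by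
      intro s x
      rw [MvPolynomial.eval_eq', MvPolynomial.eval_eq', Finset.mul_sum]
      refine Finset.sum_congr rfl fun m hm => ?_
      have hd3 : ∑ i, m i = 3 := by
        rw [← hf (MvPolynomial.mem_support_iff.mp hm), Finsupp.weight_apply, Finsupp.sum_fintype]
        · simp
        · simp
      simp only [Pi.smul_apply, smul_eq_mul, mul_pow, Finset.prod_mul_distrib, Finset.prod_pow_eq_pow_sum, hd3]
      ring
    have hsq := Groth.Agent.S12424.result k f hf hf0 hsm A hA
    have hG : (MvPolynomial.aeval (fun i : Fin 4 => ∑ j : Fin 3, MvPolynomial.C (A i j) * MvPolynomial.X j) f) *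
        MvPolynomial.X 1 = 0 := by
      refine MvPolynomial.funext fun y => ?_
      rw [map_mul, MvPolynomial.eval_X, map_zero]
      by_cases h1 : y 1 = 0
      · rw [h1, mul_zero]
      · rw [MvPolynomial.aeval_def, MvPolynomial.eval₂_comp_left]
        refine mul_eq_zero_of_left ?_ _
        have e : y 0 • v + y 1 • w1 + y 2 • w2 =
            y 1 • (((y 1)⁻¹ * y 0) • v + w1 + ((y 1)⁻¹ * y 2) • w2) := by
          simp [smul_add, smul_smul, mul_inv_cancel_left₀ h1]
        refine (show _ = MvPolynomial.eval (A.mulVec y) f from ?_).trans (by rw [hAv, e, hsmul, hzero, mul_zero])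
        rw [MvPolynomial.eval]
        congr 1
        · ext x; simp
        · funext i; simp [Matrix.mulVec, dotProduct]
    rw [(mul_eq_zero.mp hG).resolve_right (MvPolynomial.X_ne_zero 1)] at hsq
    exact not_squarefree_zero hsq
  have hfin : S.Finite := by
    by_contra hinf
    obtain ⟨F, hFS, hFc⟩ := Set.Infinite.exists_subset_card_eq hinf 4
    have := h4 F hFS
    omega
  refine ⟨hfin, ?_, H, hH3, fun U h1 h2 => hUH U ⟨h1, h2⟩⟩
  rw [Set.ncard_eq_toFinset_card S hfin]
  exact h4 _ (by simp)

end Groth.Agent.S10897
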