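import Groth.Statements.S4688
import Groth.Agent.DimIneqLib.Basic
import Mathlib


-- import your own Groth.Agent.* helpers here

set_option autoImplicit false
universe u
open EGA4

namespace Groth.Agent.S4688

open Polynomial in
/-- Let A be a Noetherian ring, p a prime ideal of A and q a prime ideal of the polynomial ring A[T]
lying over p. Then the extended ideal p A[T] has the same height as p, and if q is different from p
A[T] one has ht(q) = ht(p) + 1. (The remaining assertions of the published item, that p A[T] is
prime over p and that there are infinitely many pairwise incomparable such q, are not restated.) -/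
theorem result (A : Type u) [CommRing A] [IsNoetherianRing A]
    (p : Ideal A) [p.IsPrime] (q : Ideal A[X]) [q.IsPrime] [q.LiesOver p] :
    (p.map (Polynomial.C : A →+* A[X])).height = p.height ∧
      (q ≠ p.map (Polynomial.C : A →+* A[X]) → q.height = p.height + 1) := by
  classical
  open Polynomial in
  focus
    haveI hprime : (p.map (Polynomial.C : A →+* A[X])).IsPrime := Ideal.isPrime_map_C_of_isPrime
    haveI : (p.map (Polynomial.C : A →+* A[X])).LiesOver p := ⟨by
      refine le_antisymm ?_ ?_
      · exact Ideal.le_comap_map
      · intro r hr
        have := Ideal.mem_map_C_iff.1 hr 0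
        simpa [Polynomial.algebraMap_eq] using this⟩
    have h0 : (p.map (Polynomial.C : A →+* A[X])).height = p.height := by
      refine le_antisymm ((DimIneqLib.height_le_of_lies_over p _).2 rfl) ?_
      rw [Ideal.height_eq_height_add_of_liesOver_of_hasGoingDown p (p.map (Polynomial.C : A →+* A[X]))]
      exact le_self_add
    refine ⟨h0, fun hne => le_antisymm (DimIneqLib.height_le_of_lies_over p q).1 ?_⟩
    have hle : p.map (Polynomial.C : A →+* A[X]) ≤ q := Ideal.map_le_iff_le_comap.2 (by rw [q.over_def p]; exact le_rfl)
    have hlt := hle.lt_of_ne (Ne.symm hne)
    rw [← h0]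
    exact Ideal.height_add_one_le_of_lt_of_isPrime hlt

end Groth.Agent.S4688
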