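import Groth.Statements.S10898
import Groth.Agent.S4688


-- import your own Groth.Agent.* helpers here

set_option autoImplicit false
universe u
open Polynomial
open WDiv

namespace Groth.Agent.S10898

/-- Let A be a Noetherian integral domain and P a prime ideal of height 1 of the polynomial ring A[X].
Then either P meets A in 0 only, or its contraction p = P ∩ A is a prime of height 1 of A and P is
the extension p·A[X]. (The published lemma also assumes A regular in codimension 1; that hypothesis
is not used for this assertion.) -/
theorem result (A : Type u) [CommRing A] [IsDomain A]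
    [IsNoetherianRing A] (P : Ideal A[X]) [P.IsPrime] (hP : P.height = 1) :
    P.comap (C : A →+* A[X]) = ⊥ ∨
      ((P.comap (C : A →+* A[X])).height = 1 ∧ P = (P.comap (C : A →+* A[X])).map C) := by
  classical
  by_cases hp0 : P.comap (C : A →+* A[X]) = ⊥
  · exact Or.inl hp0
  refine Or.inr ?_
  haveI : (P.comap (C : A →+* A[X])).IsPrime := Ideal.IsPrime.comap _
  haveI : ((P.comap (C : A →+* A[X])).map (C : A →+* A[X])).IsPrime := Ideal.isPrime_map_C_of_isPrime
  haveI : P.LiesOver (P.comap (C : A →+* A[X])) := ⟨rfl⟩
  have h0 := (Groth.Agent.S4688.result A (P.comap (C : A →+* A[X])) P).1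
  have hle : (P.comap (C : A →+* A[X])).map (C : A →+* A[X]) ≤ P := Ideal.map_comap_le
  have hne : ((P.comap (C : A →+* A[X])).map (C : A →+* A[X])) ≠ ⊥ := fun h =>
    hp0 ((Ideal.map_eq_bot_iff_of_injective C_injective).1 h)
  have h1 : (1 : ℕ∞) ≤ ((P.comap (C : A →+* A[X])).map (C : A →+* A[X])).height := by
    rw [Order.one_le_iff_ne_zero, Ne, Ideal.height_eq_zero_iff_eq_bot]
    exact hne
  have heq : P = (P.comap (C : A →+* A[X])).map (C : A →+* A[X]) := by
    by_contra h
    have := Ideal.height_add_one_le_of_lt_of_isPrime (lt_of_le_of_ne hle (Ne.symm h))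
    rw [hP] at this
    exact absurd ((add_le_add h1 le_rfl).trans this) (by decide)
  refine ⟨?_, heq⟩
  rw [← h0, ← heq, hP]

end Groth.Agent.S10898
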