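import Groth.Statements.S10899
import Mathlib
-- helpers

set_option autoImplicit false
universe u
open Polynomial
open WDiv

namespace Groth.Agent.S10899

theorem dvr_of_gen {R : Type u} [CommRing R] [IsDomain R] [IsNoetherianRing R] (P : Ideal R) [P.IsPrime]
    (hP : P ≠ ⊥) (g : R) (hg : g ∈ P) (h : ∀ f ∈ P, ∃ s ∉ P, g ∣ f * s) :
    IsDiscreteValuationRing (Localization.AtPrime P) := by
  have hf : ¬IsField (Localization.AtPrime P) := by
    rw [IsLocalRing.isField_iff_maximalIdeal_eq, ← Localization.AtPrime.map_eq_maximalIdeal]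
    exact fun h0 => hP ((Ideal.map_eq_bot_iff_of_injective (IsLocalization.injective _ P.primeCompl_le_nonZeroDivisors)).mp h0)
  have h04 : IsDiscreteValuationRing (Localization.AtPrime P) ↔
      (IsLocalRing.maximalIdeal (Localization.AtPrime P)).IsPrincipal :=
    (IsDiscreteValuationRing.TFAE (Localization.AtPrime P) hf).out 0 4
  refine h04.mpr ⟨⟨algebraMap R _ g, ?_⟩⟩
  rw [← Localization.AtPrime.map_eq_maximalIdeal, Ideal.submodule_span_eq]
  refine le_antisymm (Ideal.map_le_iff_le_comap.mpr fun f hf => ?_) ?_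
  · obtain ⟨s, hs, b, hb⟩ := h f hf
    rw [Ideal.mem_comap, Ideal.mem_span_singleton]
    obtain ⟨u, hu⟩ := IsLocalization.map_units (Localization.AtPrime P) (⟨s, hs⟩ : P.primeCompl)
    refine ⟨algebraMap R _ b * ↑u⁻¹, ?_⟩
    rw [← mul_assoc, ← map_mul, ← hb, map_mul, ← show (u : Localization.AtPrime P) = algebraMap R _ s from hu,
      Units.mul_inv_cancel_right]
  · rw [Ideal.span_le, Set.singleton_subset_iff]
    exact Ideal.mem_map_of_mem _ hg

/-- Let A be a Noetherian integral domain which is regular in codimension 1, i.e. whose localization at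
every prime ideal of height 1 is a discrete valuation ring. Then the polynomial ring A[X] is regular
in codimension 1 as well: its localization at every prime ideal of height 1 is a discrete valuation
ring. -/
theorem result (A : Type u) [CommRing A]
    [IsDomain A] [IsNoetherianRing A]
    (hR1 : ∀ (p : Ideal A) [p.IsPrime], p.height = 1 → IsDiscreteValuationRing (Localization.AtPrime p))
    (P : Ideal A[X]) [P.IsPrime] (hP : P.height = 1) :
    IsDiscreteValuationRing (Localization.AtPrime P) := by
  have hPne : P ≠ ⊥ := fun h => by simp [h] at hP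
  let p : Ideal A := P.comap Polynomial.C
  by_cases hp : p = ⊥
  · let K := FractionRing A
    let φ := Polynomial.mapRingHom (algebraMap A K)
    letI : Algebra A[X] K[X] := φ.toAlgebra
    haveI : IsLocalization ((nonZeroDivisors A).map (Polynomial.C : A →+* A[X])) K[X] :=
      Polynomial.isLocalization _ K
    let g' := Submodule.IsPrincipal.generator (P.map (algebraMap A[X] K[X]))
    have hg' : g' ∈ P.map (algebraMap A[X] K[X]) := Submodule.IsPrincipal.generator_mem _
    obtain ⟨⟨⟨g, hg⟩, ⟨_, c, hc, rfl⟩⟩, he⟩ :=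
      (IsLocalization.mem_map_algebraMap_iff ((nonZeroDivisors A).map (Polynomial.C : A →+* A[X])) K[X]).mp hg'
    refine dvr_of_gen P hPne g hg fun f hf => ?_
    obtain ⟨h', hh'⟩ : g' ∣ algebraMap A[X] K[X] f := (Submodule.IsPrincipal.mem_iff_generator_dvd _).mp (Ideal.mem_map_of_mem _ hf)
    obtain ⟨⟨h, ⟨_, d, hd, rfl⟩⟩, hh⟩ := IsLocalization.surj ((nonZeroDivisors A).map (Polynomial.C : A →+* A[X])) (h' : K[X])
    refine ⟨Polynomial.C (c * d), fun hm => ?_, h, ?_⟩
    · have : c * d ∈ p := hm
      rw [hp, Ideal.mem_bot] at this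
      exact nonZeroDivisors.ne_zero (mul_mem hc hd) this
    · apply Polynomial.map_injective (algebraMap A K) (IsFractionRing.injective A K)
      show algebraMap A[X] K[X] _ = algebraMap A[X] K[X] _
      rw [map_mul, map_mul, map_mul, map_mul, hh', ← he, ← hh]
      ring
  · have hCP : p.map Polynomial.C ≤ P := Ideal.map_comap_le
    haveI : p.IsPrime := Ideal.comap_isPrime _ _
    haveI : (p.map (Polynomial.C : A →+* A[X])).IsPrime := inferInstance
    have hlow : ∀ Q : Ideal A[X], Q.IsPrime → Q ≤ P → Q ≠ P → Q = ⊥ := fun Q hQ hle hne => by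
      have h1 : Q.height < P.height := Ideal.height_strict_mono_of_isPrime (lt_of_le_of_ne hle hne)
      rw [hP, ENat.lt_one_iff_eq_zero] at h1
      have := Ideal.height_eq_zero_iff.mp h1
      rw [IsDomain.minimalPrimes_eq_singleton_bot, Set.mem_singleton_iff] at this
      exact this
    have hmapne : ∀ q : Ideal A, q ≠ ⊥ → q.map (Polynomial.C : A →+* A[X]) ≠ ⊥ := fun q hq h0 =>
      hq ((Ideal.map_eq_bot_iff_of_injective Polynomial.C_injective).mp h0)
    have hPeq : p.map Polynomial.C = P := by
      by_contra hne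
      exact hmapne p hp (hlow _ inferInstance hCP hne)
    have hp1 : p.height = 1 := by
      have hge : p.height ≠ 0 := fun h0 => by
        have := Ideal.height_eq_zero_iff.mp h0
        rw [IsDomain.minimalPrimes_eq_singleton_bot, Set.mem_singleton_iff] at this
        exact hp this
      refine le_antisymm ?_ (ENat.one_le_iff_ne_zero.mpr hge)
      show p.height ≤ ((1 : ℕ) : ℕ∞)
      rw [Ideal.height_le_iff]
      intro q hq hlt
      have hqb : q = ⊥ := by
        by_contra hq0
        haveI := hq
        haveI : (q.map (Polynomial.C : A →+* A[X])).IsPrime := inferInstance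
        refine hmapne q hq0 (hlow _ inferInstance ((Ideal.map_mono hlt.le).trans hCP) fun he => ?_)
        refine hlt.ne (le_antisymm hlt.le fun a ha => ?_)
        have h2 : Polynomial.C a ∈ q.map (Polynomial.C : A →+* A[X]) := he.symm ▸ ha
        simpa using Ideal.mem_map_C_iff.mp h2 0
      subst hqb
      rw [Ideal.height_bot]
      exact zero_lt_one
    haveI := hR1 p hp1
    let π := Submodule.IsPrincipal.generator (IsLocalRing.maximalIdeal (Localization.AtPrime p))
    have hπ : π ∈ p.map (algebraMap A (Localization.AtPrime p)) := by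
      rw [Localization.AtPrime.map_eq_maximalIdeal]
      exact Submodule.IsPrincipal.generator_mem _
    obtain ⟨⟨⟨a, ha⟩, s⟩, he⟩ := (IsLocalization.mem_map_algebraMap_iff p.primeCompl _).mp hπ
    refine dvr_of_gen P hPne (Polynomial.C a) ha fun f hf => ?_
    have hfC : ∀ i, f.coeff i ∈ p := Ideal.mem_map_C_iff.mp (hPeq.symm ▸ hf)
    have hdiv : ∀ i, ∃ t ∉ p, a ∣ f.coeff i * t := fun i => by
      have hm : algebraMap A (Localization.AtPrime p) (f.coeff i) ∈ IsLocalRing.maximalIdeal _ := by
        rw [← Localization.AtPrime.map_eq_maximalIdeal]; exact Ideal.mem_map_of_mem _ (hfC i)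
      obtain ⟨h', hh'⟩ : π ∣ _ := (Submodule.IsPrincipal.mem_iff_generator_dvd _).mp hm
      obtain ⟨⟨h, t⟩, ht⟩ := IsLocalization.surj p.primeCompl h'
      refine ⟨s * t, fun hst => ((Ideal.IsPrime.mem_or_mem inferInstance hst).elim s.2 t.2), h, ?_⟩
      apply IsLocalization.injective (Localization.AtPrime p) p.primeCompl_le_nonZeroDivisors
      simp only [map_mul]
      rw [hh', ← ht, ← he]
      ring
    choose t ht ht' using hdiv
    refine ⟨Polynomial.C (∏ i ∈ f.support, t i), fun hm => ?_, ?_⟩
    · obtain ⟨i, -, hi⟩ := (Ideal.IsPrime.prod_mem_iff (p := p) (x := t)).mp hm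
      exact ht i hi
    · rw [Polynomial.C_dvd_iff_dvd_coeff]
      intro i
      rw [Polynomial.coeff_mul_C]
      by_cases hi : i ∈ f.support
      · exact (ht' i).trans (mul_dvd_mul_left _ (Finset.dvd_prod_of_mem t hi))
      · rw [Polynomial.notMem_support_iff.mp hi, zero_mul]; exact dvd_zero _

end Groth.Agent.S10899
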