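import Groth.Statements.S1692
import Mathlib.AlgebraicGeometry.OrderOfVanishing
import Mathlib.AlgebraicGeometry.Noetherian
import Mathlib.Topology.Sober
import Mathlib.Topology.LocallyFinite
-- import your own Groth.Agent.* helpers here

set_option autoImplicit false
universe u
open CategoryTheory CategoryTheory.Limits AlgebraicGeometry TopologicalSpace
open SDiv

namespace Groth.Agent.S1692

/-- Let X be a locally Noetherian integral scheme and f a nonzero rational function. Then the closures
of the codimension-one points at which f has nonzero order of vanishing form a locally finite family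
of closed subsets of X. -/
theorem result (X : Scheme.{u}) [IsIntegral X] [IsLocallyNoetherian X] (f : ↑X.functionField) (hf : f ≠ 0) :
    LocallyFinite (fun ξ : {ξ : ↥X // Order.coheight ξ = 1 ∧ Scheme.ord f ξ ≠ 0} => closure ({ξ.1} : Set ↥X)) := by
  classical
  obtain ⟨U, hU, f', hne, hf', hunit⟩ := exists_isUnit_germ_eq X f hf
  have hmax : ∀ ξ : X, Order.coheight ξ = 1 → ξ ∉ U → ∀ ζ : X, ζ ∉ U → ζ ⤳ ξ → ξ ⤳ ζ := by
    intro ξ hξ hξU ζ hζU hsp
    by_contra hn
    have hlt : ξ < ζ := lt_of_le_not_ge hsp hn
    have h1 : Order.coheight ζ < 1 := by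
      have h2 := Order.coheight_add_one_le hlt
      rw [hξ] at h2
      by_contra h3
      have h4 : (2 : ℕ∞) ≤ Order.coheight ζ + 1 := by
        have := add_le_add (le_of_not_gt h3) (le_refl (1 : ℕ∞))
        exact le_trans (by norm_num) this
      exact absurd (h4.trans h2) (by norm_num)
    have hmax : IsMax ζ := Order.coheight_eq_zero.mp (Order.lt_one_iff.mp h1)
    have : ζ ⤳ genericPoint X := hmax (b := genericPoint X) (genericPoint_specializes ζ)
    exact hζU (this.mem_open U.isOpen (((genericPoint_spec X).mem_open_set_iff U.isOpen).mpr (by simpa [Set.nonempty_coe_sort] using hne)))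
  intro x
  obtain ⟨V, hV, hxV, -⟩ := AlgebraicGeometry.exists_isAffineOpen_mem_and_subset (x := x) (U := ⊤) trivial
  refine ⟨V, V.isOpen.mem_nhds hxV, ?_⟩
  haveI : IsNoetherianRing Γ(X, V) := IsLocallyNoetherian.component_noetherian ⟨V, hV⟩
  haveI : TopologicalSpace.NoetherianSpace (V : Set X) := AlgebraicGeometry.noetherianSpace_of_isAffineOpen V hV
  let T : Set X := (U : Set X)ᶜ ∩ (V : Set X)
  haveI : TopologicalSpace.NoetherianSpace T :=
    (Topology.IsEmbedding.inclusion (Set.inter_subset_right : T ⊆ (V : Set X))).isInducing.noetherianSpace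
  have hfin : {ξ : X | Order.coheight ξ = 1 ∧ ξ ∈ T}.Finite := by
    let g : irreducibleComponents T → X := fun C =>
      (IsIrreducible.image C.2.1 Subtype.val continuous_subtype_val.continuousOn).genericPoint
    haveI : Finite (irreducibleComponents T) := TopologicalSpace.NoetherianSpace.finite_irreducibleComponents
    refine (Set.finite_range g).subset ?_
    rintro ξ ⟨hξ, hξT⟩
    let C : irreducibleComponents T := ⟨irreducibleComponent (⟨ξ, hξT⟩ : T), irreducibleComponent_mem_irreducibleComponents _⟩
    have hirr := IsIrreducible.image C.2.1 Subtype.val continuous_subtype_val.continuousOn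
    have hgp : IsGenericPoint (g C) (closure (Subtype.val '' C.1)) := hirr.isGenericPoint_genericPoint_closure
    have hsp : g C ⤳ ξ := hgp.specializes (subset_closure ⟨_, mem_irreducibleComponent, rfl⟩)
    have hgU : g C ∉ U := by
      have : closure (Subtype.val '' C.1) ⊆ (U : Set X)ᶜ :=
        closure_minimal (by rintro _ ⟨y, -, rfl⟩; exact y.2.1) U.isOpen.isClosed_compl
      exact this hgp.mem
    exact ⟨C, (hsp.antisymm (hmax ξ hξ hξT.1 (g C) hgU hsp)).eq⟩
  refine Set.Finite.of_finite_image (f := Subtype.val) (hfin.subset ?_) Subtype.val_injective.injOn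
  rintro _ ⟨⟨ξ, hξ1, hξ2⟩, ⟨y, hy, hyV⟩, rfl⟩
  refine ⟨hξ1, fun hξU => hξ2 ?_, (specializes_iff_mem_closure.mpr hy).mem_open V.isOpen hyV⟩
  rw [← hf']
  exact Scheme.ord_of_isUnit hunit hξU

end Groth.Agent.S1692
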