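import Groth.Statements.S10902
import Mathlib.RingTheory.Support
import Mathlib.RingTheory.LocalRing.Module
import Mathlib.RingTheory.Kaehler.Basic
import Mathlib.RingTheory.Unramified.Field
import Groth.Agent.FibDimLib.Formula


-- import your own Groth.Agent.* helpers here

set_option autoImplicit false
universe u
open TensorProduct
open SmVar

namespace Groth.Agent.S10902

/-- Let k be a field and A a k-algebra of finite type (X = Spec A a k-scheme of finite type), P a prime
ideal of A, and suppose P contains a prime q with dim A/q ≥ n, i.e. the point P lies on an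
irreducible component of X of dimension at least n. Then the fibre at P of the sheaf of
differentials of X over k has dimension at least n over the residue field: dim_{κ(P)} (κ(P) ⊗_A
Ω_{A/k}) ≥ n. (The published statement asks every irreducible component of X to have dimension ≥ n
and concludes this at every point.) -/
theorem result (k : Type u) [Field k]
    (A : Type u) [CommRing A] [Algebra k A] [Algebra.FiniteType k A] (n : ℕ)
    (P : Ideal A) [P.IsPrime] (q : Ideal A) [q.IsPrime] (hqP : q ≤ P)
    (hq : (n : WithBot ℕ∞) ≤ ringKrullDim (A ⧸ q)) :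
    n ≤ Module.finrank P.ResidueField (P.ResidueField ⊗[A] (Ω[A⁄k])) := by
  classical
  obtain ⟨e, he, htr⟩ := FibDimLib.ringKrullDim_quotient_eq_trdeg k q
  rw [he] at hq
  have hne : n ≤ e := by exact_mod_cast hq
  refine hne.trans ?_
  -- a basis of the fibre at `P` by differentials of elements of `A`
  have hspan : Submodule.span P.ResidueField
      (Set.range fun a : A => (1 : P.ResidueField) ⊗ₜ[A] KaehlerDifferential.D k A a) = ⊤ := by
    rw [eq_top_iff]
    rintro z -
    induction z using TensorProduct.induction_on with
    | zero => exact zero_mem _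
    | add x y hx hy => exact add_mem hx hy
    | tmul c w =>
      have hw : w ∈ Submodule.span A (Set.range (KaehlerDifferential.D k A)) :=
        KaehlerDifferential.span_range_derivation k A ▸ Submodule.mem_top
      induction hw using Submodule.span_induction generalizing c with
      | mem x hx =>
        obtain ⟨a, rfl⟩ := hx
        have : c ⊗ₜ[A] KaehlerDifferential.D k A a =
            c • ((1 : P.ResidueField) ⊗ₜ[A] KaehlerDifferential.D k A a) := by simp [TensorProduct.smul_tmul']
        rw [this]; exact Submodule.smul_mem _ _ (Submodule.subset_span ⟨a, rfl⟩)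
      | zero => rw [TensorProduct.tmul_zero]; exact zero_mem _
      | add x y _ _ hx hy => rw [TensorProduct.tmul_add]; exact add_mem (hx c) (hy c)
      | smul r x _ hx => rw [← TensorProduct.smul_tmul]; exact hx _
  obtain ⟨b, hb, hbspan, hbli⟩ := exists_linearIndependent P.ResidueField
    (Set.range fun a : A => (1 : P.ResidueField) ⊗ₜ[A] KaehlerDifferential.D k A a)
  have : Fintype b := hbli.setFinite.fintype
  choose g hg using fun x : b => hb x.2
  let B := Module.Basis.mk hbli (by rw [Subtype.range_coe, hbspan, hspan])
  rw [Module.finrank_eq_card_basis B]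
  -- near `P`, hence near `q`, the `D (g i)` generate
  let N : Submodule A (Ω[A⁄k]) := Submodule.span A (Set.range fun i => KaehlerDifferential.D k A (g i))
  have hP : (⟨P, ‹_›⟩ : PrimeSpectrum A) ∉ Module.support A ((Ω[A⁄k]) ⧸ N) := by
    rw [Module.mem_support_iff_nontrivial_residueField_tensorProduct, not_nontrivial_iff_subsingleton]
    have hz : N.mkQ.baseChange P.ResidueField = 0 := by
      apply LinearMap.ext_on (hbspan.trans hspan)
      intro x hx
      have hx' := hg ⟨x, hx⟩
      simp only at hx'
      rw [← hx', LinearMap.baseChange_tmul, LinearMap.zero_apply,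
        (Submodule.Quotient.mk_eq_zero N).2 (Submodule.subset_span ⟨_, rfl⟩) |> fun e => (show N.mkQ _ = 0 from e),
        TensorProduct.tmul_zero]
    refine subsingleton_of_forall_eq 0 fun z => ?_
    obtain ⟨z, rfl⟩ := LinearMap.lTensor_surjective P.ResidueField (Submodule.mkQ_surjective N) z
    exact LinearMap.congr_fun hz z
  have hs : ∀ a : A, ∃ s ∉ q, s • KaehlerDifferential.D k A a ∈ N := fun a => by
    obtain ⟨s, hs, hs'⟩ := Module.notMem_support_iff'.1 hP (Submodule.Quotient.mk (KaehlerDifferential.D k A a))
    rw [← Submodule.Quotient.mk_smul, Submodule.Quotient.mk_eq_zero] at hs'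
    exact ⟨s, fun h => hs (hqP h), hs'⟩
  -- the residue field at `q` is algebraic over the field generated by the `g i`
  let L := q.ResidueField
  let F := IntermediateField.adjoin k (Set.range fun i => algebraMap A L (g i))
  let d : Derivation F L (Ω[L⁄F]) := KaehlerDifferential.D F L
  let φ : (Ω[A⁄k]) →ₗ[A] (Ω[L⁄F]) := KaehlerDifferential.map k F A L
  have hφ : ∀ a, φ (KaehlerDifferential.D k A a) = d (algebraMap A L a) :=
    fun a => KaehlerDifferential.map_D k F A L a
  have hdA : ∀ a, d (algebraMap A L a) = 0 := fun a => by
    obtain ⟨s, hs', hmem⟩ := hs a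
    have hN : N ≤ LinearMap.ker φ := Submodule.span_le.2 (by
      rintro _ ⟨i, rfl⟩
      show φ (KaehlerDifferential.D k A (g i)) = 0
      rw [hφ]
      exact d.map_algebraMap (⟨_, IntermediateField.subset_adjoin k _ ⟨i, rfl⟩⟩ : F))
    have h0 : s • d (algebraMap A L a) = 0 := by
      rw [← hφ, ← map_smul]; exact hN hmem
    rw [← IsScalarTower.algebraMap_smul L s (d (algebraMap A L a))] at h0
    exact (smul_eq_zero.1 h0).resolve_left (by rwa [Ideal.algebraMap_residueField_eq_zero])
  have hd : ∀ x, d x = 0 := fun x => by
    obtain ⟨u, v, -, rfl⟩ := IsFractionRing.div_surjective (A := A ⧸ q) x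
    obtain ⟨u, rfl⟩ := Ideal.Quotient.mk_surjective u
    obtain ⟨v, rfl⟩ := Ideal.Quotient.mk_surjective v
    rw [Derivation.leibniz_div, show algebraMap (A ⧸ q) L (Ideal.Quotient.mk q u) = algebraMap A L u from
      (IsScalarTower.algebraMap_apply A (A ⧸ q) L u).symm, show algebraMap (A ⧸ q) L (Ideal.Quotient.mk q v) =
      algebraMap A L v from (IsScalarTower.algebraMap_apply A (A ⧸ q) L v).symm, hdA, hdA]
    simp
  have : Algebra.FormallyUnramified F L := ⟨subsingleton_of_forall_eq 0 fun z => by
    have hz : z ∈ Submodule.span L (Set.range d) :=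
      KaehlerDifferential.span_range_derivation F L ▸ Submodule.mem_top
    have : Submodule.span L (Set.range d) ≤ ⊥ := Submodule.span_le.2 (by rintro _ ⟨x, rfl⟩; exact hd x)
    exact this hz⟩
  have : Algebra.EssFiniteType A L := inferInstance
  have : Algebra.EssFiniteType k L := Algebra.EssFiniteType.comp k A L
  have : Algebra.EssFiniteType F L := Algebra.EssFiniteType.of_comp k F L
  have : Algebra.IsSeparable F L := Algebra.FormallyUnramified.isSeparable F L
  have : Algebra.IsAlgebraic (Algebra.adjoin k (Set.range fun i => algebraMap A L (g i))) L := by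
    open scoped IntermediateField.algebraAdjoinAdjoin in
    exact (IsFractionRing.comap_isAlgebraic_iff (A := Algebra.adjoin k (Set.range fun i => algebraMap A L (g i)))
      (K := F) (C := L)).2 inferInstance
  have h1 := Algebra.IsAlgebraic.trdeg_le_cardinalMk k (Set.range fun i => algebraMap A L (g i))
  rw [htr] at h1
  have h2 := h1.trans Cardinal.mk_range_le
  rw [Cardinal.mk_fintype] at h2
  exact_mod_cast h2

end Groth.Agent.S10902
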