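import Groth.Statements.S10903
import Mathlib.RingTheory.RegularLocalRing.Polynomial
import Groth.Agent.SMTLib.MaxHeight
import Groth.Agent.SectFinLib.Basic


-- import your own Groth.Agent.* helpers here

set_option autoImplicit false
universe u
open CInt

namespace Groth.Agent.S10903

/-- Let k be a field, S = k[x_0, …, x_n], and f_1, …, f_r with r ≤ n homogeneous polynomials of positive
degrees whose ideal J = (f_1, …, f_r) has height r — the subscheme of P^n_k cut out by the
hypersurfaces f_i = 0 has codimension r, an ideal-theoretic complete intersection. Then J is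
saturated with respect to the irrelevant ideal (x_0, …, x_n): an element g of S such that, for each
i, x_i^m g ∈ J for some m, already lies in J. Hence J is the full homogeneous ideal of that
subscheme (a global complete intersection). -/
theorem result (k : Type u) [Field k] (n r : ℕ)
    (hr : r ≤ n) (f : Fin r → MvPolynomial (Fin (n + 1)) k) (d : Fin r → ℕ)
    (hf : ∀ i, (f i).IsHomogeneous (d i)) (hd : ∀ i, 0 < d i)
    (hJ : (Ideal.span (Set.range f)).height = r) (g : MvPolynomial (Fin (n + 1)) k)
    (hg : ∀ i : Fin (n + 1), ∃ m : ℕ, MvPolynomial.X i ^ m * g ∈ Ideal.span (Set.range f)) :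
    g ∈ Ideal.span (Set.range f) := by
  classical
  set J := Ideal.span (Set.range f) with hJdef
  by_contra hne
  let x : MvPolynomial (Fin (n + 1)) k ⧸ J := Ideal.Quotient.mk J g
  obtain ⟨Q, hQ, hQx⟩ := exists_le_isAssociatedPrime_of_isNoetherianRing (MvPolynomial (Fin (n + 1)) k) x
    (fun h => hne (Ideal.Quotient.eq_zero_iff_mem.1 h))
  have := hQ.isPrime
  have hX : Ideal.span (Set.range (MvPolynomial.X : Fin (n + 1) → MvPolynomial (Fin (n + 1)) k)) ≤ Q := by
    rw [Ideal.span_le]
    rintro _ ⟨i, rfl⟩
    obtain ⟨m, hm⟩ := hg i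
    refine Ideal.IsPrime.mem_of_pow_mem inferInstance m (hQx ?_)
    rw [Submodule.mem_colon_singleton, Submodule.mem_bot]
    show Ideal.Quotient.mk J (MvPolynomial.X i ^ m * g) = 0
    exact Ideal.Quotient.eq_zero_iff_mem.2 hm
  have hmax : (RingHom.ker (MvPolynomial.constantCoeff (σ := Fin (n + 1)) (R := k))).IsMaximal :=
    RingHom.ker_isMaximal_of_surjective _ fun c => ⟨MvPolynomial.C c, MvPolynomial.constantCoeff_C _ _⟩
  rw [show RingHom.ker (MvPolynomial.constantCoeff (σ := Fin (n + 1)) (R := k)) = Ideal.span (Set.range MvPolynomial.X) by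
    refine le_antisymm (fun p hp => ?_) (Ideal.span_le.2 (by rintro _ ⟨i, rfl⟩; simp))
    rw [← Set.image_univ, MvPolynomial.mem_ideal_span_X_image]
    intro m hm
    by_contra h
    push Not at h
    exact MvPolynomial.mem_support_iff.1 hm (by rw [show m = 0 from Finsupp.ext fun i => h i trivial]; exact hp)] at hmax
  have hQm : Q.IsMaximal := (hmax.eq_of_le ‹Q.IsPrime›.ne_top hX) ▸ hmax
  have h1 := @MaxHeight.mvPolynomial k _ (n + 1) Q hQm
  have h2 := SectFinLib.height_le_of_mem_associatedPrimes f hJ.ge (Q := Q) (AssociatedPrimes.mem_iff.2 hQ)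
  rw [h1] at h2
  exact absurd (Nat.cast_le.1 h2) (by omega)

end Groth.Agent.S10903
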