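import Groth.Statements.S10905
import Groth.Agent.GradedHilbLib.Components

set_option autoImplicit false
universe u
open Polynomial
open ProjDeg

namespace Groth.Agent.S10905

/-- Let k be a field, R = k[X_0, …, X_n] graded by degree, I a homogeneous prime ideal whose Hilbert
polynomial P (a rational polynomial with P(m) = dim_k R_m − dim_k (I ∩ R_m) for all large m) has
degree ≥ 1, so that Y = V(I) is a projective variety of dimension ≥ 1; let f ∉ I be homogeneous of
degree d ≥ 1, I' = I + (f), and p_1, …, p_r the minimal prime ideals over I' (listed without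
repetition), with Hilbert polynomials Q_i. Define the degree of V(J) as (degree of its Hilbert
polynomial)! times the leading coefficient, and the intersection multiplicity of I and (f) at p_i as
the length of (R/I')_{p_i} over R_{p_i}. Then d · deg Y = Σ_i deg V(p_i) · i(I, (f); p_i). (The
published statement has no dimension hypothesis; for Y a single point the only minimal prime over I'
is the irrelevant ideal, whose Hilbert polynomial is 0, so the right side vanishes while the left
side does not.) -/
theorem result (k : Type u) [Field k] (n : ℕ)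
    (I : Ideal (MvPolynomial (Fin (n + 1)) k)) (hIh : I.IsHomogeneous (CohB1.polyGrading n k)) [I.IsPrime]
    (f : MvPolynomial (Fin (n + 1)) k) (d : ℕ) (hd : 0 < d) (hf : f.IsHomogeneous d) (hfI : f ∉ I)
    (P : ℚ[X])
    (hP : ∃ m₀ : ℕ, ∀ m : ℕ, m₀ ≤ m → P.eval (m : ℚ) =
      (Module.finrank k ↥(CohB1.polyGrading n k m) : ℚ) -
        Module.finrank k ↥(Submodule.restrictScalars k I ⊓ CohB1.polyGrading n k m))
    (hdim : 1 ≤ P.natDegree)
    (r : ℕ) (p : Fin r → Ideal (MvPolynomial (Fin (n + 1)) k)) [hp : ∀ i, (p i).IsPrime] (hpinj : Function.Injective p)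
    (hpmin : ∀ q : Ideal (MvPolynomial (Fin (n + 1)) k), q ∈ (I ⊔ Ideal.span {f}).minimalPrimes ↔ ∃ i, q = p i)
    (Qp : Fin r → ℚ[X])
    (hQp : ∀ i, ∃ m₀ : ℕ, ∀ m : ℕ, m₀ ≤ m → (Qp i).eval (m : ℚ) =
      (Module.finrank k ↥(CohB1.polyGrading n k m) : ℚ) -
        Module.finrank k ↥(Submodule.restrictScalars k (p i) ⊓ CohB1.polyGrading n k m)) :
    (d : ℚ) * ((P.natDegree.factorial : ℚ) * P.leadingCoeff) =
      ∑ i : Fin r, ((Qp i).natDegree.factorial : ℚ) * (Qp i).leadingCoeff *
        (Module.length (Localization.AtPrime (p i))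
          (LocalizedModule (p i).primeCompl (MvPolynomial (Fin (n + 1)) k ⧸ (I ⊔ Ideal.span {f})))).toNat := by
  open GradedHilbLib in
  have hP' := isHP_of_eval hP
  rw [eq_hilb hP', show Qp = fun i => hilb (p i) from funext fun i => eq_hilb (isHP_of_eval (hQp i))]
  rw [eq_hilb hP'] at hdim hP'
  obtain ⟨t, ht⟩ : ∃ t, (hilb I).natDegree = t + 1 := ⟨(hilb I).natDegree - 1, by omega⟩
  have hd0 : (d : ℚ) ≠ 0 := by exact_mod_cast hd.ne'
  have hJh := sup_span_isHomogeneous hIh (show f ∈ CohB1.polyGrading n k d from hf)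
  have hJ : hilb (I ⊔ Ideal.span {f}) = hilb I - (hilb I).comp (X - C (d : ℚ)) :=
    (eq_hilb (hP'.sup_span_prime hIh hf hfI)).symm
  have hnd : (hilb (I ⊔ Ideal.span {f})).natDegree = t := hJ ▸ natDegree_sub_comp ht hd0
  have hsum := degree_eq_sum hJh p hpinj hpmin
  rw [Polynomial.leadingCoeff, hnd, hJ, coeff_sub_comp ht] at hsum
  rw [ht, Nat.factorial_succ, Nat.cast_mul]
  refine Eq.trans ?_ (hsum.trans (Finset.sum_congr rfl fun i _ => if_pos
    (natDegree_of_mem_minimalPrimes hIh hf hfI ht ((hpmin _).2 ⟨i, rfl⟩)).2.1))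
  ring

end Groth.Agent.S10905
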