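import Groth.Statements.S10908
import Groth.Agent.GrTildeLib.Chart
import Groth.Agent.GrTildeLib.Twist
import Mathlib.RingTheory.IntegralClosure.IntegrallyClosed
import Mathlib.RingTheory.IntegralClosure.Algebra.Basic

set_option autoImplicit false
universe u
open ProjDeg
open CategoryTheory AlgebraicGeometry TopologicalSpace Opposite

namespace Groth.Agent.S10908

section Helpers

variable {R A : Type u} [CommRing R] [CommRing A] [IsDomain A] [Algebra R A] (𝒜 : ℕ → Submodule R A) [GradedAlgebra 𝒜]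

theorem piece_le_span (hgen : ∀ i : ℕ, 𝒜 1 * 𝒜 i = 𝒜 (i + 1)) (K : ℕ) : ∀ d : ℕ,
    (𝒜 (d + K) : Set A) ⊆ Ideal.span (𝒜 K : Set A) := by
  intro d
  induction d with
  | zero => rw [zero_add]; exact Ideal.subset_span
  | succ d ih =>
    intro x hx
    rw [SetLike.mem_coe, Nat.add_right_comm, ← hgen] at hx
    exact Submodule.mul_induction_on hx (fun a _ b hb => Ideal.mul_mem_left _ a (ih hb))
      (fun a b ha hb => add_mem ha hb)

theorem piece_le_pow (hgen : ∀ i : ℕ, 𝒜 1 * 𝒜 i = 𝒜 (i + 1)) : ∀ K : ℕ,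
    (𝒜 K : Set A) ⊆ ((Ideal.span (𝒜 1 : Set A)) ^ K : Ideal A) := by
  intro K
  induction K with
  | zero => intro x _; simp
  | succ K ih =>
    intro x hx
    rw [SetLike.mem_coe, ← hgen] at hx
    exact Submodule.mul_induction_on hx
      (fun a ha b hb => by rw [pow_succ']; exact Ideal.mul_mem_mul (Ideal.subset_span ha) (ih hb))
      (fun a b ha hb => add_mem ha hb)

/-- a factor is homogeneous when the product and the other factor are -/
theorem mem_of_mul_mem {k n : ℕ} {g c : A} (hg : g ∈ 𝒜 k) (hg0 : g ≠ 0) (hc : c * g ∈ 𝒜 (n + k)) :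
    c ∈ 𝒜 n := by
  classical
  have h := DirectSum.coe_decompose_mul_of_right_mem_of_le 𝒜 (a := c) (n := n + k) hg (Nat.le_add_left k n)
  rw [DirectSum.decompose_of_mem_same 𝒜 hc, Nat.add_sub_cancel] at h
  exact mul_right_cancel₀ hg0 h ▸ SetLike.coe_mem _

end Helpers

open CategoryTheory AlgebraicGeometry in
/-- Let S be a Noetherian graded integral domain, graded by the natural numbers as an algebra over a
ring R, generated by its degree-one part over S_0 (S_1 S_i = S_{i+1}) with S_1 ≠ 0, and integrally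
closed in its field of fractions (so that X = Proj S is projectively normal). Then for every d ≥ 0
the canonical map from S_d to the global sections of the twisting sheaf O_X(d), sending a to the
section a/1, is bijective. (The underlying lemma: every global section of O_X(d) is an element of
the homogeneous fraction ring integral over S.) (The published corollary takes the degree-zero part
to be a finitely generated algebra over a field; this row assumes only that the ring is Noetherian,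
which is all the argument uses.) -/
theorem result {R A : Type u} [CommRing R] [CommRing A] [IsDomain A]
    [IsNoetherianRing A] [Algebra R A] (𝒜 : ℕ → Submodule R A) [GradedAlgebra 𝒜]
    (hgen : ∀ i : ℕ, 𝒜 1 * 𝒜 i = 𝒜 (i + 1)) (h1 : 𝒜 1 ≠ ⊥) (hint : IsIntegrallyClosed A) (d : ℕ) :
    Function.Bijective (fun a : ↥(𝒜 d) => Twist.globalOf 𝒜 a) := by
  classical
  obtain ⟨g₀, hg₀, hg₀0⟩ := Submodule.exists_mem_ne_zero_of_ne_bot h1
  -- the generic point
  have hhom : (⊥ : Ideal A).IsHomogeneous 𝒜 := Ideal.IsHomogeneous.bot 𝒜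
  let η : ProjectiveSpectrum 𝒜 := ⟨⟨⊥, hhom⟩, Ideal.isPrime_bot, fun hle => hg₀0 (Ideal.mem_bot.mp
    (hle (ProjTopLib.mem_irrelevant_of_mem 𝒜 one_pos hg₀)))⟩
  have hcross : ∀ {a b s t : A} {hs : s ∉ η.asHomogeneousIdeal} {ht : t ∉ η.asHomogeneousIdeal},
      (Localization.mk a ⟨s, hs⟩ : Twist.Loc 𝒜 η) = Localization.mk b ⟨t, ht⟩ → t * a = s * b := by
    intro a b s t hs ht h
    obtain ⟨⟨c, hc⟩, h⟩ := Localization.r_iff_exists.mp (Localization.mk_eq_mk_iff.mp h)
    exact mul_left_cancel₀ (fun h0 => hc (Ideal.mem_bot.mpr h0)) h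
  refine ⟨fun a b hab => Subtype.ext ?_, fun t => ?_⟩
  · have h : (Localization.mk (a : A) _ : Twist.Loc 𝒜 η) = Localization.mk (b : A) _ :=
      congrArg Subtype.val (congrFun (congrArg Subtype.val hab) ⟨η, trivial⟩)
    simpa using hcross h
  let t' : Γ(Twist.twist 𝒜 (d : ℤ), ⊤) := t
  obtain ⟨S, hS, hspan⟩ := (Submodule.fg_span_iff_fg_span_finset_subset (R := A) (𝒜 1 : Set A)).mp
    (IsNoetherian.noetherian _)
  let T := S.filter (· ≠ 0)
  have hT1 : ∀ g ∈ T, g ∈ 𝒜 1 := fun g hg => hS (Finset.mem_filter.mp hg).1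
  have hT0 : ∀ g ∈ T, g ≠ 0 := fun g hg => (Finset.mem_filter.mp hg).2
  have hTspan : Ideal.span (𝒜 1 : Set A) ≤ Ideal.span (T : Set A) := by
    refine (le_of_eq hspan).trans (Ideal.span_le.mpr fun g hg => ?_)
    by_cases h0 : g = 0
    · rw [h0]; exact zero_mem _
    · exact Ideal.subset_span (Finset.mem_filter.mpr ⟨hg, h0⟩)
  have hcov : ∀ x : Proj 𝒜, ∃ g ∈ T, g ∉ x.asHomogeneousIdeal := by
    intro x
    by_contra hne
    push Not at hne
    obtain ⟨e, f, he, hf, hfx⟩ := ProjTopLib.exists_pos_not_mem 𝒜 x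
    refine hfx ?_
    obtain ⟨e', rfl⟩ := Nat.exists_eq_add_of_le' he
    have h2 := piece_le_span 𝒜 hgen 1 e' hf
    exact (hTspan.trans (Ideal.span_le.mpr fun g hg => hne g hg)) h2
  have hc : ∀ g : T, ∃ (k : ℕ) (m : A), m ∈ 𝒜 (k + d) ∧ ∀ x : Proj.basicOpen 𝒜 (g : A),
      TwistLib.val t' ⟨x.1, trivial⟩ = Localization.mk m ⟨(g : A) ^ k, GrTildeLib.pow_nin x k⟩ := by
    intro g
    obtain ⟨k, p, m, hm, hp, hv⟩ := GrTildeLib.exists_eq_frac (ℳ := 𝒜) (n := (d : ℤ)) one_pos (hT1 g g.2)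
      (GrTildeLib.toTilde (AmpleLib.res (Twist.twist 𝒜 (d : ℤ)) (le_top : Proj.basicOpen 𝒜 (g : A) ≤ ⊤) t'))
    obtain rfl : p = k + d := by omega
    exact ⟨k, m, hm, fun x => hv x⟩
  choose k m hm hv using hc
  have hη : ∀ g : T, (η : Proj 𝒜) ∈ Proj.basicOpen 𝒜 (g : A) := fun g h => hT0 g g.2 (Ideal.mem_bot.mp h)
  have hij : ∀ i j : T, (j : A) ^ k j * m i = (i : A) ^ k i * m j := fun i j =>
    hcross ((hv i ⟨η, hη i⟩).symm.trans (hv j ⟨η, hη j⟩))
  obtain ⟨i₀⟩ : Nonempty T := by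
    obtain ⟨g, hg, -⟩ := hcov η
    exact ⟨⟨g, hg⟩⟩
  let G := (i₀ : A) ^ k i₀
  have hG0 : G ≠ 0 := pow_ne_zero _ (hT0 _ i₀.2)
  have hGm : G ∈ 𝒜 (k i₀) := by simpa [G] using SetLike.pow_mem_graded (k i₀) (hT1 _ i₀.2)
  let F := FractionRing A
  let z : F := algebraMap A F (m i₀) / algebraMap A F G
  have hGF : algebraMap A F G ≠ 0 := by simpa using hG0
  have hz : ∀ a c : A, c * G = a * m i₀ → z * algebraMap A F a = algebraMap A F c := fun a c h => by
    rw [div_mul_eq_mul_div, div_eq_iff hGF, ← map_mul, ← map_mul, h, mul_comm]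
  obtain ⟨K, hK⟩ := Ideal.exists_pow_le_of_le_radical_of_fg
    (I := Ideal.span (T : Set A)) (J := Ideal.span (Set.range fun g : T => (g : A) ^ k g))
    (Ideal.span_le.mpr fun g hg => ⟨k ⟨g, hg⟩, Ideal.subset_span ⟨⟨g, hg⟩, rfl⟩⟩) ⟨T, rfl⟩
  let J : Ideal A := Ideal.span (𝒜 (K + 1) : Set A)
  have hmul : ∀ a ∈ 𝒜 (K + 1), ∃ c ∈ J, c * G = a * m i₀ := by
    intro a ha
    have h2 : a ∈ Ideal.span (Set.range fun g : T => (g : A) ^ k g) :=
      hK ((Ideal.pow_le_pow_right (Nat.le_succ K)) (Ideal.pow_right_mono hTspan _ (piece_le_pow 𝒜 hgen _ ha)))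
    obtain ⟨b, hb⟩ := Ideal.mem_span_range_iff_exists_fun.mp h2
    have hc : (∑ g, b g * m g) * G = a * m i₀ := by
      rw [← hb, Finset.sum_mul, Finset.sum_mul]
      exact Finset.sum_congr rfl fun g _ => by linear_combination (-(b g)) * hij i₀ g
    refine ⟨_, piece_le_span 𝒜 hgen (K + 1) d (mem_of_mul_mem 𝒜 hGm hG0 ?_), hc⟩
    rw [hc, show d + (K + 1) + k i₀ = (K + 1) + (k i₀ + d) by omega]
    exact SetLike.mul_mem_graded ha (hm i₀)
  have hJ : ∀ a ∈ J, ∃ c ∈ J, c * G = a * m i₀ := by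
    intro a ha
    induction ha using Submodule.span_induction with
    | mem a ha => exact hmul a ha
    | zero => exact ⟨0, zero_mem _, by simp⟩
    | add a b _ _ iha ihb =>
      obtain ⟨c, hc, h⟩ := iha
      obtain ⟨c', hc', h'⟩ := ihb
      exact ⟨c + c', add_mem hc hc', by rw [add_mul, add_mul, h, h']⟩
    | smul r a _ iha =>
      obtain ⟨c, hc, h⟩ := iha
      exact ⟨r * c, J.mul_mem_left r hc, by rw [smul_eq_mul, mul_assoc, h, mul_assoc]⟩
  have hint' : IsIntegral A z := by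
    refine isIntegral_of_smul_mem_submodule (Submodule.map (Algebra.linearMap A F) J) ?_
      ((IsNoetherian.noetherian J).map _) z ?_
    · intro hbot
      have : algebraMap A F ((i₀ : A) ^ (K + 1)) ∈ Submodule.map (Algebra.linearMap A F) J :=
        ⟨_, Ideal.subset_span (by simpa using SetLike.pow_mem_graded (K + 1) (hT1 _ i₀.2)), rfl⟩
      rw [hbot, Submodule.mem_bot, IsFractionRing.to_map_eq_zero_iff] at this
      exact pow_ne_zero _ (hT0 _ i₀.2) this
    · rintro _ ⟨a, ha, rfl⟩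
      obtain ⟨c, hc, h⟩ := hJ a ha
      exact ⟨c, hc, (hz a c h).symm⟩
  obtain ⟨c, hc⟩ := IsIntegrallyClosed.isIntegral_iff.mp hint'
  have hcG : c * G = m i₀ := by
    apply IsFractionRing.injective A F
    rw [map_mul, hc, div_mul_cancel₀ _ hGF]
  have hcd : c ∈ 𝒜 d := mem_of_mul_mem 𝒜 hGm hG0 (by rw [hcG, add_comm]; exact hm i₀)
  refine ⟨⟨c, hcd⟩, TwistLib.sec_ext (t := Twist.globalOf 𝒜 ⟨c, hcd⟩) (t' := t') fun x => ?_⟩
  obtain ⟨g, hg, hgx⟩ := hcov x.1
  refine Eq.trans ?_ (hv ⟨g, hg⟩ ⟨x.1, hgx⟩).symm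
  show Localization.mk c _ = _
  rw [Localization.mk_eq_mk_iff, Localization.r_iff_exists]
  refine ⟨1, ?_⟩
  have := hij i₀ ⟨g, hg⟩
  have h3 : (g : A) ^ k ⟨g, hg⟩ * c = m ⟨g, hg⟩ := mul_left_cancel₀ hG0 (by
    rw [← this, ← hcG]; ring)
  simp [h3]

end Groth.Agent.S10908
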