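import Groth.Statements.S10911
import Groth.Agent.Ref1Lib.OrdRestrict

set_option autoImplicit false
universe u
open CategoryTheory CategoryTheory.Limits AlgebraicGeometry TopologicalSpace
open WDiv

namespace Groth.Agent.S10911

/-- Let X be an integral Noetherian separated scheme which is regular in codimension 1 (local rings at
points of coheight 1 are discrete valuation rings), z a point of coheight 1 (generic point of a
prime divisor Z), and U the open subscheme complementary to the closure of z. Let D be a Weil
divisor on X, an integer-valued function on its points with finite support inside the points of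
coheight 1. If the restriction of D to U is the divisor of a nonzero rational function on U, then D
differs from an integer multiple of Z by a principal divisor on X: there are an integer m and a
nonzero rational function f on X with ord_z(f) = D(z) − m and ord_x(f) = D(x) for every other point
x of coheight 1. In other words, the sequence ℤ → Cl X → Cl(X − Z), whose first map sends m to the
class of m·Z and whose second map is restriction, is exact at Cl X. -/
theorem result (X : Scheme.{u}) [IsIntegral X]
    [IsNoetherian X] [X.IsSeparated]
    (hR1 : ∀ x : ↥X, Order.coheight x = 1 → IsDiscreteValuationRing ↑(X.presheaf.stalk x))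
    (z : ↥X) (hz : Order.coheight z = 1) (U : X.Opens) (hU : (U : Set ↥X) = (closure {z})ᶜ)
    [Nonempty U]
    (D : ↥X → ℤ) (hD : ∀ x, Order.coheight x ≠ 1 → D x = 0) (hfin : {x | D x ≠ 0}.Finite)
    (g : ↑(U : Scheme.{u}).functionField) (hg : g ≠ 0)
    (h : ∀ u : ↥(U : Scheme.{u}), Order.coheight u = 1 → Scheme.ord g u = D u.1) :
    ∃ (m : ℤ) (f : ↑X.functionField), f ≠ 0 ∧ Scheme.ord f z = D z - m ∧
      ∀ x : ↥X, x ≠ z → Order.coheight x = 1 → Scheme.ord f x = D x := by
  haveI : IsIntegral (U : Scheme.{u}) := isIntegral_of_isOpenImmersion U.ι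
  let Φ := RingEquiv.ofBijective (Ref1Lib.ffMap U.ι) (Ref1Lib.ffMap_bijective U.ι)
  have hco : ∀ u : (U : Scheme.{u}), Order.coheight (U.ι u) = Order.coheight u := fun u =>
    coheight_eq_of_isOpenImmersion U.ι
  obtain ⟨f, rfl⟩ := Φ.surjective g
  refine ⟨D z - Scheme.ord f z, f, fun h0 => hg (by rw [h0, map_zero]), by ring, fun x hxz hx => ?_⟩
  have hxU : x ∈ U := by
    show x ∈ (U : Set X)
    rw [hU]
    intro hc
    have hle : x ≤ z := Scheme.le_iff_specializes.2 (specializes_iff_mem_closure.2 hc)
    by_cases hle' : z ≤ x
    · exact hxz ((Scheme.le_iff_specializes.1 hle').antisymm (Scheme.le_iff_specializes.1 hle)).eq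
    · have h3 := Order.coheight_add_one_le (lt_of_le_not_ge hle hle')
      rw [hz, hx] at h3
      exact absurd h3 (by norm_num)
  exact (Ref1Lib.ord_ffMap U.ι f ⟨x, hxU⟩).symm.trans (h ⟨x, hxU⟩ ((hco ⟨x, hxU⟩).symm.trans hx))

end Groth.Agent.S10911
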