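import Groth.Statements.S10914
import Groth.Agent.FibIrrLib.Basic
-- import your own Groth.Agent.* helpers here

set_option autoImplicit false
set_option backward.isDefEq.respectTransparency false
set_option linter.all false
universe u
open CategoryTheory CategoryTheory.Limits AlgebraicGeometry TopologicalSpace
open ProjDeg

namespace Groth.Agent.S10914

/-- Let k be a field, X and Y reduced schemes proper over k and f : X → Y a k-morphism with (i) f
surjective, (ii) every fibre X_y over a closed point y irreducible, (iii) all these fibres of the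
same dimension m, and (iv) Y irreducible. Then X is irreducible and dim X = dim Y + m. (The
published statement takes X, Y projective over k and f projective; its proof uses only that f is a
closed map and upper semicontinuity of fibre dimension, i.e. properness.) -/
theorem result (k : Type u) [Field k] {X Y : Scheme.{u}}
    (pX : X ⟶ Spec (CommRingCat.of k)) (pY : Y ⟶ Spec (CommRingCat.of k)) [IsProper pX] [IsProper pY]
    [IsReduced X] [IsReduced Y] (f : X ⟶ Y) (hf : f ≫ pY = pX) (hsurj : Function.Surjective f)
    [IrreducibleSpace ↥Y] (m : ℕ)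
    (hirr : ∀ y : ↥Y, IsClosed ({y} : Set ↥Y) → IrreducibleSpace ↥(f.fiber y))
    (hdim : ∀ y : ↥Y, IsClosed ({y} : Set ↥Y) → topologicalKrullDim ↥(f.fiber y) = m) :
    IrreducibleSpace ↥X ∧ topologicalKrullDim ↥X = topologicalKrullDim ↥Y + m := by
  classical
  haveI : IsProper (f ≫ pY) := by rw [hf]; infer_instance
  haveI : IsProper f := IsProper.of_comp f pY
  have hom : ∀ y : ↥Y, topologicalKrullDim ↥(f.base ⁻¹' {y}) = topologicalKrullDim ↥(f.fiber y) := fun y =>
    (IsHomeomorph.topologicalKrullDim_eq _ (f.fiberHomeo y).isHomeomorph).symm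
  have hirr' : ∀ y : ↥Y, IsClosed ({y} : Set ↥Y) → IsIrreducible (f.base ⁻¹' {y}) := fun y hy => by
    haveI := hirr y hy
    have := (IrreducibleSpace.isIrreducible_univ ↥(f.fiber y)).image _ (f.fiberι y).continuous.continuousOn
    rw [Set.image_univ, f.range_fiberι y] at this
    exact this
  have hdim' : ∀ y : ↥Y, IsClosed ({y} : Set ↥Y) → topologicalKrullDim ↥(f.base ⁻¹' {y}) = m :=
    fun y hy => (hom y).trans (hdim y hy)
  obtain ⟨Z, ⟨hZ, hZd⟩, -⟩ := FibIrrLib.existsUnique_dominant pX pY f hf m hirr' hdim'
  obtain ⟨h1, h2⟩ := FibIrrLib.comp_whole pX pY f hf m hirr' hdim' Z hZ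
  haveI : JacobsonSpace X := LocallyOfFiniteType.jacobsonSpace pX
  haveI : JacobsonSpace Y := LocallyOfFiniteType.jacobsonSpace pY
  have hZc := isClosed_of_mem_irreducibleComponents Z hZ
  have him : f.base '' Z = Set.univ := (f.isClosedMap Z hZc).closure_eq.symm.trans hZd.closure_eq
  have hu : Z = Set.univ := by
    refine Set.univ_subset_iff.1 ?_
    rw [← closure_closedPoints (X := X)]
    refine hZc.closure_subset_iff.2 fun x hx => ?_
    have hy : IsClosed ({f.base x} : Set Y) := f.closePoints_subset_preimage_closedPoints hx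
    obtain ⟨z, hzZ, hz⟩ := (Set.ext_iff.1 him (f.base x)).2 trivial
    exact h1 _ hy ⟨z, hz, hzZ⟩ rfl
  subst hu
  refine ⟨(irreducibleSpace_def _).2 hZ.1, ?_⟩
  rw [← IsHomeomorph.topologicalKrullDim_eq _ (Homeomorph.Set.univ ↥X).isHomeomorph, h2, him, closure_univ,
    IsHomeomorph.topologicalKrullDim_eq _ (Homeomorph.Set.univ ↥Y).isHomeomorph, add_comm]


end Groth.Agent.S10914
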