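import Groth.Statements.S10918
import Groth.Agent.SMTLib.MaxHeight
import Groth.Agent.CINormalLib.Basic
import Mathlib


-- import your own Groth.Agent.* helpers here

set_option autoImplicit false
universe u
open CInt

namespace Groth.Agent.S10918

/-- Let k be a field, S = k[x_0, …, x_n], and f_1, …, f_r with r < n homogeneous polynomials of positive
degrees whose ideal J has height r, so that Y = V_+(J) ⊆ P^n_k is a global complete intersection of
dimension n − r ≥ 1 with homogeneous coordinate ring S' = S/J. Suppose Y is normal, expressed on the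
affine cone: for every prime ideal Q of S' not containing all the classes of the x_i (every point of
the cone Spec S' other than the vertex), the localization S'_Q is an integrally closed domain. Then
S' is an integrally closed domain, i.e. Y is projectively normal. -/
theorem result
    (k : Type u) [Field k] (n r : ℕ) (hr : r < n) (f : Fin r → MvPolynomial (Fin (n + 1)) k) (d : Fin r → ℕ)
    (hf : ∀ i, (f i).IsHomogeneous (d i)) (hd : ∀ i, 0 < d i)
    (hJ : (Ideal.span (Set.range f)).height = r)
    (hnorm : ∀ (Q : Ideal (MvPolynomial (Fin (n + 1)) k ⧸ Ideal.span (Set.range f))) [Q.IsPrime],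
      (∃ i, Ideal.Quotient.mk (Ideal.span (Set.range f)) (MvPolynomial.X i) ∉ Q) →
        IsDomain (Localization.AtPrime Q) ∧ IsIntegrallyClosed (Localization.AtPrime Q)) :
    IsDomain (MvPolynomial (Fin (n + 1)) k ⧸ Ideal.span (Set.range f)) ∧
      IsIntegrallyClosed (MvPolynomial (Fin (n + 1)) k ⧸ Ideal.span (Set.range f)) := by
  classical
  have hJh : ∀ x ∈ Ideal.span (Set.range f), ∀ e, MvPolynomial.homogeneousComponent e x ∈ Ideal.span (Set.range f) := by
    intro x hx e
    let 𝒜 := MvPolynomial.homogeneousSubmodule (Fin (n + 1)) k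
    letI : GradedRing 𝒜 := MvPolynomial.gradedAlgebra
    have h : (Ideal.span (Set.range f)).IsHomogeneous 𝒜 :=
      Ideal.homogeneous_span 𝒜 _ (by rintro _ ⟨i, rfl⟩; exact ⟨d i, hf i⟩)
    have := h e hx
    rwa [← DirectSum.Decomposition.decompose'_eq, MvPolynomial.decomposition.decompose'_apply] at this
  let m0 : Ideal (MvPolynomial (Fin (n + 1)) k) := RingHom.ker (MvPolynomial.constantCoeff : (MvPolynomial (Fin (n + 1)) k) →+* k)
  have hm0 : m0.IsMaximal := RingHom.ker_isMaximal_of_surjective _ fun x => ⟨MvPolynomial.C x, MvPolynomial.constantCoeff_C _ x⟩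
  have hJm : Ideal.span (Set.range f) ≤ m0 := Ideal.span_le.2 (by
    rintro _ ⟨i, rfl⟩
    rw [SetLike.mem_coe, RingHom.mem_ker, MvPolynomial.constantCoeff_eq]
    exact (hf i).coeff_eq_zero (by have := hd i; simp only [map_zero, ne_eq]; omega))
  generalize hJeq : Ideal.span (Set.range f) = J at *
  let π := Ideal.Quotient.mk J
  let m := m0.map π
  haveI hmmax : m.IsMaximal := Ideal.IsMaximal.map_of_surjective_of_ker_le Ideal.Quotient.mk_surjective (by rwa [Ideal.mk_ker])
  have hcm : m.comap π = m0 := by
    rw [Ideal.comap_map_of_surjective _ Ideal.Quotient.mk_surjective, ← RingHom.ker_eq_comap_bot, Ideal.mk_ker, sup_eq_left]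
    exact hJm
  have hm0h : m0.height = ((n + 1 : ℕ) : ℕ∞) := by
    have h1 := MaxHeight.affine_domain k (MvPolynomial (Fin (n + 1)) k) m0
    rw [MvPolynomial.ringKrullDim_of_isNoetherianRing, ringKrullDim_eq_zero_of_field, zero_add, Nat.card_fin] at h1
    exact_mod_cast h1
  have hmh : ¬ m.height ≤ 1 := by
    have h2 := (CINormalLib.exists_localization_quot f J hJeq hJ.ge m).2
    simp only [show m.comap (Ideal.Quotient.mk J) = m0 from hcm, hm0h,
      IsLocalization.AtPrime.ringKrullDim_eq_height m (Localization.AtPrime m)] at h2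
    intro h
    obtain ⟨t, ht, ht1⟩ := ENat.le_coe_iff.1 (show m.height ≤ ((1 : ℕ) : ℕ∞) from h)
    rw [ht] at h2
    have : t + r = n + 1 := by exact_mod_cast h2
    omega
  have hLN : NormalLib.LocNormal ((MvPolynomial (Fin (n + 1)) k) ⧸ J) := CINormalLib.locNormal f J hJeq hJ.ge m hmh fun p _ hp => by
    refine hnorm p ?_
    by_contra hc
    push_neg at hc
    refine hp (hmmax.eq_of_le (Ideal.IsPrime.ne_top inferInstance) ?_).symm
    rw [Ideal.map_le_iff_le_comap]
    intro x hx
    rw [RingHom.mem_ker, MvPolynomial.constantCoeff_eq] at hx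
    rw [MvPolynomial.as_sum x]
    refine Submodule.sum_mem _ fun s hs => ?_
    have hs0 : s ≠ 0 := fun e => (MvPolynomial.mem_support_iff.1 hs) (e ▸ hx)
    obtain ⟨i, hi⟩ := Finsupp.ne_iff.1 hs0
    have hdvd : MvPolynomial.X i ∣ MvPolynomial.monomial s (MvPolynomial.coeff s x) :=
      MvPolynomial.X_dvd_monomial.2 (Or.inr hi)
    exact Ideal.mem_of_dvd _ hdvd (Ideal.mem_comap.2 (hc i))
  haveI := (hLN m).1
  haveI : IsDomain ((MvPolynomial (Fin (n + 1)) k) ⧸ J) := by
    have hinj : Function.Injective (algebraMap ((MvPolynomial (Fin (n + 1)) k) ⧸ J) (Localization.AtPrime m)) := by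
      set_option synthInstance.maxHeartbeats 400000 in rw [injective_iff_map_eq_zero]
      intro a ha
      obtain ⟨⟨s, hs⟩, hsa⟩ := (IsLocalization.map_eq_zero_iff m.primeCompl _ a).1 ha
      obtain ⟨a, rfl⟩ := Ideal.Quotient.mk_surjective a
      obtain ⟨s, rfl⟩ := Ideal.Quotient.mk_surjective s
      have hs0 : MvPolynomial.coeff 0 s ≠ 0 := fun h => hs (Ideal.mem_map_of_mem π (show s ∈ m0 by
        rw [RingHom.mem_ker, MvPolynomial.constantCoeff_eq]; exact h))
      have hsa' : s * a ∈ J := Ideal.Quotient.eq_zero_iff_mem.1 (by rw [map_mul]; exact hsa)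
      rw [Ideal.Quotient.eq_zero_iff_mem, ← MvPolynomial.sum_homogeneousComponent a]
      refine Submodule.sum_mem _ fun e he => ?_
      clear he
      induction e using Nat.strong_induction_on with
      | _ e ih =>
        have h1 := hJh _ hsa' e
        have h2 : s * a = MvPolynomial.C (MvPolynomial.coeff 0 s) * a +
            (s - MvPolynomial.C (MvPolynomial.coeff 0 s)) * a := by ring
        let s' := s - MvPolynomial.C (MvPolynomial.coeff 0 s)
        have h3 : MvPolynomial.homogeneousComponent e (s' * a) ∈ J := by
          rw [show s' * a = ∑ p ∈ Finset.range (a.totalDegree + 1), s' * MvPolynomial.homogeneousComponent p a by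
            rw [← Finset.mul_sum, MvPolynomial.sum_homogeneousComponent], map_sum]
          refine Submodule.sum_mem _ fun p _ => ?_
          by_cases hpe : p < e
          · exact hJh _ (Ideal.mul_mem_left _ _ (ih p hpe)) e
          · convert J.zero_mem
            ext v
            rw [MvPolynomial.coeff_homogeneousComponent]
            split_ifs with hv
            · rw [MvPolynomial.coeff_mul, MvPolynomial.coeff_zero]
              refine Finset.sum_eq_zero fun q hq => ?_
              rw [Finset.HasAntidiagonal.mem_antidiagonal] at hq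
              by_cases hq1 : q.1 = 0
              · simp [s', hq1, MvPolynomial.coeff_C]
              · refine mul_eq_zero_of_right _ ((MvPolynomial.homogeneousComponent_isHomogeneous p a).coeff_eq_zero ?_)
                have h4 : q.1.degree + q.2.degree = e := by rw [← hv, ← hq, map_add]
                have h5 : q.1.degree ≠ 0 := fun h => hq1 ((Finsupp.degree_eq_zero_iff _).1 h)
                omega
            · simp
        rw [h2, map_add, MvPolynomial.homogeneousComponent_C_mul] at h1
        have h4 : MvPolynomial.C (MvPolynomial.coeff 0 s) * MvPolynomial.homogeneousComponent e a ∈ J :=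
          (Submodule.add_mem_iff_left _ h3).1 h1
        exact (J.unit_mul_mem_iff_mem ((hs0.isUnit).map MvPolynomial.C)).1 h4
    exact hinj.isDomain _
  refine ⟨inferInstance, (isIntegrallyClosed_iff (FractionRing ((MvPolynomial (Fin (n + 1)) k) ⧸ J))).2 fun {x} hx => ?_⟩
  exact hLN.exists_eq_of_isIntegral (FractionRing ((MvPolynomial (Fin (n + 1)) k) ⧸ J)) hx

end Groth.Agent.S10918
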