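import Groth.Statements.S10921
import Groth.Agent.CIGenLib.Bertini
import Groth.Agent.GradedCechLib.Chart
import Groth.Agent.CommAlgDim.Regular

set_option autoImplicit false
universe u
open CategoryTheory CategoryTheory.Limits AlgebraicGeometry TopologicalSpace
open SmVar

namespace Groth.Agent.S10921

open MvPolynomial in
/-- A linear form is determined by its coefficients. -/
theorem eq_lin {k : Type u} [Field k] {n : ℕ} (h : MvPolynomial (Fin (n + 1)) k) (hh : h.IsHomogeneous 1) :
    h = CIGen.lin fun i => coeff (Finsupp.single i 1) h := by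
  classical
  have hm : h ∈ Submodule.span k (Set.range (X : Fin (n + 1) → MvPolynomial (Fin (n + 1)) k)) := by
    rw [← homogeneousSubmodule_one_eq_span_X]; exact hh
  obtain ⟨c, rfl⟩ := (Submodule.mem_span_range_iff_exists_fun k).1 hm
  simp only [CIGen.lin, smul_eq_C_mul]
  refine Finset.sum_congr rfl fun i _ => ?_
  congr 2
  simp [coeff_sum, coeff_C_mul, coeff_X, coeff_single_X, Finset.sum_ite_eq', Finsupp.single_eq_single_iff]

/-- The germ of a dehomogenised form is the fraction. -/
theorem germ_deh {k : Type u} [Field k] {n : ℕ} (j : Fin (n + 1)) (y : CohB1.ProjSpace n k)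
    (hy : y ∈ QCohLib.stdOpen n k j) (h : ↥(CohB1.polyGrading n k 1))
    (hden : (MvPolynomial.X j : MvPolynomial (Fin (n + 1)) k) ∉ y.asHomogeneousIdeal) :
    (CohB1.ProjSpace n k).presheaf.germ _ y hy (GradedCechLib.deh n k j (h : MvPolynomial (Fin (n + 1)) k)) =
      (Proj.stalkIso' (CohB1.polyGrading n k) y).symm (HomogeneousLocalization.mk
        ⟨1, h, ⟨MvPolynomial.X j, MvPolynomial.isHomogeneous_X k j⟩, hden⟩) := by
  apply (Proj.stalkIso' (CohB1.polyGrading n k) y).eq_symm_apply.mpr
  refine (Proj.stalkIso'_germ _ _ y hy _).trans ?_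
  refine HomogeneousLocalization.val_injective _ ?_
  refine (ProjectiveSpectrum.Proj.awayToSection_apply _ _ _ ⟨y, hy⟩).trans ?_
  rw [GradedCechLib.val_deh₀_homogeneous n k j _ 1 h.2, Localization.mk_eq_mk', IsLocalization.map_mk',
    HomogeneousLocalization.val_mk, Localization.mk_eq_mk']
  simp [GradedCechLib.xpw]

/-- A fraction with numerator in the prime is no unit of the stalk. -/
theorem not_isUnit_frac {k : Type u} [Field k] {n : ℕ} (j : Fin (n + 1)) (y : ProjectiveSpectrum (CohB1.polyGrading n k))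
    (h : ↥(CohB1.polyGrading n k 1))
    (hden : (MvPolynomial.X j : MvPolynomial (Fin (n + 1)) k) ∉ y.asHomogeneousIdeal)
    (hmem : (h : MvPolynomial (Fin (n + 1)) k) ∈ y.asHomogeneousIdeal) :
    ¬ IsUnit ((Proj.stalkIso' (CohB1.polyGrading n k) y).symm (HomogeneousLocalization.mk
        ⟨1, h, ⟨MvPolynomial.X j, MvPolynomial.isHomogeneous_X k j⟩, hden⟩)) := fun hu => by
  have hu1 := (HomogeneousLocalization.isUnit_iff_isUnit_val _ _ _).2
    ((MulEquiv.isUnit_map (Proj.stalkIso' (CohB1.polyGrading n k) y).symm).1 hu)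
  rw [HomogeneousLocalization.val_mk, Localization.mk_eq_mk', IsLocalization.AtPrime.isUnit_mk'_iff] at hu1
  exact hu1 hmem

/-- Let k be an algebraically closed field and X ⊆ P^n_k a nonsingular projective variety, given as an
integral scheme X with a closed immersion ι into projective n-space all of whose local rings are
regular. For a linear form h = Σ a_i X_i let H be the hyperplane h = 0 and H ∩ X the
scheme-theoretic intersection. Then the hyperplanes H which do not contain X and for which H ∩ X is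
regular at each of its closed points form a set containing a nonempty Zariski-open subset of the
dual projective space: there is a nonzero polynomial g in the coefficients a_0, …, a_n such that
every h with g(a) ≠ 0 has these two properties. Regularity of H ∩ X at a closed point x of X lying
on H is expressed on the local ring: O_{X,x} modulo the image of the germ of h/X_j (any j with
X_j(x) ≠ 0) is a regular local ring. (The published statement asserts that the set of good
hyperplanes is itself open and dense and that H ∩ X is a regular subvariety; this row asserts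
regularity of H ∩ X at its closed points for all hyperplanes outside a proper closed set, and not
irreducibility, which fails for curves of degree ≥ 2.) -/
theorem result (k : Type u) [Field k] [IsAlgClosed k] (n : ℕ)
    (X : Scheme.{u}) [IsIntegral X] (ι : X ⟶ CohB1.ProjSpace n k) [IsClosedImmersion ι]
    (hreg : ∀ x : ↥X, IsRegularLocalRing ↑(X.presheaf.stalk x)) :
    ∃ g : MvPolynomial (Fin (n + 1)) k, g ≠ 0 ∧
      ∀ h : ↥(CohB1.polyGrading n k 1),
        MvPolynomial.eval (fun i => MvPolynomial.coeff (Finsupp.single i 1) (h : MvPolynomial (Fin (n + 1)) k)) g ≠ 0 →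
          (∃ x : ↥X, (h : MvPolynomial (Fin (n + 1)) k) ∉ (ι.base x).asHomogeneousIdeal) ∧
          ∀ x : ↥X, IsClosed ({x} : Set ↥X) →
            (h : MvPolynomial (Fin (n + 1)) k) ∈ (ι.base x).asHomogeneousIdeal →
            ∀ (j : Fin (n + 1))
              (hj : (MvPolynomial.X j : MvPolynomial (Fin (n + 1)) k) ∉ (ι.base x).asHomogeneousIdeal),
              IsRegularLocalRing (↑(X.presheaf.stalk x) ⧸ Ideal.span
                {(ι.stalkMap x).hom ((Proj.stalkIso' (CohB1.polyGrading n k) (ι.base x)).symm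
                  (HomogeneousLocalization.mk
                    ⟨1, h, ⟨MvPolynomial.X j, MvPolynomial.isHomogeneous_X k j⟩, hj⟩))}) := by
  classical
  let P := CohB1.ProjSpace n k
  let U := fun j : Fin (n + 1) => QCohLib.stdOpen n k j
  have hU : ∀ j, IsAffineOpen (U j) := fun j =>
    Proj.isAffineOpen_basicOpen (CohB1.polyGrading n k) (MvPolynomial.X j) (GradedCechLib.X_mem n k j) one_pos
  have hV : ∀ j, IsAffineOpen (ι ⁻¹ᵁ U j) := fun j => (hU j).preimage ι
  have key : ∀ j, ∃ g : MvPolynomial (Fin (n + 1)) k, g ≠ 0 ∧ ((ι ⁻¹ᵁ U j : Set X).Nonempty →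
      ∀ a, MvPolynomial.eval a g ≠ 0 →
        ι.app (U j) (GradedCechLib.deh n k j (CIGen.lin a)) ≠ 0 ∧
        ∀ (m : Ideal Γ(X, ι ⁻¹ᵁ U j)) [m.IsMaximal], ι.app (U j) (GradedCechLib.deh n k j (CIGen.lin a)) ∈ m →
          algebraMap Γ(X, ι ⁻¹ᵁ U j) (Localization.AtPrime m) (ι.app (U j) (GradedCechLib.deh n k j (CIGen.lin a))) ∉
            IsLocalRing.maximalIdeal (Localization.AtPrime m) ^ 2) := by
    intro j
    by_cases hne : (ι ⁻¹ᵁ U j : Set X).Nonempty
    · haveI : Nonempty (ι ⁻¹ᵁ U j) := hne.to_subtype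
      let β₀ : MvPolynomial (Fin (n + 1)) k →+* Γ(X, ι ⁻¹ᵁ U j) := (ι.app (U j)).hom.comp (GradedCechLib.deh n k j)
      letI : Algebra k Γ(X, ι ⁻¹ᵁ U j) := (β₀.comp MvPolynomial.C).toAlgebra
      let β : MvPolynomial (Fin (n + 1)) k →ₐ[k] Γ(X, ι ⁻¹ᵁ U j) := { β₀ with commutes' := fun _ => rfl }
      have hβ : Function.Surjective β :=
        (ι.app_surjective (U j) (hU j)).comp (GradedCechLib.deh_surjective n k j)
      obtain ⟨g, hg0, hg⟩ := CIGen.exists_dual β hβ j (by
        show ι.app (U j) (GradedCechLib.deh n k j (MvPolynomial.X j)) = 1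
        rw [GradedCechLib.deh_X_self, map_one])
      exact ⟨g, hg0, fun _ a ha => hg a ha⟩
    · exact ⟨1, one_ne_zero, fun h => absurd h hne⟩
  choose g hg0 hg using key
  refine ⟨∏ j, g j, Finset.prod_ne_zero_iff.2 fun j _ => hg0 j, fun h hh => ?_⟩
  rw [map_prod, Finset.prod_ne_zero_iff] at hh
  have hlin := eq_lin _ h.2
  constructor
  · refine ⟨genericPoint X, fun hmem => ?_⟩
    obtain ⟨j, hj⟩ := Opens.mem_iSup.mp (show ι (genericPoint X) ∈ ⨆ j, U j by rw [QCohLib.iSup_stdOpen]; trivial)
    have hne : (ι ⁻¹ᵁ U j : Set X).Nonempty := ⟨_, hj⟩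
    haveI : Nonempty (ι ⁻¹ᵁ U j) := hne.to_subtype
    refine (hg j hne _ (hh j (Finset.mem_univ _))).1 ?_
    rw [← hlin]
    apply germ_injective_of_isIntegral X (genericPoint X) (U := ι ⁻¹ᵁ U j) hj
    rw [map_zero]
    refine (Scheme.Hom.germ_stalkMap_apply ι (U j) (genericPoint X) hj _).symm.trans ?_
    rw [germ_deh j _ hj h hj]
    by_contra hne0
    have hu : IsUnit ((ι.stalkMap (genericPoint X)) ((Proj.stalkIso' (CohB1.polyGrading n k) (ι (genericPoint X))).symm
        (HomogeneousLocalization.mk ⟨1, h, ⟨MvPolynomial.X j, MvPolynomial.isHomogeneous_X k j⟩, hj⟩))) :=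
      (IsUnit.mk0 (G₀ := X.functionField) _ hne0)
    exact not_isUnit_frac j _ h hj hmem ((isUnit_map_iff (ι.stalkMap (genericPoint X)).hom _).1 hu)
  · intro x hx hmem j hj
    have hxV : x ∈ ι ⁻¹ᵁ U j := hj
    have hne : (ι ⁻¹ᵁ U j : Set X).Nonempty := ⟨_, hxV⟩
    let z := (ι.stalkMap x).hom ((Proj.stalkIso' (CohB1.polyGrading n k) (ι.base x)).symm
      (HomogeneousLocalization.mk ⟨1, h, ⟨MvPolynomial.X j, MvPolynomial.isHomogeneous_X k j⟩, hj⟩))
    show IsRegularLocalRing (↑(X.presheaf.stalk x) ⧸ Ideal.span {z})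
    haveI := hreg x
    have hz : z ∈ IsLocalRing.maximalIdeal (X.presheaf.stalk x) := by
      rw [IsLocalRing.mem_maximalIdeal, mem_nonunits_iff]
      intro hu
      exact not_isUnit_frac j _ h hj hmem ((isUnit_map_iff (ι.stalkMap x).hom _).1 hu)
    refine CommAlgDim.isRegularLocalRing_quotient_singleton hz fun hz2 => ?_
    let s := ι.app (U j) (GradedCechLib.deh n k j (CIGen.lin fun i => MvPolynomial.coeff (Finsupp.single i 1) (h : MvPolynomial (Fin (n + 1)) k)))
    have hzs : z = X.presheaf.germ (ι ⁻¹ᵁ U j) x hxV s := by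
      simp only [s, ← hlin]
      exact ((congrArg (ι.stalkMap x) (germ_deh j _ hxV h hj)).symm.trans (Scheme.Hom.germ_stalkMap_apply ι (U j) x hxV _))
    letI : Algebra Γ(X, ι ⁻¹ᵁ U j) (X.presheaf.stalk x) := TopCat.Presheaf.algebra_section_stalk X.presheaf ⟨x, hxV⟩
    let m := ((hV j).primeIdealOf ⟨x, hxV⟩).asIdeal
    haveI : m.IsMaximal := (hV j).primeIdealOf_isMaximal_of_isClosed ⟨x, hxV⟩ hx
    haveI : IsLocalization.AtPrime (X.presheaf.stalk x) m := (hV j).isLocalization_stalk ⟨x, hxV⟩
    have hsm : s ∈ m := (IsLocalization.AtPrime.to_map_mem_maximal_iff (X.presheaf.stalk x) m s).1 (hzs ▸ hz)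
    refine (hg j hne _ (hh j (Finset.mem_univ _))).2 m hsm ?_
    let e := (IsLocalization.algEquiv m.primeCompl (X.presheaf.stalk x) (Localization.AtPrime m)).toRingEquiv
    have he := Ideal.mem_map_of_mem (e : X.presheaf.stalk x →+* Localization.AtPrime m) hz2
    rw [Ideal.map_pow, IsLocalRing.map_maximalIdeal_of_surjective (e : X.presheaf.stalk x →+* Localization.AtPrime m) e.surjective, hzs] at he
    convert he
    exact ((IsLocalization.algEquiv m.primeCompl (X.presheaf.stalk x) (Localization.AtPrime m)).commutes s).symm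

end Groth.Agent.S10921
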