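import Groth.Statements.S10922
import Groth.Agent.CIGenLib.Generic
import Groth.Agent.CIGenLib.Smooth
import Groth.Agent.S10918
import Groth.Agent.NormalLib.Regular

set_option autoImplicit false
universe u
open CInt

namespace Groth.Agent.S10922

/-- Let k be an algebraically closed field, n ≥ 1, r < n, and d_1, …, d_r positive integers. Then there
are homogeneous polynomials f_1, …, f_r in S = k[x_0, …, x_n] of degrees d_1, …, d_r such that each
hypersurface V(f_i) ⊆ P^n_k is nonsingular and Y = V(f_1, …, f_r) is a nonsingular irreducible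
variety of codimension r, hence a global complete intersection of the V(f_i). Nonsingularity and
irreducibility are expressed on the affine cones: S/(f_i) and S/(f_1, …, f_r) have regular
localizations at every prime not containing all the x_j (every point of the cone other than the
vertex), S/(f_1, …, f_r) is an integral domain, and the ideal (f_1, …, f_r) has height r. -/
theorem result (k : Type u) [Field k] [IsAlgClosed k]
    (n r : ℕ) (hr : r < n) (d : Fin r → ℕ) (hd : ∀ i, 0 < d i) :
    ∃ f : Fin r → MvPolynomial (Fin (n + 1)) k,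
      (∀ i, (f i).IsHomogeneous (d i)) ∧
      (∀ (i : Fin r) (Q : Ideal (MvPolynomial (Fin (n + 1)) k ⧸ Ideal.span {f i})) [Q.IsPrime],
        (∃ j, Ideal.Quotient.mk (Ideal.span {f i}) (MvPolynomial.X j) ∉ Q) →
          IsRegularLocalRing (Localization.AtPrime Q)) ∧
      IsDomain (MvPolynomial (Fin (n + 1)) k ⧸ Ideal.span (Set.range f)) ∧
      (Ideal.span (Set.range f)).height = r ∧
      ∀ (Q : Ideal (MvPolynomial (Fin (n + 1)) k ⧸ Ideal.span (Set.range f))) [Q.IsPrime],
        (∃ j, Ideal.Quotient.mk (Ideal.span (Set.range f)) (MvPolynomial.X j) ∉ Q) →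
          IsRegularLocalRing (Localization.AtPrime Q) := by
  classical
  obtain ⟨Φ, hΦ0, hΦ⟩ := CIGen.exists_generic (k := k) (n := n) d hd
  choose Φ₁ hΦ₁0 hΦ₁ using fun i : Fin r =>
    CIGen.exists_generic (k := k) (n := n) (ι := Fin 1) (fun _ => d i) (fun _ => hd i)
  let σ : (i : Fin r) → CIGen.Idx n (fun _ : Fin 1 => d i) → CIGen.Idx n d := fun i p => ⟨i, p.2⟩
  have hσ : ∀ i, Function.Injective (σ i) := fun i => by
    rintro ⟨a, x⟩ ⟨b, y⟩ h
    obtain rfl := Subsingleton.elim a b
    exact congrArg _ (eq_of_heq (Sigma.mk.inj_iff.1 h).2)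
  have hne : Φ * ∏ i, MvPolynomial.rename (σ i) (Φ₁ i) ≠ 0 :=
    mul_ne_zero hΦ0 (Finset.prod_ne_zero_iff.2 fun i _ h =>
      hΦ₁0 i (MvPolynomial.rename_injective _ (hσ i) (by rwa [map_zero])))
  obtain ⟨c, hc⟩ : ∃ c : CIGen.Idx n d → k, MvPolynomial.eval c (Φ * ∏ i, MvPolynomial.rename (σ i) (Φ₁ i)) ≠ 0 := by
    by_contra h
    push Not at h
    exact hne (MvPolynomial.funext fun x => by rw [h x, map_zero])
  rw [map_mul, map_prod] at hc
  obtain ⟨hc0, hc1⟩ := mul_ne_zero_iff.1 hc
  rw [Finset.prod_ne_zero_iff] at hc1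
  let f := CIGen.form d c
  have hf : ∀ i, (f i).IsHomogeneous (d i) := fun i => CIGen.isHomogeneous_form d c i
  -- non-bad means transversal
  have trans : ∀ {s : ℕ} (g : Fin s → MvPolynomial (Fin (n + 1)) k), ¬ CIGen.Bad g → CIGen.Trans g := by
    intro s g hg v hv h0
    rw [Fintype.linearIndependent_iff]
    intro lam hlam i
    by_contra hi
    refine hg ⟨v, lam, hv, fun h => hi (congrFun h i), h0, fun j => ?_⟩
    simpa using congrFun hlam j
  have htr : CIGen.Trans f := trans f (hΦ c hc0)
  have hreg : ∀ (Q : Ideal (MvPolynomial (Fin (n + 1)) k ⧸ Ideal.span (Set.range f))) [Q.IsPrime],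
      (∃ j, Ideal.Quotient.mk (Ideal.span (Set.range f)) (MvPolynomial.X j) ∉ Q) →
        IsRegularLocalRing (Localization.AtPrime Q) := fun Q _ hQ => CIGen.regular_away f htr Q hQ
  have hspan : Ideal.span (Set.range f) ≠ ⊤ := by
    refine ne_top_of_le_ne_top (RingHom.ker_ne_top (MvPolynomial.constantCoeff : MvPolynomial (Fin (n + 1)) k →+* k)) ?_
    rw [Ideal.span_le]
    rintro _ ⟨i, rfl⟩
    rw [SetLike.mem_coe, RingHom.mem_ker, MvPolynomial.constantCoeff_eq]
    exact (hf i).coeff_eq_zero (by have := hd i; simp only [map_zero, ne_eq]; omega)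
  have hht : (Ideal.span (Set.range f)).height = r := CIGen.height_eq f htr (by omega) hspan
  refine ⟨f, hf, fun i Q _ hQ => ?_, ?_, hht, hreg⟩
  · have h1 : ¬ CIGen.Bad (fun _ : Fin 1 => f i) := by
      have := hΦ₁ i (c ∘ σ i) (by rw [← MvPolynomial.eval_rename]; exact hc1 i (Finset.mem_univ i))
      exact this
    have hrange : Set.range (fun _ : Fin 1 => f i) = {f i} := Set.range_const
    revert Q
    rw [← hrange]
    intro Q _ hQ
    exact CIGen.regular_away (fun _ : Fin 1 => f i) (trans _ h1) Q hQ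
  · exact (Groth.Agent.S10918.result k n r hr f d hf hd hht fun Q _ hQ => by
      haveI := hreg Q hQ
      exact ⟨CommAlgDim.isDomain_of_isRegularLocalRing (Localization.AtPrime Q),
        NormalLib.isIntegrallyClosed_of_isRegularLocalRing (Localization.AtPrime Q)⟩).1

end Groth.Agent.S10922
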