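import Groth.Statements.S10926
import Groth.Agent.CohCmpLib.FamilyPic2

set_option autoImplicit false
universe u
open CategoryTheory CategoryTheory.Limits AlgebraicGeometry
open PicF

namespace Groth.Agent.S10926

/-- Let k be an algebraically closed field, Y an integral scheme of finite type over k, f : X → Y flat
and projective (f = i ≫ pr for a closed immersion i : X → P^n_Y) with every fibre X_y integral, and
L, M invertible O_X-modules whose pullbacks to each fibre X_y are isomorphic. Then there is an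
invertible O_Y-module E with L ≅ M ⊗ f^*E. -/
theorem result (k : Type u) [Field k] [IsAlgClosed k]
    {X Y : Scheme.{u}} (g : Y ⟶ Spec (CommRingCat.of k)) [LocallyOfFiniteType g] [QuasiCompact g]
    [IsIntegral Y] (n : ℕ) (i : X ⟶ CohB1.ProjSpaceOver n Y) [IsClosedImmersion i]
    (f : X ⟶ Y) (hf : f = i ≫ CohB1.ProjSpaceOver.toBase n Y) [Flat f]
    (hint : ∀ y : Y, IsIntegral (f.fiber y))
    (L M : X.Modules) (hL : PicF.IsInvertible L) (hM : PicF.IsInvertible M)
    (hLM : ∀ y : Y, Nonempty ((Scheme.Modules.pullback (f.fiberι y)).obj L ≅ (Scheme.Modules.pullback (f.fiberι y)).obj M)) :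
    ∃ E : Y.Modules, PicF.IsInvertible E ∧
      Nonempty (L ≅ CohB1.tensorMod M ((Scheme.Modules.pullback f).obj E)) := by
  subst hf
  have : IsLocallyNoetherian Y := LocallyOfFiniteType.isLocallyNoetherian g
  have : LocallyOfFinitePresentation (i ≫ CohB1.ProjSpaceOver.toBase n Y) := LocallyOfFinitePresentation.iff_locallyOfFiniteType.2 inferInstance
  let f := i ≫ CohB1.ProjSpaceOver.toBase n Y
  have h0 := fun y => CohCmpLib.finrank_global_of_integral_fibres f g hint y
  obtain ⟨e⟩ := MiscFlat6.nonempty_dualIso (L := M) hM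
  let M' := MiscFlat6.dual M
  let N := CohB1.tensorMod L M'
  have hN : PicF.IsInvertible N := HilbPolyLib.isInvertible_tensor hL (MiscFlat6.dual_isInvertible (L := M) hM)
  have ht : ∀ y : Y, Nonempty (CohIII.fiberMod f N y ≅ Coh.structureModule (f.fiber y)) := fun y => by
    obtain ⟨d⟩ := CohCmpLib.nonempty_pullback_inverse (f.fiberι y) e
    obtain ⟨a⟩ := hLM y
    have := KFlatLib.isIso_pullθ (f.fiberι y) L M'
    exact ⟨@asIso _ _ _ _ (KFlatLib.pullθ (f.fiberι y) L M') this ≪≫ HilbPolyLib.congrLeft a _ ≪≫ d⟩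
  obtain ⟨hP, hi⟩ := CohCmpLib.counit_of_trivial_reduced f h0 ((CohCmpLib.invertible_iff_rank_one N).1 hN) ht
  refine ⟨_, (CohCmpLib.invertible_iff_rank_one _).2 hP, ⟨?_⟩⟩
  exact ((HilbPolyLib.congrRight M (asIso ((Scheme.Modules.pullbackPushforwardAdjunction f).counit.app N)) ≪≫
    HilbPolyLib.leftComm M L M' ≪≫ HilbPolyLib.congrRight L e ≪≫ HilbPolyLib.swapIso _ _ ≪≫ HilbPolyLib.unitLeft L)).symm

end Groth.Agent.S10926
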