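import Groth.Statements.S10930
import Groth.Agent.GeomRedFieldLib.CharZero
import Groth.Agent.GeomRedFieldLib.Avoid
import Groth.Agent.S1535
-- import your own Groth.Agent.* helpers here

set_option autoImplicit false
universe u
open CategoryTheory CategoryTheory.Limits AlgebraicGeometry
open Variety

namespace Groth.Agent.S10930

/-- Let k be an algebraically closed field of characteristic zero, X and Y varieties over k (integral,
separated and of finite type over k) with X nonsingular, i.e. smooth over k, and f : X → Y a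
k-morphism. Then there is a nonempty open subscheme V of Y such that the restriction f⁻¹(V) → V of f
is smooth. -/
theorem result (k : Type u) [Field k] [IsAlgClosed k] [CharZero k]
    {X Y : Scheme.{u}} (qX : X ⟶ Spec (CommRingCat.of k)) (qY : Y ⟶ Spec (CommRingCat.of k))
    [LocallyOfFiniteType qX] [QuasiCompact qX] [IsSeparated qX] [Smooth qX]
    [LocallyOfFiniteType qY] [QuasiCompact qY] [IsSeparated qY]
    [IsIntegral X] [IsIntegral Y] (f : X ⟶ Y) (hf : f ≫ qY = qX) :
    ∃ V : Y.Opens, (V : Set ↥Y).Nonempty ∧ Smooth (f ∣_ V) := by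
  haveI : IsLocallyNoetherian Y := LocallyOfFiniteType.isLocallyNoetherian qY
  haveI : LocallyOfFiniteType (f ≫ qY) := by rw [hf]; infer_instance
  haveI : LocallyOfFiniteType f := locallyOfFiniteType_of_comp f qY
  haveI : QuasiCompact (f ≫ qY) := by rw [hf]; infer_instance
  haveI : QuasiCompact f := QuasiCompact.of_comp f qY
  by_cases hdom : DenseRange f.base
  · haveI : IsDominant f := ⟨hdom⟩
    haveI := GeomRedFieldLib.perfectField_functionField_of_charZero qY
    letI : X.Over (Spec (CommRingCat.of k)) := ⟨qX⟩
    haveI : Smooth (X ↘ Spec (CommRingCat.of k)) := ‹Smooth qX›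
    obtain ⟨V, hV, hd⟩ := GeomRedFieldLib.exists_open_disjoint f ((f.smoothLocus : Set X)ᶜ) f.smoothLocus.2.isClosed_compl
      (fun x hx h ↦ hx (GeomRedFieldLib.mem_smoothLocus_of_regular f x h (Groth.Agent.S1535.result k X x)))
    refine ⟨V, hV, ?_⟩
    rw [← Scheme.Hom.smoothLocus_eq_top_iff, eq_top_iff]
    rintro x -
    rw [Scheme.Hom.mem_smoothLocus]
    exact (RingHom.FormallySmooth.respectsIso.arrow_mk_iso_iff (morphismRestrictStalkMap f V x)).mpr
      (Classical.by_contradiction fun hn ↦ hd x.1 hn x.2)
  · let V : Y.Opens := ⟨(closure (Set.range f.base))ᶜ, isClosed_closure.isOpen_compl⟩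
    refine ⟨V, Set.nonempty_compl.mpr fun h ↦ hdom (dense_iff_closure_eq.mpr h), ?_⟩
    rw [← Scheme.Hom.smoothLocus_eq_top_iff, eq_top_iff]
    rintro x -
    exact absurd x.2 (fun h ↦ h (subset_closure (Set.mem_range_self x.1)))

end Groth.Agent.S10930
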