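import Groth.Statements.S10932
import Groth.Agent.ExtPdLib.Basic
import Groth.Agent.S0563
-- import your own Groth.Agent.* helpers here

set_option autoImplicit false
universe u
open CategoryTheory
open CAlg

namespace Groth.Agent.S10932

/-- Let A be a (Noetherian) regular local ring of Krull dimension n and M a finitely generated A-module
such that Ext^j_A(M, A) = 0 for every j with 1 ≤ j ≤ n. Then M is projective, hence a free A-module. -/
theorem result (A : Type u) [CommRing A] [IsRegularLocalRing A]
    (n : ℕ) (hn : ringKrullDim A = n) (M : Type u) [AddCommGroup M] [Module A M] [Module.Finite A M]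
    (h : ∀ j : ℕ, 1 ≤ j → j ≤ n →
      Subsingleton (Abelian.Ext (ModuleCat.of A M) (ModuleCat.of A A) j)) :
    Module.Free A M := by
  have h1 : HasProjectiveDimensionLT (ModuleCat.of A M) 1 :=
    ExtPdLib.lt_succ_of_vanish _ n 0 (Groth.Agent.S0563.result A n hn M) fun i hi hi' => h i hi hi'
  haveI : Projective (ModuleCat.of A M) := inferInstance
  haveI : Module.Projective A M := (IsProjective.iff_projective _).2 ‹_›
  exact Module.free_of_flat_of_isLocalRing

end Groth.Agent.S10932
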