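import Groth.Statements.S10935
import Groth.Agent.FlatDedLib.Basic
import Groth.Agent.AssPointLib.Basic
import Groth.Agent.QCohLib.QCoh
import Mathlib
-- import your own Groth.Agent.* helpers here

set_option autoImplicit false
universe u
open CategoryTheory CategoryTheory.Limits AlgebraicGeometry
open FlatMor

namespace Groth.Agent.S10935
set_option linter.all false

/-- Let Y be an integral, regular (every local ring a regular local ring), one-dimensional scheme with
generic point η, X a Noetherian scheme and f : X → Y a morphism. Then f is flat if and only if every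
associated point x of X — a point such that the maximal ideal of O_{X,x} is an associated prime of
O_{X,x} — satisfies f(x) = η. -/
theorem result {X Y : Scheme.{u}} (f : X ⟶ Y)
    [IsIntegral Y] (hreg : ∀ y : Y, IsRegularLocalRing (Y.presheaf.stalk y))
    (hY : topologicalKrullDim ↥Y = 1) [IsNoetherian X] :
    Flat f ↔ ∀ x : X, Curv2.IsAssPoint (Coh.structureModule X) x → f.base x = genericPoint ↥Y := by
  haveI : Coh.IsQCoh (Coh.structureModule X) := QCohLib.isQCoh_unit
  constructor
  · intro hf x hx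
    rw [AssPointLib.assPoint_iff_weak] at hx
    obtain ⟨_, ⟨U, hU, rfl⟩, hxU, -⟩ := X.isBasis_affineOpens.exists_subset_of_mem_open
      (Set.mem_univ x) isOpen_univ
    obtain ⟨s, hs⟩ := (AssPointLib.weak_iff hU hxU).1 hx
    obtain ⟨hle, hex⟩ := AssPointLib.minimal_iff.1 hs
    rw [FlatDedLib.eq_generic_iff, eq_bot_iff]
    intro a ha
    by_contra ha0
    letI alg := X.presheaf.algebra_section_stalk (⟨x, hxU⟩ : U)
    haveI hloc : IsLocalization.AtPrime (X.presheaf.stalk x) (hU.primeIdealOf ⟨x, hxU⟩).asIdeal :=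
      hU.isLocalization_stalk ⟨x, hxU⟩
    obtain ⟨c, d, hcd⟩ := IsLocalization.exists_mk'_eq
      (hU.primeIdealOf ⟨x, hxU⟩).asIdeal.primeCompl ((f.stalkMap x).hom a)
    have hc : c ∈ (hU.primeIdealOf ⟨x, hxU⟩).asIdeal := by
      rw [← IsLocalization.AtPrime.mk'_mem_maximal_iff (X.presheaf.stalk x)
        (hU.primeIdealOf ⟨x, hxU⟩).asIdeal c d, hcd]
      rw [← IsLocalRing.maximalIdeal_comap (f.stalkMap x).hom] at ha
      exact ha
    obtain ⟨t, ht, n, hn⟩ := hex c hc
    let s' : Γ(X, U) := s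
    have hn' : t * c ^ n * s' = 0 := (AssPointLib.mem_ann _).1 hn
    have h1 : (f.stalkMap x).hom (a ^ n) * algebraMap Γ(X, U) (X.presheaf.stalk x) s' = 0 := by
      have h2 := congrArg (algebraMap Γ(X, U) (X.presheaf.stalk x)) hn'
      rw [map_mul, map_mul, map_pow, map_zero, mul_assoc,
        (IsLocalization.map_units (X.presheaf.stalk x)
          (⟨t, ht⟩ : (hU.primeIdealOf ⟨x, hxU⟩).asIdeal.primeCompl)).mul_right_eq_zero] at h2
      rw [map_pow, ← hcd, IsLocalization.mk'_eq_mul_mk'_one, mul_pow, mul_right_comm, h2, zero_mul]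
    have h3 := FlatDedLib.cancel_of_flat f x _ _ (pow_ne_zero n ha0) h1
    obtain ⟨⟨t', ht'⟩, hts⟩ :=
      (IsLocalization.map_eq_zero_iff (hU.primeIdealOf ⟨x, hxU⟩).asIdeal.primeCompl _ _).1 h3
    exact ht' (hle ((AssPointLib.mem_ann _).2 hts))
  · intro h
    refine FlatDedLib.flat_of_cancel hreg hY.le f fun x a b ha hab => ?_
    by_contra hb
    obtain ⟨P, hP, hle⟩ := exists_le_isAssociatedPrime_of_isNoetherianRing (X.presheaf.stalk x) b hb
    obtain ⟨hPp, b', hb'⟩ := hP
    let q : ↥(Spec (X.presheaf.stalk x)) := (⟨P, hPp⟩ : PrimeSpectrum (X.presheaf.stalk x))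
    obtain ⟨_, ⟨U, hU, rfl⟩, hxU, -⟩ := X.isBasis_affineOpens.exists_subset_of_mem_open
      (Set.mem_univ x) isOpen_univ
    have e1 : (X.fromSpecStalk x).base q =
        hU.fromSpec.base ((Spec.map (X.presheaf.germ U x hxU)).base q) := by
      rw [← hU.fromSpecStalk_eq_fromSpecStalk hxU]
      rfl
    have hy : (X.fromSpecStalk x).base q ∈ U := by
      rw [e1]
      show _ ∈ (U : Set X)
      rw [← hU.range_fromSpec]; exact ⟨_, rfl⟩
    have e2 : hU.primeIdealOf ⟨(X.fromSpecStalk x).base q, hy⟩ =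
        (Spec.map (X.presheaf.germ U x hxU)).base q :=
      hU.fromSpec.isOpenEmbedding.injective ((hU.fromSpec_primeIdealOf ⟨_, hy⟩).trans e1)
    have e3 : (hU.primeIdealOf ⟨(X.fromSpecStalk x).base q, hy⟩).asIdeal =
        P.comap (X.presheaf.germ U x hxU).hom := by rw [e2]; rfl
    letI alg := X.presheaf.algebra_section_stalk (⟨x, hxU⟩ : U)
    haveI hloc : IsLocalization.AtPrime (X.presheaf.stalk x) (hU.primeIdealOf ⟨x, hxU⟩).asIdeal :=
      hU.isLocalization_stalk ⟨x, hxU⟩
    obtain ⟨s, d, hsd⟩ := IsLocalization.exists_mk'_eq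
      (hU.primeIdealOf ⟨x, hxU⟩).asIdeal.primeCompl b'
    have hPmax : P ≤ IsLocalRing.maximalIdeal _ := IsLocalRing.le_maximalIdeal hPp.ne_top
    have hweak : Curv2.IsWeakAssPoint (Coh.structureModule X) ((X.fromSpecStalk x).base q) := by
      rw [AssPointLib.weak_iff hU hy]
      refine ⟨(s : Γ(X, U)), ?_⟩
      rw [e3]
      refine AssPointLib.minimal_iff.2 ⟨fun r hr => ?_, fun r hr => ?_⟩
      · have hr' : r * s = 0 := (AssPointLib.mem_ann _).1 hr
        show algebraMap Γ(X, U) (X.presheaf.stalk x) r ∈ P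
        rw [hb']
        refine Ideal.le_radical (Submodule.mem_colon_singleton.2 ((Submodule.mem_bot _).2 ?_))
        rw [smul_eq_mul, ← hsd, IsLocalization.mk'_eq_mul_mk'_one, ← mul_assoc, ← map_mul, hr',
          map_zero, zero_mul]
      · have hr2 : algebraMap Γ(X, U) (X.presheaf.stalk x) r ∈ P := hr
        rw [hb'] at hr2
        obtain ⟨n, hn⟩ := hr2
        have hn2 := (Submodule.mem_bot _).1 (Submodule.mem_colon_singleton.1 hn)
        rw [smul_eq_mul, ← hsd, ← map_pow, IsLocalization.mul_mk'_eq_mk'_of_mul,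
          IsLocalization.mk'_eq_zero_iff] at hn2
        obtain ⟨⟨t, ht⟩, hts⟩ := hn2
        refine ⟨t, fun htQ => ht ?_, n, (AssPointLib.mem_ann _).2 ?_⟩
        · rw [← IsLocalization.AtPrime.comap_maximalIdeal (X.presheaf.stalk x)
            (hU.primeIdealOf ⟨x, hxU⟩).asIdeal]
          exact hPmax htQ
        · show t * r ^ n * s = 0
          rw [mul_assoc]; exact hts
    have hbot := (FlatDedLib.comap_eq_bot_iff f x q).1
      (h _ ((AssPointLib.assPoint_iff_weak _ _).2 hweak))
    have haP : a ∈ q.asIdeal.comap (f.stalkMap x).hom :=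
      hle (Submodule.mem_colon_singleton.2 ((Submodule.mem_bot _).2 hab))
    exact ha (Ideal.mem_bot.1 (hbot ▸ haP))

end Groth.Agent.S10935
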