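import Groth.Statements.S10938
import Groth.Agent.TanRankLib.Basic
-- import your own Groth.Agent.* helpers here

set_option autoImplicit false
universe u
open CategoryTheory CategoryTheory.Limits AlgebraicGeometry
open Variety

namespace Groth.Agent.S10938

/-- Let k be an algebraically closed field of characteristic zero, X and Y schemes of finite type over
k, f : X → Y a k-morphism and r a natural number. Let X_r be the set of closed points x of X such
that the tangent map T_x f : T_x X → T_{f(x)} Y has rank at most r — equivalently, the image of the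
cotangent map m_{f(x)}/m_{f(x)}^2 → m_x/m_x^2 is contained in the span of at most r vectors over the
residue field. Then the closure of f(X_r) in Y has (topological Krull) dimension at most r. -/
theorem result (k : Type u) [Field k] [IsAlgClosed k] [CharZero k]
    {X Y : Scheme.{u}} (qX : X ⟶ Spec (CommRingCat.of k)) (qY : Y ⟶ Spec (CommRingCat.of k))
    [LocallyOfFiniteType qX] [QuasiCompact qX] [LocallyOfFiniteType qY] [QuasiCompact qY]
    (f : X ⟶ Y) (hf : f ≫ qY = qX) (r : ℕ) :
    topologicalKrullDim ↥(closure (f.base '' {x : ↥X | IsClosed ({x} : Set ↥X) ∧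
      ∃ S : Finset (IsLocalRing.CotangentSpace (X.presheaf.stalk x)), S.card ≤ r ∧
        (LinearMap.range (FixPt.cotangentMapAt f x (f.base x) rfl) : Set (IsLocalRing.CotangentSpace (X.presheaf.stalk x))) ⊆
          (Submodule.span (IsLocalRing.ResidueField (X.presheaf.stalk x))
            (S : Set (IsLocalRing.CotangentSpace (X.presheaf.stalk x))) : Set (IsLocalRing.CotangentSpace (X.presheaf.stalk x)))})) ≤ r := by
  classical
  set S := {x : ↥X | IsClosed ({x} : Set ↥X) ∧
      ∃ S : Finset (IsLocalRing.CotangentSpace (X.presheaf.stalk x)), S.card ≤ r ∧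
        (LinearMap.range (FixPt.cotangentMapAt f x (f.base x) rfl) : Set (IsLocalRing.CotangentSpace (X.presheaf.stalk x))) ⊆
          (Submodule.span (IsLocalRing.ResidueField (X.presheaf.stalk x))
            (S : Set (IsLocalRing.CotangentSpace (X.presheaf.stalk x))) : Set (IsLocalRing.CotangentSpace (X.presheaf.stalk x)))}
    with hSdef
  haveI : IsLocallyNoetherian X := LocallyOfFiniteType.isLocallyNoetherian qX
  haveI : CompactSpace X := QuasiCompact.compactSpace_of_compactSpace qX
  haveI : IsNoetherian X := {}
  haveI : TopologicalSpace.NoetherianSpace X := inferInstance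
  haveI : TopologicalSpace.NoetherianSpace ↥S := Topology.IsInducing.subtypeVal.noetherianSpace
  haveI hq : IsNoetherian Y := by
    haveI : IsLocallyNoetherian Y := LocallyOfFiniteType.isLocallyNoetherian qY
    haveI : CompactSpace Y := QuasiCompact.compactSpace_of_compactSpace qY
    exact {}
  have hfin : (irreducibleComponents ↥S).Finite := TopologicalSpace.NoetherianSpace.finite_irreducibleComponents
  let W : Set ↥S → Set X := fun T => closure (Subtype.val '' T)
  have hbound : ∀ T ∈ irreducibleComponents ↥S, topologicalKrullDim ↥(closure (f.base '' W T)) ≤ r := by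
    intro T hT
    refine TanRankLib.dim_le_of_dense qX qY f hf r S (W T) isClosed_closure
      (hT.1.image _ continuous_subtype_val.continuousOn).closure ?_ (fun x hx => hx)
    refine closure_mono ?_
    rintro _ ⟨a, ha, rfl⟩
    exact ⟨subset_closure ⟨a, ha, rfl⟩, a.2⟩
  have hcov : closure (f.base '' S) ⊆ ⋃ T ∈ hfin.toFinset, closure (f.base '' W T) := by
    refine closure_minimal ?_ (isClosed_biUnion_finset fun T _ => isClosed_closure)
    rintro _ ⟨x, hx, rfl⟩
    refine Set.mem_biUnion (hfin.mem_toFinset.2 (irreducibleComponent_mem_irreducibleComponents (⟨x, hx⟩ : ↥S))) ?_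
    exact subset_closure ⟨x, subset_closure ⟨⟨x, hx⟩, mem_irreducibleComponent, rfl⟩, rfl⟩
  haveI : QuasiSober ↥(closure (f.base '' S)) :=
    isClosed_closure.isClosedEmbedding_subtypeVal.quasiSober
  refine EquidimLib.topologicalKrullDim_le_of_components fun Z hZ => ?_
  have hZi : IsIrreducible (Subtype.val '' Z : Set Y) := hZ.1.image _ continuous_subtype_val.continuousOn
  obtain ⟨T, hT, hZT⟩ : ∃ T ∈ hfin.toFinset, Subtype.val '' Z ⊆ closure (f.base '' W T) := by
    have h := isIrreducible_iff_sUnion_isClosed.1 hZi (hfin.toFinset.image fun T => closure (f.base '' W T))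
      (by simp only [Finset.mem_image]; rintro _ ⟨T, -, rfl⟩; exact isClosed_closure)
      (by
        intro y hy
        obtain ⟨a, -, rfl⟩ := hy
        obtain ⟨T, hT, hyT⟩ := Set.mem_iUnion₂.1 (hcov a.2)
        exact ⟨_, Finset.mem_image.2 ⟨T, hT, rfl⟩, hyT⟩)
    obtain ⟨_, hmem, hsub⟩ := h
    obtain ⟨T, hT, rfl⟩ := Finset.mem_image.1 hmem
    exact ⟨T, hT, hsub⟩
  refine le_trans ?_ (hbound T (hfin.mem_toFinset.1 hT))
  let j : ↥Z → ↥(closure (f.base '' W T)) := fun a => ⟨a.1.1, hZT ⟨a.1, a.2, rfl⟩⟩
  have hj : Topology.IsInducing j :=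
    (Topology.IsInducing.subtypeVal.comp Topology.IsInducing.subtypeVal).codRestrict fun a => hZT ⟨a.1, a.2, rfl⟩
  exact hj.topologicalKrullDim_le

end Groth.Agent.S10938
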