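import Groth.Statements.S11322
import Groth.Agent.FibDimLib.Apps

set_option autoImplicit false
universe u
open CategoryTheory AlgebraicGeometry
open FlatMor

namespace Groth.Agent.S11322

/-- Let k be a field, X and Y schemes of finite type over k with Y irreducible, f : X → Y a flat
k-morphism and n a natural number. Then all irreducible components of X have dimension dim Y + n if
and only if, for each point y of Y (generic points included), all irreducible components of the
fibre of f over y have dimension n. -/
theorem result (k : Type u) [Field k]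
    {X Y : Scheme.{u}} (qX : X ⟶ Spec (CommRingCat.of k)) (qY : Y ⟶ Spec (CommRingCat.of k))
    [LocallyOfFiniteType qX] [QuasiCompact qX] [LocallyOfFiniteType qY] [QuasiCompact qY]
    [IrreducibleSpace ↥Y] (f : X ⟶ Y) (hf : f ≫ qY = qX) [Flat f] (n : ℕ) :
    (∀ Z : Set ↥X, Z ∈ irreducibleComponents ↥X → topologicalKrullDim ↥Z = topologicalKrullDim ↥Y + (n : WithBot ℕ∞)) ↔
      ∀ (y : Y) (Z : Set ↥(f.fiber y)), Z ∈ irreducibleComponents ↥(f.fiber y) →
        topologicalKrullDim ↥Z = (n : WithBot ℕ∞) := by
  haveI : LocallyOfFiniteType (f ≫ qY) := hf ▸ inferInstance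
  haveI : LocallyOfFiniteType f := locallyOfFiniteType_of_comp f qY
  have key : ∀ x : X, FlatMor.localDim X x = topologicalKrullDim Y + FlatMor.fibreDimAt f x := fun x => by
    rw [← FibDimLib.localDim_of_irreducible qY (f.base x)]
    exact FibDimLib.localDim_eq_add_fibreDimAt qY f x
  refine ⟨fun h y Z hZ => ?_, fun h Z hZ => ?_⟩
  · obtain ⟨x, -, hx⟩ := FibDimLib.exists_point_of_fibre_component f y hZ
    obtain ⟨g, hg, -, hd⟩ := FibDimLib.exists_generic_localDim qX x
    obtain ⟨m, hm⟩ : ∃ m : ℕ, topologicalKrullDim Y = m := by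
      obtain ⟨m, hm⟩ := FibDimLib.exists_localDim_eq_nat qY (genericPoint Y)
      exact ⟨m, (FibDimLib.localDim_of_irreducible qY _).symm.trans hm⟩
    have e := (key x).symm.trans (hd.trans (h _ hg))
    rw [hm] at e
    rw [hx]
    exact FibDimLib.add_cancel_nat e
  · obtain ⟨z, -, hd⟩ := FibDimLib.exists_generic_of_component qX hZ
    obtain ⟨T, hT, hTd⟩ := FibDimLib.exists_fibre_component f z
    rw [← hd, key z, hTd, h _ T hT]


end Groth.Agent.S11322
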