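import Groth.Statements.S10941
import Groth.Agent.S11322
import Groth.Agent.FibDimLib.SchemeInv
import Groth.Agent.FibIrrLib.Basic
-- import your own Groth.Agent.* helpers here

set_option autoImplicit false
set_option backward.isDefEq.respectTransparency false
set_option linter.all false
universe u
open CategoryTheory CategoryTheory.Limits AlgebraicGeometry
open FlatMor

namespace Groth.Agent.S10941

/-- Let k be a field, X, Y and Y' schemes of finite type over k with Y irreducible, f : X → Y a flat
k-morphism and n a natural number such that every irreducible component of X has dimension dim Y +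
n. Let g : Y' → Y be a k-morphism and f' : X ×_Y Y' → Y' the base change of f. Then for every
irreducible closed subset V of Y', every irreducible component of the preimage of V under f' (with
the subspace topology) has dimension dim V + n. In particular (Y' = Y) every irreducible component
of f⁻¹(V) has dimension dim V + n for every irreducible closed V ⊆ Y. -/
theorem result (k : Type u) [Field k]
    {X Y Y' : Scheme.{u}} (qX : X ⟶ Spec (CommRingCat.of k)) (qY : Y ⟶ Spec (CommRingCat.of k))
    (qY' : Y' ⟶ Spec (CommRingCat.of k))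
    [LocallyOfFiniteType qX] [QuasiCompact qX] [LocallyOfFiniteType qY] [QuasiCompact qY]
    [LocallyOfFiniteType qY'] [QuasiCompact qY']
    [IrreducibleSpace ↥Y] (f : X ⟶ Y) (hf : f ≫ qY = qX) [Flat f] (n : ℕ)
    (hX : ∀ Z : Set ↥X, Z ∈ irreducibleComponents ↥X →
      topologicalKrullDim ↥Z = topologicalKrullDim ↥Y + (n : WithBot ℕ∞))
    (g : Y' ⟶ Y) (hg : g ≫ qY = qY')
    (V : Set ↥Y') (hV : IsClosed V) (hVirr : IsIrreducible V)
    (W : Set ↥((pullback.snd f g).base ⁻¹' V))
    (hW : W ∈ irreducibleComponents ↥((pullback.snd f g).base ⁻¹' V)) :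
    topologicalKrullDim ↥W = topologicalKrullDim ↥V + (n : WithBot ℕ∞) := by
  classical
  subst hf hg
  haveI : IsLocallyNoetherian Y := LocallyOfFiniteType.isLocallyNoetherian qY
  haveI : LocallyOfFiniteType f := locallyOfFiniteType_of_comp f qY
  haveI : QuasiCompact f := QuasiCompact.of_comp f qY
  have hfib := (Groth.Agent.S11322.result k (f ≫ qY) qY f rfl n).1 hX
  have hd : ∀ x : X, FlatMor.fibreDimAt f x = (n : WithBot ℕ∞) := fun x => by
    obtain ⟨Z, hZ, he⟩ := FibDimLib.exists_fibre_component f x
    exact he.trans (hfib _ Z hZ)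
  let I := Scheme.IdealSheafData.vanishingIdeal (X := Y') ⟨V, hV⟩
  let j := I.subschemeι
  have hrV : Set.range j = V := by
    rw [Scheme.IdealSheafData.range_subschemeι, Scheme.IdealSheafData.coe_support_vanishingIdeal]
    rfl
  haveI : IrreducibleSpace ↥I.subscheme := FibIrrLib.irreducibleSpace_of_embedding j.isEmbedding (by rw [hrV]; exact hVirr)
  let a : pullback (pullback.snd f g) j ⟶ pullback f g := pullback.fst _ _
  let b : pullback (pullback.snd f g) j ⟶ I.subscheme := pullback.snd _ _
  have hsq : IsPullback (a ≫ pullback.fst f g) b f (j ≫ g) :=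
    (IsPullback.of_hasPullback (pullback.snd f g) j).paste_horiz (IsPullback.of_hasPullback f g)
  haveI : QuasiCompact (j ≫ g ≫ qY) := inferInstance
  haveI : Flat b := MorphismProperty.of_isPullback hsq ‹Flat f›
  haveI : LocallyOfFiniteType b := MorphismProperty.of_isPullback hsq ‹LocallyOfFiniteType f›
  haveI : QuasiCompact b := MorphismProperty.of_isPullback hsq ‹QuasiCompact f›
  have hb : ∀ (y : I.subscheme) (Z : Set ↥(b.fiber y)), Z ∈ irreducibleComponents ↥(b.fiber y) →
      topologicalKrullDim ↥Z = (n : WithBot ℕ∞) := by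
    intro y Z hZ
    obtain ⟨x, -, hx⟩ := FibDimLib.exists_point_of_fibre_component b y hZ
    rw [hx, FibDimLib.fibreDimAt_baseChange hsq x, hd]
  have hcomp := (Groth.Agent.S11322.result k (b ≫ j ≫ g ≫ qY) (j ≫ g ≫ qY) b rfl n).2 hb
  have hra : Set.range a = (pullback.snd f g).base ⁻¹' V := by
    show Set.range (pullback.fst (pullback.snd f g) j) = _
    rw [Scheme.Pullback.range_fst, hrV]
  let e : ↥(pullback (pullback.snd f g) j) ≃ₜ ↥((pullback.snd f g).base ⁻¹' V) :=
    a.isEmbedding.toHomeomorph.trans (Homeomorph.setCongr hra)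
  have hW' := preimage_mem_irreducibleComponents hW e.isOpenEmbedding (by
    obtain ⟨w, hw⟩ := hW.1.1
    exact ⟨w, hw, e.surjective w⟩)
  have := hcomp _ hW'
  rw [← FibIrrLib.dim_eq_of_embedding j.isEmbedding hrV, ← this]
  exact (FibIrrLib.dim_eq_of_embedding (e.isEmbedding.comp .subtypeVal) (T := W) (by rw [Set.range_comp, Subtype.range_coe]; exact Set.image_preimage_eq W e.surjective)).symm


end Groth.Agent.S10941
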