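import Groth.Statements.S10943
import Groth.Agent.RHomOLib.Ext
import Groth.Agent.PerfDualLib.PseudoC
import Groth.Agent.PerfDualLib.CohPC
import Groth.Agent.KiehlLib.RestrLift
import Groth.Agent.BidualSchLib.Exists
import Groth.Agent.KFlatLib.DerivedTensor

set_option autoImplicit false
set_option backward.isDefEq.respectTransparency false
set_option backward.isDefEq.respectTransparency.types false
attribute [local instance] HasDerivedCategory.standard
set_option maxHeartbeats 1000000
universe u
open CategoryTheory AlgebraicGeometry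
open Coherent

namespace Groth.Agent.S10943

/-- Let X be a Noetherian scheme and F, G coherent O_X-modules. Then for every i the Ext sheaf Ext^i(F,
G) - the i-th right derived functor of the internal Hom functor Hom(F, -) on O_X-modules (its
existence and that of injective resolutions are the stated instance hypotheses, both true),
evaluated at G - is a coherent O_X-module (quasi-coherent of finite type). -/
theorem result (X : Scheme.{u}) [IsNoetherian X] (F G : X.Modules)
    (hF : Coh.IsCoh F) (hG : Coh.IsCoh G)
    [ModSite.HasSheafHom (O := X.sheaf) F] [HasInjectiveResolutions (ModSite.Mod X.sheaf)] (i : ℕ) :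
    Coh.IsCoh ((ModSite.extSh (O := X.sheaf) F i).obj G) := by
  haveI : HasInjectiveResolutions X.Modules := ‹HasInjectiveResolutions (ModSite.Mod X.sheaf)›
  let K := FMKLib.oneCx F
  haveI : DCoh.HasLTensorCx K := KFlatLib.hasLTensorCx K
  haveI : DCoh.HasRSheafHom K := BidualSchLib.hasRSheafHom K
  let I := InjectiveResolution.of G
  obtain ⟨e⟩ := ExtShLib.nonempty_extSh_iso I F i
  obtain ⟨e'⟩ := (RHomOLib.nonempty_HD_rSheafHom_hcx F I).2 i
  haveI : (DerivedCategory.Q.obj K).IsLE 0 :=
    DerivedCategory.TStructure.t.isLE_of_iso (FMKLib.oneCxIso F).symm 0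
  have hK : DCoh.IsCohD (DCoh.toD X K) := fun q =>
    QCohLib.isCoh_of_iso ((DerivedCategory.homologyFunctor X.Modules q).mapIso (FMKLib.oneCxIso F)).symm
      (KiehlLib.isCohD_single_noeth 0 hF q)
  have h := PerfDualLib.isCoh_HD_rSheafHom_of_isPC K (m := -(i : ℤ) - 1)
    (PerfDualLib.isPC_of_isCohD (DCoh.toD X K) 0 _ hK) (DCoh.inD X G) (KiehlLib.isCohD_single_noeth 0 hG) 0
    i (by omega)
  exact QCohLib.isCoh_of_iso (e' ≪≫ e.symm) h

end Groth.Agent.S10943
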