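import Groth.Statements.S10944
import Groth.Agent.SweepSix.MaxPts
import Mathlib.AlgebraicGeometry.Morphisms.Flat
-- import your own Groth.Agent.* helpers here

set_option autoImplicit false
universe u
open CategoryTheory AlgebraicGeometry
open FlatMor

namespace Groth.Agent.S10944

theorem closure_mem_of_maximal {X : Scheme.{u}} {x : X} (hx : ∀ y, y ⤳ x → y = x) :
    closure {x} ∈ irreducibleComponents X := by
  refine ⟨isIrreducible_singleton.closure, fun S hS hle => ?_⟩
  have hg : IsGenericPoint hS.genericPoint (closure S) := hS.isGenericPoint_genericPoint_closure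
  have hsp : hS.genericPoint ⤳ x := hg.specializes (subset_closure (hle (subset_closure rfl)))
  rw [hx _ hsp] at hg
  exact fun z hz => hg.def.symm ▸ subset_closure hz

theorem maximal_genericPoint {X : Scheme.{u}} {Z : Set X} (hZ : Z ∈ irreducibleComponents X) :
    ∃ t, IsGenericPoint t Z ∧ ∀ y, y ⤳ t → y = t := by
  have hg : IsGenericPoint hZ.1.genericPoint Z := by
    have := hZ.1.isGenericPoint_genericPoint_closure
    rwa [(isClosed_of_mem_irreducibleComponents Z hZ).closure_eq] at this
  refine ⟨_, hg, fun y hy => ?_⟩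
  have hsub : Z ⊆ closure {y} := hg.def ▸ specializes_iff_closure_subset.1 hy
  have : closure {y} = Z := le_antisymm (hZ.2 isIrreducible_singleton.closure hsub) hsub
  exact (show Inseparable y hZ.1.genericPoint from
    inseparable_iff_closure_eq.2 (this.trans hg.def.symm)).eq

/-- Let f : X → Y be a flat morphism of Noetherian schemes and Y' an irreducible component of Y. Then
f⁻¹(Y') is the union of the irreducible components Z of X with f(Z) ⊆ Y'. -/
theorem result {X Y : Scheme.{u}}
    [IsNoetherian X] [IsNoetherian Y] (f : X ⟶ Y) [Flat f]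
    (Y' : Set ↥Y) (hY' : Y' ∈ irreducibleComponents ↥Y) :
    f.base ⁻¹' Y' = ⋃₀ {Z : Set ↥X | Z ∈ irreducibleComponents ↥X ∧ f.base '' Z ⊆ Y'} := by
  obtain ⟨η, hη, hmax⟩ := maximal_genericPoint hY'
  refine Set.Subset.antisymm (fun x hx => ?_) ?_
  · obtain ⟨x', hx', hfx'⟩ := Flat.generalizingMap f (hη.specializes hx)
    obtain ⟨ξ, hξ, hξmax⟩ := SweepSix.exists_maximal_generalization x'
    have hfξ : f ξ = η := hmax _ (hfx' ▸ hξ.map f.continuous)
    refine ⟨closure {ξ}, ⟨closure_mem_of_maximal hξmax, ?_⟩,
      specializes_iff_mem_closure.1 (hξ.trans hx')⟩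
    refine (image_closure_subset_closure_image f.continuous).trans ?_
    rw [Set.image_singleton]
    exact (hfξ ▸ hη.def).subset
  · rintro x ⟨Z, ⟨-, hZ⟩, hxZ⟩
    exact hZ ⟨x, hxZ, rfl⟩

end Groth.Agent.S10944
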