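import Groth.Statements.S10946
import Groth.Agent.DevissLib.Basic
import Groth.Agent.CechLib.Compare
import Groth.Agent.QCohLib.Extend
import Groth.Agent.QCohLib.Vanishing
import Groth.Agent.FormalLimVanishLib.Main

set_option autoImplicit false
universe u
open CategoryTheory CategoryTheory.Limits AlgebraicGeometry TopologicalSpace Opposite
open CategoryTheory AlgebraicGeometry
open Coherent

namespace Groth.Agent.S10946

open QCohLib in
/-- Finitely many sections over affine opens lie in a coherent submodule. -/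
theorem exists_coh_through {X : Scheme.{u}} [IsNoetherian X] (G : X.Modules) [Coh.IsQCoh G]
    {m : ℕ} (V : Fin m → X.affineOpens) (s : ∀ a, Γ(G, (V a).1)) :
    ∃ (S : X.Modules) (i : S ⟶ G), Mono i ∧ Coh.IsCoh S ∧ ∀ a, ∃ t, i.app (V a).1 t = s a := by
  induction m with
  | zero =>
    obtain ⟨V, hV, _⟩ : ∃ V : X.Opens, IsAffineOpen V ∧ True := ⟨⊥, isAffineOpen_bot X, trivial⟩
    obtain ⟨S, hft, -⟩ := LocSub.exists_ft_through (F := G) V hV 0
    exact ⟨S.toModules, S.ι, inferInstance, ⟨LocSub.isQCoh_toModules S hft, LocSub.isFT_toModules S hft⟩,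
      fun a => a.elim0⟩
  | succ m ih =>
    obtain ⟨A, iA, _, hA, hAt⟩ := ih (fun a => V a.castSucc) (fun a => s a.castSucc)
    obtain ⟨T, hft, hT⟩ := LocSub.exists_ft_through (F := G) (V (Fin.last m)).1 (V (Fin.last m)).2 (s (Fin.last m))
    have hB : Coh.IsCoh T.toModules := ⟨LocSub.isQCoh_toModules T hft, LocSub.isFT_toModules T hft⟩
    let φ : A ⊞ T.toModules ⟶ G := biprod.desc iA T.ι
    have hAB := DevissLib.isCoh_biprod hA hB
    have hI : Coh.IsCoh (Abelian.image φ) := by
      haveI := hAB.1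
      haveI : Coh.IsQCoh (Abelian.image φ) := QCohLib.isQCoh_image φ
      exact ⟨inferInstance, QCohLib.isFT_of_epi (Abelian.factorThruImage φ) hAB.2⟩
    refine ⟨Abelian.image φ, Abelian.image.ι φ, inferInstance, hI, fun a => ?_⟩
    have key : ∀ {P : X.Modules} (j : P ⟶ A ⊞ T.toModules) (j' : P ⟶ G), j ≫ φ = j' →
        ∀ (W : X.Opens) (t : Γ(P, W)), (Abelian.image.ι φ).app W ((j ≫ Abelian.factorThruImage φ).app W t) = j'.app W t := by
      intro P j j' e W t
      refine Eq.trans ?_ (congrArg (fun ψ => Scheme.Modules.Hom.app ψ W t) e)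
      exact congrArg (fun ψ => Scheme.Modules.Hom.app ψ W t)
        ((Category.assoc j (Abelian.factorThruImage φ) (Abelian.image.ι φ)).trans
          (congrArg (fun ψ => j ≫ ψ) (Abelian.image.fac φ)))
    induction a using Fin.lastCases with
    | last => exact ⟨_, (key biprod.inr T.ι (biprod.inr_desc iA T.ι) _ (T.lift (s (Fin.last m)) hT)).trans rfl⟩
    | cast a =>
      obtain ⟨t, ht⟩ := hAt a
      exact ⟨_, (key biprod.inl iA (biprod.inl_desc iA T.ι) _ t).trans ht⟩

/-- Let X be a Noetherian separated scheme and n a natural number such that H^i(X, F) = 0 for all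
coherent O_X-modules F and all i > n. Then H^i(X, G) = 0 for all quasi-coherent O_X-modules G and
all i > n. -/
theorem result (X : Scheme.{u}) [IsNoetherian X]
    [X.IsSeparated] (n : ℕ)
    (h : ∀ F : X.Modules, Coh.IsCoh F → ∀ i : ℕ, n < i → Subsingleton (Coh.HH X F i))
    (G : X.Modules) (hG : Coh.IsQCoh G) (i : ℕ) (hi : n < i) :
    Subsingleton (Coh.HH X G i) := by
  classical
  obtain ⟨q, rfl⟩ : ∃ q, i = q + 1 := ⟨i - 1, by omega⟩
  haveI := hG
  choose V hV hxV using fun x : X => QCohLib.exists_affine_nhd x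
  obtain ⟨T, hT⟩ := isCompact_univ.elim_finite_subcover (fun x : X => (V x : Set X)) (fun x => (V x).isOpen)
    fun x _ => Set.mem_iUnion.mpr ⟨x, hxV x⟩
  let U : T → Opens X.toTopCat := fun x => V x.1
  have hsup : (⨆ x, U x) = ⊤ := eq_top_iff.mpr fun x _ => by
    obtain ⟨y, hy, hxy⟩ := Set.mem_iUnion₂.mp (hT (Set.mem_univ x))
    exact Opens.mem_iSup.mpr ⟨⟨y, hy⟩, hxy⟩
  have hcap : ∀ (p : ℕ) (J : Fin (p + 1) → T), IsAffineOpen (X := X) (CechLib.cap U J) := by
    intro p
    induction p with
    | zero =>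
      intro J
      have e : CechLib.cap U J = U (J 0) := le_antisymm (CechLib.cap_le _ J 0)
        ((CechLib.le_cap_iff _).mpr fun a => by rw [Subsingleton.elim (α := Fin 1) a 0])
      rw [e]
      exact hV _
    | succ p ih =>
      intro J
      have e : CechLib.cap U J = (show X.Opens from U (J 0)) ⊓ CechLib.cap U (J ∘ Fin.succ) := by
        refine le_antisymm (le_inf (CechLib.cap_le _ J 0) (CechLib.cap_comp_le _ J Fin.succ))
          ((CechLib.le_cap_iff _).mpr fun a => ?_)
        induction a using Fin.cases with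
        | zero => exact inf_le_left
        | succ j => exact inf_le_right.trans (CechLib.cap_le _ (J ∘ Fin.succ) j)
      rw [e]
      exact IsAffineOpen.inf (hV _) (ih _)
  have hacyc : ∀ (M : X.Modules), Coh.IsQCoh M → CechLib.Acyc U ((QCohLib.toAbF X).obj M) := fun M hM m J r =>
    haveI := hM
    QCohLib.subsingleton_HU_affine M r (hcap m J)
  suffices h0 : IsZero ((CechLib.cx U ((QCohLib.toAbF X).obj G).obj).homology (q + 1)) by
    obtain ⟨e⟩ := CechLib.nonempty_homology_equiv U (q + 1) _ (hacyc G hG)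
    haveI := AddCommGrpCat.subsingleton_of_isZero h0
    refine (QCohLib.subsingleton_H_iff ((QCohLib.toAbF X).obj G) _).mpr ?_
    rw [← hsup]
    exact e.symm.toEquiv.subsingleton
  rw [CechLib.isZero_homology_succ_iff]
  intro c hc
  obtain ⟨m, ⟨eF⟩⟩ := Finite.exists_equiv_fin (Fin (q + 1 + 1) → T)
  obtain ⟨S, j, hj, hS, hlift⟩ := exists_coh_through G
    (fun a => ⟨CechLib.cap U (eF.symm a), hcap _ _⟩) (fun a => c (eF.symm a))
  have hc' : ∀ J, ∃ t, j.app (CechLib.cap U J) t = c J := fun J => by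
    have := hlift (eF J)
    rwa [Equiv.symm_apply_apply] at this
  choose c' hc' using hc'
  haveI := hS.1
  obtain ⟨b, hb⟩ := (CechLib.isZero_homology_succ_iff U ((QCohLib.toAbF X).obj S).obj q).mp (by
    obtain ⟨e⟩ := CechLib.nonempty_homology_equiv U (q + 1) _ (hacyc S hS.1)
    haveI := (QCohLib.subsingleton_H_iff ((QCohLib.toAbF X).obj S) _).mp (h S hS (q + 1) hi)
    rw [← hsup] at this
    exact AddCommGrpCat.isZero_of_iff_subsingleton.mpr e.toEquiv.subsingleton) c' (by
    funext J
    haveI := hj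
    refine QCohLib.app_injective_of_mono j _ ?_
    refine Eq.trans ?_ ((congr_fun hc J).trans (map_zero _).symm)
    refine (congr_fun (FormalLimVanishLib.cMap_dd U ((QCohLib.toAbF X).map j).hom (q + 1) c') J).trans ?_
    exact congrArg (fun z => CechLib.dd U ((QCohLib.toAbF X).obj G).obj (q + 1) z J) (funext hc'))
  refine ⟨fun J => j.app _ (b J), funext fun J => ?_⟩
  refine Eq.trans ?_ ((congrArg (j.app _) (congr_fun hb J)).trans (hc' J))
  exact (congr_fun (FormalLimVanishLib.cMap_dd U ((QCohLib.toAbF X).map j).hom q b) J).symm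

end Groth.Agent.S10946
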