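import Groth.Statements.S10947
import Groth.Agent.CdLfLib.Basic
import Groth.Agent.FormalCohLib.ProjAmple
import Groth.Agent.ProjDegLib.Criterion

set_option autoImplicit false
universe u
open CategoryTheory AlgebraicGeometry
open Coherent

namespace Groth.Agent.S10947

/-- Let k be a field and X a quasi-projective scheme over k, given with an immersion ι : X → P^N_k into
a projective space. If n is a natural number with H^i(X, E) = 0 for all finite locally free
O_X-modules E and all i > n, then H^i(X, F) = 0 for all coherent O_X-modules F (quasi-coherent of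
finite type) and all i > n. -/
theorem result
    (k : Type u) [Field k] (N : ℕ) {X : Scheme.{u}} (ι : X ⟶ CohB1.ProjSpace N k) [IsImmersion ι]
    (n : ℕ) (h : ∀ E : X.Modules, FlatMod.IsFinLocFree E → ∀ i : ℕ, n < i → Subsingleton (Coh.HH X E i))
    (F : X.Modules) (hF : Coh.IsCoh F) (i : ℕ) (hi : n < i) :
    Subsingleton (Coh.HH X F i) := by
  haveI := ProjDegLib.toSpec_isProper k N
  haveI : IsLocallyNoetherian (CohB1.ProjSpace N k) :=
    LocallyOfFiniteType.isLocallyNoetherian (CohB1.ProjSpace.toSpec N k)
  haveI : CompactSpace (CohB1.ProjSpace N k) := QuasiCompact.compactSpace_of_compactSpace (CohB1.ProjSpace.toSpec N k)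
  haveI : IsNoetherian (CohB1.ProjSpace N k) := {}
  haveI : TopologicalSpace.NoetherianSpace X := ι.isEmbedding.isInducing.noetherianSpace
  haveI : QuasiCompact ι := ⟨fun s _ _ => TopologicalSpace.NoetherianSpace.isCompact _⟩
  have hX : MoreMor.HasAmpleFamily X := MiscFlat6.hasAmpleFamily_pb ι (Or.inr (RichLib.QA.of_isImmersion ι))
    (CdLfLib.hasAmpleFamily_of_isAmple (FormalCohLib.isAmple_twistProjSpace N k))
  haveI : IsLocallyNoetherian X := LocallyOfFiniteType.isLocallyNoetherian ι
  haveI : CompactSpace X := hX.1
  haveI := MiscFlat6.quasiSeparatedSpace_of_hasAmpleFamily hX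
  exact CdLfLib.subsingleton_HH_of_resolution (MiscFlat6.hasResolutionProperty_of_hasAmpleFamily hX) n h F hF i hi

end Groth.Agent.S10947
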