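import Groth.Statements.S10948
import Groth.Agent.CohExtLib.PushHom

set_option autoImplicit false
set_option maxHeartbeats 1000000
set_option backward.isDefEq.respectTransparency false
universe u
open CategoryTheory AlgebraicGeometry
open Coherent

namespace Groth.Agent.S10948

/-- Let f : X → Y be a finite surjective morphism of integral Noetherian schemes. Then there are an
integer r ≥ 1, a coherent O_X-module M (quasi-coherent of finite type) and a morphism of O_Y-modules
α : O_Y^r → f_*M (O_Y^r the free O_Y-module on r generators) such that the map induced by α on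
stalks of the underlying abelian sheaves at the generic point of Y is an isomorphism. -/
theorem result
    {X Y : Scheme.{u}} [IsIntegral X] [IsNoetherian X] [IsIntegral Y] [IsNoetherian Y]
    (f : X ⟶ Y) [IsFinite f] [Surjective f] :
    ∃ (r : ℕ) (M : X.Modules) (α : (SheafOfModules.free (ULift.{u} (Fin r)) : Y.Modules) ⟶
        (Scheme.Modules.pushforward f).obj M),
      0 < r ∧ Coh.IsCoh M ∧
      IsIso ((TopCat.Presheaf.stalkFunctor AddCommGrpCat.{u} (genericPoint ↥Y)).map
        ((SheafOfModules.toSheaf Y.ringCatSheaf).map α).hom) := by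
  classical
  let η : Y := genericPoint Y
  letI : Field (Y.presheaf.stalk η) := (Field.toIsField Y.functionField).toField
  let O : X.Modules := Coh.structureModule X
  let M₀ := (Coh.push f).obj O
  have hM₀ : Coh.IsCoh M₀ := QCohLib.isCoh_push_finite f _ (DevissLib.isCoh_structureModule X)
  haveI := hM₀.1
  haveI := DevissLib.isNoetherian_stalk hM₀ η
  haveI := CohExtLib.nontrivial_stalk_push_structure f η
  let bs := Module.finBasis (Y.presheaf.stalk η) ((DevissLib.St η).obj M₀)
  let r := Module.finrank (Y.presheaf.stalk η) ((DevissLib.St η).obj M₀)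
  choose O' hO' s hs using fun j : Fin r => DevissLib.exists_gm_eq M₀ η (bs j)
  let U : Y.Opens := Finset.univ.inf O'
  have hηU : η ∈ U := Finset.inf_induction (p := fun V : Y.Opens => η ∈ V) trivial
    (fun a ha b hb => ⟨ha, hb⟩) fun j _ => hO' j
  let g : Fin r → Γ(M₀, U) := fun j => M₀.presheaf.map (homOfLE (Finset.inf_le (Finset.mem_univ j))).op (s j)
  have hg : ∀ j, DevissLib.gm M₀ η hηU (g j) = bs j := fun j =>
    (DevissLib.gm_map M₀ _ η hηU _).trans (hs j)
  let W : X.Opens := f ⁻¹ᵁ U
  let R := Scheme.Modules.restrictFunctor W.ι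
  let adj := Scheme.Modules.restrictAdjunction W.ι
  haveI : Coh.IsQCoh O := QCohLib.isQCoh_unit
  haveI : Coh.IsQCoh (R.obj O) :=
    haveI := KFlatLib.isQCoh_pullback W.ι O
    QCohLib.isQCoh_of_iso ((Scheme.Modules.restrictFunctorIsoPullback W.ι).app O).symm
  let P := (Scheme.Modules.pushforward W.ι).obj (R.obj O)
  haveI : Coh.IsQCoh P := QCohLib.isQCoh_pushforward W.ι (R.obj O)
  let b : O ⟶ P := adj.unit.app O
  have htri : R.map b ≫ adj.counit.app (R.obj O) = 𝟙 (R.obj O) := adj.left_triangle_components O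
  have hcounit : IsIso (adj.counit.app (R.obj O)) := inferInstance
  haveI : IsIso (R.map b) := IsIso.of_isIso_fac_right htri
  have hres : Function.Surjective (P.presheaf.map (homOfLE (le_top : W ≤ ⊤)).op) := by
    intro y
    have hle : W.ι ⁻¹ᵁ ⊤ ≤ W.ι ⁻¹ᵁ W := fun z _ => z.2
    refine ⟨(R.obj O).presheaf.map (homOfLE hle).op y, ?_⟩
    refine (QCohLib.map_map' (R.obj O) (homOfLE (W.ι.preimage_mono le_top)) (homOfLE hle) y).trans ?_
    exact ConcreteCategory.congr_hom ((R.obj O).presheaf.map_id _) y
  choose σ hσ using fun j : ULift.{u} (Fin r) => hres (b.app W (g j.down))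
  let S := QCohLib.LocSub.span P ⊤ σ
  have hft : QCohLib.LocSub.FTBelow S ⊤ := fun p hp =>
    ⟨⊤, le_rfl, hp, r, σ, fun i => QCohLib.LocSub.span_self σ i, fun V _ a ha => ha⟩
  let M := S.toModules
  have hM : Coh.IsCoh M :=
    ⟨QCohLib.LocSub.isQCoh_toModules S hft, QCohLib.LocSub.isFT_toModules S hft⟩
  let τ : ULift.{u} (Fin r) → Γ((Scheme.Modules.pushforward f).obj M, ⊤) := fun j =>
    S.lift (σ j) (QCohLib.LocSub.span_self σ j)
  let Fr : Y.Modules := SheafOfModules.free (ULift.{u} (Fin r))
  let α : Fr ⟶ (Scheme.Modules.pushforward f).obj M :=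
    ((Scheme.Modules.pushforward f).obj M).freeHomEquiv.symm fun j => QCohLib.toSections _ (τ j)
  refine ⟨r, M, α, Module.finrank_pos, hM, (ConcreteCategory.isIso_iff_bijective _).2 ?_⟩
  show Function.Bijective ((DevissLib.St η).map α).hom
  -- generators of the free module
  let σ₀ := Fr.freeHomEquiv (𝟙 Fr)
  haveI : Epi (Fr.freeHomEquiv.symm σ₀) := by
    rw [Equiv.symm_apply_apply]
    infer_instance
  have hgen := QCohLib.genTop_of_epi σ₀
  let u : ULift.{u} (Fin r) → Γ(Fr, ⊤) := fun i => (σ₀ i).val (Opposite.op ⊤)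
  have hαu : ∀ j, α.app ⊤ (u j) = τ j := by
    intro j
    have h0 : SheafOfModules.ιFree j = QCohLib.unitHom Fr (u j) := by
      have h := QCohLib.ιFree_comp u j
      have hu : (fun i => QCohLib.toSections Fr (u i)) = σ₀ := funext fun i =>
        PresheafOfModules.sections_ext _ _ fun V => (QCohLib.sections_val Fr (σ₀ i) V.unop).symm
      rw [hu, Equiv.symm_apply_apply] at h
      exact (Category.comp_id _).symm.trans h
    have h1 : SheafOfModules.ιFree j ≫ α = QCohLib.unitHom _ (τ j) := QCohLib.ιFree_comp τ j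
    rw [h0, QCohLib.app_unitHom_app] at h1
    have h2 := congrArg (fun φ : Coh.structureModule Y ⟶ (Scheme.Modules.pushforward f).obj M =>
      φ.app ⊤ (1 : Γ(Y, ⊤))) h1
    simp only [QCohLib.unitHom_app, one_smul] at h2
    have e : ∀ x : Γ((Scheme.Modules.pushforward f).obj M, ⊤),
        ((Scheme.Modules.pushforward f).obj M).presheaf.map (homOfLE (le_top : ⊤ ≤ (⊤ : Y.Opens))).op x = x :=
      fun x => QCohLib.toSections_top _ x
    rwa [e, e] at h2
  have hspan : ∀ z : (DevissLib.St η).obj Fr, ∃ c : ULift.{u} (Fin r) → Y.presheaf.stalk η,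
      z = ∑ j, c j • DevissLib.gm Fr η (U := ⊤) trivial (u j) := by
    intro z
    obtain ⟨V, hV, t, rfl⟩ := DevissLib.exists_gm_eq Fr η z
    obtain ⟨V', hV', hηV', c, hc⟩ := hgen V t η hV
    refine ⟨fun j => Y.presheaf.germ V' η hηV' (c j), ?_⟩
    rw [← DevissLib.gm_map Fr hV' η hηV', hc]
    refine (map_sum (Fr.presheaf.germ V' η hηV').hom _ _).trans (Finset.sum_congr rfl fun j _ => ?_)
    show DevissLib.gm Fr η hηV' (c j • _) = _
    rw [DevissLib.gm_smul, DevissLib.gm_map Fr (le_top : V' ≤ ⊤) η hηV']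
  let t := (Coh.push f).map S.ι
  let bb := (Coh.push f).map b
  haveI : IsIso ((Scheme.Modules.restrictFunctor U.ι).map bb) :=
    CohExtLib.isIso_restrict bb fun V hV => CohExtLib.bijective_app b (f.preimage_mono hV)
  have hbb := CohExtLib.bijective_stalk bb hηU
  have hC : ∀ j, ((DevissLib.St η).map (α ≫ t)).hom (DevissLib.gm Fr η (U := ⊤) trivial (u j)) =
      ((DevissLib.St η).map bb).hom (bs j.down) := by
    intro j
    rw [← hg j.down, DevissLib.gm_app, DevissLib.gm_app, ← DevissLib.gm_map _ (le_top : U ≤ ⊤) η hηU]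
    congr 1
    exact (congrArg (((Coh.push f).obj P).presheaf.map (homOfLE (le_top : U ≤ ⊤)).op)
      ((congrArg (t.app ⊤) (hαu j)).trans (S.ι_lift (σ j) _))).trans (hσ j)
  haveI : Mono t :=
    haveI : (Coh.push f).IsRightAdjoint :=
      (Scheme.Modules.pullbackPushforwardAdjunction f).isRightAdjoint
    inferInstance
  have ht : Function.Injective ((DevissLib.St η).map t).hom := (ModuleCat.mono_iff_injective _).mp inferInstance
  have hcomp : ∀ z, ((DevissLib.St η).map (α ≫ t)).hom z =
      ((DevissLib.St η).map t).hom (((DevissLib.St η).map α).hom z) := fun z => by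
    rw [Functor.map_comp]; rfl
  refine ⟨(injective_iff_map_eq_zero _).2 fun z hz => ?_, fun y => ?_⟩
  · obtain ⟨c, rfl⟩ := hspan z
    have h := congrArg ((DevissLib.St η).map t).hom hz
    rw [← hcomp, map_zero, map_sum] at h
    simp only [map_smul, hC] at h
    simp only [← map_smul, ← map_sum] at h
    have h0 : ∑ j : ULift.{u} (Fin r), c j • bs j.down = 0 := hbb.1 (h.trans (map_zero _).symm)
    rw [← Equiv.sum_comp Equiv.ulift.symm] at h0
    have hc0 := Fintype.linearIndependent_iff.mp bs.linearIndependent (fun i => c ⟨i⟩) h0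
    exact Finset.sum_eq_zero fun j _ => by rw [hc0 j.down, zero_smul]
  · obtain ⟨x, hx⟩ := hbb.2 (((DevissLib.St η).map t).hom y)
    refine ⟨∑ j : ULift.{u} (Fin r), bs.repr x j.down • DevissLib.gm Fr η (U := ⊤) trivial (u j), ht ?_⟩
    rw [← hcomp, ← hx, map_sum]
    simp only [map_smul, hC]
    conv_rhs => rw [← bs.sum_repr x, map_sum]
    simp only [map_smul]
    exact Equiv.sum_comp Equiv.ulift fun i => bs.repr x i • ((DevissLib.St η).map bb).hom (bs i)

end Groth.Agent.S10948
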