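import Groth.Statements.S10956
import Mathlib.RingTheory.Kaehler.Basic
import Mathlib.RingTheory.TensorProduct.Basic
-- import your own Groth.Agent.* helpers here

set_option autoImplicit false
set_option linter.style.haveILetI false
universe u
open scoped TensorProduct
open CAlg

namespace Groth.Agent.S10956

/-- Let R be a commutative ring, A and B commutative R-algebras and T = A ⊗_R B, an A-algebra through
the left factor. There is a T-linear map r from Ω_{T/R} to T ⊗_A Ω_{A/R} sending d(a ⊗ b) to (1 ⊗ b)
⊗ da for all a in A and b in B, and together with the canonical map Ω_{T/R} → Ω_{T/A} it identifies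
Ω_{T/R} with the product (T ⊗_A Ω_{A/R}) × Ω_{T/A}. (The published statement is the isomorphism of
(Ω_{A/R} ⊗_R B) ⊕ (A ⊗_R Ω_{B/R}) with Ω_{T/R} matching the exterior differentials; it is stated
here through the canonical identifications T ⊗_A Ω_{A/R} = Ω_{A/R} ⊗_R B and Ω_{T/A} = A ⊗_R
Ω_{B/R}.) -/
theorem result (R A B : Type u) [CommRing R] [CommRing A] [CommRing B]
    [Algebra R A] [Algebra R B] :
    ∃ r : Ω[(A ⊗[R] B)⁄R] →ₗ[A ⊗[R] B] ((A ⊗[R] B) ⊗[A] Ω[A⁄R]),
      (∀ (a : A) (b : B), r (KaehlerDifferential.D R (A ⊗[R] B) (a ⊗ₜ[R] b)) =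
          ((1 : A) ⊗ₜ[R] b) ⊗ₜ[A] KaehlerDifferential.D R A a) ∧
        Function.Bijective (fun ω : Ω[(A ⊗[R] B)⁄R] =>
          (r ω, KaehlerDifferential.map R A (A ⊗[R] B) (A ⊗[R] B) ω)) := by
  let Φ : A →ₗ[R] B →ₗ[R] ((A ⊗[R] B) ⊗[A] Ω[A⁄R]) :=
    LinearMap.mk₂ R (fun a b => ((1 : A) ⊗ₜ[R] b) ⊗ₜ[A] KaehlerDifferential.D R A a)
      (fun a a' b => by simp only [map_add, TensorProduct.tmul_add])
      (fun c a b => by simp only [Derivation.map_smul, TensorProduct.tmul_smul])
      (fun a b b' => by simp only [TensorProduct.tmul_add, TensorProduct.add_tmul])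
      (fun c a b => by
        rw [TensorProduct.tmul_smul, ← TensorProduct.smul_tmul'])
  let L := TensorProduct.lift Φ
  have hL : ∀ a b, L (a ⊗ₜ[R] b) = ((1 : A) ⊗ₜ[R] b) ⊗ₜ[A] KaehlerDifferential.D R A a :=
    fun a b => rfl
  let δ : Derivation R (A ⊗[R] B) ((A ⊗[R] B) ⊗[A] Ω[A⁄R]) :=
    Derivation.mk' L (fun x y => by
      induction x using TensorProduct.induction_on with
      | zero => simp
      | add x x' hx hx' => simp only [add_mul, map_add, smul_add, add_smul, hx, hx']; abel
      | tmul a b =>
        induction y using TensorProduct.induction_on with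
        | zero => simp
        | add y y' hy hy' => simp only [mul_add, map_add, smul_add, add_smul, hy, hy']; abel
        | tmul a' b' =>
          rw [Algebra.TensorProduct.tmul_mul_tmul, hL, hL, hL, Derivation.leibniz,
            TensorProduct.tmul_add, TensorProduct.tmul_smul, TensorProduct.tmul_smul,
            TensorProduct.smul_tmul', TensorProduct.smul_tmul', TensorProduct.smul_tmul',
            TensorProduct.smul_tmul', TensorProduct.smul_tmul', TensorProduct.smul_tmul',
            smul_eq_mul, smul_eq_mul, smul_eq_mul, smul_eq_mul,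
            Algebra.TensorProduct.tmul_mul_tmul, Algebra.TensorProduct.tmul_mul_tmul, mul_one,
            mul_comm b' b])
  refine ⟨δ.liftKaehlerDifferential, fun a b => δ.liftKaehlerDifferential_comp_D _, ?_⟩
  set r := δ.liftKaehlerDifferential with hr
  set m := KaehlerDifferential.mapBaseChange R A (A ⊗[R] B) with hm
  have hrm : r.comp m = LinearMap.id := by
    refine LinearMap.ext fun z => ?_
    induction z using TensorProduct.induction_on with
    | zero => simp
    | add z z' hz hz' => simp only [map_add, hz, hz']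
    | tmul t w =>
      rw [LinearMap.comp_apply, hm, KaehlerDifferential.mapBaseChange_tmul, map_smul,
        LinearMap.id_apply]
      have hw : w ∈ Submodule.span A (Set.range (KaehlerDifferential.D R A)) := by
        rw [KaehlerDifferential.span_range_derivation]; trivial
      induction hw using Submodule.span_induction with
      | zero => simp
      | add z z' _ _ hz hz' => simp only [map_add, smul_add, TensorProduct.tmul_add, hz, hz']
      | smul c z _ hz =>
        rw [map_smul, LinearMap.map_smul_of_tower, smul_comm, hz, TensorProduct.tmul_smul]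
      | mem z hz =>
        obtain ⟨a, rfl⟩ := hz
        rw [KaehlerDifferential.map_D, hr, δ.liftKaehlerDifferential_comp_D]
        show t • (((1 : A) ⊗ₜ[R] (1 : B)) ⊗ₜ[A] KaehlerDifferential.D R A a) = _
        rw [TensorProduct.smul_tmul', smul_eq_mul, ← Algebra.TensorProduct.one_def, mul_one]
  have hexact := KaehlerDifferential.exact_mapBaseChange_map R A (A ⊗[R] B)
  refine ⟨fun x y h => ?_, fun ⟨p, q⟩ => ?_⟩
  · obtain ⟨h1, h2⟩ := Prod.ext_iff.1 h
    obtain ⟨z, hz⟩ := (hexact (x - y)).1 (by rw [map_sub]; exact sub_eq_zero.2 h2)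
    have h3 := LinearMap.congr_fun hrm z
    rw [LinearMap.comp_apply, hm, hz, map_sub, LinearMap.id_apply] at h3
    rw [← sub_eq_zero, ← hz, ← h3, sub_eq_zero.2 h1, map_zero]
  · obtain ⟨w, hw⟩ := KaehlerDifferential.map_surjective R A (A ⊗[R] B) q
    refine ⟨w + m (p - r w), Prod.ext ?_ ?_⟩
    · show r (w + m (p - r w)) = p
      have h3 := LinearMap.congr_fun hrm (p - r w)
      rw [LinearMap.comp_apply, LinearMap.id_apply] at h3
      rw [map_add, h3, add_sub_cancel]
    · show KaehlerDifferential.map R A (A ⊗[R] B) (A ⊗[R] B) (w + m (p - r w)) = q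
      rw [map_add, hw, hm, (hexact _).2 ⟨_, rfl⟩, add_zero]

end Groth.Agent.S10956
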