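import Groth.Statements.S10958
import Groth.Agent.AVAmpleLib.Exist
import Groth.Agent.AmpleThLib.ProjA
import Groth.Agent.SweepSix.GeomConn
import Groth.Agent.CubeConsLib.Transpose

set_option linter.style.haveILetI false
set_option backward.isDefEq.respectTransparency false
set_option maxHeartbeats 1000000
-- import your own Groth.Agent.* helpers here

set_option autoImplicit false
universe u
open CategoryTheory MonoidalCategory CartesianMonoidalCategory MonObj GrpObj AlgebraicGeometry
open AbVar

namespace Groth.Agent.S10958

/-- Let K be a field and A an abelian variety over K, that is, a group scheme over Spec K whose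
structure morphism is proper and smooth and whose underlying topological space is irreducible. Then
there exist a natural number n and a closed immersion of A into projective n-space over K which is a
morphism over Spec K. -/
theorem result
    (K : Type u) [Field K] (A : Over (Spec (CommRingCat.of K)))
    [GrpObj A] [IsProper A.hom] [Smooth A.hom] [IrreducibleSpace A.left] :
    ∃ (n : ℕ) (f : A.left ⟶ CohB1.ProjSpace n K),
      IsClosedImmersion f ∧ f ≫ CohB1.ProjSpace.toSpec n K = A.hom := by
  haveI : ConnectedSpace A.left := inferInstance
  let e : Spec (CommRingCat.of K) ⟶ A.left := (η[A] : 𝟙_ (Over (Spec (CommRingCat.of K))) ⟶ A).left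
  haveI : Nonempty (Spec (CommRingCat.of K)) := ⟨IsLocalRing.closedPoint K⟩
  haveI : GeometricallyConnected (𝟙 (Spec (CommRingCat.of K))) := by
    rw [← Spec.map_id]
    exact SweepSix.GeomConn.gc_specMap_of_purelyInseparable (k := K) K
  haveI : GeometricallyConnected A.hom := SweepSix.GeomConn.gc_of_source A.hom e (𝟙 _) (Over.w η[A])
  haveI : GeometricallyIntegral A.hom := CubeConsLib.geometricallyIntegral_of_smooth_group A
  obtain ⟨L, hL⟩ := AVAmpleLib.exists_ample A
  exact AmpleThLib.exists_closedImmersion A.hom hL.1 hL

end Groth.Agent.S10958
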