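import Groth.Statements.S10959
import Groth.Agent.AVAmpleLib.Translate

set_option autoImplicit false
universe u
open CategoryTheory MonoidalCategory CartesianMonoidalCategory MonObj GrpObj AlgebraicGeometry
open AbVar

namespace Groth.Agent.S10959

/-- Let K be an algebraically closed field and A an abelian variety over K (a group scheme over Spec K
with proper smooth structure morphism and irreducible underlying space). Let Z be a closed subset of
A which is not all of A, and z a K-valued point of A. Then there is a K-valued point x of A such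
that the point underlying z lies neither in the translate of Z by x nor in the translate of Z by the
inverse of x; here the translation by x is the morphism A → A given on points by a ↦ a·x, the
product of the identity and the constant map x in the group of morphisms into A. (The published
statement takes Z to be the support of an effective divisor; this row allows any closed subset other
than A.) -/
theorem result
    (K : Type u) [Field K] [IsAlgClosed K] (A : Over (Spec (CommRingCat.of K)))
    [GrpObj A] [IsProper A.hom] [Smooth A.hom] [IrreducibleSpace A.left]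
    (Z : Set A.left) (hZ : IsClosed Z) (hZne : Z ≠ Set.univ)
    (z : 𝟙_ (Over (Spec (CommRingCat.of K))) ⟶ A) :
    ∃ x : 𝟙_ (Over (Spec (CommRingCat.of K))) ⟶ A,
      Disjoint (Set.range z.left.base)
        ((𝟙 A * (toUnit A ≫ x)).left.base '' Z ∪ (𝟙 A * (toUnit A ≫ x)⁻¹).left.base '' Z) := by
  obtain ⟨x, h1, h2⟩ := AVAmpleLib.exists_avoid (U := ⟨Zᶜ, hZ.isOpen_compl⟩)
    (Set.nonempty_compl.mpr hZne) z
  refine ⟨x, ?_⟩
  rw [AVAmpleLib.range_pt, Set.disjoint_singleton_left]
  have key : ∀ b : 𝟙_ (Over (Spec (CommRingCat.of K))) ⟶ A, ∀ w ∈ Z,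
      (AVAmpleLib.tR b).left w = AVAmpleLib.pt z → AVAmpleLib.pt (z * b⁻¹) ∈ Z := by
    intro b w hw h
    rw [← AVAmpleLib.point_tR, AVAmpleLib.pt_comp, ← h,
      show (AVAmpleLib.tR b⁻¹).left ((AVAmpleLib.tR b).left w) = (AVAmpleLib.tR b ≫ AVAmpleLib.tR b⁻¹).left w from rfl,
      AVAmpleLib.tR_comp, mul_inv_cancel, AVAmpleLib.tR_one]
    exact hw
  rintro (⟨w, hw, h⟩ | ⟨w, hw, h⟩)
  · exact h2 (key x w hw h)
  · rw [← GrpObj.comp_inv] at h
    have := key x⁻¹ w hw h
    rw [_root_.inv_inv] at this
    exact h1 this

end Groth.Agent.S10959
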