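import Groth.Statements.S10961
import Groth.Agent.MeroLib.Finite

-- import your own Groth.Agent.* helpers here

set_option autoImplicit false
universe u
open CategoryTheory AlgebraicGeometry TopologicalSpace
open Mero

namespace Groth.Agent.S10961

open MeroLib in
theorem mem_comp_iff {X : Scheme.{u}} (x : X) :
    closure ({x} : Set X) ∈ irreducibleComponents (X : Type u) ↔ ∀ z : X, z ⤳ x → z = x := by
  refine ⟨fun h z hz => ?_, fun h => ⟨isIrreducible_singleton.closure, fun C hC hle => ?_⟩⟩
  · have h1 : closure ({z} : Set X) ⊆ closure {x} := h.2 isIrreducible_singleton.closure hz.closure_subset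
    exact (hz.antisymm (specializes_iff_closure_subset.2 h1)).eq
  · obtain ⟨z, hzC⟩ := QuasiSober.sober hC.closure isClosed_closure
    have hzx : z ⤳ x := hzC.specializes (subset_closure (hle (subset_closure rfl)))
    exact subset_closure.trans ((hzC.def.symm.trans (by rw [h z hzx])).le)

open MeroLib in
theorem finite_max {X : Scheme.{u}} (hfin : (irreducibleComponents (X : Type u)).Finite) :
    {x : X | ∀ z : X, z ⤳ x → z = x}.Finite := by
  refine Set.Finite.of_finite_image (f := fun x => closure ({x} : Set X)) (hfin.subset ?_) fun a _ b _ e => ?_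
  · rintro _ ⟨x, hx, rfl⟩
    exact (mem_comp_iff x).2 hx
  · exact ((specializes_iff_closure_subset.2 e.ge).antisymm (specializes_iff_closure_subset.2 e.le)).eq

open MeroLib nonZeroDivisors in
theorem field_stalk {X : Scheme.{u}} [IsReduced X] {x : X} (hx : ∀ z : X, z ⤳ x → z = x) :
    IsField (X.presheaf.stalk x) ∧ Function.Bijective (algebraMap (X.presheaf.stalk x) (Mero.KStalk X x)) := by
  have hf : IsField (X.presheaf.stalk x) := by
    refine IsLocalRing.isField_iff_maximalIdeal_eq.2 (eq_bot_iff.2 fun r hr => ?_)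
    have h0 : ringKrullDim (X.presheaf.stalk x) = 0 := by
      rw [ringKrullDim_stalk_eq_coheight]
      refine WithBot.coe_eq_zero.2 (Order.coheight_eq_zero.2 fun z hz => ?_)
      exact (hx z (Scheme.le_iff_specializes.1 hz)) ▸ le_rfl
    haveI : Ring.KrullDimLE 0 (X.presheaf.stalk x) := Ring.krullDimLE_iff.2 h0.le
    exact (Ring.KrullDimLE.isNilpotent_iff_mem_maximalIdeal.2 hr).eq_zero
  refine ⟨hf, Mero.algebraMap_KStalk_injective x, fun q => ?_⟩
  obtain ⟨a, s, rfl⟩ := IsLocalization.exists_mk'_eq (Mero.regStalk X x) q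
  obtain ⟨v, hv⟩ := isUnit_of_maximal hx _ (Mero.regStalk_le_nonZeroDivisors x s.2)
  refine ⟨a * (↑v⁻¹ : X.presheaf.stalk x), Eq.symm (IsLocalization.mk'_eq_iff_eq_mul.2 ?_)⟩
  rw [← map_mul, ← hv, mul_assoc, Units.inv_mul, mul_one]

open MeroLib Opposite in
theorem bij {X : Scheme.{u}} [IsReduced X] (hfin : (irreducibleComponents (X : Type u)).Finite) (U : X.Opens) :
    Function.Bijective (fun s : Γ(Mero.kmod X, U) =>
      fun x : {x : U // closure ({x.1} : Set X) ∈ irreducibleComponents (X : Type u)} => Mero.evalK X U x.1 s) := by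
  have hmax : ∀ y : X, Weak y → ∀ z : X, z ⤳ y → z = y := fun y hy z hz => Weak.eq_of_specializes hy hz
  have hX : FiniteWeak X := finiteWeak_of_maximal hmax fun W _ => (finite_max hfin).subset fun y hy => hy.2
  constructor
  · intro s t h
    rw [← sub_eq_zero]
    refine MeroLib.ext fun x hx => ?_
    obtain ⟨W, hW, a, b, hxW, hab⟩ := exists_frac (s - t) hx
    have ha : a = 0 := eq_of_weak a 0 fun y hy hw => by
      rw [map_zero]
      refine (frac_eq_zero_iff _ (Mero.regGerm ⟨y, hy⟩ b)).1 ((hab y hy).symm.trans ?_)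
      rw [val, map_sub, sub_eq_zero]
      exact congrFun h ⟨⟨y, hW hy⟩, (mem_comp_iff y).2 (hmax y hw)⟩
    rw [hab x hxW, ha, map_zero, frac, IsLocalization.mk'_zero]
    exact (map_zero _).symm
  · intro q
    let I := {x : U // closure ({x.1} : Set X) ∈ irreducibleComponents (X : Type u)}
    have hI : ∀ i : I, ∀ z : X, z ⤳ i.1.1 → z = i.1.1 := fun i => (mem_comp_iff i.1.1).1 i.2
    have key : ∀ i : I, ∃ (O : X.Opens) (r : Γ(X, O)) (h : i.1.1 ∈ O), O ≤ U ∧ (∀ y ∈ O, Weak y → y = i.1.1) ∧
        algebraMap _ (Mero.KStalk X i.1.1) (X.presheaf.germ O i.1.1 h r) = q i := fun i => by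
      obtain ⟨c, hc⟩ := (field_stalk (hI i)).2.2 (q i)
      obtain ⟨T, hxT, r, rfl⟩ := X.presheaf.exists_germ_eq (x := i.1.1) c
      let P := {z : X | Weak z ∧ z ≠ i.1.1}
      let C : Set X := ⋃ z ∈ P, closure {z}
      have hC : IsClosed C := ((finite_max hfin).subset fun z hz => hmax z hz.1).isClosed_biUnion fun z _ => isClosed_closure
      let O : X.Opens := T ⊓ U ⊓ ⟨Cᶜ, hC.isOpen_compl⟩
      have hxO : i.1.1 ∈ O := ⟨⟨hxT, i.1.2⟩, fun h => by
        obtain ⟨z, hzP, hzx⟩ := Set.mem_iUnion₂.1 h
        exact hzP.2 (hI i z (specializes_iff_mem_closure.2 hzx))⟩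
      refine ⟨O, X.presheaf.map (homOfLE (inf_le_left.trans inf_le_left : O ≤ T)).op r, hxO,
        inf_le_left.trans inf_le_right, fun y hy hw => ?_, by rw [germ_res]; exact hc⟩
      by_contra hne
      exact hy.2 (Set.mem_biUnion (⟨hw, hne⟩ : y ∈ P) (subset_closure rfl))
    choose O r hxO hOU huniq hr using key
    obtain ⟨g, hg, -⟩ := TopCat.Sheaf.existsUnique_gluing' X.sheaf O (⨆ i, O i) (fun i => homOfLE (le_iSup O i))
      le_rfl r (fun i j => eq_of_weak _ _ fun z hz hw => by
        obtain rfl : i = j := Subtype.ext (Subtype.ext ((huniq i z hz.1 hw).symm.trans (huniq j z hz.2 hw)))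
        rfl)
    obtain ⟨s, hs⟩ := exists_extension hX U (⨆ i, O i) (iSup_le hOU) (fun y hy hw =>
      Opens.mem_iSup.2 ⟨⟨⟨y, hy⟩, (mem_comp_iff y).2 (hmax y hw)⟩, hxO _⟩) g
    refine ⟨s, funext fun i => ?_⟩
    have h1 := congrArg (fun t => val t i.1.1 (Opens.mem_iSup.2 ⟨i, hxO i⟩)) hs
    rw [val_res, val_toK] at h1
    refine h1.trans (Eq.trans ?_ (hr i))
    refine congrArg _ ?_
    rw [← hg i]
    exact (MeroLib.germ_res (le_iSup O i) g i.1.1 (hxO i)).symm


/-- Let X be a reduced scheme with only finitely many irreducible components, with generic points x_1,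
…, x_r, and let U be an open subset of X. Then the ring of sections over U of the sheaf of
meromorphic functions K_X maps bijectively, by evaluation, onto the product of the rings K_{X,x_i}
over those generic points x_i that lie in U; moreover for each generic point x_i the local ring of X
at x_i is a field and maps bijectively onto K_{X,x_i}, so that K_{X,x_i} is the residue field of
x_i. (The hypothesis holds for every Noetherian scheme; for X integral it says that K_X is the
constant sheaf with value the function field.) -/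
theorem result
    (X : Scheme.{u}) [IsReduced X] (hfin : (irreducibleComponents (X : Type u)).Finite) (U : X.Opens) :
    Function.Bijective (fun s : Γ(Mero.kmod X, U) =>
      fun x : {x : U // closure ({x.1} : Set X) ∈ irreducibleComponents (X : Type u)} =>
        Mero.evalK X U x.1 s) ∧
    (∀ x : X, closure ({x} : Set X) ∈ irreducibleComponents (X : Type u) →
      IsField (X.presheaf.stalk x) ∧
        Function.Bijective (algebraMap (X.presheaf.stalk x) (Mero.KStalk X x))) := by
  exact ⟨bij hfin U, fun x hx => field_stalk ((mem_comp_iff x).1 hx)⟩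


end Groth.Agent.S10961
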