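import Groth.Statements.S10962
import Mathlib
import Groth.Agent.PicPnLib.Twist
import Groth.Agent.PicPnLib.BaseChange
import Groth.Agent.FormalCohLib.ProjAmple
import Groth.Agent.MiscFlat6.AmpleTensor
import Groth.Agent.S4374
import Groth.Agent.AmpleDevLib.Components
import Groth.Agent.GenusZeroLib.PSpace
import Groth.Agent.FibDimLib.Semicont
-- import your own Groth.Agent.* helpers here

set_option autoImplicit false
universe u
open CategoryTheory CategoryTheory.Limits AlgebraicGeometry TopologicalSpace
open SDiv

namespace Groth.Agent.S10962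

/-- Let R be a nonzero ring and n ≥ 1, and let X be projective n-space over R. For an integer d, the
Serre twist O_X(d) is ample if and only if d > 0. (Ample is taken in the sense that X is
quasi-compact and covered by the affine open non-vanishing loci X_s of global sections s of positive
tensor powers; for the quasi-compact separated scheme X this agrees with the definition through
finitely many generating sections with quasi-affine non-vanishing loci. The published remark also
asserts that O_X(d) is very ample relative to R for d > 0; that clause is not part of this row.) -/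
theorem result (R : Type u) [CommRing R] [Nontrivial R] (n : ℕ) (hn : 1 ≤ n) (d : ℤ) :
    CohB1.IsAmple (Twist.twistProjSpace n R d) ↔ 0 < d := by
  constructor
  · intro h
    by_contra hd
    push Not at hd
    -- O is ample
    have hO : CohB1.IsAmple (Coh.structureModule (CohB1.ProjSpace n R)) := by
      obtain ⟨e0⟩ := PicPnLib.twist_zero n R
      rcases eq_or_lt_of_le hd with rfl | hlt
      · exact AmpleDevLib.isAmple_of_iso h.1 CurvLib.isInvertible_structureModule e0 h
      · have h2 : CohB1.IsAmple (Twist.twistProjSpace n R (-d)) := by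
          obtain ⟨m, hm⟩ : ∃ m : ℕ, -d = ((m + 1 : ℕ) : ℤ) := ⟨(-d - 1).toNat, by omega⟩
          rw [hm]
          clear hm hlt hd h
          induction m with
          | zero => exact FormalCohLib.isAmple_twistProjSpace n R
          | succ m ih =>
            obtain ⟨e⟩ := PicPnLib.twist_add n R ((m + 1 : ℕ) : ℤ) 1
            have h3 := MiscFlat6.isAmple_tensor ih (FormalCohLib.isAmple_twistProjSpace n R)
            rw [show ((m + 1 + 1 : ℕ) : ℤ) = ((m + 1 : ℕ) : ℤ) + 1 by push_cast; ring]
            exact AmpleDevLib.isAmple_of_iso h3.1 (PicPnLib.twist_inv n R _) e h3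
        obtain ⟨e⟩ := PicPnLib.twist_add n R d (-d)
        rw [add_neg_cancel] at e
        have h3 := MiscFlat6.isAmple_tensor h h2
        exact AmpleDevLib.isAmple_of_iso h3.1 CurvLib.isInvertible_structureModule (e ≪≫ e0) h3
    haveI := FormalCohLib.isProper_projToSpec n R
    haveI : IsFinite (CohB1.ProjSpace.toSpec n R) := by
      let p := CohB1.ProjSpace.toSpec n R
      let X := CohB1.ProjSpace n R
      haveI : CompactSpace X := hO.2.1
      haveI : X.IsQuasiAffine := Groth.Agent.S4374.result X _ _ ⟨HilbPolyLib.unitLeft _⟩ hO hO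
      have e : X.toSpecΓ ≫ Spec.map p.appTop = p ≫ (Spec (CommRingCat.of R)).toSpecΓ := (Scheme.toSpecΓ_naturality p).symm
      haveI : IsProper (X.toSpecΓ ≫ Spec.map p.appTop) := by rw [e]; infer_instance
      haveI : IsProper X.toSpecΓ := IsProper.of_comp X.toSpecΓ (Spec.map p.appTop)
      haveI : IsClosedImmersion X.toSpecΓ :=
        IsClosedImmersion.of_isPreimmersion _ X.toSpecΓ.isClosedMap.isClosed_range
      haveI : IsAffine X := isAffine_of_isAffineHom X.toSpecΓ
      haveI : IsAffineHom p := inferInstance
      exact IsFinite.iff_isProper_and_isAffineHom.2 ⟨inferInstance, inferInstance⟩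
    -- base change to a residue field
    obtain ⟨mx, hmx⟩ := Ideal.exists_maximal R
    letI : Field (R ⧸ mx) := Ideal.Quotient.field mx
    obtain ⟨q, hq, -⟩ := PicPnLib.exists_map n (R ⧸ mx)
    obtain ⟨q', hq', -⟩ := PicPnLib.exists_map n R
    have hg : ∃ g : CohB1.ProjSpace n (R ⧸ mx) ⟶ CohB1.ProjSpace n R,
        IsPullback g (CohB1.ProjSpace.toSpec n (R ⧸ mx)) (CohB1.ProjSpace.toSpec n R)
          (Spec.map (CommRingCat.ofHom (algebraMap R (R ⧸ mx)))) := by
      refine ⟨hq'.lift q (CohB1.ProjSpace.toSpec n _ ≫ Spec.map (CommRingCat.ofHom (algebraMap R (R ⧸ mx))))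
        (by rw [hq.w, Category.assoc, specULiftZIsTerminal.hom_ext (Spec.map (CommRingCat.ofHom (algebraMap R (R ⧸ mx))) ≫
          specULiftZIsTerminal.from _) (specULiftZIsTerminal.from _)]), ?_⟩
      refine IsPullback.of_right (h₁₂ := q') (v₁₃ := CohB1.ProjSpace.toSpec n (ULift.{u} ℤ))
        (h₂₂ := specULiftZIsTerminal.from _) ?_ (hq'.lift_snd _ _ _) hq'
      rw [hq'.lift_fst, specULiftZIsTerminal.hom_ext (Spec.map (CommRingCat.ofHom (algebraMap R (R ⧸ mx))) ≫
        specULiftZIsTerminal.from _) (specULiftZIsTerminal.from _)]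
      exact hq
    obtain ⟨g, hg⟩ := hg
    let f := CohB1.ProjSpace.toSpec n (R ⧸ mx)
    haveI : IsFinite f := MorphismProperty.of_isPullback hg ‹IsFinite (CohB1.ProjSpace.toSpec n R)›
    haveI : DiscreteTopology ↥(CohB1.ProjSpace n (R ⧸ mx)) := by
      rcases isEmpty_or_nonempty ↥(CohB1.ProjSpace n (R ⧸ mx)) with he | ⟨⟨x⟩⟩
      · infer_instance
      · have h := f.isDiscrete_preimage_singleton (f x)
        have e : f ⁻¹' {f x} = Set.univ :=
          Set.eq_univ_of_forall fun y => Subsingleton.elim (α := Spec (CommRingCat.of (R ⧸ mx))) _ _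
        rw [e] at h
        exact isDiscrete_univ_iff.mp h
    have h1 : ((1 : ℕ) : WithBot ℕ∞) ≤ topologicalKrullDim ↥(CohB1.ProjSpace n (R ⧸ mx)) := by
      rw [GenusZeroLib.dim_projSpace]
      exact_mod_cast hn
    obtain ⟨c, hc, hs⟩ := FibDimLib.exists_specChain h1
    have := (hs 0 1 (by decide)).eq
    exact absurd (hc this) (by decide)
  · intro hd
    obtain ⟨m, rfl⟩ : ∃ m : ℕ, d = ((m + 1 : ℕ) : ℤ) := ⟨(d - 1).toNat, by omega⟩
    clear hd
    induction m with
    | zero => exact FormalCohLib.isAmple_twistProjSpace n R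
    | succ m ih =>
      obtain ⟨e⟩ := PicPnLib.twist_add n R ((m + 1 : ℕ) : ℤ) 1
      have h3 := MiscFlat6.isAmple_tensor ih (FormalCohLib.isAmple_twistProjSpace n R)
      rw [show ((m + 1 + 1 : ℕ) : ℤ) = ((m + 1 : ℕ) : ℤ) + 1 by push_cast; ring]
      exact AmpleDevLib.isAmple_of_iso h3.1 (PicPnLib.twist_inv n R _) e h3

end Groth.Agent.S10962
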