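import Groth.Statements.S10964
import Groth.Agent.FinPicLib.Main
import Groth.Agent.TwistLib.HomGlue
import Groth.Agent.TwistLib.ProjSymExt

set_option autoImplicit false
universe u
open CategoryTheory AlgebraicGeometry TopologicalSpace Opposite
open PicF

namespace Groth.Agent.S10964

open AmpleLib (res GenOn)

/-- A unit multiple of a generator generates. -/
theorem genOn_smul {X : Scheme.{u}} {M : X.Modules} {W : X.Opens} {σ : Γ(M, W)} (hσ : GenOn M σ) {a : Γ(X, W)}
    (ha : IsUnit a) : GenOn M (a • σ) := fun V hV => by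
  have e : (fun r : Γ(X, V) => r • res M hV (a • σ)) =
      (fun r : Γ(X, V) => r • res M hV σ) ∘ fun r => r * X.presheaf.map (homOfLE hV).op a := funext fun r => by
    show _ = (r * _) • res M hV σ
    rw [AmpleLib.res_smul, mul_smul]
  rw [e]
  exact (hσ V hV).comp (ha.map (X.presheaf.map (homOfLE hV).op).hom).unit.mulRight.bijective

/-- Let X be a scheme with an open cover (U_i)_{i ∈ ι}. Let L and L' be O_X-modules with sections s_i of
L and s'_i of L' over U_i that generate there (for every open V ⊆ U_i, r ↦ r · s_i|_V is a bijection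
from functions on V onto sections of L over V, and likewise for s'_i), and let η_ij, η'_ij be the
functions on U_i ∩ U_j with s_i = η_ij · s_j and s'_i = η'_ij · s'_j there. Then L and L' are
isomorphic as O_X-modules if and only if there is a family of units u_i of the rings of functions on
the U_i with η'_ij · u_i|_{U_i ∩ U_j} = u_j|_{U_i ∩ U_j} · η_ij for all i, j. (So two invertible
modules trivialised by the cover are isomorphic exactly when their transition cocycles define the
same Čech cohomology class.) -/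
theorem result (X : Scheme.{u}) {ι : Type u} (U : ι → X.Opens)
    (hU : iSup U = ⊤) (L L' : X.Modules) (s : ∀ i : ι, Γ(L, U i)) (s' : ∀ i : ι, Γ(L', U i))
    (hs : ∀ (i : ι) (V : X.Opens) (h : V ≤ U i),
        Function.Bijective (fun r : Γ(X, V) => r • L.presheaf.map (homOfLE h).op (s i)))
    (hs' : ∀ (i : ι) (V : X.Opens) (h : V ≤ U i),
        Function.Bijective (fun r : Γ(X, V) => r • L'.presheaf.map (homOfLE h).op (s' i)))
    (η η' : ∀ i j : ι, Γ(X, U i ⊓ U j))
    (hη : ∀ i j : ι, L.presheaf.map (homOfLE (inf_le_left : U i ⊓ U j ≤ U i)).op (s i) =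
        η i j • L.presheaf.map (homOfLE (inf_le_right : U i ⊓ U j ≤ U j)).op (s j))
    (hη' : ∀ i j : ι, L'.presheaf.map (homOfLE (inf_le_left : U i ⊓ U j ≤ U i)).op (s' i) =
        η' i j • L'.presheaf.map (homOfLE (inf_le_right : U i ⊓ U j ≤ U j)).op (s' j)) :
    Nonempty (L ≅ L') ↔ ∃ u : ∀ i : ι, (Γ(X, U i))ˣ, ∀ i j : ι,
      η' i j * X.presheaf.map (homOfLE (inf_le_left : U i ⊓ U j ≤ U i)).op (u i : Γ(X, U i)) =
        X.presheaf.map (homOfLE (inf_le_right : U i ⊓ U j ≤ U j)).op (u j : Γ(X, U j)) * η i j := by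
  have gs : ∀ i, GenOn L (s i) := fun i V h => hs i V h
  have gs' : ∀ i, GenOn L' (s' i) := fun i V h => hs' i V h
  have hcov : ∀ x : X, ∃ i, x ∈ U i := fun x => TopologicalSpace.Opens.mem_iSup.mp (by rw [hU]; trivial)
  constructor
  · rintro ⟨φ⟩
    have hg : ∀ i, GenOn L' (φ.hom.app (U i) (s i)) := fun i => TwistLib.genOn_of_genAt fun x hx =>
      (TwistLib.genAt_app_iso φ (s i) hx).mpr ((gs i).genAt hx)
    choose u hu using fun i => (gs' i (U i) le_rfl).2 (φ.hom.app (U i) (s i))
    have hu' : ∀ i, u i • s' i = φ.hom.app (U i) (s i) := fun i => by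
      have h := hu i
      dsimp only at h
      rwa [AmpleLib.res_refl] at h
    have hunit : ∀ i, IsUnit (u i) := fun i => FinPicLib.gen_unit (gs' i) (hg i) (hu' i)
    refine ⟨fun i => (hunit i).unit, fun i j => (hs' j (U i ⊓ U j) inf_le_right).1 ?_⟩
    show (η' i j * X.presheaf.map (homOfLE (inf_le_left : U i ⊓ U j ≤ U i)).op (u i)) • res L' inf_le_right (s' j) =
      (X.presheaf.map (homOfLE (inf_le_right : U i ⊓ U j ≤ U j)).op (u j) * η i j) • res L' inf_le_right (s' j)
    have h1 : res L' inf_le_left (φ.hom.app (U i) (s i)) = η i j • res L' inf_le_right (φ.hom.app (U j) (s j)) :=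
      (QCohLib.app_map φ.hom (homOfLE inf_le_left) (s i)).symm.trans ((congrArg (φ.hom.app _) (hη i j)).trans
        ((QCohLib.app_smul φ.hom _ _ _).trans (congrArg (η i j • ·) (QCohLib.app_map φ.hom (homOfLE inf_le_right) (s j)))))
    rw [← hu' i, ← hu' j, AmpleLib.res_smul, AmpleLib.res_smul,
      show res L' inf_le_left (s' i) = η' i j • res L' inf_le_right (s' j) from hη' i j, smul_smul, smul_smul] at h1
    rw [mul_comm (η' i j), h1, mul_comm (η i j)]
  · rintro ⟨u, hu⟩
    have hf : ∀ (a b : ι) (V : X.Opens) (ha : V ≤ U a) (hb : V ≤ U b) (c : Γ(X, V)),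
        c • res L ha (s a) = res L hb (s b) →
          c • res L' ha ((u a : Γ(X, U a)) • s' a) = res L' hb ((u b : Γ(X, U b)) • s' b) := by
      intro a b V ha hb c hc
      have hV : V ≤ U b ⊓ U a := le_inf hb ha
      have hc' : c = X.presheaf.map (homOfLE hV).op (η b a) := (gs a V ha).1 (by
        show c • res L ha (s a) = _ • res L ha (s a)
        have h := congrArg (res L hV) (hη b a)
        change res L hV (res L inf_le_left (s b)) = res L hV (η b a • res L inf_le_right (s a)) at h
        rw [AmpleLib.res_smul, AmpleLib.res_res, AmpleLib.res_res] at h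
        exact hc.trans h)
      have hb' : res L' hb (s' b) = X.presheaf.map (homOfLE hV).op (η' b a) • res L' ha (s' a) := by
        have h := congrArg (res L' hV) (hη' b a)
        change res L' hV (res L' inf_le_left (s' b)) = res L' hV (η' b a • res L' inf_le_right (s' a)) at h
        rwa [AmpleLib.res_smul, AmpleLib.res_res, AmpleLib.res_res] at h
      have hu' := congrArg (X.presheaf.map (homOfLE hV).op) (hu b a)
      rw [map_mul, map_mul, ← CommRingCat.comp_apply, ← CommRingCat.comp_apply, ← Functor.map_comp,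
        ← Functor.map_comp] at hu'
      change _ * X.presheaf.map (homOfLE hb).op (u b : Γ(X, U b)) = X.presheaf.map (homOfLE ha).op (u a : Γ(X, U a)) * _ at hu'
      rw [AmpleLib.res_smul, AmpleLib.res_smul, hb', smul_smul, smul_smul, hc',
        mul_comm (X.presheaf.map (homOfLE hb).op (u b : Γ(X, U b))), hu', mul_comm]
    obtain ⟨β, hβ⟩ := TwistLib.exists_hom_of_gens U s (fun i => (u i : Γ(X, U i)) • s' i) hcov gs hf
    haveI := TwistLib.isIso_of_gen β fun x => by
      obtain ⟨i, hi⟩ := hcov x
      exact ⟨U i, hi, s i, (gs i).genAt hi, by rw [hβ i]; exact (genOn_smul (gs' i) (u i).isUnit).genAt hi⟩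
    exact ⟨asIso β⟩

end Groth.Agent.S10964
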