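import Groth.Statements.S10965
import Mathlib
import Groth.Agent.EGA2SymLib.PnVA
-- import your own Groth.Agent.* helpers here

set_option autoImplicit false
universe u
open CategoryTheory CategoryTheory.Limits AlgebraicGeometry
open RelAmple

namespace Groth.Agent.S10965

/-- Let S be an affine scheme, q : X → S a morphism of schemes and L an invertible O_X-module that is
very ample relative to q, in the sense that there are n and an immersion i : X → P^n_S over S with
i^*O(1) ≅ L. If L' is a second invertible O_X-module generated by finitely many global sections s_1,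
…, s_m (their germs span every stalk), then L ⊗ L' is very ample relative to q in the same sense. -/
theorem result {X S : Scheme.{u}} [IsAffine S] (q : X ⟶ S)
    (L L' : X.Modules) (hL : PicF.IsInvertible L) (hva : RelAmple.IsRelVeryAmplePn q L)
    (hL' : PicF.IsInvertible L') {m : ℕ} (s : Fin m → ProjUP.Γm L') (hs : ProjUP.GeneratedBy L' s) :
    RelAmple.IsRelVeryAmplePn q (CohB1.tensorMod L L') := by
  classical
  obtain ⟨n, τ, hcov, hdata⟩ := EGA2SymLib.exists_pn_data q hva
  have hT := AmpleThLib.shT_isInvertible hL hL'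
  let J := Option (Fin (n + 1) × Fin m)
  let e := Fintype.equivFinOfCardEq (Fintype.card_option (α := Fin (n + 1) × Fin m))
  let v : Fin (Fintype.card (Fin (n + 1) × Fin m) + 1) → Γ(CohB1.tensorMod L L', ⊤) := fun k =>
    match e.symm k with
    | none => 0
    | some p => AmpleLib.shT (τ p.1) (show Γ(L', ⊤) from s p.2)
  have hv : ∀ p, v (e (some p)) = AmpleLib.shT (τ p.1) (show Γ(L', ⊤) from s p.2) := fun p => by
    simp only [v, Equiv.symm_apply_apply]
  refine EGA2SymLib.isRelVeryAmplePn_of_range q hT v (Set.range fun p => e (some p)) (fun x => ?_) ?_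
  · obtain ⟨a, ha⟩ := hcov x
    obtain ⟨b, hb⟩ := TwistLib.exists_genAt_of_generatedBy hL' s x (hs x)
    refine ⟨e (some (a, b)), ⟨(a, b), rfl⟩, ?_⟩
    rw [hv]
    exact AmpleLib.GenAt.tensor ha hb
  rintro _ ⟨⟨a, b⟩, rfl⟩
  have hU : IsAffineOpen (⊤ : S.Opens) := isAffineOpen_top S
  obtain ⟨A, hA, f, hf, hfa⟩ := hdata a ⊤ hU (TwistLib.genSet hT (v (e (some (a, b))))) le_top fun z hz => by
    rw [hv] at hz
    exact ((AmpleThLib.genSet_shT hL hL' (τ a) _).le hz).1
  refine ⟨⊤, hU, le_top, A, hA, f, hf, fun t => Subring.closure_mono ?_ (hfa t)⟩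
  rintro c (hc | ⟨l, hl⟩)
  · exact Or.inl hc
  refine Or.inr ⟨e (some (l, b)), ?_⟩
  let W := TwistLib.genSet hT (v (e (some (a, b))))
  have h1 : ∀ p, AmpleLib.res _ (le_top : W ≤ ⊤) (v (e (some p))) =
      AmpleLib.shT (AmpleLib.res L le_top (τ p.1)) (AmpleLib.res L' le_top (show Γ(L', ⊤) from s p.2)) := fun p => by
    rw [hv, AmpleLib.shT_res]
  change c • AmpleLib.res _ (le_top : W ≤ ⊤) _ = AmpleLib.res _ le_top _
  rw [h1, h1, ← hl]
  have h2 := AmpleLib.shT_smul c 1 (AmpleLib.res L (le_top : W ≤ ⊤) (τ a)) (AmpleLib.res L' le_top (show Γ(L', ⊤) from s b))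
  rw [one_smul, mul_one] at h2
  exact h2.symm

end Groth.Agent.S10965
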