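import Groth.Statements.S10973
import Groth.Agent.FFLib.Spaces

set_option autoImplicit false
open FunFld

namespace Groth.Agent.S10973

/-- Two nonzero elements of a function field of one variable with the same principal divisor differ by a
constant multiple. -/
theorem result (k K : Type*) [Field k] [Field K] [Algebra k K]
    (hK : FunFld.IsFunctionField k K) (x y : K) (hx : x ≠ 0) (hy : y ≠ 0)
    (h : ∀ P : FunFld.Place k K, P.ord x = P.ord y) : ∃ c : k, x = c • y := by
  by_cases hc : x * y⁻¹ ∈ Set.range (algebraMap k K)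
  · obtain ⟨c, hc⟩ := hc
    exact ⟨c, by rw [Algebra.smul_def, hc, mul_assoc, inv_mul_cancel₀ hy, mul_one]⟩
  · obtain ⟨P, hP⟩ := Groth.Agent.FFLib.exists_zero hK hc
    rw [Groth.Agent.FFLib.ord_mul P hx (inv_ne_zero hy), Groth.Agent.FFLib.ord_inv, h P] at hP
    omega

end Groth.Agent.S10973
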