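import Groth.Statements.S1099
import Groth.Agent.CountHomLib.Main

set_option autoImplicit false
set_option backward.isDefEq.respectTransparency false
set_option backward.isDefEq.respectTransparency.types false
universe u
open CategoryTheory CategoryTheory.Limits AlgebraicGeometry Opposite
attribute [local instance] HasDerivedCategory.standard
open Perf

namespace Groth.Agent.S1099

/-- Let the scheme X be quasi-compact and quasi-separated, K ∈ D(O_X) with quasi-coherent cohomology
sheaves whose sections over affine opens are countable, E a perfect object of D(O_X), and U ⊆ X a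
quasi-compact open (restriction to U assumed exact). Then for every i the group of morphisms E|_U ⟶
K|_U[i] in D(O_U) is countable. -/
theorem result (X : Scheme.{u}) [CompactSpace ↥X] [QuasiSeparatedSpace ↥X]
    (K : DCoh.D X) (hK : DCoh.IsQCohD K) (hKc : ∀ V : X.Opens, IsAffineOpen V → ∀ i : ℤ, Countable ((DCoh.HD K i).val.obj (op V)))
    (E : DCoh.D X) (hE : DCoh.IsPerfect E) (U : X.Opens) (hU : IsCompact (U : Set X)) [PreservesFiniteLimits (Scheme.Modules.restrictFunctor U.ι)] (i : ℤ) :
    Countable ((DCoh.restrictD U.ι).obj E ⟶ ((DCoh.restrictD U.ι).obj K)⟦i⟧) := by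
  have : CompactSpace (U : Scheme.{u}) := isCompact_iff_compactSpace.mp hU
  have : QuasiSeparatedSpace (U : Scheme.{u}) :=
    QuasiSeparatedSpace.of_isOpenEmbedding U.ι.isOpenEmbedding
  refine CountHomLib.ch_of_isPerfect ((CountHomLib.countSec_iff (KoszOrthLib.isQCohD_restrictD U.ι hK)).2
    fun V hV j => ?_) (KoszOrthLib.isPerfect_restrictD U.ι hE) i
  have h : Countable Γ(DCoh.HD K j, U.ι ''ᵁ V) := hKc _ (hV.image_of_isOpenImmersion U.ι) j
  exact CountHomLib.countable_sections_of_iso (W := V) (DCohRestrLib.restrictHDIso U.ι K j).symm h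

end Groth.Agent.S1099
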