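import Groth.Statements.S10995
import Groth.Agent.FFLib.DegOne

set_option autoImplicit false
open FunFld

namespace Groth.Agent.S10995

/-- A function field of one variable has an element with pole divisor of degree `1` iff it is a rational
function field. -/
theorem result (k K : Type*) [Field k] [Field K] [Algebra k K]
    (hK : FunFld.IsFunctionField k K) :
    (∃ (x : K) (P : FunFld.Place k K), P.deg = 1 ∧ P.ord x = -1 ∧
        ∀ Q : FunFld.Place k K, Q ≠ P → 0 ≤ Q.ord x) ↔
      ∃ x : K, IntermediateField.adjoin k ({x} : Set K) = ⊤ := by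
  constructor
  · rintro ⟨x, P, hP, h1, h2⟩
    refine ⟨x, Groth.Agent.FFLib.adjoin_eq_top_of_pole hK hP (Finsupp.ext fun Q => ?_)⟩
    rw [Groth.Agent.FFLib.pole_apply hK]
    rcases eq_or_ne Q P with rfl | hQ
    · rw [h1, Finsupp.single_eq_same]; rfl
    · rw [Finsupp.single_eq_of_ne hQ, max_eq_right (by have := h2 Q hQ; omega)]
  · rintro ⟨x, hx⟩
    obtain ⟨P, hP, he⟩ := Groth.Agent.FFLib.exists_single_of_deg_one hK (Groth.Agent.FFLib.pole_nonneg x)
      (Groth.Agent.FFLib.deg_pole_eq_one hK hx)
    have key : ∀ Q : FunFld.Place k K, max (-Q.ord x) 0 = Finsupp.single P (1 : ℤ) Q := fun Q => by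
      rw [← Groth.Agent.FFLib.pole_apply hK, he]
    refine ⟨x, P, hP, ?_, fun Q hQ => ?_⟩
    · have := key P
      rw [Finsupp.single_eq_same] at this
      omega
    · have := key Q
      rw [Finsupp.single_eq_of_ne hQ] at this
      omega

end Groth.Agent.S10995
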