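import Groth.Statements.S10997
import Groth.Agent.FFLib.DegOne

set_option autoImplicit false
open FunFld

namespace Groth.Agent.S10997

/-- Given distinct places `P∞, P_1, …, P_n` of a function field of one variable, elements `x_i` and
integers `m_i`, some `x ∈ K` has `ord_{P_i}(x - x_i) = m_i` for all `i` and is integral outside
`{P∞, P_1, …, P_n}`. -/
theorem result (k K : Type*) [Field k] [Field K] [Algebra k K]
    (hK : FunFld.IsFunctionField k K) (Pinf : FunFld.Place k K) (n : ℕ) (P : Fin n → FunFld.Place k K) (hP : Function.Injective P)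
    (hinf : Pinf ∉ Set.range P) (x : Fin n → K) (m : Fin n → ℤ) :
    ∃ y : K, (∀ i, (P i).1 (y - x i) = WithZero.exp (-(m i))) ∧
      ∀ Q : FunFld.Place k K, Q ≠ Pinf → Q ∉ Set.range P → Q.1 y ≤ 1 := by
  classical
  open Groth.Agent.FFLib in
  choose t ht using fun i => (P i).2.2 (WithZero.exp (-(m i)))
  obtain ⟨N, hN⟩ := Groth.Agent.FFLib.exists_delta_eq_genus hK
  let D₀ : FunFld.Divisor k K := -∑ i, Finsupp.single (P i) (m i + 1)
  let D : FunFld.Divisor k K := D₀ + Finsupp.single Pinf (((N - D₀.deg).toNat : ℕ) : ℤ)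
  have hD : FunFld.AD D ⊔ LinearMap.range (FunFld.diag k K) = FunFld.adele k K := by
    refine Groth.Agent.FFLib.adele_eq hK D (hN _ ?_)
    rw [Groth.Agent.FFLib.deg_add, Groth.Agent.FFLib.deg_single]
    have := Groth.Agent.FFLib.deg_pos hK Pinf
    have : ((N - D₀.deg).toNat : ℤ) ≤ (N - D₀.deg).toNat * Pinf.deg :=
      le_mul_of_one_le_right (Int.natCast_nonneg _) (by omega)
    omega
  let a : FunFld.Place k K → K := fun Q => if h : ∃ i, P i = Q then x h.choose + t h.choose else 0
  have ha : a ∈ FunFld.adele k K := by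
    rw [Groth.Agent.FFLib.mem_adele, Filter.eventually_cofinite]
    refine (Set.finite_range P).subset fun Q hQ => ?_
    by_contra hn
    exact hQ (by simp only [a]; rw [dif_neg (show ¬∃ i, P i = Q from hn), map_zero]; exact zero_le)
  rw [← hD] at ha
  obtain ⟨b, hb, c, hc, he⟩ := Submodule.mem_sup.1 ha
  obtain ⟨y, rfl⟩ := hc
  have hy : ∀ Q, y - a Q = -b Q := fun Q => by rw [← he]; show y - (b Q + y) = _; ring
  refine ⟨y, fun i => ?_, fun Q hQ hQP => ?_⟩
  · have hai : a (P i) = x i + t i := by
      have h : ∃ j, P j = P i := ⟨i, rfl⟩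
      simp only [a]
      rw [dif_pos h, hP h.choose_spec]
    have h1 : (P i).1 (y - a (P i)) ≤ WithZero.exp (-(m i + 1)) := by
      rw [hy, Valuation.map_neg]
      refine (hb _).trans_eq ?_
      congr 1
      simp only [D, D₀, Finsupp.add_apply, Finsupp.neg_apply, Finsupp.finsetSum_apply]
      rw [Finsupp.single_eq_of_ne (fun e => hinf ⟨i, e⟩), add_zero, Finset.sum_eq_single i
        (fun j _ hj => Finsupp.single_eq_of_ne fun e => hj (hP e).symm) (by simp),
        Finsupp.single_eq_same]
    rw [show y - x i = t i + (y - a (P i)) by rw [hai]; ring,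
      (P i).1.map_add_eq_of_lt_left, ht]
    rw [ht]
    exact h1.trans_lt (WithZero.exp_lt_exp.2 (by omega))
  · have h1 : a Q = 0 := by simp only [a]; rw [dif_neg (show ¬∃ i, P i = Q from hQP)]
    have h2 := hy Q
    rw [h1, sub_zero] at h2
    rw [h2, Valuation.map_neg]
    refine (hb _).trans_eq ?_
    simp only [D, D₀, Finsupp.add_apply, Finsupp.neg_apply, Finsupp.finsetSum_apply]
    rw [Finsupp.single_eq_of_ne hQ, add_zero, Finset.sum_eq_zero fun j _ => Finsupp.single_eq_of_ne fun e => hQP ⟨j, e.symm⟩,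
      neg_zero, WithZero.exp_zero]

end Groth.Agent.S10997
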