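import Groth.Statements.S10999
import Groth.Agent.FFLib.DegOne

set_option autoImplicit false
open FunFld

namespace Groth.Agent.S10999

/-- In a genus-one function field with a place `P₀` of degree one, `P ↦ P - P₀` is a bijection from the
places of degree one onto the divisor classes of degree zero. The geometric description of the group
law is not stated. -/
theorem result (k K : Type*) [Field k] [Field K] [Algebra k K]
    (hK : FunFld.IsFunctionField k K) (hg : FunFld.genus k K = 1) (P₀ : FunFld.Place k K) (hP : P₀.deg = 1)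
    (D : FunFld.Divisor k K) (hD : D.deg = 0) :
    ∃! P : FunFld.Place k K, P.deg = 1 ∧
      ∃ x : K, x ≠ 0 ∧ D = Finsupp.single P 1 - Finsupp.single P₀ 1 + FunFld.div k x := by
  open Groth.Agent.FFLib in
  have h1 := Groth.Agent.FFLib.ell_eq_of_deg_ge hK (D := D + Finsupp.single P₀ 1) (by
    rw [Groth.Agent.FFLib.deg_add, Groth.Agent.FFLib.deg_single, hD, hP, hg]; norm_num)
  rw [Groth.Agent.FFLib.deg_add, Groth.Agent.FFLib.deg_single, hD, hP, hg] at h1
  obtain ⟨z, hz, hzD⟩ := Groth.Agent.FFLib.exists_effective_of_ell_pos hK (D := D + Finsupp.single P₀ 1) (by omega)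
  obtain ⟨P, hP1, hPe⟩ := Groth.Agent.FFLib.exists_single_of_deg_one hK hzD (by
    rw [Groth.Agent.FFLib.deg_add, Groth.Agent.FFLib.deg_add, Groth.Agent.FFLib.deg_div hK,
      Groth.Agent.FFLib.deg_single, hD, hP]; norm_num)
  have hDP : D = Finsupp.single P 1 - Finsupp.single P₀ 1 + FunFld.div k z⁻¹ := by
    rw [Groth.Agent.FFLib.div_inv hK, ← hPe]; abel
  refine ⟨P, ⟨hP1, z⁻¹, inv_ne_zero hz, hDP⟩, ?_⟩
  rintro Q ⟨hQ, w, hw, hwe⟩
  refine Groth.Agent.FFLib.eq_of_single_sub_eq_div hK (by omega) hP1 (x := z⁻¹ * w⁻¹) ?_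
  rw [Groth.Agent.FFLib.div_mul hK (inv_ne_zero hz) (inv_ne_zero hw), Groth.Agent.FFLib.div_inv hK w]
  have e := hDP.symm.trans hwe
  calc (Finsupp.single Q 1 - Finsupp.single P 1 : FunFld.Divisor k K)
      = (Finsupp.single Q 1 - Finsupp.single P₀ 1 + FunFld.div k w)
        - (Finsupp.single P 1 - Finsupp.single P₀ 1) - FunFld.div k w := by abel
    _ = _ := by rw [← e]; abel

end Groth.Agent.S10999
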