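import Groth.Statements.S1100
import Groth.Agent.RelFlatLib.BaseChange
import Groth.Agent.RelPCSchLib.Main
import Groth.Agent.KFlatLib.PCohPull

set_option autoImplicit false
set_option backward.isDefEq.respectTransparency false
set_option backward.isDefEq.respectTransparency.types false
universe u
open CategoryTheory CategoryTheory.Limits AlgebraicGeometry Opposite
attribute [local instance] HasDerivedCategory.standard
open Perf

namespace Groth.Agent.S1100

/-- Let f : X ⟶ S be flat and locally of finite presentation, g : S' ⟶ S any morphism, X' = X ×_S S'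
with projections g' : X' ⟶ X and f' : X' ⟶ S'. Assume L(g')^* exists. If K ∈ D(O_X) is S-perfect
(pseudo-coherent and locally of finite tor dimension as a complex of f⁻¹O_S-modules, the latter in
the form: locally represented by bounded complexes of S-flat modules), then L(g')^*K is S'-perfect. -/
theorem result {X S S' : Scheme.{u}} (f : X ⟶ S) [Flat f] [LocallyOfFinitePresentation f] (g : S' ⟶ S)
    [DCoh.HasLpull (pullback.fst f g)] (K : DCoh.D X) (hK : ((∀ m : ℤ, DCoh.IsPseudoCoherentD m K) ∧ DCoh.LocHasFiniteRelTorDim f K)) :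
    ((∀ m : ℤ, DCoh.IsPseudoCoherentD m ((DCoh.Lpull (pullback.fst f g)).obj K)) ∧ DCoh.LocHasFiniteRelTorDim (pullback.snd f g) ((DCoh.Lpull (pullback.fst f g)).obj K)) := by
  obtain ⟨hpc, hloc⟩ := hK
  haveI : Flat (pullback.snd f g) := MorphismProperty.pullback_snd f g inferInstance
  haveI : LocallyOfFinitePresentation (pullback.snd f g) := MorphismProperty.pullback_snd f g inferInstance
  have hq : DCoh.IsQCohD K := fun i => (RelPCSchLib.isQCoh_HD_of_isPC (hpc (i - 1))).1 i (by omega)
  refine ⟨fun m => KFlatLib.isPseudoCoherent_lpull (pullback.fst f g) m K (hpc m),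
    RelFlatLib.loc_of_charts _ fun x => ?_⟩
  obtain ⟨T, hT, hxT, -⟩ := exists_isAffineOpen_mem_and_subset (x := f (pullback.fst f g x)) (U := ⊤) trivial
  obtain ⟨T', hT', hxT', eT⟩ := exists_isAffineOpen_mem_and_subset (x := pullback.snd f g x)
    (U := g ⁻¹ᵁ T) (by
      change g (pullback.snd f g x) ∈ T
      rw [← Scheme.Hom.comp_apply, ← pullback.condition]
      exact hxT)
  obtain ⟨U, hU, hxU, e⟩ := exists_isAffineOpen_mem_and_subset (x := pullback.fst f g x) (U := f ⁻¹ᵁ T) hxT
  obtain ⟨hU', h⟩ := RelFlatLib.loc_chart_baseChange f (pullback.snd f g) g (pullback.fst f g)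
    (IsPullback.of_hasPullback f g) hT hT' eT hU e K hq hpc hloc
  exact ⟨_, hU', T', hT', inf_le_right, ⟨hxU, hxT'⟩, h⟩

end Groth.Agent.S1100
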