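import Groth.Statements.S11005
import Groth.Agent.GeomFFLib.Power


-- import your own Groth.Agent.* helpers here

set_option autoImplicit false
universe u v
open FunFld TensorProduct

namespace Groth.Agent.S11005

/-- An intermediate field `K₀` of a geometric function field of one variable `K/k` that is
transcendental over `k` is again a geometric function field of one variable over `k`. -/
theorem result (k : Type u) (K : Type v) [Field k] [Field K] [Algebra k K]
    (hK : FunFld.IsFunctionField k K) (hg : FunFld.IsGeometric k K) (K₀ : IntermediateField k K)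
    (h₀ : ∃ x ∈ K₀, Transcendental k x) : FunFld.IsFunctionField k K₀ ∧ FunFld.IsGeometric k K₀ := by
  obtain ⟨x, hx, hxt⟩ := h₀
  have hfin := GeomFFLib.finite_adjoin' hK hxt
  refine ⟨⟨⟨⟨x, hx⟩, ?_, ?_⟩, fun y hy => ?_⟩, fun k' _ _ hk' => ?_⟩
  · intro halg
    exact hxt (halg.algebraMap)
  · set F := IntermediateField.adjoin k ({x} : Set K)
    have hle : F ≤ K₀ := IntermediateField.adjoin_simple_le_iff.2 hx
    let F' := IntermediateField.adjoin k ({(⟨x, hx⟩ : K₀)} : Set K₀)
    have hmap : F'.map K₀.val = F := by
      rw [IntermediateField.adjoin_map, Set.image_singleton]; rfl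
    let e : F' ≃ₐ[k] F := (IntermediateField.equivMap F' K₀.val).trans (IntermediateField.equivOfEq hmap)
    have : FiniteDimensional F' K := by
      refine Module.Finite.of_equiv_equiv (A₁ := F) (B₁ := K) e.symm.toRingEquiv (RingEquiv.refl K) ?_
      refine RingHom.ext fun a => ?_
      obtain ⟨b, rfl⟩ := e.surjective a
      show ((e.symm (e b) : K₀) : K) = ((e b : F) : K)
      rw [AlgEquiv.symm_apply_apply]
      rfl
    exact Module.Finite.of_injective (IsScalarTower.toAlgHom F' K₀ K).toLinearMap K₀.val.injective
  · obtain ⟨c, hc⟩ := hK.2 (y : K) (hy.algebraMap)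
    exact ⟨c, Subtype.ext hc⟩
  · have hF := hg k' hk'
    have hinj : Function.Injective (Algebra.TensorProduct.map (AlgHom.id k k') K₀.val) :=
      Module.Flat.lTensor_preserves_injective_linearMap _ K₀.val.injective
    let := hF.toField
    have : IsDomain (k' ⊗[k] K₀) := Function.Injective.isDomain _ hinj
    have : IsDomain ((K₀ : IntermediateField k K) ⊗[k] k') :=
      (Algebra.TensorProduct.comm k K₀ k').toMulEquiv.isDomain
    refine (Algebra.TensorProduct.comm k K₀ k').toMulEquiv.symm.isField ?_
    exact isField_of_isIntegral_of_isField' (R := K₀) (S := K₀ ⊗[k] k') (Field.toIsField K₀)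

end Groth.Agent.S11005
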