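import Groth.Statements.S11007
import Groth.Agent.GeomFFLib.Power


-- import your own Groth.Agent.* helpers here

set_option autoImplicit false
universe u v
open FunFld

namespace Groth.Agent.S11007

/-- In a geometric function field of one variable of characteristic `p > 0`, `kK^p` is the only
intermediate field over which `K` is purely inseparable of degree `p`. The companion assertion about
the natural map on Kähler differentials is not stated. -/
theorem result (k : Type u) (K : Type v) [Field k] [Field K] [Algebra k K] (p : ℕ) [Fact p.Prime] [CharP K p]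
    (hK : FunFld.IsFunctionField k K) (hg : FunFld.IsGeometric k K) (K₀ : IntermediateField k K) :
    (IsPurelyInseparable K₀ K ∧ Module.finrank K₀ K = p) ↔ K₀ = IntermediateField.adjoin k (Set.range fun y : K => y ^ p) := by
  have hM := GeomFFLib.finrank_M p hK hg
  constructor
  · rintro ⟨hpi, hdeg⟩
    have hfin : FiniteDimensional K₀ K := Module.finite_of_finrank_pos (by rw [hdeg]; exact (Fact.out : p.Prime).pos)
    have : CharP K₀ p := (RingHom.charP_iff (algebraMap K₀ K) (RingHom.injective _) p).2 inferInstance
    have : ExpChar K₀ p := .prime Fact.out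
    have hle : IntermediateField.adjoin k (Set.range fun y : K => y ^ p) ≤ K₀ := by
      refine IntermediateField.adjoin_le_iff.2 ?_
      rintro _ ⟨y, rfl⟩
      obtain ⟨j, c, hj⟩ := IsPurelyInseparable.minpoly_eq_X_pow_sub_C K₀ p y
      have h1 := minpoly.natDegree_le (A := K₀) y
      rw [hj, Polynomial.natDegree_X_pow_sub_C, hdeg] at h1
      have h2 : y ^ p ^ j = (c : K) := by
        have := minpoly.aeval K₀ y
        rw [hj, map_sub, map_pow, Polynomial.aeval_X, Polynomial.aeval_C, sub_eq_zero] at this
        exact this
      have hj1 : j ≤ 1 := (Nat.pow_le_pow_iff_right (Fact.out : p.Prime).one_lt).1 (by rwa [pow_one])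
      show y ^ p ∈ K₀
      interval_cases j
      · rw [pow_zero, pow_one] at h2
        exact pow_mem (by rw [h2]; exact c.2) p
      · rw [pow_one] at h2
        rw [h2]; exact c.2
    have : FiniteDimensional (GeomFFLib.M k K p) K :=
      Module.finite_of_finrank_pos (by rw [hM]; exact (Fact.out : p.Prime).pos)
    exact (IntermediateField.eq_of_le_of_finrank_eq' hle (hM.trans hdeg.symm)).symm
  · rintro rfl
    exact ⟨GeomFFLib.isPurelyInseparable_M p, hM⟩

end Groth.Agent.S11007
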