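import Groth.Statements.S11008
import Groth.Agent.GeomFFLib.Basic
import Mathlib.RingTheory.KrullDimension.Polynomial
import Mathlib.RingTheory.TensorProduct.MvPolynomial
import Mathlib.RingTheory.AlgebraicIndependent.Adjoin
import Mathlib.RingTheory.Jacobson.Ring
import Mathlib.RingTheory.Polynomial.UniqueFactorization
import Mathlib.FieldTheory.PrimitiveElement
-- import your own Groth.Agent.* helpers here

set_option autoImplicit false
universe u v
open FunFld

namespace Groth.Agent.S11008

open MvPolynomial TensorProduct in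
theorem exists_ker_eq_span {k : Type u} {K : Type v} [Field k] [Field K] [Algebra k K] (x y : K)
    (hx : Transcendental k x) (hy : IsAlgebraic (IntermediateField.adjoin k ({x} : Set K)) y) :
    ∃ f : MvPolynomial (Fin 2) k, Prime f ∧
      RingHom.ker (MvPolynomial.aeval ![x, y] : MvPolynomial (Fin 2) k →ₐ[k] K) = Ideal.span {f} := by
  classical
  set φ : MvPolynomial (Fin 2) k →ₐ[k] K := MvPolynomial.aeval ![x, y] with hφ
  set I := RingHom.ker φ with hI
  have hprime : I.IsPrime := RingHom.ker_isPrime _
  have hne : I ≠ ⊥ := by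
    intro hbot
    have hinj : Function.Injective φ := (RingHom.injective_iff_ker_eq_bot φ).2 hbot
    have := (algebraicIndependent_iff_injective_aeval.2 hinj : AlgebraicIndependent k ![x, y])
    have htr : Transcendental (Algebra.adjoin k (![x, y] '' ({0} : Set (Fin 2)))) (![x, y] 1) :=
      this.transcendental_adjoin (s := {0}) (i := 1) (by simp)
    rw [show ![x, y] '' ({0} : Set (Fin 2)) = {x} by simp, show ![x, y] 1 = y from rfl] at htr
    exact htr (IntermediateField.isAlgebraic_adjoin_iff.1 hy)
  obtain ⟨f, hfI, hf⟩ := hprime.exists_mem_prime_of_ne_bot hne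
  refine ⟨f, hf, ?_⟩
  by_contra hneq
  have hle : Ideal.span {f} ≤ I := (Ideal.span_singleton_le_iff_mem _).2 hfI
  have hfp : (Ideal.span {f}).IsPrime := (Ideal.span_singleton_prime hf.ne_zero).2 hf
  have hnmax : ¬ I.IsMaximal := by
    intro hmax
    letI := Ideal.Quotient.field I
    haveI : Algebra.FiniteType k (MvPolynomial (Fin 2) k ⧸ I) :=
      Algebra.FiniteType.of_surjective (Ideal.Quotient.mkₐ k I) (Ideal.Quotient.mkₐ_surjective k I)
    haveI : Module.Finite k (MvPolynomial (Fin 2) k ⧸ I) :=
      finite_of_finite_type_of_isJacobsonRing k (MvPolynomial (Fin 2) k ⧸ I)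
    have h1 : IsIntegral k (Ideal.Quotient.mkₐ k I (MvPolynomial.X 0)) := IsIntegral.of_finite k _
    have h2 := h1.map (Ideal.Quotient.liftₐ I φ fun a ha => ha)
    rw [show Ideal.Quotient.liftₐ I φ (fun a ha => ha) (Ideal.Quotient.mkₐ k I (MvPolynomial.X 0)) = φ (MvPolynomial.X 0) from rfl,
      hφ, MvPolynomial.aeval_X] at h2
    exact hx h2.isAlgebraic
  obtain ⟨M, hM, hIM⟩ := I.exists_le_maximal hprime.ne_top
  have hIM' : I ≠ M := fun e => hnmax (e ▸ hM)
  let s : LTSeries (PrimeSpectrum (MvPolynomial (Fin 2) k)) :=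
    (((RelSeries.singleton _ ⟨⊥, Ideal.isPrime_bot⟩).snoc ⟨Ideal.span {f}, hfp⟩ (by
      show (⟨⊥, _⟩ : PrimeSpectrum (MvPolynomial (Fin 2) k)) < ⟨Ideal.span {f}, hfp⟩
      exact (show (⊥ : Ideal (MvPolynomial (Fin 2) k)) < Ideal.span {f} from bot_lt_iff_ne_bot.2 (by simpa using hf.ne_zero)))).snoc ⟨I, hprime⟩ (by
      simp only [RelSeries.last_snoc]
      exact lt_of_le_of_ne hle (fun e => hneq e.symm))).snoc ⟨M, hM.isPrime⟩ (by
      simp only [RelSeries.last_snoc]
      exact lt_of_le_of_ne hIM hIM')
  have h1 := Order.LTSeries.length_le_krullDim s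
  have h2 : ringKrullDim (MvPolynomial (Fin 2) k) = 2 := by
    rw [MvPolynomial.ringKrullDim_of_isNoetherianRing, ringKrullDim_eq_zero_of_field, zero_add, Nat.card_eq_fintype_card, Fintype.card_fin]
    rfl
  rw [ringKrullDim] at h2
  rw [h2] at h1
  have h3 : s.length = 3 := rfl
  rw [h3] at h1
  exact absurd (by exact_mod_cast h1 : (3 : ℕ) ≤ 2) (by omega)

open MvPolynomial TensorProduct in
/-- The base-changed relations. -/
theorem ker_aeval_baseChange {k : Type u} {K : Type v} [Field k] [Field K] [Algebra k K] (x y : K)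
    (k' : Type u) [Field k'] [Algebra k k'] (f : MvPolynomial (Fin 2) k)
    (hker : RingHom.ker (MvPolynomial.aeval ![x, y] : MvPolynomial (Fin 2) k →ₐ[k] K) = Ideal.span {f}) :
    RingHom.ker ((Algebra.TensorProduct.map (AlgHom.id k' k') (MvPolynomial.aeval ![x, y] : MvPolynomial (Fin 2) k →ₐ[k] K)).comp
      (MvPolynomial.algebraTensorAlgEquiv k k').symm.toAlgHom) = Ideal.span {MvPolynomial.map (algebraMap k k') f} := by
  classical
  set φ : MvPolynomial (Fin 2) k →ₐ[k] K := MvPolynomial.aeval ![x, y] with hφ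
  let ρ := φ.rangeRestrict
  have hkρ : RingHom.ker ρ = Ideal.span {f} := by rw [← hker]; exact AlgHom.ker_rangeRestrict φ
  have hfac : Algebra.TensorProduct.map (AlgHom.id k' k') φ =
      (Algebra.TensorProduct.map (AlgHom.id k' k') φ.range.val).comp (Algebra.TensorProduct.map (AlgHom.id k' k') ρ) := by
    refine Algebra.TensorProduct.ext' fun a b => ?_
    simp [ρ]
  have hinj : Function.Injective (Algebra.TensorProduct.map (AlgHom.id k' k') φ.range.val) :=
    Module.Flat.lTensor_preserves_injective_linearMap (M := k') φ.range.val.toLinearMap Subtype.val_injective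
  ext q
  obtain ⟨w, rfl⟩ := (MvPolynomial.algebraTensorAlgEquiv (σ := Fin 2) k k').surjective q
  rw [RingHom.mem_ker, AlgHom.comp_apply]
  rw [show (MvPolynomial.algebraTensorAlgEquiv (σ := Fin 2) k k').symm.toAlgHom
    (MvPolynomial.algebraTensorAlgEquiv (σ := Fin 2) k k' w) = w from AlgEquiv.symm_apply_apply _ w]
  rw [hfac, AlgHom.comp_apply, map_eq_zero_iff _ hinj]
  have h1 : RingHom.ker (Algebra.TensorProduct.map (AlgHom.id k' k') ρ) = Ideal.span {(1 : k') ⊗ₜ[k] f} := by
    have := Algebra.TensorProduct.lTensor_ker (A := k') ρ φ.rangeRestrict_surjective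
    rw [hkρ, Ideal.map_span, Set.image_singleton] at this
    exact this
  have e1 : MvPolynomial.map (algebraMap k k') f = MvPolynomial.algebraTensorAlgEquiv (σ := Fin 2) k k' (1 ⊗ₜ f) := by
    rw [MvPolynomial.algebraTensorAlgEquiv_tmul, one_smul]
  rw [← RingHom.mem_ker, h1, e1, Ideal.mem_span_singleton, Ideal.mem_span_singleton]
  exact (map_dvd_iff (MvPolynomial.algebraTensorAlgEquiv (σ := Fin 2) k k').toMulEquiv).symm

open MvPolynomial TensorProduct in
theorem isFunctionField_of_model {k : Type u} {K : Type v} [Field k] [Field K] [Algebra k K]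
    (x y : K) (hx : Transcendental k x) (f : MvPolynomial (Fin 2) k)
    (htop : IntermediateField.adjoin k ({x, y} : Set K) = ⊤) (hf0 : f ≠ 0)
    (habs : ∀ (k' : Type u) [Field k'] [Algebra k k'], FiniteDimensional k k' →
      Irreducible (MvPolynomial.map (algebraMap k k') f))
    (hker : RingHom.ker (MvPolynomial.aeval ![x, y] : MvPolynomial (Fin 2) k →ₐ[k] K) = Ideal.span {f}) :
    FunFld.IsFunctionField k K ∧ FunFld.IsGeometric k K := by
  classical
  set φ : MvPolynomial (Fin 2) k →ₐ[k] K := MvPolynomial.aeval ![x, y] with hφ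
  have hfin : FiniteDimensional (IntermediateField.adjoin k ({x} : Set K)) K := by
    set F := IntermediateField.adjoin k ({x} : Set K)
    have hyalg : IsAlgebraic F y := by
      by_contra htr
      have hind : AlgebraicIndependent k ![x, y] := by
        have h1 : AlgebraicIndependent k (fun _ : Unit => x) := algebraicIndependent_unique_type_iff.2 hx
        have h2 : Transcendental (Algebra.adjoin k (Set.range fun _ : Unit => x)) y := by
          rw [Set.range_const]
          exact fun h => htr (IntermediateField.isAlgebraic_adjoin_iff.2 h)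
        have h3 := (h1.option_iff_transcendental y).2 h2
        have h4 := h3.comp (![some (), none] : Fin 2 → Option Unit) (by
          intro a b; fin_cases a <;> fin_cases b <;> simp)
        convert h4 using 1
        funext i; fin_cases i <;> rfl
      have h5 : f ∈ RingHom.ker φ := hker ▸ Ideal.mem_span_singleton_self f
      exact hf0 (hind.eq_zero_of_aeval_eq_zero f h5)
    have h1 : IntermediateField.adjoin F ({y} : Set K) = ⊤ := by
      refine IntermediateField.restrictScalars_injective k ?_
      rw [IntermediateField.adjoin_simple_adjoin_simple, htop, IntermediateField.restrictScalars_top]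
    have h2 := IntermediateField.adjoin.finiteDimensional hyalg.isIntegral
    rw [h1] at h2
    exact IntermediateField.topEquiv.toLinearEquiv.finiteDimensional
  have hg : FunFld.IsGeometric k K := by
    intro k' _ _ hfd
    have hirr := habs k' hfd
    set Φ := (Algebra.TensorProduct.map (AlgHom.id k' k') φ).comp (MvPolynomial.algebraTensorAlgEquiv (σ := Fin 2) k k').symm.toAlgHom
    have hkerΦ : RingHom.ker Φ = Ideal.span {MvPolynomial.map (algebraMap k k') f} := ker_aeval_baseChange x y k' f hker
    have hprimeΦ : (RingHom.ker Φ).IsPrime := by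
      rw [hkerΦ, Ideal.span_singleton_prime hirr.ne_zero]
      exact UniqueFactorizationMonoid.irreducible_iff_prime.1 hirr
    have hsat : ∀ z : k' ⊗[k] K, ∃ (a : K) (p : MvPolynomial (Fin 2) k'), a ≠ 0 ∧ ((1 : k') ⊗ₜ[k] a) * z = Φ p := by
      intro z
      induction z using TensorProduct.induction_on with
      | zero => exact ⟨1, 0, one_ne_zero, by rw [mul_zero, map_zero]⟩
      | tmul a c =>
        have hc : c ∈ IntermediateField.adjoin k ({x, y} : Set K) := htop ▸ trivial
        obtain ⟨r, hr, s, hs, rfl⟩ := IntermediateField.mem_adjoin_iff_div.1 hc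
        have hrange : ({x, y} : Set K) = Set.range ![x, y] := by simp [Matrix.range_cons, Matrix.range_empty, Set.pair_comm]
        rw [hrange, Algebra.adjoin_range_eq_range_aeval] at hr hs
        obtain ⟨p, hp⟩ := hr
        rcases eq_or_ne s 0 with rfl | hs0
        · exact ⟨1, 0, one_ne_zero, by rw [div_zero, TensorProduct.tmul_zero, mul_zero, map_zero]⟩
        refine ⟨s, MvPolynomial.algebraTensorAlgEquiv (σ := Fin 2) k k' (a ⊗ₜ p), hs0, ?_⟩
        rw [AlgHom.comp_apply, show (MvPolynomial.algebraTensorAlgEquiv (σ := Fin 2) k k').symm.toAlgHom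
          (MvPolynomial.algebraTensorAlgEquiv (σ := Fin 2) k k' (a ⊗ₜ p)) = a ⊗ₜ p from AlgEquiv.symm_apply_apply _ _,
          Algebra.TensorProduct.map_tmul, Algebra.TensorProduct.tmul_mul_tmul, one_mul, mul_div_cancel₀ _ hs0]
        exact congrArg (fun t => a ⊗ₜ[k] t) hp.symm
      | add a b ha hb =>
        obtain ⟨a₁, p₁, h₁, e₁⟩ := ha
        obtain ⟨a₂, p₂, h₂, e₂⟩ := hb
        have hx1 : ∀ c : K, c ∈ φ.range → ∃ q, Φ q = (1 : k') ⊗ₜ[k] c := by
          rintro _ ⟨q, rfl⟩
          exact ⟨MvPolynomial.map (algebraMap k k') q, by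
            show Algebra.TensorProduct.map (AlgHom.id k' k') φ ((MvPolynomial.algebraTensorAlgEquiv (σ := Fin 2) k k').symm (MvPolynomial.map (algebraMap k k') q)) = _
            rw [MvPolynomial.algebraTensorAlgEquiv_symm_map, Algebra.TensorProduct.map_tmul]; rfl⟩
        -- write the multipliers as fractions
        have hm : ∀ c : K, ∃ d : K, d ≠ 0 ∧ d ∈ φ.range ∧ c * d ∈ φ.range := by
          intro c
          have hc : c ∈ IntermediateField.adjoin k ({x, y} : Set K) := htop ▸ trivial
          obtain ⟨r, hr, s, hs, rfl⟩ := IntermediateField.mem_adjoin_iff_div.1 hc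
          have hrange : ({x, y} : Set K) = Set.range ![x, y] := by simp [Matrix.range_cons, Matrix.range_empty, Set.pair_comm]
          rw [hrange, Algebra.adjoin_range_eq_range_aeval] at hr hs
          rcases eq_or_ne s 0 with rfl | hs0
          · exact ⟨1, one_ne_zero, one_mem _, by rw [div_zero, zero_mul]; exact zero_mem _⟩
          · exact ⟨s, hs0, hs, by rwa [div_mul_cancel₀ _ hs0]⟩
        obtain ⟨d₁, hd₁, hd₁r, hd₁m⟩ := hm a₁
        obtain ⟨d₂, hd₂, hd₂r, hd₂m⟩ := hm a₂
        obtain ⟨q₁, hq₁⟩ := hx1 _ (mul_mem hd₁r hd₂m)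
        obtain ⟨q₂, hq₂⟩ := hx1 _ (mul_mem hd₂r hd₁m)
        refine ⟨a₁ * d₁ * (a₂ * d₂), q₁ * p₁ * MvPolynomial.map (algebraMap k k') 1 + q₂ * p₂, mul_ne_zero (mul_ne_zero h₁ hd₁) (mul_ne_zero h₂ hd₂), ?_⟩
        rw [map_one, mul_one, map_add, map_mul, map_mul, hq₁, hq₂, ← e₁, ← e₂]
        simp only [show ∀ c : K, (1 : k') ⊗ₜ[k] c = (Algebra.TensorProduct.includeRight : K →ₐ[k] k' ⊗[k] K) c
          from fun _ => rfl, map_mul]
        ring
    have hunit : ∀ a : K, a ≠ 0 → IsUnit ((1 : k') ⊗ₜ[k] a) := fun a ha =>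
      (isUnit_iff_ne_zero.2 ha).map (Algebra.TensorProduct.includeRight : K →ₐ[k] k' ⊗[k] K)
    haveI : Nontrivial (k' ⊗[k] K) :=
      (Algebra.TensorProduct.includeLeft_injective (S := k) (A := k') (algebraMap k K).injective).nontrivial
    haveI : NoZeroDivisors (k' ⊗[k] K) := ⟨fun {z w} hzw => by
      obtain ⟨a, p, ha, hp⟩ := hsat z
      obtain ⟨b, q, hb, hq⟩ := hsat w
      have h1 : Φ (p * q) = 0 := by
        rw [map_mul, ← hp, ← hq, mul_mul_mul_comm, hzw, mul_zero]
      rcases hprimeΦ.mem_or_mem (RingHom.mem_ker.2 h1) with h2 | h2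
      · rw [RingHom.mem_ker, ← hp] at h2
        exact Or.inl ((hunit a ha).mul_right_eq_zero.1 h2)
      · rw [RingHom.mem_ker, ← hq] at h2
        exact Or.inr ((hunit b hb).mul_right_eq_zero.1 h2)⟩
    haveI : IsDomain (k' ⊗[k] K) := NoZeroDivisors.to_isDomain _
    letI : Algebra K (k' ⊗[k] K) := Algebra.TensorProduct.rightAlgebra
    haveI : Module.Finite K (k' ⊗[k] K) := by
      let e : K ⊗[k] k' ≃ₐ[K] k' ⊗[k] K :=
        AlgEquiv.ofRingEquiv (f := (Algebra.TensorProduct.comm k K k').toRingEquiv) (fun c => by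
          show Algebra.TensorProduct.comm k K k' (c ⊗ₜ 1) = _
          rw [Algebra.TensorProduct.comm_tmul]; rfl)
      exact Module.Finite.equiv e.toLinearEquiv
    haveI : Algebra.IsIntegral K (k' ⊗[k] K) := Algebra.IsIntegral.of_finite K _
    exact isField_of_isIntegral_of_isField' (Field.toIsField K)
  refine ⟨⟨⟨x, hx, hfin⟩, fun z hz => ?_⟩, hg⟩
  have hint : IsIntegral k z := hz.isIntegral
  have hirr : Fact (Irreducible (minpoly k z)) := ⟨minpoly.irreducible hint⟩
  let L := AdjoinRoot (minpoly k z)
  have : FiniteDimensional k L := (AdjoinRoot.powerBasis (minpoly.ne_zero hint)).finite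
  let := (hg L inferInstance).toField
  let μ : L ⊗[k] K →ₐ[k] K :=
    Algebra.TensorProduct.lift (AdjoinRoot.liftAlgHom (minpoly k z) (Algebra.ofId k K) z (minpoly.aeval k z))
      (AlgHom.id k K) fun _ _ => Commute.all _ _
  have hμ : Function.Injective μ := μ.toRingHom.injective
  have heq : (AdjoinRoot.root (minpoly k z)) ⊗ₜ[k] (1 : K) = (1 : L) ⊗ₜ[k] z := hμ (by
    simp only [μ, Algebra.TensorProduct.lift_tmul, map_one, mul_one, one_mul, AlgHom.id_apply]
    exact AdjoinRoot.liftAlgHom_root (minpoly k z) (Algebra.ofId k K) z _)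
  obtain ⟨ψ, hψ⟩ := LinearMap.exists_leftInverse_of_injective (Algebra.linearMap k L)
    (LinearMap.ker_eq_bot.2 (algebraMap k L).injective)
  have h1 : ψ 1 = 1 := by
    have := LinearMap.congr_fun hψ 1
    simpa using this
  have h2 := congrArg (fun z => TensorProduct.lid k K (LinearMap.rTensor K ψ z)) heq
  simp only [LinearMap.rTensor_tmul, TensorProduct.lid_tmul, h1, one_smul] at h2
  exact ⟨_, (Algebra.algebraMap_eq_smul_one _).trans h2⟩

/-- `K/k` is a geometric function field of one variable iff `K = k(x, y)` where the relation ideal of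
`(x, y)` in `k[X, Y]` is generated by an absolutely irreducible polynomial `f`. -/
theorem result (k : Type u) (K : Type v) [Field k] [Field K] [Algebra k K] :
    (FunFld.IsFunctionField k K ∧ FunFld.IsGeometric k K) ↔
      ∃ (x y : K) (f : MvPolynomial (Fin 2) k),
        IntermediateField.adjoin k ({x, y} : Set K) = ⊤ ∧
        (∀ (k' : Type u) [Field k'] [Algebra k k'], FiniteDimensional k k' →
          Irreducible (MvPolynomial.map (algebraMap k k') f)) ∧
        RingHom.ker (MvPolynomial.aeval ![x, y] : MvPolynomial (Fin 2) k →ₐ[k] K) = Ideal.span {f} := by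
  classical
  constructor
  · rintro ⟨hK, hg⟩
    obtain ⟨x, hsep⟩ := Groth.Agent.GeomFFLib.exists_separating hK hg
    have hx := Groth.Agent.GeomFFLib.transcendental_of_sep hK hsep
    haveI := Groth.Agent.GeomFFLib.finite_adjoin' hK hx
    set F := IntermediateField.adjoin k ({x} : Set K)
    obtain ⟨y, hy⟩ := Field.exists_primitive_element F K
    have htop : IntermediateField.adjoin k ({x, y} : Set K) = ⊤ := by
      rw [← IntermediateField.adjoin_simple_adjoin_simple, hy, IntermediateField.restrictScalars_top]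
    obtain ⟨f, hf, hker⟩ := exists_ker_eq_span x y hx (IsIntegral.of_finite F y).isAlgebraic
    refine ⟨x, y, f, htop, fun k' _ _ hfd => ?_, hker⟩
    have h1 := ker_aeval_baseChange x y k' f hker
    letI := (hg k' hfd).toField
    have h2 : (Ideal.span {MvPolynomial.map (algebraMap k k') f}).IsPrime := h1 ▸ RingHom.ker_isPrime _
    have h3 : MvPolynomial.map (algebraMap k k') f ≠ 0 := fun e =>
      hf.ne_zero (MvPolynomial.map_injective _ (algebraMap k k').injective (e.trans (map_zero _).symm))
    exact ((Ideal.span_singleton_prime h3).1 h2).irreducible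
  · rintro ⟨x, y, f, htop, habs, hker⟩
    have hf : Irreducible f := by
      have := habs k inferInstance
      simpa [MvPolynomial.map_id] using this
    rcases em (IsAlgebraic k x) with hx | hx
    · rcases em (IsAlgebraic k y) with hy | hy
      · exfalso
        obtain ⟨p, hp0, hp⟩ := hx
        obtain ⟨q, hq0, hq⟩ := hy
        have hdx : f ∣ Polynomial.aeval (MvPolynomial.X 0 : MvPolynomial (Fin 2) k) p := by
          rw [← Ideal.mem_span_singleton, ← hker, RingHom.mem_ker, ← Polynomial.aeval_algHom_apply]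
          simpa using hp
        have hdy : f ∣ Polynomial.aeval (MvPolynomial.X 1 : MvPolynomial (Fin 2) k) q := by
          rw [← Ideal.mem_span_singleton, ← hker, RingHom.mem_ker, ← Polynomial.aeval_algHom_apply]
          simpa using hq
        have hd : ∀ (i j : Fin 2) (r : Polynomial k), i ≠ j → r ≠ 0 → f ∣ Polynomial.aeval (MvPolynomial.X i : MvPolynomial (Fin 2) k) r →
            MvPolynomial.degreeOf j f = 0 := by
          intro i j r hij hr ⟨c, hc⟩
          have hne : Polynomial.aeval (MvPolynomial.X i : MvPolynomial (Fin 2) k) r ≠ 0 := by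
            rw [← map_zero (Polynomial.aeval (R := k) (MvPolynomial.X i : MvPolynomial (Fin 2) k))]
            exact (transcendental_iff_injective.1 (MvPolynomial.transcendental_X k i)).ne hr
          have hdeg : MvPolynomial.degreeOf j (Polynomial.aeval (MvPolynomial.X i : MvPolynomial (Fin 2) k) r) = 0 := by
            rw [Polynomial.aeval_eq_sum_range]
            refine Nat.eq_zero_of_le_zero ((MvPolynomial.degreeOf_sum_le _ _ _).trans (Finset.sup_le fun l _ => ?_))
            rw [MvPolynomial.smul_eq_C_mul]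
            refine (MvPolynomial.degreeOf_mul_le _ _ _).trans ?_
            rw [MvPolynomial.degreeOf_C, zero_add]
            refine (MvPolynomial.degreeOf_pow_le _ _ _).trans ?_
            rw [MvPolynomial.degreeOf_X_of_ne (Ne.symm hij), mul_zero]
          rw [hc] at hne hdeg
          rw [MvPolynomial.degreeOf_mul_eq (left_ne_zero_of_mul hne) (right_ne_zero_of_mul hne)] at hdeg
          omega
        have h1 := hd 0 1 p (by decide) hp0 hdx
        have h0 := hd 1 0 q (by decide) hq0 hdy
        have hC : f = MvPolynomial.C (MvPolynomial.coeff 0 f) := by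
          refine MvPolynomial.totalDegree_eq_zero_iff_eq_C.1 ?_
          refine (MvPolynomial.totalDegree_eq_zero_iff _ f).2 fun m hm i => ?_
          have : m i ≤ MvPolynomial.degreeOf i f := MvPolynomial.monomial_le_degreeOf i hm
          fin_cases i <;> simp_all
        have hc : MvPolynomial.coeff 0 f ≠ 0 := fun e => hf.ne_zero (by rw [hC, e, map_zero])
        exact hf.not_isUnit (hC ▸ (isUnit_iff_ne_zero.2 hc).map MvPolynomial.C)
      · refine isFunctionField_of_model y x hy (MvPolynomial.rename (Equiv.swap (0 : Fin 2) 1) f) ?_ ?_ ?_ ?_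
        · rw [Set.pair_comm]; exact htop
        · exact fun e => hf.ne_zero (MvPolynomial.rename_injective _ (Equiv.injective _) (e.trans (map_zero _).symm))
        · intro k' _ _ hfd
          rw [MvPolynomial.map_rename]
          exact (MulEquiv.irreducible_iff (MvPolynomial.renameEquiv k' (Equiv.swap (0 : Fin 2) 1)).toMulEquiv).2 (habs k' hfd)
        · have he : (MvPolynomial.aeval ![y, x] : MvPolynomial (Fin 2) k →ₐ[k] K) =
              (MvPolynomial.aeval ![x, y]).comp (MvPolynomial.renameEquiv k (Equiv.swap (0 : Fin 2) 1)).toAlgHom := by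
            refine MvPolynomial.algHom_ext fun i => ?_
            fin_cases i <;> simp
          ext q
          rw [RingHom.mem_ker, he, AlgHom.comp_apply, ← RingHom.mem_ker, hker, Ideal.mem_span_singleton, Ideal.mem_span_singleton]
          rw [← map_dvd_iff (MvPolynomial.renameEquiv k (Equiv.swap (0 : Fin 2) 1)).toMulEquiv (a := f)]
          simp [MvPolynomial.rename_rename, show ⇑(Equiv.swap (0 : Fin 2) 1) ∘ ⇑(Equiv.swap (0 : Fin 2) 1) = id from funext fun i => Equiv.swap_apply_self _ _ i]
    · exact isFunctionField_of_model x y hx f htop hf.ne_zero habs hker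

end Groth.Agent.S11008
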