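import Groth.Statements.S1101
import Groth.Agent.RelFlatLib.FibreStalk
import Groth.Agent.RelFlatLib.RelOpen

set_option autoImplicit false
set_option backward.isDefEq.respectTransparency false
set_option backward.isDefEq.respectTransparency.types false
set_option backward.isDefEq.respectTransparency false
set_option backward.isDefEq.respectTransparency.types false
universe u
open CategoryTheory CategoryTheory.Limits AlgebraicGeometry Opposite
attribute [local instance] HasDerivedCategory.standard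
open Perf

namespace Groth.Agent.S1101

/-- Boundedness below of a restriction from the stalks of a representative. -/
theorem isGE_of_stalks {Z U : Scheme.{u}} (j : U ⟶ Z) [IsOpenImmersion j]
    [PreservesFiniteLimits (Scheme.Modules.restrictFunctor j)]
    {K : DCoh.D Z} {F : CochainComplex Z.Modules ℤ} (e : DCoh.toD Z F ≅ K) (a : ℤ)
    (h : ∀ i, i < a → ∀ v : U, IsZero (((KFlatLib.stalkCx Z (j v)).obj F).homology i)) :
    ((DCoh.restrictD j).obj K).IsGE a :=
  (DerivedCategory.isGE_iff _ a).2 fun i hi => by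
    refine IsZero.of_iso ((KFlatLib.isZero_iff_forall_stalk _).2 fun v => ?_) (PerfLib.resHDIso j K i)
    exact ((ModuleCat.extendScalars.{u, u, u} (j.stalkMap v).hom).map_isZero
      ((RelFlatLib.isZero_stalk_homology (h i hi v)).of_iso
        ((DerSch.stalkFunctor Z (j v)).mapIso ((DerivedCategory.homologyFunctor _ i).mapIso e.symm ≪≫
          (DerivedCategory.homologyFunctorFactors _ i).app F)))).of_iso
        ((RelFlatLib.stalkResExt j v).app _)

/-- The stalks of a representative of an object whose restriction is bounded below. -/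
theorem stalks_of_isGE {Z U : Scheme.{u}} (j : U ⟶ Z) [IsOpenImmersion j]
    [PreservesFiniteLimits (Scheme.Modules.restrictFunctor j)]
    {K : DCoh.D Z} {F : CochainComplex Z.Modules ℤ} (e : DCoh.toD Z F ≅ K) {a : ℤ}
    (h : ((DCoh.restrictD j).obj K).IsGE a) (v : U) (i : ℤ) (hi : i < a) :
    IsZero (((KFlatLib.stalkCx Z (j v)).obj F).homology i) := by
  haveI := RelFlatLib.isEquivalence_extend_stalk j v
  have h1 := (DerSch.stalkFunctor U v).map_isZero
    ((((DerivedCategory.isGE_iff _ a).1 h i hi)).of_iso (PerfLib.resHDIso j K i).symm)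
  have h2 := h1.of_iso ((RelFlatLib.stalkResExt j v).app (DCoh.HD K i)).symm
  have h3 : IsZero ((DerSch.stalkFunctor Z (j v)).obj (DCoh.HD K i)) :=
    (IsZero.iff_id_eq_zero _).2
      ((ModuleCat.extendScalars.{u, u, u} (j.stalkMap v).hom).map_injective (h2.eq_of_src _ _))
  exact h3.of_iso (((F.sc i).mapHomologyIso (DerSch.stalkFunctor Z (j v))) ≪≫
    (DerSch.stalkFunctor Z (j v)).mapIso (((DerivedCategory.homologyFunctorFactors _ i).app F).symm ≪≫
      (DerivedCategory.homologyFunctor _ i).mapIso e))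

/-- Cohomology of a stalk outside the tor amplitude. -/
theorem isZero_stalk_of_amp {X S : Scheme.{u}} (f : X ⟶ S) {F : CochainComplex X.Modules ℤ} {a b i : ℤ}
    (hi : i < a ∨ b < i) {x : X} (h : DerSch.HasTorAmplitudeAt f a b F x) :
    IsZero (((KFlatLib.stalkCx X x).obj F).homology i) := by
  obtain ⟨G, hG, -, ⟨e⟩⟩ := h
  exact (TwoTermLib.RelAmp.isZero_homology_resCx_iff (f.stalkMap x).hom _ i).1
    (((HomologicalComplex.exactAt_iff_isZero_homology _ i).1
      (HomologicalComplex.ExactAt.of_isZero (hG i hi))).of_iso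
        (((DerivedCategory.homologyFunctorFactors _ i).app G).symm ≪≫
          (DerivedCategory.homologyFunctor _ i).mapIso e ≪≫
          (DerivedCategory.homologyFunctorFactors _ i).app _).symm)

/-- Let f : X ⟶ S be flat and locally of finite presentation and E a pseudo-coherent object of D(O_X).
Assume restrictions to opens are exact and the derived pullbacks to the fibres X_s exist. Then E is
S-perfect (locally of finite tor dimension over S in the flat-representative form) if and only if E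
is locally bounded below on X and, for every s ∈ S, the derived pullback of E to the fibre X_s is
locally bounded below on X_s. -/
theorem result {X S : Scheme.{u}} (f : X ⟶ S) [Flat f] [LocallyOfFinitePresentation f]
    [∀ (Y : Scheme.{u}) (V : Y.Opens), PreservesFiniteLimits (Scheme.Modules.restrictFunctor V.ι)]
    [∀ s : S, DCoh.HasLpull (f.fiberι s)]
    (E : DCoh.D X) (hE : ∀ m : ℤ, DCoh.IsPseudoCoherentD m E) :
    DCoh.LocHasFiniteRelTorDim f E ↔
      ((∀ x : X, ∃ (V : X.Opens) (a : ℤ), x ∈ V ∧ ((DCoh.restrictD V.ι).obj E).IsGE a) ∧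
       ∀ (s : S) (y : ↥(f.fiber s)), ∃ (W : (f.fiber s).Opens) (a : ℤ), y ∈ W ∧
         ((DCoh.restrictD W.ι).obj ((DCoh.Lpull (f.fiberι s)).obj E)).IsGE a) := by
  obtain ⟨P, hP, ⟨e⟩⟩ := KFlatLib.exists_good_rep E
  let L : ∀ s : S, (DCoh.Lpull (f.fiberι s)).obj E ≅ DCoh.toD _ ((KFlatLib.pullCx (f.fiberι s)).obj P) :=
    fun s => (DCoh.Lpull (f.fiberι s)).mapIso e.symm ≪≫ KFlatLib.lpullObjIso (f.fiberι s) P hP.1
  constructor
  · intro hloc
    have hloc' := (RelFlatLib.loc_iff f e).1 hloc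
    refine ⟨fun x => ?_, fun s y => ?_⟩
    · obtain ⟨V, a, b, hxV, hamp⟩ := hloc' x
      exact ⟨V, a, hxV, isGE_of_stalks V.ι e a fun i hi v =>
        isZero_stalk_of_amp f (Or.inl hi) (hamp _ v.2)⟩
    · obtain ⟨V, a, b, hxV, hamp⟩ := hloc' (f.fiberι s y)
      exact ⟨f.fiberι s ⁻¹ᵁ V, a, hxV, isGE_of_stalks _ (L s).symm a fun i hi v =>
        RelFlatLib.isZero_pullFibre_of_amp f s _ hP.1 (hamp _ v.2) i (Or.inl hi)⟩
  · rintro ⟨hbd, hfib⟩
    refine (RelFlatLib.loc_iff_ampD f).2 fun x => ?_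
    obtain ⟨V, a₀, hxV, hV⟩ := hbd x
    obtain ⟨W, a₁, hyW, hW⟩ := hfib (f x) (f.asFiber x)
    obtain ⟨a, b, hab⟩ : ∃ a b : ℤ, RelFlatLib.AmpD f a b E x := by
      have h₀ := stalks_of_isGE V.ι e hV ⟨x, hxV⟩
      have h₁ := stalks_of_isGE W.ι (L (f x)).symm hW ⟨f.asFiber x, hyW⟩
      have hx : f.fiberι (f x) (f.asFiber x) = x := f.fiberι_asFiber x
      have h₀' : ∀ i, i < a₀ → IsZero (((KFlatLib.stalkCx X (f.fiberι (f x) (f.asFiber x))).obj P).homology i) := by
        rw [hx]
        exact h₀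
      obtain ⟨a, b, h⟩ := RelFlatLib.exists_ampAt_of_pullFibre f (f x) (f.asFiber x) hP.1
        (fun m => PerfLib.isPC_of_iso e.symm (hE m)) h₀' h₁
      rw [hx] at h
      exact ⟨a, b, (RelFlatLib.ampD_rep f e x).2 h⟩
    let K := (PerfLib.resD V.ι).obj E
    haveI : K.IsGE a₀ := hV
    have hlow : ∀ i, i < a₀ → IsZero (DCoh.HD K i) := fun i hi => DerivedCategory.isZero_of_isGE K a₀ i hi
    obtain ⟨Z, k, hk, z, T, B, hkz, hTv, -, -, ⟨eT⟩⟩ :=
      RelFlatLib.exists_trunc_model (PerfLib.isPC_res (hE _) V.ι) hlow ⟨x, hxV⟩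
    let l := k ≫ V.ι
    obtain ⟨c⟩ := PerfLib.nonempty_resD_comp k V.ι E
    let KZ := (PerfLib.resD l).obj E
    let a' := min a a₀
    let b' := max b B
    have hHZ : ∀ i, i < a' ∨ b' < i → IsZero (DCoh.HD KZ i) := fun i hi =>
      (PerfLib.isZero_HD_of_exactAt (HomologicalComplex.ExactAt.of_isZero (hTv i (by omega)))).of_iso
        ((DerivedCategory.homologyFunctor _ i).mapIso (c ≪≫ eT.symm))
    have hlz : l z = x := congrArg V.ι hkz
    have hz : RelFlatLib.AmpD (l ≫ f) a' b' KZ z :=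
      (RelFlatLib.ampD_res_iff l f z a' b' E).2
        (hlz.symm ▸ RelFlatLib.ampD_mono f (min_le_left _ _) (le_max_left _ _) hab)
    obtain ⟨O, hzO, -, hO⟩ := RelFlatLib.exists_relPerfect_nhd (l ≫ f) (PerfLib.isPC_res (hE _) l) hHZ hz
    refine ⟨l ''ᵁ O, a', b', ⟨z, hzO, hlz⟩, ?_⟩
    rintro _ ⟨w, hw, rfl⟩
    exact (RelFlatLib.ampD_res_iff l f w a' b' E).1 (hO w hw)

end Groth.Agent.S1101
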