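import Groth.Statements.S11011
import Mathlib.FieldTheory.SeparableClosure
import Mathlib.LinearAlgebra.TensorProduct.Tower
import Mathlib.RingTheory.Unramified.Field
import Mathlib.RingTheory.TensorProduct.Finite
import Groth.Agent.FFLib.Degree
import Groth.Agent.GeomFFLib.SepTensor
import Groth.Agent.GeomFFLib.ConstExt


-- import your own Groth.Agent.* helpers here

set_option autoImplicit false
universe u v
open FunFld TensorProduct

attribute [local instance 10000] Algebra.toModule
namespace Groth.Agent.S11011


attribute [local instance 10000] Algebra.toModule in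
theorem unique_over {k k' S : Type u} {K K' : Type v} [Field k] [Field k'] [Field S] [Field K] [Field K']
    [Algebra k k'] [Algebra k S] [FiniteDimensional k S] [Algebra S k'] [IsPurelyInseparable S k']
    [Algebra k K] [Algebra K K'] [Algebra k' K'] [Algebra k K'] [Algebra S K']
    [IsScalarTower k k' K'] [IsScalarTower k K K'] [IsScalarTower k S K'] [IsScalarTower S k' K']
    [FiniteDimensional K K']
    (hK : FFLib.FG1 k K) (P : FunFld.Place k K) [IsReduced (S ⊗[k] IsLocalRing.ResidueField P.O)]
    (hfield : IsField (S ⊗[k] IsLocalRing.ResidueField P.O))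
    (hsurj : Function.Surjective (Algebra.TensorProduct.productMap
      (IsScalarTower.toAlgHom k k' K') (IsScalarTower.toAlgHom k K K')))
    (hinj : Function.Injective (Algebra.TensorProduct.productMap
      (IsScalarTower.toAlgHom k S K') (IsScalarTower.toAlgHom k K K')))
    (Q Q' : FunFld.Place k K') (hQ : FunFld.IsOver Q P) (hQ' : FunFld.IsOver Q' P) : Q' = Q := by
  classical
  let φ := Algebra.TensorProduct.productMap (IsScalarTower.toAlgHom k S K') (IsScalarTower.toAlgHom k K K')
  let q := ringExpChar k
  have hq : ExpChar k q := inferInstance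
  have : ExpChar K' q := expChar_of_injective_algebraMap (algebraMap k K').injective q
  have : ExpChar S q := expChar_of_injective_algebraMap (algebraMap k S).injective q
  have hpow : ∀ y : K', ∃ n : ℕ, y ^ q ^ n ∈ Set.range φ := fun y => by
    obtain ⟨w, rfl⟩ := hsurj y
    induction w using TensorProduct.induction_on with
    | zero => exact ⟨0, 0, by simp⟩
    | tmul a c =>
      obtain ⟨n, s, hs⟩ := IsPurelyInseparable.pow_mem S q a
      refine ⟨n, s ⊗ₜ (c ^ q ^ n), ?_⟩
      simp only [φ, Algebra.TensorProduct.productMap_apply_tmul, IsScalarTower.coe_toAlgHom', mul_pow, map_pow]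
      congr 1
      rw [IsScalarTower.algebraMap_apply S k' K', hs, map_pow]
    | add a b ha hb =>
      obtain ⟨n, u, hu⟩ := ha
      obtain ⟨m, v, hv⟩ := hb
      refine ⟨n + m, u ^ q ^ m + v ^ q ^ n, ?_⟩
      rw [map_add, map_add, map_pow, map_pow, hu, hv, ← pow_mul, ← pow_mul, ← pow_add, ← pow_add,
        add_comm m n, add_pow_expChar_pow]
  let : Algebra P.O K' := ((algebraMap K K').comp P.O.subtype).toAlgebra
  have : IsScalarTower P.O K K' := IsScalarTower.of_algebraMap_eq fun _ => rfl
  by_contra hne
  obtain ⟨z, hz⟩ := FFLib.weak_approx (insert Q (insert Q' (FFLib.overs hK P)))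
    (fun R => if R = Q then (0 : K') else 1) (fun _ => (1 : ℤ))
  have hexp : (WithZero.exp (-1) : WithZero (Multiplicative ℤ)) < 1 := by
    rw [← WithZero.exp_zero, WithZero.exp_lt_exp]; omega
  have hzR : ∀ R : FunFld.Place k K', FunFld.IsOver R P →
      R.1 (z - if R = Q then 0 else 1) < 1 := fun R hR =>
    (hz R (Finset.mem_insert_of_mem (Finset.mem_insert_of_mem ((FFLib.mem_overs hK).2 hR)))).trans_lt hexp
  have hzQ : Q.1 z < 1 := by simpa using hzR Q hQ
  have hz1 : ∀ R : FunFld.Place k K', FunFld.IsOver R P → R ≠ Q → R.1 z = 1 := fun R hR hRQ => by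
    have h1 := hzR R hR
    rw [if_neg hRQ] at h1
    have h2 := R.1.map_add_eq_of_lt_left (x := 1) (y := z - 1) (by rwa [map_one])
    rwa [add_sub_cancel, map_one] at h2
  have hzle : FFLib.InR P z := fun R hR => by
    rcases eq_or_ne R Q with rfl | hRQ
    · exact hzQ.le
    · exact (hz1 R hR hRQ).le
  obtain ⟨n, hn⟩ := hpow z
  have hN : 0 < q ^ n := pow_pos (expChar_pos k q) n
  obtain ⟨w, hw⟩ := GeomFFLib.exists_prodO_eq P hinj hn
    ((FFLib.isIntegral_of_inR hK P hzle).pow (q ^ n))
  obtain ⟨t, ht0, ht1, htv⟩ := FFLib.exists_uniformizer P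
  let t' : P.O := ⟨t, by show P.1 t ≤ 1; rw [htv]; exact hexp.le⟩
  have ht' := GeomFFLib.maximalIdeal_eq P t' htv
  have hint : ∀ u, FFLib.InR P (GeomFFLib.prodO S K' P u) := fun u => by
    refine FFLib.inR_of_isIntegral P ?_
    induction u using TensorProduct.induction_on with
    | zero => rw [map_zero]; exact isIntegral_zero
    | add a b ha hb => rw [map_add]; exact ha.add hb
    | tmul a c =>
      rw [GeomFFLib.prodO_tmul]
      refine IsIntegral.mul ?_ (isIntegral_algebraMap (x := c))
      obtain ⟨p, hp, hp0⟩ := (IsIntegral.of_finite k a).map (IsScalarTower.toAlgHom k S K')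
      refine ⟨p.map (algebraMap k P.O), hp.map _, ?_⟩
      rw [Polynomial.eval₂_map]
      rw [show (algebraMap P.O K').comp (algebraMap k P.O) = algebraMap k K' from
        RingHom.ext fun d => (IsScalarTower.algebraMap_apply k K K' d).symm]
      exact hp0
  have hT : ∀ (R : FunFld.Place k K'), FunFld.IsOver R P → ∀ u,
      R.1 (GeomFFLib.prodO S K' P ((1 : S) ⊗ₜ[k] t' * u)) < 1 := fun R hR u => by
    obtain ⟨d, hd⟩ := id hR
    rw [map_mul, GeomFFLib.prodO_tmul, map_one, one_mul, map_mul]
    refine mul_lt_one_of_lt_of_le ?_ (hint u R hR)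
    exact (FFLib.isOverWith_lt_one_iff hd t).2 (htv ▸ hexp)
  let r : P.O →ₐ[k] IsLocalRing.ResidueField P.O := { IsLocalRing.residue P.O with commutes' := fun _ => rfl }
  let ρ := Algebra.TensorProduct.map (AlgHom.id k S) r
  have hker : ∀ u, ρ u = 0 → (1 : S) ⊗ₜ[k] t' ∣ u := fun u hu => by
    rw [← Ideal.mem_span_singleton]
    have hk : RingHom.ker ρ = Ideal.span {(1 : S) ⊗ₜ[k] t'} := by
      rw [Algebra.TensorProduct.lTensor_ker r IsLocalRing.residue_surjective]
      have hr : RingHom.ker r = IsLocalRing.maximalIdeal P.O := IsLocalRing.ker_residue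
      rw [hr, ht', Ideal.map_span, Set.image_singleton]
      rfl
    exact hk ▸ hu
  rcases eq_or_ne (ρ w) 0 with h0 | h0
  · obtain ⟨c, rfl⟩ := hker w h0
    have h1 := hT Q' hQ' c
    rw [hw, map_pow, hz1 Q' hQ' hne, one_pow] at h1
    exact lt_irrefl _ h1
  · obtain ⟨v, hv⟩ := hfield.mul_inv_cancel h0
    obtain ⟨u, rfl⟩ : ∃ u, ρ u = v :=
      LinearMap.lTensor_surjective S (g := r.toLinearMap) IsLocalRing.residue_surjective v
    obtain ⟨c, hc⟩ := hker (w * u - 1) (by rw [map_sub, map_mul, map_one, hv, sub_self])
    have h1 := hT Q hQ c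
    rw [← hc, map_sub, map_mul, map_one, hw] at h1
    have h2 : Q.1 (z ^ q ^ n * GeomFFLib.prodO S K' P u) < 1 := by
      rw [map_mul, map_pow]
      exact mul_lt_one_of_lt_of_le (pow_lt_one₀ zero_le hzQ hN.ne') (hint u Q hQ)
    have h3 := (Q.1.map_sub _ _).trans_lt (max_lt h2 h1)
    rw [sub_sub_cancel, map_one] at h3
    exact lt_irrefl _ h3


/-- For a place `P` of a geometric function field of one variable `K/k` and a finite extension `k'/k`
with either `k'/k` or `F_P/k` purely inseparable, `P` has exactly one place of `k' ⊗_k K` above it. -/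
theorem result (k k' : Type u) (K K' : Type v) [Field k] [Field k'] [Field K] [Field K']
    [Algebra k k'] [FiniteDimensional k k'] [Algebra k K] [Algebra K K'] [Algebra k' K'] [Algebra k K']
    [IsScalarTower k k' K'] [IsScalarTower k K K']
    (h : Function.Bijective (Algebra.TensorProduct.productMap
      (IsScalarTower.toAlgHom k k' K') (IsScalarTower.toAlgHom k K K')))
    (hK : FunFld.IsFunctionField k K) (hg : FunFld.IsGeometric k K) (P : FunFld.Place k K)
    (hpi : IsPurelyInseparable k k' ∨ IsPurelyInseparable k (IsLocalRing.ResidueField P.O)) :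
    ∃! Q : FunFld.Place k K', FunFld.IsOver Q P := by
  classical
  let : Module k (IsLocalRing.ResidueField P.O) := Algebra.toModule
  have : Module.Finite K K' := by
    refine Module.Finite.of_surjective
      (LinearMap.liftBaseChange K ((IsScalarTower.toAlgHom k k' K').toLinearMap)) fun y => ?_
    obtain ⟨w, rfl⟩ := h.2 y
    refine ⟨TensorProduct.comm k k' K w, ?_⟩
    induction w using TensorProduct.induction_on with
    | zero => simp
    | tmul a c => simp [Algebra.smul_def, mul_comm]
    | add a b ha hb => simp only [map_add, ha, hb]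
  obtain ⟨Q, hQ⟩ : ∃ Q : FunFld.Place k K', FunFld.IsOver Q P := by
    have hsum := FFLib.sum_idx_mul_deg (K' := K') hK.1 P _ fun Q => FFLib.mem_overs hK.1
    by_contra hne
    have he : FFLib.overs (K' := K') hK.1 P = ∅ :=
      Finset.eq_empty_of_forall_notMem fun Q hQ => hne ⟨Q, (FFLib.mem_overs hK.1).1 hQ⟩
    rw [he, Finset.sum_empty] at hsum
    exact (Nat.mul_pos Module.finrank_pos (FFLib.deg_pos hK.1 P)).ne' hsum.symm
  let S := separableClosure k k'
  have : IsPurelyInseparable S k' := separableClosure.isPurelyInseparable k k'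
  have : FiniteDimensional k S := inferInstance
  have : Algebra.FormallyUnramified k S := Algebra.FormallyUnramified.of_isSeparable k _
  have hred : IsReduced (IsLocalRing.ResidueField P.O ⊗[k] S) :=
    Algebra.FormallyUnramified.isReduced_of_field (IsLocalRing.ResidueField P.O) _
  have : IsReduced (S ⊗[k] IsLocalRing.ResidueField P.O) :=
    isReduced_of_injective (Algebra.TensorProduct.comm k S (IsLocalRing.ResidueField P.O)).toRingHom
      (Algebra.TensorProduct.comm k S _).injective
  have hfield : IsField (S ⊗[k] IsLocalRing.ResidueField P.O) := by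
    rcases hpi with hpi | hpi
    · have : IsPurelyInseparable k S := IsPurelyInseparable.tower_bot k S k'
      exact GeomFFLib.isField_tensor_of_purelyInseparable k S
        ((Algebra.TensorProduct.lid k (IsLocalRing.ResidueField P.O)).toMulEquiv.isField (Field.toIsField _))
    · exact (Algebra.TensorProduct.comm k S (IsLocalRing.ResidueField P.O)).toMulEquiv.isField
        (GeomFFLib.isField_tensor_of_purelyInseparable k (IsLocalRing.ResidueField P.O)
          ((Algebra.TensorProduct.lid k S).toMulEquiv.isField (Field.toIsField _)))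
  refine ⟨Q, hQ, fun Q' hQ' => unique_over (S := S) hK.1 P hfield h.2 ?_ Q Q' hQ hQ'⟩
  have heq : (Algebra.TensorProduct.productMap (IsScalarTower.toAlgHom k S K') (IsScalarTower.toAlgHom k K K')) =
      (Algebra.TensorProduct.productMap (IsScalarTower.toAlgHom k k' K')
        (IsScalarTower.toAlgHom k K K')).comp (Algebra.TensorProduct.map S.val (AlgHom.id k K)) := by
    refine Algebra.TensorProduct.ext' fun a b => ?_
    simp
    exact Or.inl rfl
  rw [heq]
  exact h.1.comp (Module.Flat.rTensor_preserves_injective_linearMap _ Subtype.val_injective)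

end Groth.Agent.S11011
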