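import Groth.Statements.S11012
import Mathlib.LinearAlgebra.TensorProduct.Tower
import Mathlib.RingTheory.Unramified.Field
import Mathlib.RingTheory.TensorProduct.Finite
import Groth.Agent.FFLib.Degree
import Groth.Agent.GeomFFLib.ConstExt


-- import your own Groth.Agent.* helpers here

set_option autoImplicit false
universe u v
open FunFld TensorProduct

namespace Groth.Agent.S11012

/-- Under a finite separable constant extension `k'/k` of a geometric function field of one variable,
the integral closure of `O_P` in `k' ⊗_k K` is `k' ⊗_k O_P` and every place above `P` has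
ramification index `1`. -/
theorem result (k k' : Type u) (K K' : Type v) [Field k] [Field k'] [Field K] [Field K']
    [Algebra k k'] [FiniteDimensional k k'] [Algebra k K] [Algebra K K'] [Algebra k' K'] [Algebra k K']
    [IsScalarTower k k' K'] [IsScalarTower k K K']
    (h : Function.Bijective (Algebra.TensorProduct.productMap
      (IsScalarTower.toAlgHom k k' K') (IsScalarTower.toAlgHom k K K')))
    (hK : FunFld.IsFunctionField k K) (hg : FunFld.IsGeometric k K) [Algebra.IsSeparable k k']
    (P : FunFld.Place k K) [Algebra P.O K'] [IsScalarTower P.O K K']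
    (Q : FunFld.Place k K') (hQ : FunFld.IsOver Q P) :
    (integralClosure P.O K').toSubring =
      (Algebra.adjoin P.O (Set.range (algebraMap k' K'))).toSubring ∧
    FunFld.IsOverWith Q P 1 := by
  classical
  have := FFLib.finiteDimensional_residue (k := k) (K := K) hK.1 P
  let : Module k (IsLocalRing.ResidueField P.O) := Algebra.toModule
  have : Algebra.FormallyUnramified k k' := Algebra.FormallyUnramified.of_isSeparable k _
  have hr : IsReduced (IsLocalRing.ResidueField P.O ⊗[k] k') :=
    Algebra.FormallyUnramified.isReduced_of_field (IsLocalRing.ResidueField P.O) _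
  have : IsReduced (k' ⊗[k] IsLocalRing.ResidueField P.O) :=
    isReduced_of_injective (Algebra.TensorProduct.comm k k' (IsLocalRing.ResidueField P.O)).toRingHom
      (Algebra.TensorProduct.comm k k' _).injective
  have hA := GeomFFLib.integralClosure_eq_adjoin h P
  refine ⟨hA, ?_⟩
  have : Module.Finite K K' := by
    refine Module.Finite.of_surjective
      (LinearMap.liftBaseChange K ((IsScalarTower.toAlgHom k k' K').toLinearMap)) fun y => ?_
    obtain ⟨w, rfl⟩ := h.2 y
    refine ⟨TensorProduct.comm k k' K w, ?_⟩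
    induction w using TensorProduct.induction_on with
    | zero => simp
    | tmul a c => simp [Algebra.smul_def, mul_comm]
    | add a b ha hb => simp only [map_add, ha, hb]
  obtain ⟨e, he⟩ := id hQ
  obtain ⟨t, ht0, ht1, htv⟩ := FFLib.exists_uniformizer P
  have hQs : Q ∈ FFLib.overs hK.1 P := (FFLib.mem_overs hK.1).2 hQ
  obtain ⟨z, hz⟩ := FFLib.weak_approx_eq (insert Q (FFLib.overs hK.1 P)) (fun _ => (0 : K')) (fun _ => (1 : ℤ))
  have hzQ := hz Q (Finset.mem_insert_self _ _)
  rw [sub_zero] at hzQ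
  have hint : ∀ y : K', (∀ R : FunFld.Place k K', FunFld.IsOver R P → R.1 y ≤ 1) →
      ∃ w, GeomFFLib.prodO k' K' P w = y := fun y hy => by
    have h1 : y ∈ (integralClosure P.O K').toSubring := FFLib.isIntegral_of_inR hK.1 P hy
    rw [hA, ← GeomFFLib.range_prodO] at h1
    exact h1
  have hexp : (WithZero.exp (-1) : WithZero (Multiplicative ℤ)) < 1 := by
    rw [← WithZero.exp_zero, WithZero.exp_lt_exp]; omega
  let t' : P.O := ⟨t, by show P.1 t ≤ 1; rw [htv]; exact hexp.le⟩
  have hT : GeomFFLib.prodO k' K' P (1 ⊗ₜ t') = algebraMap K K' t := by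
    rw [GeomFFLib.prodO_tmul, map_one, one_mul]
  have hRt : ∀ (R : FunFld.Place k K') (d : ℕ), FunFld.IsOverWith R P d →
      R.1 (algebraMap K K' t) = WithZero.exp (-(d : ℤ)) := fun R d hd => by
    rw [hd t, htv, ← WithZero.exp_nsmul, nsmul_eq_mul, mul_neg_one]
  obtain ⟨M, hM⟩ : ∃ M : ℕ, ∀ R : FunFld.Place k K', R ∈ FFLib.overs hK.1 P → ∀ d : ℕ, FunFld.IsOverWith R P d → d ≤ M := by
    refine ⟨(FFLib.overs (K' := K') hK.1 P).sup fun R : FunFld.Place k K' => FFLib.underIdx hK.1 R, fun R hR d hd => ?_⟩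
    rw [← (FFLib.under_eq hK.1 hd).2]
    exact Finset.le_sup (f := fun R : FunFld.Place k K' => FFLib.underIdx hK.1 R) hR
  have hzR : ∀ R : FunFld.Place k K', FunFld.IsOver R P → R.1 z = WithZero.exp (-1) := fun R hR => by
    have := hz R (Finset.mem_insert_of_mem ((FFLib.mem_overs hK.1).2 hR))
    rwa [sub_zero] at this
  obtain ⟨w, hw⟩ := hint z fun R hR => (hzR R hR).trans_le hexp.le
  obtain ⟨w', hw'⟩ := hint (z ^ M / algebraMap K K' t) fun R hR => by
    obtain ⟨d, hd⟩ := id hR
    rw [map_div₀, map_pow, hzR R hR, hRt R d hd, ← WithZero.exp_nsmul, ← WithZero.exp_sub]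
    refine le_of_le_of_eq (WithZero.exp_le_exp.2 (?_ : _ ≤ (0 : ℤ))) WithZero.exp_zero
    have := hM R ((FFLib.mem_overs hK.1).2 hR) d hd
    rw [nsmul_eq_mul]
    omega
  have ht' : IsLocalRing.maximalIdeal P.O = Ideal.span {t'} := GeomFFLib.maximalIdeal_eq P t' htv
  have hdvd : (1 : k') ⊗ₜ[k] t' ∣ w ^ M := by
    refine ⟨w', GeomFFLib.prodO_injective h P ?_⟩
    rw [map_pow, map_mul, hw, hw', hT, mul_div_cancel₀ _ ((map_ne_zero (algebraMap K K')).2 ht0)]
  obtain ⟨u, rfl⟩ := GeomFFLib.dvd_of_pow_dvd P ht' w M hdvd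
  rw [map_mul, hT] at hw
  have hu : Q.1 (GeomFFLib.prodO k' K' P u) ≤ 1 := by
    refine FFLib.inR_of_isIntegral P ?_ Q hQ
    have h1 : GeomFFLib.prodO k' K' P u ∈ (GeomFFLib.prodO k' K' P).range := ⟨u, rfl⟩
    rw [GeomFFLib.range_prodO, ← hA] at h1
    exact h1
  have hle : Q.1 z ≤ WithZero.exp (-(e : ℤ)) := by
    rw [← hw, map_mul, hRt Q e he]
    exact mul_le_of_le_one_right' hu
  rw [hzQ, WithZero.exp_le_exp] at hle
  have hpos := FFLib.isOverWith_pos he
  have : e = 1 := by omega
  exact this ▸ he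

end Groth.Agent.S11012
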