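import Groth.Statements.S11014
import Groth.Agent.FFLib.ASReduce
import Groth.Agent.FFLib.QuadGenus


-- import your own Groth.Agent.* helpers here

set_option autoImplicit false
open FunFld

namespace Groth.Agent.S11014

/-- For `char k ≠ 2` and `K = k(x, y)` with `y² = f(x)`, `f` squarefree of degree `d ≥ 1`, the genus is
`(d - 2)/2` for `d` even and `(d - 1)/2` for `d` odd. -/
theorem result (k K : Type*) [Field k] [Field K] [Algebra k K]
    (hK : FunFld.IsFunctionField k K) (h2 : ringChar k ≠ 2) (x y : K) (hx : Transcendental k x)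
    (hxy : IntermediateField.adjoin k ({x, y} : Set K) = ⊤)
    (f : Polynomial k) (hf : Squarefree f) (hd : 1 ≤ f.natDegree)
    (heq : y ^ 2 = Polynomial.aeval x f) :
    FunFld.genus k K = (f.natDegree - 1) / 2 := by
  open Groth.Agent.FFLib in
  classical
  obtain ⟨φ, hφ⟩ : ∃ φ : RatFunc k →ₐ[k] K, φ RatFunc.X = x :=
    ⟨(IntermediateField.adjoin k ({x} : Set K)).val.comp (RatFunc.algEquivOfTranscendental x hx).toAlgHom,
      RatFunc.algEquivOfTranscendental_X x hx⟩
  letI : Algebra (RatFunc k) K := φ.toRingHom.toAlgebra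
  haveI : IsScalarTower k (RatFunc k) K := IsScalarTower.of_algebraMap_eq fun c => (φ.commutes c).symm
  have hX : algebraMap (RatFunc k) K RatFunc.X = x := hφ
  have heq' : y ^ 2 = algebraMap (RatFunc k) K (algebraMap (Polynomial k) (RatFunc k) f) := by
    rw [heq, ← aeval_ratX f, ← Polynomial.aeval_algebraMap_apply, hX]
  have hy := not_range_of_squarefree hf hd heq'
  have hint : IsIntegral (RatFunc k) y := IsIntegral.of_pow two_pos (by rw [heq']; exact isIntegral_algebraMap)
  have htop : IntermediateField.adjoin (RatFunc k) ({y} : Set K) = ⊤ := by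
    rw [← IntermediateField.restrictScalars_eq_top_iff (K := k), eq_top_iff, ← hxy, IntermediateField.adjoin_le_iff]
    rintro z (rfl | rfl)
    · rw [SetLike.mem_coe, IntermediateField.mem_restrictScalars, ← hX]
      exact IntermediateField.algebraMap_mem _ _
    · rw [SetLike.mem_coe, IntermediateField.mem_restrictScalars]
      exact IntermediateField.mem_adjoin_simple_self _ _
  have hdeg : Module.finrank (RatFunc k) K = 2 := by
    rw [← IntermediateField.finrank_top', ← htop, IntermediateField.adjoin.finrank hint]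
    refine le_antisymm ?_ ((minpoly.two_le_natDegree_iff hint).2 hy)
    refine (Polynomial.natDegree_le_of_dvd (minpoly.dvd (RatFunc k) y (p := Polynomial.X ^ 2 - Polynomial.C (algebraMap (Polynomial k) (RatFunc k) f)) (by simp [heq'])) ?_).trans ?_
    · exact (Polynomial.monic_X_pow_sub_C _ two_ne_zero).ne_zero
    · rw [Polynomial.natDegree_X_pow_sub_C]
  obtain ⟨Pi, hPi⟩ := exists_infPlace (k := k)
  set D : FunFld.Divisor k (RatFunc k) := Finsupp.single Pi (-((-(f.natDegree : ℤ)) / 2)) with hD
  have hDP : ∀ P : FunFld.Place k (RatFunc k), D P = -(P.ord (algebraMap (Polynomial k) (RatFunc k) f) / 2) := by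
    intro P
    rcases lt_or_ge (P.ord (RatFunc.X : RatFunc k)) 0 with hP | hP
    · rw [hD, place_eq_inf hPi hP, Finsupp.single_eq_same, ord_poly_inf' Pi hPi hf.ne_zero]
    · rw [hD, Finsupp.single_eq_of_ne (fun e : P = Pi => by rw [e] at hP; omega)]
      have h0 := ord_poly_nonneg P hP f
      by_cases hpos : 0 < P.ord (algebraMap (Polynomial k) (RatFunc k) f)
      · rw [ord_squarefree_le_one hP hf hpos]; rfl
      · rw [show P.ord (algebraMap (Polynomial k) (RatFunc k) f) = 0 by omega]; rfl
  have hg := genus_of_split hdeg hK hy (v := (0 : RatFunc k)) (g := algebraMap (Polynomial k) (RatFunc k) f)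
    (by rw [map_zero, zero_mul, add_zero, heq']) D fun P m a b => by
      rw [hDP P]
      exact split_sqrt hdeg h2 hy heq' P m a b
  rw [hD, deg_single, (inf_ord_deg Pi hPi).2] at hg
  omega

end Groth.Agent.S11014
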