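import Groth.Statements.S11017
import Groth.Agent.FFLib.RR

set_option autoImplicit false
open FunFld

namespace Groth.Agent.S11017

/-- For a Weil differential `ω` with divisor `C`, `ord_P [ω] ≥ e` iff `ω` kills every repartition
concentrated at `P` with `P`-component of order at least `-e`. -/
theorem result (k K : Type*) [Field k] [Field K] [Algebra k K] (ω : Module.Dual k (FunFld.adele k K)) (C : FunFld.Divisor k K) (hω : FunFld.IsDivOf ω C)
    (P : FunFld.Place k K) (e : ℤ) :
    e ≤ C P ↔ ∀ (a : FunFld.Place k K → K) (ha : a ∈ FunFld.adele k K),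
      (∀ Q, Q ≠ P → a Q = 0) → P.1 (a P) ≤ WithZero.exp e → ω ⟨a, ha⟩ = 0 := by
  classical
  constructor
  · intro he a ha h0 hv
    refine Groth.Agent.FFLib.mem_WD.1 ((hω C).2 le_rfl) ⟨a, ha⟩ (Submodule.mem_sup_left fun Q => ?_)
    rcases eq_or_ne Q P with rfl | hQ
    · exact hv.trans (WithZero.exp_le_exp.2 he)
    · rw [show (⟨a, ha⟩ : FunFld.adele k K).1 Q = 0 from h0 Q hQ, map_zero]; exact zero_le
  · intro h
    by_contra hlt
    rw [not_le] at hlt
    have hE : C < Finsupp.update C P e := lt_of_le_of_ne (fun Q => by
      rcases eq_or_ne Q P with rfl | hQ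
      · simp only [Finsupp.coe_update, Function.update_self]; omega
      · simp [Finsupp.coe_update, Function.update_of_ne hQ]) fun e' => by
        have := congrArg (fun D => D P) e'
        simp only [Finsupp.coe_update, Function.update_self] at this
        omega
    refine hE.not_ge ((hω _).1 (Groth.Agent.FFLib.mem_WD.2 fun a ha => ?_))
    obtain ⟨b, hb, c, hc, he⟩ := Submodule.mem_sup.1 ha
    have hca : c ∈ FunFld.adele k K := by
      rw [eq_sub_of_add_eq' he]; exact Submodule.sub_mem _ a.2 (Groth.Agent.FFLib.AD_le_adele _ hb)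
    have hbs : (Pi.single P (b P) : FunFld.Place k K → K) ∈ FunFld.adele k K := by
      rw [Groth.Agent.FFLib.mem_adele, Filter.eventually_cofinite]
      exact (Set.finite_singleton P).subset fun Q hQ => by
        by_contra hne
        exact hQ (by rw [Pi.single_eq_of_ne hne, map_zero]; exact zero_le)
    have hbr : Function.update b P 0 ∈ FunFld.AD C := fun Q => by
      rcases eq_or_ne Q P with rfl | hQ
      · simp [Function.update_self]
      · have := hb Q
        simp only [Finsupp.coe_update, Function.update_of_ne hQ] at this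
        rwa [Function.update_of_ne hQ]
    have : a = ⟨_, hbs⟩ + ⟨Function.update b P 0 + c, Submodule.add_mem _ (Groth.Agent.FFLib.AD_le_adele C hbr) hca⟩ := by
      refine Subtype.ext ?_
      show (a : FunFld.Place k K → K) = Pi.single P (b P) + (Function.update b P 0 + c)
      rw [← he, ← add_assoc]
      congr 1
      funext Q
      rcases eq_or_ne Q P with rfl | hQ <;> simp_all
    rw [this, map_add, h _ hbs (fun Q hQ => Pi.single_eq_of_ne hQ _) (by
        rw [Pi.single_eq_same]
        have := hb P
        simpa [Finsupp.coe_update] using this),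
      Groth.Agent.FFLib.mem_WD.1 ((hω C).2 le_rfl) _ (Submodule.add_mem_sup hbr hc), add_zero]

end Groth.Agent.S11017
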