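import Groth.Statements.S11018
import Mathlib.LinearAlgebra.TensorProduct.Tower
import Mathlib.RingTheory.Unramified.Field
import Mathlib.RingTheory.TensorProduct.Finite
import Groth.Agent.FFLib.Degree
import Groth.Agent.GeomFFLib.ConstExt


-- import your own Groth.Agent.* helpers here

set_option autoImplicit false
universe u v
open FunFld TensorProduct

namespace Groth.Agent.S11018

/-- Every place with separable residue field is nonsingular: for all finite `k'/k` the integral closure
of `O_P` in `k' ⊗_k K` is `k' ⊗_k O_P`. -/
theorem result (k k' : Type u) (K K' : Type v) [Field k] [Field k'] [Field K] [Field K']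
    [Algebra k k'] [FiniteDimensional k k'] [Algebra k K] [Algebra K K'] [Algebra k' K'] [Algebra k K']
    [IsScalarTower k k' K'] [IsScalarTower k K K']
    (h : Function.Bijective (Algebra.TensorProduct.productMap
      (IsScalarTower.toAlgHom k k' K') (IsScalarTower.toAlgHom k K K')))
    (hK : FunFld.IsFunctionField k K) (hg : FunFld.IsGeometric k K)
    (P : FunFld.Place k K) [Algebra.IsSeparable k (IsLocalRing.ResidueField P.O)]
    [Algebra P.O K'] [IsScalarTower P.O K K'] :
    (integralClosure P.O K').toSubring =
      (Algebra.adjoin P.O (Set.range (algebraMap k' K'))).toSubring := by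
  have hfd := FFLib.finiteDimensional_residue (k := k) (K := K) hK.1 P
  let : Module k (IsLocalRing.ResidueField P.O) := Algebra.toModule
  have : Module.Finite k (IsLocalRing.ResidueField P.O) := by
    convert hfd
    exact Module.ext' _ _ fun c x => by
      obtain ⟨y, rfl⟩ := IsLocalRing.residue_surjective x
      exact Algebra.smul_def c (IsLocalRing.residue P.O y)
  have : Algebra.FormallyUnramified k (IsLocalRing.ResidueField P.O) :=
    Algebra.FormallyUnramified.of_isSeparable k _
  have : Module.Finite k' (k' ⊗[k] IsLocalRing.ResidueField P.O) := Module.Finite.base_change k k' _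
  have : IsReduced (k' ⊗[k] IsLocalRing.ResidueField P.O) := Algebra.FormallyUnramified.isReduced_of_field k' _
  exact GeomFFLib.integralClosure_eq_adjoin h P

end Groth.Agent.S11018
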