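import Groth.Statements.S11019
import Mathlib.RingTheory.Algebraic.Integral
import Mathlib.Tactic.Ring
import Mathlib.Tactic.LinearCombination
import Mathlib.Tactic.FieldSimp
import Mathlib.RingTheory.Polynomial.UniqueFactorization
import Mathlib.FieldTheory.Minpoly.Finite
import Mathlib.FieldTheory.Minpoly.Field
import Mathlib.RingTheory.Polynomial.GaussLemma
import Mathlib.RingTheory.IntegralClosure.IntegrallyClosed
import Mathlib.FieldTheory.IntermediateField.Adjoin.Basic


-- import your own Groth.Agent.* helpers here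

set_option autoImplicit false
open FunFld

namespace Groth.Agent.S11019

/-- For `char k ≠ 2` and `K = k(x, y)` with `x` transcendental and `y² = f(x)`, `f` squarefree of degree
`≥ 1`: the field `k` is algebraically closed in `K` (whatever in `K` is algebraic over `k` lies in
`k`), and `K/k` is a function field of one variable. -/
theorem result (k K : Type*) [Field k] [Field K] [Algebra k K] (h2 : ringChar k ≠ 2) (x y : K) (hx : Transcendental k x)
    (hxy : IntermediateField.adjoin k ({x, y} : Set K) = ⊤)
    (f : Polynomial k) (hf : Squarefree f) (hd : 1 ≤ f.natDegree)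
    (heq : y ^ 2 = Polynomial.aeval x f) : FunFld.IsFunctionField k K := by
  classical
  set F := IntermediateField.adjoin k ({x} : Set K) with hF
  have hfx : Polynomial.aeval x f ∈ F :=
    Polynomial.aeval_mem_adjoin_singleton k x |> IntermediateField.algebra_adjoin_le_adjoin k _
  let a : F := ⟨Polynomial.aeval x f, hfx⟩
  have hyint : IsIntegral F y := ⟨Polynomial.X ^ 2 - Polynomial.C a, Polynomial.monic_X_pow_sub_C a two_ne_zero, by
    rw [Polynomial.eval₂_sub, Polynomial.eval₂_pow, Polynomial.eval₂_X, Polynomial.eval₂_C, heq]; exact sub_self _⟩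
  have htop : IntermediateField.adjoin F ({y} : Set K) = ⊤ := by
    rw [eq_top_iff]
    intro z _
    have h1 : z ∈ (IntermediateField.adjoin F ({y} : Set K)).restrictScalars k := by
      rw [IntermediateField.adjoin_simple_adjoin_simple, hxy]; exact IntermediateField.mem_top
    exact h1
  have hfin : FiniteDimensional F K := by
    have := IntermediateField.adjoin.finiteDimensional hyint
    rw [htop] at this
    exact IntermediateField.topEquiv.toLinearEquiv.finiteDimensional
  have hdeg : (minpoly F y).natDegree ≤ 2 :=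
    (Polynomial.natDegree_le_of_dvd (minpoly.dvd F y (p := Polynomial.X ^ 2 - Polynomial.C a) (by
      rw [map_sub, map_pow, Polynomial.aeval_X, Polynomial.aeval_C, heq]; exact sub_self _))
      (Polynomial.monic_X_pow_sub_C a two_ne_zero).ne_zero).trans Polynomial.natDegree_X_pow_sub_C.le
  have hrank : Module.finrank F K ≤ 2 := by
    rw [← IntermediateField.finrank_top', ← htop, IntermediateField.adjoin.finrank hyint]; exact hdeg
  refine ⟨⟨x, hx, hfin⟩, fun c hc => ?_⟩
  -- algebraic elements of `k(x)` are constants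
  have hA : ∀ z ∈ F, IsAlgebraic k z → z ∈ Set.range (algebraMap k K) := fun z hz hzalg => by
    obtain ⟨p, q, rfl⟩ := (IntermediateField.mem_adjoin_simple_iff k z).1 hz
    set z := Polynomial.aeval x p / Polynomial.aeval x q with hzdef
    rcases eq_or_ne (Polynomial.aeval x q) 0 with hq | hq
    · rw [hzdef, hq, div_zero]; exact ⟨0, map_zero _⟩
    by_contra hz0
    set E := IntermediateField.adjoin k ({z} : Set K)
    let cz : E := ⟨z, IntermediateField.mem_adjoin_simple_self k z⟩
    let r : Polynomial E := p.map (algebraMap k E) - Polynomial.C cz * q.map (algebraMap k E)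
    have hr : r ≠ 0 := fun h0 => by
      obtain ⟨i, hi⟩ : ∃ i, q.coeff i ≠ 0 := by
        by_contra hall
        push Not at hall
        exact hq (by rw [Polynomial.ext (p := q) (q := 0) fun i => by simpa using hall i, map_zero])
      have h1 := congrArg (fun g : Polynomial E => ((g.coeff i : E) : K)) h0
      simp [r, cz] at h1
      refine hz0 ⟨p.coeff i / q.coeff i, ?_⟩
      rw [map_div₀, div_eq_iff ((map_ne_zero (algebraMap k K)).2 hi)]
      exact (sub_eq_zero.1 h1)
    have hxE : IsAlgebraic E x := ⟨r, hr, by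
      simp [r, cz, Polynomial.aeval_map_algebraMap, hzdef, div_mul_cancel₀ _ hq]⟩
    have : Algebra.IsAlgebraic k E :=
      IntermediateField.isAlgebraic_adjoin fun w hw => by rw [Set.mem_singleton_iff.1 hw]; exact hzalg.isIntegral
    exact hx (hxE.restrictScalars k)
  by_contra hc0
  have hcF : c ∉ F := fun h => hc0 (hA c h hc)
  have hcint : IsIntegral F c := IsIntegral.of_finite F c
  have hmc : (minpoly F c).natDegree = 2 := by
    have h1 := (minpoly.natDegree_le c).trans hrank
    have h2 : 2 ≤ (minpoly F c).natDegree := (minpoly.two_le_natDegree_iff hcint).2 fun ⟨b, hb⟩ => hcF (hb ▸ b.2)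
    omega
  have hcoef : ∀ i, ((minpoly F c).coeff i : K) ∈ Set.range (algebraMap k K) := fun i => by
    refine hA _ (SetLike.coe_mem _) ?_
    obtain ⟨g, hg⟩ := (Polynomial.mem_lifts _).1 (integralClosure.mem_lifts_of_monic_of_dvd_map F
      (minpoly.monic hc.isIntegral) (minpoly.monic hcint) (minpoly.dvd_map_of_isScalarTower k F c))
    rw [← hg, Polynomial.coeff_map]
    exact ((g.coeff i).2.isAlgebraic).algebraMap
  obtain ⟨u, hu⟩ := hcoef 1
  obtain ⟨v, hv⟩ := hcoef 0
  have hrel : c ^ 2 + algebraMap k K u * c + algebraMap k K v = 0 := by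
    have h1 := minpoly.aeval F c
    rw [Polynomial.aeval_eq_sum_range, hmc] at h1
    simp only [Finset.sum_range_succ, Finset.sum_range_zero, zero_add, pow_zero, pow_one, Algebra.smul_def, mul_one] at h1
    have h2 : (minpoly F c).coeff 2 = 1 := hmc ▸ (minpoly.monic hcint).coeff_natDegree
    rw [h2, map_one, one_mul] at h1
    rw [hu, hv]
    show c ^ 2 + algebraMap F K _ * c + algebraMap F K _ = 0
    linear_combination h1
  have h2K : (2 : K) ≠ 0 := by
    intro h
    apply Ring.two_ne_zero h2
    apply (algebraMap k K).injective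
    rw [map_ofNat, h, map_zero]
  set w := 2 * c + algebraMap k K u with hw
  set d := u ^ 2 - 4 * v with hdd
  have hw2 : w ^ 2 = algebraMap k K d := by
    rw [hw, hdd, map_sub, map_pow, map_mul, map_ofNat]
    linear_combination 4 * hrel
  have hwF : w ∉ F := fun h => hcF (by
    have : c = (w - algebraMap k K u) / 2 := by rw [hw]; field_simp; ring
    rw [this]
    exact div_mem (sub_mem h (IntermediateField.algebraMap_mem _ u)) (by exact_mod_cast natCast_mem F 2))
  have hwint : IsIntegral F w := IsIntegral.of_finite F w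
  have hwtop : IntermediateField.adjoin F ({w} : Set K) = ⊤ := by
    refine IntermediateField.eq_of_le_of_finrank_le le_top ?_
    rw [IntermediateField.finrank_top', IntermediateField.adjoin.finrank hwint]
    exact hrank.trans ((minpoly.two_le_natDegree_iff hwint).2 fun ⟨b, hb⟩ => hwF (hb ▸ b.2))
  -- write `y = r + s w`
  have hy : y ∈ Submodule.span F ({1, w} : Set K) := by
    suffices hall : ∀ z ∈ Algebra.adjoin F ({w} : Set K), z ∈ Submodule.span F ({1, w} : Set K) by
      refine hall y ?_
      rw [← IntermediateField.adjoin_simple_toSubalgebra_of_isAlgebraic hwint.isAlgebraic, hwtop]; trivial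
    intro z h1
    induction h1 using Algebra.adjoin_induction with
    | mem z hz => exact Submodule.subset_span (Or.inr hz)
    | algebraMap b => rw [Algebra.algebraMap_eq_smul_one]; exact Submodule.smul_mem _ _ (Submodule.subset_span (Or.inl rfl))
    | add a b _ _ ha hb => exact add_mem ha hb
    | mul a b _ _ ha hb =>
      obtain ⟨a₁, a₂, rfl⟩ := Submodule.mem_span_pair.1 ha
      obtain ⟨b₁, b₂, rfl⟩ := Submodule.mem_span_pair.1 hb
      let d' : F := ⟨algebraMap k K d, IntermediateField.algebraMap_mem _ d⟩
      refine Submodule.mem_span_pair.2 ⟨a₁ * b₁ + a₂ * b₂ * d', a₁ * b₂ + a₂ * b₁, ?_⟩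
      simp only [Algebra.smul_def, map_add, map_mul, mul_one]
      rw [show algebraMap F K d' = w ^ 2 from hw2.symm]
      ring
  obtain ⟨r, s, hrs⟩ := Submodule.mem_span_pair.1 hy
  rw [Algebra.smul_def, Algebra.smul_def, mul_one] at hrs
  set R := algebraMap F K r
  set S := algebraMap F K s
  have hR : R ∈ F := r.2
  have hS : S ∈ F := s.2
  have hsq : (2 * R * S) * w = Polynomial.aeval x f - R ^ 2 - S ^ 2 * algebraMap k K d := by
    rw [← heq, ← hrs, ← hw2]; ring
  have hRS : R * S = 0 := by
    by_contra hne
    refine hwF ?_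
    have : w = (Polynomial.aeval x f - R ^ 2 - S ^ 2 * algebraMap k K d) / (2 * R * S) := by
      rw [← hsq, mul_div_cancel_left₀]
      rw [mul_assoc]; exact mul_ne_zero h2K hne
    rw [this]
    exact div_mem (sub_mem (sub_mem hfx (pow_mem hR 2)) (mul_mem (pow_mem hS 2) (IntermediateField.algebraMap_mem _ d)))
      (mul_mem (mul_mem (by exact_mod_cast natCast_mem F 2) hR) hS)
  -- then `f = d s²` or `f = r²`
  obtain ⟨e, T, hT, hfT⟩ : ∃ (e : k) (T : K), T ∈ F ∧ Polynomial.aeval x f = algebraMap k K e * T ^ 2 := by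
    rcases mul_eq_zero.1 hRS with h | h
    · refine ⟨d, S, hS, ?_⟩
      rw [h] at hsq
      linear_combination -hsq
    · refine ⟨1, R, hR, ?_⟩
      rw [h] at hsq
      rw [map_one, one_mul]
      linear_combination -hsq
  obtain ⟨p, q, rfl⟩ := (IntermediateField.mem_adjoin_simple_iff k T).1 hT
  have hf0 : f ≠ 0 := hf.ne_zero
  have hfu : ¬ IsUnit f := fun h => by rw [Polynomial.natDegree_eq_zero_of_isUnit h] at hd; omega
  have hinjx : Function.Injective (Polynomial.aeval x : Polynomial k → K) := transcendental_iff_injective.1 hx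
  have hne : Polynomial.aeval x f ≠ 0 := fun h => hf0 (hinjx (by rw [h, map_zero]))
  rcases eq_or_ne (Polynomial.aeval x q) 0 with hq | hq
  · rw [hq, div_zero, zero_pow two_ne_zero, mul_zero] at hfT
    exact hne hfT
  obtain ⟨p', q', g, hcop, rfl, rfl⟩ := UniqueFactorizationMonoid.exists_reduced_factors' p q (fun h => hq (by rw [h, map_zero]))
  simp only [map_mul] at hfT hq
  have hg : Polynomial.aeval x g ≠ 0 := (mul_ne_zero_iff.1 hq).1
  rw [mul_div_mul_left _ _ hg] at hfT
  have hq' : Polynomial.aeval x q' ≠ 0 := (mul_ne_zero_iff.1 hq).2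
  have hpoly : f * q' ^ 2 = Polynomial.C e * p' ^ 2 := hinjx (by
    rw [map_mul, map_mul, map_pow, map_pow, Polynomial.aeval_C, hfT]
    field_simp)
  have he : e ≠ 0 := fun h => by rw [h, map_zero, zero_mul] at hfT; exact hne hfT
  have hCe : IsUnit (Polynomial.C e) := Polynomial.isUnit_C.2 (isUnit_iff_ne_zero.2 he)
  have hfp : f ∣ p' := (hf.dvd_pow_iff_dvd two_ne_zero).1 (hCe.dvd_mul_left.1 ⟨q' ^ 2, hpoly.symm⟩)
  obtain ⟨p'', rfl⟩ := hfp
  have hfq : f ∣ q' := (hf.dvd_pow_iff_dvd two_ne_zero).1 ⟨Polynomial.C e * p'' ^ 2, mul_left_cancel₀ hf0 (by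
    rw [hpoly]; ring)⟩
  exact hfu (hcop (dvd_mul_right f p'') hfq)

end Groth.Agent.S11019
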