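import Groth.Statements.S11022
import Groth.Agent.FFLib.ExtGalois

set_option autoImplicit false
open FunFld

namespace Groth.Agent.S11022

/-- In a finite Galois extension of a geometric function field of one variable, `|G : G₀|` is the number
of places above `P`, and all places above `P` share the same `e` and `f`. -/
theorem result (k K K' : Type*) [Field k] [Field K] [Field K'] [Algebra k K] [Algebra K K'] [Algebra k K']
    [IsScalarTower k K K'] [FiniteDimensional K K'] (hK : FunFld.IsFunctionField k K) (hg : FunFld.IsGeometric k K) [IsGalois K K'] (Q : FunFld.Place k K') (P : FunFld.Place k K) (e : ℕ) (he : FunFld.IsOverWith Q P e) :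
    Nat.card {Q' : FunFld.Place k K' // FunFld.IsOver Q' P} *
        Nat.card ((Q.O).decompositionSubgroup K) = Module.finrank K K' ∧
    ∀ Q' : FunFld.Place k K', FunFld.IsOver Q' P → FunFld.IsOverWith Q' P e ∧ Q'.deg = Q.deg := by
  have hQ : Q ∈ Groth.Agent.FFLib.overs hK P := (Groth.Agent.FFLib.mem_overs hK).2 ⟨e, he⟩
  refine ⟨?_, fun Q' hQ' => ?_⟩
  · rw [← Groth.Agent.FFLib.card_decomposition_mul_card_overs hK hQ]
    congr 1
    rw [← Nat.card_eq_finsetCard]
    exact Nat.card_congr (Equiv.subtypeEquivRight fun R => (Groth.Agent.FFLib.mem_overs hK).symm)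
  · obtain ⟨σ, rfl⟩ := Groth.Agent.FFLib.exists_placeMap_eq hK hQ ((Groth.Agent.FFLib.mem_overs hK).2 hQ')
    exact ⟨Groth.Agent.FFLib.isOverWith_placeMap he σ, Groth.Agent.FFLib.deg_placeMap hK σ Q⟩

end Groth.Agent.S11022
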