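import Groth.Statements.S11024
import Groth.Agent.FFLib.ExtRam

set_option autoImplicit false
open FunFld

namespace Groth.Agent.S11024

/-- The quotient `G₁/G₂` of the first two ramification groups of a place in a finite Galois extension of
a geometric function field of one variable is cyclic. (Residue field of `Q` assumed separable over
`k`, stronger than the published `F_Q/F_P` separable.) -/
theorem result (k K K' : Type*) [Field k] [Field K] [Field K'] [Algebra k K] [Algebra K K'] [Algebra k K']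
    [IsScalarTower k K K'] [FiniteDimensional K K'] (hK : FunFld.IsFunctionField k K) (hg : FunFld.IsGeometric k K) [IsGalois K K'] (Q : FunFld.Place k K') [Algebra.IsSeparable k (IsLocalRing.ResidueField Q.O)] :
    ∃ σ₀ : K' ≃ₐ[K] K', (∀ x : K', Q.1 x ≤ 1 → Q.1 (σ₀ x - x) ≤ WithZero.exp (-(1 : ℤ))) ∧
      ∀ σ : K' ≃ₐ[K] K', (∀ x : K', Q.1 x ≤ 1 → Q.1 (σ x - x) ≤ WithZero.exp (-(1 : ℤ))) →
        ∃ n : ℕ, (∀ x : K', Q.1 x ≤ 1 → Q.1 (((σ₀ ^ n)⁻¹ * σ) x - x) ≤ WithZero.exp (-(2 : ℤ))) := by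
  classical
  obtain ⟨t, ht0, ht1, ht⟩ := Groth.Agent.FFLib.exists_uniformizer Q
  set G₁ := Groth.Agent.FFLib.ramGroup (K := K) Q 1 with hG₁
  have hv : ∀ σ : G₁, Q.1 ((σ : K' ≃ₐ[K] K') t / t) ≤ 1 := fun σ => by
    rw [map_div₀, (σ.2).v_eq, div_self (Groth.Agent.FFLib.v_ne_zero Q ht0)]
  let z : G₁ → Q.O := fun σ => ⟨(σ : K' ≃ₐ[K] K') t / t, hv σ⟩
  let χ : G₁ →* IsLocalRing.ResidueField Q.O :=
    { toFun := fun σ => IsLocalRing.residue Q.O (z σ)
      map_one' := by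
        rw [← map_one (IsLocalRing.residue Q.O)]
        exact congrArg _ (Subtype.ext (by simp [z, AlgEquiv.one_apply, ht0]))
      map_mul' := fun σ τ => by
        rw [← map_mul, ← sub_eq_zero, ← map_sub, Groth.Agent.FFLib.residue_eq_zero_iff_lt]
        show Q.1 ((σ.1 * τ.1) t / t - σ.1 t / t * (τ.1 t / t)) < 1
        have hσt : σ.1 t ≠ 0 := (map_ne_zero σ.1).2 ht0
        have e : (σ.1 * τ.1) t / t - σ.1 t / t * (τ.1 t / t) =
            σ.1 t / t * (σ.1 (τ.1 t / t) - τ.1 t / t) := by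
          rw [AlgEquiv.mul_apply, map_div₀]
          field_simp
        rw [e, map_mul]
        refine lt_of_le_of_lt (mul_le_of_le_one_left' (hv σ)) ?_
        exact (σ.2 _ (hv τ)).trans_lt (by rw [← WithZero.exp_zero, WithZero.exp_lt_exp]; norm_num) }
  have : Finite χ.toHomUnits.range := Finite.of_surjective _ χ.toHomUnits.rangeRestrict_surjective
  obtain ⟨⟨g, σ₀, rfl⟩, hg⟩ := IsCyclic.exists_generator (α := χ.toHomUnits.range)
  refine ⟨σ₀.1, σ₀.2, fun σ hσ => ?_⟩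
  have hmem := mem_powers_iff_mem_zpowers.2 (hg ⟨_, ⟨σ, hσ⟩, rfl⟩)
  obtain ⟨n, hn⟩ := hmem
  refine ⟨n, ?_⟩
  set ρ : G₁ := (σ₀ ^ n)⁻¹ * ⟨σ, hσ⟩ with hρ
  have hρ1 : χ.toHomUnits ρ = 1 := by
    rw [hρ, map_mul, map_inv, map_pow, inv_mul_eq_one]
    exact congrArg Subtype.val hn
  have hχ : IsLocalRing.residue Q.O (z ρ) = IsLocalRing.residue Q.O 1 := by
    rw [map_one]; exact congrArg Units.val hρ1
  rw [← sub_eq_zero, ← map_sub, Groth.Agent.FFLib.residue_eq_zero_iff_lt] at hχ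
  have h2 : Q.1 (ρ.1 t - t) ≤ WithZero.exp (-((2 : ℕ) : ℤ)) := by
    have h3 : Q.1 (ρ.1 t / t - 1) < 1 := hχ
    rw [show ρ.1 t - t = t * (ρ.1 t / t - 1) by field_simp, map_mul, ht]
    rcases eq_or_ne (ρ.1 t / t - 1) 0 with h0 | h0
    · simp [h0]
    · rw [Groth.Agent.FFLib.v_eq Q h0, ← WithZero.exp_add, WithZero.exp_le_exp]
      have := (Groth.Agent.FFLib.v_lt_one_iff Q h0).1 h3
      push_cast; omega
  exact (Groth.Agent.FFLib.inG_iff Q ρ.2 ht (j := 2) (by norm_num)).2 h2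

end Groth.Agent.S11024
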