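import Groth.Statements.S11025
import Groth.Agent.FFLib.ExtRam

set_option autoImplicit false
open FunFld

namespace Groth.Agent.S11025

/-- For `i ≥ 2` the ramification quotient `G_i/G_{i+1}` embeds in the additive group of the residue
field: it is abelian, trivial in characteristic `0`, and elementary abelian of exponent `p` in
characteristic `p`. (Residue field of `Q` assumed separable over `k`.) -/
theorem result (k K K' : Type*) [Field k] [Field K] [Field K'] [Algebra k K] [Algebra K K'] [Algebra k K']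
    [IsScalarTower k K K'] [FiniteDimensional K K'] (hK : FunFld.IsFunctionField k K) (hg : FunFld.IsGeometric k K) [IsGalois K K'] (Q : FunFld.Place k K') [Algebra.IsSeparable k (IsLocalRing.ResidueField Q.O)]
    (i : ℕ) (hi : 2 ≤ i) (σ τ : K' ≃ₐ[K] K') (hσ : (∀ x : K', Q.1 x ≤ 1 → Q.1 (σ x - x) ≤ WithZero.exp (-(i : ℤ)))) (hτ : (∀ x : K', Q.1 x ≤ 1 → Q.1 (τ x - x) ≤ WithZero.exp (-(i : ℤ)))) :
    (∀ x : K', Q.1 x ≤ 1 → Q.1 ((σ * τ * σ⁻¹ * τ⁻¹) x - x) ≤ WithZero.exp (-((i + 1) : ℤ))) ∧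
    (ringChar K = 0 → (∀ x : K', Q.1 x ≤ 1 → Q.1 (σ x - x) ≤ WithZero.exp (-((i + 1) : ℤ)))) ∧
    ∀ p : ℕ, p.Prime → ringChar K = p → (∀ x : K', Q.1 x ≤ 1 → Q.1 ((σ ^ p) x - x) ≤ WithZero.exp (-((i + 1) : ℤ))) := by
  classical
  obtain ⟨t, ht0, ht1, ht⟩ := Groth.Agent.FFLib.exists_uniformizer Q
  have hσ' : Groth.Agent.FFLib.InG Q i σ := hσ
  have hτ' : Groth.Agent.FFLib.InG Q i τ := hτ
  have key : ∀ ρ : K' ≃ₐ[K] K', Groth.Agent.FFLib.InG Q i ρ →
      Q.1 (ρ t - t) ≤ WithZero.exp (-((i : ℤ) + 1)) →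
      ∀ x : K', Q.1 x ≤ 1 → Q.1 (ρ x - x) ≤ WithZero.exp (-((i + 1) : ℤ)) := fun ρ hρ h x hx => by
    have := (Groth.Agent.FFLib.inG_iff Q (hρ.mono (by omega)) ht (j := i + 1) (by omega)).2
      (by exact_mod_cast h) x hx
    exact_mod_cast this
  set δ : (K' ≃ₐ[K] K') → K' := fun ρ => ρ t - t with hδ
  have hd1 : δ 1 = 0 := by simp [hδ, AlgEquiv.one_apply]
  refine ⟨key _ (((hσ'.mul hτ').mul hσ'.inv).mul hτ'.inv) ?_, fun hc => key _ hσ' ?_, fun p hp hc => key _ ?_ ?_⟩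
  · have h1 := Groth.Agent.FFLib.shift_mul hi ((hσ'.mul hτ').mul hσ'.inv) hτ'.inv ht
    have h2 := Groth.Agent.FFLib.shift_mul hi (hσ'.mul hτ') hσ'.inv ht
    have h3 := Groth.Agent.FFLib.shift_mul hi hσ' hτ' ht
    have h4 := Groth.Agent.FFLib.shift_mul hi hσ' hσ'.inv ht
    have h5 := Groth.Agent.FFLib.shift_mul hi hτ' hτ'.inv ht
    rw [mul_inv_cancel] at h4 h5
    show Q.1 (δ (σ * τ * σ⁻¹ * τ⁻¹)) ≤ _
    have e : δ (σ * τ * σ⁻¹ * τ⁻¹) = (δ (σ * τ * σ⁻¹ * τ⁻¹) - (δ (σ * τ * σ⁻¹) + δ τ⁻¹)) +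
        (δ (σ * τ * σ⁻¹) - (δ (σ * τ) + δ σ⁻¹)) + (δ (σ * τ) - (δ σ + δ τ)) -
        (δ 1 - (δ σ + δ σ⁻¹)) - (δ 1 - (δ τ + δ τ⁻¹)) := by
      rw [hd1]; ring
    rw [e]
    exact (Q.1.map_sub _ _).trans (max_le ((Q.1.map_sub _ _).trans (max_le ((Q.1.map_add _ _).trans
      (max_le ((Q.1.map_add _ _).trans (max_le h1 h2)) h3)) h4)) h5)
  · have hpw := Groth.Agent.FFLib.shift_pow hi hσ' ht (orderOf σ)
    rw [pow_orderOf_eq_one, AlgEquiv.one_apply, sub_self, zero_sub, Valuation.map_neg, map_mul] at hpw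
    have : CharZero K := (CharP.ringChar_zero_iff_CharZero K).1 hc
    have : CharZero k := (RingHom.charZero_iff (algebraMap k K).injective).2 inferInstance
    have hn : Q.1 ((orderOf σ : ℕ) : K') = 1 := by
      rw [← map_natCast (algebraMap k K'), Groth.Agent.FFLib.v_const Q]
      exact_mod_cast (orderOf_pos σ).ne'
    rwa [hn, one_mul] at hpw
  · exact pow_mem (show σ ∈ Groth.Agent.FFLib.ramGroup Q i from hσ') p
  · have := Groth.Agent.FFLib.shift_pow hi hσ' ht p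
    have hp0 : (p : K') = 0 := by
      rw [← map_natCast (algebraMap K K'), show (p : K) = 0 by rw [← hc]; exact ringChar.Nat.cast_ringChar, map_zero]
    rwa [hp0, zero_mul, sub_zero] at this

end Groth.Agent.S11025
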