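import Groth.Statements.S11026
import Groth.Agent.GeomFFLib.Basic
-- import your own Groth.Agent.* helpers here

set_option autoImplicit false
universe u v
open FunFld

namespace Groth.Agent.S11026

/-- A weakly separable finite extension `K'/k'` of a geometric function field `K/k` (the map `Ω_{K/k} →
Ω_{K'/k'}` injective) is separable over the compositum `k'K`. -/
theorem result (k k' : Type u) (K K' : Type v) [Field k] [Field k'] [Field K] [Field K']
    [Algebra k k'] [Algebra k K] [Algebra K K'] [Algebra k' K'] [Algebra k K']
    [IsScalarTower k k' K'] [IsScalarTower k K K'] [FiniteDimensional K K']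
    (hK : FunFld.IsFunctionField k K) (hg : FunFld.IsGeometric k K)
    (hK' : FunFld.IsFunctionField k' K') (hg' : FunFld.IsGeometric k' K')
    (hw : Function.Injective (KaehlerDifferential.map k k' K K')) :
    Algebra.IsSeparable (IntermediateField.adjoin K (Set.range (algebraMap k' K'))) K' := by
  classical
  open Groth.Agent.GeomFFLib in
  obtain ⟨x, hx⟩ := exists_separating hK hg
  obtain ⟨hDx, -⟩ := D_ne_zero_of_sep hK hx
  have hD' : KaehlerDifferential.D k' K' (algebraMap K K' x) ≠ 0 := fun e => hDx (hw (by
    rw [KaehlerDifferential.map_D, e, map_zero]))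
  haveI := sep_of_D_ne_zero hK' hg' hD'
  set L := IntermediateField.adjoin k' ({algebraMap K K' x} : Set K')
  set M := IntermediateField.adjoin K (Set.range (algebraMap k' K'))
  have hle : ∀ z ∈ L, z ∈ M := fun z hz => by
    induction hz using IntermediateField.adjoin_induction with
    | mem a ha => rw [Set.mem_singleton_iff.1 ha]; exact M.algebraMap_mem x
    | algebraMap c => exact IntermediateField.subset_adjoin K _ ⟨c, rfl⟩
    | add a b _ _ ha hb => exact add_mem ha hb
    | inv a _ ha => exact inv_mem ha
    | mul a b _ _ ha hb => exact mul_mem ha hb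
  letI : Algebra L M := ((L.val.toRingHom).codRestrict M fun z => hle z z.2).toAlgebra
  haveI : IsScalarTower L M K' := IsScalarTower.of_algebraMap_eq fun _ => rfl
  exact Algebra.isSeparable_tower_top_of_isSeparable L M K'

end Groth.Agent.S11026
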