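import Groth.Statements.S11028
import Groth.Agent.FFLib.QuadGenus


-- import your own Groth.Agent.* helpers here

set_option autoImplicit false
open FunFld

namespace Groth.Agent.S11028

/-- For `k` perfect of characteristic `2` and `K = k(x, y)` with `y² + y = f(x)`, all poles of `f` of
odd order `2d_i - 1` at places `p_i` of `k(x)`, the genus of `K` is `-1 + ∑ d_i deg p_i`. -/
theorem result (k K : Type*) [Field k] [Field K] [PerfectField k] (h2 : ringChar k = 2) [Algebra k K]
    [Algebra (RatFunc k) K] [IsScalarTower k (RatFunc k) K] (hK : FunFld.IsFunctionField k K)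
    (hdeg : Module.finrank (RatFunc k) K = 2) (y : K) (hy : y ∉ Set.range (algebraMap (RatFunc k) K))
    (f : RatFunc k) (heq : y ^ 2 + y = algebraMap (RatFunc k) K f)
    (hodd : ∀ P : FunFld.Place k (RatFunc k), FunFld.div k f P < 0 → Odd (FunFld.div k f P)) :
    (FunFld.genus k K : ℤ) = -1 + ∑ P ∈ (FunFld.div k f).support with FunFld.div k f P < 0,
      (1 - FunFld.div k f P) / 2 * (P.deg : ℤ) := by
  open Groth.Agent.FFLib in
  classical
  have hK1 := fg1_ratFunc (k := k)
  set D : FunFld.Divisor k (RatFunc k) :=
    ∑ P ∈ (FunFld.div k f).support with FunFld.div k f P < 0, Finsupp.single P ((1 - FunFld.div k f P) / 2) with hD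
  have hDP : ∀ P, D P = if P.ord f < 0 then (1 - P.ord f) / 2 else 0 := by
    intro P
    rw [hD, Finsupp.finsetSum_apply]
    simp only [Finsupp.single_apply, Finset.sum_ite_eq', Finset.mem_filter, Finsupp.mem_support_iff, div_apply hK1]
    by_cases h : P.ord f < 0
    · rw [if_pos ⟨h.ne, h⟩, if_pos h]
    · rw [if_neg (fun h' => h h'.2), if_neg h]
  rw [genus_of_split hdeg hK hy (v := (1 : RatFunc k)) (g := f) (by rw [map_one, one_mul, heq]) D fun P m a b => by
    rw [hDP P]
    exact split_as hdeg h2 hy heq P (fun h => by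
      have := hodd P (by rwa [div_apply hK1])
      rwa [div_apply hK1] at this) m a b]
  rw [hD, show FunFld.Divisor.deg (∑ P ∈ (FunFld.div k f).support with FunFld.div k f P < 0, Finsupp.single P ((1 - FunFld.div k f P) / 2)) =
    ∑ P ∈ (FunFld.div k f).support with FunFld.div k f P < 0, FunFld.Divisor.deg (Finsupp.single P ((1 - FunFld.div k f P) / 2)) from map_sum degHom _ _]
  simp only [deg_single]
  ring

end Groth.Agent.S11028
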