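import Groth.Statements.S11029
import Groth.Agent.FFLib.ExtRam

set_option autoImplicit false
open FunFld

namespace Groth.Agent.S11029

/-- For an intermediate field `E` of a finite Galois extension `K'/K` of a geometric function field of
one variable and a place `Q` of `K'`, `e(Q ∩ E | Q ∩ K) = 1` iff `E` lies in the inertia field `K₁`
of `Q`. (Residue field of `Q` assumed separable over `k`; the total ramification of `K'/K₁` is not
stated.) -/
theorem result (k K K' : Type*) [Field k] [Field K] [Field K'] [Algebra k K] [Algebra K K'] [Algebra k K']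
    [IsScalarTower k K K'] [FiniteDimensional K K'] (hK : FunFld.IsFunctionField k K) (hg : FunFld.IsGeometric k K) [IsGalois K K'] (Q : FunFld.Place k K') [Algebra.IsSeparable k (IsLocalRing.ResidueField Q.O)]
    (E : IntermediateField K K') :
    Set.range (Q.1.comap (algebraMap E K')) = Set.range (Q.1.comap (algebraMap K K')) ↔
      E ≤ IntermediateField.fixedField
        (((Q.O).inertiaSubgroup K).map ((Q.O).decompositionSubgroup K).subtype) := by
  classical
  have : IsScalarTower k E K' := IsScalarTower.of_algebraMap_eq fun x => rfl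
  rw [Groth.Agent.FFLib.range_comap_eq_iff hK.1, Groth.Agent.FFLib.underIdx_mid hK.1,
    ← Groth.Agent.FFLib.card_ramGroup_one hK.1, Groth.Agent.FFLib.inertia_map_eq]
  constructor
  · intro h x hx
    rw [IntermediateField.mem_fixedField_iff]
    intro σ hσ
    by_contra hne
    refine (lt_irrefl (Nat.card (Groth.Agent.FFLib.ramGroup (K := K) Q 1))) ?_
    conv_lhs => rw [← h]
    rw [Nat.card_eq_fintype_card, Nat.card_eq_fintype_card]
    refine Fintype.card_lt_of_injective_of_notMem (fun τ => ⟨τ.1, τ.2.1⟩)
      (fun a b hab => Subtype.ext (congrArg (fun z : Groth.Agent.FFLib.ramGroup (K := K) Q 1 => z.1) hab))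
      (b := ⟨σ, hσ⟩) ?_
    rintro ⟨τ, hτ⟩
    have h' : τ.1 = σ := congrArg Subtype.val hτ
    exact hne (h' ▸ τ.2.2 ⟨x, hx⟩)
  · intro h
    exact Nat.card_congr (Equiv.subtypeEquivRight fun σ =>
      ⟨fun hσ => hσ.1, fun hσ => ⟨hσ, fun x =>
        (IntermediateField.mem_fixedField_iff _ _).1 (h x.2) σ hσ⟩⟩)

end Groth.Agent.S11029
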