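import Groth.Statements.S11030
import Groth.Agent.FFLib.ExtClosure
import Groth.Agent.S11005
import Groth.Agent.GeomFFLib.Power


-- import your own Groth.Agent.* helpers here

set_option autoImplicit false
universe u v
open FunFld

namespace Groth.Agent.S11030

/-- In a geometric function field of one variable, a local parameter at a place with separable residue
field is a separating variable: `dt ≠ 0` in `Ω_{K/k}`. (The duality isomorphism `Ω_K ≅ W_K` and the
order of `dt` at `P` are not stated.) -/
theorem result (k : Type u) (K : Type v) [Field k] [Field K] [Algebra k K]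
    (hK : FunFld.IsFunctionField k K) (hg : FunFld.IsGeometric k K) (P : FunFld.Place k K)
    [Algebra.IsSeparable k (IsLocalRing.ResidueField P.O)] (t : K) (ht : P.1 t = WithZero.exp (-1)) :
    KaehlerDifferential.D k K t ≠ 0 := by
  classical
  have hgt : ∀ y : K, P.1 y ≠ 0 → P.1 y < 1 → Transcendental k y := fun y h0 h1 halg => by
    obtain ⟨c, rfl⟩ := hK.2 y halg
    have hc : c ≠ 0 := fun h => h0 (by simp [h])
    have h2 := P.2.1 c⁻¹
    rw [map_inv₀, map_inv₀] at h2
    exact absurd h2 (not_le.2 ((one_lt_inv₀ (zero_lt_iff.2 h0)).2 h1))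
  have hexp : (WithZero.exp (-1) : WithZero (Multiplicative ℤ)) < 1 := by
    rw [← WithZero.exp_zero, WithZero.exp_lt_exp]; omega
  have htt : Transcendental k t := hgt t (by rw [ht]; exact WithZero.exp_ne_zero) (ht ▸ hexp)
  have htfin := GeomFFLib.finite_adjoin' hK htt
  obtain _ | ⟨p, hp, hpk⟩ := CharP.exists' K
  · exact (GeomFFLib.D_ne_zero_of_sep hK (x := t) inferInstance).1
  intro hdt
  set M := GeomFFLib.M k K p with hMdef
  have htM : t ∈ M := (GeomFFLib.mem_M_iff p hK hg).2 hdt
  have hdeg := GeomFFLib.finrank_M p hK hg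
  have hfin : FiniteDimensional M K := Module.finite_of_finrank_pos (by rw [hMdef, hdeg]; exact hp.out.pos)
  have hMK : FunFld.IsFunctionField k M := (S11005.result k K hK hg M ⟨t, htM, htt⟩).1
  let v' := P.1.comap (algebraMap M K)
  let P' : FunFld.Place k M := ⟨v', fun c => P.2.1 c, fun a => by
    rcases eq_or_ne a 0 with rfl | ha
    · exact ⟨0, map_zero _⟩
    · refine ⟨(⟨t, htM⟩ : M) ^ (-WithZero.log a), ?_⟩
      rw [map_zpow₀]
      show P.1 t ^ _ = a
      rw [ht, ← WithZero.exp_zsmul, smul_neg, smul_eq_mul, mul_one, neg_neg, WithZero.exp_log ha]⟩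
  have hint : ∀ y : K, P.1 y ≤ 1 → IsIntegral P'.O y := fun y hy => by
    refine IsIntegral.of_pow hp.out.pos ?_
    have h1 : (⟨y ^ p, GeomFFLib.pow_mem p y⟩ : M) ∈ P'.O := by
      show P.1 (y ^ p) ≤ 1
      rw [map_pow]; exact pow_le_one' hy p
    exact (isIntegral_algebraMap (x := (⟨_, h1⟩ : P'.O)) : IsIntegral P'.O (algebraMap P'.O K ⟨_, h1⟩))
  have hle : ∀ y : K, IsIntegral P'.O y → P.1 y ≤ 1 := fun y hy => by
    obtain ⟨q, hq, hq0⟩ := hy
    let f : P'.O →+* P.O := ((algebraMap M K).comp P'.O.subtype).codRestrict P.O.toSubring fun c => c.2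
    have hy' : IsIntegral P.O y := ⟨q.map f, hq.map f, by rw [Polynomial.eval₂_map]; exact hq0⟩
    obtain ⟨⟨z, hz⟩, rfl⟩ := IsIntegrallyClosed.isIntegral_iff.1 hy'
    exact hz
  have hres : ∀ y : K, P.1 y ≤ 1 → ∃ c : M, P.1 (c : K) ≤ 1 ∧ P.1 (y - c) < 1 := fun y hy => by
    let yo : P.O := ⟨y, hy⟩
    let ρ := IsLocalRing.residue P.O
    have : CharP k p := (RingHom.charP_iff (algebraMap k K) (RingHom.injective _) p).2 inferInstance
    have : CharP (IsLocalRing.ResidueField P.O) p :=
      (RingHom.charP_iff (algebraMap k (IsLocalRing.ResidueField P.O)) (RingHom.injective _) p).1 inferInstance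
    have : ExpChar k p := .prime hp.out
    have hsep : IsSeparable k (ρ yo) := Algebra.IsSeparable.isSeparable k _
    have hmem : ρ yo ∈ IntermediateField.adjoin k ({(ρ yo) ^ p} : Set (IsLocalRing.ResidueField P.O)) := by
      have h1 := IntermediateField.adjoin_simple_eq_adjoin_pow_expChar_of_isSeparable k _ hsep p
      rw [← h1]
      exact IntermediateField.mem_adjoin_simple_self k _
    have hmem' : ρ yo ∈ Algebra.adjoin k ({(ρ yo) ^ p} : Set (IsLocalRing.ResidueField P.O)) := by
      rwa [← IntermediateField.adjoin_simple_toSubalgebra_of_isAlgebraic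
        (Algebra.IsAlgebraic.isAlgebraic _)]
    obtain ⟨q, hq⟩ := Algebra.adjoin_singleton_eq_range_aeval k ((ρ yo) ^ p) ▸ hmem'
    let co : P.O := Polynomial.aeval (yo ^ p) q
    have hco : (co : K) ∈ M := by
      have h2 : (co : K) = Polynomial.aeval (y ^ p) q := by
        show P.O.subtype (Polynomial.aeval (yo ^ p) q) = _
        rw [Polynomial.aeval_def, Polynomial.hom_eval₂]
        rfl
      rw [h2]
      exact (Polynomial.aeval_algHom_apply M.val (⟨y ^ p, GeomFFLib.pow_mem p y⟩ : M) q).symm ▸ Subtype.prop _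
    refine ⟨⟨(co : K), hco⟩, co.2, ?_⟩
    have h3 : ρ (yo - co) = 0 := by
      rw [map_sub, sub_eq_zero]
      refine hq.symm.trans ?_
      show Polynomial.aeval ((ρ yo) ^ p) q = ρ (Polynomial.aeval (yo ^ p) q)
      rw [Polynomial.aeval_def, Polynomial.aeval_def, Polynomial.hom_eval₂, map_pow]
      rfl
    have h4 : yo - co ∈ IsLocalRing.maximalIdeal P.O := (IsLocalRing.residue_eq_zero_iff _).1 h3
    exact lt_of_le_of_ne (yo - co).2 fun h5 => h4 <| (Valuation.integer.integers P.1).isUnit_iff_valuation_eq_one.2 h5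
  have hFG : Module.Finite P'.O (integralClosure P'.O K) :=
    FFLib.integralClosure_finite' (k := k) (K := M) (K' := K) hMK.1 P'
  let t' : P'.O := ⟨⟨t, htM⟩, by show P.1 t ≤ 1; rw [ht]; exact hexp.le⟩
  have ht' : t' ∈ IsLocalRing.maximalIdeal P'.O := fun hu => by
    have h1 := (Valuation.integer.integers v').isUnit_iff_valuation_eq_one.1 hu
    exact hexp.ne (ht ▸ h1)
  let N : Submodule P'.O K := Subalgebra.toSubmodule (integralClosure P'.O K)
  let R₀ : Submodule P'.O K := Submodule.span P'.O {1}
  have hN : N ≤ R₀ := by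
    refine Submodule.le_of_le_smul_of_le_jacobson_bot (I := IsLocalRing.maximalIdeal P'.O) ?_
      (IsLocalRing.maximalIdeal_le_jacobson _) ?_
    · exact Module.Finite.iff_fg.1 hFG
    · intro y hy
      obtain ⟨c, hc1, hc2⟩ := hres y (hle y hy)
      let c' : P'.O := ⟨c, hc1⟩
      have hz : (y - c) / t ∈ N := hint _ (by
        rcases eq_or_ne (y - (c : K)) 0 with h0 | h0
        · rw [h0, zero_div, map_zero]; exact zero_le'
        rw [map_div₀, ht]
        refine (div_le_one₀ WithZero.exp_pos).2 ?_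
        have h6 : P.1 (y - c) ≠ 0 := (Valuation.ne_zero_iff _).2 h0
        have h7 := (WithZero.log_lt_iff_lt_exp h6).2 (hc2.trans_eq WithZero.exp_zero.symm)
        exact (WithZero.log_le_iff_le_exp h6).1 (by omega))
      have hyd : y = c' • (1 : K) + t' • ((y - c) / t) := by
        have ht0 : t ≠ 0 := fun h => by rw [h, map_zero] at ht; exact WithZero.exp_ne_zero ht.symm
        rw [Algebra.smul_def, Algebra.smul_def, mul_one]
        show y = (c : K) + t * ((y - c) / t)
        rw [mul_div_cancel₀ _ ht0]; ring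
      rw [hyd]
      exact Submodule.add_mem_sup (Submodule.smul_mem _ _ (Submodule.subset_span rfl))
        (Submodule.smul_mem_smul ht' hz)
  have hall : ∀ y : K, P.1 y ≤ 1 → y ∈ M := fun y hy => by
    obtain ⟨r, hr⟩ := Submodule.mem_span_singleton.1 (hN (hint y hy))
    rw [← hr, Algebra.smul_def, mul_one]
    exact r.1.2
  have hMtop : M = ⊤ := eq_top_iff.2 fun y _ => by
    rcases le_total (P.1 y) 1 with h | h
    · exact hall y h
    · have := hall y⁻¹ (by rw [map_inv₀]; exact inv_le_one_of_one_le₀ h)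
      exact inv_inv y ▸ M.inv_mem this
  have hone : Module.finrank M K = 1 := by rw [hMtop]; exact IntermediateField.finrank_top
  rw [hMdef, hdeg] at hone
  exact hp.out.one_lt.ne' hone

end Groth.Agent.S11030
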