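import Groth.Statements.S11031
import Groth.Agent.FFLib.RR

set_option autoImplicit false
open FunFld

namespace Groth.Agent.S11031

/-- An effective divisor `D` of degree `< g` on a function field of one variable of genus `g` is
special: some nonzero Weil differential vanishes on `A(D) + K`. (The published statement is phrased
with differential forms `Ω_K(D)`, identified with `W_K(D)` by duality; the Weil-differential form is
stated.) -/
theorem result (k K : Type*) [Field k] [Field K] [Algebra k K]
    (hK : FunFld.IsFunctionField k K) (D : FunFld.Divisor k K) (hD : 0 ≤ D) (hdeg : D.deg < FunFld.genus k K) :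
    ∃ ω : Module.Dual k (FunFld.adele k K), ω ≠ 0 ∧ ω ∈ FunFld.WD D := by
  have := Groth.Agent.FFLib.finrank_WD hK D
  obtain ⟨h1, h2⟩ := this
  have h3 := Groth.Agent.FFLib.ell_mono hK hD
  rw [Groth.Agent.FFLib.ell_zero hK] at h3
  unfold Groth.Agent.FFLib.delta at h2
  obtain ⟨⟨ω, hω⟩, hne⟩ := (Module.finrank_pos_iff_exists_ne_zero (R := k) (M := FunFld.WD D)).1 (by omega)
  exact ⟨ω, fun e => hne (Subtype.ext e), hω⟩

end Groth.Agent.S11031
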