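import Groth.Statements.S11042
import Groth.Agent.FFLib.RH

set_option autoImplicit false
open FunFld

namespace Groth.Agent.S11042

/-- A function field of one variable of genus `g` over a finite field with `q` elements has `N` places
of degree one with `|N - q - 1| ≤ 2 g √q`. -/
theorem result
    (k K : Type*) [Field k] [Finite k] [Field K] [Algebra k K]
    (hK : FunFld.IsFunctionField k K) :
    |(Nat.card {P : FunFld.Place k K // P.deg = 1} : ℝ) - (Nat.card k : ℝ) - 1| ≤
      2 * (FunFld.genus k K : ℝ) * Real.sqrt (Nat.card k : ℝ) := by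
  obtain ⟨α, -, hα, hpair⟩ := Groth.Agent.FFLib.exists_recip_roots hK
  have h := Groth.Agent.FFLib.pointCount_eq_sub_sum hK α hα one_pos
  rw [Groth.Agent.FFLib.pointCount_one] at h
  simp only [pow_one, Int.cast_natCast] at h
  have hnorm : ∀ i, ‖α i‖ = Real.sqrt (Nat.card k : ℝ) := fun i => by
    rw [← Groth.Agent.FFLib.norm_sq_recip_root hK α hα hpair i, Real.sqrt_sq (norm_nonneg _)]
  calc |(Nat.card {P : FunFld.Place k K // P.deg = 1} : ℝ) - (Nat.card k : ℝ) - 1|
      = ‖((((Nat.card {P : FunFld.Place k K // P.deg = 1} : ℝ) - (Nat.card k : ℝ) - 1 : ℝ)) : ℂ)‖ := by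
        rw [Complex.norm_real]; rfl
    _ = ‖∑ i, α i‖ := by
        push_cast
        rw [h, ← norm_neg]
        congr 1
        ring
    _ ≤ ∑ i, ‖α i‖ := norm_sum_le _ _
    _ = _ := by simp [hnorm]

end Groth.Agent.S11042
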