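import Groth.Statements.S11043
import Groth.Agent.FFLib.ZetaL
import Mathlib.RingTheory.RootsOfUnity.Complex
import Mathlib.FieldTheory.KummerExtension

set_option autoImplicit false
open FunFld

namespace Groth.Agent.S11043

/-- For positive integers `n`, `d` with `e = gcd(n, d)`, in `ℂ[t]` one has `(1 - t^{nd/e})^e = ∏_{θⁿ =
1} (1 - (θ t)^d)`, the product over the complex `n`-th roots of unity. -/
theorem result (n d : ℕ) (hn : 0 < n) (hd : 0 < d) :
    ((1 : Polynomial ℂ) - Polynomial.X ^ (n * d / Nat.gcd n d)) ^ Nat.gcd n d =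
      ∏ θ ∈ Polynomial.nthRootsFinset n (1 : ℂ),
        (1 - Polynomial.C (θ ^ d) * Polynomial.X ^ d) := by
  classical
  set e := Nat.gcd n d with he
  set m := n / e with hm
  have he0 : 0 < e := Nat.gcd_pos_of_pos_left d hn
  have hme : m * e = n := Nat.div_mul_cancel (Nat.gcd_dvd_left n d)
  have hm0 : 0 < m := Nat.div_pos (Nat.gcd_le_left d hn) he0
  have hω := Complex.isPrimitiveRoot_exp n hn.ne'
  set ω := Complex.exp (2 * Real.pi * Complex.I / n)
  have hη : IsPrimitiveRoot (ω ^ d) m := by
    have h1 := hω.eq_orderOf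
    rw [hm, he]
    have h2 : orderOf (ω ^ d) = n / Nat.gcd n d := by rw [orderOf_pow' _ hd.ne', ← h1]
    rw [← h2]
    exact IsPrimitiveRoot.orderOf _
  have hfac : ∏ b ∈ Finset.range m, (1 - Polynomial.C ((ω ^ d) ^ b) * Polynomial.X) = 1 - Polynomial.X ^ m := by
    have h := X_pow_sub_C_eq_prod hη hm0 (one_pow m)
    have hr := Groth.Agent.FFLib.reflect_prod_linear ((Multiset.range m).map fun b => (ω ^ d) ^ b)
    rw [Multiset.card_map, Multiset.card_range, Multiset.map_map, Multiset.map_map] at hr
    have h2 := congrArg (Polynomial.reflect m) hr.1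
    rw [Polynomial.reflect_reflect] at h2
    rw [Finset.prod_eq_multiset_prod, Finset.range_val]
    refine Eq.trans h2 ?_
    have h' : ((Multiset.range m).map ((fun a => Polynomial.X - Polynomial.C a) ∘ fun b => (ω ^ d) ^ b)).prod =
        Polynomial.X ^ m - Polynomial.C (1 : ℂ) := by
      rw [h, Finset.prod_eq_multiset_prod, Finset.range_val]
      simp
    rw [h', Polynomial.reflect_sub, Polynomial.reflect_C, Polynomial.reflect_monomial, Polynomial.revAt_le le_rfl]
    simp
  have hθ : ∏ θ ∈ Polynomial.nthRootsFinset n (1 : ℂ), (1 - Polynomial.C (θ ^ d) * Polynomial.X ^ d) =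
      ∏ i ∈ Finset.range n, (1 - Polynomial.C ((ω ^ d) ^ i) * Polynomial.X ^ d) := by
    rw [Polynomial.nthRootsFinset_def, Finset.prod_eq_multiset_prod, Multiset.toFinset_val,
      hω.nthRoots_one_nodup.dedup, hω.nthRoots_eq (one_pow n), Multiset.map_map,
      Finset.prod_eq_multiset_prod, Finset.range_val]
    refine congrArg Multiset.prod (Multiset.map_congr rfl fun i _ => ?_)
    simp [← pow_mul, mul_comm]
  have hblock : ∀ j, ∏ i ∈ Finset.range (m * j), (1 - Polynomial.C ((ω ^ d) ^ i) * Polynomial.X ^ d) =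
      (∏ b ∈ Finset.range m, (1 - Polynomial.C ((ω ^ d) ^ b) * Polynomial.X ^ d)) ^ j := by
    intro j
    induction j with
    | zero => simp
    | succ j ih =>
      rw [Nat.mul_succ, Finset.prod_range_add, ih, pow_succ]
      congr 1
      refine Finset.prod_congr rfl fun b _ => ?_
      rw [pow_add, pow_mul, hη.pow_eq_one, one_pow, one_mul]
  rw [hθ, ← hme, hblock e]
  have hc := congrArg (fun p : Polynomial ℂ => p.comp (Polynomial.X ^ d)) hfac
  simp only [Polynomial.prod_comp, Polynomial.sub_comp, Polynomial.one_comp, Polynomial.mul_comp,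
    Polynomial.C_comp, Polynomial.X_comp, Polynomial.pow_comp, ← pow_mul] at hc ⊢
  rw [hc]
  rw [show m * e * d = d * m * e by ring, Nat.mul_div_cancel _ he0]

end Groth.Agent.S11043
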