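import Groth.Statements.S11047
import Groth.Agent.FFLib.Auto

set_option autoImplicit false
open FunFld

namespace Groth.Agent.S11047

/-- Over an algebraically closed constant field, a `k`-automorphism of a function field of one variable
of genus `g` that fixes more than `2g + 2` places is the identity. -/
theorem result
    (k K : Type*) [Field k] [IsAlgClosed k] [Field K] [Algebra k K]
    (hK : FunFld.IsFunctionField k K) (σ : K ≃ₐ[k] K)
    (h : ((2 * FunFld.genus k K + 2 : ℕ) : ℕ∞) <
      Set.encard {P : FunFld.Place k K | ∀ x : K, P.1 x < 1 → P.1 (σ x) < 1}) :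
    σ = 1 := by
  classical
  by_contra hne
  obtain ⟨T, hTs, hT⟩ := Set.exists_subset_encard_eq (k := ((2 * genus k K + 3 : ℕ) : ℕ∞))
    (s := {P : Place k K | ∀ x : K, P.1 x < 1 → P.1 (σ x) < 1}) (by
      have := Order.add_one_le_of_lt h
      exact_mod_cast this)
  have hfin : T.Finite := Set.finite_of_encard_eq_coe hT
  have h1 := FFLib.card_fixed_le hK σ hne hfin.toFinset fun Q hQ => hTs (hfin.mem_toFinset.1 hQ)
  rw [← hfin.coe_toFinset, Set.encard_coe_eq_coe_finsetCard, Nat.cast_inj] at hT
  omega

end Groth.Agent.S11047
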