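import Groth.Statements.S11049
import Mathlib.LinearAlgebra.Isomorphisms
import Mathlib.LinearAlgebra.Dimension.DivisionRing
import Mathlib.RingTheory.Ideal.Quotient.Operations
import Mathlib.LinearAlgebra.FiniteDimensional.Basic
-- import your own Groth.Agent.* helpers here

set_option autoImplicit false
set_option linter.style.haveILetI false
open CAlg

namespace Groth.Agent.S11049

/-- For `k`-algebras `S ⊆ R` with `R` an integral domain and a nonzero `x ∈ S`, if `R/S` and `R/Rx` are
finite-dimensional over `k` then `dim_k R/Rx = dim_k S/Sx`. (The published statement allows `x = 0`;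
then `R` is a field finite over `k` and the two sides are `dim_k R` and `dim_k S`, which differ for
`S = k ⊊ R`; the published proof multiplies by `x` as an injection, so `x ≠ 0` is assumed here.) -/
theorem result
    (k R : Type*) [Field k] [CommRing R]
    [IsDomain R] [Algebra k R] (S : Subalgebra k R) (x : S) (hx : (x : R) ≠ 0)
    [Module.Finite k (R ⧸ Subalgebra.toSubmodule S)]
    [Module.Finite k (R ⧸ Ideal.span {(x : R)})] :
    Module.finrank k (R ⧸ Ideal.span {(x : R)}) = Module.finrank k (S ⧸ Ideal.span {x}) := by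
  let P : Submodule k R := Subalgebra.toSubmodule S
  let X : Submodule k R := (Ideal.span {(x : R)}).restrictScalars k
  let Q : Submodule k R := P.map (LinearMap.mulLeft k (x : R))
  haveI hPfin : Module.Finite k (R ⧸ P) := ‹_›
  haveI hXfin : Module.Finite k (R ⧸ X) := Module.Finite.equiv (Submodule.Quotient.restrictScalarsEquiv k (Ideal.span {(x : R)})).symm
  have hQX : Q ≤ X := by
    rintro _ ⟨y, -, rfl⟩
    exact Ideal.mem_span_singleton'.2 ⟨y, mul_comm _ _⟩
  have hQP : Q ≤ P := by
    rintro _ ⟨y, hy, rfl⟩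
    exact S.mul_mem x.2 hy
  let f2 : R →ₗ[k] R ⧸ Q := Q.mkQ ∘ₗ LinearMap.mulLeft k (x : R)
  have hk2 : LinearMap.ker f2 = P := by
    ext y
    simp only [f2, LinearMap.mem_ker, LinearMap.comp_apply, Submodule.mkQ_apply, Submodule.Quotient.mk_eq_zero, Q,
      Submodule.mem_map, LinearMap.mulLeft_apply]
    exact ⟨fun ⟨z, hz, h⟩ => mul_left_cancel₀ hx h ▸ hz, fun h => ⟨y, h, rfl⟩⟩
  have hr2 : LinearMap.range f2 = X.map Q.mkQ := by
    rw [LinearMap.range_comp]
    congr 1
    ext y
    simp only [LinearMap.mem_range, LinearMap.mulLeft_apply, X, Submodule.restrictScalars_mem, Ideal.mem_span_singleton']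
    exact ⟨fun ⟨z, h⟩ => ⟨z, by rw [mul_comm, h]⟩, fun ⟨z, h⟩ => ⟨z, by rw [mul_comm, h]⟩⟩
  let e2 : (R ⧸ P) ≃ₗ[k] X.map Q.mkQ :=
    (Submodule.quotEquivOfEq _ _ hk2.symm).trans (f2.quotKerEquivRange.trans (LinearEquiv.ofEq _ _ hr2))
  haveI : Module.Finite k (X.map Q.mkQ) := Module.Finite.equiv e2
  haveI : Module.Finite k ((R ⧸ Q) ⧸ X.map Q.mkQ) := Module.Finite.equiv (Submodule.quotientQuotientEquivQuotient Q X hQX).symm
  haveI : Module.Finite k (R ⧸ Q) := Module.Finite.of_submodule_quotient (X.map Q.mkQ)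
  let g : S →ₗ[k] P.map Q.mkQ := (Q.mkQ ∘ₗ S.val.toLinearMap).codRestrict _ fun s => ⟨s, s.2, rfl⟩
  have hgk : LinearMap.ker g = (Ideal.span {x}).restrictScalars k := by
    ext s
    simp only [g, LinearMap.ker_codRestrict, LinearMap.mem_ker, LinearMap.comp_apply, Submodule.mkQ_apply,
      Submodule.Quotient.mk_eq_zero, Q, Submodule.mem_map, LinearMap.mulLeft_apply, Submodule.restrictScalars_mem,
      Ideal.mem_span_singleton']
    exact ⟨fun ⟨y, hy, h⟩ => ⟨⟨y, hy⟩, Subtype.ext ((mul_comm _ _).trans h)⟩,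
      fun ⟨t, ht⟩ => ⟨t, t.2, ((mul_comm _ _).trans (congrArg Subtype.val ht) :)⟩⟩
  have hgs : Function.Surjective g := by
    rintro ⟨_, y, hy, rfl⟩
    exact ⟨⟨y, hy⟩, rfl⟩
  let e1 : (S ⧸ Ideal.span {x}) ≃ₗ[k] P.map Q.mkQ :=
    (Submodule.Quotient.restrictScalarsEquiv k (Ideal.span {x})).symm.trans
      ((Submodule.quotEquivOfEq _ _ hgk.symm).trans (g.quotKerEquivOfSurjective hgs))
  have a1 := Submodule.finrank_quotient_add_finrank (X.map Q.mkQ)
  have a2 := Submodule.finrank_quotient_add_finrank (P.map Q.mkQ)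
  rw [(Submodule.quotientQuotientEquivQuotient Q X hQX).finrank_eq, ← e2.finrank_eq] at a1
  rw [(Submodule.quotientQuotientEquivQuotient Q P hQP).finrank_eq, ← e1.finrank_eq] at a2
  have a3 : Module.finrank k (R ⧸ X) = Module.finrank k (R ⧸ Ideal.span {(x : R)}) :=
    (Submodule.Quotient.restrictScalarsEquiv k (Ideal.span {(x : R)})).finrank_eq
  omega

end Groth.Agent.S11049
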