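import Groth.Statements.S11054
import Groth.Agent.FFLib.PlaneModel

set_option autoImplicit false
open FunFld

namespace Groth.Agent.S11054

/-- Over an algebraically closed constant field, a function field `K = k(x, y)` of genus `g` with plane
model `(1 : x : y)` of degree `d` has `g ≤ (d - 1)(d - 2)/2`. -/
theorem result
    (k K : Type*) [Field k] [IsAlgClosed k] [Field K] [Algebra k K]
    (hK : FunFld.IsFunctionField k K) (x y : K)
    (hxy : IntermediateField.adjoin k ({x, y} : Set K) = ⊤) :
    2 * (FunFld.genus k K : ℤ) ≤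
      ((FunFld.mapDiv k ![(1 : K), x, y]).deg - 1) *
        ((FunFld.mapDiv k ![(1 : K), x, y]).deg - 2) := by
  obtain ⟨M⟩ := Groth.Agent.FFLib.exists_model hK hxy
  rw [M.deg_eq hK hxy]
  have hd := M.d_pos hK hxy
  refine (M.two_mul_genus_le_and_iff hK hxy (2 * FunFld.genus k K + M.d) (by omega) ?_).1
  push_cast
  nlinarith

end Groth.Agent.S11054
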