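import Groth.Statements.S11055
import Groth.Agent.FFLib.LocNonsing

set_option autoImplicit false
open FunFld

namespace Groth.Agent.S11055

/-- Over an algebraically closed constant field, a projective map `φ = (φ₀, …, φₙ)`, `n ≥ 1`, with span
`W` and divisor `[φ]` is nonsingular at the place `P` if and only if `W ∩ L([φ] - P - Q)` has
codimension `2` in `W` for every place `Q`. Here a projective map is nonsingular at a place when its
local ring there (quotients of polynomials over `k` in the ratios `φᵢ/φⱼ`, `φⱼ` of least order at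
the place, with denominator a unit there) is the whole valuation ring. (The published statement is
for any projective map; the published proof uses the finiteness property of the local ring that is
established for birational maps, so `φ` is taken birational here: the ratios `φᵢ/φ₀` generate `K`
over `k`.) -/
theorem result
    (k K : Type*) [Field k] [IsAlgClosed k] [Field K] [Algebra k K]
    (hK : FunFld.IsFunctionField k K) {n : ℕ} (hn : 1 ≤ n)
    (φ : Fin (n + 1) → K) (hφ : LinearIndependent k φ)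
    (hbir : IntermediateField.adjoin k (Set.range fun i => φ i / φ 0) = ⊤) (P : FunFld.Place k K) :
    FunFld.IsNonsingularAt φ P ↔ ∀ Q : FunFld.Place k K,
      Module.finrank k ↥(Submodule.span k (Set.range φ) ⊓
          FunFld.L (FunFld.mapDiv k φ - Finsupp.single P 1 - Finsupp.single Q 1)) + 2 =
        Module.finrank k ↥(Submodule.span k (Set.range φ)) := by
  classical
  obtain ⟨j, hmax⟩ := Groth.Agent.FFLib.exists_max_coord φ P
  have hne := fun i => hφ.ne_zero i
  have hj := hne j
  have hgen := Groth.Agent.FFLib.adjoin_ratio_top (hne 0) hj hbir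
  have hjmem : φ j ∈ Submodule.span k (Set.range φ) := Submodule.subset_span ⟨j, rfl⟩
  have hPle := Groth.Agent.FFLib.div_le_one_of_max hj hmax
  rw [Groth.Agent.FFLib.nonsingular_iff hK hj hmax hgen]
  set W := Submodule.span k (Set.range φ) with hWdef
  set D := FunFld.mapDiv k φ with hDdef
  have hW : ∀ s ∈ W, ∀ R : FunFld.Place k K, R.1 s ≤ WithZero.exp (D R) := fun s hs R =>
    Groth.Agent.FFLib.v_span_le hs R (Groth.Agent.FFLib.v_le_exp_mapDiv hK φ R)
  have hPj : P.1 (φ j) = WithZero.exp (D P) := Groth.Agent.FFLib.v_coord_eq hK hne hmax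
  have hfd : FiniteDimensional k W := FiniteDimensional.span_of_finite k (Set.finite_range φ)
  set W1 := W ⊓ FunFld.L (D - Finsupp.single P 1) with hW1
  have hlt : ∀ s ∈ W, (s ∈ W1 ↔ P.1 (s / φ j) < 1) := by
    intro s hs
    have h2 : P.1 (s / φ j) < 1 ↔ P.1 s ≤ WithZero.exp (D P - 1) := by
      rw [map_div₀, hPj, div_lt_one₀ WithZero.exp_pos]
      rcases eq_or_ne s 0 with rfl | hs0
      · simp
      · rw [Groth.Agent.FFLib.v_eq P hs0, WithZero.exp_lt_exp, WithZero.exp_le_exp]; omega
    rw [h2]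
    constructor
    · intro h
      simpa using h.2 P
    · refine fun h => ⟨hs, fun R => ?_⟩
      rw [Finsupp.sub_apply]
      rcases eq_or_ne R P with rfl | hR
      · rwa [Finsupp.single_eq_same]
      · rw [Finsupp.single_eq_of_ne hR, sub_zero]; exact hW s hs R
  have hfd1 : FiniteDimensional k W1 := Submodule.finiteDimensional_of_le inf_le_left
  have hcodim1 : Module.finrank k W = Module.finrank k W1 + 1 :=
    Groth.Agent.FFLib.finrank_step inf_le_left hjmem
      (fun h => by rw [hlt _ hjmem, div_self hj, map_one] at h; exact lt_irrefl _ h)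
      fun y hy => by
        obtain ⟨r, hr⟩ := Groth.Agent.FFLib.exists_const_sub_lt (Groth.Agent.FFLib.deg_eq_one hK P)
          (Groth.Agent.FFLib.chart_le_one hPle (Groth.Agent.FFLib.span_div_mem_chart hy) : P.1 (y / φ j) ≤ 1)
        refine ⟨r, (hlt _ (sub_mem hy (Submodule.smul_mem _ r hjmem))).2 ?_⟩
        rwa [sub_div, Algebra.smul_def, mul_div_cancel_right₀ _ hj]
  have hstep : ∀ Q : FunFld.Place k K,
      (Module.finrank k ↥(W ⊓ FunFld.L (D - Finsupp.single P 1 - Finsupp.single Q 1)) + 2 =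
        Module.finrank k W) ↔ ∃ s ∈ W1, ¬ Q.1 s ≤ WithZero.exp (((D - Finsupp.single P 1 - Finsupp.single Q 1 : FunFld.Divisor k K) Q)) := by
    intro Q
    set W2 := W ⊓ FunFld.L (D - Finsupp.single P 1 - Finsupp.single Q 1) with hW2
    have h21 : W2 ≤ W1 := inf_le_inf_left _ (Groth.Agent.FFLib.L_mono
      (sub_le_self _ (Finsupp.single_nonneg.2 zero_le_one)))
    have hmem : ∀ s ∈ W1, (s ∈ W2 ↔ Q.1 s ≤ WithZero.exp (((D - Finsupp.single P 1 - Finsupp.single Q 1 : FunFld.Divisor k K) Q))) := by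
      intro s hs
      refine ⟨fun h => h.2 Q, fun h => ⟨hs.1, fun R => ?_⟩⟩
      rcases eq_or_ne R Q with rfl | hR
      · exact h
      · rw [Finsupp.sub_apply _ (Finsupp.single Q 1), Finsupp.single_eq_of_ne hR, sub_zero]
        exact hs.2 R
    constructor
    · intro h
      by_contra hno
      push Not at hno
      have he : W1 = W2 := le_antisymm (fun s hs => (hmem s hs).2 (hno s hs)) h21
      rw [← he] at h
      omega
    · rintro ⟨s, hs, hsQ⟩
      rw [hcodim1, Groth.Agent.FFLib.finrank_step h21 hs (mt (hmem s hs).1 hsQ) fun y hy => ?_]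
      have hs0 : s ≠ 0 := fun e => hsQ (by rw [e, map_zero]; exact zero_le)
      have hys : Q.1 (y / s) ≤ 1 := by
        rw [map_div₀, div_le_one₀ (zero_lt_iff.2 (Groth.Agent.FFLib.v_ne_zero Q hs0))]
        have h1 := hy.2 Q
        rw [Groth.Agent.FFLib.v_eq Q hs0, WithZero.exp_le_exp, Finsupp.sub_apply _ (Finsupp.single Q 1),
          Finsupp.single_eq_same] at hsQ
        refine h1.trans ?_
        rw [Groth.Agent.FFLib.v_eq Q hs0, WithZero.exp_le_exp]
        omega
      obtain ⟨r, hr⟩ := Groth.Agent.FFLib.exists_const_sub_lt (Groth.Agent.FFLib.deg_eq_one hK Q) hys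
      have hmem1 : y - r • s ∈ W1 := sub_mem hy (Submodule.smul_mem _ r hs)
      refine ⟨r, (hmem _ hmem1).2 ?_⟩
      have he : (y - r • s) = (y / s - algebraMap k K r) * s := by
        rw [sub_mul, div_mul_cancel₀ _ hs0, Algebra.smul_def]
      rw [he, map_mul]
      refine (mul_le_mul' (Groth.Agent.FFLib.le_exp_neg_one_of_lt_one hr) (hs.2 Q)).trans ?_
      rw [← WithZero.exp_add, WithZero.exp_le_exp, Finsupp.sub_apply _ (Finsupp.single Q 1), Finsupp.single_eq_same]
      omega
  simp only [hstep]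
  constructor
  · rintro ⟨huniq, s, hs, hs1⟩ Q
    have hs1W : s ∈ W1 := (hlt s hs).2 (by rw [hs1, ← WithZero.exp_zero, WithZero.exp_lt_exp]; omega)
    rcases eq_or_ne Q P with rfl | hQ
    · refine ⟨s, hs1W, fun h => ?_⟩
      rw [map_div₀, hPj, div_eq_iff WithZero.exp_ne_zero, ← WithZero.exp_add] at hs1
      rw [hs1, Finsupp.sub_apply, Finsupp.sub_apply, Finsupp.single_eq_same, WithZero.exp_le_exp] at h
      omega
    obtain ⟨i, hi⟩ : ∃ i, ¬ Groth.Agent.FFLib.Cong P Q (φ i / φ j) := by
      by_contra h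
      push Not at h
      exact hQ (huniq Q h)
    suffices h : ∃ t ∈ W, P.1 (t / φ j) < 1 ∧ Q.1 t = WithZero.exp (D Q) by
      obtain ⟨t, ht, htP, htQ⟩ := h
      refine ⟨t, (hlt t ht).2 htP, fun h => ?_⟩
      rw [htQ, Finsupp.sub_apply, Finsupp.sub_apply, Finsupp.single_eq_of_ne hQ, Finsupp.single_eq_same,
        WithZero.exp_le_exp] at h
      omega
    obtain ⟨i0, hi0⟩ := Groth.Agent.FFLib.exists_max_coord φ Q
    have hQi0 : Q.1 (φ i0) = WithZero.exp (D Q) := Groth.Agent.FFLib.v_coord_eq hK hne hi0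
    by_cases hjQ : Q.1 (φ j) < Q.1 (φ i0)
    · obtain ⟨a, ha⟩ := Groth.Agent.FFLib.exists_const_sub_lt (Groth.Agent.FFLib.deg_eq_one hK P) (hPle i0)
      refine ⟨φ i0 - a • φ j, sub_mem (Submodule.subset_span ⟨i0, rfl⟩) (Submodule.smul_mem _ a hjmem),
        ?_, ?_⟩
      · rwa [sub_div, Algebra.smul_def, mul_div_cancel_right₀ _ hj]
      · rw [Valuation.map_sub_eq_of_lt_left _ ((Groth.Agent.FFLib.v_smul_le Q a _).trans_lt hjQ), hQi0]
    · have hjQ1 : Q.1 (φ j) = WithZero.exp (D Q) := le_antisymm (hW _ hjmem Q) (hQi0 ▸ not_lt.1 hjQ)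
      obtain ⟨a, ha⟩ := Groth.Agent.FFLib.exists_const_sub_lt (Groth.Agent.FFLib.deg_eq_one hK P) (hPle i)
      refine ⟨φ i - a • φ j, sub_mem (Submodule.subset_span ⟨i, rfl⟩) (Submodule.smul_mem _ a hjmem),
        ?_, ?_⟩
      · rwa [sub_div, Algebra.smul_def, mul_div_cancel_right₀ _ hj]
      · have hle : Q.1 (φ i / φ j - algebraMap k K a) ≤ 1 :=
          (Q.1.map_sub _ _).trans (max_le (Groth.Agent.FFLib.div_le_one_of_max hj
            (fun l => hjQ1 ▸ hW _ (Submodule.subset_span ⟨l, rfl⟩) Q) i) (Q.2.1 a))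
        have h1 : Q.1 (φ i / φ j - algebraMap k K a) = 1 :=
          le_antisymm hle (not_lt.1 fun h => hi ⟨a, ha, h⟩)
        rw [show φ i - a • φ j = (φ i / φ j - algebraMap k K a) * φ j by
          rw [sub_mul, div_mul_cancel₀ _ hj, Algebra.smul_def], map_mul, h1, one_mul, hjQ1]
  · intro h
    refine ⟨fun Q hQ => ?_, ?_⟩
    · by_contra hne0
      obtain ⟨s, hs, hsQ⟩ := h Q
      have hQj : ∀ l, Q.1 (φ l) ≤ Q.1 (φ j) := fun l => by
        have := (hQ l).le_one
        rwa [map_div₀, div_le_one₀ (zero_lt_iff.2 (Groth.Agent.FFLib.v_ne_zero Q hj))] at this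
      have hlt1 := (hlt s hs.1).1 hs
      have h2 := ((Groth.Agent.FFLib.cong_chart hQ (Groth.Agent.FFLib.span_div_mem_chart hs.1)).lt_iff).2 hlt1
      apply hsQ
      rw [Finsupp.sub_apply, Finsupp.sub_apply, Finsupp.single_eq_of_ne hne0, Finsupp.single_eq_same]
      rw [map_div₀, div_lt_one₀ (zero_lt_iff.2 (Groth.Agent.FFLib.v_ne_zero Q hj)),
        Groth.Agent.FFLib.v_coord_eq hK hne hQj] at h2
      rcases eq_or_ne s 0 with rfl | hs0
      · simp
      rw [Groth.Agent.FFLib.v_eq Q hs0, WithZero.exp_lt_exp] at h2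
      rw [Groth.Agent.FFLib.v_eq Q hs0, WithZero.exp_le_exp]
      rw [← hDdef] at h2
      omega
    · obtain ⟨s, hs, hsP⟩ := h P
      refine ⟨s, hs.1, le_antisymm (Groth.Agent.FFLib.le_exp_neg_one_of_lt_one ((hlt s hs.1).1 hs)) ?_⟩
      rw [map_div₀, hPj, le_div_iff₀ WithZero.exp_pos, ← WithZero.exp_add]
      rw [Finsupp.sub_apply, Finsupp.sub_apply, Finsupp.single_eq_same] at hsP
      have hs0 : s ≠ 0 := fun e => hsP (by rw [e, map_zero]; exact zero_le)
      rw [Groth.Agent.FFLib.v_eq P hs0, WithZero.exp_le_exp] at hsP ⊢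
      omega

end Groth.Agent.S11055
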