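import Groth.Statements.S11057
import Groth.Agent.FFLib.Embedding

set_option autoImplicit false
open FunFld

namespace Groth.Agent.S11057

/-- Over an algebraically closed constant field, if `K` has degree at least `3` over every subfield
`k(x)` generated by a nonconstant element, then the canonical map (given by a basis of `L(D)` for a
canonical divisor `D`) is an embedding, i.e. nonsingular at every place. Here a projective map is
nonsingular at a place when its local ring there (quotients of polynomials over `k` in the ratios
`φᵢ/φⱼ`, `φⱼ` of least order at the place, with denominator a unit there) is the whole valuation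
ring. -/
theorem result
    (k K : Type*) [Field k] [IsAlgClosed k] [Field K] [Algebra k K]
    (hK : FunFld.IsFunctionField k K)
    (h2 : ∀ x : K, Transcendental k x →
      2 < Module.finrank (IntermediateField.adjoin k ({x} : Set K)) K)
    (D : FunFld.Divisor k K) (hD : FunFld.IsCanonical k K D) {n : ℕ} (φ : Fin (n + 1) → K)
    (hφ : LinearIndependent k φ) (hspan : Submodule.span k (Set.range φ) = FunFld.L D)
    (P : FunFld.Place k K) : FunFld.IsNonsingularAt φ P := by
  refine Groth.Agent.FFLib.isNonsingularAt_of_separates hK D φ hspan P fun Q => ?_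
  have hP := Groth.Agent.FFLib.deg_eq_one hK P
  have hQ := Groth.Agent.FFLib.deg_eq_one hK Q
  set E : FunFld.Divisor k K := Finsupp.single P 1 + Finsupp.single Q 1 with hE
  have hE0 : 0 ≤ E := add_nonneg (Finsupp.single_nonneg.2 zero_le_one) (Finsupp.single_nonneg.2 zero_le_one)
  have hEd : E.deg = 2 := by
    rw [hE, Groth.Agent.FFLib.deg_add, Groth.Agent.FFLib.deg_single, Groth.Agent.FFLib.deg_single, hP, hQ]; norm_num
  have hE1 : FunFld.ell E ≤ 1 := by
    by_contra hlt
    have := Groth.Agent.FFLib.finiteDimensional_L hK (0 : FunFld.Divisor k K)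
    obtain ⟨x, hx, hx0⟩ : ∃ x ∈ FunFld.L E, x ∉ FunFld.L (0 : FunFld.Divisor k K) := by
      by_contra hh
      push Not at hh
      have h1 : FunFld.ell E ≤ FunFld.ell (0 : FunFld.Divisor k K) := Submodule.finrank_mono hh
      rw [Groth.Agent.FFLib.ell_zero hK] at h1
      omega
    have hxn : x ∉ Set.range (algebraMap k K) := fun ⟨c, hc⟩ => hx0 (by
      rw [Groth.Agent.FFLib.L_zero hK]; exact Submodule.mem_one.2 ⟨c, hc⟩)
    have htr := Groth.Agent.FFLib.transcendental_of_notMem hK hxn
    have hle : Groth.Agent.FFLib.pole (k := k) x ≤ E := fun R => by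
      rw [Groth.Agent.FFLib.pole_apply hK]
      have h1 : 0 ≤ E R := hE0 R
      have h2 := (Groth.Agent.FFLib.mem_L_iff (fun e : x = 0 => hx0 (by rw [e]; exact Submodule.zero_mem _))).1 hx R
      omega
    have h1 := Groth.Agent.FFLib.deg_mono hle
    rw [Groth.Agent.FFLib.deg_pole hK htr, hEd] at h1
    have := h2 x htr
    omega
  have hrr := Groth.Agent.FFLib.riemann_roch hK hD E
  have hc := Groth.Agent.FFLib.canonical_ell_deg hK hD
  rw [sub_sub, ← hE]
  omega

end Groth.Agent.S11057
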