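import Groth.Statements.S11063
import Groth.Agent.FFLib.Gaps

set_option autoImplicit false
open FunFld

namespace Groth.Agent.S11063

/-- Over an algebraically closed constant field, for a place `P` of a function field of genus `g` and `1
≤ l ≤ g`, the `l`-th gap number at `P` is at most `2l - 1`, i.e. at least `l` of the integers `1 ≤ m
≤ 2l - 1` satisfy `L(mP) = L((m-1)P)`. (The published statement bounds the `l`-th order of the
canonical map at `P` by `2l`; the orders of the canonical map at `P` are the gap numbers at `P` less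
one, which gives the form stated here.) -/
theorem result
    (k K : Type*) [Field k] [IsAlgClosed k] [Field K] [Algebra k K]
    (hK : FunFld.IsFunctionField k K) (P : FunFld.Place k K) (l : ℕ)
    (hl : 1 ≤ l) (hlg : l ≤ FunFld.genus k K) :
    l ≤ Set.ncard {m : ℕ | 1 ≤ m ∧ m ≤ 2 * l - 1 ∧
      FunFld.L (Finsupp.single P (m : ℤ)) = FunFld.L (Finsupp.single P ((m : ℤ) - 1))} := by
  have hP := Groth.Agent.FFLib.deg_eq_one hK P
  have h : FunFld.ell (Finsupp.single P ((2 * l - 1 : ℕ) : ℤ) : FunFld.Divisor k K) +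
      Set.ncard {m : ℕ | 1 ≤ m ∧ m ≤ 2 * l - 1 ∧
        FunFld.L (Finsupp.single P (m : ℤ)) = FunFld.L (Finsupp.single P ((m : ℤ) - 1))} = 2 * l - 1 + 1 :=
    Groth.Agent.FFLib.ell_add_card_gaps hK hP (2 * l - 1)
  have hd : FunFld.Divisor.deg (Finsupp.single P ((2 * l - 1 : ℕ) : ℤ) : FunFld.Divisor k K) = (2 * l - 1 : ℕ) := by
    rw [Groth.Agent.FFLib.deg_single, hP]; simp
  rcases Nat.lt_or_ge (2 * l - 1) (2 * FunFld.genus k K - 1) with hc | hc
  · have := Groth.Agent.FFLib.clifford hK hP (D := Finsupp.single P ((2 * l - 1 : ℕ) : ℤ)) (by omega) (by omega)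
    omega
  · have := Groth.Agent.FFLib.ell_eq_of_deg_ge hK (D := Finsupp.single P ((2 * l - 1 : ℕ) : ℤ)) (by omega)
    omega

end Groth.Agent.S11063
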