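import Groth.Statements.S11064
import Groth.Agent.FFLib.Basic

set_option autoImplicit false
open FunFld

namespace Groth.Agent.S11064

/-- Over an algebraically closed constant field, a projective map `φ = (φ₀, …, φₙ)` that is nonsingular
at some place is birational, i.e. the ratios `φᵢ/φ₀` generate `K` over `k`. Here the local ring of a
projective map at a place consists of the quotients of polynomials over `k` in the ratios `φᵢ/φⱼ`,
`φⱼ` of least order at the place, with denominator a unit there; the map is nonsingular at the place
when this ring is the whole valuation ring. -/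
theorem result
    (k K : Type*) [Field k] [IsAlgClosed k] [Field K] [Algebra k K]
    (hK : FunFld.IsFunctionField k K) {n : ℕ} (φ : Fin (n + 1) → K)
    (h0 : φ 0 ≠ 0) (P : FunFld.Place k K) (h : FunFld.IsNonsingularAt φ P) :
    IntermediateField.adjoin k (Set.range fun i => φ i / φ 0) = ⊤ := by
  set E := IntermediateField.adjoin k (Set.range fun i => φ i / φ 0) with hE
  have key : ∀ z : K, P.1 z ≤ 1 → z ∈ E := fun z hz => by
    obtain ⟨j, hj, -, u, hu, w, hw, hw1, hzw⟩ := h z hz
    have hsub : ∀ a ∈ Algebra.adjoin k (Set.range fun i => φ i / φ j), a ∈ E := fun a ha => by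
      refine (Algebra.adjoin_le (S := E.toSubalgebra) ?_) ha
      rintro _ ⟨i, rfl⟩
      show φ i / φ j ∈ E
      have e : φ i / φ j = (φ i / φ 0) / (φ j / φ 0) := by field_simp
      rw [e]
      exact div_mem (IntermediateField.subset_adjoin k _ ⟨i, rfl⟩)
        (IntermediateField.subset_adjoin k _ ⟨j, rfl⟩)
    have hw0 : w ≠ 0 := fun e => by simp [e] at hw1
    rw [eq_div_of_mul_eq hw0 hzw]
    exact div_mem (hsub u hu) (hsub w hw)
  refine eq_top_iff.2 fun z _ => ?_
  rcases le_or_gt (P.1 z) 1 with hz | hz
  · exact key z hz
  · have := key z⁻¹ (by rw [map_inv₀]; exact inv_le_one_of_one_le₀ hz.le)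
    simpa using inv_mem this

end Groth.Agent.S11064
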