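import Groth.Statements.S11066
import Groth.Agent.FFLib.LocNonsing

set_option autoImplicit false
open FunFld

namespace Groth.Agent.S11066

/-- Over an algebraically closed constant field, for an effective projective map `φ` normalized at the
place `P` (`1` in the span of the entries, all entries integral at `P`), the local ring of `φ` at
`P` has an element of order one at `P` (a local parameter) exactly when the span of the entries has
one. The local ring consists of the quotients of polynomials over `k` in the ratios `φᵢ/φⱼ`, `φⱼ` of
least order at `P`, with denominator a unit at `P`. -/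
theorem result
    (k K : Type*) [Field k] [IsAlgClosed k] [Field K] [Algebra k K]
    (hK : FunFld.IsFunctionField k K) {n : ℕ} (φ : Fin (n + 1) → K)
    (P : FunFld.Place k K) (heff : (1 : K) ∈ Submodule.span k (Set.range φ))
    (hnorm : ∀ i, P.1 (φ i) ≤ 1) :
    (∃ t : K, FunFld.InLocRing φ P t ∧ P.1 t = WithZero.exp (-1)) ↔
      ∃ t ∈ Submodule.span k (Set.range φ), P.1 t = WithZero.exp (-1) := by
  have hmax : ∀ i, P.1 (φ i) ≤ P.1 (1 : K) := fun i => by rw [map_one]; exact hnorm i
  have hP := Groth.Agent.FFLib.div_le_one_of_max one_ne_zero hmax
  have h := Groth.Agent.FFLib.exists_uniformizer_inLoc_iff hK heff hP one_ne_zero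
  simp only [div_one] at h
  simp only [Groth.Agent.FFLib.inLocRing_iff one_ne_zero heff hmax]
  exact h

end Groth.Agent.S11066
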