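import Groth.Statements.S11067
import Groth.Agent.FFLib.RatPoly


-- import your own Groth.Agent.* helpers here

set_option autoImplicit false
open FunFld

namespace Groth.Agent.S11067

/-- Over an algebraically closed constant field, for a plane curve with natural map `(1 : x : y)` (so `K
= k(x, y)`) and `y` integral over `k[x]`, the ring `k[x, y]` is the intersection of the rings
`O_P[y]` over the places `P` of `k(x)` at which `x` is integral. -/
theorem result
    (k K : Type*) [Field k] [IsAlgClosed k] [Field K] [Algebra k K]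
    (hK : FunFld.IsFunctionField k K) (x y : K) (hx : Transcendental k x)
    (hxy : IntermediateField.adjoin k ({x, y} : Set K) = ⊤)
    (hy : IsIntegral (Algebra.adjoin k ({x} : Set K)) y) :
    (Algebra.adjoin k ({x, y} : Set K) : Set K) =
      ⋂ (P : FunFld.Place k (IntermediateField.adjoin k ({x} : Set K)))
        (_ : P.1 ⟨x, IntermediateField.mem_adjoin_simple_self k x⟩ ≤ 1),
        (Subring.closure
          ((algebraMap (IntermediateField.adjoin k ({x} : Set K)) K '' (P.O : Set _)) ∪ {y}) :
          Set K) := by
  open Groth.Agent.FFLib Polynomial in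
  set E := IntermediateField.adjoin k ({x} : Set K) with hE
  set xE : E := ⟨x, IntermediateField.mem_adjoin_simple_self k x⟩ with hxE
  have hinj : Function.Injective (algebraMap E K) := (algebraMap E K).injective
  apply Set.Subset.antisymm
  · intro z hz
    simp only [Set.mem_iInter]
    intro P hP
    have hz' : z ∈ Algebra.adjoin k ({x, y} : Set K) := hz
    rw [SetLike.mem_coe]
    induction hz' using Algebra.adjoin_induction with
    | mem w hw =>
      rcases hw with rfl | rfl
      · exact Subring.subset_closure (Or.inl ⟨xE, hP, rfl⟩)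
      · exact Subring.subset_closure (Or.inr rfl)
    | algebraMap c =>
      exact Subring.subset_closure (Or.inl ⟨algebraMap k E c, P.2.1 c, rfl⟩)
    | add a b ha hb iha ihb => exact add_mem (iha ha) (ihb hb)
    | mul a b ha hb iha ihb => exact mul_mem (iha ha) (ihb hb)
  · intro z hz
    simp only [Set.mem_iInter] at hz
    let ι0 : Algebra.adjoin k ({x} : Set K) →+* E :=
      (Algebra.adjoin k ({x} : Set K)).subtype.codRestrict E fun a => IntermediateField.algebra_adjoin_le_adjoin k _ a.2
    have hyE : IsIntegral E y := by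
      obtain ⟨g, hg, hgy⟩ := hy
      refine ⟨g.map ι0, hg.map _, ?_⟩
      rw [Polynomial.eval₂_map]; exact hgy
    set μ := minpoly E y with hμ
    -- coefficients of the minimal polynomial are polynomials in `x`
    let e : RatFunc k ≃ₐ[k] E := RatFunc.algEquivOfTranscendental x hx
    have hμi : ∀ (P : FunFld.Place k E), P.1 xE ≤ 1 → ∀ n, P.1 (μ.coeff n) ≤ 1 := by
      intro P hP n
      have hyO : IsIntegral P.O y := by
        obtain ⟨g, hg, hgy⟩ := hy
        have hsub : ∀ a : Algebra.adjoin k ({x} : Set K), P.1 (⟨a.1, IntermediateField.algebra_adjoin_le_adjoin k _ a.2⟩ : E) ≤ 1 := by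
          rintro ⟨a, ha⟩
          induction ha using Algebra.adjoin_induction with
          | mem w hw => obtain rfl := hw; exact hP
          | algebraMap c => exact P.2.1 c
          | add a b ha hb iha ihb =>
            exact le_trans (P.1.map_add (⟨a, IntermediateField.algebra_adjoin_le_adjoin k _ ha⟩ : E) ⟨b, IntermediateField.algebra_adjoin_le_adjoin k _ hb⟩) (max_le iha ihb)
          | mul a b ha hb iha ihb =>
            exact (P.1.map_mul (⟨a, IntermediateField.algebra_adjoin_le_adjoin k _ ha⟩ : E) ⟨b, IntermediateField.algebra_adjoin_le_adjoin k _ hb⟩).le.trans ((mul_le_mul' iha ihb).trans_eq (one_mul _))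
        refine ⟨g.map (ι0.codRestrict P.O hsub), hg.map _, ?_⟩
        rw [Polynomial.eval₂_map]; exact hgy
      rw [hμ, minpoly.isIntegrallyClosed_eq_field_fractions' E hyO, Polynomial.coeff_map]
      exact ((minpoly P.O y).coeff n).2
    obtain ⟨p, hp⟩ : ∃ p : E[X], aeval y p = z := by
      have htop : z ∈ Algebra.adjoin E ({y} : Set K) := by
        rw [← IntermediateField.adjoin_simple_toSubalgebra_of_isAlgebraic hyE.isAlgebraic, IntermediateField.mem_toSubalgebra]
        have : z ∈ (IntermediateField.adjoin E ({y} : Set K)).restrictScalars k := by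
          rw [hE, IntermediateField.adjoin_adjoin_left, Set.singleton_union, hxy]; exact IntermediateField.mem_top
        exact this
      rwa [Algebra.adjoin_singleton_eq_range_aeval, AlgHom.mem_range] at htop
    set c := p %ₘ μ with hc
    have hμm : μ.Monic := minpoly.monic hyE
    have hcz : aeval y c = z := by
      rw [hc, Polynomial.modByMonic_eq_sub_mul_div, map_sub, map_mul, hμ, minpoly.aeval, zero_mul, sub_zero, hp]
    have hcP : ∀ (P : FunFld.Place k E), P.1 xE ≤ 1 → ∀ n, P.1 (c.coeff n) ≤ 1 := by
      intro P hP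
      obtain ⟨q, hq⟩ : ∃ q : P.O[X], aeval y (q.map P.O.subtype) = z := by
        suffices H : ∀ w ∈ Subring.closure ((algebraMap E K '' (P.O : Set _)) ∪ {y}),
            ∃ q : P.O[X], aeval y (q.map P.O.subtype) = w from H z (hz P hP)
        intro w hwmem
        induction hwmem using Subring.closure_induction with
        | mem w hw =>
          rcases hw with ⟨a, ha, rfl⟩ | rfl
          · exact ⟨Polynomial.C ⟨a, ha⟩, by simp⟩
          · exact ⟨Polynomial.X, by simp⟩
        | zero => exact ⟨0, by simp⟩
        | one => exact ⟨1, by simp⟩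
        | add a b _ _ ha hb =>
          obtain ⟨qa, rfl⟩ := ha; obtain ⟨qb, rfl⟩ := hb
          exact ⟨qa + qb, by rw [Polynomial.map_add, map_add]⟩
        | neg a _ ha => obtain ⟨qa, rfl⟩ := ha; exact ⟨-qa, by rw [Polynomial.map_neg, map_neg]⟩
        | mul a b _ _ ha hb =>
          obtain ⟨qa, rfl⟩ := ha; obtain ⟨qb, rfl⟩ := hb
          exact ⟨qa * qb, by rw [Polynomial.map_mul, map_mul]⟩
      obtain ⟨μ', hμ'⟩ : ∃ μ' : P.O[X], μ'.map P.O.subtype = μ :=
        (Polynomial.mem_lifts _).1 ((Polynomial.lifts_iff_coeff_lifts _).2 fun n => ⟨⟨_, hμi P hP n⟩, rfl⟩)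
      have hμ'm : μ'.Monic := Function.Injective.monic_map_iff Subtype.val_injective |>.2 (hμ' ▸ hμm)
      have heq : c = (q %ₘ μ').map P.O.subtype := by
        rw [Polynomial.map_modByMonic _ hμ'm, hμ', hc]
        by_contra hne
        have hne' : p %ₘ μ - q.map P.O.subtype %ₘ μ ≠ 0 := sub_ne_zero.2 hne
        have hdeg := minpoly.degree_le_of_ne_zero E y hne' (by
          rw [map_sub, ← hc, hcz, Polynomial.modByMonic_eq_sub_mul_div, map_sub, map_mul, hμ, minpoly.aeval, zero_mul, sub_zero, hq, sub_self])
        exact absurd ((Polynomial.degree_sub_le _ _).trans_lt (max_lt (Polynomial.degree_modByMonic_lt _ hμm) (Polynomial.degree_modByMonic_lt _ hμm))) (not_lt.2 hdeg)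
      intro n
      rw [heq, Polynomial.coeff_map]
      exact ((q %ₘ μ').coeff n).2
    have hcpoly : ∀ n, algebraMap E K (c.coeff n) ∈ Algebra.adjoin k ({x, y} : Set K) := by
      intro n
      obtain ⟨q, hq⟩ := mem_poly_of_fin (r := e.symm (c.coeff n)) fun R hR => hcP (placeOfEquiv e.symm R) (by
        show R.1 (e.symm xE) ≤ 1
        rw [show e.symm xE = RatFunc.X from RatFunc.algEquivOfTranscendental_symm_gen x hx]
        exact (v_le_one_iff R _).2 hR) n
      have h := congrArg e hq
      rw [e.apply_symm_apply, RatFunc.algEquivOfTranscendental_algebraMap] at h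
      rw [← h, ← Polynomial.aeval_algebraMap_apply]
      exact Algebra.adjoin_mono (Set.singleton_subset_iff.2 (Set.mem_insert _ _)) (Polynomial.aeval_mem_adjoin_singleton k x)
    rw [SetLike.mem_coe, ← hcz, Polynomial.aeval_eq_sum_range]
    refine Subalgebra.sum_mem _ fun i _ => ?_
    rw [Algebra.smul_def]
    have hyA : y ∈ Algebra.adjoin k ({x, y} : Set K) :=
      Algebra.subset_adjoin (s := ({x, y} : Set K)) (Set.mem_insert_of_mem x (Set.mem_singleton y))
    exact Subalgebra.mul_mem _ (hcpoly i) (Subalgebra.pow_mem _ hyA i)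

end Groth.Agent.S11067
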