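import Groth.Statements.S11069
import Groth.Agent.FFLib.Ext
import Groth.Agent.FFLib.Conorm

set_option autoImplicit false
open FunFld

namespace Groth.Agent.S11069

/-- Over an algebraically closed constant field, for function fields `K ⊇ K'` and a projective map `φ`
with entries in `K'`, the divisor of `φ` as a map of `K` is the conorm `N*_{K/K'}` of its divisor as
a map of `K'`. -/
theorem result
    (k K' K : Type*) [Field k] [IsAlgClosed k] [Field K'] [Field K] [Algebra k K'] [Algebra k K]
    [Algebra K' K] [IsScalarTower k K' K] [FiniteDimensional K' K]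
    (hK : FunFld.IsFunctionField k K) (hK' : FunFld.IsFunctionField k K') {n : ℕ}
    (φ : Fin (n + 1) → K') (hφ : LinearIndependent k φ) :
    FunFld.mapDiv k (fun i => algebraMap K' K (φ i)) = FunFld.conorm K (FunFld.mapDiv k φ) := by
  refine Finsupp.ext fun Q => ?_
  rw [Groth.Agent.FFLib.mapDiv_apply hK, Groth.Agent.FFLib.conorm_apply hK'.1,
    Groth.Agent.FFLib.mapDiv_apply hK']
  have h : ∀ i, Q.ord (algebraMap K' K (φ i)) = (Groth.Agent.FFLib.underIdx hK'.1 Q : ℤ) *
      (Groth.Agent.FFLib.underPlace hK'.1 Q).ord (φ i) := fun i =>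
    Groth.Agent.FFLib.ord_algebraMap hK'.1 Q (φ i)
  simp only [h, neg_mul, neg_inj]
  rw [mul_comm]
  obtain ⟨i, -, hi⟩ := Finset.exists_mem_eq_inf' (Finset.univ_nonempty (α := Fin (n + 1)))
    (fun i => (Groth.Agent.FFLib.underPlace hK'.1 Q).ord (φ i))
  rw [hi]
  refine le_antisymm (Finset.inf'_le _ (Finset.mem_univ i)) ?_
  refine Finset.le_inf' _ _ fun j _ => ?_
  rw [← hi]
  exact (mul_le_mul_of_nonneg_left (Finset.inf'_le _ (Finset.mem_univ j))
    (Int.natCast_nonneg _))

end Groth.Agent.S11069
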