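import Groth.Statements.S11070
import Groth.Agent.FFLib.PlaneModel

set_option autoImplicit false
open FunFld

namespace Groth.Agent.S11070

/-- Over an algebraically closed constant field, a plane curve `V = V(f)` with natural map `(1 : x :
y)`, `K = k(x, y)`, has degree `deg V = deg f`: the degree of the divisor of the map `(1 : x : y)`
equals the total degree of the irreducible polynomial relation `f(x, y) = 0`. -/
theorem result
    (k K : Type*) [Field k] [IsAlgClosed k] [Field K] [Algebra k K]
    (hK : FunFld.IsFunctionField k K) (x y : K)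
    (hxy : IntermediateField.adjoin k ({x, y} : Set K) = ⊤) (f : MvPolynomial (Fin 2) k)
    (hf : Irreducible f) (hfxy : MvPolynomial.aeval ![x, y] f = 0) :
    (FunFld.mapDiv k ![(1 : K), x, y]).deg = f.totalDegree := by
  classical
  obtain ⟨M⟩ := Groth.Agent.FFLib.exists_model hK hxy
  rw [M.deg_eq hK hxy, Int.natCast_inj]
  have hd := M.d_pos hK hxy
  -- the change of coordinates
  let Φ : MvPolynomial (Fin 2) k →ₐ[k] Polynomial (Polynomial k) := MvPolynomial.aeval
    ![Polynomial.C (Polynomial.C M.a⁻¹ * Polynomial.X) +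
        Polynomial.C (Polynomial.C (-(M.a⁻¹ * M.b))) * Polynomial.X, Polynomial.X]
  let Ψ : Polynomial (Polynomial k) →ₐ[k] MvPolynomial (Fin 2) k := Polynomial.aevalAeval
    (MvPolynomial.C M.a * MvPolynomial.X 0 + MvPolynomial.C M.b * MvPolynomial.X 1)
    (MvPolynomial.X 1)
  let ev : Polynomial (Polynomial k) →ₐ[k] K := Polynomial.aevalAeval M.h y
  have hΨΦ : Ψ.comp Φ = AlgHom.id k _ := MvPolynomial.algHom_ext fun i => by
    fin_cases i
    · simp only [Φ, Ψ, AlgHom.comp_apply, MvPolynomial.aeval_X]
      simp [MvPolynomial.algebraMap_eq]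
      rw [mul_add, ← mul_assoc, ← mul_assoc, ← MvPolynomial.C_mul, inv_mul_cancel₀ M.a_ne]
      simp
    · simp [Φ, Ψ]
  have hevΦ : ev.comp Φ = MvPolynomial.aeval ![x, y] := MvPolynomial.algHom_ext fun i => by
    fin_cases i
    · simp only [Φ, ev, AlgHom.comp_apply, MvPolynomial.aeval_X]
      simp [Algebra.smul_def]
      conv_rhs => rw [M.x_eq]
      simp [Algebra.smul_def]
    · simp [Φ, ev]
  have hfΦ : ev (Φ f) = 0 := by rw [← hfxy, ← hevΦ]; rfl
  have hker : ∀ p : Polynomial (Polynomial k), p.natDegree < M.d → ev p = 0 → p = 0 := by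
    intro p hp he
    ext1 n
    rcases Nat.lt_or_ge n M.d with hn | hn
    · refine (M.eq_zero hK hxy (p := fun j => p.coeff j) ?_ ⟨n, hn⟩).trans (Polynomial.coeff_zero n).symm
      refine Eq.trans ?_ he
      conv_rhs => rw [p.as_sum_range' M.d hp]
      simp [ev, ← Fin.sum_univ_eq_sum_range, ← Polynomial.C_mul_X_pow_eq_monomial]
    · rw [Polynomial.coeff_zero, Polynomial.coeff_eq_zero_of_natDegree_lt (by omega)]
  -- lower bound
  refine le_antisymm ?_ ?_
  · by_contra hlt
    refine hf.ne_zero ?_
    have h1 : Φ f = 0 := hker _ (lt_of_le_of_lt ?_ (not_le.1 hlt)) hfΦ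
    · rw [← AlgHom.id_apply (R := k) f, ← hΨΦ, AlgHom.comp_apply, h1, map_zero]
    conv_lhs => rw [f.as_sum, map_sum]
    refine Polynomial.natDegree_sum_le_of_forall_le _ _ fun s hs => ?_
    have h2 : s 0 + s 1 ≤ f.totalDegree := by
      have := MvPolynomial.le_totalDegree hs
      rwa [Finsupp.sum_fintype _ _ (fun _ => rfl), Fin.sum_univ_two] at this
    simp only [Φ, MvPolynomial.aeval_monomial, Finsupp.prod_fintype _ _ (fun _ => pow_zero _),
      Fin.prod_univ_two, Matrix.cons_val_zero, Matrix.cons_val_one]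
    rw [Polynomial.algebraMap_apply]
    refine Polynomial.natDegree_mul_le.trans ?_
    rw [Polynomial.natDegree_C, zero_add]
    refine Polynomial.natDegree_mul_le.trans (le_trans (add_le_add ?_ ?_) h2)
    · exact (Polynomial.natDegree_pow_le).trans ((mul_le_of_le_one_right (Nat.zero_le _) ·) <| (by compute_degree!))
    · rw [Polynomial.natDegree_X_pow]
  · obtain ⟨p, hp, hpe⟩ := M.exists_rep (M.monomial_mem hK hxy (i := 0) (j := M.d) (m := M.d) (by omega))
    set R : Polynomial (Polynomial k) := Polynomial.X ^ M.d -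
      ∑ j : Fin M.d, Polynomial.C (p j) * Polynomial.X ^ (j : ℕ) with hR
    have hlt : (∑ j : Fin M.d, Polynomial.C (p j) * Polynomial.X ^ (j : ℕ)).degree < (M.d : WithBot ℕ) :=
      Polynomial.degree_sum_fin_lt p
    have hRm : R.Monic := Polynomial.monic_X_pow_sub (n := M.d) hlt
    have hRd : R.natDegree = M.d := by
      refine Polynomial.natDegree_eq_of_degree_eq_some ?_
      rw [hR, Polynomial.degree_sub_eq_left_of_degree_lt (by rwa [Polynomial.degree_X_pow]),
        Polynomial.degree_X_pow]
    have hev : ev R = 0 := by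
      simp only [hR, ev, map_sub, map_sum]
      simp
      rw [sub_eq_zero, ← hpe]
      simp
    have hmod : Φ f %ₘ R = 0 := by
      refine hker _ (hRd ▸ Polynomial.natDegree_modByMonic_lt _ hRm ?_) ?_
      · intro e; rw [e, Polynomial.natDegree_one] at hRd; omega
      · have := congrArg ev (Polynomial.modByMonic_add_div (Φ f) R)
        rw [map_add, map_mul, hev, zero_mul, add_zero, hfΦ] at this
        exact this
    have hfac : f = Ψ R * Ψ (Φ f /ₘ R) := by
      conv_lhs => rw [← AlgHom.id_apply (R := k) f, ← hΨΦ, AlgHom.comp_apply,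
        ← Polynomial.modByMonic_add_div (Φ f) R, hmod, zero_add, map_mul]
    rcases hf.isUnit_or_isUnit hfac with hu | hu
    · exfalso
      have h1 := hu.map (MvPolynomial.aeval ![x, y] : MvPolynomial (Fin 2) k →ₐ[k] K)
      have : ((MvPolynomial.aeval ![x, y]).comp Ψ : Polynomial (Polynomial k) →ₐ[k] K) = ev := by
        ext
        · simp [Ψ, ev]
          rw [M.eq, Algebra.smul_def, Algebra.smul_def]
        · simp [Ψ, ev]
      rw [← AlgHom.comp_apply, this, hev] at h1
      exact not_isUnit_zero h1
    · obtain ⟨-, hc'⟩ := MvPolynomial.isUnit_iff_totalDegree_of_isReduced.1 hu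
      rw [hfac]
      refine (MvPolynomial.totalDegree_mul _ _).trans ?_
      rw [hc', add_zero]
      simp only [hR, Ψ, map_sub, map_sum]
      refine (MvPolynomial.totalDegree_sub _ _).trans (max_le ?_ ?_)
      · simp
      · refine MvPolynomial.totalDegree_finsetSum_le fun j _ => ?_
        rw [map_mul, map_pow, Polynomial.aevalAeval_C, Polynomial.aevalAeval_Y]
        rw [Polynomial.aeval_eq_sum_range, Finset.sum_mul]
        refine MvPolynomial.totalDegree_finsetSum_le fun i _ => ?_
        rw [smul_mul_assoc]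
        rcases eq_or_ne ((p j).coeff i) 0 with h0 | h0
        · simp [h0]
        refine (MvPolynomial.totalDegree_smul_le _ _).trans
          ((MvPolynomial.totalDegree_mul _ _).trans (le_trans (add_le_add ?_ ?_) (hp j i h0)))
        · refine (MvPolynomial.totalDegree_pow _ _).trans ((mul_le_of_le_one_right (Nat.zero_le _) ·) <| ?_)
          refine (MvPolynomial.totalDegree_add _ _).trans (max_le ?_ ?_) <;>
            refine (MvPolynomial.totalDegree_mul _ _).trans ?_ <;> simp
        · simp

end Groth.Agent.S11070
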