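import Groth.Statements.S11071
import Groth.Agent.FFLib.JacobianRank

set_option autoImplicit false
open FunFld

namespace Groth.Agent.S11071

/-- Over an algebraically closed constant field, let `φ = (φ₀, …, φₙ)`, `n ≥ 1`, be a birational
projective map, `f₁, …, f_r` homogeneous generators of its ideal of homogeneous relations (the ideal
of the image curve), and `P` a place at which all `φᵢ/φ₀` are integral, with image point `a`. Then
`φ` is nonsingular at `P` if and only if the matrix `(∂fᵢ/∂Xⱼ(a))`, `1 ≤ j ≤ n`, has rank `n - 1`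
(entries read in the residue field of `P`). Here the local ring of `φ` at `P` consists of the
quotients of polynomials over `k` in the ratios `φᵢ/φ₀` with denominator a unit at `P`; `φ` is
nonsingular at `P` when this ring is the whole valuation ring. -/
theorem result (k K : Type*) [Field k] [IsAlgClosed k] [Field K] [Algebra k K]
    (hK : FunFld.IsFunctionField k K) {n : ℕ} (hn : 1 ≤ n)
    (φ : Fin (n + 1) → K) (hφ : LinearIndependent k φ)
    (hbir : IntermediateField.adjoin k (Set.range fun i => φ i / φ 0) = ⊤)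
    (P : FunFld.Place k K) (hP : ∀ i, P.1 (φ i) ≤ P.1 (φ 0)) {r : ℕ}
    (f : Fin r → MvPolynomial (Fin (n + 1)) k)
    (hhom : ∀ i, (f i).IsHomogeneous (f i).totalDegree)
    (hgen : Ideal.span (Set.range f) =
      RingHom.ker (MvPolynomial.aeval fun i => Polynomial.C (φ i) * Polynomial.X))
    (M : Matrix (Fin r) (Fin n) P.O)
    (hM : ∀ i j, ((M i j : P.O) : K) =
      MvPolynomial.aeval (fun l => φ l / φ 0) (MvPolynomial.pderiv j.succ (f i))) :
    FunFld.IsNonsingularAt φ P ↔ (M.map (IsLocalRing.residue P.O)).rank = n - 1 := by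
  classical
  have h0 : φ 0 ≠ 0 := hφ.ne_zero 0
  have hP' := Groth.Agent.FFLib.div_le_one_of_max h0 hP
  choose c hc using fun i =>
    Groth.Agent.FFLib.exists_const_sub_lt (Groth.Agent.FFLib.deg_eq_one hK P) (hP' i)
  rw [Groth.Agent.FFLib.isNonsingularAt_iff h0 (Submodule.subset_span ⟨0, rfl⟩) hP]
  have hM' : M.map (IsLocalRing.residue P.O) =
      (Groth.Agent.FFLib.jacobian f c).map (algebraMap k (IsLocalRing.ResidueField P.O)) := by
    ext i l
    refine Groth.Agent.FFLib.residue_eq_algebraMap _ ?_
    rw [hM i l]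
    exact Groth.Agent.FFLib.near_eval hc _
  have hsur : Function.Surjective (algebraMap k (IsLocalRing.ResidueField P.O)) := fun y => by
    obtain ⟨⟨x, hx⟩, rfl⟩ := IsLocalRing.residue_surjective y
    obtain ⟨a, ha⟩ :=
      Groth.Agent.FFLib.exists_const_sub_lt (Groth.Agent.FFLib.deg_eq_one hK P) hx
    exact ⟨a, (Groth.Agent.FFLib.residue_eq_algebraMap _ ha).symm⟩
  rw [hM', Groth.Agent.FFLib.rank_map_of_surjective hsur]
  exact ⟨Groth.Agent.FFLib.jacobian_rank_of_nonsingular hgen h0 hc hK hP',
    fun h z hz => Groth.Agent.FFLib.nonsingular_of_jacobian_rank hgen h0 hc hK hn hP' hbir h hz⟩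

end Groth.Agent.S11071
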