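import Groth.Statements.S11074
import Groth.Agent.FFLib.PlaneSmooth

set_option autoImplicit false
open FunFld

namespace Groth.Agent.S11074

/-- Over an algebraically closed constant field, at a nonsingular point `a = φ(P)` of a plane curve
`V(f)` with birational natural map `φ = (φ₀ : φ₁ : φ₂)`, the tangent line is `(∂f/∂X₀(a) : ∂f/∂X₁(a)
: ∂f/∂X₂(a))`: the corresponding linear form, pulled back along `φ` normalized at `P`, vanishes to
order at least `2` at `P` (the tangent line being the one line whose pullback vanishes to order `≥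
2`). Nonsingular at `P` means that the local ring of `φ` at `P` (quotients of polynomials over `k`
in the `φᵢ/φⱼ`, `φⱼ` of least order at `P`, denominator a unit at `P`) is the whole valuation ring. -/
theorem result
    (k K : Type*) [Field k] [IsAlgClosed k] [Field K] [Algebra k K]
    (hK : FunFld.IsFunctionField k K) (φ : Fin 3 → K) (hφ : LinearIndependent k φ)
    (hbir : IntermediateField.adjoin k (Set.range fun i => φ i / φ 0) = ⊤)
    (f : MvPolynomial (Fin 3) k) (hf : Irreducible f) (hhom : f.IsHomogeneous f.totalDegree)
    (hfφ : MvPolynomial.aeval φ f = 0) (P : FunFld.Place k K) (j : Fin 3)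
    (hj : ∀ i, P.1 (φ i) ≤ P.1 (φ j)) (hns : FunFld.IsNonsingularAt φ P) (a : Fin 3 → P.O)
    (ha : ∀ i, ((a i : P.O) : K) = φ i / φ j) (c : Fin 3 → k)
    (hc : ∀ i, algebraMap k (IsLocalRing.ResidueField P.O) (c i) =
      MvPolynomial.aeval (fun l => IsLocalRing.residue P.O (a l)) (MvPolynomial.pderiv i f)) :
    P.1 (∑ i, c i • (φ i / φ j)) ≤ WithZero.exp (-2) := by
  classical
  have hne := fun i => hφ.ne_zero i
  have hle := Groth.Agent.FFLib.div_le_one_of_max (hne j) hj
  choose c' hc' using fun i => Groth.Agent.FFLib.exists_const_sub_lt (Groth.Agent.FFLib.deg_eq_one hK P) (hle i)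
  have h := Groth.Agent.FFLib.v_tangent_le (hne j) hhom hfφ hj hc'
  have he : ∀ i, c i = MvPolynomial.aeval c' (MvPolynomial.pderiv i f) := fun i => by
    have h1 := hc i
    rw [Groth.Agent.FFLib.aeval_residue a (c := c') (fun i => by rw [ha]; exact hc' i)] at h1
    exact (algebraMap k (IsLocalRing.ResidueField P.O)).injective h1
  simp only [Algebra.smul_def, he]
  exact h

end Groth.Agent.S11074
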