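import Groth.Statements.S11075
import Groth.Agent.FFLib.LocNonsing

set_option autoImplicit false
open FunFld

namespace Groth.Agent.S11075

/-- Over an algebraically closed constant field, let `φ = (φ₀, …, φₙ)`, `n ≥ 1`, be a projective map
onto the curve `V`. (a) A homogeneous `g` not vanishing identically on `V` vanishes at the image
point of only finitely many places (so a closed set not containing `V` meets `V` in a finite set);
(b) each fibre of `φ` is finite. Here `g` vanishes at `φ(P)` when `g(φ₀/φⱼ, …, φₙ/φⱼ)` lies in the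
maximal ideal of `P` for an entry `φⱼ` of least order at `P`. Two places have the same image point
when some entry `φⱼ` has least order at both and each `φᵢ/φⱼ` is congruent to one constant modulo
both maximal ideals. -/
theorem result (k K : Type*) [Field k] [IsAlgClosed k] [Field K] [Algebra k K]
    (hK : FunFld.IsFunctionField k K) {n : ℕ} (hn : 1 ≤ n)
    (φ : Fin (n + 1) → K) (hφ : LinearIndependent k φ) :
    (∀ g : MvPolynomial (Fin (n + 1)) k, g.IsHomogeneous g.totalDegree →
      MvPolynomial.aeval φ g ≠ 0 →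
        {P : FunFld.Place k K | ∃ j, φ j ≠ 0 ∧ (∀ i, P.1 (φ i) ≤ P.1 (φ j)) ∧
          P.1 (MvPolynomial.aeval (fun i => φ i / φ j) g) < 1}.Finite) ∧
    ∀ P : FunFld.Place k K, {Q : FunFld.Place k K | FunFld.SameImage φ P Q}.Finite := by
  classical
  refine ⟨fun g hhom hg => ?_, fun P => ?_⟩
  · refine (Set.finite_iUnion fun j => Groth.Agent.FFLib.finite_zeros hK
      (MvPolynomial.aeval (fun i => φ i / φ j) g)).subset ?_
    rintro P ⟨j, hj, -, hlt⟩
    refine Set.mem_iUnion.2 ⟨j, (Groth.Agent.FFLib.v_lt_one_iff P fun h0 => hg ?_).1 hlt⟩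
    have he := Groth.Agent.FFLib.aeval_scale hhom (φ j) (fun i => φ i / φ j)
    simp only [mul_div_cancel₀ _ hj] at he
    rw [he, h0, mul_zero]
  · obtain ⟨j, hmax⟩ := Groth.Agent.FFLib.exists_max_coord φ P
    have hj := hφ.ne_zero j
    obtain ⟨i, hij⟩ : ∃ i : Fin (n + 1), i ≠ j := by
      have : Nontrivial (Fin (n + 1)) := Fin.nontrivial_iff_two_le.2 (by omega)
      exact exists_ne j
    obtain ⟨c, hc⟩ := Groth.Agent.FFLib.exists_const_sub_lt (Groth.Agent.FFLib.deg_eq_one hK P)
      (Groth.Agent.FFLib.div_le_one_of_max hj hmax i)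
    have hne : φ i / φ j - algebraMap k K c ≠ 0 := fun h0 => by
      have h1 : (1 : k) • φ i + (-c) • φ j = 0 := by
        rw [sub_eq_zero, div_eq_iff hj] at h0
        rw [one_smul, neg_smul, Algebra.smul_def, ← h0, add_neg_cancel]
      have hli := Fintype.linearIndependent_iff.1 hφ (Pi.single i 1 + Pi.single j (-c)) (by
        simp only [Pi.add_apply, add_smul, Finset.sum_add_distrib, Pi.single_apply, ite_smul, zero_smul,
          Finset.sum_ite_eq', Finset.mem_univ, if_true]
        simpa using h1) i
      simp [hij] at hli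
    refine (Groth.Agent.FFLib.finite_zeros hK (φ i / φ j - algebraMap k K c)).subset fun Q hQ => ?_
    obtain ⟨c0, h1, h2⟩ := (Groth.Agent.FFLib.sameImage_iff hj hmax).1 hQ i
    have hcc : c = c0 := by
      by_contra hne0
      have h3 : P.1 (algebraMap k K (c - c0)) < 1 := by
        rw [map_sub, show algebraMap k K c - algebraMap k K c0 =
          (φ i / φ j - algebraMap k K c0) - (φ i / φ j - algebraMap k K c) by ring]
        exact (P.1.map_sub _ _).trans_lt (max_lt h1 hc)
      exact h3.ne (Groth.Agent.FFLib.v_const P (sub_ne_zero.2 hne0))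
    exact (Groth.Agent.FFLib.v_lt_one_iff Q hne).1 (hcc ▸ h2)

end Groth.Agent.S11075
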