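import Groth.Statements.S11076
import Groth.Agent.FFLib.LocNonsing
import Groth.Agent.S11075

set_option autoImplicit false
open FunFld

namespace Groth.Agent.S11076

/-- Over an algebraically closed constant field, a projective curve (given by a birational projective
map `φ = (φ₀, …, φₙ)`, `n ≥ 1`) is nonsingular at the point `a = φ(P)` if and only if some
hyperplane `∑ cᵢ Xᵢ` has intersection multiplicity `1` with it at `a`: the sum over the places `Q`
of the fibre of `a` of `[φ](Q) + ord_Q(∑ cᵢ φᵢ)` is `1`. Nonsingular at `P` means that the local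
ring of `φ` at `P` (quotients of polynomials over `k` in the `φᵢ/φⱼ`, `φⱼ` of least order at `P`,
denominator a unit at `P`) is the whole valuation ring. Two places have the same image point when
some entry `φⱼ` has least order at both and each `φᵢ/φⱼ` is congruent to one constant modulo both
maximal ideals. -/
theorem result (k K : Type*) [Field k] [IsAlgClosed k] [Field K] [Algebra k K]
    (hK : FunFld.IsFunctionField k K) {n : ℕ} (hn : 1 ≤ n)
    (φ : Fin (n + 1) → K) (hφ : LinearIndependent k φ)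
    (hbir : IntermediateField.adjoin k (Set.range fun i => φ i / φ 0) = ⊤)
    (P : FunFld.Place k K) :
    FunFld.IsNonsingularAt φ P ↔ ∃ c : Fin (n + 1) → k, ∑ i, c i • φ i ≠ 0 ∧
      ∑ᶠ Q ∈ {Q : FunFld.Place k K | FunFld.SameImage φ P Q},
        ((FunFld.mapDiv k φ) Q + Q.ord (∑ i, c i • φ i)) = 1 := by
  classical
  obtain ⟨j, hmax⟩ := Groth.Agent.FFLib.exists_max_coord φ P
  have hne := fun i => hφ.ne_zero i
  have hj := hne j
  have hgen := Groth.Agent.FFLib.adjoin_ratio_top (hne 0) hj hbir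
  rw [Groth.Agent.FFLib.nonsingular_iff hK hj hmax hgen]
  set D := FunFld.mapDiv k φ with hD
  have hfib : ∀ Q, FunFld.SameImage φ P Q ↔ ∀ i, Groth.Agent.FFLib.Cong P Q (φ i / φ j) :=
    fun Q => Groth.Agent.FFLib.sameImage_iff hj hmax
  have hPP : FunFld.SameImage φ P P := (hfib P).2 fun i =>
    Groth.Agent.FFLib.Cong.refl hK P (Groth.Agent.FFLib.div_le_one_of_max hj hmax i)
  have hterm : ∀ Q, FunFld.SameImage φ P Q → ∀ s : K, s ≠ 0 → ∀ d : ℤ,
      (Q.1 (s / φ j) = WithZero.exp (-d) ↔ D Q + Q.ord s = d) := by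
    intro Q hQ s hs d
    have hQj : ∀ l, Q.1 (φ l) ≤ Q.1 (φ j) := fun l => by
      have := ((hfib Q).1 hQ l).le_one
      rwa [map_div₀, div_le_one₀ (zero_lt_iff.2 (Groth.Agent.FFLib.v_ne_zero Q hj))] at this
    rw [map_div₀, Groth.Agent.FFLib.v_coord_eq hK hne hQj, ← hD, div_eq_iff WithZero.exp_ne_zero,
      ← WithZero.exp_add, Groth.Agent.FFLib.v_eq Q hs, WithZero.exp_inj]
    omega
  constructor
  · rintro ⟨huniq, s, hs, hs1⟩
    obtain ⟨c, rfl⟩ := (Submodule.mem_span_range_iff_exists_fun k).1 hs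
    have hs0 : ∑ i, c i • φ i ≠ 0 := fun e => by
      rw [e, zero_div, map_zero] at hs1; exact WithZero.exp_ne_zero hs1.symm
    refine ⟨c, hs0, ?_⟩
    have hset : {Q : FunFld.Place k K | FunFld.SameImage φ P Q} = {P} := by
      ext Q
      exact ⟨fun h => huniq Q ((hfib Q).1 h), fun h => (Set.mem_singleton_iff.1 h) ▸ hPP⟩
    rw [hset, finsum_mem_singleton]
    exact (hterm P hPP _ hs0 1).1 hs1
  · rintro ⟨c, hc0, hsum⟩
    have hfin : {Q : FunFld.Place k K | FunFld.SameImage φ P Q}.Finite :=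
      (Groth.Agent.S11075.result k K hK hn φ hφ).2 P
    rw [finsum_mem_eq_finite_toFinset_sum _ hfin] at hsum
    set F := hfin.toFinset with hF
    set s := ∑ i, c i • φ i
    set f := fun Q : FunFld.Place k K => D Q + Q.ord s with hf
    have hsum' : ∑ Q ∈ F, f Q = 1 := hsum
    have hsmem : s ∈ Submodule.span k (Set.range φ) :=
      Submodule.sum_mem _ fun i _ => Submodule.smul_mem _ _ (Submodule.subset_span ⟨i, rfl⟩)
    have hcong : ∀ Q ∈ F, Groth.Agent.FFLib.Cong P Q (s / φ j) := fun Q hQ =>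
      Groth.Agent.FFLib.cong_chart ((hfib Q).1 ((Set.Finite.mem_toFinset hfin).1 hQ))
        (Groth.Agent.FFLib.span_div_mem_chart hsmem)
    have hval : ∀ Q ∈ F, Q.1 (s / φ j) = WithZero.exp (-f Q) := fun Q hQ =>
      (hterm Q ((Set.Finite.mem_toFinset hfin).1 hQ) s hc0 _).2 rfl
    have hPF : P ∈ F := (Set.Finite.mem_toFinset hfin).2 hPP
    have hPlt : P.1 (s / φ j) < 1 := by
      by_contra h
      have h0 : ∑ Q ∈ F, f Q = 0 := Finset.sum_eq_zero fun Q hQ => by
        have h1 : Q.1 (s / φ j) = 1 :=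
          le_antisymm (hcong Q hQ).le_one (not_lt.1 (mt (hcong Q hQ).lt_iff.1 h))
        rw [hval Q hQ, ← WithZero.exp_zero, WithZero.exp_inj] at h1
        omega
      omega
    have hge : ∀ Q ∈ F, 1 ≤ f Q := fun Q hQ => by
      have h := (hcong Q hQ).lt_iff.2 hPlt
      rw [hval Q hQ, ← WithZero.exp_zero, WithZero.exp_lt_exp] at h
      omega
    have hcard : (F.card : ℤ) ≤ 1 := by
      rw [← hsum']
      simpa using Finset.card_nsmul_le_sum F f 1 hge
    have hFs : F = {P} := Finset.eq_singleton_iff_unique_mem.2 ⟨hPF, fun Q hQ =>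
      Finset.card_le_one.1 (by omega) Q hQ P hPF⟩
    refine ⟨fun Q hQ => ?_, s, hsmem, ?_⟩
    · have : Q ∈ F := (Set.Finite.mem_toFinset hfin).2 ((hfib Q).2 hQ)
      rw [hFs, Finset.mem_singleton] at this
      exact this
    · rw [hFs, Finset.sum_singleton] at hsum'
      rw [hval P hPF, hsum']

end Groth.Agent.S11076
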