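import Groth.Statements.S11078
import Groth.Agent.FFLib.LocNonsing

set_option autoImplicit false
open FunFld

namespace Groth.Agent.S11078

/-- Over an algebraically closed constant field, for a projective map `φ = (φ₀, …, φₙ)`, `n ≥ 1`, and a
point `a = φ(P)` with local ring `O_a`, the fibre `φ⁻¹(a)` consists of the places `Q` with `O_a ⊆
O_Q` and `m_Q ∩ O_a` equal to the maximal ideal of `O_a` (which is `m_P ∩ O_a`). Here `O_a` consists
of the quotients of polynomials over `k` in the ratios `φᵢ/φⱼ`, `φⱼ` of least order at `P`, with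
denominator a unit at `P`; and `Q` has the same image point as `P` when some entry has least order
at both places and the ratios are congruent to common constants modulo both maximal ideals. -/
theorem result
    (k K : Type*) [Field k] [IsAlgClosed k] [Field K] [Algebra k K]
    (hK : FunFld.IsFunctionField k K) {n : ℕ} (hn : 1 ≤ n) (φ : Fin (n + 1) → K)
    (hφ : LinearIndependent k φ) (P Q : FunFld.Place k K) :
    FunFld.SameImage φ P Q ↔
      ∀ z : K, FunFld.InLocRing φ P z → (Q.1 z ≤ 1 ∧ (Q.1 z < 1 ↔ P.1 z < 1)) := by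
  obtain ⟨j, hmax⟩ := Groth.Agent.FFLib.exists_max_coord φ P
  have hj := hφ.ne_zero j
  have hsp : φ j ∈ Submodule.span k (Set.range φ) := Submodule.subset_span ⟨j, rfl⟩
  rw [Groth.Agent.FFLib.sameImage_iff hj hmax]
  simp only [Groth.Agent.FFLib.inLocRing_iff hj hsp hmax]
  constructor
  · intro h z hz
    have hc := hz.cong fun _ ha => Groth.Agent.FFLib.cong_chart h ha
    exact ⟨hc.le_one, hc.lt_iff⟩
  · intro h i
    obtain ⟨c, hc⟩ := Groth.Agent.FFLib.exists_const_sub_lt (Groth.Agent.FFLib.deg_eq_one hK P)
      (Groth.Agent.FFLib.div_le_one_of_max hj hmax i)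
    exact ⟨c, hc, (h _ (.of_mem (Subalgebra.sub_mem _ (Groth.Agent.FFLib.div_mem_chart _ i)
      (Subalgebra.algebraMap_mem _ c)))).2.2 hc⟩

end Groth.Agent.S11078
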