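import Groth.Statements.S11079
import Mathlib.LinearAlgebra.LinearIndependent.Lemmas
import Mathlib.LinearAlgebra.Matrix.NonsingularInverse
import Mathlib.LinearAlgebra.Matrix.ToLin
import Mathlib.LinearAlgebra.FiniteDimensional.Lemmas
import Mathlib.LinearAlgebra.Matrix.Basis
-- import your own Groth.Agent.* helpers here

set_option autoImplicit false
set_option linter.style.haveILetI false
universe u
open CAlg

namespace Groth.Agent.S11079

/-- Let L/K be a finite Galois extension of fields, n a natural number, and B a map from the Galois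
group of L over K to the invertible n × n matrices over L such that B(σ) · σ(B(τ)) = B(στ) for all
σ, τ, where σ acts on matrices entrywise and στ is the automorphism applying τ first. Then there is
an invertible matrix A over L with B(σ) = A⁻¹ · σ(A) for every σ; that is, every 1-cocycle of the
Galois group with values in GL_n(L) is a coboundary. -/
theorem result (K L : Type u) [Field K] [Field L]
    [Algebra K L] [FiniteDimensional K L] [IsGalois K L] (n : ℕ)
    (B : (L ≃ₐ[K] L) → GL (Fin n) L)
    (hB : ∀ σ τ : L ≃ₐ[K] L,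
      (B σ : Matrix (Fin n) (Fin n) L) * (B τ : Matrix (Fin n) (Fin n) L).map σ = (B (σ * τ) : Matrix (Fin n) (Fin n) L)) :
    ∃ A : GL (Fin n) L, ∀ σ : L ≃ₐ[K] L,
      (B σ : Matrix (Fin n) (Fin n) L) = ((A⁻¹ : GL (Fin n) L) : Matrix (Fin n) (Fin n) L) * (A : Matrix (Fin n) (Fin n) L).map σ := by
  classical
  let b : (Fin n → L) → (Fin n → L) := fun v => ∑ σ : L ≃ₐ[K] L, (B σ : Matrix (Fin n) (Fin n) L).mulVec (σ ∘ v)
  have hspan : Submodule.span L (Set.range b) = ⊤ := by
    by_contra hne
    obtain ⟨φ, hφ0, hφ⟩ := Submodule.exists_le_ker_of_lt_top _ (lt_top_iff_ne_top.2 hne)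
    apply hφ0
    have key : ∀ (σ : L ≃ₐ[K] L) (j : Fin n), φ ((B σ : Matrix (Fin n) (Fin n) L).mulVec (Pi.single j 1)) = 0 := by
      intro σ j
      have hli := linearIndependent_algHom_toLinearMap K L L
      have hli' := hli.comp (fun σ : L ≃ₐ[K] L => (σ : L →ₐ[K] L)) (fun a c h => AlgEquiv.ext fun x => DFunLike.congr_fun h x)
      refine Fintype.linearIndependent_iff.1 hli' (fun τ => φ ((B τ : Matrix (Fin n) (Fin n) L).mulVec (Pi.single j 1))) ?_ σ
      refine LinearMap.ext fun c => ?_
      have := hφ (Submodule.subset_span ⟨Pi.single j c, rfl⟩)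
      rw [LinearMap.mem_ker] at this
      simp only [b, map_sum] at this
      simp only [Function.comp_apply, LinearMap.coe_sum, Finset.sum_apply, LinearMap.smul_apply, LinearMap.zero_apply]
      rw [← this]
      refine Finset.sum_congr rfl fun τ _ => ?_
      rw [show (τ : L → L) ∘ Pi.single j c = (τ c) • Pi.single (M := fun _ : Fin n => L) j 1 by
        ext i
        by_cases hij : i = j
        · subst hij; simp
        · simp [hij]]
      rw [Matrix.mulVec_smul, map_smul, smul_eq_mul, smul_eq_mul, mul_comm]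
      rfl
    refine (Pi.basisFun L (Fin n)).ext fun j => ?_
    have := key 1 j
    have h1 : (B 1 : Matrix (Fin n) (Fin n) L) = 1 := by
      have := hB 1 1
      rw [mul_one, show ((1 : L ≃ₐ[K] L) : L → L) = id from rfl, Matrix.map_id] at this
      have h2 : B 1 * B 1 = B 1 := Units.ext this
      rw [mul_eq_left.1 h2, Units.val_one]
    rw [h1, Matrix.one_mulVec] at this
    simpa using this
  obtain ⟨s, hs, hsli, hsspan⟩ : ∃ s : Set (Fin n → L), s ⊆ Set.range b ∧ LinearIndependent L ((↑) : s → Fin n → L) ∧ Submodule.span L s = ⊤ := by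
    obtain ⟨s, h1, h2, h3⟩ := exists_linearIndependent L (Set.range b)
    exact ⟨s, h1, h3, h2.trans hspan⟩
  let bas := Module.Basis.mk hsli (by rw [Subtype.range_coe, hsspan])
  haveI : Fintype s := FiniteDimensional.fintypeBasisIndex bas
  let e : Fin n ≃ s := ((Pi.basisFun L (Fin n)).indexEquiv bas)
  have hc : ∀ j, ∃ v, b v = bas (e j) := fun j => by
    obtain ⟨v, hv⟩ := hs (e j).2
    exact ⟨v, by rw [hv, Module.Basis.mk_apply]⟩
  choose c hc using hc
  let C : Matrix (Fin n) (Fin n) L := Matrix.of fun i j => c j i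
  let M : Matrix (Fin n) (Fin n) L := ∑ σ : L ≃ₐ[K] L, (B σ : Matrix (Fin n) (Fin n) L) * C.map σ
  have hM : ∀ i j, M i j = bas (e j) i := by
    intro i j
    rw [← hc j]
    simp only [M, b, C, Matrix.sum_apply, Finset.sum_apply, Matrix.mulVec, dotProduct, Matrix.mul_apply, Matrix.map_apply, Matrix.of_apply, Function.comp_apply]
  have hunit : IsUnit M := by
    have h1 : M = (Pi.basisFun L (Fin n)).toMatrix (bas.reindex e.symm) := by
      ext i j
      rw [hM, Module.Basis.toMatrix_apply, Pi.basisFun_repr, Module.Basis.reindex_apply, Equiv.symm_symm]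
    rw [h1]
    exact IsUnit.of_mul_eq_one _ (Module.Basis.toMatrix_mul_toMatrix_flip _ _)
  obtain ⟨U, hU⟩ := hunit
  refine ⟨U⁻¹, fun τ => ?_⟩
  have hfix : (B τ : Matrix (Fin n) (Fin n) L) * M.map τ = M := by
    have hmap : M.map τ = ∑ σ : L ≃ₐ[K] L, (B σ : Matrix (Fin n) (Fin n) L).map τ * C.map (τ * σ : L ≃ₐ[K] L) := by
      show (τ : L →+* L).mapMatrix M = _
      simp only [M, map_sum, map_mul]
      refine Finset.sum_congr rfl fun σ _ => ?_
      congr 1
    rw [hmap, Finset.mul_sum]
    simp only [← Matrix.mul_assoc, hB]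
    exact Fintype.sum_equiv (Equiv.mulLeft τ) _ _ fun σ => rfl
  rw [inv_inv]
  have hV : M.map τ * (U⁻¹ : GL (Fin n) L).val.map τ = 1 := by
    rw [← hU]
    show (τ : L →+* L).mapMatrix _ * (τ : L →+* L).mapMatrix _ = 1
    rw [← map_mul, Units.mul_inv, map_one]
  calc (B τ : Matrix (Fin n) (Fin n) L) = (B τ : Matrix (Fin n) (Fin n) L) * (M.map τ * (U⁻¹ : GL (Fin n) L).val.map τ) := by rw [hV, mul_one]
    _ = _ := by rw [← Matrix.mul_assoc, hfix, hU]

end Groth.Agent.S11079
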