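import Groth.Statements.S11080
import Mathlib.RingTheory.DedekindDomain.AdicValuation
import Mathlib.RingTheory.Valuation.ValuationSubring
-- import your own Groth.Agent.* helpers here

set_option autoImplicit false
set_option linter.style.haveILetI false
universe u
open CAlg

namespace Groth.Agent.S11080

/-- Valuation rings over a curve: let A be a Dedekind domain with fraction field K. A valuation subring
O of K contains A and is different from K if and only if O is the valuation ring of the v-adic
valuation of K at some nonzero prime v of A (equivalently O is the local ring of A at a maximal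
ideal, a discrete valuation ring). (The published statement takes A to be the coordinate ring of a
nonsingular affine curve over an algebraically closed field, which is such a Dedekind domain; its
proof uses only that the local rings of A at nonzero primes are discrete valuation rings and that
nonzero primes are maximal.) -/
theorem result (A K : Type u) [CommRing A]
    [IsDedekindDomain A] [Field K] [Algebra A K] [IsFractionRing A K] (O : ValuationSubring K) :
    ((algebraMap A K).range ≤ O.toSubring ∧ O ≠ ⊤) ↔
      ∃ v : IsDedekindDomain.HeightOneSpectrum A, O = (v.valuation K).valuationSubring := by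
  classical
  constructor
  · rintro ⟨hA, hO⟩
    have hmem : ∀ a : A, algebraMap A K a ∈ O := fun a => hA ⟨a, rfl⟩
    let f : A →+* O := (algebraMap A K).codRestrict O.toSubring hmem
    let P : Ideal A := Ideal.comap f (IsLocalRing.maximalIdeal O)
    haveI : P.IsPrime := (IsLocalRing.maximalIdeal.isMaximal O).isPrime.comap f
    have hunit : ∀ s ∉ P, (algebraMap A K s)⁻¹ ∈ O := by
      intro s hs
      obtain ⟨u, hu⟩ := IsLocalRing.notMem_maximalIdeal.1 hs
      have h1 : algebraMap A K s * ((↑u⁻¹ : O) : K) = 1 := by
        have := congrArg (fun x : O => (x : K)) u.mul_inv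
        rw [hu] at this
        exact this
      rw [inv_eq_of_mul_eq_one_right h1]
      exact SetLike.coe_mem _
    have hne : P ≠ ⊥ := by
      intro hP
      apply hO
      rw [eq_top_iff]
      intro x _
      obtain ⟨a, b, hb, rfl⟩ := IsFractionRing.div_surjective (A := A) x
      rw [div_eq_mul_inv]
      refine O.mul_mem _ _ (hmem a) (hunit b ?_)
      rw [hP, Ideal.mem_bot]
      exact nonZeroDivisors.ne_zero hb
    let v : IsDedekindDomain.HeightOneSpectrum A := ⟨P, inferInstance, hne⟩
    refine ⟨v, (ValuationSubring.eq_of_le_of_ne_top _ ?_ hO).symm⟩
    intro x hx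
    obtain ⟨a, d, hd⟩ := IsDedekindDomain.HeightOneSpectrum.exists_primeCompl_mul_eq_of_integer v x hx
    have hd0 : algebraMap A K d ≠ 0 := fun h => d.2 (by rw [(IsFractionRing.injective A K).eq_iff' (map_zero _)] at h; rw [h]; exact zero_mem _)
    rw [show x = algebraMap A K a * (algebraMap A K d)⁻¹ by rw [← hd, mul_inv_cancel_right₀ hd0]]
    exact O.mul_mem _ _ (hmem a) (hunit _ d.2)
  · rintro ⟨v, rfl⟩
    refine ⟨?_, ?_⟩
    · rintro _ ⟨a, rfl⟩
      exact v.valuation_le_one a
    · intro htop
      obtain ⟨π, hπ⟩ := v.valuation_exists_uniformizer K
      have : π⁻¹ ∈ (v.valuation K).valuationSubring := htop ▸ ValuationSubring.mem_top _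
      rw [Valuation.mem_valuationSubring_iff, map_inv₀, hπ] at this
      exact absurd this (not_le.2 (by simp [← WithZero.exp_neg, ← WithZero.exp_zero, WithZero.exp_lt_exp]))

end Groth.Agent.S11080
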