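import Groth.Statements.S11081
import Groth.Agent.RichLib.TameDiff
import Mathlib.RingTheory.Trace.Quotient
import Mathlib.NumberTheory.RamificationInertia.Basic
import Mathlib.RingTheory.DedekindDomain.Factorization

set_option autoImplicit false
set_option backward.isDefEq.respectTransparency false
set_option backward.isDefEq.respectTransparency.types false
set_option linter.deprecated false
universe u
attribute [local instance] FractionRing.liftAlgebra
open CAlg

namespace Groth.Agent.S11081
theorem trace_eq_add_of_exact {k U V Q : Type*} [Field k] [AddCommGroup U] [Module k U]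
    [AddCommGroup V] [Module k V] [AddCommGroup Q] [Module k Q] [FiniteDimensional k V]
    (ι : U →ₗ[k] V) (π : V →ₗ[k] Q) (hι : Function.Injective ι) (hπ : Function.Surjective π)
    (hex : LinearMap.range ι = LinearMap.ker π)
    (f : V →ₗ[k] V) (g : U →ₗ[k] U) (h : Q →ₗ[k] Q)
    (hg : f ∘ₗ ι = ι ∘ₗ g) (hh : π ∘ₗ f = h ∘ₗ π) :
    LinearMap.trace k V f = LinearMap.trace k U g + LinearMap.trace k Q h :=
  RichLib.TameDiff.trace_eq_add_of_exact ι π hι hπ hex f g h hg hh

/-- Trace on `B/P^n` over `A/p` is `n` times the trace on `B/P`. -/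
theorem trace_quot_pow {A B : Type u} [CommRing A] [CommRing B] [Algebra A B] [Module.Finite A B]
    [IsDedekindDomain B] (p : Ideal A) [p.IsMaximal] (P : Ideal B) [P.IsMaximal] (hP : P ≠ ⊥)
    [Algebra (A ⧸ p) (B ⧸ P)] [IsScalarTower A (A ⧸ p) (B ⧸ P)]
    (e : ℕ) (hp : p.map (algebraMap A B) ≤ P ^ e) (b : B) :
    ∀ n ≤ e, ∀ (I : Ideal B), I = P ^ n → ∀ [Algebra (A ⧸ p) (B ⧸ I)] [IsScalarTower A (A ⧸ p) (B ⧸ I)],
      Algebra.trace (A ⧸ p) (B ⧸ I) (Ideal.Quotient.mk I b) =
        n • Algebra.trace (A ⧸ p) (B ⧸ P) (Ideal.Quotient.mk P b) := by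
  letI := Ideal.Quotient.field p
  have hsurj : Function.Surjective (algebraMap A (A ⧸ p)) := Ideal.Quotient.mk_surjective
  intro n
  induction n with
  | zero =>
    intro _ I hI _ _
    have : Subsingleton (B ⧸ I) :=
      Ideal.Quotient.subsingleton_iff.mpr (by simpa using hI)
    rw [show Ideal.Quotient.mk I b = 0 from Subsingleton.elim _ _, map_zero, zero_nsmul]
  | succ n ih =>
    intro hn I hI _ _
    subst hI
    have hle : p ≤ (P ^ n).comap (algebraMap A B) :=
      Ideal.map_le_iff_le_comap.mp (hp.trans (Ideal.pow_le_pow_right (by omega)))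
    letI : Algebra (A ⧸ p) (B ⧸ P ^ n) := Ideal.Quotient.algebraQuotientOfLEComap hle
    haveI : IsScalarTower A (A ⧸ p) (B ⧸ P ^ n) := .of_algebraMap_eq' rfl
    haveI : Module.Finite (A ⧸ p) (B ⧸ P ^ (n+1)) := .of_restrictScalars_finite A _ _
    obtain ⟨a, ha, ha'⟩ := SetLike.exists_of_lt (Ideal.pow_succ_lt_pow hP n)
    have hspan : Ideal.span {a} ⊔ P ^ (n + 1) = P ^ n := by
      refine Ideal.eq_prime_pow_of_succ_lt_of_le hP (lt_of_le_of_ne le_sup_right fun h => ha' ?_)
        (sup_le ((Ideal.span_singleton_le_iff_mem _).2 ha) (Ideal.pow_le_pow_right n.le_succ))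
      rw [h]
      exact Submodule.mem_sup_left (Ideal.mem_span_singleton_self a)
    have hmul : P ≤ Submodule.comap (LinearMap.mulLeft B a) (P ^ (n+1) : Ideal B) := by
      intro x hx
      rw [Submodule.mem_comap, LinearMap.mulLeft_apply, pow_succ]
      exact Ideal.mul_mem_mul ha hx
    let ι₀ : (B ⧸ P) →ₗ[B] (B ⧸ P ^ (n+1)) := Submodule.mapQ P (P ^ (n+1)) (LinearMap.mulLeft B a) hmul
    let π₀ : (B ⧸ P ^ (n+1)) →ₗ[B] (B ⧸ P ^ n) :=
      Submodule.mapQ (P ^ (n+1)) (P ^ n) LinearMap.id (Ideal.pow_le_pow_right n.le_succ)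
    have hι : Function.Injective ι₀ := by
      rw [← LinearMap.ker_eq_bot, Submodule.eq_bot_iff]
      intro x hx
      obtain ⟨x, rfl⟩ := Submodule.Quotient.mk_surjective _ x
      rw [LinearMap.mem_ker, Submodule.mapQ_apply, LinearMap.mulLeft_apply,
        Submodule.Quotient.mk_eq_zero] at hx
      rw [Submodule.Quotient.mk_eq_zero]
      rw [mul_comm] at hx
      exact (Ideal.IsPrime.mul_mem_pow P hx).resolve_right ha'
    have hπs : Function.Surjective π₀ := by
      intro x
      obtain ⟨x, rfl⟩ := Submodule.Quotient.mk_surjective _ x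
      exact ⟨Submodule.Quotient.mk x, rfl⟩
    have hex : LinearMap.range ι₀ = LinearMap.ker π₀ := by
      ext x
      obtain ⟨x, rfl⟩ := Submodule.Quotient.mk_surjective _ x
      rw [LinearMap.mem_ker, Submodule.mapQ_apply, LinearMap.id_apply, Submodule.Quotient.mk_eq_zero,
        LinearMap.mem_range]
      constructor
      · rintro ⟨y, hy⟩
        obtain ⟨y, rfl⟩ := Submodule.Quotient.mk_surjective _ y
        rw [Submodule.mapQ_apply, LinearMap.mulLeft_apply, Submodule.Quotient.eq] at hy
        have h1 := Ideal.pow_le_pow_right n.le_succ hy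
        rwa [Submodule.sub_mem_iff_right _ (Ideal.mul_mem_right _ _ ha)] at h1
      · intro hx
        rw [← hspan, Submodule.mem_sup] at hx
        obtain ⟨u, hu, w, hw, rfl⟩ := hx
        obtain ⟨c, rfl⟩ := Ideal.mem_span_singleton'.1 hu
        refine ⟨Submodule.Quotient.mk c, ?_⟩
        rw [Submodule.mapQ_apply, LinearMap.mulLeft_apply, Submodule.Quotient.eq, mul_comm c,
          sub_add_cancel_left]
        exact neg_mem hw
    let ι₁ := (ι₀.restrictScalars A).extendScalarsOfSurjective hsurj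
    let π₁ := (π₀.restrictScalars A).extendScalarsOfSurjective hsurj
    have key := trace_eq_add_of_exact ι₁ π₁ hι hπs
      (by ext x; exact SetLike.ext_iff.mp hex x)
      (Algebra.lmul (A ⧸ p) (B ⧸ P ^ (n+1)) (Ideal.Quotient.mk _ b))
      (Algebra.lmul (A ⧸ p) (B ⧸ P) (Ideal.Quotient.mk _ b))
      (Algebra.lmul (A ⧸ p) (B ⧸ P ^ n) (Ideal.Quotient.mk _ b))
      (by
        refine LinearMap.ext fun x => ?_
        obtain ⟨x, rfl⟩ := Ideal.Quotient.mk_surjective x
        show Ideal.Quotient.mk _ b * Ideal.Quotient.mk _ (a * x) =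
          Ideal.Quotient.mk _ (a * (b * x))
        rw [← map_mul, mul_left_comm])
      (by
        refine LinearMap.ext fun x => ?_
        obtain ⟨x, rfl⟩ := Ideal.Quotient.mk_surjective x
        rfl)
    rw [Algebra.trace_apply, key, ← Algebra.trace_apply, ← Algebra.trace_apply,
      ih (by omega) _ rfl, succ_nsmul']

theorem trace_pi {k : Type*} [Field k] {I : Type*} [Fintype I] {Ai : I → Type*}
    [∀ i, CommRing (Ai i)] [∀ i, Algebra k (Ai i)] [∀ i, Module.Finite k (Ai i)] (z : Π i, Ai i) :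
    Algebra.trace k (Π i, Ai i) z = ∑ i, Algebra.trace k (Ai i) (z i) := by
  classical
  conv_lhs => rw [← Finset.univ_sum_single z, map_sum]
  refine Finset.sum_congr rfl fun i _ => ?_
  have h1 : Algebra.lmul k (Π i, Ai i) (Pi.single i (z i)) =
      LinearMap.single k Ai i ∘ₗ (Algebra.lmul k (Ai i) (z i) ∘ₗ LinearMap.proj i) := by
    refine LinearMap.ext fun y => funext fun j => ?_
    by_cases hj : j = i
    · subst hj; simp
    · simp [hj]
  have h2 : (Algebra.lmul k (Ai i) (z i) ∘ₗ LinearMap.proj i) ∘ₗ LinearMap.single k Ai i =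
      Algebra.lmul k (Ai i) (z i) := by
    refine LinearMap.ext fun y => ?_
    simp
  rw [Algebra.trace_apply, Algebra.trace_apply, h1, LinearMap.trace_comp_comm', h2]


/-- Let A be a Dedekind domain, B a Dedekind domain which is a finitely generated torsion-free A-algebra
whose fraction field is separable over that of A (B is the integral closure of A in a finite
separable extension), p a nonzero prime ideal of A and y an element of B. Then the class modulo p of
the trace of y from B to A is the sum over the primes Q of B lying over p of e(Q|p) times the trace,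
from B/Q to A/p, of the class of y modulo Q. -/
theorem result (A B : Type u) [CommRing A] [CommRing B]
    [IsDedekindDomain A] [IsDedekindDomain B] [Algebra A B] [Module.Finite A B] [Module.IsTorsionFree A B]
    [Algebra.IsSeparable (FractionRing A) (FractionRing B)]
    (p : Ideal A) [p.IsMaximal] (hp : p ≠ ⊥) (y : B) :
    Ideal.Quotient.mk p (Algebra.intTrace A B y) =
      ∑ᶠ Q : p.primesOver B,
        Q.1.ramificationIdx A •
          Algebra.trace (A ⧸ p) (B ⧸ Q.1) (Ideal.Quotient.mk Q.1 y) := by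
  classical
  letI := Ideal.Quotient.field p
  have hpB : p.map (algebraMap A B) ≠ ⊥ := Ideal.map_ne_bot_of_ne_bot hp
  haveI : ∀ P : (UniqueFactorizationMonoid.factors (p.map (algebraMap A B))).toFinset, P.1.IsMaximal := fun P =>
    ((IsDedekindDomain.mem_primesOverFinset_iff hp B).1 P.2).1.isMaximal (Ideal.ne_bot_of_mem_primesOver hp
      ((IsDedekindDomain.mem_primesOverFinset_iff hp B).1 P.2))
  have hle : ∀ P : (UniqueFactorizationMonoid.factors (p.map (algebraMap A B))).toFinset,
      p.map (algebraMap A B) ≤ P.1 ^ Ideal.ramificationIdx' p P.1 := fun P => Ideal.le_pow_ramificationIdx'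
  letI : ∀ P : (UniqueFactorizationMonoid.factors (p.map (algebraMap A B))).toFinset,
      Algebra (A ⧸ p) (B ⧸ P.1 ^ Ideal.ramificationIdx' p P.1) := fun P =>
    Ideal.Quotient.algebraQuotientOfLEComap (Ideal.map_le_iff_le_comap.1 (hle P))
  haveI : ∀ P : (UniqueFactorizationMonoid.factors (p.map (algebraMap A B))).toFinset,
      IsScalarTower A (A ⧸ p) (B ⧸ P.1 ^ Ideal.ramificationIdx' p P.1) := fun P => .of_algebraMap_eq' rfl
  haveI : ∀ P : (UniqueFactorizationMonoid.factors (p.map (algebraMap A B))).toFinset,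
      Module.Finite (A ⧸ p) (B ⧸ P.1 ^ Ideal.ramificationIdx' p P.1) := fun P => .of_restrictScalars_finite A _ _
  let e : (B ⧸ p.map (algebraMap A B)) ≃ₐ[A ⧸ p]
      ((P : (UniqueFactorizationMonoid.factors (p.map (algebraMap A B))).toFinset) → B ⧸ P.1 ^ Ideal.ramificationIdx' p P.1) :=
    AlgEquiv.ofRingEquiv (f := Ideal.Factors.piQuotientEquiv p hpB) fun c => by
      obtain ⟨c, rfl⟩ := Ideal.Quotient.mk_surjective c
      exact Ideal.Factors.piQuotientEquiv_mk p hpB (algebraMap A B c)
  rw [← Algebra.trace_quotient_eq_of_isDedekindDomain, ← Algebra.trace_eq_of_algEquiv e, trace_pi]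
  let g : Ideal B → A ⧸ p := fun P => if h : P ∈ p.primesOver B then
      (fun Q : p.primesOver B => Q.1.ramificationIdx A • Algebra.trace (A ⧸ p) (B ⧸ Q.1) (Ideal.Quotient.mk Q.1 y)) ⟨P, h⟩
    else 0
  have h1 : ∀ Q : p.primesOver B, Q.1.ramificationIdx A • Algebra.trace (A ⧸ p) (B ⧸ Q.1) (Ideal.Quotient.mk Q.1 y) =
      g Q.1 := fun Q => by simp only [g]; rw [dif_pos Q.2]
  rw [show (∑ᶠ Q : p.primesOver B, (Q.1.ramificationIdx A • Algebra.trace (A ⧸ p) (B ⧸ Q.1) (Ideal.Quotient.mk Q.1 y) : A ⧸ p) : A ⧸ p) =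
      ∑ᶠ Q : p.primesOver B, g Q.1 from finsum_congr h1, finsum_set_coe_eq_finsum_mem (f := g), ← IsDedekindDomain.coe_primesOverFinset hp B,
    finsum_mem_coe_finset, ← Finset.sum_coe_sort (IsDedekindDomain.primesOverFinset p B) g]
  show _ = ∑ P : (UniqueFactorizationMonoid.factors (p.map (algebraMap A B))).toFinset, g P.1
  refine Finset.sum_congr (M := A ⧸ p) rfl fun P _ => ?_
  have hP := (IsDedekindDomain.mem_primesOverFinset_iff hp B).1 P.2
  haveI : P.1.IsPrime := hP.1
  haveI : P.1.LiesOver p := hP.2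
  rw [show g P.1 = _ from dif_pos hP]
  show Algebra.trace (A ⧸ p) (B ⧸ P.1 ^ Ideal.ramificationIdx' p P.1) (Ideal.Factors.piQuotientEquiv p hpB (Ideal.Quotient.mk _ y) P) = _
  rw [Ideal.Factors.piQuotientEquiv_mk p hpB y,
    trace_quot_pow p P.1 (Ideal.ne_bot_of_mem_primesOver hp hP) _ (hle P) y _ le_rfl _ rfl,
    Ideal.ramificationIdx'_eq_ramificationIdx p P.1 hp]

end Groth.Agent.S11081
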