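import Groth.Statements.S11084
import Mathlib.NumberTheory.RatFunc.Ostrowski
-- import your own Groth.Agent.* helpers here

set_option autoImplicit false
set_option linter.style.haveILetI false
universe u
open CAlg

namespace Groth.Agent.S11084

/-- Let k be a field and O a valuation subring of the field of rational functions k(x). Then O contains
the constants k and is different from k(x) if and only if O is the valuation ring of the P-adic
valuation at a nonzero prime P of the polynomial ring k[x], or O is the valuation ring of the
valuation at infinity (given by the degree). (The published statement has k algebraically closed, so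
that these valuation rings correspond to the points of the projective line; the published proof does
not use that k is algebraically closed. The published statement also asserts that distinct points
give distinct valuation rings, which this row does not state, and counts k(x) itself among the
valuation rings containing k; this row excludes it.) -/
theorem result (k : Type u) [Field k] [DecidableEq (RatFunc k)]
    (O : ValuationSubring (RatFunc k)) :
    ((algebraMap k (RatFunc k)).range ≤ O.toSubring ∧ O ≠ ⊤) ↔
      ((∃ v : IsDedekindDomain.HeightOneSpectrum (Polynomial k), O = (v.valuation (RatFunc k)).valuationSubring) ∨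
        O = (RatFunc.inftyValuation k).valuationSubring) := by
  classical
  constructor
  · rintro ⟨hk, hO⟩
    set v := O.valuation with hvdef
    haveI hv : v.IsTrivialOn k := ⟨fun a ha => le_antisymm
      ((O.valuation_le_one_iff _).2 (hk ⟨a, rfl⟩)) (by
        have h1 : v (algebraMap k (RatFunc k) a⁻¹) ≤ 1 := (O.valuation_le_one_iff _).2 (hk ⟨a⁻¹, rfl⟩)
        rw [map_inv₀, map_inv₀] at h1
        exact (inv_le_one₀ (zero_lt_iff.2 ((Valuation.ne_zero_iff v).2
          ((map_ne_zero _).2 ha)))).1 h1)⟩
    rcases lt_or_ge 1 (v RatFunc.X) with hlt | hge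
    · right
      have h := RatFunc.valuation_isEquiv_inftyValuation_of_one_lt_valuation_X hlt
      rw [Valuation.isEquiv_iff_valuationSubring, hvdef, O.valuationSubring_valuation] at h
      exact h
    · left
      have hpoly : ∀ f : Polynomial k, v (algebraMap (Polynomial k) (RatFunc k) f) ≤ 1 := by
        intro f
        induction f using Polynomial.induction_on' with
        | add p q hp hq =>
          rw [map_add]
          exact (v.map_add _ _).trans (max_le hp hq)
        | monomial n a =>
          rw [← Polynomial.C_mul_X_pow_eq_monomial, map_mul, map_mul, map_pow, map_pow,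
            RatFunc.algebraMap_X, RatFunc.algebraMap_C, ← RatFunc.algebraMap_eq_C]
          exact mul_le_one' ((O.valuation_le_one_iff _).2 (hk ⟨a, rfl⟩)) (pow_le_one' hge n)
      let P : Ideal (Polynomial k) :=
        { carrier := {f | v (algebraMap (Polynomial k) (RatFunc k) f) < 1}
          zero_mem' := by simp
          add_mem' := fun {a b} ha hb => by
            simp only [Set.mem_setOf_eq, map_add] at *
            exact lt_of_le_of_lt (v.map_add _ _) (max_lt ha hb)
          smul_mem' := fun c a ha => by
            simp only [Set.mem_setOf_eq, smul_eq_mul, map_mul] at *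
            exact lt_of_le_of_lt (mul_le_of_le_one_left' (hpoly c)) ha }
      have hmem : ∀ f, f ∈ P ↔ v (algebraMap (Polynomial k) (RatFunc k) f) < 1 := fun f => Iff.rfl
      have hprime : P.IsPrime := by
        refine ⟨fun h => ?_, fun {a b} hab => ?_⟩
        · have h1 : (1 : Polynomial k) ∈ P := h ▸ trivial
          simp [hmem] at h1
        · simp only [hmem, map_mul] at hab ⊢
          by_contra hc
          push Not at hc
          exact absurd hab (not_lt.2 (one_le_mul hc.1 hc.2))
      have hunit : ∀ f, f ∉ P → v (algebraMap (Polynomial k) (RatFunc k) f) = 1 := fun f hf =>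
        le_antisymm (hpoly f) (not_lt.1 hf)
      have hne : P ≠ ⊥ := by
        intro h
        apply hO
        rw [eq_top_iff]
        intro x _
        rw [← O.valuation_le_one_iff, ← RatFunc.num_div_denom x, map_div₀,
          hunit x.denom (by rw [h]; exact x.denom_ne_zero), div_one]
        exact hpoly _
      let w : IsDedekindDomain.HeightOneSpectrum (Polynomial k) := ⟨P, hprime, hne⟩
      refine ⟨w, ?_⟩
      have hle : ∀ x, w.valuation (RatFunc k) x ≤ 1 → v x ≤ 1 := by
        intro x hx
        rw [← RatFunc.num_div_denom x, map_div₀] at hx ⊢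
        by_cases hd : x.denom ∈ P
        · have hn : x.num ∉ P := fun hn => hprime.ne_top (Ideal.eq_top_iff_one _ |>.2 (by
            obtain ⟨s, t, hst⟩ := x.isCoprime_num_denom
            rw [← hst]
            exact add_mem (Ideal.mul_mem_left _ _ hn) (Ideal.mul_mem_left _ _ hd)))
          rw [(w.valuation_eq_one_iff_notMem).2 hn] at hx
          have h2 := (w.valuation_lt_one_iff_mem (K := RatFunc k) x.denom).2 hd
          have h3 : w.valuation (RatFunc k) (algebraMap _ _ x.denom) ≠ 0 :=
            (Valuation.ne_zero_iff _).2 (RatFunc.algebraMap_ne_zero x.denom_ne_zero)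
          exact absurd hx (not_le.2 (by rw [one_div]; exact (one_lt_inv₀ (zero_lt_iff.2 h3)).2 h2))
        · rw [hunit _ hd, div_one]
          exact hpoly _
      ext x
      rw [Valuation.mem_valuationSubring_iff, ← O.valuation_le_one_iff]
      refine ⟨fun hx => ?_, hle x⟩
      by_contra hc
      push Not at hc
      have hx0 : x ≠ 0 := by rintro rfl; simp at hc
      have h1 : w.valuation (RatFunc k) x⁻¹ < 1 := by rw [map_inv₀]; exact inv_lt_one_of_one_lt₀ hc
      have h2 : v x⁻¹ < 1 := by
        rw [← RatFunc.num_div_denom x⁻¹] at h1 ⊢
        rw [map_div₀] at h1 ⊢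
        by_cases hd : x⁻¹.denom ∈ P
        · have hn : x⁻¹.num ∉ P := fun hn => hprime.ne_top (Ideal.eq_top_iff_one _ |>.2 (by
            obtain ⟨s, t, hst⟩ := x⁻¹.isCoprime_num_denom
            rw [← hst]
            exact add_mem (Ideal.mul_mem_left _ _ hn) (Ideal.mul_mem_left _ _ hd)))
          rw [(w.valuation_eq_one_iff_notMem).2 hn] at h1
          have h2 := (w.valuation_lt_one_iff_mem (K := RatFunc k) x⁻¹.denom).2 hd
          have h3 : w.valuation (RatFunc k) (algebraMap _ _ x⁻¹.denom) ≠ 0 :=
            (Valuation.ne_zero_iff _).2 (RatFunc.algebraMap_ne_zero x⁻¹.denom_ne_zero)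
          exact absurd h1.le (not_le.2 (by rw [one_div]; exact (one_lt_inv₀ (zero_lt_iff.2 h3)).2 h2))
        · rw [(w.valuation_eq_one_iff_notMem).2 hd, div_one, w.valuation_lt_one_iff_mem] at h1
          rw [hunit _ hd, div_one]
          exact h1
      rw [map_inv₀] at h2
      exact absurd hx (not_le.2 ((inv_lt_one₀ (zero_lt_iff.2 ((Valuation.ne_zero_iff v).2 hx0))).1 h2))
  · rintro (⟨w, rfl⟩ | rfl)
    · refine ⟨?_, fun h => ?_⟩
      · rintro _ ⟨a, rfl⟩
        show w.valuation (RatFunc k) (algebraMap k (RatFunc k) a) ≤ 1
        rw [IsScalarTower.algebraMap_apply k (Polynomial k) (RatFunc k)]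
        exact w.valuation_le_one _
      · obtain ⟨f, hf, hf0⟩ := Submodule.exists_mem_ne_zero_of_ne_bot w.ne_bot
        have hx : (algebraMap (Polynomial k) (RatFunc k) f)⁻¹ ∈
            (w.valuation (RatFunc k)).valuationSubring := h ▸ trivial
        rw [Valuation.mem_valuationSubring_iff, map_inv₀] at hx
        have h2 := (w.valuation_lt_one_iff_mem (K := RatFunc k) f).2 hf
        exact absurd hx (not_le.2 ((one_lt_inv₀ (zero_lt_iff.2 ((Valuation.ne_zero_iff _).2
          (RatFunc.algebraMap_ne_zero hf0)))).2 h2))
    · refine ⟨?_, fun h => ?_⟩
      · rintro _ ⟨a, rfl⟩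
        show RatFunc.inftyValuation k (algebraMap k (RatFunc k) a) ≤ 1
        by_cases ha : a = 0
        · simp [ha]
        · rw [RatFunc.algebraMap_eq_C, RatFunc.inftyValuation.C k ha]
      · have hx : RatFunc.X ∈ (RatFunc.inftyValuation k).valuationSubring := h ▸ trivial
        rw [Valuation.mem_valuationSubring_iff, RatFunc.inftyValuation.X, ← WithZero.exp_zero,
          WithZero.exp_le_exp] at hx
        omega

end Groth.Agent.S11084
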