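import Groth.Statements.S11085
import Mathlib.RingTheory.KrullDimension.Polynomial
import Mathlib.RingTheory.NoetherNormalization
import Groth.Agent.CommAlgDim.Integral
import Groth.Agent.FFLib.Degree


-- import your own Groth.Agent.* helpers here

set_option autoImplicit false
universe u
open CAlg

namespace Groth.Agent.S11085

/-- Let k be a field, A a finitely generated k-algebra which is an integral domain of Krull dimension
one (the coordinate ring of an affine curve), and F its field of fractions. Then the set of
valuation subrings of F which contain k but do not contain A is finite. (The published statement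
speaks of all valuation rings of F different from F and not containing A, over an algebraically
closed k; valuation rings not containing k must be excluded — for k an algebraic closure of a
rational function field in one variable t over a finite field and F = k(x), the t-adic valuation of
k has infinitely many extensions to F, none of whose rings contains A — and the published proof,
through the valuation at infinity of k(x), treats valuation rings containing k; it does not use that
k is algebraically closed.) -/
theorem result (k A F : Type u) [Field k]
    [CommRing A] [IsDomain A] [Algebra k A] [Algebra.FiniteType k A] (hA : ringKrullDim A = 1)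
    [Field F] [Algebra A F] [IsFractionRing A F] [Algebra k F] [IsScalarTower k A F] :
    {O : ValuationSubring F | (algebraMap k F).range ≤ O.toSubring ∧
        ¬ (algebraMap A F).range ≤ O.toSubring}.Finite := by
  classical
  obtain ⟨s, g, hg, hgfin⟩ := exists_finite_inj_algHom_of_fg k A
  letI : Algebra (MvPolynomial (Fin s) k) A := g.toRingHom.toAlgebra
  haveI : Module.Finite (MvPolynomial (Fin s) k) A := hgfin
  have hdim := CommAlgDim.ringKrullDim_eq_of_integral (MvPolynomial (Fin s) k) A hg
  rw [hA, MvPolynomial.ringKrullDim_of_isNoetherianRing, ringKrullDim_eq_zero_of_field, zero_add, Nat.card_fin] at hdim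
  have hs : s = 1 := by exact_mod_cast hdim.symm
  subst hs
  let ι : MvPolynomial (Fin 1) k →ₐ[k] F := (IsScalarTower.toAlgHom k A F).comp g
  have hι : Function.Injective ι := (IsFractionRing.injective A F).comp hg
  let x : F := ι (MvPolynomial.X 0)
  have htr : Transcendental k x := by
    have h0 : Transcendental k (MvPolynomial.X (0 : Fin 1) : MvPolynomial (Fin 1) k) := MvPolynomial.transcendental_X k 0
    exact fun h => h0 ((isAlgebraic_algHom_iff ι hι).1 h)
  let E := IntermediateField.adjoin k ({x} : Set F)
  have hrange : ∀ p : MvPolynomial (Fin 1) k, ι p ∈ E := by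
    intro p
    induction p using MvPolynomial.induction_on with
    | C c => rw [show ι (MvPolynomial.C c) = algebraMap k F c from ι.commutes c]; exact E.algebraMap_mem c
    | add a b ha hb => rw [map_add]; exact add_mem ha hb
    | mul_X a i ha => rw [map_mul, Fin.eq_zero i]; exact mul_mem ha (IntermediateField.mem_adjoin_simple_self k x)
  obtain ⟨T, hT⟩ := (inferInstance : Algebra.FiniteType k A).out
  have hint : ∀ a : A, IsIntegral E (algebraMap A F a) := by
    intro a
    obtain ⟨f, hf, hfa⟩ := (IsIntegral.of_finite (MvPolynomial (Fin 1) k) a)
    let ψ : MvPolynomial (Fin 1) k →+* E := ι.toRingHom.codRestrict E.toSubalgebra.toSubring hrange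
    refine ⟨f.map ψ, hf.map ψ, ?_⟩
    rw [Polynomial.eval₂_map, show (algebraMap E F).comp ψ = (algebraMap A F).comp g.toRingHom from RingHom.ext fun _ => rfl,
      ← Polynomial.hom_eval₂, show Polynomial.eval₂ g.toRingHom a f = 0 from hfa, map_zero]
  let S : Set F := algebraMap A F '' (T : Set A)
  have hTmem : ∀ a : A, algebraMap A F a ∈ (IntermediateField.adjoin E S).restrictScalars k := by
    intro a
    have ha : a ∈ Algebra.adjoin k (T : Set A) := hT ▸ Algebra.mem_top
    induction ha using Algebra.adjoin_induction with
    | mem b hb => exact IntermediateField.subset_adjoin E S ⟨b, hb, rfl⟩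
    | algebraMap c => rw [← IsScalarTower.algebraMap_apply]; exact IntermediateField.algebraMap_mem _ c
    | add b c _ _ hb hc => rw [map_add]; exact add_mem hb hc
    | mul b c _ _ hb hc => rw [map_mul]; exact mul_mem hb hc
  haveI : Finite S := (T.finite_toSet.image _).to_subtype
  have htop : IntermediateField.adjoin E S = ⊤ := by
    rw [eq_top_iff]
    intro z _
    obtain ⟨a, b, -, rfl⟩ := IsFractionRing.div_surjective A z
    exact div_mem (hTmem a) (hTmem b)
  have hFG : Groth.Agent.FFLib.FG1 k F :=
    ⟨x, htr, Groth.Agent.FFLib.finite_of_adjoin_eq_top S (by rintro _ ⟨a, _, rfl⟩; exact hint a) htop⟩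
  refine ((T.finite_toSet.biUnion fun t _ =>
    (Groth.Agent.FFLib.finite_support_ord hFG (algebraMap A F t)).image (fun P : FunFld.Place k F => P.O))).subset ?_
  rintro O ⟨hkO, hAO⟩
  obtain ⟨t, ht, htO⟩ : ∃ t ∈ T, algebraMap A F t ∉ O := by
    by_contra hc
    push Not at hc
    refine hAO ?_
    rintro _ ⟨a, rfl⟩
    have ha : a ∈ Algebra.adjoin k (T : Set A) := hT ▸ Algebra.mem_top
    induction ha using Algebra.adjoin_induction with
    | mem b hb => exact hc b hb
    | algebraMap c => rw [← IsScalarTower.algebraMap_apply]; exact hkO ⟨c, rfl⟩
    | add b c _ _ hb hc' => rw [map_add]; exact add_mem hb hc'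
    | mul b c _ _ hb hc' => rw [map_mul]; exact mul_mem hb hc'
  obtain ⟨P, hP⟩ := Groth.Agent.FFLib.exists_place_of_valuationSubring hFG O (fun c => hkO ⟨c, rfl⟩)
    (fun h => htO (h ▸ trivial))
  refine Set.mem_biUnion ht ⟨P, ?_, hP⟩
  intro h0
  have h0' : P.ord (algebraMap A F t) = 0 := h0
  rw [← hP] at htO
  exact htO (by
    by_cases hz : algebraMap A F t = 0
    · rw [hz]; exact zero_mem _
    · show P.1 _ ≤ 1
      rw [Groth.Agent.FFLib.v_eq P hz, h0']
      simp)

end Groth.Agent.S11085
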