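import Groth.Statements.S11086
-- import your own Groth.Agent.* helpers here

set_option autoImplicit false
universe u
attribute [local instance] FractionRing.liftAlgebra
open CAlg

namespace Groth.Agent.S11086

/-- Let A be a Dedekind domain, B a Dedekind domain which is a finitely generated torsion-free A-algebra
with fraction field separable over that of A (the integral closure of A in a finite separable
extension), and S a submonoid of A consisting of non-zero-divisors. Let A_S and B_S be localizations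
of A at S and of B at the image of S, with B_S an algebra over A_S compatibly with A and B (so A_S
is integrally closed and B_S is a Dedekind domain, torsion-free over A_S). Then the ideal of B_S
generated by the different of B over A is the different of B_S over A_S. -/
theorem result (A B : Type u) [CommRing A] [CommRing B]
    [IsDedekindDomain A] [IsDedekindDomain B] [Algebra A B] [Module.Finite A B] [Module.IsTorsionFree A B]
    [Algebra.IsSeparable (FractionRing A) (FractionRing B)]
    (S : Submonoid A) (hS : S ≤ nonZeroDivisors A)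
    (Aₛ Bₛ : Type u) [CommRing Aₛ] [CommRing Bₛ] [Algebra A Aₛ] [Algebra B Bₛ] [Algebra Aₛ Bₛ]
    [Algebra A Bₛ] [IsScalarTower A Aₛ Bₛ] [IsScalarTower A B Bₛ]
    [IsLocalization S Aₛ] [IsLocalization (Algebra.algebraMapSubmonoid B S) Bₛ]
    [IsDomain Aₛ] [IsIntegrallyClosed Aₛ] [IsDedekindDomain Bₛ] [Module.IsTorsionFree Aₛ Bₛ] :
    Ideal.map (algebraMap B Bₛ) (differentIdeal A B) = differentIdeal Aₛ Bₛ := by
  classical
  let K := FractionRing A
  let L := FractionRing B
  have hinj : Function.Injective (algebraMap A B) := FaithfulSMul.algebraMap_injective A B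
  have hS' : Algebra.algebraMapSubmonoid B S ≤ nonZeroDivisors B := by
    rintro _ ⟨s, hs, rfl⟩
    exact mem_nonZeroDivisors_of_ne_zero ((map_ne_zero_iff _ hinj).2 (nonZeroDivisors.ne_zero (hS hs)))
  letI : Algebra Aₛ K := IsLocalization.localizationAlgebraOfSubmonoidLe Aₛ K S (nonZeroDivisors A) hS
  haveI : IsScalarTower A Aₛ K := IsLocalization.localization_isScalarTower_of_submonoid_le Aₛ K S _ hS
  letI : Algebra Bₛ L :=
    IsLocalization.localizationAlgebraOfSubmonoidLe Bₛ L (Algebra.algebraMapSubmonoid B S) (nonZeroDivisors B) hS'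
  haveI : IsScalarTower B Bₛ L :=
    IsLocalization.localization_isScalarTower_of_submonoid_le Bₛ L (Algebra.algebraMapSubmonoid B S) _ hS'
  haveI : IsFractionRing Aₛ K := IsFractionRing.isFractionRing_of_isDomain_of_isLocalization S Aₛ K
  haveI : IsFractionRing Bₛ L :=
    IsFractionRing.isFractionRing_of_isDomain_of_isLocalization (Algebra.algebraMapSubmonoid B S) Bₛ L
  letI : Algebra Aₛ L := ((algebraMap K L).comp (algebraMap Aₛ K)).toAlgebra
  haveI : IsScalarTower Aₛ K L := IsScalarTower.of_algebraMap_eq fun _ => rfl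
  haveI : IsScalarTower A Aₛ L := IsScalarTower.of_algebraMap_eq fun a => by
    show algebraMap A L a = algebraMap K L (algebraMap Aₛ K (algebraMap A Aₛ a))
    rw [← IsScalarTower.algebraMap_apply A Aₛ K, ← IsScalarTower.algebraMap_apply A K L]
  haveI : IsScalarTower Aₛ Bₛ L := IsScalarTower.of_algebraMap_eq' (IsLocalization.ringHom_ext S (by
    ext a
    simp only [RingHom.comp_apply]
    rw [← IsScalarTower.algebraMap_apply A Aₛ L, ← IsScalarTower.algebraMap_apply A Aₛ Bₛ,
      IsScalarTower.algebraMap_apply A B Bₛ, ← IsScalarTower.algebraMap_apply B Bₛ L,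
      ← IsScalarTower.algebraMap_apply A B L]))
  haveI : Algebra.IsIntegral A B := Algebra.IsIntegral.of_finite A B
  haveI : Module.Finite Aₛ Bₛ := Module.Finite.of_isLocalization A B S (Rₚ := Aₛ) (Sₚ := Bₛ)
  haveI : Algebra.IsIntegral Aₛ Bₛ := Algebra.IsIntegral.of_finite Aₛ Bₛ
  haveI : IsIntegralClosure B A L := IsIntegralClosure.of_isIntegrallyClosed B A L
  haveI : IsIntegralClosure Bₛ Aₛ L := IsIntegralClosure.of_isIntegrallyClosed Bₛ Aₛ L
  haveI : FiniteDimensional K L := inferInstance
  let T : Submodule B L := Submodule.traceDual A K 1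
  let T' : Submodule Bₛ L := Submodule.traceDual Aₛ K 1
  have hdB : ∀ d : B, d ∈ differentIdeal A B ↔ ∀ y ∈ T, algebraMap B L d * y ∈ (algebraMap B L).range := fun d => by
    have h := coeSubmodule_differentIdeal A K (L := L) (B := B)
    have h2 : d ∈ differentIdeal A B ↔ algebraMap B L d ∈ IsLocalization.coeSubmodule L (differentIdeal A B) :=
      ⟨fun hd => ⟨d, hd, rfl⟩, fun ⟨e, he, hed⟩ => (IsFractionRing.injective B L hed) ▸ he⟩
    rw [h2, h, Submodule.mem_div_iff_forall_mul_mem]
    simp only [Submodule.mem_one, RingHom.mem_range, T]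
  have hdS : ∀ d : Bₛ, d ∈ differentIdeal Aₛ Bₛ ↔ ∀ y ∈ T', algebraMap Bₛ L d * y ∈ (algebraMap Bₛ L).range := fun d => by
    have h := coeSubmodule_differentIdeal Aₛ K (L := L) (B := Bₛ)
    have h2 : d ∈ differentIdeal Aₛ Bₛ ↔ algebraMap Bₛ L d ∈ IsLocalization.coeSubmodule L (differentIdeal Aₛ Bₛ) :=
      ⟨fun hd => ⟨d, hd, rfl⟩, fun ⟨e, he, hed⟩ => (IsFractionRing.injective Bₛ L hed) ▸ he⟩
    rw [h2, h, Submodule.mem_div_iff_forall_mul_mem]
    simp only [Submodule.mem_one, RingHom.mem_range, T']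
  have hT : ∀ y, y ∈ T ↔ ∀ b : B, Algebra.trace K L (y * algebraMap B L b) ∈ (algebraMap A K).range := fun y => by
    show y ∈ Submodule.traceDual A K 1 ↔ _
    rw [Submodule.mem_traceDual]
    refine ⟨fun h b => h _ (Submodule.mem_one.2 ⟨b, rfl⟩), fun h a ha => ?_⟩
    obtain ⟨b, rfl⟩ := Submodule.mem_one.1 ha
    exact h b
  have hT' : ∀ y, y ∈ T' ↔ ∀ b : Bₛ, Algebra.trace K L (y * algebraMap Bₛ L b) ∈ (algebraMap Aₛ K).range := fun y => by
    show y ∈ Submodule.traceDual Aₛ K 1 ↔ _
    rw [Submodule.mem_traceDual]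
    refine ⟨fun h b => h _ (Submodule.mem_one.2 ⟨b, rfl⟩), fun h a ha => ?_⟩
    obtain ⟨b, rfl⟩ := Submodule.mem_one.1 ha
    exact h b
  have hTT' : ∀ y ∈ T, y ∈ T' := fun y hy => (hT' y).2 fun z => by
    obtain ⟨b, ⟨_, s, hs, rfl⟩, rfl⟩ := IsLocalization.exists_mk'_eq (Algebra.algebraMapSubmonoid B S) z
    obtain ⟨a, ha⟩ := (hT y).1 hy b
    refine ⟨IsLocalization.mk' Aₛ a (⟨s, hs⟩ : S), ?_⟩
    have hs0 : algebraMap A K s ≠ 0 := (map_ne_zero_iff _ (IsFractionRing.injective A K)).2 (nonZeroDivisors.ne_zero (hS hs))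
    refine mul_left_cancel₀ hs0 ?_
    have e1 : algebraMap A K s * algebraMap Aₛ K (IsLocalization.mk' Aₛ a (⟨s, hs⟩ : S)) = algebraMap A K a := by
      rw [IsScalarTower.algebraMap_apply A Aₛ K s, ← map_mul,
        show algebraMap A Aₛ s * IsLocalization.mk' Aₛ a (⟨s, hs⟩ : S) = algebraMap A Aₛ a from
          IsLocalization.mk'_spec' Aₛ a (⟨s, hs⟩ : S), ← IsScalarTower.algebraMap_apply]
    have e2 : algebraMap B Bₛ (algebraMap A B s) *
        IsLocalization.mk' Bₛ b (⟨algebraMap A B s, s, hs, rfl⟩ : Algebra.algebraMapSubmonoid B S) = algebraMap B Bₛ b :=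
      IsLocalization.mk'_spec' Bₛ b (⟨algebraMap A B s, s, hs, rfl⟩ : Algebra.algebraMapSubmonoid B S)
    have e3 := congrArg (algebraMap Bₛ L) e2
    rw [map_mul, ← IsScalarTower.algebraMap_apply B Bₛ L, ← IsScalarTower.algebraMap_apply B Bₛ L,
      ← IsScalarTower.algebraMap_apply A B L, IsScalarTower.algebraMap_apply A K L] at e3
    rw [e1, ha, ← smul_eq_mul (algebraMap A K s), ← LinearMap.map_smul, Algebra.smul_def, mul_left_comm, e3]
  obtain ⟨G, hG⟩ := Module.Finite.fg_top (R := A) (M := B)
  have hT'T : ∀ y ∈ T', ∃ s ∈ S, algebraMap A L s * y ∈ T := fun y hy => by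
    choose c hc using fun g : B => (hT' y).1 hy (algebraMap B Bₛ g)
    obtain ⟨⟨u, hu⟩, hu'⟩ := IsLocalization.exist_integer_multiples_of_finset S (G.image c)
    refine ⟨u, hu, (hT _).2 fun b => ?_⟩
    have hb : b ∈ Submodule.span A (G : Set B) := by rw [hG]; trivial
    induction hb using Submodule.span_induction with
    | mem g hg =>
      obtain ⟨a, ha⟩ := hu' (c g) (Finset.mem_image_of_mem c hg)
      refine ⟨a, ?_⟩
      have h1 := hc g
      rw [← IsScalarTower.algebraMap_apply B Bₛ L] at h1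
      rw [mul_assoc, ← Algebra.smul_def, LinearMap.map_smul_of_tower, ← h1, Algebra.smul_def,
        IsScalarTower.algebraMap_apply A Aₛ K a, ha, Algebra.smul_def, map_mul, ← IsScalarTower.algebraMap_apply]
    | zero => exact ⟨0, by simp⟩
    | add p q _ _ hp hq =>
      rw [map_add, mul_add, map_add]
      exact add_mem hp hq
    | smul r p _ hp =>
      obtain ⟨a, ha⟩ := hp
      refine ⟨r * a, ?_⟩
      rw [Algebra.smul_def r p, map_mul (algebraMap B L), ← IsScalarTower.algebraMap_apply A B L,
        mul_left_comm (algebraMap A L u * y) (algebraMap A L r), ← Algebra.smul_def (R := A) (A := L),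
        LinearMap.map_smul_of_tower, ← ha, Algebra.smul_def, map_mul]
  refine le_antisymm (Ideal.map_le_iff_le_comap.2 fun d hd => (hdS _).2 fun y hy => ?_) fun z hz => ?_
  · obtain ⟨s, hs, hsy⟩ := hT'T y hy
    obtain ⟨b, hb⟩ := (hdB d).1 hd _ hsy
    refine ⟨IsLocalization.mk' Bₛ b (⟨algebraMap A B s, s, hs, rfl⟩ : Algebra.algebraMapSubmonoid B S), ?_⟩
    have hs0 : algebraMap A L s ≠ 0 :=
      (map_ne_zero_iff _ (FaithfulSMul.algebraMap_injective A L)).2 (nonZeroDivisors.ne_zero (hS hs))
    refine mul_left_cancel₀ hs0 ?_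
    rw [IsScalarTower.algebraMap_apply A B L, IsScalarTower.algebraMap_apply B Bₛ L (algebraMap A B s), ← map_mul,
      show algebraMap B Bₛ (algebraMap A B s) * IsLocalization.mk' Bₛ b _ = algebraMap B Bₛ b from
        IsLocalization.mk'_spec' Bₛ b (⟨algebraMap A B s, s, hs, rfl⟩ : Algebra.algebraMapSubmonoid B S),
      ← IsScalarTower.algebraMap_apply B Bₛ L b, hb, ← IsScalarTower.algebraMap_apply B Bₛ L,
      ← IsScalarTower.algebraMap_apply B Bₛ L, ← IsScalarTower.algebraMap_apply A B L]
    ring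
  · obtain ⟨b, s, rfl⟩ := IsLocalization.exists_mk'_eq (Algebra.algebraMapSubmonoid B S) z
    have hb : algebraMap B Bₛ b ∈ differentIdeal Aₛ Bₛ := by
      rw [← IsLocalization.mk'_spec Bₛ b s]
      exact Ideal.mul_mem_right _ _ hz
    have hfg : T.FG := by
      have h := FractionalIdeal.fg_of_isUnit (FractionalIdeal.dual A K (1 : FractionalIdeal (nonZeroDivisors B) L))
        (isUnit_iff_ne_zero.2 (FractionalIdeal.dual_ne_zero A K one_ne_zero))
      rwa [FractionalIdeal.coe_dual_one] at h
    obtain ⟨Y, hY⟩ := hfg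
    choose w hw using fun y (hy : y ∈ Y) => (hdS _).1 hb y (hTT' y (hY ▸ Submodule.subset_span hy))
    have hex := IsLocalization.exist_integer_multiples_of_finset (Algebra.algebraMapSubmonoid B S)
      (Y.attach.image fun y => w y.1 y.2)
    refine hex.elim fun uu hu' => ?_
    have hub : (uu : B) * b ∈ differentIdeal A B := (hdB _).2 fun y hy => by
      rw [← hY] at hy
      induction hy using Submodule.span_induction with
      | mem y hy =>
        obtain ⟨e, he⟩ := hu' (w y hy) (Finset.mem_image.2 ⟨⟨y, hy⟩, Finset.mem_attach _ _, rfl⟩)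
        refine ⟨e, ?_⟩
        rw [IsScalarTower.algebraMap_apply B Bₛ L e, he, Algebra.smul_def, map_mul, ← IsScalarTower.algebraMap_apply,
          hw y hy, ← IsScalarTower.algebraMap_apply, map_mul, mul_assoc]
      | zero => exact ⟨0, by simp⟩
      | add p q _ _ hp hq =>
        rw [mul_add]
        exact add_mem hp hq
      | smul r p _ hp =>
        obtain ⟨e, he⟩ := hp
        refine ⟨r * e, ?_⟩
        rw [map_mul, he, Algebra.smul_def, mul_left_comm]
    refine (IsLocalization.mem_map_algebraMap_iff (Algebra.algebraMapSubmonoid B S) Bₛ).2 ⟨(⟨(uu : B) * b, hub⟩, uu * s), ?_⟩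
    show IsLocalization.mk' Bₛ b s * algebraMap B Bₛ ((uu : B) * s) = algebraMap B Bₛ ((uu : B) * b)
    rw [map_mul, map_mul, mul_left_comm, IsLocalization.mk'_spec]

end Groth.Agent.S11086
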