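import Groth.Statements.S11090
import Groth.Agent.AVAmpleLib.HomDiv

set_option autoImplicit false
universe u
open CategoryTheory CategoryTheory.Limits MonoidalCategory CartesianMonoidalCategory MonObj GrpObj AlgebraicGeometry
set_option linter.style.haveILetI false
open AbVar

namespace Groth.Agent.S11090

/-- Let k be an algebraically closed field and E, E′, E″ elliptic curves over k, i.e. group schemes over
Spec k whose underlying schemes are proper, smooth, integral and one-dimensional. Let φ : E → E′ be
a homomorphism which is finite, surjective and étale (a separable isogeny) and ψ : E → E″ a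
homomorphism such that every k-valued point of E sent to the unit by φ is sent to the unit by ψ.
Then there is a unique homomorphism ρ : E′ → E″ with ψ = ρ ∘ φ. (The published statement prints ψ as
a map from E″ to E and calls it an isogeny; its proof treats ψ as a map from E to E″, as here, and
this row allows any homomorphism ψ, the extra case of trivial ψ being immediate.) -/
theorem result (k : Type u) [Field k] [IsAlgClosed k]
    (E E' E'' : Over (Spec (CommRingCat.of k)))
    [GrpObj E] [IsProper E.hom] [Smooth E.hom] [IsIntegral E.left] (hE : topologicalKrullDim E.left = 1)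
    [GrpObj E'] [IsProper E'.hom] [Smooth E'.hom] [IsIntegral E'.left] (hE' : topologicalKrullDim E'.left = 1)
    [GrpObj E''] [IsProper E''.hom] [Smooth E''.hom] [IsIntegral E''.left] (hE'' : topologicalKrullDim E''.left = 1)
    (φ : E ⟶ E') [IsMonHom φ] [IsFinite φ.left] [Surjective φ.left] [Etale φ.left]
    (ψ : E ⟶ E'') [IsMonHom ψ]
    (hker : ∀ P : 𝟙_ (Over (Spec (CommRingCat.of k))) ⟶ E, P ≫ φ = η[E'] → P ≫ ψ = η[E'']) :
    ∃! ρ : E' ⟶ E'', IsMonHom ρ ∧ φ ≫ ρ = ψ := by
  haveI : IsReduced E.left := inferInstance
  haveI : IsReduced E'.left := inferInstance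
  haveI := Groth.Agent.GrpField.gi_of_irreducible_algClosed E.hom
  haveI := Groth.Agent.GrpField.gi_of_irreducible_algClosed E'.hom
  haveI := AVAmpleLib.gr_of_isReduced E.hom
  haveI := AVAmpleLib.gr_of_isReduced E'.hom
  haveI : GeometricallyIntegral E.hom := by
    rw [GeometricallyIntegral.eq_geometricallyReduced_inf_geometricallyIrreducible]
    exact ⟨inferInstance, inferInstance⟩
  haveI : GeometricallyIntegral E'.hom := by
    rw [GeometricallyIntegral.eq_geometricallyReduced_inf_geometricallyIrreducible]
    exact ⟨inferInstance, inferInstance⟩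
  obtain ⟨ρ, hρ, hρe⟩ := AVAmpleLib.exists_desc φ ψ fun a ha => by
    have h := hker a (ha.trans (MonObj.one_eq_one E').symm)
    exact h.trans (MonObj.one_eq_one E'')
  refine ⟨ρ, ⟨hρ, hρe⟩, fun ρ' hρ' => ?_⟩
  exact Over.OverMorphism.ext ((cancel_epi φ.left).1 (congrArg CommaMorphism.left (hρ'.2.trans hρe.symm)))

end Groth.Agent.S11090
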