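import Groth.Statements.S11091
import Mathlib.RingTheory.Henselian
import Mathlib.RingTheory.Artinian.Module
import Mathlib.RingTheory.Ideal.GoingUp
import Mathlib.RingTheory.Finiteness.Quotient
import Groth.Agent.CompleteLib.Basic
-- import your own Groth.Agent.* helpers here

set_option autoImplicit false
set_option linter.style.haveILetI false
universe u
attribute [local instance] FractionRing.liftAlgebra
open CAlg

namespace Groth.Agent.S11091

/-- Let A be a complete discrete valuation ring and B a Dedekind domain which is a finite torsion-free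
A-algebra whose fraction field is separable over that of A (the integral closure of A in a finite
separable extension E of the fraction field F). Then B has exactly one maximal ideal; equivalently,
since the discrete valuations of E extending a multiple of the valuation of F correspond to the
nonzero primes of B, the valuation of F extends uniquely to E, and B is a complete discrete
valuation ring. -/
theorem result (A B : Type u) [CommRing A] [IsDomain A] [IsDiscreteValuationRing A]
    [IsAdicComplete (IsLocalRing.maximalIdeal A) A]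
    [CommRing B] [IsDedekindDomain B] [Algebra A B] [Module.Finite A B] [Module.IsTorsionFree A B]
    [Algebra.IsSeparable (FractionRing A) (FractionRing B)] :
    ∃! M : Ideal B, M.IsMaximal := by
  classical
  set m := IsLocalRing.maximalIdeal A with hm
  set I := m.map (algebraMap A B) with hI
  haveI : IsAdicComplete m B := CompleteLib.isAdicComplete_of_finite
  haveI : IsAdicComplete I B := (IsAdicComplete.map_algebraMap_iff _ _).2 inferInstance
  have hle : ∀ M : Ideal B, M.IsMaximal → I ≤ M := by
    intro M hM
    rw [hI, Ideal.map_le_iff_le_comap]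
    haveI : Algebra.IsIntegral A B := Algebra.IsIntegral.of_finite A B
    exact (IsLocalRing.eq_maximalIdeal (Ideal.isMaximal_comap_of_isIntegral_of_isMaximal M)).ge
  letI : Field (A ⧸ m) := Ideal.Quotient.field m
  haveI : Module.Finite A (B ⧸ I) :=
    Module.Finite.of_surjective (Ideal.Quotient.mkₐ A I).toLinearMap Ideal.Quotient.mk_surjective
  haveI : Module.Finite (A ⧸ m) (B ⧸ I) := Module.Finite.of_restrictScalars_finite A _ _
  haveI : IsArtinian (A ⧸ m) (B ⧸ I) := isArtinian_of_fg_of_artinian'
  haveI : IsArtinianRing (B ⧸ I) := isArtinian_of_tower (A ⧸ m) inferInstance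
  obtain ⟨M₁, hM₁⟩ := Ideal.exists_maximal B
  refine ⟨M₁, hM₁, fun M₂ hM₂ => ?_⟩
  by_contra hne
  obtain ⟨x, hx1, hx2⟩ : ∃ x, x ∈ M₁ ∧ x ∉ M₂ := by
    by_contra h
    push Not at h
    exact hne (hM₁.eq_of_le hM₂.ne_top h).symm
  obtain ⟨n, y, hy⟩ := IsArtinian.exists_pow_succ_smul_dvd (Ideal.Quotient.mk I x) (1 : B ⧸ I)
  obtain ⟨y, rfl⟩ := Ideal.Quotient.mk_surjective y
  simp only [smul_eq_mul, mul_one, Nat.succ_eq_add_one] at hy
  have hk : ∀ k, Ideal.Quotient.mk I x ^ (n + k) * Ideal.Quotient.mk I y ^ k
      = Ideal.Quotient.mk I x ^ n := by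
    intro k
    induction k with
    | zero => simp
    | succ k ih =>
      calc _ = Ideal.Quotient.mk I x ^ (n + 1) * Ideal.Quotient.mk I y *
            (Ideal.Quotient.mk I x ^ k * Ideal.Quotient.mk I y ^ k) := by ring
        _ = Ideal.Quotient.mk I x ^ n *
            (Ideal.Quotient.mk I x ^ k * Ideal.Quotient.mk I y ^ k) := by rw [hy]
        _ = _ := by rw [← mul_assoc, ← pow_add, ih]
  let e : B := x ^ (n + 1) * y ^ (n + 1)
  have hee : Ideal.Quotient.mk I (e * e) = Ideal.Quotient.mk I e := by
    simp only [e, map_mul, map_pow]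
    calc _ = (Ideal.Quotient.mk I x ^ (n + (n + 1)) * Ideal.Quotient.mk I y ^ (n + 1)) *
          (Ideal.Quotient.mk I x * Ideal.Quotient.mk I y ^ (n + 1)) := by ring
      _ = Ideal.Quotient.mk I x ^ n *
          (Ideal.Quotient.mk I x * Ideal.Quotient.mk I y ^ (n + 1)) := by rw [hk]
      _ = _ := by ring
  have hx2' : x ^ n ∉ M₂ := fun h => hx2 (hM₂.isPrime.mem_of_pow_mem n h)
  have he2 : e ∉ M₂ := by
    intro h
    apply hx2'
    have h2 : Ideal.Quotient.mk I (x ^ n * (x * e)) = Ideal.Quotient.mk I (x ^ (n + 1)) := by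
      simp only [e, map_mul, map_pow]
      calc _ = (Ideal.Quotient.mk I x ^ (n + (n + 1)) * Ideal.Quotient.mk I y ^ (n + 1)) *
            Ideal.Quotient.mk I x := by ring
        _ = _ := by rw [hk]; ring
    rw [Ideal.Quotient.mk_eq_mk_iff_sub_mem] at h2
    have h3 : x ^ (n + 1) ∈ M₂ := by
      have h4 := Ideal.sub_mem _ (Ideal.mul_mem_left M₂ (x ^ n) (Ideal.mul_mem_left M₂ x h))
        (hle _ hM₂ h2)
      simpa using h4
    exact absurd (hM₂.isPrime.mem_of_pow_mem _ h3) hx2
  have he1 : e ∈ M₁ := Ideal.mul_mem_right _ _ (Ideal.pow_mem_of_mem _ hx1 _ (Nat.succ_pos n))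
  obtain ⟨a, ha, hae⟩ := HenselianRing.is_henselian (R := B) (I := I)
    (Polynomial.X * (Polynomial.X - 1)) (Polynomial.monic_X.mul (Polynomial.monic_X_sub_C 1)) e
    (by
      rw [Polynomial.eval_mul, Polynomial.eval_sub, Polynomial.eval_X, Polynomial.eval_one,
        mul_sub, mul_one, ← Ideal.Quotient.mk_eq_mk_iff_sub_mem]
      exact hee)
    (by
      refine IsUnit.of_mul_eq_one (Ideal.Quotient.mk I (2 * e - 1)) ?_
      simp only [Polynomial.derivative_mul, Polynomial.derivative_X, Polynomial.derivative_sub,
        Polynomial.derivative_one, Polynomial.eval_add, Polynomial.eval_one,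
        Polynomial.eval_sub, Polynomial.eval_X, sub_zero, one_mul, mul_one, ← map_mul]
      rw [show (e - 1 + e) * (2 * e - 1) = 4 * (e * e - e) + 1 by ring, map_add, map_mul, map_sub,
        hee, sub_self, mul_zero, zero_add, map_one])
  rw [Polynomial.IsRoot, Polynomial.eval_mul, Polynomial.eval_sub, Polynomial.eval_X,
    Polynomial.eval_one, mul_eq_zero, sub_eq_zero] at ha
  rcases ha with rfl | rfl
  · exact he2 (by simpa using hle _ hM₂ hae)
  · exact hM₁.ne_top ((Ideal.eq_top_iff_one _).2 (by
      simpa using Ideal.add_mem _ (hle _ hM₁ hae) he1))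

end Groth.Agent.S11091
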