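import Groth.Statements.S11092
import Groth.Agent.SepBasisLib.Basic
import Mathlib.RingTheory.Flat.FaithfullyFlat.Algebra
import Mathlib.FieldTheory.SeparablyGenerated
import Mathlib.RingTheory.Finiteness.Cardinality

set_option autoImplicit false
set_option backward.isDefEq.respectTransparency false
set_option backward.isDefEq.respectTransparency.types false
universe u v
open CAlg
open scoped TensorProduct

namespace Groth.Agent.S11092
theorem finrank_eq_one (k : Type u) (L : Type v) [Field k] [PerfectField k] [Field L] [Algebra k L]
    [Algebra.EssFiniteType k L] (x : Unit → L) (hx : IsTranscendenceBasis k x) :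
    Module.finrank L (KaehlerDifferential k L) = 1 := by
  obtain ⟨s, hs, hsep⟩ := exists_isTranscendenceBasis_and_isSeparable_of_perfectField k L
  obtain ⟨b, -⟩ := SepBasisLib.basis_of_separable (fun i : (s : Set L) => (i : L)) hs (by
    rw [Subtype.range_coe]; exact hsep)
  rw [Module.finrank_eq_card_basis b]
  have h1 := hs.lift_cardinalMk_eq hx
  simpa using h1

/-- Let k be an algebraically closed field, K a field finitely generated over k admitting a one-element
transcendence basis over k (a function field of dimension one), and L a finite extension field of K
with the compatible k-algebra structure. Then the K-linear map from the Kähler differentials of K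
over k to those of L over k induced by the inclusion is either the zero map or injective, and it is
injective if and only if L is separable over K. (The published statement takes K ⊆ L to be the
function fields of two elliptic curves related by a nonzero homomorphism; its proof uses only that
they are function fields of dimension one over k.) -/
theorem result (k : Type u) (K L : Type v)
    [Field k] [IsAlgClosed k] [Field K] [Field L] [Algebra k K] [Algebra k L] [Algebra K L]
    [IsScalarTower k K L] (hK : (⊤ : IntermediateField k K).FG)
    (hx : ∃ x : K, IsTranscendenceBasis k (fun _ : Unit => x)) [FiniteDimensional K L] :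
    (KaehlerDifferential.map k k K L = 0 ∨ Function.Injective (KaehlerDifferential.map k k K L)) ∧
      (Function.Injective (KaehlerDifferential.map k k K L) ↔ Algebra.IsSeparable K L) := by
  obtain ⟨x, hx⟩ := hx
  haveI : Algebra.EssFiniteType k K := IntermediateField.fg_top_iff.mp hK
  haveI : Algebra.EssFiniteType k L := Algebra.EssFiniteType.comp k K L
  have hxL : IsTranscendenceBasis k (algebraMap K L ∘ fun _ : Unit => x) := hx.algebraMap_comp
  have h1 := finrank_eq_one k K _ hx
  have h2 := finrank_eq_one k L _ hxL
  obtain ⟨ω, hω0, hω⟩ := finrank_eq_one_iff'.1 h1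
  refine ⟨?_, fun h => ?_, fun h => ?_⟩
  · by_cases h : KaehlerDifferential.map k k K L ω = 0
    · refine Or.inl (LinearMap.ext fun y => ?_)
      obtain ⟨c, rfl⟩ := hω y
      rw [map_smul, h, smul_zero, LinearMap.zero_apply]
    · refine Or.inr ((injective_iff_map_eq_zero _).2 fun y hy => ?_)
      obtain ⟨c, rfl⟩ := hω y
      rw [map_smul, ← algebraMap_smul L c, smul_eq_zero, map_eq_zero] at hy
      rw [hy.resolve_right h, zero_smul]
  · have hne : KaehlerDifferential.map k k K L ω ≠ 0 := fun h0 => hω0 (h (h0.trans (map_zero _).symm))
    haveI : Subsingleton (KaehlerDifferential K L) := ⟨fun a b => by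
      have hz : ∀ a : KaehlerDifferential K L, a = 0 := fun a => by
        obtain ⟨a', rfl⟩ := KaehlerDifferential.map_surjective k K L a
        obtain ⟨c, rfl⟩ := (finrank_eq_one_iff_of_nonzero' _ hne).1 h2 a'
        exact (KaehlerDifferential.exact_mapBaseChange_map k K L _).2
          ⟨c ⊗ₜ ω, KaehlerDifferential.mapBaseChange_tmul k K L c ω⟩
      rw [hz a, hz b]⟩
    haveI : Algebra.FormallyUnramified K L := (Algebra.formallyUnramified_iff K L).2 inferInstance
    haveI : Algebra.EssFiniteType K L := Algebra.EssFiniteType.of_comp k K L
    exact Algebra.FormallyUnramified.isSeparable K L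
  · haveI := h
    haveI : Algebra.FormallyEtale K L := Algebra.FormallyEtale.of_isSeparable K L
    refine (injective_iff_map_eq_zero _).2 fun y hy => ?_
    obtain ⟨c, rfl⟩ := hω y
    have h0 : (KaehlerDifferential.tensorKaehlerEquivOfFormallyEtale k K L) ((1 : L) ⊗ₜ (c • ω)) = 0 := by
      rw [KaehlerDifferential.tensorKaehlerEquivOfFormallyEtale_apply, KaehlerDifferential.mapBaseChange_tmul,
        one_smul, hy]
    rw [LinearEquiv.map_eq_zero_iff] at h0
    exact Module.FaithfullyFlat.tensorProduct_mk_injective (A := K) (B := L) _ (by simpa using h0)

end Groth.Agent.S11092
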