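import Groth.Statements.S11093
import Groth.Agent.S6332
-- import your own Groth.Agent.* helpers here

set_option autoImplicit false
set_option maxHeartbeats 1000000
universe u
attribute [local instance] FractionRing.liftAlgebra
open CAlg

namespace Groth.Agent.S11093
open IntermediateField

open PowerSeries in
/-- Artin–Schreier equations with radicand in the maximal ideal have a root. -/
theorem exists_root (p : ℕ) [hp : Fact p.Prime] (K : Type u) [Field K] [CharP K p] (h : PowerSeries K)
    (h0 : PowerSeries.constantCoeff h = 0) : ∃ r : PowerSeries K, r ^ p - r + h = 0 := by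
  haveI : CharP (PowerSeries K) p :=
    charP_of_injective_ringHom (f := PowerSeries.C (R := K)) (fun a b hab => by
      simpa using congrArg PowerSeries.constantCoeff hab) p
  let S : ℕ → PowerSeries K := fun N => ∑ i ∈ Finset.range N, h ^ (p ^ i)
  have hdvd : ∀ i, (PowerSeries.X : PowerSeries K) ^ (p ^ i) ∣ h ^ (p ^ i) := fun i =>
    pow_dvd_pow_of_dvd (PowerSeries.X_dvd_iff.2 h0) _
  have hlt : ∀ i, i < p ^ i := fun i => Nat.lt_pow_self hp.1.one_lt
  have hstab : ∀ n N, n < N → PowerSeries.coeff n (S N) = PowerSeries.coeff n (S (n + 1)) := by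
    intro n N hN
    induction N with
    | zero => omega
    | succ N ih =>
      rcases Nat.lt_succ_iff_lt_or_eq.1 hN with hlt' | heq
      · rw [show S (N + 1) = S N + h ^ (p ^ N) from Finset.sum_range_succ _ _, map_add, ih hlt',
          PowerSeries.X_pow_dvd_iff.1 (hdvd N) n (hlt'.trans (hlt N)), add_zero]
      · subst heq; rfl
  let r : PowerSeries K := PowerSeries.mk fun n => PowerSeries.coeff n (S (n + 1))
  refine ⟨r, ?_⟩
  ext n
  rw [map_zero]
  have hX : (PowerSeries.X : PowerSeries K) ^ (n + 1) ∣ r - S (n + 1) :=
    PowerSeries.X_pow_dvd_iff.2 fun m hm => by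
      rw [map_sub, PowerSeries.coeff_mk, hstab m (n + 1) hm, sub_self]
  have hS : ∀ N, S N ^ p - S N + h = h ^ (p ^ N) := by
    intro N
    induction N with
    | zero => simp [S, zero_pow hp.1.ne_zero]
    | succ N ih =>
      rw [show S (N + 1) = S N + h ^ (p ^ N) from Finset.sum_range_succ _ _, add_pow_char, ← pow_mul, ← pow_succ]
      linear_combination ih
  have hfin : (PowerSeries.X : PowerSeries K) ^ (n + 1) ∣ r ^ p - r + h := by
    have e : r ^ p - r + h = ((r - S (n + 1)) ^ p - (r - S (n + 1))) + h ^ (p ^ (n + 1)) := by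
      rw [sub_pow_char, ← hS (n + 1)]; ring
    rw [e]
    refine dvd_add (dvd_sub (hX.trans (dvd_pow_self _ hp.1.ne_zero)) hX) ?_
    exact (pow_dvd_pow _ (hlt (n + 1)).le).trans (hdvd (n + 1))
  exact PowerSeries.X_pow_dvd_iff.1 hfin n (Nat.lt_succ_self n)

/-- In an Artin–Schreier extension with integral radicand there is no total ramification. -/
theorem not_integral (p : ℕ) [hp : Fact p.Prime] (K : Type u) [Field K]
    [CharP K p] (B : Type u) [CommRing B] [IsDedekindDomain B]
    [Algebra (PowerSeries K) B] [Module.Finite (PowerSeries K) B] [Module.IsTorsionFree (PowerSeries K) B]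
    (hdeg : Module.finrank (FractionRing (PowerSeries K)) (FractionRing B) = p)
    (M : Ideal B) [M.IsMaximal] (hram : M.ramificationIdx (PowerSeries K) = p)
    (x : FractionRing B) (hgen : IntermediateField.adjoin (FractionRing (PowerSeries K)) {x} = ⊤)
    (a : PowerSeries K) (hx : x ^ p - x + algebraMap (PowerSeries K) (FractionRing B) a = 0) : False := by
  classical
  have hint : IsIntegral (PowerSeries K) x := by
    refine ⟨Polynomial.X ^ p - Polynomial.X + Polynomial.C a, ?_, ?_⟩
    · rw [sub_add]
      refine Polynomial.monic_X_pow_sub ((Polynomial.degree_sub_le _ _).trans_lt (max_lt ?_ ?_))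
      · rw [Polynomial.degree_X]; exact_mod_cast hp.1.one_lt
      · exact Polynomial.degree_C_le.trans_lt (by exact_mod_cast hp.1.pos)
    · simpa using hx
  obtain ⟨b, rfl⟩ := (IsIntegrallyClosed.isIntegral_iff (R := B)).1 (hint.tower_top (A := B))
  haveI hover : M.LiesOver (M.under (PowerSeries K)) := ⟨rfl⟩
  haveI hmax : (M.under (PowerSeries K)).IsMaximal := Ideal.isMaximal_comap_of_isIntegral_of_isMaximal M
  let q := M.under (PowerSeries K)
  haveI : Fintype (q.primesOver B) := Fintype.ofFinite _
  have hsum := Ideal.sum_ramification_inertia_eq_finrank q B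
  have hfr : Module.finrank (PowerSeries K) B = p :=
    (IsFractionRing.finrank_eq (PowerSeries K) (FractionRing (PowerSeries K)) B (FractionRing B)).symm.trans hdeg
  have hle : M.ramificationIdx (PowerSeries K) * M.inertiaDeg (PowerSeries K) ≤ p := by
    rw [← hfr, ← hsum]
    exact Finset.single_le_sum (f := fun t : q.primesOver B => t.1.ramificationIdx (PowerSeries K) * t.1.inertiaDeg (PowerSeries K))
      (fun _ _ => Nat.zero_le _) (Finset.mem_univ ⟨M, ‹M.IsMaximal›.isPrime, hover⟩)
  rw [hram] at hle
  have hf : M.inertiaDeg (PowerSeries K) = 1 := by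
    refine le_antisymm ?_ (M.inertiaDeg_pos (PowerSeries K))
    exact Nat.le_of_mul_le_mul_left (hle.trans_eq (mul_one p).symm) hp.1.pos
  rw [Ideal.inertiaDeg_eq_of_isMaximal q M] at hf
  letI : Field (PowerSeries K ⧸ q) := Ideal.Quotient.field q
  obtain ⟨cbar, hc⟩ := (finrank_eq_one_iff_of_nonzero' (1 : B ⧸ M) one_ne_zero).1 hf (Ideal.Quotient.mk M b)
  obtain ⟨c, rfl⟩ := Ideal.Quotient.mk_surjective cbar
  have hbc : Ideal.Quotient.mk M b = Ideal.Quotient.mk M (algebraMap (PowerSeries K) B c) := by
    rw [← hc, Algebra.smul_def, mul_one, Ideal.Quotient.algebraMap_mk_of_liesOver]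
  have hbeq : b ^ p - b + algebraMap (PowerSeries K) B a = 0 :=
    IsFractionRing.injective B (FractionRing B) (by
      rw [map_add, map_sub, map_pow, map_zero, ← IsScalarTower.algebraMap_apply]; exact hx)
  have hg : c ^ p - c + a ∈ q := by
    rw [Ideal.mem_comap, ← Ideal.Quotient.eq_zero_iff_mem]
    calc _ = Ideal.Quotient.mk M (b ^ p - b + algebraMap (PowerSeries K) B a) := by
          simp only [map_add, map_sub, map_pow, hbc]
      _ = 0 := by rw [hbeq, map_zero]
  rw [show q = IsLocalRing.maximalIdeal (PowerSeries K) from IsLocalRing.eq_maximalIdeal hmax, PowerSeries.maximalIdeal_eq_span_X, Ideal.mem_span_singleton,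
    PowerSeries.X_dvd_iff] at hg
  obtain ⟨r, hr⟩ := exists_root p K _ hg
  haveI : CharP (PowerSeries K) p :=
    charP_of_injective_ringHom (f := PowerSeries.C (R := K)) (fun a b hab => by
      simpa using congrArg PowerSeries.constantCoeff hab) p
  haveI : CharP (FractionRing B) p :=
    charP_of_injective_algebraMap (algebraMap (FractionRing (PowerSeries K)) (FractionRing B)).injective p
  set ρ := algebraMap (PowerSeries K) (FractionRing B) (c + r) with hρ
  have hρeq : ρ ^ p - ρ + algebraMap (PowerSeries K) (FractionRing B) a = 0 := by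
    rw [hρ, ← map_pow, ← map_sub, ← map_add, add_pow_char,
      show c ^ p + r ^ p - (c + r) + a = r ^ p - r + (c ^ p - c + a) by ring, hr, map_zero]
  have hbot : algebraMap B (FractionRing B) b - ρ ∈ (⊥ : Subfield (FractionRing B)) := by
    rw [Subfield.mem_bot_iff_pow_eq_self (FractionRing B) p, sub_pow_char]
    linear_combination hx - hρeq
  have hmem : algebraMap B (FractionRing B) b ∈
      (⊥ : IntermediateField (FractionRing (PowerSeries K)) (FractionRing B)) := by
    have h1 : algebraMap B (FractionRing B) b - ρ ∈
        (⊥ : IntermediateField (FractionRing (PowerSeries K)) (FractionRing B)).toSubfield :=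
      (bot_le : (⊥ : Subfield (FractionRing B)) ≤ _) hbot
    have h2 : ρ ∈ (⊥ : IntermediateField (FractionRing (PowerSeries K)) (FractionRing B)) :=
      IntermediateField.mem_bot.2 ⟨algebraMap (PowerSeries K) _ (c + r), (IsScalarTower.algebraMap_apply _ _ _ _).symm⟩
    simpa using add_mem (show algebraMap B (FractionRing B) b - ρ ∈
      (⊥ : IntermediateField (FractionRing (PowerSeries K)) (FractionRing B)) from h1) h2
  rw [IntermediateField.adjoin_simple_eq_bot_iff.2 hmem] at hgen
  have h1 := IntermediateField.finrank_top' (F := FractionRing (PowerSeries K)) (E := FractionRing B)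
  rw [← hgen, IntermediateField.finrank_bot, hdeg] at h1
  exact hp.1.one_lt.ne h1



/-- Second assertion: (Artin–Schreier normal form): let K be a perfect field of characteristic p > 0, A
= K[[t]] the power series ring with fraction field F, and B a Dedekind domain which is a finite
torsion-free A-algebra whose fraction field E is Galois of degree p over F and totally ramified:
some maximal ideal of B has ramification index p over A. Then there are x in E generating E over F
and α in F with x^p − x + α = 0, where α = a / t^m for a power series a with nonzero constant term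
and a positive integer m not divisible by p. -/
theorem result (p : ℕ) [Fact p.Prime] (K : Type u) [Field K]
    [CharP K p] [PerfectField K] (B : Type u) [CommRing B] [IsDedekindDomain B]
    [Algebra (PowerSeries K) B] [Module.Finite (PowerSeries K) B] [Module.IsTorsionFree (PowerSeries K) B]
    [IsGalois (FractionRing (PowerSeries K)) (FractionRing B)]
    (hdeg : Module.finrank (FractionRing (PowerSeries K)) (FractionRing B) = p)
    (M : Ideal B) [M.IsMaximal] (hram : M.ramificationIdx (PowerSeries K) = p) :
    ∃ x : FractionRing B, ∃ m : ℕ, ∃ a : PowerSeries K,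
      IntermediateField.adjoin (FractionRing (PowerSeries K)) {x} = ⊤ ∧ 0 < m ∧ ¬ p ∣ m ∧
      PowerSeries.constantCoeff a ≠ 0 ∧
      x ^ p - x + algebraMap (FractionRing (PowerSeries K)) (FractionRing B)
        (algebraMap (PowerSeries K) (FractionRing (PowerSeries K)) a /
          algebraMap (PowerSeries K) (FractionRing (PowerSeries K)) (PowerSeries.X ^ m)) = 0 := by
  classical
  haveI : FiniteDimensional (FractionRing (PowerSeries K)) (FractionRing B) :=
    Module.finite_of_finrank_pos (hdeg ▸ (Fact.out : p.Prime).pos)
  haveI : CharP (PowerSeries K) p :=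
    charP_of_injective_ringHom (f := PowerSeries.C (R := K)) (fun a b hab => by
      simpa using congrArg PowerSeries.constantCoeff hab) p
  haveI : CharP (FractionRing (PowerSeries K)) p :=
    charP_of_injective_algebraMap (IsFractionRing.injective (PowerSeries K) _) p
  haveI : CharP (FractionRing B) p :=
    charP_of_injective_algebraMap (algebraMap (FractionRing (PowerSeries K)) (FractionRing B)).injective p
  let t : FractionRing (PowerSeries K) := algebraMap (PowerSeries K) _ PowerSeries.X
  have ht : t ≠ 0 := fun h0 => PowerSeries.X_ne_zero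
    (IsFractionRing.injective (PowerSeries K) (FractionRing (PowerSeries K)) (h0.trans (map_zero _).symm))
  let P : ℕ → Prop := fun m => ∃ (x : FractionRing B) (a : PowerSeries K),
    IntermediateField.adjoin (FractionRing (PowerSeries K)) {x} = ⊤ ∧
      x ^ p - x + algebraMap _ (FractionRing B) (algebraMap (PowerSeries K) (FractionRing (PowerSeries K)) a / t ^ m) = 0
  have hP : ∃ m, P m := by
    obtain ⟨z, ⟨β, hβ⟩, hgen⟩ := Groth.Agent.S6332.result (K := FractionRing (PowerSeries K)) (L := FractionRing B) p hdeg
    obtain ⟨num, den, hden, hfrac⟩ := IsFractionRing.div_surjective (PowerSeries K) (-β)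
    obtain ⟨n, u, hu⟩ := IsDiscreteValuationRing.eq_unit_mul_pow_irreducible
      (nonZeroDivisors.ne_zero hden) (PowerSeries.X_prime (R := K)).irreducible
    refine ⟨n, z, num * (↑u⁻¹ : PowerSeries K), hgen, ?_⟩
    have e : algebraMap (PowerSeries K) (FractionRing (PowerSeries K)) (num * (↑u⁻¹ : PowerSeries K)) / t ^ n = -β := by
      rw [← hfrac, hu, map_mul, map_mul, map_pow, map_units_inv]
      field_simp
      rfl
    rw [e, map_neg, hβ, ← sub_eq_add_neg, sub_self]
  obtain ⟨x, a, hgen, hx⟩ := Nat.find_spec hP
  set m := Nat.find hP with hm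
  have hm0 : 0 < m := by
    by_contra h0
    rw [Nat.eq_zero_of_not_pos h0, pow_zero, div_one] at hx
    rw [← IsScalarTower.algebraMap_apply] at hx
    exact not_integral p K B hdeg M hram x hgen a hx
  have hconst : ∀ (x' : FractionRing B) (a' : PowerSeries K),
      IntermediateField.adjoin (FractionRing (PowerSeries K)) {x'} = ⊤ →
      x' ^ p - x' + algebraMap _ (FractionRing B) (algebraMap (PowerSeries K) (FractionRing (PowerSeries K)) a' / t ^ m) = 0 →
      PowerSeries.constantCoeff a' ≠ 0 := by
    intro x' a' hg' hx' h0
    obtain ⟨a'', rfl⟩ := PowerSeries.X_dvd_iff.2 h0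
    refine Nat.find_min hP (Nat.sub_one_lt hm0.ne') ⟨x', a'', hg', ?_⟩
    have e : algebraMap (PowerSeries K) (FractionRing (PowerSeries K)) (PowerSeries.X * a'') / t ^ m =
        algebraMap (PowerSeries K) (FractionRing (PowerSeries K)) a'' / t ^ (m - 1) := by
      conv_lhs => rw [show m = (m - 1) + 1 by omega, pow_succ', map_mul]
      rw [mul_div_mul_left _ _ ht]
    rwa [e] at hx'
  refine ⟨x, m, a, hgen, hm0, ?_, hconst x a hgen hx, by rwa [map_pow]⟩
  rintro ⟨n, hn⟩
  haveI : ExpChar K p := ExpChar.prime Fact.out
  obtain ⟨c, hc⟩ := (PerfectRing.bijective_frobenius (R := K) (p := p)).2 (PowerSeries.constantCoeff a)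
  replace hc : c ^ p = PowerSeries.constantCoeff a := hc
  have hn0 : 0 < n := Nat.pos_of_ne_zero fun h0 => by rw [h0, mul_zero] at hn; omega
  have hnm : n < m := by rw [hn]; exact lt_mul_of_one_lt_left hn0 (Fact.out : p.Prime).one_lt
  let w : FractionRing (PowerSeries K) := algebraMap (PowerSeries K) _ (PowerSeries.C c) / t ^ n
  refine hconst (x + algebraMap _ (FractionRing B) w)
    (a - PowerSeries.C (c ^ p) + PowerSeries.C c * PowerSeries.X ^ (m - n)) ?_ ?_ ?_
  · rw [eq_top_iff, ← hgen, IntermediateField.adjoin_simple_le_iff]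
    simpa using sub_mem (IntermediateField.mem_adjoin_simple_self (FractionRing (PowerSeries K)) (x + algebraMap _ (FractionRing B) w))
      (IntermediateField.algebraMap_mem (IntermediateField.adjoin (FractionRing (PowerSeries K)) {x + algebraMap _ (FractionRing B) w}) w)
  · have e : algebraMap (PowerSeries K) (FractionRing (PowerSeries K))
        (a - PowerSeries.C (c ^ p) + PowerSeries.C c * PowerSeries.X ^ (m - n)) / t ^ m =
        algebraMap (PowerSeries K) (FractionRing (PowerSeries K)) a / t ^ m - w ^ p + w := by
      have e1 : t ^ m = t ^ (m - n) * t ^ n := by rw [← pow_add]; congr 1; omega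
      have e2 : (t ^ n) ^ p = t ^ m := by rw [← pow_mul, hn, mul_comm]
      rw [map_add, map_sub, map_mul, map_pow, map_pow, map_pow, div_pow, e2, add_div, sub_div]
      congr 1
      rw [e1, mul_comm (t ^ (m - n)), mul_div_mul_right _ _ (pow_ne_zero _ ht)]
    rw [e, add_pow_char, map_add, map_sub, map_pow]
    linear_combination hx
  · have h0 : PowerSeries.constantCoeff ((PowerSeries.X : PowerSeries K) ^ (m - n)) = 0 := by
      rw [map_pow, PowerSeries.constantCoeff_X, zero_pow (by omega)]
    rw [map_add, map_sub, map_mul, h0, mul_zero, add_zero, PowerSeries.constantCoeff_C, hc, sub_self]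


end Groth.Agent.S11093
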