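import Groth.Statements.S11094
import Groth.Agent.CurveFFLib.Auto
import Groth.Agent.SplitCoverLib.Count

set_option autoImplicit false
universe u
open CategoryTheory CategoryTheory.Limits MonoidalCategory CartesianMonoidalCategory MonObj GrpObj AlgebraicGeometry
open AbVar

namespace Groth.Agent.S11094

/-- Let k be an algebraically closed field, E and E′ elliptic curves over k — group schemes over Spec k
whose underlying schemes are proper, smooth, integral and one-dimensional — and φ : E → E′ a
homomorphism which is finite, surjective and étale (a separable isogeny), sending the generic point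
of E to that of E′, so that the function field of E′ maps into the function field of E. Then the
function field of E is a Galois extension of that of E′, and the number of its automorphisms over
the function field of E′ equals the number of k-valued points of E that φ sends to the unit of E′. -/
theorem result (k : Type u) [Field k] [IsAlgClosed k]
    (E E' : Over (Spec (CommRingCat.of k)))
    [GrpObj E] [IsProper E.hom] [Smooth E.hom] [IsIntegral E.left] (hE : topologicalKrullDim E.left = 1)
    [GrpObj E'] [IsProper E'.hom] [Smooth E'.hom] [IsIntegral E'.left] (hE' : topologicalKrullDim E'.left = 1)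
    (φ : E ⟶ E') [IsMonHom φ] [IsFinite φ.left] [Surjective φ.left] [Etale φ.left]
    (e : φ.left (genericPoint E.left) = genericPoint E'.left) :
    letI := ((E'.left.presheaf.stalkSpecializes (specializes_of_eq e) ≫
      φ.left.stalkMap (genericPoint E.left)).hom).toAlgebra
    IsGalois E'.left.functionField E.left.functionField ∧
      Nat.card (E.left.functionField ≃ₐ[E'.left.functionField] E.left.functionField) =
        Nat.card {P : 𝟙_ (Over (Spec (CommRingCat.of k))) ⟶ E // P ≫ φ = η[E']} := by
  open MonoidalCategory CartesianMonoidalCategory Limits in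
  classical
  letI : E.left.Over (Spec (CommRingCat.of k)) := ⟨E.hom⟩
  letI : E'.left.Over (Spec (CommRingCat.of k)) := ⟨E'.hom⟩
  haveI : IsProper (E.left ↘ Spec (CommRingCat.of k)) := ‹IsProper E.hom›
  haveI : IsProper (E'.left ↘ Spec (CommRingCat.of k)) := ‹IsProper E'.hom›
  haveI : Smooth (E.left ↘ Spec (CommRingCat.of k)) := ‹Smooth E.hom›
  haveI : Smooth (E'.left ↘ Spec (CommRingCat.of k)) := ‹Smooth E'.hom›
  letI := CurveDualLib.algFF (k := k) (X := E.left)
  letI := CurveDualLib.algFF (k := k) (X := E'.left)
  letI iA := ((E'.left.presheaf.stalkSpecializes (specializes_of_eq e) ≫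
      φ.left.stalkMap (genericPoint E.left)).hom).toAlgebra
  show IsGalois E'.left.functionField E.left.functionField ∧ _
  let K' := E'.left.functionField
  let K := E.left.functionField
  obtain ⟨ψ, hψ⟩ := CurveFFLib.exists_algHom_of_hom (k := k) (Over.w φ) e
  have hψ' : ψ.toRingHom = algebraMap K' K :=
    (congrArg CommRingCat.Hom.hom (CurveFFLib.stalkMap_of_genPt hψ)).symm
  haveI : Flat φ.left := inferInstance
  have hrank : Module.finrank K' K = φ.left.finrank (genericPoint E'.left) := by
    have h := CurveFFLib.finrank_gen (k := k) hE hE' φ.left hψ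
    have h2 : ψ.toRingHom.toAlgebra = iA := Algebra.algebra_ext _ _ fun x => RingHom.congr_fun hψ' x
    rw [h2] at h
    exact h
  let t₀ : Spec (CommRingCat.of k) := IsLocalRing.closedPoint k
  let Z := pullback φ.left η[E'].left
  let ker := {P : 𝟙_ (Over (Spec (CommRingCat.of k))) ⟶ E // P ≫ φ = η[E']}
  have hcard : Module.finrank K' K = Nat.card ↥Z := by
    rw [hrank, φ.left.isLocallyConstant_finrank.apply_eq_of_preconnectedSpace _ (η[E'].left t₀)]
    exact SplitCover.finrank_eq_card_fibre φ.left η[E'].left t₀
  -- the kernel and the fibre over the unit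
  let pz : ker → ↥Z := fun P => (pullback.lift P.1.left (𝟙 _)
    ((congrArg CommaMorphism.left P.2).trans (Category.id_comp _).symm) : Spec (CommRingCat.of k) ⟶ Z) t₀
  have hpz : Function.Bijective pz := by
    refine ⟨fun P Q h => Subtype.ext (Over.OverMorphism.ext (ext_of_apply_closedPoint_eq E.hom (Over.w P.1) (Over.w Q.1) ?_)),
      fun z => ?_⟩
    · have h1 := congrArg (pullback.fst φ.left η[E'].left) h
      simp only [pz, ← Scheme.Hom.comp_apply, pullback.lift_fst] at h1
      exact h1
    · let s := pullback.snd φ.left η[E'].left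
      haveI : IsFinite s := inferInstance
      have hz : IsClosed ({z} : Set ↥Z) := by
        have h2 := (s.isDiscrete_preimage_singleton (s z))
        haveI : Subsingleton ↥(Spec (CommRingCat.of k)) := inferInstanceAs (Subsingleton (PrimeSpectrum k))
        refine closure_subset_iff_isClosed.mp fun w hw => ?_
        exact (h2.eq_of_specializes (specializes_iff_mem_closure.mpr hw) rfl (Subsingleton.elim (α := PrimeSpectrum k) _ _)).symm
      haveI : LocallyOfFiniteType s := inferInstance
      let p := pointOfClosedPoint s z hz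
      have hp : p ≫ s = 𝟙 _ := pointOfClosedPoint_comp s z hz
      let P : 𝟙_ (Over (Spec (CommRingCat.of k))) ⟶ E := Over.homMk (p ≫ pullback.fst φ.left η[E'].left) (by
        show _ = 𝟙 _
        rw [Category.assoc, ← Over.w φ, ← Category.assoc (pullback.fst φ.left η[E'].left), pullback.condition, Category.assoc,
          ← Category.assoc p, hp, Category.id_comp]
        exact Over.w η[E'])
      have hP : P ≫ φ = η[E'] := Over.OverMorphism.ext (by
        show (p ≫ pullback.fst φ.left η[E'].left) ≫ φ.left = _
        rw [Category.assoc, pullback.condition, ← Category.assoc, hp, Category.id_comp])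
      refine ⟨⟨P, hP⟩, ?_⟩
      have e1 : pullback.lift P.left (𝟙 _) ((congrArg CommaMorphism.left hP).trans (Category.id_comp _).symm) = p := by
        apply pullback.hom_ext
        · rw [pullback.lift_fst]; rfl
        · rw [pullback.lift_snd]; exact hp.symm
      exact (congrArg (fun f => f t₀) e1).trans (pointOfClosedPoint_apply s z hz t₀)
  have hker : Nat.card ker = Module.finrank K' K := hcard ▸ Nat.card_eq_of_bijective pz hpz
  -- translations by the kernel
  let τ (P : 𝟙_ (Over (Spec (CommRingCat.of k))) ⟶ E) : E ⟶ E := (toUnit E ≫ P) * 𝟙 E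
  have hηt : η[E] ≫ toUnit E = 𝟙 _ := toUnit_unique _ _
  have hτη : ∀ P, η[E] ≫ τ P = P := fun P => by
    have h1 : (1 : 𝟙_ (Over (Spec (CommRingCat.of k))) ⟶ E) = η[E] := by
      rw [Hom.one_def, toUnit_unique (toUnit _) (𝟙 _), Category.id_comp]
    rw [MonObj.comp_mul, ← Category.assoc, hηt, Category.id_comp, Category.comp_id, ← h1, _root_.mul_one]
  have hττ : ∀ P Q, τ P ≫ τ Q = τ (Q * P) := fun P Q => by
    show τ P ≫ ((toUnit E ≫ Q) * 𝟙 E) = (toUnit E ≫ (Q * P)) * 𝟙 E
    rw [MonObj.comp_mul, ← Category.assoc, toUnit_unique (τ P ≫ toUnit E) (toUnit E), Category.comp_id,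
      MonObj.comp_mul, _root_.mul_assoc]
  have hτ1 : τ 1 = 𝟙 E := by
    show (toUnit E ≫ 1) * 𝟙 E = 𝟙 E
    rw [MonObj.comp_one, _root_.one_mul]
  have hτφ : ∀ P : ker, τ P.1 ≫ φ = φ := fun P => by
    show ((toUnit E ≫ P.1) * 𝟙 E) ≫ φ = φ
    rw [MonObj.mul_comp, Category.assoc, P.2, Category.id_comp, ← Hom.one_def, _root_.one_mul]
  have hiso : ∀ P, IsIso (τ P).left := fun P => by
    haveI : IsIso (τ P) := ⟨τ P⁻¹, by rw [hττ, inv_mul_cancel, hτ1], by rw [hττ, mul_inv_cancel, hτ1]⟩
    exact inferInstanceAs (IsIso ((Over.forget _).map (τ P)))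
  have hgen : ∀ P, (τ P).left (genericPoint E.left) = genericPoint E.left := fun P => by
    haveI := hiso P
    exact genericPoint_eq_of_isOpenImmersion (τ P).left
  choose α hα using fun P => CurveFFLib.exists_algHom_of_hom (k := k) (Over.w (τ P)) (hgen P)
  have hfix : ∀ (P : ker) (x : K'), α P.1 (ψ x) = ψ x := fun P => by
    have h1 := congrArg (fun f => CurveFFLib.genPt E.left ≫ f) (congrArg CommaMorphism.left (hτφ P))
    simp only [Over.comp_left, ← Category.assoc, hα] at h1
    rw [Category.assoc, hψ, ← Category.assoc, ← Spec.map_comp, cancel_mono] at h1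
    exact fun x => RingHom.congr_fun (congrArg CommRingCat.Hom.hom (Spec.map_injective h1)) x
  haveI : FiniteDimensional K' K := FiniteDimensional.of_finrank_pos (hker ▸ Nat.card_pos_iff.2
    ⟨⟨⟨η[E], IsMonHom.one_hom φ⟩⟩, haveI : Finite ↥Z := Set.finite_univ_iff.1 (((pullback.snd φ.left η[E'].left).finite_preimage_singleton t₀).subset fun z _ => Subsingleton.elim (α := PrimeSpectrum k) _ _); Finite.of_injective pz hpz.1⟩)
  let bb (P : ker) : K →ₐ[K'] K :=
    { (α P.1).toRingHom with
      commutes' := fun x => by
        show α P.1 (algebraMap K' K x) = algebraMap K' K x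
        rw [← hψ']
        exact hfix P x }
  let gam (P : ker) : K ≃ₐ[K'] K := AlgEquiv.ofBijective (bb P) (bb P).bijective
  have hγ : Function.Injective gam := fun P Q h => by
    refine Subtype.ext ?_
    have h1 : α P.1 = α Q.1 := AlgHom.ext fun x => AlgEquiv.congr_fun h x
    have h2 : (τ P.1).left = (τ Q.1).left := CurveFFLib.hom_ext_gen (k := k) ((Over.w _).trans (Over.w _).symm)
      ((hα P.1).trans ((h1 ▸ hα Q.1 : CurveFFLib.genPt E.left ≫ (τ Q.1).left = _).symm))
    rw [← hτη P.1, ← hτη Q.1, show τ P.1 = τ Q.1 from Over.OverMorphism.ext h2]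
  have hle : Nat.card ker ≤ Nat.card (K ≃ₐ[K'] K) := Nat.card_le_card_of_injective gam hγ
  have heq : Nat.card (K ≃ₐ[K'] K) = Module.finrank K' K := le_antisymm (by
    rw [Nat.card_eq_fintype_card]; exact AlgEquiv.card_le) (hker ▸ hle)
  exact ⟨IsGalois.of_card_aut_eq_finrank _ _ heq, heq.trans hker.symm⟩

end Groth.Agent.S11094
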