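import Groth.Statements.S11095
import Mathlib.FieldTheory.AlgebraicClosure
import Groth.Agent.GeomFFLib.SepTensor


-- import your own Groth.Agent.* helpers here

set_option autoImplicit false
universe u
open CAlg

open TensorProduct
namespace Groth.Agent.S11095

/-- Let K₀ be a perfect field, K an algebraic extension of K₀ and F₀ a field extension of K₀ such that
K₀ is algebraically closed in F₀. Then the K₀-algebra F₀ ⊗ K is a field; consequently F₀ and K,
embedded in it by x ↦ x ⊗ 1 and y ↦ 1 ⊗ y, are linearly disjoint over K₀. -/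
theorem result (K₀ F₀ K : Type u)
    [Field K₀] [PerfectField K₀] [Field F₀] [Algebra K₀ F₀] [Field K] [Algebra K₀ K]
    [Algebra.IsAlgebraic K₀ K] (h : algebraicClosure K₀ F₀ = ⊥) :
    IsField (TensorProduct K₀ F₀ K) := by
  classical
  have hc : ∀ y : F₀, IsAlgebraic K₀ y → y ∈ Set.range (algebraMap K₀ F₀) := fun y hy => by
    have h1 : y ∈ algebraicClosure K₀ F₀ := mem_algebraicClosure_iff.2 hy
    rw [h] at h1
    exact IntermediateField.mem_bot.1 h1
  refine (Algebra.TensorProduct.comm K₀ F₀ K).toMulEquiv.isField ?_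
  have : Nontrivial (K ⊗[K₀] F₀) :=
    (Algebra.TensorProduct.includeLeft_injective (S := K₀) (A := K) (algebraMap K₀ F₀).injective).nontrivial
  refine ⟨exists_pair_ne _, mul_comm, fun {z} hz => ?_⟩
  obtain ⟨s, hs⟩ := TensorProduct.exists_finset (R := K₀) z
  let L := IntermediateField.adjoin K₀ ((s.image Prod.fst : Finset K) : Set K)
  have : FiniteDimensional K₀ L :=
    IntermediateField.finiteDimensional_adjoin fun a _ => Algebra.IsIntegral.isIntegral a
  have : Algebra.IsAlgebraic K₀ L := Algebra.IsAlgebraic.of_finite K₀ L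
  let f : L ⊗[K₀] F₀ →ₐ[K₀] K ⊗[K₀] F₀ := Algebra.TensorProduct.map L.val (AlgHom.id K₀ F₀)
  obtain ⟨w, rfl⟩ : z ∈ f.range := by
    rw [hs]
    exact Subalgebra.sum_mem _ fun p hp =>
      ⟨(⟨p.1, IntermediateField.subset_adjoin _ _ (Finset.mem_coe.2 (Finset.mem_image_of_mem _ hp))⟩ : L) ⊗ₜ p.2, rfl⟩
  obtain ⟨v, hv⟩ := (GeomFFLib.isField_tensor_of_separable hc L).mul_inv_cancel
    (a := w) fun h0 => hz (by rw [h0]; exact map_zero f)
  exact ⟨f.toRingHom v, by
    rw [← map_mul, hv]
    exact f.toRingHom.map_one⟩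

end Groth.Agent.S11095
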