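import Groth.Statements.S11099
import Groth.Agent.WeilExtLib.Group
-- import your own Groth.Agent.* helpers here

set_option autoImplicit false
set_option backward.isDefEq.respectTransparency false
set_option linter.style.haveILetI false
universe u
open CategoryTheory CategoryTheory.Limits AlgebraicGeometry
open Neron

namespace Groth.Agent.S11099

/-- Let R be a Dedekind domain, X → Spec R smooth, G → Spec R a proper group scheme, U ⊆ X an open
subscheme which is dense in every fibre of X → Spec R, and f : U → G a morphism over Spec R (a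
rational map X ⇢ G over R whose domain is dense in all fibres). Then f extends uniquely to a
morphism X → G over Spec R: a rational map from a smooth R-scheme to a proper R-group scheme,
defined densely on every fibre, is a morphism. -/
theorem result {R : Type u} [CommRing R] [IsDedekindDomain R] {X G : Scheme.{u}}
    (pX : X ⟶ Spec (CommRingCat.of R)) (pG : G ⟶ Spec (CommRingCat.of R)) [Smooth pX]
    [GrpObj (Over.mk pG)] [IsProper pG]
    (U : X.Opens) (hdense : ∀ x : X, x ∈ closure ((U : Set X) ∩ {y | pX.base y = pX.base x}))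
    (f : (U : Scheme.{u}) ⟶ G) (hf : f ≫ pG = U.ι ≫ pX) :
    ∃! g : X ⟶ G, g ≫ pG = pX ∧ U.ι ≫ g = f := by
  haveI := WeilExtLib.isLocallyNoetherian_of_smooth pX
  haveI := WeilExtLib.isReduced_of_smooth_dedekind pX
  have hU : Dense (U : Set X) := fun x => closure_mono Set.inter_subset_left (hdense x)
  obtain ⟨V, hUV, f', hf', hres, hV⟩ := WeilExtLib.exists_extend_proper pG pX
    (fun y _ => WeilExtLib.isRegular_stalk_smooth pX y) U hU f hf
  obtain ⟨g, ⟨hg₁, hg₂⟩, -⟩ := WeilExtLib.exists_extend_group pX pG WeilExtLib.isRegular_stalk_dedekind V f' hf'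
    (fun x => closure_mono (Set.inter_subset_inter_left _ hUV) (hdense x)) hV
  haveI : IsDominant U.ι := ⟨by rw [DenseRange, Scheme.Opens.range_ι]; exact hU⟩
  have hgU : U.ι ≫ g = f := by rw [← Scheme.homOfLE_ι X hUV, Category.assoc, hg₂, hres]
  exact ⟨g, ⟨hg₁, hgU⟩, fun g' hg' => ext_of_isDominant_of_isSeparated pG (hg'.1.trans hg₁.symm) U.ι (hg'.2.trans hgU.symm)⟩

end Groth.Agent.S11099
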