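import Groth.Statements.S11103
import Groth.Agent.NeronExtLib.BaseChange
import Mathlib.RingTheory.Localization.Integral
import Mathlib.RingTheory.DedekindDomain.Basic
import Mathlib.RingTheory.IntegralClosure.IntegralRestrict
import Mathlib.RingTheory.IsTensorProduct
import Mathlib.RingTheory.Localization.BaseChange
import Mathlib.RingTheory.Flat.TorsionFree
import Mathlib.AlgebraicGeometry.Morphisms.Smooth
import Mathlib.Algebra.Category.Ring.Constructions
import Mathlib.AlgebraicGeometry.Pullbacks
import Mathlib.RingTheory.Etale.Basic

set_option autoImplicit false
universe u
open CategoryTheory CategoryTheory.Limits AlgebraicGeometry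
open Neron

namespace Groth.Agent.S11103

/-- Let R be a Dedekind domain with fraction field K, let R' be a Dedekind domain finite étale over R
(the integral closure of R in a finite unramified extension K' of K), and let N be a Néron model
over Spec R of its generic fibre N_K. Then the base change N' = N ×_R R' is a Néron model over Spec
R' of its generic fibre N'_{K'}: it is smooth, separated and of finite type over Spec R', and every
K'-morphism from the generic fibre of a smooth R'-scheme to N'_{K'} extends uniquely to an
R'-morphism into N'. (The published statement concerns the Néron model of an elliptic curve with the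
mapping property for rational maps; this row allows any N and tests the mapping property on
morphisms from smooth schemes. The property generally fails for ramified extensions.) -/
theorem result (R R' : Type u) [CommRing R] [IsDedekindDomain R]
    [CommRing R'] [IsDedekindDomain R'] [Algebra R R'] [Module.Finite R R'] [Algebra.Etale R R']
    (N : Over (Spec (CommRingCat.of R)))
    (hN : Neron.IsNeronModelOf R N ((Neron.genericFibre R).obj N) (Iso.refl _)) :
    Neron.IsNeronModelOf R'
      ((Over.pullback (Spec.map (CommRingCat.ofHom (algebraMap R R')))).obj N)
      ((Neron.genericFibre R').obj ((Over.pullback (Spec.map (CommRingCat.ofHom (algebraMap R R')))).obj N))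
      (Iso.refl _) := by
  obtain ⟨h1, h2, h3, h4, hN⟩ := hN
  let g := Spec.map (CommRingCat.ofHom (algebraMap R R'))
  haveI := h1; haveI := h2; haveI := h3; haveI := h4
  haveI : Smooth g := by
    show Smooth (Spec.map (CommRingCat.ofHom (algebraMap R R')))
    rw [HasRingHomProperty.Spec_iff (P := @Smooth)]
    exact RingHom.smooth_algebraMap.2 inferInstance
  refine ⟨MorphismProperty.pullback_snd _ _ ‹_›, MorphismProperty.pullback_snd _ _ ‹_›,
    MorphismProperty.pullback_snd _ _ ‹_›, MorphismProperty.pullback_snd _ _ ‹_›, fun Y' hY' => ?_⟩
  haveI : FaithfulSMul R R' := (faithfulSMul_iff_algebraMap_injective R R').2 (by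
    haveI : Module.IsTorsionFree R R' := Module.Flat.isTorsionFree
    exact FaithfulSMul.algebraMap_injective R R')
  letI : Algebra (FractionRing R) (FractionRing R') := FractionRing.liftAlgebra R (FractionRing R')
  haveI : IsIntegralClosure R' R (FractionRing R') := IsIntegralClosure.of_isIntegrallyClosed _ _ _
  haveI : Algebra.IsAlgebraic (FractionRing R) (FractionRing R') := isAlgebraic_of_isFractionRing R R' ..
  haveI : IsLocalization (Algebra.algebraMapSubmonoid R' (nonZeroDivisors R)) (FractionRing R') :=
    IsIntegralClosure.isLocalization _ (FractionRing R) _ _
  haveI : Algebra.IsPushout R (FractionRing R) R' (FractionRing R') :=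
    (Algebra.isPushout_of_isLocalization (nonZeroDivisors R) (FractionRing R) R' (FractionRing R')).symm
  have sq : IsPullback (Spec.map (CommRingCat.ofHom (algebraMap (FractionRing R) (FractionRing R'))))
      (Neron.genPt R') (Neron.genPt R) g :=
    isPullback_SpecMap_of_isPushout _ _ _ _ (CommRingCat.isPushout_of_isPushout R (FractionRing R) R' (FractionRing R'))
  haveI : Smooth (Over.mk (Y'.hom ≫ g)).hom := inferInstanceAs (Smooth (Y'.hom ≫ g))
  have key := hN (Over.mk (Y'.hom ≫ g)) inferInstance
  simp only [Iso.refl_hom, Category.comp_id] at key ⊢
  exact ⟨NeronExtLib.injective_baseChange sq N Y' key.1, NeronExtLib.surjective_baseChange sq N Y' key.2⟩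

end Groth.Agent.S11103
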