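import Groth.Statements.S11108
import Groth.Agent.S0536
import Mathlib.AlgebraicGeometry.AlgClosed.Basic
-- import your own Groth.Agent.* helpers here

set_option autoImplicit false
universe u
open CategoryTheory AlgebraicGeometry
open Neron

namespace Groth.Agent.S11108

theorem exists_section_affine (R : Type u) [CommRing R] [HenselianLocalRing R] {B : CommRingCat.{u}}
    (g : Spec B ⟶ Spec (CommRingCat.of R)) [Smooth g]
    (q : Spec (CommRingCat.of (IsLocalRing.ResidueField R)) ⟶ Spec B)
    (hq : q ≫ g = Spec.map (CommRingCat.ofHom (IsLocalRing.residue R))) :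
    ∃ s : Spec (CommRingCat.of R) ⟶ Spec B, s ≫ g = 𝟙 _ ∧
      Spec.map (CommRingCat.ofHom (IsLocalRing.residue R)) ≫ s = q := by
  obtain ⟨φ, rfl⟩ : ∃ φ, Spec.map φ = g := ⟨_, Spec.map_preimage g⟩
  obtain ⟨ψ, rfl⟩ : ∃ ψ, Spec.map ψ = q := ⟨_, Spec.map_preimage q⟩
  letI : Algebra R B := φ.hom.toAlgebra
  haveI : Algebra.Smooth R B := RingHom.smooth_algebraMap.1 ((HasRingHomProperty.Spec_iff (P := @Smooth)).1 ‹_›)
  rw [← Spec.map_comp, Spec.map_inj] at hq
  let σ : B →ₐ[R] R ⧸ IsLocalRing.maximalIdeal R :=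
    { toRingHom := ψ.hom
      commutes' := fun r => congrArg (fun χ => CommRingCat.Hom.hom χ r) hq }
  obtain ⟨τ, hτ⟩ := Groth.Agent.S0536.result R B R (IsLocalRing.maximalIdeal R) σ
  refine ⟨Spec.map (CommRingCat.ofHom τ.toRingHom), ?_, ?_⟩
  · rw [← Spec.map_comp, ← Spec.map_id]
    exact congrArg Spec.map (CommRingCat.hom_ext (RingHom.ext τ.commutes))
  · rw [← Spec.map_comp]
    exact congrArg Spec.map (CommRingCat.hom_ext (RingHom.ext fun b => DFunLike.congr_fun hτ b))

/-- Let R be a strictly Henselian discrete valuation ring — Henselian with algebraically closed residue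
field — and p : X → Spec R a smooth morphism. Then the image of the reduction map from R-valued
points of X to the special fibre is dense in the special fibre: every point of X over the closed
point of Spec R lies in the closure of the set of points s(𝔪), s a section of p and 𝔪 the closed
point. -/
theorem result (R : Type u) [CommRing R] [IsDomain R]
    [IsDiscreteValuationRing R] [HenselianLocalRing R] [IsAlgClosed (IsLocalRing.ResidueField R)]
    {X : Scheme.{u}} (p : X ⟶ Spec (CommRingCat.of R)) [Smooth p]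
    (x : X) (hx : p.base x = IsLocalRing.closedPoint R) :
    x ∈ closure {y : X | ∃ s : Spec (CommRingCat.of R) ⟶ X, s ≫ p = 𝟙 _ ∧
      s.base (IsLocalRing.closedPoint R) = y} := by
  rw [mem_closure_iff]
  intro o ho hxo
  obtain ⟨W, hW, hxW, hWo⟩ := exists_isAffineOpen_mem_and_subset (X := X) (x := x) (U := ⟨o, ho⟩) hxo
  let i := hW.fromSpec
  let π := Spec.map (CommRingCat.ofHom (IsLocalRing.residue R))
  let F := Limits.pullback (i ≫ p) π
  let fk : F ⟶ Spec (CommRingCat.of (IsLocalRing.ResidueField R)) := Limits.pullback.snd _ _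
  haveI hi : IsOpenImmersion i := hW.isOpenImmersion_fromSpec
  haveI : Smooth (i ≫ p) := inferInstance
  haveI : Smooth fk := MorphismProperty.pullback_snd (P := @Smooth) _ _ ‹_›
  obtain ⟨w, hw⟩ : x ∈ Set.range i := by rw [hW.range_fromSpec]; exact hxW
  haveI : Nonempty F := by
    obtain ⟨z, -⟩ := Scheme.Pullback.exists_preimage_pullback (f := i ≫ p) (g := π) w
      (IsLocalRing.closedPoint (IsLocalRing.ResidueField R)) (by
        rw [Scheme.Hom.comp_apply, hw]
        exact hx.trans (IsLocalRing.comap_closedPoint (IsLocalRing.residue R)).symm)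
    exact ⟨z⟩
  haveI : JacobsonSpace F := LocallyOfFiniteType.jacobsonSpace fk
  obtain ⟨c, -, hc⟩ := nonempty_inter_closedPoints (Set.univ_nonempty : (Set.univ : Set F).Nonempty) isClosed_univ.isLocallyClosed
  let t := pointOfClosedPoint fk c hc
  have ht : t ≫ fk = 𝟙 _ := pointOfClosedPoint_comp fk c hc
  have hq : (t ≫ Limits.pullback.fst (i ≫ p) π) ≫ i ≫ p = π := by
    rw [Category.assoc, Limits.pullback.condition, ← Category.assoc]
    exact (congrArg (· ≫ π) ht).trans (Category.id_comp π)
  obtain ⟨s, hs, hsq⟩ := exists_section_affine R (i ≫ p) _ hq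
  refine ⟨i (s (IsLocalRing.closedPoint R)), hWo ?_, s ≫ i, by rw [Category.assoc, hs], rfl⟩
  exact (Set.ext_iff.mp hW.range_fromSpec _).mp ⟨_, rfl⟩

end Groth.Agent.S11108
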