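import Groth.Statements.S11114
import Groth.Agent.DCohRestrLib.Support
import Groth.Agent.KFlatLib.StalkCx

set_option autoImplicit false
set_option backward.isDefEq.respectTransparency false
set_option backward.isDefEq.respectTransparency.types false
universe u
open CategoryTheory CategoryTheory.Limits AlgebraicGeometry
attribute [local instance] HasDerivedCategory.standard
open DCoh

namespace Groth.Agent.S11114

/-- Let Y be a quasi-compact quasi-separated scheme and assume the unbounded derived functor of global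
sections RΓ(U, -) exists for every open U of Y (existence binder). A morphism φ : G₁ ⟶ G₂ in D(O_Y)
is an isomorphism if and only if for every affine open U of Y the morphism RΓ(U, φ|_U) of D(Ab),
obtained from φ through restriction to U and derived global sections, is an isomorphism. -/
theorem result {Y : Scheme.{u}} [CompactSpace Y] [QuasiSeparatedSpace Y]
    [hR : ∀ U : Y.Opens, DCoh.HasRΓ (U : Scheme.{u})] {G₁ G₂ : DCoh.D Y} (φ : G₁ ⟶ G₂) :
    IsIso φ ↔ ∀ U : Y.Opens, IsAffineOpen U →
      IsIso ((DCoh.RΓ (U : Scheme.{u})).map ((DCoh.restrictD U.ι).map φ)) := by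
  refine ⟨fun h U _ => inferInstance, fun h => ?_⟩
  obtain ⟨C, a, b, hT⟩ := Pretriangulated.distinguished_cocone_triangle φ
  suffices hC : IsZero C by
    exact ((Pretriangulated.Triangle.mk φ a b).isZero₃_iff_isIso₁ hT).1 hC
  obtain ⟨I, hI, ⟨e⟩⟩ :=
    Groth.Agent.DerLib.KInjDerived.essSurj_kInjective KFlatLib.enoughKInj_modules C
  have hac : ∀ U : Y.Opens, IsAffineOpen U →
      (((DCoh.gammaAb (U : Scheme.{u})).mapHomologicalComplex (ComplexShape.up ℤ)).obj
        (((Scheme.Modules.restrictFunctor U.ι).mapHomologicalComplex (ComplexShape.up ℤ)).obj I)).Acyclic := by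
    intro U hU
    obtain ⟨_, _⟩ := Groth.Agent.DerLib.KInjDerived.exists_isTriangulated_map KFlatLib.enoughKInj_modules
      (DCoh.gammaAb (U : Scheme.{u})) (DCoh.RΓ (U : Scheme.{u}))
      (Groth.Agent.DCohRestrLib.gammaUnit (U : Scheme.{u}))
    let G := DCoh.restrictD U.ι ⋙ DCoh.RΓ (U : Scheme.{u})
    haveI : IsIso (G.map φ) := h U hU
    have hz : IsZero (G.obj C) :=
      Pretriangulated.Triangle.isZero₃_of_isIso₁ _ (G.map_distinguished _ hT)
        (inferInstance : IsIso (G.map φ))
    let R := Scheme.Modules.restrictFunctor U.ι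
    let IU := (R.mapHomologicalComplex (ComplexShape.up ℤ)).obj I
    haveI : CochainComplex.IsKInjective IU := Groth.Agent.DCohRestrLib.isKInjective_restrictCx U I
    haveI := Groth.Agent.DerLib.KInjDerived.isIso_app (DCoh.RΓ (U : Scheme.{u}))
      (Groth.Agent.DCohRestrLib.gammaUnit (U : Scheme.{u})) KFlatLib.enoughKInj_modules IU
    have hz' : IsZero ((DerivedCategory.Qh (C := AddCommGrpCat.{u})).obj
        ((HomotopyCategory.quotient AddCommGrpCat.{u} (ComplexShape.up ℤ)).obj
          (((DCoh.gammaAb (U : Scheme.{u})).mapHomologicalComplex (ComplexShape.up ℤ)).obj IU))) :=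
      hz.of_iso ((show (DerivedCategory.Qh (C := AddCommGrpCat.{u})).obj
          ((HomotopyCategory.quotient AddCommGrpCat.{u} (ComplexShape.up ℤ)).obj
            (((DCoh.gammaAb (U : Scheme.{u})).mapHomologicalComplex (ComplexShape.up ℤ)).obj IU)) ≅ _ from
        asIso ((Groth.Agent.DCohRestrLib.gammaUnit (U : Scheme.{u})).app
          ((HomotopyCategory.quotient (U : Scheme.{u}).Modules (ComplexShape.up ℤ)).obj IU))) ≪≫
        (DCoh.RΓ (U : Scheme.{u})).mapIso ((DerivedCategory.quotientCompQhIso _).app IU ≪≫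
          (R.mapDerivedCategoryFactors.app I).symm ≪≫
          (DCoh.restrictD U.ι).mapIso (((DerivedCategory.quotientCompQhIso _).app I).symm ≪≫ e)))
    intro i
    rw [HomologicalComplex.exactAt_iff_isZero_homology]
    exact ((DerivedCategory.homologyFunctor AddCommGrpCat.{u} i).map_isZero hz').of_iso
      (((DerivedCategory.homologyFunctorFactorsh AddCommGrpCat.{u} i).app _) ≪≫
        (HomotopyCategory.homologyFunctorFactors AddCommGrpCat.{u} (ComplexShape.up ℤ) i).app _).symm
  have hI0 : ∀ i : ℤ, IsZero (I.homology i) := by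
    rw [KFlatLib.acyclic_iff_stalks]
    intro x n
    rw [← HomologicalComplex.exactAt_iff_isZero_homology, HomologicalComplex.exactAt_iff' _ (n - 1) n (n + 1) (by simp) (by simp),
      ShortComplex.moduleCat_exact_iff]
    intro y hy
    change (DerSch.stalkFunctor Y x).obj (I.X n) at y
    change (DerSch.stalkFunctor Y x).map (I.d n (n + 1)) y = 0 at hy
    obtain ⟨W, hxW, s, rfl⟩ := TopCat.Presheaf.germ_exist (I.X n).presheaf y
    have h0 : (I.X (n + 1)).presheaf.germ W x hxW ((I.d n (n + 1)).app W s) =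
        (I.X (n + 1)).presheaf.germ W x hxW 0 :=
      ((DerSch.stalkFunctor_map_germ x (I.d n (n + 1)) W hxW s).symm.trans hy).trans (map_zero _).symm
    obtain ⟨W₁, hxW₁, i₁, i₂, hW₁⟩ := TopCat.Presheaf.germ_eq (I.X (n + 1)).presheaf x hxW hxW _ _ h0
    rw [map_zero] at hW₁
    obtain ⟨U, hU, hxU, hUW⟩ := exists_isAffineOpen_mem_and_subset hxW₁
    have hxU' : x ∈ U.ι ''ᵁ ⊤ := by rwa [Scheme.Opens.ι_image_top]
    have hle : U.ι ''ᵁ ⊤ ≤ W₁ := U.ι_image_top.le.trans hUW
    let s' := (I.X n).presheaf.map (homOfLE (hle.trans (leOfHom i₁))).op s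
    have hs' : (I.d n (n + 1)).app (U.ι ''ᵁ ⊤) s' = 0 := by
      refine (NatTrans.naturality_apply
        ((Scheme.Modules.toPresheaf Y).map (I.d n (n + 1))) (homOfLE (hle.trans (leOfHom i₁))).op s).trans ?_
      have e2 : (homOfLE (hle.trans (leOfHom i₁))).op = i₁.op ≫ (homOfLE hle).op := Subsingleton.elim _ _
      rw [e2, Functor.map_comp]
      exact (congrArg ((I.X (n + 1)).presheaf.map (homOfLE hle).op) hW₁).trans (map_zero ((I.X (n + 1)).presheaf.map (homOfLE hle).op).hom)
    have hex := hac U hU n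
    rw [HomologicalComplex.exactAt_iff' _ (n - 1) n (n + 1) (by simp) (by simp),
      ShortComplex.ab_exact_iff] at hex
    obtain ⟨t, ht⟩ := hex s' hs'
    refine ⟨(I.X (n - 1)).presheaf.germ (U.ι ''ᵁ ⊤) x hxU' t, ?_⟩
    refine (DerSch.stalkFunctor_map_germ x (I.d (n - 1) n) (U.ι ''ᵁ ⊤) hxU' t).trans ?_
    refine (congrArg _ ht).trans ?_
    exact TopCat.Presheaf.germ_res_apply (I.X n).presheaf _ x hxU' s
  rw [Groth.Agent.DCohRestrLib.isZero_iff_HD]
  intro i
  exact (hI0 i).of_iso ((DerivedCategory.homologyFunctor Y.Modules i).mapIso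
    (e.symm ≪≫ (DerivedCategory.quotientCompQhIso _).app I) ≪≫
      (DerivedCategory.homologyFunctorFactors Y.Modules i).app I)
end Groth.Agent.S11114
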