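import Groth.Statements.S11122
import Groth.Agent.KiehlLib.Base

set_option autoImplicit false
set_option backward.isDefEq.respectTransparency false
set_option backward.isDefEq.respectTransparency.types false
universe u
open CategoryTheory CategoryTheory.Limits AlgebraicGeometry
attribute [local instance] HasDerivedCategory.standard
open Perf

namespace Groth.Agent.S11122

/-- Let f : X ⟶ Y be a quasi-compact quasi-separated morphism of schemes with Y quasi-compact, and
assume the unbounded derived direct image Rf_* exists. Suppose there is an integer k such that for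
every integer n and every object F of D(O_X) with bounded cohomology that is n-pseudo-coherent, Rf_*
F is (n + k)-pseudo-coherent. Then for every object F of D(O_X) that is n-pseudo-coherent for all n
(no boundedness assumed), Rf_* F is n-pseudo-coherent for all n. (The published statement obtains
the bound for proper pseudo-coherent f from a cited finiteness theorem; this row assumes the bound.) -/
theorem result {X Y : Scheme.{u}} (f : X ⟶ Y) [QuasiCompact f]
    [QuasiSeparated f] [CompactSpace Y] [DCoh.HasRpush f] (k : ℤ)
    (hK : ∀ (F : DCoh.D X) (n a b : ℤ), F.IsGE a → F.IsLE b → DCoh.IsPseudoCoherentD n F →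
      DCoh.IsPseudoCoherentD (n + k) ((DCoh.Rpush f).obj F))
    (F : DCoh.D X) (hF : ∀ m : ℤ, DCoh.IsPseudoCoherentD m F) (m : ℤ) :
    DCoh.IsPseudoCoherentD m ((DCoh.Rpush f).obj F) := by
  open DerivedCategory.TStructure in
  obtain ⟨N, hN⟩ := QRlimLib.exists_uniform_bound f
  obtain ⟨_, _⟩ := QRlimLib.exists_isTriangulated_rpush f
  haveI : CompactSpace ↥X := QuasiCompact.compactSpace_of_compactSpace f
  obtain ⟨b, hb⟩ := KiehlLib.exists_isLE_of_isPC (hF (m - k))
  haveI := hb
  let c : ℤ := min (m - N) (m - k)
  have hT := DerivedCategory.TStructure.t.triangleLEGT_distinguished c F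
  let A := (DerivedCategory.TStructure.t.truncLE c).obj F
  let B := (DerivedCategory.TStructure.t.truncGT c).obj F
  haveI : A.IsLE c := inferInstance
  have hc₁ : c ≤ m - N := min_le_left _ _
  have hc₂ : c ≤ m - k := min_le_right _ _
  have hA : DCoh.IsQCohD A := QRlimLib.isQCohD_truncLE (KiehlLib.isQCohD_of_isPC hF) c
  have h₁ : DCoh.IsPseudoCoherentD m ((DCoh.Rpush f).obj A) :=
    Groth.Agent.PerfLib.isPC_of_isZero_above fun i hi => hN A hA c inferInstance i (by omega)
  have hBle : B.IsLE (max b c) := (DerivedCategory.isLE_iff _ _).2 fun i hi => by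
    haveI := Groth.Agent.DerLib.Devissage.isIso_homology_truncGTπ F c i (by omega)
    exact (DerivedCategory.isZero_of_isLE F b i (by omega)).of_iso
      (asIso ((DerivedCategory.homologyFunctor X.Modules i).map
        ((DerivedCategory.TStructure.t.truncGTπ c).app F))).symm
  have hBpc : DCoh.IsPseudoCoherentD (m - k) B :=
    (Groth.Agent.S0889.result (m - k) _ hT).1
      (Groth.Agent.PerfLib.isPC_of_isZero_above fun i hi =>
        DerivedCategory.isZero_of_isLE A c i (by omega)) (hF _)
  have h₃ : DCoh.IsPseudoCoherentD m ((DCoh.Rpush f).obj B) := by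
    have := hK B (m - k) (c + 1) (max b c) inferInstance hBle hBpc
    simpa using this
  exact (Groth.Agent.S0889.result m _ ((DCoh.Rpush f).map_distinguished _ hT)).2.1 h₁ h₃

end Groth.Agent.S11122
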