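import Groth.Statements.S11128
import Groth.Agent.GrothTransLib.Cover

set_option autoImplicit false
universe w u₁ u₂
open CategoryTheory CategoryTheory.Limits
open CohDer

namespace Groth.Agent.S11128

/-- Suppose A is an abelian category that has small hom-sets and all small colimits, B is a Grothendieck
abelian category, and F : A ⥤ B is a faithful exact functor with a right adjoint G preserving
filtered colimits. Then A is a Grothendieck abelian category. -/
theorem result
    {A : Type u₁} [Category.{w} A] [Abelian A] [HasColimitsOfSize.{w, w} A]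
    {B : Type u₂} [Category.{w} B] [Abelian B] [IsGrothendieckAbelian.{w} B]
    (F : A ⥤ B) (G : B ⥤ A) (adj : F ⊣ G) [F.Additive] [F.Faithful]
    [PreservesFiniteLimits F] [PreservesFiniteColimits F] [PreservesFilteredColimitsOfSize.{w, w} G] :
    IsGrothendieckAbelian.{w} A := by
  haveI : PreservesColimitsOfSize.{w, w} F := adj.leftAdjoint_preservesColimits
  haveI hA := GrothTransLib.ab5_of_faithful F
  haveI := GrothTransLib.wellPowered_of_faithful F
  have hsep : ∀ ⦃X Y : B⦄ (f g : X ⟶ Y),
      (∀ (i : PUnit.{w + 1}) (h : separator B ⟶ X), h ≫ f = h ≫ g) → f = g :=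
    fun X Y f g h => (isSeparator_separator B).def f g (h PUnit.unit)
  obtain ⟨κ, t, -, htsep⟩ := GrothTransLib.exists_generators (s := fun _ : PUnit.{w + 1} => separator B) adj hsep
  haveI : HasSeparator A := ⟨⟨∐ t, (isSeparator_sigma t).2 fun X Y f g hfg =>
    htsep f g fun k h => hfg (t k) ⟨k⟩ h⟩⟩
  exact {}

end Groth.Agent.S11128
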