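import Groth.Statements.S11129
import Groth.Agent.QCohLib.FTCrit
import Groth.Agent.GrSysLib.Sheaf
import Groth.Agent.QCohLib.AffineFinite
import Mathlib.CategoryTheory.Subobject.NoetherianObject
import Mathlib.AlgebraicGeometry.Noetherian
-- import your own Groth.Agent.* helpers here

set_option autoImplicit false
set_option backward.isDefEq.respectTransparency false
set_option linter.all false
universe u
open CategoryTheory AlgebraicGeometry
open QCohCat

namespace Groth.Agent.S11129

open CategoryTheory CategoryTheory.Limits AlgebraicGeometry TopologicalSpace Opposite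

variable {Y : Scheme.{u}}

theorem mono_hom {A B : QCohCat.QCoh Y} (f : A ⟶ B) [Mono f] : Mono f.hom := by
  haveI : Coh.IsQCoh A.obj := A.property
  haveI : Coh.IsQCoh B.obj := B.property
  haveI : Coh.IsQCoh (kernel f.hom) := QCohLib.isQCoh_kernel _
  refine Preadditive.mono_of_kernel_zero ?_
  let K : QCohCat.QCoh Y := ⟨kernel f.hom, (inferInstance : Coh.IsQCoh (kernel f.hom))⟩
  let k : K ⟶ A := ObjectProperty.homMk (kernel.ι f.hom)
  have h : k = 0 := (cancel_mono f).1 (ObjectProperty.hom_ext _ (by
    show kernel.ι f.hom ≫ f.hom = ((0 : K ⟶ A) ≫ f).hom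
    rw [kernel.condition, zero_comp]
    rfl))
  exact congrArg (fun φ => φ.hom) h

theorem mono_of_mono_hom {A B : QCohCat.QCoh Y} (f : A ⟶ B) [Mono f.hom] : Mono f :=
  ⟨fun g h e => ObjectProperty.hom_ext _ ((cancel_mono f.hom).1 (congrArg (fun φ => φ.hom) e))⟩

/-- The submodule of sections in the image of a map. -/
def rangeSub {A M : Y.Modules} (φ : A ⟶ M) (V : Y.Opens) : Submodule Γ(Y, V) Γ(M, V) where
  carrier := Set.range (φ.app V)
  add_mem' := by rintro _ _ ⟨a, rfl⟩ ⟨b, rfl⟩; exact ⟨a + b, map_add _ a b⟩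
  zero_mem' := ⟨0, map_zero _⟩
  smul_mem' := by rintro r _ ⟨a, rfl⟩; exact ⟨r • a, QCohLib.app_smul φ V r a⟩

/-- For a noetherian scheme Y, an object M of the category QCoh(O_Y) of quasi-coherent O_Y-modules (a
full subcategory of all O_Y-modules) is a noetherian object of that category if and only if M is
coherent (quasi-coherent of finite type). (The published statement also records that QCoh(O_Y) is a
locally noetherian category; only the characterisation of its noetherian objects is stated here.) -/
theorem result (Y : Scheme.{u}) [IsNoetherian Y] (M : QCohCat.QCoh Y) :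
    IsNoetherianObject M ↔ Coh.IsCoh M.obj := by
  haveI : Coh.IsQCoh M.obj := M.property
  haveI : CompactSpace Y := inferInstance
  choose V hV hxV using fun x : Y => exists_isAffineOpen_mem_and_subset (X := Y) (x := x) (U := ⊤) trivial
  obtain ⟨cov, hcov⟩ := isCompact_univ.elim_finite_subcover (fun x => (V x : Set Y))
    (fun x => (V x).2) (fun x _ => Set.mem_iUnion.mpr ⟨x, (hxV x).1⟩)
  have hcov' : ∀ x : Y, ∃ k : {x // x ∈ cov}, x ∈ V k.1 := fun x => by
    obtain ⟨y, hy, hxy⟩ := Set.mem_iUnion₂.mp (hcov (Set.mem_univ x))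
    exact ⟨⟨y, hy⟩, hxy⟩
  constructor
  · intro hN
    refine ⟨M.property, ?_⟩
    haveI := hN
    obtain ⟨G₀, j₀, hj₀, hG₀q, hG₀, -⟩ := QCohLib.exists_ft_through_finset (K := M.obj)
      (∅ : Finset (ULift.{u} Empty)) (fun e => e.down.elim) (fun e => e.down.elim) (fun e => e.down.elim)
    let Q : Set (Subobject M) := {P | CohB1.IsFT (P : QCohCat.QCoh Y).obj}
    have hne : Q.Nonempty := by
      let A : QCohCat.QCoh Y := ⟨G₀, hG₀q⟩
      let j : A ⟶ M := ObjectProperty.homMk j₀
      haveI : Mono j.hom := hj₀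
      haveI : Mono j := mono_of_mono_hom j
      exact ⟨Subobject.mk j, QCohLib.isFT_of_epi ((QCohCat.isQCoh Y).ι.mapIso (Subobject.underlyingIso j)).inv hG₀⟩
    obtain ⟨P, hP, hmax⟩ := wellFounded_gt.has_min Q hne
    haveI : Coh.IsQCoh (P : QCohCat.QCoh Y).obj := (P : QCohCat.QCoh Y).property
    haveI : Epi P.arrow.hom := GrSysLib.epi_of_surjective_on_cover _ (fun k : {x // x ∈ cov} => V k.1)
      (fun k => hV k.1) hcov' fun k s => by
      obtain ⟨G, g, -, hGq, hG, hg⟩ := QCohLib.exists_ft_through_finset (K := M.obj)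
        (Finset.univ : Finset (ULift.{u} Unit)) (fun _ => V k.1) (fun _ => hV k.1) (fun _ => s)
      haveI := hGq
      obtain ⟨z, hz⟩ := hg ⟨()⟩ (Finset.mem_univ _)
      let v : (P : QCohCat.QCoh Y).obj ⊞ G ⟶ M.obj := biprod.desc P.arrow.hom g
      haveI : Coh.IsQCoh ((P : QCohCat.QCoh Y).obj ⊞ G) := QCohLib.isQCoh_biprod _ _
      haveI : Coh.IsQCoh (cokernel v) := QCohLib.isQCoh_cokernel v
      haveI : Coh.IsQCoh (Abelian.image v) := QCohLib.isQCoh_kernel (cokernel.π v)
      let A : QCohCat.QCoh Y := ⟨Abelian.image v, (inferInstance : Coh.IsQCoh (Abelian.image v))⟩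
      let j : A ⟶ M := ObjectProperty.homMk (Abelian.image.ι v)
      haveI : Mono j.hom := inferInstanceAs (Mono (Abelian.image.ι v))
      haveI : Mono j := mono_of_mono_hom j
      have hA : Subobject.mk j ∈ Q := QCohLib.isFT_of_epi
        ((QCohCat.isQCoh Y).ι.mapIso (Subobject.underlyingIso j)).inv
        (QCohLib.isFT_of_epi (Abelian.factorThruImage v) (QCohLib.isFT_biprod hP hG))
      have hle : P ≤ Subobject.mk j := Subobject.le_mk_of_comm
        (ObjectProperty.homMk (biprod.inl ≫ Abelian.factorThruImage v)) (ObjectProperty.hom_ext _ (by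
          show (biprod.inl ≫ Abelian.factorThruImage v) ≫ Abelian.image.ι v = P.arrow.hom
          rw [Category.assoc, Abelian.image.fac, biprod.inl_desc]))
      have heq : Subobject.mk j ≤ P := ((lt_or_eq_of_le hle).resolve_left (hmax _ hA)).ge
      have h2 : g = (biprod.inr ≫ Abelian.factorThruImage v ≫ (Subobject.ofMkLE j P heq).hom) ≫ P.arrow.hom := by
        have h3 : (Subobject.ofMkLE j P heq).hom ≫ P.arrow.hom = Abelian.image.ι v :=
          congrArg (fun φ => φ.hom) (Subobject.ofMkLE_arrow (h := heq))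
        rw [Category.assoc, Category.assoc, h3, Abelian.image.fac, biprod.inr_desc]
      refine ⟨(biprod.inr ≫ Abelian.factorThruImage v ≫ (Subobject.ofMkLE j P heq).hom).app (V k.1) z, ?_⟩
      exact (congrArg (fun φ => Scheme.Modules.Hom.app φ (V k.1) z) h2).symm.trans hz
    exact QCohLib.isFT_of_epi P.arrow.hom hP
  · intro hM
    rw [isNoetherianObject_iff_monotone_chain_condition]
    intro f
    have hst : ∀ k : {x // x ∈ cov}, ∃ n, ∀ m, n ≤ m →
        rangeSub (f n).arrow.hom (V k.1) = rangeSub (f m).arrow.hom (V k.1) := fun k => by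
      haveI : IsNoetherianRing Γ(Y, V k.1) := IsLocallyNoetherian.component_noetherian ⟨V k.1, hV k.1⟩
      haveI : Module.Finite Γ(Y, V k.1) Γ(M.obj, V k.1) := QCohLib.finite_of_isFT hM.2 (hV k.1)
      exact monotone_stabilizes_iff_noetherian.mpr inferInstance ⟨fun n => rangeSub (f n).arrow.hom (V k.1),
        fun a b hab => by
          rintro _ ⟨x, rfl⟩
          refine ⟨(Subobject.ofLE _ _ (f.monotone hab)).hom.app (V k.1) x, ?_⟩
          exact congrArg (fun φ => Scheme.Modules.Hom.app φ.hom (V k.1) x)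
            (Subobject.ofLE_arrow (f.monotone hab))⟩
    choose n hn using hst
    refine ⟨Finset.univ.sup n, fun m hm => le_antisymm (f.monotone hm) ?_⟩
    let N := Finset.univ.sup n
    let i := Subobject.ofLE _ _ (f.monotone hm)
    haveI hNq : Coh.IsQCoh ((f N : QCohCat.QCoh Y)).obj := (f N : QCohCat.QCoh Y).property
    haveI hmq : Coh.IsQCoh ((f m : QCohCat.QCoh Y)).obj := (f m : QCohCat.QCoh Y).property
    haveI : Mono i.hom := mono_hom i
    haveI hmono : Mono (f m).arrow.hom := mono_hom _
    haveI : Epi i.hom := GrSysLib.epi_of_surjective_on_cover _ (fun k : {x // x ∈ cov} => V k.1)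
      (fun k => hV k.1) hcov' fun k y => by
      have h1 : rangeSub (f N).arrow.hom (V k.1) = rangeSub (f m).arrow.hom (V k.1) :=
        (hn k N (Finset.le_sup (Finset.mem_univ k))).symm.trans
          (hn k m ((Finset.le_sup (Finset.mem_univ k)).trans hm))
      obtain ⟨x, hx⟩ := h1.ge (⟨y, rfl⟩ : (f m).arrow.hom.app (V k.1) y ∈ rangeSub (f m).arrow.hom (V k.1))
      refine ⟨x, (QCohLib.app_injective_of_mono (f m).arrow.hom (V k.1)) ?_⟩
      exact (congrArg (fun φ => Scheme.Modules.Hom.app φ.hom (V k.1) x)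
            (Subobject.ofLE_arrow (f.monotone hm))).trans hx
    haveI : IsIso i.hom := isIso_of_mono_of_epi _
    exact Subobject.le_of_comm (ObjectProperty.homMk (inv i.hom)) (ObjectProperty.hom_ext _ (by
      show inv i.hom ≫ (f N).arrow.hom = (f m).arrow.hom
      rw [IsIso.inv_comp_eq]
      exact (congrArg (fun φ => φ.hom) (Subobject.ofLE_arrow (f.monotone hm))).symm))

end Groth.Agent.S11129
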