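import Groth.Statements.S1113
import Groth.Agent.DerLib.Ghost

set_option autoImplicit false
universe w v u
open CategoryTheory CategoryTheory.Limits
open CohDer

namespace Groth.Agent.S1113

/-- Let K : ℕᵒᵖ ⥤ CochainComplex A ℤ be a sequence of cochain maps … → K₂ → K₁ → K₀ in an abelian
category with Hⁱ(K₀) = 0 for i < 0 and such that for every j < n the map Hʲ(Kⱼ₊₁) → Hʲ(Kⱼ) is zero.
Then in the derived category the composite Kₙ → K₀ factors through the canonical truncation Kₙ →
τ_{≥ n}Kₙ. -/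
theorem result {A : Type u} [Category.{v} A] [Abelian A] [HasDerivedCategory.{w} A]
    (K : ℕᵒᵖ ⥤ CochainComplex A ℤ) (n : ℕ)
    (h0 : ∀ i : ℤ, i < 0 → IsZero ((K.obj (Opposite.op 0)).homology i))
    (hz : ∀ j : ℕ, j < n → HomologicalComplex.homologyMap (K.map (homOfLE (Nat.le_succ j)).op) (j : ℤ) = 0) :
    ∃ φ : DerivedCategory.Q.obj ((K.obj (Opposite.op n)).truncGE (n : ℤ)) ⟶ DerivedCategory.Q.obj (K.obj (Opposite.op 0)),
      DerivedCategory.Q.map ((K.obj (Opposite.op n)).πTruncGE (n : ℤ)) ≫ φ = DerivedCategory.Q.map (K.map (homOfLE (Nat.zero_le n)).op) := by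
  suffices ∀ j : ℕ, j ≤ n → ∃ (W : DerivedCategory A) (_ : W.IsGE (j : ℤ))
      (p : DerivedCategory.Q.obj (K.obj (Opposite.op j)) ⟶ W)
      (q : W ⟶ DerivedCategory.Q.obj (K.obj (Opposite.op 0))),
      p ≫ q = DerivedCategory.Q.map (K.map (homOfLE (Nat.zero_le j)).op) by
    obtain ⟨W, hW, p, q, hpq⟩ := this n le_rfl
    have hπ : ∀ i : ℤ, (n : ℤ) ≤ i → IsIso ((DerivedCategory.homologyFunctor A i).map
        (DerivedCategory.Q.map ((K.obj (Opposite.op n)).πTruncGE (n : ℤ)))) := fun i hi => by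
      have := (K.obj (Opposite.op n)).quasiIsoAt_πTruncGE (n : ℤ) i hi
      exact Groth.Agent.DerLib.Ghost.isIso_homologyMap_Q_of_quasiIsoAt _ i
    obtain ⟨p', hp'⟩ := Groth.Agent.DerLib.Ghost.exists_desc _ (n : ℤ) hπ
      (DerivedCategory.isZero_of_isGE _ (n : ℤ) _ (by omega)) p
    exact ⟨p' ≫ q, by rw [← Category.assoc, hp', hpq]⟩
  intro j hj
  induction j with
  | zero =>
    have : (DerivedCategory.Q.obj (K.obj (Opposite.op 0))).IsGE ((0 : ℕ) : ℤ) :=
      (DerivedCategory.isGE_iff _ _).2 fun i hi =>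
        (h0 i (by simpa using hi)).of_iso ((DerivedCategory.homologyFunctorFactors A i).app _)
    exact ⟨_, this, 𝟙 _, 𝟙 _, by simp⟩
  | succ j ih =>
    obtain ⟨W, hW, p, q, hpq⟩ := ih (by omega)
    have hzero : (DerivedCategory.homologyFunctor A (j : ℤ)).map
        (DerivedCategory.Q.map (K.map (homOfLE (Nat.le_succ j)).op)) = 0 := by
      have h := hz j (by omega)
      have h' := (DerivedCategory.homologyFunctorFactors A (j : ℤ)).hom.naturality
        (K.map (homOfLE (Nat.le_succ j)).op)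
      rw [show (HomologicalComplex.homologyFunctor A _ (j : ℤ)).map
        (K.map (homOfLE (Nat.le_succ j)).op) = 0 from h, comp_zero] at h'
      exact (cancel_mono ((DerivedCategory.homologyFunctorFactors A _).hom.app _)).1
        (h'.trans zero_comp.symm)
    obtain ⟨g, hg⟩ := Groth.Agent.DerLib.Ghost.exists_desc_truncGE (j : ℤ)
      (DerivedCategory.Q.map (K.map (homOfLE (Nat.le_succ j)).op) ≫ p)
      (by rw [Functor.map_comp, hzero, zero_comp])
    refine ⟨_, DerivedCategory.TStructure.t.isGE_truncGE_obj _ ((j : ℤ) + 1) _ (by push_cast; omega),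
      (DerivedCategory.TStructure.t.truncGEπ ((j : ℤ) + 1)).app _, g ≫ q, ?_⟩
    rw [← Category.assoc, hg, Category.assoc, hpq, ← Functor.map_comp, ← K.map_comp, ← op_comp,
      homOfLE_comp]

end Groth.Agent.S1113
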