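import Groth.Statements.S11136
import Mathlib.RingTheory.Spectrum.Prime.Noetherian
import Mathlib.RingTheory.Invariant.Basic

set_option autoImplicit false
universe u v
open InvTh

namespace Groth.Agent.S11136

lemma isOpen_component {X : Type*} [TopologicalSpace X] [TopologicalSpace.NoetherianSpace X]
    (x : X) : IsOpen (connectedComponent x) := by
  have h : (connectedComponent x)ᶜ =
      ⋃₀ {Z | Z ∈ irreducibleComponents X ∧ Disjoint Z (connectedComponent x)} := by
    refine Set.Subset.antisymm (fun y hy => ?_) ?_
    · refine ⟨irreducibleComponent y, ⟨irreducibleComponent_mem_irreducibleComponents y, ?_⟩,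
        mem_irreducibleComponent⟩
      have h1 : irreducibleComponent y ⊆ connectedComponent y :=
        isIrreducible_irreducibleComponent.isConnected.isPreconnected.subset_connectedComponent
          mem_irreducibleComponent
      refine Disjoint.mono_left h1 (connectedComponent_disjoint ?_)
      intro he
      exact hy (he ▸ mem_connectedComponent)
    · rintro y ⟨Z, ⟨-, hd⟩, hy⟩
      exact Set.disjoint_left.mp hd hy
  rw [← isClosed_compl_iff, h, Set.sUnion_eq_biUnion]
  exact (TopologicalSpace.NoetherianSpace.finite_irreducibleComponents.subset fun Z hZ => hZ.1).isClosed_biUnion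
    fun Z hZ => isClosed_of_mem_irreducibleComponents Z hZ.1

/-- Let a finite group G act on a Noetherian commutative ring R by ring automorphisms, with ring of
invariants A (A → R injective with image the fixed elements). When the prime spectrum of A is
connected, any two connected components of Spec R are exchanged by some element of G: for all points
x, y of Spec R there is g in G whose induced self-map of Spec R carries the connected component of x
onto the connected component of y. -/
theorem result
    (A : Type u) (R : Type v) [CommRing A] [CommRing R] [Algebra A R] [IsNoetherianRing R]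
    (G : Type u) [Group G] [Finite G] [MulSemiringAction G R] [SMulCommClass G A R]
    [Algebra.IsInvariant A R G] [FaithfulSMul A R]
    [ConnectedSpace (PrimeSpectrum A)] (x y : PrimeSpectrum R) :
    ∃ g : G, PrimeSpectrum.comap (MulSemiringAction.toRingHom G R g) '' connectedComponent x =
      connectedComponent y := by
  classical
  let φ : G → PrimeSpectrum R ≃ₜ PrimeSpectrum R := fun g =>
    PrimeSpectrum.homeomorphOfRingEquiv (MulSemiringAction.toRingEquiv G R g)
  have hφ : ∀ g, PrimeSpectrum.comap (MulSemiringAction.toRingHom G R g) = (φ g).symm := by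
    intro g; rfl
  have hcomp : ∀ (g : G) z, (φ g).symm '' connectedComponent z = connectedComponent ((φ g).symm z) := by
    intro g z
    refine Set.Subset.antisymm ((φ g).symm.continuous.image_connectedComponent_subset z) fun w hw => ?_
    have h1 := (φ g).continuous.image_connectedComponent_subset ((φ g).symm z)
    rw [Homeomorph.apply_symm_apply] at h1
    exact ⟨φ g w, h1 ⟨w, hw, rfl⟩, Homeomorph.symm_apply_apply _ _⟩
  let U : Set (PrimeSpectrum R) := ⋃ g : G, connectedComponent ((φ g).symm x)
  have hUc : IsClopen U := ⟨isClosed_iUnion_of_finite fun g => isClosed_connectedComponent,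
    isOpen_iUnion fun g => isOpen_component _⟩
  obtain ⟨e, he, hUe⟩ := PrimeSpectrum.isClopen_iff.mp hUc
  have hinv : ∀ g : G, g • e = e := by
    intro g
    refine PrimeSpectrum.basicOpen_injOn_isIdempotentElem (he.map (MulSemiringAction.toRingHom G R g)) he
      (TopologicalSpace.Opens.ext ?_)
    rw [MulSemiringAction.toRingHom_apply]
    rw [← hUe]
    ext z
    have h1 : z ∈ (PrimeSpectrum.basicOpen (g • e) : Set (PrimeSpectrum R)) ↔
        PrimeSpectrum.comap (MulSemiringAction.toRingHom G R g) z ∈ U := by
      rw [hUe]; rfl
    rw [h1, hφ]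
    have key : ∀ (g' : G) (w : PrimeSpectrum R), w ∈ U → (φ g').symm w ∈ U := by
      intro g' w hw
      obtain ⟨h, hh⟩ := Set.mem_iUnion.mp hw
      refine Set.mem_iUnion.mpr ⟨h * g', ?_⟩
      have : (φ (h * g')).symm x = (φ g').symm ((φ h).symm x) := by
        rw [← hφ, ← hφ, ← hφ]
        ext r
        simp [PrimeSpectrum.comap_asIdeal, mul_smul]
      rw [this, ← hcomp]
      exact ⟨w, hh, rfl⟩
    refine ⟨fun hz => ?_, key g z⟩
    have := key g⁻¹ _ hz
    have h2 : (φ g⁻¹).symm ((φ g).symm z) = z := by
      rw [← hφ, ← hφ]
      ext r
      simp [PrimeSpectrum.comap_asIdeal]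
    rwa [h2] at this
  obtain ⟨a, ha⟩ := Algebra.IsInvariant.isInvariant (A := A) e hinv
  have hai : IsIdempotentElem a := by
    apply FaithfulSMul.algebraMap_injective A R
    rw [map_mul, ha]
    exact he
  have hU : U = Set.univ := by
    have hx : x ∈ U := Set.mem_iUnion.mpr ⟨1, by
      have : (φ 1).symm x = x := by
        rw [← hφ]; ext r; simp [PrimeSpectrum.comap_asIdeal]
      rw [this]; exact mem_connectedComponent⟩
    rcases isClopen_iff.mp (PrimeSpectrum.isClopen_iff.mpr ⟨a, hai, rfl⟩ :
        IsClopen (PrimeSpectrum.basicOpen a : Set (PrimeSpectrum A))) with h | h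
    · exfalso
      have : PrimeSpectrum.comap (algebraMap A R) x ∈ (PrimeSpectrum.basicOpen a : Set _) := by
        rw [hUe, ← ha] at hx
        exact hx
      rw [h] at this
      exact this
    · rw [hUe, ← ha]
      ext z
      simp only [Set.mem_univ, iff_true]
      exact (show PrimeSpectrum.comap (algebraMap A R) z ∈ (PrimeSpectrum.basicOpen a : Set _) by
        rw [h]; trivial)
  obtain ⟨g, hg⟩ := Set.mem_iUnion.mp (hU ▸ Set.mem_univ y : y ∈ U)
  refine ⟨g, ?_⟩
  rw [hφ, hcomp]
  exact connectedComponent_eq hg

end Groth.Agent.S11136
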