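import Groth.Statements.S11141
import Groth.Agent.InvLib.NormalEq
import Groth.Agent.InvLib.FiniteQuot
-- import your own Groth.Agent.* helpers here

set_option autoImplicit false
universe u
open TensorProduct
open InvTh

namespace Groth.Agent.S11141

/-- Let k be a field, H a finitely generated commutative Hopf algebra over k (the coordinate ring of a
group scheme affine and of finite type over k), and S a commutative k-algebra which is
ring-isomorphic to a finite product of normal (integrally closed) domains and carries an H-comodule
structure whose coaction S → S ⊗ H is multiplicative and unital. Then the k-subalgebra of invariants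
of S, the elements s whose coaction is s ⊗ 1, is again ring-isomorphic to a finite product of normal
domains. -/
theorem result (k : Type u) [Field k]
    (H : Type u) [CommRing H] [HopfAlgebra k H] [Algebra.FiniteType k H]
    (S : Type u) [CommRing S] [Algebra k S] [HopfRep.Comod k H S]
    (hmul : ∀ x y : S, HopfRep.Comod.coact (k := k) (A := H) (x * y) =
        HopfRep.Comod.coact (k := k) (A := H) x * HopfRep.Comod.coact (k := k) (A := H) y)
    (hone : HopfRep.Comod.coact (k := k) (A := H) (1 : S) = 1)
    {ι : Type u} [Fintype ι] (D : ι → Type u) [∀ i, CommRing (D i)] [∀ i, IsDomain (D i)]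
    [∀ i, IsIntegrallyClosed (D i)] (e : S ≃+* Π i, D i)
    (A : Subalgebra k S)
    (hA : ∀ a : S, a ∈ A ↔ HopfRep.Comod.coact (k := k) (A := H) a = a ⊗ₜ[k] (1 : H)) :
    ∃ (κ : Type u) (_ : Fintype κ) (E : κ → Type u) (_ : ∀ j, CommRing (E j)) (_ : ∀ j, IsDomain (E j))
      (_ : ∀ j, IsIntegrallyClosed (E j)), Nonempty (A ≃+* Π j, E j) := by
  have : GLin.IsCoactAlg k H S := ⟨hone, hmul⟩
  let f₁ : S →+* TensorProduct k S H := (GLin.coactAlgHom k H S).toRingHom
  let f₂ : S →+* TensorProduct k S H := algebraMap S (TensorProduct k S H)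
  have h₂ : ∀ s ∈ nonZeroDivisors S, f₂ s ∈ nonZeroDivisors (TensorProduct k S H) := by
    intro s hs
    rw [mem_nonZeroDivisors_iff_right]
    intro z hz
    have hinj : Function.Injective ((LinearMap.mulRight k s).rTensor H) :=
      Module.Flat.rTensor_preserves_injective_linearMap _
        (fun a b h => (mul_cancel_right_mem_nonZeroDivisors hs).1 h)
    have hmul' : ∀ t : TensorProduct k S H, (LinearMap.mulRight k s).rTensor H t = t * f₂ s := by
      intro t
      induction t with
      | zero => simp
      | tmul a c => simp [f₂, Algebra.TensorProduct.algebraMap_apply, Algebra.TensorProduct.tmul_mul_tmul]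
      | add t t' ht ht' => simp only [map_add, add_mul, ht, ht']
    apply hinj
    rw [map_zero, hmul']
    exact hz
  have h₁ : ∀ s ∈ nonZeroDivisors S, f₁ s ∈ nonZeroDivisors (TensorProduct k S H) := by
    intro s hs
    show GLin.coactAlgHom k H S s ∈ _
    rw [← InvLib.shiftEquiv_tmul_one k H S s]
    rw [mem_nonZeroDivisors_iff_right]
    intro z hz
    obtain ⟨y, rfl⟩ := (InvLib.shiftEquiv k H S).surjective z
    rw [← map_mul] at hz
    rw [(mem_nonZeroDivisors_iff_right.1 (h₂ s hs)) y ((map_eq_zero_iff _ (InvLib.shiftEquiv k H S).injective).1 hz),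
      map_zero]
  let F : Set ((Π i, D i) →+* TensorProduct k S H) := {f₁.comp e.symm.toRingHom, f₂.comp e.symm.toRingHom}
  have hnz : ∀ s ∈ nonZeroDivisors (Π i, D i), e.symm s ∈ nonZeroDivisors S := by
    intro s hs
    rw [mem_nonZeroDivisors_iff_right] at hs ⊢
    intro z hz
    apply e.injective
    rw [map_zero]
    apply hs
    rw [← e.apply_symm_apply s, ← map_mul, hz, map_zero]
  let A' : Subring (Π i, D i) := A.toSubring.map e.toRingHom
  obtain ⟨κ, i1, E, i2, i3, i4, ⟨φ⟩⟩ := InvLib.exists_equiv_pi D F
    (by rintro f (rfl | rfl) s hs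
        · exact h₁ _ (hnz s hs)
        · exact h₂ _ (hnz s hs)) A' (fun a => by
      rw [Subring.mem_map]
      constructor
      · rintro ⟨x, hx, rfl⟩
        have hx' := (hA x).1 hx
        have hev : ∀ f ∈ F, f (e.toRingHom x) = f₂ x := by
          rintro f (rfl | rfl)
          · simp only [RingHom.comp_apply, RingEquiv.toRingHom_eq_coe, RingEquiv.coe_toRingHom,
              RingEquiv.symm_apply_apply]
            exact hx'
          · simp
        intro f hf f' hf'
        rw [hev f hf, hev f' hf']
      · intro h
        refine ⟨e.symm a, (hA _).2 ?_, by simp⟩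
        exact h _ (Set.mem_insert _ _) _ (Set.mem_insert_of_mem _ rfl))
  exact ⟨κ, i1, E, i2, i3, i4, ⟨(A.toSubring.equivMapOfInjective e.toRingHom e.injective).trans φ⟩⟩

end Groth.Agent.S11141
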