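import Groth.Statements.S11143
import Mathlib.CategoryTheory.Triangulated.TStructure.TruncLEGT
import Mathlib.CategoryTheory.Triangulated.Adjunction
-- import your own Groth.Agent.* helpers here

set_option autoImplicit false
set_option linter.style.haveILetI false
universe v v' u u'
open CategoryTheory CategoryTheory.Triangulated Pretriangulated
open CohDer

namespace Groth.Agent.S11143

/-- Let S and T be pretriangulated categories carrying t-structures, F : S ⥤ T a triangulated functor
and G a right adjoint of F. Suppose F is way-out left: for some integer d, F carries objects of S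
lying in degrees ≤ 0 to objects of T lying in degrees ≤ d. Then G is way-out right: G carries
objects of T lying in degrees ≥ 0 to objects of S lying in degrees ≥ -d. -/
theorem result
    {S : Type u} [Category.{v} S] [Limits.HasZeroObject S] [Preadditive S] [HasShift S ℤ]
    [∀ n : ℤ, (shiftFunctor S n).Additive] [Pretriangulated S]
    {T : Type u'} [Category.{v'} T] [Limits.HasZeroObject T] [Preadditive T] [HasShift T ℤ]
    [∀ n : ℤ, (shiftFunctor T n).Additive] [Pretriangulated T]
    (tS : TStructure S) (tT : TStructure T) (F : S ⥤ T) [F.CommShift ℤ] [F.IsTriangulated]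
    (G : T ⥤ S) (adj : F ⊣ G) (d : ℤ)
    (hF : ∀ X : S, tS.IsLE X 0 → tT.IsLE (F.obj X) d) (Y : T) (hY : tT.IsGE Y 0) :
    tS.IsGE (G.obj Y) (-d) := by
  haveI := hY
  rw [tS.isGE_iff_isZero_truncLE_obj (-d - 1) (-d) (by omega)]
  let X := (tS.truncLE (-d - 1)).obj (G.obj Y)
  haveI : tS.IsLE X (-d - 1) := inferInstance
  haveI : tS.IsLE (X⟦-d - 1⟧) 0 := tS.isLE_shift X (-d - 1) (-d - 1) 0 (by omega)
  haveI : tT.IsLE ((shiftFunctor S (-d - 1) ⋙ F).obj X) d := hF (X⟦-d - 1⟧) inferInstance
  haveI : tT.IsLE ((F.obj X)⟦-d - 1⟧) d := tT.isLE_of_iso ((F.commShiftIso (-d - 1)).app X) d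
  haveI : tT.IsLE (F.obj X) (-1) := tT.isLE_of_shift _ (-1) (-d - 1) d (by omega)
  haveI : G.Additive := adj.right_adjoint_additive
  have h0 : (tS.truncLEι (-d - 1)).app (G.obj Y) = 0 := by
    apply (adj.homEquiv X Y).symm.injective
    rw [tT.zero_of_isLE_of_isGE ((adj.homEquiv X Y).symm _) (-1) 0 (by omega) inferInstance hY]
    exact ((adj.homAddEquiv X Y).symm.map_zero).symm
  rw [Limits.IsZero.iff_id_eq_zero]
  exact tS.to_truncLE_obj_ext (by
    rw [Category.id_comp, Limits.zero_comp]
    exact h0)

end Groth.Agent.S11143
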