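import Groth.Statements.S11147
import Groth.Agent.FrobEtaleLib.Basic
import Mathlib.RingTheory.Etale.Field
import Mathlib.FieldTheory.IntermediateField.Adjoin.Algebra
import Mathlib.RingTheory.Unramified.Field

set_option autoImplicit false
universe u
open FrobAlg

namespace Groth.Agent.S11147

/-- Let p be a prime and k ⊆ K fields of characteristic p such that K is finitely generated over k as a
field. Then the relative Frobenius ring homomorphism K ⊗_{k,Frob} k → K, b ⊗ a ↦ b^p a (the
Radu–André homomorphism of k → K), is bijective exactly when K is algebraic over k and every element
of K is separable over k. -/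
theorem result (p : ℕ) [Fact p.Prime] (k K : Type u) [Field k]
    [Field K] [Algebra k K] [CharP k p] [CharP K p] (hfg : (⊤ : IntermediateField k K).FG) :
    Function.Bijective (FrobAlg.relFrob p k K) ↔ Algebra.IsSeparable k K := by
  haveI : Algebra.EssFiniteType k K := IntermediateField.fg_top_iff.mp hfg
  refine ⟨fun h => ?_, fun h => ?_⟩
  · haveI := FrobEtaleLib.formallyUnramified_of_surjective p k K h.2
    exact (Algebra.FormallyUnramified.iff_isSeparable _ _).mp inferInstance
  · haveI := h
    haveI : Algebra.FormallyEtale k K := Algebra.FormallyEtale.of_isSeparable k K
    haveI : Module.Finite k K := Algebra.finite_of_essFiniteType_of_isAlgebraic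
    haveI : Algebra.FiniteType k K := inferInstance
    haveI : Algebra.FinitePresentation k K := Algebra.FinitePresentation.of_finiteType.mp inferInstance
    haveI : Algebra.Etale k K := ⟨inferInstance, inferInstance⟩
    exact FrobEtaleLib.bijective_of_etale p k K

end Groth.Agent.S11147
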