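import Groth.Statements.S11162
import Groth.Agent.LDerShiftLib.Main
-- import your own Groth.Agent.* helpers here

set_option autoImplicit false
universe w w' v v' u u'
open CategoryTheory CategoryTheory.Limits
open CohDer

namespace Groth.Agent.S11162

/-- Let A and B be abelian categories, A with enough injectives, F : A ⥤ B a left exact additive functor
of cohomological dimension ≤ n, P the class of objects X of A with RⁱF(X) = 0 for all i ≠ n, and
suppose every object of A is a quotient of an object of P; put G = RⁿF. Then the total left derived
functor LG of G on the unbounded derived category D(A) (as a Kan extension along the localization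
functor from cochain complexes) exists, and, writing RF for the total right derived functor of F on
D(A) (which exists for F of finite cohomological dimension; that existence is a separate statement
and is carried here as a binder), there is an isomorphism of functors RF ≅ LG⟦-n⟧. (The row takes F
left exact, the case of the applications; the published statement says only additive. The additivity
binder on RⁿF always holds and is carried only because the instance is not registered.) -/
theorem result {A : Type u} [Category.{v} A] [Abelian A]
    [HasDerivedCategory.{w} A] [EnoughInjectives A]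
    {B : Type u'} [Category.{v'} B] [Abelian B] [HasDerivedCategory.{w'} B]
    (F : A ⥤ B) [F.Additive] [PreservesFiniteLimits F] (n : ℕ) [(F.rightDerived n).Additive]
    (hdim : ∀ (X : A) (i : ℕ), n < i → IsZero ((F.rightDerived i).obj X))
    (hP : ∀ X : A, ∃ (Y : A) (p : Y ⟶ X), Epi p ∧ ∀ i : ℕ, i ≠ n → IsZero ((F.rightDerived i).obj Y)) :
    ((F.rightDerived n).mapHomologicalComplex (ComplexShape.up ℤ) ⋙ DerivedCategory.Q).HasLeftDerivedFunctor
        (HomologicalComplex.quasiIso A (ComplexShape.up ℤ)) ∧
      ∀ [(F.mapHomologicalComplex (ComplexShape.up ℤ) ⋙ DerivedCategory.Q).HasRightDerivedFunctor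
          (HomologicalComplex.quasiIso A (ComplexShape.up ℤ))]
        [((F.rightDerived n).mapHomologicalComplex (ComplexShape.up ℤ) ⋙ DerivedCategory.Q).HasLeftDerivedFunctor
          (HomologicalComplex.quasiIso A (ComplexShape.up ℤ))],
        Nonempty ((F.mapHomologicalComplex (ComplexShape.up ℤ) ⋙ DerivedCategory.Q).totalRightDerived DerivedCategory.Q
            (HomologicalComplex.quasiIso A (ComplexShape.up ℤ)) ≅
          ((F.rightDerived n).mapHomologicalComplex (ComplexShape.up ℤ) ⋙ DerivedCategory.Q).totalLeftDerived
              DerivedCategory.Q (HomologicalComplex.quasiIso A (ComplexShape.up ℤ)) ⋙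
            shiftFunctor (DerivedCategory B) (-(n : ℤ))) := by
  constructor
  · have hn : ∀ X : A, IsZero ((F.rightDerived (n + 1)).obj X) := fun X => hdim X (n + 1) (by omega)
    haveI : (Groth.Agent.LDerShiftLib.mapC F ⋙ DerivedCategory.Q).HasRightDerivedFunctor
        (HomologicalComplex.quasiIso A (ComplexShape.up ℤ)) :=
      Groth.Agent.LDerShiftLib.hasRightDerivedFunctor_complexes F n hn
    haveI : (Groth.Agent.LDerShiftLib.LGFun F n).IsLeftDerivedFunctor
        (Groth.Agent.LDerShiftLib.counit F n hdim) (HomologicalComplex.quasiIso A (ComplexShape.up ℤ)) :=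
      ⟨Groth.Agent.LDerShiftLib.isRightKanExtension_counit F n hdim
        (fun X => (hP X).imp fun Y h => h.imp fun p hp => ⟨hp.1, fun i hi => hp.2 i hi.ne⟩)⟩
    exact Functor.HasLeftDerivedFunctor.mk' (LF := Groth.Agent.LDerShiftLib.LGFun F n)
      (α := Groth.Agent.LDerShiftLib.counit F n hdim)
  · intro _ _
    haveI : (Groth.Agent.LDerShiftLib.LGFun F n).IsLeftDerivedFunctor
        (Groth.Agent.LDerShiftLib.counit F n hdim) (HomologicalComplex.quasiIso A (ComplexShape.up ℤ)) :=
      ⟨Groth.Agent.LDerShiftLib.isRightKanExtension_counit F n hdim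
        (fun X => (hP X).imp fun Y h => h.imp fun p hp => ⟨hp.1, fun i hi => hp.2 i hi.ne⟩)⟩
    let LG := ((F.rightDerived n).mapHomologicalComplex (ComplexShape.up ℤ) ⋙ DerivedCategory.Q)
      |>.totalLeftDerived DerivedCategory.Q (HomologicalComplex.quasiIso A (ComplexShape.up ℤ))
    let e : Groth.Agent.LDerShiftLib.LGFun F n ≅ LG :=
      Functor.leftDerivedUnique _ _ (Groth.Agent.LDerShiftLib.counit F n hdim)
        (Functor.totalLeftDerivedCounit _ _ _) (HomologicalComplex.quasiIso A (ComplexShape.up ℤ))
    obtain ⟨i⟩ := Groth.Agent.LDerShiftLib.exists_shift_iso F n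
      (fun X => hdim X (n + 1) (by omega)) (n : ℤ)
    exact ⟨i ≪≫ Functor.isoWhiskerRight e _⟩

end Groth.Agent.S11162
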