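import Groth.Statements.S11165
import Groth.Agent.RpushLib.Ab
import Groth.Agent.QCohLib.Push

set_option autoImplicit false
universe u
open CategoryTheory CategoryTheory.Limits AlgebraicGeometry
open Coherent

namespace Groth.Agent.S11165

/-- Let f : X ⟶ Y be a separated morphism of schemes, U an open of X on which f restricts to an affine
morphism, i : U ⟶ X the inclusion and F a quasi-coherent O_X-module. Then i_*(F|_U) is acyclic for
f_*: its higher direct images R^j f_* vanish for j > 0. (The binder asserting injective resolutions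
of O_X-modules always holds.) -/
theorem result {X Y : Scheme.{u}} (f : X ⟶ Y) [IsSeparated f]
    (U : X.Opens) [IsAffineHom (U.ι ≫ f)] (F : X.Modules) (hF : Coh.IsQCoh F)
    [HasInjectiveResolutions X.Modules] (j : ℕ) (hj : 0 < j) :
    IsZero ((Coh.Rpush f j).obj ((Scheme.Modules.pushforward U.ι).obj ((Scheme.Modules.restrictFunctor U.ι).obj F))) := by
  haveI : IsAffineHom U.ι := IsAffineHom.of_comp U.ι f
  haveI := hF
  haveI : Coh.IsQCoh ((Scheme.Modules.restrictFunctor U.ι).obj F) := inferInstanceAs (Coh.IsQCoh (F.restrict U.ι))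
  have hacyc : QCohLib.AcyclicAbove f.base (QCohLib.affSet Y) 0
      ((QCohLib.toAbF X).obj ((Scheme.Modules.pushforward U.ι).obj ((Scheme.Modules.restrictFunctor U.ι).obj F))) := by
    intro V hV n _
    obtain ⟨e⟩ := QCohLib.nonempty_HU_push U.ι ((Scheme.Modules.restrictFunctor U.ι).obj F) (n + 1) (f ⁻¹ᵁ V)
    haveI := QCohLib.subsingleton_HU_affine ((Scheme.Modules.restrictFunctor U.ι).obj F) n
      (U := U.ι ⁻¹ᵁ (f ⁻¹ᵁ V)) (IsAffineOpen.preimage hV (U.ι ≫ f))
    exact e.toEquiv.subsingleton
  have h0 := QCohLib.isZero_rightDerived (f := f.base) QCohLib.isBasis_affSet hacyc hj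
  obtain ⟨e⟩ := RpushLib.nonempty_toAb_rpush_iso f
    ((Scheme.Modules.pushforward U.ι).obj ((Scheme.Modules.restrictFunctor U.ι).obj F)) j
  rw [IsZero.iff_id_eq_zero]
  apply (QCohLib.toAbF Y).map_injective
  exact (h0.of_iso e).eq_of_src _ _

end Groth.Agent.S11165
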