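import Groth.Statements.S11167
import Groth.Agent.DevissLib.ClosedImm
import Mathlib.RingTheory.Ideal.AssociatedPrime.Finiteness
import Groth.Agent.DevissLib.Induction

set_option autoImplicit false
set_option backward.isDefEq.respectTransparency false
universe u
open CategoryTheory CategoryTheory.Limits AlgebraicGeometry
open Coherent

namespace Groth.Agent.S11167

/-- Outside one hypersurface, membership in an ideal at a prime gives membership at all primes. -/
theorem exists_elem {A : Type u} [CommRing A] [IsNoetherianRing A] (I p : Ideal A) [p.IsPrime] :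
    ∃ f ∉ p, ∀ q : Ideal A, q.IsPrime → f ∉ q → ∀ r u : A, u ∉ p → u * r ∈ I → ∃ t ∉ q, t * r ∈ I := by
  classical
  let S := ((associatedPrimes.finite A (A ⧸ I)).toFinset).filter fun q => ¬ q ≤ p
  choose g hg hgp using fun q : S => SetLike.not_le_iff_exists.mp (Finset.mem_filter.mp q.2).2
  refine ⟨∏ q : S, g q, fun h => ?_, fun q hq hfq r u hu hur => ?_⟩
  · obtain ⟨a, -, ha⟩ := (Ideal.IsPrime.prod_mem_iff (p := p)).mp h
    exact hgp a ha
  by_contra hcon
  push Not at hcon
  let N : Submodule A (A ⧸ I) := Submodule.span A {Ideal.Quotient.mk I r}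
  have hann : ∀ t : A, t ∈ Module.annihilator A N ↔ t * r ∈ I := fun t => by
    have h1 : t ∈ Module.annihilator A N ↔ t • Ideal.Quotient.mk I r = 0 :=
      Submodule.mem_annihilator_span_singleton _ _
    rw [h1, ← Ideal.Quotient.eq_zero_iff_mem, map_mul]
    exact Iff.rfl
  haveI := hq
  obtain ⟨q', hq', hq'q⟩ := Ideal.exists_minimalPrimes_le (I := Module.annihilator A N) (J := q)
    fun t ht => by
      by_contra htq
      exact hcon t htq ((hann t).mp ht)
  have hass : q' ∈ associatedPrimes A (A ⧸ I) :=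
    associatedPrimes.subset_of_injective N.subtype_injective
      (Module.associatedPrimes.minimalPrimes_annihilator_subset_associatedPrimes A N hq')
  have hle : q' ≤ p := by
    by_contra hn
    refine hfq (hq'q ?_)
    have hmem : q' ∈ S := Finset.mem_filter.mpr ⟨(associatedPrimes.finite A (A ⧸ I)).mem_toFinset.mpr hass, hn⟩
    exact Ideal.mem_of_dvd _ (Finset.dvd_prod_of_mem g (Finset.mem_univ ⟨q', hmem⟩)) (hg ⟨q', hmem⟩)
  exact hu (hle (hq'.1.2 ((hann u).mpr hur)))

open DevissLib (St gm) in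
theorem gm_eq_smul_one {X : Scheme.{u}} {x : X} {V : X.Opens} (hx : x ∈ V) (s : Γ(X, V)) :
    gm (Coh.structureModule X) x hx s = X.presheaf.germ V x hx s •
      gm (Coh.structureModule X) x (U := ⊤) trivial (1 : Γ(X, ⊤)) := by
  rw [← DevissLib.gm_map (Coh.structureModule X) (le_top : V ≤ ⊤) x hx, ← DevissLib.gm_smul]
  refine congrArg (gm (Coh.structureModule X) x hx) ?_
  exact ((congrArg (fun t : Γ(X, V) => s * t)
    (map_one (X.presheaf.map (homOfLE (le_top : V ≤ ⊤)).op).hom)).trans (mul_one s)).symm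

open DevissLib (St gm) in
theorem smul_one_inj {X : Scheme.{u}} {x : X} {a b : X.presheaf.stalk x}
    (h : a • gm (Coh.structureModule X) x (U := ⊤) trivial (1 : Γ(X, ⊤)) =
      b • gm (Coh.structureModule X) x (U := ⊤) trivial (1 : Γ(X, ⊤))) : a = b := by
  rw [← sub_eq_zero, ← sub_smul] at h
  rw [← sub_eq_zero]
  generalize a - b = c at h ⊢
  obtain ⟨W, hxW, r, rfl⟩ := TopCat.Presheaf.exists_germ_eq X.presheaf (x := x) c
  rw [← gm_eq_smul_one] at h
  obtain ⟨W', hxW', i₁, i₂, hW⟩ := TopCat.Presheaf.germ_eq (Coh.structureModule X).presheaf x hxW hxW r 0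
    (h.trans (DevissLib.gm_zero _ x hxW).symm)
  rw [map_zero] at hW
  have hW' : X.presheaf.map i₁.op r = 0 := hW
  rw [← TopCat.Presheaf.germ_res_apply X.presheaf i₁ x hxW', hW', map_zero]

open DevissLib (St gm) in
/-- Finitely many sections generate the stalks along an open part of a closure. -/
theorem exists_generic {X : Scheme.{u}} [IsNoetherian X] (G : X.Modules) (ι : G ⟶ Coh.structureModule X)
    [Mono ι] (η : X) :
    ∃ (D : X.Opens) (n : ℕ) (g : Fin n → Γ(G, D)), η ∈ D ∧ ∀ (y : X) (hy : y ∈ D), η ⤳ y →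
      Submodule.span (X.presheaf.stalk y) (Set.range fun j => gm G y hy (g j)) = ⊤ := by
  classical
  have hinj : ∀ x, Function.Injective ((St x).map ι).hom := fun x =>
    (ModuleCat.mono_iff_injective _).mp inferInstance
  haveI hO := DevissLib.isNoetherian_stalk (DevissLib.isCoh_structureModule X) η
  haveI : _root_.IsNoetherian (X.presheaf.stalk η) ((St η).obj G) :=
    isNoetherian_of_injective ((St η).map ι).hom (hinj η)
  obtain ⟨n, gen, hgen⟩ := Module.Finite.exists_fin (R := X.presheaf.stalk η) (M := (St η).obj G)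
  choose O hO' s hs using fun j => DevissLib.exists_gm_eq G η (gen j)
  obtain ⟨V, hV, hηV, hVle⟩ := TopologicalSpace.Opens.isBasis_iff_nbhd.mp X.isBasis_affineOpens
    (show η ∈ Finset.univ.inf O from
      (Finset.inf_induction (p := fun V : X.Opens => η ∈ V) trivial (fun a ha b hb => ⟨ha, hb⟩) fun j _ => hO' j))
  let g₀ : Fin n → Γ(G, V) := fun j =>
    G.presheaf.map (homOfLE (hVle.trans (Finset.inf_le (Finset.mem_univ j)))).op (s j)
  have hg₀ : ∀ j, gm G η hηV (g₀ j) = gen j := fun j => (DevissLib.gm_map G _ η hηV _).trans (hs j)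
  haveI : IsNoetherianRing Γ(X, V) := IsLocallyNoetherian.component_noetherian ⟨V, hV⟩
  let b : Fin n → Γ(X, V) := fun j => ι.app V (g₀ j)
  let I : Ideal Γ(X, V) := Ideal.span (Set.range b)
  obtain ⟨f, hfp, hf⟩ := exists_elem I (hV.primeIdealOf ⟨η, hηV⟩).asIdeal
  have hbasic : ∀ (x : X) (hx : x ∈ V) (r : Γ(X, V)),
      x ∈ X.basicOpen r ↔ r ∉ (hV.primeIdealOf ⟨x, hx⟩).asIdeal := fun x hx r => by
    have e := hV.fromSpec_primeIdealOf ⟨x, hx⟩
    have h' : hV.primeIdealOf ⟨x, hx⟩ ∈ hV.fromSpec ⁻¹ᵁ X.basicOpen r ↔ x ∈ X.basicOpen r := by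
      change hV.fromSpec (hV.primeIdealOf ⟨x, hx⟩) ∈ X.basicOpen r ↔ _
      rw [e]
    rw [← h', hV.fromSpec_preimage_basicOpen]
    rfl
  refine ⟨X.basicOpen f, n, fun j => G.presheaf.map (homOfLE (X.basicOpen_le f)).op (g₀ j),
    (hbasic η hηV f).mpr hfp, fun y hy hsp => eq_top_iff.mpr fun a _ => ?_⟩
  have hyV : y ∈ V := X.basicOpen_le f hy
  obtain ⟨W, hyW, z, rfl⟩ := DevissLib.exists_gm_eq G y a
  obtain ⟨h, hhW, hyh⟩ := QCohLib.exists_basicOpen_nhd hV hyW hyV
  have hηh : η ∈ X.basicOpen h := hsp.mem_open (X.basicOpen h).2 hyh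
  have hηW : η ∈ W := hhW hηh
  haveI := QCohLib.isQCoh_unit (X := X)
  obtain ⟨N, m, hm⟩ := (QCohLib.localizingAt_of_isQCoh hV (Coh.structureModule X) h).exists_extend
    ((Coh.structureModule X).presheaf.map (homOfLE hhW).op (ι.app W z))
  let m' : Γ(X, V) := m
  have hpt : ∀ (x : X) (hx : x ∈ X.basicOpen h), X.presheaf.germ V x (X.basicOpen_le h hx) m' =
      X.presheaf.germ V x (X.basicOpen_le h hx) h ^ N * X.presheaf.germ W x (hhW hx) (ι.app W z) := by
    intro x hx
    have h1 := congrArg (fun t => X.presheaf.germ (X.basicOpen h) x hx t) hm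
    refine ((TopCat.Presheaf.germ_res_apply X.presheaf (homOfLE (X.basicOpen_le h)) x hx m').symm.trans h1).trans ?_
    refine (map_mul (X.presheaf.germ (X.basicOpen h) x hx).hom
      ((X.presheaf.map (homOfLE (X.basicOpen_le h)).op h) ^ N)
      (X.presheaf.map (homOfLE hhW).op (ι.app W z))).trans ?_
    exact congr_arg₂ (· * ·) ((map_pow _ _ _).trans (congrArg (· ^ N)
      (TopCat.Presheaf.germ_res_apply X.presheaf (homOfLE (X.basicOpen_le h)) x hx h)))
      (TopCat.Presheaf.germ_res_apply X.presheaf (homOfLE hhW) x hx (ι.app W z))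
  have hιη : X.presheaf.germ W η hηW (ι.app W z) ∈ I.map (X.presheaf.germ V η hηV).hom := by
    obtain ⟨c, hc⟩ := (Submodule.mem_span_range_iff_exists_fun _).1
      (hgen.ge (Submodule.mem_top (x := gm G η hηW z)))
    have h1 := congrArg ((St η).map ι).hom hc.symm
    rw [DevissLib.gm_app, map_sum] at h1
    simp only [map_smul, ← hg₀, DevissLib.gm_app] at h1
    have E : ∀ j, gm (Coh.structureModule X) η hηV (ι.app V (g₀ j)) =
        X.presheaf.germ V η hηV (b j) • gm (Coh.structureModule X) η (U := ⊤) trivial (1 : Γ(X, ⊤)) :=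
      fun j => gm_eq_smul_one hηV _
    rw [gm_eq_smul_one hηW, Finset.sum_congr rfl fun j _ => congrArg (c j • ·) (E j)] at h1
    simp only [smul_smul, ← Finset.sum_smul] at h1
    have h2 : X.presheaf.germ W η hηW (ι.app W z) = ∑ j, c j * X.presheaf.germ V η hηV (b j) := smul_one_inj h1
    rw [h2]
    exact Ideal.sum_mem _ fun j _ => Ideal.mul_mem_left _ _ (Ideal.mem_map_of_mem _ (Ideal.subset_span ⟨j, rfl⟩))
  have hmη : X.presheaf.germ V η hηV m' ∈ I.map (X.presheaf.germ V η hηV).hom := by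
    rw [hpt η hηh]
    exact Ideal.mul_mem_left _ _ hιη
  obtain ⟨u, hu, hum⟩ : ∃ u ∈ (hV.primeIdealOf ⟨η, hηV⟩).asIdeal.primeCompl, u * m' ∈ I := by
    letI := X.presheaf.algebra_section_stalk (⟨η, hηV⟩ : V)
    haveI : IsLocalization.AtPrime (X.presheaf.stalk η) (hV.primeIdealOf ⟨η, hηV⟩).asIdeal :=
      hV.isLocalization_stalk ⟨η, hηV⟩
    exact (IsLocalization.algebraMap_mem_map_algebraMap_iff
      (hV.primeIdealOf ⟨η, hηV⟩).asIdeal.primeCompl (X.presheaf.stalk η) I m').mp hmη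
  obtain ⟨t, ht, htm⟩ := hf (hV.primeIdealOf ⟨y, hyV⟩).asIdeal inferInstance ((hbasic y hyV f).mp hy) m' u hu hum
  have hιy : X.presheaf.germ W y hyW (ι.app W z) ∈ I.map (X.presheaf.germ V y hyV).hom := by
    have h1 : X.presheaf.germ V y hyV (t * m') ∈ I.map (X.presheaf.germ V y hyV).hom := Ideal.mem_map_of_mem _ htm
    rw [map_mul, hpt y hyh, ← mul_assoc] at h1
    refine (Ideal.unit_mul_mem_iff_mem _ ?_).mp h1
    exact ((X.mem_basicOpen t y hyV).mp ((hbasic y hyV t).mpr ht)).mul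
      (((X.mem_basicOpen h y hyV).mp hyh).pow N)
  rw [Ideal.map_span, ← Set.range_comp] at hιy
  obtain ⟨c, hc⟩ := (Submodule.mem_span_range_iff_exists_fun _).1 hιy
  rw [Submodule.mem_span_range_iff_exists_fun]
  refine ⟨c, hinj y ?_⟩
  rw [DevissLib.gm_app, map_sum]
  simp only [map_smul, DevissLib.gm_map G (X.basicOpen_le f) y hy, DevissLib.gm_app]
  have E : ∀ j, gm (Coh.structureModule X) y hyV (ι.app V (g₀ j)) =
      X.presheaf.germ V y hyV (b j) • gm (Coh.structureModule X) y (U := ⊤) trivial (1 : Γ(X, ⊤)) :=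
    fun j => gm_eq_smul_one hyV _
  rw [gm_eq_smul_one hyW, Finset.sum_congr rfl fun j _ => congrArg (c j • ·) (E j)]
  simp only [smul_smul, ← Finset.sum_smul]
  exact congrArg (· • _) hc

open DevissLib (St gm) in
/-- Finitely many sections generate all stalks on a closed subset. -/
theorem exists_finset {X : Scheme.{u}} [IsNoetherian X] (G : X.Modules) (ι : G ⟶ Coh.structureModule X)
    [Mono ι] (T : TopologicalSpace.Closeds X) :
    ∃ F : Finset (Σ U : X.Opens, (Γ(G, U) : Type u)), ∀ x ∈ (T : Set X),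
      Submodule.span (X.presheaf.stalk x) {a : (St x).obj G | ∃ p ∈ F, ∃ hx : x ∈ p.1, gm G x hx p.2 = a} = ⊤ := by
  classical
  induction T using WellFoundedLT.induction with
  | _ T IH =>
  have hmono : ∀ (x : X) (F F' : Finset (Σ U : X.Opens, (Γ(G, U) : Type u))), F ⊆ F' →
      Submodule.span (X.presheaf.stalk x) {a : (St x).obj G | ∃ p ∈ F, ∃ hx : x ∈ p.1, gm G x hx p.2 = a} = ⊤ →
      Submodule.span (X.presheaf.stalk x) {a : (St x).obj G | ∃ p ∈ F', ∃ hx : x ∈ p.1, gm G x hx p.2 = a} = ⊤ :=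
    fun x F F' hFF h => eq_top_iff.mpr (h.ge.trans (Submodule.span_mono
      fun a ⟨p, hp, hx, e⟩ => ⟨p, hFF hp, hx, e⟩))
  rcases (T : Set X).eq_empty_or_nonempty with hT | hT
  · exact ⟨∅, fun x hx => (hT.le hx).elim⟩
  by_cases hirr : IsIrreducible (T : Set X)
  · let η := hirr.genericPoint
    have hη : closure {η} = (T : Set X) := by
      rw [hirr.isGenericPoint_genericPoint_closure.def, T.isClosed.closure_eq]
    obtain ⟨D, n, g, hηD, hD⟩ := exists_generic G ι η
    let T' : TopologicalSpace.Closeds X := ⟨(T : Set X) ∩ (D : Set X)ᶜ, T.isClosed.inter D.2.isClosed_compl⟩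
    obtain ⟨F, hF⟩ := IH T' (lt_of_le_of_ne Set.inter_subset_left fun h =>
      ((congrArg SetLike.coe h).ge (hη.le (subset_closure rfl))).2 hηD)
    refine ⟨Finset.univ.image (fun j => (⟨D, g j⟩ : Σ U : X.Opens, (Γ(G, U) : Type u))) ∪ F, fun x hx => ?_⟩
    by_cases hxD : x ∈ D
    · refine eq_top_iff.mpr ((hD x hxD (specializes_iff_mem_closure.mpr (hη.ge hx))).ge.trans
        (Submodule.span_mono ?_))
      rintro _ ⟨j, rfl⟩
      exact ⟨⟨D, g j⟩, Finset.mem_union_left _ (Finset.mem_image_of_mem _ (Finset.mem_univ j)), hxD, rfl⟩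
    · exact hmono x F _ Finset.subset_union_right (hF x ⟨hx, hxD⟩)
  · have hpre : ¬ IsPreirreducible (T : Set X) := fun h => hirr ⟨hT, h⟩
    rw [isPreirreducible_iff_isClosed_union_isClosed] at hpre
    push Not at hpre
    obtain ⟨z₁, z₂, hz₁, hz₂, hsub, hn₁, hn₂⟩ := hpre
    let T₁ : TopologicalSpace.Closeds X := ⟨(T : Set X) ∩ z₁, T.isClosed.inter hz₁⟩
    let T₂ : TopologicalSpace.Closeds X := ⟨(T : Set X) ∩ z₂, T.isClosed.inter hz₂⟩
    obtain ⟨F₁, hF₁⟩ := IH T₁ (lt_of_le_of_ne Set.inter_subset_left fun h =>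
      hn₁ fun x hx => ((congrArg SetLike.coe h).ge hx).2)
    obtain ⟨F₂, hF₂⟩ := IH T₂ (lt_of_le_of_ne Set.inter_subset_left fun h =>
      hn₂ fun x hx => ((congrArg SetLike.coe h).ge hx).2)
    refine ⟨F₁ ∪ F₂, fun x hx => ?_⟩
    rcases hsub hx with h | h
    · exact hmono x F₁ _ Finset.subset_union_left (hF₁ x ⟨hx, h⟩)
    · exact hmono x F₂ _ Finset.subset_union_right (hF₂ x ⟨hx, h⟩)

/-- Let X be a Noetherian scheme and G ⟶ O_X a sub-O_X-module of the structure sheaf (a sheaf of ideals,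
not necessarily quasi-coherent). Then there are finitely many opens U_i of X and finitely many
sections s_{ij} ∈ G(U_i) such that for every point x of X the germs at x of those s_{ij} with x ∈
U_i generate the stalk G_x as an O_{X,x}-module. -/
theorem result {X : Scheme.{u}} [IsNoetherian X]
    (G : X.Modules) (ι : G ⟶ Coh.structureModule X) [Mono ι] :
    ∃ (m : ℕ) (U : Fin m → X.Opens) (k : Fin m → ℕ)
      (s : (i : Fin m) → Fin (k i) → (G.presheaf.obj (Opposite.op (U i)) : Type u)),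
      ∀ x : X, Submodule.span (X.presheaf.stalk x)
          (Set.range (fun p : (Σ i : {i : Fin m // x ∈ U i}, Fin (k i.1)) =>
            (G.presheaf.germ (U p.1.1) x p.1.2) (s p.1.1 p.2))) = ⊤ := by
  classical
  obtain ⟨F, hF⟩ := exists_finset G ι ⊤
  let e := F.equivFin.symm
  refine ⟨F.card, fun i => (e i).1.1, fun _ => 1, fun i _ => (e i).1.2, fun x => ?_⟩
  refine eq_top_iff.mpr ((hF x trivial).ge.trans (Submodule.span_mono ?_))
  rintro a ⟨p, hp, hx, rfl⟩
  obtain ⟨i, hi⟩ := e.surjective ⟨p, hp⟩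
  obtain rfl : (e i).1 = p := congrArg Subtype.val hi
  exact ⟨⟨⟨i, hx⟩, 0⟩, rfl⟩

end Groth.Agent.S11167
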