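import Groth.Statements.S11169
import Groth.Agent.RelSerreLib.Main

set_option autoImplicit false
set_option backward.isDefEq.respectTransparency false
set_option backward.isDefEq.respectTransparency.types false
set_option maxRecDepth 8000
set_option maxHeartbeats 1000000
universe u
open CategoryTheory CategoryTheory.Limits AlgebraicGeometry
open Coherent

namespace Groth.Agent.S11169

/-- Let Y be a locally Noetherian scheme, f : P^n_Y ⟶ Y the projection and F a quasi-coherent module on
P^n_Y. Then there are quasi-coherent O_Y-modules G_j, integers m_j > 0 and an epimorphism ∐_j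
f^*(G_j) ⊗ O(-m_j) ⟶ F. -/
theorem result (Y : Scheme.{u}) [IsLocallyNoetherian Y]
    (n : ℕ) (F : (CohB1.ProjSpaceOver n Y).Modules) (hF : Coh.IsQCoh F) :
    ∃ (ι : Type u) (G : ι → Y.Modules) (m : ι → ℕ)
      (p : (∐ fun j => CohB1.tensorMod ((Scheme.Modules.pullback (CohB1.ProjSpaceOver.toBase n Y)).obj (G j))
        (Twist.twistOver n Y (-((m j : ℕ) : ℤ)))) ⟶ F),
      (∀ j, Coh.IsQCoh (G j)) ∧ (∀ j, 0 < m j) ∧ Epi p := by
  haveI : IsProper (CohB1.ProjSpaceOver.toBase n Y) := ChowLib.isProper_toBase n Y
  haveI := QuotSchLib.isLocallyNoetherian_projSpaceOver n Y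
  exact RelSerreLib.exists_epi_qcoh (CohB1.ProjSpaceOver.toBase n Y) F hF (PicPnLib.twistOver_inv n Y 1)
    (Twist.twistOver n Y)
    (fun j => RelSerreLib.nonempty_twistOver_inverse n Y j (RelSerreLib.nonempty_pow_twistOver n Y j).some)
    (RelSerreLib.exists_locus n Y)

end Groth.Agent.S11169
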