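import Groth.Statements.S11170
import Groth.Agent.FlatTensVanLib.Main
import Groth.Agent.AmpleAffLib.Coprod
import Groth.Agent.KoszOrthLib.PnPC
import Groth.Agent.PnCohLib.Twist
import Groth.Agent.PicPnLib.BaseChange
import Groth.Agent.RpushLib.Vanish
import Groth.Agent.QuotSchLib.Fibre
import Groth.Agent.StratLib.Light
import Groth.Agent.PicLiftLib.Vanish

open TopologicalSpace
open KFlatLib (pb)

set_option autoImplicit false
set_option backward.isDefEq.respectTransparency false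
set_option backward.isDefEq.respectTransparency.types false
universe u
open CategoryTheory CategoryTheory.Limits AlgebraicGeometry
open Coherent

namespace Groth.Agent.S11170

theorem subsingleton_HHon_of_pullback {X P : Scheme.{u}} (j : P ⟶ X) [IsOpenImmersion j] {V : X.Opens}
    (hr : j.opensRange = V) (L : X.Modules) (i : ℕ)
    (h : Subsingleton (Coh.HH P ((Scheme.Modules.pullback j).obj L) i)) :
    Subsingleton (Coh.HHon X L V i) := by
  haveI := SerreVanLib.subsingleton_HH_of_iso ((Scheme.Modules.restrictFunctorIsoPullback j).app L) i h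
  obtain ⟨e₁⟩ := QCohLib.nonempty_HU_restrict j L i ⊤
  obtain ⟨e₂⟩ := QCohLib.nonempty_HU_restrict V.ι L i ⊤
  have h1 : Subsingleton (QCohLib.HU ((QCohLib.toAbF X).obj L) i (j ''ᵁ ⊤)) := by
    haveI := (QCohLib.subsingleton_H_iff ((QCohLib.toAbF P).obj (L.restrict j)) i).1 ‹_›
    exact e₁.symm.toEquiv.subsingleton
  rw [Scheme.Hom.image_top_eq_opensRange, hr, ← Scheme.Opens.ι_image_top V] at h1
  exact (QCohLib.subsingleton_H_iff ((QCohLib.toAbF (V : Scheme)).obj (L.restrict V.ι)) i).2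
    e₂.toEquiv.subsingleton

theorem vanish (n : ℕ) (R : CommRingCat.{u}) (d : ℤ) (hd : d < 0) (i : ℕ) (hi : i ≠ n) (M : ModuleCat.{u} R) :
    Subsingleton (Coh.HH (CohB1.ProjSpace n R)
      ((CohBCLib.tA (CohB1.ProjSpace.toSpec n R) (Twist.twistProjSpace n R d)).obj M) i) := by
  haveI : IsProper (CohB1.ProjSpace.toSpec n R) := StratLib.isProper_toSpec n R
  haveI : Coh.IsQCoh (Twist.twistProjSpace n R d) := GrTildeLib.isQCoh_twist d
  refine FlatTensVanLib.subsingleton_HH_tA (CohB1.ProjSpace.toSpec n R) _ (KoszOrthLib.isFlatOver_twist n R d)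
    (fun p => ?_) i (PnCohLib.subsingleton_HH_twist d i (by omega) (by omega)) M
  show Module.Flat R (Coh.HH (CohB1.ProjSpace n R) (Twist.twistProjSpace n R d) p)
  by_cases hp : p = n ∧ d ≤ -((n : ℤ) + 1)
  · obtain ⟨rfl, hd'⟩ := hp
    obtain ⟨k, hk⟩ := Int.eq_ofNat_of_zero_le (show 0 ≤ -((p : ℤ) + 1) - d by omega)
    obtain rfl : d = -((p : ℤ) + 1 + k) := by omega
    obtain ⟨e⟩ := PnCohLib.exists_HH_top (n := p) (R := R) k
    exact Module.Flat.of_linearEquiv e
  · haveI := PnCohLib.subsingleton_HH_twist (n := n) (R := R) d p (by omega) hp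
    infer_instance


/-- Let Y be a locally Noetherian scheme, f : P^n_Y ⟶ Y the projection, G_j quasi-coherent O_Y-modules
and m_j > 0. Then the direct sum L = ∐_j f^*(G_j) ⊗ O(-m_j) has R^i f_*(L) = 0 (higher direct images
of the underlying abelian sheaf) for every i ≠ n. -/
theorem result (Y : Scheme.{u}) [IsLocallyNoetherian Y]
    (n : ℕ) {ι : Type u} (G : ι → Y.Modules) (hG : ∀ j, Coh.IsQCoh (G j)) (m : ι → ℕ) (hm : ∀ j, 0 < m j)
    (i : ℕ) (hi : i ≠ n) :
    IsZero ((Coh.RpushAb (CohB1.ProjSpaceOver.toBase n Y) i).obj (Coh.toAb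
      (∐ fun j => CohB1.tensorMod ((Scheme.Modules.pullback (CohB1.ProjSpaceOver.toBase n Y)).obj (G j))
        (Twist.twistOver n Y (-((m j : ℕ) : ℤ)))))) := by
  haveI : ∀ j, Coh.IsQCoh (CohB1.tensorMod ((Scheme.Modules.pullback (CohB1.ProjSpaceOver.toBase n Y)).obj (G j))
      (Twist.twistOver n Y (-((m j : ℕ) : ℤ)))) := fun j =>
    haveI := hG j
    haveI := KFlatLib.isQCoh_pullback (CohB1.ProjSpaceOver.toBase n Y) (G j)
    QuotSchLib.isQCoh_twist _ _
  haveI := QCohLib.isQCoh_sigma (fun j => CohB1.tensorMod ((Scheme.Modules.pullback (CohB1.ProjSpaceOver.toBase n Y)).obj (G j))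
      (Twist.twistOver n Y (-((m j : ℕ) : ℤ)))) this
  refine RpushLib.isZero_rpushAb _ _ i fun y => ⟨⊤, trivial, fun W hW _ => ?_⟩
  obtain ⟨j, hj, hd⟩ := PicPnLib.exists_square (n := n) (R := Γ(Y, W)) hW.fromSpec
  let π := CohB1.ProjSpaceOver.toBase n Y
  haveI : IsOpenImmersion j := MorphismProperty.of_isPullback (P := @IsOpenImmersion) hj.flip inferInstance
  have hr : j.opensRange = π ⁻¹ᵁ W := by
    have := IsOpenImmersion.image_preimage_eq_preimage_image_of_isPullback hj.flip ⊤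
    rw [Scheme.Hom.preimage_top, Scheme.Hom.image_top_eq_opensRange, Scheme.Hom.image_top_eq_opensRange,
      hW.opensRange_fromSpec] at this
    exact this
  let Fm : ι → (CohB1.ProjSpaceOver n Y).Modules := fun a =>
    CohB1.tensorMod ((Scheme.Modules.pullback π).obj (G a)) (Twist.twistOver n Y (-((m a : ℕ) : ℤ)))
  refine subsingleton_HHon_of_pullback j hr (∐ Fm) i ?_
  haveI : IsProper (CohB1.ProjSpace.toSpec n Γ(Y, W)) := StratLib.isProper_toSpec n Γ(Y, W)
  haveI : CompactSpace ↥(CohB1.ProjSpace n Γ(Y, W)) := QuasiCompact.compactSpace_of_compactSpace (CohB1.ProjSpace.toSpec n Γ(Y, W))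
  haveI : (CohB1.ProjSpace n Γ(Y, W)).IsSeparated := ⟨by
    rw [← terminal.comp_from (CohB1.ProjSpace.toSpec n Γ(Y, W))]
    infer_instance⟩
  haveI : PreservesColimitsOfSize.{u, u} (Scheme.Modules.pullback j) :=
    (Scheme.Modules.pullbackPushforwardAdjunction j).leftAdjoint_preservesColimits
  refine SerreVanLib.subsingleton_HH_of_iso (PreservesCoproduct.iso (Scheme.Modules.pullback j) Fm) i ?_
  have key : ∀ a, ∃ M : ModuleCat.{u} Γ(Y, W), Nonempty ((Scheme.Modules.pullback j).obj (Fm a) ≅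
      (CohBCLib.tA (CohB1.ProjSpace.toSpec n Γ(Y, W)) (Twist.twistProjSpace n Γ(Y, W) (-((m a : ℕ) : ℤ)))).obj M) := by
    intro a
    haveI := hG a
    haveI : Coh.IsQCoh ((Scheme.Modules.pullback hW.fromSpec).obj (G a)) := KFlatLib.isQCoh_pullback _ _
    obtain ⟨t⟩ := PicLiftLib.nonempty_iso_tilde_restrict ((Scheme.Modules.pullback hW.fromSpec).obj (G a))
    haveI := KFlatLib.isIso_pullθ j ((Scheme.Modules.pullback π).obj (G a)) (Twist.twistOver n Y (-((m a : ℕ) : ℤ)))
    exact ⟨_, ⟨(asIso (KFlatLib.pullθ j ((Scheme.Modules.pullback π).obj (G a))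
      (Twist.twistOver n Y (-((m a : ℕ) : ℤ))))) ≪≫
      HilbPolyLib.congrLeft ((Scheme.Modules.pullbackComp j π).app (G a) ≪≫
        (Scheme.Modules.pullbackCongr hj.w).app (G a) ≪≫
        ((Scheme.Modules.pullbackComp (CohB1.ProjSpace.toSpec n Γ(Y, W)) hW.fromSpec).app (G a)).symm ≪≫
        (Scheme.Modules.pullback (CohB1.ProjSpace.toSpec n Γ(Y, W))).mapIso t) _ ≪≫
      HilbPolyLib.congrRight _ (hd _).some⟩⟩
  refine AmpleAffLib.subsingleton_HH_sigma _ (fun a => ?_) fun a => ?_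
  · obtain ⟨M, ⟨e⟩⟩ := key a
    haveI : Coh.IsQCoh (Twist.twistProjSpace n Γ(Y, W) (-((m a : ℕ) : ℤ))) := GrTildeLib.isQCoh_twist _
    haveI := CohBCLib.isQCoh_tA (CohB1.ProjSpace.toSpec n Γ(Y, W)) (Twist.twistProjSpace n Γ(Y, W) (-((m a : ℕ) : ℤ))) M
    exact QCohLib.isQCoh_of_iso e.symm
  · obtain ⟨M, ⟨e⟩⟩ := key a
    exact SerreVanLib.subsingleton_HH_of_iso e i
      (vanish n Γ(Y, W) _ (by have := hm a; omega) i hi M)

end Groth.Agent.S11170
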