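import Groth.Statements.S11184
import Groth.Agent.InjHullLib.Semilocal
-- import your own Groth.Agent.* helpers here

set_option autoImplicit false
universe u
open Matlis

namespace Groth.Agent.S11184

/-- Let A be a Noetherian local ring with residue field k, k → E an injective hull of k, and B a finite
A-algebra (a semilocal ring all of whose maximal ideals lie over the maximal ideal of A). Then the
B-module Hom_A(B, E), with B acting by (b·φ)(b') = φ(bb'), is the internal direct sum over the
maximal ideals n of B of submodules J_n (independent, with supremum everything), where each J_n is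
an injective hull over B of the residue field B/n: each hull occurs exactly once. -/
theorem result (A B : Type u) [CommRing A] [IsLocalRing A] [IsNoetherianRing A] [CommRing B] [Algebra A B] [Module.Finite A B] (E : Type u) [AddCommGroup E] [Module A E] (f : IsLocalRing.ResidueField A →ₗ[A] E) (hf : InjHull.IsInjectiveHull f) : ∃ J : MaximalSpectrum B → Submodule B ((ModuleCat.coextendScalars (algebraMap A B)).obj (ModuleCat.of A E)), iSupIndep J ∧ iSup J = ⊤ ∧ ∀ n : MaximalSpectrum B, ∃ g : (B ⧸ n.asIdeal) →ₗ[B] J n, InjHull.IsInjectiveHull g := by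
  classical
  let mA := IsLocalRing.maximalIdeal A
  let H := (ModuleCat.coextendScalars (algebraMap A B)).obj (ModuleCat.of A E)
  letI : Module A H := Module.compHom H (algebraMap A B)
  haveI : IsScalarTower A B H := IsScalarTower.of_algebraMap_smul fun _ _ => rfl
  have hinj : Module.Injective B H := InjHullLib.injective_coextend (algebraMap A B) E hf.isInjective
  let J := mA.map (algebraMap A B)
  have hkillJ : ∀ a ∈ mA, ∀ q : B ⧸ J, a • q = 0 := fun a ha q => by
    obtain ⟨q, rfl⟩ := Submodule.Quotient.mk_surjective _ q
    exact (Submodule.Quotient.mk_eq_zero _).2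
      (by show a • q ∈ _; rw [Algebra.smul_def]; exact Ideal.mul_mem_right _ _ (Ideal.mem_map_of_mem _ ha))
  haveI : IsNoetherianRing B := IsNoetherianRing.of_finite A B
  haveI : Algebra.IsIntegral A B := Algebra.IsIntegral.of_finite A B
  have hle : ∀ n : MaximalSpectrum B, J ≤ n.asIdeal := fun n => by
    haveI := n.isMaximal
    haveI := Ideal.isMaximal_comap_of_isIntegral_of_isMaximal (R := A) n.asIdeal
    exact Ideal.map_le_iff_le_comap.2
      (IsLocalRing.eq_maximalIdeal (show (n.asIdeal.comap (algebraMap A B)).IsMaximal from inferInstance)).ge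
  haveI : Module.Finite A (B ⧸ J) := Module.Finite.of_surjective ((Submodule.mkQ J).restrictScalars A) (Submodule.mkQ_surjective J)
  obtain ⟨_, _⟩ := isFiniteLength_iff_isNoetherian_isArtinian.1 (Module.length_ne_top_iff.1 (InjHullLib.length_ne_top_of_killed hkillJ))
  haveI : IsArtinianRing (B ⧸ J) := by
    haveI : IsArtinian (B ⧸ J) (B ⧸ J) := isArtinian_of_tower A inferInstance
    exact ‹_›
  have hfinite : Finite (MaximalSpectrum B) := by
    have hc : ∀ n : MaximalSpectrum B, (n.asIdeal.map (Ideal.Quotient.mk J)).IsMaximal := fun n => by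
      haveI := n.isMaximal
      exact Ideal.IsMaximal.map_of_surjective_of_ker_le Ideal.Quotient.mk_surjective (by rw [Ideal.mk_ker]; exact hle n)
    refine Finite.of_injective (fun n => (⟨_, hc n⟩ : MaximalSpectrum (B ⧸ J))) fun a b h => MaximalSpectrum.ext ?_
    have h' := congrArg (fun I : MaximalSpectrum (B ⧸ J) => I.asIdeal.comap (Ideal.Quotient.mk J)) h
    simpa [Ideal.comap_map_of_surjective _ Ideal.Quotient.mk_surjective, ← RingHom.ker_eq_comap_bot, Ideal.mk_ker,
      sup_eq_left.2 (hle a), sup_eq_left.2 (hle b)] using h'
  haveI := Fintype.ofFinite (MaximalSpectrum B)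
  refine ⟨fun n => InjHullLib.torsionPart n.asIdeal H, InjHullLib.iSupIndep_torsionPart, ?_, fun n => ?_⟩
  · refine Submodule.eq_top_iff'.2 fun φ => ?_
    have hrad : (∏ n : MaximalSpectrum B, n.asIdeal) ≤ J.radical := by
      rw [Ideal.radical_eq_sInf]
      refine le_sInf fun P hP => ?_
      obtain ⟨hJP, hPp⟩ := hP
      haveI := hPp
      have hPm : (P.map (Ideal.Quotient.mk J)).IsPrime :=
        Ideal.map_isPrime_of_surjective Ideal.Quotient.mk_surjective (by rw [Ideal.mk_ker]; exact hJP)
      have hPmax : P.IsMaximal := by
        have h1 := Ideal.comap_isMaximal_of_surjective (Ideal.Quotient.mk J) Ideal.Quotient.mk_surjective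
          (K := P.map (Ideal.Quotient.mk J)) (H := IsArtinianRing.isMaximal_of_isPrime _)
        rwa [Ideal.comap_map_of_surjective _ Ideal.Quotient.mk_surjective, ← RingHom.ker_eq_comap_bot, Ideal.mk_ker,
          sup_eq_left.2 hJP] at h1
      exact (Ideal.prod_le_inf (s := Finset.univ) (f := fun n : MaximalSpectrum B => n.asIdeal)).trans
        (Finset.inf_le (f := fun n : MaximalSpectrum B => n.asIdeal) (Finset.mem_univ (⟨P, hPmax⟩ : MaximalSpectrum B)))
    obtain ⟨c, hc⟩ := Ideal.exists_pow_le_of_le_radical_of_fg hrad (IsNoetherian.noetherian _)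
    have key : ∀ b : B, ∃ N, ∀ a ∈ mA ^ N, a • InjHullLib.coextLin φ b = 0 := fun b => InjHullLib.isPowerTorsion_hull_local hf _
    choose N hN using key
    obtain ⟨s, hs⟩ := Module.Finite.fg_top (R := A) (M := B)
    refine InjHullLib.mem_iSup_torsionPart_of_prod id Function.injective_id (c * s.sup N) Finset.univ φ fun r hr => ?_
    have h3 : r ∈ (mA ^ s.sup N).map (algebraMap A B) := by
      rw [Ideal.map_pow]
      refine Ideal.pow_right_mono hc _ ?_
      rw [← pow_mul]
      rw [Finset.prod_pow] at hr
      exact hr
    clear hr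
    induction h3 using Submodule.span_induction with
    | zero => exact zero_smul B φ
    | add a b _ _ ha hb => rw [add_smul, ha, hb, add_zero]
    | smul t a _ ha => rw [smul_assoc, ha, smul_zero]
    | mem r hr =>
      obtain ⟨a, ha, rfl⟩ := hr
      refine InjHullLib.coext_ext fun x => ?_
      rw [InjHullLib.smul_coextend_apply, mul_comm, ← Algebra.smul_def]
      refine ((InjHullLib.coextLin φ).map_smul a x).trans ?_
      have h4 : x ∈ Submodule.span A (s : Set B) := hs.ge trivial
      induction h4 using Submodule.span_induction with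
      | mem y hy => exact hN y a (Ideal.pow_le_pow_right (Finset.le_sup hy) ha)
      | zero => rw [map_zero, smul_zero]; rfl
      | add y z _ _ hy hz => rw [map_add, smul_add, hy, hz]; exact zero_add _
      | smul t y _ hy => rw [map_smul, smul_comm, hy]; exact smul_zero t
  · haveI := n.isMaximal
    have hkill : ∀ a ∈ mA, ∀ q : B ⧸ n.asIdeal, a • q = 0 := fun a ha q => by
      obtain ⟨q, rfl⟩ := Submodule.Quotient.mk_surjective _ q
      exact (Submodule.Quotient.mk_eq_zero _).2
        (by show a • q ∈ _; rw [Algebra.smul_def]; exact Ideal.mul_mem_right _ _ (hle n (Ideal.mem_map_of_mem _ ha)))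
    haveI : Module.Finite A (B ⧸ n.asIdeal) :=
      Module.Finite.of_surjective ((Submodule.mkQ n.asIdeal).restrictScalars A) (Submodule.mkQ_surjective n.asIdeal)
    have hfin := InjHullLib.length_ne_top_of_killed hkill
    exact InjHullLib.exists_hull_torsionPart_maximal (R := A) n.asIdeal hinj hfin
      ((InjHullLib.length_socle_coext_maximal (A := A) n.asIdeal (E := E)).trans (InjHullLib.length_hom (m := mA) hf
        (Module.length_ne_top_iff.1 hfin) (n := 1) (fun a ha => hkill a (by rwa [pow_one] at ha))))

end Groth.Agent.S11184
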