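import Groth.Statements.S11188
import Groth.Agent.ObsLib.Main


set_option autoImplicit false
set_option linter.style.haveILetI false
set_option backward.isDefEq.respectTransparency false
set_option backward.isDefEq.respectTransparency.types false
set_option maxHeartbeats 1000000
set_option synthInstance.maxHeartbeats 400000
universe u
open CategoryTheory MonoidalCategory CartesianMonoidalCategory MonObj GrpObj AlgebraicGeometry
open scoped TensorProduct
open AGF

attribute [-instance] CategoryTheory.Hom.commGroup

namespace Groth.Agent.S11188

/-- (1) ⇔ (2) ⇔ (3): let k be an algebraically closed field, G a linear algebraic group over k (an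
affine smooth group scheme over k) and H a closed subgroup of G (a smooth closed subgroup scheme, i
: H → G). The following are equivalent: (i) H is observable in G, i.e. a rational point of G whose
right translation fixes every right-H-invariant global function on G lies in H; (ii) there are a
finite-dimensional rational G-module V and a vector v in V whose stabiliser, on rational points, is
H; (iii) there are finitely many right-H-invariant global functions on G which separate the cosets
gH: two rational points of G at which they all take the same values differ by right multiplication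
by a rational point of H. -/
theorem result (k : Type u) [Field k] [IsAlgClosed k]
    (G : Over (Spec (CommRingCat.of k))) [GrpObj G] [IsAffine G.left] [Smooth G.hom]
    (H : Over (Spec (CommRingCat.of k))) [GrpObj H] [Smooth H.hom] (i : H ⟶ G) [IsMonHom i]
    [IsClosedImmersion i.left] :
    List.TFAE [
      AGF.IsObservableIn k i,
      ∃ (V : Type u) (_ : AddCommGroup V) (_ : Module k V) (_ : Module.Finite k V) (ρ : VecGrp.GMod G V) (v : V),
        AGF.IsStabOnPts k i ρ v,
      ∃ s : Finset Γ(G.left, ⊤), (∀ f ∈ s, AGF.IsRTransInv i f) ∧
        ∀ g g' : VecGrp.pt k k ⟶ G, (∀ f ∈ s, g.left.appTop f = g'.left.appTop f) →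
          ∃ h : VecGrp.pt k k ⟶ H, g' = g * (h ≫ i)] := by
  obtain ⟨A, _, _, v, hv, hA, hA'⟩ := Groth.Agent.BorelLib.exists_setup G
  haveI := hv; haveI := hA; haveI := hA'
  obtain ⟨B, _, _, w, hw, π, hHa, hB, hB', hπ, hsur⟩ := Groth.Agent.ObsLib.exists_sub_data v i
  haveI := hw; haveI := hHa; haveI := hB; haveI := hB'
  tfae_have 1 ↔ 2 := Groth.Agent.ObsLib.isObservableIn_iff_stab v w hπ
  tfae_have 1 ↔ 3 := Groth.Agent.ObsLib.isObservableIn_iff_sep v w hπ
  tfae_finish

end Groth.Agent.S11188
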