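import Groth.Statements.S11189
import Groth.Agent.ObsLib.Groups
import Groth.Agent.BorelLib.QuotProper
import Groth.Agent.MonoQuotLib.Orbit
import Groth.Agent.AlgSpLib.RepDescent
import Groth.Agent.ActKerLib.Surj
-- import your own Groth.Agent.* helpers here

set_option autoImplicit false
set_option linter.style.haveILetI false
set_option backward.isDefEq.respectTransparency false
set_option backward.isDefEq.respectTransparency.types false
set_option maxHeartbeats 2000000
set_option synthInstance.maxHeartbeats 400000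
universe u
open CategoryTheory MonoidalCategory CartesianMonoidalCategory MonObj GrpObj AlgebraicGeometry
open scoped TensorProduct
open AGF

attribute [-instance] CategoryTheory.Hom.commGroup

namespace Groth.Agent.S11189
attribute [local instance] BorelLib.pTop BorelLib.pTopTensor
open Groth.Agent CoactBr
open BlowRegLib (evalPt algTop)

/-- A morphism injective on rational points is locally quasi-finite. -/
theorem lqf_of_injective_pts {k : Type u} [Field k] [IsAlgClosed k] {X Y : Scheme.{u}} (f : X ⟶ Y)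
    (sY : Y ⟶ Spec (CommRingCat.of k)) [LocallyOfFiniteType sY] [LocallyOfFiniteType f]
    (hinj : ∀ x x' : Spec (CommRingCat.of k) ⟶ X, x ≫ f ≫ sY = 𝟙 _ → x' ≫ f ≫ sY = 𝟙 _ → x ≫ f = x' ≫ f → x = x') :
    LocallyQuasiFinite f := by
  haveI : JacobsonSpace ↥X := LocallyOfFiniteType.jacobsonSpace (f ≫ sY)
  have hmain : ∀ x, IsClosed ({x} : Set X) → f ⁻¹' {f x} = {x} := by
    intro x hx
    let e := pointEquivClosedPoint (f ≫ sY)
    have hp : (pointOfClosedPoint (f ≫ sY) x hx ≫ f) ≫ sY = 𝟙 _ := by
      rw [Category.assoc, pointOfClosedPoint_comp]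
    have hfx : IsClosed ({f x} : Set Y) := by
      have h1 := (pointEquivClosedPoint sY ⟨_, hp⟩).2
      simpa [Scheme.Hom.comp_apply] using h1
    have hF : IsClosed (f ⁻¹' {f x}) := hfx.preimage f.continuous
    refine Set.Subset.antisymm ?_ (by simp)
    have hcl := JacobsonSpace.closure_inter_closedPoints_eq_closure hF.isLocallyClosed
    rw [hF.closure_eq] at hcl
    rw [← hcl]
    refine closure_minimal ?_ hx
    rintro y ⟨hy, hyc⟩
    have hq : (pointOfClosedPoint (f ≫ sY) y hyc ≫ f) ≫ sY = 𝟙 _ := by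
      rw [Category.assoc, pointOfClosedPoint_comp]
    have he : pointOfClosedPoint (f ≫ sY) y hyc ≫ f = pointOfClosedPoint (f ≫ sY) x hx ≫ f := by
      refine ext_of_apply_closedPoint_eq sY hq hp ?_
      simp only [Scheme.Hom.comp_apply, pointOfClosedPoint_apply]
      exact hy
    have := congrArg (fun q : Spec (CommRingCat.of k) ⟶ X => q (IsLocalRing.closedPoint k))
      (hinj _ _ (by simp) (by simp) he)
    simpa [pointOfClosedPoint_apply] using this
  rw [← Scheme.Hom.quasiFiniteLocus_eq_top_iff]
  refine TopologicalSpace.Opens.ext (Set.eq_univ_of_forall fun y => by_contra fun hy => ?_)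
  obtain ⟨x, hx, hxc⟩ := nonempty_inter_closedPoints (Z := (f.quasiFiniteLocus : Set X)ᶜ) ⟨y, hy⟩
    f.quasiFiniteLocus.isOpen.isClosed_compl.isLocallyClosed
  refine hx ?_
  show x ∈ f.quasiFiniteLocus
  rw [Scheme.Hom.mem_quasiFiniteLocus, Scheme.Hom.quasiFiniteAt_iff_isOpen_singleton_asFiber]
  haveI : Subsingleton ↥(f.fiber (f x)) := by
    refine ⟨fun p q => (f.fiberHomeo (f x)).injective (Subtype.ext ?_)⟩
    have hp := (f.fiberHomeo (f x) p).2
    have hq := (f.fiberHomeo (f x) q).2
    rw [Set.mem_singleton_iff.1 ((hmain x hxc).subset hp), Set.mem_singleton_iff.1 ((hmain x hxc).subset hq)]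
  convert isOpen_univ
  exact Set.eq_univ_of_forall fun p => Subsingleton.elim _ _


/-- Let k be an algebraically closed field, G a linear algebraic group over k (an affine smooth group
scheme over k) and H a closed subgroup of G (a smooth closed subgroup scheme, i : H → G), and let X,
with G-action a and base point o, be the quotient G/H. Then H is observable in G if and only if X is
quasi-affine (quasi-compact and an open subscheme of an affine scheme). -/
theorem result (k : Type u) [Field k] [IsAlgClosed k]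
    (G : Over (Spec (CommRingCat.of k))) [GrpObj G] [IsAffine G.left] [Smooth G.hom]
    (H : Over (Spec (CommRingCat.of k))) [GrpObj H] [Smooth H.hom] (i : H ⟶ G) [IsMonHom i]
    [IsClosedImmersion i.left]
    (X : Over (Spec (CommRingCat.of k))) (a : AlgGrp.Action G X) (o : 𝟙_ (Over (Spec (CommRingCat.of k))) ⟶ X)
    (hX : AGF.IsQuotient i X a o) :
    AGF.IsObservableIn k i ↔ X.left.IsQuasiAffine := by
  classical
  haveI : IsAffine H.left := isAffine_of_isAffineHom i.left
  obtain ⟨A, _, _, v, hv, hA, hA'⟩ := BorelLib.exists_setup G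
  haveI := hv; haveI := hA; haveI := hA'
  obtain ⟨B, _, _, w, hw, π, hHa, hB, hB', hπ, hsur⟩ := ObsLib.exists_sub_data v i
  haveI := hw; haveI := hB; haveI := hB'
  obtain ⟨hXf, hflat, hsurj, hsq⟩ := id hX
  haveI := hXf; haveI := hflat; haveI := hsurj; haveI := BorelLib.lfp_orbit a o hX
  haveI : IsSeparated X.hom := BorelLib.isSeparated_of_isQuotient hsq
  haveI : CompactSpace ↥X.left :=
    ⟨by rw [← (a.orbitMap o).left.surjective.range_eq]; exact isCompact_range (a.orbitMap o).left.continuous⟩
  haveI : QuasiCompact X.hom := (HasAffineProperty.iff_of_isAffine (P := @QuasiCompact)).2 inferInstance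
  constructor
  · intro hobs
    rw [ObsLib.isObservableIn_iff v w hπ] at hobs
    obtain ⟨s, hs, hsep⟩ := hobs.exists_sep
    let R := MvPolynomial s k
    let α : R →ₐ[k] A := MvPolynomial.aeval fun t : s => (t : A)
    let F : G ⟶ sp k R := v.inv ≫ pt α
    haveI : IsAffine (sp k R).left := inferInstanceAs (IsAffine (Spec (CommRingCat.of R)))
    haveI : LocallyOfFiniteType (sp k R).hom := BorelLib.lft_sp
    have hval : ∀ t : BorelLib.Pt k A, ObsLib.ptk v t ≫ F = pt (t.ofConv.comp α) := fun t => by
      show (pt t.ofConv ≫ v.hom) ≫ v.inv ≫ pt α = _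
      rw [Category.assoc, v.hom_inv_id_assoc, ← CoactBr.pt_comp]
    have hαx : ∀ t t' : BorelLib.Pt k A, (∀ c ∈ s, t.ofConv c = t'.ofConv c) → t.ofConv.comp α = t'.ofConv.comp α :=
      fun t t' h => MvPolynomial.algHom_ext fun j => by simpa [α] using h _ j.2
    have hsame : fst G H ≫ F = ((G ◁ i) ≫ μ[G]) ≫ F := by
      refine Over.OverMorphism.ext (ext_of_isAffine ?_)
      rw [Over.comp_left, Over.comp_left, Scheme.Hom.comp_appTop, Scheme.Hom.comp_appTop]
      refine CommRingCat.hom_ext (RingHom.ext fun q => Eq.symm ?_)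
      show AGF.IsRTransInv i (F.left.appTop q)
      refine (ObsLib.isRTransInv_iff_inv v w hπ _).2 fun t g hg => ?_
      rw [← ObsLib.evalPt_ptk, ← ObsLib.evalPt_ptk, ObsLib.evalPt_appTop, ObsLib.evalPt_appTop, hval, hval,
        hαx (t * g) t fun c hc => hs c hc t g hg]
    obtain ⟨φ, hφ⟩ := MonoQuot.exists_desc_over (a.orbitMap o) F fun U g g' h => by
      rw [← hsq.lift_fst g g' h, Category.assoc, hsame, ← Category.assoc, hsq.lift_snd]
    haveI : IsSeparated (φ.left ≫ (sp k R).hom) := by rw [Over.w φ]; infer_instance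
    haveI : IsSeparated φ.left := IsSeparated.of_comp φ.left (sp k R).hom
    haveI : LocallyOfFiniteType (φ.left ≫ (sp k R).hom) := by rw [Over.w φ]; infer_instance
    haveI : LocallyOfFiniteType φ.left := locallyOfFiniteType_of_comp φ.left (sp k R).hom
    haveI : QuasiCompact (φ.left ≫ (sp k R).hom) := by rw [Over.w φ]; infer_instance
    haveI : QuasiCompact φ.left := QuasiCompact.of_comp φ.left (sp k R).hom
    haveI : LocallyQuasiFinite φ.left := by
      have hid : (VecGrp.pt k k).hom = 𝟙 (Spec (CommRingCat.of k)) := by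
        show Spec.map (CommRingCat.ofHom (algebraMap k k)) = _
        rw [Algebra.algebraMap_self]
        exact Spec.map_id _
      refine lqf_of_injective_pts φ.left (sp k R).hom fun x x' hx hx' he => ?_
      let b : VecGrp.pt k k ⟶ X := Over.homMk x (by rw [hid, ← hx, Over.w φ])
      let b' : VecGrp.pt k k ⟶ X := Over.homMk x' (by rw [hid, ← hx', Over.w φ])
      have hbb : b ≫ φ = b' ≫ φ := Over.OverMorphism.ext he
      haveI : LocallyOfFiniteType G.hom := inferInstance
      obtain ⟨g, hg⟩ := ActKer.exists_point_lift (K := k) (a.orbitMap o) b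
      obtain ⟨g', hg'⟩ := ActKer.exists_point_lift (K := k) (a.orbitMap o) b'
      obtain ⟨t, rfl⟩ := ObsLib.ptk_surjective v g
      obtain ⟨t', rfl⟩ := ObsLib.ptk_surjective v g'
      rw [← hg, ← hg', Category.assoc, Category.assoc, hφ, hval, hval] at hbb
      have hα : t.ofConv.comp α = t'.ofConv.comp α := CoactBr.pt_injective hbb
      obtain ⟨y, hy⟩ := (ObsLib.mem_sub_iff v w hπ).1 (hsep t t' fun c hc => by
        have hX : α (MvPolynomial.X (⟨c, hc⟩ : s)) = c := MvPolynomial.aeval_X _ _
        exact (congrArg t.ofConv hX).symm.trans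
          ((DFunLike.congr_fun hα (MvPolynomial.X (⟨c, hc⟩ : s))).trans (congrArg t'.ofConv hX)))
      have e : lift (ObsLib.ptk v t) (ObsLib.ptk w y) ≫ (G ◁ i) ≫ μ[G] = ObsLib.ptk v t' := by
        rw [lift_whiskerLeft_assoc, ← Hom.mul_def, ObsLib.ptk_comp v w hπ, hy, ← ObsLib.ptk_mul,
          mul_inv_cancel_left]
      have hw' := congrArg (fun m => lift (ObsLib.ptk v t) (ObsLib.ptk w y) ≫ m) hsq.w
      simp only [lift_fst_assoc] at hw'
      rw [← Category.assoc, e, hg, hg'] at hw'
      exact congrArg (fun m : VecGrp.pt k k ⟶ X => m.left) hw'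
    exact AlgSpLib.quasiAffine_of_lqf φ.left
  · intro hqa
    haveI := hqa
    intro g hg
    obtain ⟨t, rfl⟩ := ObsLib.ptk_surjective v g
    have hall : ∀ φ : Γ(X.left, ⊤), evalPt (ObsLib.ptk v t ≫ a.orbitMap o) φ =
        evalPt (ObsLib.ptk v 1 ≫ a.orbitMap o) φ := fun φ => by
      have hinv : AGF.IsRTransInv i ((a.orbitMap o).left.appTop φ) :=
        congrArg (fun m : G ⊗ H ⟶ X => m.left.appTop φ) hsq.w.symm
      have h1 := congrArg (fun c => (1 : BorelLib.Pt k A).ofConv c) ((ObsLib.isRTransInv_ptk_iff v t _).1 (hg _ hinv))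
      simp only [ObsLib.eval_rT, _root_.one_mul] at h1
      rw [← ObsLib.evalPt_appTop, ← ObsLib.evalPt_appTop, ObsLib.evalPt_ptk, ObsLib.evalPt_ptk]
      exact h1
    have he : ObsLib.ptk v t ≫ a.orbitMap o = ObsLib.ptk v 1 ≫ a.orbitMap o := by
      refine Over.OverMorphism.ext ((cancel_mono X.left.toSpecΓ).1 (ext_of_isAffine ?_))
      rw [Scheme.Hom.comp_appTop, Scheme.Hom.comp_appTop]
      refine CommRingCat.hom_ext (RingHom.ext fun q => ?_)
      exact (ConcreteCategory.bijective_of_isIso (Scheme.ΓSpecIso (CommRingCat.of k)).hom).1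
        (hall (X.left.toSpecΓ.appTop q))
    refine ⟨hsq.lift _ _ he.symm ≫ snd G H, ?_⟩
    have e : hsq.lift _ _ he.symm ≫ (G ◁ i) ≫ μ[G] =
        (hsq.lift _ _ he.symm ≫ fst G H) * ((hsq.lift _ _ he.symm ≫ snd G H) ≫ i) := by
      rw [Hom.mul_def, ← lift_whiskerLeft_assoc, ← comp_lift, lift_fst_snd, Category.comp_id]
    rw [hsq.lift_snd, hsq.lift_fst] at e
    have e' := e.trans ((congrArg (· * _) (ObsLib.ptk_one v)).trans (_root_.one_mul _))
    exact e'.symm

end Groth.Agent.S11189
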