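import Groth.Statements.S1119
import Groth.Agent.KoszOrthLib.Global
import Groth.Agent.KiehlLib.Cx

set_option autoImplicit false
set_option backward.isDefEq.respectTransparency false
set_option backward.isDefEq.respectTransparency.types false
universe u
open CategoryTheory CategoryTheory.Limits AlgebraicGeometry Opposite
attribute [local instance] HasDerivedCategory.standard
open Perf

namespace Groth.Agent.S1119

/-- Let A be a ring, π : X ⟶ Spec A with X quasi-compact and quasi-separated, and K a cochain complex of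
O_X-modules whose image in D(O_X) is bounded above with quasi-coherent cohomology sheaves. Assuming
Rπ_* and - ⊗^L K exist: if Rπ_*(E ⊗^L K) is pseudo-coherent on Spec A for every perfect E ∈ D(O_X),
then Rπ_*(E ⊗^L K) is pseudo-coherent for every pseudo-coherent E ∈ D(O_X). (The source phrases the
condition with RΓ(X, -) valued in D(A); on the affine base the two formulations correspond under
D(A) ≃ D_QCoh(Spec A).) -/
theorem result (A : Type u) [CommRing A] (X : Scheme.{u}) [CompactSpace ↥X] [QuasiSeparatedSpace ↥X]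
    (π : X ⟶ Spec (CommRingCat.of A)) [DCoh.HasRpush π]
    (K : CochainComplex X.Modules ℤ) (hK : DCoh.IsQCohD (DCoh.toD X K)) (b : ℤ) [(DCoh.toD X K).IsLE b] [DCoh.HasLTensorCx K]
    (h : ∀ E : DCoh.D X, DCoh.IsPerfect E → ∀ m : ℤ, DCoh.IsPseudoCoherentD m ((DCoh.Rpush π).obj ((DCoh.LTensorCx K).obj E)))
    (E : DCoh.D X) (hE : ∀ m : ℤ, DCoh.IsPseudoCoherentD m E) (m : ℤ) :
    DCoh.IsPseudoCoherentD m ((DCoh.Rpush π).obj ((DCoh.LTensorCx K).obj E)) := by
  open DerivedCategory.TStructure in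
  obtain ⟨_, _⟩ := QRlimLib.exists_isTriangulated_rpush π
  obtain ⟨N, hN⟩ := QRlimLib.exists_uniform_bound π
  obtain ⟨r, hr⟩ := KoszOrthLib.approxHolds_of_qcqs X Set.univ isClosed_univ
    (by rw [Set.compl_univ]; exact fun O hc _ => by rw [Set.empty_inter]; exact isCompact_empty)
  let c : ℤ := m - N - b
  obtain ⟨P, α, hP, -, hi, he⟩ := hr c E (KiehlLib.isQCohD_of_isPC hE) (hE _) fun i _ x _ => Set.mem_univ x
  obtain ⟨C, p, δ, hT⟩ := Pretriangulated.distinguished_cocone_triangle α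
  have hC : ∀ i, c ≤ i → IsZero (DCoh.HD C i) :=
    (KoszOrthLib.isoAboveEpiAtX_iff _ hT c).1 ⟨hi, he⟩
  haveI : C.IsLE c := (DerivedCategory.isLE_iff C c).2 fun i h' => hC i (by omega)
  have hCq : DCoh.IsQCohD C := KiehlLib.isQCohD_of_isPC fun k =>
    Groth.Agent.PerfLib.isPC_obj₃ _ hT k (Groth.Agent.RelFlatLib.isPC_of_isPerfect hP _) (hE k)
  -- upper bound for the twist of the cone
  obtain ⟨L, hLb, hL, ⟨eL⟩⟩ := KFlatLib.exists_flat_rep_of_isLE C c
  obtain ⟨eT⟩ := KFlatLib.exists_lTensorCxObjIso K L hL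
  haveI : K.IsLE b := (DerivedCategory.isLE_Q_obj_iff K b).1 ‹_›
  haveI := KFlatLib.quasiIso_tensor_left (K := L) hL (K.ιTruncLE b)
  let eK : DCoh.toD X (KFlatLib.tCx L (K.truncLE b)) ≅ DCoh.toD X (KFlatLib.tCx L K) :=
    @asIso _ _ _ _ (DerivedCategory.Q.map (((DCoh.tensorCx (X := X)).obj L).map (K.ιTruncLE b)))
      ((DerivedCategory.isIso_Q_map_iff_quasiIso X.Modules _).mpr ‹_›)
  have hle : ((DCoh.LTensorCx K).obj C).IsLE (c + b) := (DerivedCategory.isLE_iff _ _).2 fun i h' =>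
    (KFlatLib.isZero_HD_iff (eK ≪≫ eT.symm ≪≫ (DCoh.LTensorCx K).mapIso eL) i).2
      ((HomologicalComplex.exactAt_iff_isZero_homology _ _).1 (ShortComplex.exact_of_isZero_X₂ _
        (KiehlLib.isZero_tCx_X hLb (fun j hj => (K.truncLE b).isZero_of_isStrictlyLE b j hj) i h')))
  have hz := hN _ (KFlatLib.isQCohD_lTensorCx K hK C hCq) (c + b) hle
  obtain ⟨T, hT', ⟨e₁⟩, ⟨e₂⟩, ⟨e₃⟩⟩ := (KFlatLib.tensorTriFun K).tri _ hT
  let R := DCoh.Rpush π
  exact Groth.Agent.PerfLib.isPC_of_iso (R.mapIso e₂) (Groth.Agent.PerfLib.isPC_obj₂ _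
    (R.map_distinguished _ hT') m (Groth.Agent.PerfLib.isPC_of_iso (R.mapIso e₁).symm (h P hP m))
    (Groth.Agent.PerfLib.isPC_of_iso (R.mapIso e₃).symm
      (Groth.Agent.PerfLib.isPC_of_isZero_above fun i h' => hz i (by omega))))

end Groth.Agent.S1119
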