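import Groth.Statements.S11194
import Groth.Agent.ObsLib.Groups


set_option autoImplicit false
set_option linter.style.haveILetI false
set_option backward.isDefEq.respectTransparency false
set_option backward.isDefEq.respectTransparency.types false
set_option maxHeartbeats 1000000
set_option synthInstance.maxHeartbeats 400000
universe u
open CategoryTheory MonoidalCategory CartesianMonoidalCategory MonObj GrpObj AlgebraicGeometry
open scoped TensorProduct
open AGF

attribute [-instance] CategoryTheory.Hom.commGroup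

attribute [local instance] Groth.Agent.BorelLib.pTop Groth.Agent.BorelLib.pTopTensor

namespace Groth.Agent.S11194

/-- (i) ⇔ (iii): let k be an algebraically closed field, G a linear algebraic group over k (an affine
smooth group scheme over k) and H a closed subgroup of G (a smooth closed subgroup scheme, i : H →
G); let G₀ ⊆ G and H₀ ⊆ H be the identity components (connected open subgroup schemes) and i₀ : H₀ →
G₀ the induced homomorphism. Then H is observable in G if and only if H₀ is observable in G₀. -/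
theorem result (k : Type u) [Field k] [IsAlgClosed k]
    (G : Over (Spec (CommRingCat.of k))) [GrpObj G] [IsAffine G.left] [Smooth G.hom]
    (H : Over (Spec (CommRingCat.of k))) [GrpObj H] [Smooth H.hom] (i : H ⟶ G) [IsMonHom i]
    [IsClosedImmersion i.left]
    (G₀ : Over (Spec (CommRingCat.of k))) [GrpObj G₀] [ConnectedSpace G₀.left] (jG : G₀ ⟶ G) [IsMonHom jG]
    [IsOpenImmersion jG.left]
    (H₀ : Over (Spec (CommRingCat.of k))) [GrpObj H₀] [ConnectedSpace H₀.left] (jH : H₀ ⟶ H) [IsMonHom jH]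
    [IsOpenImmersion jH.left] (i₀ : H₀ ⟶ G₀) [IsMonHom i₀] (hc : i₀ ≫ jG = jH ≫ i) :
    AGF.IsObservableIn k i ↔ AGF.IsObservableIn k i₀ := by
  obtain ⟨A, _, _, v, hv, hA, hA'⟩ := Groth.Agent.BorelLib.exists_setup G
  haveI := hv; haveI := hA; haveI := hA'
  haveI : IsClosedImmersion jG.left := Groth.Agent.ObsLib.isClosedImmersion_of_open jG
  haveI : Smooth G₀.hom := by rw [← Over.w jG]; infer_instance
  haveI : IsAffine G₀.left := isAffine_of_isAffineHom jG.left
  haveI : IsAffine H.left := isAffine_of_isAffineHom i.left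
  haveI : IsClosedImmersion jH.left := Groth.Agent.ObsLib.isClosedImmersion_of_open jH
  haveI : Smooth H₀.hom := by rw [← Over.w jH]; infer_instance
  haveI : IsClosedImmersion (jH ≫ i).left := by rw [Over.comp_left]; infer_instance
  haveI : IsClosedImmersion (i₀ ≫ jG).left := by rw [hc]; infer_instance
  haveI : IsClosedImmersion i₀.left := by
    haveI : IsClosedImmersion (i₀.left ≫ jG.left) := by rw [← Over.comp_left]; infer_instance
    exact IsClosedImmersion.of_comp i₀.left jG.left
  obtain ⟨B, _, _, w, hw, π, -, hB, hB', hπ, hsur⟩ := Groth.Agent.ObsLib.exists_sub_data v i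
  haveI := hw; haveI := hB; haveI := hB'
  obtain ⟨A₀, _, _, w₀, hw₀, π₀, -, hA₀, hA₀', hπ₀, hsur₀⟩ := Groth.Agent.ObsLib.exists_sub_data v jG
  haveI := hw₀; haveI := hA₀; haveI := hA₀'
  have hS := Groth.Agent.BorelLib.isClosed_ptsSub v (i := i)
  rw [Groth.Agent.ObsLib.isObservableIn_iff_obs v i, Groth.Agent.ObsLib.isObservableIn_iff_obs w₀ i₀,
    Groth.Agent.ObsLib.obs_iff_neut hS, ← Groth.Agent.ObsLib.comap_ptsSub v w₀ hπ₀ hsur₀,
    ← Groth.Agent.ObsLib.obsIn_iff v w₀ hπ₀ hsur₀ (Groth.Agent.BorelLib.isClosed_ptsSub v)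
      (Groth.Agent.ObsLib.ptsSub_le v), Groth.Agent.ObsLib.ptsSub_open v jG]
  have e : Groth.Agent.BorelLib.ptsSub v (i₀ ≫ jG) =
      Groth.Agent.BorelLib.neut (Groth.Agent.BorelLib.ptsSub v i) := by
    rw [← Groth.Agent.ObsLib.ptsSub_comp_open v w hπ hsur jH]
    ext x
    rw [Groth.Agent.ObsLib.mem_ptsSub', Groth.Agent.ObsLib.mem_ptsSub']
    exact ⟨fun ⟨h, hh⟩ => by
        obtain ⟨g, hg⟩ : ∃ g : VecGrp.pt k k ⟶ H₀, g = h := ⟨h, rfl⟩
        exact ⟨g, by rw [hg, ← hc, hh]⟩,
      fun ⟨h, hh⟩ => ⟨h, by rw [hc, hh]⟩⟩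
  rw [e]
  have hle : Groth.Agent.BorelLib.neut (Groth.Agent.BorelLib.ptsSub v i) ≤ Groth.Agent.BorelLib.neut ⊤ :=
    Groth.Agent.BorelLib.le_neut (Groth.Agent.BorelLib.isPreconnected_neut _) le_top
  refine ⟨fun h => ?_, fun h => Groth.Agent.ObsLib.obs_neut_top.trans hle h⟩
  have := h.obsIn_inf (Groth.Agent.BorelLib.neut ⊤)
  rwa [inf_eq_left.2 hle] at this

end Groth.Agent.S11194
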