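import Groth.Statements.S11195
import Groth.Agent.ObsLib.Main


set_option autoImplicit false
set_option linter.style.haveILetI false
set_option backward.isDefEq.respectTransparency false
set_option backward.isDefEq.respectTransparency.types false
set_option maxHeartbeats 1000000
set_option synthInstance.maxHeartbeats 400000
universe u
open CategoryTheory MonoidalCategory CartesianMonoidalCategory MonObj GrpObj AlgebraicGeometry
open scoped TensorProduct
open AGF

attribute [-instance] CategoryTheory.Hom.commGroup

namespace Groth.Agent.S11195

/-- Let k be an algebraically closed field, G a linear algebraic group over k, K a closed subgroup of G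
and H a closed subgroup of K (j : K → G, i : H → K smooth closed subgroup schemes). When H is
observable in K, and K in G, H is also observable in G. -/
theorem result (k : Type u) [Field k] [IsAlgClosed k]
    (G : Over (Spec (CommRingCat.of k))) [GrpObj G] [IsAffine G.left] [Smooth G.hom]
    (K : Over (Spec (CommRingCat.of k))) [GrpObj K] [Smooth K.hom] (j : K ⟶ G) [IsMonHom j] [IsClosedImmersion j.left]
    (H : Over (Spec (CommRingCat.of k))) [GrpObj H] [Smooth H.hom] (i : H ⟶ K) [IsMonHom i] [IsClosedImmersion i.left]
    (hH : AGF.IsObservableIn k i) (hK : AGF.IsObservableIn k j) :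
    AGF.IsObservableIn k (i ≫ j) := by
  haveI : IsAffine K.left := isAffine_of_isAffineHom j.left
  haveI : IsClosedImmersion (i ≫ j).left := by rw [Over.comp_left]; infer_instance
  obtain ⟨A, _, _, v, hv, hA, hA'⟩ := Groth.Agent.BorelLib.exists_setup G
  haveI := hv; haveI := hA; haveI := hA'
  obtain ⟨B, _, _, w, hw, π, hKa, hB, hB', hπ, hsur⟩ := Groth.Agent.ObsLib.exists_sub_data v j
  haveI := hw; haveI := hKa; haveI := hB; haveI := hB'
  rw [Groth.Agent.ObsLib.isObservableIn_iff_obs v] at hK ⊢
  rw [Groth.Agent.ObsLib.isObservableIn_iff_obs w] at hH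
  refine hK.trans (Groth.Agent.ObsLib.ptsSub_le v) ?_
  rw [Groth.Agent.ObsLib.obsIn_iff v w hπ hsur (Groth.Agent.BorelLib.isClosed_ptsSub v)
    (Groth.Agent.ObsLib.ptsSub_le v), Groth.Agent.ObsLib.comap_ptsSub v w hπ hsur]
  exact hH

end Groth.Agent.S11195
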