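import Groth.Statements.S11196
import Groth.Agent.ObsLib.Main


set_option autoImplicit false
set_option linter.style.haveILetI false
set_option backward.isDefEq.respectTransparency false
set_option backward.isDefEq.respectTransparency.types false
set_option maxHeartbeats 1000000
set_option synthInstance.maxHeartbeats 400000
universe u
open CategoryTheory MonoidalCategory CartesianMonoidalCategory MonObj GrpObj AlgebraicGeometry
open scoped TensorProduct
open AGF

attribute [-instance] CategoryTheory.Hom.commGroup

namespace Groth.Agent.S11196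

/-- Let k be an algebraically closed field, G a linear algebraic group over k (an affine smooth group
scheme over k) and H a closed subgroup of G (a smooth closed subgroup scheme, i : H → G), with G
solvable. Then H is observable in G. -/
theorem result (k : Type u) [Field k] [IsAlgClosed k]
    (G : Over (Spec (CommRingCat.of k))) [GrpObj G] [IsAffine G.left] [Smooth G.hom]
    (H : Over (Spec (CommRingCat.of k))) [GrpObj H] [Smooth H.hom] (i : H ⟶ G) [IsMonHom i]
    [IsClosedImmersion i.left]
    (hs : Red.IsSolvableGrp G) :
    AGF.IsObservableIn k i := by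
  obtain ⟨A, _, _, v, hv, hA, hA'⟩ := Groth.Agent.BorelLib.exists_setup G
  haveI := hv; haveI := hA; haveI := hA'
  obtain ⟨B, _, _, w, hw, π, hHa, hB, hB', hπ, hsur⟩ := Groth.Agent.ObsLib.exists_sub_data v i
  haveI := hw; haveI := hHa; haveI := hB; haveI := hB'
  rw [Groth.Agent.ObsLib.isObservableIn_iff v w hπ]
  have h : Groth.Agent.BorelLib.IsSol (⊤ : Subgroup (Groth.Agent.BorelLib.Pt k A)) := by
    haveI : IsClosedImmersion (𝟙 G : G ⟶ G).left := inferInstanceAs (IsClosedImmersion (𝟙 G.left))
    refine (Groth.Agent.BorelLib.isSol_ptsSub v (i := 𝟙 G) hs).mono fun x _ => ?_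
    rw [Groth.Agent.ObsLib.mem_ptsSub']
    exact ⟨Groth.Agent.ObsLib.ptk v x, Category.comp_id _⟩
  exact Groth.Agent.ObsLib.obs_of_isSol (h.mono le_top) (Groth.Agent.BorelLib.isClosed_ptsSub v)

end Groth.Agent.S11196
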