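import Groth.Statements.S11198
import Groth.Agent.ObsLib.Groups
import Groth.Agent.BorelLib.Quot
import Groth.Agent.MonoQuotLib.Orbit
import Groth.Agent.AlgSpLib.ReducedSmooth
-- import your own Groth.Agent.* helpers here

set_option autoImplicit false
set_option linter.style.haveILetI false
set_option backward.isDefEq.respectTransparency false
set_option backward.isDefEq.respectTransparency.types false
set_option maxHeartbeats 1000000
set_option synthInstance.maxHeartbeats 400000
universe u
open CategoryTheory MonoidalCategory CartesianMonoidalCategory MonObj GrpObj AlgebraicGeometry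
open scoped TensorProduct
open AGF

attribute [-instance] CategoryTheory.Hom.commGroup

namespace Groth.Agent.S11198

attribute [local instance] BorelLib.pTop BorelLib.pTopTensor
open Groth.Agent CoactBr
open BlowRegLib (evalPt algTop)

/-- An invariant function of a group with proper irreducible quotient is constant at the points. -/
theorem const_of_proper {k : Type u} [Field k] [IsAlgClosed k] {B : Type u} [CommRing B] [HopfAlgebra k B]
    [Algebra.FiniteType k B] [_root_.IsReduced B] {H : Over (Spec (CommRingCat.of k))} [GrpObj H] [IsAffine H.left]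
    [Smooth H.hom] (w : sp k B ≅ H) [IsMonHom w.hom] {L : Over (Spec (CommRingCat.of k))} [GrpObj L] [Smooth L.hom]
    (j : L ⟶ H) [IsMonHom j] [IsClosedImmersion j.left] {X : Over (Spec (CommRingCat.of k))}
    (a : AlgGrp.Action H X) (o : 𝟙_ (Over (Spec (CommRingCat.of k))) ⟶ X) (hX : AGF.IsQuotient j X a o)
    [IsProper X.hom] [IrreducibleSpace X.left] (b : B) (hb : ObsLib.Inv (BorelLib.ptsSub w j) b)
    (x y : BorelLib.Pt k B) : x.ofConv b = y.ofConv b := by
  haveI : IsAffine L.left := isAffine_of_isAffineHom j.left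
  obtain ⟨C, _, _, z, hz, π, hLa, hC, hC', hπ, hsur⟩ := ObsLib.exists_sub_data w j
  haveI := hz; haveI := hC; haveI := hC'
  obtain ⟨hXf, hflat, hsurj, hsq⟩ := id hX
  haveI := hflat; haveI := hsurj; haveI := BorelLib.lfp_orbit a o hX
  let F : H ⟶ sp k (Polynomial k) := w.inv ≫ pt (Polynomial.aeval b)
  haveI : IsAffine (sp k (Polynomial k)).left := inferInstanceAs (IsAffine (Spec (CommRingCat.of (Polynomial k))))
  let T : Γ((sp k (Polynomial k)).left, ⊤) := (Scheme.ΓSpecIso (CommRingCat.of (Polynomial k))).inv Polynomial.X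
  have hval : ∀ (t : BorelLib.Pt k B), ObsLib.ptk w t ≫ F = pt (Polynomial.aeval (t.ofConv b)) := fun t => by
    show (pt t.ofConv ≫ w.hom) ≫ w.inv ≫ pt (Polynomial.aeval b) = _
    rw [Category.assoc, w.hom_inv_id_assoc, ← CoactBr.pt_comp, Polynomial.aeval_algHom]
  have hsame : fst H L ≫ F = ((H ◁ j) ≫ μ[H]) ≫ F := by
    refine Over.OverMorphism.ext (ext_of_isAffine ?_)
    rw [Over.comp_left, Over.comp_left, Scheme.Hom.comp_appTop, Scheme.Hom.comp_appTop]
    refine CommRingCat.hom_ext (RingHom.ext fun q => Eq.symm ?_)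
    show AGF.IsRTransInv j (F.left.appTop q)
    refine (ObsLib.isRTransInv_iff_inv w z hπ _).2 fun t s hs => ?_
    rw [← ObsLib.evalPt_ptk, ← ObsLib.evalPt_ptk, ObsLib.evalPt_appTop, ObsLib.evalPt_appTop, hval, hval, hb t s hs]
  obtain ⟨φ, hφ⟩ := MonoQuot.exists_desc_over (a.orbitMap o) F fun U g g' h => by
    rw [← hsq.lift_fst g g' h, Category.assoc, hsame, ← Category.assoc, hsq.lift_snd]
  haveI : AlgebraicGeometry.IsReduced H.left := AlgSpLib.isReduced_of_smooth H.hom
  haveI : AlgebraicGeometry.IsReduced X.left := AlgSpLib.isReduced_of_flat_surjective (a.orbitMap o).left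
  haveI : IsIntegral X.left := isIntegral_of_irreducibleSpace_of_isReduced _
  obtain ⟨c, hc⟩ : φ.left.appTop T ∈ Set.range X.hom.appTop := by
    let f : k →+* Γ(X.left, ⊤) := ((Scheme.ΓSpecIso (CommRingCat.of k)).inv ≫ X.hom.appTop).hom
    letI : Algebra k Γ(X.left, ⊤) := f.toAlgebra
    haveI : Algebra.IsIntegral k Γ(X.left, ⊤) := by
      refine ⟨fun e => ?_⟩
      show f.IsIntegralElem e
      exact RingHom.IsIntegral.trans _ _ (RingHom.isIntegral_of_surjective _
        (ConcreteCategory.bijective_of_isIso (Scheme.ΓSpecIso (CommRingCat.of k)).inv).2)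
        (isIntegral_appTop_of_universallyClosed X.hom) e
    obtain ⟨c, hc⟩ := (IsAlgClosed.algebraMap_bijective_of_isIntegral (k := k) (K := Γ(X.left, ⊤))).2
      (φ.left.appTop T)
    exact ⟨_, hc⟩
  have hcst : ∀ e : VecGrp.pt k k ⟶ X, evalPt e (X.hom.appTop c) =
      (Scheme.ΓSpecIso (CommRingCat.of k)).hom ((VecGrp.pt k k).hom.appTop c) := fun e => by
    show (X.hom.appTop ≫ e.left.appTop ≫ (Scheme.ΓSpecIso (CommRingCat.of k)).hom) c = _
    rw [← Category.assoc, ← Scheme.Hom.comp_appTop, Over.w e]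
    rfl
  have hev : ∀ t : BorelLib.Pt k B,
      t.ofConv b = (Scheme.ΓSpecIso (CommRingCat.of k)).hom ((VecGrp.pt k k).hom.appTop c) := fun t => by
    have h1 : evalPt (ObsLib.ptk w t ≫ F) T = t.ofConv b := by
      rw [hval]
      show ((pt (Polynomial.aeval (t.ofConv b))).left.appTop ≫ (Scheme.ΓSpecIso (CommRingCat.of k)).hom) T = _
      rw [CoactBr.pt_left, Scheme.ΓSpecIso_naturality]
      simp [T]
      exact (congrArg (Polynomial.eval _) ((Scheme.ΓSpecIso (CommRingCat.of (Polynomial k))).inv_hom_id_apply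
        (Polynomial.X : Polynomial k))).trans Polynomial.eval_X
    rw [← h1, ← hφ, ← Category.assoc, ← ObsLib.evalPt_appTop, ← hc, hcst]
  rw [hev x, hev y]


/-- Let k be an algebraically closed field, G a linear algebraic group over k and H₁ ⊆ H₂ ⊆ G closed
subgroups (smooth closed subgroup schemes i₁ : H₁ → H₂, i₂ : H₂ → G), such that the quotient H₂/H₁
(the scheme X with H₂-action a and base point o) is proper over k and irreducible. Then a global
function on G is invariant under right translation by H₁ if and only if it is invariant under right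
translation by H₂. -/
theorem result (k : Type u) [Field k] [IsAlgClosed k]
    (G : Over (Spec (CommRingCat.of k))) [GrpObj G] [IsAffine G.left] [Smooth G.hom]
    (H₂ : Over (Spec (CommRingCat.of k))) [GrpObj H₂] [Smooth H₂.hom] (i₂ : H₂ ⟶ G) [IsMonHom i₂] [IsClosedImmersion i₂.left]
    (H₁ : Over (Spec (CommRingCat.of k))) [GrpObj H₁] [Smooth H₁.hom] (i₁ : H₁ ⟶ H₂) [IsMonHom i₁] [IsClosedImmersion i₁.left]
    (X : Over (Spec (CommRingCat.of k))) (a : AlgGrp.Action H₂ X) (o : 𝟙_ (Over (Spec (CommRingCat.of k))) ⟶ X) (hX : AGF.IsQuotient i₁ X a o)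
    [IsProper X.hom] [IrreducibleSpace X.left] :
    AGF.rTransInv (i₁ ≫ i₂) = AGF.rTransInv i₂ := by
  haveI : IsAffine H₂.left := isAffine_of_isAffineHom i₂.left
  haveI : IsAffine H₁.left := isAffine_of_isAffineHom i₁.left
  haveI : IsClosedImmersion (i₁ ≫ i₂).left := by rw [Over.comp_left]; infer_instance
  obtain ⟨A, _, _, v, hv, hA, hA'⟩ := BorelLib.exists_setup G
  haveI := hv; haveI := hA; haveI := hA'
  obtain ⟨B, _, _, w, hw, π, hKa, hB, hB', hπ, hsur⟩ := ObsLib.exists_sub_data v i₂
  haveI := hw; haveI := hKa; haveI := hB; haveI := hB'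
  obtain ⟨C, _, _, z, hz, π', hLa, hC, hC', hπ', hsur'⟩ := ObsLib.exists_sub_data w i₁
  haveI := hz; haveI := hC; haveI := hC'
  have hπc : z.hom ≫ (i₁ ≫ i₂) = ObsLib.gpt v (π'.comp π) := by
    rw [← Category.assoc, hπ', ObsLib.gpt_comp v w hπ]
  refine le_antisymm (fun f hf => ?_) (fun f hf => ?_)
  · rw [AGF.mem_rTransInv_iff, ObsLib.isRTransInv_iff_inv v z hπc] at hf
    rw [AGF.mem_rTransInv_iff, ObsLib.isRTransInv_iff_inv v w hπ]
    intro x h hh
    obtain ⟨y, rfl⟩ := (ObsLib.mem_sub_iff v w hπ).1 hh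
    have hinv : ObsLib.Inv (BorelLib.ptsSub w i₁) (π (ObsLib.lT x (ObsLib.ev v f))) := by
      intro y' s hs
      show (BorelLib.pull π (y' * s)).ofConv _ = (BorelLib.pull π y').ofConv _
      rw [ObsLib.pull_mul v w hπ, ObsLib.eval_lT, ObsLib.eval_lT, ← _root_.mul_assoc]
      refine hf _ _ ?_
      have hs' : s ∈ (BorelLib.ptsSub v (i₁ ≫ i₂)).comap (ObsLib.subHom v w hπ) := by
        rw [ObsLib.comap_ptsSub v w hπ hsur]; exact hs
      exact hs'
    have := const_of_proper w i₁ a o hX _ hinv y 1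
    change (BorelLib.pull π y).ofConv _ = (BorelLib.pull π 1).ofConv _ at this
    rw [ObsLib.eval_lT, ObsLib.eval_lT, show BorelLib.pull π (1 : BorelLib.Pt k B) = 1 from
      map_one (ObsLib.subHom v w hπ), _root_.mul_one] at this
    exact this
  · rw [AGF.mem_rTransInv_iff, ObsLib.isRTransInv_iff_inv v w hπ] at hf
    rw [AGF.mem_rTransInv_iff, ObsLib.isRTransInv_iff_inv v z hπc]
    exact hf.mono (ObsLib.ptsSub_le v)

end Groth.Agent.S11198
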