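import Groth.Statements.S1120
import Groth.Agent.KiehlLib.Supp

set_option autoImplicit false
set_option backward.isDefEq.respectTransparency false
set_option backward.isDefEq.respectTransparency.types false
universe u
open CategoryTheory CategoryTheory.Limits AlgebraicGeometry Opposite
attribute [local instance] HasDerivedCategory.standard
open Perf

namespace Groth.Agent.S1120

/-- Let f : X → S be a morphism of schemes of finite presentation (locally of finite presentation,
quasi-compact and quasi-separated), let E be a cochain complex of 𝒪_X-modules that becomes perfect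
in D(𝒪_X), and let G be a finitely presented 𝒪_X-module that is S-flat and whose support is proper
over S. Assuming the derived functors involved exist, Rf_* RHom(E, G) is a perfect object of D(𝒪_S).
(The published statement also allows G to be a bounded complex of such modules and proves
compatibility with base change; neither claim is made here.) -/
theorem result {X S : Scheme.{u}} (f : X ⟶ S) [LocallyOfFinitePresentation f] [QuasiCompact f] [QuasiSeparated f]
    (E : CochainComplex X.Modules ℤ) (hE : DCoh.IsPerfect (DCoh.toD X E)) [DCoh.HasLTensorCx E] [DCoh.HasRSheafHom E] [DCoh.HasRpush f]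
    (G : X.Modules) (hG : CohB1.IsFP G) (hflat : FlatMod.IsFlatOver f G) (hsupp : ClSub.IsProperOver f (CohB1.support G)) :
    DCoh.IsPerfect ((DCoh.Rpush f).obj ((DCoh.RSheafHom E).obj (DCoh.inD X G))) := by
  open Groth.Agent.PerfDualLib in
  obtain ⟨D, hD, ⟨eD⟩⟩ := KFlatLib.exists_good_rep
    ((DCoh.RSheafHom E).obj (DerivedCategory.Q.obj (unitCx X)))
  haveI := KFlatLib.hasLTensorCx D
  have hper : DCoh.IsPerfect (DCoh.toD X D) :=
    Groth.Agent.PerfLib.isPerfect_of_iso eD.symm (Groth.Agent.PerfDualLib.isPerfect_dual E hE)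
  obtain ⟨c⟩ := Groth.Agent.PerfDualLib.nonempty_lTensor_dual E hE D eD (DCoh.inD X G)
  let G₀ := (CochainComplex.singleFunctor X.Modules 0).obj G
  haveI := TensorAssocLib.isIso_cnt D hD.1 G₀
  haveI := KFlatLib.hasLTensorMod G
  let e : (DCoh.LTensorCx D).obj (DCoh.inD X G) ≅ (DCoh.LTensorMod G).obj (DCoh.toD X D) :=
    (DCoh.LTensorCx D).mapIso ((DerivedCategory.singleFunctorIsoCompQ X.Modules 0).app G) ≪≫
      asIso ((TensorAssocLib.cnt D).app G₀) ≪≫
      DerivedCategory.Q.mapIso (KFlatLib.tCxFlip D G₀ ≪≫
        ((Groth.Agent.PerfDualLib.Gen.tRSingleIso (DCoh.tensorBi (X := X)) G).app D).symm) ≪≫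
      (KFlatLib.lTensorModObjIso G D hD.1).symm
  haveI : SheafOfModules.IsFinitePresentation (R := X.ringCatSheaf) G := hG
  haveI : Coh.IsQCoh G := inferInstanceAs (SheafOfModules.IsQuasicoherent (R := X.ringCatSheaf) G)
  exact Groth.Agent.PerfLib.isPerfect_of_iso ((DCoh.Rpush f).mapIso (e.symm ≪≫ c))
    (KiehlLib.isPerfect_rpush_lTensor_supp f _ hper G hG hflat hsupp)

end Groth.Agent.S1120
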