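import Groth.Statements.S11201
import Groth.Agent.ObsLib.Groups


set_option autoImplicit false
set_option linter.style.haveILetI false
set_option backward.isDefEq.respectTransparency false
set_option backward.isDefEq.respectTransparency.types false
set_option maxHeartbeats 1000000
set_option synthInstance.maxHeartbeats 400000
universe u
open CategoryTheory MonoidalCategory CartesianMonoidalCategory MonObj GrpObj AlgebraicGeometry
open scoped TensorProduct
open AGF

attribute [-instance] CategoryTheory.Hom.commGroup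

attribute [local instance] Groth.Agent.BorelLib.pTop Groth.Agent.BorelLib.pTopTensor

namespace Groth.Agent.S11201

/-- Let k be an algebraically closed field, G a linear algebraic group over k (an affine smooth group
scheme over k) and H a closed subgroup of G (a smooth closed subgroup scheme, i : H → G). Let R ⊆ H
be the radical of H: a smooth connected solvable closed normal subgroup of H through which every
smooth connected solvable closed normal subgroup of H factors. Then H is observable in G if and only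
if R is observable in G. -/
theorem result (k : Type u) [Field k] [IsAlgClosed k]
    (G : Over (Spec (CommRingCat.of k))) [GrpObj G] [IsAffine G.left] [Smooth G.hom]
    (H : Over (Spec (CommRingCat.of k))) [GrpObj H] [Smooth H.hom] (i : H ⟶ G) [IsMonHom i]
    [IsClosedImmersion i.left]
    (R : Over (Spec (CommRingCat.of k))) [GrpObj R] [Smooth R.hom] [ConnectedSpace R.left] (r : R ⟶ H) [IsMonHom r]
    [IsClosedImmersion r.left] (hn : AlgGrp.IsNormalHom r) (hsol : Red.IsSolvableGrp R)
    (hmax : ∀ (R' : Over (Spec (CommRingCat.of k))) [GrpObj R'] (r' : R' ⟶ H) [IsMonHom r'], IsClosedImmersion r'.left → Smooth R'.hom →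
      ConnectedSpace R'.left → AlgGrp.IsNormalHom r' → Red.IsSolvableGrp R' → ∃ f : R' ⟶ R, f ≫ r = r') :
    AGF.IsObservableIn k i ↔ AGF.IsObservableIn k (r ≫ i) := by
  obtain ⟨A, _, _, v, hv, hA, hA'⟩ := Groth.Agent.BorelLib.exists_setup G
  haveI := hv; haveI := hA; haveI := hA'
  haveI : IsAffine H.left := isAffine_of_isAffineHom i.left
  haveI : IsClosedImmersion (r ≫ i).left := by rw [Over.comp_left]; infer_instance
  obtain ⟨B, _, _, w, hw, π, -, hB, hB', hπ, hsur⟩ := Groth.Agent.ObsLib.exists_sub_data v i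
  haveI := hw; haveI := hB; haveI := hB'
  have hS := Groth.Agent.BorelLib.isClosed_ptsSub v (i := i)
  have hR := Groth.Agent.BorelLib.isClosed_ptsSub v (i := r ≫ i)
  have hle : Groth.Agent.BorelLib.ptsSub v (r ≫ i) ≤ Groth.Agent.BorelLib.ptsSub v i :=
    Groth.Agent.ObsLib.ptsSub_le v
  rw [Groth.Agent.ObsLib.isObservableIn_iff_obs v i, Groth.Agent.ObsLib.isObservableIn_iff_obs v (r ≫ i)]
  refine ⟨fun h => h.trans hle ?_, fun h => ?_⟩
  · rw [Groth.Agent.ObsLib.obsIn_iff v w hπ hsur hR hle, Groth.Agent.ObsLib.comap_ptsSub v w hπ hsur]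
    exact Groth.Agent.ObsLib.obs_of_normal (Groth.Agent.BorelLib.isClosed_ptsSub w)
      (Groth.Agent.BorelLib.conjSub_le_of_normal w hn)
  · have hnS : ∀ g ∈ Groth.Agent.BorelLib.ptsSub v i,
        Groth.Agent.BorelLib.conjSub g (Groth.Agent.BorelLib.ptsSub v (r ≫ i)) ≤
          Groth.Agent.BorelLib.ptsSub v (r ≫ i) := by
      intro g hg
      obtain ⟨g, rfl⟩ : g ∈ (Groth.Agent.ObsLib.subHom v w hπ).range :=
        (Groth.Agent.ObsLib.range_subHom v w hπ).symm ▸ hg
      rintro _ ⟨x, hx, rfl⟩
      obtain ⟨x, rfl⟩ : x ∈ (Groth.Agent.ObsLib.subHom v w hπ).range :=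
        (Groth.Agent.ObsLib.range_subHom v w hπ).symm ▸ hle hx
      have h1 : x ∈ Groth.Agent.BorelLib.ptsSub w r := by
        rw [← Groth.Agent.ObsLib.comap_ptsSub v w hπ hsur]; exact hx
      have h2 := Groth.Agent.BorelLib.conjSub_le_of_normal w hn g ⟨x, h1, rfl⟩
      rw [← Groth.Agent.ObsLib.comap_ptsSub v w hπ hsur] at h2
      simpa [-Groth.Agent.ObsLib.subHom_apply] using h2
    have hleN : Groth.Agent.BorelLib.ptsSub v (r ≫ i) ≤
        Groth.Agent.BorelLib.neut (Groth.Agent.BorelLib.ptsSub v i) :=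
      Groth.Agent.BorelLib.le_neut (Groth.Agent.BorelLib.isPreconnected_ptsSub v) hle
    obtain ⟨R0, hR0c, hR0p, hR0s, hR0le, hR0n, hR0max⟩ := Groth.Agent.ObsLib.exists_radical hS
    obtain ⟨R', _, r', hr', hrc, hrs, hrconn, hrn, hrsol, hpts⟩ :=
      Groth.Agent.ObsLib.exists_normal_scheme v w hπ hsur hR0c hR0p hR0s
        (hR0le.trans (Groth.Agent.BorelLib.neut_le _)) hR0n
    haveI := hr'
    obtain ⟨f, hf⟩ := hmax R' r' hrc hrs hrconn hrn hrsol
    have hsub : R0 ≤ Groth.Agent.BorelLib.ptsSub v (r ≫ i) := by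
      rw [← hpts]
      intro x hx
      rw [Groth.Agent.ObsLib.mem_ptsSub'] at hx ⊢
      obtain ⟨q, hq⟩ := hx
      refine ⟨q ≫ f, ?_⟩
      rw [← hq, ← hf]
      simp only [Category.assoc]
    exact Groth.Agent.ObsLib.obs_of_rad hS hleN (fun g hg => hnS g (Groth.Agent.BorelLib.neut_le _ hg))
      (Groth.Agent.BorelLib.isSol_ptsSub v hsol)
      (fun J hJ hJc hJp hJn hJs => (hR0max J hJ hJc hJp hJn hJs).trans hsub) h

end Groth.Agent.S11201
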