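import Groth.Statements.S11202
import Groth.Agent.ObsLib.Groups


set_option autoImplicit false
set_option linter.style.haveILetI false
set_option backward.isDefEq.respectTransparency false
set_option backward.isDefEq.respectTransparency.types false
set_option maxHeartbeats 1000000
set_option synthInstance.maxHeartbeats 400000
universe u
open CategoryTheory MonoidalCategory CartesianMonoidalCategory MonObj GrpObj AlgebraicGeometry
open scoped TensorProduct
open AGF

attribute [-instance] CategoryTheory.Hom.commGroup

attribute [local instance] Groth.Agent.BorelLib.pTop Groth.Agent.BorelLib.pTopTensor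

namespace Groth.Agent.S11202

/-- Let k be an algebraically closed field, G a linear algebraic group over k (an affine smooth group
scheme over k) and H a closed subgroup of G (a smooth closed subgroup scheme, i : H → G). If the
radical of H is unipotent — every smooth connected solvable closed normal subgroup of H contains no
non-trivial subtorus — then H is observable in G. -/
theorem result (k : Type u) [Field k] [IsAlgClosed k]
    (G : Over (Spec (CommRingCat.of k))) [GrpObj G] [IsAffine G.left] [Smooth G.hom]
    (H : Over (Spec (CommRingCat.of k))) [GrpObj H] [Smooth H.hom] (i : H ⟶ G) [IsMonHom i]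
    [IsClosedImmersion i.left]
    (hrad : ∀ (R : Over (Spec (CommRingCat.of k))) [GrpObj R] (r : R ⟶ H) [IsMonHom r], IsClosedImmersion r.left → Smooth R.hom →
      ConnectedSpace R.left → AlgGrp.IsNormalHom r → Red.IsSolvableGrp R → Red.HasNoSubtorus k R) :
    AGF.IsObservableIn k i := by
  obtain ⟨A, _, _, v, hv, hA, hA'⟩ := Groth.Agent.BorelLib.exists_setup G
  haveI := hv; haveI := hA; haveI := hA'
  haveI : IsAffine H.left := isAffine_of_isAffineHom i.left
  obtain ⟨B, _, _, w, hw, π, -, hB, hB', hπ, hsur⟩ := Groth.Agent.ObsLib.exists_sub_data v i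
  haveI := hw; haveI := hB; haveI := hB'
  have hS := Groth.Agent.BorelLib.isClosed_ptsSub v (i := i)
  obtain ⟨R0, hR0c, hR0p, hR0s, hR0le, hR0n, hR0max⟩ := Groth.Agent.ObsLib.exists_radical hS
  obtain ⟨R', _, r', hr', hrc, hrs, hrconn, hrn, hrsol, hpts⟩ :=
    Groth.Agent.ObsLib.exists_normal_scheme v w hπ hsur hR0c hR0p hR0s
      (hR0le.trans (Groth.Agent.BorelLib.neut_le _)) hR0n
  haveI := hr'; haveI := hrs; haveI := hrconn; haveI := hrc
  haveI : IsClosedImmersion (r' ≫ i).left := by rw [Over.comp_left]; infer_instance
  have huni := Groth.Agent.BorelLib.uni_of_hasNoSubtorus v (r' ≫ i) (hrad R' r' hrc hrs hrconn hrn hrsol)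
  rw [hpts] at huni
  rw [Groth.Agent.ObsLib.isObservableIn_iff_obs v i]
  exact Groth.Agent.ObsLib.obs_of_rad hS hR0le (fun g hg => hR0n g (Groth.Agent.BorelLib.neut_le _ hg)) hR0s hR0max
    ((Groth.Agent.ObsLib.charInv_of_trivial fun a χ ha h1 g hg =>
      Groth.Agent.ObsLib.char_uni ha h1 hg (huni g hg)).obs hR0c)

end Groth.Agent.S11202
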