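import Groth.Statements.S11203
import Groth.Agent.ObsLib.InvFG
-- import your own Groth.Agent.* helpers here

set_option autoImplicit false
set_option linter.style.haveILetI false
set_option backward.isDefEq.respectTransparency false
set_option backward.isDefEq.respectTransparency.types false
set_option maxHeartbeats 2000000
set_option synthInstance.maxHeartbeats 400000
universe u
open CategoryTheory MonoidalCategory CartesianMonoidalCategory MonObj GrpObj AlgebraicGeometry
open scoped TensorProduct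
open AGF

attribute [-instance] CategoryTheory.Hom.commGroup

namespace Groth.Agent.S11203

attribute [local instance] BorelLib.pTop BorelLib.pTopTensor
open Groth.Agent CoactBr

/-- Let k be an algebraically closed field, G a linear algebraic group over k (an affine smooth group
scheme over k) and H a closed subgroup of G (a smooth closed subgroup scheme, i : H → G); let G₀ ⊆ G
and H₀ ⊆ H be the identity components and i₀ : H₀ → G₀ the induced homomorphism. If one of the rings
k[G]^H (right-H-invariant global functions on G), k[G]^{H₀}, k[G₀]^{H₀} is finitely generated over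
the constants, then all three are. (The published statement also lists the invariants of H ∩ G₀ on
G₀, omitted here.) -/
theorem result (k : Type u) [Field k] [IsAlgClosed k]
    (G : Over (Spec (CommRingCat.of k))) [GrpObj G] [IsAffine G.left] [Smooth G.hom]
    (H : Over (Spec (CommRingCat.of k))) [GrpObj H] [Smooth H.hom] (i : H ⟶ G) [IsMonHom i]
    [IsClosedImmersion i.left]
    (G₀ : Over (Spec (CommRingCat.of k))) [GrpObj G₀] [ConnectedSpace G₀.left] (jG : G₀ ⟶ G) [IsMonHom jG]
    [IsOpenImmersion jG.left]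
    (H₀ : Over (Spec (CommRingCat.of k))) [GrpObj H₀] [ConnectedSpace H₀.left] (jH : H₀ ⟶ H) [IsMonHom jH]
    [IsOpenImmersion jH.left] (i₀ : H₀ ⟶ G₀) [IsMonHom i₀] (hc : i₀ ≫ jG = jH ≫ i) :
    List.TFAE [AGF.SubringFGOver k G (AGF.rTransInv i), AGF.SubringFGOver k G (AGF.rTransInv (jH ≫ i)),
      AGF.SubringFGOver k G₀ (AGF.rTransInv i₀)] := by
  haveI : IsAffine H.left := isAffine_of_isAffineHom i.left
  haveI : IsClosedImmersion jG.left := ObsLib.isClosedImmersion_of_open jG
  haveI : IsClosedImmersion jH.left := ObsLib.isClosedImmersion_of_open jH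
  haveI : IsAffine G₀.left := isAffine_of_isAffineHom jG.left
  haveI : IsAffine H₀.left := isAffine_of_isAffineHom jH.left
  haveI : Smooth G₀.hom := by rw [← Over.w jG]; infer_instance
  haveI : Smooth H₀.hom := by rw [← Over.w jH]; infer_instance
  haveI : IsClosedImmersion (jH ≫ i).left := by rw [Over.comp_left]; infer_instance
  haveI : IsClosedImmersion (i₀.left ≫ jG.left) := by
    rw [← Over.comp_left, hc]; infer_instance
  haveI : IsClosedImmersion i₀.left := IsClosedImmersion.of_comp i₀.left jG.left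
  obtain ⟨A, _, _, v, hv, hA, hA'⟩ := BorelLib.exists_setup G
  haveI := hv; haveI := hA; haveI := hA'
  obtain ⟨B, _, _, w, hw, π, hHa, hB, hB', hπ, hsur⟩ := ObsLib.exists_sub_data v i
  haveI := hw; haveI := hB; haveI := hB'
  obtain ⟨C, _, _, z, hz, π', -, hC, hC', hπ', hsur'⟩ := ObsLib.exists_sub_data v (jH ≫ i)
  haveI := hz; haveI := hC; haveI := hC'
  obtain ⟨A₀, _, _, w₀, hw₀, π₀, -, hA₀, hA₀', hπ₀, hsur₀⟩ := ObsLib.exists_sub_data v jG
  haveI := hw₀; haveI := hA₀; haveI := hA₀'
  obtain ⟨C₀, _, _, z₀, hz₀, π₀', -, hC₀, hC₀', hπ₀', -⟩ := ObsLib.exists_sub_data w₀ i₀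
  haveI := hz₀; haveI := hC₀; haveI := hC₀'
  have hN : ObsLib.FinIdx (BorelLib.ptsSub v (jH ≫ i)) (BorelLib.ptsSub v i) := by
    classical
    obtain ⟨F, -, hF⟩ := ObsLib.finIdx_open w jH
    refine ⟨F.image (BorelLib.pull π), fun r hr => ?_, fun g hg => ?_⟩
    · obtain ⟨y, -, rfl⟩ := Finset.mem_image.1 hr
      exact ObsLib.pull_mem v w hπ y
    · obtain ⟨y, rfl⟩ := (ObsLib.mem_sub_iff v w hπ).1 hg
      obtain ⟨r, hr, hry⟩ := hF y trivial
      refine ⟨_, Finset.mem_image_of_mem _ hr, ?_⟩
      have h1 : ObsLib.subHom v w hπ (r⁻¹ * y) ∈ BorelLib.ptsSub v (jH ≫ i) := by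
        rw [← ObsLib.comap_ptsSub v w hπ hsur] at hry
        exact hry
      rw [map_mul, map_inv] at h1
      exact h1
  have hrange : (ObsLib.subHom v w₀ hπ₀).range = BorelLib.ptsSub v jG := ObsLib.range_subHom v w₀ hπ₀
  have ho : IsOpen (BorelLib.ptsSub v jG : Set (BorelLib.Pt k A)) := by
    rw [show (BorelLib.ptsSub v jG : Set (BorelLib.Pt k A)) = BorelLib.toP ⁻¹' (v.hom.left ⁻¹' Set.range jG.left) from
      Set.ext fun x => BorelLib.mem_ptsSub_iff v]
    exact ((jG.left.isOpenEmbedding.isOpen_range).preimage v.hom.left.continuous).preimage continuous_induced_dom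
  tfae_have 1 ↔ 2 := by
    rw [ObsLib.subringFGOver_iff v w hπ, ObsLib.subringFGOver_iff v z hπ',
      ObsLib.fg_invAlg_iff hN (ObsLib.ptsSub_le v)]
  have heq : BorelLib.ptsSub v (i₀ ≫ jG) = BorelLib.ptsSub v (jH ≫ i) := by simp only [hc]
  have hle : BorelLib.ptsSub v (jH ≫ i) ≤ BorelLib.ptsSub v jG := heq ▸ ObsLib.ptsSub_le v
  have hcomap : (BorelLib.ptsSub v (jH ≫ i)).comap (ObsLib.subHom v w₀ hπ₀) = BorelLib.ptsSub w₀ i₀ := by
    rw [← heq, ObsLib.comap_ptsSub v w₀ hπ₀ hsur₀]
  tfae_have 2 ↔ 3 := by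
    rw [ObsLib.subringFGOver_iff v z hπ', ObsLib.subringFGOver_iff w₀ z₀ hπ₀',
      ObsLib.fg_invAlg_open hsur₀ (ObsLib.subHom v w₀ hπ₀) (fun _ => rfl) (hrange ▸ ho)
        (hrange ▸ BorelLib.isClosed_ptsSub v) (hrange ▸ ObsLib.finIdx_open v jG)
        (hrange ▸ hle), hcomap]
  tfae_finish

end Groth.Agent.S11203
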