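import Groth.Statements.S11204
import Groth.Agent.ObsLib.Lift

set_option autoImplicit false
set_option linter.style.haveILetI false
set_option backward.isDefEq.respectTransparency false
set_option backward.isDefEq.respectTransparency.types false
set_option maxHeartbeats 2000000
set_option synthInstance.maxHeartbeats 400000
universe u
open CategoryTheory MonoidalCategory CartesianMonoidalCategory MonObj GrpObj AlgebraicGeometry
open scoped TensorProduct
open AGF

attribute [-instance] CategoryTheory.Hom.commGroup

namespace Groth.Agent.S11204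

attribute [local instance] BorelLib.pTop BorelLib.pTopTensor
open Groth.Agent CoactBr

/-- Let k be an algebraically closed field, G a linear algebraic group over k and K ⊆ H ⊆ G closed
subgroups (smooth closed subgroup schemes κ : K → H, i : H → G) with K and H observable in G. If
k[G]^K is finitely generated over the constants (K is a Grosshans subgroup of G), then K is
observable in H and k[H]^K is finitely generated over the constants (K is a Grosshans subgroup of
H). -/
theorem result (k : Type u) [Field k] [IsAlgClosed k]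
    (G : Over (Spec (CommRingCat.of k))) [GrpObj G] [IsAffine G.left] [Smooth G.hom]
    (H : Over (Spec (CommRingCat.of k))) [GrpObj H] [Smooth H.hom] (i : H ⟶ G) [IsMonHom i]
    [IsClosedImmersion i.left]
    (K : Over (Spec (CommRingCat.of k))) [GrpObj K] [Smooth K.hom] (κ : K ⟶ H) [IsMonHom κ] [IsClosedImmersion κ.left]
    (hK : AGF.IsObservableIn k (κ ≫ i)) (hH : AGF.IsObservableIn k i)
    (hfg : AGF.SubringFGOver k G (AGF.rTransInv (κ ≫ i))) :
    AGF.IsObservableIn k κ ∧ AGF.SubringFGOver k H (AGF.rTransInv κ) := by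
  haveI : IsAffine H.left := isAffine_of_isAffineHom i.left
  haveI : IsAffine K.left := isAffine_of_isAffineHom κ.left
  haveI : IsClosedImmersion (κ ≫ i).left := by rw [Over.comp_left]; infer_instance
  obtain ⟨A, _, _, v, hv, hA, hA'⟩ := BorelLib.exists_setup G
  haveI := hv; haveI := hA; haveI := hA'
  obtain ⟨B, _, _, w, hw, π, -, hB, hB', hπ, hsur⟩ := ObsLib.exists_sub_data v i
  haveI := hw; haveI := hB; haveI := hB'
  obtain ⟨C, _, _, z, hz, ρ, -, hC, hC', hρ, -⟩ := ObsLib.exists_sub_data w κ
  haveI := hz; haveI := hC; haveI := hC'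
  obtain ⟨C', _, _, z', hz', ρ', -, hC1, hC1', hρ', -⟩ := ObsLib.exists_sub_data v (κ ≫ i)
  haveI := hz'; haveI := hC1; haveI := hC1'
  have hKo := (ObsLib.isObservableIn_iff_obs v (κ ≫ i)).1 hK
  have hHo := (ObsLib.isObservableIn_iff_obs v i).1 hH
  have hle : BorelLib.ptsSub v (κ ≫ i) ≤ BorelLib.ptsSub v i := ObsLib.ptsSub_le v
  have hcomap := ObsLib.comap_ptsSub v w hπ hsur (l := κ)
  refine ⟨?_, ?_⟩
  · rw [ObsLib.isObservableIn_iff_obs w κ, ← hcomap,
      ← ObsLib.obsIn_iff v w hπ hsur (BorelLib.isClosed_ptsSub v) hle]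
    exact fun g _ hg => hKo g fun a ha => hg a fun x _ h hh => ha x h hh
  · rw [ObsLib.subringFGOver_iff w z hρ, ← hcomap, ← hHo.map_invAlg hπ hsur hle]
    exact ((ObsLib.subringFGOver_iff v z' hρ').1 hfg).map π

end Groth.Agent.S11204
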