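import Groth.Statements.S11205
import Groth.Agent.GeomRedFieldLib.Generic
import Groth.Agent.CDivCoreLib.Normal
import Groth.Agent.BlowRegLib.IrredFactor
import Mathlib.AlgebraicGeometry.Morphisms.UniversallyInjective
import Mathlib.AlgebraicGeometry.AlgClosed.Basic

set_option autoImplicit false
universe u
open CategoryTheory MonoidalCategory CartesianMonoidalCategory MonObj GrpObj AlgebraicGeometry
open scoped TensorProduct
open AGF

namespace Groth.Agent.S11205

/-- Let k be an algebraically closed field and let X and Y be irreducible normal varieties over k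
(integral separated schemes of finite type over k all of whose local rings are integrally closed),
and π : Y → X a k-morphism which is bijective on points. If the ring of global functions of Y is
finitely generated over k, then so is the ring of global functions of X. (The published statement
asks π bijective on rational points; this row asks bijectivity on all points, which for schemes of
finite type over an algebraically closed field is the same condition.) -/
theorem result (k : Type u) [Field k] [IsAlgClosed k] (X Y : Over (Spec (CommRingCat.of k)))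
    [IsIntegral X.left] [IsIntegral Y.left] [LocallyOfFiniteType X.hom] [QuasiCompact X.hom]
    [IsSeparated X.hom] [LocallyOfFiniteType Y.hom] [QuasiCompact Y.hom] [IsSeparated Y.hom]
    (hX : ∀ x : X.left, IsIntegrallyClosed ↑(X.left.presheaf.stalk x))
    (hY : ∀ y : Y.left, IsIntegrallyClosed ↑(Y.left.presheaf.stalk y))
    (π : Y ⟶ X) (hπ : Function.Bijective π.left.base)
    (hfg : ((Scheme.ΓSpecIso (CommRingCat.of k)).inv ≫ Y.hom.appTop).hom.FiniteType) :
    ((Scheme.ΓSpecIso (CommRingCat.of k)).inv ≫ X.hom.appTop).hom.FiniteType := by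
  classical
  let f : Y.left ⟶ X.left := π.left
  have hf : f ≫ X.hom = Y.hom := Over.w π
  haveI : IsSeparated (f ≫ X.hom) := hf ▸ inferInstance
  haveI : LocallyOfFiniteType (f ≫ X.hom) := hf ▸ inferInstance
  haveI : IsSeparated f := IsSeparated.of_comp f X.hom
  haveI : LocallyOfFiniteType f := locallyOfFiniteType_of_comp f X.hom
  haveI : IsLocallyNoetherian X.left := LocallyOfFiniteType.isLocallyNoetherian X.hom
  haveI : Surjective f := ⟨hπ.2⟩
  have hXn : Pi1.IsNormalScheme X.left := fun x => ⟨inferInstance, hX x⟩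
  have hui : UniversallyInjective f := by
    rw [UniversallyInjective.iff_diagonal]
    let s : Limits.pullback f f ⟶ Spec (CommRingCat.of k) := Limits.pullback.fst f f ≫ Y.hom
    haveI : JacobsonSpace ↥(Limits.pullback f f) := LocallyOfFiniteType.jacobsonSpace s
    let Δ := Limits.pullback.diagonal f
    have hcl : IsClosed (Set.range Δ) := Δ.isClosedEmbedding.isClosed_range
    have hsub : closedPoints ↥(Limits.pullback f f) ⊆ Set.range Δ := fun z hz => by
      let q := pointOfClosedPoint s z hz
      have hq : q ≫ s = 𝟙 _ := pointOfClosedPoint_comp s z hz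
      have hab : q ≫ Limits.pullback.fst f f = q ≫ Limits.pullback.snd f f := by
        have h2 : (q ≫ Limits.pullback.snd f f) ≫ Y.hom = 𝟙 _ := by
          rw [Category.assoc, ← hf, ← Category.assoc (Limits.pullback.snd f f), ← Limits.pullback.condition,
            Category.assoc, hf]
          exact hq
        refine ext_of_apply_closedPoint_eq Y.hom ((Category.assoc _ _ _).trans hq) h2 (hπ.1 ?_)
        show f ((q ≫ Limits.pullback.fst f f) (IsLocalRing.closedPoint k)) =
          f ((q ≫ Limits.pullback.snd f f) (IsLocalRing.closedPoint k))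
        rw [← Scheme.Hom.comp_apply, ← Scheme.Hom.comp_apply, Category.assoc, Category.assoc,
          Limits.pullback.condition]
      have hfac : (q ≫ Limits.pullback.fst f f) ≫ Δ = q := by
        refine Limits.pullback.hom_ext ?_ ?_
        · simp [Δ]
        · simp [Δ, hab]
      refine ⟨(q ≫ Limits.pullback.fst f f) (IsLocalRing.closedPoint k), ?_⟩
      rw [← Scheme.Hom.comp_apply, hfac]
      exact pointOfClosedPoint_apply s z hz _
    refine ⟨fun z => ?_⟩
    have h := hcl.closure_subset_iff.2 hsub
    rw [closure_closedPoints] at h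
    exact h trivial
  let γY := genericPoint Y.left
  have hgen : f γY = genericPoint X.left := GeomRedFieldLib.map_genericPoint_eq f
  have hs1 : f γY ⤳ genericPoint X.left := hgen ▸ specializes_rfl
  have hs2 : genericPoint X.left ⤳ f γY := genericPoint_specializes _
  let ψ : X.left.functionField →+* Y.left.functionField :=
    (X.left.presheaf.stalkSpecializes hs1 ≫ f.stalkMap γY).hom
  have hψalg : ∀ (y : Y.left) (b : X.left.presheaf.stalk (f y)),
      ψ (algebraMap (X.left.presheaf.stalk (f y)) X.left.functionField b) =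
        algebraMap (Y.left.presheaf.stalk y) Y.left.functionField (f.stalkMap y b) := fun y b => by
    obtain ⟨U, hU, t, rfl⟩ := X.left.presheaf.exists_germ_eq b
    show f.stalkMap γY (X.left.presheaf.stalkSpecializes hs1
      (X.left.presheaf.stalkSpecializes _ (X.left.presheaf.germ U (f y) hU t))) =
        Y.left.presheaf.stalkSpecializes _ (f.stalkMap y (X.left.presheaf.germ U (f y) hU t))
    rw [TopCat.Presheaf.germ_stalkSpecializes_apply, TopCat.Presheaf.germ_stalkSpecializes_apply,
      Scheme.Hom.germ_stalkMap_apply, Scheme.Hom.germ_stalkMap_apply,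
      TopCat.Presheaf.germ_stalkSpecializes_apply]
  have hψgerm : ∀ t : Γ(X.left, ⊤), ψ (X.left.presheaf.germ ⊤ (genericPoint X.left) trivial t) =
      Y.left.presheaf.germ ⊤ γY trivial (f.appTop t) := fun t => by
    show f.stalkMap γY (X.left.presheaf.stalkSpecializes hs1
      (X.left.presheaf.germ ⊤ (genericPoint X.left) trivial t)) = _
    rw [TopCat.Presheaf.germ_stalkSpecializes_apply, Scheme.Hom.germ_stalkMap_apply]
    rfl
  have hYf : IsField (Y.left.presheaf.stalk γY) := Field.toIsField Y.left.functionField
  have hres : ∀ a b : Y.left.presheaf.stalk γY, Y.left.residue γY a = Y.left.residue γY b → a = b := by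
    letI := hYf.toField
    exact fun a b h => (RingHom.injective (Y.left.residue γY).hom) h
  have hpi : (f.residueFieldMap γY).hom.IsPurelyInseparable :=
    (((tfae_universallyInjective f).out 0 2 (a := UniversallyInjective f)
      (b := Function.Injective f ∧ ∀ x, (f.residueFieldMap x).hom.IsPurelyInseparable)).1 hui).2 γY
  have hpow : ∀ g : Y.left.functionField, ∃ N : ℕ, 0 < N ∧ ∃ a, ψ a = g ^ N := by
    intro g
    algebraize [(f.residueFieldMap γY).hom]
    haveI : IsPurelyInseparable (X.left.residueField (f γY)) (Y.left.residueField γY) := hpi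
    haveI : ExpChar (X.left.residueField (f γY)) (ringExpChar (X.left.residueField (f γY))) :=
      ringExpChar.expChar _
    obtain ⟨n, d, hd⟩ := IsPurelyInseparable.pow_mem (X.left.residueField (f γY))
      (ringExpChar (X.left.residueField (f γY))) (Y.left.residue γY g)
    obtain ⟨c, rfl⟩ := X.left.residue_surjective _ d
    refine ⟨_, pow_pos (expChar_pos (X.left.residueField (f γY)) (ringExpChar (X.left.residueField (f γY)))) n,
      X.left.presheaf.stalkSpecializes hs2 c, ?_⟩
    obtain ⟨U, hU, t, rfl⟩ := X.left.presheaf.exists_germ_eq c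
    show f.stalkMap γY (X.left.presheaf.stalkSpecializes hs1
      (X.left.presheaf.stalkSpecializes hs2 (X.left.presheaf.germ U (f γY) hU t))) = _
    rw [TopCat.Presheaf.germ_stalkSpecializes_apply, TopCat.Presheaf.germ_stalkSpecializes_apply]
    refine hres _ _ ?_
    rw [map_pow]
    exact (congr($(Scheme.residue_residueFieldMap f γY) _)).symm.trans hd
  have hglob : ∀ s : Γ(Y.left, ⊤), ∃ N : ℕ, 0 < N ∧ ∃ t : Γ(X.left, ⊤), f.appTop t = s ^ N := by
    intro s
    by_cases hs : s = 0
    · exact ⟨1, one_pos, 0, by rw [map_zero, hs, pow_one]⟩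
    obtain ⟨N, hN, a, ha⟩ := hpow (Y.left.presheaf.germ ⊤ γY trivial s)
    refine ⟨N, hN, ?_⟩
    have hg0 : Y.left.presheaf.germ ⊤ γY trivial s ≠ 0 := fun e => hs
      (germ_injective_of_isIntegral Y.left γY (U := ⊤) trivial (e.trans (map_zero _).symm))
    have ha0 : a ≠ 0 := fun e => pow_ne_zero N hg0 (by rw [← ha, e, map_zero])
    have hreg1 : ∀ z : X.left, Order.coheight z = 1 → CDivCoreLib.Reg a z := by
      intro z hz
      haveI := CDivCoreLib.isDVR_of_coheight hXn hz
      rcases ValuationRing.isInteger_or_isInteger (X.left.presheaf.stalk z) a with hc | ⟨c, hc⟩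
      · exact hc
      obtain ⟨y, rfl⟩ := hπ.2 z
      have key : algebraMap (Y.left.presheaf.stalk y) Y.left.functionField
          (f.stalkMap y c * (Y.left.presheaf.germ ⊤ y trivial s) ^ N) = 1 := by
        rw [map_mul, map_pow, ← hψalg, CDivCoreLib.algebraMap_germ (U := ⊤) (hx := trivial) (hη := trivial), ← ha, hc,
          ← map_mul, inv_mul_cancel₀ ha0, map_one]
      have hone : f.stalkMap y c * (Y.left.presheaf.germ ⊤ y trivial s) ^ N = 1 :=
        (IsFractionRing.injective (Y.left.presheaf.stalk y) Y.left.functionField) (key.trans (map_one _).symm)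
      have hu : IsUnit (f.stalkMap y c) := IsUnit.of_mul_eq_one _ hone
      obtain ⟨u, hu⟩ : IsUnit c := (isUnit_map_iff (f.stalkMap y).hom c).1 hu
      refine ⟨((u⁻¹ : _) : X.left.presheaf.stalk (f y)), ?_⟩
      rw [map_units_inv, hu, hc, _root_.inv_inv]
    obtain ⟨t, ht⟩ := BlowRegLib.IrredFactor.exists_global a fun x =>
      CDivCoreLib.reg_of_coheight_one hXn fun z _ hz => hreg1 z hz
    refine ⟨t, germ_injective_of_isIntegral Y.left γY (U := ⊤) trivial ?_⟩
    rw [← hψgerm, ht, ha, map_pow]
  let iX : k →+* Γ(X.left, ⊤) := ((Scheme.ΓSpecIso (CommRingCat.of k)).inv ≫ X.hom.appTop).hom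
  let iY : k →+* Γ(Y.left, ⊤) := ((Scheme.ΓSpecIso (CommRingCat.of k)).inv ≫ Y.hom.appTop).hom
  letI : Algebra k Γ(X.left, ⊤) := iX.toAlgebra
  letI : Algebra k Γ(Y.left, ⊤) := iY.toAlgebra
  letI : Algebra Γ(X.left, ⊤) Γ(Y.left, ⊤) := f.appTop.hom.toAlgebra
  haveI : IsScalarTower k Γ(X.left, ⊤) Γ(Y.left, ⊤) := IsScalarTower.of_algebraMap_eq fun c => by
    show ((Scheme.ΓSpecIso (CommRingCat.of k)).inv ≫ Y.hom.appTop).hom c =
      f.appTop.hom (((Scheme.ΓSpecIso (CommRingCat.of k)).inv ≫ X.hom.appTop).hom c)
    rw [← hf, Scheme.Hom.comp_appTop]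
    rfl
  haveI hY' : Algebra.FiniteType k Γ(Y.left, ⊤) := hfg
  haveI : Algebra.IsIntegral Γ(X.left, ⊤) Γ(Y.left, ⊤) := ⟨fun s => by
    obtain ⟨N, hN, t, ht⟩ := hglob s
    refine IsIntegral.of_pow hN ?_
    rw [← ht]
    exact isIntegral_algebraMap⟩
  haveI : Algebra.FiniteType Γ(X.left, ⊤) Γ(Y.left, ⊤) :=
    Algebra.FiniteType.of_restrictScalars_finiteType k _ _
  haveI := Algebra.IsIntegral.finite (R := Γ(X.left, ⊤)) (A := Γ(Y.left, ⊤))
  have hinj : Function.Injective (algebraMap Γ(X.left, ⊤) Γ(Y.left, ⊤)) := fun t t' h => by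
    refine germ_injective_of_isIntegral X.left (genericPoint X.left) (U := ⊤) trivial (RingHom.injective ψ ?_)
    rw [hψgerm, hψgerm]
    exact congrArg _ h
  exact ⟨fg_of_fg_of_fg k Γ(X.left, ⊤) Γ(Y.left, ⊤) hY'.out Module.Finite.fg_top hinj⟩

end Groth.Agent.S11205
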