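import Groth.Statements.S11206
import Groth.Agent.ObsLib.UniFG
import Groth.Agent.ObsLib.Main

set_option autoImplicit false
set_option linter.style.haveILetI false
set_option backward.isDefEq.respectTransparency false
set_option backward.isDefEq.respectTransparency.types false
set_option maxHeartbeats 2000000
set_option synthInstance.maxHeartbeats 400000
universe u
open CategoryTheory MonoidalCategory CartesianMonoidalCategory MonObj GrpObj AlgebraicGeometry
open scoped TensorProduct
open AGF

attribute [-instance] CategoryTheory.Hom.commGroup

namespace Groth.Agent.S11206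

attribute [local instance] BorelLib.pTop BorelLib.pTopTensor
open Groth.Agent

/-- Let k be an algebraically closed field, G a linear algebraic group over k, B a Borel subgroup of G
and U the unipotent radical of B (a maximal connected unipotent subgroup of G). Assume that
invariants of reductive groups over k on finitely generated algebras are finitely generated (used in
the argument for finite groups). Then U is observable in G and the ring k[G]^U of global functions
on G invariant under right translation by U is finitely generated over the constants (U is a
Grosshans subgroup of G). -/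
theorem result (k : Type u) [Field k] [IsAlgClosed k]
    (G : Over (Spec (CommRingCat.of k))) [GrpObj G] [IsAffine G.left] [Smooth G.hom]
    (Bo : Over (Spec (CommRingCat.of k))) [GrpObj Bo] (iB : Bo ⟶ G) (hB : Red.IsBorelOver k iB)
    (U : Over (Spec (CommRingCat.of k))) [GrpObj U] (u : U ⟶ Bo) (hU : Par.IsUnipotentRadical u)
    (thmA : VecGrp.ReductiveInvariantsFG k) :
    AGF.IsObservableIn k (u ≫ iB) ∧ AGF.SubringFGOver k G (AGF.rTransInv (u ≫ iB)) := by
  haveI : IsMonHom iB := hB.1
  haveI : IsMonHom u := hU.1
  haveI : IsMonHom (u ≫ iB) := inferInstance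
  obtain ⟨A, _, _, v, hv, hA, hA'⟩ := BorelLib.exists_setup G
  haveI := hv; haveI := hA; haveI := hA'
  obtain ⟨hc, hs, -, -, huni⟩ := ObsLib.uni_data v iB hB u hU
  haveI := hc; haveI := hs
  obtain ⟨C, _, _, w, hw, π, hUa, hC, hC', hπ, -⟩ := ObsLib.exists_sub_data v (u ≫ iB)
  haveI := hw; haveI := hUa; haveI := hC; haveI := hC'
  refine ⟨?_, (ObsLib.subringFGOver_iff v w hπ).2 (ObsLib.fg_invAlg_uniRad v hB hU)⟩
  rw [ObsLib.isObservableIn_iff v w hπ]
  exact (ObsLib.charInv_of_trivial fun a χ ha h1 g hg => ObsLib.char_uni ha h1 hg (huni g hg)).obs
    (BorelLib.isClosed_ptsSub v)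

end Groth.Agent.S11206
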