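import Groth.Statements.S11208
import Groth.Agent.ObsLib.UniFG
import Groth.Agent.ObsLib.Transfer

set_option autoImplicit false
set_option linter.style.haveILetI false
set_option backward.isDefEq.respectTransparency false
set_option backward.isDefEq.respectTransparency.types false
set_option maxHeartbeats 2000000
set_option synthInstance.maxHeartbeats 400000
universe u
open CategoryTheory MonoidalCategory CartesianMonoidalCategory MonObj GrpObj AlgebraicGeometry
open scoped TensorProduct
open AGF

attribute [-instance] CategoryTheory.Hom.commGroup

namespace Groth.Agent.S11208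

attribute [local instance] BorelLib.pTop BorelLib.pTopTensor
open Groth.Agent

/-- Let k be an algebraically closed field, G a linear algebraic group over k whose identity component
is reductive, B a Borel subgroup of G and U the unipotent radical of B (a maximal connected
unipotent subgroup). Assume finite generation of invariants of reductive groups over k on finitely
generated algebras (a standard result, carried as a hypothesis). Then for every finitely generated
commutative k-algebra A with a rational action of G by algebra automorphisms, the algebra of
U-invariants A^U is finitely generated over k. -/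
theorem result (k : Type u) [Field k] [IsAlgClosed k]
    (G : Over (Spec (CommRingCat.of k))) [GrpObj G] [IsAffine G.left] [Smooth G.hom] (hG : VecGrp.IsReductiveGrp k G)
    (Bo : Over (Spec (CommRingCat.of k))) [GrpObj Bo] (iB : Bo ⟶ G) (hB : Red.IsBorelOver k iB)
    (U : Over (Spec (CommRingCat.of k))) [GrpObj U] (u : U ⟶ Bo) (hU : Par.IsUnipotentRadical u)
    (thmA : VecGrp.ReductiveInvariantsFG k)
    (A : Type u) [CommRing A] [Algebra k A] [Algebra.FiniteType k A] (ρ : VecGrp.GMod G A) (hρ : ρ.IsMult) :
    Algebra.FiniteType k ↥(ρ.fixedSubalgebra hρ (u ≫ iB)) := by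
  haveI : IsMonHom iB := hB.1
  haveI : IsMonHom u := hU.1
  haveI : IsMonHom (u ≫ iB) := inferInstance
  obtain ⟨C, _, _, v, hv, hC, hC'⟩ := BorelLib.exists_setup G
  haveI := hv; haveI := hC; haveI := hC'
  obtain ⟨hc, hs, -, -, -⟩ := ObsLib.uni_data v iB hB u hU
  haveI := hc; haveI := hs
  obtain ⟨D, _, _, w, hw, π, hUa, hD, hD', hπ, -⟩ := ObsLib.exists_sub_data v (u ≫ iB)
  haveI := hw; haveI := hUa; haveI := hD; haveI := hD'
  exact ObsLib.finiteType_fixedSubalgebra v w hπ hG thmA (ObsLib.fg_invAlg_uniRad v hB hU) ρ hρ

end Groth.Agent.S11208
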