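import Groth.Statements.S11211
import Mathlib.LinearAlgebra.Matrix.ToLin
import Groth.Agent.WeitzLib.Jordan
import Groth.Agent.WeitzLib.Strings


-- import your own Groth.Agent.* helpers here

set_option autoImplicit false
universe u
open CategoryTheory MonoidalCategory CartesianMonoidalCategory MonObj GrpObj AlgebraicGeometry
open scoped TensorProduct
open AGF

namespace Groth.Agent.S11211

/-- Let k be an algebraically closed field of characteristic zero, n a natural number and M a nilpotent
n × n matrix over k; let δ be the k-derivation of the polynomial ring k[X₁, …, Xₙ] with δ(Xⱼ) = Σᵢ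
Mᵢⱼ Xᵢ (the derivation of the linear action of the additive group on an n-dimensional module; its
kernel is the ring of invariant polynomial functions). Assume finite generation of invariants of
reductive groups over k on finitely generated algebras (a standard result, carried as a hypothesis).
Then the kernel of δ is a finitely generated k-subalgebra. -/
theorem result (k : Type u) [Field k] [IsAlgClosed k] [CharZero k] (thmA : VecGrp.ReductiveInvariantsFG k)
    (n : ℕ) (M : Matrix (Fin n) (Fin n) k) (hM : IsNilpotent M) :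
    ∃ S : Subalgebra k (MvPolynomial (Fin n) k), S.FG ∧
      ∀ f : MvPolynomial (Fin n) k, f ∈ S ↔
        MvPolynomial.mkDerivation k (fun j : Fin n => ∑ i : Fin n, M i j • (MvPolynomial.X i : MvPolynomial (Fin n) k)) f = 0 := by
  classical
  let δ := MvPolynomial.mkDerivation k
    (fun j : Fin n => ∑ i : Fin n, M i j • (MvPolynomial.X i : MvPolynomial (Fin n) k))
  obtain ⟨r, L, b, hb⟩ := WeitzLib.exists_string_basis (Matrix.toLin' M)
    (hM.map (Matrix.toLinAlgEquiv' (R := k) (n := Fin n)))
  let ℓ : (Fin n → k) →ₗ[k] MvPolynomial (Fin n) k := Fintype.linearCombination k MvPolynomial.X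
  have hδ : ∀ v, δ (ℓ v) = ℓ (Matrix.toLin' M v) := by
    intro v
    simp only [ℓ, Fintype.linearCombination_apply, map_sum, Derivation.map_smul, Matrix.toLin'_apply,
      Matrix.mulVec, dotProduct, Finset.sum_smul, δ, MvPolynomial.mkDerivation_X, Finset.smul_sum, smul_smul]
    rw [Finset.sum_comm]
    simp [mul_comm]
  let Φ : MvPolynomial (WeitzLib.Vars L) k →ₐ[k] MvPolynomial (Fin n) k :=
    MvPolynomial.aeval fun x => ℓ (b x)
  let Ψ : MvPolynomial (Fin n) k →ₐ[k] MvPolynomial (WeitzLib.Vars L) k :=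
    MvPolynomial.aeval fun j => ∑ x, b.repr (Pi.single j 1) x • MvPolynomial.X x
  have hΦΨ : ∀ p, Φ (Ψ p) = p := by
    intro p
    refine AlgHom.congr_fun (show Φ.comp Ψ = AlgHom.id k _ from MvPolynomial.algHom_ext fun j => ?_) p
    simp only [AlgHom.comp_apply, Ψ, Φ, MvPolynomial.aeval_X, map_sum, map_smul, AlgHom.id_apply]
    rw [Finset.sum_congr rfl fun x _ => (map_smul ℓ (b.repr (Pi.single j 1) x) (b x)).symm, ← map_sum,
      b.sum_repr]
    simp [ℓ]
  have hΨΦ : ∀ q : MvPolynomial (WeitzLib.Vars L) k, Ψ (Φ q) = q := by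
    intro q
    refine AlgHom.congr_fun (show Ψ.comp Φ = AlgHom.id k _ from MvPolynomial.algHom_ext fun x => ?_) q
    let m : (Fin n → k) →ₗ[k] MvPolynomial (WeitzLib.Vars L) k :=
      (Finsupp.linearCombination k MvPolynomial.X) ∘ₗ b.repr.toLinearMap
    have hm : ∀ v, Ψ (ℓ v) = m v := LinearMap.congr_fun (show Ψ.toLinearMap ∘ₗ ℓ = m from
      (Pi.basisFun k (Fin n)).ext fun j => by
        simp [ℓ, m, Ψ, Pi.basisFun_apply, Finsupp.linearCombination_apply, Finsupp.sum_fintype])
    simp [Φ, hm, m]
  have hcomm : ∀ q : MvPolynomial (WeitzLib.Vars L) k, δ (Φ q) = Φ (MvPolynomial.mkDerivation k (WeitzLib.eV k L) q) := by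
    intro q
    induction q using MvPolynomial.induction_on with
    | C c => simp [Φ]
    | add p q hp hq => simp [hp, hq]
    | mul_X p x hp =>
      simp only [map_mul, Derivation.leibniz, smul_eq_mul, map_add, hp, MvPolynomial.mkDerivation_X]
      congr 2
      rw [show Φ (MvPolynomial.X x) = ℓ (b x) from MvPolynomial.aeval_X _ _, hδ, hb, WeitzLib.eV]
      split_ifs with h
      · exact (MvPolynomial.aeval_X (R := k) (fun x : WeitzLib.Vars L => ℓ (b x)) _).symm
      · simp
  refine ⟨(WeitzLib.kerSubalgebra k (MvPolynomial.mkDerivation k (WeitzLib.eV k L))).map Φ,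
    (WeitzLib.strings_fg k L).map _, fun f => ⟨?_, fun hf => ⟨Ψ f, ?_, hΦΨ f⟩⟩⟩
  · rintro ⟨q, hq, rfl⟩
    show δ (Φ q) = 0
    rw [hcomm, show MvPolynomial.mkDerivation k (WeitzLib.eV k L) q = 0 from hq, map_zero]
  · show MvPolynomial.mkDerivation k (WeitzLib.eV k L) (Ψ f) = 0
    have h0 : Φ (MvPolynomial.mkDerivation k (WeitzLib.eV k L) (Ψ f)) = 0 := by
      rw [← hcomm, hΦΨ]; exact hf
    rw [← hΨΦ (MvPolynomial.mkDerivation k (WeitzLib.eV k L) (Ψ f)), h0, map_zero]

end Groth.Agent.S11211
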