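import Groth.Statements.S11212
import Groth.Agent.ObsLib.Groups


set_option autoImplicit false
set_option linter.style.haveILetI false
set_option backward.isDefEq.respectTransparency false
set_option backward.isDefEq.respectTransparency.types false
set_option maxHeartbeats 1000000
set_option synthInstance.maxHeartbeats 400000
universe u
open CategoryTheory MonoidalCategory CartesianMonoidalCategory MonObj GrpObj AlgebraicGeometry
open scoped TensorProduct
open AGF

attribute [-instance] CategoryTheory.Hom.commGroup

attribute [local instance] Groth.Agent.BorelLib.pTop Groth.Agent.BorelLib.pTopTensor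

namespace Groth.Agent.S11212

/-- Let k be an algebraically closed field, G a linear algebraic group over k (an affine smooth group
scheme over k) and H a closed subgroup of G (a smooth closed subgroup scheme, i : H → G), with the
identity component of H reductive. Assume the following standard results of geometric invariant
theory for groups with reductive identity component, carried as hypotheses: finite generation of
invariants on finitely generated algebras, and that for such a group acting on an affine variety the
quotient map sends disjoint closed invariant subsets to disjoint sets. Then H is observable in G. -/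
theorem result (k : Type u) [Field k] [IsAlgClosed k]
    (G : Over (Spec (CommRingCat.of k))) [GrpObj G] [IsAffine G.left] [Smooth G.hom]
    (H : Over (Spec (CommRingCat.of k))) [GrpObj H] [Smooth H.hom] (i : H ⟶ G) [IsMonHom i]
    [IsClosedImmersion i.left]
    (hH : VecGrp.IsReductiveGrp k H) (thmA : VecGrp.ReductiveInvariantsFG k)
    (thmAbiv : AGF.ReductiveQuotSeparates k) :
    AGF.IsObservableIn k i := by
  obtain ⟨A, _, _, v, hv, hA, hA'⟩ := Groth.Agent.BorelLib.exists_setup G
  haveI := hv; haveI := hA; haveI := hA'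
  haveI : IsAffine H.left := isAffine_of_isAffineHom i.left
  obtain ⟨B, _, _, w, hw, π, -, hB, hB', hπ, hsur⟩ := Groth.Agent.ObsLib.exists_sub_data v i
  haveI := hw; haveI := hB; haveI := hB'
  rw [Groth.Agent.ObsLib.isObservableIn_iff_obs v i]
  intro g hg
  by_contra hgS
  obtain ⟨m, hm, hstab, hinv⟩ := Groth.Agent.ObsLib.exists_transMod v w hπ
  let S := Groth.Agent.BorelLib.ptsSub v i
  let Y : Set (Groth.Agent.BorelLib.Pt k A) := (fun x => g⁻¹ * x) ⁻¹' (S : Set (Groth.Agent.BorelLib.Pt k A))
  have hS : IsClosed (S : Set (Groth.Agent.BorelLib.Pt k A)) := Groth.Agent.BorelLib.isClosed_ptsSub v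
  have hY : IsClosed Y := hS.preimage (Groth.Agent.BorelLib.continuous_const_mul g⁻¹)
  have hd : Disjoint (S : Set (Groth.Agent.BorelLib.Pt k A)) Y := Set.disjoint_left.2 fun x hx hx' => hgS (by
    have h2 := S.mul_mem hx (inv_mem (show g⁻¹ * x ∈ S from hx'))
    rwa [_root_.mul_inv_rev, _root_.inv_inv, mul_inv_cancel_left] at h2)
  obtain ⟨e, he1, he0⟩ := Groth.Agent.ObsLib.exists_sep_closed hS hY hd
  let I₁ := Groth.Agent.BorelLib.vanish (k := k) (S : Set (Groth.Agent.BorelLib.Pt k A))
  let I₂ := Groth.Agent.BorelLib.vanish (k := k) Y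
  have hrad : ∀ Z : Set (Groth.Agent.BorelLib.Pt k A),
      (Groth.Agent.BorelLib.vanish (k := k) Z).IsRadical := fun Z a ha x hx => by
    obtain ⟨n, hn⟩ := ha
    have h2 := hn x hx
    rw [map_pow] at h2
    exact (pow_eq_zero_iff'.1 h2).1
  have htop : I₁ ⊔ I₂ = ⊤ := by
    rw [Ideal.eq_top_iff_one]
    refine Submodule.mem_sup.2 ⟨1 - e, fun x hx => ?_, e, he0, sub_add_cancel 1 e⟩
    rw [map_sub, map_one, he1 x hx, sub_self]
  have h1 := thmAbiv H hH A m hm inferInstance I₁ I₂ (hrad _) (hrad _)
    (hstab _ fun x hx s hs => S.mul_mem hx hs)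
    (hstab _ fun x hx s hs => by
      show g⁻¹ * (x * s) ∈ S
      rw [← _root_.mul_assoc]
      exact S.mul_mem hx hs) htop
  rw [Ideal.eq_top_iff_one] at h1
  obtain ⟨u₁, hu₁, u₂, hu₂, hu⟩ := Submodule.mem_sup.1 h1
  have hu₁' : (u₁ : A) ∈ I₁ := hu₁
  have hu₂' : (u₂ : A) ∈ I₂ := hu₂
  have hg1 := hg u₁ (hinv u₁ u₁.2)
  rw [hu₁' 1 S.one_mem] at hg1
  have hg2 := congrArg (fun t => g.ofConv (Subtype.val t)) hu
  simp only [Subalgebra.coe_add, map_add, Subalgebra.coe_one, map_one, hg1, zero_add] at hg2
  rw [hu₂' g (show g⁻¹ * g ∈ S by rw [inv_mul_cancel]; exact S.one_mem)] at hg2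
  exact zero_ne_one hg2

end Groth.Agent.S11212
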