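import Groth.Statements.S11214
import Groth.Agent.S11213
import Groth.Agent.ObsLib.Stable
import Groth.Agent.ObsLib.SubAlgMod
import Groth.Agent.ObsLib.UnipQuot
import Groth.Agent.ObsLib.RedGrp
import Mathlib.AlgebraicGeometry.Sites.Fpqc
import Mathlib.AlgebraicGeometry.Morphisms.QuasiSeparated

set_option linter.style.haveILetI false
set_option backward.isDefEq.respectTransparency false
set_option backward.isDefEq.respectTransparency.types false
set_option maxHeartbeats 4000000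
set_option synthInstance.maxHeartbeats 400000

set_option autoImplicit false
universe u
open CategoryTheory MonoidalCategory CartesianMonoidalCategory MonObj GrpObj AlgebraicGeometry
open scoped TensorProduct
open AGF

attribute [-instance] CategoryTheory.Hom.commGroup

namespace Groth.Agent.S11214

attribute [local instance] BorelLib.pTop BorelLib.pTopTensor BlowRegLib.algTop
open Groth.Agent CoactBr

/-- Let k be an algebraically closed field, L a linear algebraic group over k and H a closed subgroup of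
L, with unipotent radicals U_H of H and U_L of L such that U_H ⊆ U_L; let X (with action a and base
point o) be the quotient L/H. Assume the following standard results of geometric invariant theory
for groups with reductive identity component, carried as hypotheses: finite generation of invariants
on finitely generated algebras, and that the quotient map of an affine variety by such a group is
surjective and separates disjoint closed invariant subsets. Then X is affine. -/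
theorem result (k : Type u) [Field k] [IsAlgClosed k]
    (L : Over (Spec (CommRingCat.of k))) [GrpObj L] [IsAffine L.left] [Smooth L.hom]
    (H : Over (Spec (CommRingCat.of k))) [GrpObj H] [Smooth H.hom] (i : H ⟶ L) [IsMonHom i] [IsClosedImmersion i.left]
    (UL : Over (Spec (CommRingCat.of k))) [GrpObj UL] (uL : UL ⟶ L) (hUL : Par.IsUnipotentRadical uL)
    (UH : Over (Spec (CommRingCat.of k))) [GrpObj UH] (uH : UH ⟶ H) (hUH : Par.IsUnipotentRadical uH)
    (f : UH ⟶ UL) (hf : f ≫ uL = uH ≫ i)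
    (thmA : VecGrp.ReductiveInvariantsFG k) (thmAbi : AGF.ReductiveQuotSurj k)
    (thmAbiv : AGF.ReductiveQuotSeparates k)
    (X : Over (Spec (CommRingCat.of k))) (a : AlgGrp.Action L X) (o : 𝟙_ (Over (Spec (CommRingCat.of k))) ⟶ X) (hX : AGF.IsQuotient i X a o) :
    IsAffine X.left := by
  haveI : IsAffine H.left := isAffine_of_isAffineHom i.left
  obtain ⟨hXl, hflat, hsurjq, hpb⟩ := hX
  haveI := hXl; haveI := hflat; haveI := hsurjq
  obtain ⟨A, _, _, v, hv, hA, hA'⟩ := BorelLib.exists_setup L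
  haveI := hv; haveI := hA; haveI := hA'
  haveI : QuasiCompact L.hom := inferInstance
  obtain ⟨B, _, _, w, hw, π, -, hB, hB', hπ, hsur⟩ := ObsLib.exists_sub_data v i
  haveI := hw; haveI := hB; haveI := hB'
  -- the unipotent radicals
  obtain ⟨hULm, hULc, hULn, hULs, -, hULg, -⟩ := hUL
  haveI := hULm; haveI := hULc; haveI := hULs
  obtain ⟨hUHm, hUHc, hUHn, hUHs, -, hUHg, hUHmax⟩ := hUH
  haveI := hUHm; haveI := hUHc; haveI := hUHs
  haveI : IsMonHom (uH ≫ i) := inferInstance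
  haveI : IsClosedImmersion (uH ≫ i).left := by rw [Over.comp_left]; infer_instance
  let s0 : ↥(Spec (CommRingCat.of k) : Scheme.{u}) := IsLocalRing.closedPoint k
  haveI : ConnectedSpace UL.left := BorelLib.connectedSpace_of_geom s0 UL (hULg s0).1
  haveI : ConnectedSpace UH.left := BorelLib.connectedSpace_of_geom s0 UH (hUHg s0).1
  haveI : IsAffine UH.left := isAffine_of_isAffineHom uH.left
  haveI : IsAffine UL.left := isAffine_of_isAffineHom uL.left
  set S := BorelLib.ptsSub v i with hSdef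
  set M := BorelLib.ptsSub v uL with hMdef
  set N := BorelLib.ptsSub v (uH ≫ i) with hNdef
  set NB := BorelLib.ptsSub w uH with hNBdef
  have hNM : N ≤ M := BorelLib.ptsSub_le_of_factor v (f := f) hf
  have hNS : N ≤ S := BorelLib.ptsSub_le_of_factor v rfl
  have hMu : ∀ x ∈ M, BorelLib.IsUni x :=
    BorelLib.uni_of_hasNoSubtorus v uL (BorelLib.hasNoSubtorus_of_geom s0 (hULg s0).2)
  have hNBu : ∀ x ∈ NB, BorelLib.IsUni x :=
    BorelLib.uni_of_hasNoSubtorus w uH (BorelLib.hasNoSubtorus_of_geom s0 (hUHg s0).2)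
  have hNBn : ∀ g, BorelLib.conjSub g NB ≤ NB := BorelLib.conjSub_le_of_normal w hUHn
  have hNBc : IsClosed (NB : Set (BorelLib.Pt k B)) := BorelLib.isClosed_ptsSub w
  have hcomap : ∀ y, y ∈ NB ↔ ObsLib.subHom v w hπ y ∈ N := fun y => by
    rw [hNBdef, ← ObsLib.comap_ptsSub v w hπ hsur (l := uH), Subgroup.mem_comap]
  have hNn : ∀ s ∈ S, ∀ n ∈ N, s * n * s⁻¹ ∈ N := by
    intro s hs n hn
    obtain ⟨y, rfl⟩ := (ObsLib.mem_sub_iff v w hπ).1 hs
    obtain ⟨z, rfl⟩ := (ObsLib.mem_sub_iff v w hπ).1 (hNS hn)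
    have h1 := (hcomap _).1 (hNBn y ⟨z, (hcomap z).2 hn, rfl⟩)
    simp only [MulEquiv.coe_toMonoidHom, MulAut.conj_apply, _root_.map_mul, _root_.map_inv] at h1
    exact h1
  obtain ⟨R, hRft, hRN, hRst, hRclosed, hRsurj, hRfib⟩ := ObsLib.exists_unipQuot (M := M) (N := N)
    (BorelLib.isClosed_ptsSub v) (BorelLib.isPreconnected_ptsSub v) (BorelLib.conjSub_le_of_normal v hULn) hMu
    (BorelLib.isClosed_ptsSub v) hNM
  haveI := hRft
  haveI : _root_.IsReduced ↥R := isReduced_of_injective R.val Subtype.val_injective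
  have hRS : ∀ y : BorelLib.Pt k B, ∀ u ∈ R, ObsLib.rT (BorelLib.pull π y) u ∈ R := fun y =>
    hRst _ (hNn _ (ObsLib.pull_mem v w hπ y)) fun n hn => by
      simpa using hNn _ (S.inv_mem (ObsLib.pull_mem v w hπ y)) n hn
  -- the reductive quotient of `H`
  have hmax : ∀ J : Subgroup (BorelLib.Pt k B), IsClosed (J : Set (BorelLib.Pt k B)) →
      _root_.IsPreconnected (J : Set (BorelLib.Pt k B)) → (∀ g, BorelLib.conjSub g J ≤ J) →
      (∀ x ∈ J, BorelLib.IsUni x) → J ≤ NB := by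
    intro J hJc hJp hJn hJu
    haveI : QuasiCompact H.hom := inferInstance
    obtain ⟨J', _, n, hin, hic, hsm, hpts, hJconn, -⟩ := BorelLib.exists_scheme_sub w hJc
    haveI := hin; haveI := hic; haveI := hsm
    haveI := hJconn hJp
    haveI : IsAffine J'.left := isAffine_of_isAffineHom n.left
    have hno : Red.HasNoSubtorus k J' := BorelLib.hasNoSubtorus_of_uni w n fun x hx => hJu x (hpts ▸ hx)
    obtain ⟨l, hl⟩ := hUHmax J' n hic (BorelLib.isNormalHom_of_pts w (hpts.symm ▸ hJn)) hsm inferInstance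
      fun s => ⟨(BorelLib.geom_facts s J').2.2, BorelLib.hasNoSubtorus_geom s hno⟩
    rw [← hpts]
    exact BorelLib.ptsSub_le_of_factor w (f := l) hl
  obtain ⟨QH, _, _, qi, q, hQ, hQ', hqinj, hq, hqsur, hker, hdesc⟩ := ObsLib.exists_quot hNBc hNBn
  haveI := hQ; haveI := hQ'
  have hQred : VecGrp.IsReductiveGrp k (sp k QH) :=
    ObsLib.isReductiveGrp_sp (ObsLib.isRedPts_quot ⟨qi, hq⟩ hqsur hker hNBu hmax)
  haveI : IsMonHom (Iso.refl (sp k QH)).hom := inferInstanceAs (IsMonHom (𝟙 _))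
  -- its action on the coordinates of the coset space of the unipotent radical
  obtain ⟨m, hm, hρ⟩ := ObsLib.exists_actMod v w hπ
  obtain ⟨mR, hmR, hρR, -⟩ := ObsLib.exists_subMod w R m hm (ObsLib.isStable_of_pts w m fun y u hu => by
    rw [hρ]; exact hRS y u hu)
  have hρR' : ∀ y (u : ↥R), ((ObsLib.toRep w mR).ρ y u : A) = ObsLib.rT (BorelLib.pull π y) (u : A) := fun y u => by
    rw [hρR, hρ]
  let F : QH ⊗[k] ↥R →ₐ[k] B ⊗[k] ↥R := Algebra.TensorProduct.map qi (AlgHom.id k ↥R)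
  have hFinj : Function.Injective F :=
    Module.Flat.rTensor_preserves_injective_linearMap (M := ↥R) qi.toLinearMap hqinj
  have hFev : ∀ y z, ObsLib.evR y (F z) = ObsLib.evR (q y) z := fun y z => by
    induction z using TensorProduct.induction_on with
    | zero => simp
    | add p p' hp hp' => simp only [map_add, hp, hp']
    | tmul b r => simp [F, hq]
  have hmem : ∀ u : ↥R, ObsLib.uvalAlg w mR hmR u ∈ F.range := fun u => by
    obtain ⟨t, ht⟩ := ObsLib.exists_invTensor (S := NB) (z := ObsLib.uvalAlg w mR hmR u) fun y n hn => by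
      refine Subtype.ext ?_
      rw [ObsLib.evR_uvalAlg, ObsLib.evR_uvalAlg, hρR', hρR']
      refine ObsLib.ext_pts (k := k) fun x => ?_
      rw [ObsLib.eval_rT, ObsLib.eval_rT, ObsLib.pull_mul v w hπ, ← _root_.mul_assoc]
      exact hRN _ u.2 _ _ ((hcomap n).1 hn)
    rw [← ht]
    clear ht
    induction t using TensorProduct.induction_on with
    | zero => rw [map_zero]; exact zero_mem _
    | add p p' hp hp' => rw [map_add]; exact add_mem hp hp'
    | tmul d r =>
      obtain ⟨b, hb⟩ := hdesc (d : B) d.2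
      exact ⟨b ⊗ₜ r, by simp [F, ObsLib.invTensor, hb]⟩
  let δ : ↥R →ₐ[k] QH ⊗[k] ↥R := (AlgEquiv.ofInjective F hFinj).symm.toAlgHom.comp
    ((ObsLib.uvalAlg w mR hmR).codRestrict F.range hmem)
  have hδ : ∀ y u, ObsLib.evR (q y) (δ u) = (ObsLib.toRep w mR).ρ y u := fun y u => by
    rw [← hFev, ← ObsLib.evR_uvalAlg w mR hmR]
    congr 1
    exact congrArg Subtype.val ((AlgEquiv.ofInjective F hFinj).apply_symm_apply
      ⟨ObsLib.uvalAlg w mR hmR u, hmem u⟩)
  obtain ⟨mQ, hmQ, hρQ⟩ := ObsLib.exists_algMod (Iso.refl (sp k QH)) δ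
    (fun u => by rw [← q.map_one, hδ, (ObsLib.toRep w mR).map_one]; rfl)
    (fun x y u => by
      obtain ⟨x, rfl⟩ := hqsur x
      obtain ⟨y, rfl⟩ := hqsur y
      rw [← _root_.map_mul, hδ, hδ, hδ, (ObsLib.toRep w mR).mul_apply trivial trivial])
  have hρQ' : ∀ y (u : ↥R), ((ObsLib.toRep (Iso.refl (sp k QH)) mQ).ρ (q y) u : A) = ObsLib.rT (BorelLib.pull π y) (u : A) :=
    fun y u => by rw [hρQ, hδ, hρR']
  let Tm := mQ.fixedSubalgebra hmQ (𝟙 (sp k QH))
  have hfix : ∀ u : ↥R, u ∈ Tm ↔ ObsLib.Inv S (u : A) := fun u =>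
    (ObsLib.fixedUnder_id_iff (Iso.refl (sp k QH)) mQ u).trans ⟨fun h x s hs => by
      obtain ⟨y, rfl⟩ := (ObsLib.mem_sub_iff v w hπ).1 hs
      rw [← ObsLib.eval_rT, ← hρQ', h], fun h y => by
      obtain ⟨y, rfl⟩ := hqsur y
      refine Subtype.ext ?_
      rw [hρQ']
      exact ObsLib.ext_pts (k := k) fun x => by
        rw [ObsLib.eval_rT]; exact h x _ (ObsLib.pull_mem v w hπ y)⟩
  let p : BorelLib.Pt k A → BorelLib.Pt k ↥R := BorelLib.pull R.val
  have hsep : ∀ (Y₂ : Set (BorelLib.Pt k A)), IsClosed Y₂ → (∀ x ∈ Y₂, ∀ s ∈ S, x * s ∈ Y₂) →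
      ∀ g ∉ Y₂, ∃ u : ↥R, u ∈ Tm ∧ g.ofConv (u : A) ≠ 0 ∧ ∀ x ∈ Y₂, x.ofConv (u : A) = 0 := by
    intro Y₂ hY₂ hst g hg
    let Y₁ : Set (BorelLib.Pt k A) := (fun x => g⁻¹ * x) ⁻¹' (S : Set (BorelLib.Pt k A))
    have hY₁ : IsClosed Y₁ := (BorelLib.isClosed_ptsSub v).preimage (BorelLib.continuous_const_mul g⁻¹)
    have hst₁ : ∀ x ∈ Y₁, ∀ s ∈ S, x * s ∈ Y₁ := fun x hx s hs => by
      show g⁻¹ * (x * s) ∈ S
      rw [← _root_.mul_assoc]
      exact S.mul_mem hx hs
    have hZ₁ : IsClosed (p '' Y₁) := hRclosed _ hY₁ fun x hx n hn => hst₁ x hx n (hNS hn)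
    have hZ₂ : IsClosed (p '' Y₂) := hRclosed _ hY₂ fun x hx n hn => hst x hx n (hNS hn)
    have hd : Disjoint (p '' Y₁) (p '' Y₂) := by
      refine Set.disjoint_left.2 ?_
      rintro _ ⟨x, hx, rfl⟩ ⟨x', hx', he⟩
      have h1 : x ∈ Y₂ := by
        have := hst x' hx' _ (hNS (hRfib x' x he))
        rwa [mul_inv_cancel_left] at this
      refine hg ?_
      have h2 := hst x h1 _ (S.inv_mem hx)
      rwa [_root_.mul_inv_rev, _root_.inv_inv, mul_inv_cancel_left] at h2
    have hrad : ∀ Z : Set (BorelLib.Pt k ↥R), (BorelLib.vanish (k := k) Z).IsRadical := fun Z a ha x hx => by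
      obtain ⟨n, hn⟩ := ha
      have h2 := hn x hx
      rw [map_pow] at h2
      exact (pow_eq_zero_iff'.1 h2).1
    have hstab : ∀ Y : Set (BorelLib.Pt k A), (∀ x ∈ Y, ∀ s ∈ S, x * s ∈ Y) →
        mQ.IsStable (𝟙 (sp k QH)) ((BorelLib.vanish (k := k) (p '' Y)).restrictScalars k) := fun Y hY =>
      ObsLib.isStable_of_pts (Iso.refl (sp k QH)) mQ fun z u hu => by
        obtain ⟨y, rfl⟩ := hqsur z
        rintro _ ⟨x, hx, rfl⟩
        show x.ofConv ((ObsLib.toRep (Iso.refl (sp k QH)) mQ).ρ (q y) u : A) = 0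
        rw [hρQ', ObsLib.eval_rT]
        exact hu _ ⟨x * BorelLib.pull π y, hY x hx _ (ObsLib.pull_mem v w hπ y), rfl⟩
    have htop : BorelLib.vanish (k := k) (p '' Y₁) ⊔ BorelLib.vanish (k := k) (p '' Y₂) = ⊤ := by
      by_contra hne
      obtain ⟨Mi, hMi, hle⟩ := Ideal.exists_le_maximal _ hne
      obtain ⟨z, hz⟩ := BorelLib.exists_pt_mem (k := k) (R := ↥R) (Z := PrimeSpectrum.zeroLocus (Mi : Set ↥R))
        ⟨⟨Mi, hMi.isPrime⟩, fun _ h => h⟩ (PrimeSpectrum.isClosed_zeroLocus _).isLocallyClosed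
      have hker : ∀ a ∈ Mi, z.ofConv a = 0 := fun a ha => by
        have h2 : a ∈ (BorelLib.toP z).asIdeal := hz ha
        rwa [BorelLib.toP_asIdeal, RingHom.mem_ker] at h2
      refine (Set.disjoint_left.1 hd) (show z ∈ p '' Y₁ from ?_) (show z ∈ p '' Y₂ from ?_)
      · rw [← BorelLib.zeros_vanish_of_isClosed hZ₁]; exact fun a ha => hker a (hle (Ideal.mem_sup_left ha))
      · rw [← BorelLib.zeros_vanish_of_isClosed hZ₂]; exact fun a ha => hker a (hle (Ideal.mem_sup_right ha))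
    have h1 := thmAbiv (sp k QH) hQred ↥R mQ hmQ inferInstance _ _ (hrad _) (hrad _)
      (hstab Y₁ hst₁) (hstab Y₂ hst) htop
    rw [Ideal.eq_top_iff_one] at h1
    obtain ⟨u₁, hu₁, u₂, hu₂, hu⟩ := Submodule.mem_sup.1 h1
    have hu₁' : (u₁ : ↥R) ∈ BorelLib.vanish (k := k) (p '' Y₁) := hu₁
    have hu₂' : (u₂ : ↥R) ∈ BorelLib.vanish (k := k) (p '' Y₂) := hu₂
    refine ⟨u₂, u₂.2, ?_, fun x hx => hu₂' _ ⟨x, hx, rfl⟩⟩
    have hgY : g ∈ Y₁ := by
      show g⁻¹ * g ∈ S
      rw [inv_mul_cancel]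
      exact S.one_mem
    have hg2 := congrArg (fun t => (p g).ofConv (Subtype.val t)) hu
    simp only [Subalgebra.coe_add, map_add, Subalgebra.coe_one, map_one, hu₁' (p g) ⟨g, hgY, rfl⟩, zero_add] at hg2
    show (p g).ofConv (u₂ : ↥R) ≠ 0
    rw [hg2]
    exact one_ne_zero
  -- the orbit map is an effective epimorphism
  let q' : L.left ⟶ X.left := (a.orbitMap o).left
  haveI : IsLocallyNoetherian X.left := LocallyOfFiniteType.isLocallyNoetherian X.hom
  haveI : Flat q' := hflat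
  haveI : Surjective q' := hsurjq
  haveI : QuasiCompact q' := quasiCompact_of_compactSpace q'
  let mult : L ⊗ H ⟶ L := (L ◁ i) ≫ μ[L]
  have hpb' : IsPullback (fst L H).left mult.left q' q' := hpb.map (Over.forget _)
  -- the map to the spectrum of the invariants
  let Q : L.left ⟶ Spec (CommRingCat.of ↥(AGF.rTransInv i)) :=
    L.left.toSpecΓ ≫ Spec.map (CommRingCat.ofHom (AGF.rTransInv i).subtype)
  have hQtop : ∀ t : ↥(AGF.rTransInv i),
      Q.appTop ((Scheme.ΓSpecIso (CommRingCat.of ↥(AGF.rTransInv i))).inv t) = (t : Γ(L.left, ⊤)) := by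
    intro t
    have e : (Scheme.ΓSpecIso (CommRingCat.of ↥(AGF.rTransInv i))).inv ≫ Q.appTop =
        CommRingCat.ofHom (AGF.rTransInv i).subtype := by
      rw [Scheme.Hom.comp_appTop, ← Category.assoc, ← Scheme.ΓSpecIso_inv_naturality, Category.assoc,
        Scheme.toSpecΓ_appTop, Iso.inv_hom_id, Category.comp_id]
    exact congrArg (fun f : CommRingCat.of ↥(AGF.rTransInv i) ⟶ Γ(L.left, ⊤) => f t) e
  have hQinv : (fst L H).left ≫ Q = mult.left ≫ Q := by
    refine ext_of_isAffine ?_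
    ext t
    obtain ⟨t, rfl⟩ := (Scheme.ΓSpecIso (CommRingCat.of ↥(AGF.rTransInv i))).symm.commRingCatIsoToRingEquiv.surjective t
    show ((fst L H).left ≫ Q).appTop _ = (mult.left ≫ Q).appTop _
    rw [Scheme.Hom.comp_appTop, Scheme.Hom.comp_appTop, CommRingCat.comp_apply, CommRingCat.comp_apply]
    show (fst L H).left.appTop (Q.appTop ((Scheme.ΓSpecIso _).inv t)) =
      mult.left.appTop (Q.appTop ((Scheme.ΓSpecIso _).inv t))
    rw [hQtop]
    exact (t.2).symm
  have hdesc : ∀ {Z : Scheme.{u}} (g₁ g₂ : Z ⟶ L.left), g₁ ≫ q' = g₂ ≫ q' → g₁ ≫ Q = g₂ ≫ Q := fun g₁ g₂ h => by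
    rw [← hpb'.lift_fst g₁ g₂ h]
    conv_rhs => rw [← hpb'.lift_snd g₁ g₂ h]
    rw [Category.assoc, Category.assoc, hQinv]
  let ψ := EffectiveEpi.desc q' Q hdesc
  have hψ : q' ≫ ψ = Q := EffectiveEpi.fac q' Q hdesc
  let φ : ↥(AGF.rTransInv i) →+* Γ(X.left, ⊤) :=
    ((Scheme.ΓSpecIso (CommRingCat.of ↥(AGF.rTransInv i))).inv ≫ ψ.appTop).hom
  have hφ : ∀ t, q'.appTop (φ t) = (t : Γ(L.left, ⊤)) := fun t => by
    refine Eq.trans ?_ (hQtop t)
    rw [← hψ, Scheme.Hom.comp_appTop]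
    rfl
  -- rational points
  have hinv : ∀ (x s : BorelLib.Pt k A), s ∈ S → ∀ c, q' ((ObsLib.ptk v (x * s)).left c) = q' ((ObsLib.ptk v x).left c) := by
    intro x s hs c
    obtain ⟨h, hh⟩ := (ObsLib.mem_ptsSub' v).1 hs
    have e1 : lift (ObsLib.ptk v x) h ≫ mult = ObsLib.ptk v (x * s) := by
      rw [ObsLib.ptk_mul, ← hh, Hom.mul_def]
      simp only [mult, lift_whiskerLeft_assoc]
    have e2 : ObsLib.ptk v (x * s) ≫ a.orbitMap o = ObsLib.ptk v x ≫ a.orbitMap o := by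
      rw [← e1, Category.assoc, ← hpb.w, lift_fst_assoc]
    exact congrArg (fun f : VecGrp.pt k k ⟶ X => f.left c) e2
  let c₀ : ↥(VecGrp.pt k k).left := IsLocalRing.closedPoint k
  let P : BorelLib.Pt k A → ↥L.left := fun x => (ObsLib.ptk v x).left c₀
  haveI : IsIso v.hom.left := (Over.forget _).map_isIso v.hom
  have hP : ∀ x, P x = v.hom.left (BorelLib.toP x) := fun x => rfl
  have hPc : Continuous P := v.hom.left.continuous.comp continuous_induced_dom
  have hPex : ∀ Z : Set ↥L.left, Z.Nonempty → IsLocallyClosed Z → ∃ x, P x ∈ Z := fun Z ⟨z, hz⟩ hZ => by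
    obtain ⟨z', rfl⟩ := v.hom.left.surjective z
    exact BorelLib.exists_pt_mem (k := k) (R := A) (Z := v.hom.left ⁻¹' Z) ⟨z', hz⟩
      (hZ.preimage v.hom.left.continuous)
  have hval : ∀ x f, P x ∈ L.left.basicOpen f ↔ x.ofConv (ObsLib.ev v f) ≠ 0 := fun x f => by
    rw [← ObsLib.evalPt_ptk]
    exact S11213.mem_basicOpen_iff (ObsLib.ptk v x) f c₀
  let Ua : Set ↥(AGF.rTransInv i) := {t | IsAffineOpen (X.left.basicOpen (φ t))}
  let eA : Γ(L.left, ⊤) ≃ₐ[k] A := AlgEquiv.ofBijective (ObsLib.ev v) (ObsLib.ev_bijective v)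
  let κ : ↥Tm →+* ↥(AGF.rTransInv i) := ((eA.symm.toAlgHom.comp (R.val.comp Tm.val)) : ↥Tm →+* Γ(L.left, ⊤)).codRestrict _
    fun t => (AGF.mem_rTransInv_iff i _).2 ((ObsLib.isRTransInv_iff_inv v w hπ _).2 (by
      show ObsLib.Inv S (eA (eA.symm ((t : ↥R) : A)))
      rw [AlgEquiv.apply_symm_apply]
      exact (hfix _).1 t.2))
  have hκev : ∀ t : ↥Tm, ObsLib.ev v ((κ t : ↥(AGF.rTransInv i)) : Γ(L.left, ⊤)) = ((t : ↥R) : A) := fun t =>
    eA.apply_symm_apply _
  -- invariants with affine non-vanishing locus at every point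
  have hloc : ∀ g : BorelLib.Pt k A, ∃ t : ↥Tm, κ t ∈ Ua ∧ g.ofConv ((t : ↥R) : A) ≠ 0 := by
    intro g
    obtain ⟨V, hV, hgV, -⟩ := exists_isAffineOpen_mem_and_subset (x := q' (P g)) (U := (⊤ : X.left.Opens)) trivial
    let Y₂ : Set (BorelLib.Pt k A) := P ⁻¹' (q' ⁻¹' (V : Set X.left)ᶜ)
    obtain ⟨u, hu, hgu, hu0⟩ := hsep Y₂ ((V.2.isClosed_compl.preimage q'.continuous).preimage hPc)
      (fun x hx s hs hmem => hx (by rw [← hinv x s hs c₀]; exact hmem)) g (fun h => h hgV)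
    refine ⟨⟨u, hu⟩, ?_, hgu⟩
    set t := κ ⟨u, hu⟩
    have hev : ObsLib.ev v (t : Γ(L.left, ⊤)) = (u : A) := hκev ⟨u, hu⟩
    have hpre : q' ⁻¹ᵁ X.left.basicOpen (φ t) = L.left.basicOpen (t : Γ(L.left, ⊤)) := by
      rw [Scheme.preimage_basicOpen_top, hφ]
    have hle : X.left.basicOpen (φ t) ≤ V := by
      intro y hy
      obtain ⟨z, rfl⟩ := q'.surjective y
      by_contra hzV
      obtain ⟨x, hx1, hx2⟩ := hPex ((L.left.basicOpen (t : Γ(L.left, ⊤)) : Set L.left) ∩ q' ⁻¹' (V : Set X.left)ᶜ)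
        ⟨z, (show z ∈ L.left.basicOpen (t : Γ(L.left, ⊤)) by rw [← hpre]; exact hy), hzV⟩
        ((L.left.basicOpen (t : Γ(L.left, ⊤))).2.isLocallyClosed.inter (V.2.isClosed_compl.preimage q'.continuous).isLocallyClosed)
      exact (hval x _).1 hx1 (by rw [hev]; exact hu0 x hx2)
    show IsAffineOpen _
    have e : X.left.basicOpen (X.left.presheaf.map (homOfLE le_top).op (φ t)) =
        V ⊓ X.left.basicOpen (φ t) := Scheme.basicOpen_res _ _ _
    rw [show X.left.basicOpen (φ t) = V ⊓ X.left.basicOpen (φ t) from (inf_eq_right.2 hle).symm, ← e]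
    exact hV.basicOpen _
  -- these invariants generate the unit ideal
  have hspan : Ideal.span (κ ⁻¹' Ua) = ⊤ := by
    by_contra hne
    obtain ⟨Mi, hMi, hle⟩ := Ideal.exists_le_maximal _ hne
    obtain ⟨P₀, hP₀, hPq⟩ := thmAbi (sp k QH) hQred ↥R mQ hmQ inferInstance Mi hMi.isPrime
    obtain ⟨z, hz⟩ := BorelLib.exists_pt_mem (k := k) (R := ↥R) (Z := PrimeSpectrum.zeroLocus (P₀ : Set ↥R))
      ⟨⟨P₀, hP₀⟩, fun _ h => h⟩ (PrimeSpectrum.isClosed_zeroLocus _).isLocallyClosed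
    obtain ⟨g, rfl⟩ := hRsurj z
    obtain ⟨t, ht, hgt⟩ := hloc g
    have h1 : t ∈ Mi := hle (Ideal.subset_span ht)
    rw [← hPq] at h1
    have h2 : (t : ↥R) ∈ (BorelLib.toP (BorelLib.pull R.val g)).asIdeal := hz h1
    rw [BorelLib.toP_asIdeal, RingHom.mem_ker] at h2
    exact hgt h2
  refine isAffine_of_isAffineOpen_basicOpen (φ '' Ua) ?_ (by rintro _ ⟨t, ht, rfl⟩; exact ht)
  refine top_le_iff.1 ((le_of_eq ?_).trans ((Ideal.span_mono (Set.image_mono (Set.image_preimage_subset κ Ua)))))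
  rw [← Set.image_comp, ← RingHom.coe_comp, ← Ideal.map_span, hspan, Ideal.map_top]

end Groth.Agent.S11214
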