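import Groth.Statements.S11215
import Groth.Agent.S11213
import Groth.Agent.ObsLib.AffRed
import Groth.Agent.ObsLib.RedGrp
import Mathlib.AlgebraicGeometry.Morphisms.Affine
-- import your own Groth.Agent.* helpers here

set_option linter.style.haveILetI false
set_option backward.isDefEq.respectTransparency false
set_option backward.isDefEq.respectTransparency.types false
set_option maxHeartbeats 2000000
set_option synthInstance.maxHeartbeats 400000
set_option autoImplicit false
universe u
open CategoryTheory MonoidalCategory CartesianMonoidalCategory MonObj GrpObj AlgebraicGeometry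
open scoped TensorProduct
open AGF

attribute [-instance] CategoryTheory.Hom.commGroup

namespace Groth.Agent.S11215

attribute [local instance] BorelLib.pTop BorelLib.pTopTensor BlowRegLib.algTop
open Groth.Agent CoactBr

/-- Let k be an algebraically closed field, G a linear algebraic group over k whose identity component
is reductive, H a closed subgroup of G, and X (with action a and base point o) the quotient G/H.
Assume the following standard results of geometric invariant theory for groups with reductive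
identity component, carried as hypotheses: finite generation of invariants on finitely generated
algebras, and that the quotient map of an affine variety by such a group is surjective and separates
disjoint closed invariant subsets. Then X is affine if and only if the identity component of H is
reductive. -/
theorem result (k : Type u) [Field k] [IsAlgClosed k]
    (G : Over (Spec (CommRingCat.of k))) [GrpObj G] [IsAffine G.left] [Smooth G.hom]
    (H : Over (Spec (CommRingCat.of k))) [GrpObj H] [Smooth H.hom] (i : H ⟶ G) [IsMonHom i]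
    [IsClosedImmersion i.left]
    (hG : VecGrp.IsReductiveGrp k G) (thmA : VecGrp.ReductiveInvariantsFG k)
    (thmAbi : AGF.ReductiveQuotSurj k) (thmAbiv : AGF.ReductiveQuotSeparates k)
    (X : Over (Spec (CommRingCat.of k))) (a : AlgGrp.Action G X) (o : 𝟙_ (Over (Spec (CommRingCat.of k))) ⟶ X) (hX : AGF.IsQuotient i X a o) :
    IsAffine X.left ↔ VecGrp.IsReductiveGrp k H := by
  refine ⟨fun hXaff => ?_, fun hH => (S11213.result k G H i hH thmA thmAbi thmAbiv X a o hX).2⟩
  haveI := hXaff
  haveI : IsAffine H.left := isAffine_of_isAffineHom i.left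
  obtain ⟨hXl, hflat, hsurjq, hpb⟩ := hX
  obtain ⟨A, _, _, v, hv, hA, hA'⟩ := BorelLib.exists_setup G
  haveI := hv; haveI := hA; haveI := hA'
  obtain ⟨B, _, _, w, hw, π, -, hB, hB', hπ, hsurπ⟩ := ObsLib.exists_sub_data v i
  haveI := hw; haveI := hB; haveI := hB'
  by_contra hnot
  have hred : ¬ BorelLib.IsRedPts k B := fun h => by
    obtain ⟨-, -, G₀, _, j, hj, hjo, hG₀⟩ := ObsLib.isReductiveGrp_sp h
    haveI := hj; haveI := hjo
    haveI : IsIso w.hom.left := (Over.forget _).map_isIso w.hom
    exact hnot ⟨inferInstance, inferInstance, G₀, inferInstance, j ≫ w.hom, inferInstance,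
      (by rw [Over.comp_left]; infer_instance), hG₀⟩
  simp only [BorelLib.IsRedPts, not_forall] at hred
  obtain ⟨N, hNc, hNp, hNn, hNu, hNb⟩ := hred
  obtain ⟨e, χ, he, -, hinf⟩ := ObsLib.exists_additive hNc hNp hNn hNu hNb
  -- the torsor on rings
  let q : G.left ⟶ X.left := (a.orbitMap o).left
  let mult : G ⊗ H ⟶ G := (G ◁ i) ≫ μ[G]
  have hpb' : IsPullback (fst G H).left mult.left q q := hpb.map (Over.forget _)
  have hff : q.appTop.hom.FaithfullyFlat := (AlgebraicGeometry.Flat.flat_and_surjective_iff_faithfullyFlat_of_isAffine (f := q)).1 ⟨hflat, hsurjq⟩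
  let eA : Γ(G.left, ⊤) ≃ₐ[k] A := AlgEquiv.ofBijective (ObsLib.ev v) (ObsLib.ev_bijective v)
  let eB : Γ(H.left, ⊤) ≃ₐ[k] B := AlgEquiv.ofBijective (ObsLib.ev w) (ObsLib.ev_bijective w)
  let φ : Γ(X.left, ⊤) →+* A := eA.toRingEquiv.toRingHom.comp q.appTop.hom
  letI := φ.toAlgebra
  haveI : Module.FaithfullyFlat Γ(X.left, ⊤) A :=
    RingHom.FaithfullyFlat.stableUnderComposition _ _ hff (RingHom.FaithfullyFlat.of_bijective eA.bijective)
  have hq : ∀ c, (fst G H).left.appTop (q.appTop c) = mult.left.appTop (q.appTop c) := fun c =>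
    congrArg (fun g : (G ⊗ H).left ⟶ X.left => g.appTop c) hpb'.w
  let f := ObsLib.subHom v w hπ
  have hev : ∀ (x : BorelLib.Pt k A) (h : BorelLib.Pt k B) (a' : A),
      BlowRegLib.evalPt (lift (ObsLib.ptk v x) (ObsLib.ptk w h)) ((fst G H).left.appTop (eA.symm a')) = x.ofConv a' ∧
      BlowRegLib.evalPt (lift (ObsLib.ptk v x) (ObsLib.ptk w h)) (mult.left.appTop (eA.symm a')) =
        (x * f h).ofConv a' := fun x h a' => by
    constructor
    · rw [ObsLib.evalPt_lift_fst v w hπ]
      exact congrArg x.ofConv (eA.apply_symm_apply a')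
    · rw [ObsLib.evalPt_lift_mul v w hπ]
      exact congrArg (x * f h).ofConv (eA.apply_symm_apply a')
  have hpo : IsPushout q.appTop q.appTop (fst G H).left.appTop mult.left.appTop :=
    isPushout_appTop_of_isPullback hpb'
  let T : CommRingCat.{u} := CommRingCat.of (A ⊗[Γ(X.left, ⊤)] A)
  let ι₁ : Γ(G.left, ⊤) ⟶ T := CommRingCat.ofHom
    ((Algebra.TensorProduct.includeLeftRingHom).comp eA.toRingEquiv.toRingHom)
  let ι₂ : Γ(G.left, ⊤) ⟶ T := CommRingCat.ofHom
    ((Algebra.TensorProduct.includeRight (R := Γ(X.left, ⊤)) (A := A) (B := A)).toRingHom.comp eA.toRingEquiv.toRingHom)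
  let hd := hpo.desc ι₁ ι₂ (by ext c; exact Algebra.TensorProduct.tmul_one_eq_one_tmul (A := A) (B := A) c)
  have hd1 : ∀ a', hd ((fst G H).left.appTop (eA.symm a')) = a' ⊗ₜ[Γ(X.left, ⊤)] (1 : A) := fun a' => by
    have h : (fst G H).left.appTop ≫ hd = ι₁ := hpo.inl_desc _ _ _
    rw [← CommRingCat.comp_apply, h]
    show eA (eA.symm a') ⊗ₜ[Γ(X.left, ⊤)] (1 : A) = _
    rw [eA.apply_symm_apply]
  have hd2 : ∀ a', hd (mult.left.appTop (eA.symm a')) = (1 : A) ⊗ₜ[Γ(X.left, ⊤)] a' := fun a' => by
    have h : mult.left.appTop ≫ hd = ι₂ := hpo.inr_desc _ _ _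
    rw [← CommRingCat.comp_apply, h]
    show (1 : A) ⊗ₜ[Γ(X.left, ⊤)] eA (eA.symm a') = _
    rw [eA.apply_symm_apply]
  have hC : ∀ (c : Γ(X.left, ⊤)) (x : BorelLib.Pt k A) (h : BorelLib.Pt k B),
      (x * f h).ofConv (algebraMap Γ(X.left, ⊤) A c) = x.ofConv (algebraMap Γ(X.left, ⊤) A c) := fun c x h => by
    rw [← (hev x h _).2, ← (hev x h _).1]
    refine congrArg _ ?_
    show mult.left.appTop (eA.symm (eA (q.appTop c))) = (fst G H).left.appTop (eA.symm (eA (q.appTop c)))
    rw [eA.symm_apply_apply]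
    exact (hq c).symm
  have hinj : ∀ (n : ℕ) (a₁ b₁ : Fin n → A),
      (∀ x h, ∑ j, x.ofConv (a₁ j) * (x * f h).ofConv (b₁ j) = 0) → ∑ j, a₁ j ⊗ₜ[Γ(X.left, ⊤)] b₁ j = 0 := by
    intro n a₁ b₁ h0
    have hz : ∑ j, (fst G H).left.appTop (eA.symm (a₁ j)) * mult.left.appTop (eA.symm (b₁ j)) = 0 :=
      ObsLib.eq_of_pairs v w fun x h => by
        rw [map_sum, map_zero]
        simp only [map_mul, (hev x h _).1, (hev x h _).2]
        exact h0 x h
    have := congrArg hd.hom hz
    rw [map_sum, map_zero] at this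
    refine Eq.trans (Finset.sum_congr rfl fun j _ => ?_) this
    rw [map_mul]
    exact (((congrArg₂ (· * ·) (hd1 (a₁ j)) (hd2 (b₁ j))).trans ((Algebra.TensorProduct.tmul_mul_tmul _ _ _ _).trans (congrArg₂ (fun p q => p ⊗ₜ q) (_root_.mul_one _) (_root_.one_mul _))))).symm
  -- surjectivity
  letI : Algebra Γ(X.left, ⊤) Γ((G ⊗ H).left, ⊤) := ((fst G H).left.appTop.hom.comp q.appTop.hom).toAlgebra
  let φ₁ : A →ₐ[Γ(X.left, ⊤)] Γ((G ⊗ H).left, ⊤) :=
    { toRingHom := (fst G H).left.appTop.hom.comp eA.symm.toRingEquiv.toRingHom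
      commutes' := fun c => by
        show (fst G H).left.appTop (eA.symm (eA (q.appTop c))) = (fst G H).left.appTop (q.appTop c)
        rw [eA.symm_apply_apply] }
  let φ₂ : A →ₐ[Γ(X.left, ⊤)] Γ((G ⊗ H).left, ⊤) :=
    { toRingHom := mult.left.appTop.hom.comp eA.symm.toRingEquiv.toRingHom
      commutes' := fun c => by
        show mult.left.appTop (eA.symm (eA (q.appTop c))) = (fst G H).left.appTop (q.appTop c)
        rw [eA.symm_apply_apply]
        exact (hq c).symm }
  let Lr := Algebra.TensorProduct.lift φ₁ φ₂ fun _ _ => Commute.all _ _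
  have hLd : hd ≫ CommRingCat.ofHom Lr.toRingHom = 𝟙 _ := by
    refine hpo.hom_ext ?_ ?_
    · ext z
      obtain ⟨a', rfl⟩ := eA.symm.surjective z
      show Lr (hd ((fst G H).left.appTop (eA.symm a'))) = _
      rw [hd1]
      simp [Lr, φ₁]
    · ext z
      obtain ⟨a', rfl⟩ := eA.symm.surjective z
      show Lr (hd (mult.left.appTop (eA.symm a'))) = _
      rw [hd2]
      simp [Lr, φ₂]
  have hsur : ∀ e₁ : B, ∃ (n : ℕ) (a₁ b₁ : Fin n → A),
      ∀ x h, ∑ j, x.ofConv (a₁ j) * (x * f h).ofConv (b₁ j) = h.ofConv e₁ := by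
    intro e₁
    let p := (snd G H).left.appTop (eB.symm e₁)
    obtain ⟨S, hS⟩ := TensorProduct.exists_finset (R := Γ(X.left, ⊤)) (M := A) (N := A) (hd p)
    refine ⟨S.card, fun j => (S.equivFin.symm j).1.1, fun j => (S.equivFin.symm j).1.2, fun x h => ?_⟩
    have hp : p = ∑ j ∈ S, (fst G H).left.appTop (eA.symm j.1) * mult.left.appTop (eA.symm j.2) := by
      have h1 : p = Lr (hd p) := (congrArg (fun g : Γ((G ⊗ H).left, ⊤) ⟶ Γ((G ⊗ H).left, ⊤) => g p) hLd).symm
      rw [h1, hS, map_sum]
      exact Finset.sum_congr rfl fun j _ => Algebra.TensorProduct.lift_tmul φ₁ φ₂ _ j.1 j.2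
    have h2 := congrArg (BlowRegLib.evalPt (lift (ObsLib.ptk v x) (ObsLib.ptk w h))) hp
    rw [map_sum] at h2
    simp only [map_mul, (hev x h _).1, (hev x h _).2] at h2
    rw [← Finset.sum_coe_sort S] at h2
    refine Eq.trans ?_ (h2.symm.trans ?_)
    · exact Fintype.sum_equiv S.equivFin.symm _ _ fun j => rfl
    · simp only [p, ObsLib.evalPt_appTop, lift_snd, ObsLib.evalPt_ptk]
      exact congrArg h.ofConv (eB.apply_symm_apply e₁)
  obtain ⟨g, hg⟩ := ObsLib.exists_additive_lift (C := Γ(X.left, ⊤)) f hC hinj hsur he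
  let χ' : BorelLib.Pt k A → k := Function.extend f χ 0
  have hfinj : Function.Injective f := BorelLib.pull_injective_of_surjective hsurπ
  refine ObsLib.false_of_additive v hG thmAbiv (g := g) (N := f '' (N : Set (BorelLib.Pt k B))) (χ := χ')
    (fun y x hx => ?_) ?_
  · obtain ⟨z, hz, rfl⟩ := hx
    rw [hg y z hz, show χ' (f z) = χ z from hfinj.extend_apply χ 0 z]
  · rw [Set.image_image, Set.image_congr fun z _ => hfinj.extend_apply χ 0 z]
    exact hinf

end Groth.Agent.S11215
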