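import Groth.Statements.S11216
import Groth.Agent.ObsLib.OrbitOpen

set_option autoImplicit false
set_option linter.style.haveILetI false
set_option backward.isDefEq.respectTransparency false
set_option backward.isDefEq.respectTransparency.types false
set_option maxHeartbeats 2000000
set_option synthInstance.maxHeartbeats 400000
universe u
open CategoryTheory MonoidalCategory CartesianMonoidalCategory MonObj GrpObj AlgebraicGeometry
open scoped TensorProduct
open AGF

attribute [-instance] CategoryTheory.Hom.commGroup

namespace Groth.Agent.S11216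

attribute [local instance] BorelLib.pTop BorelLib.pTopTensor BlowRegLib.algTop
open Groth.Agent CoactBr

/-- (b) ⇒ (i): let k be an algebraically closed field, G a linear algebraic group over k (an affine
smooth group scheme over k) and H a closed subgroup of G (a smooth closed subgroup scheme, i : H →
G), with H observable in G and k[G]^H finitely generated over the constants; let X = Spec k[G]^H and
φ : G → X the morphism given by the inclusion k[G]^H ⊆ k[G]. Then the image of φ (the orbit of the
base point) is open in X and every point of X outside the image has codimension at least 2 (its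
prime ideal has height ≥ 2). (The published statement also asserts that G/H maps isomorphically onto
the image, and that finite generation is equivalent to an orbit-closure condition in a
representation; neither is stated here.) -/
theorem result (k : Type u) [Field k] [IsAlgClosed k]
    (G : Over (Spec (CommRingCat.of k))) [GrpObj G] [IsAffine G.left] [Smooth G.hom]
    (H : Over (Spec (CommRingCat.of k))) [GrpObj H] [Smooth H.hom] (i : H ⟶ G) [IsMonHom i]
    [IsClosedImmersion i.left]
    (hobs : AGF.IsObservableIn k i) (hfg : AGF.SubringFGOver k G (AGF.rTransInv i)) :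
    IsOpen (Set.range ⇑(G.left.toSpecΓ ≫ Spec.map (CommRingCat.ofHom (AGF.rTransInv i).subtype)).base) ∧
      ∀ x : ↥(Spec (CommRingCat.of ↥(AGF.rTransInv i))),
        x ∉ Set.range ⇑(G.left.toSpecΓ ≫ Spec.map (CommRingCat.ofHom (AGF.rTransInv i).subtype)).base →
          (2 : ℕ∞) ≤ x.asIdeal.height := by
  obtain ⟨A, _, _, v, hv, hA, hA'⟩ := BorelLib.exists_setup G
  haveI := hv; haveI := hA; haveI := hA'
  obtain ⟨B, _, _, w, hw, π, hHa, hB, hB', hπ, -⟩ := ObsLib.exists_sub_data v i
  haveI := hw; haveI := hHa; haveI := hB; haveI := hB'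
  have hfg' := (ObsLib.subringFGOver_iff v w hπ).1 hfg
  let eA : Γ(G.left, ⊤) ≃+* A := (AlgEquiv.ofBijective (ObsLib.ev v) (ObsLib.ev_bijective v)).toRingEquiv
  let S := BorelLib.ptsSub v i
  have hmem : ∀ f, f ∈ AGF.rTransInv i ↔ eA f ∈ ObsLib.invAlg S := fun f =>
    (AGF.mem_rTransInv_iff i f).trans (ObsLib.isRTransInv_iff_inv v w hπ f)
  let e : ↥(AGF.rTransInv i) ≃+* ↥(ObsLib.invAlg S) :=
    RingEquiv.ofBijective ((eA.toRingHom.comp (AGF.rTransInv i).subtype).codRestrict _ fun f => (hmem f).1 f.2)
      ⟨fun f g h => Subtype.ext (eA.injective (congrArg Subtype.val h)),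
        fun a => ⟨⟨eA.symm a, (hmem _).2 (by rw [RingEquiv.apply_symm_apply]; exact a.2)⟩,
          Subtype.ext (eA.apply_symm_apply (a : A))⟩⟩
  let φ := PrimeSpectrum.comap (ObsLib.invAlg S).val.toRingHom
  have hrange : Set.range ⇑(G.left.toSpecΓ ≫ Spec.map (CommRingCat.ofHom (AGF.rTransInv i).subtype)).base =
      (PrimeSpectrum.comap e.symm.toRingHom) ⁻¹' Set.range φ := by
    ext x
    constructor
    · rintro ⟨g, rfl⟩
      refine ⟨PrimeSpectrum.comap eA.symm.toRingHom (G.left.toSpecΓ g), ?_⟩
      show PrimeSpectrum.comap (ObsLib.invAlg S).val.toRingHom (PrimeSpectrum.comap eA.symm.toRingHom (G.left.toSpecΓ g)) =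
        PrimeSpectrum.comap e.symm.toRingHom (PrimeSpectrum.comap (AGF.rTransInv i).subtype (G.left.toSpecΓ g))
      rw [← PrimeSpectrum.comap_comp_apply, ← PrimeSpectrum.comap_comp_apply]
      refine congrArg (fun f => PrimeSpectrum.comap f _) (RingHom.ext fun a => ?_)
      obtain ⟨f, rfl⟩ := e.surjective a
      show eA.symm ((e f : ↥(ObsLib.invAlg S)) : A) = ((e.symm (e f) : ↥(AGF.rTransInv i)) : Γ(G.left, ⊤))
      rw [RingEquiv.symm_apply_apply]
      exact eA.symm_apply_apply (f : Γ(G.left, ⊤))
    · rintro ⟨p, hp⟩
      obtain ⟨g, hg⟩ := G.left.toSpecΓ.surjective (PrimeSpectrum.comap eA.toRingHom p)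
      refine ⟨g, ?_⟩
      show PrimeSpectrum.comap (AGF.rTransInv i).subtype (G.left.toSpecΓ g) = x
      rw [hg]
      have h2 := congrArg (PrimeSpectrum.comap e.toRingHom) hp
      rw [← PrimeSpectrum.comap_comp_apply e.toRingHom e.symm.toRingHom, RingEquiv.symm_toRingHom_comp_toRingHom] at h2
      refine Eq.trans ?_ (h2.trans rfl)
      rfl
  refine ⟨?_, fun x hx => ?_⟩
  · rw [hrange]
    exact (ObsLib.isOpen_range_comap_invAlg hfg').preimage (PrimeSpectrum.continuous_comap _)
  · rw [hrange] at hx
    have h := ObsLib.two_le_height_of_not_mem hfg' _ hx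
    rw [PrimeSpectrum.comap_asIdeal] at h
    rwa [show x.asIdeal.height = (x.asIdeal.comap e.symm.toRingHom).height from (e.symm.height_comap x.asIdeal).symm]

end Groth.Agent.S11216
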