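import Groth.Statements.S11217
import Mathlib
import Mathlib
-- import your own Groth.Agent.* helpers here

set_option autoImplicit false
universe u
open CategoryTheory MonoidalCategory CartesianMonoidalCategory MonObj GrpObj AlgebraicGeometry
open scoped TensorProduct
open AGF

namespace Groth.Agent.S11217

/-- Let k be a field of characteristic zero and m ≥ 2; in the polynomial ring k[x, y, z, s, t, u, v]
(variables 0, …, 6) let δ be the k-derivation with δ(x) = δ(y) = δ(z) = 0, δ(s) = x^(m+1), δ(t) =
y^(m+1), δ(u) = z^(m+1), δ(v) = (xyz)^m, and grade by total degree in s, t, u, v. If f is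
homogeneous of degree n ≥ 1 for this grading and δ(f) = 0, then every coefficient of f, as a
polynomial in s, t, u, v over k[x, y, z], lies in the ideal (x, y, z): every monomial of f has
positive degree in x, y, z. (The published statement allows n = 0, where the constant 1 is a
counterexample; this row assumes n ≥ 1. The published definition of the derivation gives δ(v) =
(xyz)^(m+1), for which the assertion fails: v − (yz)^(m+1)·s is killed by δ and has the monomial v
with coefficient 1; this row uses δ(v) = (xyz)^m, the exponent of the published action formula and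
of the published examples of invariants.) -/
theorem result (k : Type u) [Field k] [CharZero k] (m : ℕ) (hm : 2 ≤ m) (n : ℕ) (hn : 1 ≤ n)
    (f : MvPolynomial (Fin 7) k)
    (hf : MvPolynomial.IsWeightedHomogeneous (![0, 0, 0, 1, 1, 1, 1] : Fin 7 → ℕ) f n)
    (hδ : MvPolynomial.mkDerivation k
      (![0, 0, 0, MvPolynomial.X 0 ^ (m + 1), MvPolynomial.X 1 ^ (m + 1), MvPolynomial.X 2 ^ (m + 1),
        (MvPolynomial.X 0 * MvPolynomial.X 1 * MvPolynomial.X 2) ^ m] : Fin 7 → MvPolynomial (Fin 7) k) f = 0) :
    ∀ d ∈ f.support, 0 < d 0 + d 1 + d 2 := by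
  classical
  intro d hd
  by_contra hlt
  have hd0 : d 0 = 0 ∧ d 1 = 0 ∧ d 2 = 0 := by omega
  set v : Fin 7 → (Fin 7 →₀ ℕ) := ![0, 0, 0, Finsupp.single 0 (m + 1), Finsupp.single 1 (m + 1), Finsupp.single 2 (m + 1),
    Finsupp.single 0 m + Finsupp.single 1 m + Finsupp.single 2 m] with hv
  set w : Fin 7 → k := ![0, 0, 0, 1, 1, 1, 1] with hwt
  have hvec : (![0, 0, 0, MvPolynomial.X 0 ^ (m + 1), MvPolynomial.X 1 ^ (m + 1), MvPolynomial.X 2 ^ (m + 1),
      (MvPolynomial.X 0 * MvPolynomial.X 1 * MvPolynomial.X 2) ^ m] : Fin 7 → MvPolynomial (Fin 7) k) = fun i => MvPolynomial.monomial (v i) (w i) := by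
    funext i
    fin_cases i <;> simp [hv, hwt, MvPolynomial.X_pow_eq_monomial, mul_pow, MvPolynomial.monomial_mul]
  rw [hvec] at hδ
  have hsum : ∀ (g : Fin 7 → MvPolynomial (Fin 7) k) (F : MvPolynomial (Fin 7) k),
      MvPolynomial.mkDerivation k g F = ∑ i, MvPolynomial.pderiv i F * g i := by
    intro g F
    induction F using MvPolynomial.induction_on with
    | C a => simp
    | add p q hp hq => simp only [map_add, hp, hq, add_mul, Finset.sum_add_distrib]
    | mul_X p j hp =>
      simp only [Derivation.leibniz, MvPolynomial.mkDerivation_X, MvPolynomial.pderiv_X, hp, smul_eq_mul, add_mul, Finset.sum_add_distrib, Finset.mul_sum]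
      congr 1
      · simp [Pi.single_apply]
      · exact Finset.sum_congr rfl fun i _ => by ring
  -- the coefficient read off at `v i + (d - e_i)`
  have key : ∀ i : Fin 7, 3 ≤ (i : ℕ) → d i ≠ 0 → (∀ j : Fin 7, 3 ≤ (j : ℕ) → j ≠ i → ∃ l : Fin 7, (l : ℕ) < 3 ∧ v i l < v j l) → False := by
    intro i hi hdi hsep
    have hc := congrArg (MvPolynomial.coeff (v i + (d - Finsupp.single i 1))) hδ
    rw [hsum, MvPolynomial.coeff_sum, MvPolynomial.coeff_zero] at hc
    rw [Finset.sum_eq_single i] at hc
    · rw [MvPolynomial.coeff_mul_monomial', if_pos le_self_add, add_tsub_cancel_left, MvPolynomial.coeff_pderiv] at hc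
      have he : d - Finsupp.single i 1 + Finsupp.single i 1 = d := tsub_add_cancel_of_le (Finsupp.single_le_iff.2 (Nat.one_le_iff_ne_zero.2 hdi))
      rw [he] at hc
      have hwi : w i = 1 := by fin_cases i <;> simp_all [hwt]
      rw [hwi, _root_.mul_one] at hc
      rw [MvPolynomial.mem_support_iff] at hd
      rcases mul_eq_zero.1 hc with h | h
      · exact hd h
      · have : ((((d - Finsupp.single i 1 : Fin 7 →₀ ℕ) i) + 1 : ℕ) : k) ≠ 0 := Nat.cast_ne_zero.2 (Nat.succ_ne_zero _)
        exact this (by push_cast; exact h)
    · intro j _ hj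
      rcases Nat.lt_or_ge (j : ℕ) 3 with hj3 | hj3
      · have hwj : w j = 0 := by fin_cases j <;> simp_all [hwt]
        rw [hwj, map_zero, mul_zero, MvPolynomial.coeff_zero]
      obtain ⟨l, hl, hvl⟩ := hsep j hj3 hj
      rw [MvPolynomial.coeff_mul_monomial', if_neg]
      intro hle
      have := hle l
      have hdl : d l = 0 := by
        rcases hd0 with ⟨a, b, c⟩
        fin_cases l <;> simp_all
      simp [hdl] at this
      omega
    · intro h; exact absurd (Finset.mem_univ i) h
  by_cases h3 : d 3 = 0
  swap
  · exact key 3 (by decide) h3 fun j hj hji => by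
      fin_cases j <;> first
        | (exfalso; revert hj; decide)
        | exact absurd rfl hji
        | (refine ⟨0, by decide, ?_⟩; simp [hv, Finsupp.single_apply]; done)
        | (refine ⟨0, by decide, ?_⟩; simp [hv, Finsupp.single_apply]; omega)
        | (refine ⟨1, by decide, ?_⟩; simp [hv, Finsupp.single_apply]; done)
        | (refine ⟨1, by decide, ?_⟩; simp [hv, Finsupp.single_apply]; omega)
        | (refine ⟨2, by decide, ?_⟩; simp [hv, Finsupp.single_apply]; done)
        | (refine ⟨2, by decide, ?_⟩; simp [hv, Finsupp.single_apply]; omega)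
  by_cases h4 : d 4 = 0
  swap
  · exact key 4 (by decide) h4 fun j hj hji => by
      fin_cases j <;> first
        | (exfalso; revert hj; decide)
        | exact absurd rfl hji
        | (refine ⟨0, by decide, ?_⟩; simp [hv, Finsupp.single_apply]; done)
        | (refine ⟨0, by decide, ?_⟩; simp [hv, Finsupp.single_apply]; omega)
        | (refine ⟨1, by decide, ?_⟩; simp [hv, Finsupp.single_apply]; done)
        | (refine ⟨1, by decide, ?_⟩; simp [hv, Finsupp.single_apply]; omega)
        | (refine ⟨2, by decide, ?_⟩; simp [hv, Finsupp.single_apply]; done)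
        | (refine ⟨2, by decide, ?_⟩; simp [hv, Finsupp.single_apply]; omega)
  by_cases h5 : d 5 = 0
  swap
  · exact key 5 (by decide) h5 fun j hj hji => by
      fin_cases j <;> first
        | (exfalso; revert hj; decide)
        | exact absurd rfl hji
        | (refine ⟨0, by decide, ?_⟩; simp [hv, Finsupp.single_apply]; done)
        | (refine ⟨0, by decide, ?_⟩; simp [hv, Finsupp.single_apply]; omega)
        | (refine ⟨1, by decide, ?_⟩; simp [hv, Finsupp.single_apply]; done)
        | (refine ⟨1, by decide, ?_⟩; simp [hv, Finsupp.single_apply]; omega)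
        | (refine ⟨2, by decide, ?_⟩; simp [hv, Finsupp.single_apply]; done)
        | (refine ⟨2, by decide, ?_⟩; simp [hv, Finsupp.single_apply]; omega)
  have h6 : d 6 ≠ 0 := by
    have := hf (MvPolynomial.mem_support_iff.1 hd)
    rw [Finsupp.weight_apply, Finsupp.sum_fintype _ _ (by simp)] at this
    simp [Fin.sum_univ_seven, h3, h4, h5] at this
    omega
  exact key 6 (by decide) h6 fun j hj hji => by
      fin_cases j <;> first
        | (exfalso; revert hj; decide)
        | exact absurd rfl hji
        | (refine ⟨0, by decide, ?_⟩; simp [hv, Finsupp.single_apply]; done)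
        | (refine ⟨0, by decide, ?_⟩; simp [hv, Finsupp.single_apply]; omega)
        | (refine ⟨1, by decide, ?_⟩; simp [hv, Finsupp.single_apply]; done)
        | (refine ⟨1, by decide, ?_⟩; simp [hv, Finsupp.single_apply]; omega)
        | (refine ⟨2, by decide, ?_⟩; simp [hv, Finsupp.single_apply]; done)
        | (refine ⟨2, by decide, ?_⟩; simp [hv, Finsupp.single_apply]; omega)

end Groth.Agent.S11217
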