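import Groth.Statements.S11218
import Groth.Agent.OrbitClosureLib.Basic
-- import your own Groth.Agent.* helpers here

set_option autoImplicit false
universe u
open CategoryTheory MonoidalCategory CartesianMonoidalCategory MonObj GrpObj AlgebraicGeometry
open scoped TensorProduct
open AGF

namespace Groth.Agent.S11218

/-- Let k be an algebraically closed field, G a linear algebraic group over k (an affine smooth group
scheme over k) and H a closed subgroup of G (a smooth closed subgroup scheme, i : H → G), such that
the quotient G/H (the scheme Y with action b and base point o′) is proper over k (complete). Let G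
act on a variety X over k (separated, of finite type) and let x be a rational point of X; let Z ⊆ X
be the closure of the H-orbit of x. Then the closure of the G-orbit of x is G·Z, the image under the
action map of the preimage of Z in G × X. (The published statement takes X affine; the argument does
not use this, and this row drops it.) -/
theorem result (k : Type u) [Field k] [IsAlgClosed k]
    (G : Over (Spec (CommRingCat.of k))) [GrpObj G] [IsAffine G.left] [Smooth G.hom]
    (H : Over (Spec (CommRingCat.of k))) [GrpObj H] [Smooth H.hom] (i : H ⟶ G) [IsMonHom i]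
    [IsClosedImmersion i.left]
    (Y : Over (Spec (CommRingCat.of k))) (b : AlgGrp.Action G Y) (o' : 𝟙_ (Over (Spec (CommRingCat.of k))) ⟶ Y) (hY : AGF.IsQuotient i Y b o')
    [IsProper Y.hom]
    (X : Over (Spec (CommRingCat.of k))) [IsSeparated X.hom] [LocallyOfFiniteType X.hom] [QuasiCompact X.hom]
    (a : AlgGrp.Action G X) (x : 𝟙_ (Over (Spec (CommRingCat.of k))) ⟶ X) :
    closure (Set.range ⇑(a.orbitMap x).left.base) =
      ⇑a.act.left.base '' (⇑(snd G X).left.base ⁻¹' closure (Set.range ⇑(i ≫ a.orbitMap x).left.base)) := by
  let a' := OrbitClosure.restrict a i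
  have ho : Set.range ⇑(i ≫ a.orbitMap x).left.base = OrbitLib.orbit a' x := by
    rw [OrbitLib.orbit, OrbitClosure.restrict_orbitMap]
  have hZH := (OrbitLib.invariant_orbit a' x).closure
  rw [← ho] at hZH
  have hC := OrbitClosure.isClosed_sweep a i b o' hY _ isClosed_closure hZH
  refine subset_antisymm (closure_minimal ?_ hC) ?_
  · rintro _ ⟨g, rfl⟩
    refine ⟨(lift (𝟙 G) (toUnit G ≫ x)).left g, ?_, ?_⟩
    · refine Set.mem_preimage.2 (subset_closure ?_)
      have h1 : (snd G X).left ((lift (𝟙 G) (toUnit G ≫ x)).left g) = x.left ((toUnit G).left g) := by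
        rw [← Scheme.Hom.comp_apply, ← Over.comp_left, lift_snd, Over.comp_left, Scheme.Hom.comp_apply]
      refine ⟨(1 : 𝟙_ (Over (Spec (CommRingCat.of k))) ⟶ H).left ((toUnit G).left g), ?_⟩
      rw [h1]
      show (i ≫ a.orbitMap x).left _ = _
      rw [← Scheme.Hom.comp_apply, ← Over.comp_left, ← Category.assoc, MonObj.one_comp, OrbitLib.comp_orbitMap,
        GrpShear.lift_one_act, toUnit_unique (toUnit (𝟙_ (Over (Spec (CommRingCat.of k))))) (𝟙 _), Category.id_comp]
    · show a.act.left _ = (a.orbitMap x).left g
      rw [← Scheme.Hom.comp_apply, ← Over.comp_left]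
      rfl
  · have hinv := (OrbitLib.invariant_orbit a x).closure
    rintro _ ⟨p, hp, rfl⟩
    have h1 : closure (Set.range ⇑(i ≫ a.orbitMap x).left.base) ⊆ closure (OrbitLib.orbit a x) := by
      refine closure_mono ?_
      rintro _ ⟨h, rfl⟩
      exact ⟨i.left h, (Scheme.Hom.comp_apply _ _ _).symm⟩
    exact (Set.ext_iff.1 hinv p).2 (h1 hp)

end Groth.Agent.S11218
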