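import Groth.Statements.S1122
import Mathlib

set_option autoImplicit false
universe v u
open CategoryTheory CategoryTheory.Limits
open CohDer

namespace Groth.Agent.S1122

section Aux

open HomologicalComplex
open scoped ZeroObject

variable {A : Type u} [Category.{v} A] [Abelian A]

theorem injective_of_isZero {X : A} (h : IsZero X) : Injective X :=
  ⟨fun _ _ _ => ⟨0, h.eq_of_tgt _ _⟩⟩

theorem exists_emb [EnoughInjectives A] (X : A) :
    ∃ (Y : A) (j : X ⟶ Y), Injective Y ∧ Mono j ∧ (IsZero X → IsZero Y) := by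
  classical
  by_cases h : IsZero X
  · exact ⟨X, 𝟙 X, injective_of_isZero h, inferInstance, fun h => h⟩
  · exact ⟨_, Injective.ι X, inferInstance, inferInstance, fun h' => absurd h' h⟩

/-- A complex embeds in an injective one with injective cycles and cohomology, injectively on
cohomology. -/
theorem exists_step [EnoughInjectives A] (K : CochainComplex A ℤ) :
    ∃ (I : CochainComplex A ℤ) (ε : K ⟶ I), Mono ε ∧ (∀ p, Injective (I.X p)) ∧
      (∀ p, Injective (I.cycles p)) ∧ (∀ p, Injective (I.homology p)) ∧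
      (∀ p, Mono (homologyMap ε p)) ∧ ∀ n, K.IsStrictlyGE n → I.IsStrictlyGE n := by
  classical
  choose E e hEi hem hEz using fun p => exists_emb (kernel (K.homologyπ p))
  choose Hh j hHi hjm hHz using fun p => exists_emb (K.homology p)
  haveI := hEi
  haveI := hem
  haveI := hHi
  haveI := hjm
  let X : ℤ → A := fun p => (E p ⊞ Hh p) ⊞ E (p + 1)
  let d : ∀ p, X p ⟶ X (p + 1) := fun p => biprod.snd ≫ biprod.inl ≫ biprod.inl
  let I : CochainComplex A ℤ := CochainComplex.of X d (fun p => by simp [X, d])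
  have hId : ∀ p, I.d p (p + 1) = d p := fun p => CochainComplex.of_d _ _ p
  let t : ∀ p, K.X p ⟶ kernel (K.homologyπ (p + 1)) := fun p =>
    kernel.lift _ (K.toCycles p (p + 1)) (toCycles_comp_homologyπ _ _ _)
  let a : ∀ p, K.cycles p ⟶ E p := fun p => Injective.factorThru (e p) (kernel.ι (K.homologyπ p))
  let a' : ∀ p, K.X p ⟶ E p := fun p => Injective.factorThru (a p) (K.iCycles p)
  let h' : ∀ p, K.X p ⟶ Hh p := fun p => Injective.factorThru (K.homologyπ p ≫ j p) (K.iCycles p)
  have ha : ∀ p, kernel.ι (K.homologyπ p) ≫ a p = e p := fun p => Injective.comp_factorThru _ _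
  have ha' : ∀ p, K.iCycles p ≫ a' p = a p := fun p => Injective.comp_factorThru _ _
  have hh' : ∀ p, K.iCycles p ≫ h' p = K.homologyπ p ≫ j p := fun p => Injective.comp_factorThru _ _
  let εf : ∀ p, K.X p ⟶ X p := fun p => biprod.lift (biprod.lift (a' p) (h' p)) (t p ≫ e (p + 1))
  have hda : ∀ p, K.d p (p + 1) ≫ a' (p + 1) = t p ≫ e (p + 1) := fun p => by
    rw [← ha, ← Category.assoc, kernel.lift_ι, ← ha', ← Category.assoc, toCycles_i]
  have hdh : ∀ p, K.d p (p + 1) ≫ h' (p + 1) = 0 := fun p => by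
    rw [← toCycles_i, Category.assoc, hh', ← Category.assoc, toCycles_comp_homologyπ, zero_comp]
  have hdt : ∀ p, K.d p (p + 1) ≫ t (p + 1) = 0 := fun p => by
    rw [← cancel_mono (kernel.ι _), Category.assoc, kernel.lift_ι, zero_comp,
      ← cancel_mono (K.iCycles _), Category.assoc, toCycles_i, zero_comp, d_comp_d]
  let ε : K ⟶ I :=
    { f := εf
      comm' := fun p q hpq => by
        obtain rfl : p + 1 = q := hpq
        change εf p ≫ I.d p (p + 1) = K.d p (p + 1) ≫ εf (p + 1)
        rw [hId]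
        apply biprod.hom_ext
        · apply biprod.hom_ext
          · simp [εf, d, X, hda]
          · simp [εf, d, X, hdh]
        · simp [εf, d, X, reassoc_of% hdt] }
  let pr : ∀ p, I.X p ⟶ Hh p := fun p => biprod.fst ≫ biprod.snd
  have hpr : ∀ p q, I.d p q ≫ pr q = 0 := fun p q => by
    by_cases hpq : p + 1 = q
    · subst hpq
      rw [hId]
      simp [d, pr, X]
    · rw [I.shape _ _ hpq, zero_comp]
  have hsnd : ∀ p, I.iCycles p ≫ (biprod.snd : X p ⟶ E (p + 1)) = 0 := fun p => by
    have h0 := I.iCycles_d p (p + 1)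
    rw [hId] at h0
    have h1 := h0 =≫ ((biprod.fst : X (p + 1) ⟶ _) ≫ biprod.fst)
    simpa [d, X] using h1
  have hinl : ∀ p, (biprod.inl : E p ⊞ Hh p ⟶ X p) ≫ I.d p (p + 1) = 0 := fun p => by
    rw [hId]
    simp [d, X]
  let cI : ∀ p, I.cycles p ≅ E p ⊞ Hh p := fun p =>
    { hom := I.iCycles p ≫ (biprod.fst : X p ⟶ _)
      inv := I.liftCycles biprod.inl (p + 1) (by simp) (hinl p)
      hom_inv_id := by
        rw [← cancel_mono (I.iCycles p), Category.assoc, liftCycles_i, Category.id_comp]
        conv_rhs => rw [← Category.comp_id (I.iCycles p)]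
        change _ = I.iCycles p ≫ 𝟙 (X p)
        rw [← biprod.total, Preadditive.comp_add, reassoc_of% (hsnd p), zero_comp, add_zero,
          Category.assoc]
      inv_hom_id := by
        rw [← Category.assoc, liftCycles_i]
        simp [X] }
  let ν : ∀ p, I.homology p ⟶ Hh p := fun p =>
    (I.sc p).descHomology (I.iCycles p ≫ pr p) (by
      rw [← Category.assoc]
      exact ((congrArg (· ≫ pr p) (I.sc p).toCycles_i).trans (hpr _ _)))
  have hν : ∀ p, I.homologyπ p ≫ ν p = I.iCycles p ≫ pr p := fun p =>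
    (I.sc p).π_descHomology _ _
  have hHiso : ∀ p, Nonempty (I.homology p ≅ Hh p) := fun p => by
    obtain ⟨p, rfl⟩ : ∃ q, q + 1 = p := ⟨p - 1, by ring⟩
    have hE : (biprod.inl ≫ (cI (p + 1)).inv : E (p + 1) ⟶ I.cycles (p + 1)) ≫ I.homologyπ (p + 1) = 0 := by
      have : (biprod.inl ≫ (cI (p + 1)).inv : E (p + 1) ⟶ I.cycles (p + 1)) =
          (biprod.inr : E (p + 1) ⟶ X p) ≫ I.toCycles p (p + 1) := by
        rw [← cancel_mono (I.iCycles _), Category.assoc, Category.assoc, toCycles_i, liftCycles_i]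
        rw [hId]
        simp [d, X]
      rw [this, Category.assoc, toCycles_comp_homologyπ, comp_zero]
    refine ⟨
      { hom := ν (p + 1)
        inv := biprod.inr ≫ (cI (p + 1)).inv ≫ I.homologyπ (p + 1)
        hom_inv_id := ?_
        inv_hom_id := ?_ }⟩
    · rw [← cancel_epi (I.homologyπ (p + 1)), reassoc_of% (hν (p + 1)), Category.comp_id]
      conv_rhs => rw [← Category.id_comp (I.homologyπ (p + 1)), ← (cI (p + 1)).hom_inv_id]
      change _ = ((I.iCycles (p + 1) ≫ biprod.fst) ≫ (cI (p + 1)).inv) ≫ _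
      simp only [Category.assoc] at hE
      refine Eq.trans ?_ (Category.assoc _ _ _).symm
      rw [← Category.id_comp ((cI (p + 1)).inv ≫ I.homologyπ (p + 1)),
        ← biprod.total, Preadditive.add_comp, Category.assoc, Category.assoc, hE]
      simp [pr]
    · rw [Category.assoc, Category.assoc, hν]
      simp only [cI, liftCycles_i_assoc]
      simp [pr, X]
  haveI : ∀ p, Mono (ε.f p) := fun p => Preadditive.mono_of_cancel_zero _ fun {W} k hk => by
    have h1 : k ≫ a' p = 0 := by
      simpa [ε, εf, X] using hk =≫ ((biprod.fst : X p ⟶ _) ≫ biprod.fst)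
    have h2 : k ≫ h' p = 0 := by
      simpa [ε, εf, X] using hk =≫ ((biprod.fst : X p ⟶ _) ≫ biprod.snd)
    have h3 : (k ≫ t p) ≫ e (p + 1) = 0 := by
      simpa [ε, εf, X] using hk =≫ (biprod.snd : X p ⟶ _)
    have h4 : k ≫ t p = 0 := by rwa [← cancel_mono (e (p + 1)), zero_comp]
    have h5 : k ≫ K.d p (p + 1) = 0 := by
      rw [← toCycles_i, ← kernel.lift_ι (K.homologyπ (p + 1)) (K.toCycles p (p + 1))
        (toCycles_comp_homologyπ _ _ _)]
      simp only [Category.assoc]
      exact (Category.assoc _ _ _).symm.trans ((congrArg (· ≫ _) h4).trans zero_comp)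
    obtain ⟨k', rfl⟩ : ∃ k', k' ≫ K.iCycles p = k :=
      ⟨K.liftCycles k (p + 1) (by simp) h5, liftCycles_i _ _ _ _ _⟩
    have h6 : k' ≫ K.homologyπ p = 0 := by
      rw [← cancel_mono (j p), Category.assoc, ← hh', ← Category.assoc, h2, zero_comp]
    obtain ⟨k'', rfl⟩ : ∃ k'', k'' ≫ kernel.ι _ = k' := ⟨kernel.lift _ k' h6, kernel.lift_ι _ _ _⟩
    have h7 : k'' = 0 := by
      rw [← cancel_mono (e p), zero_comp, ← ha, ← ha']
      simpa [Category.assoc] using h1
    simp [h7]
  refine ⟨I, ε, HomologicalComplex.mono_of_mono_f ε inferInstance, fun p => ?_,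
    fun p => Injective.of_iso (cI p).symm inferInstance,
    fun p => Injective.of_iso (hHiso p).some.symm inferInstance, fun p => ?_, fun n hn => ?_⟩
  · change Injective ((E p ⊞ Hh p) ⊞ E (p + 1))
    infer_instance
  · have : homologyMap ε p ≫ ν p = j p := by
      rw [← cancel_epi (K.homologyπ p), homologyπ_naturality_assoc, hν, cyclesMap_i_assoc, ← hh']
      simp [ε, εf, pr, X]
    exact mono_of_mono_fac this
  · rw [CochainComplex.isStrictlyGE_iff]
    intro p hp
    haveI := hn
    have z : IsZero (K.X p) := K.isZero_of_isStrictlyGE n p hp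
    have zc : IsZero (K.cycles p) := IsZero.of_mono (K.iCycles p) z
    have zh : IsZero (K.homology p) := IsZero.of_epi (K.homologyπ p) zc
    have zb : IsZero (kernel (K.homologyπ p)) := IsZero.of_mono (kernel.ι _) zc
    have zb' : IsZero (kernel (K.homologyπ (p + 1))) := by
      haveI : Mono (K.homologyπ (p + 1)) := by
        haveI : IsIso (K.homologyπ (p + 1)) :=
          K.isIso_homologyπ p (p + 1) (by simp) (z.eq_of_src _ _)
        infer_instance
      exact isZero_kernel_of_mono _
    rw [IsZero.iff_id_eq_zero]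
    change 𝟙 ((E p ⊞ Hh p) ⊞ E (p + 1)) = 0
    apply biprod.hom_ext
    · apply biprod.hom_ext
      · exact (hEz p zb).eq_of_tgt _ _
      · exact (hHz p zh).eq_of_tgt _ _
    · exact (hEz (p + 1) zb').eq_of_tgt _ _

/-- Cycles and cohomology of a short exact sequence injective on cohomology. -/
theorem shortExact_cycles_homology {S : ShortComplex (CochainComplex A ℤ)} (hS : S.ShortExact)
    (hf : ∀ p, Mono (homologyMap S.f p)) (p : ℤ) :
    (S.map (cyclesFunctor A (ComplexShape.up ℤ) p)).ShortExact ∧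
      (S.map (homologyFunctor A (ComplexShape.up ℤ) p)).ShortExact := by
  haveI := hf
  haveI := hS.mono_f
  haveI := hS.epi_g
  haveI : Epi (homologyMap S.g p) := by
    refine (hS.homology_exact₃ p (p + 1) (by simp)).epi_f ?_
    exact (cancel_mono (homologyMap S.f (p + 1))).1 ((hS.δ_comp p (p + 1) (by simp)).trans zero_comp.symm)
  haveI : ∀ q, Mono (S.f.f q) := fun q => (HomologicalComplex.eval A (ComplexShape.up ℤ) q).map_mono S.f
  haveI : ∀ q, Epi (S.g.f q) := fun q => (HomologicalComplex.eval A (ComplexShape.up ℤ) q).map_epi S.g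
  have hc : Mono (cyclesMap S.f p) := by
    refine ⟨fun {W} a b h => ?_⟩
    rw [← cancel_mono (S.X₁.iCycles p), ← cancel_mono (S.f.f p), Category.assoc, Category.assoc,
      ← cyclesMap_i, ← Category.assoc, h, Category.assoc]
  refine ⟨{ exact := ?_, mono_f := hc, epi_g := ?_ },
    { exact := hS.homology_exact₂ p, mono_f := hf p, epi_g := inferInstanceAs (Epi (homologyMap S.g p)) }⟩
  · rw [ShortComplex.exact_iff_exact_up_to_refinements]
    intro W (z : W ⟶ S.X₂.cycles p) hz
    change z ≫ cyclesMap S.g p = 0 at hz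
    have hex : (S.map (HomologicalComplex.eval A (ComplexShape.up ℤ) p)).Exact :=
      (hS.map_of_exact _).exact
    obtain ⟨W', π, hπ, x, hx⟩ := hex.exact_up_to_refinements (z ≫ S.X₂.iCycles p) (by
      change (z ≫ _) ≫ S.g.f p = 0
      rw [Category.assoc, ← cyclesMap_i, ← Category.assoc, hz, zero_comp])
    change π ≫ z ≫ S.X₂.iCycles p = x ≫ S.f.f p at hx
    have hx' : x ≫ S.X₁.d p (p + 1) = 0 := by
      rw [← cancel_mono (S.f.f (p + 1)), zero_comp, Category.assoc]
      refine (congrArg (x ≫ ·) (S.f.comm p (p + 1)).symm).trans ?_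
      refine ((Category.assoc _ _ _).symm.trans (congrArg (· ≫ _) hx.symm)).trans ?_
      simp
    refine ⟨W', π, hπ, S.X₁.liftCycles x (p + 1) (by simp) hx', ?_⟩
    change π ≫ z = _ ≫ cyclesMap S.f p
    rw [← cancel_mono (S.X₂.iCycles p), Category.assoc, Category.assoc, cyclesMap_i, liftCycles_i_assoc]
    exact hx
  · change Epi (cyclesMap S.g p)
    obtain ⟨p, rfl⟩ : ∃ q, q + 1 = p := ⟨p - 1, by ring⟩
    rw [epi_iff_surjective_up_to_refinements]
    intro W z
    obtain ⟨W₁, π₁, hπ₁, y, hy⟩ := surjective_up_to_refinements_of_epi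
      (S.X₂.homologyπ (p + 1) ≫ homologyMap S.g (p + 1)) (z ≫ S.X₃.homologyπ (p + 1))
    rw [homologyπ_naturality] at hy
    obtain ⟨W₂, π₂, hπ₂, w, hw⟩ := (ShortComplex.exact_of_g_is_cokernel
      (ShortComplex.mk (S.X₃.toCycles p (p + 1)) (S.X₃.homologyπ (p + 1)) (toCycles_comp_homologyπ _ _ _))
      (S.X₃.homologyIsCokernel p (p + 1) (by simp))).exact_up_to_refinements
        (π₁ ≫ z - y ≫ cyclesMap S.g (p + 1)) (by simp [hy])
    obtain ⟨W₃, π₃, hπ₃, x, hx⟩ := surjective_up_to_refinements_of_epi (S.g.f p) w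
    refine ⟨W₃, π₃ ≫ π₂ ≫ π₁, inferInstance, π₃ ≫ π₂ ≫ y + x ≫ S.X₂.toCycles p (p + 1), ?_⟩
    have hnat : S.X₂.toCycles p (p + 1) ≫ cyclesMap S.g (p + 1) = S.g.f p ≫ S.X₃.toCycles p (p + 1) := by
      rw [← cancel_mono (S.X₃.iCycles _)]
      simp
    have e := congrArg (π₃ ≫ ·) hw
    simp only [Preadditive.comp_sub, sub_eq_iff_eq_add] at e
    simp only [Category.assoc, Preadditive.add_comp, e, hnat, ← reassoc_of% hx]
    exact add_comm _ _

section Glue

variable {T : Type*} [Category T] [HasZeroMorphisms T] [HasZeroObject T]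

/-- The objects of the glued complex. -/
noncomputable def gX (I : ℕ → T) : ℤ → T
  | Int.ofNat q => I q
  | Int.negSucc _ => 0

variable {I K : ℕ → T} (ε : ∀ q, K q ⟶ I q) (π : ∀ q, I q ⟶ K (q + 1))

/-- The differentials of the glued complex. -/
noncomputable def gd : ∀ z : ℤ, gX I z ⟶ gX I (z + 1)
  | Int.ofNat q => π q ≫ ε (q + 1)
  | Int.negSucc _ => 0

/-- Glue short exact sequences. -/
noncomputable def glue (w : ∀ q, ε q ≫ π q = 0) : CochainComplex T ℤ :=
  CochainComplex.of (gX I) (gd ε π) fun z => by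
    match z with
    | Int.ofNat q =>
      change (π q ≫ ε (q + 1)) ≫ π (q + 1) ≫ ε (q + 1 + 1) = 0
      rw [Category.assoc, reassoc_of% (w (q + 1)), zero_comp, comp_zero]
    | Int.negSucc q => exact zero_comp

theorem glue_d (w : ∀ q, ε q ≫ π q = 0) (q : ℕ) :
    (glue ε π w).d (Int.ofNat q) (Int.ofNat (q + 1)) = π q ≫ ε (q + 1) :=
  CochainComplex.of_d _ _ (Int.ofNat q)

theorem isInjResolutionVia_glue (w : ∀ q, ε q ≫ π q = 0) (F : T ⥤ A) [F.PreservesZeroMorphisms]
    (hinj : ∀ q, Injective (F.obj (I q)))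
    (h : ∀ q, ((ShortComplex.mk (ε q) (π q) (w q)).map F).ShortExact) :
    CE.IsInjResolutionVia ((F.mapHomologicalComplex (ComplexShape.up ℤ)).obj (glue ε π w))
      (F.obj (K 0)) (F.map (ε 0)) := by
  haveI hM₀ : ∀ q, Mono (F.map (ε q)) := fun q => (h q).mono_f
  haveI : ∀ q, Epi (F.map (π q)) := fun q => (h q).epi_g
  let G := (F.mapHomologicalComplex (ComplexShape.up ℤ)).obj (glue ε π w)
  have wF : ∀ q, F.map (ε q) ≫ F.map (π q) = 0 := fun q => by rw [← F.map_comp, w, F.map_zero]
  have hd : ∀ q, G.d (Int.ofNat q) (Int.ofNat (q + 1)) = F.map (π q) ≫ F.map (ε (q + 1)) :=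
    fun q => (congrArg F.map (glue_d ε π w q)).trans (F.map_comp _ _)
  have hneg : ∀ z : ℤ, z < 0 → IsZero (G.X z) := fun z hz => by
    match z, hz with
    | Int.negSucc q, _ => exact F.map_isZero (isZero_zero T)
    | Int.ofNat q, hz => exact absurd hz (by simp)
  have hmono : ∀ q (X : A) (g : X ⟶ F.obj (I q)) (hg : g ≫ F.map (π q) = 0),
      (ShortComplex.mk g (F.map (π q)) hg).Exact →
      (ShortComplex.mk g (F.map (π q) ≫ F.map (ε (q + 1))) (by
        rw [reassoc_of% hg, zero_comp])).Exact := fun q X g hg hex => by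
    let φ : ShortComplex.mk g (F.map (π q)) hg ⟶
        ShortComplex.mk g (F.map (π q) ≫ F.map (ε (q + 1))) (by rw [reassoc_of% hg, zero_comp]) :=
      { τ₁ := 𝟙 _, τ₂ := 𝟙 _, τ₃ := F.map (ε (q + 1))
        comm₁₂ := by simp
        comm₂₃ := by simp }
    haveI : Epi φ.τ₁ := inferInstanceAs (Epi (𝟙 _))
    haveI : IsIso φ.τ₂ := inferInstanceAs (IsIso (𝟙 _))
    haveI : Mono φ.τ₃ := inferInstanceAs (Mono (F.map (ε (q + 1))))
    exact (ShortComplex.exact_iff_of_epi_of_isIso_of_mono φ).1 hex
  have h01 : F.map (ε 0) ≫ G.d 0 1 = 0 :=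
    (congrArg (F.map (ε 0) ≫ ·) (hd 0)).trans ((reassoc_of% (wF 0)) _ |>.trans zero_comp)
  refine ⟨h01, (CochainComplex.isStrictlyGE_iff _ _).2 fun z hz => hneg z hz, fun z => ?_, fun z hz => ?_,
    hM₀ 0, ?_⟩
  · match z with
    | Int.ofNat q => exact hinj q
    | Int.negSucc q => exact injective_of_isZero (hneg _ (Int.negSucc_lt_zero q))
  · match z, hz with
    | Int.negSucc q, _ =>
      exact HomologicalComplex.ExactAt.of_isZero (hneg _ (Int.negSucc_lt_zero q))
    | Int.ofNat 0, hz => exact absurd rfl hz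
    | Int.ofNat (q + 1), _ =>
      rw [G.exactAt_iff' (Int.ofNat q) (Int.ofNat (q + 1)) (Int.ofNat (q + 1 + 1))
        (by simp) (by simp)]
      let M := ShortComplex.mk (F.map (π q) ≫ F.map (ε (q + 1))) (F.map (π (q + 1))) (by
        rw [Category.assoc, wF, comp_zero])
      have hM : M.Exact := by
        let φ : M ⟶ ShortComplex.mk (F.map (ε (q + 1))) (F.map (π (q + 1))) (wF (q + 1)) :=
          { τ₁ := F.map (π q), τ₂ := 𝟙 _, τ₃ := 𝟙 _
            comm₁₂ := by simp [M]
            comm₂₃ := by simp [M] }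
        haveI : Epi φ.τ₁ := inferInstanceAs (Epi (F.map (π q)))
        haveI : IsIso φ.τ₂ := inferInstanceAs (IsIso (𝟙 _))
        haveI : Mono φ.τ₃ := inferInstanceAs (Mono (𝟙 _))
        exact (ShortComplex.exact_iff_of_epi_of_isIso_of_mono φ).2 (h (q + 1)).exact
      refine ShortComplex.exact_of_iso ?_ (hmono (q + 1) _ _ _ hM)
      refine ShortComplex.isoMk (Iso.refl (F.obj (I q))) (Iso.refl (F.obj (I (q + 1))))
        (Iso.refl (F.obj (I (q + 1 + 1)))) ?_ ?_
      · exact (Category.id_comp _).trans ((hd q).trans (Category.comp_id _).symm)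
      · exact (Category.id_comp _).trans ((hd (q + 1)).trans (Category.comp_id _).symm)
  · refine ShortComplex.exact_of_iso ?_ (hmono 0 _ _ (wF 0) (h 0).exact)
    refine ShortComplex.isoMk (Iso.refl (F.obj (K 0))) (Iso.refl (F.obj (I 0)))
      (Iso.refl (F.obj (I (0 + 1)))) ?_ ?_
    · exact (Category.id_comp _).trans (Category.comp_id _).symm
    · exact (Category.id_comp _).trans ((hd 0).trans (Category.comp_id _).symm)

end Glue

end Aux

/-- Existence of Cartan–Eilenberg resolutions: let A be an abelian category with enough injectives and K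
a bounded below cochain complex in A. There is a double complex I — written as a cochain complex (in
the vertical degree q) of cochain complexes (in the horizontal degree p) — with an augmentation ε :
K ⟶ I⁰ killed by the vertical differential I⁰ ⟶ I¹, such that: I^{p,q} = 0 for p below some bound
and for q < 0; for every p the column (I^{p,q})_q with augmentation εᵖ is an injective resolution of
Kᵖ; the column of horizontal cycles at p, with the augmentation induced on cycles, is an injective
resolution of the cycles Zᵖ(K); and the column of horizontal cohomology at p, with the induced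
augmentation, is an injective resolution of Hᵖ(K). (The usual definition of a Cartan–Eilenberg
resolution also asks the columns of horizontal images to resolve the images Bᵖ(K); that condition is
not asserted here.) -/
theorem result {A : Type u} [Category.{v} A] [Abelian A] [EnoughInjectives A]
    (K : CochainComplex A ℤ) (n : ℤ) [K.IsStrictlyGE n] :
    ∃ (I : CochainComplex (CochainComplex A ℤ) ℤ) (ε : K ⟶ I.X 0) (hε : ε ≫ I.d 0 1 = 0),
      (∃ i : ℤ, ∀ p q : ℤ, p < i → IsZero ((I.X q).X p)) ∧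
      (∀ p : ℤ, CE.IsInjResolutionVia (((HomologicalComplex.eval A (ComplexShape.up ℤ) p).mapHomologicalComplex (ComplexShape.up ℤ)).obj I) (K.X p) (ε.f p)) ∧
      (∀ p : ℤ, CE.IsInjResolutionVia (((HomologicalComplex.cyclesFunctor A (ComplexShape.up ℤ) p).mapHomologicalComplex (ComplexShape.up ℤ)).obj I) (K.cycles p) (HomologicalComplex.cyclesMap ε p)) ∧
      (∀ p : ℤ, CE.IsInjResolutionVia (((HomologicalComplex.homologyFunctor A (ComplexShape.up ℤ) p).mapHomologicalComplex (ComplexShape.up ℤ)).obj I) (K.homology p) (HomologicalComplex.homologyMap ε p)) := by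
  classical
  choose I₀ ε₀ hm hX hC hH hHm hGE using fun L : CochainComplex A ℤ => exists_step L
  let Ks : ℕ → CochainComplex A ℤ := fun q => Nat.rec (motive := fun _ => CochainComplex A ℤ) K (fun _ L => cokernel (ε₀ L)) q
  let ε : ∀ q, Ks q ⟶ I₀ (Ks q) := fun q => ε₀ (Ks q)
  let π : ∀ q, I₀ (Ks q) ⟶ Ks (q + 1) := fun q =>
    show I₀ (Ks q) ⟶ cokernel (ε₀ (Ks q)) from cokernel.π _
  have w : ∀ q, ε q ≫ π q = 0 := fun q => cokernel.condition (ε₀ (Ks q))
  have hS : ∀ q, (ShortComplex.mk (ε q) (π q) (w q)).ShortExact := fun q =>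
    haveI := hm (Ks q)
    { exact := ShortComplex.exact_cokernel _
      mono_f := inferInstanceAs (Mono (ε₀ (Ks q)))
      epi_g := inferInstanceAs (Epi (cokernel.π (ε₀ (Ks q)))) }
  have hge : ∀ q, (Ks q).IsStrictlyGE n := fun q => by
    induction q with
    | zero => exact ‹K.IsStrictlyGE n›
    | succ q ih =>
      haveI := hGE (Ks q) n ih
      rw [CochainComplex.isStrictlyGE_iff]
      intro p hp
      haveI : Epi (π q) := (hS q).epi_g
      haveI : Epi ((π q).f p) := (HomologicalComplex.eval A (ComplexShape.up ℤ) p).map_epi (π q)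
      exact IsZero.of_epi ((π q).f p) ((I₀ (Ks q)).isZero_of_isStrictlyGE n p hp)
  let G := glue ε π w
  have h01 : ε 0 ≫ G.d 0 1 = 0 := by
    refine (congrArg (ε 0 ≫ ·) (glue_d ε π w 0)).trans ?_
    exact (Category.assoc _ _ _).symm.trans ((congrArg (· ≫ _) (w 0)).trans zero_comp)
  refine ⟨G, ε 0, h01, ⟨n, fun p q hp => ?_⟩, fun p => ?_, fun p => ?_, fun p => ?_⟩
  · match q with
    | Int.ofNat m =>
      haveI := hGE (Ks m) n (hge m)
      exact (I₀ (Ks m)).isZero_of_isStrictlyGE n p hp
    | Int.negSucc m => exact (HomologicalComplex.eval A (ComplexShape.up ℤ) p).map_isZero (isZero_zero _)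
  · exact isInjResolutionVia_glue ε π w (HomologicalComplex.eval A (ComplexShape.up ℤ) p)
      (fun q => hX (Ks q) p) (fun q => (hS q).map_of_exact _)
  · exact isInjResolutionVia_glue ε π w (HomologicalComplex.cyclesFunctor A (ComplexShape.up ℤ) p)
      (fun q => hC (Ks q) p) (fun q => (shortExact_cycles_homology (hS q) (hHm (Ks q)) p).1)
  · exact isInjResolutionVia_glue ε π w (HomologicalComplex.homologyFunctor A (ComplexShape.up ℤ) p)
      (fun q => hH (Ks q) p) (fun q => (shortExact_cycles_homology (hS q) (hHm (Ks q)) p).2)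

end Groth.Agent.S1122
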