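import Groth.Statements.S11221
import Mathlib


-- import your own Groth.Agent.* helpers here

set_option autoImplicit false
universe u
open CategoryTheory MonoidalCategory CartesianMonoidalCategory MonObj GrpObj AlgebraicGeometry
open scoped TensorProduct
open AGF

namespace Groth.Agent.S11221

/-- Let R be a Noetherian integrally closed domain with fraction field K and let p be a prime ideal of R
of height one. Then there is f ∈ K which is not in R but lies in the local ring R_q ⊆ K of every
height-one prime q ≠ p (f = a/b with b ∉ q): a rational function on Spec R with a pole along V(p)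
only. (The published statement is for the coordinate ring of a normal affine variety; this row is
for any Noetherian integrally closed domain, which is all the argument uses.) -/
theorem result (R : Type u) [CommRing R] [IsDomain R] [IsNoetherianRing R] [IsIntegrallyClosed R]
    (p : Ideal R) [p.IsPrime] (hp : p.height = 1) :
    ∃ f : FractionRing R, f ∉ Set.range ⇑(algebraMap R (FractionRing R)) ∧
      ∀ q : Ideal R, q.IsPrime → q.height = 1 → q ≠ p →
        ∃ a b : R, b ∉ q ∧ f * algebraMap R (FractionRing R) b = algebraMap R (FractionRing R) a := by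
  classical
  obtain ⟨a, hap, ha0⟩ := Submodule.exists_mem_ne_zero_of_ne_bot (show p ≠ ⊥ from fun h => by rw [h, Ideal.height_bot] at hp; exact zero_ne_one hp)
  set S := (Ideal.finite_minimalPrimes_of_isNoetherianRing R (Ideal.span {a})).toFinset
  have hS : ∀ q, q ∈ S ↔ q ∈ (Ideal.span {a}).minimalPrimes := fun q => Set.Finite.mem_toFinset _
  have hmin : ∀ q : Ideal R, q.IsPrime → q.height = 1 → a ∈ q → q ∈ S := by
    intro q hq hq1 haq
    haveI := hq
    obtain ⟨r, hr, hrq⟩ := Ideal.exists_minimalPrimes_le (I := Ideal.span {a}) (J := q) ((Ideal.span_singleton_le_iff_mem _).2 haq)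
    rcases hrq.eq_or_lt with rfl | hlt
    · exact (hS r).2 hr
    · haveI := hr.1.1
      have h1 := Ideal.height_strict_mono_of_isPrime_of_isPrime hlt
      rw [hq1, Order.lt_one_iff, Ideal.height_eq_zero_iff_eq_bot] at h1
      exact absurd (by simpa [h1] using hr.1.2 (Ideal.subset_span (Set.mem_singleton a))) ha0
  obtain ⟨N, hN⟩ := (Ideal.span {a}).exists_radical_pow_le_of_fg ((isNoetherianRing_iff_ideal_fg R).1 inferInstance _)
  let J : Ideal R → Ideal R := fun q => ∏ r ∈ S.erase q, r
  have hnot : ∀ q ∈ S, ¬ (J q) ^ N ≤ q := by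
    intro q hq hle
    haveI := ((hS q).1 hq).1.1
    obtain ⟨r, hr, hrq⟩ := (Ideal.IsPrime.prod_le (inferInstance : q.IsPrime)).1 (Ideal.IsPrime.le_of_pow_le hle)
    have hr' := (hS r).1 (Finset.mem_of_mem_erase hr)
    exact (Finset.mem_erase.1 hr).1 (le_antisymm hrq (((hS q).1 hq).2 ⟨hr'.1.1, hr'.1.2⟩ hrq))
  have hrad : ∏ r ∈ S, r ≤ (Ideal.span {a}).radical := by
    rw [← Ideal.sInf_minimalPrimes]
    exact Ideal.prod_le_inf.trans (le_sInf fun r hr => Finset.inf_le ((hS r).2 hr))
  have hpS : p ∈ S := hmin p inferInstance hp hap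
  obtain ⟨x, hx, hxp⟩ := SetLike.not_le_iff_exists.1 (hnot p hpS)
  have ha' : algebraMap R (FractionRing R) a ≠ 0 := fun h0 => ha0 (IsFractionRing.injective R (FractionRing R) (by rw [h0, map_zero]))
  refine ⟨algebraMap R _ x / algebraMap R _ a, ?_, fun q hq hq1 hqp => ?_⟩
  · rintro ⟨c, hc⟩
    rw [eq_div_iff ha', ← map_mul] at hc
    exact hxp (IsFractionRing.injective R (FractionRing R) hc ▸ p.mul_mem_left c hap)
  · by_cases haq : a ∈ q
    · have hqS := hmin q hq hq1 haq
      obtain ⟨b, hb, hbq⟩ := SetLike.not_le_iff_exists.1 (hnot q hqS)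
      have hprod : x * b ∈ Ideal.span {a} := by
        refine hN ((Ideal.pow_right_mono hrad N) ?_)
        have h1 : x * b ∈ (J p * J q) ^ N := by rw [mul_pow]; exact Ideal.mul_mem_mul hx hb
        refine Ideal.pow_right_mono ?_ N h1
        have hle : (∏ r ∈ S.erase p, r) ≤ q := Ideal.le_of_dvd (Finset.dvd_prod_of_mem (fun r : Ideal R => r) (Finset.mem_erase.2 ⟨hqp, hqS⟩)) |>.trans le_rfl
        exact (Ideal.mul_mono_left hle).trans (le_of_eq (Finset.mul_prod_erase S (fun r : Ideal R => r) hqS))
      obtain ⟨c, hc⟩ := Ideal.mem_span_singleton'.1 hprod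
      refine ⟨c, b, hbq, ?_⟩
      rw [div_mul_eq_mul_div, div_eq_iff ha', ← map_mul, ← map_mul, hc]
    · exact ⟨x, a, haq, div_mul_cancel₀ _ ha'⟩

end Groth.Agent.S11221
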