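import Groth.Statements.S11222
import Groth.Agent.ObsLib.Lift
import Groth.Agent.ObsLib.Transfer
import Groth.Agent.S11212

set_option autoImplicit false
set_option linter.style.haveILetI false
set_option backward.isDefEq.respectTransparency false
set_option backward.isDefEq.respectTransparency.types false
set_option maxHeartbeats 2000000
set_option synthInstance.maxHeartbeats 400000
universe u
open CategoryTheory MonoidalCategory CartesianMonoidalCategory MonObj GrpObj AlgebraicGeometry
open scoped TensorProduct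
open AGF

attribute [-instance] CategoryTheory.Hom.commGroup

namespace Groth.Agent.S11222

attribute [local instance] BorelLib.pTop BorelLib.pTopTensor
open Groth.Agent CoactBr

/-- Let k be an algebraically closed field, L a linear algebraic group over k, G a closed subgroup of L
whose identity component is reductive, H a closed subgroup of G which is observable in G with k[G]^H
finitely generated over the constants (a Grosshans subgroup of G), and G₁ a closed subgroup of L,
observable in L, containing H (i₁ : H → G₁ compatible with the inclusions into L). Assume the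
following standard results of geometric invariant theory for groups with reductive identity
component, carried as hypotheses: finite generation of invariants on finitely generated algebras,
and that the quotient map of an affine variety by such a group separates disjoint closed invariant
subsets. Then H is observable in G₁ and k[G₁]^H is finitely generated over the constants (H is a
Grosshans subgroup of G₁). -/
theorem result (k : Type u) [Field k] [IsAlgClosed k]
    (L : Over (Spec (CommRingCat.of k))) [GrpObj L] [IsAffine L.left] [Smooth L.hom]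
    (G : Over (Spec (CommRingCat.of k))) [GrpObj G] [Smooth G.hom] (jG : G ⟶ L) [IsMonHom jG] [IsClosedImmersion jG.left]
    (hG : VecGrp.IsReductiveGrp k G)
    (H : Over (Spec (CommRingCat.of k))) [GrpObj H] [Smooth H.hom] (i : H ⟶ G) [IsMonHom i]
    [IsClosedImmersion i.left]
    (hH : AGF.IsObservableIn k i) (hfg : AGF.SubringFGOver k G (AGF.rTransInv i))
    (G₁ : Over (Spec (CommRingCat.of k))) [GrpObj G₁] [Smooth G₁.hom] (j₁ : G₁ ⟶ L) [IsMonHom j₁] [IsClosedImmersion j₁.left]
    (hG₁ : AGF.IsObservableIn k j₁) (i₁ : H ⟶ G₁) [IsMonHom i₁] (hc : i₁ ≫ j₁ = i ≫ jG)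
    (thmA : VecGrp.ReductiveInvariantsFG k) (thmAbiv : AGF.ReductiveQuotSeparates k) :
    AGF.IsObservableIn k i₁ ∧ AGF.SubringFGOver k G₁ (AGF.rTransInv i₁) := by
  haveI : IsAffine G.left := isAffine_of_isAffineHom jG.left
  haveI : IsAffine G₁.left := isAffine_of_isAffineHom j₁.left
  haveI : IsAffine H.left := isAffine_of_isAffineHom i.left
  haveI : IsClosedImmersion (i ≫ jG).left := by rw [Over.comp_left]; infer_instance
  haveI : IsClosedImmersion (i₁.left ≫ j₁.left) := by rw [← Over.comp_left, hc]; infer_instance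
  haveI : IsClosedImmersion i₁.left := IsClosedImmersion.of_comp i₁.left j₁.left
  have hGL : AGF.IsObservableIn k jG := S11212.result k L G jG hG thmA thmAbiv
  obtain ⟨A, _, _, v, hv, hA, hA'⟩ := BorelLib.exists_setup L
  haveI := hv; haveI := hA; haveI := hA'
  obtain ⟨Ag, _, _, wg, hwg, πg, -, hAg, hAg', hπg, hsurg⟩ := ObsLib.exists_sub_data v jG
  haveI := hwg; haveI := hAg; haveI := hAg'
  obtain ⟨Bh, _, _, wh, hwh, πh, -, hBh, hBh', hπh, -⟩ := ObsLib.exists_sub_data wg i
  haveI := hwh; haveI := hBh; haveI := hBh'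
  obtain ⟨A₁, _, _, w₁, hw₁, π₁, -, hA₁, hA₁', hπ₁, hsur₁⟩ := ObsLib.exists_sub_data v j₁
  haveI := hw₁; haveI := hA₁; haveI := hA₁'
  obtain ⟨B₁, _, _, z₁, hz₁, ρ₁, -, hB₁, hB₁', hρ₁, -⟩ := ObsLib.exists_sub_data w₁ i₁
  haveI := hz₁; haveI := hB₁; haveI := hB₁'
  -- the subgroup of points of `H` in `L`
  have hleG : BorelLib.ptsSub v (i ≫ jG) ≤ BorelLib.ptsSub v jG := ObsLib.ptsSub_le v
  have hle₁ : BorelLib.ptsSub v (i ≫ jG) ≤ BorelLib.ptsSub v j₁ := by
    simp only [← hc]; exact ObsLib.ptsSub_le v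
  have hcg := ObsLib.comap_ptsSub v wg hπg hsurg (l := i)
  have hc₁ : (BorelLib.ptsSub v (i ≫ jG)).comap (ObsLib.subHom v w₁ hπ₁) = BorelLib.ptsSub w₁ i₁ := by
    simp only [← hc]; exact ObsLib.comap_ptsSub v w₁ hπ₁ hsur₁
  have hS : ObsLib.Obs (BorelLib.ptsSub v (i ≫ jG)) := by
    refine ((ObsLib.isObservableIn_iff_obs v jG).1 hGL).trans hleG ?_
    rw [ObsLib.obsIn_iff v wg hπg hsurg (BorelLib.isClosed_ptsSub v) hleG, hcg,
      ← ObsLib.isObservableIn_iff_obs wg i]
    exact hH
  have hG₁' := (ObsLib.isObservableIn_iff_obs v j₁).1 hG₁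
  refine ⟨?_, ?_⟩
  · rw [ObsLib.isObservableIn_iff_obs w₁ i₁, ← hc₁,
      ← ObsLib.obsIn_iff v w₁ hπ₁ hsur₁ (BorelLib.isClosed_ptsSub v) hle₁]
    exact fun g _ hg => hS g fun a ha => hg a fun x _ h hh => ha x h hh
  -- invariants on `L` are finitely generated by transfer along `G`
  obtain ⟨m, hm, hρ⟩ := ObsLib.exists_actMod v wg hπg
  obtain ⟨T, hT, hTm⟩ := ObsLib.fg_fixed_of_fg_invAlg wg hG thmA
    ((ObsLib.subringFGOver_iff wg wh hπh).1 hfg) m hm
  have eT : T = ObsLib.invAlg (BorelLib.ptsSub v (i ≫ jG)) := by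
    ext a
    rw [hTm]
    refine ⟨fun h x g hg => ?_, fun ha y hy => ?_⟩
    · obtain ⟨y, rfl⟩ := (ObsLib.mem_sub_iff v wg hπg).1 (hleG hg)
      have hy : y ∈ BorelLib.ptsSub wg i := hcg ▸ hg
      rw [← ObsLib.eval_rT, ← hρ, h y hy]
    · rw [hρ]
      refine ObsLib.ext_pts (k := k) fun x => ?_
      rw [ObsLib.eval_rT]
      exact ha x _ (hcg.symm ▸ hy : y ∈ (BorelLib.ptsSub v (i ≫ jG)).comap (ObsLib.subHom v wg hπg))
  rw [ObsLib.subringFGOver_iff w₁ z₁ hρ₁, ← hc₁, ← hG₁'.map_invAlg hπ₁ hsur₁ hle₁, ← eT]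
  exact hT.map π₁

end Groth.Agent.S11222
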