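import Groth.Statements.S11223
import Mathlib.RingTheory.MvPolynomial.Homogeneous
import Mathlib.RingTheory.Finiteness.Ideal
import Mathlib.RingTheory.IntegralClosure.IsIntegralClosure.Basic
import Mathlib.RingTheory.Polynomial.Basic
-- import your own Groth.Agent.* helpers here

set_option autoImplicit false
set_option linter.style.haveILetI false
universe u
open CAlg

namespace Groth.Agent.S11223

/-- Let k be a field, let z_1, ..., z_m be homogeneous polynomials of positive degree in the polynomial
ring k[x_1, ..., x_n], and suppose the radical of the ideal (z_1, ..., z_m) is the ideal (x_1, ...,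
x_n) generated by the variables. Then the polynomial ring is integral over the subalgebra generated
by z_1, ..., z_m. (The published statement is over an algebraically closed field; this row takes any
field, which its proof allows.) -/
theorem result (k : Type u) [Field k] (n m : ℕ)
    (z : Fin m → MvPolynomial (Fin n) k) (d : Fin m → ℕ) (hd : ∀ i, 0 < d i)
    (hz : ∀ i, (z i).IsHomogeneous (d i))
    (hrad : (Ideal.span (Set.range z)).radical =
      Ideal.span (Set.range (MvPolynomial.X : Fin n → MvPolynomial (Fin n) k))) :
    Algebra.IsIntegral (Algebra.adjoin k (Set.range z)) (MvPolynomial (Fin n) k) := by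
  classical
  let P := MvPolynomial (Fin n) k
  obtain ⟨N, hN⟩ : ∃ N, (Ideal.span (Set.range (MvPolynomial.X : Fin n → P))) ^ N ≤ Ideal.span (Set.range z) :=
    Ideal.exists_pow_le_of_le_radical_of_fg hrad.ge (Submodule.fg_span (Set.finite_range _))
  let B : Finset (Fin n →₀ ℕ) := (Finset.range (N + 1)).biUnion fun e => (Finset.univ : Finset (Fin n)).finsuppAntidiag e
  let T : Submodule (Algebra.adjoin k (Set.range z)) P :=
    Submodule.span _ ((fun s => (MvPolynomial.monomial s) (1 : k)) '' (B : Set (Fin n →₀ ℕ)))
  have hsmall : ∀ s : Fin n →₀ ℕ, s.degree ≤ N → ∀ c : k, (MvPolynomial.monomial s) c ∈ T := by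
    intro s hs c
    have hmem : (MvPolynomial.monomial s) (1 : k) ∈ T := by
      refine Submodule.subset_span ⟨s, ?_, rfl⟩
      simp only [B, Finset.mem_coe, Finset.mem_biUnion, Finset.mem_range, Finset.mem_finsuppAntidiag]
      refine ⟨s.degree, Nat.lt_succ_of_le hs, ?_, Finset.subset_univ _⟩
      rw [Finsupp.degree_apply]
      exact (Finset.sum_subset (Finset.subset_univ _) (fun i _ hi => Finsupp.notMem_support_iff.1 hi)).symm
    have e : (MvPolynomial.monomial s) c = (algebraMap k (Algebra.adjoin k (Set.range z)) c) • (MvPolynomial.monomial s) (1 : k) := by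
      rw [algebraMap_smul, MvPolynomial.smul_monomial, smul_eq_mul, mul_one]
    rw [e]
    exact T.smul_mem _ hmem
  have key : ∀ e, ∀ f : P, f.IsHomogeneous e → f ∈ T := by
    intro e
    induction e using Nat.strong_induction_on with
    | _ e ih =>
      intro f hf
      by_cases he : e ≤ N
      · rw [f.as_sum]
        refine Submodule.sum_mem _ fun s hs => hsmall s ?_ _
        rwa [show s.degree = e by rw [Finsupp.degree_eq_weight_one]; exact hf (MvPolynomial.mem_support_iff.1 hs)]
      · have hfz : f ∈ Ideal.span (Set.range z) := by
          refine hN ?_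
          rw [f.as_sum]
          refine Ideal.sum_mem _ fun s hs => ?_
          have hdeg : N ≤ s.degree := by
            rw [show s.degree = e by rw [Finsupp.degree_eq_weight_one]; exact hf (MvPolynomial.mem_support_iff.1 hs)]
            omega
          refine Ideal.pow_le_pow_right hdeg ?_
          rw [MvPolynomial.monomial_eq, Finsupp.degree_apply, ← Finset.prod_pow_eq_pow_sum, Finsupp.prod]
          exact Ideal.mul_mem_left _ _ (Ideal.prod_mem_prod fun i _ => Ideal.pow_mem_pow (show (MvPolynomial.X i : P) ∈ Ideal.span (Set.range (MvPolynomial.X : Fin n → P)) from Ideal.subset_span ⟨i, rfl⟩) _)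
        obtain ⟨c, hc⟩ := Ideal.mem_span_range_iff_exists_fun.1 hfz
        rw [← MvPolynomial.homogeneousComponent_eq_self hf, ← hc, map_sum]
        refine Submodule.sum_mem _ fun i _ => ?_
        rw [← MvPolynomial.sum_homogeneousComponent (c i), Finset.sum_mul, map_sum]
        refine Submodule.sum_mem _ fun a _ => ?_
        have hh := (MvPolynomial.homogeneousComponent_isHomogeneous a (c i)).mul (hz i)
        rw [MvPolynomial.homogeneousComponent_of_mem hh]
        split_ifs with hae
        · have h1 : (MvPolynomial.homogeneousComponent a (c i)) ∈ T :=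
            ih a (by have := hd i; omega) _ (MvPolynomial.homogeneousComponent_isHomogeneous a (c i))
          have h2 := T.smul_mem (⟨z i, Algebra.subset_adjoin ⟨i, rfl⟩⟩ : Algebra.adjoin k (Set.range z)) h1
          rw [mul_comm]
          exact h2
        · exact T.zero_mem
  haveI : Module.Finite (Algebra.adjoin k (Set.range z)) P := by
    refine ⟨?_⟩
    rw [show (⊤ : Submodule (Algebra.adjoin k (Set.range z)) P) = T by
      refine (eq_top_iff.2 fun f _ => ?_).symm
      rw [← MvPolynomial.sum_homogeneousComponent f]
      exact Submodule.sum_mem _ fun a _ => key a _ (MvPolynomial.homogeneousComponent_isHomogeneous a f)]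
    exact Submodule.fg_span ((B.finite_toSet).image _)
  exact Algebra.IsIntegral.of_finite _ _

end Groth.Agent.S11223
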