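import Groth.Statements.S11224
import Groth.Agent.ObsLib.Setup

set_option linter.style.haveILetI false
set_option backward.isDefEq.respectTransparency false
set_option backward.isDefEq.respectTransparency.types false
set_option maxHeartbeats 2000000
set_option synthInstance.maxHeartbeats 400000

set_option autoImplicit false
universe u
open CategoryTheory MonoidalCategory CartesianMonoidalCategory MonObj GrpObj AlgebraicGeometry
open scoped TensorProduct
open AGF

attribute [-instance] CategoryTheory.Hom.commGroup

namespace Groth.Agent.S11224

attribute [local instance] BorelLib.pTop BorelLib.pTopTensor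
open Groth.Agent

/-- Let k be an algebraically closed field, G a linear algebraic group over k (affine, smooth) whose
identity component is reductive, B a Borel subgroup of G and U the unipotent radical of B (a maximal
unipotent subgroup of G). Assume that invariants of reductive groups over k on finitely generated
algebras are finitely generated (a true result which the published text assumes without proof,
carried here as a hypothesis). Then a rational G-module V is finite-dimensional if and only if its
subspace of U-invariants V^U is finite-dimensional. -/
theorem result (k : Type u) [Field k] [IsAlgClosed k]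
    (G : Over (Spec (CommRingCat.of k))) [GrpObj G] (hG : VecGrp.IsReductiveGrp k G)
    (Bo : Over (Spec (CommRingCat.of k))) [GrpObj Bo] (iB : Bo ⟶ G) (hB : Red.IsBorelOver k iB)
    (U : Over (Spec (CommRingCat.of k))) [GrpObj U] (u : U ⟶ Bo) (hU : Par.IsUnipotentRadical u)
    (thmA : VecGrp.ReductiveInvariantsFG k)
    (V : Type u) [AddCommGroup V] [Module k V] (ρ : VecGrp.GMod G V) :
    Module.Finite k V ↔ Module.Finite k ↥(ρ.fixedUnder (u ≫ iB)) := by
  refine ⟨fun _ => inferInstance, fun hfin => ?_⟩
  haveI : IsAffine G.left := hG.1
  haveI : Smooth G.hom := hG.2.1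
  haveI : IsMonHom iB := hB.1
  haveI : IsMonHom u := hU.1
  haveI : IsMonHom (u ≫ iB) := inferInstance
  obtain ⟨A, _, _, v, hv, hA, hA'⟩ := BorelLib.exists_setup G
  haveI := hv; haveI := hA; haveI := hA'
  obtain ⟨hc, hs, -, -, -⟩ := ObsLib.uni_data v iB hB u hU
  haveI := hc; haveI := hs
  obtain ⟨C, _, _, _, _, f, hf, B, D, hBor, hx⟩ := ObsLib.exists_red_setup v hG hB hU
  refine ObsLib.finite_of_fixU D hBor (ObsLib.locFin_pullRep v hf ρ) ?_
  rw [ObsLib.fixU_pullRep v hf D hx ρ]
  exact hfin

end Groth.Agent.S11224
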