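import Groth.Statements.S11225
import Groth.Agent.ObsLib.Setup
import Groth.Agent.ObsLib.FiltAlg
import Groth.Agent.ObsLib.SemiFrac

set_option linter.style.haveILetI false
set_option backward.isDefEq.respectTransparency false
set_option backward.isDefEq.respectTransparency.types false
set_option maxHeartbeats 2000000
set_option synthInstance.maxHeartbeats 400000

set_option autoImplicit false
universe u
open CategoryTheory MonoidalCategory CartesianMonoidalCategory MonObj GrpObj AlgebraicGeometry
open scoped TensorProduct
open AGF

attribute [-instance] CategoryTheory.Hom.commGroup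

namespace Groth.Agent.S11225

attribute [local instance] BorelLib.pTop BorelLib.pTopTensor
open Groth.Agent

/-- Let k an algebraically closed field, G a linear algebraic group over k (affine, smooth) whose
identity component is reductive, B a Borel subgroup of G with unipotent radical U (a maximal
unipotent subgroup). Assume finite generation of invariants of reductive groups over k on finitely
generated algebras (a true result which the published text assumes without proof, carried here as a
hypothesis). Let A be a commutative k-algebra with a rational action of G by algebra automorphisms.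
If the algebra of invariants A^U is finitely generated over k, then so is A. (The published
statement is the equivalence; its other direction, that A^U is finitely generated whenever A is, is
an earlier result of the same text and is stated separately, so this row states only the direction
from A^U to A.) -/
theorem result (k : Type u) [Field k] [IsAlgClosed k]
    (G : Over (Spec (CommRingCat.of k))) [GrpObj G] (hG : VecGrp.IsReductiveGrp k G)
    (Bo : Over (Spec (CommRingCat.of k))) [GrpObj Bo] (iB : Bo ⟶ G) (hB : Red.IsBorelOver k iB)
    (U : Over (Spec (CommRingCat.of k))) [GrpObj U] (u : U ⟶ Bo) (hU : Par.IsUnipotentRadical u)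
    (thmA : VecGrp.ReductiveInvariantsFG k)
    (A : Type u) [CommRing A] [Algebra k A] (ρ : VecGrp.GMod G A) (hρ : ρ.IsMult) :
    Algebra.FiniteType k ↥(ρ.fixedSubalgebra hρ (u ≫ iB)) → Algebra.FiniteType k A := by
  intro hfg
  haveI : IsAffine G.left := hG.1
  haveI : Smooth G.hom := hG.2.1
  haveI : IsMonHom iB := hB.1
  haveI : IsMonHom u := hU.1
  haveI : IsMonHom (u ≫ iB) := inferInstance
  obtain ⟨C, _, _, v, hv, hC, hC'⟩ := BorelLib.exists_setup G
  haveI := hv; haveI := hC; haveI := hC'
  obtain ⟨hc, hs, -, -, -⟩ := ObsLib.uni_data v iB hB u hU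
  haveI := hc; haveI := hs
  obtain ⟨E, _, _, _, _, f, hf, B, D, hBor, hx⟩ := ObsLib.exists_red_setup v hG hB hU
  have hr : ObsLib.IsAlgRep (ObsLib.pullRep (ObsLib.toRep v ρ) f hf) := by
    refine ⟨fun g => ?_, fun g a b => ObsLib.toRep_mul v ρ hρ _ a b⟩
    show (ObsLib.toRep v ρ).ρ (f g) 1 = 1
    have h := ObsLib.toRep_mul v ρ hρ (f g) 1 ((ObsLib.toRep v ρ).ρ (f g)⁻¹ 1)
    rw [_root_.one_mul, ← (ObsLib.toRep v ρ).mul_apply trivial trivial, mul_inv_cancel,
      (ObsLib.toRep v ρ).map_one, Module.End.one_apply, _root_.mul_one] at h
    exact h.symm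
  obtain ⟨t, ht⟩ := (Subalgebra.fg_top _).1 hfg.out
  have he := ObsLib.fixU_pullRep v hf D hx ρ
  refine ObsLib.fg_of_fixU D hr ⟨t, fun a ha => ?_, fun a ha => ?_⟩ (ObsLib.locFin_pullRep v hf ρ)
  · rw [he]
    exact (ht ▸ Algebra.subset_adjoin ha : a ∈ ρ.fixedSubalgebra hρ (u ≫ iB))
  · rw [he] at ha
    rw [ht]
    exact ha

end Groth.Agent.S11225
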