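import Groth.Statements.S11226
import Groth.Agent.ObsLib.ParabQuot
import Groth.Agent.ObsLib.FiltAlg
import Groth.Agent.ObsLib.AlgModule
import Groth.Agent.ObsLib.UniMax
import Groth.Agent.S11208

set_option linter.style.haveILetI false
set_option backward.isDefEq.respectTransparency false
set_option backward.isDefEq.respectTransparency.types false
set_option maxHeartbeats 4000000
set_option synthInstance.maxHeartbeats 400000

set_option autoImplicit false
universe u
open CategoryTheory MonoidalCategory CartesianMonoidalCategory MonObj GrpObj AlgebraicGeometry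
open scoped TensorProduct
open AGF

attribute [-instance] CategoryTheory.Hom.commGroup

namespace Groth.Agent.S11226

attribute [local instance] BorelLib.pTop BorelLib.pTopTensor
open Groth.Agent ObsLib BorelLib BlowRegLib

/-- Let k be an algebraically closed field, G a linear algebraic group over k (affine, smooth) whose
identity component is reductive, P a parabolic subgroup of G (a smooth closed subgroup containing a
Borel subgroup) and H the unipotent radical of P. Assume finite generation of invariants of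
reductive groups over k on finitely generated algebras (a true result which the published text
assumes without proof, carried here as a hypothesis). If A is a finitely generated commutative
k-algebra with a rational action of G by algebra automorphisms, then the algebra of invariants A^H
is finitely generated over k. -/
theorem result (k : Type u) [Field k] [IsAlgClosed k]
    (G : Over (Spec (CommRingCat.of k))) [GrpObj G] (hG : VecGrp.IsReductiveGrp k G)
    (P : Over (Spec (CommRingCat.of k))) [GrpObj P] (iP : P ⟶ G) (hP : Red.IsParabolicOver k iP)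
    (H : Over (Spec (CommRingCat.of k))) [GrpObj H] (h : H ⟶ P) (hH : Par.IsUnipotentRadical h)
    (thmA : VecGrp.ReductiveInvariantsFG k)
    (A : Type u) [CommRing A] [Algebra k A] [Algebra.FiniteType k A] (ρ : VecGrp.GMod G A) (hρ : ρ.IsMult) :
    Algebra.FiniteType k ↥(ρ.fixedSubalgebra hρ (h ≫ iP)) := by
  classical
  haveI : IsAffine G.left := hG.1
  haveI : Smooth G.hom := hG.2.1
  obtain ⟨hPm, hPc, hPs, Bo, _, b, hBor⟩ := hP
  haveI := hPm; haveI := hPc; haveI := hPs
  obtain ⟨hhm, hhc, hhn, hhs, -, hhg, hhmax⟩ := hH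
  haveI := hhm; haveI := hhc; haveI := hhs
  haveI : IsMonHom (h ≫ iP) := inferInstance
  haveI : IsClosedImmersion (h ≫ iP).left := by rw [Over.comp_left]; infer_instance
  haveI : IsMonHom (b ≫ iP) := hBor.1
  obtain ⟨-, hBc, hBsm, hBconn, -, -⟩ := id hBor
  haveI := hBc; haveI := hBsm; haveI := hBconn
  haveI : IsAffine Bo.left := isAffine_of_isAffineHom (b ≫ iP).left
  obtain ⟨E, _, _, v, hv, hE, hE'⟩ := BorelLib.exists_setup G
  haveI := hv; haveI := hE; haveI := hE'
  haveI : QuasiCompact G.hom := inferInstance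
  obtain ⟨EB, _, _, vB, hvB, hEB, hEB'⟩ := BorelLib.exists_setup Bo
  haveI := hvB; haveI := hEB; haveI := hEB'
  obtain ⟨U, _, u, hum, hU, -⟩ := exists_unipotentRadical vB
  haveI := hum
  haveI : IsMonHom (u ≫ b ≫ iP) := inferInstance
  have hA := S11208.result k G hG Bo (b ≫ iP) hBor U u hU thmA A ρ hρ
  obtain ⟨hUc, hUsm, hUp, hUs, hUu⟩ := uni_data v (b ≫ iP) hBor u hU
  haveI := hUc; haveI := hUsm
  obtain ⟨DP, _, _, wP, hwP, πP, hPa, hDP, hDP', hπP, hsurP⟩ := exists_sub_data v iP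
  haveI := hwP; haveI := hPa; haveI := hDP; haveI := hDP'
  obtain ⟨DH, _, _, wH, hwH, πH, hHa, hDH, hDH', hπH, -⟩ := exists_sub_data v (h ≫ iP)
  haveI := hwH; haveI := hHa; haveI := hDH; haveI := hDH'
  obtain ⟨DU, _, _, wU, hwU, πU, hUa, hDU, hDU', hπU, -⟩ := exists_sub_data v (u ≫ b ≫ iP)
  haveI := hwU; haveI := hUa; haveI := hDU; haveI := hDU'
  set PP := ptsSub v iP with hPP
  set NB := ptsSub v (b ≫ iP) with hNBdef
  set NH := ptsSub v (h ≫ iP) with hNHdef
  set NU := ptsSub v (u ≫ b ≫ iP) with hNUdef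
  let s0 : ↥(Spec (CommRingCat.of k) : Scheme.{u}) := IsLocalRing.closedPoint k
  haveI : ConnectedSpace H.left := connectedSpace_of_geom s0 H (hhg s0).1
  have hNHu : ∀ x ∈ NH, IsUni x := uni_of_hasNoSubtorus v (h ≫ iP) (hasNoSubtorus_of_geom s0 (hhg s0).2)
  have hNHp : _root_.IsPreconnected (NH : Set (Pt k E)) := isPreconnected_ptsSub v
  have hNHc : IsClosed (NH : Set (Pt k E)) := isClosed_ptsSub v
  have hBor0 := isBor_ptsSub v hBor
  have hNBP : NB ≤ PP := ptsSub_le_of_factor v rfl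
  have hNHP : NH ≤ PP := ptsSub_le_of_factor v rfl
  have hNUB : NU ≤ NB := ptsSub_le_of_factor v rfl
  have hNHn : ∀ p ∈ PP, ∀ x ∈ NH, p * x * p⁻¹ ∈ NH := by
    intro p hp x hx
    obtain ⟨p', rfl⟩ := (mem_sub_iff v wP hπP).1 hp
    obtain ⟨x', rfl⟩ := (mem_sub_iff v wP hπP).1 (hNHP hx)
    have hx' : x' ∈ ptsSub wP h := by
      rw [← comap_ptsSub v wP hπP hsurP (l := h), Subgroup.mem_comap]; exact hx
    have h2 := conjSub_le_of_normal wP hhn p' ⟨x', hx', rfl⟩
    rw [← comap_ptsSub v wP hπP hsurP (l := h), Subgroup.mem_comap] at h2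
    simp only [MulEquiv.coe_toMonoidHom, MulAut.conj_apply, _root_.map_mul, _root_.map_inv] at h2
    exact h2
  set K := neut PP with hKdef
  have hPPc : IsClosed (PP : Set (Pt k E)) := isClosed_ptsSub v
  have hKc : IsClosed (K : Set (Pt k E)) := isClosed_neut hPPc
  obtain ⟨C, _, _, j, hC, hC', hjm, hjind, hjinj, hjr, -⟩ := exists_frame hKc
  haveI := hC; haveI := hC'
  have hconn : _root_.IsPreconnected (Set.univ : Set (Pt k C)) :=
    isPreconnected_univ_frame hjind (hjr.symm ▸ isPreconnected_neut _)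
  haveI : IsDomain C := isDomain_of_connected hconn
  have hjK : ∀ c, j c ∈ K := fun c => hjr ▸ ⟨c, rfl⟩
  have hjPP : ∀ c, j c ∈ PP := fun c => neut_le _ (hjK c)
  have hBK : NB ≤ K := le_neut hBor0.conn hNBP
  have hHK : NH ≤ K := le_neut hNHp hNHP
  set N := NH.comap j with hNdef
  have hNc : IsClosed (N : Set (Pt k C)) := hNHc.preimage hjind.continuous
  have hNp : _root_.IsPreconnected (N : Set (Pt k C)) := isPreconnected_comap hjind (hjr.symm ▸ hHK) hNHp
  have hNn : ∀ g, BorelLib.conjSub g N ≤ N := fun g => by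
    rintro _ ⟨x, hx, rfl⟩
    show j (g * x * g⁻¹) ∈ NH
    rw [_root_.map_mul, _root_.map_mul, _root_.map_inv]
    exact hNHn _ (hjPP g) _ hx
  have hNu : ∀ x ∈ N, IsUni x := uni_of_map hjm hjinj hNc hNp fun x hx => hNHu _ hx
  obtain ⟨hRc0, hRp0, hRs0, hRn0, hRB⟩ := radSub_facts (k := k) (A := C) hconn
  have hmax : ∀ J : Subgroup (Pt k C), IsClosed (J : Set (Pt k C)) → _root_.IsPreconnected (J : Set (Pt k C)) →
      (∀ g, BorelLib.conjSub g J ≤ J) → (∀ x ∈ J, IsUni x) → J ≤ N := by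
    obtain ⟨D, hD⟩ := exists_flag_uni hRc0 hRp0 hRs0
    set R := neut (D.U 1) with hRdef
    have hRle : ∀ J : Subgroup (Pt k C), IsClosed (J : Set (Pt k C)) → _root_.IsPreconnected (J : Set (Pt k C)) →
        (∀ g, BorelLib.conjSub g J ≤ J) → (∀ x ∈ J, IsUni x) → J ≤ R := fun J hJc hJp hJn hJu =>
      le_neut hJp fun x hx => (hD x).2 ⟨le_radSub hconn hJp hJn (isSol_of_uni hJc hJp hJu) hx, hJu x hx⟩
    have hRc : IsClosed (R : Set (Pt k C)) := isClosed_neut (D.isClosed_U hRc0 1)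
    have hRn : ∀ g, BorelLib.conjSub g R ≤ R := fun g =>
      le_neut (isPreconnected_conjSub (isPreconnected_neut _)) ((conjSub_mono (neut_le _)).trans (by
        rintro _ ⟨x, hx, rfl⟩
        exact (hD _).2 ⟨hRn0 g ⟨x, ((hD x).1 hx).1, rfl⟩, ((hD x).1 hx).2.conj g⟩))
    obtain ⟨hR'c, hR'p⟩ := BorelLib.isClosed_map hjm hRc (isPreconnected_neut _)
    have hR'u : ∀ x ∈ R.map j, IsUni x := by
      rintro _ ⟨x, hx, rfl⟩
      exact ((hD x).1 (neut_le _ hx)).2.map j hjm
    have hR'K : R.map j ≤ K := fun x hx => by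
      obtain ⟨c, -, rfl⟩ := hx
      exact hjK c
    have hKn : ∀ p ∈ PP, BorelLib.conjSub p K ≤ K := fun p hp =>
      le_neut (isPreconnected_conjSub (isPreconnected_neut _)) ((conjSub_mono (neut_le _)).trans (by
        rintro _ ⟨x, hx, rfl⟩
        exact PP.mul_mem (PP.mul_mem hp hx) (PP.inv_mem hp)))
    have hR'n : ∀ p ∈ PP, BorelLib.conjSub p (R.map j) ≤ R.map j := by
      intro p hp
      have hle : BorelLib.conjSub p (R.map j) ≤ K := (conjSub_mono hR'K).trans (hKn p hp)
      have hJc : IsClosed ((BorelLib.conjSub p (R.map j)).comap j : Set (Pt k C)) :=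
        (isClosed_conjSub hR'c).preimage hjind.continuous
      have hJp : _root_.IsPreconnected ((BorelLib.conjSub p (R.map j)).comap j : Set (Pt k C)) :=
        isPreconnected_comap hjind (hjr.symm ▸ hle) (isPreconnected_conjSub hR'p)
      have hJu := uni_of_map hjm hjinj hJc hJp fun x hx => by
        obtain ⟨y, hy, hyx⟩ := hx
        rw [← hyx]
        exact (hR'u y hy).conj p
      have hJn : ∀ g, BorelLib.conjSub g ((BorelLib.conjSub p (R.map j)).comap j) ≤
          (BorelLib.conjSub p (R.map j)).comap j := fun g => by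
        rintro _ ⟨x, hx, rfl⟩
        obtain ⟨y, hy, hyx⟩ := hx
        simp only [MulEquiv.coe_toMonoidHom, MulAut.conj_apply] at hyx
        obtain ⟨c, hc⟩ : p⁻¹ * j g * p ∈ j.range := hjr ▸ (hKn p⁻¹ (PP.inv_mem hp) ⟨j g, hjK g, by simp⟩)
        obtain ⟨r, hr, rfl⟩ := hy
        refine ⟨j (c * r * c⁻¹), ⟨_, hRn c ⟨r, hr, rfl⟩, rfl⟩, ?_⟩
        simp only [MulEquiv.coe_toMonoidHom, MulAut.conj_apply, _root_.map_mul, _root_.map_inv, hc, ← hyx]
        group
      intro x hx
      obtain ⟨c, rfl⟩ : x ∈ j.range := hjr ▸ hle hx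
      exact ⟨c, hRle _ hJc hJp hJn hJu hx, rfl⟩
    obtain ⟨Nr, _, n, hin, hic, hsm, hpts, hnconn, -⟩ := exists_scheme_sub v hR'c
    haveI := hin; haveI := hic; haveI := hsm
    haveI := hnconn hR'p
    haveI : IsAffine Nr.left := isAffine_of_isAffineHom n.left
    haveI : AlgebraicGeometry.IsReduced Nr.left := AlgSpLib.isReduced_of_smooth Nr.hom
    obtain ⟨f, hf⟩ := exists_factor_of_le v (i := n) (i' := iP) (hpts ▸ hR'K.trans (neut_le _))
    haveI : Mono iP := DiagRep.mono_of_isClosedImmersion iP inferInstance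
    haveI : IsMonHom f :=
      { one_hom := (cancel_mono iP).1 (by rw [Category.assoc, hf, IsMonHom.one_hom, IsMonHom.one_hom])
        mul_hom := (cancel_mono iP).1 (by
          rw [Category.assoc, hf, IsMonHom.mul_hom, Category.assoc, IsMonHom.mul_hom (f := iP), ← Category.assoc,
            tensorHom_comp_tensorHom, hf]) }
    haveI : IsClosedImmersion (f.left ≫ iP.left) := by rw [← Over.comp_left, hf]; infer_instance
    haveI : IsClosedImmersion f.left := IsClosedImmersion.of_comp f.left iP.left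
    have hfn : ∀ g, BorelLib.conjSub g (ptsSub wP f) ≤ ptsSub wP f := fun g => by
      rintro _ ⟨x, hx, rfl⟩
      rw [← comap_ptsSub v wP hπP hsurP (l := f)] at hx ⊢
      simp only [Subgroup.mem_comap] at hx ⊢
      have hpt : ptsSub v (f ≫ iP) = R.map j := by simp only [hf, hpts]
      rw [hpt] at hx ⊢
      simp only [MulEquiv.coe_toMonoidHom, MulAut.conj_apply, _root_.map_mul, _root_.map_inv]
      exact hR'n _ (pull_mem v wP hπP g) ⟨_, hx, rfl⟩
    have hno : Red.HasNoSubtorus k Nr := hasNoSubtorus_of_uni v n fun x hx => hR'u x (hpts ▸ hx)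
    obtain ⟨l, hl⟩ := hhmax Nr f inferInstance (isNormalHom_of_pts wP hfn) hsm inferInstance
      fun s => ⟨(geom_facts s Nr).2.2, hasNoSubtorus_geom s hno⟩
    intro J hJc hJp hJn hJu x hx
    show j x ∈ NH
    have h1 : ptsSub v n ≤ NH := ptsSub_le_of_factor v (f := l) (by rw [← Category.assoc, hl, hf])
    exact h1 (hpts.symm ▸ ⟨x, hRle J hJc hJp hJn hJu hx, rfl⟩)
  -- the reductive quotient and its Borel subgroup
  obtain ⟨Q, _, _, qi, q, hQ, hQ', hqiinj, hq, hqsur, hker, hdesc⟩ := exists_quot hNc hNn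
  haveI := hQ; haveI := hQ'
  haveI : IsDomain Q := Function.Injective.isDomain qi.toRingHom hqiinj
  have hqm : IsMor q := ⟨qi, hq⟩
  have hredQ : IsRedPts k Q := isRedPts_quot hqm hqsur hker hNu hmax
  set B' := NB.comap j with hB'def
  have hB' : IsBor ⊤ B' := IsBor.comap hjind hjinj hjr hKc ⟨hBK, hBor0.closed, hBor0.conn, hBor0.sol,
    fun H' _ hc hp hs hle => hBor0.maximal H' le_top hc hp hs hle⟩
  obtain ⟨D⟩ := exists_heightData hredQ (hB'.map hqm hqsur hconn)
  have hNB : NH ≤ NB := fun x hx => by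
    obtain ⟨c, rfl⟩ : x ∈ j.range := hjr ▸ hHK hx
    exact hRB B' hB' (le_radSub hconn hNp hNn (isSol_of_uni hNc hNp hNu) hx)
  have hNHU : NH ≤ NU := le_uniRad v hBor hU hNB hNHp hNHu
  -- the representation on the invariants
  set RH := ρ.fixedSubalgebra hρ (h ≫ iP) with hRHdef
  let T := toRep v ρ
  have hRH : ∀ a, a ∈ RH ↔ ∀ x ∈ NH, T.ρ x a = a := fun a => by
    refine (ObsLib.fixedUnder_iff v wH hπH ρ a).trans ⟨fun h x hx => ?_, fun h y => h _ (pull_mem v wH hπH y)⟩
    obtain ⟨y, rfl⟩ := (mem_sub_iff v wH hπH).1 hx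
    exact h y
  have hAU : ∀ a, a ∈ ρ.fixedSubalgebra hρ (u ≫ b ≫ iP) ↔ ∀ x ∈ NU, T.ρ x a = a := fun a => by
    refine (ObsLib.fixedUnder_iff v wU hπU ρ a).trans ⟨fun h x hx => ?_, fun h y => h _ (pull_mem v wU hπU y)⟩
    obtain ⟨y, rfl⟩ := (mem_sub_iff v wU hπU).1 hx
    exact h y
  have hst : ∀ p ∈ PP, ∀ a ∈ RH, T.ρ p a ∈ RH := fun p hp a ha => (hRH _).2 fun x hx => by
    conv_rhs => rw [← (hRH a).1 ha (p⁻¹ * x * p) (by simpa using hNHn p⁻¹ (PP.inv_mem hp) x hx)]
    rw [← T.mul_apply trivial trivial, ← T.mul_apply trivial trivial]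
    congr 1
    group
  let rC : RegRep (⊤ : Subgroup (Pt k C)) ↥RH :=
    { ρ := fun c => ((T.ρ (j c)).comp RH.val.toLinearMap).codRestrict (Subalgebra.toSubmodule RH)
        fun a => hst _ (hjPP c) _ a.2
      map_one := LinearMap.ext fun a => Subtype.ext (by
        show T.ρ (j 1) (a : A) = (a : A)
        rw [_root_.map_one, T.map_one]
        rfl)
      map_mul := fun c _ d _ => LinearMap.ext fun a => Subtype.ext (by
        show T.ρ (j (c * d)) (a : A) = T.ρ (j c) (T.ρ (j d) (a : A))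
        rw [_root_.map_mul, T.mul_apply trivial trivial])
      reg := fun φ a => by
        obtain ⟨P0, hP0⟩ := LinearMap.exists_leftInverse_of_injective RH.val.toLinearMap
          (LinearMap.ker_eq_bot.2 Subtype.val_injective)
        obtain ⟨c₀, hc₀⟩ := (T.reg (φ ∘ₗ P0) (a : A)).comp hjm
        refine ⟨c₀, fun c => ?_⟩
        refine Eq.trans ?_ (hc₀ c)
        show φ _ = φ (P0 (T.ρ (j c) (a : A)))
        exact congrArg φ (LinearMap.congr_fun hP0 ⟨T.ρ (j c) (a : A), hst _ (hjPP c) _ a.2⟩).symm }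
  have hrC : ∀ c a, ((rC.ρ c a : ↥RH) : A) = T.ρ (j c) (a : A) := fun c a => rfl
  have hNfix : ∀ x ∈ N, ∀ a, rC.ρ x a = a := fun x hx a => Subtype.ext ((hRH _).1 a.2 _ hx)
  have hclass : ∀ x y : Pt k C, q x = q y → ∀ a, rC.ρ x a = rC.ρ y a := fun x y hxy a => by
    have hm : x⁻¹ * y ∈ N := (hker _).1 (by rw [_root_.map_mul, _root_.map_inv, hxy, inv_mul_cancel])
    conv_rhs => rw [← mul_inv_cancel_left x y, rC.mul_apply trivial trivial, hNfix _ hm]
  let sec : Pt k Q → Pt k C := Function.surjInv hqsur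
  have hsec : ∀ y, q (sec y) = y := Function.surjInv_eq hqsur
  let rQ : RegRep (⊤ : Subgroup (Pt k Q)) ↥RH :=
    { ρ := fun y => rC.ρ (sec y)
      map_one := LinearMap.ext fun a => by
        rw [hclass (sec 1) 1 (by rw [hsec, _root_.map_one]) a, rC.map_one]
      map_mul := fun y _ z _ => LinearMap.ext fun a => by
        rw [hclass (sec (y * z)) (sec y * sec z) (by rw [hsec, _root_.map_mul, hsec, hsec]) a,
          rC.mul_apply trivial trivial]
        rfl
      reg := fun φ a => by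
        obtain ⟨c₀, hc₀⟩ := rC.reg φ a
        obtain ⟨b₀, rfl⟩ := hdesc c₀ fun x n hn => by
          rw [← hc₀, ← hc₀]
          show φ (rC.ρ (x * n) a) = φ (rC.ρ x a)
          rw [rC.mul_apply trivial trivial, hNfix n hn]
        refine ⟨b₀, fun y => ?_⟩
        refine (hc₀ (sec y)).trans ?_
        rw [← pull_apply, ← hq, hsec] }
  have hrQ : ∀ (x : Pt k C) a, ((rQ.ρ (q x) a : ↥RH) : A) = T.ρ (j x) (a : A) := fun x a => by
    show ((rC.ρ (sec (q x)) a : ↥RH) : A) = _
    rw [hclass _ x (hsec _) a]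
    rfl
  have hr : IsAlgRep rQ := by
    refine ⟨fun y => Subtype.ext ?_, fun y a c => Subtype.ext ?_⟩
    · show T.ρ _ (1 : A) = 1
      exact ObsLib.toRep_one v ρ hρ _
    · show T.ρ _ ((a : A) * (c : A)) = T.ρ _ (a : A) * T.ρ _ (c : A)
      exact ObsLib.toRep_mul v ρ hρ _ _ _
  have hlf : LocFin rQ := fun a => by
    let W := (Submodule.span k (Set.range fun g => T.ρ g (a : A))).comap RH.val.toLinearMap
    haveI := finiteDimensional_orbit v ρ (a : A)
    refine ⟨W, ?_, mem_orbit v ρ (a : A), fun y _ x hx => stable_orbit v ρ (a : A) _ trivial _ hx⟩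
    exact FiniteDimensional.of_injective
      ((RH.val.toLinearMap.domRestrict W).codRestrict (Submodule.span k (Set.range fun g => T.ρ g (a : A))) fun x => x.2)
      fun x y hxy => Subtype.ext (Subtype.ext (congrArg Subtype.val hxy :))
  -- fixed vectors of the contracted part
  have hfix : ∀ a : ↥RH, a ∈ fixU D rQ ↔ (a : A) ∈ ρ.fixedSubalgebra hρ (u ≫ b ≫ iP) := by
    intro a
    rw [hAU]
    constructor
    · intro hwa n hn
      obtain ⟨x, rfl⟩ : n ∈ j.range := hjr ▸ hBK (hNUB hn)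
      have hxu : IsUni x := uni_of_map hjm hjinj ((isClosed_ptsSub v).preimage hjind.continuous)
        (isPreconnected_comap hjind (hjr.symm ▸ hNUB.trans hBK) hUp) (fun y hy => hUu _ hy) x hn
      have hxB : x ∈ B' := hNUB hn
      obtain ⟨p, -, hp, hp1⟩ := D.limit (q x) ⟨x, hxB, rfl⟩
      have h2 := hwa (q x) ⟨x, hxB, rfl⟩ (hp1 (hxu.map q hqm) ▸ hp)
      rw [← hrQ x a, h2]
    · intro hfixa c hc hcf
      obtain ⟨x, hx, rfl⟩ := hc
      obtain ⟨S, hSB, hS, hdec⟩ := exists_torus_mul v hBor hU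
      obtain ⟨s, hs, n, hn, hsn⟩ := hdec (j x) hx
      obtain ⟨s', rfl⟩ : s ∈ j.range := hjr ▸ hBK (hSB hs)
      obtain ⟨n', rfl⟩ : n ∈ j.range := hjr ▸ hBK (hNUB hn)
      have hxe : x = s' * n' := hjinj (by rw [_root_.map_mul, hsn])
      have hn'u : IsUni n' := uni_of_map hjm hjinj ((isClosed_ptsSub v).preimage hjind.continuous)
        (isPreconnected_comap hjind (hjr.symm ▸ hNUB.trans hBK) hUp) (fun y hy => hUu _ hy) n' hn
      have hcu : IsUni (q x) := (hcf.isUni_iff).2 fun W _ _ _ r => ⟨1, by rw [r.map_one, sub_self, pow_one]⟩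
      have hBQ := hB'.map hqm hqsur hconn
      obtain ⟨DQ, hDQ⟩ := exists_flag_uni hBQ.closed hBQ.conn hBQ.sol
      have hqx : q x ∈ DQ.U 1 := (hDQ _).2 ⟨⟨x, hx, rfl⟩, hcu⟩
      have hqn : q n' ∈ DQ.U 1 := (hDQ _).2 ⟨⟨n', hNUB hn, rfl⟩, hn'u.map q hqm⟩
      have hqs : q s' ∈ DQ.U 1 := by
        have h2 := (DQ.U 1).mul_mem hqx ((DQ.U 1).inv_mem hqn)
        rwa [hxe, _root_.map_mul, mul_inv_cancel_right] at h2
      have hS' : IsTor (S.comap j) := hS.comap hjind hjinj (hjr.symm ▸ hSB.trans hBK)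
      have hqs1 : q s' = 1 := ((hDQ _).1 hqs).2.eq_one (hS'.map hqm) ⟨s', hs, rfl⟩
      have hs1 : s' = 1 := (hNu s' ((hker s').1 hqs1)).eq_one hS' hs
      refine Subtype.ext ?_
      rw [hrQ, hxe, hs1, _root_.one_mul]
      exact hfixa _ hn
  have hle : ∀ a ∈ ρ.fixedSubalgebra hρ (u ≫ b ≫ iP), a ∈ RH := fun a ha =>
    (hRH a).2 fun x hx => (hAU a).1 ha x (hNHU hx)
  obtain ⟨t, ht⟩ := (Subalgebra.fg_top _).1 hA.out
  refine fg_of_fixU D hr ⟨t.attach.image fun a => ⟨a.1, hle _ (ht.le (Algebra.subset_adjoin (Finset.mem_coe.2 a.2)))⟩,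
    fun a ha => ?_, fun a ha => ?_⟩ hlf
  · obtain ⟨a', -, rfl⟩ := Finset.mem_image.1 (Finset.mem_coe.1 ha)
    exact (hfix _).2 (ht.le (Algebra.subset_adjoin (Finset.mem_coe.2 a'.2)))
  · have h2 : (a : A) ∈ Algebra.adjoin k (↑t : Set A) := ht.symm.le ((hfix a).1 ha)
    have h3 : (a : A) ∈ (Algebra.adjoin k (↑(t.attach.image fun a => (⟨a.1, hle _ (ht.le (Algebra.subset_adjoin
        (Finset.mem_coe.2 a.2)))⟩ : ↥RH)) : Set ↥RH)).map RH.val := by
      refine (Algebra.adjoin_le ?_) h2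
      intro y hy
      exact ⟨⟨y, hle _ (ht.le (Algebra.subset_adjoin hy))⟩,
        Algebra.subset_adjoin (Finset.mem_coe.2 (Finset.mem_image.2 ⟨⟨y, hy⟩, Finset.mem_attach _ _, rfl⟩)), rfl⟩
    obtain ⟨a', ha', hae⟩ := h3
    rwa [Subtype.ext hae] at ha'

end Groth.Agent.S11226
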