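import Groth.Statements.S11236
import Groth.Agent.ObsLib.AlgModule
import Groth.Agent.S11208
import Groth.Agent.S11225

set_option linter.style.haveILetI false
set_option backward.isDefEq.respectTransparency false
set_option backward.isDefEq.respectTransparency.types false
set_option maxHeartbeats 2000000
set_option synthInstance.maxHeartbeats 400000

set_option autoImplicit false
universe u
open CategoryTheory MonoidalCategory CartesianMonoidalCategory MonObj GrpObj AlgebraicGeometry
open scoped TensorProduct
open AGF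

attribute [-instance] CategoryTheory.Hom.commGroup

namespace Groth.Agent.S11236

attribute [local instance] BorelLib.pTop BorelLib.pTopTensor
open Groth.Agent TrivSqZeroExt

/-- Let k be an algebraically closed field, G a linear algebraic group over k (affine, smooth) whose
identity component is reductive, B a Borel subgroup of G with unipotent radical U. Assume finite
generation of invariants of reductive groups over k on finitely generated algebras (a true result
which the published text assumes without proof, carried here as a hypothesis). Let A be a finitely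
generated commutative k-algebra with a rational action of G by algebra automorphisms and M an
A-module with a rational G-action compatible with the module structure (g·(am) = (g·a)(g·m)). Then
finite generation of M as an A-module is equivalent to the invariants M^U forming a finitely
generated module over A^U (M^U is the A^U-span of finitely many of its elements). -/
theorem result (k : Type u) [Field k] [IsAlgClosed k]
    (G : Over (Spec (CommRingCat.of k))) [GrpObj G] (hG : VecGrp.IsReductiveGrp k G)
    (Bo : Over (Spec (CommRingCat.of k))) [GrpObj Bo] (iB : Bo ⟶ G) (hB : Red.IsBorelOver k iB)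
    (U : Over (Spec (CommRingCat.of k))) [GrpObj U] (u : U ⟶ Bo) (hU : Par.IsUnipotentRadical u)
    (thmA : VecGrp.ReductiveInvariantsFG k)
    (A : Type u) [CommRing A] [Algebra k A] [Algebra.FiniteType k A] (ρA : VecGrp.GMod G A) (hρ : ρA.IsMult)
    (M : Type u) [AddCommGroup M] [Module A M] [Module k M] [IsScalarTower k A M] (ρM : VecGrp.GMod G M)
    (hc : VecGrp.GMod.IsCompat ρA ρM) :
    Module.Finite A M ↔
      ∃ s : Finset M, (↑s : Set M) ⊆ ρM.fixedUnder (u ≫ iB) ∧
        ρM.fixedUnder (u ≫ iB) ≤
          (Submodule.span ↥(ρA.fixedSubalgebra hρ (u ≫ iB)) (↑s : Set M)).restrictScalars k := by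
  classical
  haveI : IsAffine G.left := hG.1
  haveI : Smooth G.hom := hG.2.1
  haveI : IsMonHom iB := hB.1
  haveI : IsMonHom u := hU.1
  haveI : IsMonHom (u ≫ iB) := inferInstance
  obtain ⟨C, _, _, v, hv, hC, hC'⟩ := BorelLib.exists_setup G
  haveI := hv; haveI := hC; haveI := hC'
  obtain ⟨hcl, hsm, -, -, -⟩ := ObsLib.uni_data v iB hB u hU
  haveI := hcl; haveI := hsm
  obtain ⟨D, _, _, w, hw, π, hUa, hD, hD', hπ, -⟩ := ObsLib.exists_sub_data v (u ≫ iB)
  haveI := hw; haveI := hUa; haveI := hD; haveI := hD'
  letI : Module Aᵐᵒᵖ M := Module.compHom M ((RingHom.id A).fromOpposite mul_comm)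
  haveI : IsCentralScalar A M := ⟨fun a x => rfl⟩
  haveI : IsScalarTower k Aᵐᵒᵖ M := ⟨fun c a x => smul_assoc c a.unop x⟩
  obtain ⟨m, hm, hmρ⟩ := ObsLib.exists_trivMod v ρA hρ ρM hc
  have hmem : ∀ p : TrivSqZeroExt A M, p ∈ m.fixedSubalgebra hm (u ≫ iB) ↔
      p.fst ∈ ρA.fixedSubalgebra hρ (u ≫ iB) ∧ p.snd ∈ ρM.fixedUnder (u ≫ iB) := fun p => by
    refine (ObsLib.fixedUnder_iff v w hπ m p).trans ?_
    constructor
    · intro h
      refine ⟨(ObsLib.fixedUnder_iff v w hπ ρA p.fst).2 fun y => ?_,
        (ObsLib.fixedUnder_iff v w hπ ρM p.snd).2 fun y => ?_⟩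
      · simpa [hmρ] using congrArg fst (h y)
      · simpa [hmρ] using congrArg snd (h y)
    · rintro ⟨h1, h2⟩ y
      rw [hmρ, (ObsLib.fixedUnder_iff v w hπ ρA p.fst).1 h1 y, (ObsLib.fixedUnder_iff v w hπ ρM p.snd).1 h2 y,
        inl_fst_add_inr_snd_eq]
  constructor
  · intro hfin
    haveI := hfin
    haveI := ObsLib.finiteType_ext (k := k) (R := A) (M := M)
    have hF := S11208.result k G hG Bo iB hB U u hU thmA (TrivSqZeroExt A M) m hm
    obtain ⟨t, ht⟩ := (Subalgebra.fg_top _).1 hF.out
    refine ⟨t.image snd, fun x hx => ?_, fun x hx => ?_⟩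
    · obtain ⟨p, hp, rfl⟩ := Finset.mem_image.1 (Finset.mem_coe.1 hx)
      exact ((hmem p).1 (ht ▸ Algebra.subset_adjoin (Finset.mem_coe.2 hp))).2
    · have key : ∀ p ∈ Algebra.adjoin k (↑t : Set (TrivSqZeroExt A M)), p.fst ∈ ρA.fixedSubalgebra hρ (u ≫ iB) ∧
          p.snd ∈ Submodule.span ↥(ρA.fixedSubalgebra hρ (u ≫ iB)) (↑(t.image snd) : Set M) := by
        intro p hp
        refine ⟨((hmem p).1 (ht ▸ hp)).1, ?_⟩
        induction hp using Algebra.adjoin_induction with
        | mem y hy => exact Submodule.subset_span (Finset.mem_coe.2 (Finset.mem_image_of_mem _ hy))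
        | algebraMap c => rw [algebraMap_eq_inl', snd_inl]; exact zero_mem _
        | add p q _ _ hp hq => rw [snd_add]; exact add_mem hp hq
        | mul p q hp' hq' hp hq =>
          rw [snd_mul, op_smul_eq_smul]
          exact add_mem (Submodule.smul_mem _ (⟨p.fst, ((hmem p).1 (ht ▸ hp')).1⟩ : ↥(ρA.fixedSubalgebra hρ (u ≫ iB))) hq)
            (Submodule.smul_mem _ (⟨q.fst, ((hmem q).1 (ht ▸ hq')).1⟩ : ↥(ρA.fixedSubalgebra hρ (u ≫ iB))) hp)
      have h1 : (inr x : TrivSqZeroExt A M) ∈ Algebra.adjoin k (↑t : Set (TrivSqZeroExt A M)) := by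
        rw [ht, hmem]
        exact ⟨by rw [fst_inr]; exact zero_mem _, by rw [snd_inr]; exact hx⟩
      simpa using (key _ h1).2
  · rintro ⟨s, hs, hspan⟩
    have hA := S11208.result k G hG Bo iB hB U u hU thmA A ρA hρ
    obtain ⟨t, ht⟩ := (Subalgebra.fg_top _).1 hA.out
    have hmemt : ∀ a ∈ t, a ∈ ρA.fixedSubalgebra hρ (u ≫ iB) := fun a ha =>
      ht ▸ Algebra.subset_adjoin (Finset.mem_coe.2 ha)
    have heq : Algebra.adjoin k (↑(t.image inl ∪ s.image inr) : Set (TrivSqZeroExt A M)) =
        m.fixedSubalgebra hm (u ≫ iB) := by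
      refine le_antisymm (Algebra.adjoin_le fun p hp => ?_) fun p hp => ?_
      · refine (hmem p).2 ?_
        rcases Finset.mem_union.1 (Finset.mem_coe.1 hp) with h | h
        · obtain ⟨a, ha, rfl⟩ := Finset.mem_image.1 h
          exact ⟨by rw [fst_inl]; exact hmemt a ha, by rw [snd_inl]; exact zero_mem _⟩
        · obtain ⟨a, ha, rfl⟩ := Finset.mem_image.1 h
          exact ⟨by rw [fst_inr]; exact zero_mem _, by rw [snd_inr]; exact hs (Finset.mem_coe.2 ha)⟩
      obtain ⟨h1, h2⟩ := (hmem p).1 hp
      have hl : ∀ a ∈ ρA.fixedSubalgebra hρ (u ≫ iB),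
          (inl a : TrivSqZeroExt A M) ∈ Algebra.adjoin k (↑(t.image inl ∪ s.image inr) : Set (TrivSqZeroExt A M)) := by
        intro a ha
        rw [← ht] at ha
        refine (Algebra.adjoin_le (S := (Algebra.adjoin k _).comap (inlAlgHom k A M)) fun y hy => ?_) ha
        exact Algebra.subset_adjoin (Finset.mem_coe.2 (Finset.mem_union_left _ (Finset.mem_image_of_mem _ hy)))
      rw [← inl_fst_add_inr_snd_eq p]
      refine add_mem (hl _ h1) ?_
      have h3 := hspan h2
      rw [Submodule.restrictScalars_mem] at h3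
      generalize p.snd = z at h3 ⊢
      induction h3 using Submodule.span_induction with
      | mem y hy => exact Algebra.subset_adjoin (Finset.mem_coe.2 (Finset.mem_union_right _ (Finset.mem_image_of_mem _ hy)))
      | zero => rw [inr_zero]; exact zero_mem _
      | add y z _ _ e1 e2 => rw [inr_add]; exact add_mem e1 e2
      | smul a y _ e1 =>
        rw [show a • y = (a : A) • y from rfl, ← inl_mul_inr]
        exact mul_mem (hl _ a.2) e1
    haveI := S11225.result k G hG Bo iB hB U u hU thmA (TrivSqZeroExt A M) m hm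
      ⟨(Subalgebra.fg_top _).2 ⟨_, heq⟩⟩
    exact ObsLib.finite_of_finiteType_ext (k := k)

end Groth.Agent.S11236
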