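import Groth.Statements.S11227
import Groth.Agent.ObsLib.SubAlgMod
import Groth.Agent.S11236

set_option linter.style.haveILetI false
set_option backward.isDefEq.respectTransparency false
set_option backward.isDefEq.respectTransparency.types false
set_option maxHeartbeats 2000000
set_option synthInstance.maxHeartbeats 400000

set_option autoImplicit false
universe u
open CategoryTheory MonoidalCategory CartesianMonoidalCategory MonObj GrpObj AlgebraicGeometry
open scoped TensorProduct
open AGF

attribute [-instance] CategoryTheory.Hom.commGroup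

namespace Groth.Agent.S11227

attribute [local instance] BorelLib.pTop BorelLib.pTopTensor
open Groth.Agent

/-- Let k an algebraically closed field, G a linear algebraic group over k (affine, smooth) whose
identity component is reductive, B a Borel subgroup of G with unipotent radical U (a maximal
unipotent subgroup). Assume finite generation of invariants of reductive groups over k on finitely
generated algebras (a true result which the published text assumes without proof, carried here as a
hypothesis). Let A be a finitely generated commutative k-algebra with a rational action of G by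
algebra automorphisms and C a finitely generated subalgebra of A stable under G. Then integrality of
A over C is equivalent to integrality of A^U over C^U = C ∩ A^U, that is, every element of A^U is
integral over the subalgebra C ∩ A^U. -/
theorem result (k : Type u) [Field k] [IsAlgClosed k]
    (G : Over (Spec (CommRingCat.of k))) [GrpObj G] (hG : VecGrp.IsReductiveGrp k G)
    (Bo : Over (Spec (CommRingCat.of k))) [GrpObj Bo] (iB : Bo ⟶ G) (hB : Red.IsBorelOver k iB)
    (U : Over (Spec (CommRingCat.of k))) [GrpObj U] (u : U ⟶ Bo) (hU : Par.IsUnipotentRadical u)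
    (thmA : VecGrp.ReductiveInvariantsFG k)
    (A : Type u) [CommRing A] [Algebra k A] [Algebra.FiniteType k A] (ρ : VecGrp.GMod G A) (hρ : ρ.IsMult)
    (C : Subalgebra k A) (hCfg : C.FG) (hC : ρ.IsStable (𝟙 G) (Subalgebra.toSubmodule C)) :
    Algebra.IsIntegral ↥C A ↔
      ∀ x ∈ ρ.fixedUnder (u ≫ iB), IsIntegral ↥(C ⊓ ρ.fixedSubalgebra hρ (u ≫ iB)) x := by
  classical
  haveI : IsAffine G.left := hG.1
  haveI : Smooth G.hom := hG.2.1
  haveI : IsMonHom iB := hB.1
  haveI : IsMonHom u := hU.1
  haveI : IsMonHom (u ≫ iB) := inferInstance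
  obtain ⟨E, _, _, v, hv, hE, hE'⟩ := BorelLib.exists_setup G
  haveI := hv; haveI := hE; haveI := hE'
  obtain ⟨hcl, hsm, -, -, -⟩ := ObsLib.uni_data v iB hB u hU
  haveI := hcl; haveI := hsm
  obtain ⟨D, _, _, w, hw, π, hUa, hD, hD', hπ, -⟩ := ObsLib.exists_sub_data v (u ≫ iB)
  haveI := hw; haveI := hUa; haveI := hD; haveI := hD'
  haveI : Algebra.FiniteType k ↥C := ⟨(Subalgebra.fg_top _).2 hCfg⟩
  obtain ⟨mC, hmC, hrep, hcompat⟩ := ObsLib.exists_subMod v C ρ hρ hC
  set F := ρ.fixedSubalgebra hρ (u ≫ iB) with hF
  set FC := mC.fixedSubalgebra hmC (u ≫ iB) with hFCdef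
  have hFC : ∀ c : ↥C, c ∈ FC ↔ (c : A) ∈ F := fun c => by
    refine (ObsLib.fixedUnder_iff v w hπ mC c).trans (Iff.trans ?_ (ObsLib.fixedUnder_iff v w hπ ρ (c : A)).symm)
    exact ⟨fun h y => by rw [← hrep, h y], fun h y => Subtype.ext (by rw [hrep, h y])⟩
  let S : Subalgebra ↥(C ⊓ F) A :=
    { carrier := {x | x ∈ F}
      mul_mem' := fun {p q} hp hq => F.mul_mem hp hq
      add_mem' := fun {p q} hp hq => F.add_mem hp hq
      algebraMap_mem' := fun c => c.2.2 }
  have key := S11236.result k G hG Bo iB hB U u hU thmA ↥C mC hmC A ρ hcompat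
  constructor
  · intro hint x hx
    haveI := hint
    haveI : Algebra.FiniteType ↥C A := Algebra.FiniteType.of_restrictScalars_finiteType k ↥C A
    haveI : Module.Finite ↥C A := Algebra.IsIntegral.finite
    obtain ⟨s, hs, hspan⟩ := key.1 inferInstance
    refine IsIntegral.of_mem_of_fg S ⟨s, le_antisymm (Submodule.span_le.2 fun y hy => hs hy) fun y hy => ?_⟩ x hx
    have h := hspan (show y ∈ ρ.fixedUnder (u ≫ iB) from hy)
    rw [Submodule.restrictScalars_mem] at h
    clear hy
    induction h using Submodule.span_induction with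
    | mem z hz => exact Submodule.subset_span hz
    | zero => exact zero_mem _
    | add p q _ _ hp hq => exact add_mem hp hq
    | smul a z _ hz =>
      exact Submodule.smul_mem _ (⟨((a : ↥C) : A), (a : ↥C).2, (hFC _).1 a.2⟩ : ↥(C ⊓ F)) hz
  · intro h
    have hA := S11208.result k G hG Bo iB hB U u hU thmA A ρ hρ
    obtain ⟨t, ht⟩ := (Subalgebra.fg_top _).1 hA.out
    have htF : ∀ a ∈ t, a ∈ F := fun a ha => ht.le (Algebra.subset_adjoin (Finset.mem_coe.2 ha))
    obtain ⟨G', hG'⟩ := fg_adjoin_of_finite (R := ↥(C ⊓ F)) t.finite_toSet fun a ha => h a (htF a ha)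
    have hle : Algebra.adjoin ↥(C ⊓ F) (↑t : Set A) ≤ S := Algebra.adjoin_le fun a ha => htF a ha
    haveI : Module.Finite ↥C A := key.2 ⟨G', fun g hg => hle (hG'.le (Submodule.subset_span hg)), fun y hy => by
      have hy' : y ∈ Algebra.adjoin k (↑t : Set A) := ht.symm ▸ hy
      have h2 : y ∈ Algebra.adjoin ↥(C ⊓ F) (↑t : Set A) :=
        (Algebra.adjoin_le (S := (Algebra.adjoin ↥(C ⊓ F) (↑t : Set A)).restrictScalars k)
          fun a ha => Algebra.subset_adjoin (Finset.mem_coe.2 ha)) hy'
      have h3 : y ∈ Submodule.span ↥(C ⊓ F) (↑G' : Set A) := hG'.symm.le h2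
      rw [Submodule.restrictScalars_mem]
      clear hy hy' h2
      induction h3 using Submodule.span_induction with
      | mem z hz => exact Submodule.subset_span hz
      | zero => exact zero_mem _
      | add p q _ _ hp hq => exact add_mem hp hq
      | smul a z _ hz =>
        exact Submodule.smul_mem _ (⟨⟨(a : A), a.2.1⟩, (hFC _).2 a.2.2⟩ : ↥FC) hz⟩
    exact inferInstance

end Groth.Agent.S11227
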