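import Groth.Statements.S11228
import Groth.Agent.ObsLib.StableAlg
import Groth.Agent.S11227

set_option linter.style.haveILetI false
set_option backward.isDefEq.respectTransparency false
set_option backward.isDefEq.respectTransparency.types false
set_option maxHeartbeats 2000000
set_option synthInstance.maxHeartbeats 400000

set_option autoImplicit false
universe u
open CategoryTheory MonoidalCategory CartesianMonoidalCategory MonObj GrpObj AlgebraicGeometry
open scoped TensorProduct
open AGF

attribute [-instance] CategoryTheory.Hom.commGroup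

namespace Groth.Agent.S11228

attribute [local instance] BorelLib.pTop BorelLib.pTopTensor
open Groth.Agent

/-- Let k an algebraically closed field, G a linear algebraic group over k (affine, smooth) whose
identity component is reductive, B a Borel subgroup of G with unipotent radical U (a maximal
unipotent subgroup). Assume finite generation of invariants of reductive groups over k on finitely
generated algebras (a true result which the published text assumes without proof, carried here as a
hypothesis). Let A be a commutative k-algebra with a rational action of G by algebra automorphisms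
and let G·A^U be the intersection of all G-stable subalgebras of A containing the invariants A^U.
Then A is integral over G·A^U. -/
theorem result (k : Type u) [Field k] [IsAlgClosed k]
    (G : Over (Spec (CommRingCat.of k))) [GrpObj G] (hG : VecGrp.IsReductiveGrp k G)
    (Bo : Over (Spec (CommRingCat.of k))) [GrpObj Bo] (iB : Bo ⟶ G) (hB : Red.IsBorelOver k iB)
    (U : Over (Spec (CommRingCat.of k))) [GrpObj U] (u : U ⟶ Bo) (hU : Par.IsUnipotentRadical u)
    (thmA : VecGrp.ReductiveInvariantsFG k)
    (A : Type u) [CommRing A] [Algebra k A] (ρ : VecGrp.GMod G A) (hρ : ρ.IsMult) :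
    Algebra.IsIntegral
      ↥(sInf {S : Subalgebra k A | ρ.fixedUnder (u ≫ iB) ≤ Subalgebra.toSubmodule S ∧
        ρ.IsStable (𝟙 G) (Subalgebra.toSubmodule S)}) A := by
  classical
  haveI : IsAffine G.left := hG.1
  haveI : Smooth G.hom := hG.2.1
  haveI : IsMonHom iB := hB.1
  haveI : IsMonHom u := hU.1
  haveI : IsMonHom (u ≫ iB) := inferInstance
  obtain ⟨E, _, _, v, hv, hE, hE'⟩ := BorelLib.exists_setup G
  haveI := hv; haveI := hE; haveI := hE'
  obtain ⟨hcl, hsm, -, -, -⟩ := ObsLib.uni_data v iB hB u hU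
  haveI := hcl; haveI := hsm
  obtain ⟨D, _, _, w, hw, π, hUa, hD, hD', hπ, -⟩ := ObsLib.exists_sub_data v (u ≫ iB)
  haveI := hw; haveI := hUa; haveI := hD; haveI := hD'
  set S0 : Subalgebra k A := sInf {S : Subalgebra k A | ρ.fixedUnder (u ≫ iB) ≤ Subalgebra.toSubmodule S ∧
        ρ.IsStable (𝟙 G) (Subalgebra.toSubmodule S)} with hS0
  have hfixS0 : ∀ a ∈ ρ.fixedUnder (u ≫ iB), a ∈ S0 := fun a ha => by
    rw [hS0, ← SetLike.mem_coe, Algebra.coe_sInf, Set.mem_iInter₂]
    intro S hS
    exact hS.1 ha
  have hstS0 : ∀ x, ∀ a ∈ S0, (ObsLib.toRep v ρ).ρ x a ∈ S0 := fun x a ha => by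
    rw [hS0, ← SetLike.mem_coe, Algebra.coe_sInf, Set.mem_iInter₂] at ha ⊢
    intro S hS
    exact ObsLib.pts_of_isStable v ρ hS.2 x (ha S hS)
  refine ⟨fun a => ?_⟩
  -- a finitely generated stable subalgebra containing the element
  obtain ⟨A', hA'fg, haA', hA'st, -⟩ := ObsLib.exists_stable_fg v ρ hρ {a}
  haveI : Algebra.FiniteType k ↥A' := ⟨(Subalgebra.fg_top _).2 hA'fg⟩
  obtain ⟨mA, hmA, hrep, -⟩ := ObsLib.exists_subMod v A' ρ hρ hA'st
  have hF := S11208.result k G hG Bo iB hB U u hU thmA ↥A' mA hmA
  obtain ⟨s, hs⟩ := (Subalgebra.fg_top _).1 hF.out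
  have hsF : ∀ c ∈ s, c ∈ mA.fixedSubalgebra hmA (u ≫ iB) := fun c hc =>
    hs.le (Algebra.subset_adjoin (Finset.mem_coe.2 hc))
  obtain ⟨C, hCfg, hsC, hCst, hCmin⟩ := ObsLib.exists_stable_fg v mA hmA s
  have hCS : C ≤ S0.comap A'.val := by
    refine hCmin _ (fun c hc => ?_) fun x c hc => ?_
    · refine hfixS0 _ ((ObsLib.fixedUnder_iff v w hπ ρ (c : A)).2 fun y => ?_)
      rw [← hrep, (ObsLib.fixedUnder_iff v w hπ mA c).1 (hsF c (Finset.mem_coe.1 hc)) y]
    · show (((ObsLib.toRep v mA).ρ x c : ↥A') : A) ∈ S0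
      rw [hrep]
      exact hstS0 x _ hc
  have hint := (S11227.result k G hG Bo iB hB U u hU thmA ↥A' mA hmA C hCfg hCst).2 fun x hx => by
    have hx' : x ∈ C ⊓ mA.fixedSubalgebra hmA (u ≫ iB) := by
      refine ⟨?_, hx⟩
      have h : x ∈ Algebra.adjoin k (↑s : Set ↥A') := hs.symm ▸ hx
      exact (Algebra.adjoin_le (S := C) hsC) h
    exact isIntegral_algebraMap (R := ↥(C ⊓ mA.fixedSubalgebra hmA (u ≫ iB))) (x := ⟨x, hx'⟩)
  have h := hint.isIntegral ⟨a, haA' (Finset.mem_coe.2 (Finset.mem_singleton_self a))⟩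
  exact h.map_of_comp_eq ((A'.val.comp C.val).codRestrict S0 fun c => hCS c.2).toRingHom A'.val.toRingHom
    (RingHom.ext fun c => rfl)

end Groth.Agent.S11228
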