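import Groth.Statements.S11229
import Groth.Agent.ObsLib.UFixed
-- import your own Groth.Agent.* helpers here

set_option autoImplicit false
set_option linter.style.haveILetI false
set_option backward.isDefEq.respectTransparency false
set_option backward.isDefEq.respectTransparency.types false
set_option maxHeartbeats 2000000
set_option synthInstance.maxHeartbeats 400000
universe u
open CategoryTheory MonoidalCategory CartesianMonoidalCategory MonObj GrpObj AlgebraicGeometry
open scoped TensorProduct
open AGF

attribute [-instance] CategoryTheory.Hom.commGroup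

namespace Groth.Agent.S11229

attribute [local instance] BorelLib.pTop BorelLib.pTopTensor
open Groth.Agent CoactBr

/-- Let k an algebraically closed field, G a connected reductive linear algebraic group over k, B a
Borel subgroup of G with unipotent radical U (a maximal unipotent subgroup), and let A be a
commutative k-algebra with a rational action of G by algebra automorphisms. Then A has a nonzero
nilpotent element if and only if A^U does; equivalently A is reduced if and only if A^U is reduced. -/
theorem result (k : Type u) [Field k] [IsAlgClosed k]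
    (G : Over (Spec (CommRingCat.of k))) [GrpObj G] (hG : Red.IsReductiveOver k G)
    (Bo : Over (Spec (CommRingCat.of k))) [GrpObj Bo] (iB : Bo ⟶ G) (hB : Red.IsBorelOver k iB)
    (U : Over (Spec (CommRingCat.of k))) [GrpObj U] (u : U ⟶ Bo) (hU : Par.IsUnipotentRadical u)
    (A : Type u) [CommRing A] [Algebra k A] (ρ : VecGrp.GMod G A) (hρ : ρ.IsMult) :
    IsReduced A ↔ IsReduced ↥(ρ.fixedSubalgebra hρ (u ≫ iB)) := by
  obtain ⟨hGa, hGs, -, -⟩ := id hG
  haveI := hGa; haveI := hGs
  haveI : IsMonHom iB := hB.1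
  haveI : IsMonHom u := hU.1
  obtain ⟨R, _, _, v, hv, hR, hR'⟩ := BorelLib.exists_setup G
  haveI := hv; haveI := hR; haveI := hR'
  obtain ⟨hc, hUs, hK, hsol, huni⟩ := ObsLib.uni_data v iB hB u hU
  haveI := hc; haveI := hUs
  obtain ⟨B', _, _, w, hw, π, hUa, hB1, hB2, hπ, -⟩ := ObsLib.exists_sub_data v (u ≫ iB)
  haveI := hw; haveI := hUa; haveI := hB1; haveI := hB2
  set F := ρ.fixedSubalgebra hρ (u ≫ iB)
  let r := ObsLib.toRep v ρ
  have hmem : ∀ x, x ∈ F ↔ ∀ g ∈ BorelLib.ptsSub v (u ≫ iB), r.ρ g x = x := fun x =>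
    (ObsLib.fixedUnder_iff v w hπ ρ x).trans ⟨fun h g hg => by
      obtain ⟨y, rfl⟩ := (ObsLib.mem_sub_iff v w hπ).1 hg
      exact h y, fun h y => h _ (ObsLib.pull_mem v w hπ y)⟩
  constructor
  · intro h
    exact isReduced_of_injective F.val Subtype.val_injective
  · intro h
    refine ⟨fun x hx => ?_⟩
    by_contra hx0
    haveI := ObsLib.finiteDimensional_orbit v ρ x
    let N : Submodule k A := (nilradical A).restrictScalars k
    have hNs : r.Stable (BorelLib.ptsSub v (u ≫ iB)) N := fun g _ y hy => by
      obtain ⟨n, hn⟩ := (mem_nilradical.1 hy : IsNilpotent y)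
      show r.ρ g y ∈ nilradical A
      rw [mem_nilradical]
      refine ⟨n + 1, ?_⟩
      have hpow : ∀ m, r.ρ g (y ^ (m + 1)) = r.ρ g y ^ (m + 1) := fun m => by
        induction m with
        | zero => simp
        | succ m ih => rw [pow_succ, ObsLib.toRep_mul v ρ hρ, ih, ← pow_succ]
      rw [← hpow, pow_succ, hn, zero_mul, map_zero]
    obtain ⟨y, -, hyN, hy0, hyf⟩ := ObsLib.exists_fixed r hK hsol huni (ObsLib.stable_orbit v ρ x)
      ((Submodule.ne_bot_iff _).2 ⟨x, ObsLib.mem_orbit v ρ x, hx0⟩) hNs
      ((Submodule.ne_bot_iff _).2 ⟨x, ⟨ObsLib.mem_orbit v ρ x, mem_nilradical.2 hx⟩, hx0⟩)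
    obtain ⟨n, hn⟩ := (mem_nilradical.1 hyN : IsNilpotent y)
    exact hy0 (congrArg Subtype.val
      (IsNilpotent.eq_zero (x := (⟨y, (hmem y).2 hyf⟩ : F)) ⟨n, Subtype.ext (by simpa using hn)⟩))

end Groth.Agent.S11229
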