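import Groth.Statements.S11230
import Groth.Agent.ObsLib.UFixed
-- import your own Groth.Agent.* helpers here

set_option autoImplicit false
set_option linter.style.haveILetI false
set_option backward.isDefEq.respectTransparency false
set_option backward.isDefEq.respectTransparency.types false
set_option maxHeartbeats 2000000
set_option synthInstance.maxHeartbeats 400000
universe u
open CategoryTheory MonoidalCategory CartesianMonoidalCategory MonObj GrpObj AlgebraicGeometry
open scoped TensorProduct
open AGF

attribute [-instance] CategoryTheory.Hom.commGroup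

namespace Groth.Agent.S11230

attribute [local instance] BorelLib.pTop BorelLib.pTopTensor
open Groth.Agent CoactBr

/-- Let k an algebraically closed field, G a connected reductive linear algebraic group over k, B a
Borel subgroup of G with unipotent radical U (a maximal unipotent subgroup), and let A be a
commutative k-algebra with a rational action of G by algebra automorphisms. Then A has zero divisors
(two nonzero elements with product zero) if and only if the algebra of invariants A^U does. -/
theorem result (k : Type u) [Field k] [IsAlgClosed k]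
    (G : Over (Spec (CommRingCat.of k))) [GrpObj G] (hG : Red.IsReductiveOver k G)
    (Bo : Over (Spec (CommRingCat.of k))) [GrpObj Bo] (iB : Bo ⟶ G) (hB : Red.IsBorelOver k iB)
    (U : Over (Spec (CommRingCat.of k))) [GrpObj U] (u : U ⟶ Bo) (hU : Par.IsUnipotentRadical u)
    (A : Type u) [CommRing A] [Algebra k A] (ρ : VecGrp.GMod G A) (hρ : ρ.IsMult) :
    (∃ a b : A, a ≠ 0 ∧ b ≠ 0 ∧ a * b = 0) ↔
      ∃ a b : ↥(ρ.fixedSubalgebra hρ (u ≫ iB)), a ≠ 0 ∧ b ≠ 0 ∧ a * b = 0 := by
  obtain ⟨hGa, hGs, -, -⟩ := id hG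
  haveI := hGa; haveI := hGs
  haveI : IsMonHom iB := hB.1
  haveI : IsMonHom u := hU.1
  obtain ⟨R, _, _, v, hv, hR, hR'⟩ := BorelLib.exists_setup G
  haveI := hv; haveI := hR; haveI := hR'
  obtain ⟨hc, hUs, hK, hsol, huni⟩ := ObsLib.uni_data v iB hB u hU
  haveI := hc; haveI := hUs
  obtain ⟨B', _, _, w, hw, π, hUa, hB1, hB2, hπ, -⟩ := ObsLib.exists_sub_data v (u ≫ iB)
  haveI := hw; haveI := hUa; haveI := hB1; haveI := hB2
  set F := ρ.fixedSubalgebra hρ (u ≫ iB)
  let r := ObsLib.toRep v ρ
  have hmem : ∀ x, x ∈ F ↔ ∀ g ∈ BorelLib.ptsSub v (u ≫ iB), r.ρ g x = x := fun x =>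
    (ObsLib.fixedUnder_iff v w hπ ρ x).trans ⟨fun h g hg => by
      obtain ⟨y, rfl⟩ := (ObsLib.mem_sub_iff v w hπ).1 hg
      exact h y, fun h y => h _ (ObsLib.pull_mem v w hπ y)⟩
  constructor
  · rintro ⟨a, b, ha, hb, hab⟩
    obtain ⟨a', b', ha', hb', hab', haf, hbf⟩ := ObsLib.exists_fixed_zeroDivisor v ρ hρ hK hsol huni ha hb hab
    exact ⟨⟨a', (hmem a').2 haf⟩, ⟨b', (hmem b').2 hbf⟩, fun h => ha' (congrArg Subtype.val h),
      fun h => hb' (congrArg Subtype.val h), Subtype.ext hab'⟩
  · rintro ⟨a, b, ha, hb, hab⟩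
    exact ⟨a, b, fun h => ha (Subtype.ext h), fun h => hb (Subtype.ext h), congrArg Subtype.val hab⟩

end Groth.Agent.S11230
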