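import Groth.Statements.S11231
import Groth.Agent.ObsLib.UFixed
-- import your own Groth.Agent.* helpers here

set_option autoImplicit false
set_option linter.style.haveILetI false
set_option backward.isDefEq.respectTransparency false
set_option backward.isDefEq.respectTransparency.types false
set_option maxHeartbeats 2000000
set_option synthInstance.maxHeartbeats 400000
universe u
open CategoryTheory MonoidalCategory CartesianMonoidalCategory MonObj GrpObj AlgebraicGeometry
open scoped TensorProduct
open AGF

attribute [-instance] CategoryTheory.Hom.commGroup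

namespace Groth.Agent.S11231

attribute [local instance] BorelLib.pTop BorelLib.pTopTensor
open Groth.Agent CoactBr

/-- Let k an algebraically closed field, G a connected reductive linear algebraic group over k, B a
Borel subgroup of G with unipotent radical U (a maximal unipotent subgroup), and let A be a
commutative k-algebra with a rational action of G by algebra automorphisms. If A is an integrally
closed domain then so is A^U. (The published statement is for A normal; its proof reduces to the
case of a domain, which is the case stated here.) -/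
theorem result (k : Type u) [Field k] [IsAlgClosed k]
    (G : Over (Spec (CommRingCat.of k))) [GrpObj G] (hG : Red.IsReductiveOver k G)
    (Bo : Over (Spec (CommRingCat.of k))) [GrpObj Bo] (iB : Bo ⟶ G) (hB : Red.IsBorelOver k iB)
    (U : Over (Spec (CommRingCat.of k))) [GrpObj U] (u : U ⟶ Bo) (hU : Par.IsUnipotentRadical u)
    (A : Type u) [CommRing A] [IsDomain A] [Algebra k A] [IsIntegrallyClosed A]
    (ρ : VecGrp.GMod G A) (hρ : ρ.IsMult) :
    IsIntegrallyClosed ↥(ρ.fixedSubalgebra hρ (u ≫ iB)) := by
  obtain ⟨hGa, hGs, -, -⟩ := id hG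
  haveI := hGa; haveI := hGs
  haveI : IsMonHom iB := hB.1
  haveI : IsMonHom u := hU.1
  obtain ⟨R, _, _, v, hv, hR, hR'⟩ := BorelLib.exists_setup G
  haveI := hv; haveI := hR; haveI := hR'
  obtain ⟨hc, hUs, hK, hsol, huni⟩ := ObsLib.uni_data v iB hB u hU
  haveI := hc; haveI := hUs
  obtain ⟨B', _, _, w, hw, π, hUa, hB1, hB2, hπ, -⟩ := ObsLib.exists_sub_data v (u ≫ iB)
  haveI := hw; haveI := hUa; haveI := hB1; haveI := hB2
  set F := ρ.fixedSubalgebra hρ (u ≫ iB)
  let r := ObsLib.toRep v ρ
  have hmem : ∀ x, x ∈ F ↔ ∀ g ∈ BorelLib.ptsSub v (u ≫ iB), r.ρ g x = x := fun x =>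
    (ObsLib.fixedUnder_iff v w hπ ρ x).trans ⟨fun h g hg => by
      obtain ⟨y, rfl⟩ := (ObsLib.mem_sub_iff v w hπ).1 hg
      exact h y, fun h y => h _ (ObsLib.pull_mem v w hπ y)⟩
  refine (isIntegrallyClosed_iff (FractionRing F)).2 fun {x} hx => ?_
  obtain ⟨a, b, hb, rfl⟩ := IsFractionRing.div_surjective (A := F) x
  have hb0 : (b : A) ≠ 0 := fun h => nonZeroDivisors.ne_zero hb (Subtype.ext h)
  have hinj : Function.Injective ((algebraMap A (FractionRing A)).comp F.val.toRingHom) :=
    (IsFractionRing.injective A (FractionRing A)).comp Subtype.val_injective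
  let φ : FractionRing F →+* FractionRing A := IsFractionRing.lift hinj
  have hφ : ∀ y : F, φ (algebraMap F (FractionRing F) y) = algebraMap A (FractionRing A) (y : A) := fun y =>
    IsFractionRing.lift_algebraMap hinj y
  obtain ⟨p, hpm, hpe⟩ := hx
  have hi : IsIntegral A (φ (algebraMap F (FractionRing F) a / algebraMap F (FractionRing F) b)) := by
    refine ⟨p.map F.val.toRingHom, hpm.map _, ?_⟩
    rw [Polynomial.eval₂_map, show (algebraMap A (FractionRing A)).comp F.val.toRingHom =
      φ.comp (algebraMap F (FractionRing F)) from RingHom.ext fun y => (hφ y).symm, ← Polynomial.hom_eval₂, hpe,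
      map_zero]
  obtain ⟨c, hc⟩ := IsIntegrallyClosed.isIntegral_iff.1 hi
  have hne : algebraMap A (FractionRing A) (b : A) ≠ 0 := fun h =>
    hb0 (IsFractionRing.injective A (FractionRing A) (h.trans (map_zero _).symm))
  rw [map_div₀, hφ, hφ, eq_div_iff hne, ← map_mul] at hc
  have hcb : c * (b : A) = (a : A) := IsFractionRing.injective A (FractionRing A) hc
  have hcF : c ∈ F := (hmem c).2 fun g hg => by
    refine mul_right_cancel₀ hb0 ?_
    conv_rhs => rw [hcb, ← (hmem _).1 a.2 g hg, ← hcb, ObsLib.toRep_mul v ρ hρ, (hmem _).1 b.2 g hg]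
  refine ⟨⟨c, hcF⟩, ?_⟩
  have hnb : algebraMap F (FractionRing F) b ≠ 0 := IsFractionRing.to_map_ne_zero_of_mem_nonZeroDivisors hb
  rw [eq_div_iff hnb, ← map_mul]
  exact congrArg _ (Subtype.ext hcb)

end Groth.Agent.S11231
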