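import Groth.Statements.S11232
import Groth.Agent.ObsLib.GLHom
-- import your own Groth.Agent.* helpers here

set_option autoImplicit false
set_option linter.style.haveILetI false
set_option backward.isDefEq.respectTransparency false
set_option backward.isDefEq.respectTransparency.types false
set_option maxHeartbeats 2000000
set_option synthInstance.maxHeartbeats 400000
universe u
open CategoryTheory MonoidalCategory CartesianMonoidalCategory MonObj GrpObj AlgebraicGeometry
open scoped TensorProduct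
open AGF

attribute [-instance] CategoryTheory.Hom.commGroup

namespace Groth.Agent.S11232

attribute [local instance] BorelLib.pTop BorelLib.pTopTensor
open Groth.Agent CoactBr

/-- Let k be an algebraically closed field, G a connected linear algebraic group over k (affine, smooth,
connected) admitting no nontrivial character (every homomorphism to the multiplicative group is
trivial), and A a commutative k-algebra which is a unique factorization domain whose group of units
consists of the nonzero scalars, carrying a rational action of G by algebra automorphisms. Then the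
algebra of invariants A^G is a unique factorization domain. -/
theorem result (k : Type u) [Field k] [IsAlgClosed k]
    (G : Over (Spec (CommRingCat.of k))) [GrpObj G] [IsAffine G.left] [Smooth G.hom] [ConnectedSpace G.left]
    (hχ : ∀ χ : G ⟶ Red.Gm (Spec (CommRingCat.of k)), IsMonHom χ → χ = 1)
    (A : Type u) [CommRing A] [IsDomain A] [Algebra k A] [UniqueFactorizationMonoid A]
    (hunits : ∀ x : Aˣ, (x : A) ∈ Set.range (algebraMap k A))
    (ρ : VecGrp.GMod G A) (hρ : ρ.IsMult) :
    UniqueFactorizationMonoid ↥(ρ.fixedSubalgebra hρ (𝟙 G)) := by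
  classical
  obtain ⟨R, _, _, v, hv, hR, hR'⟩ := BorelLib.exists_setup G
  haveI := hv; haveI := hR; haveI := hR'
  have hπ : v.hom ≫ 𝟙 G = ObsLib.gpt v (AlgHom.id k R) := by
    rw [Category.comp_id, ObsLib.gpt, CoactBr.pt_id]
    exact (Category.id_comp _).symm
  haveI : IsClosedImmersion (𝟙 G : G ⟶ G).left := inferInstanceAs (IsClosedImmersion (𝟙 G.left))
  set F := ρ.fixedSubalgebra hρ (𝟙 G)
  let r := ObsLib.toRep v ρ
  have hmem : ∀ a, a ∈ F ↔ ∀ g, r.ρ g a = a := fun a => ObsLib.fixedUnder_iff v v hπ ρ a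
  have hmul : ∀ g a b, r.ρ g (a * b) = r.ρ g a * r.ρ g b := fun g a b => by
    refine (TensorProduct.lid k A).symm.injective ?_
    show (1 : k) ⊗ₜ[k] r.ρ g (a * b) = (1 : k) ⊗ₜ[k] (r.ρ g a * r.ρ g b)
    have h := (hρ k (ObsLib.ptk v g)).1 ((1 : k) ⊗ₜ[k] a) ((1 : k) ⊗ₜ[k] b)
    rw [Algebra.TensorProduct.tmul_mul_tmul, _root_.one_mul, ObsLib.rho_ptk, ObsLib.rho_ptk, ObsLib.rho_ptk,
      Algebra.TensorProduct.tmul_mul_tmul, _root_.one_mul] at h
    exact h
  let e : BorelLib.Pt k R → A ≃* A := fun g =>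
    { toFun := r.ρ g
      invFun := r.ρ g⁻¹
      left_inv := fun a => r.inv_apply trivial a
      right_inv := fun a => by simpa using r.inv_apply (g := g⁻¹) trivial a
      map_mul' := hmul g }
  have hconn : _root_.IsPreconnected (Set.univ : Set (BorelLib.Pt k R)) := BorelLib.isPreconnected_univ_of_connected v
  have hfix : ∀ a ∈ F, a ≠ 0 → ∀ p, Prime p → p ∣ a → p ∈ F := by
    intro a ha ha0 p hp hpa
    let f := UniqueFactorizationMonoid.factors a
    have hf : Associated f.prod a := UniqueFactorizationMonoid.factors_prod ha0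
    let C : A → Set (BorelLib.Pt k R) := fun q => {g | ∃ c : k, r.ρ g p = c • q}
    have hC : ∀ q, q ≠ 0 → IsClosed (C q) := fun q hq => by
      have e1 : C q = ⋂ φ : A →ₗ[k] k, ⋂ ψ : A →ₗ[k] k, {g | φ (r.ρ g p) * ψ q = ψ (r.ρ g p) * φ q} := by
        ext g
        simp only [C, Set.mem_iInter, Set.mem_ofPred_eq, ← BorelLib.exists_eq_smul_iff hq]
      rw [e1]
      exact isClosed_iInter fun φ => isClosed_iInter fun ψ =>
        ((r.reg φ p).mul (BorelLib.IsReg.const _)).isClosed_eq ((r.reg ψ p).mul (BorelLib.IsReg.const _))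
    have hcov : ∀ g, ∃ q ∈ f, g ∈ C q := fun g => by
      have h1 : Prime (r.ρ g p) := (MulEquiv.prime_iff (e g)).2 hp
      have h2 : r.ρ g p ∣ a := by
        have h3 : e g p ∣ e g a := map_dvd (e g) hpa
        change r.ρ g p ∣ r.ρ g a at h3
        rwa [(hmem a).1 ha g] at h3
      obtain ⟨q, hq, hpq⟩ := h1.exists_mem_multiset_dvd (hf.dvd_iff_dvd_right.2 h2)
      obtain ⟨u, hu⟩ := h1.associated_of_dvd (UniqueFactorizationMonoid.prime_of_factor q hq) hpq
      obtain ⟨c, hc⟩ := hunits u
      have hc0 : c ≠ 0 := fun h0 => u.ne_zero (by rw [← hc, h0, map_zero])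
      refine ⟨q, hq, c⁻¹, ?_⟩
      rw [← hu, ← hc, ← Algebra.commutes, ← Algebra.smul_def, smul_smul, inv_mul_cancel₀ hc0, one_smul]
    have hp1 : (1 : BorelLib.Pt k R) ∈ C p := ⟨1, by rw [r.map_one, one_smul]; rfl⟩
    have hclopen : IsClopen (C p) := by
      refine ⟨hC p hp.ne_zero, ?_⟩
      let T := f.toFinset.filter fun q => ¬ ∃ c : k, q = c • p
      have h4 : (C p)ᶜ = ⋃ q ∈ T, C q := by
        ext g
        simp only [Set.mem_compl_iff, Set.mem_iUnion, T, Finset.mem_filter, Multiset.mem_toFinset, exists_prop, C,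
          Set.mem_ofPred_eq]
        constructor
        · intro hg
          obtain ⟨q, hq, c, hc⟩ := hcov g
          refine ⟨q, ⟨hq, fun ⟨d, hd⟩ => hg ⟨c * d, by rw [hc, hd, smul_smul]⟩⟩, c, hc⟩
        · rintro ⟨q, ⟨-, hq⟩, c, hc⟩ ⟨d, hd⟩
          have hc0 : c ≠ 0 := fun h0 => r.apply_ne_zero (g := g) trivial hp.ne_zero (by rw [hc, h0, zero_smul])
          exact hq ⟨c⁻¹ * d, by rw [← smul_smul, ← hd, hc, smul_smul, inv_mul_cancel₀ hc0, one_smul]⟩
      rw [← isClosed_compl_iff, h4]
      refine Set.Finite.isClosed_biUnion T.finite_toSet fun q hq => hC q ?_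
      exact (UniqueFactorizationMonoid.prime_of_factor q
        (Multiset.mem_toFinset.1 (Finset.mem_filter.1 hq).1)).ne_zero
    haveI : PreconnectedSpace (BorelLib.Pt k R) := ⟨hconn⟩
    have hall : C p = Set.univ := hclopen.eq_univ ⟨1, hp1⟩
    choose χ hχp using fun g => (hall.symm ▸ Set.mem_univ g : g ∈ C p)
    obtain ⟨b, hb, hb1⟩ := ObsLib.semiInv_of_weight (S := (⊤ : Subgroup (BorelLib.Pt k R))) r hp.ne_zero
      (χ := χ) fun g _ => hχp g
    obtain ⟨c, hcm, hc⟩ := ObsLib.exists_char v v hπ (fun x h _ => hb x h trivial) hb1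
    haveI := hcm
    refine (hmem p).2 fun g => ?_
    rw [hχp g]
    have h5 : χ g = 1 := (hc g).symm.trans ((ObsLib.chi_values v c).2 (hχ c hcm) g)
    rw [h5, one_smul]
  have hunitF : ∀ x : A, IsUnit x → x ∈ F := fun x hx => by
    obtain ⟨c, hc⟩ := hunits hx.unit
    rw [show x = algebraMap k A c from hc.symm]
    exact F.algebraMap_mem c
  refine UniqueFactorizationMonoid.of_exists_prime_factors fun a ha0 => ?_
  have ha0' : (a : A) ≠ 0 := fun h => ha0 (Subtype.ext h)
  let f := UniqueFactorizationMonoid.factors (a : A)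
  obtain ⟨u, hu⟩ : Associated f.prod (a : A) := UniqueFactorizationMonoid.factors_prod ha0'
  have hfF : ∀ q ∈ f, q ∈ F := fun q hq => hfix a a.2 ha0' q (UniqueFactorizationMonoid.prime_of_factor q hq)
    ((Multiset.dvd_prod hq).trans ⟨u, hu.symm⟩)
  have hdvd : ∀ q x : F, (q : A) ∣ (x : A) → q ≠ 0 → q ∣ x := by
    rintro q x ⟨z, hz⟩ hq0
    refine ⟨⟨z, (hmem z).2 fun g => ?_⟩, Subtype.ext hz⟩
    refine mul_left_cancel₀ (a := (q : A)) (fun h => hq0 (Subtype.ext h)) ?_
    rw [← hz]
    conv_rhs => rw [← (hmem _).1 x.2 g, hz, hmul, (hmem _).1 q.2 g]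
  refine ⟨f.attach.map fun q => ⟨q.1, hfF q.1 q.2⟩, fun b hb => ?_, ?_⟩
  · obtain ⟨⟨q, hq⟩, -, rfl⟩ := Multiset.mem_map.1 hb
    have hqp := UniqueFactorizationMonoid.prime_of_factor q hq
    refine ⟨fun h => hqp.ne_zero (congrArg Subtype.val h), fun h => hqp.not_unit (h.map F.val), fun x y hxy => ?_⟩
    have hne : (⟨q, hfF q hq⟩ : F) ≠ 0 := fun h => hqp.ne_zero (congrArg Subtype.val h)
    rcases hqp.dvd_or_dvd (a := (x : A)) (b := (y : A)) (by simpa using map_dvd F.val hxy) with h | h
    · exact Or.inl (hdvd _ x h hne)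
    · exact Or.inr (hdvd _ y h hne)
  · let uF : (↥F)ˣ :=
      { val := ⟨u, hunitF _ u.isUnit⟩
        inv := ⟨(u⁻¹ : Aˣ), hunitF _ (u⁻¹).isUnit⟩
        val_inv := Subtype.ext u.mul_inv
        inv_val := Subtype.ext u.inv_mul }
    refine ⟨uF, Subtype.ext ?_⟩
    rw [MulMemClass.coe_mul]
    refine Eq.trans ?_ hu
    congr 1
    show F.val (Multiset.prod _) = f.prod
    rw [map_multiset_prod, Multiset.map_map]
    exact congrArg Multiset.prod f.attach_map_val

end Groth.Agent.S11232
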