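import Groth.Statements.S11233
import Mathlib.Algebra.MvPolynomial.Funext
import Mathlib.LinearAlgebra.Matrix.NonsingularInverse
import Mathlib.FieldTheory.IsAlgClosed.Basic
-- import your own Groth.Agent.* helpers here

set_option autoImplicit false
set_option linter.style.haveILetI false
universe u
open CAlg

namespace Groth.Agent.S11233

/-- Let k be an algebraically closed field, A an integral domain which is a k-algebra, T an m by m
matrix over A with invertible determinant, and let the additive group k^m act on the polynomial ring
A[y_1, ..., y_m] by the A-algebra maps y_s ↦ y_s + Σ_r h_r T_rs. Then the only invariant polynomials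
are the constants: a polynomial fixed by all these substitutions lies in A. -/
theorem result (k : Type u) [Field k] [IsAlgClosed k]
    (A : Type u) [CommRing A] [IsDomain A] [Algebra k A] (m : ℕ) (T : Matrix (Fin m) (Fin m) A)
    (hT : IsUnit T.det) (f : MvPolynomial (Fin m) A)
    (hf : ∀ h : Fin m → k, MvPolynomial.aeval
      (fun s : Fin m => MvPolynomial.X s + MvPolynomial.C (∑ r : Fin m, algebraMap k A (h r) * T r s)) f = f) :
    ∃ a : A, f = MvPolynomial.C a := by
  classical
  let τ : Matrix (Fin m) (Fin m) A → (MvPolynomial (Fin m) A →ₐ[A] MvPolynomial (Fin m) A) := fun N =>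
    MvPolynomial.aeval fun s => ∑ r, MvPolynomial.X r * MvPolynomial.C (N r s)
  let g := τ T f
  have hev : ∀ x : Fin m → A, MvPolynomial.eval x g = MvPolynomial.eval (Matrix.vecMul x T) f := by
    intro x
    simp only [g, τ]
    show (MvPolynomial.eval x).comp (MvPolynomial.aeval fun s => ∑ r, MvPolynomial.X r * MvPolynomial.C (T r s)).toRingHom f = MvPolynomial.eval (Matrix.vecMul x T) f
    congr 1
    refine MvPolynomial.ringHom_ext (fun a => by simp) fun s => ?_
    simp [Matrix.vecMul, dotProduct]
  haveI : Infinite k := IsAlgClosed.instInfinite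
  have hinf : (Set.range (algebraMap k A)).Infinite := Set.infinite_range_of_injective (FaithfulSMul.algebraMap_injective k A)
  have hg : g = MvPolynomial.C (MvPolynomial.eval 0 f) := by
    refine MvPolynomial.funext_set (fun _ => Set.range (algebraMap k A)) (fun _ => hinf) fun x hx => ?_
    choose h hh using fun i => hx i (Set.mem_univ i)
    rw [hev, MvPolynomial.eval_C]
    conv_rhs => rw [← hf h]
    rw [show MvPolynomial.eval (0 : Fin m → A) (MvPolynomial.aeval (fun s : Fin m => MvPolynomial.X s + MvPolynomial.C (∑ r : Fin m, algebraMap k A (h r) * T r s)) f)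
      = ((MvPolynomial.eval (0 : Fin m → A)).comp (MvPolynomial.aeval (fun s : Fin m => MvPolynomial.X s + MvPolynomial.C (∑ r : Fin m, algebraMap k A (h r) * T r s))).toRingHom) f from rfl]
    congr 1
    refine MvPolynomial.ringHom_ext (fun a => by simp) fun s => ?_
    simp [Matrix.vecMul, dotProduct, hh]
  refine ⟨MvPolynomial.eval 0 f, ?_⟩
  have hcomp : (τ T⁻¹).comp (τ T) = AlgHom.id A _ := by
    refine MvPolynomial.algHom_ext fun s => ?_
    simp only [τ, AlgHom.comp_apply, MvPolynomial.aeval_X, map_sum, map_mul, MvPolynomial.algHom_C, MvPolynomial.algebraMap_eq,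
      Finset.sum_mul, AlgHom.id_apply]
    rw [Finset.sum_comm]
    simp only [mul_assoc, ← map_mul, ← Finset.mul_sum, ← map_sum, ← Matrix.mul_apply, Matrix.nonsing_inv_mul T hT]
    simp [Matrix.one_apply]
  have := DFunLike.congr_fun hcomp f
  rw [AlgHom.comp_apply, AlgHom.id_apply] at this
  rw [← this, show τ T f = g from rfl, hg]
  simp [τ]

end Groth.Agent.S11233
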