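import Groth.Statements.S11234
import Groth.Agent.ObsLib.GLHom
-- import your own Groth.Agent.* helpers here

set_option autoImplicit false
set_option linter.style.haveILetI false
set_option backward.isDefEq.respectTransparency false
set_option backward.isDefEq.respectTransparency.types false
set_option maxHeartbeats 2000000
set_option synthInstance.maxHeartbeats 400000
universe u
open CategoryTheory MonoidalCategory CartesianMonoidalCategory MonObj GrpObj AlgebraicGeometry
open scoped TensorProduct
open AGF

attribute [-instance] CategoryTheory.Hom.commGroup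

namespace Groth.Agent.S11234

attribute [local instance] BorelLib.pTop BorelLib.pTopTensor
open Groth.Agent CoactBr
open BlowRegLib (evalPt algTop coefFn evalPt_coefFn isRTransInv_coefFn)
open CoordGrp (GLn)

/-- Let k be an algebraically closed field, G a linear algebraic group over k (affine, smooth) and H a
smooth closed subgroup of G. The following are equivalent: (b) every global function on G invariant
under right translation by H is a constant; (c) for every rational G-module E, the H-invariants of E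
coincide with the G-invariants; (e) two homomorphisms from G to a linear algebraic group which agree
on H are equal. (The published list also contains the statement that H is epimorphic in the sense of
its hull under the stabilizer correspondence, and the statement that complementary H-stable
subspaces of a rational G-module are G-stable; this row states the other three.) -/
theorem result (k : Type u) [Field k] [IsAlgClosed k]
    (G : Over (Spec (CommRingCat.of k))) [GrpObj G] [IsAffine G.left] [Smooth G.hom]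
    (H : Over (Spec (CommRingCat.of k))) [GrpObj H] [Smooth H.hom] (i : H ⟶ G) [IsMonHom i]
    [IsClosedImmersion i.left] :
    List.TFAE [
      ∀ f : Γ(G.left, ⊤), ((G ◁ i) ≫ μ[G]).left.appTop f = (fst G H).left.appTop f →
        ∃ c : k, f = G.hom.appTop ((Scheme.ΓSpecIso (CommRingCat.of k)).inv c),
      ∀ (E : Type u) [AddCommGroup E] [Module k E] (ρ : VecGrp.GMod G E),
        ρ.fixedUnder i = ρ.fixedUnder (𝟙 G),
      ∀ (G' : Over (Spec (CommRingCat.of k))) [GrpObj G'] [IsAffine G'.left] [Smooth G'.hom]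
        (r s : G ⟶ G') [IsMonHom r] [IsMonHom s], i ≫ r = i ≫ s → r = s] := by
  classical
  haveI : IsAffine H.left := isAffine_of_isAffineHom i.left
  obtain ⟨A, _, _, v, hv, hA, hA'⟩ := BorelLib.exists_setup G
  haveI := hv; haveI := hA; haveI := hA'
  obtain ⟨B, _, _, w, hw, π, hHa, hB, hB', hπ, hsur⟩ := ObsLib.exists_sub_data v i
  haveI := hw; haveI := hB; haveI := hB'
  have hπid : v.hom ≫ 𝟙 G = ObsLib.gpt v (AlgHom.id k A) := by
    rw [Category.comp_id, ObsLib.gpt, CoactBr.pt_id]
    exact (Category.id_comp _).symm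
  haveI : IsClosedImmersion (𝟙 G : G ⟶ G).left := inferInstanceAs (IsClosedImmersion (𝟙 G.left))
  tfae_have 1 → 2 := fun h E _ _ ρ => by
    ext a
    refine ⟨fun ha C _ _ g => ?_, fun ha C _ _ g => ?_⟩
    · rw [Category.comp_id]
      obtain ⟨b, hb⟩ : ∃ b, b = ρ.ρ C g ((1 : C) ⊗ₜ[k] a) - (1 : C) ⊗ₜ[k] a := ⟨_, rfl⟩
      have key : ∀ ℓ : E →ₗ[k] k, TensorProduct.rid k C (ℓ.lTensor C b) = 0 := fun ℓ => by
        letI := algTop G
        obtain ⟨c, hc⟩ := h _ (isRTransInv_coefFn i ρ ha ℓ)
        have hcst : ∀ {D : Type u} [CommRing D] [Algebra k D] (e : VecGrp.pt k D ⟶ G),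
            evalPt e (coefFn ρ a ℓ) = algebraMap k D c := fun {D} _ _ e => by
          rw [hc]; exact (evalPt e).commutes c
        have h0 := hcst (1 : VecGrp.pt k k ⟶ G)
        rw [evalPt_coefFn, map_one, LinearEquiv.coe_one, id, LinearMap.lTensor_tmul, TensorProduct.rid_tmul] at h0
        rw [hb, map_sub, map_sub, ← evalPt_coefFn, hcst, LinearMap.lTensor_tmul, TensorProduct.rid_tmul]
        simp only [smul_eq_mul, _root_.mul_one, Algebra.algebraMap_self, RingHom.id_apply] at h0
        rw [h0, Algebra.algebraMap_eq_smul_one, sub_self]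
      obtain ⟨d, hd⟩ := TensorProduct.eq_repr_basis_right (Module.Free.chooseBasis k E) b
      have h0 : ∀ j, d j = 0 := fun j => by
        have := key ((Module.Free.chooseBasis k E).coord j)
        rw [← hd] at this
        by_contra hne
        simp [Finsupp.sum, map_sum, Finsupp.single_apply] at this
        exact hne this
      refine sub_eq_zero.1 ?_
      rw [← hb, ← hd]
      simp [Finsupp.sum, h0]
    · simpa using ha C (g ≫ i)
  tfae_have 2 → 3 := fun h G' _ _ _ r s _ _ hrs => by
    obtain ⟨A', _, _, v', hv', hA'f, hA'r⟩ := BorelLib.exists_setup G'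
    haveI := hv'; haveI := hA'f; haveI := hA'r
    obtain ⟨φ, hφ⟩ := ObsLib.exists_gpt v' (v.hom ≫ r : VecGrp.pt k A ⟶ G')
    obtain ⟨ψ, hψ⟩ := ObsLib.exists_gpt v' (v.hom ≫ s : VecGrp.pt k A ⟶ G')
    suffices φ = ψ by
      refine (cancel_epi v.hom).1 ?_
      exact hφ.trans (this ▸ hψ.symm)
    refine AlgHom.ext fun a => ObsLib.ext_pts (k := k) fun g => ?_
    obtain ⟨W, hW, haW, hst⟩ := ObsLib.exists_stable (k := k) {a}
    let P := (ObsLib.funRep W hst).pullHom (ObsLib.subHom v' v hφ) (BorelLib.IsMor.pull φ)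
    let Q := (ObsLib.funRep W hst).pullHom (ObsLib.subHom v' v hψ) (BorelLib.IsMor.pull ψ)
    obtain ⟨m, hm⟩ := ObsLib.exists_gmod v (ObsLib.tensorRep P Q.dual).dual
    let u : Module.Dual k (W ⊗[k] Module.Dual k W) := TensorProduct.lift (Module.Dual.eval k W)
    have hval : ∀ x : BorelLib.Pt k A, (ObsLib.tensorRep P Q.dual).dual.ρ x u = u ↔
        ∀ (p : W) (ξ : Module.Dual k W), ξ (Q.ρ x (P.ρ x⁻¹ p)) = ξ p := fun x => by
      constructor
      · intro hx p ξ
        have := LinearMap.congr_fun hx (p ⊗ₜ[k] ξ)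
        simpa [BorelLib.RegRep.dual, ObsLib.tensorRep, u] using this
      · intro hx
        refine TensorProduct.ext' fun p ξ => ?_
        simpa [BorelLib.RegRep.dual, ObsLib.tensorRep, u] using hx p ξ
    have hu : u ∈ m.fixedUnder i := by
      refine (ObsLib.fixedUnder_iff v w hπ m u).2 fun y => ?_
      rw [hm, hval]
      intro p ξ
      refine congrArg ξ ?_
      have e : BorelLib.pull φ (BorelLib.pull π y) = BorelLib.pull ψ (BorelLib.pull π y) := by
        refine ObsLib.ptk_injective v' ?_
        rw [← ObsLib.ptk_comp v' v hφ, ← ObsLib.ptk_comp v' v hψ, ← ObsLib.ptk_comp v w hπ, Category.assoc, hrs,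
          Category.assoc]
      have e' : Q.ρ (BorelLib.pull π y) = P.ρ (BorelLib.pull π y) :=
        congrArg (ObsLib.funRep W hst).ρ e.symm
      rw [e', ← Module.End.mul_apply, ← P.map_mul _ trivial _ trivial, mul_inv_cancel, P.map_one,
        Module.End.one_apply]
    have hu' : u ∈ m.fixedUnder (𝟙 G) := (h _ m) ▸ hu
    have hg := (hval g).1 ((hm g u).symm.trans ((ObsLib.fixedUnder_iff v v hπid m u).1 hu' g))
    let p : W := ⟨a, haW (by simp)⟩
    have h1 : Q.ρ g (P.ρ g⁻¹ (P.ρ g p)) = P.ρ g p := by
      refine sub_eq_zero.1 ((Module.forall_dual_apply_eq_zero_iff k _).1 fun ξ => ?_)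
      rw [map_sub, hg, sub_self]
    rw [P.inv_apply trivial] at h1
    have h2 := congrArg (fun q : W => (1 : BorelLib.Pt k A').ofConv (q : A')) h1
    change (1 : BorelLib.Pt k A').ofConv (ObsLib.rT (BorelLib.pull ψ g) a) =
      (1 : BorelLib.Pt k A').ofConv (ObsLib.rT (BorelLib.pull φ g) a) at h2
    rw [ObsLib.eval_rT, ObsLib.eval_rT, _root_.one_mul, _root_.one_mul] at h2
    exact h2.symm
  tfae_have 3 → 1 := fun h f hf => by
    letI := algTop G
    have ha : ObsLib.Inv (BorelLib.ptsSub v i) (ObsLib.ev v f) := (ObsLib.isRTransInv_iff_inv v w hπ f).1 hf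
    set a := ObsLib.ev v f
    obtain ⟨W, hW, haW, hst⟩ := ObsLib.exists_stable (k := k) {a}
    haveI := hW
    let δ : W := ⟨a, haW (by simp)⟩
    let b := Module.finBasis k (W × k)
    obtain ⟨f₀, hf₀m, hf₀⟩ := ObsLib.exists_homOfRep b (ObsLib.shiftRep (ObsLib.funRep W hst) 0)
    obtain ⟨f₁, hf₁m, hf₁⟩ := ObsLib.exists_homOfRep b (ObsLib.shiftRep (ObsLib.funRep W hst) δ)
    haveI := hf₀m; haveI := hf₁m
    haveI : IsAffine (sp k (GLn (Module.finrank k (W × k)) k)).left :=
      inferInstanceAs (IsAffine (Spec (CommRingCat.of (GLn (Module.finrank k (W × k)) k))))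
    haveI := ObsLib.smooth_gln (k := k) (Module.finrank k (W × k))
    have hfix : ∀ x ∈ BorelLib.ptsSub v i, ObsLib.rT x a = a := fun x hx =>
      ObsLib.ext_pts (k := k) fun z => by rw [ObsLib.eval_rT]; exact ha z x hx
    have heq : i ≫ v.inv ≫ pt f₀ = i ≫ v.inv ≫ pt f₁ := by
      refine (cancel_epi w.hom).1 ?_
      rw [← Category.assoc, hπ, ObsLib.gpt, Category.assoc, v.hom_inv_id_assoc, ← CoactBr.pt_comp, ← Category.assoc,
        hπ, ObsLib.gpt, Category.assoc, v.hom_inv_id_assoc, ← CoactBr.pt_comp]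
      refine congrArg pt (ObsLib.gln_ext fun p q => ObsLib.ext_pts (k := k) fun y => ?_)
      show (BorelLib.pull π y).ofConv (f₀ (GLn.X p q)) = (BorelLib.pull π y).ofConv (f₁ (GLn.X p q))
      rw [hf₀, hf₁]
      congr 1
      have hd : (ObsLib.funRep W hst).ρ (BorelLib.pull π y) δ = δ :=
        Subtype.ext (hfix _ (ObsLib.pull_mem v w hπ y))
      simp [ObsLib.shiftRep_apply, map_add, hd]
    haveI : IsMonHom v.inv := inferInstance
    have hrs := h (sp k (GLn (Module.finrank k (W × k)) k)) (v.inv ≫ pt f₀) (v.inv ≫ pt f₁) heq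
    have hff : f₀ = f₁ := CoactBr.pt_injective ((cancel_epi v.inv).1 hrs)
    have hρ : ∀ x, (ObsLib.shiftRep (ObsLib.funRep W hst) 0).ρ x = (ObsLib.shiftRep (ObsLib.funRep W hst) δ).ρ x :=
      fun x => b.ext fun q => b.ext_elem fun p => by
        rw [← Module.Basis.coord_apply, ← Module.Basis.coord_apply, ← hf₀, ← hf₁, hff]
    refine ⟨(1 : BorelLib.Pt k A).ofConv a, (ObsLib.ev_bijective v).1 (ObsLib.ext_pts (k := k) fun x => ?_)⟩
    have h1 := congrArg (fun q : W × k => (1 : BorelLib.Pt k A).ofConv (q.1 : A))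
      (LinearMap.congr_fun (hρ x) (0, 1))
    simp only [ObsLib.shiftRep_apply, δ, one_smul, zero_add, smul_zero, sub_zero, map_zero, ZeroMemClass.coe_zero,
      AddSubgroupClass.coe_sub, ObsLib.coe_funRep, map_sub, ObsLib.eval_rT, _root_.one_mul] at h1
    show x.ofConv a = x.ofConv (ObsLib.ev v (algebraMap k Γ(G.left, ⊤) ((1 : BorelLib.Pt k A).ofConv a)))
    rw [AlgHom.commutes, AlgHom.commutes, Algebra.algebraMap_self, RingHom.id_apply]
    linear_combination -h1
  tfae_finish

end Groth.Agent.S11234
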