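import Groth.Statements.S11235
import Mathlib.RingTheory.Polynomial.Basic
import Mathlib.FieldTheory.IsAlgClosed.Basic
-- import your own Groth.Agent.* helpers here

set_option autoImplicit false
set_option linter.style.haveILetI false
universe u
open CAlg

namespace Groth.Agent.S11235

/-- Let k be an algebraically closed field, A a commutative k-algebra, α ∈ k, and M a maximal ideal of
the polynomial ring A[x] containing x - α. Let I ⊆ M be an ideal whose zero set in Spec A[x] is
invariant under the automorphisms x ↦ c·x, c ∈ k nonzero (equivalently: the image of I under each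
such A-algebra automorphism has the same radical as I). Then there is a maximal ideal of A[x]
containing I and x. -/
theorem result (k : Type u) [Field k] [IsAlgClosed k]
    (A : Type u) [CommRing A] [Algebra k A] (α : k)
    (M : Ideal (Polynomial A)) (hM : M.IsMaximal)
    (hα : Polynomial.X - Polynomial.C (algebraMap k A α) ∈ M)
    (I : Ideal (Polynomial A)) (hIM : I ≤ M)
    (hI : ∀ c : kˣ, (I.map (Polynomial.aeval (R := A)
      (algebraMap k A (c : k) • (Polynomial.X : Polynomial A)))).radical = I.radical) :
    ∃ N : Ideal (Polynomial A), N.IsMaximal ∧ I ≤ N ∧ Polynomial.X ∈ N := by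
  classical
  by_cases hα0 : α = 0
  · refine ⟨M, hM, hIM, ?_⟩
    simpa [hα0] using hα
  suffices htop : I ⊔ Ideal.span {Polynomial.X} ≠ ⊤ by
    obtain ⟨N, hN, hle⟩ := Ideal.exists_le_maximal _ htop
    exact ⟨N, hN, le_sup_left.trans hle, hle (Ideal.mem_sup_right (Ideal.mem_span_singleton_self _))⟩
  intro htop
  obtain ⟨f, hf, g, hg, hfg⟩ := Submodule.mem_sup.1 ((Ideal.eq_top_iff_one _).1 htop)
  obtain ⟨g', rfl⟩ := Ideal.mem_span_singleton'.1 hg
  have h0 : f.eval 0 = 1 := by simpa using congrArg (Polynomial.eval 0) hfg
  have hev : ∀ p : Polynomial A, p - Polynomial.C (p.eval (algebraMap k A α)) ∈ M := by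
    intro p
    obtain ⟨q, hq⟩ := Polynomial.X_sub_C_dvd_sub_C_eval (a := algebraMap k A α) (p := p)
    rw [hq]
    exact M.mul_mem_right _ hα
  haveI := hM
  let φ : A →+* Polynomial A ⧸ M := (Ideal.Quotient.mk M).comp Polynomial.C
  letI : Field (Polynomial A ⧸ M) := Ideal.Quotient.field M
  have hc : ∀ c : kˣ, φ (f.eval (algebraMap k A ((c : k) * α))) = 0 := by
    intro c
    have h1 : Polynomial.aeval (R := A) (algebraMap k A (c : k) • (Polynomial.X : Polynomial A)) f ∈ M := by
      refine (hM.isPrime.radical_le_iff.2 hIM) ?_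
      rw [← hI c]
      exact Ideal.le_radical (Ideal.mem_map_of_mem _ hf)
    have h2 := hev (Polynomial.aeval (R := A) (algebraMap k A (c : k) • (Polynomial.X : Polynomial A)) f)
    have h3 : (Polynomial.aeval (R := A) (algebraMap k A (c : k) • (Polynomial.X : Polynomial A)) f).eval (algebraMap k A α)
        = f.eval (algebraMap k A ((c : k) * α)) := by
      rw [← Polynomial.comp_eq_aeval, Polynomial.eval_comp]
      simp [Algebra.smul_def]
    rw [h3] at h2
    show Ideal.Quotient.mk M (Polynomial.C _) = 0
    rw [Ideal.Quotient.eq_zero_iff_mem]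
    exact (Submodule.sub_mem_iff_right M h1).1 h2
  let ψ : k →+* Polynomial A ⧸ M := φ.comp (algebraMap k A)
  have hzero : f.map φ = 0 := by
    haveI : Infinite k := IsAlgClosed.instInfinite
    refine Polynomial.eq_zero_of_infinite_isRoot _ ?_
    refine Set.Infinite.mono (s := Set.range fun c : kˣ => ψ ((c : k) * α)) ?_ ?_
    · rintro _ ⟨c, rfl⟩
      show (f.map φ).eval _ = 0
      rw [← hc c]
      simp [ψ, Polynomial.eval_map, Polynomial.eval₂_at_apply, -map_mul]
    · haveI : Infinite {x : k // x ≠ 0} := ((Set.finite_singleton (0 : k)).infinite_compl).to_subtype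
      haveI : Infinite kˣ := Infinite.of_injective (fun n : {x : k // x ≠ 0} => Units.mk0 n.1 n.2) fun a b h => Subtype.ext (congrArg Units.val h)
      exact Set.infinite_range_of_injective fun a b hab => Units.ext (mul_right_cancel₀ hα0 (ψ.injective hab))
  have h4 : (f.map φ).eval (φ 0) = φ (f.eval 0) := by rw [Polynomial.eval_map, Polynomial.eval₂_at_apply]
  rw [hzero, Polynomial.eval_zero, h0, map_one] at h4
  exact zero_ne_one h4

end Groth.Agent.S11235
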