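import Groth.Statements.S11237
import Mathlib.Algebra.TrivSqZeroExt.Basic
import Mathlib.LinearAlgebra.TensorProduct.Prod
-- import your own Groth.Agent.* helpers here

set_option autoImplicit false
set_option linter.style.haveILetI false
set_option backward.isDefEq.respectTransparency false
set_option backward.isDefEq.respectTransparency.types false
set_option maxHeartbeats 2000000
set_option synthInstance.maxHeartbeats 400000
universe u
open CategoryTheory MonoidalCategory CartesianMonoidalCategory MonObj GrpObj AlgebraicGeometry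
open scoped TensorProduct
open AGF

noncomputable section

namespace Groth.Agent.S11237

section Ext

variable {k : Type u} [Field k] {A : Type u} [CommRing A] [Algebra k A]
  {M : Type u} [AddCommGroup M] [Module A M] [Module k M] [IsScalarTower k A M]

/-- The right action of a commutative ring. -/
@[reducible] def opMod : Module Aᵐᵒᵖ M := Module.compHom M (RingEquiv.toOpposite A).symm.toRingHom

attribute [local instance] opMod

instance opCentral : @IsCentralScalar A M _ (opMod (A := A) (M := M)).toSMul := ⟨fun _ _ => rfl⟩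

instance opTower : @IsScalarTower k Aᵐᵒᵖ M _ (opMod (A := A) (M := M)).toSMul _ := ⟨fun c x m => by
  show (c • x).unop • m = c • (x.unop • m)
  rw [MulOpposite.unop_smul, smul_assoc]⟩

variable (B : Type u) [CommRing B] [Algebra k B]

/-- The base change of a square-zero extension splits. -/
def splitEquiv : VecGrp.W k (TrivSqZeroExt A M) B ≃ₗ[B] (B ⊗[k] A) × (B ⊗[k] M) :=
  TensorProduct.prodRight k B B A M

lemma splitEquiv_tmul (b : B) (x : TrivSqZeroExt A M) :
    splitEquiv B (b ⊗ₜ[k] x) = (b ⊗ₜ[k] x.fst, b ⊗ₜ[k] x.snd) := rfl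

lemma splitEquiv_mul (x y : VecGrp.W k (TrivSqZeroExt A M) B) :
    splitEquiv B (x * y) = ((splitEquiv B x).1 * (splitEquiv B y).1,
      VecGrp.GMod.smulW k A M B (splitEquiv B x).1 (splitEquiv B y).2 +
        VecGrp.GMod.smulW k A M B (splitEquiv B y).1 (splitEquiv B x).2) := by
  induction x using TensorProduct.induction_on with
  | zero => simp [Prod.ext_iff]
  | add p q hp hq =>
    simp only [add_mul, map_add, Prod.fst_add, Prod.snd_add, hp, hq, LinearMap.add_apply, Prod.mk_add_mk]
    congr 1
    abel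
  | tmul b m =>
    induction y using TensorProduct.induction_on with
    | zero => simp [Prod.ext_iff]
    | add p q hp hq =>
      simp only [mul_add, map_add, Prod.fst_add, Prod.snd_add, hp, hq, LinearMap.add_apply, Prod.mk_add_mk]
      congr 1
      abel
    | tmul b' m' =>
      rw [Algebra.TensorProduct.tmul_mul_tmul, splitEquiv_tmul, splitEquiv_tmul, splitEquiv_tmul,
        Algebra.TensorProduct.tmul_mul_tmul, TrivSqZeroExt.fst_mul, TrivSqZeroExt.snd_mul, TensorProduct.tmul_add]
      simp only [VecGrp.GMod.smulW, TensorProduct.map₂_apply_tmul, LinearMap.mul_apply', AlgHom.toLinearMap_apply,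
        Algebra.lsmul_coe, op_smul_eq_smul, TensorProduct.map_tmul, mul_comm b' b]

variable {G : Over (Spec (CommRingCat.of k))} [GrpObj G] (ρA : VecGrp.GMod G A) (ρM : VecGrp.GMod G M)

/-- The action on a square-zero extension. -/
def extMod : VecGrp.GMod G (TrivSqZeroExt A M) where
  ρ B _ _ :=
    { toFun := fun g => (splitEquiv B).trans (((ρA.ρ B g).prodCongr (ρM.ρ B g)).trans (splitEquiv B).symm)
      map_one' := by
        refine LinearEquiv.ext fun x => ?_
        simp only [map_one, LinearEquiv.trans_apply, LinearEquiv.prodCongr_apply, LinearEquiv.coe_one, id,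
          Prod.mk.eta, LinearEquiv.symm_apply_apply]
      map_mul' := fun g g' => by
        refine LinearEquiv.ext fun x => ?_
        simp only [map_mul, LinearEquiv.trans_apply, LinearEquiv.prodCongr_apply, LinearEquiv.mul_apply,
          LinearEquiv.apply_symm_apply] }
  naturality := fun {B B'} _ _ _ _ φ g x => by
    have key : ∀ z : VecGrp.W k (TrivSqZeroExt A M) B, splitEquiv B' (VecGrp.Wmap φ z) =
        (VecGrp.Wmap φ (splitEquiv B z).1, VecGrp.Wmap φ (splitEquiv B z).2) := fun z => by
      induction z using TensorProduct.induction_on with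
      | zero => simp [Prod.ext_iff]
      | add p q hp hq => simp only [map_add, hp, hq, Prod.fst_add, Prod.snd_add, Prod.mk_add_mk]
      | tmul b m => rfl
    refine (splitEquiv B').injective ?_
    show splitEquiv B' (VecGrp.Wmap φ ((splitEquiv B).symm _)) = splitEquiv B' ((splitEquiv B').symm _)
    rw [key, LinearEquiv.apply_symm_apply, LinearEquiv.apply_symm_apply]
    show (VecGrp.Wmap φ (ρA.ρ B g (splitEquiv B x).1), VecGrp.Wmap φ (ρM.ρ B g (splitEquiv B x).2)) =
      (ρA.ρ B' (VecGrp.ptMap φ ≫ g) (splitEquiv B' (VecGrp.Wmap φ x)).1,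
        ρM.ρ B' (VecGrp.ptMap φ ≫ g) (splitEquiv B' (VecGrp.Wmap φ x)).2)
    rw [key, ρA.naturality, ρM.naturality]

lemma split_extMod (g : VecGrp.pt k B ⟶ G) (x : VecGrp.W k (TrivSqZeroExt A M) B) :
    splitEquiv B ((extMod ρA ρM).ρ B g x) =
      (ρA.ρ B g (splitEquiv B x).1, ρM.ρ B g (splitEquiv B x).2) :=
  (splitEquiv B).apply_symm_apply _

theorem isMult_extMod (hρ : ρA.IsMult) (hc : VecGrp.GMod.IsCompat ρA ρM) : (extMod ρA ρM).IsMult := by
  intro B _ _ g
  refine ⟨fun x y => (splitEquiv B).injective ?_, (splitEquiv B).injective ?_⟩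
  · rw [split_extMod, splitEquiv_mul, splitEquiv_mul, split_extMod, split_extMod, (hρ B g).1, map_add, hc, hc]
  · rw [split_extMod, Algebra.TensorProduct.one_def, splitEquiv_tmul, TrivSqZeroExt.fst_one, TrivSqZeroExt.snd_one,
      TensorProduct.tmul_zero, map_zero, ← Algebra.TensorProduct.one_def, (hρ B g).2]

theorem fixed_extMod (x : TrivSqZeroExt A M) :
    x ∈ (extMod ρA ρM).fixedUnder (𝟙 G) ↔ x.fst ∈ ρA.fixedUnder (𝟙 G) ∧ x.snd ∈ ρM.fixedUnder (𝟙 G) := by
  constructor
  · intro h
    exact ⟨fun B _ _ g => by simpa [split_extMod, splitEquiv_tmul] using congrArg (fun z => (splitEquiv B z).1) (h B g),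
      fun B _ _ g => by simpa [split_extMod, splitEquiv_tmul] using congrArg (fun z => (splitEquiv B z).2) (h B g)⟩
  · rintro ⟨h1, h2⟩ B _ _ g
    refine (splitEquiv B).injective ?_
    rw [split_extMod, splitEquiv_tmul, h1 B g, h2 B g]

theorem finiteType_ext [Algebra.FiniteType k A] [Module.Finite A M] :
    Algebra.FiniteType k (TrivSqZeroExt A M) := by
  classical
  obtain ⟨s, hs⟩ := (Algebra.FiniteType.out : (⊤ : Subalgebra k A).FG)
  obtain ⟨t, ht⟩ := (Module.Finite.fg_top : (⊤ : Submodule A M).FG)
  refine ⟨⟨s.image TrivSqZeroExt.inl ∪ t.image TrivSqZeroExt.inr, eq_top_iff.2 fun x _ => ?_⟩⟩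
  set S := Algebra.adjoin k (↑(s.image TrivSqZeroExt.inl ∪ t.image TrivSqZeroExt.inr) : Set (TrivSqZeroExt A M))
  have hA : ∀ a : A, (TrivSqZeroExt.inl a : TrivSqZeroExt A M) ∈ S := fun a => by
    have h : a ∈ Algebra.adjoin k (↑s : Set A) := hs ▸ Algebra.mem_top
    induction h using Algebra.adjoin_induction with
    | mem y hy => exact Algebra.subset_adjoin (Finset.mem_coe.2 (Finset.mem_union_left _ (Finset.mem_image_of_mem _ (Finset.mem_coe.1 hy))))
    | algebraMap c => rw [← TrivSqZeroExt.algebraMap_eq_inl']; exact S.algebraMap_mem c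
    | add y z _ _ hy hz => rw [TrivSqZeroExt.inl_add]; exact S.add_mem hy hz
    | mul y z _ _ hy hz => rw [TrivSqZeroExt.inl_mul]; exact S.mul_mem hy hz
  have hM : ∀ m : M, (TrivSqZeroExt.inr m : TrivSqZeroExt A M) ∈ S := fun m => by
    have h : m ∈ Submodule.span A (↑t : Set M) := ht ▸ Submodule.mem_top
    induction h using Submodule.span_induction with
    | mem y hy => exact Algebra.subset_adjoin (Finset.mem_coe.2 (Finset.mem_union_right _ (Finset.mem_image_of_mem _ (Finset.mem_coe.1 hy))))
    | zero => rw [TrivSqZeroExt.inr_zero]; exact S.zero_mem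
    | add y z _ _ hy hz => rw [TrivSqZeroExt.inr_add]; exact S.add_mem hy hz
    | smul a y _ hy => rw [← TrivSqZeroExt.inl_mul_inr]; exact S.mul_mem (hA a) hy
  rw [← TrivSqZeroExt.inl_fst_add_inr_snd_eq x]
  exact S.add_mem (hA _) (hM _)

end Ext


/-- Let k be an algebraically closed field and G a linear algebraic group over k (affine, smooth) whose
identity component is reductive. Assume finite generation of invariants of reductive groups over k
on finitely generated algebras (a true result which the published text assumes without proof,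
carried here as a hypothesis). Let A be a finitely generated commutative k-algebra with a rational
action of G by algebra automorphisms and M a finitely generated A-module with a compatible rational
G-action. Then the invariants M^G form a finitely generated A^G-module (the A^G-span of finitely
many invariant elements). -/
theorem result (k : Type u) [Field k] [IsAlgClosed k]
    (G : Over (Spec (CommRingCat.of k))) [GrpObj G] (hG : VecGrp.IsReductiveGrp k G)
    (thmA : VecGrp.ReductiveInvariantsFG k)
    (A : Type u) [CommRing A] [Algebra k A] [Algebra.FiniteType k A] (ρA : VecGrp.GMod G A) (hρ : ρA.IsMult)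
    (M : Type u) [AddCommGroup M] [Module A M] [Module k M] [IsScalarTower k A M] [Module.Finite A M]
    (ρM : VecGrp.GMod G M) (hc : VecGrp.GMod.IsCompat ρA ρM) :
    ∃ s : Finset M, (↑s : Set M) ⊆ ρM.fixedUnder (𝟙 G) ∧
      ρM.fixedUnder (𝟙 G) ≤ (Submodule.span ↥(ρA.fixedSubalgebra hρ (𝟙 G)) (↑s : Set M)).restrictScalars k := by
  classical
  letI : Module Aᵐᵒᵖ M := opMod
  haveI : IsCentralScalar A M := opCentral
  haveI : IsScalarTower k Aᵐᵒᵖ M := opTower
  haveI := finiteType_ext (k := k) (A := A) (M := M)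
  obtain ⟨s, hs, hgen⟩ := thmA G hG (TrivSqZeroExt A M) (extMod ρA ρM) (isMult_extMod ρA ρM hρ hc) inferInstance
  refine ⟨s.image TrivSqZeroExt.snd, ?_, fun m hm => ?_⟩
  · intro y hy
    obtain ⟨x, hx, rfl⟩ := Finset.mem_image.1 hy
    exact ((fixed_extMod ρA ρM x).1 (hs hx)).2
  set F := ρA.fixedSubalgebra hρ (𝟙 G)
  set N := Submodule.span ↥F (↑(s.image TrivSqZeroExt.snd) : Set M)
  have hm' : (TrivSqZeroExt.inr m : TrivSqZeroExt A M) ∈ Algebra.adjoin k (↑s : Set (TrivSqZeroExt A M)) :=
    hgen ((fixed_extMod ρA ρM _).2 ⟨by rw [TrivSqZeroExt.fst_inr]; exact zero_mem _, by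
      rw [TrivSqZeroExt.snd_inr]; exact hm⟩)
  suffices h : ∀ x ∈ Algebra.adjoin k (↑s : Set (TrivSqZeroExt A M)), x.fst ∈ F ∧ x.snd ∈ N by
    show m ∈ N
    have := (h _ hm').2
    rwa [TrivSqZeroExt.snd_inr] at this
  intro x hx
  induction hx using Algebra.adjoin_induction with
  | mem y hy => exact ⟨((fixed_extMod ρA ρM y).1 (hs hy)).1,
      Submodule.subset_span (Finset.mem_coe.2 (Finset.mem_image_of_mem _ hy))⟩
  | algebraMap c =>
    rw [TrivSqZeroExt.algebraMap_eq_inl', TrivSqZeroExt.fst_inl, TrivSqZeroExt.snd_inl]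
    exact ⟨F.algebraMap_mem c, N.zero_mem⟩
  | add y z _ _ hy hz =>
    rw [TrivSqZeroExt.fst_add, TrivSqZeroExt.snd_add]
    exact ⟨F.add_mem hy.1 hz.1, N.add_mem hy.2 hz.2⟩
  | mul y z _ _ hy hz =>
    rw [TrivSqZeroExt.fst_mul, TrivSqZeroExt.snd_mul, op_smul_eq_smul]
    exact ⟨F.mul_mem hy.1 hz.1, N.add_mem (N.smul_mem ⟨_, hy.1⟩ hz.2) (N.smul_mem ⟨_, hz.1⟩ hy.2)⟩

end Groth.Agent.S11237
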