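import Groth.Statements.S11238
import Mathlib.Algebra.MvPolynomial.Funext
import Mathlib.FieldTheory.IsAlgClosed.Basic
import Mathlib.RingTheory.Algebraic.Integral
import Mathlib.RingTheory.Localization.FractionRing
import Mathlib.FieldTheory.RatFunc.Luroth


-- import your own Groth.Agent.* helpers here

set_option autoImplicit false
universe u
open AGF

namespace Groth.Agent.S11238

/-- Over an algebraically closed field k, a unirational variety of dimension one is rational. Field
form: let K be a finitely generated field extension of k of transcendence degree one (K is algebraic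
over k(x) for some x ∈ K transcendental over k) admitting a k-embedding into a purely transcendental
extension k(t_1, ..., t_n). Then K = k(t) for some t ∈ K transcendental over k. -/
theorem result (k : Type u) [Field k] [IsAlgClosed k]
    (K : Type u) [Field K] [Algebra k K] (hfg : (⊤ : IntermediateField k K).FG)
    (x : K) (hx : Transcendental k x) (halg : Algebra.IsAlgebraic ↥(IntermediateField.adjoin k {x}) K)
    (n : ℕ) (φ : K →ₐ[k] FractionRing (MvPolynomial (Fin n) k)) :
    ∃ t : K, Transcendental k t ∧ IntermediateField.adjoin k {t} = ⊤ := by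
  classical
  obtain ⟨S, hS⟩ := hfg
  let T : Finset K := insert x S
  have hT : IntermediateField.adjoin k (↑T : Set K) = ⊤ := by
    rw [eq_top_iff, ← hS]; exact IntermediateField.adjoin.mono k _ _ (by simp [T])
  have hfrac : ∀ s : K, ∃ P Q : MvPolynomial (Fin n) k, Q ≠ 0 ∧
      φ s * algebraMap _ _ Q = algebraMap _ (FractionRing (MvPolynomial (Fin n) k)) P := by
    intro s
    obtain ⟨⟨P, Q⟩, h⟩ := IsLocalization.surj (nonZeroDivisors (MvPolynomial (Fin n) k)) (φ s)
    exact ⟨P, Q, nonZeroDivisors.ne_zero Q.2, h⟩
  choose P Q hQ hPQ using hfrac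
  -- the base point and the direction of the line
  have heval : ∀ F : MvPolynomial (Fin n) k, F ≠ 0 → ∃ a, MvPolynomial.eval a F ≠ 0 := by
    intro F hF
    by_contra h
    push Not at h
    exact hF (MvPolynomial.funext fun a => by simp [h a])
  obtain ⟨a, ha⟩ := heval (∏ s ∈ T, Q s) (Finset.prod_ne_zero_iff.2 fun s _ => hQ s)
  rw [map_prod, Finset.prod_ne_zero_iff] at ha
  have hxT : x ∈ T := Finset.mem_insert_self _ _
  have hR : MvPolynomial.C (MvPolynomial.eval a (Q x)) * P x -
      MvPolynomial.C (MvPolynomial.eval a (P x)) * Q x ≠ 0 := by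
    intro h
    rw [sub_eq_zero] at h
    apply hx
    have hφ : φ x = algebraMap k _ (MvPolynomial.eval a (P x) / MvPolynomial.eval a (Q x)) := by
      have hQ' : algebraMap _ (FractionRing (MvPolynomial (Fin n) k)) (Q x) ≠ 0 :=
        (map_ne_zero_iff _ (IsFractionRing.injective _ _)).2 (hQ x)
      refine mul_right_cancel₀ hQ' ?_
      rw [hPQ x, map_div₀, div_mul_eq_mul_div, eq_div_iff
        ((map_ne_zero_iff _ (algebraMap k _).injective).2 (ha x hxT))]
      rw [IsScalarTower.algebraMap_apply k (MvPolynomial (Fin n) k) (FractionRing _),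
        IsScalarTower.algebraMap_apply k (MvPolynomial (Fin n) k) (FractionRing _) (MvPolynomial.eval a (P x)),
        ← map_mul, ← map_mul, MvPolynomial.algebraMap_eq, ← h, mul_comm]
    rw [← AlgHom.commutes φ] at hφ
    rw [φ.injective hφ]
    exact isAlgebraic_algebraMap _
  obtain ⟨b, hb⟩ := heval _ hR
  -- restriction to the line
  let γ : MvPolynomial (Fin n) k →ₐ[k] Polynomial k :=
    MvPolynomial.aeval fun i => Polynomial.C (a i) + Polynomial.X * Polynomial.C (b i - a i)
  have hγ0 : ∀ F, (γ F).eval 0 = MvPolynomial.eval a F := by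
    intro F
    induction F using MvPolynomial.induction_on with
    | C c => simp [γ]
    | add p q hp hq => simp [hp, hq]
    | mul_X p i hp =>
      rw [map_mul, map_mul, Polynomial.eval_mul, hp]; simp [γ]
  have hγ1 : ∀ F, (γ F).eval 1 = MvPolynomial.eval b F := by
    intro F
    induction F using MvPolynomial.induction_on with
    | C c => simp [γ]
    | add p q hp hq => simp [hp, hq]
    | mul_X p i hp =>
      rw [map_mul, map_mul, Polynomial.eval_mul, hp]; simp [γ]
  let q : Ideal (MvPolynomial (Fin n) k) := RingHom.ker γ.toRingHom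
  have : q.IsPrime := RingHom.ker_isPrime _
  let j : Localization.AtPrime q →ₐ[k] FractionRing (MvPolynomial (Fin n) k) :=
    IsLocalization.liftAlgHom (M := q.primeCompl)
      (f := IsScalarTower.toAlgHom k (MvPolynomial (Fin n) k) (FractionRing _)) (fun y => by
      simpa using isUnit_iff_ne_zero.2 ((map_ne_zero_iff _ (IsFractionRing.injective (MvPolynomial (Fin n) k)
        (FractionRing (MvPolynomial (Fin n) k)))).2
        (fun (h0 : (y : MvPolynomial (Fin n) k) = 0) => y.2 (by rw [h0]; exact q.zero_mem))))
  have hjmap : ∀ F : MvPolynomial (Fin n) k, j (algebraMap _ _ F) = algebraMap _ _ F := fun F => by simp [j]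
  have hjinj : Function.Injective j := by
    rw [injective_iff_map_eq_zero]
    intro z hz
    obtain ⟨⟨F, G⟩, hFG⟩ := IsLocalization.surj q.primeCompl z
    have h1 : algebraMap _ (FractionRing (MvPolynomial (Fin n) k)) F = 0 := by
      rw [← hjmap, ← hFG, map_mul, hz, zero_mul]
    rw [map_eq_zero_iff _ (IsFractionRing.injective _ _)] at h1
    simp only [h1, map_zero] at hFG
    exact (IsLocalization.map_units (Localization.AtPrime q) G).mul_left_eq_zero.1 hFG
  let g : Localization.AtPrime q →ₐ[k] RatFunc k :=
    IsLocalization.liftAlgHom (M := q.primeCompl)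
      (f := (IsScalarTower.toAlgHom k (Polynomial k) (RatFunc k)).comp γ) (fun y => by
      simpa using isUnit_iff_ne_zero.2 ((map_ne_zero_iff _
        (IsFractionRing.injective (Polynomial k) (RatFunc k))).2 y.2))
  have hgmap : ∀ F : MvPolynomial (Fin n) k, g (algebraMap _ _ F) = algebraMap _ _ (γ F) := fun F => by simp [g]
  let A : Subalgebra k K := Algebra.adjoin k (↑T : Set K)
  have hA : ∀ z : A, ∃ w, j w = φ z := by
    intro z
    have : A ≤ (j.range).comap φ := by
      refine Algebra.adjoin_le fun s hs => ?_
      have hQs : Q s ∈ q.primeCompl := fun h => ha s hs (by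
        rw [← hγ0, show γ (Q s) = 0 from h, Polynomial.eval_zero])
      refine ⟨IsLocalization.mk' (Localization.AtPrime q) (P s) ⟨Q s, hQs⟩, ?_⟩
      show j _ = φ s
      refine mul_right_cancel₀ ((map_ne_zero_iff _ (IsFractionRing.injective (MvPolynomial (Fin n) k)
        (FractionRing (MvPolynomial (Fin n) k)))).2 (hQ s)) ?_
      rw [hPQ s]
      conv_lhs => rw [← hjmap (Q s), ← map_mul, IsLocalization.mk'_spec, hjmap]
    exact this z.2
  choose w hw using hA
  let ψ : A →ₐ[k] RatFunc k :=
    { toFun := fun z => g (w z)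
      map_one' := by rw [show w 1 = 1 from hjinj (by simp [hw]), map_one]
      map_mul' := fun u v => by
        rw [show w (u * v) = w u * w v from hjinj (by simp [hw]), map_mul]
      map_zero' := by rw [show w 0 = 0 from hjinj (by simp [hw]), map_zero]
      map_add' := fun u v => by
        rw [show w (u + v) = w u + w v from hjinj (by simp [hw]), map_add]
      commutes' := fun c => by
        rw [show w (algebraMap k A c) = algebraMap k _ c from hjinj (by simp [hw]), AlgHom.commutes] }
  let x' : A := ⟨x, Algebra.subset_adjoin hxT⟩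
  have hψx : Transcendental k (ψ x') := by
    intro halgx
    obtain ⟨c, hc'⟩ : ∃ c, algebraMap k (RatFunc k) c = g (w x') := minpoly.mem_range_of_degree_eq_one k _
      (IsAlgClosed.degree_eq_one_of_irreducible k (minpoly.irreducible halgx.isIntegral))
    have h1 : w x' * algebraMap _ _ (Q x) = algebraMap _ _ (P x) := hjinj (by
      rw [map_mul, hw, hjmap, hjmap]; exact hPQ x)
    have h2 : Polynomial.C c * γ (Q x) = γ (P x) :=
      IsFractionRing.injective (Polynomial k) (RatFunc k) (by
        rw [map_mul, ← hgmap, ← hgmap, ← h1, map_mul, ← hc', ← Polynomial.algebraMap_eq,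
          ← IsScalarTower.algebraMap_apply])
    have e0 := congrArg (Polynomial.eval 0) h2
    have e1 := congrArg (Polynomial.eval 1) h2
    simp only [Polynomial.eval_mul, Polynomial.eval_C, hγ0, hγ1] at e0 e1
    apply hb
    simp [← e0, ← e1]
    ring
  have hψinj : Function.Injective ψ := by
    rw [injective_iff_map_eq_zero]
    intro z hz
    by_contra hz0
    let B : Subalgebra k K := Algebra.adjoin k {x}
    have hle : B ≤ A := Algebra.adjoin_mono (by simpa using hxT)
    algebraize [(Subalgebra.inclusion hle).toRingHom]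
    have hz' : IsAlgebraic B (z : K) := by
      open scoped IntermediateField.algebraAdjoinAdjoin in
      exact (IsFractionRing.isAlgebraic_iff B (IntermediateField.adjoin k {x}) K).2
        (halg.isAlgebraic (z : K))
    have : IsScalarTower B A K := IsScalarTower.of_algebraMap_eq fun _ => rfl
    have hz'' : IsAlgebraic B z :=
      (isAlgebraic_algebraMap_iff (A := K) Subtype.val_injective).1 hz'
    obtain ⟨r, hr, hdvd⟩ := hz''.exists_nonzero_dvd (mem_nonZeroDivisors_of_ne_zero hz0)
    obtain ⟨d, hd⟩ := hdvd
    have hr0 : ψ (Subalgebra.inclusion hle r) = 0 := by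
      have : Subalgebra.inclusion hle r = z * d := hd
      rw [this, map_mul, hz, zero_mul]
    have hker : ∀ p : Polynomial k, Polynomial.aeval (ψ x') p = 0 → p = 0 := fun p hp =>
      (transcendental_iff.1 hψx) p hp
    have hr' : (r : K) ∈ (Polynomial.aeval x : Polynomial k →ₐ[k] K).range := by
      rw [← Algebra.adjoin_singleton_eq_range_aeval]; exact r.2
    obtain ⟨p, hp⟩ := hr'
    have : Polynomial.aeval x' p = Subalgebra.inclusion hle r := Subtype.ext (by
      rw [Polynomial.aeval_subalgebra_coe]; exact hp)
    rw [← this, ← Polynomial.aeval_algHom_apply] at hr0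
    rw [hker p hr0, map_zero] at hp
    exact hr (Subtype.ext hp.symm)
  have : IsFractionRing A K := IsFractionRing.of_field _ _ fun z => by
    have hz : z ∈ IntermediateField.adjoin k (↑T : Set K) := hT ▸ IntermediateField.mem_top
    obtain ⟨r, hr, s, hs, rfl⟩ := IntermediateField.mem_adjoin_iff_div.1 hz
    exact ⟨⟨r, hr⟩, ⟨s, hs⟩, rfl⟩
  let Φ : K →ₐ[k] RatFunc k := IsFractionRing.liftAlgHom hψinj
  have hΦx : Φ x = ψ x' := by
    simp only [Φ]
    exact IsFractionRing.lift_algebraMap hψinj x'
  have hE : Φ.fieldRange ≠ ⊥ := by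
    intro h
    have : ψ x' ∈ (⊥ : IntermediateField k (RatFunc k)) := h ▸ ⟨x, hΦx⟩
    obtain ⟨c, hc⟩ := IntermediateField.mem_bot.1 this
    exact hψx (hc ▸ isAlgebraic_algebraMap c)
  obtain ⟨t, ht⟩ := RatFunc.Luroth.generator_mem (E := Φ.fieldRange)
  refine ⟨t, fun halgt => RatFunc.Luroth.transcendental_generator hE (ht ▸ halgt.algHom Φ), ?_⟩
  apply IntermediateField.map_injective Φ
  rw [IntermediateField.adjoin_map, Set.image_singleton, show Φ t = _ from ht,
    ← AlgHom.fieldRange_eq_map, ← RatFunc.Luroth.eq_adjoin_generator]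

end Groth.Agent.S11238
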