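import Groth.Statements.S11239
import Mathlib.LinearAlgebra.Matrix.Block

set_option autoImplicit false
universe u
open AGF

namespace Groth.Agent.S11239

/-- Let X be an m × n matrix over a commutative ring, u an upper triangular n × n matrix with ones on
the diagonal, t a diagonal n × n matrix and p ≤ n. For any choice of p rows, the minor of X·t·u
formed with these rows and the first p columns equals (t_11 ⋯ t_pp) times the corresponding minor of
X: the minors on the first p columns are semi-invariant of weight ω_p under right multiplication by
the upper triangular group. (The published statement is for the generic matrix over an algebraically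
closed field; this row states the identity over any commutative ring.) -/
theorem result (R : Type u) [CommRing R] (m n p : ℕ) (hp : p ≤ n)
    (X : Matrix (Fin m) (Fin n) R) (d : Fin n → R) (u : Matrix (Fin n) (Fin n) R)
    (hu1 : ∀ i, u i i = 1) (hu0 : ∀ i j, j < i → u i j = 0) (I : Fin p → Fin m) :
    ((X * Matrix.diagonal d * u).submatrix I (Fin.castLE hp)).det =
      (∏ i : Fin p, d (Fin.castLE hp i)) * (X.submatrix I (Fin.castLE hp)).det := by
  classical
  have h0 : ∀ (k : Fin n) (j : Fin p), (∀ i : Fin p, Fin.castLE hp i ≠ k) →
      (Matrix.diagonal d * u) k (Fin.castLE hp j) = 0 := by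
    intro k j hk
    rw [Matrix.diagonal_mul, hu0 k _ ?_, mul_zero]
    by_contra hle
    rw [not_lt, Fin.le_def, Fin.val_castLE] at hle
    exact hk ⟨k, lt_of_le_of_lt hle j.2⟩ (Fin.ext rfl)
  have e : (X * Matrix.diagonal d * u).submatrix I (Fin.castLE hp) =
      X.submatrix I (Fin.castLE hp) * (Matrix.diagonal d * u).submatrix (Fin.castLE hp) (Fin.castLE hp) := by
    ext i j
    rw [Matrix.submatrix_apply, Matrix.mul_assoc, Matrix.mul_apply, Matrix.mul_apply]
    refine (Fintype.sum_of_injective (Fin.castLE hp) (Fin.castLE_injective hp) _ _ (fun k hk => ?_)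
      fun k => rfl).symm
    rw [h0 k j (fun i hi => hk ⟨i, hi⟩), mul_zero]
  rw [e, Matrix.det_mul, mul_comm]
  congr 1
  rw [Matrix.det_of_upperTriangular]
  · exact Finset.prod_congr rfl fun i _ => by simp [Matrix.diagonal_mul, hu1]
  · intro i j hij
    rw [Matrix.submatrix_apply, Matrix.diagonal_mul, hu0 _ _ (Fin.lt_def.mpr (show (j : ℕ) < i from hij)), mul_zero]

end Groth.Agent.S11239
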