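import Groth.Statements.S11240
import Mathlib
import Mathlib
-- import your own Groth.Agent.* helpers here

set_option autoImplicit false
universe u
open AGF

namespace Groth.Agent.S11240

/-- For a single root subgroup: let k be an algebraically closed field and X = (x_ab) the generic n × m
matrix over the polynomial ring k[x_ab]. Let i ≠ j be row indices and let I (rows) and J (columns)
be strictly increasing sequences of length p. The minor of X with rows I and columns J is invariant
under replacing X by (1 + b·E_ij)·X for every b ∈ k (the one-parameter unipotent group adding b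
times row j to row i) if and only if j occurs in I whenever i does. (The published statement gives
the criterion for the group generated by several such root subgroups, which is the conjunction of
these.) -/
theorem result (k : Type u) [Field k] [IsAlgClosed k] (n m p : ℕ)
    (i j : Fin n) (hij : i ≠ j) (I : Fin p ↪o Fin n) (J : Fin p ↪o Fin m) :
    (∀ b : k, ((Matrix.transvection i j (MvPolynomial.C b) *
        (Matrix.of fun a c => (MvPolynomial.X (a, c) : MvPolynomial (Fin n × Fin m) k))).submatrix I J).det =
        ((Matrix.of fun a c => (MvPolynomial.X (a, c) : MvPolynomial (Fin n × Fin m) k)).submatrix I J).det) ↔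
      (i ∈ Set.range I → j ∈ Set.range I) := by
  classical
  set M : Matrix (Fin n) (Fin m) (MvPolynomial (Fin n × Fin m) k) :=
    Matrix.of fun a c => (MvPolynomial.X (a, c) : MvPolynomial (Fin n × Fin m) k) with hM
  let T := fun b : k => Matrix.transvection i j (MvPolynomial.C b) * M
  have hrow : ∀ (b : k) a c, T b a c =
      if a = i then M i c + MvPolynomial.C b * M j c else M a c := fun b a c => by
    simp only [T]
    split_ifs with h
    · subst h; exact Matrix.transvection_mul_apply_same _ _ _ _ _
    · exact Matrix.transvection_mul_apply_of_ne _ _ _ _ h _ _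
  constructor
  · intro h hi
    by_contra hj
    obtain ⟨t, ht⟩ := hi
    have e1 : (T 1).submatrix I J =
        (M.submatrix I J).updateRow t ((M.submatrix I J) t + fun c => M j (J c)) := by
      ext a c
      rw [Matrix.submatrix_apply, hrow, Matrix.updateRow_apply]
      by_cases ha : a = t
      · subst ha; rw [if_pos ht, if_pos rfl, map_one, one_mul, Pi.add_apply, Matrix.submatrix_apply, ht]
      · rw [if_neg (fun e => ha (I.injective (e.trans ht.symm))), if_neg ha, Matrix.submatrix_apply]
    have h1 : ((T 1).submatrix I J).det = (M.submatrix I J).det := h 1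
    rw [e1, Matrix.det_updateRow_add, Matrix.updateRow_eq_self, add_eq_left] at h1
    let I' : Fin p → Fin n := Function.update I t j
    have hI' : Function.Injective I' := by
      intro a a' h'
      by_cases ha : a = t <;> by_cases ha' : a' = t
      · rw [ha, ha']
      · simp [I', ha, ha'] at h'; exact absurd ⟨a', h'.symm⟩ hj
      · simp [I', ha, ha'] at h'; exact absurd ⟨a, h'⟩ hj
      · simp [I', ha, ha'] at h'; exact h'
    have e2 : (M.submatrix I J).updateRow t (fun c => M j (J c)) = M.submatrix I' J := by
      ext a c
      by_cases ha : a = t <;> simp [Matrix.updateRow_apply, I', ha]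
    rw [e2] at h1
    have h2 := congrArg (MvPolynomial.eval fun q : Fin n × Fin m => if ∃ a, q = (I' a, J a) then (1 : k) else 0) h1
    rw [map_zero, RingHom.map_det] at h2
    have e3 : ((MvPolynomial.eval fun q : Fin n × Fin m => if ∃ a, q = (I' a, J a) then (1 : k) else 0).mapMatrix (M.submatrix I' J)) = 1 := by
      ext a c
      simp only [RingHom.mapMatrix_apply, Matrix.map_apply, Matrix.submatrix_apply, hM, Matrix.of_apply, MvPolynomial.eval_X, Matrix.one_apply]
      refine if_congr ⟨?_, fun e => ⟨a, by rw [e]⟩⟩ rfl rfl
      rintro ⟨b, hb⟩
      rw [Prod.mk_inj] at hb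
      rw [hI' hb.1, J.injective hb.2]
    rw [e3, Matrix.det_one] at h2
    exact one_ne_zero h2
  · intro h b
    by_cases hi : i ∈ Set.range I
    · obtain ⟨t, ht⟩ := hi
      obtain ⟨s, hs⟩ := h ⟨t, ht⟩
      have hts : t ≠ s := fun e => hij (by rw [← ht, ← hs, e])
      have e1 : (T b).submatrix I J =
          (M.submatrix I J).updateRow t ((M.submatrix I J) t + (MvPolynomial.C b : MvPolynomial (Fin n × Fin m) k) • (M.submatrix I J) s) := by
        ext a c
        rw [Matrix.submatrix_apply, hrow, Matrix.updateRow_apply]
        by_cases ha : a = t
        · subst ha; rw [if_pos ht, if_pos rfl, Pi.add_apply, Pi.smul_apply, Matrix.submatrix_apply, Matrix.submatrix_apply, ht, hs, smul_eq_mul]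
        · rw [if_neg (fun e => ha (I.injective (e.trans ht.symm))), if_neg ha, Matrix.submatrix_apply]
      show ((T b).submatrix I J).det = _
      rw [e1, Matrix.det_updateRow_add_smul_self _ hts]
    · show ((T b).submatrix I J).det = _
      refine congrArg _ (Matrix.ext fun a c => ?_)
      rw [Matrix.submatrix_apply, hrow, if_neg (fun e => hi ⟨a, e⟩), Matrix.submatrix_apply]

end Groth.Agent.S11240
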