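import Groth.Statements.S11241
import Groth.Agent.ObsLib.SemiFrac
-- import your own Groth.Agent.* helpers here

set_option autoImplicit false
set_option linter.style.haveILetI false
set_option backward.isDefEq.respectTransparency false
set_option backward.isDefEq.respectTransparency.types false
set_option maxHeartbeats 2000000
set_option synthInstance.maxHeartbeats 400000
universe u
open CategoryTheory MonoidalCategory CartesianMonoidalCategory MonObj GrpObj AlgebraicGeometry
open scoped TensorProduct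
open AGF

attribute [-instance] CategoryTheory.Hom.commGroup

namespace Groth.Agent.S11241

attribute [local instance] BorelLib.pTop BorelLib.pTopTensor
open Groth.Agent CoactBr

/-- Let k be an algebraically closed field and H a connected unipotent linear algebraic group over k
(affine, smooth, connected, with no nontrivial subtorus), acting rationally by algebra automorphisms
on a commutative k-algebra A which is an integral domain. An H-invariant element of the fraction
field of A is a quotient of two H-invariant elements of A: if a₀, b₀ ∈ A with b₀ ≠ 0 satisfy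
(h·a₀)·b₀ = a₀·(h·b₀) for every point h of H (invariance of a₀/b₀), then there are a, b ∈ A^H with b
≠ 0 and a·b₀ = b·a₀. (The published statement allows any unipotent H; this row takes H connected.) -/
theorem result (k : Type u) [Field k] [IsAlgClosed k]
    (H : Over (Spec (CommRingCat.of k))) [GrpObj H] [IsAffine H.left] [Smooth H.hom] [ConnectedSpace H.left]
    (hH : Red.HasNoSubtorus k H)
    (A : Type u) [CommRing A] [IsDomain A] [Algebra k A] (ρ : VecGrp.GMod H A) (hρ : ρ.IsMult)
    (a₀ b₀ : A) (hb₀ : b₀ ≠ 0)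
    (hinv : ∀ (B : Type u) [CommRing B] [Algebra k B] (h : VecGrp.pt k B ⟶ H),
      ρ.ρ B h ((1 : B) ⊗ₜ[k] a₀) * ((1 : B) ⊗ₜ[k] b₀) = ((1 : B) ⊗ₜ[k] a₀) * ρ.ρ B h ((1 : B) ⊗ₜ[k] b₀)) :
    ∃ a b : A, a ∈ ρ.fixedUnder (𝟙 H) ∧ b ∈ ρ.fixedUnder (𝟙 H) ∧ b ≠ 0 ∧ a * b₀ = b * a₀ := by
  obtain ⟨R, _, _, v, hv, hR, hR'⟩ := BorelLib.exists_setup H
  haveI := hv; haveI := hR; haveI := hR'
  have hπ : v.hom ≫ 𝟙 H = ObsLib.gpt v (AlgHom.id k R) := by
    rw [Category.comp_id, ObsLib.gpt, CoactBr.pt_id]
    exact (Category.id_comp _).symm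
  haveI : IsClosedImmersion (𝟙 H : H ⟶ H).left := inferInstanceAs (IsClosedImmersion (𝟙 H.left))
  have htop : BorelLib.ptsSub v (𝟙 H) = ⊤ := top_unique fun x _ => by
    rw [ObsLib.mem_ptsSub']
    exact ⟨ObsLib.ptk v x, Category.comp_id _⟩
  have huni : ∀ x : BorelLib.Pt k R, BorelLib.IsUni x := fun x =>
    BorelLib.uni_of_hasNoSubtorus v (𝟙 H) hH x (htop.symm ▸ Subgroup.mem_top x)
  have hconn := BorelLib.isPreconnected_univ_of_connected v
  have hc : IsClosed ((⊤ : Subgroup (BorelLib.Pt k R)) : Set (BorelLib.Pt k R)) := ObsLib.isClosed_top_sub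
  have hsol := BorelLib.isSol_of_uni hc (by rwa [Subgroup.coe_top]) fun x _ => huni x
  obtain ⟨a, b, θ, hb, hab, -, hbθ, haθ⟩ := ObsLib.exists_semiInv_den v ρ hρ hconn hsol (fun _ => (1 : k)) hb₀
    (fun g => by
      rw [one_smul]
      refine (TensorProduct.lid k A).symm.injective ?_
      show (1 : k) ⊗ₜ[k] _ = (1 : k) ⊗ₜ[k] _
      have h := hinv k (ObsLib.ptk v g)
      rw [ObsLib.rho_ptk, ObsLib.rho_ptk, Algebra.TensorProduct.tmul_mul_tmul, Algebra.TensorProduct.tmul_mul_tmul,
        _root_.one_mul] at h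
      exact h)
  obtain ⟨c, hc', hc1⟩ := ObsLib.semiInv_of_weight (S := (⊤ : Subgroup (BorelLib.Pt k R))) (ObsLib.toRep v ρ) hb
    (χ := θ) fun g _ => hbθ g
  have h1 : ∀ g, θ g = 1 := fun g => ObsLib.char_uni hc' hc1 trivial (huni g)
  refine ⟨a, b, (ObsLib.fixedUnder_iff v v hπ ρ a).2 fun y => ?_, (ObsLib.fixedUnder_iff v v hπ ρ b).2 fun y => ?_,
    hb, hab⟩
  · rw [haθ, h1, _root_.one_mul, one_smul]
  · rw [hbθ, h1, one_smul]

end Groth.Agent.S11241
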