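import Groth.Statements.S11242
import Groth.Agent.ObsLib.BorelDecomp
import Groth.Agent.ObsLib.WeightFin
import Groth.Agent.CommSubLib.Main

set_option autoImplicit false
set_option linter.style.haveILetI false
set_option backward.isDefEq.respectTransparency false
set_option backward.isDefEq.respectTransparency.types false
set_option maxHeartbeats 2000000
set_option synthInstance.maxHeartbeats 400000
universe u
open CategoryTheory MonoidalCategory CartesianMonoidalCategory MonObj GrpObj AlgebraicGeometry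
open scoped TensorProduct
open AGF

attribute [-instance] CategoryTheory.Hom.commGroup

namespace Groth.Agent.S11242

attribute [local instance] BorelLib.pTop BorelLib.pTopTensor BlowRegLib.algTop
open Groth.Agent CoactBr

/-- Let k be an algebraically closed field, G a connected reductive linear algebraic group over k, B a
Borel subgroup of G with unipotent radical U, T a maximal torus of G contained in B, and ω a
character of T. Consider the space E(ω) of global functions f on G which are invariant under right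
translation by U and on which right translation by T acts through ω (f(x·u) = f(x), f(x·t) =
ω(t)·f(x)); the published statement writes this space with its weight twisted by the opposition
involution, and finite-dimensionality is the same statement. This space is finite-dimensional: there
are finitely many global functions such that every member of E(ω) is a combination of them with
constant coefficients. -/
theorem result (k : Type u) [Field k] [IsAlgClosed k]
    (G : Over (Spec (CommRingCat.of k))) [GrpObj G] (hG : Red.IsReductiveOver k G)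
    (Bo : Over (Spec (CommRingCat.of k))) [GrpObj Bo] (iB : Bo ⟶ G) (hB : Red.IsBorelOver k iB)
    (U : Over (Spec (CommRingCat.of k))) [GrpObj U] (u : U ⟶ Bo) (hU : Par.IsUnipotentRadical u)
    (T : Over (Spec (CommRingCat.of k))) [GrpObj T] (t : T ⟶ Bo) [IsMonHom t] (hT : AGF.IsMaxTorus (t ≫ iB))
    (ω : T ⟶ Red.Gm (Spec (CommRingCat.of k))) [IsMonHom ω] :
    ∃ s : Finset Γ(G.left, ⊤), ∀ f : Γ(G.left, ⊤),
      ((G ◁ (u ≫ iB)) ≫ μ[G]).left.appTop f = (fst G U).left.appTop f →
      ((G ◁ (t ≫ iB)) ≫ μ[G]).left.appTop f = (fst G T).left.appTop f * (snd G T).left.appTop (Red.gmFn ω) →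
        ∃ c : Γ(G.left, ⊤) → k,
          f = ∑ g ∈ s, G.hom.appTop ((Scheme.ΓSpecIso (CommRingCat.of k)).inv (c g)) * g := by
  classical
  obtain ⟨hGa, hGs, hGc, -⟩ := id hG
  haveI := hGa; haveI := hGs; haveI := hGc
  haveI : IsMonHom iB := hB.1
  haveI : IsMonHom u := hU.1
  obtain ⟨A, _, _, v, hv, hA, hA'⟩ := BorelLib.exists_setup G
  haveI := hv; haveI := hA; haveI := hA'
  haveI : IsDomain A := by
    haveI := CommSubLib.geometricallyIrreducible_of_connected G
    haveI : Subsingleton ↥(Spec (CommRingCat.of k)) := inferInstanceAs (Subsingleton (PrimeSpectrum k))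
    haveI : IrreducibleSpace G.left := GeometricallyIrreducible.irreducibleSpace_of_subsingleton G.hom
    haveI : AlgebraicGeometry.IsReduced G.left := AlgSpLib.isReduced_of_smooth G.hom
    haveI : IsIntegral G.left := isIntegral_of_irreducibleSpace_of_isReduced G.left
    haveI : Nontrivial A := (1 : BorelLib.Pt k A).ofConv.toRingHom.domain_nontrivial
    haveI : Nonempty ↥(Spec (CommRingCat.of A)) := inferInstanceAs (Nonempty (PrimeSpectrum A))
    haveI : IsIso v.hom.left := (Over.forget _).map_isIso v.hom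
    haveI : IsIntegral (Spec (CommRingCat.of A)) := isIntegral_of_isOpenImmersion v.hom.left
    exact (affine_isIntegral_iff (CommRingCat.of A)).1 inferInstance
  obtain ⟨hBc, hBsm⟩ := And.intro hB.2.1 hB.2.2.1
  haveI := hBc; haveI := hBsm
  obtain ⟨hUc, hUs, -⟩ := ObsLib.uni_data v iB hB u hU
  haveI := hUc; haveI := hUs
  obtain ⟨C, _, _, wU, hwU, πU, hUa, hC, hC', hπU, -⟩ := ObsLib.exists_sub_data v (u ≫ iB)
  haveI := hwU; haveI := hUa; haveI := hC; haveI := hC'
  haveI : IsMonHom (t ≫ iB) := inferInstance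
  haveI := (BorelLib.facts_torus v (iT := t ≫ iB) hT.2.1 hT.2.2.1).1
  haveI : LocallyOfFiniteType T.hom := by rw [← Over.w (t ≫ iB)]; infer_instance
  haveI : Smooth T.hom := (AlbLib.smooth_connected_of_isTorus hT.2.2.1).1
  obtain ⟨D, _, _, wT, hwT, πT, hTa, hD, hD', hπT, -⟩ := ObsLib.exists_sub_data v (t ≫ iB)
  haveI := hwT; haveI := hTa; haveI := hD; haveI := hD'
  let eA : Γ(G.left, ⊤) ≃ₐ[k] A := AlgEquiv.ofBijective (ObsLib.ev v) (ObsLib.ev_bijective v)
  -- the space on points
  let E : Set A := {a | ObsLib.Inv (BorelLib.ptsSub v (u ≫ iB)) a ∧ ∀ x (y : BorelLib.Pt k D),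
    (x * BorelLib.pull πT y).ofConv a = y.ofConv (ObsLib.ev wT (Red.gmFn ω)) * x.ofConv a}
  have hE : ∀ f : Γ(G.left, ⊤),
      ((G ◁ (u ≫ iB)) ≫ μ[G]).left.appTop f = (fst G U).left.appTop f →
      ((G ◁ (t ≫ iB)) ≫ μ[G]).left.appTop f = (fst G T).left.appTop f * (snd G T).left.appTop (Red.gmFn ω) →
        eA f ∈ E := fun f h1 h2 => by
    refine ⟨(ObsLib.isRTransInv_iff_inv v wU hπU f).1 h1, fun x y => ?_⟩
    show (x * BorelLib.pull πT y).ofConv (ObsLib.ev v f) = _ * x.ofConv (ObsLib.ev v f)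
    rw [← ObsLib.evalPt_lift_mul v wT hπT x y, h2, map_mul, ObsLib.evalPt_lift_fst v wT hπT, ObsLib.evalPt_appTop,
      lift_snd, ObsLib.evalPt_ptk, mul_comm]
  suffices hfin : ∃ s : Finset A, ∀ a ∈ E, a ∈ Submodule.span k (↑s : Set A) by
    obtain ⟨s, hs⟩ := hfin
    refine ⟨s.image eA.symm, fun f h1 h2 => ?_⟩
    have hmem : f ∈ Submodule.span k (↑(s.image eA.symm) : Set Γ(G.left, ⊤)) := by
      rw [Finset.coe_image]
      have h3 := Submodule.mem_map_of_mem (f := eA.symm.toLinearMap) (hs _ (hE f h1 h2))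
      rw [Submodule.map_span] at h3
      change eA.symm (eA f) ∈ _ at h3
      rwa [AlgEquiv.symm_apply_apply] at h3
    obtain ⟨c, hc⟩ := Submodule.mem_span_finset.1 hmem
    refine ⟨c, hc.2.symm.trans (Finset.sum_congr rfl fun g _ => ?_)⟩
    rw [Algebra.smul_def]
    rfl
  by_cases hzero : ∀ a ∈ E, a = 0
  · exact ⟨∅, fun a ha => by rw [hzero a ha]; exact zero_mem _⟩
  push Not at hzero
  obtain ⟨a₀, ha₀, h0⟩ := hzero
  obtain ⟨x₀, hx₀⟩ : ∃ x₀ : BorelLib.Pt k A, x₀.ofConv a₀ ≠ 0 := by
    by_contra! h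
    exact h0 (BorelLib.eq_zero_of_forall (k := k) h)
  -- the group acting on the whole space by one scalar
  let M : Subgroup (BorelLib.Pt k A) :=
    { carrier := {h | ∃ c : k, c ≠ 0 ∧ ∀ a ∈ E, ∀ x : BorelLib.Pt k A, (x * h).ofConv a = c * x.ofConv a}
      one_mem' := ⟨1, one_ne_zero, fun a _ x => by rw [_root_.mul_one, _root_.one_mul]⟩
      mul_mem' := fun {g h} ⟨c, hc, hg⟩ ⟨d, hd, hh⟩ => ⟨d * c, mul_ne_zero hd hc, fun a ha x => by
        rw [← _root_.mul_assoc, hh a ha, hg a ha, _root_.mul_assoc]⟩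
      inv_mem' := fun {g} ⟨c, hc, hg⟩ => ⟨c⁻¹, inv_ne_zero hc, fun a ha x => by
        have h := hg a ha (x * g⁻¹)
        rw [inv_mul_cancel_right] at h
        rw [h, inv_mul_cancel_left₀ hc]⟩ }
  have hMc : IsClosed (M : Set (BorelLib.Pt k A)) := by
    have e : (M : Set (BorelLib.Pt k A)) = ⋂ a ∈ E, ⋂ x : BorelLib.Pt k A,
        {h | (x * h).ofConv a * x₀.ofConv a₀ = (x₀ * h).ofConv a₀ * x.ofConv a} := by
      ext h
      simp only [Set.mem_iInter, Set.mem_ofPred_eq, SetLike.mem_coe]
      constructor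
      · rintro ⟨c, -, hc⟩ a ha x
        rw [hc a ha, hc a₀ ha₀]
        ring
      · intro hh
        refine ⟨(x₀ * h).ofConv a₀ / x₀.ofConv a₀, div_ne_zero (fun h0' => hx₀ ?_) hx₀, fun a ha x => ?_⟩
        · have h1 := hh a₀ ha₀ (x₀ * h⁻¹)
          rw [inv_mul_cancel_right, h0', zero_mul] at h1
          exact (mul_self_eq_zero.1 h1)
        · rw [div_mul_eq_mul_div, eq_div_iff hx₀]
          exact hh a ha x
    rw [e]
    refine isClosed_biInter fun a _ => isClosed_iInter fun x => BorelLib.IsReg.isClosed_eq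
      (((BorelLib.IsReg.eval a).comp (BorelLib.IsMor.const x |>.mul BorelLib.IsMor.id)).mul (BorelLib.IsReg.const _))
      (((BorelLib.IsReg.eval a₀).comp (BorelLib.IsMor.const x₀ |>.mul BorelLib.IsMor.id)).mul (BorelLib.IsReg.const _))
  have hUM : BorelLib.ptsSub v (u ≫ iB) ≤ M := fun h hh =>
    ⟨1, one_ne_zero, fun a ha x => by rw [_root_.one_mul]; exact ha.1 x h hh⟩
  have hTM : BorelLib.ptsSub v (t ≫ iB) ≤ M := fun h hh => by
    obtain ⟨y, rfl⟩ := (ObsLib.mem_sub_iff v wT hπT).1 hh
    refine ⟨y.ofConv (ObsLib.ev wT (Red.gmFn ω)), fun hy => hx₀ ?_, fun a ha x => ha.2 x y⟩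
    have h1 := ha₀.2 (x₀ * (BorelLib.pull πT y)⁻¹) y
    rwa [inv_mul_cancel_right, hy, zero_mul] at h1
  have hBM := ObsLib.borel_le v hB hU hT hMc hTM hUM
  have hcomp : BorelLib.Complete (⊤ : Subgroup (BorelLib.Pt k A)) (BorelLib.ptsSub v iB) := by
    haveI : PreconnectedSpace G.left := inferInstance
    obtain ⟨h1, h2⟩ := BorelLib.facts_top v
    exact BorelLib.IsBor.complete h1 h2 (BorelLib.isBor_ptsSub v hB)
  obtain ⟨s, hs⟩ := ObsLib.finite_semiInv hcomp fun h => (x₀ * h).ofConv a₀ / x₀.ofConv a₀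
  refine ⟨s, fun a ha => hs a fun x h hh => ?_⟩
  obtain ⟨c, -, hc⟩ := hBM hh
  simp only []
  rw [hc a ha, hc a₀ ha₀, mul_div_assoc, div_self hx₀, _root_.mul_one]

end Groth.Agent.S11242
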