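import Groth.Statements.S11243
import Groth.Agent.RootSys.Height
-- import your own Groth.Agent.* helpers here

set_option autoImplicit false
universe u v w
open RootD

namespace Groth.Agent.S11243

open RootSysLib RootBasicLib RootPairing

/-- (b), for a connected group, as a statement about its root datum: let P be a finite reduced
crystallographic root pairing over ℤ with weight lattice M, and b a base of P (simple roots,
determining the positive roots). Then there is an additive map h : M → ℤ which is positive on every
positive root (so that h strictly increases along the dominance order) and non-negative on every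
dominant weight, i.e. on every ω ∈ M pairing non-negatively with all simple coroots. (Part (c),
invariance under the component group of a disconnected group, is not stated.) -/
theorem result {ι : Type u} {M : Type v} {N : Type w}
    [Fintype ι] [AddCommGroup M] [AddCommGroup N]
    (P : RootPairing ι ℤ M N) [P.IsReduced] [P.IsCrystallographic] (b : P.Base) :
    ∃ h : M →+ ℤ, (∀ i : ι, b.IsPos i → 0 < h (P.root i)) ∧
      ∀ ω : M, (∀ j ∈ b.support, 0 ≤ P.toLinearMap ω (P.coroot j)) → 0 ≤ h ω := by
  classical
  refine ⟨(∑ j, if b.IsPos j then P.coroot' j else 0 : M →ₗ[ℤ] ℤ).toAddMonoidHom, fun i hi => ?_, fun w hw => ?_⟩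
  · have h := two_mul_height b i
    simp only [LinearMap.toAddMonoidHom_coe, LinearMap.coe_sum, Finset.sum_apply, apply_ite DFunLike.coe,
      ite_apply, LinearMap.zero_apply, Pi.zero_apply, P.root_coroot'_eq_pairing]
    rw [← h]
    exact mul_pos two_pos hi
  · simp only [LinearMap.toAddMonoidHom_coe, LinearMap.coe_sum, Finset.sum_apply]
    refine Finset.sum_nonneg fun i _ => ?_
    split
    · exact coroot'_nonneg_of_dominant b (by assumption) hw
    · exact le_rfl


end Groth.Agent.S11243
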