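import Groth.Statements.S11245
import Groth.Agent.RedCharZeroLib.GMod
import Groth.Agent.DeligneKillLib.Affine

set_option autoImplicit false
universe u
open CategoryTheory MonoidalCategory CartesianMonoidalCategory MonObj GrpObj AlgebraicGeometry
open scoped TensorProduct
open AGF

open scoped ComodLib
attribute [-instance] CategoryTheory.ReflQuiver.toQuiver

namespace Groth.Agent.S11245

/-- Let k be an algebraically closed field of characteristic zero, G a linear algebraic group over k
(affine, smooth) whose identity component is reductive, B a Borel subgroup with unipotent radical U.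
Then every rational G-module V equals G·V^U, the intersection of all G-stable subspaces of V
containing the U-invariants V^U. (In characteristic zero every finite-dimensional rational G-module
is completely reducible, a classical result on which the proof rests.) -/
theorem result (k : Type u) [Field k] [IsAlgClosed k] [CharZero k]
    (G : Over (Spec (CommRingCat.of k))) [GrpObj G] (hG : VecGrp.IsReductiveGrp k G)
    (Bo : Over (Spec (CommRingCat.of k))) [GrpObj Bo] (iB : Bo ⟶ G) (hB : Red.IsBorelOver k iB)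
    (U : Over (Spec (CommRingCat.of k))) [GrpObj U] (u : U ⟶ Bo) (hU : Par.IsUnipotentRadical u)
    (V : Type u) [AddCommGroup V] [Module k V] (ρ : VecGrp.GMod G V) :
    sInf {W : Submodule k V | ρ.fixedUnder (u ≫ iB) ≤ W ∧ ρ.IsStable (𝟙 G) W} = ⊤ := by
  obtain ⟨hGa, hGs, G₀, iG₀, j, hj, hjo, hG₀⟩ := hG
  obtain ⟨hiB, hiBc, hBs, -, -, -⟩ := hB
  obtain ⟨hu, huc, -, hUs, -, hUf, -⟩ := hU
  haveI := hGa; haveI := hj; haveI := hjo; haveI := hiB; haveI := hiBc; haveI := hu; haveI := huc
  haveI := hG₀.1; haveI := hG₀.2.1; haveI := hUs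
  haveI : IsAffine Bo.left := isAffine_of_isAffineHom iB.left
  haveI : IsAffine U.left := isAffine_of_isAffineHom u.left
  obtain ⟨A, _, _, v₀, hv₀, hv₀'⟩ := DeligneKillLib.exists_sp G₀
  obtain ⟨B, _, _, vU, hvU, hvU'⟩ := DeligneKillLib.exists_sp U
  haveI := hv₀; haveI := hv₀'; haveI := hvU; haveI := hvU'
  have hsA : Smooth (CoactBr.sp k A).hom := by
    haveI : IsIso v₀.hom.left := (Over.forget _).map_isIso v₀.hom
    rw [← Over.w v₀.hom]; infer_instance
  have hsB : Smooth (CoactBr.sp k B).hom := by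
    haveI : IsIso vU.hom.left := (Over.forget _).map_isIso vU.hom
    rw [← Over.w vU.hom]; infer_instance
  haveI := RedCharZeroLib.finiteType_of_smooth hsA
  haveI := RedCharZeroLib.finiteType_of_smooth hsB
  haveI : IsMonHom v₀.symm.hom := by dsimp only [Iso.symm_hom]; infer_instance
  have hA : HopfRep.IsLinearlyReductive k A :=
    RedCharZeroLib.isLinearlyReductive_of_isReductiveOver (RedCharZeroLib.isReductiveOver_of_iso v₀.symm hG₀)
  have hBu : HopfRep.IsUnipotent k B := RedCharZeroLib.isUnipotent_of_geomFibre vU hUf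
  haveI : ConnectedSpace ↥(Spec (CommRingCat.of B)) := by
    let s : (Spec (CommRingCat.of k) : Scheme.{u}) := IsLocalRing.closedPoint k
    haveI : ConnectedSpace ↥(Limits.pullback U.hom (Red.geomPt s)) := (hUf s).1
    haveI : Surjective (Red.geomPt s) := ⟨fun y => ⟨(⊥ : PrimeSpectrum _),
      @Subsingleton.elim (PrimeSpectrum k) inferInstance _ _⟩⟩
    haveI : Surjective (Limits.pullback.fst U.hom (Red.geomPt s)) := MorphismProperty.pullback_fst _ _ inferInstance
    haveI : ConnectedSpace U.left :=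
      (Limits.pullback.fst U.hom (Red.geomPt s)).surjective.connectedSpace
        (Limits.pullback.fst U.hom (Red.geomPt s)).continuous
    haveI : IsIso vU.inv.left := (Over.forget _).map_isIso vU.inv
    exact vU.inv.left.surjective.connectedSpace vU.inv.left.continuous
  haveI : IsDomain B := RedCharZeroLib.isDomain_of_connected hsB inferInstance
  haveI : IsMonHom (v₀.hom ≫ j) := inferInstance
  haveI : IsMonHom (vU.hom ≫ u ≫ iB) := inferInstance
  letI cA : HopfRep.Comod k A V := RedCharZeroLib.comodOf ρ (v₀.hom ≫ j)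
  let W : Submodule k V := sInf {W : Submodule k V | ρ.fixedUnder (u ≫ iB) ≤ W ∧ ρ.IsStable (𝟙 G) W}
  show W = ⊤
  have hW : HopfRep.IsSubcomod (k := k) (A := A) W := by
    rw [ComodLib.isSubcomod_iff]
    intro f x hx
    rw [Submodule.mem_sInf] at hx ⊢
    intro W' hW'
    exact (ComodLib.isSubcomod_iff W').1 (RedCharZeroLib.isSubcomod_of_isStable ρ (v₀.hom ≫ j) hW'.2) f x (hx W' hW')
  have hfix : ρ.fixedUnder (u ≫ iB) ≤ W := le_sInf fun W' h => h.1
  obtain ⟨W', hW', hc⟩ :=
    ComodLib.isSemisimpleComod_of_forall_finite (V := V) (fun U' _ _ _ hfin => hA U' hfin) W hW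
  suffices W' = ⊥ by
    have hh := hc.sup_eq_top
    rwa [this, sup_bot_eq] at hh
  by_contra hne
  -- a basic open of `U` landing in `G₀`
  let θ : CoactBr.sp k B ⟶ G := vU.hom ≫ u ≫ iB
  obtain ⟨f, hf, hfsub⟩ : ∃ f : B, CoalgebraStruct.counit (R := k) f ≠ 0 ∧
      ∀ P : PrimeSpectrum B, f ∉ P.asIdeal → θ.left.base P ∈ Set.range j.left.base := by
    let e : PrimeSpectrum B := ⟨RingHom.ker (Bialgebra.counitAlgHom k B), RingHom.ker_isPrime _⟩
    have he : θ.left.base e ∈ Set.range j.left.base := by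
      let p0 : PrimeSpectrum k := ⊥
      have h1 : ((1 : CoactBr.sp k k ⟶ CoactBr.sp k B) ≫ θ).left.base p0 = θ.left.base e := by
        rw [Over.comp_left, Scheme.Hom.comp_base, TopCat.comp_app, CoactBr.one_eq_pt, CoactBr.pt_left]
        congr 1
      rw [← h1, show (1 : CoactBr.sp k k ⟶ CoactBr.sp k B) ≫ θ = (1 : CoactBr.sp k k ⟶ G₀) ≫ j by
        rw [MonObj.one_comp, MonObj.one_comp], Over.comp_left, Scheme.Hom.comp_base, TopCat.comp_app]
      exact ⟨_, rfl⟩
    have hopen : IsOpen (θ.left.base ⁻¹' Set.range j.left.base) :=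
      j.left.isOpenEmbedding.isOpen_range.preimage θ.left.continuous
    obtain ⟨_, ⟨f, rfl⟩, hfe, hsub⟩ :=
      PrimeSpectrum.isTopologicalBasis_basic_opens.exists_subset_of_mem_open (a := e) he hopen
    exact ⟨f, fun h => hfe h, fun P hP => hsub hP⟩
  letI cB : HopfRep.Comod k B V := RedCharZeroLib.comodOf ρ θ
  -- rational points of `U` preserve `W'`
  have hgood : ∀ q : B →ₐ[k] k, q f ≠ 0 → ∀ x ∈ W', (WithConv.toConv q.toLinearMap : ComodLib.Dual' k B) • x ∈ W' := by
    intro q hq x hx
    have hr : Set.range (CoactBr.pt q ≫ θ).left.base ⊆ Set.range j.left.base := by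
      rintro _ ⟨p0, rfl⟩
      rw [Over.comp_left, Scheme.Hom.comp_base, TopCat.comp_app]
      refine hfsub _ fun hmem => hq ?_
      have hp : q f ∈ (p0 : PrimeSpectrum k).asIdeal := hmem
      rwa [(Ideal.eq_bot_or_top (p0 : PrimeSpectrum k).asIdeal).resolve_right (p0 : PrimeSpectrum k).2.ne_top,
        Ideal.mem_bot] at hp
    let g' : CoactBr.sp k k ⟶ G₀ := Over.homMk (IsOpenImmersion.lift j.left (CoactBr.pt q ≫ θ).left hr) (by
      rw [← Over.w j, ← Category.assoc, IsOpenImmersion.lift_fac, Over.w])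
    have hg' : g' ≫ j = CoactBr.pt q ≫ θ := Over.OverMorphism.ext (IsOpenImmersion.lift_fac _ _ _)
    obtain ⟨a, ha⟩ := Groth.Agent.DiagRep.exists_pt (g' ≫ v₀.inv)
    have e : CoactBr.pt a ≫ v₀.hom ≫ j = CoactBr.pt q ≫ θ := by
      rw [← ha, Category.assoc, Iso.inv_hom_id_assoc, hg']
    have h1 := ((RedCharZeroLib.comodOf_smul ρ θ q x).symm.trans (congrArg (fun g : CoactBr.sp k k ⟶ G =>
      ρ.ρ k g (TensorProduct.tmul k (1 : k) x)) e.symm)).trans (RedCharZeroLib.comodOf_smul ρ (v₀.hom ≫ j) a x)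
    have h2 := congrArg (TensorProduct.lid k V) h1
    simp only [TensorProduct.lid_tmul, one_smul] at h2
    refine (congrArg (fun y : V => y ∈ W') h2).mpr ?_
    exact (ComodLib.isSubcomod_iff W').1 hW' _ x hx
  haveI : IsReduced B := inferInstance
  have hstab : ∀ g : ComodLib.Dual' k B, ∀ x ∈ W', g • x ∈ W' := fun g x hx =>
    RedCharZeroLib.smul_mem_of_points (fun q y hy => by
      obtain ⟨v, w, hv, hw, he⟩ := RedCharZeroLib.exists_mul_of_basicOpen hf q
      rw [Groth.Agent.DiagRep.pt_mul_conv] at he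
      rw [CoactBr.pt_injective he, ← RedCharZeroLib.toConv_mul, mul_smul]
      exact hgood v hv _ (hgood w hw y hy)) g hx
  obtain ⟨x, hx, hx0⟩ := Submodule.exists_mem_ne_zero_of_ne_bot hne
  let S : Submodule k V := (Submodule.span (ComodLib.Dual' k B) {x}).restrictScalars k
  haveI : Module.Finite k S := ComodLib.finite_span_singleton B x
  have hS : HopfRep.IsSubcomod (k := k) (A := B) S := ComodLib.isSubcomod_restrictScalars _
  have hSW : S ≤ W' := by
    intro y hy
    obtain ⟨g, rfl⟩ := Submodule.mem_span_singleton.1 hy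
    exact hstab g x hx
  haveI : Nontrivial S := nontrivial_of_ne ⟨x, Submodule.mem_span_singleton_self x⟩ 0 fun h =>
    hx0 (congrArg Subtype.val h)
  letI cS : HopfRep.Comod k B S := ComodLib.subComod hS
  obtain ⟨y, hy, hy0⟩ := Submodule.exists_mem_ne_zero_of_ne_bot (hBu S inferInstance inferInstance)
  refine hy0 (Subtype.ext ?_)
  have hyfix : (y : V) ∈ HopfRep.fixedPts k B V := by
    have h := LinearMap.congr_fun (ComodLib.isComodHom_subtype hS) y
    simp only [LinearMap.comp_apply] at h
    refine h.trans ?_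
    rw [show HopfRep.Comod.coact (k := k) (A := B) y = y ⊗ₜ[k] (1 : B) from hy]
    rfl
  exact Submodule.disjoint_def.1 hc.disjoint (y : V)
    (hfix (RedCharZeroLib.mem_fixedUnder_of_iso ρ (u ≫ iB) vU hyfix)) (hSW y.2)

end Groth.Agent.S11245
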