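import Groth.Statements.S11246
import Groth.Agent.ObsLib.SemiFrac
-- import your own Groth.Agent.* helpers here

set_option autoImplicit false
set_option linter.style.haveILetI false
set_option backward.isDefEq.respectTransparency false
set_option backward.isDefEq.respectTransparency.types false
set_option maxHeartbeats 2000000
set_option synthInstance.maxHeartbeats 400000
universe u
open CategoryTheory MonoidalCategory CartesianMonoidalCategory MonObj GrpObj AlgebraicGeometry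
open scoped TensorProduct
open AGF

attribute [-instance] CategoryTheory.Hom.commGroup

namespace Groth.Agent.S11246

attribute [local instance] BorelLib.pTop BorelLib.pTopTensor
open Groth.Agent CoactBr

/-- Let k be an algebraically closed field and H a connected solvable linear algebraic group over k
(affine, smooth, connected, solvable) with maximal torus T and unipotent radical U (so H = T·U),
acting rationally by algebra automorphisms on a commutative k-algebra A which is an integral domain.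
Let χ be a character of H and let a₀, b₀ ∈ A, b₀ ≠ 0, be such that H acts on the fraction a₀/b₀
through χ: (h·a₀)·b₀ = χ(h)·a₀·(h·b₀) for every point h of H. Then there are U-invariant elements a,
b ∈ A with b ≠ 0 and a·b₀ = b·a₀ (so a₀/b₀ = a/b), and a character θ of T such that b is a
T-semi-invariant of weight θ and a is a T-semi-invariant of weight θ + χ|_T. -/
theorem result (k : Type u) [Field k] [IsAlgClosed k]
    (H : Over (Spec (CommRingCat.of k))) [GrpObj H] [IsAffine H.left] [Smooth H.hom] [ConnectedSpace H.left]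
    (hsolv : Red.IsSolvableGrp H)
    (T : Over (Spec (CommRingCat.of k))) [GrpObj T] (iT : T ⟶ H) [IsMonHom iT] (hT : AGF.IsMaxTorus iT)
    (U : Over (Spec (CommRingCat.of k))) [GrpObj U] (uH : U ⟶ H) (hU : Par.IsUnipotentRadical uH)
    (χ : H ⟶ Red.Gm (Spec (CommRingCat.of k))) [IsMonHom χ]
    (A : Type u) [CommRing A] [IsDomain A] [Algebra k A] (ρ : VecGrp.GMod H A) (hρ : ρ.IsMult)
    (a₀ b₀ : A) (hb₀ : b₀ ≠ 0)
    (hχ : ∀ (B : Type u) [CommRing B] [Algebra k B] (h : VecGrp.pt k B ⟶ H),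
      ρ.ρ B h ((1 : B) ⊗ₜ[k] a₀) * ((1 : B) ⊗ₜ[k] b₀) =
        VecGrp.chiVal χ h • (((1 : B) ⊗ₜ[k] a₀) * ρ.ρ B h ((1 : B) ⊗ₜ[k] b₀))) :
    ∃ a b : A, a ∈ ρ.fixedUnder uH ∧ b ∈ ρ.fixedUnder uH ∧ b ≠ 0 ∧ a * b₀ = b * a₀ ∧
      ∃ θ : T ⟶ Red.Gm (Spec (CommRingCat.of k)), IsMonHom θ ∧
        (∀ (B : Type u) [CommRing B] [Algebra k B] (t : VecGrp.pt k B ⟶ T),
          ρ.ρ B (t ≫ iT) ((1 : B) ⊗ₜ[k] b) = VecGrp.chiVal θ t • ((1 : B) ⊗ₜ[k] b)) ∧
        (∀ (B : Type u) [CommRing B] [Algebra k B] (t : VecGrp.pt k B ⟶ T),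
          ρ.ρ B (t ≫ iT) ((1 : B) ⊗ₜ[k] a) =
            (VecGrp.chiVal θ t * VecGrp.chiVal χ (t ≫ iT)) • ((1 : B) ⊗ₜ[k] a)) := by
  obtain ⟨R, _, _, v, hv, hR, hR'⟩ := BorelLib.exists_setup H
  haveI := hv; haveI := hR; haveI := hR'
  haveI : IsClosedImmersion (𝟙 H : H ⟶ H).left := inferInstanceAs (IsClosedImmersion (𝟙 H.left))
  have hπ : v.hom ≫ 𝟙 H = ObsLib.gpt v (AlgHom.id k R) := by
    rw [Category.comp_id, ObsLib.gpt, CoactBr.pt_id]
    exact (Category.id_comp _).symm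
  have hsol : BorelLib.IsSol (⊤ : Subgroup (BorelLib.Pt k R)) :=
    (BorelLib.isSol_ptsSub v (i := 𝟙 H) hsolv).mono fun x _ => by
      rw [ObsLib.mem_ptsSub']
      exact ⟨ObsLib.ptk v x, Category.comp_id _⟩
  obtain ⟨a, b, θ, hb, hab, -, hbθ, haθ⟩ := ObsLib.exists_semiInv_den v ρ hρ
    (BorelLib.isPreconnected_univ_of_connected v) hsol (fun g => g.ofConv (ObsLib.ev v (Red.gmFn χ))) hb₀
    (fun g => by
      refine (TensorProduct.lid k A).symm.injective ?_
      show (1 : k) ⊗ₜ[k] _ = (1 : k) ⊗ₜ[k] _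
      have h := hχ k (ObsLib.ptk v g)
      rw [ObsLib.rho_ptk, ObsLib.rho_ptk, Algebra.TensorProduct.tmul_mul_tmul, Algebra.TensorProduct.tmul_mul_tmul,
        _root_.one_mul, ← TensorProduct.tmul_smul, VecGrp.chiVal, GmPts.gmFn_comp] at h
      rw [h, ← ObsLib.evalPt_ptk]
      rfl)
  obtain ⟨cf, hcf, hcf1⟩ := ObsLib.semiInv_of_weight (S := (⊤ : Subgroup (BorelLib.Pt k R))) (ObsLib.toRep v ρ) hb
    (χ := θ) fun g _ => hbθ g
  obtain ⟨hu, huc, -, huS, huQ, hug, -⟩ := id hU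
  haveI := hu; haveI := huc; haveI := huS
  let s : ↥(Spec (CommRingCat.of k) : Scheme.{u}) := IsLocalRing.closedPoint k
  haveI : ConnectedSpace U.left := BorelLib.connectedSpace_of_geom _ _ (hug s).1
  obtain ⟨B, _, _, w, hw, π, hUa, hB, hB', hπU, -⟩ := ObsLib.exists_sub_data v uH
  haveI := hw; haveI := hUa; haveI := hB; haveI := hB'
  have hθU : ∀ y : BorelLib.Pt k B, θ (BorelLib.pull π y) = 1 := fun y =>
    ObsLib.char_uni hcf hcf1 trivial (BorelLib.uni_of_hasNoSubtorus v uH (BorelLib.hasNoSubtorus_of_geom s (hug s).2)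
      _ (ObsLib.pull_mem v w hπU y))
  have hχU : ∀ y : BorelLib.Pt k B, (BorelLib.pull π y).ofConv (ObsLib.ev v (Red.gmFn χ)) = 1 := fun y => by
    have hm : ∀ g g' : BorelLib.Pt k R, (g * g').ofConv (ObsLib.ev v (Red.gmFn χ)) =
        g.ofConv (ObsLib.ev v (Red.gmFn χ)) * g'.ofConv (ObsLib.ev v (Red.gmFn χ)) := fun g g' => by
      have e : (ObsLib.ptk v g * ObsLib.ptk v g') ≫ χ = (ObsLib.ptk v g ≫ χ) * (ObsLib.ptk v g' ≫ χ) :=
        MonObj.mul_comp _ _ _
      have e' := congrArg Red.gmFn e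
      rw [GmPts.gmFn_mul, GmPts.gmFn_comp, GmPts.gmFn_comp, GmPts.gmFn_comp, ← ObsLib.ptk_mul] at e'
      rw [← ObsLib.evalPt_ptk, ← ObsLib.evalPt_ptk, ← ObsLib.evalPt_ptk]
      exact (congrArg (Scheme.ΓSpecIso (CommRingCat.of k)).hom.hom e').trans (map_mul _ _ _)
    have h1 : (1 : BorelLib.Pt k R).ofConv (ObsLib.ev v (Red.gmFn χ)) = 1 := by
      have e := congrArg Red.gmFn (MonObj.one_comp (X := VecGrp.pt k k) χ)
      rw [GmPts.gmFn_comp, GmPts.gmFn_one] at e
      rw [← ObsLib.evalPt_ptk, ObsLib.ptk_one]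
      exact (congrArg (Scheme.ΓSpecIso (CommRingCat.of k)).hom.hom e).trans (map_one _)
    refine ObsLib.char_uni (S := (⊤ : Subgroup (BorelLib.Pt k R))) (a := ObsLib.ev v (Red.gmFn χ))
      (fun x g _ => by rw [hm, mul_comm]) (by rw [h1]; exact one_ne_zero) trivial
      (BorelLib.uni_of_hasNoSubtorus v uH (BorelLib.hasNoSubtorus_of_geom s (hug s).2) _ (ObsLib.pull_mem v w hπU y))
  refine ⟨a, b, (ObsLib.fixedUnder_iff v w hπU ρ a).2 fun y => ?_, (ObsLib.fixedUnder_iff v w hπU ρ b).2 fun y => ?_,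
    hb, hab, ?_⟩
  · rw [haθ, hθU, hχU, _root_.one_mul, one_smul]
  · rw [hbθ, hθU, one_smul]
  obtain ⟨-, hTm, hTT, -⟩ := id hT
  haveI := hTm
  haveI := BorelLib.isClosedImmersion_of_torus v iT hTT
  haveI : LocallyOfFiniteType T.hom := by rw [← Over.w iT]; infer_instance
  haveI : Smooth T.hom := (AlbLib.smooth_connected_of_isTorus hTT).1
  obtain ⟨C, _, _, z, hz, τ, hTa, hC, hC', hτ, -⟩ := ObsLib.exists_sub_data v iT
  haveI := hz; haveI := hTa; haveI := hC; haveI := hC'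
  obtain ⟨c, hcm, hcv⟩ := ObsLib.exists_char v z hτ (fun x h _ => hcf x h trivial) hcf1
  refine ⟨c, hcm, (ObsLib.weight_iff v z hτ ρ b c).2 fun y => by rw [hbθ, hcv], ?_⟩
  have key := (ObsLib.weight_iff v z hτ ρ a (c * (iT ≫ χ))).2 fun y => by
    rw [haθ, GmPts.gmFn_mul, map_mul, map_mul, hcv, GmPts.gmFn_comp]
    congr 2
    rw [← ObsLib.evalPt_ptk, ← ObsLib.evalPt_ptk, ObsLib.evalPt_appTop, ObsLib.ptk_comp v z hτ]
  intro B' _ _ t
  rw [key B' t, VecGrp.chiVal, VecGrp.chiVal, VecGrp.chiVal, MonObj.comp_mul, GmPts.gmFn_mul, map_mul, Category.assoc]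

end Groth.Agent.S11246
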