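import Groth.Statements.S11248
import Groth.Agent.ObsLib.StableAlg
import Groth.Agent.S11208
import Groth.Agent.S11225

set_option linter.style.haveILetI false
set_option backward.isDefEq.respectTransparency false
set_option backward.isDefEq.respectTransparency.types false
set_option maxHeartbeats 2000000
set_option synthInstance.maxHeartbeats 400000

set_option autoImplicit false
universe u
open CategoryTheory MonoidalCategory CartesianMonoidalCategory MonObj GrpObj AlgebraicGeometry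
open scoped TensorProduct
open AGF

attribute [-instance] CategoryTheory.Hom.commGroup

namespace Groth.Agent.S11248

attribute [local instance] BorelLib.pTop BorelLib.pTopTensor
open Groth.Agent

/-- Let k be an algebraically closed field, G a linear algebraic group over k (affine, smooth) acting
rationally by algebra automorphisms on a commutative k-algebra A, H a smooth closed subgroup of G,
and L a smooth closed subgroup of G whose identity component is reductive and which normalizes H;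
let B_L be a Borel subgroup of L and U(L) its unipotent radical (a maximal unipotent subgroup of L).
Assume finite generation of invariants of reductive groups over k on finitely generated algebras (a
true result which the published text assumes without proof, carried here as a hypothesis). Then A^H
is a finitely generated k-algebra exactly when the algebra of invariants of H·U(L), namely A^H ∩
A^{U(L)}, is finitely generated over k. -/
theorem result (k : Type u) [Field k] [IsAlgClosed k]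
    (G : Over (Spec (CommRingCat.of k))) [GrpObj G] [IsAffine G.left] [Smooth G.hom]
    (H : Over (Spec (CommRingCat.of k))) [GrpObj H] [Smooth H.hom] (i : H ⟶ G) [IsMonHom i] [IsClosedImmersion i.left]
    (L : Over (Spec (CommRingCat.of k))) [GrpObj L] (j : L ⟶ G) [IsMonHom j] [IsClosedImmersion j.left]
    (hL : VecGrp.IsReductiveGrp k L)
    (hnorm : ∀ (X : Over (Spec (CommRingCat.of k))) (l : X ⟶ L) (h : X ⟶ H),
      ∃ h' : X ⟶ H, (l ≫ j) * (h ≫ i) * (l ≫ j)⁻¹ = h' ≫ i)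
    (BL : Over (Spec (CommRingCat.of k))) [GrpObj BL] (iBL : BL ⟶ L) (hBL : Red.IsBorelOver k iBL)
    (UL : Over (Spec (CommRingCat.of k))) [GrpObj UL] (uL : UL ⟶ BL) (hUL : Par.IsUnipotentRadical uL)
    (thmA : VecGrp.ReductiveInvariantsFG k)
    (A : Type u) [CommRing A] [Algebra k A] (ρ : VecGrp.GMod G A) (hρ : ρ.IsMult) :
    Algebra.FiniteType k ↥(ρ.fixedSubalgebra hρ i) ↔
      Algebra.FiniteType k ↥(ρ.fixedSubalgebra hρ i ⊓ ρ.fixedSubalgebra hρ (uL ≫ iBL ≫ j)) := by
  classical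
  haveI : IsAffine L.left := hL.1
  haveI : Smooth L.hom := hL.2.1
  haveI : IsMonHom iBL := hBL.1
  haveI : IsMonHom uL := hUL.1
  haveI : IsMonHom (uL ≫ iBL) := inferInstance
  obtain ⟨E, _, _, v, hv, hE, hE'⟩ := BorelLib.exists_setup G
  haveI := hv; haveI := hE; haveI := hE'
  obtain ⟨EL, _, _, vL, hvL, hEL, hEL'⟩ := BorelLib.exists_setup L
  haveI := hvL; haveI := hEL; haveI := hEL'
  obtain ⟨DH, _, _, wH, hwH, πH, hHa, hDH, hDH', hπH, -⟩ := ObsLib.exists_sub_data v i
  haveI := hwH; haveI := hHa; haveI := hDH; haveI := hDH'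
  obtain ⟨hcl, hsm, -, -, -⟩ := ObsLib.uni_data vL iBL hBL uL hUL
  haveI := hcl; haveI := hsm
  obtain ⟨DU, _, _, wU, hwU, πU, hUa, hDU, hDU', hπU, -⟩ := ObsLib.exists_sub_data vL (uL ≫ iBL)
  haveI := hwU; haveI := hUa; haveI := hDU; haveI := hDU'
  let φ : ∀ (B : Type u) [CommRing B] [Algebra k B], (VecGrp.pt k B ⟶ L) →* (VecGrp.pt k B ⟶ G) :=
    fun B _ _ => MonoidHom.mk' (fun g => g ≫ j) fun g g' => MonObj.mul_comp g g' j
  let ρL : VecGrp.GMod L A :=
    { ρ := fun B _ _ => (ρ.ρ B).comp (φ B)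
      naturality := fun {B B'} _ _ _ _ ψ g x => by
        show VecGrp.Wmap ψ (ρ.ρ B (g ≫ j) x) = ρ.ρ B' ((VecGrp.ptMap ψ ≫ g) ≫ j) (VecGrp.Wmap ψ x)
        rw [ρ.naturality, Category.assoc] }
  have hρL : ρL.IsMult := fun B _ _ g => hρ B (g ≫ j)
  set R := ρ.fixedSubalgebra hρ i with hR
  have hpts : ∀ x, ∀ a ∈ R, (ObsLib.toRep vL ρL).ρ x a ∈ R := fun x a ha => by
    refine (ObsLib.fixedUnder_iff v wH hπH ρ _).2 fun y => ?_
    obtain ⟨h, hh⟩ := (ObsLib.mem_ptsSub' v).1 (ObsLib.pull_mem v wH hπH y)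
    refine (TensorProduct.lid k A).symm.injective ?_
    show (1 : k) ⊗ₜ[k] (ObsLib.toRep v ρ).ρ _ _ = (1 : k) ⊗ₜ[k] _
    rw [← ObsLib.rho_ptk, ← ObsLib.rho_ptk vL ρL, ← hh]
    obtain ⟨h', hh'⟩ := hnorm (VecGrp.pt k k) (ObsLib.ptk vL x)⁻¹ h
    have e1 : (ObsLib.ptk vL x)⁻¹ ≫ j = (ObsLib.ptk vL x ≫ j)⁻¹ := map_inv (φ k) (ObsLib.ptk vL x)
    rw [e1, _root_.inv_inv] at hh'
    show ρ.ρ k (h ≫ i) (ρ.ρ k (ObsLib.ptk vL x ≫ j) ((1 : k) ⊗ₜ[k] a)) = ρ.ρ k (ObsLib.ptk vL x ≫ j) ((1 : k) ⊗ₜ[k] a)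
    have e2 : (h ≫ i) * (ObsLib.ptk vL x ≫ j) = (ObsLib.ptk vL x ≫ j) * (h' ≫ i) := by
      rw [← hh']; group
    rw [← LinearEquiv.mul_apply, ← map_mul, e2, map_mul, LinearEquiv.mul_apply, ha k h']
  obtain ⟨mR, hmR, hrep, -⟩ := ObsLib.exists_subMod vL R ρL hρL
    (ObsLib.isStable_of_pts vL ρL fun x a ha => hpts x a ha)
  set F2 := ρ.fixedSubalgebra hρ (uL ≫ iBL ≫ j) with hF2
  set FC := mR.fixedSubalgebra hmR (uL ≫ iBL) with hFC
  have hFC2 : ∀ c : ↥R, c ∈ FC ↔ (c : A) ∈ F2 := fun c => by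
    refine (ObsLib.fixedUnder_iff vL wU hπU mR c).trans (Iff.trans ?_
      (Iff.trans (ObsLib.fixedUnder_iff vL wU hπU ρL (c : A)).symm ?_))
    · exact ⟨fun h y => by rw [← hrep, h y], fun h y => Subtype.ext (by rw [hrep, h y])⟩
    · constructor
      · intro h B _ _ g
        have h1 : ρ.ρ B ((g ≫ (uL ≫ iBL)) ≫ j) ((1 : B) ⊗ₜ[k] (c : A)) = (1 : B) ⊗ₜ[k] (c : A) := h B g
        simpa only [Category.assoc] using h1
      · intro h B _ _ g
        show ρ.ρ B ((g ≫ (uL ≫ iBL)) ≫ j) ((1 : B) ⊗ₜ[k] (c : A)) = (1 : B) ⊗ₜ[k] (c : A)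
        simpa only [Category.assoc] using h B g
  have hmap : FC.map R.val = R ⊓ F2 := by
    ext a
    constructor
    · rintro ⟨c, hc, rfl⟩
      exact ⟨c.2, (hFC2 c).1 hc⟩
    · rintro ⟨ha, ha2⟩
      exact ⟨⟨a, ha⟩, (hFC2 _).2 ha2, rfl⟩
  constructor
  · intro hfg
    haveI := hfg
    have h1 := (Subalgebra.fg_top _).1 (S11208.result k L hL BL iBL hBL UL uL hUL thmA ↥R mR hmR).out
    refine ⟨(Subalgebra.fg_top _).2 ?_⟩
    rw [← hmap]
    exact h1.map R.val
  · intro hfg
    refine S11225.result k L hL BL iBL hBL UL uL hUL thmA ↥R mR hmR ⟨(Subalgebra.fg_top _).2 ?_⟩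
    refine Subalgebra.fg_of_fg_map _ R.val Subtype.val_injective ?_
    rw [hmap]
    exact (Subalgebra.fg_top _).1 hfg.out

end Groth.Agent.S11248
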