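import Groth.Statements.S1126
import Groth.Agent.SweepSix.EmbDesc
import Groth.Agent.S0415
-- import your own Groth.Agent.* helpers here

set_option autoImplicit false
open CategoryTheory CategoryTheory.Limits AlgebraicGeometry Opposite
universe u
open Desc

namespace Groth.Agent.S1126

/-- If the base change of a morphism along a quasi-compact flat surjective morphism to its target is a
universal homeomorphism, then the morphism is a universal homeomorphism. (Stated for a single
quasi-compact flat surjective base change; combined with Zariski-locality on the target this gives
the fpqc-local form.) -/
theorem result :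
    MorphismProperty.DescendsAlong (FlatMor.IsUnivHomeo.{u})
      (@Surjective ⊓ @Flat ⊓ @QuasiCompact : MorphismProperty Scheme.{u}) := by
  refine ⟨fun {A X Y Z fst snd f g} h hf hfst => ?_⟩
  obtain ⟨⟨_, _⟩, _⟩ := hf
  have : IsIntegralHom fst := ((Groth.Agent.S0415.result fst).1 hfst).1
  have := SweepSix.quasiCompact_descends h
  exact SweepSix.universally_isHomeomorph_descends h hfst

end Groth.Agent.S1126
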