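import Groth.Statements.S11276
import Groth.Agent.SMTLib.GradedDim
import Groth.Agent.SMTLib.DepthSeq
import Groth.Agent.SMTLib.RegInf
import Groth.Agent.SMTLib.CMQuot
-- import your own Groth.Agent.* helpers here

set_option autoImplicit false
universe u v
open W4bk4grassmannian

namespace Groth.Agent.S11276

open CommAlgDim RingTheory.Sequence in
lemma hasSeqIn_quotient_iff {A : Type v} [CommRing A] {M : Ideal A} {I : Ideal A} (hIM : I ≤ M) (n : ℕ) :
    HasSeqIn (M.map (Ideal.Quotient.mk I)) (A ⧸ I) n ↔ HasSeqIn M (A ⧸ I) n := by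
  constructor
  · rintro ⟨rs, hl, hm, hr⟩
    obtain ⟨rs', rfl⟩ : ∃ rs' : List A, rs'.map (algebraMap A (A ⧸ I)) = rs :=
      List.map_surjective_iff.2 Ideal.Quotient.mk_surjective rs
    refine ⟨rs', by simpa using hl, fun r hr' => ?_, (isWeaklyRegular_map_algebraMap_iff (A ⧸ I) (A ⧸ I) rs').1 hr⟩
    have := hm _ (List.mem_map_of_mem hr')
    rw [Ideal.Quotient.algebraMap_eq, Ideal.mem_quotient_iff_mem hIM] at this
    exact this
  · rintro ⟨rs, hl, hm, hr⟩
    refine ⟨rs.map (algebraMap A (A ⧸ I)), by simpa using hl, ?_, (isWeaklyRegular_map_algebraMap_iff (A ⧸ I) (A ⧸ I) rs).2 hr⟩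
    intro r hr'
    obtain ⟨a, ha, rfl⟩ := List.mem_map.1 hr'
    exact Ideal.mem_map_of_mem _ (hm a ha)

open CommAlgDim in
lemma hasSeqIn_of_isCohenMacaulayRing {Q : Type v} [CommRing Q] [hQ : LocCoh.IsCohenMacaulayRing Q]
    {m : Ideal Q} [m.IsMaximal] {e : ℕ} (he : (m.height : WithBot ℕ∞) = (e : WithBot ℕ∞)) :
    HasSeqIn m Q e := by
  have : IsNoetherianRing Q := inferInstance
  refine (hasSeqIn_iff_forall_localization m e).2 fun p _ hle => ?_
  obtain rfl : m = p := Ideal.IsMaximal.eq_of_le ‹_› Ideal.IsPrime.ne_top' hle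
  have := hQ.isCohenMacaulayLocalRing_localization m
  rw [depth_congr (IsLocalizedModule.iso m.primeCompl (Algebra.linearMap Q (Localization.AtPrime m)) |>.extendScalarsOfIsLocalization m.primeCompl (Localization.AtPrime m))]
  have h := LocCoh.IsCohenMacaulayLocalRing.supportDim_eq_depth (R := Localization.AtPrime m)
  rw [Module.supportDim_self_eq_ringKrullDim, IsLocalization.AtPrime.ringKrullDim_eq_height m, he] at h
  exact le_of_eq (WithBot.coe_inj.1 h)

/-- With the conclusion at the irrelevant ideal: let K be a field, A a commutative Noetherian K-algebra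
graded by ℕ with degree-zero part K, I and J homogeneous ideals of A such that A/I and A/J are
Cohen–Macaulay rings of Krull dimension e and A/(I + J) is a Cohen–Macaulay ring of Krull dimension
e - 1, where e ≥ 1. Let m be the image in A/(I ∩ J) of the irrelevant ideal A_+ (assumed prime; it
is maximal). Then the local ring (A/(I ∩ J))_m is Cohen–Macaulay of Krull dimension e. (The
published lemma concludes that A/(I ∩ J) itself is Cohen–Macaulay of dimension e; this row states
the conclusion at the irrelevant ideal only, from which the global one follows by the graded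
local–global principle.) -/
theorem result (K : Type u) [Field K] (A : Type v) [CommRing A]
    [Algebra K A] [IsNoetherianRing A] (𝒜 : ℕ → Submodule K A) [GradedAlgebra 𝒜]
    (h0 : ∀ a ∈ 𝒜 0, ∃ c : K, algebraMap K A c = a) (I J : Ideal A) (hI : I.IsHomogeneous 𝒜)
    (hJ : J.IsHomogeneous 𝒜) (e : ℕ) (he : 1 ≤ e)
    (hIcm : LocCoh.IsCohenMacaulayRing (A ⧸ I)) (hJcm : LocCoh.IsCohenMacaulayRing (A ⧸ J))
    (hIJcm : LocCoh.IsCohenMacaulayRing (A ⧸ (I ⊔ J)))
    (hIdim : ringKrullDim (A ⧸ I) = (e : WithBot ℕ∞)) (hJdim : ringKrullDim (A ⧸ J) = (e : WithBot ℕ∞))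
    (hIJdim : ringKrullDim (A ⧸ (I ⊔ J)) = ((e - 1 : ℕ) : WithBot ℕ∞))
    [hm : ((HomogeneousIdeal.irrelevant 𝒜).toIdeal.map (Ideal.Quotient.mk (I ⊓ J))).IsPrime] :
    LocCoh.IsCohenMacaulayLocalRing (Localization.AtPrime
        ((HomogeneousIdeal.irrelevant 𝒜).toIdeal.map (Ideal.Quotient.mk (I ⊓ J)))) ∧
      ringKrullDim (Localization.AtPrime
        ((HomogeneousIdeal.irrelevant 𝒜).toIdeal.map (Ideal.Quotient.mk (I ⊓ J)))) = (e : WithBot ℕ∞) := by
  set M := (HomogeneousIdeal.irrelevant 𝒜).toIdeal with hM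
  have htop : ∀ L : Ideal A, ∀ d : ℕ, ringKrullDim (A ⧸ L) = (d : WithBot ℕ∞) → L ≠ ⊤ := by
    rintro L d hd rfl
    rw [ringKrullDim_eq_bot_of_subsingleton] at hd
    exact WithBot.bot_ne_coe hd
  have hI' := htop I e hIdim
  have hJ' := htop J e hJdim
  have hIJ' := htop _ _ hIJdim
  have hK' : I ⊓ J ≠ ⊤ := fun h => hI' (top_le_iff.1 (h ▸ inf_le_left))
  haveI : Nontrivial A := not_subsingleton_iff_nontrivial.1 fun h => hI' (Subsingleton.elim _ _)
  haveI : M.IsMaximal := SMTLib.irrelevant_isMaximal 𝒜 h0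
  have hle : ∀ {L : Ideal A}, L.IsHomogeneous 𝒜 → L ≠ ⊤ → L ≤ M :=
    fun h h' => SMTLib.le_irrelevant_of_isHomogeneous 𝒜 h0 h h'
  have hseq : ∀ (L : Ideal A) (d : ℕ), L.IsHomogeneous 𝒜 → L ≠ ⊤ →
      LocCoh.IsCohenMacaulayRing (A ⧸ L) → ringKrullDim (A ⧸ L) = (d : WithBot ℕ∞) →
      CommAlgDim.HasSeqIn M (A ⧸ L) d := by
    intro L d hL hL' hcm hd
    haveI : (M.map (Ideal.Quotient.mk L)).IsMaximal :=
      Ideal.IsMaximal.map_of_surjective_of_ker_le Ideal.Quotient.mk_surjective (by rw [Ideal.mk_ker]; exact hle hL hL')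
    exact (hasSeqIn_quotient_iff (hle hL hL') d).1
      (hasSeqIn_of_isCohenMacaulayRing (by rw [← SMTLib.ringKrullDim_quotient_eq_height 𝒜 h0 hL hL', hd]))
  obtain ⟨f, g, hf, hfg, hg⟩ := SMTLib.exists_inf_sequence (R := A) (M := A) I J
  have hprod : CommAlgDim.HasSeqIn M ((A ⧸ I) × (A ⧸ J)) e :=
    SMTLib.hasSeqIn_middle e (LinearMap.inl A (A ⧸ I) (A ⧸ J)) (LinearMap.snd A (A ⧸ I) (A ⧸ J))
      LinearMap.inl_injective Function.Exact.inl_snd LinearMap.snd_surjective (hseq I e hI hI' hIcm hIdim)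
      (hseq J e hJ hJ' hJcm hJdim)
  obtain ⟨k, rfl⟩ : ∃ k, e = k + 1 := ⟨e - 1, by omega⟩
  have hC : CommAlgDim.HasSeqIn M (A ⧸ (I ⊔ J)) k := hseq _ k (hI.sup hJ) hIJ' hIJcm (by simpa using hIJdim)
  have hA : CommAlgDim.HasSeqIn M (A ⧸ (I ⊓ J)) (k + 1) := SMTLib.hasSeqIn_left k f g hf hfg hg hprod hC
  rw [← hasSeqIn_quotient_iff (hle (hI.inf hJ) hK') (k + 1)] at hA
  set m := M.map (Ideal.Quotient.mk (I ⊓ J)) with hm_def
  have hdimR : ringKrullDim (Localization.AtPrime m) = ((k + 1 : ℕ) : WithBot ℕ∞) := by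
    rw [IsLocalization.AtPrime.ringKrullDim_eq_height m, hm_def,
      ← SMTLib.ringKrullDim_quotient_eq_height 𝒜 h0 (hI.inf hJ) hK']
    refine le_antisymm ?_ ?_
    · rw [ringKrullDim_quotient, Order.krullDim]
      refine iSup_le fun l => ?_
      have hhead : I ≤ (l.head : PrimeSpectrum A).asIdeal ∨ J ≤ (l.head : PrimeSpectrum A).asIdeal :=
        ((l.head : PrimeSpectrum A).isPrime.inf_le).1 l.head.2
      have aux : ∀ L : Ideal A, L ≤ (l.head : PrimeSpectrum A).asIdeal →
          ((l.length : ℕ∞) : WithBot ℕ∞) ≤ ringKrullDim (A ⧸ L) := by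
        intro L hL
        rw [ringKrullDim_quotient]
        let l' : LTSeries (PrimeSpectrum.zeroLocus (L : Set A)) :=
          ⟨l.length, fun i => ⟨(l i).1, fun x hx => (l.head_le i) (hL hx)⟩, fun i => l.step i⟩
        exact Order.LTSeries.length_le_krullDim l'
      rcases hhead with h | h
      · exact (aux I h).trans hIdim.le
      · exact (aux J h).trans hJdim.le
    · rw [← hIdim]
      exact ringKrullDim_le_of_surjective (Ideal.Quotient.factor inf_le_left) (Ideal.Quotient.factor_surjective _)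
  refine ⟨?_, hdimR⟩
  haveI : IsNoetherianRing (Localization.AtPrime m) := IsLocalization.isNoetherianRing m.primeCompl _ inferInstance
  constructor
  refine le_antisymm ?_ InvLib.depth_le_supportDim
  rw [Module.supportDim_self_eq_ringKrullDim, hdimR]
  have h := (CommAlgDim.le_depth_iff (k + 1)).2 (hA.localization (le_refl m))
  rw [CommAlgDim.depth_congr (IsLocalizedModule.iso m.primeCompl (Algebra.linearMap (A ⧸ (I ⊓ J)) (Localization.AtPrime m)) |>.extendScalarsOfIsLocalization m.primeCompl (Localization.AtPrime m))] at h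
  exact WithBot.coe_le_coe.2 h

end Groth.Agent.S11276
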