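import Groth.Statements.S1128
import Groth.Agent.SweepSix.FlatCancel

set_option autoImplicit false
open CategoryTheory CategoryTheory.Limits AlgebraicGeometry Opposite
universe u
open Desc

namespace Groth.Agent.S1128

/-- If f is flat and surjective and the composite of f with g is flat, then g is flat; together with
stability of flatness under composition this says flatness is fpqc local on the source. -/
theorem result {X' X Y : Scheme.{u}} (f : X' ⟶ X) (g : X ⟶ Y) [Flat f]
    [Surjective f] [Flat (f ≫ g)] : Flat g := by
  rw [Flat.iff_flat_stalkMap]
  intro y
  obtain ⟨x, rfl⟩ := f.surjective y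
  exact (SweepSix.flat_stalkMap_comp_iff f g x (Flat.stalkMap f x)).mp (Flat.stalkMap (f ≫ g) x)

end Groth.Agent.S1128
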