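import Groth.Statements.S11281
import Mathlib
import Mathlib
-- import your own Groth.Agent.* helpers here

set_option autoImplicit false
universe u
open Deform

namespace Groth.Agent.S11281

/-- Let k be an algebraically closed field, Λ a local Noetherian k-algebra with residue field k, and R a
local Noetherian Λ-algebra, with local structure map and residue field k. The following are
equivalent: (a) every Λ-extension of R by its residue field k is trivial, i.e. the relative
obstruction space o(R/Λ) = Ex_Λ(R, k) vanishes; (b) for every local Artinian Λ-algebra B with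
residue field k and every t in the maximal ideal of B annihilated by the maximal ideal, every
Λ-algebra map R → B/tB lifts to a Λ-algebra map R → B (formal smoothness of R over Λ tested on small
extensions of Artinian rings). The test algebras B range over the universe of R. -/
theorem result
    {k : Type u} [Field k] [IsAlgClosed k]
    {Λ : Type u} [CommRing Λ] [Algebra k Λ] [IsLocalRing Λ] [IsNoetherianRing Λ]
    (hΛ : ∀ a : Λ, ∃ c : k, a - algebraMap k Λ c ∈ IsLocalRing.maximalIdeal Λ)
    {R : Type u} [CommRing R] [Algebra Λ R] [IsLocalRing R] [IsNoetherianRing R]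
    [IsLocalHom (algebraMap Λ R)]
    (hR : ∀ r : R, ∃ c : k, r - algebraMap Λ R (algebraMap k Λ c) ∈ IsLocalRing.maximalIdeal R) :
    (∀ X : Exal.Ext Λ R (IsLocalRing.ResidueField R), X.IsTrivial) ↔
    (∀ (B : Type u) [CommRing B] [Algebra Λ B] [IsLocalRing B] [IsArtinianRing B],
      (∀ b : B, ∃ c : k, b - algebraMap Λ B (algebraMap k Λ c) ∈ IsLocalRing.maximalIdeal B) →
      ∀ t : B, t ∈ IsLocalRing.maximalIdeal B → (∀ b ∈ IsLocalRing.maximalIdeal B, b * t = 0) →
      ∀ φ : R →ₐ[Λ] B ⧸ Ideal.span {t},
        ∃ φ' : R →ₐ[Λ] B, (Ideal.Quotient.mkₐ Λ (Ideal.span {t})).comp φ' = φ) := by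
  constructor
  · intro htriv B _ _ _ _ hB t htm ht φ
    by_cases ht0 : t = 0
    · subst ht0
      have hbij : Function.Bijective (Ideal.Quotient.mkₐ Λ (Ideal.span {(0 : B)})) := by
        refine ⟨fun a b hab => ?_, Ideal.Quotient.mk_surjective⟩
        have h1 : a - b ∈ Ideal.span {(0 : B)} := Ideal.Quotient.eq.mp hab
        rw [Ideal.mem_span_singleton] at h1
        exact sub_eq_zero.mp (zero_dvd_iff.mp h1)
      refine ⟨(AlgEquiv.ofBijective _ hbij).symm.toAlgHom.comp φ, ?_⟩
      ext r
      exact (AlgEquiv.ofBijective _ hbij).apply_symm_apply (φ r)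
    -- the residue map of R through φ
    have hle : ∀ a ∈ Ideal.span {t}, IsLocalRing.residue B a = 0 := by
      intro a ha
      rw [IsLocalRing.residue_eq_zero_iff]
      exact (Ideal.span_singleton_le_iff_mem _).mpr htm ha
    let g : R →+* IsLocalRing.ResidueField B :=
      (Ideal.Quotient.lift (Ideal.span {t}) (IsLocalRing.residue B) hle).comp φ.toRingHom
    have hg : ∀ (r : R) (b : B), Ideal.Quotient.mk (Ideal.span {t}) b = φ r →
        g r = IsLocalRing.residue B b := by
      intro r b hb
      show Ideal.Quotient.lift (Ideal.span {t}) (IsLocalRing.residue B) hle (φ r) = _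
      rw [← hb, Ideal.Quotient.lift_mk]
    have hgsurj : Function.Surjective g := by
      intro q
      obtain ⟨b, rfl⟩ := IsLocalRing.residue_surjective q
      obtain ⟨c, hc⟩ := hB b
      refine ⟨algebraMap Λ R (algebraMap k Λ c), ?_⟩
      rw [hg _ (algebraMap Λ B (algebraMap k Λ c)) (by rw [AlgHom.commutes]; rfl)]
      have h2 := (IsLocalRing.residue_eq_zero_iff _).mpr hc
      rw [map_sub, sub_eq_zero] at h2
      exact h2.symm
    have hgker : RingHom.ker g = IsLocalRing.maximalIdeal R :=
      IsLocalRing.eq_maximalIdeal (RingHom.ker_isMaximal_of_surjective g hgsurj)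
    -- t kills the maximal ideal
    have htmul : ∀ b b' : B, IsLocalRing.residue B b = IsLocalRing.residue B b' → t * b = t * b' := by
      intro b b' h
      have h1 : b - b' ∈ IsLocalRing.maximalIdeal B := by
        rw [← IsLocalRing.residue_eq_zero_iff, map_sub, h, sub_self]
      have h2 := ht _ h1
      rw [← sub_eq_zero, ← mul_sub, mul_comm, h2]
    let S : Subalgebra Λ (R × B) :=
      AlgHom.equalizer (φ.comp (AlgHom.fst Λ R B))
        ((Ideal.Quotient.mkₐ Λ (Ideal.span {t})).comp (AlgHom.snd Λ R B))
    have hS : ∀ q : R × B, q ∈ S ↔ φ q.1 = Ideal.Quotient.mk (Ideal.span {t}) q.2 := fun q => Iff.rfl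
    -- lifts
    choose lf hlf using fun r : R => Ideal.Quotient.mk_surjective (φ r)
    let sec : IsLocalRing.ResidueField R → R := Function.surjInv IsLocalRing.residue_surjective
    have hsec : ∀ z, IsLocalRing.residue R (sec z) = z := Function.surjInv_eq IsLocalRing.residue_surjective
    have hkey : ∀ (r r' : R) (b b' : B), IsLocalRing.residue R r = IsLocalRing.residue R r' →
        Ideal.Quotient.mk (Ideal.span {t}) b = φ r → Ideal.Quotient.mk (Ideal.span {t}) b' = φ r' →
        t * b = t * b' := by
      intro r r' b b' hr hb hb'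
      apply htmul
      rw [← hg r b hb, ← hg r' b' hb']
      have h1 : r - r' ∈ RingHom.ker g := by
        rw [hgker, ← IsLocalRing.residue_eq_zero_iff, map_sub, hr, sub_self]
      rw [RingHom.mem_ker, map_sub, sub_eq_zero] at h1
      exact h1
    have htmem : ∀ b : B, Ideal.Quotient.mk (Ideal.span {t}) (t * b) = 0 := fun b =>
      Ideal.Quotient.eq_zero_iff_mem.mpr (Ideal.mem_span_singleton.mpr ⟨b, rfl⟩)
    have hmemS : ∀ b : B, ((0 : R), t * b) ∈ S := by
      intro b; rw [hS, map_zero, htmem]
    let incl : IsLocalRing.ResidueField R →+ S :=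
      AddMonoidHom.mk' (fun z => ⟨((0 : R), t * lf (sec z)), hmemS _⟩) (by
        intro z z'
        apply Subtype.ext
        show ((0 : R), t * lf (sec (z + z'))) = ((0 : R) + 0, t * lf (sec z) + t * lf (sec z'))
        rw [add_zero, ← mul_add]
        refine Prod.ext rfl (hkey (sec (z + z')) (sec z + sec z') _ _ ?_ (hlf _) ?_)
        · rw [map_add, hsec, hsec, hsec]
        · rw [map_add, map_add, hlf, hlf])
    have hinclv : ∀ z, ((incl z : S) : R × B) = ((0 : R), t * lf (sec z)) := fun z => rfl
    let proj : S →ₐ[Λ] R := (AlgHom.fst Λ R B).comp S.val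
    have hext : Exal.IsExtension proj incl := by
      refine ⟨?_, ?_, ?_, ?_⟩
      · intro r
        exact ⟨⟨(r, lf r), by rw [hS]; exact (hlf r).symm⟩, rfl⟩
      · rw [injective_iff_map_eq_zero]
        intro z hz
        have h1 : t * lf (sec z) = 0 := congrArg (fun q : S => (q : R × B).2) hz
        have h2 : IsLocalRing.residue B (lf (sec z)) = 0 := by
          rw [IsLocalRing.residue_eq_zero_iff, IsLocalRing.mem_maximalIdeal, mem_nonunits_iff]
          intro hu
          exact ht0 (hu.mul_left_eq_zero.mp h1)
        rw [← hg (sec z) _ (hlf _), ← RingHom.mem_ker, hgker,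
          ← IsLocalRing.residue_eq_zero_iff, hsec] at h2
        exact h2
      · rintro ⟨⟨r, b⟩, hq⟩
        constructor
        · intro h0
          change r = 0 at h0
          subst h0
          rw [hS, map_zero] at hq
          obtain ⟨c, hc⟩ := Ideal.mem_span_singleton.mp (Ideal.Quotient.eq_zero_iff_mem.mp hq.symm)
          change b = t * c at hc
          obtain ⟨r', hr'⟩ := hgsurj (IsLocalRing.residue B c)
          refine ⟨IsLocalRing.residue R r', Subtype.ext ?_⟩
          rw [hinclv]
          refine Prod.ext rfl ?_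
          show t * lf (sec (IsLocalRing.residue R r')) = b
          rw [hc, hkey (sec (IsLocalRing.residue R r')) r' _ (lf r') (hsec _) (hlf _) (hlf _)]
          apply htmul
          rw [← hg r' _ (hlf _), hr']
        · rintro ⟨z, hz⟩
          rw [← hz]
          rfl
      · rintro ⟨⟨r, b⟩, hq⟩ z
        apply Subtype.ext
        show (r * 0, b * (t * lf (sec z))) = ((0 : R), t * lf (sec (r • z)))
        refine Prod.ext (mul_zero r) ?_
        show b * (t * lf (sec z)) = t * lf (sec (r • z))
        rw [mul_left_comm]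
        refine hkey (r * sec z) (sec (r • z)) _ _ ?_ ?_ (hlf _)
        · rw [hsec, map_mul, hsec, Algebra.smul_def]
          rfl
        · rw [map_mul, map_mul, hlf]
          rw [hS] at hq
          rw [hq]
    obtain ⟨s, hs⟩ := htriv { E := S, proj := proj, incl := incl, isExtension := hext }
    refine ⟨((AlgHom.snd Λ R B).comp S.val).comp s, ?_⟩
    ext r
    have h1 : ((s r : S) : R × B).1 = r := hs r
    have h2 := (hS _).mp (s r).2
    rw [h1] at h2
    exact h2.symm
  · intro hlift X
    classical
    have hp := X.isExtension.proj_surjective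
    let e : X.E := X.incl 1
    have hpe : X.proj e = 0 := (X.isExtension.exact e).mpr ⟨1, rfl⟩
    have hres : ∀ r : R, r • (1 : IsLocalRing.ResidueField R) = IsLocalRing.residue R r := by
      intro r; rw [Algebra.smul_def, mul_one]; rfl
    have hmule : ∀ x : X.E, x * e = X.incl (IsLocalRing.residue R (X.proj x)) := by
      intro x; rw [X.isExtension.mul_incl, hres]
    have hker : ∀ x : X.E, X.proj x = 0 → ∃ y, x = y * e := by
      intro x hx
      obtain ⟨z, hz⟩ := (X.isExtension.exact x).mp hx
      obtain ⟨r, hr⟩ := IsLocalRing.residue_surjective z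
      obtain ⟨y, hy⟩ := hp r
      exact ⟨y, by rw [hmule, hy, hr, hz]⟩
    have he0 : e ≠ 0 := by
      intro h
      exact one_ne_zero ((injective_iff_map_eq_zero X.incl).mp X.isExtension.incl_injective 1 h)
    have hnonzero : ∀ (J : Ideal X.E) (x : X.E), X.proj x = 0 → x ∈ J → x ≠ 0 → e ∈ J := by
      intro J x hx hxJ hx0
      obtain ⟨z, hz⟩ := (X.isExtension.exact x).mp hx
      have hz0 : z ≠ 0 := by
        rintro rfl
        exact hx0 (by rw [← hz, map_zero])
      obtain ⟨r, hr⟩ := IsLocalRing.residue_surjective z⁻¹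
      obtain ⟨y, hy⟩ := hp r
      have h1 : y * x = e := by
        rw [← hz, X.isExtension.mul_incl, hy, Algebra.smul_def]
        show X.incl (IsLocalRing.residue R r * z) = _
        rw [hr, inv_mul_cancel₀ hz0]
      rw [← h1]
      exact J.mul_mem_left y hxJ
    have hunit : ∀ x : X.E, IsUnit (X.proj x) → IsUnit x := by
      intro x hx
      obtain ⟨y, hy⟩ := hp ((hx.unit⁻¹ : Rˣ) : R)
      obtain ⟨w, hw⟩ := hker (x * y - 1) (by
        rw [map_sub, map_mul, hy, map_one, IsUnit.mul_val_inv, sub_self])
      have hsq : (x * y - 1) * (x * y - 1) = 0 := by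
        rw [hw]
        have : e * e = 0 := by rw [hmule, hpe, map_zero, map_zero]
        calc w * e * (w * e) = w * w * (e * e) := by ring
          _ = 0 := by rw [this, mul_zero]
      refine IsUnit.of_mul_eq_one (y * (2 - x * y)) ?_
      linear_combination -hsq
    have : Nontrivial X.E := ⟨⟨e, 0, he0⟩⟩
    have hloc : IsLocalRing X.E := IsLocalRing.of_nonunits_add (by
      intro a b ha hb
      rw [mem_nonunits_iff] at ha hb ⊢
      intro hab
      have h1 : X.proj a ∈ nonunits R := fun h => ha (hunit a h)
      have h2 : X.proj b ∈ nonunits R := fun h => hb (hunit b h)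
      have h3 := IsLocalRing.nonunits_add h1 h2
      rw [← map_add] at h3
      exact h3 (hab.map X.proj))
    have hmem : ∀ x : X.E, x ∈ IsLocalRing.maximalIdeal X.E ↔
        X.proj x ∈ IsLocalRing.maximalIdeal R := by
      intro x
      simp only [IsLocalRing.mem_maximalIdeal, mem_nonunits_iff]
      exact ⟨fun h h' => h (hunit x h'), fun h h' => h (h'.map X.proj)⟩
    have hnoeth : IsNoetherianRing X.E := by
      constructor
      intro J
      have hfg : (Ideal.map X.proj.toRingHom J).FG := IsNoetherian.noetherian _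
      obtain ⟨s, hs⟩ := hfg
      have hsJ : ∀ a ∈ s, ∃ x ∈ J, X.proj x = a := by
        intro a ha
        have : a ∈ Ideal.map X.proj.toRingHom J := hs ▸ Ideal.subset_span ha
        obtain ⟨x, hx, hxa⟩ := (Ideal.mem_map_iff_of_surjective X.proj.toRingHom hp).mp this
        exact ⟨x, hx, hxa⟩
      choose f hfJ hfp using hsJ
      let T : Finset X.E :=
        (s.attach.image fun a => f a.1 a.2) ∪ (if e ∈ J then {e} else ∅)
      refine ⟨T, le_antisymm ?_ ?_⟩
      · rw [Submodule.span_le]
        intro x hx
        rw [Finset.mem_coe, Finset.mem_union, Finset.mem_image] at hx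
        rcases hx with ⟨a, -, rfl⟩ | hx
        · exact hfJ a.1 a.2
        · split_ifs at hx with he
          · rw [Finset.mem_singleton] at hx; rw [hx]; exact he
          · simp at hx
      · intro x hx
        have hsub : Ideal.map X.proj.toRingHom J ≤ Ideal.map X.proj.toRingHom (Ideal.span (T : Set X.E)) := by
          rw [← hs, Submodule.span_le]
          intro a ha
          rw [← hfp a ha]
          exact Ideal.mem_map_of_mem _ (Ideal.subset_span (Finset.mem_union_left _
            (Finset.mem_image.mpr ⟨⟨a, ha⟩, Finset.mem_attach _ _, rfl⟩)))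
        obtain ⟨y, hy, hyx⟩ := (Ideal.mem_map_iff_of_surjective X.proj.toRingHom hp).mp
          (hsub (Ideal.mem_map_of_mem _ hx))
        have hyJ : y ∈ J := by
          refine (Submodule.span_le.mpr ?_) hy
          intro z hz
          rw [Finset.mem_coe, Finset.mem_union, Finset.mem_image] at hz
          rcases hz with ⟨a, -, rfl⟩ | hz
          · exact hfJ a.1 a.2
          · split_ifs at hz with he
            · rw [Finset.mem_singleton] at hz; rw [hz]; exact he
            · simp at hz
        have hd : X.proj (x - y) = 0 := by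
          rw [map_sub]; exact sub_eq_zero.mpr hyx.symm
        by_cases hd0 : x - y = 0
        · rw [sub_eq_zero.mp hd0]; exact hy
        · have heJ := hnonzero J _ hd (J.sub_mem hx hyJ) hd0
          obtain ⟨w, hw⟩ := hker _ hd
          have heT : e ∈ Ideal.span (T : Set X.E) :=
            Ideal.subset_span (Finset.mem_union_right _ (by rw [if_pos heJ]; exact Finset.mem_singleton_self e))
          have h1 : x = y + w * e := by rw [← hw]; ring
          rw [h1]
          exact Submodule.add_mem _ hy (Ideal.mul_mem_left _ w heT)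
    -- Krull
    obtain ⟨n, hn⟩ : ∃ n : ℕ, e ∉ IsLocalRing.maximalIdeal X.E ^ (n + 1) := by
      by_contra hcon
      push_neg at hcon
      have h1 : e ∈ ⨅ i : ℕ, IsLocalRing.maximalIdeal X.E ^ i := by
        rw [Submodule.mem_iInf]
        intro i
        exact Ideal.pow_le_pow_right (Nat.le_succ i) (hcon i)
      rw [Ideal.iInf_pow_eq_bot_of_isLocalRing _ (IsLocalRing.maximalIdeal.isMaximal _).ne_top] at h1
      exact he0 h1
    let J : Ideal X.E := IsLocalRing.maximalIdeal X.E ^ (n + 1)
    have hJle : J ≤ IsLocalRing.maximalIdeal X.E := Ideal.pow_le_self (Nat.succ_ne_zero n)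
    have hJtop : J ≠ ⊤ := fun h => (IsLocalRing.maximalIdeal.isMaximal X.E).ne_top (top_le_iff.mp (h ▸ hJle))
    have : Nontrivial (X.E ⧸ J) := Ideal.Quotient.nontrivial_iff.mpr hJtop
    have : IsLocalRing (X.E ⧸ J) :=
      IsLocalRing.of_surjective' (Ideal.Quotient.mk J) Ideal.Quotient.mk_surjective
    have : IsArtinianRing (X.E ⧸ J) := by
      rw [isArtinianRing_iff_isNoetherianRing_krullDimLE_zero]
      refine ⟨inferInstance, Ring.KrullDimLE.mk₀ ?_⟩
      intro P hP
      have h1 : IsLocalRing.maximalIdeal X.E ≤ P.comap (Ideal.Quotient.mk J) := by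
        have hPp : (P.comap (Ideal.Quotient.mk J)).IsPrime := Ideal.comap_isPrime _ _
        refine (hPp.pow_le_iff (Nat.succ_ne_zero n)).mp ?_
        intro x hx
        rw [Ideal.mem_comap, Ideal.Quotient.eq_zero_iff_mem.mpr hx]
        exact P.zero_mem
      have h2 : P.comap (Ideal.Quotient.mk J) = IsLocalRing.maximalIdeal X.E :=
        ((IsLocalRing.maximalIdeal.isMaximal X.E).eq_of_le (Ideal.comap_isPrime _ _).ne_top h1).symm
      have h3 : P = (IsLocalRing.maximalIdeal X.E).map (Ideal.Quotient.mk J) := by
        rw [← h2, Ideal.map_comap_of_surjective _ Ideal.Quotient.mk_surjective]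
      rcases Ideal.map_eq_top_or_isMaximal_of_surjective (Ideal.Quotient.mk J)
        Ideal.Quotient.mk_surjective (IsLocalRing.maximalIdeal.isMaximal X.E) with h4 | h4
      · exact absurd (h3.trans h4) hP.ne_top
      · exact h3 ▸ h4
    have hBm : ∀ x : X.E, Ideal.Quotient.mk J x ∈ IsLocalRing.maximalIdeal (X.E ⧸ J) ↔
        x ∈ IsLocalRing.maximalIdeal X.E := by
      intro x
      constructor
      · intro h
        by_contra hx
        rw [IsLocalRing.mem_maximalIdeal, mem_nonunits_iff, not_not] at hx
        rw [IsLocalRing.mem_maximalIdeal, mem_nonunits_iff] at h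
        exact h (hx.map _)
      · intro h
        rw [IsLocalRing.mem_maximalIdeal, mem_nonunits_iff]
        intro hu
        obtain ⟨b, hb⟩ := isUnit_iff_exists_inv.mp hu
        obtain ⟨y, rfl⟩ := Ideal.Quotient.mk_surjective b
        rw [← map_mul, ← map_one (Ideal.Quotient.mk J), Ideal.Quotient.eq] at hb
        have h1 : (1 : X.E) ∈ IsLocalRing.maximalIdeal X.E := by
          have := Ideal.sub_mem _ (Ideal.mul_mem_right y _ h) (hJle hb)
          simpa using this
        exact (IsLocalRing.maximalIdeal.isMaximal X.E).ne_top ((Ideal.eq_top_iff_one _).mpr h1)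
    have hem : e ∈ IsLocalRing.maximalIdeal X.E := by
      rw [hmem, hpe]; exact Submodule.zero_mem _
    let t : X.E ⧸ J := Ideal.Quotient.mk J e
    let ψ : X.E →ₐ[Λ] (X.E ⧸ J) ⧸ Ideal.span {t} :=
      (Ideal.Quotient.mkₐ Λ (Ideal.span {t})).comp (Ideal.Quotient.mkₐ Λ J)
    have hψ : ∀ a : X.E, a ∈ RingHom.ker X.proj → ψ a = 0 := by
      intro a ha
      obtain ⟨y, rfl⟩ := hker a (RingHom.mem_ker.mp ha)
      show Ideal.Quotient.mk (Ideal.span {t}) (Ideal.Quotient.mk J (y * e)) = 0
      rw [Ideal.Quotient.eq_zero_iff_mem, map_mul]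
      exact Ideal.mul_mem_left _ _ (Ideal.mem_span_singleton_self _)
    let φ : R →ₐ[Λ] (X.E ⧸ J) ⧸ Ideal.span {t} :=
      (Ideal.Quotient.liftₐ (RingHom.ker X.proj) ψ hψ).comp
        (Ideal.quotientKerAlgEquivOfSurjective hp).symm.toAlgHom
    have hφ : ∀ x, φ (X.proj x) = ψ x := by
      intro x
      have : (Ideal.quotientKerAlgEquivOfSurjective hp).symm (X.proj x) = Ideal.Quotient.mk _ x := by
        rw [AlgEquiv.symm_apply_eq]; rfl
      show Ideal.Quotient.liftₐ (RingHom.ker X.proj) ψ hψ
        ((Ideal.quotientKerAlgEquivOfSurjective hp).symm (X.proj x)) = ψ x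
      rw [this]
      rfl
    obtain ⟨φ', hφ'⟩ := hlift (X.E ⧸ J) (by
        intro b
        obtain ⟨x, rfl⟩ := Ideal.Quotient.mk_surjective b
        obtain ⟨c, hc⟩ := hR (X.proj x)
        refine ⟨c, ?_⟩
        rw [show algebraMap Λ (X.E ⧸ J) (algebraMap k Λ c) =
          Ideal.Quotient.mk J (algebraMap Λ X.E (algebraMap k Λ c)) from rfl, ← map_sub, hBm, hmem,
          map_sub, AlgHom.commutes]
        exact hc)
      t ((hBm e).mpr hem) (by
        intro b hb
        obtain ⟨x, rfl⟩ := Ideal.Quotient.mk_surjective b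
        rw [hBm, hmem, ← IsLocalRing.residue_eq_zero_iff] at hb
        show Ideal.Quotient.mk J x * Ideal.Quotient.mk J e = 0
        rw [← map_mul, hmule, hb, map_zero, map_zero]) φ
    -- the section
    have huniq : ∀ x x' : X.E, X.proj x = X.proj x' →
        Ideal.Quotient.mk J x = Ideal.Quotient.mk J x' → x = x' := by
      intro x x' h1 h2
      by_contra hne
      exact hn (hnonzero J (x - x') (by rw [map_sub, h1, sub_self]) (Ideal.Quotient.eq.mp h2)
        (sub_ne_zero.mpr hne))
    have hexist : ∀ r : R, ∃ x : X.E, X.proj x = r ∧ Ideal.Quotient.mk J x = φ' r := by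
      intro r
      obtain ⟨x0, hx0⟩ := hp r
      have h1 : Ideal.Quotient.mk (Ideal.span {t}) (φ' r) =
          Ideal.Quotient.mk (Ideal.span {t}) (Ideal.Quotient.mk J x0) := by
        have h2 := DFunLike.congr_fun hφ' r
        rw [AlgHom.comp_apply, ← hx0, hφ] at h2
        rw [← hx0]
        exact h2
      obtain ⟨b, hb⟩ := Ideal.mem_span_singleton.mp (Ideal.Quotient.eq.mp h1)
      obtain ⟨y, rfl⟩ := Ideal.Quotient.mk_surjective b
      refine ⟨x0 + y * e, by rw [map_add, map_mul, hpe, mul_zero, add_zero, hx0], ?_⟩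
      rw [map_add, map_mul]
      linear_combination -hb
    choose s hs1 hs2 using hexist
    let sA : R →ₐ[Λ] X.E :=
      { toFun := s
        map_one' := huniq _ _ (by rw [hs1, map_one]) (by rw [hs2, map_one, map_one])
        map_mul' := fun a b => huniq _ _ (by rw [hs1, map_mul, hs1, hs1]) (by rw [hs2, map_mul, map_mul, hs2, hs2])
        map_zero' := huniq _ _ (by rw [hs1, map_zero]) (by rw [hs2, map_zero, map_zero])
        map_add' := fun a b => huniq _ _ (by rw [hs1, map_add, hs1, hs1]) (by rw [hs2, map_add, map_add, hs2, hs2])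
        commutes' := fun a => huniq _ _ (by rw [hs1, AlgHom.commutes]) (by
          rw [hs2, AlgHom.commutes]; rfl) }
    exact ⟨sA, hs1⟩

end Groth.Agent.S11281
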