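import Groth.Statements.S11282
import Mathlib
import Mathlib
-- import your own Groth.Agent.* helpers here

set_option autoImplicit false
universe u
open Deform

namespace Groth.Agent.S11282

/-- Let k be an algebraically closed field, Λ a complete local Noetherian k-algebra with residue field
k, and R a local Noetherian Λ-algebra with local structure map, residue field k and maximal ideal m.
Then for some n the pull-back map o((R/m^(n+1))/Λ) → o(R/Λ) on obstruction spaces is onto: every
Λ-extension 0 → k → E → R → 0 of R by its residue field is the inverse image of a Λ-extension of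
R/m^(n+1) by k. Concretely, the middle ring E of every such extension contains an ideal I which
meets the kernel k only in 0 and whose image in R is exactly m^(n+1) (then E/I is an extension of
R/m^(n+1) by k whose inverse image along R → R/m^(n+1) is E). -/
theorem result
    {k : Type u} [Field k] [IsAlgClosed k]
    {Λ : Type u} [CommRing Λ] [Algebra k Λ] [IsLocalRing Λ] [IsNoetherianRing Λ]
    [IsAdicComplete (IsLocalRing.maximalIdeal Λ) Λ]
    (hΛ : ∀ a : Λ, ∃ c : k, a - algebraMap k Λ c ∈ IsLocalRing.maximalIdeal Λ)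
    {R : Type u} [CommRing R] [Algebra Λ R] [IsLocalRing R] [IsNoetherianRing R]
    [IsLocalHom (algebraMap Λ R)]
    (hR : ∀ r : R, ∃ c : k, r - algebraMap Λ R (algebraMap k Λ c) ∈ IsLocalRing.maximalIdeal R) :
    ∃ n : ℕ, ∀ X : Exal.Ext Λ R (IsLocalRing.ResidueField R),
      ∃ I : Ideal X.E, (∀ x ∈ I, X.proj x = 0 → x = 0) ∧
        Ideal.map X.proj I = IsLocalRing.maximalIdeal R ^ (n + 1) := by
  classical
  set m := IsLocalRing.maximalIdeal R with hm
  set φ : k →+* R := (algebraMap Λ R).comp (algebraMap k Λ) with hφ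
  obtain ⟨s, r, hr⟩ := Submodule.fg_iff_exists_fin_generating_family.mp
    (IsNoetherian.noetherian m)
  let K : ℕ → Set (MvPolynomial (Fin s) k) :=
    fun j => {F | F.IsHomogeneous j ∧ MvPolynomial.eval₂ φ r F ∈ m ^ (j + 1)}
  let J : ℕ →o Ideal (MvPolynomial (Fin s) k) :=
    ⟨fun n => Ideal.span (⋃ j ∈ Finset.range (n + 1), K j), fun a b hab => Ideal.span_mono
      (Set.biUnion_subset_biUnion_left (fun x hx => Finset.mem_range.mpr
        (lt_of_lt_of_le (Finset.mem_range.mp hx) (by omega))))⟩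
  obtain ⟨n₀, hn₀⟩ := monotone_stabilizes_iff_noetherian.mpr
    (inferInstanceAs (IsNoetherian (MvPolynomial (Fin s) k) (MvPolynomial (Fin s) k))) J
  have hKJ : ∀ j, ∀ F ∈ K j, F ∈ J n₀ := by
    intro j F hF
    have h1 : F ∈ J (max j n₀) := by
      refine Ideal.subset_span ?_
      exact Set.mem_biUnion (Finset.mem_range.mpr (by omega : j < max j n₀ + 1)) hF
    rwa [← hn₀ _ (le_max_right _ _)] at h1
  refine ⟨n₀ + 1, fun X => ?_⟩
  have hX := X.isExtension
  set M : Ideal X.E := m.comap X.proj with hM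
  have hsurj := hX.proj_surjective
  have hmap : ∀ j, Ideal.map X.proj (M ^ j) = m ^ j := by
    intro j
    rw [Ideal.map_pow, hM, Ideal.map_comap_of_surjective _ hsurj]
  have hsmul : ∀ (c : R) (z : IsLocalRing.ResidueField R), c • z = IsLocalRing.residue R c * z :=
    fun c z => by rw [Algebra.smul_def]; rfl
  have hkill : ∀ a ∈ M, ∀ y, X.proj y = 0 → a * y = 0 := by
    intro a ha y hy
    obtain ⟨z, rfl⟩ := (hX.exact y).mp hy
    rw [hX.mul_incl, hsmul, (IsLocalRing.residue_eq_zero_iff _).mpr ha, zero_mul, map_zero]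
  refine ⟨M ^ (n₀ + 2), ?_, hmap _⟩
  intro x hx hx0
  by_contra hxne
  obtain ⟨z, hz⟩ := (hX.exact x).mp hx0
  have hzne : z ≠ 0 := fun h => hxne (by rw [← hz, h, map_zero])
  have hgen : ∀ y, X.proj y = 0 → ∀ w, X.proj w = 0 → w ≠ 0 → ∃ c, y = c * w := by
    intro y hy w hw hwne
    obtain ⟨a, rfl⟩ := (hX.exact y).mp hy
    obtain ⟨b, rfl⟩ := (hX.exact w).mp hw
    have hb : b ≠ 0 := fun h => hwne (by rw [h, map_zero])
    obtain ⟨c, hc⟩ := IsLocalRing.residue_surjective (a / b)
    obtain ⟨c', rfl⟩ := hsurj c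
    refine ⟨c', ?_⟩
    rw [hX.mul_incl, hsmul, hc, div_mul_cancel₀ _ hb]
  haveI : IsNoetherianRing X.E := by
    rw [isNoetherianRing_iff_ideal_fg]
    intro I
    obtain ⟨T, hT⟩ := IsNoetherian.noetherian (Ideal.map X.proj I)
    have hpre : ∀ t : T, ∃ g ∈ I, X.proj g = (t : R) := by
      intro t
      refine (Ideal.mem_map_iff_of_surjective _ hsurj).mp ?_
      rw [← hT]
      exact Submodule.subset_span t.2
    choose g hgI hg using hpre
    obtain ⟨w, hwI, hw⟩ : ∃ w ∈ I, ∀ y ∈ I, X.proj y = 0 → ∃ c, y = c * w := by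
      by_cases hI : ∃ w ∈ I, X.proj w = 0 ∧ w ≠ 0
      · obtain ⟨w, hwI, hw0, hwne⟩ := hI
        exact ⟨w, hwI, fun y _ hy => hgen y hy w hw0 hwne⟩
      · push_neg at hI
        exact ⟨0, I.zero_mem, fun y hyI hy => ⟨0, by simp [hI y hyI hy]⟩⟩
    refine ⟨insert w (Finset.univ.image g), le_antisymm ?_ ?_⟩
    · rw [Submodule.span_le, Finset.coe_insert, Set.insert_subset_iff]
      refine ⟨hwI, ?_⟩
      intro y hy
      simp only [Finset.coe_image, Finset.coe_univ, Set.image_univ, Set.mem_range] at hy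
      obtain ⟨t, rfl⟩ := hy
      exact hgI t
    · intro y hy
      have h1 : Ideal.map X.proj (Ideal.span (Finset.univ.image g : Set X.E)) = Ideal.map X.proj I := by
        rw [Ideal.map_span, ← hT]
        congr 1
        ext a
        simp only [Finset.coe_image, Finset.coe_univ, Set.image_univ, Set.mem_image, Set.mem_range]
        exact ⟨by rintro ⟨_, ⟨t, rfl⟩, rfl⟩; rw [hg]; exact t.2,
          fun ha => ⟨g ⟨a, ha⟩, ⟨⟨a, ha⟩, rfl⟩, hg _⟩⟩
      obtain ⟨y', hy', hyy⟩ := (Ideal.mem_map_iff_of_surjective _ hsurj).mp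
        (h1 ▸ Ideal.mem_map_of_mem X.proj hy : X.proj y ∈ Ideal.map X.proj _)
      have hy'I : y' ∈ I := by
        refine (Ideal.span_le.mpr ?_) hy'
        intro a ha
        simp only [Finset.coe_image, Finset.coe_univ, Set.image_univ, Set.mem_range] at ha
        obtain ⟨t, rfl⟩ := ha
        exact hgI t
      obtain ⟨c, hc⟩ := hw (y - y') (I.sub_mem hy hy'I) (by rw [map_sub, hyy, sub_self])
      rw [show y = c * w + y' by rw [← hc]; ring]
      refine Submodule.add_mem _ ?_ ?_
      · exact Ideal.mul_mem_left _ c (Submodule.subset_span (Finset.mem_insert_self _ _))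
      · exact Submodule.span_mono (by simp) hy'
  choose e he using fun i => hsurj (r i)
  have hrm : ∀ i, r i ∈ m := fun i => hr ▸ Submodule.subset_span (Set.mem_range_self i)
  have heM : ∀ i, e i ∈ M := fun i => by rw [hM, Ideal.mem_comap, he]; exact hrm i
  set ψ : k →+* X.E := (algebraMap Λ X.E).comp (algebraMap k Λ) with hψ
  have hproj : ∀ F, X.proj (MvPolynomial.eval₂ ψ e F) = MvPolynomial.eval₂ φ r F := by
    intro F
    induction F using MvPolynomial.induction_on with
    | C a => simp [hψ, hφ]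
    | add p q hp hq => simp [hp, hq]
    | mul_X p i hp => simp [hp, he]
  have hres : ∀ a : X.E, ∃ c : k, a - ψ c ∈ M := by
    intro a
    obtain ⟨c, hc⟩ := hR (X.proj a)
    refine ⟨c, ?_⟩
    rw [hM, Ideal.mem_comap, map_sub]
    simpa [hψ] using hc
  have hevalpow : ∀ i (F : MvPolynomial (Fin s) k), F.IsHomogeneous i →
      MvPolynomial.eval₂ ψ e F ∈ M ^ i := by
    intro i F hF
    rw [MvPolynomial.eval₂_eq]
    refine Submodule.sum_mem _ fun d hd => Ideal.mul_mem_left _ _ ?_
    have hdeg : ∑ a ∈ d.support, d a = i := by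
      have := hF (MvPolynomial.mem_support_iff.mp hd)
      simpa [Finsupp.weight_apply, Finsupp.sum] using this
    rw [← hdeg, ← Finset.prod_pow_eq_pow_sum]
    exact Ideal.prod_mem_prod fun a _ => Ideal.pow_mem_pow (heM a) _
  have hxM2 : ∀ y, X.proj y = 0 → y ∈ M ^ 2 := by
    intro y hy
    obtain ⟨c, rfl⟩ := hgen y hy x hx0 hxne
    exact Ideal.mul_mem_left _ _ (Ideal.pow_le_pow_right (by omega) hx)
  have hlin : ∀ a ∈ M, ∃ G : MvPolynomial (Fin s) k, G.IsHomogeneous 1 ∧
      a - MvPolynomial.eval₂ ψ e G ∈ M ^ 2 := by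
    intro a ha
    obtain ⟨c, hc⟩ := (Submodule.mem_span_range_iff_exists_fun R).mp (hr.symm ▸ ha : X.proj a ∈ Submodule.span R (Set.range r))
    choose c' hc' using fun i => hsurj (c i)
    choose d hd using fun i => hres (c' i)
    refine ⟨∑ i, MvPolynomial.C (d i) * MvPolynomial.X i, MvPolynomial.IsHomogeneous.sum _ _ _
      (fun i _ => (MvPolynomial.isHomogeneous_X k i).C_mul _), ?_⟩
    have h1 : a - ∑ i, c' i * e i ∈ M ^ 2 := hxM2 _ (by
      rw [map_sub, map_sum, ← hc]
      simp [hc', he])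
    have h2 : ∑ i, c' i * e i - MvPolynomial.eval₂ ψ e (∑ i, MvPolynomial.C (d i) * MvPolynomial.X i) ∈ M ^ 2 := by
      rw [MvPolynomial.eval₂_sum, ← Finset.sum_sub_distrib]
      refine Submodule.sum_mem _ fun i _ => ?_
      rw [MvPolynomial.eval₂_mul, MvPolynomial.eval₂_C, MvPolynomial.eval₂_X, ← sub_mul, pow_two]
      exact Ideal.mul_mem_mul (hd i) (heM i)
    have := Submodule.add_mem _ h1 h2
    rwa [sub_add_sub_cancel] at this
  have happrox : ∀ j, ∀ y ∈ M ^ j, ∃ F : MvPolynomial (Fin s) k, F.IsHomogeneous j ∧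
      y - MvPolynomial.eval₂ ψ e F ∈ M ^ (j + 1) := by
    intro j
    induction j with
    | zero =>
      intro y _
      obtain ⟨c, hc⟩ := hres y
      exact ⟨MvPolynomial.C c, MvPolynomial.isHomogeneous_C _ _, by simpa using hc⟩
    | succ j ih =>
      intro y hy
      rw [pow_succ'] at hy
      refine Submodule.mul_induction_on hy ?_ ?_
      · intro a ha b hb
        obtain ⟨G, hG, hG'⟩ := hlin a ha
        obtain ⟨F, hF, hF'⟩ := ih b hb
        refine ⟨G * F, by rw [add_comm]; exact hG.mul hF, ?_⟩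
        rw [MvPolynomial.eval₂_mul, show a * b - MvPolynomial.eval₂ ψ e G * MvPolynomial.eval₂ ψ e F =
          (a - MvPolynomial.eval₂ ψ e G) * b + MvPolynomial.eval₂ ψ e G * (b - MvPolynomial.eval₂ ψ e F) by ring]
        refine Submodule.add_mem _ ?_ ?_
        · have := Ideal.mul_mem_mul hG' hb
          rwa [← pow_add, show 2 + j = j + 1 + 1 by omega] at this
        · have := Ideal.mul_mem_mul (hevalpow 1 G hG) hF'
          rwa [← pow_add, show 1 + (j + 1) = j + 1 + 1 by omega] at this
      · rintro y₁ y₂ ⟨F₁, h₁, h₁'⟩ ⟨F₂, h₂, h₂'⟩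
        refine ⟨F₁ + F₂, h₁.add h₂, ?_⟩
        rw [MvPolynomial.eval₂_add, add_sub_add_comm]
        exact Submodule.add_mem _ h₁' h₂'
  have hex : ∃ N, x ∉ M ^ N := by
    by_contra hall
    push_neg at hall
    have h1 : x ∈ (⨅ i : ℕ, M ^ i • ⊤ : Submodule X.E X.E) := by
      rw [Submodule.mem_iInf]
      intro i
      simpa using hall i
    obtain ⟨a, ha⟩ := (M.mem_iInf_smul_pow_eq_bot_iff x).mp h1
    rw [smul_eq_mul, hkill a.1 a.2 x hx0] at ha
    exact hxne ha.symm
  have hN := Nat.find_spec hex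
  have hNgt : n₀ + 2 < Nat.find hex := by
    by_contra h
    exact hN (Ideal.pow_le_pow_right (not_lt.mp h) hx)
  obtain ⟨j, hj⟩ : ∃ j, Nat.find hex = j + 1 := ⟨Nat.find hex - 1, by omega⟩
  have hxj : x ∈ M ^ j := by
    by_contra h
    exact Nat.find_min hex (by omega : j < Nat.find hex) h
  rw [hj] at hN
  obtain ⟨F, hF, hF'⟩ := happrox j x hxj
  have hFK : F ∈ K j := by
    refine ⟨hF, ?_⟩
    have := Ideal.mem_map_of_mem X.proj hF'
    rw [hmap, map_sub, hx0, zero_sub, hproj] at this
    exact neg_mem_iff.mp this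
  have hP : ∀ G ∈ J n₀, ∀ a : MvPolynomial (Fin s) k,
      MvPolynomial.eval₂ ψ e (MvPolynomial.homogeneousComponent j (a * G)) ∈ M ^ (j + 1) := by
    intro G hG
    change G ∈ Submodule.span _ _ at hG
    induction hG using Submodule.span_induction with
    | mem H hH =>
      intro a
      simp only [Set.mem_iUnion, Finset.mem_range, exists_prop] at hH
      obtain ⟨d, hd, hHd, hHr⟩ := hH
      rw [← MvPolynomial.sum_homogeneousComponent a, Finset.sum_mul, map_sum, MvPolynomial.eval₂_sum]
      refine Submodule.sum_mem _ fun i _ => ?_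
      have hih := (MvPolynomial.homogeneousComponent_isHomogeneous i a).mul hHd
      rw [MvPolynomial.homogeneousComponent_of_mem ((MvPolynomial.mem_homogeneousSubmodule _ _).mpr hih)]
      split_ifs with hij
      · obtain ⟨h', hh', hh''⟩ := (Ideal.mem_map_iff_of_surjective _ hsurj).mp
          ((hmap (d + 1)).symm ▸ (hproj H).symm ▸ hHr : X.proj (MvPolynomial.eval₂ ψ e H) ∈ Ideal.map X.proj (M ^ (d + 1)))
        rw [MvPolynomial.eval₂_mul]
        set A := MvPolynomial.eval₂ ψ e (MvPolynomial.homogeneousComponent i a)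
        have hA : A ∈ M ^ i := hevalpow i _ (MvPolynomial.homogeneousComponent_isHomogeneous i a)
        have hA0 : A * (MvPolynomial.eval₂ ψ e H - h') = 0 :=
          hkill A (Ideal.pow_le_self (by omega : i ≠ 0) hA) _ (by rw [map_sub, hh'', sub_self])
        rw [mul_sub, sub_eq_zero] at hA0
        rw [hA0, show j + 1 = i + (d + 1) by omega, pow_add]
        exact Ideal.mul_mem_mul hA hh'
      · simp
    | zero => intro a; simp
    | add p q _ _ hp hq =>
      intro a
      rw [mul_add, map_add, MvPolynomial.eval₂_add]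
      exact Submodule.add_mem _ (hp a) (hq a)
    | smul b p _ hp =>
      intro a
      rw [smul_eq_mul, ← mul_assoc]
      exact hp (a * b)
  have hlast := hP F (hKJ j F hFK) 1
  rw [one_mul, MvPolynomial.homogeneousComponent_of_mem ((MvPolynomial.mem_homogeneousSubmodule _ _).mpr hF), if_pos rfl] at hlast
  exact hN (by simpa using Submodule.add_mem _ hF' hlast)

end Groth.Agent.S11282
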