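import Groth.Statements.S11283
import Mathlib
import Groth.Agent.S11282
import Groth.Agent.KaExtLib.Completion
import Groth.Agent.CohenLib.FSRegular
import Groth.Agent.CatLib.Completion
-- import your own Groth.Agent.* helpers here

set_option autoImplicit false
universe u
open Deform

namespace Groth.Agent.S11283

/-- Let k be an algebraically closed field, Λ a complete local Noetherian k-algebra with residue field
k, R a local Noetherian Λ-algebra with local structure map and residue field k, and R̂ the
completion of R at its maximal ideal. Let L be a simple R-module (a one-dimensional k-vector space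
on which R acts through its residue field) carrying a compatible R̂-module structure. Then inverse
image of Λ-extensions along R → R̂ induces a bijection o(R̂/Λ) → o(R/Λ) on classes of Λ-extensions
by L: two Λ-extensions of R̂ by L whose inverse images over R are equivalent are equivalent, and
every Λ-extension of R by L is equivalent to the inverse image of one of R̂. -/
theorem result
    {k : Type u} [Field k] [IsAlgClosed k]
    {Λ : Type u} [CommRing Λ] [Algebra k Λ] [IsLocalRing Λ] [IsNoetherianRing Λ]
    [IsAdicComplete (IsLocalRing.maximalIdeal Λ) Λ]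
    (hΛ : ∀ a : Λ, ∃ c : k, a - algebraMap k Λ c ∈ IsLocalRing.maximalIdeal Λ)
    {R : Type u} [CommRing R] [Algebra Λ R] [IsLocalRing R] [IsNoetherianRing R]
    [IsLocalHom (algebraMap Λ R)]
    (hR : ∀ r : R, ∃ c : k, r - algebraMap Λ R (algebraMap k Λ c) ∈ IsLocalRing.maximalIdeal R)
    (L : Type u) [AddCommGroup L] [Module (AdicCompletion (IsLocalRing.maximalIdeal R) R) L] [Module R L]
    [IsScalarTower R (AdicCompletion (IsLocalRing.maximalIdeal R) R) L] [IsSimpleModule R L] :
    (∀ X X' : Exal.Ext Λ (AdicCompletion (IsLocalRing.maximalIdeal R) R) L,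
        Nonempty ((X.pullback R).Equiv (X'.pullback R)) → Nonempty (X.Equiv X')) ∧
    (∀ Y : Exal.Ext Λ R L, ∃ X : Exal.Ext Λ (AdicCompletion (IsLocalRing.maximalIdeal R) R) L,
        Nonempty ((X.pullback R).Equiv Y)) := by
  classical
  let Rh := AdicCompletion (IsLocalRing.maximalIdeal R) R
  haveI : IsNoetherianRing Rh := CatLib.isNoetherianRing_cpl R
  have hfg : (IsLocalRing.maximalIdeal R).FG := IsNoetherian.noetherian (IsLocalRing.maximalIdeal R)
  have hmax : IsLocalRing.maximalIdeal Rh = (IsLocalRing.maximalIdeal R).map (algebraMap R Rh) := AdicCompletion.maximalIdeal_eq_map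
  haveI : IsLocalHom (algebraMap Λ Rh) := by
    rw [IsScalarTower.algebraMap_eq Λ R Rh]
    exact RingHom.isLocalHom_comp _ _
  have hker : ∀ j, RingHom.ker (AdicCompletion.evalₐ (IsLocalRing.maximalIdeal R) j).toRingHom = ((IsLocalRing.maximalIdeal R) ^ j).map (algebraMap R Rh) :=
    fun j => CohenLib.ker_evalₐ_eq_map (IsLocalRing.maximalIdeal R) j hfg
  have hpow : ∀ j, IsLocalRing.maximalIdeal Rh ^ j = RingHom.ker (AdicCompletion.evalₐ (IsLocalRing.maximalIdeal R) j).toRingHom := fun j => by
    rw [hker, Ideal.map_pow, hmax]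
  have hev : ∀ j r, AdicCompletion.evalₐ (IsLocalRing.maximalIdeal R) j (algebraMap R Rh r) = Ideal.Quotient.mk ((IsLocalRing.maximalIdeal R) ^ j) r := fun j r =>
    (AdicCompletion.evalₐ (IsLocalRing.maximalIdeal R) j).commutes r
  have hsurj : ∀ j (s : Rh), ∃ r : R, s - algebraMap R Rh r ∈ IsLocalRing.maximalIdeal Rh ^ j := fun j s => by
    obtain ⟨r, hr⟩ := Ideal.Quotient.mk_surjective (AdicCompletion.evalₐ (IsLocalRing.maximalIdeal R) j s)
    refine ⟨r, ?_⟩
    rw [hpow, RingHom.mem_ker]
    show AdicCompletion.evalₐ (IsLocalRing.maximalIdeal R) j (s - algebraMap R Rh r) = 0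
    rw [map_sub, hev, hr, sub_self]
  have hcomap : ∀ j, (IsLocalRing.maximalIdeal Rh ^ j).comap (algebraMap R Rh) = (IsLocalRing.maximalIdeal R) ^ j := fun j => by
    ext r
    rw [hpow, Ideal.mem_comap, RingHom.mem_ker]
    show AdicCompletion.evalₐ (IsLocalRing.maximalIdeal R) j (algebraMap R Rh r) = 0 ↔ _
    rw [hev, Ideal.Quotient.eq_zero_iff_mem]
  have hkill : ∀ r ∈ (IsLocalRing.maximalIdeal R), ∀ z : L, r • z = 0 := fun r hr z => by
    obtain ⟨M, hM, ⟨e⟩⟩ := isSimpleModule_iff_quot_maximal.1 (inferInstance : IsSimpleModule R L)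
    rw [IsLocalRing.eq_maximalIdeal hM] at e
    refine e.injective ?_
    rw [map_smul, map_zero]
    obtain ⟨y, hy⟩ := Ideal.Quotient.mk_surjective (e z)
    rw [← hy]
    exact Ideal.Quotient.eq_zero_iff_mem.2 (Ideal.mul_mem_right _ _ hr)
  haveI : IsSimpleModule Rh L :=
    { toIsSimpleOrder :=
        { toNontrivial := by
            haveI := IsSimpleModule.nontrivial R L
            infer_instance
          eq_bot_or_eq_top := fun W => by
            rcases IsSimpleOrder.eq_bot_or_eq_top (W.restrictScalars R) with h | h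
            · exact Or.inl ((Submodule.restrictScalars_injective R Rh L) (h.trans (Submodule.restrictScalars_bot R Rh L).symm))
            · exact Or.inr ((Submodule.restrictScalars_injective R Rh L) (h.trans (Submodule.restrictScalars_top R Rh L).symm)) } }
  have hR' : ∀ r : Rh, ∃ c : k, r - algebraMap Λ Rh (algebraMap k Λ c) ∈ IsLocalRing.maximalIdeal Rh := fun s => by
    obtain ⟨r, hr⟩ := hsurj 1 s
    obtain ⟨c, hc⟩ := hR r
    refine ⟨c, ?_⟩
    rw [pow_one] at hr
    rw [IsScalarTower.algebraMap_apply Λ R Rh, show s - algebraMap R Rh (algebraMap Λ R (algebraMap k Λ c)) =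
      (s - algebraMap R Rh r) + algebraMap R Rh (r - algebraMap Λ R (algebraMap k Λ c)) by rw [map_sub]; ring]
    exact add_mem hr (hmax ▸ Ideal.mem_map_of_mem _ hc)
  refine ⟨fun X X' h => ?_, fun Y => ?_⟩
  · obtain ⟨N, hN⟩ := Groth.Agent.S11282.result hΛ (R := Rh) hR'
    obtain ⟨M, hM, ⟨e⟩⟩ := isSimpleModule_iff_quot_maximal.1 (inferInstance : IsSimpleModule Rh L)
    obtain rfl := IsLocalRing.eq_maximalIdeal hM
    obtain ⟨I, hI, hIn⟩ := hN { E := X.E, proj := X.proj, incl := X.incl.comp e.symm.toLinearMap.toAddMonoidHom, isExtension :=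
      { proj_surjective := X.isExtension.proj_surjective
        incl_injective := X.isExtension.incl_injective.comp e.symm.injective
        exact := fun x => (X.isExtension.exact x).trans
          ⟨fun ⟨z, hz⟩ => ⟨e z, (congrArg X.incl (e.symm_apply_apply z)).trans hz⟩, fun ⟨z, hz⟩ => ⟨e.symm z, hz⟩⟩
        mul_incl := fun x z => (X.isExtension.mul_incl x (e.symm z)).trans (congrArg X.incl (e.symm.map_smul _ z).symm) } }
    obtain ⟨I', hI', hIn'⟩ := hN { E := X'.E, proj := X'.proj, incl := X'.incl.comp e.symm.toLinearMap.toAddMonoidHom, isExtension :=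
      { proj_surjective := X'.isExtension.proj_surjective
        incl_injective := X'.isExtension.incl_injective.comp e.symm.injective
        exact := fun x => (X'.isExtension.exact x).trans
          ⟨fun ⟨z, hz⟩ => ⟨e z, (congrArg X'.incl (e.symm_apply_apply z)).trans hz⟩, fun ⟨z, hz⟩ => ⟨e.symm z, hz⟩⟩
        mul_incl := fun x z => (X'.isExtension.mul_incl x (e.symm z)).trans (congrArg X'.incl (e.symm.map_smul _ z).symm) } }
    exact KaExtLib.equiv_of_pullback_equiv (IsLocalRing.maximalIdeal R) (IsLocalRing.maximalIdeal Rh) N (hsurj _) (hcomap _) hmax.ge hkill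
      X X' I hI hIn I' hI' hIn' h
  · obtain ⟨N, hN⟩ := Groth.Agent.S11282.result hΛ (R := R) hR
    obtain ⟨M, hM, ⟨e⟩⟩ := isSimpleModule_iff_quot_maximal.1 (inferInstance : IsSimpleModule R L)
    obtain rfl := IsLocalRing.eq_maximalIdeal hM
    obtain ⟨I, hI, hIn⟩ := hN { E := Y.E, proj := Y.proj, incl := Y.incl.comp e.symm.toLinearMap.toAddMonoidHom, isExtension :=
      { proj_surjective := Y.isExtension.proj_surjective
        incl_injective := Y.isExtension.incl_injective.comp e.symm.injective
        exact := fun x => (Y.isExtension.exact x).trans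
          ⟨fun ⟨z, hz⟩ => ⟨e z, (congrArg Y.incl (e.symm_apply_apply z)).trans hz⟩, fun ⟨z, hz⟩ => ⟨e.symm z, hz⟩⟩
        mul_incl := fun x z => (Y.isExtension.mul_incl x (e.symm z)).trans (congrArg Y.incl (e.symm.map_smul _ z).symm) } }
    refine KaExtLib.exists_pullback_equiv (IsLocalRing.maximalIdeal R) N ((AdicCompletion.evalₐ (IsLocalRing.maximalIdeal R) (N + 1)).restrictScalars Λ) (fun z => ?_)
      (hev _) (fun r s hrs z => ?_) Y I hI hIn
    · obtain ⟨r, rfl⟩ := Ideal.Quotient.mk_surjective z
      exact ⟨algebraMap R Rh r, hev _ r⟩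
    · have h0 : s - algebraMap R Rh r ∈ IsLocalRing.maximalIdeal Rh := by
        have : s - algebraMap R Rh r ∈ IsLocalRing.maximalIdeal Rh ^ (N + 1) := by
          rw [hpow, RingHom.mem_ker]
          show AdicCompletion.evalₐ (IsLocalRing.maximalIdeal R) (N + 1) (s - algebraMap R Rh r) = 0
          rw [map_sub, hev, sub_eq_zero]
          exact hrs
        exact Ideal.pow_le_self (Nat.succ_ne_zero N) this
      rw [← algebraMap_smul Rh r z, ← sub_eq_zero, ← sub_smul]
      rw [hmax] at h0
      refine Submodule.span_induction (p := fun x _ => ∀ z : L, x • z = 0) ?_ (fun z => zero_smul Rh z)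
        (fun a b _ _ ha hb z => by rw [add_smul, ha, hb, add_zero]) (fun c a _ ha z => by rw [smul_eq_mul, mul_smul, ha, smul_zero]) h0 z
      rintro _ ⟨a, ha, rfl⟩ z
      rw [algebraMap_smul]; exact hkill a ha z

end Groth.Agent.S11283
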