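import Groth.Statements.S11287
import Mathlib
import Groth.Agent.S11282
import Groth.Agent.KaExtLib.Completion
import Groth.Agent.KaExtLib.OfLinearMap
import Groth.Agent.KaExtLib.Lift
-- import your own Groth.Agent.* helpers here

set_option autoImplicit false
universe u
open Deform

namespace Groth.Agent.S11287

/-- Let k be an algebraically closed field, Λ a complete local Noetherian k-algebra with residue field
k, P = Λ[[X_1, …, X_d]] the power series ring, J an ideal of P contained in (X_1, …, X_d)^2, R =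
P/J, and L a simple R-module (a copy of the residue field k). Then: (a) for every Λ-extension 0 → L
→ E → R → 0 the quotient map P → R lifts to a Λ-algebra map u : P → E; (b) for two such extensions
E, E' with lifts u, u', the extensions are equivalent if and only if u and u' send every element of
J to the images of the same element of L (the restrictions J → L of the lifts agree); (c) every
P-linear map J → L is the restriction of a lift for some extension. Thus the classes of Λ-extensions
of R by L correspond bijectively to Hom_P(J, L), the dual of J/m_P J; this is the identification of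
the obstruction space o(R/Λ) for a complete R (the general case reduces to it by passing to the
completion). -/
theorem result
    {k : Type u} [Field k] [IsAlgClosed k]
    {Λ : Type u} [CommRing Λ] [Algebra k Λ] [IsLocalRing Λ] [IsNoetherianRing Λ]
    [IsAdicComplete (IsLocalRing.maximalIdeal Λ) Λ]
    (hΛ : ∀ a : Λ, ∃ c : k, a - algebraMap k Λ c ∈ IsLocalRing.maximalIdeal Λ)
    (d : ℕ) (J : Ideal (MvPowerSeries (Fin d) Λ))
    (hJ : J ≤ Ideal.span (Set.range (MvPowerSeries.X : Fin d → MvPowerSeries (Fin d) Λ)) ^ 2)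
    (L : Type u) [AddCommGroup L] [Module (MvPowerSeries (Fin d) Λ ⧸ J) L] [Module (MvPowerSeries (Fin d) Λ) L]
    [IsScalarTower (MvPowerSeries (Fin d) Λ) (MvPowerSeries (Fin d) Λ ⧸ J) L] [IsSimpleModule (MvPowerSeries (Fin d) Λ ⧸ J) L] :
    (∀ X : Exal.Ext Λ (MvPowerSeries (Fin d) Λ ⧸ J) L,
        ∃ u : MvPowerSeries (Fin d) Λ →ₐ[Λ] X.E, ∀ p, X.proj (u p) = Ideal.Quotient.mk J p) ∧
    (∀ (X X' : Exal.Ext Λ (MvPowerSeries (Fin d) Λ ⧸ J) L) (u : MvPowerSeries (Fin d) Λ →ₐ[Λ] X.E) (u' : MvPowerSeries (Fin d) Λ →ₐ[Λ] X'.E),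
        (∀ p, X.proj (u p) = Ideal.Quotient.mk J p) → (∀ p, X'.proj (u' p) = Ideal.Quotient.mk J p) →
        (Nonempty (X.Equiv X') ↔ ∀ j ∈ J, ∃ z : L, X.incl z = u j ∧ X'.incl z = u' j)) ∧
    (∀ δ : J →ₗ[MvPowerSeries (Fin d) Λ] L, ∃ (X : Exal.Ext Λ (MvPowerSeries (Fin d) Λ ⧸ J) L) (u : MvPowerSeries (Fin d) Λ →ₐ[Λ] X.E),
        (∀ p, X.proj (u p) = Ideal.Quotient.mk J p) ∧ ∀ j : J, X.incl (δ j) = u j) := by
  classical
  let P := MvPowerSeries (Fin d) Λ
  let R := P ⧸ J
  have hVT : CohenLib.varsIdeal Λ d ≠ ⊤ := fun h => by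
    have h1 : (1 : P) ∈ RingHom.ker (MvPowerSeries.constantCoeff (σ := Fin d) (R := Λ)) := by
      rw [CohenLib.ker_constantCoeff, h]; trivial
    rw [RingHom.mem_ker, map_one] at h1
    exact one_ne_zero h1
  have hJV : J ≤ CohenLib.varsIdeal Λ d := hJ.trans (Ideal.pow_le_self two_ne_zero)
  haveI : Nontrivial R := Ideal.Quotient.nontrivial_iff.2 fun h => hVT (top_le_iff.1 (h ▸ hJV))
  haveI : IsNoetherianRing P := CohenLib.isNoetherianRing_mvPowerSeries (Λ := Λ) (n := d)
  haveI : IsLocalRing R := IsLocalRing.of_surjective' _ Ideal.Quotient.mk_surjective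
  haveI : IsNoetherianRing R := inferInstance
  haveI : IsLocalHom (algebraMap Λ R) := ⟨fun a ha => by
    obtain ⟨q, hq⟩ := isUnit_iff_exists_inv.1 ha
    obtain ⟨q, rfl⟩ := Ideal.Quotient.mk_surjective q
    have h1 : (MvPowerSeries.C a : P) * q - 1 ∈ CohenLib.varsIdeal Λ d :=
      hJV (Ideal.Quotient.eq.1 (by rw [map_mul, map_one]; exact hq))
    rw [← CohenLib.ker_constantCoeff, RingHom.mem_ker, map_sub, map_mul, MvPowerSeries.constantCoeff_C, map_one, sub_eq_zero] at h1
    exact IsUnit.of_mul_eq_one _ h1⟩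
  have hmv : (CohenLib.varsIdeal Λ d).map (Ideal.Quotient.mk J) ≤ IsLocalRing.maximalIdeal R := by
    refine IsLocalRing.le_maximalIdeal fun h => ?_
    have h1 := Ideal.comap_map_of_surjective (Ideal.Quotient.mk J) Ideal.Quotient.mk_surjective (CohenLib.varsIdeal Λ d)
    rw [h, Ideal.comap_top, ← RingHom.ker_eq_comap_bot, Ideal.mk_ker, sup_eq_left.2 hJV] at h1
    exact hVT h1.symm
  have hXm : ∀ i, Ideal.Quotient.mk J (MvPowerSeries.X i) ∈ IsLocalRing.maximalIdeal R := fun i =>
    hmv (Ideal.mem_map_of_mem _ (Ideal.subset_span ⟨i, rfl⟩))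
  have hR : ∀ r : R, ∃ c : k, r - algebraMap Λ R (algebraMap k Λ c) ∈ IsLocalRing.maximalIdeal R := fun r => by
    obtain ⟨p, rfl⟩ := Ideal.Quotient.mk_surjective r
    obtain ⟨c, hc⟩ := hΛ (MvPowerSeries.constantCoeff p)
    refine ⟨c, ?_⟩
    have e : Ideal.Quotient.mk J p - algebraMap Λ R (algebraMap k Λ c) =
        Ideal.Quotient.mk J (p - MvPowerSeries.C (MvPowerSeries.constantCoeff p)) +
          algebraMap Λ R (MvPowerSeries.constantCoeff p - algebraMap k Λ c) := by
      rw [map_sub, map_sub]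
      show _ = Ideal.Quotient.mk J p - algebraMap Λ R _ + _
      ring
    rw [e]
    refine add_mem (hmv (Ideal.mem_map_of_mem _ ?_)) ?_
    · rw [← CohenLib.ker_constantCoeff, RingHom.mem_ker, map_sub, MvPowerSeries.constantCoeff_C, sub_self]
    · exact map_nonunit (algebraMap Λ R) _ hc
  obtain ⟨M, hM, ⟨eL⟩⟩ := isSimpleModule_iff_quot_maximal.1 (inferInstance : IsSimpleModule R L)
  obtain rfl := IsLocalRing.eq_maximalIdeal hM
  have hkill : ∀ r ∈ IsLocalRing.maximalIdeal R, ∀ z : L, r • z = 0 := fun r hr z => by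
    refine eL.injective ?_
    rw [map_smul, map_zero]
    obtain ⟨y, hy⟩ := Ideal.Quotient.mk_surjective (eL z)
    rw [← hy]
    exact Ideal.Quotient.eq_zero_iff_mem.2 (Ideal.mul_mem_right _ _ hr)
  have hpz : ∀ (X : Exal.Ext Λ R L) z, X.proj (X.incl z) = 0 := fun X z => (X.isExtension.exact _).2 ⟨z, rfl⟩
  have hii : ∀ (X : Exal.Ext Λ R L) z w, X.incl z * X.incl w = 0 := fun X z w => by
    rw [X.isExtension.mul_incl, hpz]
    exact (congrArg X.incl (zero_smul R w)).trans (map_zero _)
  refine ⟨fun X => ?_, fun X X' u u' hu hu' => ⟨?_, fun h => ?_⟩, fun δ => ?_⟩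
  · obtain ⟨N, hN⟩ := Groth.Agent.S11282.result hΛ (R := R) hR
    obtain ⟨I, hI, hIn⟩ := hN { E := X.E, proj := X.proj, incl := X.incl.comp eL.symm.toLinearMap.toAddMonoidHom, isExtension :=
      { proj_surjective := X.isExtension.proj_surjective
        incl_injective := X.isExtension.incl_injective.comp eL.symm.injective
        exact := fun x => (X.isExtension.exact x).trans
          ⟨fun ⟨z, hz⟩ => ⟨eL z, (congrArg X.incl (eL.symm_apply_apply z)).trans hz⟩, fun ⟨z, hz⟩ => ⟨eL.symm z, hz⟩⟩
        mul_incl := fun x z => (X.isExtension.mul_incl x (eL.symm z)).trans (congrArg X.incl (eL.symm.map_smul _ z).symm) } }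
    exact KaExtLib.exists_ps_lift (R := R) (Ideal.Quotient.mk J) (fun a => rfl) (IsLocalRing.maximalIdeal R) hXm _ I hI hIn
  · rintro ⟨e⟩ j hj
    obtain ⟨z, hz⟩ := (X.isExtension.exact (u j)).1 (by rw [hu]; exact Ideal.Quotient.eq_zero_iff_mem.2 hj)
    refine ⟨z, hz, ?_⟩
    rw [← e.apply_incl, hz]
    have hδ : ∀ p, X'.proj (e.toAlgEquiv (u p) - u' p) = 0 := fun p => by rw [map_sub, e.proj_apply, hu, hu', sub_self]
    choose δ hδ' using fun p => (X'.isExtension.exact _).1 (hδ p)
    have hsq : ∀ p ∈ CohenLib.varsIdeal Λ d ^ 2, e.toAlgEquiv (u p) = u' p := fun p hp => by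
      rw [pow_two] at hp
      refine Submodule.mul_induction_on hp (fun a ha b hb => ?_) fun a b ha hb => by rw [map_add, map_add, ha, hb, map_add]
      rw [← sub_eq_zero, map_mul, map_mul, map_mul]
      have ea : e.toAlgEquiv (u a) = u' a + X'.incl (δ a) := by rw [hδ', add_sub_cancel]
      have eb : e.toAlgEquiv (u b) = u' b + X'.incl (δ b) := by rw [hδ', add_sub_cancel]
      rw [ea, eb, add_mul, mul_add, mul_add, hii, mul_comm (X'.incl (δ a)) (u' b), X'.isExtension.mul_incl,
        X'.isExtension.mul_incl, hu', hu', hkill _ (hmv (Ideal.mem_map_of_mem _ ha)), hkill _ (hmv (Ideal.mem_map_of_mem _ hb)),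
        map_zero, add_zero, add_zero, add_zero, sub_self]
    exact hsq j (hJ hj)
  · have hsur : ∀ x : X.E, ∃ p z, u p + X.incl z = x := fun x => by
      obtain ⟨p, hp⟩ := Ideal.Quotient.mk_surjective (X.proj x)
      obtain ⟨z, hz⟩ := (X.isExtension.exact (x - u p)).1 (by rw [map_sub, hu, hp, sub_self])
      exact ⟨p, z, by rw [hz, add_sub_cancel]⟩
    have hwd : ∀ p z q w, u p + X.incl z = u q + X.incl w → u' p + X'.incl z = u' q + X'.incl w := fun p z q w he => by
      have h1 := congrArg X.proj he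
      rw [map_add, map_add, hpz, hpz, add_zero, add_zero, hu, hu, Ideal.Quotient.eq] at h1
      obtain ⟨y, hy, hy'⟩ := h _ h1
      rw [map_sub] at hy hy'
      have h2 : X.incl y = X.incl (w - z) := by rw [hy, map_sub]; linear_combination he
      rw [X.isExtension.incl_injective h2, map_sub] at hy'
      linear_combination (-hy')
    choose p0 z0 h0 using hsur
    let φ : X.E → X'.E := fun x => u' (p0 x) + X'.incl (z0 x)
    have hφ : ∀ p z, φ (u p + X.incl z) = u' p + X'.incl z := fun p z => hwd _ _ _ _ (h0 _)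
    have hadd : ∀ a b, φ (a + b) = φ a + φ b := fun a b => by
      conv_lhs => rw [← h0 a, ← h0 b, add_add_add_comm, ← map_add, ← map_add]
      rw [hφ, map_add, map_add]
      show _ = u' (p0 a) + X'.incl (z0 a) + (u' (p0 b) + X'.incl (z0 b))
      abel
    have hmul : ∀ a b, φ (a * b) = φ a * φ b := fun a b => by
      have e1 : ∀ (Y : Exal.Ext Λ R L) (v : P →ₐ[Λ] Y.E), (∀ p, Y.proj (v p) = Ideal.Quotient.mk J p) →
          ∀ p z q w, (v p + Y.incl z) * (v q + Y.incl w) =
            v (p * q) + Y.incl (Ideal.Quotient.mk J p • w + Ideal.Quotient.mk J q • z) := fun Y v hv p z q w => by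
        rw [map_mul, map_add, ← hv p, ← hv q, ← Y.isExtension.mul_incl, ← Y.isExtension.mul_incl]
        linear_combination hii Y z w
      conv_lhs => rw [← h0 a, ← h0 b, e1 X u hu]
      rw [hφ]
      exact (e1 X' u' hu' _ _ _ _).symm
    have halg : ∀ a : Λ, φ (algebraMap Λ X.E a) = algebraMap Λ X'.E a := fun a => by
      have := hφ (algebraMap Λ P a) 0
      rwa [map_zero, map_zero, add_zero, add_zero, AlgHom.commutes, AlgHom.commutes] at this
    have hincl : ∀ z, φ (X.incl z) = X'.incl z := fun z => by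
      have := hφ 0 z
      rwa [map_zero, map_zero, zero_add, zero_add] at this
    have hproj : ∀ x, X'.proj (φ x) = X.proj x := fun x => by
      show X'.proj (u' (p0 x) + X'.incl (z0 x)) = _
      rw [map_add, hpz, add_zero, hu', ← hu]
      conv_rhs => rw [← h0 x, map_add, hpz, add_zero]
    let Φ : X.E →ₐ[Λ] X'.E :=
      { toFun := φ
        map_one' := by have := halg 1; rwa [map_one, map_one] at this
        map_mul' := hmul
        map_zero' := by have := halg 0; rwa [map_zero, map_zero] at this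
        map_add' := hadd
        commutes' := halg }
    have hb : Function.Bijective Φ := by
      refine ⟨(injective_iff_map_eq_zero Φ).2 fun x hx => ?_, fun y => ?_⟩
      · have h1 : X.proj x = 0 := by rw [← hproj x, show φ x = 0 from hx, map_zero]
        obtain ⟨z, rfl⟩ := (X.isExtension.exact x).1 h1
        rw [X'.isExtension.incl_injective ((hincl z).symm.trans (hx.trans (map_zero X'.incl).symm)), map_zero]
      · obtain ⟨x, hx⟩ := X.isExtension.proj_surjective (X'.proj y)
        obtain ⟨z, hz⟩ := (X'.isExtension.exact (y - φ x)).1 (by rw [map_sub, hproj, hx, sub_self])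
        exact ⟨x + X.incl z, by show φ _ = y; rw [hadd, hincl, hz, add_sub_cancel]⟩
    exact ⟨{ toAlgEquiv := AlgEquiv.ofBijective Φ hb, proj_apply := hproj, apply_incl := hincl }⟩
  · exact KaExtLib.exists_ext_of_linearMap J δ

end Groth.Agent.S11287
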