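import Groth.Statements.S11288
import Mathlib
import Mathlib
-- import your own Groth.Agent.* helpers here

set_option autoImplicit false
universe u
open Deform

namespace Groth.Agent.S11288

/-- Let K be a field, R' a local Artinian K-algebra with residue field K, and t a nonzero element of the
maximal ideal m' of R' with m' t = 0, so that R' → R = R'/(t) is a small extension of R. Then the
extension is trivial, i.e. the projection admits a section which is a K-algebra map, if and only if
t is not in m'^2; equivalently, iff the surjection m'/m'^2 → m_R/m_R^2 induced on cotangent spaces,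
whose kernel is spanned by the class of t, is not bijective. For instance K[t]/(t^(n+1)) →
K[t]/(t^n) is a non-trivial small extension for n ≥ 2. (The published example allows any local
K-algebra with residue field K; the row takes R' Artinian, the case in which the subalgebra
generated by lifts of a basis of the cotangent space maps onto R.) -/
theorem result
    {K : Type u} [Field K]
    {R' : Type u} [CommRing R'] [Algebra K R'] [IsLocalRing R'] [IsArtinianRing R']
    (hres : ∀ a : R', ∃ c : K, a - algebraMap K R' c ∈ IsLocalRing.maximalIdeal R')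
    (t : R') (ht : t ∈ IsLocalRing.maximalIdeal R') (ht0 : t ≠ 0)
    (htm : ∀ a ∈ IsLocalRing.maximalIdeal R', a * t = 0) :
    (∃ s : (R' ⧸ Ideal.span {t}) →ₐ[K] R', ∀ x, Ideal.Quotient.mk (Ideal.span {t}) (s x) = x) ↔
      t ∉ IsLocalRing.maximalIdeal R' ^ 2 := by
  classical
  set m := IsLocalRing.maximalIdeal R'
  constructor
  · rintro ⟨s, hs⟩ ht2
    have key : ∀ a : R', ∃ r, s (Ideal.Quotient.mk _ a) = a + r * t := fun a => by
      have := hs (Ideal.Quotient.mk _ a)
      rw [Ideal.Quotient.eq, Ideal.mem_span_singleton'] at this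
      obtain ⟨r, hr⟩ := this
      exact ⟨r, by rw [hr]; ring⟩
    have hmem : ∀ a ∈ m ^ 2, s (Ideal.Quotient.mk _ a) = a := by
      intro a ha
      rw [pow_two] at ha
      induction ha using Submodule.mul_induction_on' with
      | mem_mul_mem x hx y hy =>
        obtain ⟨r, hr⟩ := key x
        obtain ⟨r', hr'⟩ := key y
        rw [map_mul, map_mul, hr, hr']
        linear_combination r' * htm x hx + r * htm y hy + r * r' * htm t ht
      | add x _ y _ hx hy => rw [map_add, map_add, hx, hy]
    apply ht0
    rw [← hmem t ht2, (Ideal.Quotient.eq_zero_iff_mem).2 (Ideal.mem_span_singleton_self t), map_zero]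
  · intro ht2
    let M : Submodule K R' := (m ^ 2).restrictScalars K
    have htq : M.mkQ t ≠ 0 := fun h => ht2 ((Submodule.Quotient.mk_eq_zero M).1 h)
    have h1 : M.mkQ 1 ∉ Submodule.span K {M.mkQ t} := by
      intro h
      obtain ⟨c, hc⟩ := Submodule.mem_span_singleton.1 h
      rw [← map_smul, Submodule.mkQ_apply, Submodule.mkQ_apply, Submodule.Quotient.eq] at hc
      have h2 : c • t - 1 ∈ m := Ideal.pow_le_self two_ne_zero hc
      have h3 : (1 : R') ∈ m := by
        have := m.sub_mem (Submodule.smul_of_tower_mem m c ht) h2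
        rwa [sub_sub_cancel] at this
      exact (IsLocalRing.maximalIdeal.isMaximal R').ne_top ((Ideal.eq_top_iff_one _).2 h3)
    have hli : LinearIndependent K ![M.mkQ t, M.mkQ 1] :=
      linearIndependent_fin2.2 ⟨fun h => h1 (by simp only [Matrix.cons_val_one, Matrix.cons_val_zero] at h ⊢; rw [h]; exact Submodule.zero_mem _), fun a ha => by
        simp only [Matrix.cons_val_one, Matrix.cons_val_zero] at ha
        rcases eq_or_ne a 0 with rfl | ha0
        · exact htq (by rw [← ha, zero_smul])
        · exact h1 (Submodule.mem_span_singleton.2 ⟨a⁻¹, by rw [← ha, smul_smul, inv_mul_cancel₀ ha0, one_smul]⟩)⟩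
    let B := Module.Basis.extend hli.linearIndepOn_id
    let ℓ₀ : (R' ⧸ M) →ₗ[K] K := B.constr K fun i => if (i : R' ⧸ M) = M.mkQ t then 1 else 0
    have hℓ : ∀ i : Fin 2, ℓ₀ (![M.mkQ t, M.mkQ 1] i) = if ![M.mkQ t, M.mkQ 1] i = M.mkQ t then 1 else 0 := fun i => by
      have hmem := hli.linearIndepOn_id.subset_extend (Set.subset_univ _) (Set.mem_range_self i)
      have := B.constr_basis K (fun i => if (i : R' ⧸ M) = M.mkQ t then (1 : K) else 0) ⟨_, hmem⟩
      rw [Module.Basis.extend_apply_self] at this
      exact this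
    let ℓ : R' →ₗ[K] K := ℓ₀.comp M.mkQ
    have hℓt : ℓ t = 1 := by simpa [ℓ] using hℓ 0
    have hℓ1 : ℓ 1 = 0 := by
      have := hℓ 1
      simp only [Matrix.cons_val_one, Matrix.cons_val_zero] at this
      rw [if_neg (fun h : M.mkQ 1 = M.mkQ t => h1 (by rw [h]; exact Submodule.mem_span_singleton_self _))] at this
      exact this
    have hℓ2 : ∀ a ∈ m ^ 2, ℓ a = 0 := fun a ha => by
      show ℓ₀ (M.mkQ a) = 0
      rw [Submodule.mkQ_apply, (Submodule.Quotient.mk_eq_zero M).2 ha, map_zero]
    have hts : ∀ x ∈ m, x * t = 0 := htm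
    let f : R' →ₗ[K] R' := LinearMap.id - ℓ.smulRight t
    have hfmul : ∀ a b, f (a * b) = f a * f b := by
      intro a b
      obtain ⟨c, hc⟩ := hres a
      obtain ⟨d, hd⟩ := hres b
      set x := a - algebraMap K R' c
      set y := b - algebraMap K R' d
      have hab : a * b = algebraMap K R' (c * d) + c • y + d • x + x * y := by
        simp only [x, y, Algebra.smul_def, map_mul]; ring
      have hlab : ℓ (a * b) = c * ℓ y + d * ℓ x := by
        rw [hab]
        simp [Algebra.algebraMap_eq_smul_one, hℓ1, hℓ2 _ (by rw [pow_two]; exact Ideal.mul_mem_mul hc hd)]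
      have hla : ℓ x = ℓ a := by simp [x, Algebra.algebraMap_eq_smul_one, hℓ1]
      have hlb : ℓ y = ℓ b := by simp [y, Algebra.algebraMap_eq_smul_one, hℓ1]
      show a * b - ℓ (a * b) • t = (a - ℓ a • t) * (b - ℓ b • t)
      rw [hlab, hla, hlb]
      simp only [Algebra.smul_def, map_add, map_mul]
      have e1 := hts x hc
      have e2 := hts y hd
      have e3 := hts t ht
      simp only [x, y] at e1 e2
      linear_combination (algebraMap K R' (ℓ b)) * e1 + (algebraMap K R' (ℓ a)) * e2 - (algebraMap K R' (ℓ a) * algebraMap K R' (ℓ b)) * e3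
    let fa : R' →ₐ[K] R' := AlgHom.ofLinearMap f (by show (1 : R') - ℓ 1 • t = 1; simp [hℓ1]) hfmul
    have hft : ∀ a ∈ Ideal.span {t}, fa a = 0 := fun a ha => by
      obtain ⟨r, rfl⟩ := Ideal.mem_span_singleton'.1 ha
      rw [map_mul, show fa t = 0 from by show t - ℓ t • t = 0; simp [hℓt], mul_zero]
    refine ⟨Ideal.Quotient.liftₐ _ fa hft, fun z => ?_⟩
    obtain ⟨a, rfl⟩ := Ideal.Quotient.mk_surjective z
    show Ideal.Quotient.mk _ (a - ℓ a • t) = _
    rw [map_sub, sub_eq_self, Ideal.Quotient.eq_zero_iff_mem]
    exact Submodule.smul_of_tower_mem _ _ (Ideal.mem_span_singleton_self t)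

end Groth.Agent.S11288
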