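import Groth.Statements.S11289
import Groth.Agent.SmDefLib.Rigid
-- import your own Groth.Agent.* helpers here

set_option autoImplicit false
universe u
open CategoryTheory CategoryTheory.Limits AlgebraicGeometry
open Deform

namespace Groth.Agent.S11289

variable {k : Type u} [Field k] {X : Scheme.{u}} (f₀ : X ⟶ Spec (CommRingCat.of k)) [Smooth f₀] [IsSeparated f₀]

theorem isIso_SpecMap_of_bot {A : Type u} [CommRing A] [Algebra k A] [IsLocalRing A] (e : A →ₐ[k] k)
    (h : IsLocalRing.maximalIdeal A = ⊥) : IsIso (Spec.map (CommRingCat.ofHom e.toRingHom)) := by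
  have he : Function.Surjective e.toRingHom := fun c => ⟨algebraMap k _ c, e.commutes c⟩
  have hinj : Function.Injective e.toRingHom := by
    rw [RingHom.injective_iff_ker_eq_bot, ← h]
    exact IsLocalRing.eq_maximalIdeal (RingHom.ker_isMaximal_of_surjective _ he)
  haveI : IsIso (CommRingCat.ofHom e.toRingHom) :=
    (ConcreteCategory.isIso_iff_bijective _).2 ⟨hinj, he⟩
  infer_instance

theorem unique_deformation [HasExt.{u} X.Modules]
    (h1 : Subsingleton (Abelian.Ext.{u} (Omega.sheaf f₀) (Coh.structureModule X) 1)) (n : ℕ) :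
    ∀ (A : Type u) [CommRing A] [Algebra k A] [IsLocalRing A] [IsArtinianRing A] (e : A →ₐ[k] k),
      IsLocalRing.maximalIdeal A ^ (n + 1) = ⊥ →
      ∀ (Y₁ Y₂ : Scheme.{u}) (f₁ : Y₁ ⟶ Spec (CommRingCat.of A)) (f₂ : Y₂ ⟶ Spec (CommRingCat.of A))
        (i₁ : X ⟶ Y₁) (i₂ : X ⟶ Y₂), Flat f₁ → Flat f₂ →
        IsPullback i₁ f₀ f₁ (Spec.map (CommRingCat.ofHom e.toRingHom)) →
        IsPullback i₂ f₀ f₂ (Spec.map (CommRingCat.ofHom e.toRingHom)) →
        ∃ φ : Y₁ ≅ Y₂, i₁ ≫ φ.hom = i₂ ∧ φ.hom ≫ f₂ = f₁ := by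
  induction n with
  | zero =>
    intro A _ _ _ _ e hm Y₁ Y₂ f₁ f₂ i₁ i₂ _ _ h₁ h₂
    rw [zero_add, pow_one] at hm
    haveI := isIso_SpecMap_of_bot e hm
    haveI := h₁.isIso_fst_of_isIso
    haveI := h₂.isIso_fst_of_isIso
    refine ⟨(asIso i₁).symm ≪≫ asIso i₂, IsIso.hom_inv_id_assoc i₁ i₂, ?_⟩
    show (inv i₁ ≫ i₂) ≫ f₂ = f₁
    rw [Category.assoc, IsIso.inv_comp_eq, h₁.w, h₂.w]
  | succ n ih =>
    intro A _ _ _ _ e hm Y₁ Y₂ f₁ f₂ i₁ i₂ hf₁ hf₂ h₁ h₂
    haveI := hf₁
    haveI := hf₂
    let J : Ideal A := IsLocalRing.maximalIdeal A ^ (n + 1)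
    have hJm : J ≤ IsLocalRing.maximalIdeal A := Ideal.pow_le_self n.succ_ne_zero
    have he : Function.Surjective e.toRingHom := fun c => ⟨algebraMap k _ c, e.commutes c⟩
    have hker : RingHom.ker e.toRingHom = IsLocalRing.maximalIdeal A :=
      IsLocalRing.eq_maximalIdeal (RingHom.ker_isMaximal_of_surjective _ he)
    let e₁ : (A ⧸ J) →ₐ[k] k := Ideal.Quotient.liftₐ J e fun a ha => by
      have := hJm ha
      rwa [← hker] at this
    have he₁ : Function.Surjective e₁.toRingHom := fun c => ⟨algebraMap k _ c, e₁.commutes c⟩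
    haveI : Nontrivial (A ⧸ J) := e₁.toRingHom.domain_nontrivial
    haveI : IsLocalRing (A ⧸ J) := IsLocalRing.of_surjective' _ Ideal.Quotient.mk_surjective
    have hmax : IsLocalRing.maximalIdeal (A ⧸ J) = (IsLocalRing.maximalIdeal A).map (Ideal.Quotient.mk J) := by
      rw [← IsLocalRing.eq_maximalIdeal (RingHom.ker_isMaximal_of_surjective _ he₁), ← hker]
      ext x
      obtain ⟨a, rfl⟩ := Ideal.Quotient.mk_surjective x
      constructor
      · exact fun h => Ideal.mem_map_of_mem _ h
      · intro h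
        obtain ⟨b, hb, hab⟩ := (Ideal.mem_map_iff_of_surjective _ Ideal.Quotient.mk_surjective).1 h
        show e₁ (Ideal.Quotient.mk J a) = 0
        rw [← hab]
        exact hb
    have hm₁ : IsLocalRing.maximalIdeal (A ⧸ J) ^ (n + 1) = ⊥ := by
      rw [hmax, ← Ideal.map_pow, Ideal.map_quotient_self]
    let π := CommRingCat.ofHom (Ideal.Quotient.mk J)
    let ρ := CommRingCat.ofHom e₁.toRingHom
    have hπρ : π ≫ ρ = CommRingCat.ofHom e.toRingHom := rfl
    haveI := SmDefLib.isClosedImmersion_map π Ideal.Quotient.mk_surjective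
    haveI := SmDefLib.isClosedImmersion_map ρ he₁
    have hw : Spec.map ρ ≫ Spec.map π = Spec.map (CommRingCat.ofHom e.toRingHom) := by rw [← Spec.map_comp, hπρ]
    let c₁ := pullback.lift (f := f₁) (g := Spec.map π) i₁ (f₀ ≫ Spec.map ρ) (by rw [Category.assoc, hw, h₁.w])
    let c₂ := pullback.lift (f := f₂) (g := Spec.map π) i₂ (f₀ ≫ Spec.map ρ) (by rw [Category.assoc, hw, h₂.w])
    have s₁ : IsPullback c₁ f₀ (pullback.snd f₁ (Spec.map π)) (Spec.map ρ) := by
      refine IsPullback.of_right ?_ (pullback.lift_snd _ _ _) (IsPullback.of_hasPullback f₁ (Spec.map π))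
      rw [pullback.lift_fst, hw]
      exact h₁
    have s₂ : IsPullback c₂ f₀ (pullback.snd f₂ (Spec.map π)) (Spec.map ρ) := by
      refine IsPullback.of_right ?_ (pullback.lift_snd _ _ _) (IsPullback.of_hasPullback f₂ (Spec.map π))
      rw [pullback.lift_fst, hw]
      exact h₂
    obtain ⟨φ, hφ, hφ'⟩ := ih (A ⧸ J) e₁ hm₁ _ _ _ _ c₁ c₂ inferInstance inferInstance s₁ s₂
    obtain ⟨hsm, hsep⟩ := SmDefLib.smooth_deformation e₁.toRingHom f₀ (pullback.snd f₁ (Spec.map π)) c₁ s₁
    have hann : RingHom.ker (π ≫ ρ).hom * RingHom.ker π.hom = ⊥ := by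
      rw [hπρ]
      show RingHom.ker e.toRingHom * RingHom.ker (Ideal.Quotient.mk J) = ⊥
      rw [hker, Ideal.mk_ker, ← pow_succ', hm]
    have h₂' : IsPullback (φ.hom ≫ pullback.fst f₂ (Spec.map π)) (pullback.snd f₁ (Spec.map π)) f₂ (Spec.map π) := by
      refine (IsPullback.of_hasPullback f₂ (Spec.map π)).of_iso φ.symm (Iso.refl _) (Iso.refl _) (Iso.refl _) ?_ ?_ ?_ ?_
      · simp
      · simp only [Iso.refl_hom, Category.comp_id, Iso.symm_hom]
        rw [Iso.eq_inv_comp, hφ']
      · simp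
      · simp
    obtain ⟨ψ, hψ, hψ'⟩ := SmDefLib.exists_iso_ring π ρ Ideal.Quotient.mk_surjective he₁ (Field.toIsField k)
      (IsNoetherian.noetherian _) hann s₁ h1 (IsPullback.of_hasPullback f₁ (Spec.map π)) h₂'
    refine ⟨ψ, ?_, hψ'⟩
    rw [← pullback.lift_fst (f := f₁) (g := Spec.map π) i₁ (f₀ ≫ Spec.map ρ) (by rw [Category.assoc, hw, h₁.w]),
      Category.assoc, hψ, ← Category.assoc, hφ, pullback.lift_fst]

theorem trivial_isPullback {A : Type u} [CommRing A] [Algebra k A] (e : A →ₐ[k] k) :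
    IsPullback (pullback.lift (f := f₀) (g := Spec.map (CommRingCat.ofHom (algebraMap k A))) (𝟙 X)
        (f₀ ≫ Spec.map (CommRingCat.ofHom e.toRingHom))
        (by rw [Category.assoc, ← Spec.map_comp, ← CommRingCat.ofHom_comp,
          show e.toRingHom.comp (algebraMap k A) = RingHom.id k from RingHom.ext e.commutes, CommRingCat.ofHom_id,
          Spec.map_id]; simp))
      f₀ (pullback.snd f₀ (Spec.map (CommRingCat.ofHom (algebraMap k A))))
      (Spec.map (CommRingCat.ofHom e.toRingHom)) := by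
  refine IsPullback.of_right ?_ (pullback.lift_snd _ _ _) (IsPullback.of_hasPullback f₀ _)
  rw [pullback.lift_fst, ← Spec.map_comp, ← CommRingCat.ofHom_comp,
    show e.toRingHom.comp (algebraMap k A) = RingHom.id k from RingHom.ext e.commutes, CommRingCat.ofHom_id,
    Spec.map_id]
  exact IsPullback.of_horiz_isIso ⟨(Category.id_comp _).trans (Category.comp_id _).symm⟩

theorem mul_eq_zero_of_fst (r s : DualNumber k) (hr : TrivSqZeroExt.fst r = 0) (hs : TrivSqZeroExt.fst s = 0) :
    r * s = 0 :=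
  TrivSqZeroExt.ext (by simp [hr]) (by simp [hr, hs])

theorem flat_trivial {A : Type u} [CommRing A] [Algebra k A] :
    Flat (pullback.snd f₀ (Spec.map (CommRingCat.ofHom (algebraMap k A)))) := inferInstance


/-- Let k be an algebraically closed field and X a nonsingular variety over k (an integral scheme,
separated, quasi-compact and smooth over Spec k). Call X rigid when every infinitesimal deformation
of X is trivial: for every local Artinian k-algebra A with a k-algebra augmentation e : A → k, every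
scheme Y flat over Spec A and every morphism i : X → Y making X the fibre of Y over the closed point
Spec k → Spec A, there is an isomorphism of Y with the product X ×_k Spec A over Spec A under which
i becomes the canonical inclusion of X. Then X is rigid if and only if H^1(X, T_X) = 0, written here
as the vanishing of Ext^1(Ω_{X/k}, O_X) in the category of O_X-modules (the same group, Ω_{X/k}
being locally free). The Artinian algebras A range over the universe of X. -/
theorem result
    {k : Type u} [Field k] [IsAlgClosed k]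
    (X : Scheme.{u}) [X.Over (Spec (CommRingCat.of k))] [IsIntegral X]
    [Smooth (X ↘ Spec (CommRingCat.of k))] [IsSeparated (X ↘ Spec (CommRingCat.of k))]
    [QuasiCompact (X ↘ Spec (CommRingCat.of k))] [HasExt.{u} X.Modules] :
    (∀ (A : Type u) [CommRing A] [Algebra k A] [IsLocalRing A] [IsArtinianRing A] (e : A →ₐ[k] k)
        (Y : Scheme.{u}) (f : Y ⟶ Spec (CommRingCat.of A)) (i : X ⟶ Y), Flat f →
        IsPullback i (X ↘ Spec (CommRingCat.of k)) f (Spec.map (CommRingCat.ofHom e.toRingHom)) →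
        ∃ φ : Y ≅ pullback (X ↘ Spec (CommRingCat.of k)) (Spec.map (CommRingCat.ofHom (algebraMap k A))),
          φ.hom ≫ pullback.snd _ _ = f ∧ i ≫ φ.hom ≫ pullback.fst _ _ = 𝟙 X) ↔
    Subsingleton (Abelian.Ext.{u} (Omega.sheaf (X ↘ Spec (CommRingCat.of k))) (Coh.structureModule X) 1) := by
  constructor
  · intro hrig
    let D := DualNumber k
    haveI : IsLocalRing D := IsLocalRing.of_isUnit_or_isUnit_one_sub_self fun a => by
      rw [TrivSqZeroExt.isUnit_iff_isUnit_fst, TrivSqZeroExt.isUnit_iff_isUnit_fst, TrivSqZeroExt.fst_sub,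
        TrivSqZeroExt.fst_one]
      exact IsLocalRing.isUnit_or_isUnit_one_sub_self _
    haveI : Module.Finite k D := inferInstanceAs (Module.Finite k (k × k))
    haveI : IsArtinianRing D := IsArtinianRing.of_finite k _
    let e : D →ₐ[k] k := TrivSqZeroExt.fstHom k k k
    have he : Function.Surjective e.toRingHom := fun c => ⟨TrivSqZeroExt.inl c, rfl⟩
    haveI := SmDefLib.isClosedImmersion_map (CommRingCat.ofHom e.toRingHom) he
    haveI := flat_trivial (A := D) (X ↘ Spec (CommRingCat.of k))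
    refine SmDefLib.subsingleton_ext_of_rigid_ring (CommRingCat.ofHom e.toRingHom) he (Field.toIsField k)
      (IsNoetherian.noetherian _) ?_ ?_ _ (trivial_isPullback (X ↘ Spec (CommRingCat.of k)) e) fun Z g j hg hj => ?_
    · rw [← le_bot_iff, Ideal.mul_le]
      intro r hr s hs
      have hr' : TrivSqZeroExt.fst r = 0 := hr
      have hs' : TrivSqZeroExt.fst s = 0 := hs
      rw [Ideal.mem_bot]
      exact mul_eq_zero_of_fst (k := k) r s hr' hs'
    · intro h
      have h1 : DualNumber.eps (R := k) ∈ RingHom.ker (CommRingCat.ofHom e.toRingHom).hom := by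
        show TrivSqZeroExt.fst (DualNumber.eps (R := k)) = 0
        simp
      rw [h, Ideal.mem_bot] at h1
      simpa using congrArg TrivSqZeroExt.snd h1
    · obtain ⟨φ, h1, h2⟩ := hrig D e Z g j hg hj
      refine ⟨φ, h1, pullback.hom_ext ?_ ?_⟩
      · rw [pullback.lift_fst, Category.assoc, h2]
      · rw [pullback.lift_snd, Category.assoc, h1, hj.w]
  · intro h1 A _ _ _ _ e Y f i hf hY
    haveI := hf
    obtain ⟨n, hn⟩ : IsNilpotent (IsLocalRing.maximalIdeal A) := by
      have h := IsArtinianRing.isNilpotent_jacobson_bot (R := A)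
      rwa [IsLocalRing.jacobson_eq_maximalIdeal ⊥ bot_ne_top] at h
    have hn' : IsLocalRing.maximalIdeal A ^ (n + 1) = ⊥ := by
      rw [pow_succ, hn]
      exact Ideal.bot_mul _
    obtain ⟨φ, hφ, hφ'⟩ := unique_deformation (X ↘ Spec (CommRingCat.of k)) h1 n A e hn' _ _ f _ i _ hf
      (flat_trivial (A := A) _) hY (trivial_isPullback _ e)
    exact ⟨φ, hφ', by rw [← Category.assoc, hφ, pullback.lift_fst]⟩

end Groth.Agent.S11289
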