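import Groth.Statements.S11291
import Mathlib
-- import your own Groth.Agent.* helpers here

set_option autoImplicit false
universe u
open Deform

namespace Groth.Agent.S11291

/-- Let k be an algebraically closed field and A a local Artinian k-algebra with residue field k and
non-zero maximal ideal, i.e. A is not k. Then the obstruction space o(A) = Ex_k(A, k) is not zero:
there is a k-extension 0 → k → E → A → 0 of A by its residue field which is not trivial (admits no
k-algebra section). Equivalently, k is the only formally smooth object among local Artinian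
k-algebras with residue field k. -/
theorem result
    {k : Type u} [Field k] [IsAlgClosed k]
    {A : Type u} [CommRing A] [Algebra k A] [IsLocalRing A] [IsArtinianRing A]
    (hres : ∀ a : A, ∃ c : k, a - algebraMap k A c ∈ IsLocalRing.maximalIdeal A)
    (hA : IsLocalRing.maximalIdeal A ≠ ⊥) :
    ∃ X : Exal.Ext k A (IsLocalRing.ResidueField A), ¬ X.IsTrivial := by
  classical
  set m := IsLocalRing.maximalIdeal A with hm
  obtain ⟨L, hL⟩ : ∃ L, m ^ L = ⊥ := by
    obtain ⟨L, hL⟩ := IsArtinianRing.isNilpotent_jacobson_bot (R := A)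
    exact ⟨L, by rw [hm, ← IsLocalRing.jacobson_eq_maximalIdeal (⊥ : Ideal A) bot_ne_top]; exact hL⟩
  choose cst hcst using hres
  -- a basis of the cotangent space
  let W : Submodule k A := m.restrictScalars k
  let W2 : Submodule k W := ((m ^ 2).restrictScalars k).comap W.subtype
  obtain ⟨ι, ⟨b⟩⟩ : ∃ ι : Type u, Nonempty (Module.Basis ι k (W ⧸ W2)) := ⟨_, ⟨Module.Free.chooseBasis k _⟩⟩
  choose a ha using fun i => Submodule.Quotient.mk_surjective W2 (b i)
  let φ : MvPolynomial ι k →ₐ[k] A := MvPolynomial.aeval fun i => (a i : A)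
  let M := MvPolynomial.idealOfVars ι k
  have hMm : ∀ p ∈ M, φ p ∈ m := by
    have h : M ≤ m.comap φ.toRingHom := Ideal.span_le.2 (by
      rintro _ ⟨i, rfl⟩
      show φ (MvPolynomial.X i) ∈ m
      simpa [φ] using (a i).2)
    exact fun p hp => h hp
  have hC : ∀ p : MvPolynomial ι k, p - MvPolynomial.C (MvPolynomial.constantCoeff p) ∈ M := fun p => by
    rw [show M = MvPolynomial.idealOfVars ι k ^ 1 from (pow_one _).symm, MvPolynomial.mem_pow_idealOfVars_iff']
    intro x hx
    have : x = 0 := Finsupp.degree_eq_zero_iff x |>.1 (by omega)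
    subst this
    simp [MvPolynomial.constantCoeff_eq]
  have hM2 : ∀ p ∈ M, φ p ∈ m ^ 2 → p ∈ M ^ 2 := by
    intro p hp hp2
    obtain ⟨q, rfl⟩ := Finsupp.mem_span_range_iff_exists_finsupp.1 hp
    let c : ι →₀ k := q.mapRange MvPolynomial.constantCoeff (map_zero _)
    have hsub : (q.sum fun i r => r • (MvPolynomial.X i : MvPolynomial ι k)) -
        c.sum (fun i r => MvPolynomial.C r * MvPolynomial.X i) ∈ M ^ 2 := by
      rw [Finsupp.sum_mapRange_index (by intro i; simp)]
      simp only [Finsupp.sum, ← Finset.sum_sub_distrib, smul_eq_mul, ← sub_mul]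
      refine Ideal.sum_mem _ fun i _ => ?_
      rw [pow_two]
      exact Ideal.mul_mem_mul (hC _) (Ideal.subset_span ⟨i, rfl⟩)
    have hmap : ∀ r ∈ M ^ 2, φ r ∈ m ^ 2 := fun r hr => by
      have h : (M.map φ.toRingHom) ≤ m := Ideal.map_le_iff_le_comap.2 hMm
      have h2 := Ideal.mem_map_of_mem φ.toRingHom hr
      rw [Ideal.map_pow] at h2
      exact Ideal.pow_right_mono h 2 h2
    have h3 : φ (c.sum fun i r => MvPolynomial.C r * MvPolynomial.X i) ∈ m ^ 2 := by
      have := sub_mem hp2 (hmap _ hsub)
      rw [map_sub, sub_sub_cancel] at this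
      exact this
    have h4 : (Finsupp.linearCombination k a c : W) ∈ W2 := by
      show ((Finsupp.linearCombination k a c : W) : A) ∈ m ^ 2
      convert h3 using 1
      rw [Finsupp.linearCombination_apply, Finsupp.sum, Finsupp.sum, map_sum, Submodule.coe_sum]
      exact Finset.sum_congr rfl fun i _ => by simp [φ, Algebra.smul_def]
    have h5 : c = 0 := b.linearIndependent (by
      rw [map_zero, ← (Submodule.Quotient.mk_eq_zero W2).2 h4, ← Submodule.mkQ_apply W2,
        Finsupp.apply_linearCombination]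
      congr 2
      funext i
      exact (ha i).symm)
    rw [h5, Finsupp.sum_zero_index, sub_zero] at hsub
    exact hsub
  have hsurj : Function.Surjective φ := by
    have h1 : ∀ y ∈ m, ∃ p ∈ M, y - φ p ∈ m ^ 2 := fun y hy => by
      let c := b.repr (W2.mkQ ⟨y, hy⟩)
      refine ⟨c.sum fun i r => MvPolynomial.C r * MvPolynomial.X i, Ideal.sum_mem _ fun i _ =>
        M.mul_mem_left _ (Ideal.subset_span ⟨i, rfl⟩), ?_⟩
      have h4 : (⟨y, hy⟩ : W) - Finsupp.linearCombination k a c ∈ W2 := by
        rw [← Submodule.Quotient.mk_eq_zero, Submodule.Quotient.mk_sub, sub_eq_zero,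
          ← Submodule.mkQ_apply W2 (Finsupp.linearCombination k a c), Finsupp.apply_linearCombination]
        conv_lhs => rw [← Submodule.mkQ_apply, ← b.linearCombination_repr (W2.mkQ ⟨y, hy⟩)]
        congr 2
        funext i
        exact (ha i).symm
      have h5 : y - ((Finsupp.linearCombination k a c : W) : A) ∈ m ^ 2 := h4
      convert h5 using 2
      rw [Finsupp.linearCombination_apply, Finsupp.sum, Finsupp.sum, map_sum, Submodule.coe_sum]
      exact Finset.sum_congr rfl fun i _ => by simp [φ, Algebra.smul_def]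
    have hj : ∀ j : ℕ, ∀ y ∈ m ^ j, ∃ p, y - φ p ∈ m ^ (j + 1) := by
      intro j
      induction j with
      | zero =>
        intro y _
        exact ⟨MvPolynomial.C (cst y), by simpa [φ] using hcst y⟩
      | succ j ih =>
        intro y hy
        rw [pow_succ] at hy
        refine Submodule.mul_induction_on hy (fun x hx z hz => ?_) (fun x z hx hz => ?_)
        · obtain ⟨p, hp⟩ := ih x hx
          obtain ⟨q, hq, hzq⟩ := h1 z hz
          refine ⟨p * q, ?_⟩
          have hp' : φ p ∈ m ^ j := by
            have := sub_mem hx (Ideal.pow_le_pow_right (Nat.le_succ j) hp)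
            rwa [sub_sub_cancel] at this
          rw [map_mul, show x * z - φ p * φ q = (x - φ p) * z + φ p * (z - φ q) by ring]
          refine add_mem ?_ ?_
          · rw [pow_succ]; exact Ideal.mul_mem_mul hp hz
          · rw [show j + 1 + 1 = j + 2 from rfl, pow_add]; exact Ideal.mul_mem_mul hp' hzq
        · obtain ⟨p, hp⟩ := hx
          obtain ⟨q, hq⟩ := hz
          refine ⟨p + q, ?_⟩
          rw [map_add, add_sub_add_comm]
          exact add_mem hp hq
    have hd : ∀ d j : ℕ, L ≤ j + d → ∀ y ∈ m ^ j, ∃ p, φ p = y := by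
      intro d
      induction d with
      | zero =>
        intro j hj' y hy
        have := Ideal.pow_le_pow_right hj' hy
        rw [Nat.add_zero] at hj'
        have := Ideal.pow_le_pow_right hj' hy
        rw [hL, Ideal.mem_bot] at this
        exact ⟨0, by rw [map_zero, this]⟩
      | succ d ih =>
        intro j hj' y hy
        obtain ⟨p, hp⟩ := hj j y hy
        obtain ⟨q, hq⟩ := ih (j + 1) (by omega) _ hp
        exact ⟨p + q, by rw [map_add, hq, add_sub_cancel]⟩
    exact fun y => hd L 0 (by omega) y (by simp)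
  set I := RingHom.ker φ.toRingHom with hI
  have hIM : I ≤ M ^ 2 := fun p hp => by
    have hp0 : φ p = 0 := hp
    have h0 : MvPolynomial.constantCoeff p = 0 := by
      have h2 := hMm _ (hC p)
      rw [map_sub, hp0, zero_sub, neg_mem_iff] at h2
      by_contra hne
      exact (IsLocalRing.maximalIdeal.isMaximal A).ne_top (Ideal.eq_top_of_isUnit_mem _ h2
        (by simpa [φ] using (Ne.isUnit hne).map (algebraMap k A)))
    refine hM2 p ?_ (by rw [hp0]; exact zero_mem _)
    simpa [h0] using hC p
  have hne : ¬ I ≤ M * I := fun hle => by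
    have hn : ∀ n, I ≤ M ^ n := fun n => by
      induction n with
      | zero => simp
      | succ n ih => exact hle.trans ((Ideal.mul_mono le_rfl ih).trans (le_of_eq (pow_succ' M n).symm))
    rcases isEmpty_or_nonempty ι with he | ⟨⟨i⟩⟩
    · apply hA
      have hW : ∀ y ∈ m, y ∈ m ^ 2 := fun y hy => by
        have : Subsingleton (W ⧸ W2) := b.repr.toEquiv.subsingleton
        exact (Submodule.Quotient.mk_eq_zero W2).1 (Subsingleton.elim (Submodule.Quotient.mk (⟨y, hy⟩ : W)) 0)
      have hpow : ∀ n, m ≤ m ^ (n + 1) := fun n => by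
        induction n with
        | zero => simp
        | succ n ih =>
          refine le_trans hW ?_
          rw [pow_succ m (n + 1), pow_two]
          exact Ideal.mul_mono ih le_rfl
      exact eq_bot_iff.2 ((hpow L).trans ((Ideal.pow_le_pow_right (Nat.le_succ L)).trans hL.le))
    · have h1 : (MvPolynomial.X i : MvPolynomial ι k) ^ L ∈ I := by
        show φ _ = 0
        have := Ideal.pow_mem_pow (hMm _ (Ideal.subset_span ⟨i, rfl⟩)) L
        rw [hL, Ideal.mem_bot] at this
        rw [map_pow]; exact this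
      have h2 := hn (L + 1) h1
      rw [MvPolynomial.X_pow_eq_monomial, MvPolynomial.monomial_mem_pow_idealOfVars_iff _ _ one_ne_zero] at h2
      simp at h2
  obtain ⟨p0, hp0, hp0'⟩ := SetLike.not_le_iff_exists.1 hne
  obtain ⟨ℓ0, hℓ1, hℓ2⟩ := Submodule.exists_dual_map_eq_bot_of_notMem
    (p := (M * I).restrictScalars k) (x := p0) hp0' inferInstance
  let ℓ : MvPolynomial ι k →ₗ[k] k := (ℓ0 p0)⁻¹ • ℓ0
  have hℓp : ℓ p0 = 1 := inv_mul_cancel₀ hℓ1
  have hℓz : ∀ x ∈ M * I, ℓ x = 0 := fun x hx => by
    have : ℓ0 x ∈ ((M * I).restrictScalars k).map ℓ0 := Submodule.mem_map_of_mem hx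
    rw [hℓ2, Submodule.mem_bot] at this
    simp [ℓ, this]
  have hmulI : ∀ (q : MvPolynomial ι k) (x : MvPolynomial ι k), x ∈ I → ℓ (q * x) = MvPolynomial.constantCoeff q * ℓ x := by
    intro q x hx
    conv_lhs => rw [show q * x = MvPolynomial.C (MvPolynomial.constantCoeff q) * x +
      (q - MvPolynomial.C (MvPolynomial.constantCoeff q)) * x by ring]
    rw [map_add, hℓz _ (Ideal.mul_mem_mul (hC q) hx), add_zero, MvPolynomial.C_mul', map_smul, smul_eq_mul]
  let J : Ideal (MvPolynomial ι k) :=
    { carrier := {x | x ∈ I ∧ ℓ x = 0}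
      add_mem' := fun h h' => ⟨I.add_mem h.1 h'.1, by rw [map_add, h.2, h'.2, add_zero]⟩
      zero_mem' := ⟨I.zero_mem, map_zero _⟩
      smul_mem' := fun q x h => ⟨I.mul_mem_left q h.1, by rw [smul_eq_mul, hmulI q x h.1, h.2, mul_zero]⟩ }
  let ρ : k →+* IsLocalRing.ResidueField A := (IsLocalRing.residue A).comp (algebraMap k A)
  have hρ : Function.Bijective ρ := ⟨ρ.injective, fun z => by
    obtain ⟨y, rfl⟩ := IsLocalRing.residue_surjective z
    refine ⟨cst y, ?_⟩
    have := (IsLocalRing.residue_eq_zero_iff _).2 (hcst y)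
    rw [map_sub, sub_eq_zero] at this
    exact this.symm⟩
  let e := RingEquiv.ofBijective ρ hρ
  have hkill : ∀ (c : k) (q : MvPolynomial ι k),
      (Ideal.Quotient.mk J (q * (MvPolynomial.C c * p0))) =
        Ideal.Quotient.mk J (MvPolynomial.C (MvPolynomial.constantCoeff q * c) * p0) := fun c q => by
    rw [Ideal.Quotient.eq]
    refine ⟨I.sub_mem (I.mul_mem_left _ (I.mul_mem_left _ hp0)) (I.mul_mem_left _ hp0), ?_⟩
    rw [map_sub, hmulI _ _ (I.mul_mem_left _ hp0), hmulI _ _ hp0, hmulI _ _ hp0, hℓp]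
    simp
  have hres' : ∀ q : MvPolynomial ι k, IsLocalRing.residue A (φ q) = ρ (MvPolynomial.constantCoeff q) := fun q => by
    have := (IsLocalRing.residue_eq_zero_iff _).2 (hMm _ (hC q))
    rw [map_sub, map_sub, sub_eq_zero] at this
    rw [this]
    simp [ρ, φ]
  let incl : IsLocalRing.ResidueField A →+ (MvPolynomial ι k ⧸ J) :=
    { toFun := fun z => Ideal.Quotient.mk J (MvPolynomial.C (e.symm z) * p0)
      map_zero' := by simp
      map_add' := fun z z' => by simp [add_mul] }
  let proj : (MvPolynomial ι k ⧸ J) →ₐ[k] A := Ideal.Quotient.liftₐ J φ (fun x hx => hx.1)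
  have hExt : Exal.IsExtension proj incl := by
    refine ⟨fun y => ?_, ?_, fun x => ?_, fun x z => ?_⟩
    · obtain ⟨p, rfl⟩ := hsurj y
      exact ⟨Ideal.Quotient.mk J p, rfl⟩
    · intro z z' h
      have h2 := (Ideal.Quotient.eq.1 h).2
      rw [map_sub, hmulI _ _ hp0, hmulI _ _ hp0, hℓp, sub_eq_zero] at h2
      simpa using h2
    · obtain ⟨q, rfl⟩ := Ideal.Quotient.mk_surjective x
      constructor
      · intro hq
        have hq' : q ∈ I := hq
        refine ⟨e (ℓ q), ?_⟩
        show Ideal.Quotient.mk J (MvPolynomial.C (e.symm (e (ℓ q))) * p0) = _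
        rw [e.symm_apply_apply, Ideal.Quotient.eq]
        refine ⟨I.sub_mem (I.mul_mem_left _ hp0) hq', ?_⟩
        rw [map_sub, hmulI _ _ hp0, hℓp]; simp
      · rintro ⟨z, hz⟩
        rw [← hz]
        show φ (MvPolynomial.C (e.symm z) * p0) = 0
        rw [map_mul, show φ p0 = 0 from hp0, mul_zero]
    · obtain ⟨q, rfl⟩ := Ideal.Quotient.mk_surjective x
      show Ideal.Quotient.mk J q * Ideal.Quotient.mk J _ = Ideal.Quotient.mk J _
      rw [← map_mul, hkill]
      congr 3
      apply e.injective
      rw [map_mul, e.apply_symm_apply, e.apply_symm_apply]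
      show ρ (MvPolynomial.constantCoeff q) * z = _
      rw [← hres']
      rfl
  refine ⟨⟨_, proj, incl, hExt⟩, ?_⟩
  rintro ⟨s, hs⟩
  have hdiff : ∀ q, ∃ z, s (φ q) - Ideal.Quotient.mk J q = incl z := fun q => by
    obtain ⟨z, hz⟩ := (hExt.exact _).1 (show proj (s (φ q) - Ideal.Quotient.mk J q) = 0 by
      rw [map_sub, show proj (s (φ q)) = φ q from hs (φ q), show proj (Ideal.Quotient.mk J q) = φ q from rfl, sub_self])
    exact ⟨z, hz.symm⟩
  have hkm : ∀ (x : MvPolynomial ι k ⧸ J) (z : IsLocalRing.ResidueField A), proj x ∈ m → x * incl z = 0 := by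
    intro x z hx
    rw [hExt.mul_incl, show proj x • z = IsLocalRing.residue A (proj x) * z from rfl,
      (IsLocalRing.residue_eq_zero_iff _).2 hx, zero_mul, map_zero]
  have hsq : ∀ q ∈ M ^ 2, s (φ q) = Ideal.Quotient.mk J q := fun q hq => by
    rw [pow_two] at hq
    refine Submodule.mul_induction_on hq (fun x hx y hy => ?_) (fun x y hx hy => ?_)
    · obtain ⟨z, hz⟩ := hdiff x
      obtain ⟨z', hz'⟩ := hdiff y
      rw [map_mul, map_mul, map_mul, sub_eq_iff_eq_add.1 hz, sub_eq_iff_eq_add.1 hz', add_mul, mul_add]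
      have h1 : proj (incl z' + Ideal.Quotient.mk J y) ∈ m := by
        rw [← sub_eq_iff_eq_add.1 hz', show proj (s (φ y)) = φ y from hs (φ y)]
        exact hMm y hy
      rw [← mul_add, mul_comm (incl z), hkm _ _ h1, zero_add, mul_add,
        hkm (Ideal.Quotient.mk J x) z' (hMm x hx), zero_add]
    · rw [map_add, map_add, map_add, hx, hy]
  have h := hsq p0 (hIM hp0)
  rw [show φ p0 = 0 from hp0, map_zero] at h
  have h2 := (Ideal.Quotient.eq_zero_iff_mem.1 h.symm).2
  rw [hℓp] at h2
  exact one_ne_zero h2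

end Groth.Agent.S11291
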