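import Groth.Statements.S11300
import Groth.Agent.HilbPtsLib.ConnHilb
import Groth.Agent.AmpleThLib.VeryAmple
import Groth.Agent.AmpleThLib.FiniteSet
import Groth.Agent.AmpleDevLib.Pull
import Groth.Agent.ChowLib.Embed
import Groth.Agent.PicPnLib.BaseChange

set_option autoImplicit false
set_option backward.isDefEq.respectTransparency false
set_option backward.isDefEq.respectTransparency.types false
universe u
open CategoryTheory CategoryTheory.Limits AlgebraicGeometry
open HilbD HilbPts HilbPts.Conn TensorProduct

namespace Groth.Agent.S11300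

theorem finite_basicOpen (k : Type u) [Field k] {C : Type u} [CommRing C] [Algebra k C] (J : Ideal C)
    [Module.Finite k (C ⧸ J)] (r : C) (hr : ∀ x ∈ J, r • x = 0) :
    (PrimeSpectrum.basicOpen r : Set (PrimeSpectrum C)).Finite ∧ ∀ p ∈ PrimeSpectrum.basicOpen r, p.asIdeal.IsMaximal := by
  have hJp : ∀ p ∈ PrimeSpectrum.basicOpen r, J ≤ p.asIdeal := fun p hp x hx =>
    (p.isPrime.mem_or_mem (show r * x ∈ p.asIdeal by rw [← smul_eq_mul, hr x hx]; exact zero_mem _)).resolve_left hp
  haveI : IsArtinianRing (C ⧸ J) := IsArtinianRing.of_finite k _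
  refine ⟨(Set.finite_range (PrimeSpectrum.comap (Ideal.Quotient.mk J))).subset fun p hp => ?_, fun p hp => ?_⟩
  · rw [_root_.range_comap_of_surjective _ _ Ideal.Quotient.mk_surjective, PrimeSpectrum.mem_zeroLocus,
      Ideal.mk_ker]
    exact hJp p hp
  · haveI : (p.asIdeal.map (Ideal.Quotient.mk J)).IsPrime :=
      Ideal.map_isPrime_of_surjective Ideal.Quotient.mk_surjective (by rw [Ideal.mk_ker]; exact hJp p hp)
    have h := Ideal.comap_isMaximal_of_surjective (Ideal.Quotient.mk J) Ideal.Quotient.mk_surjective
      (K := p.asIdeal.map (Ideal.Quotient.mk J))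
    rwa [Ideal.comap_map_mk (hJp p hp)] at h

theorem hne (k : Type u) [Field k] {Y : Scheme.{u}} (f : Y ⟶ Spec (CommRingCat.of k)) [LocallyOfFiniteType f]
    [ConnectedSpace Y] (hY : 0 < topologicalKrullDim Y) (i : ℕ) : Hne f i := by
  intro B _ _ _ iW _ w χ J _ _ he
  haveI : Algebra.FiniteType k (k ⊗[k] B) :=
    Algebra.FiniteType.equiv ‹_› (Algebra.TensorProduct.lid k B).symm
  haveI : IsNoetherianRing (k ⊗[k] B) := Algebra.FiniteType.isNoetherianRing k _
  obtain ⟨r, hr, hrJ⟩ := Submodule.exists_sub_one_mem_and_smul_eq_zero_of_fg_of_le_smul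
    (RingHom.ker (ConnAlg.chiC χ)) J (IsNoetherian.noetherian J) he.ge
  let D : Set (PrimeSpectrum (k ⊗[k] B)) := (PrimeSpectrum.basicOpen r : Set _)
  obtain ⟨hfin, hmax⟩ : D.Finite ∧ ∀ p ∈ D, p.asIdeal.IsMaximal := finite_basicOpen k J r hrJ
  let p0 : PrimeSpectrum (k ⊗[k] B) := ⟨RingHom.ker (ConnAlg.chiC χ), RingHom.ker_isPrime _⟩
  have hp0 : p0 ∈ D := fun h => p0.isPrime.ne_top ((Ideal.eq_top_iff_one _).2 (by
    have := p0.asIdeal.sub_mem h hr
    rwa [sub_sub_cancel] at this))
  let ι : Spec (CommRingCat.of (k ⊗[k] B)) ⟶ Y :=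
    Spec.map (Algebra.TensorProduct.lid k B).symm.toRingEquiv.toCommRingCatIso.hom ≫ iW
  haveI : IsOpenImmersion ι := inferInstance
  haveI : JacobsonSpace Y := LocallyOfFiniteType.jacobsonSpace f
  have hcl : ∀ p ∈ D, IsClosed {ι p} := fun p hp => by
    refine isClosed_singleton_of_isLocallyClosed_singleton ?_
    rw [← Set.image_singleton]
    exact (((PrimeSpectrum.isClosed_singleton_iff_isMaximal p).2 (hmax p hp)).isLocallyClosed).image
      ι.isOpenEmbedding.isInducing ι.isOpenEmbedding.isOpen_range.isLocallyClosed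
  have hO : IsClopen (ι '' D) := ⟨by
      rw [← Set.biUnion_of_singleton (ι '' D)]
      exact (hfin.image ι).isClosed_biUnion fun y hy => by obtain ⟨p, hp, rfl⟩ := hy; exact hcl p hp,
    ι.isOpenEmbedding.isOpenMap _ (PrimeSpectrum.basicOpen r).2⟩
  have huniv : ι '' D = Set.univ := hO.eq_univ ⟨ι p0, p0, hp0, rfl⟩
  haveI : Finite Y := Set.finite_univ_iff.1 (huniv ▸ hfin.image ι)
  haveI : T1Space Y := ⟨fun y => by
    obtain ⟨p, hp, rfl⟩ := huniv.ge (Set.mem_univ y)
    exact hcl p hp⟩
  exact absurd hY (not_lt.2 (topologicalKrullDim_zero_of_discreteTopology Y))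

/-- Let k be an algebraically closed field and Y a connected projective scheme over k (a closed
subscheme of some projective space over k) of positive dimension. Let n ≥ 0 and let (H, Z) represent
the Hilbert functor of n points of Y over k: Z is a closed subscheme of Y ×_k H finite locally free
of degree n over H, and every such family over a k-scheme T is the pullback of Z along a unique
k-morphism T → H. Then H (the Hilbert scheme Y^[n]) is connected, in particular non-empty. (The
published assertion does not exclude Y of dimension zero; for Y a single reduced point and n ≥ 2 the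
Hilbert scheme of n points is empty, hence not connected. The published induction uses that the
universal ideal sheaf is supported on all of Y × Y^[n], which holds when Y has no isolated point,
and a connected scheme of finite type over k of positive dimension has none; this row therefore
assumes Y of positive dimension.) -/
theorem result (k : Type u) [Field k] [IsAlgClosed k]
    (Y : Over (Spec (CommRingCat.of k))) (hproj : Neron.IsProjectiveOver k Y) [ConnectedSpace Y.left]
    (hY : 0 < topologicalKrullDim Y.left)
    (n : ℕ) (H : Over (Spec (CommRingCat.of k))) (Z : HilbD.Obj Y.hom n H)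
    (hH : HilbD.IsUniversal Y.hom n H Z) : ConnectedSpace H.left := by
  obtain ⟨r, i, hi, hiY⟩ := hproj
  haveI := hi
  haveI : IsProper Y.hom := by
    rw [← hiY]
    haveI := ChowLib.isProper_toBase r (Spec (CommRingCat.of k))
    infer_instance
  have hA : CohB1.IsAmple ((Scheme.Modules.pullback i).obj (Twist.twistOver r (Spec (CommRingCat.of k)) 1)) :=
    AmpleThLib.isAmple_of_isRelVeryAmplePn Y.hom
      (AmpleDevLib.isInvertible_pb i (PicPnLib.twistOver_inv r (Spec (CommRingCat.of k)) 1))
      ⟨r, i, inferInstance, hiY, ⟨Iso.refl _⟩⟩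
  have hAF : SymProd.IsAF Y.hom := fun s t _ => AmpleThLib.exists_affineOpen_finset hA t
  exact connectedSpace_hilb hAF n (fun j _ => hne k Y.hom hY j) H Z hH

end Groth.Agent.S11300
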