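import Groth.Statements.S11295
import Groth.Agent.S11300
import Groth.Agent.HilbPtsLib.Fogarty
import Groth.Agent.HilbPtsLib.ProperHilb

set_option backward.isDefEq.respectTransparency false
set_option backward.isDefEq.respectTransparency.types false

set_option autoImplicit false
universe u
open CategoryTheory CategoryTheory.Limits AlgebraicGeometry
open HilbD HilbPts

namespace Groth.Agent.S11295

/-- Let k be an algebraically closed field and Y a nonsingular connected projective surface over k: Y →
Spec k is a closed subscheme of some projective space over k, Y is connected of dimension 2 and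
every local ring of Y is a regular local ring. Let n ≥ 0 and let (H, Z) represent the Hilbert
functor of n points of Y over k, i.e. Z is a closed subscheme of Y ×_k H finite locally free of
degree n over H through which every such family over any k-scheme T is pulled back along a unique
k-morphism T → H. Then the scheme H (the Hilbert scheme Y^[n]) is connected, all of its local rings
are regular, and its dimension is 2n. -/
theorem result (k : Type u) [Field k] [IsAlgClosed k]
    (Y : Over (Spec (CommRingCat.of k))) (hproj : Neron.IsProjectiveOver k Y)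
    [ConnectedSpace Y.left] (hreg : ∀ y : Y.left, IsRegularLocalRing (Y.left.presheaf.stalk y))
    (hdim : topologicalKrullDim Y.left = 2) (n : ℕ)
    (H : Over (Spec (CommRingCat.of k))) (Z : HilbD.Obj Y.hom n H) (hH : HilbD.IsUniversal Y.hom n H Z) :
    ConnectedSpace H.left ∧ (∀ h : H.left, IsRegularLocalRing (H.left.presheaf.stalk h)) ∧
      topologicalKrullDim H.left = (2 * n : ℕ) := by
  obtain ⟨r, i, hi, hiY⟩ := hproj
  haveI := hi
  haveI : IsProper Y.hom := by
    rw [← hiY]
    haveI := ChowLib.isProper_toBase r (Spec (CommRingCat.of k))
    infer_instance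
  have hA : CohB1.IsAmple ((Scheme.Modules.pullback i).obj (Twist.twistOver r (Spec (CommRingCat.of k)) 1)) :=
    AmpleThLib.isAmple_of_isRelVeryAmplePn Y.hom
      (AmpleDevLib.isInvertible_pb i (PicPnLib.twistOver_inv r (Spec (CommRingCat.of k)) 1))
      ⟨r, i, inferInstance, hiY, ⟨Iso.refl _⟩⟩
  have hAF : SymProd.IsAF Y.hom := fun s t _ => AmpleThLib.exists_affineOpen_finset hA t
  haveI : IsLocallyNoetherian Y.left := LocallyOfFiniteType.isLocallyNoetherian Y.hom
  haveI : ∀ x : Y.left, IsDomain (Y.left.presheaf.stalk x) := fun x =>
    haveI := hreg x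
    CommAlgDim.isDomain_of_isRegularLocalRing _
  haveI : IrreducibleSpace Y.left := Groth.Agent.WeilRes.irreducibleSpace_of_isDomain_stalks
  have hs : Fogarty.IsSurf Y.hom := fun x hx => ⟨hreg x, by
    rw [← FibDimLib.localDim_eq_stalk_of_isClosed Y.hom hx, FibDimLib.localDim_of_irreducible Y.hom x, hdim]⟩
  haveI : ConnectedSpace H.left := Conn.connectedSpace_hilb hAF n
    (fun j _ => Groth.Agent.S11300.hne k Y.hom (by rw [hdim]; norm_num) j) H Z hH
  haveI : IsProper H.hom := SC.isProper_hom_of_isAF hAF hH
  obtain ⟨h1, -, h3⟩ := Fogarty.regular_irreducible_dim hAF hs hH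
  exact ⟨inferInstance, h1, h3⟩

end Groth.Agent.S11295
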