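import Groth.Statements.S11298
import Groth.Agent.CommAlgDim.Depth

set_option autoImplicit false
universe u v
open LocCoh

namespace Groth.Agent.S11298

open RingTheory.Sequence Pointwise

theorem two_le {B : Type u} [CommRing B] (I : Ideal B) {M : Type v} [AddCommGroup M] [Module B M] (x y : B)
    (hxI : x ∈ I) (hyI : y ∈ I) (hx : IsSMulRegular B x) (hy : IsSMulRegular (QuotSMulTop x B) y) :
    2 ≤ LocCoh.idealDepth I (M →ₗ[B] B) := by
  have h1 : IsSMulRegular (M →ₗ[B] B) x := fun φ ψ h => LinearMap.ext fun m => hx (LinearMap.congr_fun h m)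
  have h2 : IsSMulRegular (QuotSMulTop x (M →ₗ[B] B)) y := by
    refine IsSMulRegular.of_right_eq_zero_of_smul fun φ hφ => ?_
    obtain ⟨φ, rfl⟩ := Submodule.Quotient.mk_surjective _ φ
    rw [← Submodule.Quotient.mk_smul, Submodule.Quotient.mk_eq_zero] at hφ
    obtain ⟨ψ, -, hψ⟩ := (Submodule.mem_smul_pointwise_iff_exists _ _ _).1 hφ
    have h3 : ∀ m, ∃ c, x * c = φ m := fun m => by
      have h0 : y • (Submodule.Quotient.mk (φ m) : QuotSMulTop x B) = 0 := by
        rw [← Submodule.Quotient.mk_smul, Submodule.Quotient.mk_eq_zero]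
        exact ⟨ψ m, trivial, LinearMap.congr_fun hψ m⟩
      obtain ⟨c, -, hc⟩ := (Submodule.mem_smul_pointwise_iff_exists _ _ _).1
        ((Submodule.Quotient.mk_eq_zero _).1 (hy.right_eq_zero_of_smul h0))
      exact ⟨c, hc⟩
    choose c hc using h3
    refine (Submodule.Quotient.mk_eq_zero _).2 ((Submodule.mem_smul_pointwise_iff_exists _ _ _).2
      ⟨{ toFun := c, map_add' := fun a b => hx ?_, map_smul' := fun r a => hx ?_ }, trivial, LinearMap.ext hc⟩)
    · show x * c (a + b) = x * (c a + c b)
      rw [mul_add, hc, hc, hc, map_add]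
    · show x * c (r • a) = x * (r * c a)
      rw [mul_left_comm, hc, hc, map_smul, smul_eq_mul]
  rw [LocCoh.idealDepth]
  split_ifs
  · exact le_top
  · refine le_iSup₂_of_le [x, y] ⟨?_, by simp [hxI, hyI]⟩ (by simp)
    exact IsWeaklyRegular.cons h1 (IsWeaklyRegular.cons h2 (IsWeaklyRegular.nil _ _))


/-- Let X = Spec B be an affine Noetherian scheme, Z = V(I) a closed subscheme and G a coherent sheaf,
i.e. a finitely generated B-module M, with dual G^v = Hom_B(M, B). If depth_Z(O_X) ≥ 2 then
depth_Z(G^v) ≥ 2. Here the depth along I of a module N is the supremum of the lengths of N-regular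
sequences contained in I (and is infinite when I N = N). (The published statement adds that sections
of the dual over X and over X minus Z agree; this row omits that clause.) -/
theorem result (B : Type u) [CommRing B] [IsNoetherianRing B]
    (I : Ideal B) (M : Type v) [AddCommGroup M] [Module B M] [Module.Finite B M]
    (h : 2 ≤ LocCoh.idealDepth I B) : 2 ≤ LocCoh.idealDepth I (M →ₗ[B] B) := by
  obtain ⟨rs, hl, hm, hr⟩ := (CommAlgDim.le_idealDepth_iff I 2).1 (by exact_mod_cast h)
  obtain ⟨x, y, rfl⟩ : ∃ x y, rs = [x, y] := List.length_eq_two.1 hl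
  rw [RingTheory.Sequence.isWeaklyRegular_cons_iff, RingTheory.Sequence.isWeaklyRegular_cons_iff] at hr
  exact two_le I x y (hm x (by simp)) (hm y (by simp)) hr.1 hr.2.1

end Groth.Agent.S11298
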