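import Groth.Statements.S11299
import Mathlib.LinearAlgebra.Isomorphisms
import Mathlib.LinearAlgebra.FreeModule.Basic
import Mathlib.Algebra.Module.Projective
-- import your own Groth.Agent.* helpers here

set_option autoImplicit false
set_option linter.style.haveILetI false
universe u
open CAlg

namespace Groth.Agent.S11299

/-- The second cotangent module does not depend on the presentation: let P be a commutative ring, J an
ideal and B = P/J. For a presentation of J, i.e. a finitely generated free P-module F with a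
P-linear map j : F → P with image J, let R = ker j be the relation module and R^tr ⊆ R the span of
the trivial relations j(u) • v - j(v) • u; the module T^2 of the presentation is the quotient of
Hom_B(R/R^tr, B), realised as the P-linear maps R → P/J vanishing on R^tr, by the restrictions to R
of the P-linear maps F → P/J (here: the image of that submodule in the quotient of Hom_P(R, P/J) by
the restrictions). Then for two presentations (F, j) and (F', j') of the same ideal J the two
modules T^2 are isomorphic as P-modules (existence of an isomorphism; the comparison maps depend on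
expressing one system of generators through the other). (The published statement takes B essentially
of finite type over a field and P smooth; this row allows any commutative ring P and ideal J.) -/
theorem result (P : Type u) [CommRing P] (J : Ideal P)
    (F : Type u) [AddCommGroup F] [Module P F] [Module.Free P F] [Module.Finite P F]
    (F' : Type u) [AddCommGroup F'] [Module P F'] [Module.Free P F'] [Module.Finite P F']
    (j : F →ₗ[P] P) (j' : F' →ₗ[P] P) (hj : LinearMap.range j = J) (hj' : LinearMap.range j' = J) :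
    Nonempty (↥(Submodule.map
          (LinearMap.range (LinearMap.lcomp P (P ⧸ J) (LinearMap.ker j).subtype)).mkQ
          (LinearMap.ker (LinearMap.lcomp P (P ⧸ J)
            (Submodule.comap (LinearMap.ker j).subtype
              (Submodule.span P {y : F | ∃ u v : F, y = j u • v - j v • u})).subtype))) ≃ₗ[P]
      ↥(Submodule.map
          (LinearMap.range (LinearMap.lcomp P (P ⧸ J) (LinearMap.ker j').subtype)).mkQ
          (LinearMap.ker (LinearMap.lcomp P (P ⧸ J)
            (Submodule.comap (LinearMap.ker j').subtype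
              (Submodule.span P {y : F' | ∃ u v : F', y = j' u • v - j' v • u})).subtype)))) := by
  classical
  let B := P ⧸ J
  let W : ∀ (G : Type u) [AddCommGroup G] [Module P G] (g : G →ₗ[P] P), Submodule P (LinearMap.ker g) :=
    fun G _ _ g => Submodule.comap (LinearMap.ker g).subtype (Submodule.span P {y : G | ∃ u v : G, y = g u • v - g v • u})
  obtain ⟨φ, hφ⟩ := Module.projective_lifting_property j'.rangeRestrict
    (j.codRestrict (LinearMap.range j') fun x => hj' ▸ hj ▸ LinearMap.mem_range_self j x) j'.surjective_rangeRestrict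
  obtain ⟨ψ, hψ⟩ := Module.projective_lifting_property j.rangeRestrict
    (j'.codRestrict (LinearMap.range j) fun x => hj ▸ hj' ▸ LinearMap.mem_range_self j' x) j.surjective_rangeRestrict
  have hφ' : ∀ x, j' (φ x) = j x := fun x => congrArg Subtype.val (DFunLike.congr_fun hφ x)
  have hψ' : ∀ x, j (ψ x) = j' x := fun x => congrArg Subtype.val (DFunLike.congr_fun hψ x)
  let N : ∀ (G : Type u) [AddCommGroup G] [Module P G] (g : G →ₗ[P] P), Submodule P (LinearMap.ker g →ₗ[P] B) :=
    fun G _ _ g => LinearMap.range (LinearMap.lcomp P B (LinearMap.ker g).subtype)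
  let K : ∀ (G : Type u) [AddCommGroup G] [Module P G] (g : G →ₗ[P] P), Submodule P (LinearMap.ker g →ₗ[P] B) :=
    fun G _ _ g => LinearMap.ker (LinearMap.lcomp P B (W G g).subtype)
  show Nonempty (↥(Submodule.map (N F j).mkQ (K F j)) ≃ₗ[P] ↥(Submodule.map (N F' j').mkQ (K F' j')))
  let rφ : LinearMap.ker j →ₗ[P] LinearMap.ker j' := φ.restrict fun x hx => by
    rw [LinearMap.mem_ker] at hx ⊢
    rw [hφ', hx]
  let rψ : LinearMap.ker j' →ₗ[P] LinearMap.ker j := ψ.restrict fun x hx => by
    rw [LinearMap.mem_ker] at hx ⊢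
    rw [hψ', hx]
  have hN : ∀ (G H : Type u) [AddCommGroup G] [Module P G] [AddCommGroup H] [Module P H] (g : G →ₗ[P] P) (g' : H →ₗ[P] P)
      (a : G →ₗ[P] H) (r : LinearMap.ker g →ₗ[P] LinearMap.ker g'),
      (∀ x, (r x : H) = a x) → N H g' ≤ (N G g).comap (LinearMap.lcomp P B r) := by
    intro G H _ _ _ _ g g' a r hr
    rintro _ ⟨h, rfl⟩
    exact ⟨h ∘ₗ a, LinearMap.ext fun x => congrArg h (hr x).symm⟩
  have hK : ∀ (G H : Type u) [AddCommGroup G] [Module P G] [AddCommGroup H] [Module P H] (g : G →ₗ[P] P) (g' : H →ₗ[P] P)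
      (a : G →ₗ[P] H) (_ : ∀ x, g' (a x) = g x) (r : LinearMap.ker g →ₗ[P] LinearMap.ker g'),
      (∀ x, (r x : H) = a x) → K H g' ≤ (K G g).comap (LinearMap.lcomp P B r) := by
    intro G H _ _ _ _ g g' a ha r hr f hf
    refine LinearMap.mem_ker.2 (LinearMap.ext fun w => ?_)
    have hw : r w.1 ∈ W H g' := by
      show (r w.1 : H) ∈ Submodule.span P {y : H | ∃ u v : H, y = g' u • v - g' v • u}
      rw [hr]
      suffices Submodule.span P {y : G | ∃ u v : G, y = g u • v - g v • u} ≤
          (Submodule.span P {y : H | ∃ u v : H, y = g' u • v - g' v • u}).comap a from this w.2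
      refine Submodule.span_le.2 ?_
      rintro _ ⟨u, v, rfl⟩
      exact Submodule.subset_span ⟨a u, a v, by rw [map_sub, map_smul, map_smul, ha, ha]⟩
    exact DFunLike.congr_fun (LinearMap.mem_ker.1 hf) ⟨r w.1, hw⟩
  have hN1 := hN F F' j j' φ rφ (fun x => rfl)
  have hN2 := hN F' F j' j ψ rψ (fun x => rfl)
  let Φ : ((LinearMap.ker j' →ₗ[P] B) ⧸ N F' j') →ₗ[P] ((LinearMap.ker j →ₗ[P] B) ⧸ N F j) :=
    Submodule.mapQ _ _ (LinearMap.lcomp P B rφ) hN1
  let Ψ : ((LinearMap.ker j →ₗ[P] B) ⧸ N F j) →ₗ[P] ((LinearMap.ker j' →ₗ[P] B) ⧸ N F' j') :=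
    Submodule.mapQ _ _ (LinearMap.lcomp P B rψ) hN2
  have mΦ : ∀ x ∈ Submodule.map (N F' j').mkQ (K F' j'), Φ x ∈ Submodule.map (N F j).mkQ (K F j) := by
    rintro _ ⟨f, hf, rfl⟩
    exact ⟨_, hK F F' j j' φ hφ' rφ (fun x => rfl) hf, rfl⟩
  have mΨ : ∀ x ∈ Submodule.map (N F j).mkQ (K F j), Ψ x ∈ Submodule.map (N F' j').mkQ (K F' j') := by
    rintro _ ⟨f, hf, rfl⟩
    exact ⟨_, hK F' F j' j ψ hψ' rψ (fun x => rfl) hf, rfl⟩
  have inv : ∀ (G H : Type u) [AddCommGroup G] [Module P G] [AddCommGroup H] [Module P H] (g : G →ₗ[P] P) (g' : H →ₗ[P] P)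
      (a : G →ₗ[P] H) (a' : H →ₗ[P] G) (_ : ∀ x, g' (a x) = g x) (_ : ∀ x, g (a' x) = g' x)
      (r : LinearMap.ker g →ₗ[P] LinearMap.ker g') (r' : LinearMap.ker g' →ₗ[P] LinearMap.ker g),
      (∀ x, (r x : H) = a x) → (∀ x, (r' x : G) = a' x) → ∀ f : LinearMap.ker g →ₗ[P] B,
      LinearMap.lcomp P B r (LinearMap.lcomp P B r' f) - f ∈ N G g := by
    intro G H _ _ _ _ g g' a a' ha ha' r r' hr hr' f
    let d : G →ₗ[P] LinearMap.ker g := (a' ∘ₗ a - LinearMap.id).codRestrict _ fun x => by
      simp [LinearMap.mem_ker, ha', ha]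
    refine ⟨f ∘ₗ d, LinearMap.ext fun x => ?_⟩
    show f (d x.1) = f (r' (r x)) - f x
    rw [← map_sub]
    congr 1
    apply Subtype.ext
    simp [d, hr', hr]
  refine ⟨LinearEquiv.ofLinear (Ψ.restrict mΨ) (Φ.restrict mΦ) (LinearMap.ext fun x => ?_) (LinearMap.ext fun x => ?_)⟩
  · obtain ⟨_, f, hf, rfl⟩ := x
    apply Subtype.ext
    exact (Submodule.Quotient.eq _).2 (inv F' F j' j ψ φ hψ' hφ' rψ rφ (fun x => rfl) (fun x => rfl) f)
  · obtain ⟨_, f, hf, rfl⟩ := x
    apply Subtype.ext
    exact (Submodule.Quotient.eq _).2 (inv F F' j j' φ ψ hφ' hψ' rφ rψ (fun x => rfl) (fun x => rfl) f)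

end Groth.Agent.S11299
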