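import Groth.Statements.S1130
import Mathlib
import Groth.Agent.QCohDescLib.EvIso
-- import your own Groth.Agent.* helpers here

set_option autoImplicit false
open CategoryTheory CategoryTheory.Limits AlgebraicGeometry Opposite
universe u
open Desc

namespace Groth.Agent.S1130

/-- Let f i : X i ⟶ S be an fpqc covering family (a family in Mathlib's fpqc precoverage: flat, and
jointly surjective from finitely many quasi-compact pieces over each affine open). Every descent
datum relative to this family whose modules are all quasi-coherent is isomorphic to the canonical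
descent datum of some quasi-coherent O_S-module. -/
theorem result {ι : Type u} {S : Scheme.{u}} {X : ι → Scheme.{u}}
    (f : ∀ i, X i ⟶ S) (hf : Presieve.ofArrows X f ∈ Scheme.fpqcPrecoverage S)
    (D : Desc.modPF.{u}.DescentData f) (hD : ∀ i, (D.obj i : (X i).Modules).IsQuasicoherent) :
    ∃ M : S.Modules, M.IsQuasicoherent ∧ Nonempty ((Desc.modPF.{u}.toDescentData f).obj M ≅ D) := by
  haveI hD' : ∀ i, Coh.IsQCoh (QCohDescLib.dObj D i) := hD
  refine ⟨QCohDescLib.dMod D, QCohDescLib.isQCoh_dMod D hf, ⟨Pseudofunctor.DescentData.isoMk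
    (fun i => @asIso _ _ _ _ (QCohDescLib.evI D i) (QCohDescLib.isIso_evI D hf i)) fun Y q i j a b ha hb => ?_⟩⟩
  rw [QCohDescLib.toDescentData_hom f (QCohDescLib.dMod D) q a b ha hb, ← QCohDescLib.dHom_eq D a b q ha hb]
  exact QCohDescLib.evI_comm D a b q ha hb

end Groth.Agent.S1130
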