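import Groth.Statements.S11303
import Groth.Agent.ProjHilbLib.HypAlg
import Groth.Agent.ProjHilbLib.Compare

set_option autoImplicit false
set_option backward.isDefEq.respectTransparency false
set_option backward.isDefEq.respectTransparency.types false
set_option maxRecDepth 8000
set_option maxHeartbeats 1000000
universe u
open CategoryTheory CategoryTheory.Limits AlgebraicGeometry
open FGA

namespace Groth.Agent.S11303

/-- Closed subschemes with the Hilbert polynomial of a hypersurface: let k be an algebraically closed
field, r ≥ 1, d ≥ 1, and Y ⊆ P^r_k a closed subscheme (quasi-coherent ideal sheaf I) whose Hilbert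
polynomial is that of a hypersurface of degree d: χ(O_Y(t)) = C(t+r, r) - C(t+r-d, r) for every
integer t (binomial coefficients as polynomials in t). Then Y is a hypersurface of degree d: its
ideal sheaf, as an O-module, is isomorphic to O(-d) (existence of an isomorphism of O-modules;
equivalently I is an invertible ideal generated by one form of degree d). -/
theorem result (k : Type u) [Field k] [IsAlgClosed k] (r d : ℕ)
    (hr : 1 ≤ r) (hd : 1 ≤ d) (I : (CohB1.ProjSpace r k).IdealSheafData)
    (hP : ∀ t : ℤ, Curv2.euler k (CohB1.ProjSpace r k)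
        (CohB1.tensorMod (ClSub.quotMod I) (Twist.twistProjSpace r k t)) =
      Ring.choose (t + r) r - Ring.choose (t + r - d) r) :
    Nonempty (ClSub.idealMod I ≅ Twist.twistProjSpace r k (-(d : ℤ))) := by
  classical
  obtain ⟨N, hN⟩ := ProjHilbLib.euler_quot (n := r) I
  have h : ∀ t, N ≤ t → (Module.finrank k ↥(Submodule.restrictScalars k (ProjHilbLib.satId (n := r) I) ⊓ CohB1.polyGrading r k t) : ℚ) =
      (ProjHilbLib.cpoly ((r : ℤ) - d) r).eval (t : ℚ) := by
    intro t ht
    have h1 : (Curv2.euler k (CohB1.ProjSpace r k)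
        (CohB1.tensorMod (ClSub.quotMod I) (Twist.twistProjSpace r k (t : ℤ))) : ℚ) = _ := hN t ht
    rw [hP (t : ℤ), Int.cast_sub, ← ProjHilbLib.cpoly_eval, Int.cast_natCast, ProjHilbLib.cpoly_eval_nat,
      add_sub_assoc, ← ProjHilbLib.cpoly_eval, Int.cast_natCast, GradedHilbLib.hf, ProjHilbLib.finrank_piece] at h1
    linarith
  obtain ⟨g, hg0, N', hN'⟩ := ProjHilbLib.exists_hypersurface hr (ProjHilbLib.satId_isHomogeneous (n := r) I) h
  have hI := ProjHilbLib.eq_hypIdeal I g hN'
  subst hI
  exact PlaneCurveLib.nonempty_idealMod_iso g hg0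

end Groth.Agent.S11303
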