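import Groth.Statements.S11304
import Mathlib
import Groth.Agent.S3218
import Groth.Agent.QuotSchLib.FlagHilb
import Groth.Agent.ChowLib.Segre
-- import your own Groth.Agent.* helpers here

set_option autoImplicit false
universe u
open CategoryTheory CategoryTheory.Limits AlgebraicGeometry
open FGA

namespace Groth.Agent.S11304

/-- Flag Hilbert schemes: the case of flags of length two: let k be an algebraically closed field and r
≥ 1. The functor sending a k-scheme T to the set of pairs X_1 ⊆ X_2 of closed subschemes of P^r_T,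
each flat and proper over T, is representable by a k-scheme which is a disjoint union of projective
k-schemes, with a universal nested pair. Stated here on locally Noetherian test schemes and with
closed subschemes given by their quasi-coherent ideal sheaves (X_1 ⊆ X_2 meaning I_{X_2} ≤ I_{X_1}):
there are a locally Noetherian k-scheme H, a nested pair (W_1, W_2) over H through which every
nested pair over a locally Noetherian k-scheme T is pulled back along a unique k-morphism T → H, and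
a decomposition of H into pieces each admitting a closed immersion over k into some projective
space. (The published statement treats flags of any length, each piece indexed by a tuple of Hilbert
polynomials; this row states length two and does not record the indexing.) -/
theorem result (k : Type u) [Field k] [IsAlgClosed k] (r : ℕ) (hr : 1 ≤ r) :
    ∃ (H : Over (Spec (CommRingCat.of k))) (W₁ W₂ : FGA.HilbSet (CohB1.ProjSpaceOver.toBase r (Spec (CommRingCat.of k))) H),
      W₂.1 ≤ W₁.1 ∧ IsLocallyNoetherian H.left ∧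
      (∀ (T : Over (Spec (CommRingCat.of k))) [IsLocallyNoetherian T.left] (Y₁ Y₂ : FGA.HilbSet (CohB1.ProjSpaceOver.toBase r (Spec (CommRingCat.of k))) T),
          Y₂.1 ≤ Y₁.1 →
          ∃! g : T ⟶ H, FGA.hilbPull (CohB1.ProjSpaceOver.toBase r (Spec (CommRingCat.of k))) g W₁.1 = Y₁.1 ∧ FGA.hilbPull (CohB1.ProjSpaceOver.toBase r (Spec (CommRingCat.of k))) g W₂.1 = Y₂.1) ∧
      ∃ (ι : Type u) (P : ι → Scheme.{u}) (e : (∐ P) ≅ H.left) (m : ι → ℕ)
        (c : ∀ a, P a ⟶ CohB1.ProjSpaceOver (m a) (Spec (CommRingCat.of k))),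
        ∀ a, IsClosedImmersion (c a) ∧
          c a ≫ CohB1.ProjSpaceOver.toBase (m a) (Spec (CommRingCat.of k)) = Limits.Sigma.ι P a ≫ e.hom ≫ H.hom := by
  let B := Spec (CommRingCat.of k)
  let f := CohB1.ProjSpaceOver.toBase r B
  obtain ⟨H, Z, hZ, ι, P, e, m, c, hc⟩ := Groth.Agent.S3218.result B r (CohB1.ProjSpaceOver r B) (𝟙 _)
  haveI := hZ.1
  haveI : IsProper (CohB1.ProjSpaceOver.toBase r B) := ChowLib.isProper_toBase r B
  haveI : IsProper (𝟙 _ ≫ CohB1.ProjSpaceOver.toBase r B) := inferInstance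
  let j : ∀ a, P a ⟶ H.left := fun a => Limits.Sigma.ι P a ≫ e.hom
  haveI hj : ∀ a, IsOpenImmersion (j a) := fun a => inferInstanceAs (IsOpenImmersion (Limits.Sigma.ι P a ≫ e.hom))
  have hjH : ∀ a, c a ≫ CohB1.ProjSpaceOver.toBase (m a) B = j a ≫ H.hom := fun a =>
    (hc a).2.trans (Category.assoc _ _ _).symm
  have hjcov : ∀ x : H.left, ∃ a, x ∈ Set.range (j a) := fun x => by
    obtain ⟨a, y, hy⟩ := (sigmaOpenCover P).exists_eq (e.inv x)
    refine ⟨a, y, ?_⟩
    show (Limits.Sigma.ι P a ≫ e.hom) y = x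
    rw [Scheme.Hom.comp_apply]
    refine (congrArg e.hom hy).trans ?_
    rw [← Scheme.Hom.comp_apply, e.inv_hom_id]
    rfl
  have hjdis : ∀ a b, a ≠ b → ∀ x, x ∈ Set.range (j a) → x ∈ Set.range (j b) → False := by
    rintro a b hab _ ⟨x, rfl⟩ ⟨y, hy⟩
    have h1 : e.hom (Limits.Sigma.ι P b y) = e.hom (Limits.Sigma.ι P a x) := by
      rw [← Scheme.Hom.comp_apply, ← Scheme.Hom.comp_apply]
      exact hy
    exact hab (congrArg Sigma.fst ((sigmaι_eq_iff P _ _ _ _).1 (e.hom.isEmbedding.injective h1.symm)))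
  haveI hH : LocallyOfFiniteType H.hom := by
    refine IsZariskiLocalAtSource.of_openCover (P := @LocallyOfFiniteType)
      ((sigmaOpenCover P).pushforwardIso e.hom) fun a => ?_
    haveI := (hc a).1
    haveI : IsProper (CohB1.ProjSpaceOver.toBase (m a) B) := ChowLib.isProper_toBase _ B
    have h : LocallyOfFiniteType (c a ≫ CohB1.ProjSpaceOver.toBase (m a) B) := inferInstance
    rw [hjH a] at h
    exact h
  let HH : Over B := Over.mk (pullback.fst H.hom H.hom ≫ H.hom)
  haveI : IsLocallyNoetherian HH.left := LocallyOfFiniteType.isLocallyNoetherian (pullback.fst H.hom H.hom)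
  let p₁ : HH ⟶ H := Over.homMk (pullback.fst H.hom H.hom) rfl
  let p₂ : HH ⟶ H := Over.homMk (pullback.snd H.hom H.hom) pullback.condition.symm
  obtain ⟨Y₁, hY₁⟩ := QuotSchLib.exists_hilbPull (𝟙 _ ≫ CohB1.ProjSpaceOver.toBase r B) p₁ Z
  obtain ⟨Y₂, hY₂⟩ := QuotSchLib.exists_hilbPull (𝟙 _ ≫ CohB1.ProjSpaceOver.toBase r B) p₂ Z
  obtain ⟨C, cC, hcC, hC⟩ := QuotSchLib.exists_flag_locus (𝟙 _) Y₁ Y₂
  haveI := hcC
  let D : Over B := Over.mk (cC ≫ HH.hom)
  let q : D ⟶ HH := Over.homMk cC rfl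
  haveI : IsLocallyNoetherian D.left := LocallyOfFiniteType.isLocallyNoetherian cC
  obtain ⟨W₁, hW₁⟩ := QuotSchLib.exists_hilbPull (𝟙 _ ≫ CohB1.ProjSpaceOver.toBase r B) q Y₁
  obtain ⟨W₂, hW₂⟩ := QuotSchLib.exists_hilbPull (𝟙 _ ≫ CohB1.ProjSpaceOver.toBase r B) q Y₂
  suffices h : ∃ (H' : Over B) (W₁ W₂ : FGA.HilbSet (𝟙 _ ≫ CohB1.ProjSpaceOver.toBase r B) H'),
      W₂.1 ≤ W₁.1 ∧ IsLocallyNoetherian H'.left ∧
      (∀ (T : Over B) [IsLocallyNoetherian T.left]
          (Y₁ Y₂ : FGA.HilbSet (𝟙 _ ≫ CohB1.ProjSpaceOver.toBase r B) T), Y₂.1 ≤ Y₁.1 →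
          ∃! g : T ⟶ H', FGA.hilbPull (𝟙 _ ≫ CohB1.ProjSpaceOver.toBase r B) g W₁.1 = Y₁.1 ∧
            FGA.hilbPull (𝟙 _ ≫ CohB1.ProjSpaceOver.toBase r B) g W₂.1 = Y₂.1) ∧
      ∃ (ι : Type u) (P : ι → Scheme.{u}) (e : (∐ P) ≅ H'.left) (m : ι → ℕ)
        (c : ∀ a, P a ⟶ CohB1.ProjSpaceOver (m a) B),
        ∀ a, IsClosedImmersion (c a) ∧
          c a ≫ CohB1.ProjSpaceOver.toBase (m a) B = Limits.Sigma.ι P a ≫ e.hom ≫ H'.hom by
    rw [Category.id_comp] at h
    exact h
  refine ⟨D, W₁, W₂, ?_, inferInstance, fun T _ V₁ V₂ hV => ?_, ?_⟩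
  · rw [hW₁, hW₂]
    exact (hC D q).2 ⟨𝟙 _, Category.id_comp _⟩
  · obtain ⟨g₁, hg₁, hu₁⟩ := hZ.2 T V₁
    obtain ⟨g₂, hg₂, hu₂⟩ := hZ.2 T V₂
    let g : T ⟶ HH := Over.homMk (pullback.lift g₁.left g₂.left ((Over.w g₁).trans (Over.w g₂).symm))
      (by exact (pullback.lift_fst_assoc _ _ _ _).trans (Over.w g₁))
    have e₁ : g ≫ p₁ = g₁ := Over.OverMorphism.ext (pullback.lift_fst _ _ _)
    have e₂ : g ≫ p₂ = g₂ := Over.OverMorphism.ext (pullback.lift_snd _ _ _)
    obtain ⟨l, hl⟩ := (hC T g).1 (by rw [hY₁, hY₂, QuotSchLib.hilbPull_comp, QuotSchLib.hilbPull_comp, e₁, e₂, hg₁, hg₂]; exact hV)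
    let L : T ⟶ D := Over.homMk l (by exact (Category.assoc l cC _).symm.trans ((congrArg (· ≫ HH.hom) hl).trans (Over.w g)))
    have hL : L ≫ q = g := Over.OverMorphism.ext hl
    have hcmp : ∀ L' : T ⟶ D, (FGA.hilbPull _ L' W₁.1 = FGA.hilbPull _ ((L' ≫ q) ≫ p₁) Z.1) ∧
        (FGA.hilbPull _ L' W₂.1 = FGA.hilbPull _ ((L' ≫ q) ≫ p₂) Z.1) := fun L' => by
      rw [hW₁, hW₂, hY₁, hY₂]
      simp only [QuotSchLib.hilbPull_comp, Category.assoc, and_self]
    refine ⟨L, ?_, fun L' hL' => ?_⟩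
    · show _ ∧ _
      rw [(hcmp L).1, (hcmp L).2, hL, e₁, e₂]
      exact ⟨hg₁, hg₂⟩
    · have h₁ := hu₁ _ ((hcmp L').1.symm.trans hL'.1)
      have h₂ := hu₂ _ ((hcmp L').2.symm.trans hL'.2)
      apply Over.OverMorphism.ext
      rw [← cancel_mono cC]
      refine Eq.trans ?_ hl.symm
      apply pullback.hom_ext
      · exact (congrArg CommaMorphism.left h₁).trans (pullback.lift_fst _ _ _).symm
      · exact (congrArg CommaMorphism.left h₂).trans (pullback.lift_snd _ _ _).symm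
  · let J : ∀ ab : ι × ι, pullback (j ab.1 ≫ H.hom) (j ab.2 ≫ H.hom) ⟶ HH.left := fun ab =>
      pullback.map _ _ _ _ (j ab.1) (j ab.2) (𝟙 _) (Category.comp_id _) (Category.comp_id _)
    haveI : ∀ ab, IsOpenImmersion (J ab) := fun ab => by
      show IsOpenImmersion (pullback.map _ _ _ _ _ _ _ _ _)
      infer_instance
    let PP : ι × ι → Scheme.{u} := fun ab => pullback cC (J ab)
    let fs : ∀ ab, PP ab ⟶ C := fun ab => pullback.fst cC (J ab)
    haveI hfs : ∀ ab, IsOpenImmersion (fs ab) := fun ab => inferInstanceAs (IsOpenImmersion (pullback.fst cC (J ab)))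
    have hrange : ∀ ab (z : C), z ∈ Set.range (fs ab) ↔
        pullback.fst H.hom H.hom (cC z) ∈ Set.range (j ab.1) ∧ pullback.snd H.hom H.hom (cC z) ∈ Set.range (j ab.2) :=
      fun ab z => by
      show z ∈ Set.range (pullback.fst cC (J ab)) ↔ _
      rw [Scheme.Pullback.range_fst, Set.mem_preimage]
      have hr := Scheme.Pullback.range_map (f := j ab.1 ≫ H.hom) (g := j ab.2 ≫ H.hom) (f' := H.hom) (g' := H.hom)
        (j ab.1) (j ab.2) (𝟙 _) (Category.comp_id _) (Category.comp_id _)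
      exact Iff.of_eq (congrArg (cC z ∈ ·) hr)
    have hcov : ⨆ ab, (fs ab).opensRange = ⊤ := eq_top_iff.2 fun z _ => TopologicalSpace.Opens.mem_iSup.2
      ⟨((hjcov (pullback.fst H.hom H.hom (cC z))).choose, (hjcov (pullback.snd H.hom H.hom (cC z))).choose),
        (hrange _ z).2 ⟨(hjcov (pullback.fst H.hom H.hom (cC z))).choose_spec,
          (hjcov (pullback.snd H.hom H.hom (cC z))).choose_spec⟩⟩
    have hdis : Pairwise (Function.onFun Disjoint fun ab => (fs ab).opensRange) := fun ab cd hne => by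
      refine disjoint_iff_inf_le.2 fun z hz => ?_
      obtain ⟨h1, h2⟩ := (hrange ab z).1 hz.1
      obtain ⟨h3, h4⟩ := (hrange cd z).1 hz.2
      by_cases h : ab.1 = cd.1
      · exact (hjdis ab.2 cd.2 (fun h' => hne (Prod.ext h h')) _ h2 h4).elim
      · exact (hjdis ab.1 cd.1 h _ h1 h3).elim
    obtain ⟨hco⟩ := nonempty_isColimit_cofanMk_of fs hcov hdis
    refine ⟨ι × ι, PP, (coproductIsCoproduct PP).coconePointUniqueUpToIso hco,
      fun ab => m ab.1 * m ab.2 + m ab.1 + m ab.2,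
      fun ab => pullback.snd cC (J ab) ≫ pullback.map _ _ _ _ (c ab.1) (c ab.2) (𝟙 _)
        ((Category.comp_id _).trans (hjH ab.1).symm) ((Category.comp_id _).trans (hjH ab.2).symm) ≫
          ChowLib.segre B (m ab.1) (m ab.2), fun ab => ?_⟩
    haveI := (hc ab.1).1
    haveI := (hc ab.2).1
    haveI hm : IsClosedImmersion (pullback.map (j ab.1 ≫ H.hom) (j ab.2 ≫ H.hom)
        (CohB1.ProjSpaceOver.toBase (m ab.1) B) (CohB1.ProjSpaceOver.toBase (m ab.2) B) (c ab.1) (c ab.2) (𝟙 _)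
        ((Category.comp_id _).trans (hjH ab.1).symm) ((Category.comp_id _).trans (hjH ab.2).symm)) :=
      MorphismProperty.pullbackMap (P := @IsClosedImmersion) (hc ab.1).1 (hc ab.2).1 ((hjH ab.1).symm.trans (by simp)) ((hjH ab.2).symm.trans (by simp))
    haveI : IsClosedImmersion (ChowLib.segre B (m ab.1) (m ab.2)) := ChowLib.isClosedImmersion_segre B _ _
    refine ⟨inferInstance, ?_⟩
    rw [← Category.assoc (Limits.Sigma.ι PP ab),
      show Limits.Sigma.ι PP ab ≫ ((coproductIsCoproduct PP).coconePointUniqueUpToIso hco).hom = fs ab from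
        IsColimit.comp_coconePointUniqueUpToIso_hom (coproductIsCoproduct PP) hco ⟨ab⟩]
    show _ = pullback.fst cC (J ab) ≫ cC ≫ pullback.fst H.hom H.hom ≫ H.hom
    rw [reassoc_of% (pullback.condition (f := cC) (g := J ab))]
    simp only [Category.assoc, J, pullback.lift_fst_assoc, ChowLib.segre_toBase]
    rw [hjH ab.1]

end Groth.Agent.S11304
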