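import Groth.Statements.S11306
import Mathlib.RingTheory.LocalRing.Module
-- import your own Groth.Agent.* helpers here

set_option autoImplicit false
universe u
open TensorProduct
open CAlg

namespace Groth.Agent.S11306

/-- Take a Noetherian local domain A, with residue field k and fraction field K, and let M be a finitely
generated A-module. If k ⊗_A M and K ⊗_A M have the same dimension r (over k and over K
respectively), then M is a free A-module of rank r. -/
theorem result (A : Type u) [CommRing A] [IsDomain A]
    [IsNoetherianRing A] [IsLocalRing A] (M : Type u) [AddCommGroup M] [Module A M] [Module.Finite A M] (r : ℕ)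
    (hk : Module.finrank (IsLocalRing.ResidueField A) (IsLocalRing.ResidueField A ⊗[A] M) = r)
    (hK : Module.finrank (FractionRing A) (FractionRing A ⊗[A] M) = r) :
    Module.Free A M ∧ Module.finrank A M = r := by
  classical
  let b := Module.finBasisOfFinrankEq _ _ hk
  choose x hx using fun i => TensorProduct.mk_surjective A M (IsLocalRing.ResidueField A) Ideal.Quotient.mk_surjective (b i)
  have hspan := IsLocalRing.span_eq_top_of_tmul_eq_basis x b hx
  let π : (Fin r → A) →ₗ[A] M := Fintype.linearCombination A x
  have hπ : Function.Surjective π := by
    rw [← LinearMap.range_eq_top, Fintype.range_linearCombination]; exact hspan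
  have hK' : Function.Surjective (π.baseChange (FractionRing A)) := LinearMap.lTensor_surjective _ hπ
  have hinjK : Function.Injective (π.baseChange (FractionRing A)) := by
    refine (LinearMap.injective_iff_surjective_of_finrank_eq_finrank ?_).mpr hK'
    rw [hK, Module.finrank_baseChange, Module.finrank_fin_fun]
  have hinj : Function.Injective π := by
    rw [injective_iff_map_eq_zero]
    intro v hv
    have h0 : (1 : FractionRing A) ⊗ₜ[A] v = 0 := hinjK (by simp [hv])
    funext i
    refine IsFractionRing.injective A (FractionRing A) ?_
    have := congr_fun (congr_arg (TensorProduct.piScalarRight A (FractionRing A) (FractionRing A) (Fin r)) h0) i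
    simpa [Algebra.smul_def] using this
  let e := LinearEquiv.ofBijective π ⟨hinj, hπ⟩
  exact ⟨Module.Free.of_equiv e, e.finrank_eq.symm.trans (Module.finrank_fin_fun A)⟩

end Groth.Agent.S11306
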