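import Groth.Statements.S1131
import Mathlib.AlgebraicGeometry.EffectiveEpi
import Mathlib.AlgebraicGeometry.Sites.Fpqc
import Mathlib.CategoryTheory.EffectiveEpi.Basic
-- import your own Groth.Agent.* helpers here

set_option autoImplicit false
open CategoryTheory CategoryTheory.Limits AlgebraicGeometry Opposite
universe u
open Desc

namespace Groth.Agent.S1131

/-- If p : X ⟶ S is surjective, flat and quasi-compact, then the functor sending a scheme over S to its
canonical descent datum relative to p is full. (Faithfulness, which needs no quasi-compactness, is a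
companion statement.) (Descent data are taken in functor-of-points form, equivalent by the Yoneda
lemma to the usual form of an isomorphism over X ×_S X satisfying the cocycle condition.) -/
theorem result {X S : Scheme.{u}} (p : X ⟶ S) [Surjective p] [Flat p] [QuasiCompact p] :
    (Desc.toDD p).Full := by
  refine ⟨fun {U U'} φ => ?_⟩
  let q := pullback.snd p U.hom
  haveI : EffectiveEpi q := inferInstance
  let e := φ.hom.left ≫ pullback.snd p U'.hom
  have hw : φ.hom.left ≫ pullback.fst p U'.hom = pullback.fst p U.hom := Over.w φ.hom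
  have he : ∀ {Z : Scheme.{u}} (g₁ g₂ : Z ⟶ pullback p U.hom), g₁ ≫ q = g₂ ≫ q → g₁ ≫ e = g₂ ≫ e := by
    intro Z g₁ g₂ hg
    let x₀ := g₁ ≫ pullback.fst p U.hom
    let x₁ := g₂ ≫ pullback.fst p U.hom
    have hx : x₀ ≫ p = x₁ ≫ p := by
      simp only [x₀, x₁, Category.assoc, pullback.condition]
      exact (Category.assoc _ _ _).symm.trans ((congrArg (· ≫ U.hom) hg).trans (Category.assoc _ _ _))
    have hc := φ.comm x₀ x₁ hx ⟨g₁, rfl⟩ ⟨g₁ ≫ φ.hom.left, by
      show (g₁ ≫ φ.hom.left) ≫ pullback.fst p U'.hom = x₀
      erw [Category.assoc, hw]⟩ rfl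
    have h1 : (((Desc.toDD p).obj U).φ x₀ x₁ hx ⟨g₁, rfl⟩).1 = g₂ :=
      pullback.hom_ext (pullback.lift_fst _ _ _) ((pullback.lift_snd _ _ _).trans hg)
    rw [h1] at hc
    have hc' := congrArg (· ≫ pullback.snd p U'.hom) hc
    change pullback.lift _ _ _ ≫ pullback.snd p U'.hom = _ at hc'
    rw [pullback.lift_snd] at hc'
    exact (Category.assoc _ _ _).symm.trans (hc'.trans (Category.assoc _ _ _))
  let g := EffectiveEpi.desc q e he
  have hg : q ≫ g = e := EffectiveEpi.fac q e he
  have hgU : g ≫ U'.hom = U.hom := by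
    rw [← cancel_epi q, ← Category.assoc, hg]
    show (φ.hom.left ≫ pullback.snd p U'.hom) ≫ U'.hom = _
    erw [Category.assoc, ← pullback.condition, ← Category.assoc, hw, pullback.condition]
  refine ⟨Over.homMk g hgU, ?_⟩
  apply Desc.SchDD.hom_ext
  apply Over.OverMorphism.ext
  refine pullback.hom_ext ((pullback.lift_fst _ _ _).trans ?_) ((pullback.lift_snd _ _ _).trans hg)
  exact (Category.comp_id _).trans hw.symm


end Groth.Agent.S1131
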