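import Groth.Statements.S11317
import Groth.Agent.AdjFormLib.SmoothDual
import Groth.Agent.WedgeLib.Pairing
import Groth.Agent.ExtTopLib.Top
import Groth.Agent.S11316

set_option autoImplicit false
universe u
open CategoryTheory CategoryTheory.Limits AlgebraicGeometry
open ProjDual

set_option backward.isDefEq.respectTransparency false

namespace Groth.Agent.S11317

/-- Let k be an algebraically closed field and X a nonsingular projective variety of dimension n over k
— an integral k-scheme, smooth of relative dimension n over k, with a closed immersion into some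
P^N_k over k. Let p, q ≤ n and let L and L' be O_X-modules which are a p-th, respectively an
(n-p)-th, exterior power of the sheaf of differentials of X over k. Then H^q(X, L) and H^(n-q)(X,
L') have the same dimension over k: h^q(Ω^p) = h^(n-q)(Ω^(n-p)). (The published statement gives a
natural isomorphism of H^q(X, Ω^p) with the dual of H^(n-q)(X, Ω^(n-p)); this row records the
equality of dimensions.) -/
theorem result (k : Type u) [Field k] [IsAlgClosed k] (n N : ℕ)
    (X : Scheme.{u}) [X.Over (Spec (CommRingCat.of k))] [IsIntegral X]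
    [SmoothOfRelativeDimension n (X ↘ Spec (CommRingCat.of k))]
    (ι : X ⟶ CohB1.ProjSpace N k) [IsClosedImmersion ι] (hι : ι ≫ CohB1.ProjSpace.toSpec N k = X ↘ Spec (CommRingCat.of k))
    (p q : ℕ) (hp : p ≤ n) (hq : q ≤ n) (L L' : X.Modules)
    (hL : ExtPow.IsExtPow p (Omega.sheaf (X ↘ Spec (CommRingCat.of k))) L)
    (hL' : ExtPow.IsExtPow (n - p) (Omega.sheaf (X ↘ Spec (CommRingCat.of k))) L') :
    Module.finrank k (Coh.HH X L q) = Module.finrank k (Coh.HH X L' (n - q)) := by
  haveI : HasExt.{u} X.Modules := hasExt_of_enoughInjectives.{u} _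
  haveI : IsProper (CohB1.ProjSpace.toSpec N k) := ProjDegLib.toSpec_isProper k N
  haveI : IsProper (X ↘ Spec (CommRingCat.of k)) := by rw [← hι]; infer_instance
  haveI : IsLocallyNoetherian X := LocallyOfFiniteType.isLocallyNoetherian (X ↘ Spec (CommRingCat.of k))
  have hE := CohCmpLib.rank_omega (X ↘ Spec (CommRingCat.of k)) n
  obtain ⟨W, hW⟩ := ExtTopLib.exists_isExtPow hE
  obtain ⟨D, rfl, hDs⟩ := AdjFormLib.nonempty_dualData_smooth k N n X ι hι W hW
  have hLr := GrassSch.rank_extPow hE hL
  have hLc : Coh.IsCoh L := CurvLib.isCoh_of_locFree hLr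
  haveI := hLc.1
  obtain ⟨w⟩ := WedgeLib.nonempty_iso_homMod hE (Nat.sub_add_cancel hp) hL hL' hW
  obtain ⟨e₁⟩ := PnDualLib.nonempty_extX_dual D L hLc (n - q) (Nat.sub_le n q)
    ((Nat.sub_le n q).trans_eq hDs.symm)
  obtain ⟨e₂⟩ := PnDualLib.nonempty_ext_homMod (SeesawLib.isFinLocFree_of_rank hLr) k (n - q) D.ω
  rw [Nat.sub_sub_self hq] at e₁
  haveI : Module.Finite k (Coh.HH X L q) := CurvLib.finite_HH hLc q
  rw [← Subspace.dual_finrank_eq (K := k) (V := Coh.HH X L q)]
  exact (e₁.symm ≪≫ₗ e₂ ≪≫ₗ (PnDualLib.hMapIso k w (n - q)).symm).finrank_eq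

end Groth.Agent.S11317
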