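import Groth.Statements.S11321
import Mathlib
import Groth.Agent.S4667
import Groth.Agent.QuotSchLib.Regular
import Groth.Agent.DimIneqLib.Dim
import Groth.Agent.WeilExtLib.Codim
-- import your own Groth.Agent.* helpers here

set_option autoImplicit false
universe u
open CategoryTheory CategoryTheory.Limits AlgebraicGeometry
open FlatMor

namespace Groth.Agent.S11321

/-- Flat limits over a curve: let Y be a locally Noetherian integral scheme of dimension one all of
whose local rings are regular local rings, P a closed point of Y with open complement U, V = P^n_U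
the inverse image of U in P^n_Y, and X a closed subscheme of V (a closed immersion i : X → V) which
is flat over Y, equivalently over U. Then X extends to a closed subscheme X' of P^n_Y which is flat
over Y and whose restriction to V is X — there are a closed immersion i' : X' → P^n_Y with X' → Y
flat and a morphism j : X → X' making X the fibre product of X' and V over P^n_Y — and such an
extension is unique: for any second one (X'', i'', j'') there is an isomorphism X' ≅ X'' over P^n_Y.
(The published statement does not say that Y is locally Noetherian; the printed argument, through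
associated points and the scheme-theoretic closure, uses it, and this row assumes it.) -/
theorem result
    {Y : Scheme.{u}} [IsIntegral Y] [IsLocallyNoetherian Y] (hreg : ∀ y : Y, IsRegularLocalRing (Y.presheaf.stalk y))
    (hY : topologicalKrullDim ↥Y = 1) (P : Y) (U : Y.Opens) (hU : (U : Set ↥Y) = {P}ᶜ) (n : ℕ)
    (X : Scheme.{u}) (i : X ⟶ ↑(CohB1.ProjSpaceOver.toBase n Y ⁻¹ᵁ U)) [IsClosedImmersion i]
    [Flat (i ≫ (CohB1.ProjSpaceOver.toBase n Y ⁻¹ᵁ U).ι ≫ CohB1.ProjSpaceOver.toBase n Y)] :
    ∃ (X' : Scheme.{u}) (i' : X' ⟶ CohB1.ProjSpaceOver n Y) (j : X ⟶ X'),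
      IsClosedImmersion i' ∧ Flat (i' ≫ CohB1.ProjSpaceOver.toBase n Y) ∧
      IsPullback j i i' (CohB1.ProjSpaceOver.toBase n Y ⁻¹ᵁ U).ι ∧
      ∀ (X'' : Scheme.{u}) (i'' : X'' ⟶ CohB1.ProjSpaceOver n Y) (j'' : X ⟶ X''),
        IsClosedImmersion i'' → Flat (i'' ≫ CohB1.ProjSpaceOver.toBase n Y) →
        IsPullback j'' i i'' (CohB1.ProjSpaceOver.toBase n Y ⁻¹ᵁ U).ι →
        ∃ e : X' ≅ X'', e.hom ≫ i'' = i' := by
  let p := CohB1.ProjSpaceOver.toBase n Y
  let V := p ⁻¹ᵁ U
  haveI : IsProper p := ChowLib.isProper_toBase n Y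
  haveI := QuotSchLib.isLocallyNoetherian_projSpaceOver n Y
  haveI : IsLocallyNoetherian X := LocallyOfFiniteType.isLocallyNoetherian i
  let g := i ≫ V.ι
  haveI : QuasiCompact g := inferInstance
  -- uniqueness: a flat closed subscheme is the image of its trace on `V`
  have hUne : (U : Set ↥Y).Nonempty := by
    rw [Set.nonempty_iff_ne_empty, hU, Ne, Set.compl_empty_iff]
    intro h
    haveI : Subsingleton ↥Y := ⟨fun a b => by
      have ha : a ∈ ({P} : Set ↥Y) := h ▸ Set.mem_univ a
      have hb : b ∈ ({P} : Set ↥Y) := h ▸ Set.mem_univ b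
      exact ha.trans hb.symm⟩
    have h0 := topologicalKrullDim_zero_of_discreteTopology ↥Y
    rw [hY] at h0
    exact absurd h0 (by decide)
  have hkerU : U.ι.ker = ⊥ := by
    have hsurj : Surjective U.ι.ker.subschemeι := by
      refine ⟨fun t => ?_⟩
      have : t ∈ (U.ι.ker.support : Set ↥Y) := by
        rw [Scheme.Hom.support_ker, Scheme.Opens.range_ι]
        exact (U.2.dense hUne) t
      rwa [← Scheme.IdealSheafData.range_subschemeι] at this
    haveI : IsIso U.ι.ker.subschemeι := isIso_of_isClosedImmersion_of_surjective _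
    rw [← Scheme.IdealSheafData.ker_subschemeι U.ι.ker, Scheme.Hom.ker_eq_bot_of_isIso]
  have hVpb : IsPullback V.ι (p ∣_ U) p U.ι := (isPullback_morphismRestrict p U).flip
  refine ⟨g.image, g.imageι, g.toImage, inferInstance, ?_, ?_, fun X'' i'' j'' hi'' hfl'' hpb'' => ?_⟩
  · -- flatness over `Y`
    rw [HasRingHomProperty.iff_appLE (P := @Flat)]
    intro W T e
    haveI : Nonempty W.1 ∨ IsEmpty W.1 := (isEmpty_or_nonempty W.1).symm
    rcases isEmpty_or_nonempty W.1 with hWe | hWne
    · haveI : Subsingleton Γ(g.image, T.1) := by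
        have hT : T.1 = ⊥ := by
          ext t
          simp only [TopologicalSpace.Opens.coe_bot, Set.mem_empty_iff_false, iff_false]
          intro ht
          exact hWe.false ⟨_, e ht⟩
        rw [hT]
        infer_instance
      letI := ((g.imageι ≫ p).appLE W.1 T.1 e).hom.toAlgebra
      exact Module.Flat.of_projective
    let h := g.imageι ≫ p
    let a := (h.appLE W.1 T.1 e).hom
    letI := a.toAlgebra
    show Module.Flat Γ(Y, W.1) Γ(g.image, T.1)
    rw [Module.Flat.flat_iff_torsion_eq_bot_of_valuationRing_localization_isMaximal]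
    swap
    · intro Q hQ
      let y : W.1 := ⟨W.2.fromSpec ⟨Q, hQ.isPrime⟩, by
        have : W.2.fromSpec ⟨Q, hQ.isPrime⟩ ∈ Set.range W.2.fromSpec := ⟨_, rfl⟩
        rwa [W.2.range_fromSpec] at this⟩
      letI := TopCat.Presheaf.algebra_section_stalk Y.presheaf y
      have hloc := W.2.isLocalization_stalk' ⟨Q, hQ.isPrime⟩ y.2
      let eS : Localization Q.primeCompl ≃ₐ[Γ(Y, W.1)] Y.presheaf.stalk (y : ↥Y) :=
        @IsLocalization.algEquiv _ _ Q.primeCompl (Localization Q.primeCompl) _ _ _ _ _ _ hloc
      haveI := hreg (y : ↥Y)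
      haveI : ValuationRing (Y.presheaf.stalk (y : ↥Y)) := by
        have hd : ringKrullDim (Y.presheaf.stalk (y : ↥Y)) ≤ 1 :=
          (DimIneqLib.stalk_dim_le_dim (y : ↥Y)).trans hY.le
        by_cases hf : IsField (Y.presheaf.stalk (y : ↥Y))
        · letI := hf.toField
          exact ValuationRing.of_field _
        · haveI := WeilExtLib.isDiscreteValuationRing_of_regular _ hd hf
          infer_instance
      exact eS.symm.toRingEquiv.surjective.valuationRing eS.symm.toRingEquiv.toRingHom
    rw [eq_bot_iff]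
    rintro x ⟨⟨b, hb⟩, hbx⟩
    change a b * x = 0 at hbx
    have hb0 : b ≠ 0 := nonZeroDivisors.ne_zero hb
    rw [Submodule.mem_bot]
    have hinj : Function.Injective (g.toImage.app T.1) := by
      intro u v huv
      refine TopCat.Presheaf.section_ext g.image.sheaf T.1 u v fun s hs => ?_
      refine g.stalkFunctor_toImage_injective s ?_
      have h' := congrArg (fun z => ((TopCat.Presheaf.pushforward _ g.toImage.base).obj X.presheaf).germ T.1 s hs z) huv
      exact (TopCat.Presheaf.stalkFunctor_map_germ_apply T.1 s hs g.toImage.c u).trans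
        (h'.trans (TopCat.Presheaf.stalkFunctor_map_germ_apply T.1 s hs g.toImage.c v).symm)
    refine hinj ?_
    rw [map_zero]
    refine TopCat.Presheaf.section_ext X.sheaf _ _ 0 fun z hz => ?_
    obtain ⟨Z, hZ, hzZ, hZT⟩ := exists_isAffineOpen_mem_and_subset (x := z) (U := g.toImage ⁻¹ᵁ T.1) hz
    suffices hres : X.presheaf.map (homOfLE hZT).op (g.toImage.app T.1 x) = 0 by
      show X.presheaf.germ (g.toImage ⁻¹ᵁ T.1) z hz (g.toImage.app T.1 x) = X.presheaf.germ (g.toImage ⁻¹ᵁ T.1) z hz 0
      rw [map_zero]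
      exact ((X.presheaf.germ_res_apply (homOfLE hZT) z hzZ _).symm.trans (congrArg (X.presheaf.germ Z z hzZ) hres)).trans (map_zero _)
    have hfl : Flat (g.toImage ≫ h) := by
      simp only [h, ← Category.assoc, Scheme.Hom.toImage_imageι]
      simpa only [g, Category.assoc] using (inferInstance : Flat (i ≫ V.ι ≫ p))
    have hb' : (g.toImage ≫ h).appLE W.1 Z (hZT.trans (g.toImage.preimage_mono e)) b *
        X.presheaf.map (homOfLE hZT).op (g.toImage.app T.1 x) = 0 := by
      have h1 := congrArg (fun z => X.presheaf.map (homOfLE hZT).op (g.toImage.app T.1 z)) hbx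
      simp only [map_mul, map_zero] at h1
      rw [← Scheme.Hom.appLE_comp_appLE g.toImage h W.1 T.1 Z e hZT]
      exact h1
    generalize X.presheaf.map (homOfLE hZT).op (g.toImage.app T.1 x) = x'' at hb' ⊢
    let c := ((g.toImage ≫ h).appLE W.1 Z (hZT.trans (g.toImage.preimage_mono e))).hom
    letI := c.toAlgebra
    haveI : Module.Flat Γ(Y, W.1) Γ(X, Z) :=
      HasRingHomProperty.appLE @Flat _ hfl ⟨W.1, W.2⟩ ⟨Z, hZ⟩ _
    have h0 : b • x'' = 0 := hb'
    have ht := Module.Flat.torsion_eq_bot (R := Γ(Y, W.1)) (M := Γ(X, Z))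
    have hm : x'' ∈ Submodule.torsion Γ(Y, W.1) Γ(X, Z) := ⟨⟨b, hb⟩, h0⟩
    rw [ht] at hm
    exact (Submodule.mem_bot _).1 hm
  · -- restriction to `V`
    have h1 : i.ker = g.ker.comap V.ι := by
      rw [← Groth.Agent.S4667.result g V.ι]
      have hsq : IsPullback (𝟙 X) i g V.ι := by
        have h0 := (IsPullback.id_horiz i).paste_vert
          (IsKernelPair.id_of_mono V.ι).flip
        erw [Category.comp_id] at h0
        exact h0
      rw [← hsq.isoPullback_inv_snd, Scheme.Hom.ker_comp_of_isIso]
    haveI : IsClosedImmersion (pullback.snd g.imageι V.ι) := inferInstance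
    let t : X ⟶ pullback g.imageι V.ι := pullback.lift g.toImage i (g.toImage_imageι)
    have ht : t ≫ pullback.snd g.imageι V.ι = i := pullback.lift_snd _ _ _
    have hk : (pullback.snd g.imageι V.ι).ker = g.ker.comap V.ι := by
      rw [← pullbackSymmetry_hom_comp_fst, Scheme.Hom.ker_comp_of_isIso, Scheme.IdealSheafData.ker_fst_of_isClosedImmersion,
        Scheme.IdealSheafData.ker_subschemeι]
    haveI : IsIso t := by
      haveI : IsClosedImmersion (t ≫ pullback.snd g.imageι V.ι) := by rw [ht]; infer_instance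
      haveI : IsClosedImmersion t := IsClosedImmersion.of_comp t (pullback.snd g.imageι V.ι)
      let l := IsClosedImmersion.lift i (pullback.snd g.imageι V.ι) (h1.trans hk.symm).le
      have hl : l ≫ i = pullback.snd g.imageι V.ι := IsClosedImmersion.lift_fac _ _ _
      exact ⟨l, by rw [← cancel_mono i, Category.assoc, hl, ht, Category.id_comp],
        by rw [← cancel_mono (pullback.snd g.imageι V.ι), Category.assoc, ht, hl, Category.id_comp]⟩
    exact IsPullback.of_iso (IsPullback.of_hasPullback g.imageι V.ι) (asIso t).symm (Iso.refl _) (Iso.refl _) (Iso.refl _)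
      (by simp [t]; exact pullback.lift_fst _ _ _) (by simp [ht]) (by simp) (by simp; rfl)
  · -- uniqueness
    haveI := hi''
    haveI := hfl''
    have hj : IsPullback j'' (i ≫ p ∣_ U) (i'' ≫ p) U.ι := hpb''.paste_vert hVpb
    have hk : j''.ker = ⊥ := by
      rw [← hj.isoPullback_hom_fst, Scheme.Hom.ker_comp_of_isIso, ← pullbackSymmetry_hom_comp_snd,
        Scheme.Hom.ker_comp_of_isIso, Groth.Agent.S4667.result U.ι (i'' ≫ p), hkerU]
      rw [Scheme.IdealSheafData.comap_bot]
    have hker : g.ker = i''.ker := by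
      show (i ≫ V.ι).ker = _
      rw [← hpb''.w, ← Scheme.IdealSheafData.map_ker, hk, Scheme.IdealSheafData.map_bot]
    let l₁ := IsClosedImmersion.lift i'' g.imageι (by rw [Scheme.IdealSheafData.ker_subschemeι, hker])
    let l₂ := IsClosedImmersion.lift g.imageι i'' (by rw [Scheme.IdealSheafData.ker_subschemeι, hker])
    have hl₁ : l₁ ≫ i'' = g.imageι := IsClosedImmersion.lift_fac _ _ _
    have hl₂ : l₂ ≫ g.imageι = i'' := IsClosedImmersion.lift_fac _ _ _
    exact ⟨⟨l₁, l₂, by rw [← cancel_mono g.imageι, Category.assoc, hl₂, hl₁, Category.id_comp],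
      by rw [← cancel_mono i'', Category.assoc, hl₁, hl₂, Category.id_comp]⟩, hl₁⟩

end Groth.Agent.S11321
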