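import Groth.Statements.S11328
import Groth.Agent.HomRestrLib.Basic
import Groth.Agent.PerfCompLib.LocalNull
import Groth.Agent.ExtShLib.Hcx

set_option autoImplicit false
set_option backward.isDefEq.respectTransparency false
set_option backward.isDefEq.respectTransparency.types false
set_option maxHeartbeats 1000000
set_option linter.style.haveILetI false
open CategoryTheory.Limits
universe u
open CategoryTheory AlgebraicGeometry
open Coherent

namespace Groth.Agent.S11328

/-- Let X be a scheme, U an open subscheme, F and G O_X-modules and i ≥ 0. Then the restriction to U of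
the Ext sheaf Ext^i_X(F, G) — the i-th right derived functor of the internal Hom functor Hom(F, -)
on O_X-modules, evaluated at G — is isomorphic to the Ext sheaf Ext^i_U(F|_U, G|_U) formed on U.
(The internal Hom functors and injective resolutions on X and on U are the stated instance
hypotheses, all true; stated for schemes, the published statement being for ringed spaces; existence
of an isomorphism of O_U-modules.) -/
theorem result (X : Scheme.{u}) (U : X.Opens) (F G : X.Modules) (i : ℕ)
    [ModSite.HasSheafHom (O := X.sheaf) F] [HasInjectiveResolutions (ModSite.Mod X.sheaf)]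
    [ModSite.HasSheafHom (O := (↑U : Scheme.{u}).sheaf) (F.restrict U.ι)]
    [HasInjectiveResolutions (ModSite.Mod (↑U : Scheme.{u}).sheaf)] :
    Nonempty ((Scheme.Modules.restrictFunctor U.ι).obj ((ModSite.extSh (O := X.sheaf) F i).obj G) ≅
      (ModSite.extSh (O := (↑U : Scheme.{u}).sheaf) (F.restrict U.ι) i).obj (G.restrict U.ι)) := by
  haveI : HasInjectiveResolutions X.Modules := ‹HasInjectiveResolutions (ModSite.Mod X.sheaf)›
  let R := Scheme.Modules.restrictFunctor U.ι
  haveI : R.IsRightAdjoint := (CxOX.extZeroAdj U.ι).isRightAdjoint
  haveI : R.IsLeftAdjoint := (Scheme.Modules.restrictAdjunction U.ι).isLeftAdjoint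
  haveI : R.Additive := (Scheme.Modules.restrictAdjunction U.ι).left_adjoint_additive
  haveI : PreservesFiniteLimits R := PreservesLimits.preservesFiniteLimits R
  haveI : PreservesFiniteColimits R := PreservesColimits.preservesFiniteColimits R
  let I := InjectiveResolution.of G
  let C' := (R.mapHomologicalComplex (ComplexShape.up ℕ))
  haveI : QuasiIso (C'.map I.ι) := inferInstance
  let I' : InjectiveResolution (G.restrict U.ι) :=
    { cocomplex := C'.obj I.cocomplex
      injective := fun n => PerfCompLib.injective_restrict (U := U) (I.cocomplex.X n)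
      ι := ((HomologicalComplex.singleMapHomologicalComplex R (ComplexShape.up ℕ) 0).app G).inv ≫ C'.map I.ι }
  obtain ⟨e⟩ := ExtShLib.nonempty_extSh_iso I F i
  obtain ⟨e'⟩ := ExtShLib.nonempty_extSh_iso I' (F.restrict U.ι) i
  let σ := HomRestrLib.restrHomFun U.ι F
  let β : C'.obj (ExtShLib.hcx F I) ≅ ExtShLib.hcx (F.restrict U.ι) I' :=
    HomologicalComplex.Hom.isoOfComponents (fun k => σ.app _) fun k l _ => (σ.hom.naturality _).symm
  exact ⟨R.mapIso e ≪≫ (((ExtShLib.hcx F I).sc i).mapHomologyIso R).symm ≪≫
    (HomologicalComplex.homologyFunctor _ (ComplexShape.up ℕ) i).mapIso β ≪≫ e'.symm⟩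

end Groth.Agent.S11328
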