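import Groth.Statements.S11329
import Groth.Agent.InjModLib.TildeInj

set_option autoImplicit false
set_option backward.isDefEq.respectTransparency false
set_option backward.isDefEq.respectTransparency.types false
universe u
open CategoryTheory AlgebraicGeometry Opposite
open Coherent

namespace Groth.Agent.S11329

/-- Let A be a Noetherian ring and I an injective A-module. Then the quasi-coherent sheaf I~ on Spec A
associated with I is flasque: for all opens U ⊆ V of Spec A the restriction map I~(V) → I~(U) is
surjective. -/
theorem result (A : Type u) [CommRing A] [IsNoetherianRing A]
    (I : Type u) [AddCommGroup I] [Module A I] [Module.Injective A I]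
    (U V : (Spec (CommRingCat.of A)).Opens) (hUV : U ≤ V) :
    Function.Surjective ((tilde (ModuleCat.of A I)).val.map (homOfLE hUV).op).hom := by
  haveI : IsNoetherianRing (CommRingCat.of A) := ‹IsNoetherianRing A›
  haveI : Module.Injective (CommRingCat.of A) (ModuleCat.of A I) := ‹Module.Injective A I›
  haveI := InjModLib.injective_tilde (R := CommRingCat.of A) (ModuleCat.of A I)
  exact InjModLib.flasque_of_injective (X := Spec (CommRingCat.of A)) (tilde (ModuleCat.of A I)) hUV

end Groth.Agent.S11329
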