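import Groth.Statements.S11330
import Groth.Agent.GenusZeroLib.PointIdeal
import Groth.Agent.RRVanLib.GG
import Groth.Agent.ProjSecLib.Hyperplane
import Groth.Agent.NormalLib.Regular

set_option autoImplicit false
universe u
open CategoryTheory CategoryTheory.Limits AlgebraicGeometry
open Curves

namespace Groth.Agent.S11330

/-- Let k be an algebraically closed field and X a curve over k (an integral scheme, proper over k, of
dimension one, with all local rings regular), and L an invertible O_X-module. Then L is generated by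
its global sections (a quotient of a free O_X-module) if and only if for every closed point P of X,
with ideal sheaf I_P ⊆ O_X, dim_k H^0(X, L ⊗ I_P) = dim_k H^0(X, L) - 1. -/
theorem result (k : Type u) [Field k] [IsAlgClosed k] (X : Scheme.{u}) [X.Over (Spec (CommRingCat.of k))]
    [IsIntegral X] [IsProper (X ↘ (Spec (CommRingCat.of k)))] (hdim : topologicalKrullDim X = 1)
    (hreg : ∀ x : X, IsRegularLocalRing (X.presheaf.stalk x)) (L : X.Modules) (hL : PicF.IsInvertible L) :
    Curv2.IsGloballyGenerated L ↔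
      ∀ (P : X) (hP : IsClosed ({P} : Set X)),
        Module.finrank k (Coh.HH X (CohB1.tensorMod L (ClSub.idealMod (Scheme.IdealSheafData.vanishingIdeal ⟨{P}, hP⟩))) 0) + 1 = Module.finrank k (Coh.HH X L 0) := by
  classical
  haveI := CurvLib.isNoetherian k (X := X)
  have hn : ∀ x : X, IsIntegrallyClosed (X.presheaf.stalk x) := fun x =>
    haveI := hreg x
    NormalLib.isIntegrallyClosed_of_isRegularLocalRing _
  constructor
  · rintro ⟨ι, p, hp⟩ P hP
    obtain ⟨hdvr, hr⟩ := GenusZeroLib.closed_point_data (k := k) hdim hP (hn P)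
    refine (GenusZeroLib.finrank_h0_tensor_ptIdeal (k := k) hP hdim hr hL).1 ?_
    by_contra hne
    push Not at hne
    obtain ⟨L', q, hL', hq, hd, hrange⟩ := GenusZeroLib.exists_twist_down (k := k) hdim hP hL
    rw [hr] at hd
    haveI : Mono q := CurvLib.mono_of_ne_zero hL' hL hq
    let π := cokernel.π q
    have hs : ∀ s : Coh.structureModule X ⟶ L, s ≫ π = 0 := fun s => by
      refine ProjSecLib.eq_zero_of_sec _ ?_
      obtain ⟨t, ht⟩ := (hrange ⊤ (ProjSecLib.sec s ⊤)).mpr fun _ => hne _
      exact (congrArg (π.app ⊤) ht.symm).trans (congrArg (fun f => f.app ⊤ t) (cokernel.condition q))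
    have hpi : p ≫ π = 0 := by
      refine Limits.Sigma.hom_ext _ _ fun i => ?_
      refine ((Category.assoc _ _ _).symm.trans (hs _)).trans Limits.comp_zero.symm
    have hπ : π = 0 := (cancel_epi p).mp (hpi.trans Limits.comp_zero.symm)
    haveI : Epi q := Abelian.epi_of_cokernel_π_eq_zero q hπ
    haveI : IsIso q := isIso_of_mono_of_epi q
    have he := CurvLib.deg_congr (k := k) (asIso q) 1
    omega
  · intro h
    have hgen : ∀ x : X, IsClosed ({x} : Set X) →
        ∃ σ : Γ(L, ⊤), AmpleLib.GenAt L σ (show x ∈ (⊤ : X.Opens) from trivial) := by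
      intro x hx
      obtain ⟨hdvr, hr⟩ := GenusZeroLib.closed_point_data (k := k) hdim hx (hn x)
      by_contra hne
      push Not at hne
      have h2 := (GenusZeroLib.finrank_h0_tensor_ptIdeal (k := k) hx hdim hr hL).2 hne
      have h1 := h x hx
      exact Nat.succ_ne_self _ (h1.trans h2.symm)
    let P' : X.Modules := SheafOfModules.free (R := X.ringCatSheaf) Γ(L, ⊤)
    let p : P' ⟶ L := L.freeHomEquiv.symm fun s => QCohLib.toSections L s
    refine ⟨Γ(L, ⊤), p, Preadditive.epi_of_cancel_zero _ fun {N : X.Modules} (g : L ⟶ N) hg => ?_⟩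
    have hσ : ∀ σ : Γ(L, ⊤), g.app ⊤ σ = 0 := fun σ => by
      have h1 : QCohLib.unitHom L σ ≫ g = 0 := by
        rw [← QCohLib.ιFree_comp (fun s : Γ(L, ⊤) => s) σ]
        exact ((Category.assoc _ _ _).trans (congrArg (fun f => SheafOfModules.ιFree σ ≫ f) hg)).trans Limits.comp_zero
      have h2 := congrArg (fun f => f.app ⊤ (1 : Γ(X, ⊤))) h1
      change g.app ⊤ ((QCohLib.unitHom L σ).app ⊤ (1 : Γ(X, ⊤))) = 0 at h2
      rw [QCohLib.unitHom_app, one_smul] at h2
      exact (congrArg (g.app ⊤) (AmpleLib.res_refl L σ).symm).trans h2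
    obtain ⟨x₀, -, hx₀, -, -⟩ := GenusZeroLib.exists_good_point (k := k) hdim ⊤ ⟨genericPoint X, trivial⟩
    obtain ⟨σ₀, hσ₀⟩ := hgen x₀ hx₀
    have hne0 : σ₀ ≠ 0 := fun e => by
      rw [e] at hσ₀
      obtain ⟨U, w, hwU, hw⟩ := TwistLib.exists_genOn hL x₀
      obtain ⟨c, hc⟩ := hσ₀.2 (L.presheaf.germ U x₀ hwU w)
      dsimp only at hc
      rw [map_zero, smul_zero] at hc
      exact one_ne_zero ((hw.genAt hwU).1 (a₁ := (1 : X.presheaf.stalk x₀)) (a₂ := 0)
        (by dsimp only; rw [← hc, smul_zero, smul_zero]))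
    refine CurvLib.eq_zero_of_stalks g fun x => ?_
    obtain ⟨σ, hσx⟩ : ∃ σ : Γ(L, ⊤), AmpleLib.GenAt L σ (show x ∈ (⊤ : X.Opens) from trivial) := by
      by_cases hx : x ∈ TwistLib.genSet hL σ₀
      · exact ⟨σ₀, hx⟩
      · exact hgen x ((GenusZeroLib.finite_compl_genSet k hdim hL hne0).2 x hx)
    refine LinearMap.ext fun z => ?_
    obtain ⟨c, rfl⟩ := hσx.2 z
    refine (((DevissLib.St x).map g).hom.map_smul c _).trans ?_
    refine (congrArg (c • ·) ((DerSch.stalkFunctor_map_germ x g ⊤ trivial σ).trans ?_)).trans (smul_zero c)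
    rw [hσ σ, map_zero]
    rfl

end Groth.Agent.S11330
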