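import Groth.Statements.S11332
import Groth.Agent.RamifLib.Seq
import Groth.Agent.CurveH0Lib.Smooth
import Groth.Agent.S7640
import Groth.Agent.HypSqLib.Curve
import Groth.Agent.CurveDualLib.DualField

set_option autoImplicit false
universe u
open CategoryTheory CategoryTheory.Limits AlgebraicGeometry
open Curves

namespace Groth.Agent.S11332

/-- Let f : X → Y be a finite morphism over k of curves over an algebraically closed field k (integral,
proper over k, of dimension one, all local rings regular), sending the generic point of X to that of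
Y, such that the function field extension K(X)/K(Y) is separable; let n = [K(X) : K(Y)] be its
degree. Then 2 g(X) - 2 = n (2 g(Y) - 2) + deg R, where g denotes the genus dim_k H^1(O) and the
degree of the ramification divisor R = Σ_P length(Ω_{X/Y,P}) · P is written as dim_k H^0(X,
Ω_{X/Y}), Ω_{X/Y} being the (torsion) sheaf of relative differentials of f. -/
theorem result (k : Type u) [Field k] [IsAlgClosed k] (X : Scheme.{u}) [X.Over (Spec (CommRingCat.of k))]
    [IsIntegral X] [IsProper (X ↘ (Spec (CommRingCat.of k)))] (hdimX : topologicalKrullDim X = 1)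
    (hregX : ∀ x : X, IsRegularLocalRing (X.presheaf.stalk x))
    (Y : Scheme.{u}) [Y.Over (Spec (CommRingCat.of k))]
    [IsIntegral Y] [IsProper (Y ↘ (Spec (CommRingCat.of k)))] (hdimY : topologicalKrullDim Y = 1)
    (hregY : ∀ x : Y, IsRegularLocalRing (Y.presheaf.stalk x))
    (f : X ⟶ Y) [IsFinite f] (hf : f ≫ (Y ↘ (Spec (CommRingCat.of k))) = X ↘ (Spec (CommRingCat.of k)))
    (e : f (genericPoint X) = genericPoint Y) :
    letI := ((Y.presheaf.stalkSpecializes (specializes_of_eq e) ≫ f.stalkMap (genericPoint X)).hom).toAlgebra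
    Algebra.IsSeparable Y.functionField X.functionField →
      2 * (Curv2.genus k X : ℤ) - 2 =
        (f.residueDegree (genericPoint X) : ℤ) * (2 * (Curv2.genus k Y : ℤ) - 2) +
          (Module.finrank k (Coh.HH X (Omega.sheaf f) 0) : ℤ) := by
  intro hsep
  haveI := CurveH0Lib.smooth_of_regular k (X ↘ Spec (CommRingCat.of k)) hregX
  haveI := CurveH0Lib.smooth_of_regular k (Y ↘ Spec (CommRingCat.of k)) hregY
  haveI := HypSqLib.geomConn (k := k) (C := X)
  haveI := HypSqLib.geomConn (k := k) (C := Y)
  have hΩX := CurveDualLib.omega_invertible_field k X hdimX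
  have hΩY := CurveDualLib.omega_invertible_field k Y hdimY
  obtain ⟨c, hc, ⟨ec⟩⟩ := RamifLib.exists_hom f hf e hΩX hsep
  have h := CurvLib.euler_sub_eq_h0 (k := k) (AmpleDevLib.isInvertible_pb f hΩY) hΩX hdimX hc
  rw [(CurvLib.hIso (k := k) ec 0).finrank_eq] at h
  have dX := CurveDualLib.deg_omega k X hdimX
  have dY := CurveDualLib.deg_omega k Y hdimY
  have dp := Groth.Agent.S7640.result k X Y hdimX hdimY f hf e 1 _ (CurvLib.locFree_of_isInvertible hΩY)
  rw [dY] at dp
  simp only [Curv2.deg] at dX dp
  push_cast at dX dp h ⊢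
  linarith

end Groth.Agent.S11332
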