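import Groth.Statements.S11333
import Groth.Agent.CurveFFLib.Main
import Groth.Agent.S1561

set_option autoImplicit false
universe u
open CategoryTheory CategoryTheory.Limits AlgebraicGeometry
open Curves

namespace Groth.Agent.S11333

/-- Let f : X → Y be a finite morphism over k of curves over an algebraically closed field k (integral,
proper over k, of dimension one, all local rings regular), sending the generic point of X to that of
Y, such that the function field extension K(X)/K(Y) is purely inseparable. Then X and Y are
isomorphic as schemes (the isomorphism need not be compatible with the k-structures; existence of an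
isomorphism only). -/
theorem result (k : Type u) [Field k] [IsAlgClosed k] (X : Scheme.{u}) [X.Over (Spec (CommRingCat.of k))]
    [IsIntegral X] [IsProper (X ↘ (Spec (CommRingCat.of k)))] (hdimX : topologicalKrullDim X = 1)
    (hregX : ∀ x : X, IsRegularLocalRing (X.presheaf.stalk x))
    (Y : Scheme.{u}) [Y.Over (Spec (CommRingCat.of k))]
    [IsIntegral Y] [IsProper (Y ↘ (Spec (CommRingCat.of k)))] (hdimY : topologicalKrullDim Y = 1)
    (hregY : ∀ x : Y, IsRegularLocalRing (Y.presheaf.stalk x))
    (f : X ⟶ Y) [IsFinite f] (hf : f ≫ (Y ↘ (Spec (CommRingCat.of k))) = X ↘ (Spec (CommRingCat.of k)))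
    (e : f (genericPoint X) = genericPoint Y) :
    letI := ((Y.presheaf.stalkSpecializes (specializes_of_eq e) ≫ f.stalkMap (genericPoint X)).hom).toAlgebra
    IsPurelyInseparable Y.functionField X.functionField → Nonempty (X ≅ Y) := by
  intro hpi
  haveI : IsLocallyNoetherian X := LocallyOfFiniteType.isLocallyNoetherian (X ↘ (Spec (CommRingCat.of k)))
  haveI : IsLocallyNoetherian Y := LocallyOfFiniteType.isLocallyNoetherian (Y ↘ (Spec (CommRingCat.of k)))
  have hn : ∀ (Z : Scheme.{u}) [IsIntegral Z], (∀ z : Z, IsRegularLocalRing (Z.presheaf.stalk z)) →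
      Pi1.IsNormalScheme Z := fun Z _ h z => by
    haveI := h z
    exact ⟨inferInstance, NormalLib.isIntegrallyClosed_of_isRegularLocalRing _⟩
  rcases CharP.exists k with ⟨p, hp⟩
  haveI := hp
  rcases CharP.char_is_prime_or_zero k p with hpp | rfl
  · haveI : Fact p.Prime := ⟨hpp⟩
    haveI : ExpChar k p := ExpChar.prime hpp
    haveI : LocallyOfFinitePresentation (X ↘ (Spec (CommRingCat.of k))) :=
      inferInstance
    haveI : Smooth (X ↘ (Spec (CommRingCat.of k))) := by
      rw [← Scheme.Hom.smoothLocus_eq_top_iff]
      exact eq_top_iff.mpr fun x _ => ((Groth.Agent.S1561.result k X).1 x).mpr (hregX x)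
    obtain ⟨r, i, -⟩ := CurveFFLib.exists_iso_twist p hdimX hdimY.le (hn Y hregY) f hf e hpi
    haveI : IsIso (CommRingCat.ofHom (iterateFrobenius k p r)) :=
      (ConcreteCategory.isIso_iff_bijective _).mpr (bijective_iterateFrobenius k p r)
    exact ⟨(i ≪≫ asIso (pullback.fst (X ↘ Spec (CommRingCat.of k))
      (Spec.map (CommRingCat.ofHom (iterateFrobenius k p r))))).symm⟩
  · haveI : CharZero k := CharP.charP_to_charZero k
    letI := Curv2.stalkAlgebra k X (genericPoint X)
    haveI : CharZero X.functionField := charZero_of_injective_algebraMap (algebraMap k X.functionField).injective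
    letI := ((Y.presheaf.stalkSpecializes (specializes_of_eq e) ≫ f.stalkMap (genericPoint X)).hom).toAlgebra
    haveI : IsPurelyInseparable Y.functionField X.functionField := hpi
    haveI : CharZero Y.functionField :=
      ((algebraMap Y.functionField X.functionField).charZero_iff (RingHom.injective _)).mpr inferInstance
    have hs : Function.Surjective (algebraMap Y.functionField X.functionField) :=
      IsPurelyInseparable.surjective_algebraMap_of_isSeparable Y.functionField X.functionField
    obtain ⟨i, -, -⟩ := CurveFFLib.exists_iso_of_range_eq (Y ↘ (Spec (CommRingCat.of k))) (X ↘ (Spec (CommRingCat.of k)))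
      hdimY.le (hn Y hregY) hdimX.le (hn X hregX) f (𝟙 X) (by rw [hf, Category.id_comp]) e rfl (by
        refine (RingHom.range_eq_top.mpr hs).trans (RingHom.range_eq_top.mpr fun z => ⟨z, ?_⟩).symm
        simp)
    exact ⟨i.symm⟩

end Groth.Agent.S11333
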