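import Groth.Statements.S11334
import Groth.Agent.CurveDualLib.DualClosed
import Groth.Agent.S11330
import Groth.Agent.S1561
import Groth.Agent.FFLib.DegOne
-- import your own Groth.Agent.* helpers here

set_option autoImplicit false
universe u
open CategoryTheory CategoryTheory.Limits AlgebraicGeometry
open Curves

attribute [local instance] CurveDualLib.algFF

namespace Groth.Agent.S11334

/-- Let k be an algebraically closed field and X a curve over k (an integral scheme, proper over k, of
dimension one, with all local rings regular), of genus g = dim_k H^1(X, O_X) ≥ 2. Then the canonical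
sheaf Ω_{X/k} is generated by its global sections (the canonical linear system has no base points). -/
theorem result (k : Type u) [Field k] [IsAlgClosed k] (X : Scheme.{u}) [X.Over (Spec (CommRingCat.of k))]
    [IsIntegral X] [IsProper (X ↘ (Spec (CommRingCat.of k)))] (hdim : topologicalKrullDim X = 1)
    (hreg : ∀ x : X, IsRegularLocalRing (X.presheaf.stalk x)) (hg : 2 ≤ Curv2.genus k X) :
    Curv2.IsGloballyGenerated (Omega.sheaf (X ↘ (Spec (CommRingCat.of k)))) := by
  let p := X ↘ Spec (CommRingCat.of k)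
  haveI : IsNoetherian X := CurvLib.isNoetherian k
  haveI : LocallyOfFinitePresentation p := LocallyOfFinitePresentation.iff_locallyOfFiniteType.2 inferInstance
  haveI : Smooth p := p.smoothLocus_eq_top_iff.mp
    (eq_top_iff.mpr fun x _ => ((Groth.Agent.S1561.result k X).1 x).2 (hreg x))
  have hK := CurveDualLib.isFunctionField (k := k) (X := X) hdim
  have hΩ := CurveDualLib.omega_invertible (k := k) hdim
  refine (Groth.Agent.S11330.result k X hdim hreg _ hΩ).2 fun P hP => ?_
  obtain ⟨hdvr, hr⟩ := GenusZeroLib.closed_point_data (k := k) hdim hP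
    (haveI := hreg P; NormalLib.isIntegrallyClosed_of_isRegularLocalRing _)
  obtain ⟨I, ⟨eI⟩, hI, hId⟩ := GenusZeroLib.exists_idealMod_iso (k := k) hP hdim
  obtain ⟨hgen, hng⟩ := GenusZeroLib.finrank_h0_tensor_ptIdeal (k := k) hP hdim hr hΩ
  by_cases hσ : ∃ σ : Γ(Omega.sheaf p, ⊤), AmpleLib.GenAt (Omega.sheaf p) σ (show P ∈ (⊤ : X.Opens) from trivial)
  · exact hgen hσ
  push Not at hσ
  exfalso
  have h0 := hng hσ
  rw [CurveDualLib.h0_omega_closed hdim] at h0
  have hL : PicF.IsInvertible (CohB1.tensorMod (Omega.sheaf p) I) := AmpleThLib.shT_isInvertible hΩ hI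
  have hd := GenusZeroLib.deg_tensor k hdim hΩ hI
  rw [hId, hr, CurveDualLib.deg_omega_closed hdim] at hd
  obtain ⟨σ, hσ⟩ := CurveDualLib.exists_gen hL (genericPoint X)
  obtain ⟨D, hD⟩ := CurveDualLib.exists_isDiv (k := k) hdim hL hσ
  rw [CurveDualLib.deg_eq_deg hdim hL hσ hD] at hd
  have h1 : FunFld.ell D = Curv2.genus k X := by
    rw [← CurveDualLib.finrank_h0_eq_ell hdim hL hσ hD,
      (CurvLib.hIso (k := k) (HilbPolyLib.congrRight (Omega.sheaf p) eI) 0).finrank_eq]
    exact h0
  obtain ⟨C, hC⟩ := Groth.Agent.FFLib.exists_canonical hK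
  have hrr := Groth.Agent.FFLib.riemann_roch hK hC D
  have hCd := ((Groth.Agent.FFLib.isCanonical_iff hK C).1 hC).2
  rw [CurveDualLib.genus_eq hdim] at hrr hCd
  have hE : 2 ≤ FunFld.ell (C - D) := by omega
  obtain ⟨z, hz, hz'⟩ := Groth.Agent.FFLib.exists_effective_of_ell_pos hK.1 (D := C - D) (by omega)
  have hdeg : (C - D + FunFld.div k z).deg = 1 := by
    rw [Groth.Agent.FFLib.deg_add, Groth.Agent.FFLib.deg_div hK.1, Groth.Agent.FFLib.deg_sub]
    omega
  obtain ⟨Q, hQ, hQe⟩ := Groth.Agent.FFLib.exists_single_of_deg_one hK hz' hdeg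
  have he := Groth.Agent.FFLib.ell_add_div hK.1 (C - D) hz
  rw [hQe, Groth.Agent.FFLib.ell_single_one hK (by rw [CurveDualLib.genus_eq hdim]; omega) hQ] at he
  omega

end Groth.Agent.S11334
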