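import Groth.Statements.S11335
import Groth.Agent.CurveH0Lib.VeryAmple
import Groth.Agent.CurveH0Lib.PointDiv

set_option autoImplicit false
universe u
open CategoryTheory CategoryTheory.Limits AlgebraicGeometry
open Curves

attribute [local instance] CurveDualLib.algFF

namespace Groth.Agent.S11335

/-- Let k be an algebraically closed field and X a curve over k (an integral scheme, proper over k, of
dimension one, with all local rings regular), of genus g ≥ 2. Then the canonical sheaf Ω_{X/k} is
very ample (isomorphic to the pullback of O(1) along a closed immersion into some P^n_k over k)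
exactly when X carries no g^1_2 (X is not hyperelliptic), a g^1_2 being an invertible module of
degree 2 together with two k-linearly independent global sections. -/
theorem result (k : Type u) [Field k] [IsAlgClosed k] (X : Scheme.{u}) [X.Over (Spec (CommRingCat.of k))]
    [IsIntegral X] [IsProper (X ↘ (Spec (CommRingCat.of k)))] (hdim : topologicalKrullDim X = 1)
    (hreg : ∀ x : X, IsRegularLocalRing (X.presheaf.stalk x)) (hg : 2 ≤ Curv2.genus k X) :
    (∃ (n : ℕ) (i : X ⟶ CohB1.ProjSpace n k), IsClosedImmersion i ∧ i ≫ CohB1.ProjSpace.toSpec n k = (X ↘ (Spec (CommRingCat.of k))) ∧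
        Nonempty ((Scheme.Modules.pullback i).obj (Twist.twistProjSpace n k 1) ≅ (Omega.sheaf (X ↘ (Spec (CommRingCat.of k)))))) ↔
      ¬ (∃ (M : X.Modules) (s : Fin 2 → LinSer.Sect X M), LinSer.IsLinSer k X M 2 1 s) := by
  classical
  haveI := CurveH0Lib.smooth_of_regular k (X ↘ Spec (CommRingCat.of k)) hreg
  have hK := CurveDualLib.isFunctionField (k := k) (X := X) hdim
  have hΩ := CurveDualLib.omega_invertible (k := k) hdim
  have h0 := RRVanLib.finrank_h0_structure (k := k) (X := X)
  have hd2 : ∀ (P Q : X) (hP : IsClosed ({P} : Set X)) (hQ : IsClosed ({Q} : Set X)),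
      FunFld.Divisor.deg (Finsupp.single (CurveDualLib.ptPlace (k := k) hdim hP) (1 : ℤ) +
        Finsupp.single (CurveDualLib.ptPlace (k := k) hdim hQ) 1) = 2 := fun P Q hP hQ => by
    rw [Groth.Agent.FFLib.deg_add, FunFld.Divisor.deg, FunFld.Divisor.deg, Finsupp.sum_single_index (by simp),
      Finsupp.sum_single_index (by simp), Groth.Agent.FFLib.deg_eq_one hK, Groth.Agent.FFLib.deg_eq_one hK]
    norm_num
  constructor
  · rintro ⟨n, i, hi, hik, ⟨e⟩⟩ ⟨M, s, hM, hdM, hs⟩
    haveI := hi
    have hL' := TwistLib.coord_isInvertible n k i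
    letI := GenusZeroLib.kmod k M
    haveI := CurvLib.isNoetherian k (X := X)
    haveI := CurvLib.finite_HH (k := k) (CurvLib.isCoh_of_isInvertible hM) 0
    haveI : Module.Finite k Γ(M, ⊤) := Module.Finite.equiv (GenusZeroLib.e0k k M)
    have hli : LinearIndependent k (fun j => (show Γ(M, ⊤) from s j)) :=
      Fintype.linearIndependent_iff.2 fun c hc j => congrFun (hs c hc) j
    have h2 : 2 ≤ Module.finrank k (Coh.HH X M 0) := by
      rw [(GenusZeroLib.e0k k M).finrank_eq]
      simpa using hli.fintype_card_le_finrank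
    obtain ⟨D, hD⟩ := ZetaCurveLib.exists_hasDiv (k := k) hdim hM
    have hpos : 0 < FunFld.ell D := by
      obtain ⟨_, σ, hσ, hDσ⟩ := hD
      rw [← CurveDualLib.finrank_h0_eq_ell hdim hM hσ hDσ]
      omega
    obtain ⟨z, hz, hE⟩ := Groth.Agent.FFLib.exists_effective_of_ell_pos hK.1 hpos
    obtain ⟨P, Q, hP, hQ, hPQ⟩ := CurveH0Lib.exists_eq_two_points hdim hE (by
      rw [← (hD.add_div hdim h0 hz).deg hdim h0, hdM]; norm_num)
    obtain ⟨_, σ, hσ, hDσ⟩ := hD.add_div hdim h0 hz
    rw [CurveDualLib.finrank_h0_eq_ell hdim hM hσ hDσ, hPQ] at h2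
    have h := (CurveH0Lib.separates_iff (k := k) hdim hreg hL').1
      (CurveH0Lib.separates_of_isClosedImmersion hdim hreg i hik) P Q hP hQ
    rw [(CurvLib.hIso (k := k) e 0).finrank_eq,
      (CurvLib.hIso (k := k) (HilbPolyLib.congrLeft e _) 0).finrank_eq] at h
    have h1 := (CurveH0Lib.omega_drop_iff hdim hP hQ).1 h
    omega
  · intro hno
    refine CurveH0Lib.exists_closedImmersion_of_separates hdim hreg hΩ fun P Q hP hQ => ?_
    refine (CurveH0Lib.omega_drop_iff hdim hP hQ).2 ?_
    by_contra hne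
    obtain ⟨M, hD⟩ := ZetaCurveLib.exists_module (k := k) hdim h0
      (Finsupp.single (CurveDualLib.ptPlace (k := k) hdim hP) 1 + Finsupp.single (CurveDualLib.ptPlace (k := k) hdim hQ) 1)
    obtain ⟨hM, σ, hσ, hDσ⟩ := hD
    set E := Finsupp.single (CurveDualLib.ptPlace (k := k) hdim hP) (1 : ℤ) +
      Finsupp.single (CurveDualLib.ptPlace (k := k) hdim hQ) 1
    haveI := Groth.Agent.S10976.result k X.functionField hK E
    have hpos : 0 < FunFld.ell E := Module.finrank_pos_iff_exists_ne_zero.2
      ⟨⟨1, fun R => by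
        rw [map_one, ← WithZero.exp_zero, WithZero.exp_le_exp, Finsupp.add_apply, Finsupp.single_apply,
          Finsupp.single_apply]
        split_ifs <;> norm_num⟩, fun h => one_ne_zero (congrArg Subtype.val h)⟩
    letI := GenusZeroLib.kmod k M
    haveI := CurvLib.isNoetherian k (X := X)
    haveI := CurvLib.finite_HH (k := k) (CurvLib.isCoh_of_isInvertible hM) 0
    haveI : Module.Finite k Γ(M, ⊤) := Module.Finite.equiv (GenusZeroLib.e0k k M)
    have h2 : 2 ≤ Module.finrank k Γ(M, ⊤) := by
      rw [← (GenusZeroLib.e0k k M).finrank_eq, CurveDualLib.finrank_h0_eq_ell hdim hM hσ hDσ]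
      omega
    let b := Module.finBasis k Γ(M, ⊤)
    have hli : LinearIndependent k (fun j : Fin 2 => b (Fin.castLE h2 j)) :=
      b.linearIndependent.comp _ (Fin.castLE_injective h2)
    refine hno ⟨M, fun j => b (Fin.castLE h2 j), hM, ?_, fun c hc => funext (Fintype.linearIndependent_iff.1 hli c hc)⟩
    rw [ZetaCurveLib.HasDiv.deg hdim h0 ⟨hM, σ, hσ, hDσ⟩, hd2]
    norm_num

end Groth.Agent.S11335
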