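import Groth.Statements.S11336
import Groth.Agent.CurveH0Lib.Clifford
import Groth.Agent.CurveH0Lib.Smooth
import Groth.Agent.CubeConsLib.IsoCls

set_option autoImplicit false
universe u
open CategoryTheory CategoryTheory.Limits AlgebraicGeometry
open Curves

namespace Groth.Agent.S11336

/-- Let k be an algebraically closed field and X a curve over k (an integral scheme, proper over k, of
dimension one, with all local rings regular), and L an invertible O_X-module with an inverse M (L ⊗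
M ≅ O_X) such that H^0(X, L) ≠ 0 and H^0(X, Ω_{X/k} ⊗ M) ≠ 0 (L comes from an effective special
divisor D). Then dim |D| ≤ deg D / 2, i.e. 2 (dim_k H^0(X, L) - 1) ≤ deg L, with deg L = χ(L) -
χ(O_X). -/
theorem result (k : Type u) [Field k] [IsAlgClosed k] (X : Scheme.{u}) [X.Over (Spec (CommRingCat.of k))]
    [IsIntegral X] [IsProper (X ↘ (Spec (CommRingCat.of k)))] (hdim : topologicalKrullDim X = 1)
    (hreg : ∀ x : X, IsRegularLocalRing (X.presheaf.stalk x))
    (L M : X.Modules) (hL : PicF.IsInvertible L) (hM : ClSub.IsInverseOf L M)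
    (hs : Nontrivial (Coh.HH X L 0)) (hsp : Nontrivial (Coh.HH X (CohB1.tensorMod (Omega.sheaf (X ↘ (Spec (CommRingCat.of k)))) M) 0)) :
    2 * (Module.finrank k (Coh.HH X L 0) : ℤ) ≤ Curv2.deg k X L 1 + 2 := by
  haveI := CurveH0Lib.smooth_of_regular k (X ↘ Spec (CommRingCat.of k)) hreg
  obtain ⟨eM⟩ := MiscFlat6.nonempty_dualIso hL
  obtain ⟨e⟩ := hM
  have hMd : CubeConsLib.cl M = CubeConsLib.cl (MiscFlat6.dual L) := by
    have h1 : CubeConsLib.cl L * CubeConsLib.cl M = 1 := CubeConsLib.cl_eq_one_iff.2 ⟨e⟩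
    have h2 : CubeConsLib.cl L * CubeConsLib.cl (MiscFlat6.dual L) = 1 := CubeConsLib.cl_eq_one_iff.2 ⟨eM⟩
    calc CubeConsLib.cl M = CubeConsLib.cl L * CubeConsLib.cl (MiscFlat6.dual L) * CubeConsLib.cl M := by
          rw [h2, _root_.one_mul]
      _ = CubeConsLib.cl L * CubeConsLib.cl M * CubeConsLib.cl (MiscFlat6.dual L) := mul_right_comm _ _ _
      _ = CubeConsLib.cl (MiscFlat6.dual L) := by rw [h1, _root_.one_mul]
  obtain ⟨eMd⟩ := CubeConsLib.cl_eq_iff.1 hMd
  have hMi : PicF.IsInvertible M := HilbPolyLib.isInvertible_of_iso eMd.symm (MiscFlat6.dual_isInvertible hL)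
  have hΩ := CurveDualLib.omega_invertible (k := k) hdim
  obtain ⟨e'⟩ := CubeConsLib.cl_eq_iff.1 (show CubeConsLib.cl (CohB1.tensorMod L
      (CohB1.tensorMod (Omega.sheaf (X ↘ Spec (CommRingCat.of k))) M)) =
      CubeConsLib.cl (Omega.sheaf (X ↘ Spec (CommRingCat.of k))) by
    rw [CubeConsLib.cl_tensor, CubeConsLib.cl_tensor, mul_left_comm,
      show CubeConsLib.cl L * CubeConsLib.cl M = 1 from CubeConsLib.cl_eq_one_iff.2 ⟨e⟩, _root_.mul_one])
  haveI := CurvLib.finite_HH (k := k) (CurvLib.isCoh_of_isInvertible hL) 0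
  haveI := CurvLib.finite_HH (k := k) (CurvLib.isCoh_of_isInvertible (HilbPolyLib.isInvertible_tensor hΩ hMi)) 0
  exact CurveH0Lib.clifford hdim hL (HilbPolyLib.isInvertible_tensor hΩ hMi) e'
    Module.finrank_pos Module.finrank_pos

end Groth.Agent.S11336
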