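import Groth.Statements.S11337
import Groth.Agent.CurveH0Lib.CliffordEq
import Groth.Agent.CurveH0Lib.PointDiv
import Groth.Agent.CubeConsLib.IsoCls

set_option autoImplicit false
universe u
open CategoryTheory CategoryTheory.Limits AlgebraicGeometry
open Curves

attribute [local instance] CurveDualLib.algFF

namespace Groth.Agent.S11337

/-- Let k be an algebraically closed field and X a curve over k (an integral scheme, proper over k, of
dimension one, with all local rings regular), and L an invertible O_X-module with an inverse M such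
that H^0(X, L) ≠ 0, H^0(X, Ω_{X/k} ⊗ M) ≠ 0, L is isomorphic neither to O_X nor to Ω_{X/k}, and 2
(dim_k H^0(X, L) - 1) = deg L. Then X is hyperelliptic and L is a multiple of the g^1_2: there is an
invertible module N of degree 2 with two k-linearly independent global sections (a g^1_2) such that
L ≅ N^{⊗ r} with r = dim_k H^0(X, L) - 1. (Only the implication from equality is stated here; the
converse, that on a hyperelliptic curve the effective special multiples of the g^1_2 attain
equality, is not part of this statement.) -/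
theorem result (k : Type u) [Field k] [IsAlgClosed k] (X : Scheme.{u}) [X.Over (Spec (CommRingCat.of k))]
    [IsIntegral X] [IsProper (X ↘ (Spec (CommRingCat.of k)))] (hdim : topologicalKrullDim X = 1)
    (hreg : ∀ x : X, IsRegularLocalRing (X.presheaf.stalk x))
    (L M : X.Modules) (hL : PicF.IsInvertible L) (hM : ClSub.IsInverseOf L M)
    (hs : Nontrivial (Coh.HH X L 0)) (hsp : Nontrivial (Coh.HH X (CohB1.tensorMod (Omega.sheaf (X ↘ (Spec (CommRingCat.of k)))) M) 0))
    (h0 : IsEmpty (L ≅ Coh.structureModule X)) (hK : IsEmpty (L ≅ (Omega.sheaf (X ↘ (Spec (CommRingCat.of k))))))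
    (heq : 2 * (Module.finrank k (Coh.HH X L 0) : ℤ) = Curv2.deg k X L 1 + 2) :
    ∃ (N : X.Modules) (s : Fin 2 → LinSer.Sect X N), LinSer.IsLinSer k X N 2 1 s ∧
      Nonempty (L ≅ CohB1.tensorPow N (Module.finrank k (Coh.HH X L 0) - 1)) := by
  classical
  haveI := CurveH0Lib.smooth_of_regular k (X ↘ Spec (CommRingCat.of k)) hreg
  haveI := CurvLib.isNoetherian k (X := X)
  have hKf := CurveDualLib.isFunctionField (k := k) (X := X) hdim
  have hΩ := CurveDualLib.omega_invertible (k := k) hdim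
  have h01 := RRVanLib.finrank_h0_structure (k := k) (X := X)
  obtain ⟨eM⟩ := MiscFlat6.nonempty_dualIso hL
  obtain ⟨e⟩ := hM
  obtain ⟨eMd⟩ := CubeConsLib.cl_eq_iff.1 (show CubeConsLib.cl M = CubeConsLib.cl (MiscFlat6.dual L) by
    have h1 : CubeConsLib.cl L * CubeConsLib.cl M = 1 := CubeConsLib.cl_eq_one_iff.2 ⟨e⟩
    have h2 : CubeConsLib.cl L * CubeConsLib.cl (MiscFlat6.dual L) = 1 := CubeConsLib.cl_eq_one_iff.2 ⟨eM⟩
    calc CubeConsLib.cl M = CubeConsLib.cl L * CubeConsLib.cl (MiscFlat6.dual L) * CubeConsLib.cl M := by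
          rw [h2, _root_.one_mul]
      _ = CubeConsLib.cl L * CubeConsLib.cl M * CubeConsLib.cl (MiscFlat6.dual L) := mul_right_comm _ _ _
      _ = CubeConsLib.cl (MiscFlat6.dual L) := by rw [h1, _root_.one_mul])
  have hMi : PicF.IsInvertible M := HilbPolyLib.isInvertible_of_iso eMd.symm (MiscFlat6.dual_isInvertible hL)
  obtain ⟨e'⟩ := CubeConsLib.cl_eq_iff.1 (show CubeConsLib.cl (CohB1.tensorMod L
      (CohB1.tensorMod (Omega.sheaf (X ↘ Spec (CommRingCat.of k))) M)) =
      CubeConsLib.cl (Omega.sheaf (X ↘ Spec (CommRingCat.of k))) by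
    rw [CubeConsLib.cl_tensor, CubeConsLib.cl_tensor, mul_left_comm,
      show CubeConsLib.cl L * CubeConsLib.cl M = 1 from CubeConsLib.cl_eq_one_iff.2 ⟨e⟩, _root_.mul_one])
  have hN' := HilbPolyLib.isInvertible_tensor hΩ hMi
  obtain ⟨D, hD⟩ := ZetaCurveLib.exists_hasDiv (k := k) hdim hL
  obtain ⟨E, hE⟩ := ZetaCurveLib.exists_hasDiv (k := k) hdim hN'
  obtain ⟨C, ω, hω, hC, hcan⟩ := CurveDualLib.exists_canonical (k := k) hdim
  obtain ⟨f, hf, hfC⟩ := ((hD.tensor hdim hE).of_iso hdim e' hΩ).unique hdim h01 ⟨hΩ, ω, hω, hC⟩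
  have hlD : Module.finrank k (Coh.HH X L 0) = FunFld.ell D := by
    obtain ⟨_, σ, hσ, h⟩ := hD
    exact CurveDualLib.finrank_h0_eq_ell hdim hL hσ h
  haveI := CurvLib.finite_HH (k := k) (CurvLib.isCoh_of_isInvertible hL) 0
  haveI := CurvLib.finite_HH (k := k) (CurvLib.isCoh_of_isInvertible hN') 0
  have hCD : 0 < FunFld.ell (C - D) := by
    obtain ⟨_, σ, hσ, h⟩ := hE.add_div hdim h01 hf
    rw [show C - D = E + FunFld.div k f by rw [hfC]; abel, ← CurveDualLib.finrank_h0_eq_ell hdim hN' hσ h]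
    exact Module.finrank_pos
  have hpos : 0 < FunFld.ell D := hlD ▸ Module.finrank_pos
  rw [hD.deg hdim h01, hlD] at heq
  rw [hlD]
  have hcd := Groth.Agent.FFLib.canonical_ell_deg hKf hcan
  have hne0 : D.deg ≠ 0 := by
    intro hd
    obtain ⟨z, hz, he⟩ := Groth.Agent.FFLib.exists_effective_of_ell_pos hKf.1 hpos
    have hz0 := Groth.Agent.FFLib.eq_zero_of_deg_eq_zero hKf he
      (by rw [Groth.Agent.FFLib.deg_add, Groth.Agent.FFLib.deg_div hKf.1, hd, add_zero])
    have hgen : ∀ x : X, CurveDualLib.IsGen (Coh.structureModule X) x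
        (DevissLib.gm (Coh.structureModule X) x (show x ∈ (⊤ : X.Opens) from trivial) (1 : Γ(X, ⊤))) := fun x =>
      (AmpleLib.one_genOn (X := X) ⊤).genAt trivial
    have hO : ZetaCurveLib.HasDiv (k := k) hdim (Coh.structureModule X) 0 :=
      ⟨CurvLib.isInvertible_structureModule, _, hgen _, fun x hx => ⟨_, hgen x, 1, one_ne_zero, by
        rw [CurveDualLib.sp_gm]; exact (one_smul _ _).symm, by simp [FunFld.Place.ord]⟩⟩
    exact (hD.nonempty_iso hdim h01 hO hz hz0.symm).elim fun i => h0.false i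
  have hneg : FunFld.ell D ≠ FunFld.genus k X.functionField := by
    intro hg
    obtain ⟨z, hz, he⟩ := CurveH0Lib.exists_eq_canonical_add_div hKf hcan (A := D) (by omega) (by omega)
    exact ((ZetaCurveLib.HasDiv.nonempty_iso hdim h01 ⟨hΩ, ω, hω, hC⟩ hD hz he)).elim fun i => hK.false i.symm
  obtain ⟨N₀, z, hNd, hN2, hz, hDN⟩ := CurveH0Lib.exists_pencil_of_clifford_eq hKf hcan hpos hCD heq hne0 hneg
  obtain ⟨N, hN⟩ := ZetaCurveLib.exists_module (k := k) hdim h01 N₀
  letI := GenusZeroLib.kmod k N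
  haveI := CurvLib.finite_HH (k := k) (CurvLib.isCoh_of_isInvertible hN.1) 0
  haveI : Module.Finite k Γ(N, ⊤) := Module.Finite.equiv (GenusZeroLib.e0k k N)
  have h2 : 2 ≤ Module.finrank k Γ(N, ⊤) := by
    obtain ⟨hNi, σ, hσ, h⟩ := hN
    rwa [← (GenusZeroLib.e0k k N).finrank_eq, CurveDualLib.finrank_h0_eq_ell hdim hNi hσ h]
  let b := Module.finBasis k Γ(N, ⊤)
  have hli : LinearIndependent k (fun j : Fin 2 => b (Fin.castLE h2 j)) :=
    b.linearIndependent.comp _ (Fin.castLE_injective h2)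
  have hpow : ∀ n : ℕ, ∃ D', ZetaCurveLib.HasDiv (k := k) hdim (CohB1.tensorPow N n) D' ∧ D' = n • N₀ := by
    intro n
    induction n with
    | zero =>
      have hgen : ∀ x : X, CurveDualLib.IsGen (Coh.structureModule X) x
          (DevissLib.gm (Coh.structureModule X) x (show x ∈ (⊤ : X.Opens) from trivial) (1 : Γ(X, ⊤))) := fun x =>
        (AmpleLib.one_genOn (X := X) ⊤).genAt trivial
      have hO : ZetaCurveLib.HasDiv (k := k) hdim (Coh.structureModule X) 0 :=
        ⟨CurvLib.isInvertible_structureModule, _, hgen _, fun x hx => ⟨_, hgen x, 1, one_ne_zero, by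
          rw [CurveDualLib.sp_gm]; exact (one_smul _ _).symm, by simp [FunFld.Place.ord]⟩⟩
      exact ⟨0, hO, (zero_nsmul _).symm⟩
    | succ n ih =>
      obtain ⟨D', h, rfl⟩ := ih
      exact ⟨_, h.tensor hdim hN, (succ_nsmul N₀ n).symm⟩
  obtain ⟨_, hP, rfl⟩ := hpow (FunFld.ell D - 1)
  refine ⟨N, fun j => b (Fin.castLE h2 j), ⟨hN.1, ?_, fun c hc => funext (Fintype.linearIndependent_iff.1 hli c hc)⟩, ?_⟩
  · rw [hN.deg hdim h01, hNd]; norm_num
  · obtain ⟨i⟩ := hP.nonempty_iso hdim h01 hD hz hDN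
    exact ⟨i.symm⟩

end Groth.Agent.S11337
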