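import Groth.Statements.S11338
import Groth.Agent.PlaneNetLib.Nonspecial
import Groth.Agent.CurveCoverLib.Basic
import Groth.Agent.CurveH0Lib.VeryAmple
import Groth.Agent.CurveH0Lib.Smooth
import Groth.Agent.CurveH0Lib.NineBridge

set_option autoImplicit false
universe u
open CategoryTheory CategoryTheory.Limits AlgebraicGeometry
open Curves

namespace Groth.Agent.S11338
attribute [local instance] CurveDualLib.algFF

/-- Let k be an algebraically closed field and X a curve over k (an integral scheme, proper over k, of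
dimension one, with all local rings regular), of genus g ≥ 2, and d an integer. Then X carries a
very ample divisor of degree d that is nonspecial — an invertible module L with deg L = d, H^1(X, L)
= 0 (equivalently H^0 of ω ⊗ L^{-1} vanishes), and L isomorphic to the pullback of O(1) along a
closed immersion into some P^n_k over k — if and only if d ≥ g + 3. -/
theorem result (k : Type u) [Field k] [IsAlgClosed k] (X : Scheme.{u}) [X.Over (Spec (CommRingCat.of k))]
    [IsIntegral X] [IsProper (X ↘ (Spec (CommRingCat.of k)))] (hdim : topologicalKrullDim X = 1)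
    (hreg : ∀ x : X, IsRegularLocalRing (X.presheaf.stalk x)) (hg : 2 ≤ Curv2.genus k X) (d : ℤ) :
    (∃ L : X.Modules, PicF.IsInvertible L ∧ Curv2.deg k X L 1 = d ∧ Subsingleton (Coh.HH X L 1) ∧
      (∃ (n : ℕ) (i : X ⟶ CohB1.ProjSpace n k), IsClosedImmersion i ∧ i ≫ CohB1.ProjSpace.toSpec n k = (X ↘ (Spec (CommRingCat.of k))) ∧
        Nonempty ((Scheme.Modules.pullback i).obj (Twist.twistProjSpace n k 1) ≅ L))) ↔
      (Curv2.genus k X : ℤ) + 3 ≤ d := by
  classical
  haveI := CurveH0Lib.smooth_of_regular k (X ↘ Spec (CommRingCat.of k)) hreg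
  have h0 := RRVanLib.finrank_h0_structure (k := k) (X := X)
  have hK := CurveDualLib.isFunctionField (k := k) (X := X) hdim
  have hgen := CurveDualLib.genus_eq (k := k) (X := X) hdim
  haveI := CurvLib.isNoetherian k (X := X)
  obtain ⟨C, hCd, hC⟩ := CurveH0Lib.LinStable.exists_canonical_hasDiv (k := k) hdim
  constructor
  · rintro ⟨L, hL, hd, h1, n, i, hci, hi, ⟨e⟩⟩
    haveI := hci
    have hM := TwistLib.coord_isInvertible n k i
    obtain ⟨D, hD⟩ := ZetaCurveLib.exists_hasDiv (k := k) hdim hM
    have hDL := hD.of_iso hdim e hL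
    have hs : SpaceCurveLib.Sep2 D := fun P Q => by
      obtain ⟨x, hx, rfl⟩ := CurveDualLib.exists_point (k := k) hdim P
      obtain ⟨y, hy, rfl⟩ := CurveDualLib.exists_point (k := k) hdim Q
      have h := (CurveH0Lib.separates_iff (k := k) hdim hreg hM).1
        (CurveH0Lib.separates_of_isClosedImmersion hdim hreg i hi) x y hx hy
      rw [CurveH0Lib.finrank_h0_two_points hdim hD hx hy, CurveH0Lib.LinStable.h0_eq_ell hdim hD, ← sub_sub] at h
      exact h
    have hsp : FunFld.ell (C - D) = 0 := by
      rw [← CurveH0Lib.Nine.h1_eq hdim hC hDL]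
      haveI := h1
      exact Module.finrank_zero_of_subsingleton
    have := PlaneNetLib.deg_ge_of_nonspecial hK hC hs hsp (by omega)
    rw [← hd, hDL.deg hdim h0]
    omega
  · intro hd
    obtain ⟨n, hn⟩ : ∃ n : ℕ, d = Curv2.genus k X + 3 + n := ⟨(d - (Curv2.genus k X + 3)).toNat, by omega⟩
    obtain ⟨D, hDd, hs, hsp⟩ := PlaneNetLib.exists_nonspecial_sep2 hK hC (by omega) n
    obtain ⟨L, hD⟩ := ZetaCurveLib.exists_module (k := k) hdim h0 D
    refine ⟨L, hD.1, ?_, ?_, ?_⟩
    · rw [hD.deg hdim h0, hDd, hn, hgen]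
    · haveI := CurvLib.finite_HH (k := k) (CurvLib.isCoh_of_isInvertible hD.1) 1
      exact Module.finrank_zero_iff.1 (show Module.finrank k (Coh.HH X L 1) = 0 by
        rw [CurveH0Lib.Nine.h1_eq hdim hC hD, hsp])
    · refine CurveH0Lib.exists_closedImmersion_of_separates hdim hreg hD.1 fun P Q hP hQ => ?_
      rw [CurveH0Lib.finrank_h0_two_points hdim hD hP hQ, CurveH0Lib.LinStable.h0_eq_ell hdim hD, ← sub_sub]
      exact hs _ _

end Groth.Agent.S11338
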