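import Groth.Statements.S5758
import Mathlib
import Groth.Agent.S0322
import Groth.Agent.S4718
import Groth.Agent.DepthBasicLib.SpanLength
-- import your own Groth.Agent.* helpers here

set_option autoImplicit false
universe u
open EGA41

namespace Groth.Agent.S5758

/-- Let A be a Noetherian local ring, M a nonzero finitely generated Cohen-Macaulay A-module and x_1,
..., x_r elements of the maximal ideal. The sequence (x_i) is M-regular if and only if dim(M/(x_1 M
+ ... + x_r M)) = dim(M) - r, i.e. if and only if the x_i are part of a system of parameters for M;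
and when this holds the quotient M/(x_1 M + ... + x_r M) is again a Cohen-Macaulay module. -/
theorem result (A : Type u) [CommRing A]
    [IsLocalRing A] [IsNoetherianRing A] (M : Type u) [AddCommGroup M] [Module A M] [Module.Finite A M]
    (hM : LocCoh.IsCohenMacaulayModule A M) (xs : List A) (hxs : ∀ x ∈ xs, x ∈ IsLocalRing.maximalIdeal A) :
    (RingTheory.Sequence.IsWeaklyRegular M xs ↔
        Module.supportDim A (M ⧸ (Ideal.ofList xs • (⊤ : Submodule A M))) + xs.length =
          Module.supportDim A M) ∧
      (RingTheory.Sequence.IsWeaklyRegular M xs →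
        LocCoh.IsCohenMacaulayModule A (M ⧸ (Ideal.ofList xs • (⊤ : Submodule A M)))) := by
  haveI hnt : Nontrivial M := not_subsingleton_iff_nontrivial.1 fun h => by
    haveI := h
    unfold LocCoh.IsCohenMacaulayModule at hM
    rw [Module.supportDim_eq_bot_of_subsingleton] at hM
    exact WithBot.bot_ne_coe hM
  obtain ⟨D, hD⟩ : ∃ D : ℕ, Module.supportDim A M = D := by
    have hfin : Module.supportDim A M < ⊤ :=
      lt_of_le_of_lt (Module.supportDim_le_ringKrullDim A M) ringKrullDim_lt_top
    unfold LocCoh.IsCohenMacaulayModule at hM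
    obtain ⟨d, hd⟩ := ENat.ne_top_iff_exists.1 (fun h : LocCoh.depth A M = ⊤ => by
      rw [hM, h] at hfin; exact lt_irrefl _ hfin)
    exact ⟨d, by rw [hM, ← hd]; rfl⟩
  have hJ : Ideal.ofList xs ≤ IsLocalRing.maximalIdeal A := Ideal.span_le.2 hxs
  have hJt : Ideal.ofList xs ≠ ⊤ := fun h =>
    (IsLocalRing.maximalIdeal.isMaximal A).ne_top (top_le_iff.1 (h ▸ hJ))
  have hNnt : Nontrivial (M ⧸ (Ideal.ofList xs • (⊤ : Submodule A M))) := by
    refine Submodule.Quotient.nontrivial_iff.2 fun h => top_ne_bot (α := Submodule A M) ?_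
    exact Submodule.eq_bot_of_le_smul_of_le_jacobson_bot _ ⊤ Module.Finite.fg_top h.ge
      (hJ.trans (IsLocalRing.maximalIdeal_le_jacobson _))
  have hreg : RingTheory.Sequence.IsWeaklyRegular M xs →
      Module.supportDim A (M ⧸ (Ideal.ofList xs • (⊤ : Submodule A M))) + xs.length = Module.supportDim A M :=
    fun hw => Module.supportDim_add_length_eq_supportDim_of_isRegular xs
      (RingTheory.Sequence.IsRegular.of_isWeaklyRegular_of_mem_maximalIdeal M hxs hw)
  refine ⟨⟨hreg, fun h => ?_⟩, fun hw => ?_⟩
  · refine (DepthBasic.idealDepth_ofList_eq_length_iff xs hxs M).1 ?_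
    have h0 := Groth.Agent.S0322.result A (Ideal.ofList xs) hJt M hM
    rw [← h] at h0
    revert h0
    obtain ⟨a, ha⟩ : ∃ a : ℕ, Module.supportDim A (M ⧸ (Ideal.ofList xs • (⊤ : Submodule A M))) = a := by
      rcases hb : Module.supportDim A (M ⧸ (Ideal.ofList xs • (⊤ : Submodule A M))) with _ | _ | a
      · exact absurd hb ((Module.supportDim_ne_bot_iff_nontrivial A _).2 hNnt)
      · rw [hb, hD] at h
        have h' : (⊤ + (xs.length : ℕ∞) : ℕ∞) = (D : ℕ∞) := WithBot.coe_injective h
        rw [top_add] at h'
        exact absurd h'.symm (ENat.coe_ne_top D)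
      · exact ⟨a, rfl⟩
    rw [ha]
    intro h0
    generalize LocCoh.idealDepth (Ideal.ofList xs) M = e at h0
    cases e with
    | top =>
      have h' : ((a + xs.length : ℕ) : ℕ∞) = (a : ℕ∞) + ⊤ := WithBot.coe_injective (by push_cast; exact h0)
      rw [add_top] at h'
      exact absurd h' (ENat.coe_ne_top _)
    | coe n =>
      have : a + xs.length = a + n := by exact_mod_cast h0
      exact_mod_cast (by omega : n = xs.length)
  · have h1 := hreg hw
    have h2 := Groth.Agent.S4718.depth_le_supportDim A (M ⧸ (Ideal.ofList xs • (⊤ : Submodule A M)))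
    obtain ⟨a, ha⟩ : ∃ a : ℕ, Module.supportDim A (M ⧸ (Ideal.ofList xs • (⊤ : Submodule A M))) = a := by
      rcases hb : Module.supportDim A (M ⧸ (Ideal.ofList xs • (⊤ : Submodule A M))) with _ | _ | a
      · exact absurd hb ((Module.supportDim_ne_bot_iff_nontrivial A _).2 hNnt)
      · rw [hb, hD] at h1
        have h' : (⊤ + (xs.length : ℕ∞) : ℕ∞) = (D : ℕ∞) := WithBot.coe_injective h1
        rw [top_add] at h'
        exact absurd h'.symm (ENat.coe_ne_top D)
      · exact ⟨a, rfl⟩
    rw [ha, hD] at h1
    have hsum : xs.length + a = D := by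
      have : a + xs.length = D := by exact_mod_cast h1
      omega
    unfold LocCoh.IsCohenMacaulayModule at hM ⊢
    refine le_antisymm ?_ h2
    rw [ha]
    have hd : LocCoh.depth A M = (D : ℕ∞) := WithBot.coe_injective (hM.symm.trans hD)
    have h3 := DepthBasic.hasSeqIn_quot_ofList (IsLocalRing.maximalIdeal A) xs M a hw hxs
      ((CommAlgDim.le_depth_iff _).1 (by rw [hd]; exact_mod_cast hsum.le))
    exact WithBot.coe_le_coe.2 ((CommAlgDim.le_depth_iff a).2 h3)

end Groth.Agent.S5758
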