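import Groth.Statements.S11340
import Mathlib
import Groth.Agent.SurfNumLib.Meet
import Groth.Agent.GeomRedFibLib.CplFibres
-- import your own Groth.Agent.* helpers here

set_option autoImplicit false
universe u
open CategoryTheory CategoryTheory.Limits AlgebraicGeometry
open Surf

namespace Groth.Agent.S11340

/-- Let X be a surface over an algebraically closed field k (an integral scheme of dimension two with
all local rings regular, admitting a closed immersion into some P^n_k over k), and let C, D be
curves on X (effective Cartier divisors, given by quasi-coherent ideals I_C, I_D locally generated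
by a single nonzerodivisor) with no common irreducible component, i.e. C ∩ D is a finite set. Then
C.D = Σ_{P ∈ C ∩ D} (C.D)_P: the intersection number, here the alternating sum χ(O_X) - χ(I_C) -
χ(I_D) + χ(I_C ⊗ I_D) packaged as FGA.intNum, equals dim_k H^0(X, O_X/(I_C + I_D)), the total length
of the scheme-theoretic intersection. -/
theorem result (k : Type u) [Field k] [IsAlgClosed k] (X : Scheme.{u}) [X.Over (Spec (CommRingCat.of k))]
    [IsIntegral X] (hdim : topologicalKrullDim X = 2) (hreg : ∀ x : X, IsRegularLocalRing (X.presheaf.stalk x))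
    (hproj : ∃ (n : ℕ) (ι : X ⟶ CohB1.ProjSpace n k), IsClosedImmersion ι ∧ ι ≫ CohB1.ProjSpace.toSpec n k = (X ↘ (Spec (CommRingCat.of k))))
    (IC ID : X.IdealSheafData) (hC : FGA.IsEffCartier IC) (hD : FGA.IsEffCartier ID)
    (hfin : ((IC ⊔ ID).support : Set X).Finite) :
    FGA.intNum k X 2 ![ClSub.idealMod IC, ClSub.idealMod ID] (Coh.structureModule X) =
      (Module.finrank k (Coh.HH X (ClSub.quotMod (IC ⊔ ID)) 0) : ℤ) := by
  obtain ⟨n, ι, hι, hιc⟩ := hproj
  haveI := SurfNumLib.isProper_of_embedding (k := k) ι hιc
  rw [SurfNumLib.intNum_eq_pr hdim.le]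
  refine SurfNumLib.pr_eq_length hdim.le (fun Z hZ => ?_)
    (fun x => by
      haveI := hreg x
      exact (CMFlatLib.isCohenMacaulayLocalRing_iff_isCM _).mpr (CommAlgDim.isCM_of_isRegularLocalRing _))
    hC hD hfin
  rw [irreducibleComponents_eq_singleton] at hZ
  obtain rfl : Z = Set.univ := hZ
  rw [(Homeomorph.Set.univ ↥X).isHomeomorph.topologicalKrullDim_eq, hdim]

end Groth.Agent.S11340
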