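import Groth.Statements.S11341
import Mathlib
import Groth.Agent.SurfNumLib.RR
import Groth.Agent.SurfNumLib.Config
import Groth.Agent.SurfNumLib.CastSev
import Groth.Agent.PushLinLib.HH
import Groth.Agent.FibVALib.Curve
import Groth.Agent.RRVanLib.Main
import Groth.Agent.AlbLib.AlgClosed
-- import your own Groth.Agent.* helpers here

set_option autoImplicit false
universe u
open CategoryTheory CategoryTheory.Limits AlgebraicGeometry
open Surf

namespace Groth.Agent.S11341

/-- Let X be a surface over an algebraically closed field k (an integral scheme of dimension two with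
all local rings regular, admitting a closed immersion into some P^n_k over k), let W be the
canonical sheaf of X (a second exterior power of the sheaf of differentials Ω_{X/k}), and let C be a
nonsingular curve of genus g on X: an integral closed subscheme of dimension one with all local
rings regular, with ideal sheaf I ⊆ O_X, g = dim_k H^1(C, O_C). Then 2g - 2 = C.(C + K). Writing
(L·M) for the intersection number χ(O_X) - χ(L) - χ(M) + χ(L ⊗ M) of two invertible modules
(packaged as FGA.intNum), C.C = (I·I) and C.K = -(I·W), so the formula reads 2g - 2 = (I·I) - (I·W). -/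
theorem result (k : Type u) [Field k] [IsAlgClosed k] (X : Scheme.{u}) [X.Over (Spec (CommRingCat.of k))]
    [IsIntegral X] (hdim : topologicalKrullDim X = 2) (hreg : ∀ x : X, IsRegularLocalRing (X.presheaf.stalk x))
    (hproj : ∃ (n : ℕ) (ι : X ⟶ CohB1.ProjSpace n k), IsClosedImmersion ι ∧ ι ≫ CohB1.ProjSpace.toSpec n k = (X ↘ (Spec (CommRingCat.of k))))
    (W : X.Modules) (hW : ExtPow.IsExtPow 2 (Omega.sheaf (X ↘ (Spec (CommRingCat.of k)))) W)
    (C : Scheme.{u}) (i : C ⟶ X) [IsClosedImmersion i] [IsIntegral C] (hC : topologicalKrullDim C = 1)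
    (hCreg : ∀ c : C, IsRegularLocalRing (C.presheaf.stalk c)) :
    letI : C.Over (Spec (CommRingCat.of k)) := ⟨i ≫ (X ↘ (Spec (CommRingCat.of k)))⟩
    2 * (Curv2.genus k C : ℤ) - 2 =
      FGA.intNum k X 2 ![ClSub.idealMod i.ker, ClSub.idealMod i.ker] (Coh.structureModule X) - FGA.intNum k X 2 ![ClSub.idealMod i.ker, W] (Coh.structureModule X) := by
  letI : C.Over (Spec (CommRingCat.of k)) := ⟨i ≫ (X ↘ (Spec (CommRingCat.of k)))⟩
  obtain ⟨n, ι, hι, hιc⟩ := hproj
  haveI := SurfNumLib.isProper_of_embedding (k := k) ι hιc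
  haveI := CurvLib.isNoetherian k (X := X)
  haveI : Smooth (X ↘ Spec (CommRingCat.of k)) := CurveH0Lib.smooth_of_regular k _ hreg
  haveI : IsProper (C ↘ Spec (CommRingCat.of k)) :=
    inferInstanceAs (IsProper (i ≫ (X ↘ (Spec (CommRingCat.of k)))))
  haveI : IsIntegral i.ker.subscheme := IsIntegral.of_isIso i.toImage
  have hd : topologicalKrullDim (i.ker.support : Set X) = 1 := by
    rw [Scheme.Hom.support_ker, i.isClosedEmbedding.isClosed_range.closure_eq, ← hC]
    exact (i.isEmbedding.toHomeomorph.isHomeomorph.topologicalKrullDim_eq).symm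
  have hJ := SurfNumLib.isEffCartier_curve k (X := X) hdim hreg i.ker hd
  have hI := IntMultLib.isInvertible_idealMod _ hJ
  have hrr := SurfNumLib.riemann_roch hdim ι hιc hW hI
  have hadd := CurvLib.euler_add_of_isCoh (k := k) (S := CurvLib.idealSeq i.ker) (CurvLib.idealSeq_shortExact _)
    (CurvLib.isCoh_of_isInvertible hI) (DevissLib.isCoh_structureModule X) (CurvLib.isCoh_quotMod _)
  haveI : Coh.IsQCoh (Coh.structureModule C) := QCohLib.isQCoh_unit
  have hq : Curv2.euler k X (ClSub.quotMod i.ker) = Curv2.euler k C (Coh.structureModule C) :=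
    (CurvLib.euler_congr (k := k) (SurfNumLib.quotMod_ker_iso i).some).trans (PushLinLib.euler_push k i rfl _).2.symm
  haveI : LocallyOfFiniteType (Over.mk (C ↘ Spec (CommRingCat.of k))).hom :=
    inferInstanceAs (LocallyOfFiniteType (C ↘ Spec (CommRingCat.of k)))
  haveI : IsIntegral (Over.mk (C ↘ Spec (CommRingCat.of k))).left := ‹IsIntegral C›
  haveI : GeometricallyIntegral (C ↘ Spec (CommRingCat.of k)) :=
    AlbLib.geometricallyIntegral_of_isIntegral (Over.mk (C ↘ Spec (CommRingCat.of k)))
  have hχ := RRVanLib.euler_structure (k := k) hC (FibVALib.finrank_h0_structure k C hC)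
  rw [SurfNumLib.intNum_eq_pr hdim.le, SurfNumLib.intNum_eq_pr hdim.le]
  change Curv2.euler k X (Coh.structureModule X) = Curv2.euler k X (ClSub.idealMod i.ker) + Curv2.euler k X (ClSub.quotMod i.ker) at hadd
  omega

end Groth.Agent.S11341
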