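import Groth.Statements.S11343
import Mathlib
import Groth.Agent.SurfNumLib.RRApps
import Groth.Agent.ExtTopLib.Top
import Groth.Agent.CurveH0Lib.Smooth
-- import your own Groth.Agent.* helpers here

set_option autoImplicit false
universe u
open CategoryTheory CategoryTheory.Limits AlgebraicGeometry
open Surf

namespace Groth.Agent.S11343

/-- Let X be a surface over an algebraically closed field k (an integral scheme of dimension two with
all local rings regular, admitting a closed immersion into some P^n_k over k), and H an ample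
invertible O_X-module. Some integer n₀ has the property that H^2(X, L) = 0 for every invertible
module L with (L·H) > n₀; here (L·H) = χ(O_X) - χ(L) - χ(H) + χ(L ⊗ H) is the intersection number
(packaged as FGA.intNum). -/
theorem result (k : Type u) [Field k] [IsAlgClosed k] (X : Scheme.{u}) [X.Over (Spec (CommRingCat.of k))]
    [IsIntegral X] (hdim : topologicalKrullDim X = 2) (hreg : ∀ x : X, IsRegularLocalRing (X.presheaf.stalk x))
    (hproj : ∃ (n : ℕ) (ι : X ⟶ CohB1.ProjSpace n k), IsClosedImmersion ι ∧ ι ≫ CohB1.ProjSpace.toSpec n k = (X ↘ (Spec (CommRingCat.of k))))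
    (H : X.Modules) (hH : CohB1.IsAmple H) :
    ∃ n₀ : ℤ, ∀ L : X.Modules, PicF.IsInvertible L → n₀ < FGA.intNum k X 2 ![L, H] (Coh.structureModule X) → Subsingleton (Coh.HH X L 2) := by
  have hX : topologicalKrullDim X = ((2 : ℕ) : WithBot ℕ∞) := hdim
  obtain ⟨n, ι, hι, hιc⟩ := hproj
  haveI := SurfNumLib.isProper_of_embedding (k := k) ι hιc
  haveI := CurvLib.isNoetherian k (X := X)
  haveI : Smooth (X ↘ Spec (CommRingCat.of k)) := CurveH0Lib.smooth_of_regular k _ hreg
  haveI := SurfNumLib.smoothRel_of_dim (k := k) hX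
  obtain ⟨W, hW⟩ := ExtTopLib.exists_isExtPow (n := 2) (CohCmpLib.rank_omega (X ↘ Spec (CommRingCat.of k)) 2)
  have hWi := SurfNumLib.isInvertible_canonical (k := k) hW
  refine ⟨HodgeIdxLib.pr k W H, fun L hL hlt => ?_⟩
  rw [SurfNumLib.intNum_eq_pr hX.le] at hlt
  obtain ⟨e⟩ := MiscFlat6.nonempty_dualIso hL
  have hD := MiscFlat6.dual_isInvertible hL
  have hP := HilbPolyLib.isInvertible_tensor hD hWi
  have h2 := SurfNumLib.hh_dual ι hιc hW hL e 2 le_rfl
  rw [Nat.sub_self] at h2
  haveI := CurvLib.finite_HH (k := k) (CurvLib.isCoh_of_isInvertible hL) 2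
  haveI := CurvLib.finite_HH (k := k) (CurvLib.isCoh_of_isInvertible hP) 0
  refine Module.finrank_zero_iff (R := k).1 (h2.trans ?_)
  by_contra h0
  obtain ⟨φ, hφ⟩ := CurvLib.exists_hom_ne_zero (L := CohB1.tensorMod (MiscFlat6.dual L) W)
    (Module.nontrivial_of_finrank_pos (R := k) (Nat.pos_of_ne_zero h0))
  have h1 := HodgeIdxLib.nonneg_of_section (k := k) hX hP hH hφ
  change 0 ≤ HodgeIdxLib.pr k (CohB1.tensorMod (MiscFlat6.dual L) W) H at h1
  rw [HodgeIdxLib.pr_tensor hX.le hD hWi hH.1, HodgeIdxLib.pr_inverse hX.le hL hD hH.1 e] at h1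
  omega

end Groth.Agent.S11343
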