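import Groth.Statements.S11346
import Groth.Agent.RuledSurfLib.Push

set_option autoImplicit false
universe u
open CategoryTheory CategoryTheory.Limits AlgebraicGeometry
open Surf

set_option linter.style.haveILetI false

namespace Groth.Agent.S11346

/-- Let π : X → C be a ruled surface over an algebraically closed field k: X a surface (integral, of
dimension two, all local rings regular, with a closed immersion into some P^n_k over k), C a curve
(integral, proper over k, of dimension one, all local rings regular), π : X → C a surjective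
k-morphism whose fibre over every closed point is isomorphic to P^1_k and which admits a section σ.
If C has genus g, then p_a(X) = -g, p_g(X) = 0 and q(X) = g; that is, dim_k H^1(X, O_X) = g = dim_k
H^1(C, O_C) and H^2(X, O_X) = 0. -/
theorem result (k : Type u) [Field k] [IsAlgClosed k] (X : Scheme.{u}) [X.Over (Spec (CommRingCat.of k))]
    [IsIntegral X] (hdim : topologicalKrullDim X = 2) (hreg : ∀ x : X, IsRegularLocalRing (X.presheaf.stalk x))
    (hproj : ∃ (n : ℕ) (ι : X ⟶ CohB1.ProjSpace n k), IsClosedImmersion ι ∧ ι ≫ CohB1.ProjSpace.toSpec n k = (X ↘ (Spec (CommRingCat.of k))))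
    (C : Scheme.{u}) [C.Over (Spec (CommRingCat.of k))]
    [IsIntegral C] [IsProper (C ↘ (Spec (CommRingCat.of k)))] (hdimC : topologicalKrullDim C = 1)
    (hregC : ∀ x : C, IsRegularLocalRing (C.presheaf.stalk x))
    (π : X ⟶ C) (hπ : π ≫ (C ↘ (Spec (CommRingCat.of k))) = (X ↘ (Spec (CommRingCat.of k)))) (hsurj : Function.Surjective π)
    (hfib : ∀ y : C, IsClosed ({y} : Set C) → Nonempty (pullback π (C.fromSpecResidueField y) ≅ CohB1.ProjSpace 1 k))
    (σ : C ⟶ X) (hσ : σ ≫ π = 𝟙 C) :
    Module.finrank k (Coh.HH X (Coh.structureModule X) 1) = Curv2.genus k C ∧ Subsingleton (Coh.HH X (Coh.structureModule X) 2) := by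
  obtain ⟨N, ι, hι, hιe⟩ := hproj
  haveI := hι
  haveI : IsProper (X ↘ Spec (CommRingCat.of k)) := SurfNumLib.isProper_of_embedding ι hιe
  obtain ⟨hCs, hCc⟩ := RuledSurfLib.curve_facts (k := k) hregC
  haveI := hCs
  haveI := hCc
  have hf := ConicCurveLib.isCurveOfGenus_of_closed_fibres k X C hdim hdimC hregC π hπ hsurj hfib
  haveI := hf.1
  haveI := hf.2.1
  haveI := ZeroFamLib.geometricallyConnected hf
  haveI := FibVALib.geometricallyIntegral_of_geometricallyConnected π
  have hbij : ∀ U : C.Opens, Function.Bijective (π.app U).hom :=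
    H0Lib.bijective_app π (H0Lib.H0Fib.of_geometricallyIntegral π)
  haveI : HasInjectiveResolutions X.Modules := inferInstance
  haveI : IsIso (ClSub.unitToPush π) := CohCmpLib.isIso_unitToPush_of_app π fun U =>
    (ConcreteCategory.isIso_iff_bijective _).2 (hbij U)
  have hO := CurvLib.isInvertible_structureModule (X := X)
  have hv : ∀ p : ℕ, 0 < p → IsZero ((Coh.Rpush π p).obj (Coh.structureModule X)) :=
    RuledSurfLib.isZero_rpush π hf hπ hdimC hO fun y hy => by
      obtain ⟨Z, _, i, v, -, -, -, hpr, -, -⟩ := RuledSurfLib.exists_fibre π hf hπ hdimC y hy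
      rw [HodgeIdxLib.pr_comm, hpr _ hO, CurvLib.deg_congr (k := k) (KFlatLib.pullUnitIso i) 1]
      simp [Curv2.deg]
  obtain ⟨e1⟩ := RuledSurfLib.nonempty_HH_push k π hπ _ hv 1
  obtain ⟨e2⟩ := RuledSurfLib.nonempty_HH_push k π hπ _ hv 2
  let e : Coh.structureModule C ≅ (Coh.push π).obj (Coh.structureModule X) := asIso (ClSub.unitToPush π)
  haveI := CurvLib.isNoetherian k (X := C)
  haveI : Coh.IsQCoh (Coh.structureModule C) := QCohLib.isQCoh_unit
  haveI : Subsingleton (Coh.HH C (Coh.structureModule C) 2) :=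
    CurvLib.subsingleton_HH_of_dim_le _ (d := 1) hdimC.le 2 one_lt_two
  refine ⟨(e1.trans (CurvLib.hIso (k := k) e.symm 1)).finrank_eq,
    (e2.trans (CurvLib.hIso (k := k) e.symm 2)).toEquiv.subsingleton⟩

end Groth.Agent.S11346
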