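import Groth.Statements.S11349
import Groth.Agent.EllLawLib.Field
import Groth.Agent.S1561
import Groth.Agent.SweepSix.GeomConn

set_option autoImplicit false
universe u
open CategoryTheory CategoryTheory.Limits AlgebraicGeometry
open Curves

namespace Groth.Agent.S11349

open MonoidalCategory CartesianMonoidalCategory
open scoped MonObj
open CubeConsLib EllLawLib

theorem translate {S : Scheme.{u}} {C : Scheme.{u}} {f : C ⟶ S} (hf : IsCurveFam f) (σ : S ⟶ C) (hσ : σ ≫ f = 𝟙 S)
    (q : 𝟙_ (Over S) ⟶ Over.mk f) :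
    letI := grpObj hf σ hσ
    ∃ φ : Over.mk f ⟶ Over.mk f, φ ≫ φ = 𝟙 _ ∧ origin σ hσ (𝟙_ (Over S)) ≫ φ = q ∧
      ∀ r : 𝟙_ (Over S) ⟶ Over.mk f, Rel σ hσ r (r ≫ φ) q := by
  letI := grpObj hf σ hσ
  have comm : ∀ {T : Over S} (a b : T ⟶ Over.mk f), a * b = b * a := fun a b =>
    (mul_iff_rel hf σ hσ a b _).2 (((mul_iff_rel hf σ hσ b a (b * a)).1 rfl).symm)
  let φ : Over.mk f ⟶ Over.mk f := (toUnit (Over.mk f) ≫ q) * (𝟙 (Over.mk f))⁻¹
  have key : ∀ {T : Over S} (u : T ⟶ Over.mk f), u ≫ φ = (toUnit T ≫ q) * u⁻¹ := fun u => by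
    simp only [φ, MonObj.comp_mul, GrpObj.comp_inv, Category.comp_id, ← Category.assoc]
    rw [toUnit_unique (u ≫ toUnit _) (toUnit _)]
  refine ⟨φ, ?_, ?_, fun r => ?_⟩
  · rw [key φ]
    show (toUnit (Over.mk f) ≫ q) * ((toUnit (Over.mk f) ≫ q) * (𝟙 (Over.mk f))⁻¹)⁻¹ = _
    rw [mul_inv_rev, inv_inv, comm (𝟙 _), ← _root_.mul_assoc, mul_inv_cancel, _root_.one_mul]
  · rw [key]
    have h1 : origin σ hσ (𝟙_ (Over S)) = 1 := by
      refine Over.OverMorphism.ext ?_
      rw [Hom.one_def, Over.comp_left, grpObj_one hf σ hσ, toUnit_unique (toUnit (𝟙_ (Over S))) (𝟙 _)]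
      show (𝟙_ (Over S)).hom ≫ σ = _
      rfl
    rw [h1, inv_one, _root_.mul_one, toUnit_unique (toUnit _) (𝟙 _), Category.id_comp]
  · refine (mul_iff_rel hf σ hσ r _ q).1 ?_
    rw [key, toUnit_unique (toUnit _) (𝟙 _), Category.id_comp, comm q, ← _root_.mul_assoc, mul_inv_cancel, _root_.one_mul]


/-- Take an algebraically closed field k of characteristic different from 2 and an elliptic curve X over
k — an integral scheme, proper over k, of dimension one, all local rings regular, of genus dim_k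
H^1(X, O_X) = 1 — and let P, Q be closed points of X, possibly equal. Then there is an automorphism
σ of X over k with σ² = id and σ(P) = Q such that R + σ(R) is linearly equivalent to P + Q for every
closed point R; the last condition is written on ideal sheaves of points: I_R ⊗ I_{σ(R)} ≅ I_P ⊗
I_Q. -/
theorem result (k : Type u) [Field k] [IsAlgClosed k] (X : Scheme.{u}) [X.Over (Spec (CommRingCat.of k))]
    [IsIntegral X] [IsProper (X ↘ (Spec (CommRingCat.of k)))] (hdim : topologicalKrullDim X = 1)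
    (hreg : ∀ x : X, IsRegularLocalRing (X.presheaf.stalk x)) (hchar : ringChar k ≠ 2) (hg : Curv2.genus k X = 1)
    (P Q : X) (hP : IsClosed ({P} : Set X)) (hQ : IsClosed ({Q} : Set X)) :
    ∃ σ : X ≅ X, σ.hom ≫ (X ↘ (Spec (CommRingCat.of k))) = (X ↘ (Spec (CommRingCat.of k))) ∧ σ.hom ≫ σ.hom = 𝟙 X ∧ σ.hom P = Q ∧
      ∀ (R R' : X) (hR : IsClosed ({R} : Set X)) (hR' : IsClosed ({R'} : Set X)), σ.hom R = R' →
        Nonempty (CohB1.tensorMod (ClSub.idealMod (Scheme.IdealSheafData.vanishingIdeal ⟨{R}, hR⟩)) (ClSub.idealMod (Scheme.IdealSheafData.vanishingIdeal ⟨{R'}, hR'⟩)) ≅ CohB1.tensorMod (ClSub.idealMod (Scheme.IdealSheafData.vanishingIdeal ⟨{P}, hP⟩)) (ClSub.idealMod (Scheme.IdealSheafData.vanishingIdeal ⟨{Q}, hQ⟩))) := by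
  haveI : LocallyOfFinitePresentation (X ↘ Spec (CommRingCat.of k)) := inferInstance
  haveI : Smooth (X ↘ Spec (CommRingCat.of k)) :=
    Scheme.Hom.smoothLocus_eq_top_iff.1 (top_le_iff.1 fun x _ => ((Groth.Agent.S1561.result k X).1 x).2 (hreg x))
  haveI : GeometricallyConnected (X ↘ Spec (CommRingCat.of k)) := SweepSix.GeomConn.gc_of_isAlgClosed _
  set f := X ↘ Spec (CommRingCat.of k) with hfdef
  have hf : IsCurveFam f :=
    ⟨inferInstance, inferInstance, inferInstance, fun s => (dim_fiber_spec _ s).trans hdim,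
      fun s => (fiberRank_spec _ 1 s).trans hg⟩
  have hrat : ∀ R : X, IsClosed ({R} : Set X) →
      ∃ w : Spec (CommRingCat.of k) ⟶ X, w ≫ f = 𝟙 _ ∧ w (IsLocalRing.closedPoint k) = R := fun R hR => by
    refine exists_rational_of_finrank_one (k := k) ?_
    letI : Algebra k (X.residueField R) := Curv2.resAlgebra k X R
    haveI : Module.Finite k (X.residueField R) := HurwitzLib.finite_residueField (k := k) hR
    exact ((LinearEquiv.ofBijective (Algebra.linearMap k (X.residueField R))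
      IsAlgClosed.algebraMap_bijective_of_isIntegral).finrank_eq).symm.trans (Module.finrank_self k)
  obtain ⟨p, hp, hpP⟩ := hrat P hP
  obtain ⟨q₀, hq, hqQ⟩ := hrat Q hQ
  obtain ⟨φ, hinv, horig, hrel⟩ := translate hf p hp (Over.homMk q₀ hq)
  have hinv' : φ.left ≫ φ.left = 𝟙 X := (Over.comp_left _ _ _ φ φ).symm.trans (congrArg (fun ψ => Over.Hom.left ψ) hinv)
  refine ⟨⟨φ.left, φ.left, hinv', hinv'⟩, Over.w φ, hinv', ?_, ?_⟩
  · have h1 := congrArg (fun ψ : 𝟙_ (Over (Spec (CommRingCat.of k))) ⟶ Over.mk f => ψ.left (IsLocalRing.closedPoint k)) horig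
    show φ.left P = Q
    rw [← hpP, ← hqQ]
    exact h1
  intro R R' hR hR' hRR'
  obtain ⟨r, hr, hrR⟩ := hrat R hR
  let r' : 𝟙_ (Over (Spec (CommRingCat.of k))) ⟶ Over.mk f := Over.homMk r hr
  obtain ⟨M, hM, e⟩ := hrel r'
  let a : X ⟶ PicF.XT f (𝟙_ (Over (Spec (CommRingCat.of k)))) :=
    pullback.lift (𝟙 X) f (by show 𝟙 X ≫ f = f ≫ 𝟙 _; simp)
  haveI : IsIso a := by
    refine ⟨pullback.fst _ _, pullback.lift_fst _ _ _, ?_⟩
    apply pullback.hom_ext
    · rw [Category.assoc, pullback.lift_fst, Category.comp_id, Category.id_comp]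
    · rw [Category.assoc, pullback.lift_snd, Category.id_comp, pullback.condition]
      exact Category.comp_id _
  have ha : ∀ u : 𝟙_ (Over (Spec (CommRingCat.of k))) ⟶ Over.mk f,
      pull a (ptCls u) = idCls u.left.ker := fun u => by
    have hw : 𝟙 (Spec (CommRingCat.of k)) ≫ SecDivLib.pointSec f u = u.left ≫ a := by
      apply pullback.hom_ext
      · rw [Category.assoc, Category.assoc, pullback.lift_fst, Category.id_comp]
        exact (pointSec_fst u).trans (Category.comp_id _).symm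
      · rw [Category.assoc, Category.assoc, pullback.lift_snd, Category.id_comp]
        exact (SecDivLib.pointSec_proj f u).trans (Over.w u).symm
    haveI := isClosedImmersion_sec (PicF.XTproj f _) _ (SecDivLib.pointSec_proj f u)
    have hc := SecDivLib.comap_ker_of_isPullback (IsPullback.of_horiz_isIso ⟨hw⟩)
    rw [ptCls, pull_idCls a (hf.isEffCartier_pointSec u) (by rw [hc]; exact hf.isEffCartier u.left (Over.w u)), hc]
  have e' := congrArg (pull a) e
  rw [map_mul, map_mul, map_mul, ha, ha, ha, ha, pull_comp] at e'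
  haveI : Subsingleton ↥(Spec (CommRingCat.of k)) := inferInstanceAs (Subsingleton (PrimeSpectrum k))
  have hM1 : cl M = 1 := cl_eq_one_iff.2 (CohCmpLib.nonempty_iso_structureModule_of_point
    (X := Spec (CommRingCat.of k)) ((CohCmpLib.invertible_iff_rank_one M).1 hM))
  rw [hM1, map_one, _root_.mul_one] at e'
  have hker : ∀ (w : Spec (CommRingCat.of k) ⟶ X), w ≫ f = 𝟙 _ →
      ∀ (Z : X) (hZ : IsClosed ({Z} : Set X)), w (IsLocalRing.closedPoint k) = Z →
        Scheme.IdealSheafData.vanishingIdeal ⟨{Z}, hZ⟩ = w.ker := fun w hw Z hZ hwZ => by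
    subst hwZ
    exact (SecDivLib.ker_rational w hw).symm
  rw [hker r hr R hR hrR, hker (r' ≫ φ).left (Over.w (r' ≫ φ)) R' hR' (by rw [← hRR', ← hrR]; rfl),
    hker p hp P hP hpP, hker q₀ hq Q hQ hqQ]
  refine cl_eq_iff.1 (e'.trans ?_)
  rw [mul_comm]
  congr 2


end Groth.Agent.S11349
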