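import Groth.Statements.S11350
import Groth.Agent.SpaceCurveLib.Bound
import Groth.Agent.CurveCoverLib.Basic
import Groth.Agent.CurveH0Lib.VeryAmple
import Groth.Agent.CurveH0Lib.Smooth

set_option autoImplicit false
universe u
open CategoryTheory CategoryTheory.Limits AlgebraicGeometry
open Curves

namespace Groth.Agent.S11350
attribute [local instance] CurveDualLib.algFF

/-- Let k be an algebraically closed field and X a curve over k (integral, proper over k, of dimension
one, all local rings regular) together with a closed immersion i : X → P^3_k over k whose image is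
not contained in any plane — every nonzero global section of O(1) on P^3_k restricts to a nonzero
global section of i^* O(1) — and let d = deg i^* O(1) be its degree and g its genus. Then d ≥ 3 and
g ≤ d²/4 - d + 1 if d is even, g ≤ (d² - 1)/4 - d + 1 if d is odd; both cases read g ≤ ⌊d²/4⌋ - d +
1 (integer division below). -/
theorem result (k : Type u) [Field k] [IsAlgClosed k] (X : Scheme.{u}) [X.Over (Spec (CommRingCat.of k))]
    [IsIntegral X] [IsProper (X ↘ (Spec (CommRingCat.of k)))] (hdim : topologicalKrullDim X = 1)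
    (hreg : ∀ x : X, IsRegularLocalRing (X.presheaf.stalk x))
    (i : X ⟶ CohB1.ProjSpace 3 k) [IsClosedImmersion i] (hi : i ≫ CohB1.ProjSpace.toSpec 3 k = (X ↘ (Spec (CommRingCat.of k))))
    (hplane : ∀ s : LinSer.Sect (CohB1.ProjSpace 3 k) (Twist.twistProjSpace 3 k 1), s ≠ 0 →
      OmegaSh.pullSect i (Twist.twistProjSpace 3 k 1) ⊤ s ≠ 0) :
    3 ≤ Curv2.deg k X ((Scheme.Modules.pullback i).obj (Twist.twistProjSpace 3 k 1)) 1 ∧
      (Curv2.genus k X : ℤ) ≤
        Curv2.deg k X ((Scheme.Modules.pullback i).obj (Twist.twistProjSpace 3 k 1)) 1 ^ 2 / 4 -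
          Curv2.deg k X ((Scheme.Modules.pullback i).obj (Twist.twistProjSpace 3 k 1)) 1 + 1 := by
  classical
  haveI := CurveH0Lib.smooth_of_regular k (X ↘ Spec (CommRingCat.of k)) hreg
  have h0 := RRVanLib.finrank_h0_structure (k := k) (X := X)
  have hK := CurveDualLib.isFunctionField (k := k) (X := X) hdim
  have hgen := CurveDualLib.genus_eq (k := k) (X := X) hdim
  have hL := TwistLib.coord_isInvertible 3 k i
  obtain ⟨C, hCd, hC⟩ := CurveH0Lib.LinStable.exists_canonical_hasDiv (k := k) hdim
  obtain ⟨D, hD⟩ := ZetaCurveLib.exists_hasDiv (k := k) hdim hL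
  have h4 : 4 ≤ FunFld.ell D := by
    rw [← CurveH0Lib.LinStable.h0_eq_ell hdim hD]
    exact CurveCoverLib.le_h0_of_nondegenerate i hi hplane
  have hs : SpaceCurveLib.Sep2 D := fun P Q => by
    obtain ⟨x, hx, rfl⟩ := CurveDualLib.exists_point (k := k) hdim P
    obtain ⟨y, hy, rfl⟩ := CurveDualLib.exists_point (k := k) hdim Q
    have h := (CurveH0Lib.separates_iff (k := k) hdim hreg hL).1
      (CurveH0Lib.separates_of_isClosedImmersion hdim hreg i hi) x y hx hy
    rw [CurveH0Lib.finrank_h0_two_points hdim hD hx hy, CurveH0Lib.LinStable.h0_eq_ell hdim hD, ← sub_sub] at h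
    exact h
  have hd := SpaceCurveLib.deg_ge hK (D := D) (by omega)
  have hg := SpaceCurveLib.genus_le hK hC hs h4
  rw [hgen] at hg
  rw [show Curv2.deg k X ((Scheme.Modules.pullback i).obj (Twist.twistProjSpace 3 k 1)) 1 = FunFld.Divisor.deg D from
    hD.deg hdim h0]
  refine ⟨by omega, ?_⟩
  set d := FunFld.Divisor.deg D with hdd
  have h5 : (Curv2.genus k X : ℤ) + d - 1 ≤ d ^ 2 / 4 := by
    rw [Int.le_ediv_iff_mul_le (by norm_num)]
    nlinarith
  omega

end Groth.Agent.S11350
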