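import Groth.Statements.S11351
import Groth.Agent.FFLib.GenusOneCover
import Groth.Agent.CurveFFLib.DoubleLine
import Groth.Agent.CurveH0Lib.Smooth
import Groth.Agent.BlowRegLib.EtaleSections

set_option autoImplicit false
universe u
open CategoryTheory CategoryTheory.Limits AlgebraicGeometry
open Curves

namespace Groth.Agent.S11351

attribute [local instance] CurveDualLib.algFF

/-- Take an algebraically closed field k of characteristic different from 2 and an elliptic curve X over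
k (integral, proper over k, of dimension one, all local rings regular, of genus dim_k H^1(X, O_X) =
1), and let f₁, f₂ : X → P^1_k be two finite morphisms over k of degree 2 (the direct image of O_X
is locally free of rank 2). Then there are an automorphism σ of X over k and an automorphism τ of
P^1_k over k such that f₂ ∘ σ = τ ∘ f₁. -/
theorem result (k : Type u) [Field k] [IsAlgClosed k] (X : Scheme.{u}) [X.Over (Spec (CommRingCat.of k))]
    [IsIntegral X] [IsProper (X ↘ (Spec (CommRingCat.of k)))] (hdim : topologicalKrullDim X = 1)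
    (hreg : ∀ x : X, IsRegularLocalRing (X.presheaf.stalk x)) (hchar : ringChar k ≠ 2) (hg : Curv2.genus k X = 1)
    (f₁ f₂ : X ⟶ (CohB1.ProjSpace 1 k)) [IsFinite f₁] [IsFinite f₂]
    (hf₁ : f₁ ≫ CohB1.ProjSpace.toSpec 1 k = (X ↘ (Spec (CommRingCat.of k)))) (hf₂ : f₂ ≫ CohB1.ProjSpace.toSpec 1 k = (X ↘ (Spec (CommRingCat.of k))))
    (hd₁ : FlatMod.IsFinLocFreeOfRank 2 ((Scheme.Modules.pushforward f₁).obj (Coh.structureModule X)))
    (hd₂ : FlatMod.IsFinLocFreeOfRank 2 ((Scheme.Modules.pushforward f₂).obj (Coh.structureModule X))) :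
    ∃ (σ : X ≅ X) (τ : (CohB1.ProjSpace 1 k) ≅ (CohB1.ProjSpace 1 k)), σ.hom ≫ (X ↘ (Spec (CommRingCat.of k))) = (X ↘ (Spec (CommRingCat.of k))) ∧
      τ.hom ≫ CohB1.ProjSpace.toSpec 1 k = CohB1.ProjSpace.toSpec 1 k ∧ σ.hom ≫ f₂ = f₁ ≫ τ.hom := by
  letI : (CohB1.ProjSpace 1 k).Over (Spec (CommRingCat.of k)) := CurveFFLib.overLine k
  haveI : IsProper (CohB1.ProjSpace.toSpec 1 k) := ProjDegLib.toSpec_isProper k 1
  haveI : IsProper (CohB1.ProjSpace 1 k ↘ Spec (CommRingCat.of k)) := ProjDegLib.toSpec_isProper k 1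
  haveI : Smooth (CohB1.ProjSpace 1 k ↘ Spec (CommRingCat.of k)) := GenusZeroLib.smooth_toSpec 1 k
  haveI := GenusZeroLib.isIntegral_projSpace (k := k) (n := 1)
  haveI : Smooth (X ↘ (Spec (CommRingCat.of k))) := CurveH0Lib.smooth_of_regular k _ hreg
  haveI : IsNoetherian X := CurvLib.isNoetherian k
  haveI : IsNoetherian (CohB1.ProjSpace 1 k) := CurvLib.isNoetherian k
  let P := CohB1.ProjSpace 1 k
  have hP := GenusZeroLib.dim_projSpace k 1
  have hnP := HurwitzLib.isNormalScheme_of_smooth (k := k) (X := P)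
  have h2 : (2 : k) ≠ 0 := Ring.two_ne_zero hchar
  have hflat : ∀ (f : X ⟶ P) [IsFinite f], f ≫ CohB1.ProjSpace.toSpec 1 k = X ↘ (Spec (CommRingCat.of k)) → Flat f := by
    intro f _ hf
    refine Groth.Agent.S0220.result k X P (X ↘ (Spec (CommRingCat.of k))) (CohB1.ProjSpace.toSpec 1 k) hdim hP hnP f hf ?_
    obtain ⟨x, hx⟩ := (CurveFFLib.infinite_closed (k := k) hdim).nonempty
    refine ⟨f (genericPoint X), Set.mem_range_self _, f x, Set.mem_range_self _, fun h => ?_⟩
    have hc : IsClosed ({f x} : Set P) := by rw [← Set.image_singleton]; exact f.isClosedMap _ hx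
    exact GenusZeroLib.ne_genericPoint_of_isClosed hP hc (h.symm.trans (PlaneCurveLib.gen_to_gen (k := k) hdim hP f))
  haveI := hflat f₁ hf₁
  haveI := hflat f₂ hf₂
  have e₁ := PlaneCurveLib.gen_to_gen (k := k) hdim hP f₁
  have e₂ := PlaneCurveLib.gen_to_gen (k := k) hdim hP f₂
  obtain ⟨ψ₁, hψ₁⟩ := CurveFFLib.exists_algHom_of_hom (k := k) hf₁ e₁
  obtain ⟨ψ₂, hψ₂⟩ := CurveFFLib.exists_algHom_of_hom (k := k) hf₂ e₂
  have h0 := RRVanLib.finrank_h0_structure (k := k) (X := X)
  have hgX : FunFld.genus k X.functionField = 1 := by rw [CurveDualLib.genus_eq' hdim h0]; exact hg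
  obtain ⟨s, hinv, hs⟩ := @Groth.Agent.FFLib.exists_auto_of_double k X.functionField _ _ _ _
    (CurveDualLib.isFunctionField' (k := k) hdim h0) hgX h2 P.functionField P.functionField _ _ _ _
    ψ₁.toRingHom.toAlgebra ψ₂.toRingHom.toAlgebra
    (@IsScalarTower.of_algebraMap_eq k P.functionField X.functionField _ _ _ _ ψ₁.toRingHom.toAlgebra _ fun c => (ψ₁.commutes c).symm)
    (@IsScalarTower.of_algebraMap_eq k P.functionField X.functionField _ _ _ _ ψ₂.toRingHom.toAlgebra _ fun c => (ψ₂.commutes c).symm)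
    ((CurveFFLib.finrank_gen (k := k) hdim hP f₁ hψ₁).trans (BlowRegLib.finrank_eq_of_rank_push f₁ hd₁ _))
    ((CurveFFLib.finrank_gen (k := k) hdim hP f₂ hψ₂).trans (BlowRegLib.finrank_eq_of_rank_push f₂ hd₂ _))
    CurveFFLib.genus_line CurveFFLib.genus_line
  obtain ⟨σ, hσ, hσs⟩ := CurveFFLib.exists_hom_of_algHom (k := k) (X := X) (Y := X) hdim (s : X.functionField →ₐ[k] X.functionField)
  have hσσ : σ ≫ σ = 𝟙 X := by
    refine CurveFFLib.hom_ext_gen (k := k) (by rw [Category.assoc, hσ, hσ, Category.id_comp]) ?_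
    rw [← Category.assoc, hσs, Category.assoc, hσs, ← Category.assoc, ← Spec.map_comp, Category.comp_id,
      ← CommRingCat.ofHom_comp, show (s : X.functionField →ₐ[k] X.functionField).toRingHom.comp
        (s : X.functionField →ₐ[k] X.functionField).toRingHom = RingHom.id _ from RingHom.ext hinv,
      CommRingCat.ofHom_id, Spec.map_id]
    exact Category.id_comp _
  have e₂' : (σ ≫ f₂) (genericPoint X) = genericPoint P := by
    show f₂ (σ (genericPoint X)) = _
    rw [CurveFFLib.gen_of_invol hσσ, e₂]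
  have hσf : CurveFFLib.genPt X ≫ σ ≫ f₂ = Spec.map (CommRingCat.ofHom ((s : X.functionField →ₐ[k] X.functionField).comp ψ₂).toRingHom) ≫ CurveFFLib.genPt P := by
    rw [← Category.assoc, hσs, Category.assoc, hψ₂, ← Category.assoc, ← Spec.map_comp]
    rfl
  obtain ⟨τ, hτ, hτf⟩ := CurveFFLib.exists_iso_of_range_eq (S := Spec (CommRingCat.of k)) (CohB1.ProjSpace.toSpec 1 k)
    (CohB1.ProjSpace.toSpec 1 k) hP.le hnP hP.le hnP f₁ (σ ≫ f₂) (by rw [Category.assoc, hf₂, hσ, hf₁]) e₁ e₂' (by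
      rw [CurveFFLib.stalkMap_of_genPt hψ₁, CurveFFLib.stalkMap_of_genPt hσf]
      refine SetLike.coe_injective ?_
      show Set.range ψ₁ = Set.range fun z => s (ψ₂ z)
      exact hs.symm.trans (Set.range_comp s ψ₂).symm)
  exact ⟨⟨σ, σ, hσσ, hσσ⟩, τ, hσ, hτ, hτf.symm⟩

end Groth.Agent.S11351
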