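import Groth.Statements.S11352
import Groth.Agent.CurveH0Lib.LinStable
import Groth.Agent.CurveH0Lib.Smooth
-- import your own Groth.Agent.* helpers here

set_option autoImplicit false
universe u
open CategoryTheory CategoryTheory.Limits AlgebraicGeometry
open Curves

namespace Groth.Agent.S11352

attribute [local instance] CurveDualLib.algFF

/-- Let k be an algebraically closed field and X a curve over k (an integral scheme, proper over k, of
dimension one, with all local rings regular), and L, L' invertible O_X-modules each with a nonzero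
global section (the sheaves of effective divisors D and E). Then dim |D| + dim |E| ≤ dim |D + E|; in
terms of sections, dim_k H^0(X, L) + dim_k H^0(X, L') ≤ dim_k H^0(X, L ⊗ L') + 1. -/
theorem result (k : Type u) [Field k] [IsAlgClosed k] (X : Scheme.{u}) [X.Over (Spec (CommRingCat.of k))]
    [IsIntegral X] [IsProper (X ↘ (Spec (CommRingCat.of k)))] (hdim : topologicalKrullDim X = 1)
    (hreg : ∀ x : X, IsRegularLocalRing (X.presheaf.stalk x))
    (L L' : X.Modules) (hL : PicF.IsInvertible L) (hL' : PicF.IsInvertible L')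
    (hs : Nontrivial (Coh.HH X L 0)) (hs' : Nontrivial (Coh.HH X L' 0)) :
    Module.finrank k (Coh.HH X L 0) + Module.finrank k (Coh.HH X L' 0) ≤ Module.finrank k (Coh.HH X (CohB1.tensorMod L L') 0) + 1 := by
  haveI := CurveH0Lib.smooth_of_regular k (X ↘ Spec (CommRingCat.of k)) hreg
  obtain ⟨D, hD⟩ := ZetaCurveLib.exists_hasDiv (k := k) hdim hL
  obtain ⟨D', hD'⟩ := ZetaCurveLib.exists_hasDiv (k := k) hdim hL'
  haveI := CurvLib.isNoetherian k (X := X)
  haveI := CurvLib.finite_HH (k := k) (CurvLib.isCoh_of_isInvertible hL) 0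
  haveI := CurvLib.finite_HH (k := k) (CurvLib.isCoh_of_isInvertible hL') 0
  have h1 : 0 < Module.finrank k (Coh.HH X L 0) := Module.finrank_pos
  have h2 : 0 < Module.finrank k (Coh.HH X L' 0) := Module.finrank_pos
  rw [CurveH0Lib.LinStable.h0_eq_ell hdim hD] at h1 ⊢
  rw [CurveH0Lib.LinStable.h0_eq_ell hdim hD'] at h2 ⊢
  rw [CurveH0Lib.LinStable.h0_eq_ell hdim (hD.tensor hdim hD')]
  exact CurveH0Lib.ell_add_ell_le (CurveDualLib.isFunctionField (k := k) (X := X) hdim) h1 h2

end Groth.Agent.S11352
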