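import Groth.Statements.S11353
import Mathlib
import Groth.Agent.GenusOneSSLib.Normalized
import Groth.Agent.CurveH0Lib.Smooth
import Groth.Agent.AlbLib.AlgClosed
import Groth.Agent.H0Lib.Apply
-- import your own Groth.Agent.* helpers here

set_option autoImplicit false
universe u
open CategoryTheory CategoryTheory.Limits AlgebraicGeometry
open Curves

namespace Groth.Agent.S11353

/-- Let C be a curve over an algebraically closed field k (integral, proper over k, of dimension one,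
all local rings regular) and E a decomposable locally free sheaf of rank 2 — E ≅ L₁ ⊕ L₂ with L₁, L₂
invertible — which is normalized: H^0(C, E) ≠ 0 while H^0(C, E ⊗ M) = 0 for every invertible M of
negative degree. Then E ≅ O_C ⊕ L for an invertible L with deg L ≤ 0; in particular e = -deg E ≥ 0. -/
theorem result (k : Type u) [Field k] [IsAlgClosed k] (C : Scheme.{u}) [C.Over (Spec (CommRingCat.of k))]
    [IsIntegral C] [IsProper (C ↘ (Spec (CommRingCat.of k)))] (hdimC : topologicalKrullDim C = 1)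
    (hregC : ∀ x : C, IsRegularLocalRing (C.presheaf.stalk x))
    (E L₁ L₂ : C.Modules) (hL₁ : PicF.IsInvertible L₁) (hL₂ : PicF.IsInvertible L₂) (hE : Nonempty (E ≅ L₁ ⊞ L₂))
    (hn0 : Nontrivial (Coh.HH C E 0))
    (hneg : ∀ M : C.Modules, PicF.IsInvertible M → Curv2.deg k C M 1 < 0 → Subsingleton (Coh.HH C (CohB1.tensorMod E M) 0)) :
    ∃ L : C.Modules, PicF.IsInvertible L ∧ Curv2.deg k C L 1 ≤ 0 ∧ Nonempty (E ≅ Coh.structureModule C ⊞ L) := by
  haveI : LocallyOfFiniteType (C ↘ Spec (CommRingCat.of k)) := inferInstance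
  haveI := CurveH0Lib.smooth_of_regular k (C ↘ Spec (CommRingCat.of k)) hregC
  haveI := CurvLib.isNoetherian k (X := C)
  obtain ⟨e⟩ := hE
  have hE2 : ∀ L : C.Modules, PicF.IsInvertible L → ∀ i : L ⟶ E, Mono i → Curv2.deg k C L 1 ≤ 0 := fun L hL i hi => by
    haveI := hi
    by_contra hcon
    obtain ⟨M, hM, hMd, hns⟩ := GenusOneSSLib.exists_section_of_sub (k := k) hdimC hL i
    exact hns (hneg M hM (by omega))
  have hd₁ := hE2 L₁ hL₁ (biprod.inl ≫ e.inv) inferInstance
  have hd₂ := hE2 L₂ hL₂ (biprod.inr ≫ e.inv) inferInstance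
  obtain ⟨y, hy⟩ := exists_ne (0 : Coh.HH C E 0)
  let s := (GenusOneSSLib.homEquiv (k := k) E).symm y
  have hs : s ≠ 0 := fun h => hy ((GenusOneSSLib.homEquiv (k := k) E).symm.injective (h.trans (map_zero _).symm))
  by_cases h1 : s ≫ e.hom ≫ biprod.fst = 0
  · have h2 : s ≫ e.hom ≫ biprod.snd ≠ 0 := fun h2 => hs (by
      rw [← cancel_mono e.hom, zero_comp]
      apply biprod.hom_ext <;> simpa [Category.assoc])
    obtain ⟨φ⟩ := GenusOneSSLib.nonempty_iso_of_section (k := k) hdimC hL₂ hd₂ _ h2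
    exact ⟨L₁, hL₁, hd₁, ⟨e ≪≫ biprod.braiding L₁ L₂ ≪≫ biprod.mapIso φ (Iso.refl _)⟩⟩
  · obtain ⟨φ⟩ := GenusOneSSLib.nonempty_iso_of_section (k := k) hdimC hL₁ hd₁ _ h1
    exact ⟨L₂, hL₂, hd₂, ⟨e ≪≫ biprod.mapIso φ (Iso.refl _)⟩⟩

end Groth.Agent.S11353
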