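import Groth.Statements.S11355
import Groth.Agent.CurveH0Lib.Clifford
import Groth.Agent.CurveH0Lib.Smooth
import Groth.Agent.CubeConsLib.IsoCls

set_option autoImplicit false
universe u
open CategoryTheory CategoryTheory.Limits AlgebraicGeometry
open Curves

namespace Groth.Agent.S11355

/-- Let k be an algebraically closed field and X a curve over k (an integral scheme, proper over k, of
dimension one, with all local rings regular), of genus g ≥ 2. If X is hyperelliptic its g^1_2 is
unique: for any two linear series (M, s), (M', s') of degree 2 and dimension 1 on X (invertible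
modules of degree 2, each with two k-linearly independent global sections), M ≅ M' (existence of an
isomorphism; for g ≥ 2 such a module has exactly a 2-dimensional space of sections, so the linear
series coincide). -/
theorem result (k : Type u) [Field k] [IsAlgClosed k] (X : Scheme.{u}) [X.Over (Spec (CommRingCat.of k))]
    [IsIntegral X] [IsProper (X ↘ (Spec (CommRingCat.of k)))] (hdim : topologicalKrullDim X = 1)
    (hreg : ∀ x : X, IsRegularLocalRing (X.presheaf.stalk x)) (hg : 2 ≤ Curv2.genus k X)
    (M : X.Modules) (s : Fin 2 → LinSer.Sect X M) (hM : LinSer.IsLinSer k X M 2 1 s)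
    (M' : X.Modules) (s' : Fin 2 → LinSer.Sect X M') (hM' : LinSer.IsLinSer k X M' 2 1 s') :
    Nonempty (M ≅ M') := by
  haveI := CurveH0Lib.smooth_of_regular k (X ↘ Spec (CommRingCat.of k)) hreg
  have key : ∀ (L : X.Modules) (t : Fin 2 → LinSer.Sect X L), LinSer.IsLinSer k X L 2 1 t →
      2 ≤ Module.finrank k (Coh.HH X L 0) := by
    intro L t ⟨hL, _, hli⟩
    letI := GenusZeroLib.kmod k L
    haveI := CurvLib.finite_HH (k := k) (CurvLib.isCoh_of_isInvertible hL) 0
    haveI : Module.Finite k Γ(L, ⊤) := Module.Finite.equiv (GenusZeroLib.e0k k L)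
    rw [(GenusZeroLib.e0k k L).finrank_eq]
    obtain ⟨v, hv⟩ : ∃ v : Fin 2 → Γ(L, ⊤), v = t := ⟨t, rfl⟩
    have h : LinearIndependent k v :=
      Fintype.linearIndependent_iff.2 fun c hc => congrFun (hli c (by subst hv; exact hc))
    simpa using h.fintype_card_le_finrank
  exact CurveH0Lib.nonempty_iso_of_pencils hdim hg hM.1 hM'.1 hM.2.1 hM'.2.1 (key M s hM) (key M' s' hM')

end Groth.Agent.S11355
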