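import Groth.Statements.S11358
import Groth.Agent.CIRingLib.Presentation
import Groth.Agent.CMFlatLib.RegFlat
import Groth.Agent.GorLib.RegSeq
import Groth.Agent.GorLib.Fibres
import Groth.Agent.CatLib.Flat
import Groth.Agent.CatLib.CM
import Groth.Agent.TransLib.GeomFlat

set_option autoImplicit false
set_option linter.style.haveILetI false
universe u
open CAlg

namespace Groth.Agent.S11358

open IsLocalRing RingTheory.Sequence

theorem exists_gens (A : Type u) [CommRing A] [IsNoetherianRing A] (I : Ideal A) :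
    ∃ x : Fin I.spanFinrank → A, Ideal.span (Set.range x) = I := by
  classical
  have hfg : I.FG := IsNoetherian.noetherian I
  let s := (Submodule.FG.finite_generators hfg).toFinset
  have hcard : s.card = I.spanFinrank := by
    rw [← Set.ncard_eq_toFinset_card _ (Submodule.FG.finite_generators hfg), Submodule.FG.generators_ncard hfg]
  let e := s.equivFin.trans (finCongr hcard)
  refine ⟨fun i => (e.symm i).1, ?_⟩
  rw [show Set.range (fun i => (e.symm i).1) = I.generators from Set.ext fun a => ?_]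
  · exact Submodule.span_generators I
  · constructor
    · rintro ⟨i, rfl⟩
      exact (Submodule.FG.finite_generators hfg).mem_toFinset.1 (e.symm i).2
    · exact fun ha => ⟨e ⟨a, (Submodule.FG.finite_generators hfg).mem_toFinset.2 ha⟩, by simp⟩

/-- A flat map of regular local rings with regular closed fibre can be cut down to an Artinian Gorenstein
closed fibre inside the kernel of a surjection onto an Artinian ring. -/
theorem exists_cut {P P' S : Type u} [CommRing P] [CommRing P'] [CommRing S] [IsRegularLocalRing P]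
    [IsRegularLocalRing P'] [IsLocalRing S] [IsArtinianRing S] [Algebra P P'] [IsLocalHom (algebraMap P P')]
    [Module.Flat P P'] (hreg : IsRegularLocalRing (P' ⧸ (maximalIdeal P).map (algebraMap P P')))
    (ψ : P' →+* S) (hψ : Function.Surjective ψ) :
    ∃ J : Ideal P', J ≤ RingHom.ker ψ ∧ Module.Flat P (P' ⧸ J) ∧
      LocCoh.IsGorensteinLocalRing (P' ⧸ (J ⊔ (maximalIdeal P).map (algebraMap P P'))) ∧
      ∃ L : ℕ, maximalIdeal P' ^ L ≤ J ⊔ (maximalIdeal P).map (algebraMap P P') := by
  classical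
  let mP := (maximalIdeal P).map (algebraMap P P')
  let F := P' ⧸ mP
  haveI := hreg
  obtain ⟨M, hM⟩ := IsArtinianRing.isNilpotent_jacobson_bot (R := S)
  rw [IsLocalRing.jacobson_eq_maximalIdeal ⊥ bot_ne_top] at hM
  -- parameters of the base and of the fibre
  obtain ⟨d, x, hdP, hx⟩ : ∃ (d : ℕ) (x : Fin d → P), ringKrullDim P = d ∧ Ideal.span (Set.range x) = maximalIdeal P := by
    obtain ⟨x, hx⟩ := exists_gens P (maximalIdeal P)
    exact ⟨_, x, (IsRegularLocalRing.spanFinrank_maximalIdeal (R := P)).symm, hx⟩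
  obtain ⟨s, g, hsF, hg⟩ : ∃ (s : ℕ) (g : Fin s → P'), ringKrullDim F = s ∧ Ideal.span (Set.range g) ⊔ mP = maximalIdeal P' := by
    obtain ⟨y, hy⟩ := exists_gens F (maximalIdeal F)
    choose g hg using fun i => Ideal.Quotient.mk_surjective (y i)
    refine ⟨_, g, (IsRegularLocalRing.spanFinrank_maximalIdeal (R := F)).symm, ?_⟩
    have h1 : (Ideal.span (Set.range g)).map (Ideal.Quotient.mk mP) = maximalIdeal F := by
      rw [Ideal.map_span, ← Set.range_comp]
      exact (congrArg (fun u => Ideal.span (Set.range u)) (funext hg)).trans hy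
    have h2 := congrArg (Ideal.comap (Ideal.Quotient.mk mP)) h1
    rw [Ideal.comap_map_of_surjective _ Ideal.Quotient.mk_surjective, ← RingHom.ker_eq_comap_bot, Ideal.mk_ker] at h2
    rw [h2]
    exact IsLocalRing.eq_maximalIdeal (Ideal.comap_isMaximal_of_surjective _ Ideal.Quotient.mk_surjective)
  let gs := List.ofFn fun i => g i ^ (M + 1)
  let xs := (List.ofFn x).map (algebraMap P P')
  let J := Ideal.ofList gs
  have hxs : Ideal.ofList xs = mP := by
    show Ideal.ofList ((List.ofFn x).map _) = mP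
    rw [← Ideal.map_ofList]
    show Ideal.map _ (Ideal.span _) = _
    simp only [mP, ← hx]
    congr 2
    ext r
    exact List.mem_ofFn
  have hgm : ∀ i, g i ∈ maximalIdeal P' := fun i =>
    hg ▸ Submodule.mem_sup_left (Ideal.subset_span ⟨i, rfl⟩)
  have hJψ : J ≤ RingHom.ker ψ := Ideal.span_le.2 fun r hr => by
    obtain ⟨i, rfl⟩ := List.mem_ofFn.1 hr
    have h1 : ψ (g i) ∈ maximalIdeal S := by
      rw [← IsLocalRing.map_maximalIdeal_of_surjective ψ hψ]
      exact Ideal.mem_map_of_mem ψ (hgm i)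
    have h2 := Ideal.pow_mem_pow h1 M
    rw [hM, Submodule.zero_eq_bot, Ideal.mem_bot] at h2
    show ψ (g i ^ (M + 1)) = 0
    rw [map_pow, pow_succ, h2, zero_mul]
  have hpow : ∃ L : ℕ, maximalIdeal P' ^ L ≤ J ⊔ mP := by
    refine Ideal.exists_pow_le_of_le_radical_of_fg ?_ (IsNoetherian.noetherian _)
    rw [← hg]
    refine sup_le (Ideal.span_le.2 ?_) (le_sup_right.trans Ideal.le_radical)
    rintro _ ⟨i, rfl⟩
    exact ⟨M + 1, Submodule.mem_sup_left (Ideal.subset_span (List.mem_ofFn.2 ⟨i, rfl⟩))⟩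
  have hm : ∀ r ∈ gs ++ xs, r ∈ maximalIdeal P' := fun r hr => by
    rcases List.mem_append.1 hr with hr | hr
    · obtain ⟨i, rfl⟩ := List.mem_ofFn.1 hr
      exact Ideal.pow_mem_of_mem _ (hgm i) _ (Nat.succ_pos M)
    · have h1 : r ∈ mP := hxs ▸ Ideal.subset_span hr
      exact hg ▸ Submodule.mem_sup_right h1
  have hall : Ideal.ofList (gs ++ xs) = J ⊔ mP := by rw [Ideal.ofList_append, hxs]
  have hne : J ⊔ mP ≠ ⊤ := ne_top_of_le_ne_top (maximalIdeal.isMaximal P').ne_top
    (hall ▸ Ideal.span_le.2 hm)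
  have hr : IsRegular P' (gs ++ xs) := by
    refine CommAlgDim.isRegular_of_dim (CommAlgDim.isCM_of_isRegularLocalRing P') hm ?_
    have h0 : ringKrullDim (P' ⧸ Ideal.ofList (gs ++ xs)) = 0 := by
      rw [hall]
      haveI : Nontrivial (P' ⧸ (J ⊔ mP)) := Ideal.Quotient.nontrivial_iff.2 hne
      refine le_antisymm (Ring.krullDimLE_iff.1 (Ring.krullDimLE_zero_iff.2 fun q hq => ?_)) ringKrullDim_nonneg_of_nontrivial
      obtain ⟨L, hL⟩ := hpow
      haveI := hq
      have h1 : maximalIdeal P' ≤ q.comap (Ideal.Quotient.mk _) :=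
        (Ideal.IsPrime.comap (Ideal.Quotient.mk (J ⊔ mP))).le_of_pow_le (hL.trans fun a ha => by
          rw [Ideal.mem_comap, Ideal.Quotient.eq_zero_iff_mem.2 ha]
          exact zero_mem _)
      haveI : (q.comap (Ideal.Quotient.mk (J ⊔ mP))).IsMaximal :=
        (maximalIdeal.isMaximal P').eq_of_le (Ideal.IsPrime.comap _).ne_top h1 ▸ maximalIdeal.isMaximal P'
      rw [← Ideal.map_comap_of_surjective _ Ideal.Quotient.mk_surjective q]
      exact (Ideal.map_eq_top_or_isMaximal_of_surjective _ Ideal.Quotient.mk_surjective ‹_›).resolve_left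
        (by rw [Ideal.map_comap_of_surjective _ Ideal.Quotient.mk_surjective]; exact hq.ne_top)
    rw [h0, zero_add, CatLib.ringKrullDim_eq_add_of_flat (A := P) (B := P'), hdP, hsF, List.length_append,
      List.length_ofFn, List.length_map, List.length_ofFn, Nat.cast_add, add_comm]
  have hJne : J ≠ ⊤ := ne_top_of_le_ne_top hne le_sup_left
  haveI : Nontrivial (P' ⧸ J) := Ideal.Quotient.nontrivial_iff.2 hJne
  haveI : IsLocalRing (P' ⧸ J) := IsLocalRing.of_surjective' _ Ideal.Quotient.mk_surjective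
  haveI : IsLocalHom (algebraMap P (P' ⧸ J)) := ⟨fun a ha => by
    by_contra hna
    have h1 : algebraMap P P' a ∈ maximalIdeal P' := fun hu => hna (isUnit_of_map_unit (algebraMap P P') a hu)
    have h2 : Ideal.Quotient.mk J (algebraMap P P' a) ∈ maximalIdeal (P' ⧸ J) := by
      rw [← IsLocalRing.map_maximalIdeal_of_surjective _ Ideal.Quotient.mk_surjective]
      exact Ideal.mem_map_of_mem _ h1
    exact h2 ha⟩
  refine ⟨J, hJψ, ?_, ?_, hpow⟩
  · refine CMFlatLib.flat_of_regular_seq _ P (P' ⧸ J) (List.ofFn x) rfl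
      (TransLib.isWeaklyRegular_of_params hdP x hx) ?_ (by
        rw [← hx, Ideal.ofList]
        congr 1
        ext r
        exact List.mem_ofFn)
    have h1 := ((isWeaklyRegular_append_iff P' gs xs).1 hr.toIsWeaklyRegular).2
    rw [show xs = (List.ofFn x).map (algebraMap P P') from rfl, isWeaklyRegular_map_algebraMap_iff] at h1
    rw [isWeaklyRegular_map_algebraMap_iff]
    exact ((Submodule.quotEquivOfEq _ _ (by rw [Ideal.smul_eq_mul, Ideal.mul_top])).restrictScalars P
      |>.isWeaklyRegular_congr _).1 h1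
  · exact GorLib.gorenstein_congr (Ideal.quotEquivOfEq hall) |>.1
      ((GorLib.gorenstein_quotient_ofList_iff _ P' _ rfl hr.toIsWeaklyRegular hm).1 (Groth.Agent.S0342.result P'))

/-- A local homomorphism R → S of Artinian local rings factors as R → R' → S with R' Artinian local, R →
R' flat and local with Gorenstein fibre ring R'/m_R R', and R' → S surjective. -/
theorem result (R S : Type u) [CommRing R] [CommRing S] [IsArtinianRing R] [IsLocalRing R] [IsArtinianRing S] [IsLocalRing S] [Algebra R S] [IsLocalHom (algebraMap R S)] : ∃ (R' : Type u) (_ : CommRing R') (_ : Algebra R R'), IsArtinianRing R' ∧ IsLocalRing R' ∧ Module.Flat R R' ∧ IsLocalHom (algebraMap R R') ∧ LocCoh.IsGorensteinLocalRing (R' ⧸ (IsLocalRing.maximalIdeal R).map (algebraMap R R')) ∧ ∃ g : R' →ₐ[R] S, Function.Surjective g := by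
  classical
  haveI := CohenLib.isAdicComplete_of_isNilpotent (maximalIdeal R)
    ((IsLocalRing.jacobson_eq_maximalIdeal (R := R) ⊥ bot_ne_top) ▸ IsArtinianRing.isNilpotent_jacobson_bot)
  haveI := CohenLib.isAdicComplete_of_isNilpotent (maximalIdeal S)
    ((IsLocalRing.jacobson_eq_maximalIdeal (R := S) ⊥ bot_ne_top) ▸ IsArtinianRing.isNilpotent_jacobson_bot)
  obtain ⟨Λ, Λ', _, _, _, _, n, N, ρ, σ, τ, -, hρ, hσ, hcomm, hflat, hloc, hregP, hregP', hregF⟩ :=
    CIRingLib.exists_presentation (algebraMap R S)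
  let P := MvPowerSeries (Fin n) Λ
  let P' := MvPowerSeries (Fin N) Λ'
  letI : Algebra P P' := τ.toAlgebra
  haveI : Module.Flat P P' := hflat
  haveI : IsLocalHom (algebraMap P P') := hloc
  haveI : IsRegularLocalRing P := hregP
  haveI : IsRegularLocalRing P' := hregP'
  obtain ⟨J, hJσ, hJflat, hgor, L, hL⟩ := exists_cut hregF σ hσ
  haveI := hJflat
  let I := RingHom.ker ρ
  let Q := P' ⧸ J
  let IQ := I.map (algebraMap P Q)
  let σJ : Q →+* S := Ideal.Quotient.lift J σ fun a ha => hJσ ha
  have hσJ : Function.Surjective σJ := Ideal.Quotient.lift_surjective_of_surjective J _ hσ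
  have hσP : ∀ a, σJ (algebraMap P Q a) = algebraMap R S (ρ a) := fun a => RingHom.congr_fun hcomm a
  have hIQ : IQ ≤ RingHom.ker σJ := Ideal.map_le_iff_le_comap.2 fun a ha => by
    rw [Ideal.mem_comap, RingHom.mem_ker, hσP, RingHom.mem_ker.1 ha, map_zero]
  let e : (P ⧸ I) ≃+* R := RingHom.quotientKerEquivOfSurjective hρ
  let C := Q ⧸ IQ
  let ι : R →+* C := (algebraMap (P ⧸ I) C).comp e.symm.toRingHom
  letI : Algebra R C := ι.toAlgebra
  have hι : ∀ a, ι (ρ a) = Ideal.Quotient.mk IQ (algebraMap P Q a) := fun a => by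
    show algebraMap (P ⧸ I) C (e.symm (ρ a)) = _
    rw [show e.symm (ρ a) = Ideal.Quotient.mk I a from e.symm_apply_eq.2 rfl]
    rfl
  haveI : Nontrivial C := Ideal.Quotient.nontrivial_iff.2 (ne_top_of_le_ne_top (RingHom.ker_ne_top σJ) hIQ)
  haveI : IsLocalRing C := IsLocalRing.of_surjective' ((Ideal.Quotient.mk IQ).comp (Ideal.Quotient.mk J))
    (Ideal.Quotient.mk_surjective.comp Ideal.Quotient.mk_surjective)
  haveI : Module.Flat (P ⧸ I) C := CatLib.flat_quotient I
  let π : P' →+* C := (Ideal.Quotient.mk IQ).comp (Ideal.Quotient.mk J)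
  have hπ : Function.Surjective π := Ideal.Quotient.mk_surjective.comp Ideal.Quotient.mk_surjective
  have hmap : (maximalIdeal R).map ι = ((maximalIdeal P).map (algebraMap P P')).map π := by
    rw [← IsLocalRing.map_maximalIdeal_of_surjective ρ hρ, Ideal.map_map, Ideal.map_map]
    exact congrArg (fun u => Ideal.map u (maximalIdeal P)) (RingHom.ext hι)
  have hker : RingHom.ker ((Ideal.Quotient.mk ((maximalIdeal R).map ι)).comp π) =
      J ⊔ (maximalIdeal P).map (algebraMap P P') := by
    rw [← RingHom.comap_ker, Ideal.mk_ker, hmap, Ideal.comap_map_of_surjective _ hπ]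
    refine le_antisymm (sup_le le_sup_right ?_) (sup_le ?_ le_sup_left)
    · intro a ha
      rw [Ideal.mem_comap, Ideal.mem_bot] at ha
      have h1 : Ideal.Quotient.mk J a ∈ IQ := Ideal.Quotient.eq_zero_iff_mem.1 ha
      have h2 : IQ ≤ ((maximalIdeal P).map (algebraMap P P')).map (Ideal.Quotient.mk J) := by
        rw [Ideal.map_map]
        exact Ideal.map_mono (IsLocalRing.le_maximalIdeal (RingHom.ker_ne_top ρ))
      have h3 := Ideal.mem_comap.2 (h2 h1)
      rwa [Ideal.comap_map_of_surjective _ Ideal.Quotient.mk_surjective, ← RingHom.ker_eq_comap_bot, Ideal.mk_ker,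
        sup_comm] at h3
    · intro a ha
      refine Submodule.mem_sup_right ?_
      rw [Ideal.mem_comap, Ideal.mem_bot]
      show Ideal.Quotient.mk IQ (Ideal.Quotient.mk J a) = 0
      rw [Ideal.Quotient.eq_zero_iff_mem.2 ha, map_zero]
  have hart : IsArtinianRing C := by
    rw [isArtinianRing_iff_isNilpotent_maximalIdeal, ← IsLocalRing.map_maximalIdeal_of_surjective π hπ]
    obtain ⟨M, hM⟩ : IsNilpotent (maximalIdeal R) :=
      (IsLocalRing.jacobson_eq_maximalIdeal (R := R) ⊥ bot_ne_top) ▸ IsArtinianRing.isNilpotent_jacobson_bot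
    refine ⟨L * M, le_bot_iff.1 ?_⟩
    rw [pow_mul, ← Ideal.map_pow]
    refine (Ideal.pow_right_mono ((Ideal.map_mono hL).trans (show _ ≤ (maximalIdeal R).map ι from ?_)) M).trans ?_
    · rw [hmap, Ideal.map_sup]
      refine sup_le ?_ le_rfl
      refine Ideal.map_le_iff_le_comap.2 fun a ha => ?_
      rw [Ideal.mem_comap]
      show Ideal.Quotient.mk IQ (Ideal.Quotient.mk J a) ∈ _
      rw [Ideal.Quotient.eq_zero_iff_mem.2 ha, map_zero]
      exact zero_mem _
    · rw [← Ideal.map_pow, hM, Submodule.zero_eq_bot, Ideal.map_bot]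
  let g : C →+* S := Ideal.Quotient.lift IQ σJ fun a ha => hIQ ha
  have hgι : ∀ r, g (ι r) = algebraMap R S r := fun r => by
    obtain ⟨a, rfl⟩ := hρ r
    rw [hι]
    exact hσP a
  refine ⟨C, inferInstance, inferInstance, hart, inferInstance, ?_, ?_, ?_,
    ⟨{ g with commutes' := hgι }, Ideal.Quotient.lift_surjective_of_surjective IQ _ hσJ⟩⟩
  · exact RingHom.Flat.comp (RingHom.Flat.of_bijective e.symm.bijective) (RingHom.flat_algebraMap_iff.2 inferInstance)
  · refine ⟨fun r hr => isUnit_of_map_unit (algebraMap R S) r ?_⟩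
    rw [← hgι]
    exact hr.map g
  · show LocCoh.IsGorensteinLocalRing (C ⧸ (maximalIdeal R).map ι)
    let q : P' →+* C ⧸ (maximalIdeal R).map ι := (Ideal.Quotient.mk ((maximalIdeal R).map ι)).comp π
    have hq : Function.Surjective q := fun z => by
      obtain ⟨c, rfl⟩ := Ideal.Quotient.mk_surjective z
      obtain ⟨a, rfl⟩ := hπ c
      exact ⟨a, rfl⟩
    exact (GorLib.gorenstein_congr
      ((Ideal.quotEquivOfEq hker.symm).trans (RingHom.quotientKerEquivOfSurjective hq))).1 hgor

end Groth.Agent.S11358
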