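import Groth.Statements.S11360
import Groth.Agent.DualCxLib.LocApps

set_option autoImplicit false
set_option linter.style.haveILetI false
universe u
open CategoryTheory
attribute [local instance] HasDerivedCategory.standard
open Dual

namespace Groth.Agent.S11360

/-- Let A be a Noetherian ring and R an object of D(A) with finite cohomology modules and of finite
injective dimension (isomorphic to a bounded complex of injective modules). If for every prime p of
A the derived base change of R to A_p (the total left derived functor of extension of scalars,
assumed to exist) is a dualizing complex for A_p, then R is a dualizing complex for A. (The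
published statement is for a locally Noetherian scheme and the stalks at all points; this row is the
affine case. Without the global finite injective dimension hypothesis the conclusion fails, e.g. for
a regular Noetherian ring of infinite Krull dimension.) -/
theorem result (A : Type u) [CommRing A] [IsNoetherianRing A] (R : Dual.D A) (hfin : ∀ i : ℤ, Module.Finite A (Dual.HD A R i)) (hfid : DRing.HasFiniteInjDim A R) [∀ p : PrimeSpectrum A, DRing.HasLBaseChange (algebraMap A (Localization.AtPrime p.asIdeal))] (h : ∀ p : PrimeSpectrum A, Dual.IsDualizing (Localization.AtPrime p.asIdeal) ((DRing.LBaseChange (algebraMap A (Localization.AtPrime p.asIdeal))).obj R)) : Dual.IsDualizing A R := by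
  obtain ⟨a, b, hab⟩ := hfid
  have H : ∀ p : PrimeSpectrum A, ∃ η : R ⟶ (DRing.restrictD (Groth.Agent.DualCxLib.locMap p)).obj
      ((DRing.LBaseChange (Groth.Agent.DualCxLib.locMap p)).obj R),
      Groth.Agent.DualCxLib.IsUniv (Groth.Agent.DualCxLib.locMap p) η ∧
        Groth.Agent.DualCxLib.IsLocH (Groth.Agent.DualCxLib.locMap p) p.asIdeal.primeCompl η := fun p =>
    Groth.Agent.DualCxLib.exists_loc_base (S := Localization.AtPrime p.asIdeal) p.asIdeal.primeCompl R
  choose η hη hL using H
  exact Groth.Agent.DualCxLib.isDualizing_of_local Groth.Agent.DualCxLib.covers_atPrime hη hL hfin h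
    fun I i hi => Groth.Agent.DualCxLib.ext_of_hasInjAmplitudeIn hab (A ⧸ I) i hi

end Groth.Agent.S11360
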