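import Groth.Statements.S11361
import Groth.Agent.ShriekAffLib.CMExtConv
import Groth.Agent.ShriekAffLib.ExtCond
import Groth.Agent.SMTLib.CMQuot

set_option autoImplicit false
set_option backward.isDefEq.respectTransparency false
set_option backward.isDefEq.respectTransparency.types false
set_option linter.style.haveILetI false
set_option maxHeartbeats 1000000
universe u
open CategoryTheory
open scoped TensorProduct
open Dual
attribute [local instance] HasDerivedCategory.standard

namespace Groth.Agent.S11361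

/-- Let A be a Noetherian ring, n ≤ N, P = A[t_1, …, t_N], I an ideal of P with B = P/I flat over A.
Then all fibre rings B ⊗_A κ(p) are Cohen–Macaulay with every irreducible component of dimension n
(every minimal prime of the fibre ring has coheight n in its spectrum) if and only if Ext^j_P(B, P)
vanishes for j ≠ N − n and Ext^{N−n}_P(B, P) is A-flat. (The published statement is for a flat
morphism of locally Noetherian schemes factoring through a closed immersion into a separated smooth
scheme, with f^! of the structure sheaf in place of the Ext modules; this row is the affine case of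
a closed subscheme of affine N-space, where the two agree up to a shift and a twist by the trivial
canonical module.) -/
theorem result (A : Type u) [CommRing A] [IsNoetherianRing A] (N n : ℕ) (hnN : n ≤ N) (I : Ideal (MvPolynomial (Fin N) A)) [Module.Flat A (MvPolynomial (Fin N) A ⧸ I)] : (∀ p : PrimeSpectrum A, LocCoh.IsCohenMacaulayRing ((MvPolynomial (Fin N) A ⧸ I) ⊗[A] p.asIdeal.ResidueField) ∧ ∀ Q : PrimeSpectrum ((MvPolynomial (Fin N) A ⧸ I) ⊗[A] p.asIdeal.ResidueField), Q.asIdeal ∈ minimalPrimes ((MvPolynomial (Fin N) A ⧸ I) ⊗[A] p.asIdeal.ResidueField) → Order.coheight Q = (n : ℕ∞)) ↔ ((∀ j : ℕ, j ≠ N - n → Subsingleton (Abelian.Ext (ModuleCat.of (MvPolynomial (Fin N) A) (MvPolynomial (Fin N) A ⧸ I)) (ModuleCat.of (MvPolynomial (Fin N) A) (MvPolynomial (Fin N) A)) j)) ∧ Module.Flat A (RestrictScalars A (MvPolynomial (Fin N) A) (Abelian.Ext (ModuleCat.of (MvPolynomial (Fin N) A) (MvPolynomial (Fin N) A ⧸ I)) (ModuleCat.of (MvPolynomial (Fin N) A) (MvPolynomial (Fin N) A)) (N - n)))) := by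
  haveI := DRingLib.hasLBaseChange (algebraMap A (MvPolynomial (Fin N) A))
  obtain ⟨⟨Rψ, adj⟩⟩ := ShriekRingLib.exists_rightAdjoint (Ideal.Quotient.mkₐ A I).toRingHom
  refine Iff.trans ?_ (ShriekAffLib.ext_conditions_iff A N n I hnN adj).symm
  refine ⟨fun h => ?_, fun h p => ?_⟩
  · refine ShriekAffLib.concentrated_flat N n (Ideal.Quotient.mkₐ A I) Ideal.Quotient.mk_surjective adj
      (fun p => SMTLib.isCohenMacaulayRing_of_ringEquiv (Algebra.TensorProduct.comm A _ _).toRingEquiv (h p).1)
      fun p q hq => ?_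
    let e := PrimeSpectrum.comapEquiv (R := p.asIdeal.ResidueField ⊗[A] (MvPolynomial (Fin N) A ⧸ I)) (S := (MvPolynomial (Fin N) A ⧸ I) ⊗[A] p.asIdeal.ResidueField) (Algebra.TensorProduct.comm A (p.asIdeal.ResidueField)
      (MvPolynomial (Fin N) A ⧸ I)).toRingEquiv
    have hm : (e q).asIdeal ∈ minimalPrimes _ := PrimeSpectrum.isMin_iff.1 (e.isMin_apply.2 (PrimeSpectrum.isMin_iff.2 hq))
    rw [← ShriekAffLib.coheight_eq_dim, ← Order.coheight_orderIso e q, (h p).2 _ hm]
    rfl
  · obtain ⟨hcm, hd⟩ := ShriekAffLib.cm_of_concentrated_flat N n (Ideal.Quotient.mkₐ A I)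
      Ideal.Quotient.mk_surjective adj h.1 h.2 p.asIdeal.ResidueField
    refine ⟨SMTLib.isCohenMacaulayRing_of_ringEquiv (Algebra.TensorProduct.comm A _ _).toRingEquiv hcm,
      fun Q hQ => ?_⟩
    let e := PrimeSpectrum.comapEquiv (R := (MvPolynomial (Fin N) A ⧸ I) ⊗[A] p.asIdeal.ResidueField) (S := p.asIdeal.ResidueField ⊗[A] (MvPolynomial (Fin N) A ⧸ I)) (Algebra.TensorProduct.comm A (MvPolynomial (Fin N) A ⧸ I)
      (p.asIdeal.ResidueField)).toRingEquiv
    have hm : (e Q).asIdeal ∈ minimalPrimes _ := PrimeSpectrum.isMin_iff.1 (e.isMin_apply.2 (PrimeSpectrum.isMin_iff.2 hQ))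
    have h1 := hd _ hm
    rw [← ShriekAffLib.coheight_eq_dim, Order.coheight_orderIso e Q] at h1
    exact WithBot.coe_injective h1

end Groth.Agent.S11361
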