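import Groth.Statements.S11365
import Groth.Agent.ShriekAffLib.InvExt
import Groth.Agent.ShriekAffLib.ExtCond
import Groth.Agent.S1786

set_option autoImplicit false
set_option backward.isDefEq.respectTransparency false
set_option backward.isDefEq.respectTransparency.types false
set_option linter.style.haveILetI false
set_option maxHeartbeats 1000000
universe u
open CategoryTheory
open scoped TensorProduct
open Dual
attribute [local instance] HasDerivedCategory.standard

namespace Groth.Agent.S11365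

/-- Let A be a Noetherian ring, n ≤ N, P = A[t_1, …, t_N], I an ideal of P with B = P/I flat over A, and
suppose Ext^j_P(B, P) vanishes for j ≠ N − n while Ext^{N−n}_P(B, P) is A-flat. Then Ext^{N−n}_P(B,
P) is P-isomorphic to an invertible B-module if and only if all fibre rings B ⊗_A κ(p) are
Gorenstein. (The published statement is for the degree −n cohomology of f^! of the structure sheaf
of a CM morphism of locally Noetherian schemes with pure relative dimension n; this row is the
affine case of a closed subscheme of affine N-space.) -/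
theorem result (A : Type u) [CommRing A] [IsNoetherianRing A] (N n : ℕ) (hnN : n ≤ N) (I : Ideal (MvPolynomial (Fin N) A)) [Module.Flat A (MvPolynomial (Fin N) A ⧸ I)] (hvan : ∀ j : ℕ, j ≠ N - n → Subsingleton (Abelian.Ext (ModuleCat.of (MvPolynomial (Fin N) A) (MvPolynomial (Fin N) A ⧸ I)) (ModuleCat.of (MvPolynomial (Fin N) A) (MvPolynomial (Fin N) A)) j)) (hflat : Module.Flat A (RestrictScalars A (MvPolynomial (Fin N) A) (Abelian.Ext (ModuleCat.of (MvPolynomial (Fin N) A) (MvPolynomial (Fin N) A ⧸ I)) (ModuleCat.of (MvPolynomial (Fin N) A) (MvPolynomial (Fin N) A)) (N - n)))) : (∃ (L : Type u) (_ : AddCommGroup L) (_ : Module (MvPolynomial (Fin N) A ⧸ I) L), Module.Invertible (MvPolynomial (Fin N) A ⧸ I) L ∧ Nonempty (RestrictScalars (MvPolynomial (Fin N) A) (MvPolynomial (Fin N) A ⧸ I) L ≃ₗ[(MvPolynomial (Fin N) A)] Abelian.Ext (ModuleCat.of (MvPolynomial (Fin N) A) (MvPolynomial (Fin N) A ⧸ I)) (ModuleCat.of (MvPolynomial (Fin N) A) (MvPolynomial (Fin N) A)) (N - n))) ↔ ∀ p : PrimeSpectrum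 A, LocCoh.IsGorensteinRing ((MvPolynomial (Fin N) A ⧸ I) ⊗[A] p.asIdeal.ResidueField) := by
  haveI := DRingLib.hasLBaseChange (algebraMap A (MvPolynomial (Fin N) A))
  haveI : ∀ f : MvPolynomial (Fin N) A ⧸ I,
      DRing.HasLBaseChange (algebraMap (MvPolynomial (Fin N) A ⧸ I) (Localization.Away f)) :=
    fun f => DRingLib.hasLBaseChange _
  obtain ⟨⟨Rψ, adj⟩⟩ := ShriekRingLib.exists_rightAdjoint (Ideal.Quotient.mkₐ A I).toRingHom
  obtain ⟨hz, -⟩ := (ShriekAffLib.ext_conditions_iff A N n I hnN adj).1 ⟨hvan, hflat⟩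
  have h0 := ShriekAffLib.exists_ext_equiv A N I adj (N - n)
  have hdeg : (((N - n : ℕ) : ℤ) - N) = -(n : ℤ) := by omega
  rw [hdeg] at h0
  obtain ⟨E, hE⟩ := h0
  refine Iff.trans ?_ (Groth.Agent.S1786.result A _ N (Ideal.Quotient.mkₐ A I)
    Ideal.Quotient.mk_surjective Rψ adj).symm
  constructor
  · rintro ⟨L, _, _, hL, ⟨eL⟩⟩ q
    let g : L ≃+ Dual.HD (MvPolynomial (Fin N) A ⧸ I) (Dual2.shriekVia N Rψ (Dual.inD A A)) (-(n : ℤ)) :=
      (RestrictScalars.addEquiv (MvPolynomial (Fin N) A) (MvPolynomial (Fin N) A ⧸ I) L).symm.trans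
        (eL.toAddEquiv.trans E)
    let g' : L ≃ₗ[MvPolynomial (Fin N) A ⧸ I]
        Dual.HD (MvPolynomial (Fin N) A ⧸ I) (Dual2.shriekVia N Rψ (Dual.inD A A)) (-(n : ℤ)) :=
      g.toLinearEquiv fun b x => by
        obtain ⟨p, rfl⟩ := Ideal.Quotient.mk_surjective b
        show E (eL ((RestrictScalars.addEquiv (MvPolynomial (Fin N) A) _ L).symm (Ideal.Quotient.mk I p • x))) =
          Ideal.Quotient.mk I p • E (eL ((RestrictScalars.addEquiv (MvPolynomial (Fin N) A) _ L).symm x))
        rw [← hE, ← map_smul eL]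
        rfl
    haveI := hL
    haveI := Module.Invertible.congr g'
    exact ShriekAffLib.exists_shift_of_invertible _ _ hz q
  · intro h
    obtain ⟨lo, hi, -, hfin⟩ := ShriekRingLib.finite_bounded_shriekVia A _ N (Ideal.Quotient.mkₐ A I)
      Ideal.Quotient.mk_surjective adj
    refine ⟨Dual.HD (MvPolynomial (Fin N) A ⧸ I) (Dual2.shriekVia N Rψ (Dual.inD A A)) (-(n : ℤ)),
      inferInstance, inferInstance, ShriekAffLib.invertible_of_shift _ _ hz (hfin _) h, ?_⟩
    refine ⟨(((RestrictScalars.addEquiv (MvPolynomial (Fin N) A) (MvPolynomial (Fin N) A ⧸ I) _).trans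
      E.symm).toLinearEquiv fun p x => E.injective ?_)⟩
    show E (E.symm (RestrictScalars.addEquiv _ _ _ (p • x))) = E (p • E.symm (RestrictScalars.addEquiv _ _ _ x))
    rw [hE, E.apply_symm_apply, E.apply_symm_apply, RestrictScalars.addEquiv_map_smul]
    rfl

end Groth.Agent.S11365
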