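import Groth.Statements.S11366
import Groth.Agent.RelDualCMLib.Bij
import Groth.Agent.H0Lib.Apply
-- import your own Groth.Agent.* helpers here

set_option autoImplicit false
universe u
open CategoryTheory AlgebraicGeometry
open Dual CategoryTheory.Limits
attribute [local instance] HasDerivedCategory.standard

namespace Groth.Agent.S11366

/-- Let A be any commutative ring and X a scheme proper, flat and locally of finite presentation over
Spec A, Cohen–Macaulay at every point, with every irreducible component of every fibre of dimension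
n and with geometrically reduced and geometrically connected (hence non-empty) fibres. If ω is a
quasi-coherent O_X-module and γ : H^n(X, ω) → A an A-linear map such that φ ↦ γ ∘ H^n(φ) is a
bijection from Hom(F, ω) onto the A-linear maps H^n(X, F) → A for every quasi-coherent F, then γ is
bijective. (The published statement is that the trace γ_f : R^n f_*(ω_f) → O_Y of the relative
dualizing module is surjective in general and an isomorphism when the fibres are geometrically
reduced and geometrically connected; this row characterises (ω_f, γ_f) by its universal property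
over an affine base and keeps the isomorphism assertion; for an empty fibre the conclusion fails,
which the connectedness class used here excludes.) -/
theorem result (A : Type u) [CommRing A] (X : Scheme.{u}) [X.Over (Spec (CommRingCat.of A))] [IsProper (X ↘ Spec (CommRingCat.of A))] [Flat (X ↘ Spec (CommRingCat.of A))] [LocallyOfFinitePresentation (X ↘ Spec (CommRingCat.of A))] (hCM : ∀ x : X, MoreMor.IsCMAt (X ↘ Spec (CommRingCat.of A)) x) (n : ℕ) (hd : ∀ (y : ↥(Spec (CommRingCat.of A))) (Z : Set ↥((X ↘ Spec (CommRingCat.of A)).fiber y)), Z ∈ irreducibleComponents ↥((X ↘ Spec (CommRingCat.of A)).fiber y) → topologicalKrullDim ↥Z = (n : WithBot ℕ∞)) [GeometricallyReduced (X ↘ Spec (CommRingCat.of A))] [GeometricallyConnected (X ↘ Spec (CommRingCat.of A))] (ω : X.Modules) (hω : Coh.IsQCoh ω) (γ : Coh.HH X ω n →ₗ[A] A) (huniv : (∀ F : X.Modules, Coh.IsQCoh F → ((∀ φ ψ : F ⟶ ω, (∀ x : Coh.HH X F n, γ (Sheaf.H.map ((SheafOfModules.toSheaf X.ringCatSheaf).map φ) n x) = γ (Sheaf.H.map ((SheafOfModules.toSheaf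 X.ringCatSheaf).map ψ) n x)) → φ = ψ) ∧ (∀ g : Coh.HH X F n →ₗ[A] A, ∃ φ : F ⟶ ω, ∀ x : Coh.HH X F n, γ (Sheaf.H.map ((SheafOfModules.toSheaf X.ringCatSheaf).map φ) n x) = g x)))) : Function.Bijective γ := by
  haveI : PreservesFiniteLimits (tilde.functor (CommRingCat.of A)) :=
    HensSchLib.tilde_preservesFiniteLimits _
  let f := X ↘ Spec (CommRingCat.of A)
  haveI : CompactSpace X := QuasiCompact.compactSpace_of_compactSpace f
  haveI : QuasiSeparatedSpace X := quasiSeparatedSpace_of_quasiSeparated f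
  haveI : DCoh.HasRpush f := Groth.Agent.DCohRestrLib.hasRpush f
  have hf : DCoh.RpushPreservesQCoh f := fun K hK => QRlimLib.isQCohD_rpush f hK
  haveI := Groth.Agent.KoszOrthLib.isLeftAdjoint_rpushQ f hf
  let adj := Adjunction.ofIsLeftAdjoint (DCoh.RpushQ f hf)
  let a := (DCoh.RpushQ f hf).rightAdjoint
  let O := Groth.Agent.RelDualCMLib.unitQ (Spec (CommRingCat.of A))
  let eO : O.obj ≅ _ := Iso.refl O.obj
  let G := DCoh.HD (a.obj O).obj (-(n : ℤ))
  have hfib := H0Lib.H0Fib.of_geometrically f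
  haveI := H0Lib.surjective_of_h0Fib f hfib
  have hne : ∀ s, Nonempty (f.fiber s) := fun s => by
    obtain ⟨x, hx⟩ := f.surjective s
    obtain ⟨v, -⟩ := (f.range_fiberι s).ge (show x ∈ f ⁻¹' {s} from hx)
    exact ⟨v⟩
  have hb : ∀ s, Function.Bijective (Coh.toGlobal (A := ((Spec (CommRingCat.of A)).residueField s))
      (f.fiberToSpecResidueField s)) := fun s => by
    haveI : IsIso (f.fiberToSpecResidueField s).appTop :=
      hfib ((Spec (CommRingCat.of A)).residueField s) ((Spec (CommRingCat.of A)).fromSpecResidueField s)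
    exact (ConcreteCategory.bijective_of_isIso (f.fiberToSpecResidueField s).appTop).comp
      (ConcreteCategory.bijective_of_isIso (Scheme.ΓSpecIso ((Spec (CommRingCat.of A)).residueField s)).inv)
  have hamp := (Groth.Agent.RelDualCMLib.concentrated f hf a adj O ⟨eO⟩ hCM n hd).1
  obtain ⟨ψ, hψ, hψinj⟩ := Groth.Agent.RelDualCMLib.exists_image hf a adj O eO n hamp
  have hψi : Function.Injective ψ :=
    hψinj (Groth.Agent.RelDualCMLib.injective_coord hf a adj O eO hCM n hd hne hb)
  obtain ⟨φ, hφ⟩ := (huniv G ((a.obj O).property _)).2 ψ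
  have hψs : Function.Surjective ψ := by
    refine LinearMap.range_eq_top.1 ?_
    by_contra hne'
    obtain ⟨m, hm, hle⟩ := Ideal.exists_le_maximal _ hne'
    obtain ⟨g, hg⟩ := Groth.Agent.RelDualCMLib.exists_coord_notMem hf a adj O eO hCM n hd
      ⟨m, hm.isPrime⟩ (hne _)
    obtain ⟨x, hx⟩ := hψ g
    exact hg (hx ▸ hle ⟨x, rfl⟩)
  -- universality of the constructed sheaf
  haveI : (Dual.inD A A).IsGE 0 :=
    inferInstanceAs (((DerivedCategory.singleFunctor (ModuleCat.{u} A) 0).obj _).IsGE 0)
  haveI hge : (a.obj O).obj.IsGE (-(n : ℤ)) := (DerivedCategory.isGE_iff _ _).2 fun i hi => hamp i (by omega)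
  obtain ⟨t, ht⟩ := Groth.Agent.Dual3Lib.exists_trace hf a adj n 0 (-(n : ℤ)) (by omega) O
    (ω := Dual.inD A A) Groth.Agent.Dual3Lib.inDSpecIso.symm hge
  let β : (DerivedCategory.homologyFunctor (ModuleCat.{u} A) 0).obj (Dual.inD A A) ≃ₗ[A] A :=
    ((DerivedCategory.singleFunctorCompHomologyFunctorIso (ModuleCat.{u} A) 0).app (ModuleCat.of A A)).toLinearEquiv
  have hv : ∀ F : X.Modules, Coh.IsQCoh F → ∀ j : ℕ, n < j → Subsingleton (Coh.HH X F j) := fun F hF j hj => by
    haveI := hF
    exact FibVanLib.subsingleton_HH_affine f n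
      (Groth.Agent.ProperTraceLib.fiber_dim_le n hd) F j hj
  obtain ⟨φ₁, hφ₁⟩ := (huniv G ((a.obj O).property _)).2 (β.toLinearMap.comp t)
  obtain ⟨φ₂, hφ₂, -⟩ := ht ω hω (hv ω hω) (β.symm.toLinearMap.comp γ)
  have hid : φ₂ ≫ φ₁ = 𝟙 ω := (huniv ω hω).1 _ _ fun x => by
    refine ((congrArg γ (Groth.Agent.Dual3Lib.hMap_comp φ₂ φ₁ n x)).trans (hφ₁ _)).trans ?_
    show β (t _) = _
    rw [← hφ₂ x]
    show β (β.symm (γ x)) = _
    rw [LinearEquiv.apply_symm_apply]
    erw [CategoryTheory.Functor.map_id, Sheaf.H.map_id_apply]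
  let H₁ := Groth.Agent.Dual3Lib.hMapL (A := A) φ₁ n
  let H₂ := Groth.Agent.Dual3Lib.hMapL (A := A) φ₂ n
  have hH : ∀ x, H₁ (H₂ x) = x := fun x => by
    refine (Groth.Agent.Dual3Lib.hMap_comp φ₂ φ₁ n x).symm.trans ?_
    erw [hid, CategoryTheory.Functor.map_id, Sheaf.H.map_id_apply]
  have hs : Function.Surjective γ := fun r => by
    obtain ⟨x, hx⟩ := hψs r
    exact ⟨_, (hφ x).trans hx⟩
  let e := LinearEquiv.ofBijective ψ ⟨hψi, hψs⟩
  let E : A →ₗ[A] A := (γ.comp H₁).comp e.symm.toLinearMap
  have hEs : Function.Surjective E := fun r => by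
    obtain ⟨x, hx⟩ := hs r
    refine ⟨e (H₂ x), ?_⟩
    show γ (H₁ (e.symm (e (H₂ x)))) = r
    rw [e.symm_apply_apply, hH, hx]
  have hEi : Function.Injective E := OrzechProperty.injective_of_surjective_endomorphism E hEs
  refine ⟨fun x y hxy => ?_, hs⟩
  rw [← hH x, ← hH y]
  refine congrArg H₁ (e.injective (hEi ?_))
  show γ (H₁ (e.symm (e (H₂ x)))) = γ (H₁ (e.symm (e (H₂ y))))
  rw [e.symm_apply_apply, e.symm_apply_apply, hH, hH, hxy]

end Groth.Agent.S11366
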