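import Groth.Statements.S11367
import Groth.Agent.RelDualCMLib.Surj
-- import your own Groth.Agent.* helpers here

set_option autoImplicit false
universe u
open CategoryTheory AlgebraicGeometry
open Dual CategoryTheory.Limits
attribute [local instance] HasDerivedCategory.standard

namespace Groth.Agent.S11367

/-- Let A be any commutative ring and X a scheme proper, flat, locally of finite presentation and
surjective over Spec A, Cohen–Macaulay at every point, with every irreducible component of every
fibre of dimension n. If ω is a quasi-coherent O_X-module and γ : H^n(X, ω) → A an A-linear map such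
that φ ↦ γ ∘ H^n(φ) is a bijection from Hom(F, ω) onto the A-linear maps H^n(X, F) → A for every
quasi-coherent F, then γ is surjective. (The published assertion is that the trace γ_f : R^n
f_*(ω_f) → O_Y is always surjective for a proper Cohen–Macaulay f of pure relative dimension, with
no condition on the fibres being non-empty; over a point with empty fibre the source of γ_f vanishes
near that point and surjectivity fails, and the published proof computes on non-empty fibres, so f
is taken surjective here; (ω_f, γ_f) is characterised by its universal property over an affine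
base.) -/
theorem result (A : Type u) [CommRing A] (X : Scheme.{u}) [X.Over (Spec (CommRingCat.of A))] [IsProper (X ↘ Spec (CommRingCat.of A))] [Flat (X ↘ Spec (CommRingCat.of A))] [LocallyOfFinitePresentation (X ↘ Spec (CommRingCat.of A))] [Surjective (X ↘ Spec (CommRingCat.of A))] (hCM : ∀ x : X, MoreMor.IsCMAt (X ↘ Spec (CommRingCat.of A)) x) (n : ℕ) (hd : ∀ (y : ↥(Spec (CommRingCat.of A))) (Z : Set ↥((X ↘ Spec (CommRingCat.of A)).fiber y)), Z ∈ irreducibleComponents ↥((X ↘ Spec (CommRingCat.of A)).fiber y) → topologicalKrullDim ↥Z = (n : WithBot ℕ∞)) (ω : X.Modules) (hω : Coh.IsQCoh ω) (γ : Coh.HH X ω n →ₗ[A] A) (huniv : (∀ F : X.Modules, Coh.IsQCoh F → ((∀ φ ψ : F ⟶ ω, (∀ x : Coh.HH X F n, γ (Sheaf.H.map ((SheafOfModules.toSheaf X.ringCatSheaf).map φ) n x) = γ (Sheaf.H.map ((SheafOfModules.toSheaf X.ringCatSheaf).map ψ) n x)) → φ = ψ) ∧ (∀ g : Coh.HH X F n →ₗ[A] A, ∃ φ : F ⟶ ω, ∀ x : Coh.HH X F n, γ (Sheaf.H.map ((SheafOfModules.toSheaf X.ringCatSheaf).map φ) n x) = g x)))) : Function.Surjective γ := by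
  haveI : PreservesFiniteLimits (tilde.functor (CommRingCat.of A)) :=
    HensSchLib.tilde_preservesFiniteLimits _
  let f := X ↘ Spec (CommRingCat.of A)
  haveI : CompactSpace X := QuasiCompact.compactSpace_of_compactSpace f
  haveI : QuasiSeparatedSpace X := quasiSeparatedSpace_of_quasiSeparated f
  haveI : DCoh.HasRpush f := Groth.Agent.DCohRestrLib.hasRpush f
  have hf : DCoh.RpushPreservesQCoh f := fun K hK => QRlimLib.isQCohD_rpush f hK
  haveI := Groth.Agent.KoszOrthLib.isLeftAdjoint_rpushQ f hf
  let adj := Adjunction.ofIsLeftAdjoint (DCoh.RpushQ f hf)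
  let O := Groth.Agent.RelDualCMLib.unitQ (Spec (CommRingCat.of A))
  have hamp := (Groth.Agent.RelDualCMLib.concentrated f hf _ adj O ⟨Iso.refl _⟩ hCM n hd).1
  obtain ⟨ψ, hψ, -⟩ := Groth.Agent.RelDualCMLib.exists_image hf _ adj O (Iso.refl _) n hamp
  obtain ⟨φ, hφ⟩ := (huniv _ (((DCoh.RpushQ f hf).rightAdjoint.obj O).property _)).2 ψ
  refine LinearMap.range_eq_top.1 ?_
  by_contra hne
  obtain ⟨m, hm, hle⟩ := Ideal.exists_le_maximal _ hne
  let s : Spec (CommRingCat.of A) := ⟨m, hm.isPrime⟩
  have hfib : Nonempty (f.fiber s) := by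
    obtain ⟨x, hx⟩ := f.surjective s
    obtain ⟨v, -⟩ := (f.range_fiberι s).ge (show x ∈ f ⁻¹' {s} from hx)
    exact ⟨v⟩
  obtain ⟨g, hg⟩ := Groth.Agent.RelDualCMLib.exists_coord_notMem hf _ adj O (Iso.refl _) hCM n hd s hfib
  obtain ⟨x, hx⟩ := hψ g
  exact hg (hx ▸ hle ⟨_, hφ x⟩)

end Groth.Agent.S11367
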