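import Groth.Statements.S11371
import Groth.Agent.S7749
import Groth.Agent.IntMultLib.Positive

set_option autoImplicit false
set_option linter.style.haveILetI false
universe u
open CategoryTheory CategoryTheory.Limits AlgebraicGeometry TopologicalSpace
open Variety

namespace Groth.Agent.S11371

section
open DevissLib HilbPolyLib IntMultLib

variable {k : Type u} [Field k] {X : Scheme.{u}} [X.Over (Spec (CommRingCat.of k))]
  [IsProper (X ↘ (Spec (CommRingCat.of k)))]

omit [X.Over (Spec (CommRingCat.of k))] [IsProper (X ↘ (Spec (CommRingCat.of k)))] in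
theorem support_tensor {A : X.Modules} (hA : PicF.IsInvertible A) (F : X.Modules) :
    CohB1.support (CohB1.tensorMod A F) = CohB1.support F ∧
      ∀ ξ, len (CohB1.tensorMod A F) ξ = len F ξ := by
  have key : ∀ ξ : X, Nonempty ((St ξ).obj (CohB1.tensorMod A F) ≃ₗ[X.presheaf.stalk ξ] (St ξ).obj F) :=
    fun ξ => by
      obtain ⟨e⟩ := CurvLib.nonempty_stalk_tensor_locFree (CurvLib.locFree_of_isInvertible hA) F ξ
      exact ⟨((St ξ).mapIso (swapIso A F)).toLinearEquiv ≪≫ₗ e ≪≫ₗ
        LinearEquiv.funUnique (Fin 1) (X.presheaf.stalk ξ) _⟩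
  refine ⟨Set.ext fun ξ => ?_, fun ξ => (key ξ).some.length_eq⟩
  exact not_congr (key ξ).some.toEquiv.subsingleton_congr

include k in
/-- Twisting by an invertible module does not change an additive function that vanishes in lower dimension. -/
theorem tensor_invariant {Φ : X.Modules → ℤ}
    (hiso : ∀ M N : X.Modules, (M ≅ N) → Φ M = Φ N)
    (hadd : ∀ S : ShortComplex X.Modules, S.ShortExact → Coh.IsCoh S.X₁ → Coh.IsCoh S.X₂ →
      Coh.IsCoh S.X₃ → Φ S.X₂ = Φ S.X₁ + Φ S.X₃)
    {d : ℕ} (hlow : ∀ M : X.Modules, Coh.IsCoh M →
      topologicalKrullDim (CohB1.support M) < (d : ℕ) → Φ M = 0)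
    {A : X.Modules} (hA : PicF.IsInvertible A) (F : X.Modules) (hF : Coh.IsCoh F)
    (hd : topologicalKrullDim (CohB1.support F) ≤ (d : ℕ)) : Φ (CohB1.tensorMod A F) = Φ F := by
  obtain ⟨hs, hl⟩ := support_tensor hA F
  have hc : Coh.IsCoh (CohB1.tensorMod A F) := HilbPolyLib.isCoh_tensor hA hF
  rcases (CohB1.support F).eq_empty_or_nonempty with he | hne
  · exact hiso _ _ ((isZero_of_support_empty (hs.trans he)).iso (isZero_of_support_empty he))
  obtain ⟨T, hT, hsum⟩ := additive_eq_sum (k := k) Φ hiso hadd hlow (QCohLib.isClosed_support F hF.2) hne hd F hF le_rfl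
  obtain ⟨T', hT', hsum'⟩ := additive_eq_sum (k := k) Φ hiso hadd hlow (QCohLib.isClosed_support F hF.2) hne hd
    (CohB1.tensorMod A F) hc hs.le
  obtain rfl : T = T' := Finset.ext fun ξ => (hT ξ).trans (hT' ξ).symm
  rw [hsum, hsum']
  simp only [hl]

variable {D : ℕ} (hD : topologicalKrullDim X ≤ (D : ℕ))
include hD

theorem intNum_swap {r : ℕ} {A B : X.Modules} (M : Fin r → X.Modules) (F : X.Modules) :
    FGA.intNum k X D (Fin.cons A (Fin.cons B M)) F = FGA.intNum k X D (Fin.cons B (Fin.cons A M)) F := by
  rw [intNum_cons hD, intNum_cons hD, intNum_cons hD, intNum_cons hD, intNum_cons hD, intNum_cons hD,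
    intNum_congr hD M (leftComm B A F)]
  ring

variable {L L' : X.Modules} (hL : PicF.IsInvertible L) (hL' : PicF.IsInvertible L')
  (hnum : ∀ C : X.IdealSheafData, IsIntegral C.subscheme →
    topologicalKrullDim (C.support : Set X) = 1 →
      Curv2.euler k X (CohB1.tensorMod (ClSub.quotMod C) L) =
        Curv2.euler k X (CohB1.tensorMod (ClSub.quotMod C) L'))
include hL hL' hnum

theorem first_eq : ∀ (r : ℕ) (M : Fin r → X.Modules), (∀ i, PicF.IsInvertible (M i)) →
    ∀ F : X.Modules, Coh.IsCoh F → topologicalKrullDim (CohB1.support F) ≤ (r + 1 : ℕ) →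
      FGA.intNum k X D (Fin.cons L M) F = FGA.intNum k X D (Fin.cons L' M) F := by
  haveI := CurvLib.isNoetherian k (X := X)
  intro r
  induction r with
  | zero =>
    intro M hM F hF hd
    rw [intNum_cons hD, intNum_cons hD, intNum_zero hD, intNum_zero hD, intNum_zero hD]
    suffices h : Curv2.euler k X (CohB1.tensorMod L F) - Curv2.euler k X (CohB1.tensorMod L' F) = 0 by omega
    rcases (CohB1.support F).eq_empty_or_nonempty with he | hne
    · exact sub_eq_zero.mpr (CurvLib.euler_congr
        ((isZero_of_support_empty ((support_tensor hL F).1.trans he)).iso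
          (isZero_of_support_empty ((support_tensor hL' F).1.trans he))))
    obtain ⟨T, hT, hsum⟩ := additive_eq_sum (k := k)
      (fun N => Curv2.euler k X (CohB1.tensorMod L N) - Curv2.euler k X (CohB1.tensorMod L' N))
      (fun A B e => congrArg₂ (· - ·) (CurvLib.euler_congr (congrRight L e))
        (CurvLib.euler_congr (congrRight L' e)))
      (fun S hS a b c => by
        have h1 := CurvLib.euler_add_of_isCoh (k := k) (ProjFormLib.shortExact_tens
          (AmpleDevLib.isFinLocFree_of_isInvertible hL) hS) (HilbPolyLib.isCoh_tensor hL a)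
          (HilbPolyLib.isCoh_tensor hL b) (HilbPolyLib.isCoh_tensor hL c)
        have h2 := CurvLib.euler_add_of_isCoh (k := k) (ProjFormLib.shortExact_tens
          (AmpleDevLib.isFinLocFree_of_isInvertible hL') hS) (HilbPolyLib.isCoh_tensor hL' a)
          (HilbPolyLib.isCoh_tensor hL' b) (HilbPolyLib.isCoh_tensor hL' c)
        change Curv2.euler k X (CohB1.tensorMod L S.X₂) = Curv2.euler k X (CohB1.tensorMod L S.X₁) +
          Curv2.euler k X (CohB1.tensorMod L S.X₃) at h1
        change Curv2.euler k X (CohB1.tensorMod L' S.X₂) = Curv2.euler k X (CohB1.tensorMod L' S.X₁) +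
          Curv2.euler k X (CohB1.tensorMod L' S.X₃) at h2
        beta_reduce
        omega)
      (d := 1) (fun N hN h => by
        have h0 : topologicalKrullDim (CohB1.support N) ≤ 0 := by
          revert h
          generalize topologicalKrullDim (CohB1.support N) = t
          intro h
          induction t with
          | bot => exact bot_le
          | coe a =>
            induction a with
            | top => exact absurd h (by simp)
            | coe m =>
              have hm : m < 1 := by exact_mod_cast h
              exact_mod_cast Nat.lt_one_iff.mp hm |>.le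
        beta_reduce
        rw [CurvLib.euler_congr (k := k) (swapIso L N), CurvLib.euler_congr (k := k) (swapIso L' N),
          CurvLib.euler_tensor_locFree_of_dim_zero hN h0 (CurvLib.locFree_of_isInvertible hL),
          CurvLib.euler_tensor_locFree_of_dim_zero hN h0 (CurvLib.locFree_of_isInvertible hL'), sub_self])
      (QCohLib.isClosed_support F hF.2) hne (by simpa using hd) F hF le_rfl
    beta_reduce at hsum
    rw [hsum]
    refine Finset.sum_eq_zero fun ξ hξ => ?_
    have hc : topologicalKrullDim ((ptIdeal ξ).support : Set X) = 1 := by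
      rw [← (ptIdeal ξ).range_subschemeι, range_ptIdeal]
      exact ((hT ξ).mp hξ).2.trans (by norm_num)
    rw [CurvLib.euler_congr (k := k) (swapIso L (ClSub.quotMod (ptIdeal ξ))),
      CurvLib.euler_congr (k := k) (swapIso L' (ClSub.quotMod (ptIdeal ξ))),
      hnum _ (isIntegral_ptIdeal ξ) hc, sub_self, smul_zero]
  | succ r ih =>
    intro M hM F hF hd
    rw [← Fin.cons_self_tail M, intNum_swap hD (A := L) (B := M 0), intNum_swap hD (A := L') (B := M 0),
      intNum_cons hD (M 0) (Fin.cons L (Fin.tail M)), intNum_cons hD (M 0) (Fin.cons L' (Fin.tail M))]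
    have hMt : ∀ i, PicF.IsInvertible (Fin.tail M i) := fun i => hM _
    have hcons : ∀ {N : X.Modules}, PicF.IsInvertible N → ∀ i, PicF.IsInvertible
        ((Fin.cons N (Fin.tail M) : Fin (r + 1) → X.Modules) i) := fun hN i => by
      induction i using Fin.cases with
      | zero => exact hN
      | succ i => exact hMt i
    have h := tensor_invariant (k := k)
      (Φ := fun N => FGA.intNum k X D (Fin.cons L (Fin.tail M)) N - FGA.intNum k X D (Fin.cons L' (Fin.tail M)) N)
      (fun A B e => congrArg₂ (· - ·) (intNum_congr hD _ e) (intNum_congr hD _ e))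
      (fun S hS a b c => by
        beta_reduce
        rw [intNum_add hD _ (hcons hL) hS a b c, intNum_add hD _ (hcons hL') hS a b c]
        ring)
      (d := r + 1 + 1) (fun N hN hlt => sub_eq_zero.mpr (ih (Fin.tail M) hMt N hN (by
        revert hlt
        generalize topologicalKrullDim (CohB1.support N) = t
        intro h
        induction t with
        | bot => exact bot_le
        | coe a =>
          induction a with
          | top => exact absurd h (by simp)
          | coe m =>
            have hm : m < r + 1 + 1 := by exact_mod_cast h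
            exact_mod_cast Nat.lt_succ_iff.mp hm))) (hM 0) F hF hd
    beta_reduce at h
    omega

theorem const_eq : ∀ (r : ℕ) (F : X.Modules), Coh.IsCoh F →
    topologicalKrullDim (CohB1.support F) ≤ (r : ℕ) →
      FGA.intNum k X D (fun _ : Fin r => L) F = FGA.intNum k X D (fun _ : Fin r => L') F := by
  haveI := CurvLib.isNoetherian k (X := X)
  intro r
  induction r with
  | zero => intro F hF hd; rw [intNum_zero hD, intNum_zero hD]
  | succ r ih =>
    intro F hF hd
    have hc : ∀ A : X.Modules, (fun _ : Fin (r + 1) => A) = Fin.cons A (fun _ : Fin r => A) := fun A => by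
      funext i
      induction i using Fin.cases <;> rfl
    rw [hc L, hc L', first_eq hD hL hL' hnum r _ (fun _ => hL) F hF hd, intNum_cons hD, intNum_cons hD]
    have h := tensor_invariant (k := k)
      (Φ := fun N => FGA.intNum k X D (fun _ : Fin r => L) N - FGA.intNum k X D (fun _ : Fin r => L') N)
      (fun A B e => congrArg₂ (· - ·) (intNum_congr hD _ e) (intNum_congr hD _ e))
      (fun S hS a b c => by
        beta_reduce
        rw [intNum_add hD _ (fun _ => hL) hS a b c, intNum_add hD _ (fun _ => hL') hS a b c]
        ring)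
      (d := r + 1) (fun N hN hlt => sub_eq_zero.mpr (ih N hN (by
        revert hlt
        generalize topologicalKrullDim (CohB1.support N) = t
        intro h
        induction t with
        | bot => exact bot_le
        | coe a =>
          induction a with
          | top => exact absurd h (by simp)
          | coe m =>
            have hm : m < r + 1 := by exact_mod_cast h
            exact_mod_cast Nat.lt_succ_iff.mp hm))) hL' F hF hd
    beta_reduce at h
    omega

omit hL hL' hnum in
theorem cubeSum_eq_intNum (A : X.Modules) : ∀ (r : ℕ) (F : X.Modules),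
    cubeSum (hilb k (fun _ : Fin r => A) F) = (FGA.intNum k X D (fun _ : Fin r => A) F : ℚ)
  | 0, F => by
    rw [intNum_zero hD]
    simp only [cubeSum, LinearMap.coe_mk, AddHom.coe_mk, bSgn, Fintype.sum_unique, Fin.prod_univ_zero,
      one_mul, hilb, hilbFun]
    exact congrArg Int.cast (CurvLib.euler_congr (unitLeft F))
  | r + 1, F => by
    have hc : (fun _ : Fin (r + 1) => A) = Fin.cons A (fun _ : Fin r => A) := by
      funext i
      induction i using Fin.cases <;> rfl
    rw [cubeSum_succ, cubeSum_eq_intNum A r, cubeSum_eq_intNum A r, hc, intNum_cons hD]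
    push_cast
    rfl

theorem coeff_eq (Z : X.IdealSheafData) {d : ℕ} (hd : topologicalKrullDim (Z.support : Set X) = d)
    (P P' : MvPolynomial (Fin d) ℚ)
    (hP : hilb k (fun _ : Fin d => L) (ClSub.quotMod Z) = pfun P)
    (hP' : hilb k (fun _ : Fin d => L') (ClSub.quotMod Z) = pfun P') :
    P.coeff (oneExp d) = P'.coeff (oneExp d) := by
  haveI := CurvLib.isNoetherian k (X := X)
  have hc := CurvLib.isCoh_quotMod Z
  have hle : topologicalKrullDim (CohB1.support (ClSub.quotMod Z)) ≤ (d : ℕ) :=
    ((Topology.IsEmbedding.inclusion (CurvLib.support_quotMod_subset Z)).isInducing.topologicalKrullDim_le).trans hd.le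
  have hlt := hle.trans_lt (show ((d : ℕ) : WithBot ℕ∞) < ((d + 1 : ℕ) : WithBot ℕ∞) by
    exact_mod_cast Nat.lt_succ_self d)
  rw [coeff_eq_cubeSum (hilb_mem (fun _ => hL) hc hlt) P hP, coeff_eq_cubeSum (hilb_mem (fun _ => hL') hc hlt) P' hP',
    cubeSum_eq_intNum hD, cubeSum_eq_intNum hD, const_eq hD hL hL' hnum d _ hc hle]

end

/-- Let X be proper over an algebraically closed field k and L, L' invertible O_X-modules that are
numerically equivalent: (L · C) = (L' · C), i.e. χ(O_C ⊗ L) = χ(O_C ⊗ L'), for every integral closed
subscheme C ⊆ X of dimension one. If L is ample then L' is ample. (The published statement is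
phrased for Cartier divisors; it depends on them only through the associated invertible modules, and
the printed reduction to integral X covers every invertible module.) -/
theorem result (k : Type u) [Field k] [IsAlgClosed k] (X : Scheme.{u})
    [X.Over (Spec (CommRingCat.of k))] [IsProper (X ↘ (Spec (CommRingCat.of k)))]
    (L L' : X.Modules) (hL : PicF.IsInvertible L) (hL' : PicF.IsInvertible L')
    (hnum : ∀ C : X.IdealSheafData, IsIntegral C.subscheme →
      topologicalKrullDim (C.support : Set X) = 1 →
        Curv2.euler k X (CohB1.tensorMod (ClSub.quotMod C) L) =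
          Curv2.euler k X (CohB1.tensorMod (ClSub.quotMod C) L'))
    (hamp : CohB1.IsAmple L) : CohB1.IsAmple L' := by
  haveI := CurvLib.isNoetherian k (X := X)
  obtain ⟨D, hD⟩ := HilbPolyLib.exists_dim_lt k (X := X)
  refine (Groth.Agent.S7749.result k X L' hL').mpr fun Z hZi d hd hdim P' hP' => ?_
  have hmem : IntMultLib.hilb k (fun _ : Fin d => L) (ClSub.quotMod Z) ∈ HilbPolyLib.polyFun d (d + 1) :=
    IntMultLib.hilb_mem (fun _ => hL) (CurvLib.isCoh_quotMod Z)
      ((((Topology.IsEmbedding.inclusion (CurvLib.support_quotMod_subset Z)).isInducing.topologicalKrullDim_le).trans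
        hdim.le).trans_lt (by exact_mod_cast Nat.lt_succ_self d))
  obtain ⟨P, -, hP⟩ := IntMultLib.exists_poly_lt hmem
  have hpos := (Groth.Agent.S7749.result k X L hL).mp hamp Z d hd hdim P fun n =>
    (IntMultLib.hilb_eq _ _ n).symm.trans (congrFun hP n)
  exact (coeff_eq hD.le hL hL' hnum Z hdim P P' hP
    (funext fun n => (IntMultLib.hilb_eq _ _ n).trans (hP' n))) ▸ hpos

end Groth.Agent.S11371
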