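import Groth.Statements.S11372
import Mathlib
import Groth.Agent.GrowthLib.CurveTest
-- import your own Groth.Agent.* helpers here

set_option autoImplicit false
universe u
open CategoryTheory CategoryTheory.Limits AlgebraicGeometry TopologicalSpace
open Variety

namespace Groth.Agent.S11372

/-- Let X be proper and integral over an algebraically closed field k, L an invertible O_X-module
generated by its global sections, and s : O_X ⟶ L a global section, with U = X_s the open subset
where s generates L (the complement of the support of the effective divisor of s). If U contains no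
integral closed subscheme of X of dimension one, then U is an affine open of X. -/
theorem result (k : Type u) [Field k] [IsAlgClosed k] (X : Scheme.{u})
    [X.Over (Spec (CommRingCat.of k))] [IsProper (X ↘ (Spec (CommRingCat.of k)))] [IsIntegral X]
    (L : X.Modules) (hL : PicF.IsInvertible L) (hgen : Curv2.IsGloballyGenerated L)
    (s : Coh.structureModule X ⟶ L)
    (hcurves : ∀ C : X.IdealSheafData, IsIntegral C.subscheme →
      topologicalKrullDim (C.support : Set X) = 1 →
        ¬ ((C.support : Set X) ⊆ (CohB1.genLocus L s : Set X))) :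
    IsAffineOpen (CohB1.genLocus L s) := by
  obtain ⟨σ, rfl⟩ : ∃ σ : Γ(L, ⊤), QCohLib.unitHom L σ = s := by
    refine ⟨s.app ⊤ (1 : Γ(X, ⊤)), Scheme.Modules.hom_ext _ _ fun V => ConcreteCategory.hom_ext _ _ fun r0 => ?_⟩
    obtain ⟨r, rfl⟩ : ∃ r : Γ(X, V), (show Γ(Coh.structureModule X, V) from r) = r0 := ⟨r0, rfl⟩
    refine (QCohLib.unitHom_app L _ V r).trans ?_
    rw [← QCohLib.app_map]
    refine (QCohLib.app_smul s V r _).symm.trans (congrArg _ ?_)
    show r * X.presheaf.map _ (1 : Γ(X, ⊤)) = r
    rw [map_one]
    exact mul_one r
  rw [AmpleThLib.genLocus_unitHom hL σ]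
  refine GrowthLib.isAffineOpen_genSet_of_no_curves (k := k) hL hgen σ fun η hη hsub => ?_
  refine hcurves _ (IntMultLib.isIntegral_ptIdeal η) (by rw [IntFunLib.dim_ptIdeal, hη]) ?_
  rw [AmpleThLib.genLocus_unitHom hL σ]
  rw [← Scheme.IdealSheafData.range_subschemeι, IntMultLib.range_ptIdeal]
  exact hsub

end Groth.Agent.S11372
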