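import Groth.Statements.S11376
import Groth.Agent.CdLfLib.Basic
import Groth.Agent.S4271
import Groth.Agent.KiehlLib.ExtFin

set_option autoImplicit false
universe u
open CategoryTheory CategoryTheory.Limits AlgebraicGeometry TopologicalSpace
open CohDim

namespace Groth.Agent.S11376

/-- Finiteness of high cohomology is detected by locally free modules, given the resolution property. -/
theorem finite_HH_of_resolution {A : Type u} [CommRing A] [IsNoetherianRing A] {X : Scheme.{u}}
    (g : X ⟶ Spec (CommRingCat.of A)) [IsLocallyNoetherian X] [CompactSpace X]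
    [QuasiSeparatedSpace X] (hR : PerfAux.HasResolutionProperty X) (n : ℕ)
    (h : ∀ E : X.Modules, FlatMod.IsFinLocFree E → ∀ i : ℕ, n < i →
      @Module.Finite A (Coh.HH X E i) _ _ (Module.compHom (Coh.HH X E i) (Coh.toGlobal g)))
    (F : X.Modules) (hF : Coh.IsCoh F) (i : ℕ) (hi : n < i) :
    @Module.Finite A (Coh.HH X F i) _ _ (Module.compHom (Coh.HH X F i) (Coh.toGlobal g)) := by
  obtain ⟨b, hb⟩ := QCohLib.bounded_of_isCompact (X := X) ⊤ (by simpa using isCompact_univ)
  have key : ∀ (j p : ℕ), b ≤ p + j → n < p → ∀ N₀ : X.Modules, Coh.IsCoh N₀ →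
      @Module.Finite A (Coh.HH X N₀ p) _ _ (Module.compHom (Coh.HH X N₀ p) (Coh.toGlobal g)) := by
    intro j
    induction j with
    | zero =>
      intro p hp _ N₀ hM
      let _ := Module.compHom (Coh.HH X N₀ p) (Coh.toGlobal g)
      haveI : Subsingleton (Coh.HH X N₀ p) :=
        (QCohLib.subsingleton_H_iff _ p).2 (hb N₀ hM.1 p (by omega))
      infer_instance
    | succ j ih =>
      intro p hp hp0 N₀ hM
      haveI := hM.1
      obtain ⟨E, π, hE, hπ⟩ := hR N₀ hM.1 hM.2
      have hEc : Coh.IsCoh E := Groth.Agent.PerfLib.isCoh_of_isFinLocFree hE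
      haveI := hEc.1
      have hSE : (ShortComplex.mk _ _ (kernel.condition π)).ShortExact :=
        haveI : Epi (ShortComplex.mk _ _ (kernel.condition π)).g := hπ
        { exact := ShortComplex.exact_of_f_is_kernel _ (kernelIsKernel π) }
      let _ := Module.compHom (Coh.HH X E p) (Coh.toGlobal g)
      let _ := Module.compHom (Coh.HH X N₀ p) (Coh.toGlobal g)
      let _ := Module.compHom (Coh.HH X (kernel π) (p + 1)) (Coh.toGlobal g)
      haveI := ih (p + 1) (by omega) (by omega) (kernel π) (QCohLib.isCoh_kernel π hEc hM.1)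
      haveI := h E hE p hp0
      exact KiehlLib.finite_of_exact (AtlasCoh.hLin g π p) (AtlasCoh.δLin hSE g p) fun y hy =>
        AtlasCoh.hExact₃ (QCohLib.toAbF_shortExact hSE) p y hy
  exact key b i (by omega) hi F hF

/-- Let S be an integral scheme, separated and of finite type over an algebraically closed field k, with
all local rings regular, and let r ≥ 0. If H^i(S, E) is finite-dimensional over k for every i > r
and every finite locally free O_S-module E, then H^i(S, F) is finite-dimensional over k for every i
> r and every coherent O_S-module F. -/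
theorem result (k : Type u) [Field k] [IsAlgClosed k] (S : Scheme.{u})
    [S.Over (Spec (CommRingCat.of k))] [IsSeparated (S ↘ (Spec (CommRingCat.of k)))]
    [LocallyOfFiniteType (S ↘ (Spec (CommRingCat.of k)))] [QuasiCompact (S ↘ (Spec (CommRingCat.of k)))]
    [IsIntegral S] (hreg : ∀ x : S, IsRegularLocalRing (S.presheaf.stalk x)) (r : ℕ)
    (hlf : ∀ E : S.Modules, FlatMod.IsFinLocFree E → ∀ i : ℕ, r < i → Module.Finite k (Coh.HH S E i))
    (F : S.Modules) (hF : Coh.IsCoh F) (i : ℕ) (hi : r < i) :
    Module.Finite k (Coh.HH S F i) := by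
  haveI : IsLocallyNoetherian S := LocallyOfFiniteType.isLocallyNoetherian (S ↘ (Spec (CommRingCat.of k)))
  haveI : CompactSpace S := QuasiCompact.compactSpace_of_compactSpace (S ↘ (Spec (CommRingCat.of k)))
  haveI : S.IsSeparated := ⟨by
    rw [Limits.terminal.hom_ext (terminal.from S) ((S ↘ (Spec (CommRingCat.of k))) ≫ terminal.from _)]
    infer_instance⟩
  have hX : MoreMor.HasAmpleFamily S := Groth.Agent.S4271.result S hreg fun U V hU hV => hU.inf hV
  exact finite_HH_of_resolution (S ↘ (Spec (CommRingCat.of k)))
    (MiscFlat6.hasResolutionProperty_of_hasAmpleFamily hX) r hlf F hF i hi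

end Groth.Agent.S11376
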