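import Groth.Statements.S11378
import Groth.Agent.LichtLib.Conn

set_option autoImplicit false
universe u
open CategoryTheory CategoryTheory.Limits AlgebraicGeometry TopologicalSpace
open CohDim

namespace Groth.Agent.S11378

open Opposite in
/-- Connectedness of the complement of an open whose top cohomology in degree `d + 1` vanishes. -/
theorem isConnected_compl_of_vanishing {k : Type u} [Field k] {X : Scheme.{u}} (f : X ⟶ Spec (CommRingCat.of k))
    [IsProper f] [IrreducibleSpace X] {d : ℕ} (hd : topologicalKrullDim X = ((d + 2 : ℕ) : WithBot ℕ∞)) (U : X.Opens)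
    (hUX : U ≠ ⊤)
    (hcd : ∀ F : (U : Scheme.{u}).Modules, Coh.IsCoh F → Subsingleton (Coh.HH (U : Scheme.{u}) F (d + 1))) :
    _root_.IsConnected ((U : Set X)ᶜ) := by
  haveI : IsLocallyNoetherian X := LocallyOfFiniteType.isLocallyNoetherian f
  obtain ⟨M₀, hM₀, hnt⟩ := LichtLib.exists_nontrivial_of_closed f (𝟙 X) hd (by rw [Category.id_comp]; infer_instance)
  haveI := hM₀.1
  refine ⟨Set.nonempty_compl.2 fun h => hUX (Opens.ext h), ?_⟩
  by_cases hne : (U : Set X).Nonempty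
  swap
  · rw [Set.not_nonempty_iff_eq_empty.1 hne, Set.compl_empty]
    exact isPreconnected_univ
  rw [isPreconnected_closed_iff]
  intro t t' ht ht' hsub h1 h2
  by_contra hempty
  let D₁ : Set X := (U : Set X)ᶜ ∩ t
  let D₂ : Set X := (U : Set X)ᶜ ∩ t'
  let V₁ : X.Opens := ⟨D₁ᶜ, (U.isOpen.isClosed_compl.inter ht).isOpen_compl⟩
  let V₂ : X.Opens := ⟨D₂ᶜ, (U.isOpen.isClosed_compl.inter ht').isOpen_compl⟩
  have hsup : V₁ ⊔ V₂ = ⊤ := by
    refine top_le_iff.1 fun x _ => ?_
    by_cases hx : x ∈ D₁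
    · exact Or.inr fun hx' => hempty ⟨x, hx.1, hx.2, hx'.2⟩
    · exact Or.inl hx
  have hinf : V₁ ⊓ V₂ = U := by
    refine Opens.ext (Set.ext fun x => ⟨fun hx => by_contra fun hxU => ?_, fun hx => ⟨fun h => h.1 hx, fun h => h.1 hx⟩⟩)
    rcases hsub hxU with h | h
    · exact hx.1 ⟨hxU, h⟩
    · exact hx.2 ⟨hxU, h⟩
  haveI h₁ := LichtLib.subsingleton_HU_of_ne_top f (n := d + 1) hd V₁ (hne.mono fun x hx h => h.1 hx)
    (fun h => by obtain ⟨x, hx⟩ := h1; exact (show x ∈ V₁ from h ▸ trivial) hx) M₀ hM₀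
  haveI h₂ := LichtLib.subsingleton_HU_of_ne_top f (n := d + 1) hd V₂ (hne.mono fun x hx h => h.1 hx)
    (fun h => by obtain ⟨x, hx⟩ := h2; exact (show x ∈ V₂ from h ▸ trivial) hx) M₀ hM₀
  haveI h₁₂ : Subsingleton (QCohLib.HU ((QCohLib.toAbF X).obj M₀) (d + 1) (V₁ ⊓ V₂)) := by
    rw [hinf]
    have h' : Subsingleton (QCohLib.HU ((QCohLib.toAbF (U : Scheme.{u})).obj (M₀.restrict U.ι)) (d + 1) ⊤) :=
      (QCohLib.subsingleton_H_iff _ _).1 (hcd _ (CohGenLib.isCoh_restrict U.ι hM₀))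
    obtain ⟨e⟩ := QCohLib.nonempty_HU_restrict (j := U.ι) M₀ (d + 1) ⊤
    rw [e.toEquiv.subsingleton_congr] at h'
    rwa [U.ι_image_top] at h'
  have h := QCohLib.subsingleton_sup' (F := (QCohLib.toAbF X).obj M₀) (n := d + 1) (U := V₁) (V := V₂)
  rw [hsup] at h
  exact not_subsingleton_iff_nontrivial.2 hnt ((QCohLib.subsingleton_H_iff _ _).2 h)

/-- Let X be proper and integral over an algebraically closed field k, of dimension n ≥ 2, with all
local rings regular, and let U ≠ X be an open subscheme whose cohomological dimension is at most n -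
2: H^i(U, F) = 0 for every coherent O_U-module F and every i with n - 2 < i. Then Y = X ∖ U is
connected. -/
theorem result (k : Type u) [Field k] [IsAlgClosed k] (X : Scheme.{u})
    [X.Over (Spec (CommRingCat.of k))] [IsProper (X ↘ (Spec (CommRingCat.of k)))] [IsIntegral X]
    (hreg : ∀ x : X, IsRegularLocalRing (X.presheaf.stalk x))
    (n : ℕ) (hn : 2 ≤ n) (hdim : topologicalKrullDim X = n)
    (U : X.Opens) (hUX : U ≠ ⊤)
    (hcd : ∀ F : (U : Scheme.{u}).Modules, Coh.IsCoh F → ∀ i : ℕ, n - 2 < i → Subsingleton (Coh.HH (U : Scheme.{u}) F i)) :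
    _root_.IsConnected ((U : Set X)ᶜ) := by
  obtain ⟨d, rfl⟩ := Nat.exists_eq_add_of_le hn
  exact isConnected_compl_of_vanishing (X ↘ Spec (CommRingCat.of k)) (d := d) (by rw [hdim, Nat.add_comm]) U hUX
    fun F hF => hcd F hF (d + 1) (by omega)

end Groth.Agent.S11378
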