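import Groth.Statements.S1138
import Groth.Agent.PurityDescLib.Finite
import Groth.Agent.AdicRingLib.Completion
import Mathlib.RingTheory.AdicCompletion.LocalRing
import Mathlib.RingTheory.AdicCompletion.AsTensorProduct
import Mathlib.RingTheory.Flat.FaithfullyFlat.Basic

set_option autoImplicit false
universe u
open Pi1

namespace Groth.Agent.S1138

open AlgebraicGeometry CategoryTheory CategoryTheory.Limits in
/-- Let A be a Noetherian local ring with completion A', U the punctured spectrum of A and U' its base
change to X' = Spec A'. Let V ⟶ U be finite and let Y' ⟶ X' be finite with Y' ×_{X'} U' isomorphic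
to V ×_U U' over U'. Then there is a finite Y ⟶ Spec A with Y ×_X U isomorphic to V over U and Y ×_X
X' isomorphic to Y' over X'. (The source also records that these isomorphisms are compatible over
U'; this statement only asserts their existence.) -/
theorem result (A : Type u) [CommRing A] [IsNoetherianRing A] [IsLocalRing A]
    (V : Over (FEt.puncturedSpec A : Scheme.{u})) [IsFinite V.hom]
    (Y' : Over (Spec (CommRingCat.of (AdicCompletion (IsLocalRing.maximalIdeal A) A)))) [IsFinite Y'.hom]
    (e : (Over.pullback (pullback.fst (FEt.puncturedSpec A).ι (Spec.map (CommRingCat.ofHom (algebraMap A (AdicCompletion (IsLocalRing.maximalIdeal A) A)))))).obj V ≅ (Over.pullback (pullback.snd (FEt.puncturedSpec A).ι (Spec.map (CommRingCat.ofHom (algebraMap A (AdicCompletion (IsLocalRing.maximalIdeal A) A)))))).obj Y') :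
    ∃ Y : Over (Spec (CommRingCat.of A)), IsFinite Y.hom ∧
      Nonempty ((Over.pullback (FEt.puncturedSpec A).ι).obj Y ≅ V) ∧
      Nonempty ((Over.pullback (Spec.map (CommRingCat.ofHom (algebraMap A (AdicCompletion (IsLocalRing.maximalIdeal A) A))))).obj Y ≅ Y') := by
  let g := Spec.map (CommRingCat.ofHom (algebraMap A (AdicCompletion (IsLocalRing.maximalIdeal A) A)))
  let U := FEt.puncturedSpec A
  haveI : Module.FaithfullyFlat A (AdicCompletion (IsLocalRing.maximalIdeal A) A) :=
    Module.FaithfullyFlat.of_flat_of_isLocalHom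
  let b := pullback.snd V.hom (pullback.fst U.ι g)
  let j := e.hom.left ≫ pullback.fst Y'.hom (pullback.snd U.ι g)
  have sqj : IsPullback j b Y'.hom (pullback.snd U.ι g) := by
    haveI : IsIso e.hom.left := inferInstanceAs (IsIso ((Over.forget _).map e.hom))
    have h2 : IsPullback e.hom.left b (pullback.snd Y'.hom (pullback.snd U.ι g)) (𝟙 _) :=
      IsPullback.of_horiz_isIso ⟨by rw [Category.comp_id]; exact Over.w e.hom⟩
    have h3 := h2.paste_horiz (IsPullback.of_hasPullback Y'.hom (pullback.snd U.ι g))
    rwa [Category.id_comp] at h3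
  obtain ⟨Z, z, k, l, hz, hk, hl⟩ := PurityDescLib.Finite.exists_isPullback_of_extends (IsLocalRing.maximalIdeal A) U
    (fun k c => AdicRingLib.exists_sub_mem_map_pow (isNoetherian_def.mp inferInstance _) k c) (fun a ha => by
      intro x hx
      rintro (rfl : x = IsLocalRing.closedPoint A)
      rw [basicOpen_eq_of_affine] at hx
      exact hx ha)
    V.hom Y'.hom (IsPullback.of_hasPullback U.ι g) (IsPullback.of_hasPullback V.hom _) sqj
  exact ⟨Over.mk z, hz, ⟨(Over.isoMk hk.isoPullback hk.isoPullback_hom_snd).symm⟩,
    ⟨(Over.isoMk hl.isoPullback hl.isoPullback_hom_snd).symm⟩⟩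

end Groth.Agent.S1138
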