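import Groth.Statements.S11380
import Groth.Agent.CdQLib.Main

set_option autoImplicit false
set_option backward.isDefEq.respectTransparency false
set_option backward.isDefEq.respectTransparency.types false
set_option maxRecDepth 8000
set_option maxHeartbeats 1000000
universe u
open CategoryTheory CategoryTheory.Limits AlgebraicGeometry TopologicalSpace
open CohDim

namespace Groth.Agent.S11380

/-- Let X be proper and integral over an algebraically closed field k, of dimension n, with all local
rings regular and carrying an ample invertible O_X-module, let U be an open subscheme and r ≥ 0 such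
that H^i(U, F) is finite-dimensional over k for every coherent O_U-module F and every i > r. Then
every irreducible component Z of Y = X ∖ U has dimension at least n - r - 1. -/
theorem result (k : Type u) [Field k] [IsAlgClosed k] (X : Scheme.{u})
    [X.Over (Spec (CommRingCat.of k))] [IsProper (X ↘ (Spec (CommRingCat.of k)))] [IsIntegral X]
    (hreg : ∀ x : X, IsRegularLocalRing (X.presheaf.stalk x))
    (A : X.Modules) (hA : CohB1.IsAmple A)
    (n : ℕ) (hdim : topologicalKrullDim X = n) (U : X.Opens) (r : ℕ)
    (hq : ∀ F : (U : Scheme.{u}).Modules, Coh.IsCoh F → ∀ i : ℕ, r < i →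
      Module.Finite k (Coh.HH (U : Scheme.{u}) F i))
    (Z : Set ((U : Set X)ᶜ : Set X)) (hZ : Z ∈ irreducibleComponents ((U : Set X)ᶜ : Set X)) :
    (n : WithBot ℕ∞) ≤ topologicalKrullDim Z + ((r + 1 : ℕ) : WithBot ℕ∞) := by
  let Y : Set X := (U : Set X)ᶜ
  have hYc : IsClosed Y := U.2.isClosed_compl
  let Z₀ : Set X := Subtype.val '' Z
  have hZc : IsClosed Z := isClosed_of_mem_irreducibleComponents Z hZ
  have hZ₀ : IsClosed Z₀ := hYc.isClosedEmbedding_subtypeVal.isClosedMap _ hZc
  have hirr : IsIrreducible Z₀ := hZ.1.image _ continuous_subtype_val.continuousOn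
  obtain ⟨w₀, hw⟩ := QuasiSober.sober hirr hZ₀
  have hmax : ∀ g : X, g ∉ U → g ⤳ w₀ → g ∈ Z₀ := fun g hg hgw => by
    let g' : Y := ⟨g, hg⟩
    have hle : Z ⊆ closure ({g'} : Set Y) := fun z hz => by
      rw [← specializes_iff_mem_closure, ← Topology.IsInducing.subtypeVal.specializes_iff]
      exact hgw.trans (hw.specializes ⟨z, hz, rfl⟩)
    exact ⟨g', hZ.2 isIrreducible_singleton.closure hle (subset_closure rfl), rfl⟩
  have h := CdQLib.le_dim_component (k := k) hreg hA hdim hq hZ₀ (fun x hx => by
    obtain ⟨z, -, rfl⟩ := hx; exact z.2) hw.mem (fun x hx => hw.specializes hx) hmax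
  have hd : topologicalKrullDim Z = (CdQLib.dC k w₀ : WithBot ℕ∞) := by
    rw [← CdQLib.dC_spec k w₀]
    refine ((Topology.IsEmbedding.subtypeVal.homeomorphImage Z).trans (Homeomorph.setCongr ?_)).isHomeomorph.topologicalKrullDim_eq
    exact hw.def.symm
  rw [hd]
  exact_mod_cast (show n ≤ CdQLib.dC k w₀ + (r + 1) by omega)

end Groth.Agent.S11380
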