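import Groth.Statements.S11382
import Groth.Agent.AffBlowLib.Main

set_option autoImplicit false
universe u
open CategoryTheory CategoryTheory.Limits AlgebraicGeometry TopologicalSpace
open Variety

namespace Groth.Agent.S11382

/-- Let X be proper and integral over an algebraically closed field k and U ⊆ X an open subset with
closed complement Y. Then U is affine if and only if there exist a closed subscheme Z of X, defined
by a quasi-coherent ideal 𝓙 with support contained in Y, and a blowing-up f : X' ⟶ X of X in Z
(characterised by its universal property; X' is again proper over k), such that f⁻¹(Y) is the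
support of an effective Cartier divisor D on X' admitting an ample invertible module O_{X'}(D), i.e.
an ample tensor inverse of the ideal of D. -/
theorem result (k : Type u) [Field k] [IsAlgClosed k] (X : Scheme.{u})
    [X.Over (Spec (CommRingCat.of k))] [IsProper (X ↘ (Spec (CommRingCat.of k)))] [IsIntegral X]
    (U : X.Opens) :
    IsAffineOpen U ↔
      ∃ 𝓙 : X.IdealSheafData, (𝓙.support : Set X) ⊆ (U : Set X)ᶜ ∧
        ∃ (X' : Scheme.{u}) (f : X' ⟶ X), BlowUp.IsBlowUp f 𝓙 ∧
          IsProper (f ≫ (X ↘ (Spec (CommRingCat.of k)))) ∧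
          ∃ (D : X'.IdealSheafData) (L : X'.Modules), BlowUp.IsEffCartierIdeal D ∧
            (D.support : Set X') = (fun x => f x) ⁻¹' ((U : Set X)ᶜ) ∧
            ClSub.IsInverseOf L (ClSub.idealMod D) ∧ CohB1.IsAmple L := by
  constructor
  · intro hU
    by_cases hne : (U : Set X).Nonempty
    · exact AffBlowLib.exists_blowUp_ample (X ↘ (Spec (CommRingCat.of k))) U hU hne
    rw [Set.not_nonempty_iff_eq_empty] at hne
    refine ⟨⊥, by rw [hne, Set.compl_empty]; exact Set.subset_univ _, ?_⟩
    obtain ⟨X', f, hf⟩ := BlowUpLib.exists_isBlowUp X ⊥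
    have hbot : BlowUp.IsFiniteTypeIdeal (⊥ : X.IdealSheafData) := fun V => by
      rw [Scheme.IdealSheafData.ideal_bot]
      exact Submodule.fg_bot
    haveI := BlowUpLib.isProper_of_isBlowUp hf hbot
    haveI hemp : IsEmpty X' := ⟨fun x => by
      obtain ⟨V, hxV, t, ht, hV⟩ := hf.1 x
      rw [Scheme.IdealSheafData.comap_bot, Scheme.IdealSheafData.ideal_bot] at hV
      have ht0 : t = 0 := Ideal.span_singleton_eq_bot.1 hV.symm
      subst ht0
      have h10 : (1 : Γ(X', V.1)) = 0 := mem_nonZeroDivisors_iff_right.mp ht 1 (mul_zero _)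
      have := congrArg (X'.presheaf.germ V.1 x hxV) h10
      rw [map_one, map_zero] at this
      exact one_ne_zero this⟩
    have hz : ∀ M : X'.Modules, CategoryTheory.Limits.IsZero M := fun M =>
      DevissLib.isZero_of_support_empty (Set.eq_empty_of_forall_notMem fun x _ => isEmptyElim x)
    refine ⟨X', f, hf, inferInstance, ⊤, Coh.structureModule X', fun x => isEmptyElim x,
      Set.ext fun x => isEmptyElim x, ⟨(hz _).iso (hz _)⟩, CurvLib.isInvertible_structureModule, inferInstance,
      fun x => isEmptyElim x⟩
  · rintro ⟨𝓙, h𝓙, X', f, hf, hp, D, L, -, hsupp, hinv, hamp⟩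
    exact AffBlowLib.isAffineOpen_of_blowUp (X ↘ (Spec (CommRingCat.of k))) U 𝓙 h𝓙 f hf hp D L hsupp hinv hamp

end Groth.Agent.S11382
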