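import Groth.Statements.S11386
import Groth.Agent.CdQLib.CI

set_option autoImplicit false
set_option backward.isDefEq.respectTransparency false
set_option backward.isDefEq.respectTransparency.types false
set_option maxRecDepth 8000
set_option maxHeartbeats 1000000
universe u
open CategoryTheory CategoryTheory.Limits AlgebraicGeometry TopologicalSpace
open CohDim

namespace Groth.Agent.S11386

/-- Let k be an algebraically closed field and Y ⊆ P = P^n_k a closed subset of dimension s with s + 1 ≤
n which is a set-theoretic complete intersection, i.e. the common zero set of n - s homogeneous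
forms of positive degrees; let U = P ∖ Y. Then cd(U) = q(U) = n - s - 1: H^i(U, F) = 0 for every
coherent O_U-module F and every i > n - s - 1, while H^{n-s-1}(U, F) is infinite-dimensional over k
for some coherent O_U-module F. -/
theorem result (k : Type u) [Field k] [IsAlgClosed k] (n : ℕ) (s : ℕ) (hs : s + 1 ≤ n)
    (a : Fin (n - s) → ℕ) (ha : ∀ j, 1 ≤ a j) (G : ∀ j : Fin (n - s), LefPen.Form n k (a j))
    (hdim : topologicalKrullDim ((LefPen.ciIdeal G).support : Set (CohB1.ProjSpace n k)) = s)
    (U : (CohB1.ProjSpace n k).Opens)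
    (hU : (U : Set (CohB1.ProjSpace n k)) = ((LefPen.ciIdeal G).support : Set (CohB1.ProjSpace n k))ᶜ) :
    (∀ F : (U : Scheme.{u}).Modules, Coh.IsCoh F → ∀ i : ℕ, n - s - 1 < i →
        Subsingleton (Coh.HH (U : Scheme.{u}) F i)) ∧
      ∃ F : (U : Scheme.{u}).Modules, Coh.IsCoh F ∧
        ¬ Module.Finite k (Coh.HH (U : Scheme.{u}) F (n - s - 1)) := by
  exact CdQLib.cd_q_ci k n s hs a ha G hdim U hU

end Groth.Agent.S11386
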