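import Groth.Statements.S11393
import Groth.Agent.FormalSecLib.Local

set_option autoImplicit false
set_option backward.isDefEq.respectTransparency false
set_option linter.style.haveILetI false
set_option maxHeartbeats 1000000
universe u
open CategoryTheory CategoryTheory.Limits AlgebraicGeometry TopologicalSpace
open Variety

namespace Groth.Agent.S11393

/-- Let X be proper over an algebraically closed field k and 𝓘 a quasi-coherent ideal whose closed
subscheme Y is connected (and nonempty); let Y_m be the closed subscheme of 𝓘^{m+1} and A = lim_m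
Γ(Y_m, O_{Y_m}) the ring of formal-regular functions along Y (global sections of the structure sheaf
of the formal completion), formed as the limit in commutative rings along the restriction maps
Γ(Y_{m+1}, O) → Γ(Y_m, O). Then A is a local ring, and every element a of A differs from the image
of some constant c ∈ k by an element whose image in each Γ(Y_m, O_{Y_m}) is nilpotent (so the
residue field of A is k through the structure map). (The published statement also asserts that A is
a complete local ring; that clause is not included here.) -/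
theorem result (k : Type u) [Field k] [IsAlgClosed k] (X : Scheme.{u})
    [X.Over (Spec (CommRingCat.of k))] [IsProper (X ↘ (Spec (CommRingCat.of k)))]
    (𝓘 : X.IdealSheafData) (hY : _root_.IsConnected (𝓘.support : Set X)) :
    IsLocalRing ↑(limit (Functor.ofOpSequence
        (X := fun m : ℕ => Γ((𝓘 ^ (m + 1)).subscheme, ⊤))
        (fun m : ℕ => (Scheme.IdealSheafData.inclusion (Lef.pow_succ_le 𝓘 m)).appTop))) ∧
      ∀ a : ↑(limit (Functor.ofOpSequence
        (X := fun m : ℕ => Γ((𝓘 ^ (m + 1)).subscheme, ⊤))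
        (fun m : ℕ => (Scheme.IdealSheafData.inclusion (Lef.pow_succ_le 𝓘 m)).appTop))),
        ∃ c : k, ∀ m : ℕ, IsNilpotent (Sub.sub (α := ↑Γ((𝓘 ^ (m + 1)).subscheme, ⊤))
          ((limit.π (Functor.ofOpSequence
              (X := fun m : ℕ => Γ((𝓘 ^ (m + 1)).subscheme, ⊤))
              (fun m : ℕ => (Scheme.IdealSheafData.inclusion (Lef.pow_succ_le 𝓘 m)).appTop)) (Opposite.op m)).hom a)
          (((𝓘 ^ (m + 1)).subschemeι ≫ (X ↘ Spec (CommRingCat.of k))).appTop.hom
            ((Scheme.ΓSpecIso (CommRingCat.of k)).inv.hom c))) := by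
  set F := Functor.ofOpSequence (X := fun m : ℕ => Γ((𝓘 ^ (m + 1)).subscheme, ⊤))
    (fun m : ℕ => (Scheme.IdealSheafData.inclusion (Lef.pow_succ_le 𝓘 m)).appTop)
  let f : ∀ m : ℕ, (𝓘 ^ (m + 1)).subscheme ⟶ Spec (CommRingCat.of k) := fun m =>
    (𝓘 ^ (m + 1)).subschemeι ≫ (X ↘ Spec (CommRingCat.of k))
  let φ : ∀ m : ℕ, k →+* Γ((𝓘 ^ (m + 1)).subscheme, ⊤) := fun m =>
    ((Scheme.ΓSpecIso (CommRingCat.of k)).inv ≫ (f m).appTop).hom
  let g : ∀ m : ℕ, Γ((𝓘 ^ (m + 2)).subscheme, ⊤) ⟶ Γ((𝓘 ^ (m + 1)).subscheme, ⊤) := fun m =>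
    (Scheme.IdealSheafData.inclusion (Lef.pow_succ_le 𝓘 m)).appTop
  haveI hconn : ∀ m : ℕ, ConnectedSpace ↥(𝓘 ^ (m + 1)).subscheme := by
    intro m
    have h1 : _root_.IsConnected (Set.range (𝓘 ^ (m + 1)).subschemeι) := by
      rw [Scheme.IdealSheafData.range_subschemeι, Scheme.IdealSheafData.support_pow_succ]
      exact hY
    haveI : ConnectedSpace ↥(Set.range (𝓘 ^ (m + 1)).subschemeι) := isConnected_iff_connectedSpace.1 h1
    let e := (Scheme.Hom.isEmbedding (𝓘 ^ (m + 1)).subschemeι).toHomeomorph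
    exact e.symm.surjective.connectedSpace e.symm.continuous
  haveI : ∀ m : ℕ, UniversallyClosed (f m) := fun m => inferInstance
  haveI : ∀ m : ℕ, Nonempty (⊤ : (𝓘 ^ (m + 1)).subscheme.Opens) := fun m =>
    ⟨⟨(hconn m).toNonempty.some, trivial⟩⟩
  have hφ : ∀ m c, (g m).hom (φ (m + 1) c) = φ m c := by
    intro m c
    show ((f (m + 1)).appTop ≫ (Scheme.IdealSheafData.inclusion (Lef.pow_succ_le 𝓘 m)).appTop).hom
      ((Scheme.ΓSpecIso (CommRingCat.of k)).inv.hom c) = _
    rw [← Scheme.Hom.comp_appTop]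
    simp only [f, ← Category.assoc, Scheme.IdealSheafData.inclusion_subschemeι]
    rfl
  let P : ∀ m : ℕ, ↑(limit F) →+* ↑Γ((𝓘 ^ (m + 1)).subscheme, ⊤) := fun m => (limit.π F (Opposite.op m)).hom
  have key : ∀ a : ↑(limit F), ∃ c : k, ∀ m, IsNilpotent
      (P m a - φ m c) := by
    intro a
    choose c hc using fun m => FormalSecLib.exists_isNilpotent_sub (f m)
      (P m a)
    have hstep : ∀ m, c (m + 1) = c m := by
      intro m
      have hw : (g m).hom (P (m + 1) a) = P m a := by
        show _ = (limit.π F (Opposite.op m)).hom a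
        rw [← limit.w F (homOfLE (Nat.le_add_right m 1)).op, Functor.ofOpSequence_map_homOfLE_succ]
        rfl
      have h1 : IsNilpotent ((g m).hom (P (m + 1) a - φ (m + 1) (c (m + 1)))) :=
        (hc (m + 1)).map (g m).hom
      rw [map_sub, hw, hφ] at h1
      have h2 : IsNilpotent ((P m a - φ m (c m)) - (P m a - φ m (c (m + 1)))) :=
        (Commute.all _ _).isNilpotent_sub (hc m) h1
      rw [sub_sub_sub_cancel_left, ← map_sub] at h2
      haveI : Nontrivial ↑Γ((𝓘 ^ (m + 1)).subscheme, ⊤) := inferInstance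
      exact sub_eq_zero.1 (isNilpotent_iff_eq_zero.1 ((IsNilpotent.map_iff (φ m).injective).1 h2))
    refine ⟨c 0, fun m => ?_⟩
    have h0 : c m = c 0 := by
      induction m with
      | zero => rfl
      | succ m ih => rw [hstep, ih]
    rw [← h0]
    exact hc m
  refine ⟨?_, key⟩
  haveI : Nontrivial ↑(limit F) := (P 0).domain_nontrivial
  refine IsLocalRing.of_isUnit_or_isUnit_one_sub_self fun a => ?_
  obtain ⟨c, hc⟩ := key a
  by_cases h : c = 0
  · refine Or.inr (FormalSecLib.isUnit_limit F _ fun ⟨m⟩ => (?_ : IsUnit (P m (1 - a))))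
    have hn := hc m
    rw [h, map_zero, sub_zero] at hn
    rw [map_sub, map_one]
    exact hn.isUnit_one_sub
  · refine Or.inl (FormalSecLib.isUnit_limit F _ fun ⟨m⟩ => (?_ : IsUnit (P m a)))
    have h1 := IsNilpotent.isUnit_add_left_of_commute (hc m) ((isUnit_iff_ne_zero.2 h).map (φ m)) (Commute.all _ _)
    rwa [add_sub_cancel] at h1

end Groth.Agent.S11393
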