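import Groth.Statements.S11397
import Groth.Agent.ChevThmLib.Main
-- import your own Groth.Agent.* helpers here

set_option autoImplicit false
set_option backward.isDefEq.respectTransparency false
set_option linter.style.haveILetI false
universe u
open CategoryTheory MonoidalCategory CartesianMonoidalCategory MonObj GrpObj AlgebraicGeometry CategoryTheory.Limits
open AlgGrp

namespace Groth.Agent.S11397

/-- Over an algebraically closed field k, let G be an algebraic group (a smooth k-group scheme of finite
type) which is not proper over k. Then G has a smooth closed subgroup scheme which is affine and of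
positive dimension. -/
theorem result (k : Type u) [Field k] [IsAlgClosed k]
    (G : Over (Spec (CommRingCat.of k))) [GrpObj G] [Smooth G.hom] [QuasiCompact G.hom] (hG : ¬ IsProper G.hom) :
    ∃ (H : Over (Spec (CommRingCat.of k))) (_ : GrpObj H) (j : H ⟶ G), IsMonHom j ∧ IsClosedImmersion j.left ∧
      Smooth H.hom ∧ IsAffine H.left ∧ 0 < topologicalKrullDim ↥H.left := by
  obtain ⟨G₀, _, i, _, _, _, _, _, hG₀⟩ := ChevThmLib.exists_component G hG
  obtain ⟨H, _, j, _, _, hsm, haff, hdim⟩ := ChevThmLib.exists_affine_of_integral G₀ hG₀
  exact ⟨H, inferInstance, j ≫ i, inferInstance, by rw [Over.comp_left]; infer_instance, hsm, haff, hdim⟩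

end Groth.Agent.S11397
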