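import Groth.Statements.S11400
import Groth.Agent.AlbNormLib.Rosen
import Groth.Agent.S3040
-- import your own Groth.Agent.* helpers here

set_option autoImplicit false
set_option backward.isDefEq.respectTransparency false
set_option linter.style.haveILetI false
universe u
open CategoryTheory MonoidalCategory CartesianMonoidalCategory MonObj GrpObj AlgebraicGeometry CategoryTheory.Limits
open AlgGrp

namespace Groth.Agent.S11400

/-- Over an algebraically closed field k, let G be a connected algebraic group (smooth k-group scheme of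
finite type), let i : N → G be its largest connected affine normal algebraic subgroup G_aff (a
homomorphism and closed immersion from a smooth, connected, affine k-group scheme, normal in G,
through which every other such subgroup factors), and let j : Z → G be the scheme-theoretic centre
of G. Then G = Z · G_aff, in the sense that the multiplication morphism Z × G_aff → G is surjective,
and G is commutative exactly when G_aff is. (The published statement also gives G = Z⁰_red · G_aff
and identifies the scheme-theoretic intersection Z ∩ G_aff with the centre of G_aff; those clauses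
are not stated here.) -/
theorem result (k : Type u) [Field k] [IsAlgClosed k]
    (G : Over (Spec (CommRingCat.of k))) [GrpObj G] [Smooth G.hom] [QuasiCompact G.hom] [ConnectedSpace ↥G.left]
    (N : Over (Spec (CommRingCat.of k))) [GrpObj N] (i : N ⟶ G) [IsMonHom i] [IsClosedImmersion i.left]
    [Smooth N.hom] [ConnectedSpace ↥N.left] [IsAffine N.left] (hN : AlgGrp.IsNormalHom i)
    (hNmax : ∀ (N' : Over (Spec (CommRingCat.of k))) [GrpObj N'] (i' : N' ⟶ G) [IsMonHom i'] [IsClosedImmersion i'.left]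
      [Smooth N'.hom] [ConnectedSpace ↥N'.left] [IsAffine N'.left], AlgGrp.IsNormalHom i' → ∃ f : N' ⟶ N, f ≫ i = i')
    (Z : Over (Spec (CommRingCat.of k))) [GrpObj Z] (j : Z ⟶ G) (hZ : Red.IsCentre j) :
    Surjective ((j ⊗ₘ i) ≫ μ[G]).left ∧ (IsCommMonObj G ↔ IsCommMonObj N) := by
  obtain ⟨hjm, hjmono, hchar⟩ := hZ
  haveI := hjm; haveI := hjmono
  obtain ⟨l, hl⟩ := (hchar _ (AntiAffLib.kerIncl G)).2 fun X' x h => by
    have e := congrArg (lift x h ≫ ·) (AntiAffLib.comm_of_hom (AntiAffLib.kerIncl G))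
    simpa only [MonObj.comp_mul, lift_fst_assoc, lift_snd, Category.comp_id] using e
  haveI hs := AlbNormLib.surjective_gAff_antiAff i hN hNmax
  have hj : (j ⊗ₘ i) ≫ μ[G] = (fst Z N ≫ j) * (snd Z N ≫ i) := by rw [Hom.mul_def]; congr 1
  haveI hji : Surjective ((j ⊗ₘ i) ≫ μ[G]).left := by
    let e : N ⊗ AntiAffLib.ker G ⟶ Z ⊗ N := lift (snd N _ ≫ l) (fst N _)
    have he : e ≫ (j ⊗ₘ i) ≫ μ[G] = (i ⊗ₘ AntiAffLib.kerIncl G) ≫ μ[G] := by
      rw [hj, MonObj.comp_mul, show (i ⊗ₘ AntiAffLib.kerIncl G) ≫ μ[G] = (fst N _ ≫ i) * (snd N _ ≫ AntiAffLib.kerIncl G) by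
        rw [Hom.mul_def]; congr 1]
      simp only [e, lift_fst_assoc, lift_snd_assoc, Category.assoc, hl]
      have h := (hchar _ (snd N (AntiAffLib.ker G) ≫ AntiAffLib.kerIncl G)).1 ⟨snd N _ ≫ l, by rw [Category.assoc, hl]⟩
        _ (𝟙 _) (fst N _ ≫ i)
      simpa only [Category.id_comp, Category.comp_id] using h
    haveI : Surjective (e.left ≫ ((j ⊗ₘ i) ≫ μ[G]).left) := by rw [← Over.comp_left, he]; exact hs
    exact Surjective.of_comp e.left ((j ⊗ₘ i) ≫ μ[G]).left
  haveI : IsSeparated G.hom := Groth.Agent.GrpField.isSeparated_grp (G := G)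
  haveI : Mono i := Over.mono_of_mono_left i
  refine ⟨hji, fun hG => ?_, fun hNc => ?_⟩
  · exact AlbNormLib.isCommMonObj_of_points N fun a b => by
      rw [← cancel_mono i, MonObj.mul_comp, MonObj.mul_comp]
      exact mul_comm _ _
  · refine AlbNormLib.isCommMonObj_of_points G fun a b => ?_
    haveI : LocallyOfFiniteType Z.hom := by
      obtain ⟨Z', j', hc, -, hZ'⟩ := (Groth.Agent.S3040.result (Spec (CommRingCat.of k)) G G (fun s => by
        haveI : Subsingleton ↥(Spec (CommRingCat.of k)) := inferInstanceAs (Subsingleton (PrimeSpectrum k))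
        rw [show G.hom.base ⁻¹' {s} = Set.univ from Set.eq_univ_of_forall fun x => Subsingleton.elim _ _]
        exact isConnected_univ) (𝟙 G)).2
      haveI := hc
      haveI : Mono j' := Over.mono_of_mono_left j'
      obtain ⟨u, hu⟩ := (hZ' _ j).2 ((hchar _ j).1 ⟨𝟙 Z, Category.id_comp j⟩)
      obtain ⟨v, hv⟩ := (hchar _ j').2 ((hZ' _ j').1 ⟨𝟙 Z', Category.id_comp j'⟩)
      haveI : IsIso u := ⟨v, by rw [← cancel_mono j, Category.assoc, hv, hu, Category.id_comp],
        by rw [← cancel_mono j', Category.assoc, hu, hv, Category.id_comp]⟩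
      haveI : IsIso u.left := (Over.forget _).map_isIso u
      haveI : LocallyOfFiniteType Z'.hom := by rw [← Over.w j']; infer_instance
      rw [← Over.w u]; infer_instance
    haveI : LocallyOfFiniteType (Z ⊗ N).hom :=
      inferInstanceAs (LocallyOfFiniteType (pullback.fst Z.hom N.hom ≫ Z.hom))
    obtain ⟨a', rfl⟩ := AVAmpleLib.exists_pt_lift ((j ⊗ₘ i) ≫ μ[G]) a
    obtain ⟨b', rfl⟩ := AVAmpleLib.exists_pt_lift ((j ⊗ₘ i) ≫ μ[G]) b
    rw [hj, MonObj.comp_mul, MonObj.comp_mul]
    set z := a' ≫ fst Z N ≫ j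
    set w := b' ≫ fst Z N ≫ j
    set m := a' ≫ snd Z N ≫ i with hm
    set n := b' ≫ snd Z N ≫ i with hn
    have hz : ∀ g : 𝟙_ _ ⟶ G, z * g = g * z := fun g => by
      simpa [z] using (hchar _ (a' ≫ fst Z N ≫ j)).1 ⟨a' ≫ fst Z N, Category.assoc _ _ _⟩ _ (𝟙 _) g
    have hw : ∀ g : 𝟙_ _ ⟶ G, w * g = g * w := fun g => by
      simpa [w] using (hchar _ (b' ≫ fst Z N ≫ j)).1 ⟨b' ≫ fst Z N, Category.assoc _ _ _⟩ _ (𝟙 _) g
    have hmn : m * n = n * m := by
      rw [hm, hn, ← Category.assoc a', ← Category.assoc b']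
      exact (MonObj.mul_comp _ _ _).symm.trans
        ((congrArg (· ≫ i) (mul_comm (a' ≫ snd Z N) (b' ≫ snd Z N))).trans (MonObj.mul_comp _ _ _))
    calc z * m * (w * n) = z * (m * w) * n := by simp only [_root_.mul_assoc]
      _ = z * w * (m * n) := by rw [← hw m]; simp only [_root_.mul_assoc]
      _ = w * z * (n * m) := by rw [hz w, hmn]
      _ = w * (z * n) * m := by simp only [_root_.mul_assoc]
      _ = w * n * (z * m) := by rw [hz n]; simp only [_root_.mul_assoc]
end Groth.Agent.S11400
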