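import Groth.Statements.S11401
import Groth.Agent.AlbNormLib.Rosen
import Groth.Agent.AntiAffLib.Smooth
import Groth.Agent.AntiAffLib.RigidGrp
import Groth.Agent.AntiAffLib.Basics2
import Groth.Agent.AntiAffLib.Image
import Groth.Agent.BorelLib.Borel
import Groth.Agent.BorelLib.SelfNorm
import Groth.Agent.UnirLib.Solvable
import Groth.Agent.SemiAbLib.QuotTriv
import Groth.Agent.GrpHomLib.FlatImage
import Groth.Agent.CommSubLib.Main

set_option autoImplicit false
set_option linter.style.haveILetI false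
set_option backward.isDefEq.respectTransparency false
set_option maxHeartbeats 800000
universe u
open CategoryTheory MonoidalCategory CartesianMonoidalCategory MonObj GrpObj AlgebraicGeometry CategoryTheory.Limits
open AlgGrp

namespace Groth.Agent.S11401

attribute [-instance] CategoryTheory.Hom.commGroup

noncomputable section

open AVAmpleLib (pt)

/-- A surjective homomorphism onto `A` through a group with kernel a Borel subgroup of the affine part. -/
theorem exists_solvable_cover {k : Type u} [Field k] [IsAlgClosed k]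
    {G : Over (Spec (CommRingCat.of k))} [GrpObj G] [Smooth G.hom] [QuasiCompact G.hom] [ConnectedSpace ↥G.left]
    {N : Over (Spec (CommRingCat.of k))} [GrpObj N] (i : N ⟶ G) [IsMonHom i] [IsClosedImmersion i.left]
    [Smooth N.hom] [ConnectedSpace ↥N.left] [IsAffine N.left]
    {A : Over (Spec (CommRingCat.of k))} [GrpObj A] [Smooth A.hom] (α : G ⟶ A) [IsMonHom α]
    (hker : AlgGrp.IsKernel i α) {H : Over (Spec (CommRingCat.of k))} [GrpObj H] [Smooth H.hom] [QuasiCompact H.hom]
    (h : H ⟶ G) [IsMonHom h]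
    (hcen : ∀ (X : Over (Spec (CommRingCat.of k))) (a : X ⟶ H) (g : X ⟶ G), (a ≫ h) * g = g * (a ≫ h))
    [hsurj : Surjective (h ≫ α).left] :
    ∃ (B C : Over (Spec (CommRingCat.of k))) (_ : GrpObj B) (_ : GrpObj C) (j : B ⟶ C) (c : C ⟶ G)
      (β : C ⟶ A), IsMonHom j ∧ IsMonHom β ∧ Smooth β.left ∧ Surjective β.left ∧ c ≫ α = β ∧
        AlgGrp.IsKernel j β ∧ Unir.H1Zero B := by
  obtain ⟨R, _, _, v, hv, hR, -⟩ := BorelLib.exists_setup N
  haveI := hv; haveI := hR
  obtain ⟨B, _, iB, hiB, hB⟩ := BorelLib.exists_borel (G := N) v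
  obtain ⟨-, hBc, hBs, hBconn, hBsol, -⟩ := id hB
  haveI := hiB; haveI := hBc; haveI := hBs; haveI := hBconn
  haveI : IsAffine B.left := isAffine_of_isAffineHom iB.left
  haveI : Mono i := Over.mono_of_mono_left i
  haveI : Mono iB := Over.mono_of_mono_left iB
  have hnorm := BorelLib.isNormalizerOf_self hB
  obtain ⟨n, hn⟩ := hBsol
  have hH1 : Unir.H1Zero B := (Unir.solvable_main n B (hn _)).1
  haveI : QuasiCompact B.hom := inferInstance
  haveI : IsSeparated G.hom := Groth.Agent.GrpField.isSeparated_grp (G := G)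
  haveI : IsSeparated A.hom := Groth.Agent.GrpField.isSeparated_grp (G := A)
  haveI : IsSeparated H.hom := Groth.Agent.GrpField.isSeparated_grp (G := H)
  haveI : Smooth (B ⊗ H).hom := inferInstanceAs (Smooth (pullback.fst B.hom H.hom ≫ B.hom))
  haveI : QuasiCompact (B ⊗ H).hom := inferInstanceAs (QuasiCompact (pullback.fst B.hom H.hom ≫ B.hom))
  let u : B ⊗ H ⟶ G := (fst B H ≫ iB ≫ i) * (snd B H ≫ h)
  haveI : IsMonHom u :=
    { one_hom := by
        simp only [u, MonObj.comp_mul, ← Category.assoc, IsMonHom.one_hom]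
        exact Eq.trans (congrArg₂ (· * ·) Hom.one_def.symm Hom.one_def.symm |>.trans (_root_.mul_one _)) Hom.one_def |>.trans (by simp)
      mul_hom := by
        have e : ∀ (X : Over (Spec (CommRingCat.of k))) (x y : X ⟶ B ⊗ H), (x * y) ≫ u = (x ≫ u) * (y ≫ u) := by
          intro X x y
          simp only [u, MonObj.comp_mul, ← Category.assoc, MonObj.mul_comp]
          rw [_root_.mul_assoc, _root_.mul_assoc, ← _root_.mul_assoc (((y ≫ fst B H) ≫ iB) ≫ i) _ _,
            ← hcen X (x ≫ snd B H) (((y ≫ fst B H) ≫ iB) ≫ i)]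
          simp only [_root_.mul_assoc]
        have := e _ (fst (B ⊗ H) (B ⊗ H)) (snd (B ⊗ H) (B ⊗ H))
        rw [Hom.mul_def, lift_fst_snd, Category.id_comp, Hom.mul_def] at this
        rw [this]; congr 1 }
  haveI : QuasiCompact u.left := by
    haveI : QuasiCompact (u.left ≫ G.hom) := by rw [Over.w u]; infer_instance
    exact QuasiCompact.of_comp u.left G.hom
  haveI : Flat (B ⊗ H).hom := Groth.Agent.GrpField.flat_field _
  obtain ⟨C, _, p, c, hp, hc, hpc, hpf, hps, -, hcc⟩ :=
    Groth.Agent.GrpHom.exists_fppf_image u (Groth.Agent.GrpField.flat_field _)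
  haveI := hp; haveI := hc; haveI := hpf; haveI := hps; haveI := hcc
  haveI : LocallyOfFiniteType C.hom := by rw [← Over.w c]; infer_instance
  haveI : QuasiCompact C.hom := by rw [← Over.w c]; infer_instance
  haveI : Mono c := Over.mono_of_mono_left c
  haveI : IsSeparated C.hom := Groth.Agent.GrpField.isSeparated_grp (G := C)
  haveI : QuasiCompact p.left := by
    haveI : QuasiCompact (p.left ≫ C.hom) := by rw [Over.w p]; infer_instance
    exact QuasiCompact.of_comp p.left C.hom
  have hiα : i ≫ α = 1 := by rw [hker.w, Hom.one_def]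
  have hu : u ≫ α = snd B H ≫ h ≫ α := by
    simp only [u, MonObj.mul_comp, Category.assoc, hiα, MonObj.comp_one, _root_.one_mul]
  haveI : Surjective (snd B H).left :=
    MorphismProperty.pullback_snd (P := @Surjective) B.hom H.hom
      ⟨fun s => ⟨η[B].left (IsLocalRing.closedPoint k), Subsingleton.elim (α := PrimeSpectrum k) _ _⟩⟩
  haveI : Surjective (c ≫ α).left := by
    have e : p.left ≫ (c ≫ α).left = (snd B H).left ≫ (h ≫ α).left := by
      rw [← Over.comp_left, ← Over.comp_left, ← Category.assoc, hpc, hu]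
    haveI : Surjective (p.left ≫ (c ≫ α).left) := by rw [e]; infer_instance
    exact Surjective.of_comp p.left _
  haveI : IsReduced A.left := AlgSpLib.isReduced_of_smooth A.hom
  haveI : Flat (c ≫ α).left := AntiAffLib.flat_of_surjective (c ≫ α)
  let b₀ : B ⟶ B ⊗ H := lift (𝟙 B) 1
  have hj : (b₀ ≫ p) ≫ c = iB ≫ i := by
    rw [Category.assoc, hpc]
    simp only [b₀, u, MonObj.comp_mul, lift_fst_assoc, lift_snd_assoc, Category.id_comp, MonObj.one_comp,
      _root_.mul_one]
  haveI : IsMonHom ((b₀ ≫ p) ≫ c) := hj ▸ inferInstance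
  haveI : IsMonHom (b₀ ≫ p) := DiagRep.isMonHom_of_comp_mono _ c
  have hjk : AlgGrp.IsKernel (b₀ ≫ p) (c ≫ α) := by
    have key : ∀ (T : Over (Spec (CommRingCat.of k))) (s : T ⟶ C), s ≫ c ≫ α = toUnit T ≫ η[A] →
        ∃ b : T ⟶ B, b ≫ b₀ ≫ p = s := by
      intro T s hs
      obtain ⟨m, hm⟩ : ∃ m : T ⟶ N, m ≫ i = s ≫ c :=
        ⟨hker.lift (s ≫ c) (toUnit T) (by rw [Category.assoc]; exact hs), hker.lift_fst _ _ _⟩
      let d : pullback s p ⟶ T := pullback.fst s p
      let q : pullback s p ⟶ B ⊗ H := pullback.snd s p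
      have hdq : d ≫ s = q ≫ p := pullback.condition
      have sq := (IsPullback.of_hasPullback s p).map (Over.forget _)
      haveI : Flat d.left := MorphismProperty.of_isPullback (P := @Flat) sq.flip hpf
      haveI : Surjective d.left := MorphismProperty.of_isPullback (P := @Surjective) sq.flip hps
      haveI : QuasiCompact d.left := MorphismProperty.of_isPullback (P := @QuasiCompact) sq.flip ‹QuasiCompact p.left›
      haveI : IsSchemeTheoreticallyDominant d.left := ⟨Groth.Agent.MultLift.ker_eq_bot_of_flat_surjective _⟩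
      set b := q ≫ fst B H
      set a := q ≫ snd B H
      have e : (d ≫ m) ≫ i = ((b ≫ iB) ≫ i) * (a ≫ h) := by
        rw [Category.assoc, hm, ← Category.assoc d s c, hdq, Category.assoc, hpc]
        simp only [u, b, a, MonObj.comp_mul, Category.assoc]
      have hgrp : ∀ {M : Type _} [Group M] (P Q Z : M), Q * P = P * Q → Q * Z = Z * Q →
          P * Q * Z * (P * Q)⁻¹ = P * Z * P⁻¹ ∧ (P * Q)⁻¹ * Z * (P * Q) = P⁻¹ * Z * P := by
        intro M _ P Q Z h₁ h₂
        refine ⟨?_, ?_⟩
        · rw [_root_.mul_assoc P Q Z, h₂, _root_.mul_inv_rev]; group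
        · have h₃ := (((Commute.inv_right (show Commute Q P from h₁)).mul_right h₂).mul_right h₁).eq
          rw [_root_.mul_inv_rev]
          calc Q⁻¹ * P⁻¹ * Z * (P * Q) = Q⁻¹ * ((P⁻¹ * Z * P) * Q) := by simp only [_root_.mul_assoc]
            _ = _ := by rw [← h₃, inv_mul_cancel_left]
      obtain ⟨w, hw⟩ : ∃ w, w ≫ iB = d ≫ m := (hnorm.2.2 _ (d ≫ m)).2 fun X' x z => by
        have hx : (x ≫ d ≫ m) ≫ i = (((x ≫ b) ≫ iB) ≫ i) * ((x ≫ a) ≫ h) := by
          rw [Category.assoc x (d ≫ m) i, e, MonObj.comp_mul]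
          simp only [Category.assoc]
        obtain ⟨h₁, h₂⟩ := hgrp _ _ ((z ≫ iB) ≫ i) (hcen X' (x ≫ a) (((x ≫ b) ≫ iB) ≫ i))
          (hcen X' (x ≫ a) ((z ≫ iB) ≫ i))
        constructor
        · refine ⟨(x ≫ b) * z * (x ≫ b)⁻¹, ?_⟩
          rw [← cancel_mono i]
          simp only [MonObj.mul_comp, GrpObj.inv_comp, hx, h₁]
        · refine ⟨(x ≫ b)⁻¹ * z * (x ≫ b), ?_⟩
          rw [← cancel_mono i]
          simp only [MonObj.mul_comp, GrpObj.inv_comp, hx, h₂]
      obtain ⟨l, hl⟩ := Groth.Agent.GrpHom.exists_factor iB d m w hw.symm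
      refine ⟨l, ?_⟩
      rw [← cancel_mono c, Category.assoc, hj, ← hm, ← hl, Category.assoc]
    have w : (b₀ ≫ p) ≫ c ≫ α = toUnit B ≫ η[A] := by
      rw [← Category.assoc, hj, Category.assoc, hker.w, ← Category.assoc, toUnit_unique (iB ≫ toUnit N) (toUnit B)]
    haveI : Mono (iB ≫ i) := mono_comp _ _
    haveI : Mono ((b₀ ≫ p) ≫ c) := by rw [hj]; infer_instance
    haveI : Mono (b₀ ≫ p) := mono_of_mono _ c
    have key' : ∀ cn : PullbackCone (c ≫ α) η[A], ∃ z : cn.pt ⟶ B, z ≫ b₀ ≫ p = cn.fst := fun cn =>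
      key cn.pt cn.fst (by rw [cn.condition, toUnit_unique cn.snd (toUnit _)])
    refine IsPullback.of_isLimit' ⟨w⟩ (PullbackCone.IsLimit.mk _ (fun cn => (key' cn).choose)
      (fun cn => (key' cn).choose_spec) (fun cn => toUnit_unique _ _) fun cn m hm₁ _ => ?_)
    rw [← cancel_mono (b₀ ≫ p), hm₁]
    exact (key' cn).choose_spec.symm
  exact ⟨B, C, inferInstance, inferInstance, b₀ ≫ p, c, c ≫ α, inferInstance, inferInstance,
    SemiAbLib.smooth_of_kernel (b₀ ≫ p) (c ≫ α) hjk, inferInstance, rfl, hjk, hH1⟩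

/-- Over an algebraically closed field k, let G be a connected algebraic group (smooth k-group scheme of
finite type), let i : N → G be its largest connected affine normal algebraic subgroup G_aff (a
homomorphism and closed immersion from a smooth, connected, affine k-group scheme, normal in G,
through which every other such subgroup factors), and let α : G → A be a flat surjective
homomorphism with kernel i onto a proper smooth k-group scheme A (so A = G/G_aff). Then α is a
Zariski-locally trivial principal bundle: every point of A has an open neighbourhood over which α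
admits a section. -/
theorem result (k : Type u) [Field k] [IsAlgClosed k]
    (G : Over (Spec (CommRingCat.of k))) [GrpObj G] [Smooth G.hom] [QuasiCompact G.hom] [ConnectedSpace ↥G.left]
    (N : Over (Spec (CommRingCat.of k))) [GrpObj N] (i : N ⟶ G) [IsMonHom i] [IsClosedImmersion i.left]
    [Smooth N.hom] [ConnectedSpace ↥N.left] [IsAffine N.left] (hN : AlgGrp.IsNormalHom i)
    (hNmax : ∀ (N' : Over (Spec (CommRingCat.of k))) [GrpObj N'] (i' : N' ⟶ G) [IsMonHom i'] [IsClosedImmersion i'.left]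
      [Smooth N'.hom] [ConnectedSpace ↥N'.left] [IsAffine N'.left], AlgGrp.IsNormalHom i' → ∃ f : N' ⟶ N, f ≫ i = i')
    (A : Over (Spec (CommRingCat.of k))) [GrpObj A] [IsProper A.hom] [Smooth A.hom] (α : G ⟶ A) [IsMonHom α]
    [Surjective α.left] [Flat α.left] (hker : AlgGrp.IsKernel i α) (y : ↥A.left) :
    ∃ U : A.left.Opens, y ∈ U ∧ ∃ s : ↑U ⟶ G.left, s ≫ α.left = U.ι := by
  haveI : IsSeparated A.hom := inferInstance
  haveI : IsSeparated G.hom := Groth.Agent.GrpField.isSeparated_grp (G := G)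
  haveI := AlbNormLib.surjective_gAff_antiAff i hN hNmax
  haveI : Smooth (AntiAffLib.ker G).hom := AntiAffLib.smooth_of_antiAff (N := AntiAffLib.ker G)
  have hiα : i ≫ α = 1 := by rw [hker.w, Hom.one_def]
  have hfac : ((i ⊗ₘ AntiAffLib.kerIncl G) ≫ μ[G]) ≫ α = snd N (AntiAffLib.ker G) ≫ AntiAffLib.kerIncl G ≫ α := by
    have e : (i ⊗ₘ AntiAffLib.kerIncl G) ≫ μ[G] = (fst _ _ ≫ i) * (snd _ _ ≫ AntiAffLib.kerIncl G) := by
      rw [Hom.mul_def]; congr 1
    rw [e, MonObj.mul_comp, Category.assoc, hiα, MonObj.comp_one, _root_.one_mul, Category.assoc]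
  haveI : Surjective (AntiAffLib.kerIncl G ≫ α).left := by
    have e : ((i ⊗ₘ AntiAffLib.kerIncl G) ≫ μ[G]).left ≫ α.left =
        (snd N (AntiAffLib.ker G)).left ≫ (AntiAffLib.kerIncl G ≫ α).left := by
      rw [← Over.comp_left, ← Over.comp_left, hfac]
    haveI : Surjective ((snd N (AntiAffLib.ker G)).left ≫ (AntiAffLib.kerIncl G ≫ α).left) := by
      rw [← e]; infer_instance
    exact Surjective.of_comp (snd N (AntiAffLib.ker G)).left _
  have hcen : ∀ (X : Over (Spec (CommRingCat.of k))) (a : X ⟶ AntiAffLib.ker G) (g : X ⟶ G),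
      (a ≫ AntiAffLib.kerIncl G) * g = g * (a ≫ AntiAffLib.kerIncl G) := fun X a g => by
    have h := congrArg (lift a g ≫ ·) (AntiAffLib.comm_of_hom (AntiAffLib.kerIncl G))
    simpa [MonObj.comp_mul] using h
  obtain ⟨B, C, _, _, j, c, β, hj, hβ, hβs, hβsurj, hcβ, hk, hH1⟩ :=
    exists_solvable_cover i α hker (AntiAffLib.kerIncl G) hcen
  haveI := hj; haveI := hβ; haveI := hβs; haveI := hβsurj
  haveI : IsReduced A.left := AlgSpLib.isReduced_of_smooth A.hom
  haveI : ConnectedSpace ↥A.left := α.left.surjective.connectedSpace α.left.continuous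
  haveI : IrreducibleSpace ↥A.left := by
    haveI := CommSubLib.geometricallyIrreducible_of_connected A
    exact GeometricallyIrreducible.irreducibleSpace_of_subsingleton A.hom
  haveI : IsIntegral A.left := isIntegral_of_irreducibleSpace_of_isReduced A.left
  haveI : LocallyOfFiniteType A.hom := inferInstance
  obtain ⟨U, hU, s, hs⟩ := Unir.exists_section_ext hH1 j β hk
  obtain ⟨u, hu⟩ := Unir.exists_pt_mem (X := A) U.isOpen.isLocallyClosed hU
  obtain ⟨a, ha⟩ := Unir.exists_pt_mem (X := A) (isClosed_closure (s := {y})).isLocallyClosed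
    ⟨y, subset_closure rfl⟩
  obtain ⟨g, hg⟩ := AVAmpleLib.exists_pt_lift α (u * a⁻¹)
  let τ : A ⟶ A := (toUnit A ≫ (u * a⁻¹)) * 𝟙 A
  have hτa : a ≫ τ = u := by
    rw [MonObj.comp_mul, Category.comp_id, Unir.toUnit_comp_pt, inv_mul_cancel_right]
  let U' : A.left.Opens := τ.left ⁻¹ᵁ U
  have haU : pt a ∈ U' := by
    show τ.left (pt a) ∈ U
    rw [← Unir.pt_comp a τ, hτa]
    exact hu
  have hyU : y ∈ U' := (specializes_iff_mem_closure.2 ha).mem_open U'.isOpen haU
  refine ⟨U', hyU, ?_⟩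
  let Z : Over (Spec (CommRingCat.of k)) := Over.mk (U'.ι ≫ A.hom)
  let ιZ : Z ⟶ A := Over.homMk U'.ι rfl
  let ZU : Over (Spec (CommRingCat.of k)) := Over.mk (U.ι ≫ A.hom)
  let ιU : ZU ⟶ A := Over.homMk U.ι rfl
  let sU : ZU ⟶ C := Over.homMk s (by
    show s ≫ C.hom = U.ι ≫ A.hom
    rw [← Over.w β, ← Category.assoc, hs])
  let r : Z ⟶ ZU := Over.homMk (τ.left.resLE U U' le_rfl) (by
    show τ.left.resLE U U' le_rfl ≫ U.ι ≫ A.hom = U'.ι ≫ A.hom
    rw [Scheme.Hom.resLE_comp_ι_assoc, Over.w τ])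
  have hr : r ≫ ιU = ιZ ≫ τ := Over.OverMorphism.ext (Scheme.Hom.resLE_comp_ι τ.left le_rfl)
  have hsU : sU ≫ β = ιU := Over.OverMorphism.ext hs
  let σ : Z ⟶ G := (toUnit Z ≫ g⁻¹) * (r ≫ sU ≫ c)
  refine ⟨σ.left, ?_⟩
  have e : σ ≫ α = ιZ := by
    rw [MonObj.mul_comp, Category.assoc, Category.assoc, Category.assoc, GrpObj.inv_comp, hg, hcβ, hsU, hr]
    show _ * (ιZ ≫ ((toUnit A ≫ (u * a⁻¹)) * 𝟙 A)) = ιZ
    rw [MonObj.comp_mul ιZ, Category.comp_id]
    rw [← Category.assoc ιZ (toUnit A), toUnit_unique (ιZ ≫ toUnit A) (toUnit Z), ← _root_.mul_assoc,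
      ← MonObj.comp_mul, inv_mul_cancel, MonObj.comp_one, _root_.one_mul]
  exact congrArg CommaMorphism.left e

end

end Groth.Agent.S11401
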