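import Groth.Statements.S11402
import Groth.Agent.AlbLib.Albanese
import Groth.Agent.AntiAffLib.Criteria
import Groth.Agent.AntiAffLib.AffineQuot
-- import your own Groth.Agent.* helpers here

set_option autoImplicit false
set_option backward.isDefEq.respectTransparency false
set_option linter.style.haveILetI false
universe u
open CategoryTheory MonoidalCategory CartesianMonoidalCategory MonObj GrpObj AlgebraicGeometry CategoryTheory.Limits
open AlgGrp

namespace Groth.Agent.S11402

/-- Over an algebraically closed field k, let G be a connected algebraic group (smooth k-group scheme of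
finite type), let i : N → G be its largest connected affine normal algebraic subgroup G_aff (a
homomorphism and closed immersion from a smooth, connected, affine k-group scheme, normal in G,
through which every other such subgroup factors), and let α : G → A be a flat surjective
homomorphism with kernel i onto a proper smooth k-group scheme A (so A = G/G_aff is an abelian
variety). Then α is the Albanese morphism of G: every k-morphism (not necessarily a homomorphism)
from G to an abelian variety B (a proper, smooth, connected k-group scheme) factors uniquely through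
α. -/
theorem result (k : Type u) [Field k] [IsAlgClosed k]
    (G : Over (Spec (CommRingCat.of k))) [GrpObj G] [Smooth G.hom] [QuasiCompact G.hom] [ConnectedSpace ↥G.left]
    (N : Over (Spec (CommRingCat.of k))) [GrpObj N] (i : N ⟶ G) [IsMonHom i] [IsClosedImmersion i.left]
    [Smooth N.hom] [ConnectedSpace ↥N.left] [IsAffine N.left] (hN : AlgGrp.IsNormalHom i)
    (hNmax : ∀ (N' : Over (Spec (CommRingCat.of k))) [GrpObj N'] (i' : N' ⟶ G) [IsMonHom i'] [IsClosedImmersion i'.left]
      [Smooth N'.hom] [ConnectedSpace ↥N'.left] [IsAffine N'.left], AlgGrp.IsNormalHom i' → ∃ f : N' ⟶ N, f ≫ i = i')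
    (A : Over (Spec (CommRingCat.of k))) [GrpObj A] [IsProper A.hom] [Smooth A.hom] (α : G ⟶ A) [IsMonHom α]
    [Surjective α.left] [Flat α.left] (hker : AlgGrp.IsKernel i α)
    (B : Over (Spec (CommRingCat.of k))) [GrpObj B] [IsProper B.hom] [Smooth B.hom] [ConnectedSpace ↥B.left] (f : G ⟶ B) :
    ∃! g : A ⟶ B, α ≫ g = f := by
  haveI := AlbLib.geometricallyIntegral_grp G
  haveI := AlbLib.geometricallyIntegral_grp B
  haveI := AntiAffLib.lfp_of_lft α
  haveI := Groth.Agent.MonoQuot.epi_over α
  let d : G ⟶ B := toUnit G ≫ η[G] ≫ f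
  have hT : η[G] ≫ d = η[G] ≫ f := by
    show η[G] ≫ toUnit G ≫ η[G] ≫ f = η[G] ≫ f
    rw [← Category.assoc η[G] (toUnit G), toUnit_unique (η[G] ≫ toUnit G) (𝟙 _), Category.id_comp]
  have hd : η[G] ≫ (f * d⁻¹) = η[B] := by
    rw [MonObj.comp_mul, GrpObj.comp_inv, hT, mul_inv_cancel, Hom.one_def,
      toUnit_unique (toUnit (𝟙_ (Over (Spec (CommRingCat.of k))))) (𝟙 _), Category.id_comp]
  haveI : IsMonHom (f * d⁻¹) := AlbLib.isMonHom_of_pointed _ hd
  have h0 : i ≫ (f * d⁻¹) = 1 := by
    obtain ⟨C, _, p, hp, hCp, hCs, hCc, hpf, hps, hpt⟩ := AlbLib.exists_av_image (i ≫ (f * d⁻¹))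
    haveI := hp; haveI := hCp; haveI := hCs; haveI := hCc; haveI := hpf; haveI := hps
    haveI : IsAffine C.left := AntiAffLib.isAffine_of_surjective_hom p
    haveI : IsReduced C.left := by
      haveI := AlbLib.geometricallyIntegral_grp C
      haveI : Subsingleton ↥(Spec (CommRingCat.of k)) := inferInstanceAs (Subsingleton (PrimeSpectrum k))
      haveI : IsIntegral C.left := GeometricallyIntegral.isIntegral_of_subsingleton C.hom
      infer_instance
    haveI := AntiAffLib.antiAff_of_universallyClosed C η[C]
    have h1 : 𝟙 C = 1 := AntiAffLib.comp_eq_one (𝟙 C) (Category.comp_id _)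
    have h2 : p = 1 := by rw [← Category.comp_id p, h1, MonObj.comp_one]
    have h3 := (hpt N (𝟙 N)).1 (by rw [Category.id_comp]; exact h2)
    rwa [Category.id_comp] at h3
  obtain ⟨g, hg⟩ := Groth.Agent.MonoQuot.exists_desc_over α (f * d⁻¹) (fun T a b e => by
    obtain ⟨l, hl⟩ := AntiAffLib.exists_lift_kernel hker (a * b⁻¹)
      (by rw [MonObj.mul_comp, GrpObj.inv_comp, e, mul_inv_cancel])
    have h := congrArg (· ≫ (f * d⁻¹)) hl
    simp only [Category.assoc] at h
    rw [h0, MonObj.comp_one, MonObj.mul_comp, GrpObj.inv_comp] at h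
    exact mul_inv_eq_one.1 h.symm)
  refine ⟨g * (toUnit A ≫ η[G] ≫ f), ?_, fun g' hg' => ?_⟩
  · show α ≫ (g * (toUnit A ≫ η[G] ≫ f)) = f
    rw [MonObj.comp_mul, hg, ← Category.assoc α, toUnit_unique (α ≫ toUnit A) (toUnit G)]
    exact inv_mul_cancel_right f d
  · rw [← cancel_epi α, hg', MonObj.comp_mul, hg, ← Category.assoc α, toUnit_unique (α ≫ toUnit A) (toUnit G)]
    exact (inv_mul_cancel_right f d).symm
end Groth.Agent.S11402
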