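import Groth.Statements.S11404
import Groth.Agent.AlbLib.Split
import Groth.Agent.AlbLib.AVBasic
import Groth.Agent.AVAmpleLib.ProdRigid
-- import your own Groth.Agent.* helpers here

set_option autoImplicit false
set_option backward.isDefEq.respectTransparency false
set_option linter.style.haveILetI false
universe u
open CategoryTheory MonoidalCategory CartesianMonoidalCategory MonObj GrpObj AlgebraicGeometry CategoryTheory.Limits
open AlgGrp

namespace Groth.Agent.S11404

/-- Over an algebraically closed field k, let A be an abelian variety (a proper, smooth, connected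
k-group scheme) and S a connected k-scheme of finite type. For every automorphism f of A × S over S
there are a unique k-morphism g : S → A and a unique group automorphism h of A with f(a, s) = (g(s)
· h(a), s) on points. (This is the functor-of-points form, over a connected base, of the
identification of the automorphism group scheme of A with the semidirect product of A, acting by
translations, and the constant group of group automorphisms; in particular the neutral component is
A.) -/
theorem result (k : Type u) [Field k] [IsAlgClosed k]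
    (A S : Over (Spec (CommRingCat.of k))) [GrpObj A] [IsProper A.hom] [Smooth A.hom] [ConnectedSpace ↥A.left]
    [LocallyOfFiniteType S.hom] [QuasiCompact S.hom] [ConnectedSpace ↥S.left]
    (f : A ⊗ S ≅ A ⊗ S) (hf : f.hom ≫ snd A S = snd A S) :
    ∃ (g : S ⟶ A) (h : A ⟶ A), IsMonHom h ∧ IsIso h ∧
      f.hom ≫ fst A S = (snd A S ≫ g) * (fst A S ≫ h) ∧
      ∀ (g' : S ⟶ A) (h' : A ⟶ A), IsMonHom h' →
        f.hom ≫ fst A S = (snd A S ≫ g') * (fst A S ≫ h') → g' = g ∧ h' = h := by
  haveI : GeometricallyIntegral A.hom := AlbLib.geometricallyIntegral_grp A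
  haveI : IsCommMonObj A := CubeConsLib.isCommMonObj_field
  haveI : Flat A.hom := Groth.Agent.GrpField.flat_field _
  haveI : GeometricallyConnected A.hom := H0Lib.geometricallyConnected_of_integral A.hom
  haveI : Nonempty ↥(𝟙_ (Over (Spec (CommRingCat.of k)))).left := inferInstanceAs (Nonempty (PrimeSpectrum k))
  obtain ⟨x⟩ := (inferInstance : Nonempty ↥S.left)
  obtain ⟨s, -⟩ := AlbLib.exists_ratPt_mem S ⊤ ⟨x, trivial⟩
  let φ : A ⊗ S ⟶ A := f.hom ≫ fst A S
  let g : S ⟶ A := lift (toUnit S ≫ η[A]) (𝟙 S) ≫ φ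
  let F : A ⊗ S ⟶ A := φ * (snd A S ≫ g)⁻¹
  let h : A ⟶ A := lift (𝟙 A) (toUnit A ≫ s) ≫ F
  have hFe : lift (toUnit S ≫ η[A]) (𝟙 S) ≫ F = 1 := by
    simp only [F, g, MonObj.comp_mul, GrpObj.comp_inv, lift_snd_assoc, Category.id_comp, mul_inv_cancel]
  have hη : η[A] ≫ h = η[A] := by
    have e : η[A] ≫ lift (𝟙 A) (toUnit A ≫ s) = s ≫ lift (toUnit S ≫ η[A]) (𝟙 S) := by
      rw [comp_lift, comp_lift, Category.comp_id, Category.comp_id, ← Category.assoc, ← Category.assoc,
        toUnit_unique (η[A] ≫ toUnit A) (𝟙 _), toUnit_unique (s ≫ toUnit S) (𝟙 _), Category.id_comp, Category.id_comp]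
    show η[A] ≫ lift (𝟙 A) (toUnit A ≫ s) ≫ F = η[A]
    rw [← Category.assoc, e, Category.assoc, hFe, MonObj.comp_one, Hom.one_def, toUnit_unique (toUnit _) (𝟙 _),
      Category.id_comp]
  have hh : IsMonHom h := AlbLib.isMonHom_of_pointed h hη
  have hF : F = fst A S ≫ h := by
    obtain ⟨gam, hgam, -⟩ := AVAmpleLib.existsUnique_snd_factor (X := A) (Y := S) (F * (fst A S ≫ h)⁻¹) s 1 (by
      have e : A ◁ s = fst A _ ≫ lift (𝟙 A) (toUnit A ≫ s) := by
        refine CartesianMonoidalCategory.hom_ext _ _ (by simp) ?_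
        rw [whiskerLeft_snd, Category.assoc, lift_snd, ← Category.assoc, toUnit_unique (snd A (𝟙_ _)) (fst A _ ≫ toUnit A)]
      rw [MonObj.comp_mul, GrpObj.comp_inv, whiskerLeft_fst_assoc, e, Category.assoc, mul_inv_cancel, MonObj.comp_one])
    have h1 := congrArg (lift (toUnit S ≫ η[A]) (𝟙 S) ≫ ·) hgam
    simp only [MonObj.comp_mul, GrpObj.comp_inv, hFe, lift_fst_assoc, lift_snd_assoc, Category.id_comp, Category.assoc, hη] at h1
    rw [← Hom.one_def, inv_one, _root_.mul_one] at h1
    rw [← h1, MonObj.comp_one, mul_inv_eq_one] at hgam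
    exact hgam
  have hφ : φ = (snd A S ≫ g) * (fst A S ≫ h) := by
    rw [← hF, mul_comm]
    simp only [F, inv_mul_cancel_right]
  let c : 𝟙_ (Over (Spec (CommRingCat.of k))) ⟶ A := s ≫ g
  let t : A ⟶ A := lift (𝟙 A * (toUnit A ≫ c)) (toUnit A ≫ s) ≫ f.inv ≫ fst A S
  have hft : ∀ {T : Over (Spec (CommRingCat.of k))} (a : T ⟶ A),
      lift a (toUnit T ≫ s) ≫ f.hom = lift ((a ≫ h) * (toUnit T ≫ c)) (toUnit T ≫ s) := by
    intro T a
    refine CartesianMonoidalCategory.hom_ext _ _ ?_ ?_
    · rw [Category.assoc, show f.hom ≫ fst A S = φ from rfl, hφ, MonObj.comp_mul, lift_snd_assoc, lift_fst_assoc,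
        lift_fst, mul_comm, Category.assoc]
    · rw [Category.assoc, hf, lift_snd, lift_snd]
  have hinv : f.inv ≫ snd A S = snd A S := by rw [Iso.inv_comp_eq, hf]
  have hiso : IsIso h := by
    refine ⟨t, ?_, ?_⟩
    · simp only [t, ← Category.assoc, comp_lift, MonObj.comp_mul, Category.comp_id, comp_toUnit]
      rw [show lift (h * (toUnit A ≫ c)) (toUnit A ≫ s) = lift (𝟙 A) (toUnit A ≫ s) ≫ f.hom by rw [hft, Category.id_comp],
        Category.assoc, Category.assoc, Iso.hom_inv_id_assoc, lift_fst]
    · have e1 : lift t (toUnit A ≫ s) = lift (𝟙 A * (toUnit A ≫ c)) (toUnit A ≫ s) ≫ f.inv := by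
        refine CartesianMonoidalCategory.hom_ext _ _ (by simp only [t, lift_fst, Category.assoc]) ?_
        rw [lift_snd, Category.assoc, hinv, lift_snd]
      have e2 := hft t
      rw [e1, Category.assoc, Iso.inv_hom_id, Category.comp_id] at e2
      have e3 := congrArg (· ≫ fst A S) e2
      simp only [lift_fst] at e3
      exact (mul_right_cancel e3).symm
  refine ⟨g, h, hh, hiso, hφ, fun g' h' hh' he => ?_⟩
  haveI := hh'
  have eg : g' = g := by
    have h1 := congrArg (lift (toUnit S ≫ η[A]) (𝟙 S) ≫ ·) he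
    simp only [MonObj.comp_mul, lift_snd_assoc, lift_fst_assoc, Category.id_comp, Category.assoc, IsMonHom.one_hom] at h1
    rw [← Hom.one_def, _root_.mul_one] at h1
    exact h1.symm
  refine ⟨eg, ?_⟩
  have h2 := hφ.symm.trans he
  rw [eg] at h2
  have h3 := congrArg (lift (𝟙 A) (toUnit A ≫ s) ≫ ·) (mul_left_cancel h2)
  simp only [lift_fst_assoc, Category.id_comp] at h3
  exact h3.symm

end Groth.Agent.S11404
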