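import Groth.Statements.S11405
import Groth.Agent.GModLib.Rep
import Groth.Agent.GModLib.Anti
-- import your own Groth.Agent.* helpers here

set_option autoImplicit false
set_option backward.isDefEq.respectTransparency false
set_option linter.style.haveILetI false
universe u
open CategoryTheory MonoidalCategory CartesianMonoidalCategory MonObj GrpObj AlgebraicGeometry CategoryTheory.Limits
open AlgGrp

namespace Groth.Agent.S11405

/-- Over an algebraically closed field k, the following are equivalent for an algebraic group G (a
smooth k-group scheme of finite type): (i) the only global functions on G are the constants; (ii)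
every finite-dimensional linear representation of G is trivial (every point of G with values in a
k-algebra B acts as the identity on B ⊗ M, for every G-module structure on a finite-dimensional
k-vector space M); (iii) every action of G on a variety (integral, separated k-scheme of finite
type) with a fixed rational point is the trivial action. Stated as (i) ⇔ (ii) and (i) ⇔ (iii). -/
theorem result (k : Type u) [Field k] [IsAlgClosed k]
    (G : Over (Spec (CommRingCat.of k))) [GrpObj G] [Smooth G.hom] [QuasiCompact G.hom] :
    (Function.Bijective ((Scheme.ΓSpecIso (CommRingCat.of k)).inv ≫ G.hom.appTop).hom ↔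
      ∀ (M : Type u) [AddCommGroup M] [Module k M] [Module.Finite k M] (m : VecGrp.GMod G M)
        (B : Type u) [CommRing B] [Algebra k B] (g : VecGrp.pt k B ⟶ G), m.ρ B g = 1) ∧
    (Function.Bijective ((Scheme.ΓSpecIso (CommRingCat.of k)).inv ≫ G.hom.appTop).hom ↔
      ∀ (X : Over (Spec (CommRingCat.of k))) [LocallyOfFiniteType X.hom] [QuasiCompact X.hom] [IsSeparated X.hom]
        [IsIntegral X.left] (a : AlgGrp.Action G X) (x : 𝟙_ (Over (Spec (CommRingCat.of k))) ⟶ X), a.IsFixedPt x → a.act = snd G X) := by
  refine ⟨⟨?_, ?_⟩, ⟨?_, ?_⟩⟩
  · intro hG M _ _ _ m B _ _ g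
    haveI := (AntiAffLib.bijective_iff G).1 hG
    exact GModLib.ρ_eq_one m B g
  · intro h
    exact (AntiAffLib.bijective_iff G).2 (GModLib.antiAff_of_gmod fun n m D _ _ g => h (Fin n → k) m D g)
  · intro hG X _ _ _ _ a x hx
    haveI := (AntiAffLib.bijective_iff G).1 hG
    haveI : IsLocallyNoetherian X.left := LocallyOfFiniteType.isLocallyNoetherian X.hom
    exact AntiAffLib.act_eq_snd_of_fixed a x hx
  · intro h
    refine (AntiAffLib.bijective_iff G).2 (AntiAffLib.antiAff_of_acts fun n b x hx => ?_)
    haveI : LocallyOfFiniteType (CoactBr.sp k (MvPolynomial (Fin n) k)).hom := by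
      show LocallyOfFiniteType (Spec.map (CommRingCat.ofHom (algebraMap k (MvPolynomial (Fin n) k))))
      rw [HasRingHomProperty.Spec_iff (P := @LocallyOfFiniteType)]
      exact RingHom.finiteType_algebraMap.2 inferInstance
    haveI : IsIntegral (CoactBr.sp k (MvPolynomial (Fin n) k)).left :=
      inferInstanceAs (IsIntegral (Spec (CommRingCat.of (MvPolynomial (Fin n) k))))
    haveI : IsSeparated (CoactBr.sp k (MvPolynomial (Fin n) k)).hom :=
      inferInstanceAs (IsSeparated (Spec.map (CommRingCat.ofHom (algebraMap k (MvPolynomial (Fin n) k)))))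
    haveI : QuasiCompact (CoactBr.sp k (MvPolynomial (Fin n) k)).hom :=
      inferInstanceAs (QuasiCompact (Spec.map (CommRingCat.ofHom (algebraMap k (MvPolynomial (Fin n) k)))))
    exact h _ b x hx
end Groth.Agent.S11405
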