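import Groth.Statements.S14600
import Groth.Agent.SemiAbLib.SemiDescent
import Groth.Agent.SemiAbLib.CharP
import Groth.Agent.S14744

set_option autoImplicit false
set_option backward.isDefEq.respectTransparency false
set_option linter.style.haveILetI false
set_option maxHeartbeats 1000000
universe u
open CategoryTheory MonoidalCategory CartesianMonoidalCategory MonObj GrpObj AlgebraicGeometry CategoryTheory.Limits
open AlgGrp

namespace Groth.Agent.S14600

/-- Let k be a field of characteristic p > 0 and G an anti-affine k-group scheme of finite type (O(G) =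
k). Then G is a semi-abelian variety: there are a closed subgroup scheme i : T → G with T a torus
and a flat surjective homomorphism q : G → A with kernel T onto a proper smooth connected k-group
scheme A. -/
theorem result (k : Type u) [Field k] (p : ℕ) [Fact p.Prime] [CharP k p]
    (G : Over (Spec (CommRingCat.of k))) [GrpObj G] [LocallyOfFiniteType G.hom] [QuasiCompact G.hom]
    (hG : Function.Bijective ((Scheme.ΓSpecIso (CommRingCat.of k)).inv ≫ G.hom.appTop).hom) :
    (∃ (T : Over (Spec (CommRingCat.of k))) (_ : GrpObj T) (i : T ⟶ G) (A : Over (Spec (CommRingCat.of k))) (_ : GrpObj A) (q : G ⟶ A),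
        IsMonHom i ∧ IsClosedImmersion i.left ∧ Red.IsTorus T ∧ IsMonHom q ∧ Surjective q.left ∧ Flat q.left ∧
        AlgGrp.IsKernel i q ∧ IsProper A.hom ∧ Smooth A.hom ∧ ConnectedSpace ↥A.left) := by
  haveI h0 : AntiAffLib.IsΓIso (toUnit G) := (AntiAffLib.bijective_iff G).1 hG
  haveI : Smooth G.hom := AntiAffLib.smooth_of_antiAff G
  haveI : IsCommMonObj G := AntiAffLib.isCommMonObj_of_antiAff G
  haveI : ConnectedSpace G.left := AntiAffLib.connectedSpace_of_antiAff G
  haveI : QuasiSeparated G.hom := AntiAffLib.qs_grp G
  haveI : Nonempty G.left := ⟨(η[G]).left (IsLocalRing.closedPoint k)⟩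
  let F := AVAmpleLib.bcF (k := k) (AlgebraicClosure k)
  letI : GrpObj (F.obj G) := Functor.grpObjObj
  haveI : Smooth (F.obj G).hom := inferInstanceAs (Smooth (pullback.snd G.hom _))
  haveI : QuasiCompact (F.obj G).hom := inferInstanceAs (QuasiCompact (pullback.snd G.hom _))
  haveI := AlbLib.geometricallyIntegral_grp G
  haveI : GeometricallyIntegral (F.obj G).hom := inferInstanceAs (GeometricallyIntegral (pullback.snd G.hom _))
  haveI : ConnectedSpace (F.obj G).left := AlbLib.connectedSpace_gi _
  haveI h1 : AntiAffLib.IsΓIso (toUnit (F.obj G)) := (AntiAffLib.antiAff_bc_iff (AlgebraicClosure k) G).2 h0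
  haveI : IsCommMonObj (F.obj G) := AntiAffLib.isCommMonObj_of_antiAff _
  haveI : CharP (AlgebraicClosure k) p :=
    charP_of_injective_algebraMap (algebraMap k (AlgebraicClosure k)).injective p
  haveI : Surjective (𝟙 (F.obj G) ^ p).left :=
    Groth.Agent.S14744.result (AlgebraicClosure k) (F.obj G) ((AntiAffLib.bijective_iff (F.obj G)).2 h1) p
      (Fact.out : p.Prime).pos
  exact SemiAbLib.isSemiAb_of_bc (AlgebraicClosure k) G
    (SemiAbLib.isSemiAb_of_pow_surjective p (CharP.cast_eq_zero _ p) (Fact.out : p.Prime).ne_zero (F.obj G))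

end Groth.Agent.S14600
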