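import Groth.Statements.S11407
import Groth.Agent.S14600
import Groth.Agent.SemiAbLib.OverField
import Groth.Agent.AlbLib.AffineHom
import Groth.Agent.AntiAffLib.KerSub

set_option autoImplicit false
set_option backward.isDefEq.respectTransparency false
set_option linter.style.haveILetI false
set_option maxHeartbeats 1000000
universe u
open CategoryTheory MonoidalCategory CartesianMonoidalCategory MonObj GrpObj AlgebraicGeometry CategoryTheory.Limits
open AlgGrp

attribute [-instance] CategoryTheory.Hom.commGroup
open scoped MonObj

namespace Groth.Agent.S11407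

/-- Over an algebraically closed field k of characteristic p > 0, let G be a connected commutative
algebraic group (smooth k-group scheme of finite type) which is an extension of an abelian variety A
(a proper, smooth, connected k-group scheme) by a connected unipotent algebraic group U: i : U → G
is a homomorphism and closed immersion from a smooth, connected, affine k-group scheme containing no
non-trivial subtorus (for smooth connected affine groups over an algebraically closed field this is
unipotency), and α : G → A is a flat surjective homomorphism with kernel i. Then the only global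
functions on G are the constants if and only if U is the trivial group. -/
theorem result (k : Type u) [Field k] [IsAlgClosed k]
    (p : ℕ) [Fact p.Prime] [CharP k p]
    (G : Over (Spec (CommRingCat.of k))) [GrpObj G] [Smooth G.hom] [QuasiCompact G.hom] [ConnectedSpace ↥G.left] [IsCommMonObj G]
    (U : Over (Spec (CommRingCat.of k))) [GrpObj U] (i : U ⟶ G) [IsMonHom i] [IsClosedImmersion i.left]
    [Smooth U.hom] [ConnectedSpace ↥U.left] [IsAffine U.left] (hU : Red.HasNoSubtorus k U)
    (A : Over (Spec (CommRingCat.of k))) [GrpObj A] [IsProper A.hom] [Smooth A.hom] [ConnectedSpace ↥A.left]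
    (α : G ⟶ A) [IsMonHom α] [Surjective α.left] [Flat α.left] (hker : AlgGrp.IsKernel i α) :
    Function.Bijective ((Scheme.ΓSpecIso (CommRingCat.of k)).inv ≫ G.hom.appTop).hom ↔ IsIso U.hom := by
  haveI : LocallyOfFiniteType G.hom := inferInstance
  haveI : IsSeparated G.hom := Groth.Agent.GrpField.isSeparated_grp (G := G)
  haveI : CompactSpace U.left := inferInstance
  haveI : QuasiCompact U.hom := quasiCompact_of_compactSpace _
  constructor
  · intro hG
    have hs : SemiAbLib.IsSemiAb G := Groth.Agent.S14600.result k p G hG
    obtain ⟨T, _, j, B, _, q, hj, hjc, hT, hq, hqs, hqf, hk, hBp, -, -⟩ := hs.sub' i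
    haveI := hj; haveI := hjc; haveI := hq; haveI := hBp
    have hq1 : q = 1 := AlbLib.eq_one_of_affine q
    obtain ⟨l, hl⟩ := AntiAffLib.exists_lift_kernel hk (𝟙 U) (by rw [Category.id_comp, hq1])
    haveI : Mono j := Over.mono_of_mono_left j
    haveI : IsSplitEpi j := IsSplitEpi.mk' ⟨l, hl⟩
    haveI : IsIso j := isIso_of_mono_of_isSplitEpi j
    have ht : IsIso T.hom := hU T j hT
    haveI : IsIso j.left := inferInstanceAs (IsIso ((Over.forget _).map j))
    rw [← isIso_comp_left_iff j.left U.hom, Over.w j]
    exact ht
  · intro hU'
    haveI := hU'
    have hu : ∀ {S : Over (Spec (CommRingCat.of k))} (a b : S ⟶ U), a = b := fun a b => by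
      refine Over.OverMorphism.ext ?_
      rw [← cancel_mono U.hom, Over.w a, Over.w b]
    haveI : Mono α := ⟨fun {S} a b h => by
      have h1 : (a * b⁻¹) ≫ α = 1 := by rw [MonObj.mul_comp, GrpObj.inv_comp, h, mul_inv_cancel]
      obtain ⟨l, hl⟩ := AntiAffLib.exists_lift_kernel hker (a * b⁻¹) h1
      rw [hu l 1, MonObj.one_comp] at hl
      exact mul_inv_eq_one.1 hl.symm⟩
    haveI : Mono α.left := inferInstanceAs (Mono ((Over.forget _).map α))
    haveI := AntiAffLib.lfp_of_lft α
    haveI : IsOpenImmersion α.left := IsOpenImmersion.of_flat_of_mono α.left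
    haveI : IsIso α.left := (isIso_iff_isOpenImmersion_and_epi_base α.left).2 ⟨inferInstance, (TopCat.epi_iff_surjective _).2 α.left.surjective⟩
    haveI : IsProper G.hom := by rw [← Over.w α]; infer_instance
    haveI : IsReduced G.left := AlgSpLib.isReduced_of_smooth G.hom
    haveI := AntiAffLib.antiAff_of_universallyClosed G η[G]
    exact (AntiAffLib.bijective_iff G).2 inferInstance

end Groth.Agent.S11407
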