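import Groth.Statements.S11410
import Groth.Agent.FaithAffLib.Main
-- import your own Groth.Agent.* helpers here

set_option autoImplicit false
universe u
open CategoryTheory MonoidalCategory CartesianMonoidalCategory MonObj GrpObj AlgebraicGeometry CategoryTheory.Limits
open AlgGrp

namespace Groth.Agent.S11410

attribute [-instance] CategoryTheory.Hom.commGroup in
set_option backward.isDefEq.respectTransparency false in
/-- Over an algebraically closed field k, let G be an algebraic group (a smooth k-group scheme of finite
type) acting on a variety X (an integral, separated k-scheme of finite type), faithfully in the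
sense that every rational point of G acting as the identity of X is the identity element. Then for
every rational point x of X, the isotropy subgroup scheme of x (a closed subgroup scheme of G whose
points are exactly the points of G fixing x) is affine. -/
theorem result (k : Type u) [Field k] [IsAlgClosed k]
    (G X : Over (Spec (CommRingCat.of k))) [GrpObj G] [Smooth G.hom] [QuasiCompact G.hom]
    [LocallyOfFiniteType X.hom] [QuasiCompact X.hom] [IsSeparated X.hom] [IsIntegral X.left]
    (a : AlgGrp.Action G X)
    (hfaith : ∀ g : 𝟙_ (Over (Spec (CommRingCat.of k))) ⟶ G, lift (toUnit X ≫ g) (𝟙 X) ≫ a.act = 𝟙 X → g = η[G])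
    (x : 𝟙_ (Over (Spec (CommRingCat.of k))) ⟶ X) (St : Over (Spec (CommRingCat.of k))) [GrpObj St] (s : St ⟶ G) [IsMonHom s] [IsClosedImmersion s.left]
    (hs : ∀ (T : Over (Spec (CommRingCat.of k))) (g : T ⟶ G), (∃ t : T ⟶ St, t ≫ s = g) ↔ lift g (toUnit T ≫ x) ≫ a.act = toUnit T ≫ x) :
    IsAffine St.left := by
  haveI : IsSeparated St.hom := by
    haveI := Groth.Agent.GrpField.isSeparated_grp (G := G)
    rw [← Over.w s]; infer_instance
  haveI : LocallyOfFiniteType St.hom := by rw [← Over.w s]; infer_instance
  haveI : QuasiCompact St.hom := by rw [← Over.w s]; infer_instance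
  refine FaithAffLib.isAffine_of_kerIncl St ?_
  haveI : Mono s := Over.mono_of_mono_left s
  have hx : (FaithAffLib.pullAction s a).IsFixedPt x := fun T g => by
    show lift g (toUnit T ≫ x) ≫ (s ▷ X) ≫ a.act = _
    rw [lift_whiskerRight_assoc]
    exact (hs T (g ≫ s)).1 ⟨g, rfl⟩
  have h0 := FaithAffLib.kerIncl_acts_trivially (FaithAffLib.pullAction s a) x hx
  refine FaithAffLib.eq_one_of_points (AntiAffLib.kerIncl St) fun g => ?_
  haveI : Mono (AntiAffLib.kerIncl St ≫ s) := mono_comp _ _
  rw [← cancel_mono (AntiAffLib.kerIncl St ≫ s), IsMonHom.one_hom_assoc, IsMonHom.one_hom]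
  refine hfaith _ ?_
  have h := congrArg (lift (toUnit X ≫ g) (𝟙 X) ≫ ·) h0
  simp only [FaithAffLib.pullAction, lift_whiskerRight_assoc, lift_snd] at h
  simpa only [Category.assoc] using h

end Groth.Agent.S11410
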