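import Groth.Statements.S11411
import Groth.Agent.AntiAffLib.Kernel
import Groth.Agent.AntiAffLib.Criteria
-- import your own Groth.Agent.* helpers here

set_option autoImplicit false
universe u
open CategoryTheory MonoidalCategory CartesianMonoidalCategory MonObj GrpObj AlgebraicGeometry CategoryTheory.Limits
open AlgGrp

namespace Groth.Agent.S11411

/-- Over an algebraically closed field k, let G be an algebraic group (a smooth k-group scheme of finite
type) and N the kernel of the canonical morphism ρ : G → Spec O(G), i.e. the fibre of ρ over the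
image of the unit. Then N is the smallest normal subgroup scheme of G with affine quotient: for
every closed normal subgroup scheme H of G with a flat surjective homomorphism G → Q of k-group
schemes of finite type with kernel H and Q affine, the inclusion of N factors through H. And N is
the largest anti-affine subgroup scheme: every homomorphism and closed immersion into G from a
k-group scheme whose only global functions are the constants factors through N. (The published
statement also asserts O(N) = k, that N is a connected algebraic group central in G⁰, and O(G/N) =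
O(G) finitely generated; those parts are not restated here.) -/
theorem result (k : Type u) [Field k] [IsAlgClosed k]
    (G : Over (Spec (CommRingCat.of k))) [GrpObj G] [Smooth G.hom] [QuasiCompact G.hom] :
    (∀ (H Q : Over (Spec (CommRingCat.of k))) [GrpObj H] [GrpObj Q] (h : H ⟶ G) [IsMonHom h] [IsClosedImmersion h.left]
        [LocallyOfFiniteType Q.hom] [QuasiCompact Q.hom] (q : G ⟶ Q) [IsMonHom q] [Surjective q.left] [Flat q.left],
        AlgGrp.IsKernel h q → IsAffine Q.left →
        ∃ f : pullback G.left.toSpecΓ (η[G].left ≫ G.left.toSpecΓ) ⟶ H.left, f ≫ h.left = pullback.fst G.left.toSpecΓ (η[G].left ≫ G.left.toSpecΓ)) ∧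
    (∀ (M : Over (Spec (CommRingCat.of k))) [GrpObj M] (j : M ⟶ G) [IsMonHom j] [IsClosedImmersion j.left],
        Function.Bijective ((Scheme.ΓSpecIso (CommRingCat.of k)).inv ≫ M.hom.appTop).hom →
        ∃ f : M.left ⟶ pullback G.left.toSpecΓ (η[G].left ≫ G.left.toSpecΓ), f ≫ pullback.fst G.left.toSpecΓ (η[G].left ≫ G.left.toSpecΓ) = j.left) := by
  let sq := (IsPullback.of_hasPullback (AntiAffLib.toHull G)
      (η[AntiAffLib.hull G] : 𝟙_ (Over (Spec (CommRingCat.of k))) ⟶ AntiAffLib.hull G)).map (Over.forget _)
  refine ⟨?_, ?_⟩
  · intro H Q _ _ h _ _ _ _ q _ _ _ hker hQ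
    have h1 : AntiAffLib.kerIncl G ≫ q = 1 := AntiAffLib.comp_eq_one _ (by
      rw [← Category.assoc, IsMonHom.one_hom, IsMonHom.one_hom])
    let l := IsPullback.lift hker (AntiAffLib.kerIncl G) (toUnit _) (by rw [h1, Hom.one_def])
    have hl : l ≫ h = AntiAffLib.kerIncl G := IsPullback.lift_fst hker _ _ _
    refine ⟨sq.isoPullback.inv ≫ l.left, ?_⟩
    refine (Category.assoc _ _ _).trans ?_
    refine (congrArg (sq.isoPullback.inv ≫ ·) (congrArg (fun m => m.left) hl)).trans ?_
    exact sq.isoPullback_inv_fst
  · intro M _ j _ _ hM
    haveI := (AntiAffLib.bijective_iff M).1 hM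
    obtain ⟨l, hl⟩ := AntiAffLib.exists_lift G j (AntiAffLib.comp_eq_one _ (by
      rw [← Category.assoc, IsMonHom.one_hom, IsMonHom.one_hom]))
    refine ⟨l.left ≫ sq.isoPullback.hom, ?_⟩
    refine (Category.assoc _ _ _).trans ?_
    refine (congrArg (l.left ≫ ·) sq.isoPullback_hom_fst).trans ?_
    exact congrArg (fun m => m.left) hl
end Groth.Agent.S11411
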