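import Groth.Statements.S11414
import Groth.Agent.S11401
import Groth.Agent.S3279
import Groth.Agent.S3899
import Groth.Agent.S3276
import Groth.Agent.ChevThmLib.Disconn
import Groth.Agent.RedSymLib.Opposite
import Groth.Agent.BorelLib.Borel
import Groth.Agent.BorelLib.QuotProper
-- import your own Groth.Agent.* helpers here

set_option autoImplicit false
set_option maxHeartbeats 4000000
set_option synthInstance.maxHeartbeats 400000
set_option backward.isDefEq.respectTransparency false
universe u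
open CategoryTheory MonoidalCategory CartesianMonoidalCategory MonObj GrpObj AlgebraicGeometry CategoryTheory.Limits
open AlgGrp

namespace Groth.Agent.S11414

attribute [-instance] CategoryTheory.Hom.commGroup

variable {S : Scheme.{u}}

/-- Points over the image of an open piece. -/
theorem range_whiskerLeft (T : Over S) {Y Z : Over S} (g : Y ⟶ Z) (x : (T ⊗ Z).left)
    (hx : (snd T Z).left x ∈ Set.range g.left) : x ∈ Set.range (T ◁ g).left := by
  obtain ⟨y, hy⟩ := hx
  obtain ⟨p, hp, -⟩ := Scheme.exists_preimage_of_isPullback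
    (BorelLib.isPullback_whiskerLeft_left T g) x y hy.symm
  exact ⟨p, hp⟩

theorem surjective_whiskerLeft (T : Over S) {Y Z : Over S} (g : Y ⟶ Z) [Surjective g.left] :
    Surjective (T ◁ g).left :=
  MorphismProperty.of_isPullback (P := @Surjective) (BorelLib.isPullback_whiskerLeft_left T g).flip inferInstance

theorem isOpenImmersion_whiskerLeft (T : Over S) {Y Z : Over S} (g : Y ⟶ Z) [IsOpenImmersion g.left] :
    IsOpenImmersion (T ◁ g).left :=
  MorphismProperty.of_isPullback (P := @IsOpenImmersion) (BorelLib.isPullback_whiskerLeft_left T g).flip inferInstance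

theorem isProper_whiskerLeft (T : Over S) {Y Z : Over S} (g : Y ⟶ Z) [IsProper g.left] : IsProper (T ◁ g).left :=
  MorphismProperty.of_isPullback (P := @IsProper) (BorelLib.isPullback_whiskerLeft_left T g).flip inferInstance

/-- **A homogeneous space of a group fibred over a proper group is universally closed if it is dominated by a proper
homogeneous space of the fibre, given local sections.** -/
theorem universallyClosed_of_fibred {G A N X Z : Over S} [GrpObj G] [GrpObj A] [GrpObj N] (α : G ⟶ A) [IsMonHom α]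
    [IsProper A.hom] [IsProper Z.hom] (i : N ⟶ G) [IsMonHom i] (hker : AlgGrp.IsKernel i α)
    (hsec : ∀ y : ↥A.left, ∃ U : A.left.Opens, y ∈ U ∧ ∃ s : ↑U ⟶ G.left, s ≫ α.left = U.ι)
    (a : AlgGrp.Action G X) (o : 𝟙_ (Over S) ⟶ X) [Surjective (a.orbitMap o).left]
    (q : N ⟶ Z) [Surjective q.left] (ψ : Z ⟶ X) (hψ : q ≫ ψ = i ≫ a.orbitMap o) : UniversallyClosed X.hom := by
  rw [universallyClosed_eq]
  intro P T₀ i₁ g fst' hP C hC
  let T : Over S := Over.mk g
  let e : P ≅ (T ⊗ X).left := hP.isoPullback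
  haveI := surjective_whiskerLeft T (a.orbitMap o)
  -- reduce to the product
  suffices hmain : ∀ C : Set ↥(T ⊗ X).left, IsClosed C → IsClosed ((fst T X).left '' C) by
    have he : e.hom ≫ (fst T X).left = fst' := hP.isoPullback_hom_fst
    rw [← he, Scheme.Hom.comp_base, TopCat.coe_comp, Set.image_comp]
    exact hmain _ (e.hom.homeomorph.isClosedMap C hC)
  intro C hC
  set D := (T ◁ a.orbitMap o).left ⁻¹' C with hD
  set F := (T ◁ α).left '' D with hF
  have himg : (fst T X).left '' C = (fst T A).left '' F := by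
    rw [hF, Set.image_image]
    have e1 : ∀ d, (fst T A).left ((T ◁ α).left d) = (fst T G).left d := fun d => by
      rw [← Scheme.Hom.comp_apply, ← Over.comp_left, whiskerLeft_fst]
    have e2 : ∀ d, (fst T X).left ((T ◁ a.orbitMap o).left d) = (fst T G).left d := fun d => by
      rw [← Scheme.Hom.comp_apply, ← Over.comp_left, whiskerLeft_fst]
    ext t
    constructor
    · rintro ⟨c, hc, rfl⟩
      obtain ⟨d, rfl⟩ := (T ◁ a.orbitMap o).left.surjective c
      exact ⟨d, hc, (e1 d).trans (e2 d).symm⟩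
    · rintro ⟨d, hd, rfl⟩
      exact ⟨_, hd, (e2 d).trans (e1 d).symm⟩
  haveI : UniversallyClosed (fst T A).left :=
    inferInstanceAs (UniversallyClosed (pullback.fst T.hom A.hom))
  rw [himg]
  refine (fst T A).left.isClosedMap F ?_
  rw [← isOpen_compl_iff, isOpen_iff_mem_nhds]
  intro p hp
  obtain ⟨U, hyU, s, hs⟩ := hsec ((snd T A).left p)
  let ZU : Over S := Over.mk (U.ι ≫ A.hom)
  let ιU : ZU ⟶ A := Over.homMk U.ι rfl
  haveI : IsOpenImmersion ιU.left := inferInstanceAs (IsOpenImmersion U.ι)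
  let σ : ZU ⟶ G := Over.homMk s (by
    show s ≫ G.hom = U.ι ≫ A.hom
    rw [← Over.w α, ← Category.assoc, hs])
  have hσ : σ ≫ α = ιU := Over.OverMorphism.ext hs
  have hiα : i ≫ α = 1 := by rw [hker.w, Hom.one_def]
  let Ψ : ZU ⊗ N ⟶ G := (fst ZU N ≫ σ) * (snd ZU N ≫ i)
  let Θ : ZU ⊗ Z ⟶ X := lift (fst ZU Z ≫ σ) (snd ZU Z ≫ ψ) ≫ a.act
  have hΘ : (ZU ◁ q) ≫ Θ = Ψ ≫ a.orbitMap o := by
    show (ZU ◁ q) ≫ lift (fst ZU Z ≫ σ) (snd ZU Z ≫ ψ) ≫ a.act = _
    rw [← Category.assoc, comp_lift, ← RedSym.act_orbit, whiskerLeft_fst_assoc, whiskerLeft_snd_assoc, hψ]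
    simp only [Category.assoc]
  have hΨα : Ψ ≫ α = fst ZU N ≫ ιU := by
    rw [MonObj.mul_comp, Category.assoc, Category.assoc, hiα, MonObj.comp_one, _root_.mul_one, hσ]
  haveI := surjective_whiskerLeft ZU q
  haveI := surjective_whiskerLeft T (ZU ◁ q)
  -- the part over the open set
  let W := (T ◁ Θ).left ⁻¹' C
  have hW : IsClosed W := hC.preimage (T ◁ Θ).left.continuous
  haveI : IsProper (fst ZU Z).left := inferInstanceAs (IsProper (pullback.fst ZU.hom Z.hom))
  haveI := isProper_whiskerLeft T (fst ZU Z)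
  have hWc : IsClosed ((T ◁ fst ZU Z).left '' W) := (T ◁ fst ZU Z).left.isClosedMap W hW
  have key : (T ◁ ιU).left ⁻¹' F = (T ◁ fst ZU Z).left '' W := by
    ext w
    constructor
    · rintro ⟨d, hd, hdw⟩
      let GU : Over S := Over.mk ((α.left ⁻¹ᵁ U).ι ≫ G.hom)
      let incl : GU ⟶ G := Over.homMk (α.left ⁻¹ᵁ U).ι rfl
      let r : GU ⟶ ZU := Over.homMk (α.left.resLE U (α.left ⁻¹ᵁ U) le_rfl) (by
        show α.left.resLE U (α.left ⁻¹ᵁ U) le_rfl ≫ U.ι ≫ A.hom = (α.left ⁻¹ᵁ U).ι ≫ G.hom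
        rw [Scheme.Hom.resLE_comp_ι_assoc, Over.w α])
      have hr : r ≫ ιU = incl ≫ α := Over.OverMorphism.ext (Scheme.Hom.resLE_comp_ι α.left le_rfl)
      have h1 : ((r ≫ σ)⁻¹ * incl) ≫ α = 1 := by
        rw [MonObj.mul_comp, GrpObj.inv_comp, Category.assoc, hσ, hr, inv_mul_cancel]
      have hn := hker.lift_fst ((r ≫ σ)⁻¹ * incl) (toUnit _) (by rw [h1, Hom.one_def])
      set n := hker.lift ((r ≫ σ)⁻¹ * incl) (toUnit _) (by rw [h1, Hom.one_def])
      have hΨ : lift r n ≫ Ψ = incl := by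
        rw [MonObj.comp_mul, lift_fst_assoc, lift_snd_assoc, hn, mul_inv_cancel_left]
      have hd2 : (snd T G).left d ∈ Set.range incl.left := by
        show _ ∈ Set.range (α.left ⁻¹ᵁ U).ι
        rw [Scheme.Opens.range_ι]
        show α.left ((snd T G).left d) ∈ U
        rw [← Scheme.Hom.comp_apply, ← Over.comp_left, ← whiskerLeft_snd, Over.comp_left, Scheme.Hom.comp_apply, hdw,
          ← Scheme.Hom.comp_apply, ← Over.comp_left, whiskerLeft_snd, Over.comp_left, Scheme.Hom.comp_apply]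
        exact ((snd T ZU).left w).2
      obtain ⟨d₀, rfl⟩ := range_whiskerLeft T incl d hd2
      refine ⟨(T ◁ (lift r n ≫ ZU ◁ q)).left d₀, ?_, ?_⟩
      · show (T ◁ Θ).left _ ∈ C
        rw [← Scheme.Hom.comp_apply, ← Over.comp_left, ← MonoidalCategory.whiskerLeft_comp, Category.assoc, hΘ,
          ← Category.assoc, hΨ, MonoidalCategory.whiskerLeft_comp, Over.comp_left, Scheme.Hom.comp_apply]
        exact hd
      · haveI := isOpenImmersion_whiskerLeft T ιU
        apply (T ◁ ιU).left.isOpenEmbedding.injective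
        refine Eq.trans ?_ hdw
        rw [← Scheme.Hom.comp_apply, ← Scheme.Hom.comp_apply, ← Over.comp_left, ← Over.comp_left,
          ← MonoidalCategory.whiskerLeft_comp, ← Scheme.Hom.comp_apply, ← Over.comp_left,
          ← MonoidalCategory.whiskerLeft_comp, Category.assoc, whiskerLeft_fst_assoc, lift_fst_assoc, hr, MonoidalCategory.whiskerLeft_comp]
    · rintro ⟨z, hz, rfl⟩
      obtain ⟨z₀, rfl⟩ := (T ◁ (ZU ◁ q)).left.surjective z
      refine ⟨(T ◁ Ψ).left z₀, ?_, ?_⟩
      · show (T ◁ a.orbitMap o).left _ ∈ C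
        have h0 : (T ◁ Θ).left ((T ◁ (ZU ◁ q)).left z₀) ∈ C := hz
        rw [← Scheme.Hom.comp_apply, ← Over.comp_left, ← MonoidalCategory.whiskerLeft_comp] at h0 ⊢
        rwa [hΘ] at h0
      · simp only [← Scheme.Hom.comp_apply, ← Over.comp_left, ← MonoidalCategory.whiskerLeft_comp]
        rw [hΨα, whiskerLeft_fst]
  haveI := isOpenImmersion_whiskerLeft T ιU
  obtain ⟨w, rfl⟩ := range_whiskerLeft T ιU p (by
    show _ ∈ Set.range U.ι
    rw [Scheme.Opens.range_ι]
    exact hyU)
  have hw : w ∈ ((T ◁ fst ZU Z).left '' W)ᶜ := by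
    rw [← key]
    exact hp
  refine Filter.mem_of_superset
    (((T ◁ ιU).left.isOpenEmbedding.isOpenMap _ hWc.isOpen_compl).mem_nhds ⟨w, hw, rfl⟩) ?_
  rintro _ ⟨w', hw', rfl⟩
  rw [← key] at hw'
  exact hw'

/-- Over an algebraically closed field k, let G be a connected algebraic group (smooth k-group scheme of
finite type), let i : N → G be its largest connected affine normal algebraic subgroup G_aff (a
homomorphism and closed immersion from a smooth, connected, affine k-group scheme, normal in G,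
through which every other such subgroup factors), let H be a closed subgroup scheme of G and X = G/H
a quotient (a k-scheme with a G-action and a rational point o whose orbit map is flat and surjective
and identifies G × H with G ×_X G). Then X is proper over k exactly when some Borel subgroup of
G_aff lies in H (factors through H). (The published statement adds, for such a Borel subgroup B, an
isomorphism of G/B with the product of G/G_aff and G_aff/B; it is not stated here.) -/
theorem result (k : Type u) [Field k] [IsAlgClosed k]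
    (G : Over (Spec (CommRingCat.of k))) [GrpObj G] [Smooth G.hom] [QuasiCompact G.hom] [ConnectedSpace ↥G.left]
    (N : Over (Spec (CommRingCat.of k))) [GrpObj N] (i : N ⟶ G) [IsMonHom i] [IsClosedImmersion i.left]
    [Smooth N.hom] [ConnectedSpace ↥N.left] [IsAffine N.left] (hN : AlgGrp.IsNormalHom i)
    (hNmax : ∀ (N' : Over (Spec (CommRingCat.of k))) [GrpObj N'] (i' : N' ⟶ G) [IsMonHom i'] [IsClosedImmersion i'.left]
      [Smooth N'.hom] [ConnectedSpace ↥N'.left] [IsAffine N'.left], AlgGrp.IsNormalHom i' → ∃ f : N' ⟶ N, f ≫ i = i')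
    (H : Over (Spec (CommRingCat.of k))) [GrpObj H] (h : H ⟶ G) [IsMonHom h] [IsClosedImmersion h.left]
    (X : Over (Spec (CommRingCat.of k))) (a : AlgGrp.Action G X) (o : 𝟙_ (Over (Spec (CommRingCat.of k))) ⟶ X) (hX : AGF.IsQuotient h X a o) :
    IsProper X.hom ↔ ∃ (B : Over (Spec (CommRingCat.of k))) (_ : GrpObj B) (b : B ⟶ N) (f : B ⟶ H),
      Red.IsBorelOver k b ∧ f ≫ h = b ≫ i := by
  haveI : IsSeparated G.hom := Groth.Agent.GrpField.isSeparated_grp (G := G)
  haveI : Mono i := DiagRep.mono_of_isClosedImmersion i inferInstance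
  haveI : Mono h := DiagRep.mono_of_isClosedImmersion h inferInstance
  constructor
  · intro hp
    obtain ⟨R, _, _, v, hv, hR, -⟩ := BorelLib.exists_setup N
    haveI := hv; haveI := hR
    obtain ⟨B₀, _, b₀, hb₀m, hB₀⟩ := BorelLib.exists_borel v
    haveI := hp; haveI := hb₀m; haveI := hB₀.2.1; haveI := hB₀.2.2.1; haveI := hB₀.2.2.2.1
    haveI : IsAffine B₀.left := isAffine_of_isAffineHom b₀.left
    haveI : Group.IsSolvable (𝟙_ (Over (Spec (CommRingCat.of k))) ⟶ B₀) := by
      obtain ⟨n, hn⟩ := hB₀.2.2.2.2.1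
      exact ⟨⟨n, hn _⟩⟩
    haveI : Nonempty X.left := ⟨o.left (IsLocalRing.closedPoint k)⟩
    have hact : ∀ {T : Over (Spec (CommRingCat.of k))} (c : T ⟶ B₀) (x : T ⟶ X),
        lift c x ≫ (((b₀ ≫ i) ▷ X) ≫ a.act) = lift (c ≫ b₀ ≫ i) x ≫ a.act := fun c x => by
      rw [← Category.assoc, lift_whiskerRight]
    let a₀ : AlgGrp.Action B₀ X :=
      { act := ((b₀ ≫ i) ▷ X) ≫ a.act
        one_act := by
          rw [← comp_whiskerRight_assoc, IsMonHom.one_hom, a.one_act]
        mul_act := by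
          rw [← comp_whiskerRight_assoc, IsMonHom.mul_hom, comp_whiskerRight_assoc, a.mul_act]
          have key : ((b₀ ≫ i) ⊗ₘ (b₀ ≫ i)) ▷ X ≫ (α_ G G X).hom ≫ (G ◁ a.act) =
              (α_ B₀ B₀ X).hom ≫ (B₀ ◁ (((b₀ ≫ i) ▷ X) ≫ a.act)) ≫ ((b₀ ≫ i) ▷ X) := by
            apply CartesianMonoidalCategory.hom_ext
            · simp
            · have e : ((b₀ ≫ i) ⊗ₘ (b₀ ≫ i)) ▷ X ≫ (α_ G G X).hom ≫ snd G (G ⊗ X) =
                  (α_ B₀ B₀ X).hom ≫ snd B₀ (B₀ ⊗ X) ≫ ((b₀ ≫ i) ▷ X) := by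
                apply CartesianMonoidalCategory.hom_ext <;> simp
              simp only [Category.assoc, whiskerLeft_snd, whiskerRight_snd, whiskerLeft_snd_assoc]
              simpa only [Category.assoc] using congrArg (· ≫ a.act) e
          simp only [← Category.assoc] at key ⊢
          rw [key] }
    obtain ⟨x, hx⟩ := S3276.result k B₀ X a₀
    haveI : LocallyOfFiniteType G.hom := inferInstance
    haveI := hX.2.2.1
    obtain ⟨g, hg⟩ := AVAmpleLib.exists_pt_lift (a.orbitMap o) x
    let cg : N ⟶ G := (toUnit N ≫ g)⁻¹ * i * (toUnit N ≫ g)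
    obtain ⟨φ, hφ⟩ := hN N (toUnit N ≫ g)⁻¹ (𝟙 N)
    obtain ⟨φ', hφ'⟩ := hN N (toUnit N ≫ g) (𝟙 N)
    rw [Category.id_comp, _root_.inv_inv] at hφ
    rw [Category.id_comp] at hφ'
    have hu : ∀ {T : Over (Spec (CommRingCat.of k))} (f : T ⟶ N), f ≫ toUnit N = toUnit T := fun f => toUnit_unique _ _
    have e1 : φ ≫ φ' = 𝟙 N := by
      rw [← cancel_mono i, Category.assoc, ← hφ', MonObj.comp_mul, MonObj.comp_mul, GrpObj.comp_inv,
        ← Category.assoc φ, hu, ← hφ, Category.id_comp]
      group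
    have e2 : φ' ≫ φ = 𝟙 N := by
      rw [← cancel_mono i, Category.assoc, ← hφ, MonObj.comp_mul, MonObj.comp_mul, GrpObj.comp_inv,
        ← Category.assoc φ', hu, ← hφ', Category.id_comp]
      group
    let e : N ≅ N := ⟨φ, φ', e1, e2⟩
    haveI : IsMonHom φ := by
      haveI : IsMonHom (φ ≫ i) := by
        rw [← hφ, show (toUnit N ≫ g)⁻¹ * i * (toUnit N ≫ g) = i ≫ AGF.conjBy g⁻¹ (𝟙 G) by
          simp only [AGF.conjBy, MonObj.comp_mul, GrpObj.comp_inv, _root_.inv_inv, ← Category.assoc, Category.comp_id]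
          rw [toUnit_unique (i ≫ toUnit G) (toUnit N)]]
        haveI := DiagRep.isMonHom_conjBy (G := G) g⁻¹
        infer_instance
      exact DiagRep.isMonHom_of_comp_mono φ i
    haveI : IsMonHom e.hom := ‹IsMonHom φ›
    have hB : Red.IsBorelOver k (b₀ ≫ φ) :=
      BorelLib.CentPre.isBorelOver_iso hB₀ e (Iso.refl B₀) (by rw [Iso.refl_hom, Category.id_comp])
    obtain ⟨f, hf⟩ := (RedSym.orbit_eq_iff hX (1 : B₀ ⟶ G) (b₀ ≫ φ ≫ i)).1 (by
      have h1 := hx B₀ (𝟙 B₀)
      rw [hact, Category.id_comp, ← hg, ← Category.assoc (toUnit B₀), RedSym.act_orbit] at h1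
      have h2 := congrArg (fun z => lift (toUnit B₀ ≫ g)⁻¹ z ≫ a.act) h1
      simp only [RedSym.act_orbit, inv_mul_cancel] at h2
      rw [← h2, ← hφ]
      congr 1
      simp only [MonObj.comp_mul, GrpObj.comp_inv, ← Category.assoc]
      rw [toUnit_unique (b₀ ≫ toUnit N) (toUnit B₀)]
      group)
    exact ⟨B₀, inferInstance, b₀ ≫ φ, f, hB, by rw [_root_.one_mul] at hf; rw [← hf, Category.assoc]⟩
  · rintro ⟨B, _, b, f, hB, hf⟩
    haveI := hB.1; haveI := hB.2.1; haveI := hB.2.2.1
    haveI : Mono b := DiagRep.mono_of_isClosedImmersion b inferInstance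
    haveI : LocallyOfFiniteType N.hom := inferInstance
    haveI : QuasiCompact B.hom := by rw [← Over.w b]; infer_instance
    obtain ⟨N₀, _, i₀, hi₀, hmax₀, A, _, α, hαm, hαf, hαs, hker₀, hAp⟩ := ChevThmLib.exists_chevalley_any G
    haveI := hαm; haveI := hαf; haveI := hαs; haveI := hAp
    haveI := hi₀.hom; haveI := hi₀.closed; haveI := hi₀.smooth; haveI := hi₀.conn; haveI := hi₀.affine
    haveI : Mono i₀ := DiagRep.mono_of_isClosedImmersion i₀ inferInstance
    obtain ⟨u, hu⟩ := hNmax N₀ i₀ hi₀.normal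
    obtain ⟨u', hu'⟩ := hmax₀ N i ⟨inferInstance, inferInstance, inferInstance, inferInstance, inferInstance, hN⟩
    let e : N₀ ≅ N := ⟨u, u', by rw [← cancel_mono i₀, Category.assoc, hu', hu, Category.id_comp],
      by rw [← cancel_mono i, Category.assoc, hu, hu', Category.id_comp]⟩
    have hker : AlgGrp.IsKernel i α := IsPullback.of_iso hker₀ e (Iso.refl _) (Iso.refl _) (Iso.refl _)
      (by simp [e, hu]) (by simp [toUnit_unique (e.hom ≫ toUnit N) (toUnit N₀)]) (by simp) (by simp)
    haveI := AntiAffLib.lfp_of_lft α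
    haveI : Smooth A.hom := by
      haveI : Smooth (α.left ≫ A.hom) := by rw [Over.w α]; infer_instance
      exact FlatLib.smooth_of_fppf_comp α.left A.hom
    obtain ⟨Z, aZ, oZ, hZl, hZq, hZf, hZs, hZp⟩ := S3279.result k N B b
    haveI := hZl; haveI := hZf; haveI := hZs
    have hZX : AGF.IsQuotient b Z aZ oZ := ⟨hZl, hZf, hZs, hZp⟩
    haveI : IsProper Z.hom := S3899.result k N B b hB Z aZ oZ hZX
    haveI : LocallyOfFinitePresentation (aZ.orbitMap oZ).left := BorelLib.lfp_orbit aZ oZ hZX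
    obtain ⟨ψ, hψ⟩ := MonoQuot.exists_desc_over (aZ.orbitMap oZ) (i ≫ a.orbitMap o) fun T x y hxy => by
      obtain ⟨β, rfl⟩ := (RedSym.orbit_eq_iff hZX x y).1 hxy
      rw [← Category.assoc, ← Category.assoc, RedSym.orbit_eq_iff hX]
      exact ⟨β ≫ f, by rw [MonObj.mul_comp, Category.assoc, Category.assoc, hf]⟩
    obtain ⟨hXl, hXf, hXs, hXp⟩ := id hX
    haveI := hXl; haveI := hXf; haveI := hXs
    haveI : LocallyOfFinitePresentation (a.orbitMap o).left := AntiAffLib.lfp_of_lft _
    haveI : IsSeparated X.hom := BorelLib.isSeparated_of_isQuotient hXp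
    haveI : UniversallyClosed X.hom :=
      universallyClosed_of_fibred α i hker (fun y => S11401.result k G N i hN hNmax A α hker y) a o (aZ.orbitMap oZ) ψ hψ
    exact { }

end Groth.Agent.S11414
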