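import Groth.Statements.S11415
import Groth.Agent.TorusGenFreeLib.Basic

set_option autoImplicit false
set_option backward.isDefEq.respectTransparency false
universe u
open CategoryTheory MonoidalCategory CartesianMonoidalCategory MonObj GrpObj AlgebraicGeometry CategoryTheory.Limits
open AlgGrp

namespace Groth.Agent.S11415

/-- Over an algebraically closed field k, let T be a torus (a k-group scheme isomorphic to the
diagonalizable group of ℤ^r for some r) acting on a variety X (an integral, separated k-scheme of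
finite type), faithfully in the scheme-theoretic sense: every point of T with values in a k-scheme S
which acts as the identity on X × S is the identity. Then there is a dense open subset U of X such
that for every rational point x of X in U the isotropy subgroup scheme of x is trivial: every
S-valued point of T fixing x is the identity. -/
theorem result (k : Type u) [Field k] [IsAlgClosed k]
    (T X : Over (Spec (CommRingCat.of k))) [GrpObj T] (r : ℕ) (hT : Red.IsSplitTorusWith (Fin r → ℤ) T)
    [LocallyOfFiniteType X.hom] [QuasiCompact X.hom] [IsSeparated X.hom] [IsIntegral X.left]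
    (a : AlgGrp.Action T X)
    (hfaith : ∀ (S : Over (Spec (CommRingCat.of k))) (g : S ⟶ T),
      (∀ (S' : Over (Spec (CommRingCat.of k))) (s : S' ⟶ S) (x : S' ⟶ X), lift (s ≫ g) x ≫ a.act = x) → g = 1) :
    ∃ U : X.left.Opens, Dense (U : Set ↥X.left) ∧
      ∀ x : 𝟙_ (Over (Spec (CommRingCat.of k))) ⟶ X, x.left (IsLocalRing.closedPoint k) ∈ U →
        ∀ (S : Over (Spec (CommRingCat.of k))) (g : S ⟶ T), lift g (toUnit S ≫ x) ≫ a.act = toUnit S ≫ x → g = 1 := by
  obtain ⟨e⟩ := hT
  let E : T ≅ Red.DS (Spec (CommRingCat.of k)) (Fin r → ℤ) := (Grp.forget _).mapIso e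
  haveI : IsMonHom E.inv := inferInstanceAs (IsMonHom e.inv.hom.hom)
  haveI : AddGroup.FG (Fin r → ℤ) := Module.Finite.iff_addGroup_fg.1 inferInstance
  obtain ⟨_, ⟨V, hV, rfl⟩, hηV, -⟩ := X.left.isBasis_affineOpens.exists_subset_of_mem_open
    (Set.mem_univ (genericPoint X.left)) isOpen_univ
  haveI : Nonempty V := ⟨⟨_, hηV⟩⟩
  let R := Γ(X.left, V)
  let F := (⊥ : Ideal R).ResidueField
  haveI := functionField_isFractionRing_of_isAffineOpen X.left V hV
  let σ : X.left.functionField ≃ₐ[R] F := IsLocalization.algEquiv (nonZeroDivisors R) _ _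
  obtain ⟨I, hI⟩ := TorusGenFree.exists_ideal E.inv a hV.fromSpec
  have hgen : MonoLocus.Trv I (algebraMap R F) := by
    refine TorusGenFree.trv_generic E.inv a hfaith hV.fromSpec hI _ fun V' hne => ?_
    haveI := hne
    refine ⟨σ.toAlgHom.toRingHom.comp (X.left.germToFunctionField V').hom,
      σ.injective.comp (X.left.germToFunctionField_injective V'), ?_⟩
    have hη' : genericPoint X.left ∈ (V' : X.left.Opens) :=
      ((genericPoint_spec X.left).mem_open_set_iff (V' : X.left.Opens).isOpen).mpr (by simpa using hne)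
    have hc : σ.toAlgHom.toRingHom.comp (X.left.germToFunctionField V).hom = algebraMap R F :=
      σ.toAlgHom.comp_algebraMap
    rw [← hc, CommRingCat.ofHom_comp, CommRingCat.ofHom_comp, Spec.map_comp, Spec.map_comp, Category.assoc,
      Category.assoc]
    exact congrArg (Spec.map (CommRingCat.ofHom σ.toAlgHom.toRingHom) ≫ ·)
      (IsAffineOpen.fromSpecStalk_eq V'.2 hV (genericPoint X.left) hη' hηV)
  obtain ⟨d, hd, hspread⟩ := MonoLocus.exists_basicOpen I (TorusGenFree.mulClosed E.inv a hI) ⊥ hgen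
  have hd0 : d ≠ 0 := fun h => hd (Ideal.mem_bot.2 h)
  refine ⟨X.left.basicOpen d, (X.left.basicOpen d).isOpen.dense ?_, fun x hx S g hg => ?_⟩
  · refine Set.nonempty_iff_ne_empty.2 fun h => hd0 ?_
    exact (AlgebraicGeometry.basicOpen_eq_bot_iff d).1 (TopologicalSpace.Opens.ext h)
  have hrange : Set.range x.left ⊆ Set.range hV.fromSpec := by
    rintro _ ⟨z, rfl⟩
    rw [hV.range_fromSpec, show z = IsLocalRing.closedPoint k from Subsingleton.elim (α := PrimeSpectrum k) z _]
    exact X.left.basicOpen_le d hx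
  obtain ⟨ψx, hψx⟩ := Spec.map_surjective (IsOpenImmersion.lift hV.fromSpec x.left hrange)
  have hfac : Spec.map ψx ≫ hV.fromSpec = x.left := by rw [hψx, IsOpenImmersion.lift_fac]
  have hψd : ψx.hom d ≠ 0 := by
    intro h0
    rw [← hfac] at hx
    have hx' : Spec.map ψx (IsLocalRing.closedPoint k) ∈ hV.fromSpec ⁻¹ᵁ X.left.basicOpen d := hx
    rw [hV.fromSpec_preimage_basicOpen] at hx'
    exact hx' (show ψx.hom d ∈ (IsLocalRing.closedPoint k).asIdeal from h0 ▸ Submodule.zero_mem _)
  have htrv := hspread k ψx.hom hψd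
  refine Over.OverMorphism.ext (Scheme.hom_ext_of_forall _ _ fun z => ?_)
  obtain ⟨_, ⟨W, hW, rfl⟩, hzW, -⟩ :=
    S.left.isBasis_affineOpens.exists_subset_of_mem_open (Set.mem_univ z) isOpen_univ
  refine ⟨W, hzW, ?_⟩
  obtain ⟨σs, hσs⟩ := Spec.map_surjective (hW.fromSpec ≫ S.hom)
  let p : Spec Γ(S.left, W) ⟶ X.left := Spec.map σs ≫ x.left
  let m : Over.mk (p ≫ X.hom) ⟶ S := Over.homMk hW.fromSpec (by
    show hW.fromSpec ≫ S.hom = (Spec.map σs ≫ x.left) ≫ X.hom
    rw [Category.assoc, Over.w x, hσs]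
    rfl)
  obtain ⟨χ, hχ⟩ := TorusGenFree.exists_gpt E.inv (m ≫ g)
  have hmx : m ≫ toUnit S ≫ x = Over.homMk p rfl := by
    refine Over.OverMorphism.ext ?_
    show hW.fromSpec ≫ S.hom ≫ x.left = Spec.map σs ≫ x.left
    rw [← Category.assoc, hσs]
  have hfix : TorusGenFree.Fix E.inv a p χ := by
    rw [TorusGenFree.Fix, ← hχ, ← hmx, ← comp_lift_assoc, hg]
  have hp : p = Spec.map (CommRingCat.ofHom (σs.hom.comp ψx.hom)) ≫ hV.fromSpec := by
    show Spec.map σs ≫ x.left = Spec.map (ψx ≫ σs) ≫ hV.fromSpec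
    rw [← hfac, Spec.map_comp, Category.assoc]
  have hχ1 : χ = 1 := htrv _ σs.hom χ ((hI _ _ χ).1 (hp ▸ hfix))
  have h5 : m ≫ g = m ≫ 1 := by rw [hχ, hχ1, TorusGenFree.gpt_one, MonObj.comp_one]
  have h6 := congrArg CommaMorphism.left h5
  rw [← cancel_epi hW.isoSpec.inv, ← Category.assoc, ← Category.assoc, IsAffineOpen.isoSpec_inv_ι]
  exact h6

end Groth.Agent.S11415
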