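import Groth.Statements.S11416
import Groth.Agent.GModLib.Anti
import Groth.Agent.AntiAffLib.Smooth
import Groth.Agent.AlbLib.AVBasic
import Groth.Agent.AlbLib.AlgClosed
-- import your own Groth.Agent.* helpers here

set_option autoImplicit false
set_option backward.isDefEq.respectTransparency false
set_option linter.style.haveILetI false
universe u
open CategoryTheory MonoidalCategory CartesianMonoidalCategory MonObj GrpObj AlgebraicGeometry CategoryTheory.Limits
open AlgGrp

namespace Groth.Agent.S11416

/-- Over an algebraically closed field k, let G be an algebraic group (a smooth k-group scheme of finite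
type) and M a rational G-module, not necessarily finite-dimensional: a k-vector space with a
G-module structure (points of G with values in a k-algebra B act B-linearly on B ⊗ M, naturally in
B) such that every vector lies in a finite-dimensional subspace N with B ⊗ N stable under all
B-points of G. If the representation is faithful, in the sense that every rational point of G acting
as the identity on M is the identity element, then G is affine. -/
theorem result (k : Type u) [Field k] [IsAlgClosed k]
    (G : Over (Spec (CommRingCat.of k))) [GrpObj G] [Smooth G.hom] [QuasiCompact G.hom]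
    (M : Type u) [AddCommGroup M] [Module k M] (m : VecGrp.GMod G M)
    (hlf : ∀ v : M, ∃ N : Submodule k M, v ∈ N ∧ Module.Finite k ↥N ∧
      ∀ (B : Type u) [CommRing B] [Algebra k B] (g : VecGrp.pt k B ⟶ G) (x : VecGrp.W k M B),
        x ∈ Submodule.baseChange B N → m.ρ B g x ∈ Submodule.baseChange B N)
    (hfaith : ∀ g : VecGrp.pt k k ⟶ G, m.ρ k g = 1 → g = 1) :
    IsAffine G.left := by
  haveI : QuasiSeparated G.hom := AntiAffLib.qs_grp G
  let N := AntiAffLib.ker G
  let i := AntiAffLib.kerIncl G
  haveI : ConnectedSpace N.left := AntiAffLib.connectedSpace_of_antiAff N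
  haveI : IsReduced N.left := AntiAffLib.isReduced_of_antiAff N
  haveI : Smooth N.hom := Groth.Agent.GrpSchLib.smooth_of_isAlgClosed_of_isReduced N
  haveI := AlbLib.geometricallyIntegral_grp N
  haveI : Subsingleton ↥(Spec (CommRingCat.of k)) := inferInstanceAs (Subsingleton (PrimeSpectrum k))
  haveI : IsIntegral N.left := GeometricallyIntegral.isIntegral_of_subsingleton N.hom
  haveI : IsSeparated G.hom := Groth.Agent.GrpField.isSeparated_grp (G := G)
  let mN : VecGrp.GMod N M :=
    { ρ := fun B _ _ => (m.ρ B).comp
        { toFun := fun g => g ≫ i, map_one' := MonObj.one_comp i, map_mul' := fun a b => MonObj.mul_comp a b i }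
      naturality := fun φ g x => by
        simp only [MonoidHom.coe_comp, Function.comp_apply, MonoidHom.coe_mk, OneHom.coe_mk, Category.assoc]
        exact m.naturality φ (g ≫ i) x }
  have hi : i = 1 := by
    refine AlbLib.ext_pts i 1 ⊤ ⟨Classical.arbitrary _, trivial⟩ fun s _ => ?_
    have h1 := hfaith ((toUnit (VecGrp.pt k k) ≫ s) ≫ i) (GModLib.ρ_eq_one mN k (toUnit _ ≫ s))
    rw [Category.assoc] at h1
    haveI : IsIso (toUnit (VecGrp.pt k k)) := by
      haveI : IsIso ((Over.forget _).map (toUnit (VecGrp.pt k k))) := by
        show IsIso (toUnit (VecGrp.pt k k)).left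
        rw [AntiAffLib.toUnit_left]
        show IsIso (Spec.map (CommRingCat.ofHom (algebraMap k k)))
        rw [Algebra.algebraMap_self, CommRingCat.ofHom_id, Spec.map_id]
        infer_instance
      exact isIso_of_reflects_iso _ (Over.forget _)
    rw [← cancel_epi (toUnit (VecGrp.pt k k)), h1, MonObj.comp_one, MonObj.comp_one]
  haveI : Mono (AntiAffLib.toHull G) := by
    refine ⟨fun {T} a b e => ?_⟩
    obtain ⟨l, hl⟩ := AntiAffLib.exists_lift G (a * b⁻¹)
      (by rw [MonObj.mul_comp, GrpObj.inv_comp, e, mul_inv_cancel])
    rw [show AntiAffLib.kerIncl G = 1 from hi, MonObj.comp_one] at hl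
    exact mul_inv_eq_one.1 hl.symm
  haveI : Mono (AntiAffLib.toHull G).left := inferInstanceAs (Mono ((Over.forget _).map (AntiAffLib.toHull G)))
  haveI : IsOpenImmersion (AntiAffLib.toHull G).left := IsOpenImmersion.of_flat_of_mono _
  haveI : IsIso (AntiAffLib.toHull G).left := (isIso_iff_isOpenImmersion_and_surjective _).2 ⟨inferInstance, inferInstance⟩
  exact IsAffine.of_isIso (AntiAffLib.toHull G).left
end Groth.Agent.S11416
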