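import Groth.Statements.S11418


set_option autoImplicit false
universe u
open CategoryTheory MonoidalCategory CartesianMonoidalCategory MonObj GrpObj AlgebraicGeometry CategoryTheory.Limits
open AlgGrp

namespace Groth.Agent.S11418

/-- Over an algebraically closed field k, let G be an affine algebraic group (smooth affine k-group
scheme of finite type) and π : X → Y a principal G-bundle of k-schemes of finite type: G acts on X,
π is G-invariant, faithfully flat, and the square formed by the action, the second projection G × X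
→ X and π is cartesian. Then the map θ sending a G-equivariant morphism f : X → G (for the
conjugation action on G, i.e. f(g·x) = g f(x) g⁻¹ on points) to the automorphism x ↦ f(x)·x is a
bijection onto the bundle automorphisms: every G-equivariant automorphism φ of X with π ∘ φ = π
equals θ(f) for exactly one such f. -/
theorem result (k : Type u) [Field k] [IsAlgClosed k]
    (G X Y : Over (Spec (CommRingCat.of k))) [GrpObj G] [Smooth G.hom] [QuasiCompact G.hom] [IsAffine G.left]
    [LocallyOfFiniteType X.hom] [QuasiCompact X.hom] [LocallyOfFiniteType Y.hom] [QuasiCompact Y.hom]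
    (a : AlgGrp.Action G X) (π : X ⟶ Y) (hinv : a.act ≫ π = snd G X ≫ π) [Flat π.left] [Surjective π.left]
    (hcart : IsPullback (snd G X) a.act π π)
    (φ : X ≅ X) (hφ : φ.hom ≫ π = π) (hφeq : (G ◁ φ.hom) ≫ a.act = a.act ≫ φ.hom) :
    ∃! f : X ⟶ G, (∀ (S : Over (Spec (CommRingCat.of k))) (g : S ⟶ G) (x : S ⟶ X),
        lift g x ≫ a.act ≫ f = g * (x ≫ f) * g⁻¹) ∧ φ.hom = lift f (𝟙 X) ≫ a.act := by
  have uniq : ∀ {S : Over (Spec (CommRingCat.of k))} (g g' : S ⟶ G) (x : S ⟶ X),
      lift g x ≫ a.act = lift g' x ≫ a.act → g = g' := fun g g' x h => by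
    have := hcart.hom_ext (show lift g x ≫ snd G X = lift g' x ≫ snd G X by rw [lift_snd, lift_snd]) h
    simpa using congrArg (· ≫ fst _ _) this
  have assoc' : ∀ {S : Over (Spec (CommRingCat.of k))} (g g' : S ⟶ G) (x : S ⟶ X),
      lift (g * g') x ≫ a.act = lift g (lift g' x ≫ a.act) ≫ a.act := fun g g' x => by
    have h := congrArg (lift (lift g g') x ≫ ·) a.mul_act
    simpa [Hom.mul_def] using h
  let l : X ⟶ G ⊗ X := hcart.lift (𝟙 X) φ.hom (by rw [Category.id_comp, hφ])
  have hl : l = lift (l ≫ fst G X) (𝟙 X) := CartesianMonoidalCategory.hom_ext _ _ (by simp)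
    (by rw [lift_snd]; exact hcart.lift_fst _ _ _)
  have hf : φ.hom = lift (l ≫ fst G X) (𝟙 X) ≫ a.act := by rw [← hl]; exact (hcart.lift_snd _ _ _).symm
  refine ⟨l ≫ fst G X, ⟨fun S g x => ?_, hf⟩, fun f' hf' => uniq _ _ (𝟙 X) (hf'.2.symm.trans hf)⟩
  generalize hF : l ≫ fst G X = f at hf
  apply uniq _ _ (lift g x ≫ a.act)
  have e1 : ∀ (z : S ⟶ X), z ≫ φ.hom = lift (z ≫ f) z ≫ a.act := fun z => by
    rw [hf, ← Category.assoc, comp_lift, Category.comp_id]
  rw [← Category.assoc (lift g x) a.act f, ← e1, Category.assoc, ← hφeq, ← Category.assoc, lift_whiskerLeft, e1, ← assoc', ← assoc',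
    inv_mul_cancel_right]

end Groth.Agent.S11418
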