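import Groth.Statements.S11419
import Groth.Agent.BorelLib.NonAffBorelConn
import Groth.Agent.SemiAbLib.Points
import Groth.Agent.ChevThmLib.Chevalley
import Groth.Agent.AntiAffLib.Basics2

set_option autoImplicit false
set_option linter.style.haveILetI false
set_option backward.isDefEq.respectTransparency false
universe u
open CategoryTheory MonoidalCategory CartesianMonoidalCategory MonObj GrpObj AlgebraicGeometry CategoryTheory.Limits
open AlgGrp

namespace Groth.Agent.S11419

attribute [-instance] CategoryTheory.Hom.commGroup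
open Groth.Agent.BorelLib

/-- Over an algebraically closed field k, let G be a connected algebraic group (smooth k-group scheme of
finite type), let i : N → G be its largest connected affine normal algebraic subgroup G_aff (a
homomorphism and closed immersion from a smooth, connected, affine k-group scheme, normal in G,
through which every other such subgroup factors), let j : M → G be its largest anti-affine subgroup
scheme G_ant (a homomorphism and closed immersion from a k-group scheme M whose only global
functions are the constants, through which every other such subgroup scheme factors), and let h : H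
→ G be a maximal connected solvable algebraic subgroup (maximal among smooth, connected, solvable
closed subgroup schemes). Then H contains G_ant; there is a Borel subgroup B of G_aff contained in H
with H = B · G_ant (the multiplication B × G_ant → H is surjective); and every other maximal
connected solvable algebraic subgroup of G is conjugate to H by a rational point of G. (The
published statement also identifies B with the scheme-theoretic intersection of G_aff and H, says H
is its own set-theoretic normalizer, and gives G/H ≅ G_aff/B; those clauses are not stated here.) -/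
theorem result (k : Type u) [Field k] [IsAlgClosed k]
    (G : Over (Spec (CommRingCat.of k))) [GrpObj G] [Smooth G.hom] [QuasiCompact G.hom] [ConnectedSpace ↥G.left]
    (N : Over (Spec (CommRingCat.of k))) [GrpObj N] (i : N ⟶ G) [IsMonHom i] [IsClosedImmersion i.left]
    [Smooth N.hom] [ConnectedSpace ↥N.left] [IsAffine N.left] (hN : AlgGrp.IsNormalHom i)
    (hNmax : ∀ (N' : Over (Spec (CommRingCat.of k))) [GrpObj N'] (i' : N' ⟶ G) [IsMonHom i'] [IsClosedImmersion i'.left]
      [Smooth N'.hom] [ConnectedSpace ↥N'.left] [IsAffine N'.left], AlgGrp.IsNormalHom i' → ∃ f : N' ⟶ N, f ≫ i = i')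
    (M : Over (Spec (CommRingCat.of k))) [GrpObj M] (j : M ⟶ G) [IsMonHom j] [IsClosedImmersion j.left]
    (hM : Function.Bijective ((Scheme.ΓSpecIso (CommRingCat.of k)).inv ≫ M.hom.appTop).hom)
    (hMmax : ∀ (M' : Over (Spec (CommRingCat.of k))) [GrpObj M'] (j' : M' ⟶ G) [IsMonHom j'] [IsClosedImmersion j'.left],
      Function.Bijective ((Scheme.ΓSpecIso (CommRingCat.of k)).inv ≫ M'.hom.appTop).hom → ∃ f : M' ⟶ M, f ≫ j = j')
    (H : Over (Spec (CommRingCat.of k))) [GrpObj H] (h : H ⟶ G) (hH : Red.IsBorelOver k h) :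
    (∃ f : M ⟶ H, f ≫ h = j) ∧
    (∃ (B : Over (Spec (CommRingCat.of k))) (_ : GrpObj B) (b : B ⟶ N) (f : B ⟶ H), Red.IsBorelOver k b ∧ f ≫ h = b ≫ i ∧
        ∀ f' : M ⟶ H, f' ≫ h = j → Surjective ((f ⊗ₘ f') ≫ μ[H]).left) ∧
    (∀ (H' : Over (Spec (CommRingCat.of k))) [GrpObj H'] (h' : H' ⟶ G), Red.IsBorelOver k h' →
        ∃ (g : 𝟙_ (Over (Spec (CommRingCat.of k))) ⟶ G) (e : H' ≅ H), e.hom ≫ h = AGF.conjBy g h') := by
  obtain ⟨Q, _, q, hqm, hqf, hqs, hker, hQp, hQsm, -⟩ :=
    ChevThmLib.exists_chevalley i ⟨inferInstance, inferInstance, inferInstance, inferInstance, inferInstance, hN⟩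
      (fun N' _ i' h => by
        haveI := h.hom; haveI := h.closed; haveI := h.smooth; haveI := h.conn; haveI := h.affine
        exact hNmax N' i' h.normal)
  haveI := hqm; haveI := hqf; haveI := hqs; haveI := hQp; haveI := hQsm
  haveI : GeometricallyIntegral Q.hom := by
    haveI : ConnectedSpace ↥Q.left := q.left.surjective.connectedSpace q.left.continuous
    exact AlbLib.geometricallyIntegral_grp Q
  haveI : Mono i := Over.mono_of_mono_left i
  haveI hs := AlbNormLib.surjective_gAff_antiAff i hN hNmax
  haveI : Smooth (AntiAffLib.ker G).hom := AntiAffLib.smooth_of_antiAff (AntiAffLib.ker G)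
  haveI : ConnectedSpace (AntiAffLib.ker G).left := AntiAffLib.connectedSpace_of_antiAff _
  haveI : IsSeparated G.hom := Groth.Agent.GrpField.isSeparated_grp (G := G)
  let S : NA.Split G :=
    { L := N, grpL := inferInstance, l := i, D := AntiAffLib.ker G, grpD := inferInstance, d := AntiAffLib.kerIncl G
      hl := inferInstance, hlc := inferInstance, haff := inferInstance, hLs := inferInstance, hLconn := inferInstance
      hfac := fun H _ _ _ _ f _ => AntiAffLib.exists_lift_kernel hker f (AlbLib.eq_one_of_affine (f ≫ q))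
      hd := inferInstance, hdc := inferInstance, hDs := inferInstance, hDqc := inferInstance, hDconn := inferInstance
      hcentral := fun X a g => by
        have e := congrArg (lift a g ≫ ·) (AntiAffLib.comm_of_hom (AntiAffLib.kerIncl G))
        simpa only [MonObj.comp_mul, lift_fst_assoc, lift_snd, Category.comp_id] using e
      hmul := fun g => by
        haveI : LocallyOfFiniteType (N ⊗ AntiAffLib.ker G).hom :=
          inferInstanceAs (LocallyOfFiniteType (pullback.fst N.hom (AntiAffLib.ker G).hom ≫ N.hom))
        obtain ⟨w, rfl⟩ := AVAmpleLib.exists_pt_lift ((i ⊗ₘ AntiAffLib.kerIncl G) ≫ μ[G]) g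
        refine ⟨w ≫ fst _ _, w ≫ snd _ _, ?_⟩
        rw [show (i ⊗ₘ AntiAffLib.kerIncl G) ≫ μ[G] = (fst N _ ≫ i) * (snd N _ ≫ AntiAffLib.kerIncl G) by
          rw [Hom.mul_def]; congr 1]
        simp only [MonObj.comp_mul, Category.assoc] }
  obtain ⟨hhm, hhc, hhs, hhconn, -, -⟩ := id hH
  haveI := hhm; haveI := hhc; haveI := hhs; haveI := hhconn
  haveI : QuasiCompact H.hom := by rw [← Over.w h]; infer_instance
  haveI : IsReduced H.left := AlgSpLib.isReduced_of_smooth H.hom
  obtain ⟨R, _, _, v, hv, hR, -⟩ := exists_setup N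
  haveI := hv; haveI := hR
  obtain ⟨hD, hbor⟩ := NA.facts_of_isBorelOver S v h hH
  haveI := (AntiAffLib.bijective_iff M).1 hM
  obtain ⟨lM, hlM⟩ := AntiAffLib.exists_lift_ker j (IsMonHom.one_hom j)
  obtain ⟨kM, hkM⟩ := hMmax (AntiAffLib.ker G) (AntiAffLib.kerIncl G) ((AntiAffLib.bijective_iff _).2 inferInstance)
  haveI : IsReduced (AntiAffLib.ker G).left := AlgSpLib.isReduced_of_smooth (AntiAffLib.ker G).hom
  obtain ⟨fD, hfD⟩ := NA.exists_factor_of_pts (AntiAffLib.kerIncl G) h hD
  refine ⟨⟨lM ≫ fD, by rw [Category.assoc, hfD, hlM]⟩, ?_, ?_⟩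
  · obtain ⟨B, _, iB, hiB, hB, hpts⟩ := BorelLib.exists_borel_of_isBor v hbor
    haveI := hiB; haveI := hB.2.1; haveI := hB.2.2.1
    haveI : IsReduced B.left := AlgSpLib.isReduced_of_smooth B.hom
    haveI : IsAffine B.left := isAffine_of_isAffineHom iB.left
    obtain ⟨f, hf⟩ := NA.exists_factor_of_pts (iB ≫ i) h fun b => by
      obtain ⟨x, hx⟩ := (ptEquiv v).surjective (b ≫ iB)
      have hxm : x ∈ ptsSub v iB := (mem_ptsSub v).2 ⟨b, hx.symm⟩
      rw [hpts] at hxm
      obtain ⟨c, hc⟩ := (NA.mem_lpart S v h).1 hxm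
      exact ⟨c, by rw [hc, hx, Category.assoc]⟩
    refine ⟨B, inferInstance, iB, f, hB, hf, fun f' hf' => ?_⟩
    haveI : LocallyOfFiniteType M.hom := by rw [← Over.w j]; infer_instance
    haveI : QuasiCompact M.hom := by rw [← Over.w j]; infer_instance
    haveI : IsSeparated H.hom := Groth.Agent.GrpField.isSeparated_grp (G := H)
    haveI : LocallyOfFiniteType (B ⊗ M).hom := inferInstanceAs (LocallyOfFiniteType (pullback.fst B.hom M.hom ≫ B.hom))
    haveI : QuasiCompact (B ⊗ M).hom := inferInstanceAs (QuasiCompact (pullback.fst B.hom M.hom ≫ B.hom))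
    haveI : Mono h := Over.mono_of_mono_left h
    refine SemiAbLib.surjective_of_pts _ fun z => ?_
    obtain ⟨a, ha, d, hd⟩ := (NA.pts_iff S v h hD (z ≫ h)).1 ⟨z, rfl⟩
    rw [← hpts] at ha
    obtain ⟨b, hb⟩ := (mem_ptsSub v).1 ha
    refine ⟨lift b (d ≫ kM), ?_⟩
    rw [lift_map_assoc, ← Hom.mul_def, ← cancel_mono h, MonObj.mul_comp]
    simp only [Category.assoc, hf, hf', hkM]
    rw [← hd, NA.toG_apply, ← hb, Category.assoc]
  · intro H' _ h' hH'
    obtain ⟨g, e, he⟩ := NA.borel_conj hH' hH
    exact ⟨g, e, he.symm⟩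

end Groth.Agent.S11419
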