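import Groth.Statements.S1142
import Groth.Agent.S1141
import Groth.Agent.S9476
import Groth.Agent.PurityGlueLib.Square

set_option autoImplicit false
set_option backward.isDefEq.respectTransparency false
set_option backward.isDefEq.respectTransparency.types false
set_option maxRecDepth 8000
set_option maxHeartbeats 1000000
universe u
attribute [local instance] HasDerivedCategory.standard
open Pi1

namespace Groth.Agent.S1142

open AlgebraicGeometry CategoryTheory CategoryTheory.Limits in
/-- Let A be a Noetherian local ring with a dualizing complex, f an element of the maximal ideal with A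
complete for the (f)-adic topology. Assume either that the ring A_f satisfies (S_2) while all
irreducible components of Spec A meeting the locus f ≠ 0 have dimension at least 4, or that
depth(A_p) + dim(A/p) > 3 for every prime p not containing f such that V(p) meets V(f) outside the
closed point; assume purity holds for the local rings of A_f at its maximal ideals, and that purity
holds for A. Then purity holds for the local ring A/fA (its being local is carried as an instance
hypothesis). -/
theorem result (A : Type u) [CommRing A] [IsNoetherianRing A] [IsLocalRing A] (f : A) (hf : f ∈ IsLocalRing.maximalIdeal A) (hd : ∃ ω : Dual.D A, Dual.IsDualizing A ω)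
    [IsAdicComplete (Ideal.span {f}) A]
    (hc : ((LocCoh.HasSk 2 (Localization.Away f) (Localization.Away f) ∧
        ∀ p : Ideal A, p ∈ minimalPrimes A → f ∉ p → (4 : WithBot ℕ∞) ≤ ringKrullDim (A ⧸ p)) ∨
      (∀ p : Ideal A, ∀ _ : p.IsPrime, f ∉ p → (p ⊔ Ideal.span {f}).radical ≠ IsLocalRing.maximalIdeal A →
        (3 : WithBot ℕ∞) < (LocCoh.depth (Localization.AtPrime p) (Localization.AtPrime p) : WithBot ℕ∞) + ringKrullDim (A ⧸ p))))
    (hp : ∀ P : Ideal (Localization.Away f), ∀ _ : P.IsMaximal, FEt.PurityHolds (Localization.AtPrime P)) (hA : FEt.PurityHolds A) [IsLocalRing (A ⧸ Ideal.span {f})] :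
    FEt.PurityHolds (A ⧸ Ideal.span {f}) := by
  haveI := Groth.Agent.S1141.result A f hf hd hc hp
  haveI : (FEt.restrict (FEt.puncturedSpec A).ι).EssSurj := hA
  let U := FEt.puncturedSpec A
  let g := Spec.map (CommRingCat.ofHom (Ideal.Quotient.mk (Ideal.span {f})))
  let P := FEt.puncturedSpec (A ⧸ Ideal.span {f})
  have hpre : g ⁻¹ᵁ U = P := by
    haveI : IsLocalHom (Ideal.Quotient.mk (Ideal.span {f})) :=
      IsLocalHom.of_surjective _ Ideal.Quotient.mk_surjective
    ext z
    refine not_congr ⟨fun hz => ?_, fun hz => ?_⟩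
    · refine (Groth.Agent.S9476.range_comap_injective hz).trans ?_
      rfl
    · subst hz
      exact PrimeSpectrum.ext (IsLocalRing.maximalIdeal_comap (Ideal.Quotient.mk (Ideal.span {f})))
  refine ⟨fun V => ?_⟩
  let ψ : (P : Scheme.{u}) ⟶ (U : Scheme.{u}) := g.resLE U P hpre.ge
  have hψ : IsPullback ψ P.ι U.ι g :=
    IsOpenImmersion.isPullback ψ P.ι U.ι g (Scheme.Hom.resLE_comp_ι _ _).symm (by simpa using hpre)
  let σ := hψ.isoPullback
  have hσ : σ.hom ≫ pullback.fst U.ι g = ψ := hψ.isoPullback_hom_fst
  let V₀ := (FEt.restrict σ.inv).obj V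
  let Y := (FEt.restrict (pullback.fst U.ι g)).objPreimage V₀
  have s1 := PurityGlueLib.isPullback_of_iso ((FEt.restrict (pullback.fst U.ι g)).objObjPreimageIso V₀)
  let Z := (FEt.restrict U.ι).objPreimage Y
  have s2 := PurityGlueLib.isPullback_of_iso ((FEt.restrict U.ι).objObjPreimageIso Y)
  haveI : IsIso (pullback.fst V.hom σ.inv) :=
    MorphismProperty.of_isPullback (P := MorphismProperty.isomorphisms Scheme)
      (IsPullback.of_hasPullback V.hom σ.inv).flip σ.isIso_inv
  have s0 : IsPullback (inv (pullback.fst V.hom σ.inv)) V.hom V₀.hom σ.hom := by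
    refine IsPullback.of_horiz_isIso ⟨?_⟩
    show inv (pullback.fst V.hom σ.inv) ≫ pullback.snd V.hom σ.inv = V.hom ≫ σ.hom
    rw [IsIso.inv_comp_eq, ← Category.assoc, pullback.condition, Category.assoc, σ.inv_hom_id, Category.comp_id]
  have s01 := (s0.paste_horiz s1)
  rw [hσ] at s01
  have big := s01.paste_horiz s2
  rw [hψ.w] at big
  let l : V.left ⟶ pullback Z.hom g := pullback.lift _ (V.hom ≫ P.ι) (big.w.trans (Category.assoc _ _ _).symm)
  have hs : IsPullback l V.hom (pullback.snd Z.hom g) P.ι :=
    IsPullback.of_right (by rw [pullback.lift_fst]; exact big) (pullback.lift_snd _ _ _)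
      (IsPullback.of_hasPullback Z.hom g)
  exact ⟨(FEt.restrict g).obj Z, ⟨(MorphismProperty.Over.isoMk hs.isoPullback hs.isoPullback_hom_snd).symm⟩⟩

end Groth.Agent.S1142
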