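import Groth.Statements.S11420
import Groth.Agent.AntiAffLib.RigidGrp
import Groth.Agent.AntiAffLib.KerSub
import Groth.Agent.AlbLib.AlgClosed
import Groth.Agent.WeilResLib.GeomConn
import Groth.Agent.UnirLib.Solvable

set_option autoImplicit false
set_option linter.style.haveILetI false
set_option backward.isDefEq.respectTransparency false
universe u
open CategoryTheory MonoidalCategory CartesianMonoidalCategory MonObj GrpObj AlgebraicGeometry CategoryTheory.Limits
open AlgGrp

namespace Groth.Agent.S11420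

attribute [-instance] CategoryTheory.Hom.commGroup

variable {k : Type u} [Field k] [IsAlgClosed k]

/-- An action on a product factors through the first projection. -/
theorem exists_action_fst {G X Y : Over (Spec (CommRingCat.of k))} [GrpObj G] [LocallyOfFiniteType G.hom]
    [QuasiCompact G.hom] [ConnectedSpace ↥G.left] [IsProper X.hom] [IsIntegral X.left]
    [IsProper Y.hom] [IsIntegral Y.left] (act : G ⊗ (X ⊗ Y) ⟶ X ⊗ Y)
    (h1 : (η[G] ▷ (X ⊗ Y)) ≫ act = (λ_ (X ⊗ Y)).hom)
    (h2 : (μ[G] ▷ (X ⊗ Y)) ≫ act = (α_ G G (X ⊗ Y)).hom ≫ (G ◁ act) ≫ act)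
    (f : X ⊗ Y ⟶ X) (g : X ⊗ Y ⟶ Y) (hfg : ∀ (T : Over (Spec (CommRingCat.of k))) (x : T ⟶ X) (y : T ⟶ Y),
      lift x y ≫ f = x ∧ lift x y ≫ g = y) :
    ∃ b : AlgGrp.Action G X, act ≫ f = (G ◁ f) ≫ b.act ∧
      ∀ b' : G ⊗ X ⟶ X, act ≫ f = (G ◁ f) ≫ b' → b' = b.act := by
  obtain ⟨x₀, -⟩ := Unir.exists_pt_mem (X := X) (isClosed_univ (X := X.left)).isLocallyClosed Set.univ_nonempty
  obtain ⟨y₀, -⟩ := Unir.exists_pt_mem (X := Y) (isClosed_univ (X := Y.left)).isLocallyClosed Set.univ_nonempty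
  haveI : AntiAffLib.IsΓIso (toUnit Y) := AntiAffLib.antiAff_of_universallyClosed Y y₀
  haveI : GeometricallyIntegral X.hom := AlbLib.geometricallyIntegral_of_isIntegral X
  haveI : GeometricallyConnected X.hom := Groth.Agent.WeilRes.geometricallyConnected_of_geometricallyIrreducible X.hom
  haveI : UniversallyOpen X.hom := Groth.Agent.GrpField.universallyOpen_field _
  haveI : PreconnectedSpace (G ⊗ X).left := by
    have : ConnectedSpace ↥(pullback G.hom X.hom) := inferInstance
    exact this.toPreconnectedSpace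
  haveI : LocallyOfFiniteType (G ⊗ X).hom :=
    inferInstanceAs (LocallyOfFiniteType (pullback.fst G.hom X.hom ≫ G.hom))
  haveI : IsLocallyNoetherian (G ⊗ X).left := LocallyOfFiniteType.isLocallyNoetherian (G ⊗ X).hom
  let F : Y ⊗ (G ⊗ X) ⟶ X := lift (snd _ _ ≫ fst G X) (lift (snd _ _ ≫ snd G X) (fst _ _)) ≫ act ≫ f
  have hone : ∀ (T : Over (Spec (CommRingCat.of k))) (z : T ⟶ X ⊗ Y), lift (toUnit T ≫ η[G]) z ≫ act = z := by
    intro T z
    have := congrArg (lift (toUnit T) z ≫ ·) h1
    simpa only [lift_whiskerRight_assoc, leftUnitor_hom, lift_snd] using this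
  have hF : (Y ◁ lift η[G] x₀) ≫ F = toUnit _ ≫ x₀ := by
    simp only [F, comp_lift_assoc, comp_lift, whiskerLeft_snd_assoc, lift_fst, lift_snd, whiskerLeft_fst]
    rw [toUnit_unique (snd Y (𝟙_ _)) (toUnit _), ← Category.assoc, hone, (hfg _ _ _).1]
  let b : G ⊗ X ⟶ X := lift (toUnit (G ⊗ X) ≫ y₀) (𝟙 _) ≫ F
  have hb : F = snd Y (G ⊗ X) ≫ b := AntiAffLib.rigidity_rat y₀ (lift η[G] x₀) x₀ F hF
  have he : ∀ z : G ⊗ (X ⊗ Y) ⟶ X ⊗ Y, z ≫ f = z ≫ f := fun _ => rfl
  have hdecomp : ∀ (T : Over (Spec (CommRingCat.of k))) (z : T ⟶ X ⊗ Y), lift (z ≫ f) (z ≫ g) = z := by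
    intro T z
    obtain ⟨e1, e2⟩ := hfg T (z ≫ fst X Y) (z ≫ snd X Y)
    rw [← comp_lift, lift_fst_snd, Category.comp_id] at e1 e2
    rw [e1, e2, ← comp_lift, lift_fst_snd, Category.comp_id]
  have key : act ≫ f = (G ◁ f) ≫ b := by
    have e := congrArg (lift (snd G (X ⊗ Y) ≫ g) (G ◁ f) ≫ ·) hb
    simp only [F, comp_lift_assoc, comp_lift, lift_snd_assoc, lift_fst, whiskerLeft_fst, whiskerLeft_snd] at e
    rw [hdecomp, lift_fst_snd, Category.id_comp] at e
    exact e
  let j : X ⟶ X ⊗ Y := lift (𝟙 X) (toUnit X ≫ y₀)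
  have hj : j ≫ f = 𝟙 X := (hfg _ _ _).1
  have huniq : ∀ b' : G ⊗ X ⟶ X, act ≫ f = (G ◁ f) ≫ b' → b' = b := fun b' h => by
    have e := congrArg ((G ◁ j) ≫ ·) (h.symm.trans key)
    simpa only [← Category.assoc, ← whiskerLeft_comp, hj, whiskerLeft_id, Category.id_comp] using e
  refine ⟨⟨b, ?_, ?_⟩, key, huniq⟩
  · have e := congrArg ((_ ◁ j) ≫ · ≫ f) h1
    simp only [Category.assoc, key] at e
    rw [← whisker_exchange_assoc, ← MonoidalCategory.whiskerLeft_comp_assoc, hj, whiskerLeft_id,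
      Category.id_comp] at e
    rw [e, leftUnitor_naturality_assoc, hj, Category.comp_id]
  · have e := congrArg ((_ ◁ j) ≫ · ≫ f) h2
    simp only [Category.assoc, key] at e
    rw [← whisker_exchange_assoc, ← MonoidalCategory.whiskerLeft_comp_assoc, hj, whiskerLeft_id,
      Category.id_comp, ← MonoidalCategory.whiskerLeft_comp_assoc G act f, key, whiskerLeft_comp, Category.assoc,
      ← associator_naturality_right_assoc, ← MonoidalCategory.whiskerLeft_comp_assoc (G ⊗ G), hj, whiskerLeft_id,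
      Category.id_comp] at e
    exact e

/-- Over an algebraically closed field k, let X and Y be complete varieties (proper, integral, separated
k-schemes of finite type) and let a connected k-group scheme of finite type G act on X × Y. Then
there are unique actions of G on X and on Y such that the given action is the product action g·(x,
y) = (g·x, g·y). (This is the form, for actions of connected group schemes, of the identification of
the neutral component of the automorphism group scheme of X × Y with the product of those of X and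
Y; the representability of these group schemes is not asserted here.) -/
theorem result (k : Type u) [Field k] [IsAlgClosed k]
    (G X Y : Over (Spec (CommRingCat.of k))) [GrpObj G] [LocallyOfFiniteType G.hom] [QuasiCompact G.hom] [ConnectedSpace ↥G.left]
    [IsProper X.hom] [IsIntegral X.left]
    [IsProper Y.hom] [IsIntegral Y.left]
    (a : AlgGrp.Action G (X ⊗ Y)) :
    ∃ (b : AlgGrp.Action G X) (c : AlgGrp.Action G Y),
      a.act = lift ((G ◁ fst X Y) ≫ b.act) ((G ◁ snd X Y) ≫ c.act) ∧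
      ∀ (b' : AlgGrp.Action G X) (c' : AlgGrp.Action G Y),
        a.act = lift ((G ◁ fst X Y) ≫ b'.act) ((G ◁ snd X Y) ≫ c'.act) → b' = b ∧ c' = c := by
  obtain ⟨b, hb, hb'⟩ := exists_action_fst a.act a.one_act a.mul_act (fst X Y) (snd X Y)
    fun T x y => ⟨lift_fst x y, lift_snd x y⟩
  let e : Y ⊗ X ⟶ X ⊗ Y := (β_ Y X).hom
  obtain ⟨c, hc, hc'⟩ := exists_action_fst (X := Y) (Y := X) ((G ◁ (β_ Y X).hom) ≫ a.act ≫ (β_ X Y).hom)
    (by rw [← whisker_exchange_assoc, ← Category.assoc _ a.act, a.one_act]; simp)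
    (by
      rw [← whisker_exchange_assoc, ← Category.assoc _ a.act, a.mul_act]
      simp only [Category.assoc, MonoidalCategory.whiskerLeft_comp]
      rw [← MonoidalCategory.whiskerLeft_comp_assoc G (β_ X Y).hom, SymmetricCategory.symmetry, whiskerLeft_id,
        Category.id_comp]
      simp)
    (fst Y X) (snd Y X) fun T x y => ⟨lift_fst x y, lift_snd x y⟩
  have hc2 : a.act ≫ snd X Y = (G ◁ snd X Y) ≫ c.act := by
    have := congrArg ((G ◁ (β_ X Y).hom) ≫ ·) hc
    simpa [← whiskerLeft_comp_assoc] using this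
  refine ⟨b, c, CartesianMonoidalCategory.hom_ext _ _ (by rw [lift_fst, hb]) (by rw [lift_snd, hc2]), fun b' c' h => ?_⟩
  have e1 : a.act ≫ fst X Y = (G ◁ fst X Y) ≫ b'.act := by rw [h, lift_fst]
  have e2 : a.act ≫ snd X Y = (G ◁ snd X Y) ≫ c'.act := by rw [h, lift_snd]
  have r1 := hb' b'.act e1
  have r2 : c'.act = c.act := hc' c'.act (by
    rw [Category.assoc, Category.assoc, CartesianMonoidalCategory.braiding_hom_fst, e2, ← whiskerLeft_comp_assoc,
      CartesianMonoidalCategory.braiding_hom_snd])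
  obtain ⟨bb, _, _⟩ := b; obtain ⟨cc, _, _⟩ := c; obtain ⟨bb', _, _⟩ := b'; obtain ⟨cc', _, _⟩ := c'
  simp only at r1 r2
  subst r1 r2
  exact ⟨rfl, rfl⟩

end Groth.Agent.S11420
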