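import Groth.Statements.S11421
import Groth.Agent.AntiAffLib.RigidGrp
import Groth.Agent.OrbitLib.Main
-- import your own Groth.Agent.* helpers here

set_option autoImplicit false
universe u
open CategoryTheory MonoidalCategory CartesianMonoidalCategory MonObj GrpObj AlgebraicGeometry CategoryTheory.Limits
open AlgGrp

namespace Groth.Agent.S11421

/-- Over an algebraically closed field k, let G be an algebraic group (smooth k-group scheme of finite
type) whose only global functions are the constants, H a connected algebraic group, S a connected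
k-scheme of finite type and f : G × S → H a morphism of k-schemes. Then there are a unique
k-morphism φ : S → H and a unique homomorphism ψ : G → H with f(g, s) = φ(s) · ψ(g) on points. (This
is the decomposition, over a connected base, behind the identification of the functor of morphisms
from G to H with H × Hom_gp(G, H); the published statement is the equivalence of representability of
that functor with anti-affineness of G, whose converse direction is not stated here.) -/
theorem result (k : Type u) [Field k] [IsAlgClosed k]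
    (G H S : Over (Spec (CommRingCat.of k))) [GrpObj G] [Smooth G.hom] [QuasiCompact G.hom]
    (hG : Function.Bijective ((Scheme.ΓSpecIso (CommRingCat.of k)).inv ≫ G.hom.appTop).hom)
    [GrpObj H] [Smooth H.hom] [QuasiCompact H.hom] [ConnectedSpace ↥H.left]
    [LocallyOfFiniteType S.hom] [QuasiCompact S.hom] [ConnectedSpace ↥S.left]
    (f : G ⊗ S ⟶ H) :
    ∃ (φ : S ⟶ H) (ψ : G ⟶ H), IsMonHom ψ ∧ f = (snd G S ≫ φ) * (fst G S ≫ ψ) ∧
      ∀ (φ' : S ⟶ H) (ψ' : G ⟶ H), IsMonHom ψ' → f = (snd G S ≫ φ') * (fst G S ≫ ψ') → φ' = φ ∧ ψ' = ψ := by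
  haveI := (AntiAffLib.bijective_iff G).1 hG
  haveI := AntiAffLib.isLocallyNoetherian_grp S
  obtain ⟨s₀, -⟩ := OrbitLib.exists_rational_point (X := S) isClosed_univ Set.univ_nonempty
  let φ : S ⟶ H := lift (toUnit S ≫ η[G]) (𝟙 S) ≫ f
  let ψ : G ⟶ H := lift (𝟙 G) (toUnit G ≫ s₀) ≫ ((snd G S ≫ φ)⁻¹ * f)
  have hψ : η[G] ≫ ψ = η[H] := by
    have h1 : η[G] ≫ lift (𝟙 G) (toUnit G ≫ s₀) = lift η[G] s₀ := by
      rw [comp_lift, Category.comp_id, ← Category.assoc, toUnit_unique (η[G] ≫ toUnit G) (𝟙 _), Category.id_comp]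
    have h2 : lift η[G] s₀ ≫ snd G S ≫ φ = lift η[G] s₀ ≫ f := by
      rw [lift_snd_assoc, ← Category.assoc, comp_lift, Category.comp_id, ← Category.assoc,
        toUnit_unique (s₀ ≫ toUnit S) (𝟙 _), Category.id_comp]
    simp only [ψ]
    rw [← Category.assoc, h1, MonObj.comp_mul, GrpObj.comp_inv, h2, inv_mul_cancel, Hom.one_def,
      toUnit_unique (toUnit _) (𝟙 _), Category.id_comp]
  have hm : IsMonHom ψ := AntiAffLib.isMonHom_of_pointed ψ hψ
  have ha : lift (toUnit S ≫ η[G]) (𝟙 S) ≫ fst G S ≫ ψ = 1 := by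
    rw [lift_fst_assoc, Category.assoc, hψ, Hom.one_def]
  let d : G ⊗ S ⟶ H := ((snd G S ≫ φ) * (fst G S ≫ ψ))⁻¹ * f
  have hd : d = 1 := by
    refine AntiAffLib.eq_one_of_axes s₀ d ?_ ?_
    · have e1 : (G ◁ s₀) = fst G (𝟙_ _) ≫ lift (𝟙 G) (toUnit G ≫ s₀) := by
        apply CartesianMonoidalCategory.hom_ext
        · simp
        · simp [toUnit_unique (snd G (𝟙_ _)) (fst G (𝟙_ _) ≫ toUnit G)]
      have e2 : lift (𝟙 G) (toUnit G ≫ s₀) ≫ fst G S ≫ ψ = ψ := by rw [lift_fst_assoc, Category.id_comp]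
      have e3 : lift (𝟙 G) (toUnit G ≫ s₀) ≫ d = 1 := by
        simp only [d]
        rw [MonObj.comp_mul, GrpObj.comp_inv, MonObj.comp_mul, e2, _root_.mul_inv_rev, _root_.mul_assoc,
          show (lift (𝟙 G) (toUnit G ≫ s₀) ≫ snd G S ≫ φ)⁻¹ * lift (𝟙 G) (toUnit G ≫ s₀) ≫ f = ψ by
            simp only [ψ]; rw [MonObj.comp_mul, GrpObj.comp_inv]]
        exact inv_mul_cancel ψ
      rw [e1, Category.assoc, e3, MonObj.comp_one]
    · simp only [d]
      rw [MonObj.comp_mul, GrpObj.comp_inv, MonObj.comp_mul, ha, _root_.mul_one, lift_snd_assoc, Category.id_comp]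
      exact inv_mul_cancel φ
  refine ⟨φ, ψ, hm, (inv_mul_eq_one.1 hd).symm, fun φ' ψ' hm' h' => ?_⟩
  have hφ : φ' = φ := by
    simp only [φ]
    rw [h', MonObj.comp_mul, lift_snd_assoc, Category.id_comp, lift_fst_assoc, Category.assoc, IsMonHom.one_hom,
      ← Hom.one_def, _root_.mul_one]
  refine ⟨hφ, ?_⟩
  simp only [ψ]
  rw [h', hφ, inv_mul_cancel_left, lift_fst_assoc, Category.id_comp]
end Groth.Agent.S11421
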