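import Groth.Statements.S11423
import Groth.Agent.AntiAffLib.RigidGrp
import Groth.Agent.AntiAffLib.Image
import Groth.Agent.MonoQuotLib.Cov
import Groth.Agent.MonoQuotLib.Kernel
import Groth.Agent.OrbitLib.Main

set_option autoImplicit false
universe u
open CategoryTheory MonoidalCategory CartesianMonoidalCategory MonObj GrpObj AlgebraicGeometry CategoryTheory.Limits
open AlgGrp

namespace Groth.Agent.S11423

/-- Over an algebraically closed field k, let G be a connected affine algebraic group (smooth, affine,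
connected k-group scheme of finite type), A an abelian variety (proper, smooth, connected k-group
scheme) and π : X → A a principal G-bundle of k-schemes of finite type (G acts on X, π is
G-invariant and faithfully flat, and the square formed by the action, the second projection and π is
cartesian). Suppose π is trivialized by an anti-affine extension of A: there are an algebraic group
𝒢 whose only global functions are the constants, a flat surjective homomorphism φ : 𝒢 → A with
affine kernel, and a morphism σ : 𝒢 → X with π ∘ σ = φ (a section of the pulled-back bundle). Then π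
is homogeneous: for every rational point a of A there is a G-equivariant automorphism of X over the
translation of A by a. (The published statement is the equivalence; only this direction is stated
here.) -/
theorem result (k : Type u) [Field k] [IsAlgClosed k]
    (G X A : Over (Spec (CommRingCat.of k))) [GrpObj G] [Smooth G.hom] [QuasiCompact G.hom] [IsAffine G.left] [ConnectedSpace ↥G.left]
    [LocallyOfFiniteType X.hom] [QuasiCompact X.hom]
    [GrpObj A] [IsProper A.hom] [Smooth A.hom] [ConnectedSpace ↥A.left]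
    (a : AlgGrp.Action G X) (π : X ⟶ A) (hinv : a.act ≫ π = snd G X ≫ π) [Flat π.left] [Surjective π.left]
    (hcart : IsPullback (snd G X) a.act π π)
    (E : Over (Spec (CommRingCat.of k))) [GrpObj E] [Smooth E.hom] [QuasiCompact E.hom]
    (hE : Function.Bijective ((Scheme.ΓSpecIso (CommRingCat.of k)).inv ≫ E.hom.appTop).hom)
    (φ : E ⟶ A) [IsMonHom φ] [Flat φ.left] [Surjective φ.left]
    (Hk : Over (Spec (CommRingCat.of k))) [GrpObj Hk] (h : Hk ⟶ E) [IsMonHom h] (hk : AlgGrp.IsKernel h φ) [IsAffine Hk.left]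
    (σ : E ⟶ X) (hσ : σ ≫ π = φ)
    (t : 𝟙_ (Over (Spec (CommRingCat.of k))) ⟶ A) :
    ∃ ψ : X ≅ X, (G ◁ ψ.hom) ≫ a.act = a.act ≫ ψ.hom ∧
      ψ.hom ≫ π = π ≫ (lift (𝟙 A) (toUnit A ≫ t) ≫ μ[A]) := by
  haveI := (AntiAffLib.bijective_iff E).1 hE
  haveI : LocallyOfFiniteType E.hom := inferInstance
  haveI : LocallyOfFiniteType A.hom := inferInstance
  haveI := AntiAffLib.qs_grp E
  haveI := AntiAffLib.isCommMonObj_of_antiAff E
  haveI := AntiAffLib.isΓIso_snd E Hk
  have hact : ∀ (T : Over (Spec (CommRingCat.of k))) (g g' : T ⟶ G) (x : T ⟶ X),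
      lift g (lift g' x ≫ a.act) ≫ a.act = lift (g * g') x ≫ a.act := by
    intro T g g' x
    have h1 := congrArg (lift (lift g g') x ≫ ·) a.mul_act
    simp only [lift_whiskerRight_assoc, lift_lift_associator_hom_assoc, lift_whiskerLeft_assoc] at h1
    rw [Hom.mul_def]
    exact h1.symm
  have hfree : ∀ (T : Over (Spec (CommRingCat.of k))) (g g' : T ⟶ G) (x : T ⟶ X),
      lift g x ≫ a.act = lift g' x ≫ a.act → g = g' := by
    intro T g g' x h1
    have h2 : lift g x = lift g' x := hcart.hom_ext (by rw [lift_snd, lift_snd]) h1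
    simpa using congrArg (· ≫ fst G X) h2
  have hh : h ≫ φ = 1 := by rw [hk.w, Hom.one_def]
  have hπact : ∀ (T : Over (Spec (CommRingCat.of k))) (g : T ⟶ G) (x : T ⟶ X), lift g x ≫ a.act ≫ π = x ≫ π := by
    intro T g x
    rw [hinv, lift_snd_assoc]
  let q : E ⊗ Hk ⟶ G ⊗ X := hcart.lift (fst E Hk ≫ σ) ((fst E Hk * (snd E Hk ≫ h)) ≫ σ) (by
    rw [Category.assoc, Category.assoc, hσ, MonObj.mul_comp, Category.assoc, hh, MonObj.comp_one, _root_.mul_one])
  let χ : Hk ⟶ G := AntiAffLib.desc (snd E Hk) (q ≫ fst G X)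
  have hχ : ∀ (T : Over (Spec (CommRingCat.of k))) (e : T ⟶ E) (d : T ⟶ Hk),
      lift (d ≫ χ) (e ≫ σ) ≫ a.act = (e * (d ≫ h)) ≫ σ := by
    intro T e d
    have h1 : lift e d ≫ q = lift (d ≫ χ) (e ≫ σ) := by
      apply CartesianMonoidalCategory.hom_ext
      · rw [lift_fst, Category.assoc, ← AntiAffLib.fac (snd E Hk) (q ≫ fst G X), lift_snd_assoc]
      · rw [lift_snd, Category.assoc, show q ≫ snd G X = _ from hcart.lift_fst _ _ _, lift_fst_assoc]
    rw [← h1, Category.assoc, show q ≫ a.act = _ from hcart.lift_snd _ _ _, ← Category.assoc, MonObj.comp_mul,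
      lift_fst, lift_snd_assoc]
  let Φ : G ⊗ E ⟶ X := (G ◁ σ) ≫ a.act
  have hΦ : ∀ (T : Over (Spec (CommRingCat.of k))) (g : T ⟶ G) (e : T ⟶ E),
      lift g e ≫ Φ = lift g (e ≫ σ) ≫ a.act := fun T g e => by rw [lift_whiskerLeft_assoc]
  have hΦπ : Φ ≫ π = snd G E ≫ φ := by
    rw [← Category.id_comp Φ, ← lift_fst_snd, hΦ, Category.assoc, hπact, Category.assoc, hσ]
  have ex : ∀ c : PullbackCone φ π, ∃ m : c.pt ⟶ G ⊗ E, m ≫ snd G E = c.fst ∧ m ≫ Φ = c.snd := by
    intro c
    have hc : (c.fst ≫ σ) ≫ π = c.snd ≫ π := by rw [Category.assoc, hσ]; exact c.condition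
    refine ⟨lift (hcart.lift (c.fst ≫ σ) c.snd hc ≫ fst G X) c.fst, lift_snd _ _, ?_⟩
    rw [hΦ, show lift (hcart.lift (c.fst ≫ σ) c.snd hc ≫ fst G X) (c.fst ≫ σ) =
      hcart.lift (c.fst ≫ σ) c.snd hc from by
        apply CartesianMonoidalCategory.hom_ext
        · rw [lift_fst]
        · rw [lift_snd]; exact (hcart.lift_fst _ _ _).symm]
    exact hcart.lift_snd _ _ _
  choose mc hmc₁ hmc₂ using ex
  have sq : IsPullback (snd G E) Φ φ π := by
    refine IsPullback.of_isLimit' ⟨hΦπ.symm⟩ (PullbackCone.IsLimit.mk _ mc hmc₁ hmc₂ (fun c m h1 h2 => ?_))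
    have e₁ : m = lift (m ≫ fst G E) c.fst := by
      apply CartesianMonoidalCategory.hom_ext <;> simp [h1]
    have e₂ : mc c = lift (mc c ≫ fst G E) c.fst := by
      apply CartesianMonoidalCategory.hom_ext <;> simp [hmc₁ c]
    have h3 := h2.trans (hmc₂ c).symm
    rw [e₁, e₂, hΦ, hΦ] at h3
    rw [e₁, e₂, hfree _ _ _ _ h3]
  haveI := AntiAffLib.lfp_of_lft φ
  have sq' := sq.map (Over.forget _)
  haveI : Flat Φ.left := MorphismProperty.of_isPullback sq' ‹Flat φ.left›
  haveI : Surjective Φ.left := MorphismProperty.of_isPullback sq' ‹Surjective φ.left›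
  haveI : LocallyOfFinitePresentation Φ.left := MorphismProperty.of_isPullback sq' ‹LocallyOfFinitePresentation φ.left›
  -- a rational point above `t`
  obtain ⟨e₀, he₀⟩ : ∃ e₀ : 𝟙_ (Over (Spec (CommRingCat.of k))) ⟶ E, e₀ ≫ φ = t := by
    have hsq := (IsPullback.of_hasPullback φ t).map (Over.forget _)
    haveI : LocallyOfFiniteType (pullback.snd φ t).left :=
      MorphismProperty.of_isPullback (P := @LocallyOfFiniteType) hsq (inferInstanceAs (LocallyOfFiniteType φ.left))
    haveI : Surjective (pullback.snd φ t).left :=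
      MorphismProperty.of_isPullback (P := @Surjective) hsq ‹Surjective φ.left›
    haveI : LocallyOfFiniteType (pullback φ t).hom := by
      rw [← Over.w (pullback.snd φ t)]
      exact inferInstanceAs (LocallyOfFiniteType ((pullback.snd φ t).left ≫ 𝟙 _))
    haveI : Nonempty ↥(𝟙_ (Over (Spec (CommRingCat.of k)))).left :=
      inferInstanceAs (Nonempty ↥(Spec (CommRingCat.of k)))
    obtain ⟨y₀⟩ : Nonempty ↥(pullback φ t).left :=
      ⟨((pullback.snd φ t).left.surjective (Classical.arbitrary _)).choose⟩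
    obtain ⟨y, -⟩ := OrbitLib.exists_rational_point (X := pullback φ t) isClosed_univ ⟨y₀, trivial⟩
    refine ⟨y ≫ pullback.fst φ t, ?_⟩
    rw [Category.assoc, pullback.condition, ← Category.assoc, toUnit_unique (y ≫ pullback.snd φ t) (𝟙 _),
      Category.id_comp]
  have key : ∀ s : 𝟙_ (Over (Spec (CommRingCat.of k))) ⟶ E, ∃ f : X ⟶ X,
      Φ ≫ f = lift (fst G E) ((toUnit _ ≫ s) * snd G E) ≫ Φ := by
    intro s
    refine Groth.Agent.MonoQuot.exists_desc_over Φ _ fun T u v huv => ?_
    have e1 : u = lift (u ≫ fst G E) (u ≫ snd G E) := by apply CartesianMonoidalCategory.hom_ext <;> simp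
    have e2 : v = lift (v ≫ fst G E) (v ≫ snd G E) := by apply CartesianMonoidalCategory.hom_ext <;> simp
    rw [e1, e2] at huv ⊢
    generalize u ≫ fst G E = g, u ≫ snd G E = e, v ≫ fst G E = g', v ≫ snd G E = e' at huv ⊢
    have h1 : e ≫ φ = e' ≫ φ := by
      have := congrArg (· ≫ π) huv
      simpa only [Category.assoc, hΦπ, lift_snd_assoc] using this
    obtain ⟨d, rfl⟩ := (Groth.Agent.MonoQuot.kernel_iff φ h hk _ _ _).1 h1
    rw [hΦ, hΦ, ← hχ, hact] at huv
    rw [hfree _ _ _ _ huv]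
    simp only [← Category.assoc, comp_lift, MonObj.comp_mul, lift_fst, lift_snd, toUnit_unique _ (toUnit T)]
    rw [← _root_.mul_assoc, hΦ, hΦ, ← hχ, hact]
  choose f hf using key
  haveI := Groth.Agent.MonoQuot.epi_over Φ
  have hf' : ∀ s (T : Over (Spec (CommRingCat.of k))) (g : T ⟶ G) (e : T ⟶ E),
      lift g e ≫ Φ ≫ f s = lift g ((toUnit T ≫ s) * e) ≫ Φ := by
    intro s T g e
    rw [hf, ← Category.assoc, comp_lift, lift_fst, MonObj.comp_mul, lift_snd,
      ← Category.assoc (lift g e) (toUnit _) s, toUnit_unique (lift g e ≫ toUnit _) (toUnit T)]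
  have hcomp : ∀ s s', s * s' = 1 → f s ≫ f s' = 𝟙 X := by
    intro s s' hs
    rw [← cancel_epi Φ, Category.comp_id, ← Category.assoc, hf, Category.assoc, hf']
    conv_rhs => rw [← Category.id_comp Φ, ← lift_fst_snd]
    rw [← _root_.mul_assoc, ← MonObj.comp_mul]
    have hs' : s' * s = 1 := by rw [mul_eq_one_comm, hs]
    rw [hs', MonObj.comp_one, _root_.one_mul]
  refine ⟨⟨f e₀, f e₀⁻¹, hcomp _ _ (mul_inv_cancel e₀), hcomp _ _ (inv_mul_cancel e₀)⟩, ?_, ?_⟩
  · haveI := ((Groth.Agent.MonoQuot.IsCov.of_fppf Φ.left).whiskerLeft G).epi_over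
    rw [← cancel_epi (G ◁ Φ), ← Category.id_comp (G ◁ Φ), ← lift_fst_snd]
    have e1 : snd G (G ⊗ E) = lift (snd G (G ⊗ E) ≫ fst G E) (snd G (G ⊗ E) ≫ snd G E) := by
      apply CartesianMonoidalCategory.hom_ext <;> simp
    rw [e1]
    generalize fst G (G ⊗ E) = g₀, snd G (G ⊗ E) ≫ fst G E = g, snd G (G ⊗ E) ≫ snd G E = e
    simp only [Category.assoc, lift_whiskerLeft_assoc]
    rw [hf', hΦ, hact, ← hΦ]
    conv_rhs => rw [hΦ, reassoc_of% hact, ← reassoc_of% hΦ, hf']
  · rw [← cancel_epi Φ, ← Category.assoc, hf, Category.assoc, hΦπ, lift_snd_assoc, ← Category.assoc Φ π,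
      hΦπ, MonObj.mul_comp, Category.assoc, he₀, Category.assoc, ← Category.assoc φ, comp_lift, Category.comp_id,
      ← Category.assoc (snd G E), comp_lift, ← Category.assoc φ (toUnit A), toUnit_unique (φ ≫ toUnit A) (toUnit E),
      ← Category.assoc (snd G E) (toUnit E), toUnit_unique (snd G E ≫ toUnit E) (toUnit _), ← Hom.mul_def,
      show (toUnit (G ⊗ E) ≫ t) = (toUnit (G ⊗ E) ≫ e₀) ≫ φ by rw [Category.assoc, he₀],
      ← MonObj.mul_comp, ← MonObj.mul_comp, show (toUnit (G ⊗ E) ≫ e₀) * snd G E = snd G E * (toUnit (G ⊗ E) ≫ e₀) from by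
        letI := CategoryTheory.Hom.commGroup (C := Over (Spec (CommRingCat.of k))) (X := G ⊗ E) (G := E)
        exact _root_.mul_comm _ _]

end Groth.Agent.S11423
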