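import Groth.Statements.S11425
import Groth.Agent.BorelLib.RedUnip
import Groth.Agent.BorelLib.RedPtsMore
import Groth.Agent.BorelLib.Image
import Groth.Agent.AntiAffLib.Criteria
import Groth.Agent.AntiAffLib.Kernel
import Groth.Agent.AntiAffLib.AffineQuot
import Groth.Agent.AntiAffLib.CommCat
import Groth.Agent.AntiAffLib.Image
import Groth.Agent.AVAmpleLib.HomDiv
import Groth.Agent.SplitSubLib.Split
import Groth.Agent.MultEqLib.Props
import Groth.Agent.FlatLib.SmoothScheme
import Groth.Agent.AlbLib.AffineHom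
import Groth.Agent.AlbLib.Torus
-- import your own Groth.Agent.* helpers here

set_option autoImplicit false
universe u
open CategoryTheory MonoidalCategory CartesianMonoidalCategory MonObj GrpObj AlgebraicGeometry CategoryTheory.Limits
open AlgGrp

namespace Groth.Agent.S11425

section
open CoactBr (sp)
open Groth.Agent.BorelLib (IsUni ptsSub ptEquiv Pt IsMor IsTor)

attribute [-instance] CategoryTheory.Hom.commGroup
attribute [local instance] BorelLib.pTop BorelLib.pTopTensor

set_option backward.isDefEq.respectTransparency false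
set_option linter.style.haveILetI false
set_option maxHeartbeats 1000000

variable {k : Type u} [Field k] [IsAlgClosed k]

/-- A commutative group is anti-affine as soon as two quotients are, one by a group without tori and one by a torus. -/
theorem antiAff_of_quotients {G T U Gs Gu : Over (Spec (CommRingCat.of k))} [GrpObj G] [Smooth G.hom]
    [QuasiCompact G.hom] [IsCommMonObj G] [GrpObj T] [GrpObj U] [GrpObj Gs] [GrpObj Gu]
    [LocallyOfFiniteType Gs.hom] [LocallyOfFiniteType Gu.hom]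
    (a : T ⟶ G) [IsMonHom a] (hT : Red.IsTorus T) [LocallyOfFiniteType T.hom]
    (b : U ⟶ G) [IsMonHom b] [Smooth U.hom] [ConnectedSpace U.left] [IsAffine U.left] (hU : Red.HasNoSubtorus k U)
    (qs : G ⟶ Gs) [IsMonHom qs] [Surjective qs.left] [Flat qs.left] (hs : AlgGrp.IsKernel b qs)
    (qu : G ⟶ Gu) [IsMonHom qu] [Surjective qu.left] [Flat qu.left] (hu : AlgGrp.IsKernel a qu)
    [AntiAffLib.IsΓIso (toUnit Gs)] [AntiAffLib.IsΓIso (toUnit Gu)] : AntiAffLib.IsΓIso (toUnit G) := by
  haveI : LocallyOfFinitePresentation qs.left := AntiAffLib.lfp_of_lft qs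
  haveI : LocallyOfFinitePresentation qu.left := AntiAffLib.lfp_of_lft qu
  let H := AntiAffLib.hull G
  let h : G ⟶ H := AntiAffLib.toHull G
  haveI : IsAffine H.left := AntiAffLib.isAffine_hull G
  haveI : LocallyOfFiniteType H.hom := AntiAffLib.lft_hull G
  haveI : Smooth H.hom := by
    haveI : Smooth (h.left ≫ H.hom) := by rw [Over.w h]; infer_instance
    exact FlatLib.smooth_of_fppf_comp h.left H.hom
  haveI : QuasiCompact H.hom := inferInstance
  haveI : IsReduced H.left := AlgSpLib.isReduced_of_smooth H.hom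
  haveI : Epi h := Groth.Agent.MonoQuot.epi_over h
  haveI : IsCommMonObj H := AntiAffLib.CommCat.isComm_of_epi h
  haveI : IsAffine T.left := AlbLib.isAffine_of_isTorus hT
  obtain ⟨hTs, hTc⟩ := AlbLib.smooth_connected_of_isTorus hT
  haveI := hTs; haveI := hTc
  haveI : QuasiCompact T.hom := inferInstance
  haveI : QuasiCompact U.hom := inferInstance
  haveI : IsClosedImmersion (𝟙 T : T ⟶ T).left := inferInstanceAs (IsClosedImmersion (𝟙 T.left))
  haveI : IsClosedImmersion (𝟙 U : U ⟶ U).left := inferInstanceAs (IsClosedImmersion (𝟙 U.left))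
  obtain ⟨A, _, _, w, hw, hA, -⟩ := BorelLib.exists_setup H
  haveI := hw; haveI := hA
  obtain ⟨AT, _, _, vT, hvT, hAT, -⟩ := BorelLib.exists_setup T
  haveI := hvT; haveI := hAT
  obtain ⟨AU, _, _, vU, hvU, hAU, -⟩ := BorelLib.exists_setup U
  haveI := hvU; haveI := hAU
  let fT : Pt k AT →* Pt k A := ((ptEquiv w).symm.toMonoidHom.comp (BorelLib.ptHom (a ≫ h))).comp (ptEquiv vT).toMonoidHom
  let fU : Pt k AU →* Pt k A := ((ptEquiv w).symm.toMonoidHom.comp (BorelLib.ptHom (b ≫ h))).comp (ptEquiv vU).toMonoidHom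
  have hfT : ∀ x, ptEquiv w (fT x) = ptEquiv vT x ≫ a ≫ h := fun x => (ptEquiv w).apply_symm_apply _
  have hfU : ∀ x, ptEquiv w (fU x) = ptEquiv vU x ≫ b ≫ h := fun x => (ptEquiv w).apply_symm_apply _
  have hmT : IsMor fT := by
    obtain ⟨F, ⟨φ, hφ⟩, hF⟩ := BorelLib.exists_isMor vT w (a ≫ h)
    exact ⟨φ, fun x => (ptEquiv w).injective (by rw [hfT, ← hF, hφ])⟩
  have hmU : IsMor fU := by
    obtain ⟨F, ⟨φ, hφ⟩, hF⟩ := BorelLib.exists_isMor vU w (b ≫ h)
    exact ⟨φ, fun x => (ptEquiv w).injective (by rw [hfU, ← hF, hφ])⟩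
  have hTtop : IsTor (⊤ : Subgroup (Pt k AT)) := by
    have := BorelLib.isTor_ptsSub vT (𝟙 T) hT
    rwa [BorelLib.ptsSub_id] at this
  have hUtop := BorelLib.uni_of_hasNoSubtorus vU (𝟙 U) hU
  rw [BorelLib.ptsSub_id] at hUtop
  have hST : IsTor ((⊤ : Subgroup (Pt k AT)).map fT) := hTtop.map (f := fT) hmT
  obtain ⟨C, _, c, hc, hcc, hcs, hcp, -, -⟩ := BorelLib.exists_scheme_sub w hST.closed
  haveI := hc; haveI := hcc; haveI := hcs
  have hn : AlgGrp.IsNormalHom c := fun Z g n => ⟨n, by rw [mul_comm g, mul_inv_cancel_right]⟩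
  obtain ⟨P, _, π, hPa, hπ, ⟨hPl, -, -⟩, hker⟩ := AntiAffLib.exists_affine_kernel' c hn
  haveI := hPa; haveI := hπ; haveI := hPl
  haveI : IsSeparated P.hom := Groth.Agent.GrpField.isSeparated_grp (G := P)
  haveI : IsReduced T.left := AlgSpLib.isReduced_of_smooth T.hom
  haveI : IsReduced U.left := AlgSpLib.isReduced_of_smooth U.hom
  have hπ0 : a ≫ h ≫ π = 1 := by
    refine AVAmpleLib.hom_ext_of_points _ _ fun x => ?_
    have hmem : fT ((ptEquiv vT).symm x) ∈ ptsSub w c := by
      rw [hcp]; exact ⟨_, Subgroup.mem_top _, rfl⟩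
    obtain ⟨y, hy⟩ := (BorelLib.mem_ptsSub w).1 hmem
    rw [hfT, MulEquiv.apply_symm_apply] at hy
    have h0 : c ≫ π = 1 := (hker C c).2 ⟨𝟙 C, Category.id_comp c⟩
    rw [MonObj.comp_one, ← Category.assoc a, ← Category.assoc x, ← hy, Category.assoc, h0, MonObj.comp_one]
  have hhπ : h ≫ π = 1 := by
    obtain ⟨y, hy, hym⟩ := AntiAffLib.CommCat.exists_descend qu (h ≫ π) fun Z z hz => by
      obtain ⟨l, hl⟩ := AntiAffLib.exists_lift_kernel hu z hz
      rw [← hl, Category.assoc, hπ0, MonObj.comp_one]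
    haveI := hym
    rw [← hy, AntiAffLib.comp_eq_one y (IsMonHom.one_hom y), MonObj.comp_one]
  have hb : b ≫ h = 1 := by
    haveI : IsSeparated H.hom := Groth.Agent.GrpField.isSeparated_grp (G := H)
    refine AVAmpleLib.hom_ext_of_points _ _ fun x => ?_
    obtain ⟨z, rfl⟩ := (ptEquiv vU).surjective x
    obtain ⟨l, hl⟩ := (hker _ (ptEquiv vU z ≫ b ≫ h)).1
      (by rw [Category.assoc, Category.assoc, hhπ, MonObj.comp_one, MonObj.comp_one])
    have hmem : fU z ∈ (⊤ : Subgroup (Pt k AT)).map fT :=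
      hcp ▸ (BorelLib.mem_ptsSub w).2 ⟨l, by rw [hl, hfU]⟩
    rw [MonObj.comp_one, ← hfU, ((hUtop z (Subgroup.mem_top z)).map fU hmU).eq_one hST hmem, map_one]
  have hh : h = 1 := by
    obtain ⟨y, hy, hym⟩ := AntiAffLib.CommCat.exists_descend qs h fun Z z hz => by
      obtain ⟨l, hl⟩ := AntiAffLib.exists_lift_kernel hs z hz
      rw [← hl, Category.assoc, hb, MonObj.comp_one]
    haveI := hym
    rw [← hy, AntiAffLib.comp_eq_one y (IsMonHom.one_hom y), MonObj.comp_one]
  haveI : Nonempty G.left := AntiAffLib.nonempty_grp G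
  exact AntiAffLib.antiAff_of_const η[H] (hh.trans Hom.one_def)

theorem main {G N T U Gs Gu : Over (Spec (CommRingCat.of k))} [GrpObj G] [Smooth G.hom] [QuasiCompact G.hom]
    [IsCommMonObj G] [GrpObj N] (i : N ⟶ G) [IsMonHom i]
    [GrpObj T] [GrpObj U] (t : T ⟶ N) (u : U ⟶ N) [IsMonHom t] [IsMonHom u]
    (r : ℕ) (hT : Red.IsSplitTorusWith (Fin r → ℤ) T)
    [Smooth U.hom] [ConnectedSpace ↥U.left] [IsAffine U.left] (hU : Red.HasNoSubtorus k U)
    [GrpObj Gs] [GrpObj Gu] [LocallyOfFiniteType Gs.hom] [LocallyOfFiniteType Gu.hom]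
    (qs : G ⟶ Gs) [IsMonHom qs] [Surjective qs.left] [Flat qs.left] (hs : AlgGrp.IsKernel (u ≫ i) qs)
    (qu : G ⟶ Gu) [IsMonHom qu] [Surjective qu.left] [Flat qu.left] (hu : AlgGrp.IsKernel (t ≫ i) qu) :
    Function.Bijective ((Scheme.ΓSpecIso (CommRingCat.of k)).inv ≫ G.hom.appTop).hom ↔ Function.Bijective ((Scheme.ΓSpecIso (CommRingCat.of k)).inv ≫ Gs.hom.appTop).hom ∧ Function.Bijective ((Scheme.ΓSpecIso (CommRingCat.of k)).inv ≫ Gu.hom.appTop).hom := by
  haveI : LocallyOfFinitePresentation qs.left := AntiAffLib.lfp_of_lft qs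
  haveI : LocallyOfFinitePresentation qu.left := AntiAffLib.lfp_of_lft qu
  rw [AntiAffLib.bijective_iff, AntiAffLib.bijective_iff, AntiAffLib.bijective_iff]
  refine ⟨fun h => ?_, fun ⟨h1, h2⟩ => ?_⟩
  · haveI := h
    exact ⟨AntiAffLib.antiAff_of_fppf qs η[G], AntiAffLib.antiAff_of_fppf qu η[G]⟩
  · haveI := h1; haveI := h2
    have hT' : Red.IsTorus T := SplitSub.isTorus_of_split hT
    haveI : LocallyOfFinitePresentation T.hom := MultEq.lfp_of_isMultTypeFT (RedRank.isMultTypeFT_of_isTorus hT')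
    exact antiAff_of_quotients (t ≫ i) hT' (u ≫ i) hU qs hs qu hu

end

/-- Over an algebraically closed field k, let G be a connected commutative algebraic group (smooth
k-group scheme of finite type), let i : N → G be its largest connected affine normal algebraic
subgroup G_aff (a homomorphism and closed immersion from a smooth, connected, affine k-group scheme,
normal in G, through which every other such subgroup factors), and suppose G_aff = T × U:
homomorphisms t : T → G_aff from a split torus and u : U → G_aff from a smooth, connected, affine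
group containing no non-trivial subtorus (unipotent), such that multiplication T × U → G_aff is an
isomorphism. Let q_s : G → G_s and q_u : G → G_u be flat surjective homomorphisms of k-group schemes
of finite type with kernels U and T respectively (G_s = G/U, G_u = G/T). Then the only global
functions on G are the constants if and only if the same holds for both G_s and G_u. -/
theorem result (k : Type u) [Field k] [IsAlgClosed k]
    (G : Over (Spec (CommRingCat.of k))) [GrpObj G] [Smooth G.hom] [QuasiCompact G.hom] [ConnectedSpace ↥G.left] [IsCommMonObj G]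
    (N : Over (Spec (CommRingCat.of k))) [GrpObj N] (i : N ⟶ G) [IsMonHom i] [IsClosedImmersion i.left]
    [Smooth N.hom] [ConnectedSpace ↥N.left] [IsAffine N.left] (hN : AlgGrp.IsNormalHom i)
    (hNmax : ∀ (N' : Over (Spec (CommRingCat.of k))) [GrpObj N'] (i' : N' ⟶ G) [IsMonHom i'] [IsClosedImmersion i'.left]
      [Smooth N'.hom] [ConnectedSpace ↥N'.left] [IsAffine N'.left], AlgGrp.IsNormalHom i' → ∃ f : N' ⟶ N, f ≫ i = i')
    (T U : Over (Spec (CommRingCat.of k))) [GrpObj T] [GrpObj U] (t : T ⟶ N) (u : U ⟶ N) [IsMonHom t] [IsMonHom u]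
    (r : ℕ) (hT : Red.IsSplitTorusWith (Fin r → ℤ) T)
    [Smooth U.hom] [ConnectedSpace ↥U.left] [IsAffine U.left] (hU : Red.HasNoSubtorus k U)
    (hTU : IsIso ((t ⊗ₘ u) ≫ μ[N]))
    (Gs Gu : Over (Spec (CommRingCat.of k))) [GrpObj Gs] [GrpObj Gu] [LocallyOfFiniteType Gs.hom] [QuasiCompact Gs.hom]
    [LocallyOfFiniteType Gu.hom] [QuasiCompact Gu.hom]
    (qs : G ⟶ Gs) [IsMonHom qs] [Surjective qs.left] [Flat qs.left] (hs : AlgGrp.IsKernel (u ≫ i) qs)
    (qu : G ⟶ Gu) [IsMonHom qu] [Surjective qu.left] [Flat qu.left] (hu : AlgGrp.IsKernel (t ≫ i) qu) :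
    Function.Bijective ((Scheme.ΓSpecIso (CommRingCat.of k)).inv ≫ G.hom.appTop).hom ↔ Function.Bijective ((Scheme.ΓSpecIso (CommRingCat.of k)).inv ≫ Gs.hom.appTop).hom ∧ Function.Bijective ((Scheme.ΓSpecIso (CommRingCat.of k)).inv ≫ Gu.hom.appTop).hom := by
  exact main i t u r hT hU qs hs qu hu

end Groth.Agent.S11425
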