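import Groth.Statements.S11428
import Groth.Agent.FinHomLib.Affine
import Mathlib.AlgebraicGeometry.PullbackCarrier
import Mathlib.AlgebraicGeometry.Morphisms.Separated
-- import your own Groth.Agent.* helpers here

set_option autoImplicit false
universe u
open CategoryTheory MonoidalCategory CartesianMonoidalCategory MonObj GrpObj AlgebraicGeometry Topology
open GIT

namespace Groth.Agent.S11428

/-- If (Y, φ) is a geometric quotient of X by G over S, then Y is separated over S exactly when the
action is separated, i.e. the image of (σ, p₂) : G ×_S X → X ×_S X is closed. -/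
theorem result (S : Scheme.{u}) (G X Y : Over S) [GrpObj G]
    (a : AlgGrp.Action G X) (φ : X ⟶ Y) (h : GIT.IsGeomQuot a φ) :
    IsSeparated Y.hom ↔ IsClosed (Set.range (GIT.psi a (𝟙 X)).left.base) := by
  have hp1 : GIT.psi a (𝟙 X) ≫ fst X X = a.act := by simp [GIT.psi]
  have hp2 : GIT.psi a (𝟙 X) ≫ snd X X = snd G X := by simp [GIT.psi]
  let q : X ⊗ X ⟶ Y ⊗ Y := lift (fst X X ≫ φ) (snd X X ≫ φ)
  let δ : Y ⟶ Y ⊗ Y := lift (𝟙 Y) (𝟙 Y)
  have hqψ : GIT.psi a (𝟙 X) ≫ q = snd G X ≫ φ ≫ δ := by
    refine CartesianMonoidalCategory.hom_ext _ _ ?_ ?_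
    · simp only [q, δ, Category.assoc, lift_fst, reassoc_of% hp1, Category.comp_id]
      exact h.inv
    · simp only [q, δ, Category.assoc, lift_snd, reassoc_of% hp2, Category.comp_id]
  have key : Set.range (GIT.psi a (𝟙 X)).left = q.left ⁻¹' Set.range δ.left := by
    refine Set.Subset.antisymm ?_ ?_
    · rintro _ ⟨p, rfl⟩
      refine ⟨φ.left ((snd G X).left p), ?_⟩
      rw [← Scheme.Hom.comp_apply, ← Scheme.Hom.comp_apply, ← Scheme.Hom.comp_apply, ← Over.comp_left,
        ← Over.comp_left, ← Over.comp_left, hqψ]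
    · rintro z ⟨t, ht⟩
      obtain ⟨w, hw, -⟩ := Scheme.Pullback.exists_preimage_pullback (f := q.left) (g := δ.left) z t ht.symm
      let Z : Over S := Over.mk (Limits.pullback.fst q.left δ.left ≫ (X ⊗ X).hom)
      let em : Z ⟶ X ⊗ X := Over.homMk (Limits.pullback.fst q.left δ.left) rfl
      let pm : Z ⟶ Y := Over.homMk (Limits.pullback.snd q.left δ.left) (by
        show _ = Limits.pullback.fst q.left δ.left ≫ (X ⊗ X).hom
        rw [← Over.w δ, ← Category.assoc, ← Limits.pullback.condition, Category.assoc, Over.w q])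
      have hep : em ≫ q = pm ≫ δ := Over.OverMorphism.ext Limits.pullback.condition
      have h1 : (em ≫ fst X X) ≫ φ = pm := by
        have := congrArg (· ≫ fst Y Y) hep
        simpa [q, δ] using this
      have h2 : (em ≫ snd X X) ≫ φ = pm := by
        have := congrArg (· ≫ snd Y Y) hep
        simpa [q, δ] using this
      let l : Z.left ⟶ Limits.pullback φ.left φ.left :=
        Limits.pullback.lift (em ≫ fst X X).left (em ≫ snd X X).left
          (congrArg CommaMorphism.left (h1.trans h2.symm))
      obtain ⟨g, hg⟩ := h.orbit (l w)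
      obtain ⟨v, -, hv⟩ := Scheme.Pullback.exists_preimage_pullback (f := GIT.PsiY a φ h.inv) (g := l) g w hg
      let f₁ := Limits.pullback.fst (GIT.PsiY a φ h.inv) l
      let f₂ := Limits.pullback.snd (GIT.PsiY a φ h.inv) l
      have c1 : f₁ ≫ a.act.left = f₂ ≫ (em ≫ fst X X).left := by
        have := congrArg (· ≫ Limits.pullback.fst φ.left φ.left)
          (Limits.pullback.condition (f := GIT.PsiY a φ h.inv) (g := l))
        simp only [GIT.PsiY, l, Category.assoc, Limits.pullback.lift_fst] at this
        exact this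
      have c2 : f₁ ≫ (snd G X).left = f₂ ≫ (em ≫ snd X X).left := by
        have := congrArg (· ≫ Limits.pullback.snd φ.left φ.left)
          (Limits.pullback.condition (f := GIT.PsiY a φ h.inv) (g := l))
        simp only [GIT.PsiY, l, Category.assoc, Limits.pullback.lift_snd] at this
        exact this
      let W : Over S := Over.mk (f₂ ≫ Z.hom)
      let a1 : W ⟶ G ⊗ X := Over.homMk f₁ (by
        show _ = f₂ ≫ Z.hom
        rw [← Over.w a.act, ← Category.assoc, c1, Category.assoc, Over.w (em ≫ fst X X)])
      let a2 : W ⟶ Z := Over.homMk f₂ rfl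
      have hξ : a1 ≫ GIT.psi a (𝟙 X) = a2 ≫ em := by
        refine CartesianMonoidalCategory.hom_ext _ _ ?_ ?_
        · rw [Category.assoc, hp1, Category.assoc]
          exact Over.OverMorphism.ext c1
        · rw [Category.assoc, hp2, Category.assoc]
          exact Over.OverMorphism.ext c2
      refine ⟨a1.left v, ?_⟩
      rw [← Scheme.Hom.comp_apply, ← Over.comp_left, hξ, Over.comp_left, Scheme.Hom.comp_apply]
      show em.left (f₂ v) = z
      rw [hv]
      exact hw
  have hd : δ.left = Limits.pullback.diagonal Y.hom := by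
    refine Limits.pullback.hom_ext ?_ ?_
    · rw [Limits.pullback.diagonal_fst, ← Over.fst_left, ← Over.comp_left, lift_fst]; rfl
    · rw [Limits.pullback.diagonal_snd, ← Over.snd_left, ← Over.comp_left, lift_snd]; rfl
  constructor
  · intro hY
    have hc : IsClosed (Set.range δ.left) := by
      rw [hd]
      exact (Limits.pullback.diagonal Y.hom).isClosedEmbedding.isClosed_range
    show IsClosed (Set.range (GIT.psi a (𝟙 X)).left)
    rw [key]
    exact hc.preimage q.left.continuous
  · intro hc
    have hbase : ∀ (T : Over S), IsQuotientMap (T ◁ φ).left := fun T =>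
      h.subm _ _ _ (Groth.Agent.FinHom.isPullback_whiskerLeft T φ)
    have hiso : ∀ (T T' : Over S) (e : T ≅ T'), IsQuotientMap e.hom.left := fun T T' e =>
      ((Over.forget S).mapIso e).hom.homeomorph.isQuotientMap
    have hq : q = ((X ◁ φ) ≫ (β_ X Y).hom) ≫ ((Y ◁ φ) ≫ (β_ Y Y).hom) := by
      refine CartesianMonoidalCategory.hom_ext _ _ ?_ ?_ <;> simp [q]
    have hQ : IsQuotientMap q.left := by
      rw [hq]
      simp only [Over.comp_left, Scheme.Hom.comp_base, TopCat.coe_comp]
      exact ((hiso _ _ (β_ Y Y)).comp (hbase Y)).comp ((hiso _ _ (β_ X Y)).comp (hbase X))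
    have hc' : IsClosed (Set.range (GIT.psi a (𝟙 X)).left) := hc
    rw [key, hQ.isClosed_preimage, hd] at hc'
    exact ⟨IsClosedImmersion.of_isPreimmersion _ hc'⟩

end Groth.Agent.S11428
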