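import Groth.Statements.S11429
import Groth.Agent.GITAffLib.Geometric
import Groth.Agent.OrbitLib.Basic
import Groth.Agent.QuasiSecLib.Point
import Groth.Agent.AlgSpLib.AffineDescent
import Groth.Agent.S0021

set_option autoImplicit false
universe u
open CategoryTheory MonoidalCategory CartesianMonoidalCategory MonObj GrpObj AlgebraicGeometry Topology
open GIT

set_option synthInstance.maxHeartbeats 400000
set_option maxHeartbeats 1000000
set_option backward.isDefEq.respectTransparency false
set_option linter.style.haveILetI false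
attribute [-instance] CategoryTheory.ReflQuiver.toQuiver CompletePartialOrder.toPartialOrder CompletePartialOrder.toOrderBot

namespace Groth.Agent.S11429

open CategoryTheory.Limits

variable {k : Type u} [Field k] {G X Y : Over (Spec (CommRingCat.of k))} [GrpObj G] {a : AlgGrp.Action G X}
  {φ : X ⟶ Y}

/-- Geometric quotients are universally open. -/
theorem isUnivOpenAt (h : GIT.IsGeomQuot a φ) [LocallyOfFiniteType G.hom] (x : X.left) :
    EGA43.IsUnivOpenAt φ.left x := by
  intro Y'' g x' _
  let T : Over (Spec (CommRingCat.of k)) := Over.mk (g ≫ Y.hom)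
  let gT : T ⟶ Y := Over.homMk g
  let X' : Over (Spec (CommRingCat.of k)) := Over.mk (pullback.fst φ.left g ≫ X.hom)
  let pr : X' ⟶ X := Over.homMk (pullback.fst φ.left g)
  let φ' : X' ⟶ T := Over.homMk (pullback.snd φ.left g) (by
    show pullback.snd φ.left g ≫ g ≫ Y.hom = pullback.fst φ.left g ≫ X.hom
    rw [← Over.w φ, pullback.condition_assoc])
  have sq : IsPullback pr φ' φ gT :=
    IsPullback.of_map (Over.forget _) (Over.OverMorphism.ext pullback.condition)
      (IsPullback.of_hasPullback φ.left g)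
  obtain ⟨a', he, hi⟩ := GITQuotLib.exists_action h.inv sq
  have hsurj := GITQuotLib.psiY_surjective_baseChange h.inv h.orbit sq a' he hi
  have hq : IsQuotientMap φ'.left := h.subm _ _ _ (sq.map (Over.forget _)).flip
  have hopen : IsOpenMap φ'.left := by
    intro U hU
    rw [← hq.isOpen_preimage]
    have e : φ'.left ⁻¹' (φ'.left '' U) = a'.act.left '' ((snd G X').left ⁻¹' U) := by
      ext z
      constructor
      · rintro ⟨w, hw, hwz⟩
        obtain ⟨q, hq1, hq2⟩ := Scheme.Pullback.exists_preimage_pullback (f := φ'.left) (g := φ'.left) z w hwz.symm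
        obtain ⟨p, hp⟩ := hsurj q
        refine ⟨p, ?_, ?_⟩
        · show (snd G X').left p ∈ U
          have := congrArg (pullback.snd φ'.left φ'.left) hp
          rw [← Scheme.Hom.comp_apply, GIT.PsiY, pullback.lift_snd, hq2] at this
          rw [this]; exact hw
        · have := congrArg (pullback.fst φ'.left φ'.left) hp
          rw [← Scheme.Hom.comp_apply, GIT.PsiY, pullback.lift_fst, hq1] at this
          exact this
      · rintro ⟨p, hp, rfl⟩
        refine ⟨(snd G X').left p, hp, ?_⟩
        rw [← Scheme.Hom.comp_apply, ← Scheme.Hom.comp_apply, ← Over.comp_left, ← Over.comp_left,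
          show a'.act ≫ φ' = snd G X' ≫ φ' from hi]
    rw [e]
    exact OrbitLib.isOpenMap_act a' _ (hU.preimage (snd G X').left.continuous)
  intro U hU
  exact (hopen.image_mem_nhds hU)

/-- Over a field k, let G (affine), X and Y be separated schemes of finite type, G a group scheme acting
properly on X (the morphism (σ, p₂) : G × X → X × X is proper), and (Y, φ) a geometric quotient of X
by G. Then φ is affine. -/
theorem result (k : Type u) [Field k] (G X Y : Over (Spec (CommRingCat.of k)))
    [GrpObj G] [IsAffine G.left] [LocallyOfFiniteType G.hom]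
    [LocallyOfFiniteType X.hom] [QuasiCompact X.hom] [IsSeparated X.hom]
    [LocallyOfFiniteType Y.hom] [QuasiCompact Y.hom] [IsSeparated Y.hom]
    (a : AlgGrp.Action G X) (hp : IsProper (GIT.psi a (𝟙 X)).left) (φ : X ⟶ Y) (h : GIT.IsGeomQuot a φ) :
    IsAffineHom φ.left := by
  haveI hGaff : IsAffineHom G.hom := inferInstance
  haveI : QuasiCompact G.hom := inferInstance
  haveI : IsLocallyNoetherian X.left := LocallyOfFiniteType.isLocallyNoetherian X.hom
  haveI : IsLocallyNoetherian Y.left := LocallyOfFiniteType.isLocallyNoetherian Y.hom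
  haveI : LocallyOfFiniteType φ.left := by
    haveI : LocallyOfFiniteType (φ.left ≫ Y.hom) := by rw [Over.w φ]; infer_instance
    exact locallyOfFiniteType_of_comp φ.left Y.hom
  haveI : LocallyOfFinitePresentation φ.left := inferInstance
  haveI : QuasiCompact φ.left := by
    haveI : QuasiCompact (φ.left ≫ Y.hom) := by rw [Over.w φ]; infer_instance
    exact QuasiCompact.of_comp φ.left Y.hom
  -- the second projection of `X ×_Y X` is affine
  let W := Limits.pullback φ.left φ.left
  let p₁ : W ⟶ X.left := Limits.pullback.fst φ.left φ.left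
  let p₂ : W ⟶ X.left := Limits.pullback.snd φ.left φ.left
  let Ψ : (G ⊗ X).left ⟶ W := GIT.PsiY a φ h.inv
  let m : W ⟶ (X ⊗ X).left := Limits.pullback.mapDesc φ.left φ.left Y.hom ≫
    (Limits.pullback.congrHom (Over.w φ) (Over.w φ)).hom
  have hm1 : m ≫ (fst X X).left = p₁ := by
    simp [m, p₁, Limits.pullback.mapDesc]
  have hm2 : m ≫ (snd X X).left = p₂ := by
    simp [m, p₂, Limits.pullback.mapDesc]
  have hΨm : Ψ ≫ m = (GIT.psi a (𝟙 X)).left := by
    apply Limits.pullback.hom_ext
    · show (Ψ ≫ m) ≫ (fst X X).left = (GIT.psi a (𝟙 X)).left ≫ (fst X X).left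
      rw [Category.assoc, hm1, ← Over.comp_left]
      simp [Ψ, p₁, GIT.PsiY, GIT.psi]
    · show (Ψ ≫ m) ≫ (snd X X).left = (GIT.psi a (𝟙 X)).left ≫ (snd X X).left
      rw [Category.assoc, hm2, ← Over.comp_left]
      simp [Ψ, p₂, GIT.PsiY, GIT.psi]
  haveI : IsSeparated (snd X X).left := by
    rw [Over.snd_left]; exact MorphismProperty.pullback_snd _ _ inferInstance
  haveI hsa : IsAffineHom (snd G X).left := by
    rw [Over.snd_left]; exact MorphismProperty.pullback_snd _ _ inferInstance
  haveI : IsClosedImmersion m := inferInstance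
  haveI : IsProper (Ψ ≫ m) := by rw [hΨm]; exact hp
  haveI : IsProper Ψ := IsProper.of_comp Ψ m
  haveI : IsAffineHom (Ψ ≫ p₂) := by
    rw [show Ψ ≫ p₂ = (snd G X).left from Limits.pullback.lift_snd _ _ _]
    exact hsa
  haveI : IsSeparated φ.left := by
    haveI : IsSeparated (φ.left ≫ Y.hom) := by rw [Over.w φ]; infer_instance
    exact IsSeparated.of_comp φ.left Y.hom
  haveI : IsSeparated p₂ := MorphismProperty.pullback_snd _ _ inferInstance
  haveI : IsAffineHom Ψ := IsAffineHom.of_comp Ψ p₂
  haveI : IsFinite Ψ := (IsFinite.iff_isProper_and_isAffineHom).mpr ⟨inferInstance, inferInstance⟩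
  haveI : Surjective Ψ := ⟨h.orbit⟩
  haveI : LocallyOfFiniteType p₂ := MorphismProperty.pullback_snd _ _ inferInstance
  haveI : QuasiCompact p₂ := MorphismProperty.pullback_snd _ _ inferInstance
  haveI hp₂ : IsAffineHom p₂ := ⟨fun V hV => by
    haveI : IsAffine V.toScheme := hV
    haveI hsrc : IsAffine (Ψ ⁻¹ᵁ (p₂ ⁻¹ᵁ V)).toScheme := hV.preimage (Ψ ≫ p₂)
    haveI : IsFinite (Ψ ∣_ (p₂ ⁻¹ᵁ V)) := IsZariskiLocalAtTarget.restrict (P := @IsFinite) ‹IsFinite Ψ› _
    haveI : Surjective (Ψ ∣_ (p₂ ⁻¹ᵁ V)) := IsZariskiLocalAtTarget.restrict (P := @Surjective) ‹Surjective Ψ› _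
    haveI : IsLocallyNoetherian W := LocallyOfFiniteType.isLocallyNoetherian p₂
    haveI : IsLocallyNoetherian (p₂ ⁻¹ᵁ V).toScheme :=
      LocallyOfFiniteType.isLocallyNoetherian (p₂ ⁻¹ᵁ V).ι
    haveI : CompactSpace (p₂ ⁻¹ᵁ V).toScheme :=
      isCompact_iff_compactSpace.1 (p₂.isCompact_preimage hV.isCompact)
    haveI : IsNoetherian (p₂ ⁻¹ᵁ V).toScheme := {}
    exact Groth.Agent.S0021.result (Ψ ∣_ (p₂ ⁻¹ᵁ V))⟩
  -- quasi-sections
  refine (IsZariskiLocalAtTarget.iff_of_iSup_eq_top (P := @IsAffineHom)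
    (fun O : {O : Y.left.Opens // IsAffineHom (φ.left ∣_ O)} => O.1) ?_).mpr fun O => O.2
  refine top_le_iff.mp fun y _ => TopologicalSpace.Opens.mem_iSup.mpr ?_
  obtain ⟨x₁, hx₁⟩ := h.surj y
  haveI : LocallyOfFiniteType (φ.left.fiberToSpecResidueField y) := UOpenLib.lft_fiberToSpec φ.left y
  haveI : JacobsonSpace (φ.left.fiber y) := LocallyOfFiniteType.jacobsonSpace (φ.left.fiberToSpecResidueField y)
  haveI : Nonempty (φ.left.fiber y) := ⟨(φ.left.fiberHomeo y).symm ⟨x₁, hx₁⟩⟩
  obtain ⟨c, -, hc⟩ := nonempty_inter_closedPoints (Z := (Set.univ : Set (φ.left.fiber y))) Set.univ_nonempty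
    isClosed_univ.isLocallyClosed
  let x : X.left := (φ.left.fiberHomeo y c).1
  have hx : φ.left x = y := (φ.left.fiberHomeo y c).2
  have hcl : ∀ x' : X.left, φ.left x' = φ.left x → x ⤳ x' → x' = x := by
    intro x' hx' hsp
    have hcl' : IsClosed ({φ.left.fiberHomeo y c} : Set (φ.left ⁻¹' {y})) := by
      rw [← Set.image_singleton]
      exact (φ.left.fiberHomeo y).isClosedMap _ hc
    have h2 : φ.left.fiberHomeo y c ⤳ (⟨x', hx'.trans hx⟩ : φ.left ⁻¹' {y}) :=
      Topology.IsInducing.subtypeVal.specializes_iff.mp hsp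
    have h3 := h2.mem_closed hcl' (Set.mem_singleton _)
    exact congrArg Subtype.val (Set.mem_singleton_iff.mp h3)
  obtain ⟨z, hzs, hzx, -, hz⟩ := UOpenLib.exists_max_fibreDimAt φ.left x
  obtain ⟨S', S'', _, w, π, j, hw, hπ, hπs, hπf, hj, s'', hs'', hjs, -⟩ :=
    Groth.Agent.QuasiSec.exists_quasiSection φ.left x z hcl hzx hzs (isUnivOpenAt h z) hz.ge
  haveI := hw
  haveI := hπ
  haveI := hπs
  let O : Y.left.Opens := ⟨Set.range w, w.isOpenMap.isOpen_range⟩
  have hyO : y ∈ O := by
    refine ⟨π s'', ?_⟩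
    have h1 : (π ≫ w) s'' = φ.left x := hs''.ge rfl
    rw [← Scheme.Hom.comp_apply, h1, hx]
  refine ⟨⟨O, ?_⟩, hyO⟩
  -- the pullback of `φ` to `S'` is affine
  let X' := Limits.pullback φ.left w
  let φ' : X' ⟶ S' := Limits.pullback.snd φ.left w
  let P := Limits.pullback φ' π
  let pS : P ⟶ S'' := Limits.pullback.snd φ' π
  let pX : P ⟶ X' := Limits.pullback.fst φ' π
  haveI : IsAffineHom pS := by
    have sqP : IsPullback (pX ≫ Limits.pullback.fst φ.left w) pS φ.left (π ≫ w) :=
      (IsPullback.of_hasPullback φ' π).paste_horiz (IsPullback.of_hasPullback φ.left w)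
    have hcond : (pX ≫ Limits.pullback.fst φ.left w) ≫ φ.left = (pS ≫ j) ≫ φ.left := by
      rw [sqP.w, Category.assoc, hj]
    have sqR : IsPullback (Limits.pullback.lift _ _ hcond) pS p₂ j := by
      refine IsPullback.of_right ?_ ?_ (IsPullback.of_hasPullback φ.left φ.left)
      · rw [Limits.pullback.lift_fst, hj]; exact sqP
      · exact Limits.pullback.lift_snd _ _ _
    exact MorphismProperty.of_isPullback (P := @IsAffineHom) sqR hp₂
  haveI : IsAffine S'' := isAffine_of_isAffineHom π
  haveI : IsAffine P := isAffine_of_isAffineHom pS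
  haveI : IsFinite pX := MorphismProperty.pullback_fst (P := @IsFinite) _ _ hπ
  haveI : Surjective pX := MorphismProperty.pullback_fst (P := @Surjective) _ _ hπs
  haveI : IsLocallyNoetherian S' := LocallyOfFiniteType.isLocallyNoetherian w
  haveI : LocallyOfFiniteType φ' := MorphismProperty.pullback_snd _ _ inferInstance
  haveI : QuasiCompact φ' := MorphismProperty.pullback_snd _ _ inferInstance
  haveI : IsLocallyNoetherian X' := LocallyOfFiniteType.isLocallyNoetherian φ'
  haveI : CompactSpace X' := QuasiCompact.compactSpace_of_compactSpace φ'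
  haveI : IsNoetherian X' := {}
  haveI : IsAffine X' := Groth.Agent.S0021.result pX
  haveI hφ' : IsAffineHom φ' := inferInstance
  -- descent along the etale surjection onto `O`
  let w' : S' ⟶ O.toScheme := IsOpenImmersion.lift O.ι w (by rw [Scheme.Opens.range_ι]; exact subset_rfl)
  have hw' : w' ≫ O.ι = w := IsOpenImmersion.lift_fac _ _ _
  haveI : Etale (w' ≫ O.ι) := by rw [hw']; exact hw
  haveI : Etale w' := Etale.of_comp w' O.ι
  haveI : Surjective w' := ⟨fun q => by
    obtain ⟨t, ht⟩ : O.ι q ∈ Set.range w := q.2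
    refine ⟨t, O.ι.isOpenEmbedding.injective ?_⟩
    show (w' ≫ O.ι) t = _
    rw [hw']; exact ht⟩
  let l : X' ⟶ (φ.left ⁻¹ᵁ O).toScheme := IsOpenImmersion.lift (φ.left ⁻¹ᵁ O).ι (Limits.pullback.fst φ.left w) (by
    rw [Scheme.Opens.range_ι]
    rintro _ ⟨q, rfl⟩
    exact ⟨φ' q, by rw [← Scheme.Hom.comp_apply, ← Scheme.Hom.comp_apply, Limits.pullback.condition]⟩)
  have hl : l ≫ (φ.left ⁻¹ᵁ O).ι = Limits.pullback.fst φ.left w := IsOpenImmersion.lift_fac _ _ _
  have hlw : l ≫ (φ.left ∣_ O) = φ' ≫ w' := by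
    rw [← cancel_mono O.ι, Category.assoc, morphismRestrict_ι, reassoc_of% hl, Category.assoc, hw',
      Limits.pullback.condition]
  have sqd : IsPullback l φ' (φ.left ∣_ O) w' := by
    refine IsPullback.of_right ?_ hlw (isPullback_morphismRestrict φ.left O).flip
    rw [hl, hw']
    exact IsPullback.of_hasPullback φ.left w
  have hprop : (@Surjective ⊓ @Flat ⊓ @LocallyOfFinitePresentation : MorphismProperty Scheme.{u}) w' :=
    ⟨⟨inferInstance, inferInstance⟩, inferInstance⟩
  first
    | exact MorphismProperty.of_isPullback_of_descendsAlong (P := @IsAffineHom) sqd hprop hφ'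
    | exact MorphismProperty.of_isPullback_of_descendsAlong (P := @IsAffineHom) sqd.flip hprop hφ'

end Groth.Agent.S11429
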