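import Groth.Statements.S11433
import Groth.Agent.GITAffLib.Setup
import Groth.Agent.GITAffLib.Geometric
-- import your own Groth.Agent.* helpers here

set_option autoImplicit false
universe u
open CategoryTheory MonoidalCategory CartesianMonoidalCategory MonObj GrpObj AlgebraicGeometry Topology
open GIT

attribute [-instance] CategoryTheory.ReflQuiver.toQuiver CompletePartialOrder.toPartialOrder CompletePartialOrder.toOrderBot

namespace Groth.Agent.S11433

/-- Let k be a field of characteristic zero, G a connected reductive algebraic group over k acting on an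
affine scheme X over k, and (Y, φ) a categorical quotient of X by G. Then (Y, φ) is a geometric
quotient exactly when every orbit of a geometric point is closed, and in that case (Y, φ) is even a
universal geometric quotient. (The published statement is for any reductive G, the universal
conclusion being stated in characteristic zero; this row is the characteristic-zero case with G
connected.) -/
theorem result (k : Type u) [Field k] [CharZero k]
    (G X Y : Over (Spec (CommRingCat.of k))) [GrpObj G] (hG : Red.IsReductive G) [IsAffine X.left]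
    (a : AlgGrp.Action G X) (φ : X ⟶ Y) (hq : GIT.IsCatQuot a φ) :
    (GIT.IsGeomQuot a φ ↔ GIT.IsClosedAction a) ∧ (GIT.IsClosedAction a → GIT.IsUnivGeomQuot a φ) := by
  obtain ⟨A, _, _, w, _, _, β, hβ, h1, -⟩ := GITAffLib.exists_setup G hG
  obtain ⟨Y₀, φ₀, hY₀, hinv₀, hgood₀⟩ := GITAffLib.exists_isGood (w := w) hβ a
  obtain ⟨hu₀, -⟩ := hgood₀.main hβ h1 hinv₀
  obtain ⟨χ, hχ, -⟩ := hu₀.1.2 Y φ hq.1
  obtain ⟨χ', hχ', -⟩ := hq.2 Y₀ φ₀ hu₀.1.1
  have e1 : χ ≫ χ' = 𝟙 Y₀ := (hu₀.1.2 Y₀ φ₀ hu₀.1.1).unique
    (by rw [← Category.assoc, hχ, hχ']) (Category.comp_id _)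
  have e2 : χ' ≫ χ = 𝟙 Y := (hq.2 Y φ hq.1).unique
    (by rw [← Category.assoc, hχ', hχ]) (Category.comp_id _)
  let χi : Y₀ ≅ Y := ⟨χ, χ', e1, e2⟩
  have hgood : GITAffLib.IsGood w a φ β := by
    obtain ⟨R, S, i₁, i₂, i₃, i₄, v, vY, j, hc, hG'⟩ := hgood₀
    refine ⟨R, S, i₁, i₂, i₃, i₄, v, vY ≪≫ χi, j, ?_, hG'⟩
    rw [Iso.trans_hom, ← Category.assoc, ← hc, Category.assoc, hχ]
  obtain ⟨huniv, hsub⟩ := hgood.main hβ h1 hq.1
  haveI : IsIso χi.inv := χi.symm.isIso_hom
  haveI : IsIso χi.inv.left := (Over.forget _).map_isIso χi.inv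
  haveI : IsAffine Y.left := IsAffine.of_isIso χi.inv.left
  have hgeo : GIT.IsClosedAction a → GIT.IsUnivGeomQuot a φ := fun hca => by
    have horb := GITAffLib.psiY_surjective_of_isClosedAction hβ h1 hgood hq.1 hca
    refine ⟨⟨hq.1, GITQuotLib.univCat_surjective huniv, horb, hsub,
      GITQuotLib.univCat_sections huniv⟩, fun X' Y' pr φ' g hg sq a' he hi => ?_⟩
    have hu' := GITQuotLib.univCat_baseChange huniv sq a' he hi
    exact ⟨hi, GITQuotLib.univCat_surjective hu', GITQuotLib.psiY_surjective_baseChange hq.1 horb sq a' he hi,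
      MorphismProperty.of_isPullback (P := MorphismProperty.universally (topologically @IsQuotientMap))
        (sq.map (Over.forget _)) hsub,
      GITQuotLib.univCat_sections hu'⟩
  refine ⟨⟨fun hgq => ?_, fun hca => (hgeo hca).1⟩, hgeo⟩
  exact GITAffLib.isClosedAction_of_isGeomQuot hgq

end Groth.Agent.S11433
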