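import Groth.Statements.S11438
import Groth.Agent.AVAmpleLib.CollapseFactor

set_option autoImplicit false
universe u
open CategoryTheory MonoidalCategory CartesianMonoidalCategory MonObj GrpObj AlgebraicGeometry Topology
open GIT

namespace Groth.Agent.S11438

/-- Let S be connected and locally Noetherian, G a locally Noetherian group scheme separated over S, X →
S proper and flat with κ(s) → H⁰(X_s, O_{X_s}) bijective for every s, and f, g : X → G morphisms
over S which agree on one fibre X_s. Then there is a section t of G over S with f = (t ∘ p) · g, the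
product taken in the group of X-valued points of G. -/
theorem result (S : Scheme.{u}) [IsLocallyNoetherian S] [ConnectedSpace S]
    (X G : Over S) [GrpObj G] [IsLocallyNoetherian G.left] [IsSeparated G.hom] [IsProper X.hom] [Flat X.hom]
    (h0 : ∀ s : S, Function.Bijective (Limits.pullback.snd X.hom (S.fromSpecResidueField s)).appTop)
    (f g : X ⟶ G) (s : S)
    (hs : Limits.pullback.fst X.hom (S.fromSpecResidueField s) ≫ f.left =
      Limits.pullback.fst X.hom (S.fromSpecResidueField s) ≫ g.left) :
    ∃ t : 𝟙_ (Over S) ⟶ G, f = (toUnit X ≫ t) * g := by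
  haveI : LocallyOfFinitePresentation X.hom := UOpenLib.locallyOfFinitePresentation_of_isLocallyNoetherian X.hom
  have h := AVAmpleLib.h0Fib_of_bijective X.hom h0
  have ht : s ∈ H0Lib.collapse X.hom (f * g⁻¹).left := by
    let T : Over S := Over.mk (Limits.pullback.fst X.hom (S.fromSpecResidueField s) ≫ X.hom)
    let a : T ⟶ X := Over.homMk (Limits.pullback.fst X.hom (S.fromSpecResidueField s)) rfl
    have hafg : a ≫ f = a ≫ g := by ext1; exact hs
    have ha : a ≫ (f * g⁻¹) = 1 := by rw [MonObj.comp_mul, GrpObj.comp_inv, hafg, mul_inv_cancel]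
    refine ⟨η[G].left.base s, fun x hx => ?_⟩
    obtain ⟨z, rfl⟩ : x ∈ Set.range (X.hom.fiberι s).base := by rw [X.hom.range_fiberι]; exact hx
    exact (congrArg (fun m : T.left ⟶ G.left => m.base z) (congrArg CommaMorphism.left ha)).trans
      (congrArg η[G].left.base hx)
  obtain ⟨k, hk, hfk⟩ := AVAmpleLib.exists_factor_of_collapse X.hom h (𝟙 S) G.hom (f * g⁻¹).left
    ((Over.w _).trans (Category.comp_id _).symm) ht
  refine ⟨Over.homMk k hk, ?_⟩
  have e : f * g⁻¹ = toUnit X ≫ Over.homMk k hk := by
    ext1
    exact hfk
  rw [← e, inv_mul_cancel_right]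

end Groth.Agent.S11438
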