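import Groth.Statements.S11439
import Groth.Agent.AVAmpleLib.CollapseFactor

set_option autoImplicit false
universe u
open CategoryTheory MonoidalCategory CartesianMonoidalCategory MonObj GrpObj AlgebraicGeometry Topology
open GIT

namespace Groth.Agent.S11439

/-- Let S be locally Noetherian, G a locally Noetherian group scheme separated over S, X → S proper and
flat with κ(s) → H⁰(X_s, O_{X_s}) bijective for every s, and Y connected, locally Noetherian,
separated over S with a section over S. Then every morphism f : X ×_S Y → G over S factors as f = (g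
∘ p₁) · (h ∘ p₂) with g : X → G and h : Y → G. -/
theorem result (S : Scheme.{u}) [IsLocallyNoetherian S]
    (X Y G : Over S) [GrpObj G] [IsLocallyNoetherian G.left] [IsSeparated G.hom] [IsProper X.hom] [Flat X.hom]
    (h0 : ∀ s : S, Function.Bijective (Limits.pullback.snd X.hom (S.fromSpecResidueField s)).appTop)
    [IsLocallyNoetherian Y.left] [IsSeparated Y.hom] [ConnectedSpace Y.left] (e : 𝟙_ (Over S) ⟶ Y)
    (f : X ⊗ Y ⟶ G) :
    ∃ (g : X ⟶ G) (h : Y ⟶ G), f = (fst X Y ≫ g) * (snd X Y ≫ h) := by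
  haveI : LocallyOfFinitePresentation X.hom := UOpenLib.locallyOfFinitePresentation_of_isLocallyNoetherian X.hom
  let s : S := Y.hom.base (Classical.arbitrary Y.left)
  let g : X ⟶ G := lift (𝟙 X) (toUnit X ≫ e) ≫ f
  let φ : X ⊗ Y ⟶ G := (fst X Y ≫ g)⁻¹ * f
  have he : (X ◁ e) = fst X (𝟙_ (Over S)) ≫ lift (𝟙 X) (toUnit X ≫ e) := by
    ext1 <;> simp [toUnit_unique (snd X (𝟙_ (Over S))) (fst X _ ≫ toUnit X)]
  have hs : (X ◁ e) ≫ φ = snd X _ ≫ (1 : _ ⟶ G) := by
    rw [MonObj.comp_one, he, Category.assoc, MonObj.comp_mul, GrpObj.comp_inv, lift_fst_assoc, Category.id_comp,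
      inv_mul_cancel, MonObj.comp_one]
  let p : (X ⊗ Y).left ⟶ Y.left := (snd X Y).left
  haveI : IsProper p := inferInstanceAs (IsProper (Limits.pullback.snd X.hom Y.hom))
  haveI : Flat p := inferInstanceAs (Flat (Limits.pullback.snd X.hom Y.hom))
  haveI : LocallyOfFinitePresentation p :=
    inferInstanceAs (LocallyOfFinitePresentation (Limits.pullback.snd X.hom Y.hom))
  have h : H0Lib.H0Fib p :=
    (AVAmpleLib.h0Fib_of_bijective X.hom h0).baseChange (IsPullback.of_hasPullback X.hom Y.hom)
  obtain ⟨k, hk, hfk⟩ := AVAmpleLib.exists_factor_of_collapse p h Y.hom G.hom φ.left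
    ((Over.w φ).trans (Over.w (snd X Y)).symm) (AVAmpleLib.mem_collapse_of_slice φ e 1 hs s)
  have hφ : φ = snd X Y ≫ Over.homMk k hk := by
    ext1
    exact hfk
  exact ⟨g, Over.homMk k hk, by rw [← hφ, mul_inv_cancel_left]⟩

end Groth.Agent.S11439
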