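import Groth.Statements.S11441
import Mathlib.AlgebraicGeometry.Morphisms.ClosedImmersion
import Mathlib.AlgebraicGeometry.PullbackCarrier

set_option autoImplicit false
universe u
open CategoryTheory MonoidalCategory CartesianMonoidalCategory MonObj GrpObj AlgebraicGeometry Topology
open GIT

namespace Groth.Agent.S11441

/-- If a geometric quotient of X by G over S exists, then the action of G on X is closed (orbits of
geometric points are closed in the geometric fibres). -/
theorem result (S : Scheme.{u}) (G X Y : Over S) [GrpObj G]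
    (a : AlgGrp.Action G X) (φ : X ⟶ Y) (h : GIT.IsGeomQuot a φ) : GIT.IsClosedAction a := by
  intro Ω _ _ T e f
  haveI : Subsingleton T.left := e.hom.homeomorph.injective.subsingleton
  let γ : T ⟶ Y ⊗ T := lift (f ≫ φ) (𝟙 T)
  haveI : IsClosedImmersion γ.left := isClosedImmersion_of_comp_eq_id (snd Y T).left γ.left
    (by rw [← Over.comp_left, lift_snd]; rfl)
  have hψ : psi a f ≫ (φ ▷ T) = snd G T ≫ γ := by
    apply CartesianMonoidalCategory.hom_ext
    · simp only [psi, γ, Category.assoc, whiskerRight_fst, lift_fst, lift_fst_assoc]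
      rw [show a.act ≫ φ = snd G X ≫ φ from h.inv, whiskerLeft_snd_assoc]
    · simp [psi, γ]
  have hC : Set.range (psi a f).left.base = (φ ▷ T).left.base ⁻¹' Set.range γ.left.base := by
    refine Set.Subset.antisymm ?_ ?_
    · rintro _ ⟨q, rfl⟩
      refine ⟨(snd G T).left.base q, ?_⟩
      rw [← Scheme.Hom.comp_apply, ← Over.comp_left, ← hψ, Over.comp_left, Scheme.Hom.comp_apply]
    · rintro z ⟨t, ht⟩
      obtain ⟨z0, hz0, -⟩ := Scheme.Pullback.exists_preimage_pullback
        (f := (φ ▷ T).left) (g := γ.left) z t ht.symm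
      let Z : Over S := Over.mk (Limits.pullback.fst (φ ▷ T).left γ.left ≫ (X ⊗ T).hom)
      let em : Z ⟶ X ⊗ T := Over.homMk (Limits.pullback.fst (φ ▷ T).left γ.left) rfl
      let pm : Z ⟶ T := Over.homMk (Limits.pullback.snd (φ ▷ T).left γ.left) (by
        show _ = Limits.pullback.fst (φ ▷ T).left γ.left ≫ (X ⊗ T).hom
        rw [← Over.w γ, ← Category.assoc, ← Limits.pullback.condition, Category.assoc,
          Over.w (φ ▷ T)])
      have hep : em ≫ (φ ▷ T) = pm ≫ γ := Over.OverMorphism.ext Limits.pullback.condition
      have hx : (em ≫ fst X T) ≫ φ = (pm ≫ f) ≫ φ := by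
        have := congrArg (· ≫ fst Y T) hep
        simpa [γ] using this
      have hp : em ≫ snd X T = pm := by
        have := congrArg (· ≫ snd Y T) hep
        simpa [γ] using this
      let l : Z.left ⟶ Limits.pullback φ.left φ.left :=
        Limits.pullback.lift (em ≫ fst X T).left (pm ≫ f).left (congrArg CommaMorphism.left hx)
      obtain ⟨g, hg⟩ := h.orbit (l.base z0)
      obtain ⟨w, -, hw⟩ := Scheme.Pullback.exists_preimage_pullback
        (f := PsiY a φ h.inv) (g := l) g z0 hg
      let W : Over S := Over.mk (Limits.pullback.snd (PsiY a φ h.inv) l ≫ Z.hom)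
      have c1 : Limits.pullback.fst (PsiY a φ h.inv) l ≫ a.act.left =
          Limits.pullback.snd (PsiY a φ h.inv) l ≫ (em ≫ fst X T).left := by
        have := congrArg (· ≫ Limits.pullback.fst φ.left φ.left)
          (Limits.pullback.condition (f := PsiY a φ h.inv) (g := l))
        simp only [PsiY, l, Category.assoc, Limits.pullback.lift_fst, Limits.pullback.lift_snd] at this
        exact this
      have c2 : Limits.pullback.fst (PsiY a φ h.inv) l ≫ (snd G X).left =
          Limits.pullback.snd (PsiY a φ h.inv) l ≫ (pm ≫ f).left := by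
        have := congrArg (· ≫ Limits.pullback.snd φ.left φ.left)
          (Limits.pullback.condition (f := PsiY a φ h.inv) (g := l))
        simp only [PsiY, l, Category.assoc, Limits.pullback.lift_fst, Limits.pullback.lift_snd] at this
        exact this
      let a1 : W ⟶ G ⊗ X := Over.homMk (Limits.pullback.fst (PsiY a φ h.inv) l) (by
        show _ = Limits.pullback.snd (PsiY a φ h.inv) l ≫ Z.hom
        rw [← Over.w a.act, ← Category.assoc, c1, Category.assoc, Over.w (em ≫ fst X T)])
      let a2 : W ⟶ Z := Over.homMk (Limits.pullback.snd (PsiY a φ h.inv) l) rfl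
      have hact : a1 ≫ a.act = a2 ≫ em ≫ fst X T := Over.OverMorphism.ext c1
      have hsnd : a1 ≫ snd G X = a2 ≫ pm ≫ f := Over.OverMorphism.ext c2
      let ξ : W ⟶ G ⊗ T := lift (a1 ≫ fst G X) (a2 ≫ pm)
      have hξ : ξ ≫ psi a f = a2 ≫ em := by
        apply CartesianMonoidalCategory.hom_ext
        · simp only [ξ, psi, Category.assoc, lift_fst, lift_whiskerLeft_assoc]
          rw [← hact]
          congr 1
          apply CartesianMonoidalCategory.hom_ext
          · simp
          · rw [lift_snd, hsnd]
        · simp [ξ, psi, hp]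
      refine ⟨ξ.left.base w, ?_⟩
      rw [← Scheme.Hom.comp_apply, ← Over.comp_left, hξ, Over.comp_left, Scheme.Hom.comp_apply]
      show em.left.base ((Limits.pullback.snd (PsiY a φ h.inv) l).base w) = z
      rw [hw]
      exact hz0
  rw [hC]
  exact γ.left.isClosedEmbedding.isClosed_range.preimage (φ ▷ T).left.continuous

end Groth.Agent.S11441
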