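import Groth.Statements.S11443
import Groth.Agent.OneOrbitLib.Sections
import Groth.Agent.BranchLib.One

set_option autoImplicit false
universe u
open CategoryTheory MonoidalCategory CartesianMonoidalCategory MonObj GrpObj AlgebraicGeometry Topology
open GIT

set_option synthInstance.maxHeartbeats 400000
set_option maxHeartbeats 1000000
set_option backward.isDefEq.respectTransparency false
set_option linter.style.haveILetI false
attribute [-instance] CategoryTheory.ReflQuiver.toQuiver CompletePartialOrder.toPartialOrder CompletePartialOrder.toOrderBot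

namespace Groth.Agent.S11443

open CategoryTheory.Limits

theorem isGeomUnibranch_stalk {N : Scheme.{u}} [IsIntegral N] (h : ∀ U : N.affineOpens, IsIntegrallyClosed Γ(N, U))
    (x : N) : CAlg2.IsGeomUnibranch (N.presheaf.stalk x) := by
  obtain ⟨W, hW, hxW, -⟩ := exists_isAffineOpen_mem_and_subset (x := x) (U := ⊤) trivial
  haveI : IsIntegrallyClosed Γ(N, W) := h ⟨W, hW⟩
  haveI : Nonempty W := ⟨⟨x, hxW⟩⟩
  let _ := TopCat.Presheaf.algebra_section_stalk N.presheaf (⟨x, hxW⟩ : W)
  haveI := hW.isLocalization_stalk ⟨x, hxW⟩
  haveI : IsIntegrallyClosed (N.presheaf.stalk x) := isIntegrallyClosed_of_isLocalization (N.presheaf.stalk x)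
    (hW.primeIdealOf ⟨x, hxW⟩).asIdeal.primeCompl (Ideal.primeCompl_le_nonZeroDivisors _)
  exact BranchLib.isGeomUnibranch_of_isIntegrallyClosed _


/-- Let S be Noetherian and normal, G a group scheme of finite type and universally open over S acting
on X, X and Y irreducible normal Noetherian schemes of finite type over S, and φ : X → Y a dominant
invariant morphism over S of finite type, such that the function field of Y has characteristic zero
and every geometric fibre of φ contains at most one orbit. Then φ is universally open, and when φ is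
surjective (Y, φ) is a geometric quotient of X by G. (The published statement concludes that (φ(X),
φ) is a geometric quotient, φ(X) being open; this row states the case φ(X) = Y and assumes S, X, Y
Noetherian, S normal and X, Y of finite type over S, hypotheses the published argument uses
throughout.) -/
theorem result (S : Scheme.{u}) [IsNoetherian S]
    (hS : ∀ U : S.affineOpens, IsIntegrallyClosed Γ(S, U))
    (G X Y : Over S) [GrpObj G] [LocallyOfFiniteType G.hom] [QuasiCompact G.hom] [UniversallyOpen G.hom]
    [IsIntegral X.left] [IsNoetherian X.left] (hX : ∀ U : X.left.affineOpens, IsIntegrallyClosed Γ(X.left, U))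
    [IsIntegral Y.left] [IsNoetherian Y.left] (hY : ∀ U : Y.left.affineOpens, IsIntegrallyClosed Γ(Y.left, U))
    [LocallyOfFiniteType X.hom] [LocallyOfFiniteType Y.hom] [CharZero Y.left.functionField]
    (a : AlgGrp.Action G X) (φ : X ⟶ Y) [IsDominant φ.left] [LocallyOfFiniteType φ.left]
    (hi : GIT.IsInvariant a φ)
    (hii : ∀ (Ω : Type u) [Field Ω] [IsAlgClosed Ω] (T : Over S) (_ : T.left ≅ Spec (CommRingCat.of Ω))
      (x₁ x₂ : T ⟶ X), x₁ ≫ φ = x₂ ≫ φ → ∃ g : T ⟶ G, lift g x₂ ≫ a.act = x₁) :
    UniversallyOpen φ.left ∧ (Surjective φ.left → GIT.IsGeomQuot a φ) := by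
  haveI : QuasiCompact X.hom := quasiCompact_of_compactSpace X.hom
  have hopen := OneOrbitLib.universallyOpen (isGeomUnibranch_stalk hY) hi hii
  refine ⟨hopen, fun hs => ⟨hi, hs.surj, OneOrbitLib.psiY_surjective hi hii, ?_,
    fun U => OneOrbitLib.range_app_eq hi hii hs.surj hY U⟩⟩
  intro P Y' i₁ g f' sq
  haveI : UniversallyOpen f' := MorphismProperty.of_isPullback sq.flip hopen
  haveI : Surjective f' := MorphismProperty.of_isPullback sq.flip hs
  exact f'.isOpenMap.isQuotientMap f'.continuous f'.surjective

end Groth.Agent.S11443
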