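import Groth.Statements.S11450
import Mathlib
import Groth.Agent.TorDimLib.FlatVanish

set_option autoImplicit false
universe u
open CategoryTheory
open DefT

namespace Groth.Agent.S11450

variable {A : Type u} [CommRing A] (M : Type u) [AddCommGroup M] [Module A M]

/-- There is a projective cover of `N` whose kernel stays injective after tensoring with `M`. -/
def GoodCover (N : Type u) [AddCommGroup N] [Module A N] : Prop :=
  ∃ (F : Type u) (_ : AddCommGroup F) (_ : Module A F) (_ : Module.Projective A F) (π : F →ₗ[A] N),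
    Function.Surjective π ∧ Function.Injective ((LinearMap.ker π).subtype.lTensor M)

lemma goodCover_of_subsingleton (N : Type u) [AddCommGroup N] [Module A N] [Subsingleton N] :
    GoodCover (A := A) M N :=
  ⟨PUnit, inferInstance, inferInstance, inferInstance, 0, Function.surjective_to_subsingleton _,
    Function.injective_of_subsingleton _⟩

lemma GoodCover.of_equiv {N N' : Type u} [AddCommGroup N] [Module A N] [AddCommGroup N'] [Module A N']
    (e : N ≃ₗ[A] N') (h : GoodCover (A := A) M N) : GoodCover (A := A) M N' := by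
  obtain ⟨F, _, _, _, π, hπ, hi⟩ := h
  refine ⟨F, inferInstance, inferInstance, inferInstance, e.toLinearMap ∘ₗ π, e.surjective.comp hπ, ?_⟩
  rw [LinearMap.ker_comp, e.ker, Submodule.comap_bot]
  exact hi

lemma GoodCover.extension {N₁ N₂ N₃ : Type u} [AddCommGroup N₁] [Module A N₁] [AddCommGroup N₂]
    [Module A N₂] [AddCommGroup N₃] [Module A N₃] (f : N₁ →ₗ[A] N₂) (g : N₂ →ₗ[A] N₃)
    (hf : Function.Injective f) (hg : Function.Surjective g) (hfg : Function.Exact f g)
    (h₁ : GoodCover (A := A) M N₁) (h₃ : GoodCover (A := A) M N₃) : GoodCover (A := A) M N₂ := by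
  obtain ⟨F₁, _, _, _, π₁, hπ₁, hi₁⟩ := h₁
  obtain ⟨F₃, _, _, _, π₃, hπ₃, hi₃⟩ := h₃
  obtain ⟨l, hl⟩ := Module.projective_lifting_property g π₃ hg
  have hgl : ∀ y, g (l y) = π₃ y := fun y => LinearMap.congr_fun hl y
  let π : F₁ × F₃ →ₗ[A] N₂ := LinearMap.coprod (f ∘ₗ π₁) l
  have hπ : Function.Surjective π := fun z => by
    obtain ⟨y, hy⟩ := hπ₃ (g z)
    obtain ⟨w, hw⟩ := (hfg (z - l y)).mp (by rw [map_sub, hgl, hy, sub_self])
    obtain ⟨x, rfl⟩ := hπ₁ w
    exact ⟨(x, y), by simp [π, hw]⟩
  let i : LinearMap.ker π₁ →ₗ[A] LinearMap.ker π :=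
    (LinearMap.inl A F₁ F₃ ∘ₗ (LinearMap.ker π₁).subtype).codRestrict _ fun x => by
      simp [π, LinearMap.mem_ker.mp x.2]
  let q : LinearMap.ker π →ₗ[A] LinearMap.ker π₃ :=
    (LinearMap.snd A F₁ F₃ ∘ₗ (LinearMap.ker π).subtype).codRestrict _ fun x => by
      have h := congrArg g (LinearMap.mem_ker.mp x.2)
      simp only [π, LinearMap.coprod_apply, map_add, LinearMap.comp_apply, hfg.apply_apply_eq_zero,
        zero_add, hgl, map_zero] at h
      exact h
  have hiq : Function.Exact i q := fun x => by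
    refine ⟨fun hx => ?_, ?_⟩
    · have hx2 : (x : F₁ × F₃).2 = 0 := congrArg Subtype.val hx
      have hk := LinearMap.mem_ker.mp x.2
      simp only [π, LinearMap.coprod_apply, hx2, map_zero, add_zero, LinearMap.comp_apply] at hk
      have hx1 : π₁ (x : F₁ × F₃).1 = 0 := hf (by rw [hk, map_zero])
      exact ⟨⟨_, hx1⟩, Subtype.ext (Prod.ext (by simp [i]) (by simp [i, hx2]))⟩
    · rintro ⟨y, rfl⟩
      exact Subtype.ext (by simp [i, q])
  have hqs : Function.Surjective q := fun y => by
    obtain ⟨w, hw⟩ := (hfg (l y)).mp (by rw [hgl, LinearMap.mem_ker.mp y.2])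
    obtain ⟨x, rfl⟩ := hπ₁ w
    exact ⟨⟨(-x, y), by simp [π, hw]⟩, Subtype.ext (by simp [q])⟩
  refine ⟨F₁ × F₃, inferInstance, inferInstance, inferInstance, π, hπ, ?_⟩
  refine (injective_iff_map_eq_zero _).mpr fun z hz => ?_
  have hqz : q.lTensor M z = 0 := by
    refine hi₃ ?_
    rw [map_zero, ← LinearMap.lTensor_comp_apply,
      show (LinearMap.ker π₃).subtype ∘ₗ q = LinearMap.snd A F₁ F₃ ∘ₗ (LinearMap.ker π).subtype from rfl,
      LinearMap.lTensor_comp_apply, hz, map_zero]
  obtain ⟨w, rfl⟩ := (lTensor_exact M hiq hqs z).mp hqz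
  suffices w = 0 by rw [this, map_zero]
  refine hi₁ ?_
  rw [map_zero, show (LinearMap.ker π₁).subtype =
      LinearMap.fst A F₁ F₃ ∘ₗ (LinearMap.ker π).subtype ∘ₗ i from LinearMap.ext fun _ => rfl,
    LinearMap.lTensor_comp_apply, LinearMap.lTensor_comp_apply, hz, map_zero]

lemma injective_lTensor_of_goodCover (J : Ideal A) (h : GoodCover (A := A) M (A ⧸ J)) :
    Function.Injective (J.subtype.lTensor M) := by
  obtain ⟨F, _, _, _, π, hπ, hK⟩ := h
  obtain ⟨a, ha⟩ := Module.projective_lifting_property π (J.mkQ : A →ₗ[A] A ⧸ J) hπ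
  obtain ⟨b, hb⟩ := Module.projective_lifting_property (J.mkQ : A →ₗ[A] A ⧸ J) π J.mkQ_surjective
  let a' : J →ₗ[A] LinearMap.ker π := (a ∘ₗ J.subtype).codRestrict _ fun x => by
    rw [LinearMap.mem_ker, LinearMap.comp_apply, ← LinearMap.comp_apply π a, ha]
    exact (Submodule.Quotient.mk_eq_zero J).2 x.2
  let b' : LinearMap.ker π →ₗ[A] J := (b ∘ₗ (LinearMap.ker π).subtype).codRestrict _ fun x => by
    rw [← Submodule.Quotient.mk_eq_zero J, ← Submodule.mkQ_apply, LinearMap.comp_apply,
      ← LinearMap.comp_apply J.mkQ b, hb]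
    exact x.2
  let g : A →ₗ[A] J := (b ∘ₗ a - LinearMap.id).codRestrict _ fun x => by
    rw [← Submodule.Quotient.mk_eq_zero J, ← Submodule.mkQ_apply, LinearMap.sub_apply, map_sub,
      LinearMap.comp_apply, ← LinearMap.comp_apply J.mkQ b, hb, ← LinearMap.comp_apply π a, ha]
    simp
  have hid : (LinearMap.id : J →ₗ[A] J) = b' ∘ₗ a' - g ∘ₗ J.subtype :=
    LinearMap.ext fun x => Subtype.ext (by
      show (x : A) = b (a x) - (b (a x) - x)
      rw [sub_sub_cancel])
  refine (injective_iff_map_eq_zero _).2 fun x hx => ?_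
  have h1 : a'.lTensor M x = 0 := (injective_iff_map_eq_zero _).1 hK _ (by
    rw [← LinearMap.comp_apply, ← LinearMap.lTensor_comp,
      show (LinearMap.ker π).subtype ∘ₗ a' = a ∘ₗ J.subtype from rfl, LinearMap.lTensor_comp,
      LinearMap.comp_apply, hx, map_zero])
  have h2 : (LinearMap.id : J →ₗ[A] J).lTensor M x = 0 := by
    rw [hid, LinearMap.lTensor_sub, LinearMap.sub_apply, LinearMap.lTensor_comp, LinearMap.lTensor_comp,
      LinearMap.comp_apply, LinearMap.comp_apply, h1, hx, map_zero, map_zero, sub_zero]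
  simpa using h2

lemma goodCover_of_tor (N : Type u) [AddCommGroup N] [Module A N] (h : Subsingleton (DRing.Tor A 1 M N)) :
    GoodCover (A := A) M N := by
  obtain ⟨P⟩ := (inferInstance : HasProjectiveResolution (ModuleCat.of A N)).out
  let π : P.complex.X 0 →ₗ[A] N := (P.π.f 0).hom
  let D1 := (P.complex.d 1 0).hom
  have hπ : Function.Surjective π := (ModuleCat.epi_iff_surjective (P.π.f 0)).1 inferInstance
  have hex : Function.Exact D1 π :=
    (ShortComplex.ShortExact.moduleCat_exact_iff_function_exact _).1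
      (ShortComplex.exact_of_g_is_cokernel (S := ShortComplex.mk _ _ P.complex_d_comp_π_f_zero) P.isColimitCokernelCofork)
  have : Module.Projective A (P.complex.X 0) := (IsProjective.iff_projective _).2 (P.projective 0)
  refine ⟨P.complex.X 0, inferInstance, inferInstance, this, π, hπ, ?_⟩
  have h0 := TorDimLib.exactAtSucc_of_subsingleton_tor P 0 h
  refine (injective_iff_map_eq_zero _).2 fun y hy => ?_
  let D1' : P.complex.X 1 →ₗ[A] LinearMap.ker π := D1.codRestrict _ hex.apply_apply_eq_zero
  have hD1' : Function.Surjective D1' := fun x => by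
    obtain ⟨z, hz⟩ := (hex x.1).1 x.2
    exact ⟨z, Subtype.ext hz⟩
  obtain ⟨z, rfl⟩ := LinearMap.lTensor_surjective M hD1' y
  rw [← LinearMap.comp_apply, ← LinearMap.lTensor_comp] at hy
  obtain ⟨w, rfl⟩ := (h0 z).1 hy
  rw [← LinearMap.comp_apply, ← LinearMap.lTensor_comp]
  rw [show D1'.comp (P.complex.d 2 1).hom = 0 from LinearMap.ext fun x => Subtype.ext (by
    show ((P.complex.d 2 1) ≫ (P.complex.d 1 0)).hom x = 0
    rw [HomologicalComplex.d_comp_d]; rfl)]
  simp


/-- A module M over a Noetherian commutative ring A is flat if and only if Tor_1^A(M, A/p) vanishes for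
every prime ideal p of A. -/
theorem result (A : Type u) [CommRing A]
    [IsNoetherianRing A] (M : Type u) [AddCommGroup M] [Module A M] :
    Module.Flat A M ↔ ∀ p : Ideal A, p.IsPrime →
      Limits.IsZero (((CategoryTheory.Tor (ModuleCat.{u} A) 1).obj (ModuleCat.of A M)).obj (ModuleCat.of A (A ⧸ p))) := by
  constructor
  · intro _ p _
    obtain ⟨P⟩ := (inferInstance : HasProjectiveResolution (ModuleCat.of A (A ⧸ p))).out
    have := TorDimLib.subsingleton_tor_of_exactAtSucc P 0 (TorDimLib.exactAtSucc_of_flat_left (M := M) P 0)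
    exact ModuleCat.isZero_of_iff_subsingleton.2 this
  · intro h
    rw [Module.Flat.iff_lTensor_injective']
    intro J
    refine injective_lTensor_of_goodCover M J ?_
    refine IsNoetherianRing.induction_on_isQuotientEquivQuotientPrime A
      (motive := fun N _ _ _ => GoodCover (A := A) M N) (M := A ⧸ J) inferInstance ?_ ?_ ?_
    · intro N _ _ _ _
      exact goodCover_of_subsingleton M N
    · intro N _ _ _ p e
      exact (goodCover_of_tor M _ (ModuleCat.subsingleton_of_isZero (h p.1 p.2))).of_equiv M e.symm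
    · intro N₁ _ _ _ N₂ _ _ _ N₃ _ _ _ f g hf hg hfg h₁ h₃
      exact h₁.extension M f g hf hg hfg h₃

end Groth.Agent.S11450
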