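import Groth.Statements.S11451
import Groth.Agent.ArtLiftLib.Main
import Groth.Agent.PerfectFieldLib.FormallySmooth

set_option autoImplicit false
universe u
open DefT

namespace Groth.Agent.S11451

/-- Let k be an algebraically closed field and A a local k-algebra essentially of finite type over k
with residue field k. Then regularity of A as a local ring is equivalent to the following: for every
local k-algebra B' of finite dimension over k, every ideal J of B' of square zero and every
k-algebra homomorphism f : A → B'/J, there is a k-algebra homomorphism g : A → B' lifting f. (Local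
k-algebras of finite k-dimension are exactly the local Artin rings finite over k; lifting against
square-zero kernels is equivalent to lifting against nilpotent ones by induction.) -/
theorem result (k : Type u) [Field k] [IsAlgClosed k]
    (A : Type u) [CommRing A] [IsLocalRing A] [Algebra k A] [Algebra.EssFiniteType k A]
    (hres : Function.Surjective (algebraMap k (IsLocalRing.ResidueField A))) :
    IsRegularLocalRing A ↔
      ∀ (B' : Type u) [CommRing B'] [IsLocalRing B'] [Algebra k B'] [Module.Finite k B']
        (J : Ideal B'), J ^ 2 = ⊥ → ∀ f : A →ₐ[k] B' ⧸ J,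
          ∃ g : A →ₐ[k] B', (Ideal.Quotient.mkₐ k J).comp g = f := by
  haveI : IsNoetherianRing A := Algebra.EssFiniteType.isNoetherianRing k A
  haveI : Algebra.FormallySmooth k (IsLocalRing.ResidueField A) :=
    Groth.Agent.PerfectFieldLib.formallySmooth_of_perfectField k (IsLocalRing.ResidueField A)
  refine ⟨fun hA B' _ _ _ _ J hJ f => ?_, fun h =>
    CohenLib.isRegularLocalRing_of_liftsAdic (ArtLift.liftsAdic hres h)⟩
  haveI : Nontrivial (B' ⧸ J) := Ideal.Quotient.nontrivial_iff.2 fun hJ' => by
    rw [hJ', Ideal.top_pow] at hJ; exact top_ne_bot hJ
  haveI : IsLocalRing (B' ⧸ J) := IsLocalRing.of_surjective' _ Ideal.Quotient.mk_surjective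
  obtain ⟨l, hl⟩ := ArtLift.exists_pow_map_eq_zero hres f
  exact CohenLib.liftsAdic_of_regular k A B' J hJ f ⟨l, hl⟩

end Groth.Agent.S11451
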