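import Groth.Statements.S11452
import Groth.Agent.DefLib.AffineExt
import Groth.Agent.DefLib.ArtFlat
import Groth.Agent.FlatLib.SmoothSource
import Groth.Agent.S0440

set_option autoImplicit false
universe u
open CategoryTheory AlgebraicGeometry
open DefT

namespace Groth.Agent.S11452


open TensorProduct in
/-- A flat lift of a smooth algebra over a local Artinian augmented base is trivial. -/
theorem exists_trivialization {k A B B' : Type u} [Field k] [CommRing A] [IsLocalRing A] [IsArtinianRing A]
    [Algebra k A] [CommRing B] [Algebra k B] [Algebra.FormallySmooth k B] [CommRing B'] [Algebra A B']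
    [Module.Flat A B'] (e : A →ₐ[k] k) (π : B' →+* B) (hπ : Function.Surjective π)
    (hker : RingHom.ker π ≤ (RingHom.ker e.toRingHom).map (algebraMap A B'))
    (hcomp : π.comp (algebraMap A B') = (algebraMap k B).comp e.toRingHom) :
    ∃ Φ : (B ⊗[k] A) ≃+* B', ∀ a, Φ (1 ⊗ₜ a) = algebraMap A B' a := by
  letI : Algebra k B' := ((algebraMap A B').comp (algebraMap k A)).toAlgebra
  haveI : IsScalarTower k A B' := IsScalarTower.of_algebraMap_eq' rfl
  have hπA : ∀ a, π (algebraMap A B' a) = algebraMap k B (e a) := fun a => RingHom.congr_fun hcomp a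
  have hπk : ∀ c, π (algebraMap k B' c) = algebraMap k B c := fun c => by
    show π (algebraMap A B' (algebraMap k A c)) = _
    rw [hπA, e.commutes]; rfl
  let π' : B' →ₐ[k] B := AlgHom.mk π hπk
  have hm : RingHom.ker e.toRingHom = IsLocalRing.maximalIdeal A :=
    IsLocalRing.eq_maximalIdeal (RingHom.ker_isMaximal_of_surjective e.toRingHom fun c => ⟨algebraMap k A c, e.commutes c⟩)
  have hnil : IsNilpotent (IsLocalRing.maximalIdeal A) :=
    IsLocalRing.jacobson_eq_maximalIdeal (R := A) ⊥ bot_ne_top ▸ IsArtinianRing.isNilpotent_jacobson_bot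
  have hnilπ : IsNilpotent (RingHom.ker π'.toRingHom) := by
    obtain ⟨n, hn⟩ := hnil
    refine ⟨n, ?_⟩
    have h1 := Ideal.pow_right_mono (hker.trans (Ideal.map_mono hm.le)) n
    rw [← Ideal.map_pow, hn, Ideal.zero_eq_bot, Ideal.map_bot, le_bot_iff] at h1
    exact h1
  let σ : B →ₐ[k] B' := Algebra.FormallySmooth.liftOfSurjective (AlgHom.id k B) π' hπ hnilπ
  have hσ : ∀ b, π (σ b) = b := fun b =>
    Algebra.FormallySmooth.liftOfSurjective_apply (AlgHom.id k B) π' hπ hnilπ b
  let Φ : (A ⊗[k] B) →ₐ[A] B' := Algebra.TensorProduct.lift (Algebra.ofId A B') σ fun _ _ => Commute.all _ _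
  have hΦ : ∀ a b, Φ (a ⊗ₜ b) = algebraMap A B' a * σ b := fun a b => Algebra.TensorProduct.lift_tmul ..
  have hpart : ∀ t : A ⊗[k] B, t - (1 : A) ⊗ₜ π (Φ t) ∈ IsLocalRing.maximalIdeal A • (⊤ : Submodule A (A ⊗[k] B)) := by
    intro t
    induction t using TensorProduct.induction_on with
    | zero => simp
    | add s t hs ht =>
      rw [map_add, map_add, TensorProduct.tmul_add, add_sub_add_comm]
      exact add_mem hs ht
    | tmul a b =>
      rw [hΦ, map_mul, hπA, hσ, ← Algebra.smul_def, ← TensorProduct.smul_tmul, ← TensorProduct.sub_tmul,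
        show a - e a • (1 : A) = (a - algebraMap k A (e a)) * 1 by rw [Algebra.smul_def, mul_one, mul_one],
        ← smul_eq_mul, ← TensorProduct.smul_tmul']
      refine Submodule.smul_mem_smul ?_ Submodule.mem_top
      rw [← hm, RingHom.mem_ker]
      show e (a - algebraMap k A (e a)) = 0
      rw [map_sub, e.commutes, Algebra.algebraMap_self, RingHom.id_apply, sub_self]
  obtain ⟨hinj, hflat⟩ := DefLib.splitInjective_of_injective_mod hnil Φ.toLinearMap fun x hx => by
    have h0 : π (Φ x) = 0 := by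
      refine Submodule.smul_induction_on hx (fun a ha y _ => ?_) fun y z hy hz => by rw [map_add, hy, hz, add_zero]
      rw [Algebra.smul_def, map_mul, hπA, show e a = 0 from hm.ge ha, map_zero, zero_mul]
    simpa [h0] using hpart x
  have hsurj : Function.Surjective Φ := by
    obtain ⟨n, hn⟩ := hnil
    have key : ∀ j, (⊤ : Submodule A B') ≤ LinearMap.range Φ.toLinearMap ⊔ IsLocalRing.maximalIdeal A ^ j • ⊤ := by
      intro j
      induction j with
      | zero => rw [pow_zero, Ideal.one_eq_top, Submodule.top_smul]; exact le_sup_right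
      | succ j ih =>
        have h1 : (⊤ : Submodule A B') ≤ LinearMap.range Φ.toLinearMap ⊔ IsLocalRing.maximalIdeal A • ⊤ := fun y _ => by
          refine Submodule.mem_sup.2 ⟨Φ (1 ⊗ₜ π y), LinearMap.mem_range_self Φ.toLinearMap (1 ⊗ₜ π y), y - Φ (1 ⊗ₜ π y), ?_, add_sub_cancel _ _⟩
          rw [Ideal.smul_top_eq_map]
          refine Ideal.map_mono hm.le (hker ?_)
          rw [RingHom.mem_ker, map_sub, hΦ, map_one, one_mul, hσ, sub_self]
        refine ih.trans (sup_le le_sup_left ?_)
        calc IsLocalRing.maximalIdeal A ^ j • (⊤ : Submodule A B') ≤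
            IsLocalRing.maximalIdeal A ^ j • (LinearMap.range Φ.toLinearMap ⊔ IsLocalRing.maximalIdeal A • ⊤) :=
              Submodule.smul_mono le_rfl h1
          _ ≤ _ := by
            rw [Submodule.smul_sup, ← Submodule.mul_smul, ← pow_succ]
            exact sup_le_sup_right Submodule.smul_le_right _
    intro y
    have := key n (Submodule.mem_top (x := y))
    rw [hn, Submodule.zero_eq_bot, Submodule.bot_smul, sup_bot_eq] at this
    exact this
  refine ⟨(Algebra.TensorProduct.comm k B A).toRingEquiv.trans (RingEquiv.ofBijective Φ ⟨hinj, hsurj⟩), fun a => ?_⟩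
  show Φ (a ⊗ₜ 1) = algebraMap A B' a
  rw [hΦ, map_one, mul_one]

/-- Let k be an algebraically closed field, X an affine scheme of finite type over k whose local rings
are all regular, A a local Artin k-algebra with a k-algebra augmentation e : A → k, and g : X' →
Spec A a flat morphism whose fibre over the k-point Spec k → Spec A given by e is X (with its
structure map to Spec k). Then there is an isomorphism from X' to the trivial deformation X ×_{Spec
k} Spec A compatible with the projections to Spec A. -/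
theorem result (k : Type u) [Field k]
    [IsAlgClosed k] (X : Scheme.{u}) (hX : X ⟶ Spec (CommRingCat.of k)) [IsAffine X]
    [LocallyOfFiniteType hX] (hreg : ∀ x : X, IsRegularLocalRing (X.presheaf.stalk x))
    (A : Type u) [CommRing A] [IsLocalRing A] [IsArtinianRing A] [Algebra k A] (e : A →ₐ[k] k)
    (X' : Scheme.{u}) (g : X' ⟶ Spec (CommRingCat.of A)) [Flat g] (i : X ⟶ X')
    (hsq : IsPullback i hX g (Spec.map (CommRingCat.ofHom e.toRingHom))) :
    ∃ φ : X' ≅ Limits.pullback hX (Spec.map (CommRingCat.ofHom (algebraMap k A))),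
      φ.hom ≫ Limits.pullback.snd hX (Spec.map (CommRingCat.ofHom (algebraMap k A))) = g := by
  haveI : Subsingleton (PrimeSpectrum A) :=
    ⟨fun p q => PrimeSpectrum.ext ((IsLocalRing.eq_maximalIdeal (IsArtinianRing.isMaximal_of_isPrime p.asIdeal)).trans
      (IsLocalRing.eq_maximalIdeal (IsArtinianRing.isMaximal_of_isPrime q.asIdeal)).symm)⟩
  have hes : Function.Surjective e.toRingHom := fun c => ⟨algebraMap k A c, e.commutes c⟩
  haveI : IsClosedImmersion (Spec.map (CommRingCat.ofHom e.toRingHom)) :=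
    IsClosedImmersion.spec_of_surjective _ hes
  haveI : Surjective (Spec.map (CommRingCat.ofHom e.toRingHom)) :=
    ⟨fun p => ⟨IsLocalRing.closedPoint k, Subsingleton.elim (α := PrimeSpectrum A) _ _⟩⟩
  haveI : IsClosedImmersion i := MorphismProperty.of_isPullback (P := @IsClosedImmersion) hsq.flip inferInstance
  haveI : Surjective i := MorphismProperty.of_isPullback (P := @Surjective) hsq.flip inferInstance
  haveI : IsAffine X' := Groth.Agent.S0440.result i i.surjective
  let α : CommRingCat.of k ⟶ Γ(X, ⊤) := Spec.preimage (X.isoSpec.inv ≫ hX)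
  let β : CommRingCat.of A ⟶ Γ(X', ⊤) := Spec.preimage (X'.isoSpec.inv ≫ g)
  let π : Γ(X', ⊤) ⟶ Γ(X, ⊤) := Spec.preimage (X.isoSpec.inv ≫ i ≫ X'.isoSpec.hom)
  have hα : Spec.map α = X.isoSpec.inv ≫ hX := Spec.map_preimage _
  have hβ : Spec.map β = X'.isoSpec.inv ≫ g := Spec.map_preimage _
  have hπ : Spec.map π = X.isoSpec.inv ≫ i ≫ X'.isoSpec.hom := Spec.map_preimage _
  have sq : IsPullback (Spec.map π) (Spec.map α) (Spec.map β) (Spec.map (CommRingCat.ofHom e.toRingHom)) := by
    refine hsq.of_iso X.isoSpec X'.isoSpec (Iso.refl _) (Iso.refl _) ?_ ?_ ?_ ?_ <;> simp [hα, hβ, hπ]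
  have po := DefLib.isPushout_of_isPullback_SpecMap sq.flip
  obtain ⟨hπs, hπk⟩ := DefLib.surjective_ker_of_isPushout po hes
  letI : Algebra k Γ(X, ⊤) := α.hom.toAlgebra
  letI : Algebra A Γ(X', ⊤) := β.hom.toAlgebra
  haveI : Algebra.FiniteType k Γ(X, ⊤) := by
    have h : LocallyOfFiniteType (Spec.map α) := by rw [hα]; infer_instance
    exact (HasRingHomProperty.Spec_iff (P := @LocallyOfFiniteType) (φ := α)).1 h
  haveI : Module.Flat A Γ(X', ⊤) := by
    have h : Flat (Spec.map β) := by rw [hβ]; infer_instance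
    exact (HasRingHomProperty.Spec_iff (P := @Flat) (φ := β)).1 h
  haveI : IsNoetherianRing Γ(X, ⊤) := Algebra.FiniteType.isNoetherianRing k _
  haveI : IsRegularRing Γ(X, ⊤) := isRegularRing_iff.2 fun q hq => by
    let p : Spec Γ(X, ⊤) := ⟨q, hq⟩
    haveI := hreg (X.isoSpec.inv p)
    letI : Algebra Γ(X, ⊤) ((Spec Γ(X, ⊤)).presheaf.stalk p) := StructureSheaf.stalkAlgebra Γ(X, ⊤) p
    haveI : IsLocalization.AtPrime ((Spec Γ(X, ⊤)).presheaf.stalk p) q :=
      StructureSheaf.IsLocalization.to_stalk Γ(X, ⊤) p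
    haveI : IsRegularLocalRing ((Spec Γ(X, ⊤)).presheaf.stalk p) :=
      IsRegularLocalRing.of_ringEquiv (asIso (X.isoSpec.inv.stalkMap p)).commRingCatIsoToRingEquiv
    exact IsRegularLocalRing.of_ringEquiv
      (IsLocalization.algEquiv q.primeCompl ((Spec Γ(X, ⊤)).presheaf.stalk p) (Localization.AtPrime q)).toRingEquiv
  haveI : Algebra.Smooth k Γ(X, ⊤) := FlatLib.smooth_of_isRegularRing_of_perfectField k _
  have hw : π.hom.comp β.hom = α.hom.comp e.toRingHom := by
    have := congrArg CommRingCat.Hom.hom po.w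
    exact this.symm
  obtain ⟨Φ, hΦ⟩ := exists_trivialization (k := k) (A := A) (B := Γ(X, ⊤)) (B' := Γ(X', ⊤)) e π.hom hπs hπk hw
  let i₁ : Limits.pullback hX (Spec.map (CommRingCat.ofHom (algebraMap k A))) ⟶
      Limits.pullback (Spec.map (CommRingCat.ofHom (algebraMap k Γ(X, ⊤)))) (Spec.map (CommRingCat.ofHom (algebraMap k A))) :=
    Limits.pullback.map _ _ _ _ X.isoSpec.hom (𝟙 _) (𝟙 _)
      (by rw [Category.comp_id]
          exact ((Iso.eq_inv_comp X.isoSpec).1 hα).symm)
      (by simp)
  refine ⟨X'.isoSpec ≪≫ Scheme.Spec.mapIso (Φ.toCommRingCatIso.op) ≪≫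
    (pullbackSpecIso k Γ(X, ⊤) A).symm ≪≫ (asIso i₁).symm, ?_⟩
  have h2 : (asIso i₁).inv ≫ Limits.pullback.snd hX (Spec.map (CommRingCat.ofHom (algebraMap k A))) =
      Limits.pullback.snd _ _ := by
    rw [Iso.inv_comp_eq, asIso_hom]
    exact ((Limits.pullback.lift_snd _ _ _).trans (Category.comp_id _)).symm
  simp only [Iso.trans_hom, Iso.symm_hom, Category.assoc, h2]
  rw [pullbackSpecIso_inv_snd]
  rw [show g = X'.isoSpec.hom ≫ Spec.map β from (Iso.inv_comp_eq _).1 hβ.symm]
  congr 1
  show Spec.map _ ≫ Spec.map _ = _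
  rw [← Spec.map_comp]
  congr 1
  ext a
  exact hΦ a

end Groth.Agent.S11452
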