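import Groth.Statements.S11459
import Groth.Agent.HBDefLib.Apps

set_option autoImplicit false
universe u
open DefT

namespace Groth.Agent.S11459

/-- Let C' be a local Artin ring, J ⊊ C' a proper ideal annihilated by the maximal ideal, C = C'/J, A' a
flat C'-algebra of finite type with smooth special fibre, A = A'/JA', and φ an (r+1) × r matrix over
A with 0 → A^r → A^{r+1} → A exact (matrix, then signed maximal minors f_i) A/(f_0, …, f_r) flat
over C, and every prime of A containing (f_0, …, f_r) of height ≥ 2 (codimension 2). Then any ideal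
I' ⊆ A' such that A'/I' is flat over C' and the image of I' in A is (f_0, …, f_r) is generated by
the signed maximal minors of some matrix φ' over A' reducing to φ. -/
theorem result (C' : Type u) [CommRing C'] [IsLocalRing C'] [IsArtinianRing C'] (J : Ideal C')
    (hJ : IsLocalRing.maximalIdeal C' * J = ⊥) (hJne : J ≠ ⊤) (A' : Type u) [CommRing A'] [Algebra C' A'] [Module.Flat C' A']
    [Algebra.FiniteType C' A']
    [Algebra.Smooth (C' ⧸ IsLocalRing.maximalIdeal C') (A' ⧸ (IsLocalRing.maximalIdeal C').map (algebraMap C' A'))]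
    (r : ℕ) (φ : Matrix (Fin (r + 1)) (Fin r) (A' ⧸ J.map (algebraMap C' A')))
    (hφ : Function.Injective φ.mulVecLin ∧
      LinearMap.range φ.mulVecLin = LinearMap.ker (Fintype.linearCombination (A' ⧸ J.map (algebraMap C' A')) (fun i : Fin (r + 1) => (-1 : (A' ⧸ J.map (algebraMap C' A'))) ^ (i : ℕ) * ((φ).submatrix i.succAbove id).det)))
    [Module.Flat (C' ⧸ J) ((A' ⧸ J.map (algebraMap C' A')) ⧸ Ideal.span (Set.range (fun i : Fin (r + 1) => (-1 : (A' ⧸ J.map (algebraMap C' A'))) ^ (i : ℕ) * ((φ).submatrix i.succAbove id).det)))]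
    (hcodim : ∀ p : Ideal (A' ⧸ J.map (algebraMap C' A')), p.IsPrime →
      Ideal.span (Set.range (fun i : Fin (r + 1) => (-1 : (A' ⧸ J.map (algebraMap C' A'))) ^ (i : ℕ) * ((φ).submatrix i.succAbove id).det)) ≤ p → (2 : ℕ∞) ≤ p.height)
    (I' : Ideal A') [Module.Flat C' (A' ⧸ I')]
    (hI' : I'.map (Ideal.Quotient.mk (J.map (algebraMap C' A'))) = Ideal.span (Set.range (fun i : Fin (r + 1) => (-1 : (A' ⧸ J.map (algebraMap C' A'))) ^ (i : ℕ) * ((φ).submatrix i.succAbove id).det))) :
    ∃ φ' : Matrix (Fin (r + 1)) (Fin r) A', φ'.map (Ideal.Quotient.mk (J.map (algebraMap C' A'))) = φ ∧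
      I' = Ideal.span (Set.range (fun i : Fin (r + 1) => (-1 : A') ^ (i : ℕ) * ((φ').submatrix i.succAbove id).det)) := by
  letI : Field (C' ⧸ IsLocalRing.maximalIdeal C') := Ideal.Quotient.field _
  haveI := CohenLib.isRegularRing_of_smooth (C' ⧸ IsLocalRing.maximalIdeal C')
    (A' ⧸ (IsLocalRing.maximalIdeal C').map (algebraMap C' A'))
  haveI : IsNoetherianRing (A' ⧸ (IsLocalRing.maximalIdeal C').map (algebraMap C' A')) :=
    Algebra.FiniteType.isNoetherianRing (C' ⧸ IsLocalRing.maximalIdeal C') _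
  choose φ₁ hφ₁ using fun i j => Ideal.Quotient.mk_surjective (φ i j)
  obtain rfl : φ = (Matrix.of φ₁).map (Ideal.Quotient.mk _) := Matrix.ext fun i j => (hφ₁ i j).symm
  haveI : Module.Flat (C' ⧸ J) ((A' ⧸ J.map (algebraMap C' A')) ⧸
      Ideal.span (Set.range (HBLib.minor ((Matrix.of φ₁).map (Ideal.Quotient.mk (J.map (algebraMap C' A'))))))) := ‹_›
  have hEM := HBDefLib.exactMod_of_exact_quotient J hJne (Matrix.of φ₁) hφ.1 hφ.2
  have hle : J.map (algebraMap C' A') ≤ (IsLocalRing.maximalIdeal C').map (algebraMap C' A') :=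
    Ideal.map_mono (IsLocalRing.le_maximalIdeal hJne)
  have hcod : ∀ P : Ideal (A' ⧸ (IsLocalRing.maximalIdeal C').map (algebraMap C' A')), P.IsPrime →
      Ideal.span (Set.range (HBLib.minor ((Matrix.of φ₁).map (Ideal.Quotient.mk _)))) ≤ P → (2 : ℕ∞) ≤ P.height := by
    intro P hP h2
    haveI := hP
    have hnil : IsNilpotent (RingHom.ker (Ideal.Quotient.factor hle)) := by
      obtain ⟨n, hn⟩ := HBDefLib.isNilpotent_maximalIdeal (C := C')
      refine ⟨n, ?_⟩
      rw [Ideal.Quotient.factor_ker, ← Ideal.map_pow, ← Ideal.map_pow, hn, Ideal.zero_eq_bot, Ideal.map_bot, Ideal.map_bot]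
      rfl
    refine le_trans ?_ (HBDefLib.height_comap_le (Ideal.Quotient.factor hle) (Ideal.Quotient.factor_surjective hle) hnil P)
    refine hcodim _ inferInstance ?_
    show Ideal.span (Set.range (HBLib.minor ((Matrix.of φ₁).map (Ideal.Quotient.mk (J.map (algebraMap C' A')))))) ≤ _
    rw [← Ideal.map_le_iff_le_comap, HBDefLib.map_span_minor, Matrix.map_map]
    exact h2
  obtain ⟨ψ, hψ, h1, -, -⟩ := HBDefLib.exists_lift HBDefLib.isNilpotent_maximalIdeal J
    (IsLocalRing.le_maximalIdeal hJne) I'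
    (Matrix.of φ₁) (HBDefLib.sup_eq_of_map_eq _ _ _ (hI'.trans (HBDefLib.map_span_minor _ _).symm)) hEM
    hcod
  exact ⟨ψ, Matrix.ext fun i j => Ideal.Quotient.eq.2 (hψ i j), h1.symm⟩

end Groth.Agent.S11459
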