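import Groth.Statements.S1146
import Groth.Agent.FibDimLib.Comps
import Groth.Agent.WeightLib.EtaleQF

set_option autoImplicit false
open CategoryTheory CategoryTheory.Limits AlgebraicGeometry Opposite
universe u
open Desc

namespace Groth.Agent.S1146

/-- Let f : U ⟶ V be an etale morphism of schemes and u a point of U. Then the local dimension of U at u
(the infimum of the Krull dimensions of open neighbourhoods) equals the local dimension of V at
f(u). -/
theorem result {U V : Scheme.{u}} (f : U ⟶ V) [Etale f] (u : U) :
    FlatMor.localDim U u = FlatMor.localDim V (f.base u) := by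
  haveI := WeightLib.locallyQuasiFinite_of_etale f
  refine FibDimLib.localDim_eq_of_isOpenMap f.continuous f.isOpenMap (Flat.generalizingMap f) (fun a b hab he => ?_) u
  have hd := f.isDiscrete_preimage_singleton (f.base b)
  rw [isDiscrete_iff_discreteTopology] at hd
  have hs : (⟨a, he⟩ : f.base ⁻¹' {f.base b}) ⤳ ⟨b, rfl⟩ :=
    Topology.IsInducing.subtypeVal.specializes_iff.mp hab
  exact congrArg Subtype.val (specializes_iff_eq.mp hs)


end Groth.Agent.S1146
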