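import Groth.Statements.S11461
import Mathlib

set_option autoImplicit false
universe u
open CategoryTheory
open DefT

namespace Groth.Agent.S11461

theorem exact_zero {B : Type u} [CommRing B]
    (F : ModuleCat.{u} B ⥤ ModuleCat.{u} B) [F.Additive]
    (hex : ∀ S : ShortComplex (ModuleCat.{u} B), S.ShortExact → Module.Finite B S.X₂ → (S.map F).Exact)
    {N₁ N₂ N₃ : Type u} [AddCommGroup N₁] [Module B N₁] [AddCommGroup N₂] [Module B N₂] [Module.Finite B N₂]
    [AddCommGroup N₃] [Module B N₃] (f : N₁ →ₗ[B] N₂) (g : N₂ →ₗ[B] N₃) (hf : Function.Injective f)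
    (hg : Function.Surjective g) (hfg : Function.Exact f g)
    (h₁ : Limits.IsZero (F.obj (ModuleCat.of B N₁))) (h₃ : Limits.IsZero (F.obj (ModuleCat.of B N₃))) :
    Limits.IsZero (F.obj (ModuleCat.of B N₂)) :=
  (hex (ModuleCat.shortComplexOfCompEqZero f g hfg.linearMap_comp_eq_zero)
    (ModuleCat.shortComplex_shortExact _ hfg hf hg) ‹_›).isZero_of_both_zeros
    (h₁.eq_of_src _ _) (h₃.eq_of_tgt _ _)

theorem prime_case {B : Type u} [CommRing B]
    (F : ModuleCat.{u} B ⥤ ModuleCat.{u} B) [F.Additive] [F.Linear B]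
    (hfg : ∀ M : ModuleCat.{u} B, Module.Finite B M → Module.Finite B (F.obj M))
    (hex : ∀ S : ShortComplex (ModuleCat.{u} B), S.ShortExact → Module.Finite B S.X₂ → (S.map F).Exact)
    (p : Ideal B) [p.IsPrime] (hp : ¬ p.IsMaximal)
    (IH : ∀ I, p < I → ∀ (N : Type u) [AddCommGroup N] [Module B N] [Module.Finite B N],
      I ≤ Module.annihilator B N → Limits.IsZero (F.obj (ModuleCat.of B N))) :
    Limits.IsZero (F.obj (ModuleCat.of B (B ⧸ p))) := by
  set P := ModuleCat.of B (B ⧸ p)
  haveI : Module.Finite B (F.obj P) := hfg P (inferInstanceAs (Module.Finite B (B ⧸ p)))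
  have hmap : ∀ x : B, F.map (x • 𝟙 P) = x • 𝟙 (F.obj P) := fun x => by
    rw [CategoryTheory.Functor.map_smul, CategoryTheory.Functor.map_id]
  have hkill : p ≤ Module.annihilator B (F.obj P) := by
    intro a ha
    have h0 : a • 𝟙 P = 0 := ModuleCat.hom_ext (LinearMap.ext fun z => by
      obtain ⟨b, rfl⟩ := Ideal.Quotient.mk_surjective (show B ⧸ p from z)
      show a • (Ideal.Quotient.mk p b) = (0 : B ⧸ p)
      exact Ideal.Quotient.eq_zero_iff_mem.2 (p.mul_mem_right b ha))
    rw [Module.mem_annihilator]
    intro y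
    have h1 := hmap a
    rw [h0, F.map_zero] at h1
    exact (ConcreteCategory.congr_hom h1 y).symm
  have hdiv : ∀ x, x ∉ p → ∀ y : F.obj P, ∃ z : F.obj P, x • z = y := by
    intro x hx
    let f : (B ⧸ p) →ₗ[B] (B ⧸ p) := x • LinearMap.id
    let g := (LinearMap.range f).mkQ
    have hf : Function.Injective f := by
      intro a b h
      have h1 : Ideal.Quotient.mk p x * a = Ideal.Quotient.mk p x * b := h
      exact mul_left_cancel₀ (fun h0 => hx (Ideal.Quotient.eq_zero_iff_mem.1 h0)) h1
    have hfgx : Function.Exact f g := LinearMap.exact_map_mkQ_range f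
    have hann : p ⊔ Ideal.span {x} ≤ Module.annihilator B ((B ⧸ p) ⧸ LinearMap.range f) := by
      refine sup_le (fun a ha => ?_) ((Ideal.span_singleton_le_iff_mem _).2 ?_)
      · rw [Module.mem_annihilator]
        intro z
        obtain ⟨z, rfl⟩ := Submodule.Quotient.mk_surjective _ z
        obtain ⟨b, rfl⟩ := Ideal.Quotient.mk_surjective z
        rw [← Submodule.Quotient.mk_smul,
          show a • (Ideal.Quotient.mk p b) = 0 from
            Ideal.Quotient.eq_zero_iff_mem.2 (p.mul_mem_right b ha), Submodule.Quotient.mk_zero]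
      · rw [Module.mem_annihilator]
        intro z
        obtain ⟨z, rfl⟩ := Submodule.Quotient.mk_surjective _ z
        rw [← Submodule.Quotient.mk_smul, Submodule.Quotient.mk_eq_zero]
        exact ⟨z, rfl⟩
    have h3 : Limits.IsZero (F.obj (ModuleCat.of B ((B ⧸ p) ⧸ LinearMap.range f))) :=
      IH _ (left_lt_sup.2 fun h => hx (h (Ideal.mem_span_singleton_self x))) _ hann
    have he := (hex (ModuleCat.shortComplexOfCompEqZero f g hfgx.linearMap_comp_eq_zero)
      (ModuleCat.shortComplex_shortExact _ hfgx hf (Submodule.mkQ_surjective _))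
      (inferInstanceAs (Module.Finite B (B ⧸ p)))).epi_f (h3.eq_of_tgt _ _)
    have hs : Function.Surjective (F.map (x • 𝟙 P)).hom := (ModuleCat.epi_iff_surjective _).1 he
    intro y
    obtain ⟨z, hz⟩ := hs y
    exact ⟨z, by rw [← hz, hmap]; rfl⟩
  have hsub : Subsingleton (F.obj P) := by
    rw [← Module.annihilator_eq_top_iff (R := B)]
    by_contra hne
    obtain ⟨m, hm, hle⟩ := Ideal.exists_le_maximal _ hne
    have hlt : p < m := lt_of_le_of_ne (hkill.trans hle) fun h => hp (h ▸ hm)
    obtain ⟨x, hxm, hxp⟩ := SetLike.exists_of_lt hlt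
    obtain ⟨r, hr, hr0⟩ := Submodule.exists_sub_one_mem_and_smul_eq_zero_of_fg_of_le_smul
      (Ideal.span {x}) (⊤ : Submodule B (F.obj P)) Module.Finite.fg_top (fun y _ => by
        obtain ⟨z, rfl⟩ := hdiv x hxp y
        exact Submodule.smul_mem_smul (Ideal.mem_span_singleton_self x) trivial)
    have h1 : r ∈ m := hle (Module.mem_annihilator.2 fun y => hr0 y trivial)
    have h2 : r - 1 ∈ m := (Ideal.span_singleton_le_iff_mem _).2 hxm hr
    exact hm.ne_top ((Ideal.eq_top_iff_one _).2 (by simpa using m.sub_mem h1 h2))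
  exact ModuleCat.isZero_of_subsingleton _

/-- Let B be a Noetherian ring and F an additive, B-linear endofunctor of B-modules which preserves
finite generation and is semi-exact on short exact sequences of finitely generated modules (the
image sequence is exact in the middle). If F kills B/m for every maximal ideal m, then F kills every
finitely generated B-module. (The published statement assumes F only additive; this row assumes F
B-linear, and takes the functor on all B-modules with the hypotheses and the conclusion on the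
finitely generated ones.) -/
theorem result (B : Type u) [CommRing B]
    [IsNoetherianRing B] (F : ModuleCat.{u} B ⥤ ModuleCat.{u} B) [F.Additive] [F.Linear B]
    (hfg : ∀ M : ModuleCat.{u} B, Module.Finite B M → Module.Finite B (F.obj M))
    (hex : ∀ S : ShortComplex (ModuleCat.{u} B), S.ShortExact → Module.Finite B S.X₂ → (S.map F).Exact)
    (h0 : ∀ m : Ideal B, m.IsMaximal → Limits.IsZero (F.obj (ModuleCat.of B (B ⧸ m))))
    (M : ModuleCat.{u} B) (hM : Module.Finite B M) : Limits.IsZero (F.obj M) := by
  suffices H : ∀ I : Ideal B, ∀ (N : Type u) [AddCommGroup N] [Module B N] [Module.Finite B N],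
      I ≤ Module.annihilator B N → Limits.IsZero (F.obj (ModuleCat.of B N)) from
    H ⊥ M bot_le
  intro I
  induction I using IsNoetherian.induction with
  | hgt I IH =>
  intro N _ _ hN
  refine IsNoetherianRing.induction_on_isQuotientEquivQuotientPrime B hN
    (motive := fun N _ _ _ => I ≤ Module.annihilator B N → Limits.IsZero (F.obj (ModuleCat.of B N)))
    ?_ ?_ ?_
  · intro N _ _ _ _ _
    exact F.map_isZero (ModuleCat.isZero_of_subsingleton _)
  · intro N _ _ _ p e hI
    have hIp : I ≤ p.asIdeal := by
      rw [e.annihilator_eq, Ideal.annihilator_quotient] at hI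
      exact hI
    refine Limits.IsZero.of_iso ?_ (F.mapIso e.toModuleIso)
    rcases hIp.lt_or_eq with hlt | heq
    · exact IH p.asIdeal hlt (B ⧸ p.asIdeal) (by rw [Ideal.annihilator_quotient])
    · by_cases hmax : p.asIdeal.IsMaximal
      · exact h0 _ hmax
      · exact prime_case F hfg hex p.asIdeal hmax fun J hJ => IH J (heq ▸ hJ)
  · intro N₁ _ _ _ N₂ _ _ _ N₃ _ _ _ f g hf hg hfgx h₁ h₃ hI
    exact exact_zero F hex f g hf hg hfgx (h₁ (hI.trans (LinearMap.annihilator_le_of_injective f hf)))
      (h₃ (hI.trans (LinearMap.annihilator_le_of_surjective g hg)))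

end Groth.Agent.S11461
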