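import Groth.Statements.S11462
import Groth.Agent.PunctFEtLib.Sections
import Groth.Agent.RefHullLib.Generic
import Groth.Agent.CMFlatLib.FibreDepth
import Mathlib

set_option autoImplicit false
universe u
open CategoryTheory AlgebraicGeometry Opposite
open DefT

namespace Groth.Agent.S11462
theorem dim_le_quotient {R : Type u} [CommRing R] (I : Ideal R) (hI : I ≤ nilradical R) :
    ringKrullDim R ≤ ringKrullDim (R ⧸ I) := by
  have hle : ∀ P : PrimeSpectrum R, I ≤ P.asIdeal := fun P => hI.trans (nilradical_le_prime P.asIdeal)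
  let f : PrimeSpectrum R → PrimeSpectrum (R ⧸ I) := fun P =>
    ⟨P.asIdeal.map (Ideal.Quotient.mk I), Ideal.map_isPrime_of_surjective Ideal.Quotient.mk_surjective
      (by rw [Ideal.mk_ker]; exact hle P)⟩
  have hback : ∀ P : PrimeSpectrum R, (f P).asIdeal.comap (Ideal.Quotient.mk I) = P.asIdeal := fun P => by
    show (P.asIdeal.map (Ideal.Quotient.mk I)).comap (Ideal.Quotient.mk I) = P.asIdeal
    rw [Ideal.comap_map_of_surjective _ Ideal.Quotient.mk_surjective, ← RingHom.ker_eq_comap_bot, Ideal.mk_ker, sup_eq_left.2 (hle P)]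
  refine Order.krullDim_le_of_strictMono f fun P Q h => lt_of_le_of_ne (Ideal.map_mono h.le) fun he => h.ne ?_
  refine PrimeSpectrum.ext ?_
  rw [← hback P, ← hback Q, he]

open AlgebraicGeometry CategoryTheory in
theorem two_le_depth_stalk {C : Type u} [CommRing C] [IsLocalRing C] [IsArtinianRing C] {A : Type u} [CommRing A]
    [IsNoetherianRing A] [Algebra C A] [Module.Flat C A]
    (hnorm : Pi1.IsNormalScheme (Spec (CommRingCat.of (A ⧸ (IsLocalRing.maximalIdeal C).map (algebraMap C A)))))
    (p : Ideal A) [p.IsPrime] (hp : (2 : ℕ∞) ≤ p.height) :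
    (2 : ℕ∞) ≤ LocCoh.depth (Localization.AtPrime p) (Localization.AtPrime p) := by
  let R := Localization.AtPrime p
  let I := (IsLocalRing.maximalIdeal C).map (algebraMap C A)
  have hnil : IsNilpotent (IsLocalRing.maximalIdeal C) := by
    rw [← IsLocalRing.ringJacobson_eq_maximalIdeal]
    exact IsSemiprimaryRing.isNilpotent
  have hnilC : IsLocalRing.maximalIdeal C ≤ nilradical C := fun c hc => by
    obtain ⟨n, hn⟩ := hnil
    have h1 := Ideal.pow_mem_pow hc n
    rw [hn] at h1
    exact ⟨n, h1⟩
  have hIA : I ≤ nilradical A := Ideal.map_le_iff_le_comap.2 fun c hc => IsNilpotent.map (hnilC hc : IsNilpotent c) (algebraMap C A)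
  have hIp : I ≤ p := hIA.trans (nilradical_le_prime p)
  let q := p.map (Ideal.Quotient.mk I)
  haveI : q.IsPrime := Ideal.map_isPrime_of_surjective Ideal.Quotient.mk_surjective (by rw [Ideal.mk_ker]; exact hIp)
  let J : Ideal R := I.map (algebraMap A R)
  have hsub : Algebra.algebraMapSubmonoid (A ⧸ I) p.primeCompl = q.primeCompl := by
    ext x
    constructor
    · rintro ⟨a, ha, rfl⟩ hq
      obtain ⟨b, hb, hab⟩ := (Ideal.mem_map_iff_of_surjective _ Ideal.Quotient.mk_surjective).1 hq
      refine ha ?_
      have h2 := p.sub_mem hb (hIp (Ideal.Quotient.eq.1 hab))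
      rwa [sub_sub_cancel] at h2
    · intro hx
      obtain ⟨a, rfl⟩ := Ideal.Quotient.mk_surjective x
      exact ⟨a, fun ha => hx (Ideal.mem_map_of_mem _ ha), rfl⟩
  haveI : IsLocalization (Algebra.algebraMapSubmonoid (A ⧸ I) p.primeCompl) (R ⧸ J) := inferInstance
  haveI : IsLocalization.AtPrime (R ⧸ J) q := by rw [IsLocalization.AtPrime, ← hsub]; infer_instance
  haveI : IsLocalRing (R ⧸ J) := IsLocalization.AtPrime.isLocalRing (R ⧸ J) q
  obtain ⟨hdom, hic⟩ := hnorm ⟨q, inferInstance⟩
  let e : (Spec (CommRingCat.of (A ⧸ I))).presheaf.stalk ⟨q, inferInstance⟩ ≃+* R ⧸ J :=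
    (StructureSheaf.stalkIso (A ⧸ I) ⟨q, inferInstance⟩).symm.toRingEquiv.trans
      (IsLocalization.algEquiv q.primeCompl (Localization.AtPrime q) (R ⧸ J)).toRingEquiv
  haveI := hdom
  haveI := hic
  haveI : IsDomain (R ⧸ J) := e.symm.toMulEquiv.isDomain
  haveI : IsIntegrallyClosed (R ⧸ J) := IsIntegrallyClosed.of_equiv e
  have hdimR : (2 : WithBot ℕ∞) ≤ ringKrullDim (R ⧸ J) := by
    refine le_trans ?_ (dim_le_quotient J (Ideal.map_le_iff_le_comap.2 fun a ha => IsNilpotent.map (hIA ha : IsNilpotent a) (algebraMap A R)))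
    rw [IsLocalization.AtPrime.ringKrullDim_eq_height p R]
    exact WithBot.coe_le_coe.2 hp
  have hd : (2 : ℕ∞) ≤ LocCoh.depth (R ⧸ J) (R ⧸ J) := RefHullLib.two_le_depth_normal hdimR
  haveI : IsLocalHom (algebraMap C R) := ⟨fun c hc => by
    by_contra hn
    exact (IsNilpotent.map (hnilC hn : IsNilpotent c) (algebraMap C R)).not_isUnit hc⟩
  haveI : Module.Flat C R := Module.Flat.trans C A R
  have hJ : J = (IsLocalRing.maximalIdeal C).map (algebraMap C R) := by
    show (Ideal.map _ _).map _ = _
    rw [Ideal.map_map, ← IsScalarTower.algebraMap_eq]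
  haveI : IsLocalRing (GorLib.Fib C R) := (Ideal.quotEquivOfEq hJ).isLocalRing
  haveI : IsNoetherianRing (R ⧸ J) := inferInstance
  have hd2 := CMFlatLib.le_depth_congr (Ideal.quotEquivOfEq hJ) (d := 2) hd
  exact CMFlatLib.le_depth_of_fib C R hd2

/-- Let C be a local Artin ring with maximal ideal m, A a Noetherian C-algebra flat over C such that
Spec(A/mA) is a normal scheme, and U ⊆ X = Spec A an open subset whose closed complement has
codimension ≥ 2, i.e. every prime of A not in U has height at least 2. Then the restriction map Γ(X,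
O_X) → Γ(U, O_X) is bijective. (The published statement assumes only that A is flat over C with
normal special fibre; this row also assumes A Noetherian: for a valuation ring of rank two over a
field, which is normal and flat, the functions on the complement of the closed point are not all
global.) -/
theorem result (C : Type u) [CommRing C]
    [IsLocalRing C] [IsArtinianRing C] (A : Type u) [CommRing A] [IsNoetherianRing A] [Algebra C A]
    [Module.Flat C A]
    (hnorm : Pi1.IsNormalScheme (Spec (CommRingCat.of (A ⧸ (IsLocalRing.maximalIdeal C).map (algebraMap C A)))))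
    (U : (Spec (CommRingCat.of A)).Opens)
    (hU : ∀ p : ↥(Spec (CommRingCat.of A)), p ∉ U → (2 : ℕ∞) ≤ p.asIdeal.height) :
    Function.Bijective ((Spec (CommRingCat.of A)).presheaf.map (homOfLE (le_top : U ≤ ⊤)).op) := by
  haveI : IsLocallyNoetherian (Spec (CommRingCat.of A)) := inferInstance
  refine PunctFEtLib.map_bijective_of_eq (V := U) (T := ⊤) ?_ (top_inf_eq U).symm le_top
  refine PunctFEtLib.invisible_of_depth U fun z hz => ?_
  haveI := z.isPrime
  have h := two_le_depth_stalk hnorm z.asIdeal (hU z hz)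
  haveI : IsNoetherianRing ((Spec (CommRingCat.of A)).presheaf.stalk z) := inferInstance
  let e : Localization.AtPrime z.asIdeal ≃+* (Spec (CommRingCat.of A)).presheaf.stalk z := (StructureSheaf.stalkIso A z).toRingEquiv
  exact CMFlatLib.le_depth_congr e (d := 2) h

end Groth.Agent.S11462
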