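import Groth.Statements.S11463
import Groth.Agent.S11300
import Groth.Agent.HilbPtsLib.Fogarty
import Groth.Agent.HilbPtsLib.ProperHilb
import Groth.Agent.GenusZeroLib.PSpace
import Groth.Agent.GenusZeroLib.PSmooth
import Groth.Agent.QCohLib.ProjSpace
import Groth.Agent.RelProjLib.ProjProper
import Mathlib.GroupTheory.CosetCover

set_option backward.isDefEq.respectTransparency false
set_option backward.isDefEq.respectTransparency.types false

set_option autoImplicit false
universe u
open CategoryTheory AlgebraicGeometry
open DefT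
open HilbPts

namespace Groth.Agent.S11463

/-- Finitely many points of projective space over an infinite field avoid a common hyperplane. -/
theorem exists_affineOpen_projSpace (k : Type u) [Field k] [Infinite k] (m : ℕ) (t : Finset (CohB1.ProjSpace m k)) :
    ∃ U : (CohB1.ProjSpace m k).Opens, IsAffineOpen U ∧ ∀ x ∈ t, x ∈ U := by
  classical
  let P : CohB1.ProjSpace m k → Submodule k (MvPolynomial (Fin (m + 1)) k) := fun x =>
    (show ProjectiveSpectrum (CohB1.polyGrading m k) from x).asHomogeneousIdeal.toIdeal.restrictScalars k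
  let E := ↥(CohB1.polyGrading m k 1)
  let W : CohB1.ProjSpace m k → Subspace k E := fun x => (P x).comap (CohB1.polyGrading m k 1).subtype
  have htop : ⊤ ∉ t.image W := fun h => by
    obtain ⟨x, -, hx⟩ := Finset.mem_image.1 h
    obtain ⟨j, hj⟩ := TopologicalSpace.Opens.mem_iSup.mp
      (show x ∈ ⨆ j, QCohLib.stdOpen m k j by rw [QCohLib.iSup_stdOpen]; trivial)
    exact hj (hx.ge (x := (⟨MvPolynomial.X j, MvPolynomial.isHomogeneous_X k j⟩ : E)) trivial)
  obtain ⟨e, he⟩ := (Set.ne_univ_iff_exists_notMem _).1 (Subspace.biUnion_ne_univ_of_top_notMem htop)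
  refine ⟨Proj.basicOpen (CohB1.polyGrading m k) e.1, Proj.isAffineOpen_basicOpen _ e.1 e.2 one_pos, fun x hx hmem => ?_⟩
  exact he (Set.mem_iUnion₂.2 ⟨W x, Finset.mem_image_of_mem _ hx, hmem⟩)

/-- For k algebraically closed and every n > 0, the Hilbert scheme Hilb^n(P²_k) of zero-dimensional
closed subschemes of length n of the projective plane is irreducible: any k-scheme H representing
the functor Hilb^n of P²_k over Spec k (with universal family Z) has irreducible underlying space. -/
theorem result (k : Type u) [Field k] [IsAlgClosed k]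
    (n : ℕ) (hn : 0 < n) (H : Over (Spec (CommRingCat.of k)))
    (Z : HilbD.Obj (CohB1.ProjSpace.toSpec 2 k) n H)
    (hH : HilbD.IsUniversal (CohB1.ProjSpace.toSpec 2 k) n H Z) :
    IrreducibleSpace H.left := by
  let f := CohB1.ProjSpace.toSpec 2 k
  haveI : IsProper f := RelProjLib.isProper_polyToSpec (2 + 1) k
  haveI : Smooth f := GenusZeroLib.smooth_toSpec 2 k
  haveI := GenusZeroLib.irreducibleSpace_projSpace k 2
  have hdim := GenusZeroLib.dim_projSpace k 2
  have hAF : SymProd.IsAF f := fun s t _ => exists_affineOpen_projSpace k 2 t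
  have hs : Fogarty.IsSurf f := fun x hx => ⟨(DepthLib.regular_of_smooth_and_conversely f x).1
      (by rw [Scheme.Hom.smoothLocus_eq_top]; trivial), by
    rw [← FibDimLib.localDim_eq_stalk_of_isClosed f hx, FibDimLib.localDim_of_irreducible f x, hdim]; rfl⟩
  haveI : ConnectedSpace H.left := Conn.connectedSpace_hilb hAF n
    (fun j _ => Groth.Agent.S11300.hne k f (by rw [hdim]; exact_mod_cast Nat.two_pos) j) H Z hH
  haveI : IsProper H.hom := SC.isProper_hom_of_isAF hAF hH
  exact (Fogarty.regular_irreducible_dim hAF hs hH).2.1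

end Groth.Agent.S11463
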