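import Groth.Statements.S11467
import Groth.Agent.DefLib.ObsBound

set_option autoImplicit false
universe u
open DefT

namespace Groth.Agent.S11467

/-- Let P be a regular local k-algebra with residue field k, I ⊆ m_P² an ideal (so that dim P is the
embedding dimension of A = P/I), and suppose A has an obstruction theory whose obstruction space is
a finite-dimensional k-vector space V (obstructions in V ⊗ J attached to k-algebra maps A → C'/J for
small extensions of local Artinian k-algebras with residue field k, vanishing exactly when the map
lifts, functorial in quotients of C'). Then dim A ≥ dim P − dim_k V; and if equality holds, I is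
generated by dim P − dim A elements, so A is a local complete intersection in P. -/
theorem result (k : Type u) [Field k]
    (P : Type u) [CommRing P] [IsRegularLocalRing P] [Algebra k P]
    (hres : Function.Surjective (algebraMap k (IsLocalRing.ResidueField P)))
    (I : Ideal P) (hI : I ≤ IsLocalRing.maximalIdeal P ^ 2)
    (V : Type u) [AddCommGroup V] [Module k V] [Module.Finite k V]
    (T : W4bk4hartshdef114.ObsTheory k (P ⧸ I) V) :
    ringKrullDim P ≤ ringKrullDim (P ⧸ I) + (Module.finrank k V : WithBot ℕ∞) ∧
      (ringKrullDim (P ⧸ I) + (Module.finrank k V : WithBot ℕ∞) = ringKrullDim P →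
        ∃ s : Finset P, Ideal.span (s : Set P) = I ∧
          ringKrullDim (P ⧸ I) + (s.card : WithBot ℕ∞) = ringKrullDim P) := by
  obtain ⟨s, rfl, hcard⟩ := DefLib.exists_generators_card_le k P hres I hI V T
  have hjac : (s : Set P) ⊆ (Ring.jacobson P : Set P) := fun x hx => by
    rw [IsLocalRing.ringJacobson_eq_maximalIdeal]
    exact Ideal.pow_le_self two_ne_zero (hI (Ideal.subset_span hx))
  have h1 := ringKrullDim_le_ringKrullDim_quotient_add_card s hjac
  have h2 : (s.card : WithBot ℕ∞) ≤ (Module.finrank k V : WithBot ℕ∞) := Nat.cast_le.2 hcard
  refine ⟨h1.trans (add_le_add_right h2 _), fun heq => ⟨s, rfl, le_antisymm ?_ h1⟩⟩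
  exact (add_le_add_right h2 _).trans heq.le

end Groth.Agent.S11467
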