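import Groth.Statements.S11469
import Mathlib

set_option autoImplicit false
universe u
open scoped TensorProduct
open DefT

namespace Groth.Agent.S11469

/-- Let C' be a local Artin ring with maximal ideal m, J ⊊ C' a proper ideal with mJ = 0, A' a
C'-algebra, M' an A'-module flat over C', and M₀ = M'/mM'. Then (1) every A'-linear endomorphism σ
of M' that is the identity modulo JM' is bijective, and there is exactly one A'-linear τ : M₀ → M₀
⊗_{C'} J such that, for all x ∈ M' and all z ∈ M' ⊗_{C'} J mapping to σ(x) − x in M', the image of z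
in M₀ ⊗_{C'} J is τ applied to the class of x; and (2) every A'-linear τ : M₀ → M₀ ⊗_{C'} J comes in
this way from some such σ. Thus the automorphisms of the extension M' inducing the identity on
M'/JM' correspond to Hom(M₀, M₀ ⊗ J). -/
theorem result (C' : Type u) [CommRing C'] [IsLocalRing C']
    [IsArtinianRing C'] (J : Ideal C') (hJ : IsLocalRing.maximalIdeal C' * J = ⊥) (hJne : J ≠ ⊤)
    (A' : Type u) [CommRing A'] [Algebra C' A'] (M' : Type u) [AddCommGroup M'] [Module A' M'] [Module C' M']
    [IsScalarTower C' A' M'] [Module.Flat C' M'] :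
    (∀ σ : M' →ₗ[A'] M', (∀ x : M', σ x - x ∈ (J.map (algebraMap C' A')) • (⊤ : Submodule A' M')) →
      Function.Bijective σ ∧
        ∃! τ : (M' ⧸ ((IsLocalRing.maximalIdeal C').map (algebraMap C' A')) • (⊤ : Submodule A' M')) →ₗ[A'] ((M' ⧸ ((IsLocalRing.maximalIdeal C').map (algebraMap C' A')) • (⊤ : Submodule A' M')) ⊗[C'] ↥J),
          (∀ (x : M') (z : M' ⊗[C'] ↥J), TensorProduct.rid C' M' (LinearMap.lTensor M' (Submodule.subtype J) z) = σ x - x →
            LinearMap.rTensor ↥J ((Submodule.mkQ (((IsLocalRing.maximalIdeal C').map (algebraMap C' A')) • (⊤ : Submodule A' M'))).restrictScalars C') z =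
              τ (Submodule.mkQ _ x))) ∧
    (∀ τ : (M' ⧸ ((IsLocalRing.maximalIdeal C').map (algebraMap C' A')) • (⊤ : Submodule A' M')) →ₗ[A'] ((M' ⧸ ((IsLocalRing.maximalIdeal C').map (algebraMap C' A')) • (⊤ : Submodule A' M')) ⊗[C'] ↥J),
      ∃ σ : M' →ₗ[A'] M', (∀ x : M', σ x - x ∈ (J.map (algebraMap C' A')) • (⊤ : Submodule A' M')) ∧
          (∀ (x : M') (z : M' ⊗[C'] ↥J), TensorProduct.rid C' M' (LinearMap.lTensor M' (Submodule.subtype J) z) = σ x - x →
            LinearMap.rTensor ↥J ((Submodule.mkQ (((IsLocalRing.maximalIdeal C').map (algebraMap C' A')) • (⊤ : Submodule A' M'))).restrictScalars C') z =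
              τ (Submodule.mkQ _ x))) := by
  classical
  let m := IsLocalRing.maximalIdeal C'
  let P : Submodule A' M' := (m.map (algebraMap C' A')) • ⊤
  let JM : Submodule A' M' := (J.map (algebraMap C' A')) • ⊤
  let μ : M' ⊗[C'] ↥J →ₗ[A'] M' := (TensorProduct.AlgebraTensorModule.rid C' A' M').toLinearMap ∘ₗ
    TensorProduct.AlgebraTensorModule.map (LinearMap.id : M' →ₗ[A'] M') (Submodule.subtype J)
  have hμ_tmul : ∀ (x : M') (j : ↥J), μ (x ⊗ₜ[C'] j) = (j : C') • x := fun x j => by simp [μ]
  have hμ : ∀ z, μ z = TensorProduct.rid C' M' (LinearMap.lTensor M' (Submodule.subtype J) z) := fun z => by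
    induction z using TensorProduct.induction_on with
    | zero => simp
    | tmul x j => rw [hμ_tmul]; simp
    | add a b ha hb => simp only [map_add, ha, hb]
  have hμinj : Function.Injective μ := fun a b h => by
    rw [hμ, hμ] at h
    exact Module.Flat.lTensor_preserves_injective_linearMap _ J.injective_subtype ((TensorProduct.rid C' M').injective h)
  have hμrange : LinearMap.range μ = JM := by
    refine le_antisymm ?_ ?_
    · rintro _ ⟨z, rfl⟩
      induction z using TensorProduct.induction_on with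
      | zero => simp
      | add a b ha hb => rw [map_add]; exact add_mem ha hb
      | tmul x j =>
        rw [hμ_tmul, ← IsScalarTower.algebraMap_smul A' (j : C') x]
        exact Submodule.smul_mem_smul (Ideal.mem_map_of_mem _ j.2) trivial
    · refine Submodule.smul_le.2 fun a ha x _ => ?_
      induction ha using Submodule.span_induction with
      | mem a ha =>
        obtain ⟨j, hj, rfl⟩ := ha
        exact ⟨x ⊗ₜ[C'] ⟨j, hj⟩, by rw [hμ_tmul, IsScalarTower.algebraMap_smul]⟩
      | zero => rw [zero_smul]; exact zero_mem _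
      | add a b _ _ ha hb => rw [add_smul]; exact add_mem ha hb
      | smul c a _ ha => rw [smul_assoc]; exact Submodule.smul_mem _ c ha
  have hJm : J ≤ m := IsLocalRing.le_maximalIdeal hJne
  have hkill : ∀ y ∈ JM, ∀ c ∈ m, (c : C') • y = 0 := by
    rw [← hμrange]
    rintro _ ⟨z, rfl⟩ c hc
    induction z using TensorProduct.induction_on with
    | zero => simp
    | add a b ha hb => rw [map_add, smul_add, ha, hb, add_zero]
    | tmul x j =>
      rw [hμ_tmul, smul_smul, show c * (j : C') = 0 from (Submodule.eq_bot_iff _).1 hJ _ (Ideal.mul_mem_mul hc j.2),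
        zero_smul]
  have hsupp : ∀ {N : Type u} [AddCommGroup N] [Module A' N] (f : M' →ₗ[A'] N),
      (∀ c ∈ m, ∀ x, f (c • x) = 0) → P ≤ LinearMap.ker f := by
    intro N _ _ f hf
    refine Submodule.smul_le.2 fun a ha x _ => ?_
    induction ha using Submodule.span_induction with
    | mem a ha =>
      obtain ⟨c, hc, rfl⟩ := ha
      rw [LinearMap.mem_ker, IsScalarTower.algebraMap_smul]
      exact hf c hc x
    | zero => rw [zero_smul]; exact zero_mem _
    | add a b _ _ ha hb => rw [add_smul]; exact add_mem ha hb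
    | smul c a _ ha => rw [smul_assoc]; exact Submodule.smul_mem _ c ha
  let ρ : M' ⊗[C'] ↥J →ₗ[A'] (M' ⧸ P) ⊗[C'] ↥J := TensorProduct.AlgebraTensorModule.map P.mkQ (LinearMap.id : ↥J →ₗ[C'] ↥J)
  have hρ : ∀ z, ρ z = LinearMap.rTensor ↥J (P.mkQ.restrictScalars C') z := fun z => by
    induction z using TensorProduct.induction_on with
    | zero => simp
    | tmul x j => simp [ρ]
    | add a b ha hb => simp only [map_add, ha, hb]
  have hPJ : ∀ x ∈ P, ∀ j : ↥J, x ⊗ₜ[C'] j = (0 : M' ⊗[C'] ↥J) := fun x hx j =>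
    hsupp ((TensorProduct.AlgebraTensorModule.mk C' A' M' ↥J).flip j) (fun c hc y => by
      show (c • y) ⊗ₜ[C'] j = 0
      rw [TensorProduct.smul_tmul, show c • j = 0 from Subtype.ext ((Submodule.eq_bot_iff _).1 hJ _ (Ideal.mul_mem_mul hc j.2)),
        TensorProduct.tmul_zero]) hx
  have hρbij : Function.Bijective ρ := by
    refine ⟨(injective_iff_map_eq_zero _).2 fun z hz => ?_, fun w => ?_⟩
    · rw [hρ] at hz
      obtain ⟨t, rfl⟩ := (rTensor_exact ↥J (f := P.subtype.restrictScalars C') (g := P.mkQ.restrictScalars C')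
        (LinearMap.exact_subtype_mkQ P) (Submodule.mkQ_surjective P) z).1 hz
      clear hz
      induction t using TensorProduct.induction_on with
      | zero => simp
      | tmul x j => exact hPJ x x.2 j
      | add a b ha hb => rw [map_add, ha, hb, add_zero]
    · obtain ⟨z, hz⟩ := LinearMap.rTensor_surjective ↥J (g := P.mkQ.restrictScalars C') (Submodule.mkQ_surjective P) w
      exact ⟨z, (hρ z).trans hz⟩
  let ρe := LinearEquiv.ofBijective ρ hρbij
  refine ⟨fun σ hσ => ?_, fun τ => ?_⟩
  · let δ : M' →ₗ[A'] M' := σ - LinearMap.id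
    have hδ : ∀ x, δ x ∈ JM := hσ
    have hδc : ∀ (c : C') (x : M'), δ (c • x) = c • δ x := fun c x => LinearMap.map_smul_of_tower δ c x
    have hδ2 : ∀ x, δ (δ x) = 0 := fun x => by
      obtain ⟨z, hz⟩ := hμrange.ge (hδ x)
      rw [← hz]
      clear hz
      induction z using TensorProduct.induction_on with
      | zero => simp
      | tmul y j => rw [hμ_tmul, hδc]; exact hkill _ (hδ y) _ (hJm j.2)
      | add a b ha hb => rw [map_add, map_add, ha, hb, add_zero]
    refine ⟨⟨fun a b hab => ?_, fun y => ⟨y - δ y, ?_⟩⟩, ?_⟩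
    · have h1 : ∀ t, σ t - δ (σ t) = t := fun t => by
        have : σ t = t + δ t := by simp [δ]
        rw [this, map_add, hδ2]; abel
      rw [← h1 a, ← h1 b, hab]
    · have : ∀ t, σ t = t + δ t := fun t => by simp [δ]
      rw [this, map_sub, hδ2]; abel
    · let μe := (LinearEquiv.ofInjective μ hμinj).trans (LinearEquiv.ofEq _ _ hμrange)
      let ψ : M' →ₗ[A'] (M' ⧸ P) ⊗[C'] ↥J := ρ ∘ₗ μe.symm.toLinearMap ∘ₗ δ.codRestrict JM hδ
      have hψ : P ≤ LinearMap.ker ψ := hsupp ψ fun c hc x => by
        show ρ (μe.symm (δ.codRestrict JM hδ (c • x))) = 0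
        rw [show δ.codRestrict JM hδ (c • x) = 0 from Subtype.ext ((hδc c x).trans (hkill _ (hδ x) c hc)), map_zero, map_zero]
      have key : ∀ (x : M') (z : M' ⊗[C'] ↥J), μ z = σ x - x → μe.symm (δ.codRestrict JM hδ x) = z := fun x z hz => by
        rw [LinearEquiv.symm_apply_eq]
        exact Subtype.ext hz.symm
      refine ⟨P.liftQ ψ hψ, fun x z hz => ?_, fun τ' hτ' => Submodule.linearMap_qext _ (LinearMap.ext fun x => ?_)⟩
      · show _ = ρ (μe.symm (δ.codRestrict JM hδ x))
        rw [key x z ((hμ z).trans hz)]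
        exact (hρ z).symm
      · obtain ⟨z, hz⟩ := hμrange.ge (hδ x)
        show τ' (P.mkQ x) = ρ (μe.symm (δ.codRestrict JM hδ x))
        rw [key x z hz, hρ]
        exact (hτ' x z ((hμ z).symm.trans hz)).symm
  · refine ⟨LinearMap.id + μ ∘ₗ ρe.symm.toLinearMap ∘ₗ τ ∘ₗ P.mkQ, fun x => ?_, fun x z hz => ?_⟩
    · simp only [LinearMap.add_apply, LinearMap.id_apply, add_sub_cancel_left]
      exact hμrange.le ⟨_, rfl⟩
    · simp only [LinearMap.add_apply, LinearMap.id_apply, add_sub_cancel_left] at hz
      rw [← hμ] at hz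
      have h := hμinj hz
      rw [← hρ, h]
      exact ρe.apply_symm_apply (τ (P.mkQ x))

end Groth.Agent.S11469
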