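import Groth.Statements.S1147
import Groth.Agent.FlatLib.QFCover

set_option autoImplicit false
universe u
open Desc

namespace Groth.Agent.S1147

/-- Let A → B be a faithfully flat ring map of finite presentation. If B is a Jacobson ring then so is
A. (This is the affine descent direction of the statement that the Jacobson property is fppf local.) -/
theorem result (A B : Type u) [CommRing A] [CommRing B] [Algebra A B]
    [Module.FaithfullyFlat A B] [Algebra.FinitePresentation A B] [IsJacobsonRing B] : IsJacobsonRing A := by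
  obtain ⟨S', _, _, ⟨hqf, hfp, hfl, ⟨φ⟩⟩, hff⟩ := FlatLib.exists_qf_cover (R := A) (B := B)
  letI := φ.toRingHom.toAlgebra
  haveI : IsScalarTower A B S' := IsScalarTower.of_algebraMap_eq fun a => (φ.commutes a).symm
  haveI : Algebra.FiniteType A S' := inferInstance
  haveI : Algebra.FiniteType B S' := Algebra.FiniteType.of_restrictScalars_finiteType A B S'
  haveI : IsJacobsonRing S' := isJacobsonRing_of_finiteType (A := B)
  refine isJacobsonRing_iff_prime_eq.2 fun P hP => le_antisymm (fun x hx => ?_) Ideal.le_jacobson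
  by_contra hxP
  have hdisj : Disjoint (P : Set A) (Submonoid.powers x : Set A) := by
    rw [Set.disjoint_right]
    rintro _ ⟨k, rfl⟩ hk
    exact hxP (hP.mem_of_pow_mem k hk)
  let s : Set (Ideal A) := {I | P ≤ I ∧ Disjoint (I : Set A) (Submonoid.powers x : Set A)}
  obtain ⟨q, hPq, ⟨hPq', hqd⟩, hmax⟩ := zorn_le_nonempty₀ s (fun c hc hchain y hy => by
    refine ⟨sSup c, ⟨(hc hy).1.trans (le_sSup hy), ?_⟩, fun z hz => le_sSup hz⟩
    rw [Set.disjoint_left]
    intro a ha ha'
    obtain ⟨J, hJ, haJ⟩ := (Submodule.mem_sSup_of_directed ⟨y, hy⟩ hchain.directedOn).1 ha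
    exact Set.disjoint_left.1 (hc hJ).2 haJ ha') P ⟨le_rfl, hdisj⟩
  have hqp : q.IsPrime := Ideal.isPrime_of_maximally_disjoint q (Submonoid.powers x) hqd
    fun J hJ hJd => hJ.not_ge (hmax ⟨hPq'.trans hJ.le, hJd⟩ hJ.le)
  have hxq : x ∉ q := fun h => Set.disjoint_left.1 hqd h (Submonoid.mem_powers x)
  obtain ⟨m, hm, hqm⟩ := q.exists_le_maximal hqp.ne_top
  have hxm : x ∈ m := by
    rw [Ideal.jacobson, Ideal.mem_sInf] at hx
    exact hx ⟨hPq'.trans hqm, hm⟩
  obtain ⟨Q, hQ⟩ := PrimeSpectrum.comap_surjective_of_faithfullyFlat (A := A) (B := S') ⟨m, hm.isPrime⟩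
  haveI : Q.asIdeal.LiesOver m := ⟨(congrArg PrimeSpectrum.asIdeal hQ).symm⟩
  haveI := hqp
  obtain ⟨η, hηQ, hη, hηq⟩ := Ideal.exists_ideal_le_liesOver_of_le Q.asIdeal (p := q) (q := m) hqm
  have hxη : algebraMap A S' x ∉ η := fun h => hxq (by rw [hηq.over]; exact h)
  obtain ⟨M, hηM, hMmax, hxM⟩ : ∃ M : Ideal S', η ≤ M ∧ M.IsMaximal ∧ algebraMap A S' x ∉ M := by
    by_contra hcon
    refine hxη ?_
    rw [← isJacobsonRing_iff_prime_eq.1 inferInstance η hη, Ideal.jacobson, Ideal.mem_sInf]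
    rintro M ⟨hηM, hMmax⟩
    by_contra hxM
    exact hcon ⟨M, hηM, hMmax, hxM⟩
  have hMq : η.under A = M.under A := by
    refine le_antisymm (Ideal.comap_mono hηM) ?_
    rw [← hηq.over]
    refine hmax ⟨hPq'.trans (hηq.over.le.trans (Ideal.comap_mono hηM)), ?_⟩
      (hηq.over.le.trans (Ideal.comap_mono hηM))
    rw [Set.disjoint_right]
    rintro _ ⟨k, rfl⟩ hk
    refine hxM (hMmax.isPrime.mem_of_pow_mem k ?_)
    have hk' : algebraMap A S' (x ^ k) ∈ M := hk
    rwa [map_pow] at hk'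
  haveI := hMmax.isPrime
  obtain rfl := Algebra.QuasiFinite.eq_of_le_of_under_eq (R := A) η M hηM hMq
  have hQη : η = Q.asIdeal := hMmax.eq_of_le Q.2.ne_top hηQ
  refine hxη ?_
  rw [hQη]
  have : x ∈ Q.asIdeal.under A := by rw [← (inferInstance : Q.asIdeal.LiesOver m).over]; exact hxm
  exact this

end Groth.Agent.S1147
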