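import Groth.Statements.S11470
import Mathlib.FieldTheory.RatFunc.AsPolynomial
import Mathlib.FieldTheory.IntermediateField.Adjoin.Basic
import Mathlib.FieldTheory.IsAlgClosed.Basic
import Mathlib.RingTheory.IntegralClosure.IsIntegralClosure.Basic
import Mathlib.RingTheory.Polynomial.UniqueFactorization
import Mathlib.RingTheory.UniqueFactorizationDomain.GCDMonoid
import Mathlib.Tactic.FieldSimp
import Mathlib.Tactic.LinearCombination
import Mathlib.Tactic.ComputeDegree
-- import your own Groth.Agent.* helpers here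

set_option autoImplicit false
universe u
open Curves

namespace Groth.Agent.S11470

/-- The algebraic step of its proof: Fix an algebraically closed field k whose characteristic is neither
2 nor 3, let B ⊆ k(λ) be the k-subalgebra generated by λ, λ⁻¹ and (λ - 1)⁻¹ (the coordinate ring of
the λ-line with 0 and 1 removed), and let σ and τ be the k-algebra automorphisms of k(λ) determined
by σ(λ) = λ⁻¹ and τ(λ) = 1 - λ (they generate the group of order six permuting λ, 1/λ, 1-λ, 1/(1-λ),
λ/(λ-1), (λ-1)/λ). Then the elements of B fixed by σ and τ are exactly the elements of the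
k-subalgebra generated by j = 256 (λ² - λ + 1)³ / (λ² (λ - 1)²); in other words the ring of
invariants of B is the polynomial ring k[j]. -/
theorem result (k : Type u) [Field k] [IsAlgClosed k]
    (h2 : (2 : k) ≠ 0) (h3 : (3 : k) ≠ 0)
    (σ τ : RatFunc k ≃ₐ[k] RatFunc k) (hσ : σ RatFunc.X = (RatFunc.X : RatFunc k)⁻¹)
    (hτ : τ RatFunc.X = 1 - (RatFunc.X : RatFunc k)) (b : RatFunc k) :
    (b ∈ Algebra.adjoin k ({RatFunc.X, (RatFunc.X : RatFunc k)⁻¹, ((RatFunc.X : RatFunc k) - 1)⁻¹} : Set (RatFunc k)) ∧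
        σ b = b ∧ τ b = b) ↔
      b ∈ Algebra.adjoin k ({(256 : RatFunc k) * ((RatFunc.X : RatFunc k) ^ 2 - RatFunc.X + 1) ^ 3 /
        ((RatFunc.X : RatFunc k) ^ 2 * ((RatFunc.X : RatFunc k) - 1) ^ 2)} : Set (RatFunc k)) := by
  classical
  set l : RatFunc k := RatFunc.X with hl
  set j : RatFunc k := (256 : RatFunc k) * (l ^ 2 - l + 1) ^ 3 / (l ^ 2 * (l - 1) ^ 2) with hj
  have hC : ∀ a b c : k, RatFunc.C a * l ^ 2 + RatFunc.C b * l + RatFunc.C c = 0 → a = 0 ∧ b = 0 ∧ c = 0 := by
    intro a b c h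
    have h' : algebraMap (Polynomial k) (RatFunc k) (Polynomial.C a * Polynomial.X ^ 2 + Polynomial.C b * Polynomial.X + Polynomial.C c) = 0 := by
      simpa [RatFunc.algebraMap_C, RatFunc.algebraMap_X, hl] using h
    rw [map_eq_zero_iff _ (RatFunc.algebraMap_injective k)] at h'
    refine ⟨?_, ?_, ?_⟩
    · simpa using congrArg (fun q => Polynomial.coeff q 2) h'
    · simpa using congrArg (fun q => Polynomial.coeff q 1) h'
    · simpa using congrArg (fun q => Polynomial.coeff q 0) h'
  have l0 : l ≠ 0 := RatFunc.X_ne_zero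
  have fA : l ^ 2 - 1 ≠ 0 := fun h => one_ne_zero (hC 1 0 (-1) (by rw [map_one, map_zero, map_neg, map_one]; linear_combination h)).1
  have fB : 2 * l - 1 ≠ 0 := fun h => one_ne_zero (neg_eq_zero.mp (hC 0 2 (-1) (by rw [map_zero, map_ofNat, map_neg, map_one]; linear_combination h)).2.2)
  have fC : l ^ 2 - l + 1 ≠ 0 := fun h => one_ne_zero (hC 1 (-1) 1 (by rw [map_neg, map_one]; linear_combination h)).1
  have fD : l ^ 2 - 2 * l ≠ 0 := fun h => one_ne_zero (hC 1 (-2) 0 (by rw [map_neg, map_one, map_zero, map_ofNat]; linear_combination h)).1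
  have fE : l - 2 ≠ 0 := fun h => one_ne_zero (hC 0 1 (-2) (by rw [map_neg, map_one, map_zero, map_ofNat]; linear_combination h)).2.1
  have fF : l + 1 ≠ 0 := fun h => one_ne_zero (hC 0 1 1 (by rw [map_one, map_zero]; linear_combination h)).2.1
  have l1 : l - 1 ≠ 0 := fun h => one_ne_zero (hC 0 1 (-1) (by rw [map_neg, map_one, map_zero]; linear_combination h)).2.1
  have l1' : 1 - l ≠ 0 := fun h => l1 (by linear_combination -h)
  have hσj : σ j = j := by
    rw [hj]; simp only [map_div₀, map_mul, map_pow, map_add, map_sub, map_one, map_ofNat, hσ]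
    rw [show l⁻¹ ^ 2 - l⁻¹ + 1 = (l ^ 2 - l + 1) * l⁻¹ ^ 2 by field_simp; ring, show l⁻¹ - 1 = (1 - l) * l⁻¹ by field_simp]
    field_simp; ring
  have hτj : τ j = j := by
    rw [hj]; simp only [map_div₀, map_mul, map_pow, map_add, map_sub, map_one, map_ofNat, hτ]
    rw [show (1 : RatFunc k) - l - 1 = -l by ring]
    field_simp; ring
  have h256 : (256 : k) ≠ 0 := by
    have : (256 : k) = 2 ^ 8 := by norm_num
    rw [this]; exact pow_ne_zero _ h2
  constructor
  swap
  · intro hb
    refine ⟨?_, ?_, ?_⟩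
    · refine Algebra.adjoin_le ?_ hb
      rintro _ rfl
      rw [SetLike.mem_coe, hj, div_eq_mul_inv, mul_inv, ← inv_pow, ← inv_pow]
      have hX := Algebra.subset_adjoin (R := k) (s := ({l, l⁻¹, (l - 1)⁻¹} : Set (RatFunc k))) (Set.mem_insert _ _)
      refine mul_mem (mul_mem (ofNat_mem _ 256) (pow_mem (add_mem (sub_mem (pow_mem hX _) hX) (one_mem _)) _)) (mul_mem (pow_mem ?_ _) (pow_mem ?_ _))
      · exact Algebra.subset_adjoin (by simp)
      · exact Algebra.subset_adjoin (by simp)
    · exact AlgHom.adjoin_le_equalizer (σ : RatFunc k →ₐ[k] RatFunc k) (AlgHom.id k _) (by rintro _ rfl; exact hσj) hb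
    · exact AlgHom.adjoin_le_equalizer (τ : RatFunc k →ₐ[k] RatFunc k) (AlgHom.id k _) (by rintro _ rfl; exact hτj) hb
  rintro ⟨hbB, hbσ, hbτ⟩
  let φ : Polynomial k →ₐ[k] RatFunc k := Polynomial.aeval j
  have htr : Function.Injective φ := by
    by_contra hni
    have halg : IsIntegral k j := by
      by_contra hh
      exact hni (transcendental_iff_injective.mp (fun ha => hh (IsAlgebraic.isIntegral ha)))
    obtain ⟨c, hc⟩ : j ∈ Set.range (algebraMap k (RatFunc k)) :=
      minpoly.mem_range_of_degree_eq_one k j (IsAlgClosed.degree_eq_one_of_irreducible k (minpoly.irreducible halg))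
    rw [hj, eq_div_iff (mul_ne_zero (pow_ne_zero 2 l0) (pow_ne_zero 2 l1))] at hc
    have hp : algebraMap (Polynomial k) (RatFunc k) (Polynomial.C c * (Polynomial.X ^ 2 * (Polynomial.X - 1) ^ 2)) =
        algebraMap (Polynomial k) (RatFunc k) (256 * (Polynomial.X ^ 2 - Polynomial.X + 1) ^ 3) := by
      simpa [RatFunc.algebraMap_C, RatFunc.algebraMap_X, RatFunc.algebraMap_eq_C, hl, map_ofNat] using hc
    have := congrArg (Polynomial.eval 0) (RatFunc.algebraMap_injective k hp)
    simp at this
    exact h256 this.symm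
  let P0 : Polynomial (Polynomial k) := (Polynomial.X ^ 2 - Polynomial.X + 1) ^ 3 -
    Polynomial.C (Polynomial.C (256 : k)⁻¹ * Polynomial.X) * (Polynomial.X ^ 2 * (Polynomial.X - 1) ^ 2)
  have hP0 : P0.Monic := by
    have : ((Polynomial.X : Polynomial (Polynomial k)) ^ 2 - Polynomial.X + 1).Monic := by monicity!
    refine (this.pow 3).sub_of_left ?_
    have h1 : (((Polynomial.X : Polynomial (Polynomial k)) ^ 2 - Polynomial.X + 1) ^ 3).degree = 6 := by compute_degree!
    rw [h1]
    refine lt_of_le_of_lt (b := (4 : WithBot ℕ)) ?_ (by decide)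
    compute_degree
  have hP0deg : P0.natDegree ≤ 6 := by simp only [P0]; compute_degree
  have hφX : φ Polynomial.X = j := Polynomial.aeval_X j
  have hP0l : P0.eval₂ φ.toRingHom l = 0 := by
    simp only [P0, Polynomial.eval₂_sub, Polynomial.eval₂_mul, Polynomial.eval₂_pow, Polynomial.eval₂_add, Polynomial.eval₂_X, Polynomial.eval₂_one,
      Polynomial.eval₂_C, AlgHom.toRingHom_eq_coe, RingHom.coe_coe, map_mul, hφX]
    rw [show φ (Polynomial.C (256 : k)⁻¹) = ((256 : RatFunc k))⁻¹ by
      rw [show φ (Polynomial.C (256 : k)⁻¹) = algebraMap k (RatFunc k) (256 : k)⁻¹ from Polynomial.aeval_C _ _, map_inv₀, map_ofNat]]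
    have h256' : (256 : RatFunc k) ≠ 0 := by rw [← map_ofNat (algebraMap k (RatFunc k)) 256]; simpa using h256
    rw [hj]; field_simp; ring
  have hfix : ∀ (θ : RatFunc k ≃ₐ[k] RatFunc k), θ j = j → ∀ x, φ.toRingHom.IsIntegralElem x → φ.toRingHom.IsIntegralElem (θ x) := by
    intro θ hθ x ⟨q, hq, hqx⟩
    refine ⟨q, hq, ?_⟩
    have hc : (θ : RatFunc k →+* RatFunc k).comp φ.toRingHom = φ.toRingHom :=
      congrArg AlgHom.toRingHom (show (θ : RatFunc k →ₐ[k] RatFunc k).comp φ = φ from Polynomial.algHom_ext (by simp [hφX, hθ]))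
    have := congrArg (θ : RatFunc k →+* RatFunc k) hqx
    rwa [Polynomial.hom_eval₂, map_zero, hc] at this
  have hli : φ.toRingHom.IsIntegralElem l := ⟨P0, hP0, hP0l⟩
  have hbint : φ.toRingHom.IsIntegralElem b := by
    have hsub : ∀ x ∈ ({l, l⁻¹, (l - 1)⁻¹} : Set (RatFunc k)), φ.toRingHom.IsIntegralElem x := by
      rintro x (rfl | rfl | rfl)
      · exact hli
      · exact hσ ▸ hfix σ hσj l hli
      · have := (hfix τ hτj _ (hfix σ hσj l hli)).neg
        rwa [hσ, map_inv₀, hτ, ← inv_neg, neg_sub] at this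
    clear hbσ hbτ
    induction hbB using Algebra.adjoin_induction with
    | mem x hx => exact hsub x hx
    | algebraMap r =>
      have := φ.toRingHom.isIntegralElem_map (x := Polynomial.C r)
      rwa [show φ.toRingHom (Polynomial.C r) = algebraMap k (RatFunc k) r from Polynomial.aeval_C _ _] at this
    | add x y _ _ hx hy => exact RingHom.IsIntegralElem.add φ.toRingHom hx hy
    | mul x y _ _ hx hy => exact RingHom.IsIntegralElem.mul φ.toRingHom hx hy
  let F : IntermediateField k (RatFunc k) :=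
    (AlgHom.equalizer (σ : RatFunc k →ₐ[k] RatFunc k) (AlgHom.id k _) ⊓ AlgHom.equalizer (τ : RatFunc k →ₐ[k] RatFunc k) (AlgHom.id k _)).toIntermediateField
      (fun x hx => ⟨show σ x⁻¹ = x⁻¹ by rw [map_inv₀, show σ x = x from hx.1], show τ x⁻¹ = x⁻¹ by rw [map_inv₀, show τ x = x from hx.2]⟩)
  let G : IntermediateField k (RatFunc k) := IntermediateField.adjoin k {j}
  have hGF : G ≤ F := IntermediateField.adjoin_le_iff.mpr (by rintro _ rfl; exact ⟨hσj, hτj⟩)
  have hjG : j ∈ G := IntermediateField.mem_adjoin_simple_self k j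
  let φG : Polynomial k →ₐ[k] G := Polynomial.aeval (⟨j, hjG⟩ : G)
  let PG : Polynomial G := P0.map φG.toRingHom
  have hPG : Polynomial.aeval l PG = 0 := by
    rw [Polynomial.aeval_def, Polynomial.eval₂_map]
    convert hP0l using 2
    exact congrArg AlgHom.toRingHom (show G.val.comp φG = φ from Polynomial.algHom_ext (by simp [φG, hφX]))
  have hintG : IsIntegral G l := ⟨PG, hP0.map _, by simpa [Polynomial.aeval_def] using hPG⟩
  have htopX : IntermediateField.adjoin k ({l} : Set (RatFunc k)) = ⊤ := by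
    refine top_unique fun x _ => ?_
    rw [← RatFunc.num_div_denom x]
    have hal : ∀ q : Polynomial k, algebraMap (Polynomial k) (RatFunc k) q ∈ IntermediateField.adjoin k ({l} : Set (RatFunc k)) := fun q => by
      rw [← RatFunc.aeval_X_left_eq_algebraMap]
      exact IntermediateField.algebra_adjoin_le_adjoin k _ (Algebra.adjoin_singleton_eq_range_aeval k l ▸ ⟨q, rfl⟩)
    exact div_mem (hal _) (hal _)
  have htop : ∀ H : IntermediateField k (RatFunc k), IntermediateField.adjoin H ({l} : Set (RatFunc k)) = ⊤ := by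
    intro H
    apply IntermediateField.restrictScalars_injective k
    rw [IntermediateField.restrictScalars_top, eq_top_iff, ← htopX, IntermediateField.adjoin_le_iff, Set.singleton_subset_iff]
    exact IntermediateField.mem_adjoin_simple_self (↥H) l
  haveI hfdG : FiniteDimensional G (RatFunc k) := by
    have h := IntermediateField.adjoin.finiteDimensional hintG
    rw [htop G] at h
    exact Module.Finite.equiv (IntermediateField.topEquiv : (⊤ : IntermediateField G (RatFunc k)) ≃ₐ[G] RatFunc k).toLinearEquiv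
  have hG6 : Module.finrank G (RatFunc k) ≤ 6 := by
    have h := IntermediateField.adjoin.finrank hintG
    rw [htop G, IntermediateField.finrank_top'] at h
    rw [h]
    refine le_trans (Polynomial.natDegree_le_of_dvd (minpoly.dvd G l hPG) (hP0.map _).ne_zero) ?_
    exact Polynomial.natDegree_map_le.trans hP0deg
  have hintF : IsIntegral F l := by
    let iGF : G →+* F := (IntermediateField.inclusion hGF).toRingHom
    refine ⟨PG.map iGF, (hP0.map _).map _, ?_⟩
    rw [Polynomial.eval₂_map]
    exact (Polynomial.aeval_def l PG).symm.trans hPG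
  let Q := minpoly F l
  have hmov : ∀ (θ : RatFunc k ≃ₐ[k] RatFunc k), (∀ c : F, θ c = c) → ∀ x, Polynomial.aeval x Q = 0 → Polynomial.aeval (θ x) Q = 0 := by
    intro θ hθ x hx
    have := congrArg (θ : RatFunc k →+* RatFunc k) hx
    rw [Polynomial.aeval_def, Polynomial.hom_eval₂, map_zero, show (θ : RatFunc k →+* RatFunc k).comp (algebraMap F (RatFunc k)) = algebraMap F (RatFunc k) from RingHom.ext hθ] at this
    exact this
  have hQσ := hmov σ (fun c => c.2.1)
  have hQτ := hmov τ (fun c => c.2.2)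
  have r1 : Polynomial.aeval l Q = 0 := minpoly.aeval F l
  have r2 : Polynomial.aeval l⁻¹ Q = 0 := hσ ▸ hQσ l r1
  have r3 : Polynomial.aeval (1 - l) Q = 0 := hτ ▸ hQτ l r1
  have r4 : Polynomial.aeval (1 - l⁻¹) Q = 0 := by
    have := hQσ _ r3; rwa [map_sub, map_one, hσ] at this
  have r5 : Polynomial.aeval (1 - l)⁻¹ Q = 0 := by
    have := hQτ _ r2; rwa [map_inv₀, hτ] at this
  have r6 : Polynomial.aeval (1 - l⁻¹)⁻¹ Q = 0 := by
    have := hQσ _ r5; rwa [map_inv₀, map_sub, map_one, hσ] at this
  have h6 : 6 ≤ Q.natDegree := by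
    let S : Finset (RatFunc k) := {l, l⁻¹, 1 - l, 1 - l⁻¹, (1 - l)⁻¹, (1 - l⁻¹)⁻¹}
    have e6 : (1 - l⁻¹)⁻¹ = l / (l - 1) := by
      rw [show 1 - l⁻¹ = (l - 1) / l by field_simp, inv_div]
    have d1 : l ≠ l⁻¹ := fun h => fA (by field_simp at h; linear_combination h)
    have d2 : l ≠ 1 - l := fun h => fB (by linear_combination h)
    have d3 : l ≠ 1 - l⁻¹ := fun h => fC (by field_simp at h; linear_combination h)
    have d4 : l ≠ (1 - l)⁻¹ := fun h => fC (by field_simp at h; linear_combination -h)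
    have d5 : l ≠ (1 - l⁻¹)⁻¹ := fun h => fD (by rw [e6] at h; field_simp at h; first | linear_combination h | linear_combination -h | linear_combination l * h | linear_combination -l * h)
    have d6 : l⁻¹ ≠ 1 - l := fun h => fC (by field_simp at h; linear_combination h)
    have d7 : l⁻¹ ≠ 1 - l⁻¹ := fun h => fE (by field_simp at h; linear_combination -h)
    have d8 : l⁻¹ ≠ (1 - l)⁻¹ := fun h => fB (by field_simp at h; linear_combination -h)
    have d9 : l⁻¹ ≠ (1 - l⁻¹)⁻¹ := fun h => fC (by rw [e6] at h; field_simp at h; first | linear_combination h | linear_combination -h)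
    have d10 : 1 - l ≠ 1 - l⁻¹ := fun h => fA (by field_simp at h; linear_combination -h)
    have d11 : 1 - l ≠ (1 - l)⁻¹ := fun h => fD (by field_simp at h; linear_combination h)
    have d12 : 1 - l ≠ (1 - l⁻¹)⁻¹ := fun h => fC (by rw [e6] at h; field_simp at h; first | linear_combination h | linear_combination -h)
    have d13 : 1 - l⁻¹ ≠ (1 - l)⁻¹ := fun h => fC (by field_simp at h; linear_combination -h)
    have d14 : 1 - l⁻¹ ≠ (1 - l⁻¹)⁻¹ := fun h => fB (by rw [e6] at h; field_simp at h; first | linear_combination h | linear_combination -h)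
    have d15 : (1 - l)⁻¹ ≠ (1 - l⁻¹)⁻¹ := fun h => fA (by rw [e6] at h; field_simp at h; first | linear_combination h | linear_combination -h)
    have hS : S.card = 6 := by simp [S, d1, d2, d3, d4, d5, d6, d7, d8, d9, d10, d11, d12, d13, d14, d15]
    have hQ0 : Q.map (algebraMap F (RatFunc k)) ≠ 0 := ((minpoly.monic hintF).map _).ne_zero
    calc 6 = S.card := hS.symm
      _ ≤ (Q.map (algebraMap F (RatFunc k))).natDegree := by
        refine Polynomial.card_le_degree_of_subset_roots fun x hx => ?_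
        rw [Polynomial.mem_roots hQ0, Polynomial.IsRoot, Polynomial.eval_map, ← Polynomial.aeval_def]
        simp only [S, Finset.mem_val, Finset.mem_insert, Finset.mem_singleton] at hx
        rcases hx with rfl | rfl | rfl | rfl | rfl | rfl <;> assumption
      _ = Q.natDegree := Polynomial.natDegree_map _
  have hF6 : 6 ≤ Module.finrank F (RatFunc k) := by
    have h := IntermediateField.adjoin.finrank hintF
    rw [htop F, IntermediateField.finrank_top'] at h
    rw [h]; exact h6
  have hFG : G = F := IntermediateField.eq_of_le_of_finrank_le' hGF (hG6.trans hF6)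
  have hbG : b ∈ G := hFG ▸ (⟨hbσ, hbτ⟩ : b ∈ F)
  obtain ⟨r, s, hrs⟩ := IntermediateField.mem_adjoin_simple_iff k b |>.mp hbG
  let ψ : RatFunc k →ₐ[k] RatFunc k := RatFunc.liftAlgHom φ (nonZeroDivisors_le_comap_nonZeroDivisors_of_injective _ htr)
  have hψ : ∀ q : Polynomial k, ψ (algebraMap (Polynomial k) (RatFunc k) q) = φ q := fun q => by
    simp [ψ, RatFunc.liftAlgHom_apply]
  obtain ⟨q, hq, hqb⟩ := hbint
  have hb' : b = ψ (algebraMap _ (RatFunc k) r / algebraMap _ (RatFunc k) s) := by rw [map_div₀, hψ, hψ, hrs]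
  have hcomp : (ψ : RatFunc k →+* RatFunc k).comp (algebraMap (Polynomial k) (RatFunc k)) = φ.toRingHom := RingHom.ext hψ
  rw [hb', ← hcomp] at hqb
  erw [← Polynomial.hom_eval₂] at hqb
  replace hqb := (map_eq_zero _).mp hqb
  obtain ⟨e, he⟩ := IsIntegrallyClosed.isIntegral_iff.mp (⟨q, hq, hqb⟩ : IsIntegral (Polynomial k) (algebraMap _ (RatFunc k) r / algebraMap _ (RatFunc k) s))
  rw [hb', ← he, hψ, Algebra.adjoin_singleton_eq_range_aeval]
  exact ⟨e, rfl⟩

end Groth.Agent.S11470
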