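import Groth.Statements.S11473
import Groth.Agent.ZeroFamLib.Artin

set_option autoImplicit false
universe u
open CategoryTheory CategoryTheory.Limits AlgebraicGeometry
open Curves

set_option linter.style.haveILetI false

namespace Groth.Agent.S11473

/-- Let C be an Artinian local ring whose residue field k is algebraically closed, and let f : X → Spec
C be a family of curves of genus zero: f is smooth and proper and its closed fibre X ×_C k is an
integral k-scheme of dimension one with H¹(O) = 0 (over the algebraically closed field k this is the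
condition on the one geometric fibre). Then the family is trivial: X is C-isomorphic to P¹_C. -/
theorem result (C : Type u) [CommRing C] [IsArtinianRing C] [IsLocalRing C]
    [IsAlgClosed (IsLocalRing.ResidueField C)] {X : Scheme.{u}} (f : X ⟶ Spec (CommRingCat.of C)) [Smooth f] [IsProper f]
    (hint : IsIntegral (pullback f (Spec.map (CommRingCat.ofHom (IsLocalRing.residue C)))))
    (hdim : topologicalKrullDim ↥(pullback f (Spec.map (CommRingCat.ofHom (IsLocalRing.residue C)))) = 1)
    (hg : @Curv2.genus (IsLocalRing.ResidueField C) _ (pullback f (Spec.map (CommRingCat.ofHom (IsLocalRing.residue C))))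
        ⟨pullback.snd f (Spec.map (CommRingCat.ofHom (IsLocalRing.residue C)))⟩ = 0) :
    ∃ e : X ≅ CohB1.ProjSpace 1 C, e.hom ≫ CohB1.ProjSpace.toSpec 1 C = f := by
  let κ := IsLocalRing.ResidueField C
  let cl := Spec.map (CommRingCat.ofHom (IsLocalRing.residue C))
  let q := pullback.snd f cl
  haveI : IsIntegral (pullback f cl) := hint
  haveI : Smooth q := MorphismProperty.pullback_snd f cl inferInstance
  haveI : IsProper q := MorphismProperty.pullback_snd f cl inferInstance
  have hq : ModFun.IsCurveOfGenus 0 q := ZeroFamLib.isCurveOfGenus_of_algClosed q hdim hg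
  have hnil : IsNilpotent (IsLocalRing.maximalIdeal C) := by
    rw [← IsLocalRing.jacobson_eq_maximalIdeal ⊥ bot_ne_top]
    exact IsArtinianRing.isNilpotent_jacobson_bot
  have hfac : ∀ (K : Type u) [Field K] (x : Spec (CommRingCat.of K) ⟶ Spec (CommRingCat.of C)),
      ∃ x' : Spec (CommRingCat.of K) ⟶ Spec (CommRingCat.of κ), x' ≫ cl = x := by
    intro K _ x
    obtain ⟨ρ, rfl⟩ := Spec.map_surjective x
    have hker : ∀ a ∈ IsLocalRing.maximalIdeal C, ρ.hom a = 0 := fun a ha => by
      obtain ⟨n, hn⟩ := hnil
      have h : a ^ n ∈ IsLocalRing.maximalIdeal C ^ n := Ideal.pow_mem_pow ha n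
      rw [hn] at h
      have : a ^ n = 0 := by simpa using h
      exact IsNilpotent.eq_zero ⟨n, by rw [← map_pow, this, map_zero]⟩
    refine ⟨Spec.map (CommRingCat.ofHom (Ideal.Quotient.lift _ ρ.hom hker)), ?_⟩
    rw [← Spec.map_comp]
    rfl
  have key : ∀ (K : Type u) [Field K] (x : Spec (CommRingCat.of K) ⟶ Spec (CommRingCat.of C)) (P : Scheme.{u})
      (i : P ⟶ X) (p : P ⟶ Spec (CommRingCat.of K)), IsPullback i p f x →
      ∃ (x' : Spec (CommRingCat.of K) ⟶ Spec (CommRingCat.of κ)) (i' : P ⟶ pullback f cl), IsPullback i' p q x' := by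
    intro K _ x P i p hpb
    obtain ⟨x', rfl⟩ := hfac K x
    refine ⟨x', pullback.lift i (p ≫ x') (by rw [Category.assoc]; exact hpb.w), ?_⟩
    exact IsPullback.of_right (h₁₂ := pullback.fst f cl) (by rw [pullback.lift_fst]; exact hpb)
      (pullback.lift_snd _ _ _) (IsPullback.of_hasPullback f cl)
  have hf : ModFun.IsCurveOfGenus 0 f := by
    refine ⟨inferInstance, inferInstance, ZeroFamLib.geometricallyIrreducible_of_algClosed f fun K _ _ x => ?_,
      fun K _ _ x P i p hpb => ?_⟩
    · obtain ⟨x', i', h'⟩ := key K x _ _ _ (IsPullback.of_hasPullback f x)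
      haveI := hq.2.2.1
      exact GeometricallyIrreducible.geometrically_irreducibleSpace (f := q) _ _ _ h'
    · obtain ⟨x', i', h'⟩ := key K x P i p hpb
      exact hq.2.2.2 K x' P i' p h'
  -- a section
  haveI : IsLocallyNoetherian (pullback f cl) := LocallyOfFiniteType.isLocallyNoetherian q
  haveI : CompactSpace ↥(pullback f cl) := QuasiCompact.compactSpace_of_compactSpace q
  obtain ⟨z, -, hz⟩ := (isClosed_univ (X := ↥(pullback f cl))).exists_closed_singleton Set.univ_nonempty
  let g₀ : SqLift.S₀ (IsLocalRing.maximalIdeal C) ⟶ Over.mk f :=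
    Over.homMk (pointOfClosedPoint q z hz ≫ pullback.fst f cl) (by
      show (pointOfClosedPoint q z hz ≫ pullback.fst f cl) ≫ f = _
      rw [Category.assoc, pullback.condition, ← Category.assoc, pointOfClosedPoint_comp q z hz]
      exact Category.id_comp _)
  haveI : Smooth (Over.mk f).hom := inferInstanceAs (Smooth f)
  obtain ⟨g, -⟩ := Groth.Agent.ConjAvg.exists_lift_nilpotent (X := Over.mk f) hnil g₀
  obtain ⟨R, _, i, hi, hmem, e, he⟩ := ZeroFamLib.exists_local_triv hf g.left (Over.w g) (IsLocalRing.closedPoint C)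
  haveI := hi
  haveI : Surjective i := ⟨fun p => by
    have : p = IsLocalRing.closedPoint C := PrimeSpectrum.ext
      (IsLocalRing.eq_maximalIdeal (IsArtinianRing.isMaximal_of_isPrime (R := C) (show PrimeSpectrum C from p).asIdeal))
    exact this ▸ hmem⟩
  haveI : IsIso i := isIso_of_isOpenImmersion_of_opensRange_eq_top i
    (TopologicalSpace.Opens.ext (Set.range_eq_univ.2 i.surjective))
  obtain ⟨j, hj, -, -⟩ := FibVALib.exists_baseChange 1 (R := C) (Spec.preimage i).hom
  have hi' : Spec.map (CommRingCat.ofHom (Spec.preimage i).hom) = i := Spec.map_preimage i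
  rw [hi'] at hj
  haveI : IsIso j := hj.isIso_fst_of_isIso
  refine ⟨(asIso (pullback.fst f i)).symm ≪≫ e ≪≫ asIso j, ?_⟩
  simp only [Iso.trans_hom, Iso.symm_hom, asIso_inv, asIso_hom, Category.assoc, hj.w]
  rw [← Category.assoc e.hom, he, ← pullback.condition, IsIso.inv_hom_id_assoc]

end Groth.Agent.S11473
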