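import Groth.Statements.S1148
import Mathlib
import Mathlib
-- import your own Groth.Agent.* helpers here

set_option autoImplicit false
universe u
open Desc

namespace Groth.Agent.S1148

/-- Affine form (finiteness of irreducible components of quasi-compact opens is fppf local; this is the
ascent direction for a morphism of affine schemes). Let A → B be a flat ring map of finite
presentation. If Spec A has finitely many irreducible components, then so does Spec B. -/
theorem result (A B : Type u) [CommRing A] [CommRing B] [Algebra A B]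
    [Module.Flat A B] [Algebra.FinitePresentation A B] (h : (irreducibleComponents (PrimeSpectrum A)).Finite) :
    (irreducibleComponents (PrimeSpectrum B)).Finite := by
  have hA : (minimalPrimes A).Finite :=
    PrimeSpectrum.vanishingIdeal_irreducibleComponents (R := A) ▸ h.image _
  have hB : (minimalPrimes B).Finite := by
    let P : Set (PrimeSpectrum A) := {p | p.asIdeal ∈ minimalPrimes A}
    have hP : P.Finite := hA.preimage (fun a _ b _ e => PrimeSpectrum.ext e)
    let φ := PrimeSpectrum.comap (algebraMap A B)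
    let M : PrimeSpectrum A → Set (PrimeSpectrum B) := fun p => {q | φ q = p ∧ q.asIdeal ∈ minimalPrimes B}
    have hM : ∀ p, (M p).Finite := fun p => by
      haveI : IsNoetherianRing (p.asIdeal.Fiber B) := Algebra.FiniteType.isNoetherianRing p.asIdeal.ResidueField _
      let ψ := PrimeSpectrum.preimageOrderIsoFiber A B p
      let S : Set (PrimeSpectrum (p.asIdeal.Fiber B)) := {r | r.asIdeal ∈ minimalPrimes (p.asIdeal.Fiber B)}
      have hS : S.Finite := (minimalPrimes.finite_of_isNoetherianRing _).preimage fun a _ b _ e => PrimeSpectrum.ext e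
      refine ((hS.image ψ.symm).image Subtype.val).subset fun q hq => ?_
      refine ⟨⟨q, hq.1⟩, ⟨ψ ⟨q, hq.1⟩, ?_, ψ.symm_apply_apply _⟩, rfl⟩
      refine ⟨⟨(ψ ⟨q, hq.1⟩).isPrime, bot_le⟩, fun J hJ hle => ?_⟩
      let j : PrimeSpectrum (p.asIdeal.Fiber B) := ⟨J, hJ.1⟩
      have h1 : ψ.symm j ≤ ⟨q, hq.1⟩ := by
        rw [← ψ.symm_apply_apply ⟨q, hq.1⟩]
        exact ψ.symm.monotone hle
      have h2 : (⟨q, hq.1⟩ : PrimeSpectrum.comap (algebraMap A B) ⁻¹' {p}) ≤ ψ.symm j :=
        hq.2.2 ⟨(ψ.symm j).1.isPrime, bot_le⟩ h1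
      have h3 := ψ.monotone h2
      rwa [ψ.apply_symm_apply] at h3
    refine ((hP.biUnion fun p _ => hM p).image PrimeSpectrum.asIdeal).subset fun Q hQ => ?_
    haveI := hQ.1.1
    let q : PrimeSpectrum B := ⟨Q, hQ.1.1⟩
    refine ⟨q, Set.mem_biUnion (show φ q ∈ P from ?_) ⟨rfl, hQ⟩, rfl⟩
    refine ⟨⟨(φ q).isPrime, bot_le⟩, fun p hp hle => ?_⟩
    haveI := hp.1
    haveI : Q.LiesOver (φ q).asIdeal := ⟨rfl⟩
    obtain ⟨Q', hle', hQ', hover⟩ := Ideal.exists_ideal_le_liesOver_of_le (p := p) (q := (φ q).asIdeal) Q hle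
    have hQQ : Q = Q' := le_antisymm (hQ.2 ⟨hQ', bot_le⟩ hle') hle'
    rw [hover.over, ← hQQ]
    exact le_rfl
  rw [← PrimeSpectrum.zeroLocus_minimalPrimes]
  exact hB.image _

end Groth.Agent.S1148
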