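import Groth.Statements.S11484
import Mathlib
import Groth.Agent.VBPnLib.Pn
import Groth.Agent.CurveSDLib.Splitting
import Groth.Agent.PnCohLib.Twist
-- import your own Groth.Agent.* helpers here

set_option autoImplicit false
universe u
open VBPn

namespace Groth.Agent.S11484

open CategoryTheory CategoryTheory.Limits AlgebraicGeometry in
/-- Let k be an algebraically closed field of characteristic zero and n ≥ 2. On P^n_k every short exact
sequence of O-modules whose first term is isomorphic to O(a) and whose third term is isomorphic to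
O(b), for integers a and b, admits a splitting; in particular its middle term is isomorphic to O(a)
⊕ O(b). -/
theorem result (k : Type u) [Field k] [IsAlgClosed k] [CharZero k]
    (n : ℕ) (hn : 2 ≤ n) (a b : ℤ) (S : ShortComplex (CohB1.ProjSpace n k).Modules) (hS : S.ShortExact)
    (ha : Nonempty (S.X₁ ≅ Twist.twistProjSpace n k a)) (hb : Nonempty (S.X₃ ≅ Twist.twistProjSpace n k b)) :
    Nonempty S.Splitting := by
  obtain ⟨ea⟩ := ha
  obtain ⟨eb⟩ := hb
  obtain ⟨e⟩ := PicPnLib.twist_add n k (-b) b
  obtain ⟨e0⟩ := PicPnLib.twist_zero n k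
  obtain ⟨e1⟩ := PicPnLib.twist_add n k (-b) a
  have h1 : Subsingleton (Coh.HH (CohB1.ProjSpace n k) (CohB1.tensorMod (Twist.twistProjSpace n k (-b)) S.X₁) 1) := by
    haveI := PnCohLib.subsingleton_HH_twist (n := n) (R := k) (-b + a) 1 (by omega) (by omega)
    exact (CurvLib.hIso (k := k) (HilbPolyLib.congrRight _ ea ≪≫ e1) 1).toEquiv.subsingleton
  haveI : IsSplitEpi S.g := CurveSDLib.isSplitEpi_of_h1 k hS (PicPnLib.twist_inv n k (-b))
    (HilbPolyLib.congrRight _ eb ≪≫ e ≪≫ eqToIso (congrArg (Twist.twistProjSpace n k) (neg_add_cancel b)) ≪≫ e0) h1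
  exact ⟨ShortComplex.Splitting.ofExactOfSection S hS.exact (section_ S.g) (IsSplitEpi.id S.g) hS.mono_f⟩

end Groth.Agent.S11484
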