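import Groth.Statements.S1149
import Groth.Agent.S16770
import Groth.Agent.IntHomLib.Global

set_option autoImplicit false
set_option backward.isDefEq.respectTransparency false
set_option backward.isDefEq.respectTransparency.types false
set_option maxRecDepth 8000
set_option maxHeartbeats 1000000
universe u
open Pi1

namespace Groth.Agent.S1149

open AlgebraicGeometry CategoryTheory CategoryTheory.Limits in
/-- Let U and V be finite etale over a scheme X. Then some W finite etale over X has the following
property: for every morphism g : T ⟶ X the X-morphisms T ⟶ W are in bijection with the T-morphisms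
U_T ⟶ V_T between the base changes. (The source's identification is moreover compatible with base
change; only the bijections are asserted here.) -/
theorem result {X : Scheme.{u}} (U V : FEt.Cat X) :
    ∃ W : FEt.Cat X, ∀ (T : Scheme.{u}) (g : T ⟶ X),
      Nonempty ({s : T ⟶ W.left // s ≫ W.hom = g} ≃ ((FEt.restrict g).obj U ⟶ (FEt.restrict g).obj V)) := by
  open MonoidalCategory CartesianMonoidalCategory in
  haveI : IsFinite U.hom := U.prop.1
  haveI : Etale U.hom := U.prop.2
  haveI : IsFinite V.hom := V.prop.1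
  haveI : Etale V.hom := V.prop.2
  let U₀ : Over X := Over.mk U.hom
  let V₀ : Over X := Over.mk V.hom
  obtain ⟨M, ev, -, -, huniv⟩ := Groth.Agent.S16770.result U₀ V₀ ‹IsFinite U.hom›
    (inferInstanceAs (Flat U.hom)) (inferInstanceAs (LocallyOfFinitePresentation U.hom))
    (inferInstanceAs (IsAffineHom V.hom)) (inferInstanceAs (LocallyOfFinitePresentation V.hom))
  refine ⟨MorphismProperty.Over.mk ⊤ M.hom
    (IntHom.finite_etale (U := U₀) (V := V₀) ⟨‹_›, ‹_›⟩ ⟨‹_›, ‹_›⟩ ev huniv), fun T g => ⟨?_⟩⟩
  let e1 : {s : T ⟶ M.left // s ≫ M.hom = g} ≃ (Over.mk g ⟶ M) :=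
    { toFun := fun s => Over.homMk s.1 s.2
      invFun := fun v => ⟨v.left, Over.w v⟩
      left_inv := fun _ => rfl
      right_inv := fun _ => rfl }
  let e2 : (Over.mk g ⟶ M) ≃ (U₀ ⊗ Over.mk g ⟶ V₀) :=
    Equiv.ofBijective (fun v => U₀ ◁ v ≫ ev)
      ⟨fun v v' h => (huniv _ _).unique h rfl, fun φ => (huniv _ φ).exists⟩
  have hw : ∀ φ : U₀ ⊗ Over.mk g ⟶ V₀, φ.left ≫ V.hom = pullback.snd U.hom g ≫ g := fun φ =>
    (Over.w φ).trans pullback.condition
  have hw' : ∀ ψ : (FEt.restrict g).obj U ⟶ (FEt.restrict g).obj V,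
      (ψ.left ≫ pullback.fst V.hom g) ≫ V.hom = pullback.fst U.hom g ≫ U.hom := fun ψ => by
    rw [Category.assoc, pullback.condition, ← Category.assoc, pullback.condition]
    exact congrArg (· ≫ g) (MorphismProperty.Over.w ψ)
  let e3 : (U₀ ⊗ Over.mk g ⟶ V₀) ≃ ((FEt.restrict g).obj U ⟶ (FEt.restrict g).obj V) :=
    { toFun := fun φ => MorphismProperty.Over.homMk (pullback.lift φ.left (pullback.snd U.hom g) (hw φ))
        (pullback.lift_snd _ _ _)
      invFun := fun ψ => Over.homMk (ψ.left ≫ pullback.fst V.hom g) (hw' ψ)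
      left_inv := fun φ => Over.OverMorphism.ext (pullback.lift_fst _ _ _)
      right_inv := fun ψ => by
        apply MorphismProperty.Over.Hom.ext
        apply pullback.hom_ext
        · exact pullback.lift_fst _ _ _
        · exact (pullback.lift_snd _ _ _).trans (MorphismProperty.Over.w ψ).symm }
  exact e1.trans (e2.trans e3)

end Groth.Agent.S1149
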