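import Groth.Statements.S11493
import Mathlib
-- import your own Groth.Agent.* helpers here

set_option autoImplicit false
universe u
open CategoryTheory
open VBPn

namespace Groth.Agent.S11493

set_option maxHeartbeats 400000
open CategoryTheory Abelian in
lemma free_of_ext_zero {A : Type u} [CommRing A] [IsNoetherianRing A] [IsLocalRing A]
    (M X : ModuleCat.{u} A) (iX : X ≅ ModuleCat.of A A)
    (F : Type u) [AddCommGroup F] [Module A F] [Module.Free A F] [Module.Finite A F]
    (ψ : F →ₗ[A] M) (hψ : Function.Surjective ψ) [Module.Free A (LinearMap.ker ψ)]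
    (hext : ∀ x : Ext M X 1, x = 0) : Module.Free A M := by
  classical
  let K := LinearMap.ker ψ
  let T : ShortComplex (ModuleCat.{u} A) :=
    ShortComplex.mk (ModuleCat.ofHom K.subtype) (ModuleCat.ofHom ψ : ModuleCat.of A F ⟶ M) (by
      ext x; exact x.2)
  have hT : T.ShortExact :=
    { exact := (ShortComplex.moduleCat_exact_iff _).mpr fun x hx => ⟨⟨x, hx⟩, rfl⟩
      mono_f := (ModuleCat.mono_iff_injective _).mpr K.injective_subtype
      epi_g := (ModuleCat.epi_iff_surjective _).mpr hψ }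
  have hextend : ∀ l : K →ₗ[A] A, ∃ L : F →ₗ[A] A, L ∘ₗ K.subtype = l := by
    intro l
    let g' : T.X₁ ⟶ X := ModuleCat.ofHom l ≫ iX.inv
    obtain ⟨x₂, hx₂⟩ := Ext.contravariant_sequence_exact₁ hT X (Ext.mk₀ g') (add_zero 1) (hext _)
    rw [← Ext.mk₀_homEquiv₀_apply x₂, Ext.mk₀_comp_mk₀] at hx₂
    have hg : T.f ≫ (Ext.homEquiv₀ x₂ ≫ iX.hom) = ModuleCat.ofHom l := by
      rw [← Category.assoc, (Ext.mk₀_bijective _ _).1 hx₂]
      simp [g']
    exact ⟨(Ext.homEquiv₀ x₂ ≫ iX.hom).hom, congrArg ModuleCat.Hom.hom hg⟩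
  haveI : Module.Finite A K := Module.Finite.of_injective K.subtype K.injective_subtype
  let b := Module.Free.chooseBasis A K
  choose L hL using fun i => hextend (b.coord i)
  let r : F →ₗ[A] K := ∑ i, (LinearMap.toSpanSingleton A K (b i)) ∘ₗ L i
  have hr : ∀ x : K, r x = x := fun x => by
    have : r x = ∑ i, L i x • b i := LinearMap.sum_apply _ _ _
    rw [this]
    conv_rhs => rw [← b.sum_repr x]
    exact Finset.sum_congr rfl fun i _ => by
      rw [show L i x = b.repr x i from LinearMap.congr_fun (hL i) x]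
  let σ0 : F →ₗ[A] F := LinearMap.id - K.subtype ∘ₗ r
  choose s hs using hψ
  let σ : M →ₗ[A] F :=
    { toFun := fun m => σ0 (s m)
      map_add' := fun a b => by
        rw [← map_add]
        refine sub_eq_zero.mp ?_
        rw [← map_sub]
        have hk : s (a + b) - (s a + s b) ∈ K := by simp [K, hs]
        show s (a + b) - (s a + s b) - (r (s (a + b) - (s a + s b)) : F) = 0
        rw [show r (s (a + b) - (s a + s b)) = ⟨_, hk⟩ from hr ⟨_, hk⟩, sub_self]
      map_smul' := fun c a => by
        rw [RingHom.id_apply, ← map_smul]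
        refine sub_eq_zero.mp ?_
        rw [← map_sub]
        have hk : s (c • a) - c • s a ∈ K := by simp [K, hs]
        show s (c • a) - c • s a - (r (s (c • a) - c • s a) : F) = 0
        rw [show r (s (c • a) - c • s a) = ⟨_, hk⟩ from hr ⟨_, hk⟩, sub_self] }
  haveI : Module.Finite A M := Module.Finite.of_surjective ψ fun m => ⟨s m, hs m⟩
  haveI : Module.Projective A M := Module.Projective.of_split σ ψ (LinearMap.ext fun m => by
    show ψ (s m - (r (s m) : F)) = m
    rw [map_sub, hs, show ψ (r (s m) : F) = 0 from (r (s m)).2, sub_zero])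
  exact Module.free_of_flat_of_isLocalRing (R := A) (P := M)


/-- Let A be a Noetherian local ring and I an ideal with a free resolution of length 1, 0 → A^p → A^q →
I → 0 (equivalently: a surjection A^q → I with free kernel). Let 0 → A → M → I → 0 be an extension
with class e ∈ Ext^1(I, A). Then M is free if and only if e generates the A-module Ext^1(I, A); the
A-module structure being through End(A) = A, this says every element of Ext^1(I, A) is the composite
of e with an endomorphism of A. -/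
theorem result (A : Type u) [CommRing A] [IsNoetherianRing A] [IsLocalRing A]
    (I : Ideal A)
    (hres : ∃ (q : ℕ) (φ : (Fin q → A) →ₗ[A] ↥I), Function.Surjective φ ∧ Module.Free A ↥(LinearMap.ker φ))
    (S : ShortComplex (ModuleCat.{u} A)) (hS : S.ShortExact)
    (h₁ : Nonempty (S.X₁ ≅ ModuleCat.of A A)) (h₃ : Nonempty (S.X₃ ≅ ModuleCat.of A ↥I)) :
    Module.Free A S.X₂ ↔
      ∀ x : Abelian.Ext S.X₃ S.X₁ 1, ∃ f : S.X₁ ⟶ S.X₁, hS.extClass.comp (Abelian.Ext.mk₀ f) (add_zero 1) = x := by
  obtain ⟨i₁⟩ := h₁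
  obtain ⟨i₃⟩ := h₃
  haveI : Mono S.f := hS.mono_f
  haveI : Epi S.g := hS.epi_g
  haveI hp1 : Projective S.X₁ := Projective.of_iso i₁.symm
    (ModuleCat.projective_of_free (M := ModuleCat.of A A) (Module.Free.chooseBasis A A))
  constructor
  · intro hM x
    haveI : Projective S.X₂ := ModuleCat.projective_of_free (M := S.X₂) (Module.Free.chooseBasis A S.X₂)
    obtain ⟨x₁, hx₁⟩ := Abelian.Ext.contravariant_sequence_exact₃ hS S.X₁ x
      (Abelian.Ext.eq_zero_of_projective _) (add_zero 1)
    exact ⟨Abelian.Ext.homEquiv₀ x₁, by rw [Abelian.Ext.mk₀_homEquiv₀_apply]; exact hx₁⟩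
  · intro hgen
    obtain ⟨q, φ, hφ, hK⟩ := hres
    let e₁ : S.X₁ ≃ₗ[A] A := i₁.toLinearEquiv
    let e₃ : S.X₃ ≃ₗ[A] I := i₃.toLinearEquiv
    have hf : Function.Injective S.f.hom := (ModuleCat.mono_iff_injective _).mp hS.mono_f
    have hg : Function.Surjective S.g.hom := (ModuleCat.epi_iff_surjective _).mp hS.epi_g
    obtain ⟨lift, hlift⟩ := Module.projective_lifting_property S.g.hom (e₃.symm.toLinearMap ∘ₗ φ) hg
    have hlift' : ∀ v, S.g.hom (lift v) = e₃.symm (φ v) := LinearMap.congr_fun hlift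
    let ψ : A × (Fin q → A) →ₗ[A] S.X₂ := (S.f.hom ∘ₗ e₁.symm.toLinearMap).coprod lift
    have hgf : ∀ a, S.g.hom (S.f.hom a) = 0 := fun a =>
      congrArg (fun t : S.X₁ ⟶ S.X₃ => t.hom a) S.zero
    have hrange : ∀ m, S.g.hom m = 0 → ∃ a, S.f.hom a = m := fun m hm =>
      (ShortComplex.moduleCat_exact_iff S).mp hS.exact m hm
    have hψ : Function.Surjective ψ := fun m => by
      obtain ⟨v, hv⟩ := hφ (e₃ (S.g.hom m))
      obtain ⟨a, ha⟩ := hrange (m - lift v) (by rw [map_sub, hlift', hv, LinearEquiv.symm_apply_apply, sub_self])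
      exact ⟨(e₁ a, v), by simp [ψ, ha]⟩
    have hgψ : ∀ p, S.g.hom (ψ p) = e₃.symm (φ p.2) := fun p => by simp [ψ, hlift', hgf]
    let π : LinearMap.ker ψ →ₗ[A] LinearMap.ker φ :=
      (LinearMap.snd A A (Fin q → A) ∘ₗ (LinearMap.ker ψ).subtype).codRestrict _ fun p => by
        have := hgψ p.1
        rw [p.2, map_zero] at this
        exact e₃.symm.map_eq_zero_iff.mp this.symm
    have hπ : Function.Bijective π := by
      constructor
      · refine (injective_iff_map_eq_zero _).mpr ?_
        rintro ⟨⟨a, v⟩, hp⟩ h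
        have hv : v = 0 := congrArg Subtype.val h
        subst hv
        have h2 : S.f.hom (e₁.symm a) + lift 0 = 0 := hp
        rw [map_zero, add_zero] at h2
        exact Subtype.ext (Prod.ext (e₁.symm.map_eq_zero_iff.mp (hf (h2.trans (map_zero _).symm))) rfl)
      · rintro ⟨v, hv⟩
        obtain ⟨a, ha⟩ := hrange (lift v) (by rw [hlift', hv, map_zero])
        refine ⟨⟨(-(e₁ a), v), ?_⟩, rfl⟩
        show S.f.hom (e₁.symm (-(e₁ a))) + lift v = 0
        rw [map_neg, LinearEquiv.symm_apply_apply, map_neg, ha, neg_add_cancel]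
    haveI := hK
    haveI : Module.Free A (LinearMap.ker ψ) := Module.Free.of_equiv (LinearEquiv.ofBijective π hπ).symm
    refine free_of_ext_zero S.X₂ S.X₁ i₁ _ ψ hψ fun x₂ => ?_
    obtain ⟨x₁, hx₁⟩ := Abelian.Ext.contravariant_sequence_exact₂ hS S.X₁ x₂
      (Abelian.Ext.eq_zero_of_projective _)
    obtain ⟨f, hf'⟩ := hgen x₁
    rw [← hx₁, ← hf', ← Abelian.Ext.comp_assoc _ _ _ (zero_add 1) (add_zero 1) (by omega),
      ShortComplex.ShortExact.comp_extClass, Abelian.Ext.zero_comp]

end Groth.Agent.S11493
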