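import Groth.Statements.S11496
import Groth.Agent.CommAlgDim.GlobalDim
import Groth.Agent.CatLib.CM

set_option autoImplicit false
universe u
open CategoryTheory
open VBPn

namespace Groth.Agent.S11496

/-- Let A be a regular local ring, M a finitely generated A-module and i ≥ 0. The support of Ext^i_A(M,
A) has dimension at most dim A − i: for every prime ideal p of A such that Ext^i over the
localization A_p of M_p into A_p is nonzero (this Ext group is the localization at p of Ext^i_A(M,
A)), one has dim(A/p) + i ≤ dim A. The published statement is for coherent analytic sheaves on an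
n-dimensional complex manifold; this row is stated for any regular local ring. -/
theorem result (A : Type u) [CommRing A] [IsRegularLocalRing A]
    (M : Type u) [AddCommGroup M] [Module A M] [Module.Finite A M] (i : ℕ) (p : Ideal A) [p.IsPrime]
    (h : Nontrivial (Abelian.Ext
      (ModuleCat.of (Localization.AtPrime p) (LocalizedModule p.primeCompl M))
      (ModuleCat.of (Localization.AtPrime p) (Localization.AtPrime p)) i)) :
    ringKrullDim (A ⧸ p) + (i : WithBot ℕ∞) ≤ ringKrullDim A := by
  haveI := CommAlgDim.isRegularLocalRing_localization A p
  let Ap := Localization.AtPrime p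
  haveI hpd : CategoryTheory.HasProjectiveDimensionLT (ModuleCat.of Ap (LocalizedModule p.primeCompl M))
      ((IsLocalRing.maximalIdeal Ap).spanFinrank + 1) :=
    CommAlgDim.pdlt_of_isRegularLocalRing Ap (LocalizedModule p.primeCompl M)
  have hi : i ≤ (IsLocalRing.maximalIdeal Ap).spanFinrank := by
    by_contra hlt
    have := CategoryTheory.HasProjectiveDimensionLT.subsingleton (ModuleCat.of Ap (LocalizedModule p.primeCompl M))
      ((IsLocalRing.maximalIdeal Ap).spanFinrank + 1) i (by omega) (ModuleCat.of Ap Ap)
    exact not_subsingleton_iff_nontrivial.2 h this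
  have hht : ((i : ℕ) : WithBot ℕ∞) ≤ (p.height : WithBot ℕ∞) := by
    rw [← IsLocalization.AtPrime.ringKrullDim_eq_height p Ap,
      ← IsRegularLocalRing.spanFinrank_maximalIdeal (R := Ap)]
    exact_mod_cast hi
  rw [← CatLib.ringKrullDim_quotient_add_height (CommAlgDim.isCM_of_isRegularLocalRing A) p]
  exact add_le_add le_rfl hht
end Groth.Agent.S11496
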