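import Groth.Statements.S11497
import Mathlib.Algebra.Homology.DerivedCategory.Ext.ExactSequences
-- import your own Groth.Agent.* helpers here

set_option autoImplicit false
universe w v u
open CategoryTheory
open VBPn

namespace Groth.Agent.S11497

/-- In an abelian category, let M : A → B → C and M' : A' → B' → C' be monads, i.e. short complexes
whose first map is a monomorphism and whose second map is an epimorphism, with cohomology (homology)
objects E and E'. Suppose Hom(B, A') = 0, Hom(C, B') = 0 and Ext^1(C, A') = Ext^1(B, A') = Ext^1(C,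
B') = Ext^2(C, A') = 0. Then the map sending a morphism of monads M → M' to the induced morphism E →
E' is bijective. The published statement is for monads of vector bundles on a complex manifold X,
with Ext^i(C, A') written H^i(X, C^* ⊗ A'); this row is stated in any abelian category. -/
theorem result {C : Type u} [Category.{v} C] [Abelian C] [HasExt.{w} C]
    (M M' : ShortComplex C) [Mono M.f] [Epi M.g] [Mono M'.f] [Epi M'.g]
    (hBA : ∀ f : M.X₂ ⟶ M'.X₁, f = 0) (hCB : ∀ f : M.X₃ ⟶ M'.X₂, f = 0)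
    (hCA₁ : Subsingleton (Abelian.Ext M.X₃ M'.X₁ 1)) (hBA₁ : Subsingleton (Abelian.Ext M.X₂ M'.X₁ 1))
    (hCB₁ : Subsingleton (Abelian.Ext M.X₃ M'.X₂ 1)) (hCA₂ : Subsingleton (Abelian.Ext M.X₃ M'.X₁ 2)) :
    Function.Bijective (fun φ : M ⟶ M' => ShortComplex.homologyMap φ) := by
  have hcyc : ∀ (S : ShortComplex C), Epi S.g → (ShortComplex.mk S.iCycles S.g S.iCycles_g).ShortExact :=
    fun S hS =>
    haveI := hS
    { exact := ShortComplex.exact_of_f_is_kernel _ S.cyclesIsKernel, mono_f := inferInstance, epi_g := hS }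
  have htc : ∀ (S : ShortComplex C), Mono S.f → Mono S.toCycles := fun S hS =>
    haveI : Mono (S.toCycles ≫ S.iCycles) := by rw [S.toCycles_i]; exact hS
    mono_of_mono S.toCycles S.iCycles
  have hhom : ∀ (S : ShortComplex C), Mono S.f →
      (ShortComplex.mk S.toCycles S.homologyπ S.toCycles_comp_homologyπ).ShortExact := fun S hS =>
    haveI := htc S hS
    { exact := ShortComplex.exact_of_g_is_cokernel _ S.homologyIsCokernel, mono_f := htc S hS, epi_g := inferInstance }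
  have hK := hcyc M inferInstance
  have hK' := hcyc M' inferInstance
  have hE' := hhom M' inferInstance
  -- extension along cycles
  have ext : ∀ {Y : C}, Subsingleton (Abelian.Ext M.X₃ Y 1) → ∀ h : M.cycles ⟶ Y,
      ∃ k : M.X₂ ⟶ Y, M.iCycles ≫ k = h := by
    intro Y hY h
    obtain ⟨x, hx⟩ := Abelian.Ext.contravariant_sequence_exact₁ hK Y (Abelian.Ext.mk₀ h) (n₁ := 1) rfl
      (Subsingleton.elim _ _)
    obtain ⟨k, rfl⟩ := (Abelian.Ext.mk₀_bijective _ _).2 x
    exact ⟨k, (Abelian.Ext.mk₀_bijective _ _).1 ((Abelian.Ext.mk₀_comp_mk₀ _ _).symm.trans hx)⟩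
  have hKA : Subsingleton (Abelian.Ext M.cycles M'.X₁ 1) := by
    refine ⟨fun a b => ?_⟩
    have key : ∀ x : Abelian.Ext M.cycles M'.X₁ 1, x = 0 := by
      intro x
      obtain ⟨y, hy⟩ := Abelian.Ext.contravariant_sequence_exact₁ hK M'.X₁ x (n₁ := 2) rfl (Subsingleton.elim _ _)
      rw [← hy, Subsingleton.elim y 0, Abelian.Ext.comp_zero]
    rw [key a, key b]
  constructor
  · intro φ φ' he
    rw [← sub_eq_zero]
    have he0 : ShortComplex.homologyMap (φ - φ') = 0 := by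
      rw [ShortComplex.homologyMap_sub]; exact sub_eq_zero.mpr he
    generalize φ - φ' = χ at he0
    have h1 : ShortComplex.cyclesMap χ ≫ M'.homologyπ = 0 := by
      rw [← ShortComplex.homologyπ_naturality, he0, Limits.comp_zero]
    obtain ⟨h, hh⟩ : ∃ h : M.cycles ⟶ M'.X₁, h ≫ M'.toCycles = ShortComplex.cyclesMap χ :=
      haveI := hE'.mono_f
      ⟨hE'.exact.lift _ h1, hE'.exact.lift_f _ h1⟩
    obtain ⟨k, hk⟩ := ext hCA₁ h
    rw [hBA k, Limits.comp_zero] at hk
    have hc : M.iCycles ≫ χ.τ₂ = 0 := by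
      rw [← ShortComplex.cyclesMap_i, ← hh, ← hk, Limits.zero_comp, Limits.zero_comp]
    haveI := hK.epi_g
    obtain ⟨m, hm⟩ : ∃ m : M.X₃ ⟶ M'.X₂, M.g ≫ m = χ.τ₂ := ⟨hK.exact.desc _ hc, hK.exact.g_desc _ hc⟩
    have h2 : χ.τ₂ = 0 := by rw [← hm, hCB m, Limits.comp_zero]
    have h3 : χ.τ₁ = 0 := by rw [← cancel_mono M'.f, χ.comm₁₂, h2, Limits.comp_zero, Limits.zero_comp]
    have h4 : χ.τ₃ = 0 := by rw [← cancel_epi M.g, ← χ.comm₂₃, h2, Limits.zero_comp, Limits.comp_zero]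
    ext <;> simp [h2, h3, h4]
  · intro ψ
    obtain ⟨x, hx⟩ := Abelian.Ext.covariant_sequence_exact₃ M.cycles hE' (Abelian.Ext.mk₀ (M.homologyπ ≫ ψ))
      (n₁ := 1) rfl (Subsingleton.elim _ _)
    obtain ⟨v, rfl⟩ := (Abelian.Ext.mk₀_bijective _ _).2 x
    have hv : v ≫ M'.homologyπ = M.homologyπ ≫ ψ :=
      (Abelian.Ext.mk₀_bijective _ _).1 ((Abelian.Ext.mk₀_comp_mk₀ _ _).symm.trans hx)
    obtain ⟨φ₂, hφ₂⟩ := ext hCB₁ (v ≫ M'.iCycles)
    have hA : (M.toCycles ≫ v) ≫ M'.homologyπ = 0 := by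
      rw [Category.assoc, hv, ← Category.assoc, M.toCycles_comp_homologyπ, Limits.zero_comp]
    obtain ⟨φ₁, hφ₁⟩ : ∃ h : M.X₁ ⟶ M'.X₁, h ≫ M'.toCycles = M.toCycles ≫ v :=
      haveI := hE'.mono_f
      ⟨hE'.exact.lift _ hA, hE'.exact.lift_f _ hA⟩
    have hg : M.iCycles ≫ φ₂ ≫ M'.g = 0 := by
      rw [← Category.assoc, hφ₂, Category.assoc, M'.iCycles_g, Limits.comp_zero]
    haveI := hK.epi_g
    obtain ⟨φ₃, hφ₃⟩ : ∃ m : M.X₃ ⟶ M'.X₃, M.g ≫ m = φ₂ ≫ M'.g := ⟨hK.exact.desc _ hg, hK.exact.g_desc _ hg⟩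
    let Φ : M ⟶ M' :=
      { τ₁ := φ₁, τ₂ := φ₂, τ₃ := φ₃
        comm₁₂ := by rw [← M'.toCycles_i, ← M.toCycles_i, ← Category.assoc, hφ₁, Category.assoc, Category.assoc, hφ₂]
        comm₂₃ := hφ₃.symm }
    refine ⟨Φ, ?_⟩
    have hc : ShortComplex.cyclesMap Φ = v := by
      rw [← cancel_mono M'.iCycles, ShortComplex.cyclesMap_i]
      exact hφ₂
    change ShortComplex.homologyMap Φ = ψ
    rw [← cancel_epi M.homologyπ, ShortComplex.homologyπ_naturality, hc, hv]

end Groth.Agent.S11497
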