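import Groth.Statements.S11499
import Mathlib.RingTheory.Localization.BaseChange
import Mathlib.RingTheory.Localization.Integer
import Mathlib.LinearAlgebra.FiniteDimensional.Basic
import Mathlib.RingTheory.TensorProduct.Finite
import Mathlib.RingTheory.Localization.FractionRing
-- import your own Groth.Agent.* helpers here

set_option autoImplicit false
universe u
open TensorProduct
open VBPn

namespace Groth.Agent.S11499

/-- Let A be an integral domain with fraction field K and M a finitely generated torsion-free A-module
of rank r (K ⊗_A M is r-dimensional over K). Then there is an injective A-linear map M → A^r. The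
published statement is for torsion-free coherent sheaves on a complex manifold, locally near a
point; this row is its statement for one stalk, over any domain. -/
theorem result (A : Type u) [CommRing A] [IsDomain A]
    (M : Type u) [AddCommGroup M] [Module A M] [Module.Finite A M] [NoZeroSMulDivisors A M] (r : ℕ)
    (hr : Module.finrank (FractionRing A) (FractionRing A ⊗[A] M) = r) :
    ∃ f : M →ₗ[A] (Fin r → A), Function.Injective f := by
  classical
  let K := FractionRing A
  let ι : M →ₗ[A] K ⊗[A] M := TensorProduct.mk A K M 1
  have hloc : IsLocalizedModule (nonZeroDivisors A) ι :=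
    (isLocalizedModule_iff_isBaseChange (nonZeroDivisors A) K ι).mpr (TensorProduct.isBaseChange A M K)
  have hι : Function.Injective ι := fun x y h => by
    obtain ⟨⟨c, hc⟩, h⟩ := IsLocalizedModule.exists_of_eq (S := nonZeroDivisors A) h
    exact smul_right_injective M (nonZeroDivisors.ne_zero hc) h
  let b := Module.finBasisOfFinrankEq K (K ⊗[A] M) hr
  obtain ⟨T, hT⟩ := Module.Finite.fg_top (R := A) (M := M)
  let S : Finset K := (T ×ˢ (Finset.univ : Finset (Fin r))).image fun q => b.repr (ι q.1) q.2
  obtain ⟨⟨c, hc⟩, hcint⟩ := IsLocalization.exist_integer_multiples_of_finset (nonZeroDivisors A) S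
  have hmem : ∀ (m : M) (i : Fin r), ∃ a : A, algebraMap A K a = c • b.repr (ι m) i := by
    intro m i
    have hm : m ∈ Submodule.span A (T : Set M) := hT ▸ Submodule.mem_top
    induction hm using Submodule.span_induction with
    | mem x hx => exact hcint _ (Finset.mem_image.mpr ⟨(x, i), by simp [Finset.mem_coe.mp hx], rfl⟩)
    | zero => exact ⟨0, by simp⟩
    | add x y _ _ hx hy =>
      obtain ⟨a, ha⟩ := hx
      obtain ⟨a', ha'⟩ := hy
      exact ⟨a + a', by simp [map_add, ha, ha', smul_add]⟩
    | smul d x _ hx =>
      obtain ⟨a, ha⟩ := hx
      refine ⟨d * a, ?_⟩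
      rw [map_smul, ← algebraMap_smul K d (ι x), map_smul, Finsupp.smul_apply, map_mul, ha,
        smul_eq_mul, mul_smul_comm]
  choose f hf using hmem
  have hinj := IsFractionRing.injective A K
  refine ⟨{ toFun := fun m i => f m i
            map_add' := fun x y => funext fun i => hinj (by simp [hf, smul_add])
            map_smul' := fun d x => funext fun i => hinj (by
              simp only [Pi.smul_apply, RingHom.id_apply, smul_eq_mul, map_mul, hf]
              rw [map_smul, ← algebraMap_smul K d (ι x), map_smul, Finsupp.smul_apply, smul_eq_mul,
                mul_smul_comm]) }, ?_⟩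
  intro x y h
  apply hι
  apply b.repr.injective
  ext i
  have h1 := congrArg (algebraMap A K) (congrFun h i)
  simp only [LinearMap.coe_mk, AddHom.coe_mk, hf] at h1
  rw [Algebra.smul_def, Algebra.smul_def] at h1
  exact mul_left_cancel₀ (IsFractionRing.to_map_ne_zero_of_mem_nonZeroDivisors hc) h1

end Groth.Agent.S11499
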