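import Groth.Statements.S1150
import Mathlib
import Groth.Agent.ProVanLib.Lef
import Groth.Agent.FEtLefLib.Main
import Groth.Agent.PurePairLib.Main
-- import your own Groth.Agent.* helpers here

set_option autoImplicit false
universe u
open Pi1

namespace Groth.Agent.S1150

open AlgebraicGeometry CategoryTheory CategoryTheory.Limits in
/-- Let X be a proper scheme over a field k, L an ample invertible O_X-module, s a global section of L
and Y = Z(s) its zero scheme. Assume depth(O_{X,x}) + dim(closure of x) > 1 for every point x of X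
not in Y. Then for every open subscheme V of X containing Y, restriction of finite etale covers from
V to Y (realised as Y ×_X V ⟶ V) is fully faithful; V = X is allowed. -/
theorem result (k : Type u) [Field k] (X : Scheme.{u})
    (f : X ⟶ Spec (CommRingCat.of k)) [IsProper f] (L : X.Modules) (hL : CohB1.IsAmple L)
    (s : Coh.structureModule X ⟶ L)
    (hd : ∀ x : X, x ∉ (PicF2.zeroScheme L s).support →
      (1 : WithBot ℕ∞) < (LocCoh.depth (X.presheaf.stalk x) (X.presheaf.stalk x) : WithBot ℕ∞) +
        topologicalKrullDim (closure ({x} : Set X)))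
    (V : X.Opens) (hV : ((PicF2.zeroScheme L s).support : Set X) ⊆ V) :
    (FEt.restrict (pullback.snd (PicF2.zeroScheme L s).subschemeι V.ι)).Full ∧
    (FEt.restrict (pullback.snd (PicF2.zeroScheme L s).subschemeι V.ι)).Faithful := by
  letI : X.Over (Spec (CommRingCat.of k)) := ⟨f⟩
  haveI : IsProper (X ↘ Spec (CommRingCat.of k)) := ‹IsProper f›
  haveI : IsNoetherian X := CurvLib.isNoetherian k (X := X)
  have hL' : Lef.LefCond X (PicF2.zeroScheme L s) := ProVanLib.lefCond_of_depth k s hL hd
  let I := PicF2.zeroScheme L s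
  obtain ⟨h1, h2⟩ : (FEt.restrict (I.comap V.ι).subschemeι).Full ∧
      (FEt.restrict (I.comap V.ι).subschemeι).Faithful :=
    FEtLefLib.restrict_full_faithful fun D hD => hL' V hV D hD
  let a : pullback I.subschemeι V.ι ≅ (I.comap V.ι).subscheme :=
    pullbackSymmetry I.subschemeι V.ι ≪≫ (I.comapIso V.ι).symm
  have ha : a.hom ≫ (I.comap V.ι).subschemeι = pullback.snd I.subschemeι V.ι := by
    simp [a]
  haveI : (FEt.restrict a.hom).IsEquivalence := Groth.Agent.PurePair.restrict_iso_isEquivalence a
  have eF : FEt.restrict (I.comap V.ι).subschemeι ⋙ FEt.restrict a.hom ≅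
      FEt.restrict (a.hom ≫ (I.comap V.ι).subschemeι) :=
    (MorphismProperty.Over.pullbackComp (P := FEt.prop.{u}) (Q := ⊤) a.hom (I.comap V.ι).subschemeι).symm
  rw [← ha]
  exact ⟨Functor.Full.of_iso eF, Functor.Faithful.of_iso eF⟩

end Groth.Agent.S1150
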