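import Groth.Statements.S11502
import Groth.Agent.SerreCILib.Main
-- import your own Groth.Agent.* helpers here

set_option autoImplicit false
set_option maxHeartbeats 1000000
set_option backward.isDefEq.respectTransparency false
universe u
open VBPn

namespace Groth.Agent.S11502

open CategoryTheory CategoryTheory.Limits AlgebraicGeometry in
/-- Let k be an algebraically closed field of characteristic zero, n ≥ 3, i : Y → P^n_k a closed
immersion which is a local complete intersection of codimension 2 (regular immersion of codimension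
2) with ideal sheaf J_Y, and E a rank-2 vector bundle belonging to Y, that is a finite locally free
O-module of rank 2 with a short exact sequence 0 → O → E → J_Y ⊗ O(c) → 0 for some integer c. Then E
splits as O(a') ⊕ O(b') for some integers a', b' if and only if Y is a global complete intersection:
J_Y is an epimorphic image of O(−a) ⊕ O(−b) for some integers a, b (Y is cut out
scheme-theoretically by two hypersurfaces). -/
theorem result (k : Type u) [Field k] [IsAlgClosed k] [CharZero k]
    (n : ℕ) (hn : 3 ≤ n) {Y : Scheme.{u}} (i : Y ⟶ CohB1.ProjSpace n k) [IsClosedImmersion i]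
    (hlci : RegImm.IsRegularImmersionOfCodim RegImm.Kind.regular 2 i) (c : ℤ)
    (S : ShortComplex (CohB1.ProjSpace n k).Modules) (hS : S.ShortExact) (hE : FlatMod.IsFinLocFreeOfRank 2 S.X₂)
    (h₁ : Nonempty (S.X₁ ≅ Coh.structureModule (CohB1.ProjSpace n k)))
    (h₃ : Nonempty (S.X₃ ≅ CohB1.tensorMod (ClSub.idealMod i.ker) (Twist.twistProjSpace n k c))) :
    (∃ a' b' : ℤ, Nonempty (S.X₂ ≅ Twist.twistProjSpace n k a' ⊞ Twist.twistProjSpace n k b')) ↔
      ∃ (a b : ℤ) (ψ : Twist.twistProjSpace n k (-a) ⊞ Twist.twistProjSpace n k (-b) ⟶ ClSub.idealMod i.ker),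
        Epi ψ := by
  obtain ⟨e₁⟩ := h₁
  obtain ⟨e₃⟩ := h₃
  haveI := hS.epi_g
  haveI := hS.mono_f
  let P := CohB1.ProjSpace n k
  let O' := Twist.twistProjSpace n k
  haveI := VBPnLib.isEquivalence_twist k n c
  haveI := VBPnLib.isEquivalence_twist k n (-c)
  haveI : (CurvLib.tensorLeft' (O' c)).Additive := Functor.additive_of_preserves_binary_products _
  haveI : (CurvLib.tensorLeft' (O' (-c))).Additive := Functor.additive_of_preserves_binary_products _
  let J := ClSub.idealMod i.ker
  let e₃' : S.X₃ ≅ (CurvLib.tensorLeft' (O' c)).obj J := e₃ ≪≫ HilbPolyLib.swapIso _ _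
  constructor
  · rintro ⟨a, b, ⟨iE⟩⟩
    let β := SerreCI.twBiprod (k := k) (n := n) (-c) a b ≪≫
      biprod.mapIso (eqToIso (congrArg O' (show -c + a = -(c - a) by ring)))
        (eqToIso (congrArg O' (show -c + b = -(c - b) by ring)))
    let γ : (CurvLib.tensorLeft' (O' (-c))).obj S.X₃ ≅ J :=
      (CurvLib.tensorLeft' (O' (-c))).mapIso e₃' ≪≫
        (HilbPolyLib.leftComm _ _ _) ≪≫ SerreCI.cancelTwist c J
    let ψ : O' (-(c - a)) ⊞ O' (-(c - b)) ⟶ J :=
      β.inv ≫ (CurvLib.tensorLeft' (O' (-c))).map (iE.inv ≫ S.g) ≫ γ.hom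
    haveI : Epi ((CurvLib.tensorLeft' (O' (-c))).map (iE.inv ≫ S.g)) := inferInstance
    exact ⟨c - a, c - b, ψ, inferInstance⟩
  · rintro ⟨a, b, ψ, hψ⟩
    let β := SerreCI.twBiprod (k := k) (n := n) c (-a) (-b)
    let ρ : O' (c + -a) ⊞ O' (c + -b) ⟶ S.X₃ :=
      β.inv ≫ (CurvLib.tensorLeft' (O' c)).map ψ ≫ e₃'.inv
    haveI : Epi ((CurvLib.tensorLeft' (O' c)).map ψ) := inferInstance
    haveI : Epi ρ := inferInstance
    obtain ⟨φa, hφa⟩ := SerreCI.exists_lift (show 2 ≤ n by omega) hS e₁ _ (biprod.inl ≫ ρ)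
    obtain ⟨φb, hφb⟩ := SerreCI.exists_lift (show 2 ≤ n by omega) hS e₁ _ (biprod.inr ≫ ρ)
    obtain ⟨z⟩ := PicPnLib.twist_zero n k
    let φ : O' (c + -a) ⊞ O' (c + -b) ⟶ S.X₂ := biprod.desc φa φb
    have hφ : φ ≫ S.g = ρ := by
      refine biprod.hom_ext' _ _ ?_ ?_
      · exact (biprod.inl_desc_assoc φa φb S.g).trans hφa
      · exact (biprod.inr_desc_assoc φa φb S.g).trans hφb
    let g : O' 0 ⊞ (O' (c + -a) ⊞ O' (c + -b)) ⟶ S.X₂ := biprod.desc (z.hom ≫ e₁.inv ≫ S.f) φ
    haveI : Epi g := Preadditive.epi_of_cancel_zero _ fun {W} h hh => by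
      have h1 : S.f ≫ h = 0 := by
        have := congrArg (fun m => biprod.inl ≫ m) hh
        simp [g] at this
        simpa using this
      let h' := hS.exact.desc h h1
      have e : S.g ≫ h' = h := hS.exact.g_desc h h1
      have h2 : φ ≫ h = 0 := by
        have := congrArg (fun m => biprod.inr ≫ m) hh
        simpa [g] using this
      rw [← e, ← Category.assoc, hφ] at h2
      rw [← e, (cancel_epi ρ).1 (h2.trans comp_zero.symm), comp_zero]
    exact SerreCI.splits_of_epi hn _ _ _ hE g

end Groth.Agent.S11502
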