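import Groth.Statements.S11503
import Mathlib
import Groth.Agent.VBPnLib.Pn
import Groth.Agent.CurveSDLib.SimpleRkTwo
-- import your own Groth.Agent.* helpers here

set_option autoImplicit false
universe u
open VBPn

namespace Groth.Agent.S11503

open CategoryTheory CategoryTheory.Limits AlgebraicGeometry in
/-- Let k be a characteristic-zero algebraically closed field and E a finite locally free O-module of
rank r > 1 on P^n_k. If E has a nonzero section (a nonzero morphism O → E) and its dual has a
nonzero section (a nonzero morphism E → O), then E is not simple: there is an endomorphism of E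
which is not a homothety, i.e. whose underlying map of abelian sheaves is not multiplication by any
scalar c ∈ k. -/
theorem result (k : Type u) [Field k] [IsAlgClosed k] [CharZero k]
    (n r : ℕ) (hr : 1 < r) (E : (CohB1.ProjSpace n k).Modules) (hE : FlatMod.IsFinLocFreeOfRank r E)
    (s : Coh.structureModule (CohB1.ProjSpace n k) ⟶ E) (hs : s ≠ 0)
    (t : E ⟶ Coh.structureModule (CohB1.ProjSpace n k)) (ht : t ≠ 0) :
    ∃ φ : E ⟶ E, ∀ c : k, (SheafOfModules.toSheaf (CohB1.ProjSpace n k).ringCatSheaf).map φ ≠
      Coh.smulAb E (Coh.toGlobal (CohB1.ProjSpace.toSpec n k) c) := by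
  refine ⟨t ≫ s, fun c hc => ?_⟩
  have he : t ≫ s = StabLib.smulHom E (Coh.toGlobal (CohB1.ProjSpace n k ↘ Spec (CommRingCat.of k)) c) :=
    (SheafOfModules.toSheaf (CohB1.ProjSpace n k).ringCatSheaf).map_injective hc
  have h1 : FlatMod.IsFinLocFreeOfRank 1 (Coh.structureModule (CohB1.ProjSpace n k)) :=
    CurvLib.locFree_of_isInvertible CurvLib.isInvertible_structureModule
  rcases eq_or_ne c 0 with rfl | hc0
  · rw [map_zero, CurveSDLib.smulHom_zero] at he
    haveI := VBPnLib.mono_of_line h1 hE hs
    exact ht (by rw [← cancel_mono s, zero_comp]; exact he)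
  · haveI : IsIso (t ≫ s) := he ▸ CurveSDLib.isIso_smulHom E hc0
    haveI : Mono t := mono_of_mono t s
    have h := CurveVBLib.genRank_mono t (CurvLib.isCoh_of_locFree hE) (CurvLib.isCoh_of_locFree h1)
    rw [CurveVBLib.genRank_eq hE, CurveVBLib.genRank_eq h1] at h
    omega

end Groth.Agent.S11503
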