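import Groth.Statements.S11505
import Mathlib
import Groth.Agent.VBPnLib.Pn
import Groth.Agent.VBPnLib.Wedge
-- import your own Groth.Agent.* helpers here

set_option autoImplicit false
universe u
open VBPn

namespace Groth.Agent.S11505

open CategoryTheory CategoryTheory.Limits AlgebraicGeometry in
/-- Let k be a characteristic-zero algebraically closed field and E a finite locally free O-module of
rank 2 on P^n_k with a second exterior power isomorphic to O(c). Let k₀ be the integer with c + 2k₀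
= 0 or c + 2k₀ = −1, so that E ⊗ O(k₀) is the normalised twist, and assume H^0(P^n_k, E ⊗ O(k₀)) =
0. Then every endomorphism of E is a homothety: its underlying map of abelian sheaves is
multiplication by some scalar c' ∈ k. The published statement is for stable bundles of any rank;
this row is the rank-2 case, with stability written as the vanishing of H^0 of the normalised twist,
which is equivalent to it for rank 2. -/
theorem result (k : Type u) [Field k] [IsAlgClosed k] [CharZero k]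
    (n : ℕ) (E : (CohB1.ProjSpace n k).Modules) (hE : FlatMod.IsFinLocFreeOfRank 2 E) (c k₀ : ℤ)
    (hdet : ∃ L : (CohB1.ProjSpace n k).Modules, ExtPow.IsExtPow 2 E L ∧ Nonempty (L ≅ Twist.twistProjSpace n k c))
    (hk₀ : c + 2 * k₀ = 0 ∨ c + 2 * k₀ = -1)
    (h0 : Subsingleton (Coh.HH (CohB1.ProjSpace n k) (CohB1.tensorMod E (Twist.twistProjSpace n k k₀)) 0))
    (φ : E ⟶ E) :
    ∃ c' : k, (SheafOfModules.toSheaf (CohB1.ProjSpace n k).ringCatSheaf).map φ =
      Coh.smulAb E (Coh.toGlobal (CohB1.ProjSpace.toSpec n k) c') := by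
  obtain ⟨L, hL, ⟨eL⟩⟩ := hdet
  have hEc := CurvLib.isCoh_of_locFree hE
  have hne : ¬ IsZero E := fun hz => by
    have h := CurveVBLib.genRank_of_isZero hz
    rw [CurveVBLib.genRank_eq hE] at h
    omega
  obtain ⟨c', hc'⟩ := StabLib.exists_not_isIso_sub (k := k) hEc hne φ
  let ψ := φ - StabLib.smulHom E (Coh.toGlobal (CohB1.ProjSpace n k ↘ Spec (CommRingCat.of k)) c')
  by_cases hψ : ψ = 0
  · refine ⟨c', ?_⟩
    rw [show φ = StabLib.smulHom E (Coh.toGlobal (CohB1.ProjSpace n k ↘ Spec (CommRingCat.of k)) c') from sub_eq_zero.mp hψ]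
    rfl
  exfalso
  obtain ⟨θ, hθ, hθψ⟩ := VBPnLib.exists_comp_eq_zero (k := k) hE ψ hc'
  obtain ⟨hK, -, hr⟩ := VBPnLib.seq_kernel ψ hEc hEc
  have hI := VBPnLib.one_le_rank_image hEc hE hψ
  rw [CurveVBLib.genRank_eq hE] at hr
  have hK1 : CurvLib.genRank (kernel ψ) = 1 := by
    have h0 : CurvLib.genRank (kernel ψ) ≠ 0 := fun h => hθ (by
      rw [← kernel.lift_ι ψ θ hθψ, (VBPnLib.isZero_of_rank_zero hE (kernel.ι ψ) hK h).eq_of_tgt (kernel.lift ψ θ hθψ) 0,
        zero_comp])
    omega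
  obtain ⟨a, ⟨e⟩⟩ := Groth.Agent.S1697.result k n (kernel ψ)
    (VBPnLib.isInvertible_kernel (VBPnLib.regular_pn k n) hE hE ψ hK1)
  let t : E ⟶ Twist.twistProjSpace n k a := kernel.lift ψ θ hθψ ≫ e.hom
  have ht : t ≠ 0 := fun h => hθ (by
    have h' : kernel.lift ψ θ hθψ = 0 := by rw [← cancel_mono e.hom, zero_comp]; exact h
    rw [← kernel.lift_ι ψ θ hθψ, h', zero_comp])
  have ha : a < -k₀ := by
    by_contra h
    have hs := VBPnLib.hom_eq_zero_of_le k n hE k₀ h0 (le_of_not_gt h) (e.inv ≫ kernel.ι ψ)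
    apply hθ
    rw [← kernel.lift_ι ψ θ hθψ, show kernel.ι ψ = 0 by rw [← cancel_epi e.inv, comp_zero]; exact hs, comp_zero]
  obtain ⟨μ, hμ⟩ := VBPnLib.exists_mu hE (PicPnLib.twist_inv n k a) hL ht
  haveI := VBPnLib.isEquivalence_twist k n a
  haveI : (CurvLib.tensorLeft' (Twist.twistProjSpace n k a)).Additive := Functor.additive_of_preserves_binary_products _
  obtain ⟨ea⟩ := PicPnLib.twist_add n k a (c - a)
  let α : (CurvLib.tensorLeft' (Twist.twistProjSpace n k a)).obj (Twist.twistProjSpace n k (c - a)) ≅ L :=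
    ea ≪≫ eqToIso (congrArg (Twist.twistProjSpace n k) (by ring)) ≪≫ eL.symm
  let sw : (CurvLib.tensorLeft' (Twist.twistProjSpace n k a)).obj E ≅ CohB1.tensorMod E (Twist.twistProjSpace n k a) :=
    KFlatLib.tensSwap E _
  obtain ⟨s, hs⟩ := (CurvLib.tensorLeft' (Twist.twistProjSpace n k a)).map_surjective (α.hom ≫ μ ≫ sw.inv)
  apply hμ
  have hs0 := VBPnLib.hom_eq_zero_of_le k n hE k₀ h0 (show -k₀ ≤ c - a by omega) s
  rw [hs0, Functor.map_zero] at hs
  rw [← cancel_epi α.hom, ← cancel_mono sw.inv, comp_zero, zero_comp, Category.assoc]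
  exact hs.symm

end Groth.Agent.S11505
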