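import Groth.Statements.S11506
import Mathlib
import Groth.Agent.VBPnLib.Pn
import Groth.Agent.VBPnLib.Cowedge
import Groth.Agent.CurveSDLib.SimpleRkTwo
-- import your own Groth.Agent.* helpers here

set_option autoImplicit false
universe u
open VBPn

namespace Groth.Agent.S11506

open CategoryTheory CategoryTheory.Limits AlgebraicGeometry in
/-- Let k be a characteristic-zero algebraically closed field and E a finite locally free O-module of
rank 2 on P^n_k with a second exterior power isomorphic to O(c), and let k₀ satisfy c + 2k₀ = 0 or c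
+ 2k₀ = −1. If every endomorphism of E is a homothety (its underlying map of abelian sheaves is
multiplication by a scalar in k), then H^0(P^n_k, E ⊗ O(k₀)) = 0. The published statement concludes
stability; this row concludes the vanishing of H^0 of the normalised twist, which for rank 2 is
stability. -/
theorem result (k : Type u) [Field k] [IsAlgClosed k] [CharZero k]
    (n : ℕ) (E : (CohB1.ProjSpace n k).Modules) (hE : FlatMod.IsFinLocFreeOfRank 2 E) (c k₀ : ℤ)
    (hdet : ∃ L : (CohB1.ProjSpace n k).Modules, ExtPow.IsExtPow 2 E L ∧ Nonempty (L ≅ Twist.twistProjSpace n k c))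
    (hk₀ : c + 2 * k₀ = 0 ∨ c + 2 * k₀ = -1)
    (hsimple : ∀ φ : E ⟶ E, ∃ c' : k, (SheafOfModules.toSheaf (CohB1.ProjSpace n k).ringCatSheaf).map φ =
      Coh.smulAb E (Coh.toGlobal (CohB1.ProjSpace.toSpec n k) c')) :
    Subsingleton (Coh.HH (CohB1.ProjSpace n k) (CohB1.tensorMod E (Twist.twistProjSpace n k k₀)) 0) := by
  by_contra hns
  obtain ⟨s, hs⟩ := VBPnLib.exists_hom_of_h0 k n E k₀ hns
  obtain ⟨L, hL, ⟨eL⟩⟩ := hdet
  obtain ⟨u, hu⟩ := VBPnLib.exists_twist_hom k n (show c ≤ -k₀ + -k₀ by omega)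
  haveI := VBPnLib.mono_of_line (VBPnLib.twist_rank k n c) (VBPnLib.twist_rank k n (-k₀ + -k₀)) hu
  obtain ⟨em⟩ := PicPnLib.twist_add n k (-k₀) (-k₀)
  obtain ⟨t, ht⟩ := VBPnLib.exists_nu hE (PicPnLib.twist_inv n k (-k₀)) hL hs (eL.hom ≫ u ≫ em.inv)
  obtain ⟨c', hc⟩ := hsimple (t ≫ s)
  have he : t ≫ s = StabLib.smulHom E (Coh.toGlobal (CohB1.ProjSpace n k ↘ Spec (CommRingCat.of k)) c') :=
    (SheafOfModules.toSheaf (CohB1.ProjSpace n k).ringCatSheaf).map_injective hc
  have h1 := VBPnLib.twist_rank k n (-k₀)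
  rcases eq_or_ne c' 0 with rfl | hc0
  · rw [map_zero, CurveSDLib.smulHom_zero] at he
    haveI := VBPnLib.mono_of_line h1 hE hs
    exact ht (by rw [← cancel_mono s, zero_comp]; exact he)
  · haveI : IsIso (t ≫ s) := he ▸ CurveSDLib.isIso_smulHom E hc0
    haveI : Mono t := mono_of_mono t s
    have h := CurveVBLib.genRank_mono t (CurvLib.isCoh_of_locFree hE) (CurvLib.isCoh_of_locFree h1)
    rw [CurveVBLib.genRank_eq hE, CurveVBLib.genRank_eq h1] at h
    omega

end Groth.Agent.S11506
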