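import Groth.Statements.S3381
import Groth.Agent.FormalAlgzAmpleLib.Algz

set_option autoImplicit false
universe u
open CategoryTheory CategoryTheory.Limits AlgebraicGeometry
open LefX

namespace Groth.Agent.S3381

/-- Let k be a field, X a proper k-scheme, L an ample invertible O_X-module, s a global section of L
with zero scheme Y and ideal 𝓘. Assume depth(O_{X,x}) + dim cl(x) > 2 for every point x of X outside
Y. Then every levelwise finite locally free system of modules on the completion of X along Y is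
isomorphic to the completion of ι_* E for some open U ⊇ Y with inclusion ι and some finite locally
free O_U-module E. (The source also asserts full faithfulness of completion on the colimit over the
open neighbourhoods of Y.) -/
theorem result (k : Type u) [Field k] (X : Scheme.{u}) (f : X ⟶ Spec (CommRingCat.of k)) [IsProper f] (L : X.Modules) (hL : CohB1.IsAmple L) (s : Coh.structureModule X ⟶ L) (hd : ∀ x : X, x ∉ ((PicF2.zeroScheme L s).support : Set X) → (2 : WithBot ℕ∞) < (LocCoh.depth (X.presheaf.stalk x) (X.presheaf.stalk x) : WithBot ℕ∞) + topologicalKrullDim ↥(closure ({x} : Set X))) (𝔐 : FSch.ModSys (FSch.completionAlong X (PicF2.zeroScheme L s))) (h𝔐 : LefX.LevelwiseFinLocFree 𝔐) : ∃ (U : X.Opens) (E : (U : Scheme.{u}).Modules), ((PicF2.zeroScheme L s).support : Set X) ⊆ (U : Set X) ∧ FlatMod.IsFinLocFree E ∧ Nonempty (FSch.completionMod (PicF2.zeroScheme L s) ((Scheme.Modules.pushforward U.ι).obj E) ≅ 𝔐) := by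
  letI : X.Over (Spec (CommRingCat.of k)) := ⟨f⟩
  haveI : IsProper (X ↘ Spec (CommRingCat.of k)) := ‹IsProper f›
  haveI : AlgebraicGeometry.IsNoetherian X := CurvLib.isNoetherian k (X := X)
  obtain ⟨d⟩ := FormalAlgzAmpleLib.nonempty_data k s hL
  have hch : ∀ z : X, ∃ (V : X.affineOpens) (t : Γ(X, V.1)), z ∈ V.1 ∧
      (PicF2.zeroScheme L s).ideal V = Ideal.span {t} := fun z => by
    obtain ⟨V, t, hz, hV, -, -⟩ := d.val z
    exact ⟨V, t, hz, hV⟩
  have hd2 : ∀ x : X, IsClosed ({x} : Set X) → x ∉ ((PicF2.zeroScheme L s).support : Set X) →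
      (2 : ℕ∞) ≤ LocCoh.depth (X.presheaf.stalk x) (X.presheaf.stalk x) := fun x hx hxs => by
    haveI : Subsingleton ↥(closure ({x} : Set X)) := by
      rw [hx.closure_eq]
      infer_instance
    haveI : Nonempty ↥(closure ({x} : Set X)) := ⟨⟨x, subset_closure rfl⟩⟩
    have h' := (hd x hxs).trans_le
      (add_le_add_right (topologicalKrullDim_zero_of_discreteTopology ↥(closure ({x} : Set X))) _)
    rw [add_zero] at h'
    exact WithBot.coe_le_coe.1 (h'.le)
  obtain ⟨F, hF, ⟨e⟩⟩ := FormalAlgzAmpleLib.exists_coh_algebraization hch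
    (fun G hG hc => d.exists_present hd hG hc) (FormalAlgzAmpleLib.exists_hom_of_formal k s hL hd2) 𝔐 h𝔐
  have hfree : ∀ n, FlatMod.IsFinLocFree
      ((Scheme.Modules.pullback (FSch.completionToX X (PicF2.zeroScheme L s) n)).obj F) := fun n =>
    Groth.Agent.PerfLib.isFinLocFree_of_iso
      (⟨e.inv.app n, e.hom.app n, congrArg (fun g => FSch.ModSys.Hom.app g n) e.inv_hom_id,
        congrArg (fun g => FSch.ModSys.Hom.app g n) e.hom_inv_id⟩ : 𝔐.F n ≅ (FSch.complMod _ F).F n) (h𝔐 n)
  have hloc : ∀ y : X, y ∈ ((PicF2.zeroScheme L s).support : Set X) → ∃ (O : X.Opens) (n : ℕ),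
      y ∈ O ∧ Nonempty (F.restrict O.ι ≅ FlatMod.freeMod (↑O) n) := fun y hy => by
    haveI := FormalAlgzAmpleLib.free_stalk_of_levels hch hF hfree hy
    exact RegAlgzLib.exists_free_nhd_of_free_stalk F hF y
  choose O n hO φ using hloc
  let U : X.Opens := ⨆ (y : X) (hy : y ∈ ((PicF2.zeroScheme L s).support : Set X)), O y hy
  have hU : ((PicF2.zeroScheme L s).support : Set X) ⊆ (U : Set X) := fun y hy =>
    TopologicalSpace.Opens.mem_iSup.2 ⟨y, TopologicalSpace.Opens.mem_iSup.2 ⟨hy, hO y hy⟩⟩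
  refine ⟨U, F.restrict U.ι, hU, CohCmpLib.isFinLocFree_restrict_of_nhds F U fun x hx => ?_, ?_⟩
  · obtain ⟨y, hx⟩ := TopologicalSpace.Opens.mem_iSup.1 hx
    obtain ⟨hy, hx⟩ := TopologicalSpace.Opens.mem_iSup.1 hx
    exact ⟨O y hy, n y hy, hx, φ y hy⟩
  · obtain ⟨α⟩ := RegAlgzLib.nonempty_completionMod_restrict_iso (PicF2.zeroScheme L s) F hU
    exact ⟨α ≪≫ LefAlgzLib.completionModIso (PicF2.zeroScheme L s) F ≪≫ e⟩

end Groth.Agent.S3381
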