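import Groth.Statements.S1151
import Groth.Agent.S3381
import Groth.Agent.ProVanLib.Lef
import Groth.Agent.ProjLefLib.FEtEquiv

set_option autoImplicit false
universe u
open Pi1

namespace Groth.Agent.S1151

open AlgebraicGeometry CategoryTheory CategoryTheory.Limits in
/-- Lefschetz Theorem for finite étale covers, essential surjectivity: let X be a proper scheme over a
field k, L an ample invertible O_X-module, s a global section of L and Y = Z(s) its zero scheme.
Assume depth(O_{X,x}) + dim(closure of {x}) > 2 for every point x of X not in Y, and that purity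
holds for the local ring O_{X,x} at every closed point x of X not in Y. Then the functor restricting
finite étale covers from X to Y is essentially surjective. (Together with its full faithfulness,
stated separately, it is an equivalence of categories.) -/
theorem result (k : Type u) [Field k] (X : Scheme.{u})
    (f : X ⟶ Spec (CommRingCat.of k)) [IsProper f] (L : X.Modules) (hL : CohB1.IsAmple L)
    (s : Coh.structureModule X ⟶ L)
    (hd : ∀ x : X, x ∉ (PicF2.zeroScheme L s).support →
      (2 : WithBot ℕ∞) < (LocCoh.depth (X.presheaf.stalk x) (X.presheaf.stalk x) : WithBot ℕ∞) +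
        topologicalKrullDim (closure ({x} : Set X)))
    (hp : ∀ x : X, x ∉ (PicF2.zeroScheme L s).support → IsClosed ({x} : Set X) →
      FEt.PurityHolds (X.presheaf.stalk x)) :
    (FEt.restrict (PicF2.zeroScheme L s).subschemeι).EssSurj := by
  letI : X.Over (Spec (CommRingCat.of k)) := ⟨f⟩
  haveI : IsProper (X ↘ Spec (CommRingCat.of k)) := ‹IsProper f›
  haveI : IsNoetherian X := CurvLib.isNoetherian k (X := X)
  have hd2 : ∀ x : X, IsClosed ({x} : Set X) → x ∉ ((PicF2.zeroScheme L s).support : Set X) →
      (2 : ℕ∞) ≤ LocCoh.depth (X.presheaf.stalk x) (X.presheaf.stalk x) := fun x hx hxs => by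
    haveI : Subsingleton ↥(closure ({x} : Set X)) := by
      rw [hx.closure_eq]
      infer_instance
    haveI : Nonempty ↥(closure ({x} : Set X)) := ⟨⟨x, subset_closure rfl⟩⟩
    have h' := (hd x hxs).trans_le
      (add_le_add_right (topologicalKrullDim_zero_of_discreteTopology ↥(closure ({x} : Set X))) _)
    rw [add_zero] at h'
    exact WithBot.coe_le_coe.1 h'.le
  have h : LefX.LeffCond X (PicF2.zeroScheme L s) :=
    ⟨ProVanLib.lefCond_of_closed k s hL hd2, fun 𝔐 h𝔐 => Groth.Agent.S3381.result k X f L hL s hd 𝔐 h𝔐⟩
  have hcl : ∀ U : X.Opens, ((PicF2.zeroScheme L s).support : Set X) ⊆ (U : Set X) → ∀ x : X, x ∉ U →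
      IsClosed ({x} : Set X) := fun U hU => ProVanLib.isClosed_of_notMem_nhd k s hL hU
  haveI := ProjLefLib.isEquivalence_of_leff_purity h
    (fun D hD => ProVanLib.homToFormalBijective_coh k s hL hd2 (LocSuppLib.isCoh_of_isFinLocFree hD))
    (fun U hU x hx => hd2 x (hcl U hU x hx) fun hs => hx (hU hs))
    (fun U hU x hx => hp x (fun hs => hx (hU hs)) (hcl U hU x hx))
  infer_instance

end Groth.Agent.S1151
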