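import Groth.Statements.S11520
import Mathlib
-- import your own Groth.Agent.* helpers here

set_option autoImplicit false
set_option linter.style.haveILetI false
universe v u v' u'
open CategoryTheory CategoryTheory.Limits CategoryTheory.Pretriangulated CategoryTheory.Triangulated
open PervT

namespace Groth.Agent.S11520

/-- Let `C` be a triangulated category (octahedron axiom included) with a t-structure `t`, and let `H`
be an additive category identified with the heart of `t` (the objects that are both `≤ 0` and `≥ 0`)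
through a fully faithful additive functor whose essential image is the heart. Then `H` is an abelian
category: there is an abelian category structure on `H` whose underlying additive structure is the
given one. -/
theorem result {C : Type u} [Category.{v} C] [Preadditive C] [HasZeroObject C] [HasShift C ℤ] [∀ n : ℤ, (shiftFunctor C n).Additive] [Pretriangulated C] [IsTriangulated C] (t : TStructure C) {H : Type u'} [Category.{v'} H] [inst : Preadditive H] [t.Heart H] :
    ∃ a : Abelian H, @Abelian.toPreadditive H _ a = inst := by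
  open CategoryTheory.Limits CategoryTheory.Pretriangulated CategoryTheory.Triangulated ZeroObject in
  let ι : H ⥤ C := t.ιHeart
  have hess : ∀ X : C, t.IsLE X 0 → t.IsGE X 0 → ∃ K : H, Nonempty (ι.obj K ≅ X) := fun X hL hG => by
    have : ι.essImage X := by
      change (t.ιHeart (H := H)).essImage X
      rw [t.essImage_ιHeart, t.mem_heart_iff]
      exact ⟨hL, hG⟩
    exact this
  have hι : ∀ ⦃X Y : H⦄ ⦃n : ℤ⦄ (f : ι.obj X ⟶ (ι.obj Y)⟦n⟧), n < 0 → f = 0 := fun X Y n f hn => by
    haveI : t.IsGE ((ι.obj Y)⟦n⟧) (-n) := t.isGE_shift (ι.obj Y) 0 n (-n) (by omega)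
    exact t.zero_of_isLE_of_isGE f 0 (-n) (by omega) inferInstance inferInstance
  have hA : AbelianSubcategory.admissibleMorphism ι = ⊤ := by
    refine eq_top_iff.2 fun X₁ X₂ f _ => ?_
    intro X₃ f₂ f₃ hT
    haveI : t.IsLE ((ι.obj X₁)⟦(1 : ℤ)⟧) 0 := by
      haveI := t.isLE_shift (ι.obj X₁) 0 1 (-1) (by omega)
      exact t.isLE_of_le _ (-1) 0 (by omega)
    haveI : t.IsGE ((ι.obj X₁)⟦(1 : ℤ)⟧) (-1) := t.isGE_shift (ι.obj X₁) 0 1 (-1) (by omega)
    haveI hL3 : t.IsLE X₃ 0 := t.isLE₂ _ (rot_of_distTriang _ hT) 0 (inferInstanceAs (t.IsLE (ι.obj X₂) 0)) (inferInstanceAs (t.IsLE ((ι.obj X₁)⟦(1 : ℤ)⟧) 0))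
    haveI : t.IsGE (ι.obj X₂) (-1) := t.isGE_of_ge _ (-1) 0 (by omega)
    haveI hG3 : t.IsGE X₃ (-1) := t.isGE₂ _ (rot_of_distTriang _ hT) (-1) (inferInstanceAs (t.IsGE (ι.obj X₂) (-1))) (inferInstanceAs (t.IsGE ((ι.obj X₁)⟦(1 : ℤ)⟧) (-1)))
    have hd := t.triangleLTGE_distinguished 0 X₃
    set W := (t.truncLT 0).obj X₃ with hW
    haveI : t.IsLE W (-1) := t.isLE_truncLT_obj X₃ 0 (-1) (by omega)
    haveI : t.IsGE W (-1) := inferInstance
    haveI := t.isLE_shift W (-1) (-1) 0 (by omega)
    haveI := t.isGE_shift W (-1) (-1) 0 (by omega)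
    obtain ⟨K, ⟨eK⟩⟩ := hess (W⟦(-1 : ℤ)⟧) inferInstance inferInstance
    obtain ⟨Q, ⟨eQ⟩⟩ := hess ((t.truncGE 0).obj X₃) inferInstance inferInstance
    let e₁ : (ι.obj K)⟦(1 : ℤ)⟧ ≅ W :=
      (shiftFunctor C (1 : ℤ)).mapIso eK ≪≫ (shiftFunctorCompIsoId C (-1 : ℤ) 1 (by omega)).app W
    refine ⟨K, Q, e₁.hom ≫ (t.truncLTι 0).app X₃, (t.truncGEπ 0).app X₃ ≫ eQ.inv,
      eQ.hom ≫ (t.truncGEδLT 0).app X₃ ≫ e₁.inv⟦(1 : ℤ)⟧', isomorphic_distinguished _ hd _
      (Triangle.isoMk _ _ e₁ (Iso.refl _) eQ ?_ ?_ ?_)⟩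
    · exact Category.comp_id _
    · have h2 : ((t.truncGEπ 0).app X₃ ≫ eQ.inv) ≫ eQ.hom = (t.truncGEπ 0).app X₃ := by simp
      exact h2.trans (Category.id_comp _).symm
    · change (eQ.hom ≫ (t.truncGEδLT 0).app X₃ ≫ e₁.inv⟦(1 : ℤ)⟧') ≫ e₁.hom⟦(1 : ℤ)⟧' =
        eQ.hom ≫ (t.truncGEδLT 0).app X₃
      rw [Category.assoc, Category.assoc, ← CategoryTheory.Functor.map_comp, Iso.inv_hom_id,
        CategoryTheory.Functor.map_id]
      erw [Category.comp_id]
  haveI : HasFiniteProducts H := by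
    obtain ⟨Z, ⟨eZ⟩⟩ := hess 0 inferInstance inferInstance
    have hz : IsZero Z := by
      rw [IsZero.iff_id_eq_zero]
      apply ι.map_injective
      exact ((isZero_zero C).of_iso eZ).eq_of_src _ _
    haveI : HasZeroObject H := ⟨⟨Z, hz⟩⟩
    haveI : HasTerminal H := HasZeroObject.hasTerminal
    haveI : HasBinaryBiproducts H := ⟨fun X Y => by
      have hd := binaryBiproductTriangle_distinguished (ι.obj X) (ι.obj Y)
      obtain ⟨P, ⟨e⟩⟩ := hess (ι.obj X ⊞ ι.obj Y)
        (t.isLE₂ _ hd 0 (inferInstanceAs (t.IsLE (ι.obj X) 0)) (inferInstanceAs (t.IsLE (ι.obj Y) 0)))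
        (t.isGE₂ _ hd 0 (inferInstanceAs (t.IsGE (ι.obj X) 0)) (inferInstanceAs (t.IsGE (ι.obj Y) 0)))
      exact hasBinaryBiproduct_of_total
        { pt := P
          fst := ι.preimage (e.hom ≫ biprod.fst)
          snd := ι.preimage (e.hom ≫ biprod.snd)
          inl := ι.preimage (biprod.inl ≫ e.inv)
          inr := ι.preimage (biprod.inr ≫ e.inv)
          inl_fst := ι.map_injective (by simp)
          inl_snd := ι.map_injective (by simp)
          inr_fst := ι.map_injective (by simp)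
          inr_snd := ι.map_injective (by simp) }
        (ι.map_injective (by
          simp only [Functor.map_add, Functor.map_comp, Functor.map_preimage, CategoryTheory.Functor.map_id, Category.assoc]
          rw [← Preadditive.comp_add, ← Category.assoc biprod.fst, ← Category.assoc biprod.snd,
            ← Preadditive.add_comp, biprod.total, Category.id_comp, Iso.hom_inv_id]))⟩
    exact hasFiniteProducts_of_has_binary_and_terminal
  exact ⟨AbelianSubcategory.abelian ι hι hA, rfl⟩

end Groth.Agent.S11520
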