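import Groth.Statements.S11521
import Mathlib

set_option autoImplicit false
universe v u v' u'
open CategoryTheory CategoryTheory.Limits CategoryTheory.Pretriangulated CategoryTheory.Triangulated
open PervT

namespace Groth.Agent.S11521

/-- Let `C` be a triangulated category (octahedron axiom included) with a t-structure `t`, and let `H`
be an abelian category identified with the heart of `t` through a fully faithful additive functor
`ι` whose essential image is the heart. For morphisms `u : X ⟶ Y` and `v : Y ⟶ Z` in `H`, the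
sequence `0 ⟶ X ⟶ Y ⟶ Z ⟶ 0` is a complex and is short exact if and only if there is a morphism `w :
ι Z ⟶ (ι X)⟦1⟧` such that `(ι u, ι v, w)` is a distinguished triangle of `C`. -/
theorem result {C : Type u} [Category.{v} C] [Preadditive C] [HasZeroObject C] [HasShift C ℤ] [∀ n : ℤ, (shiftFunctor C n).Additive] [Pretriangulated C] [IsTriangulated C] (t : TStructure C) {H : Type u'} [Category.{v'} H] [Abelian H] [t.Heart H] {X Y Z : H} (u : X ⟶ Y) (v : Y ⟶ Z) :
    (∃ huv : u ≫ v = 0, (ShortComplex.mk u v huv).ShortExact) ↔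
      ∃ (w : t.ιHeart.obj Z ⟶ (t.ιHeart.obj X)⟦(1 : ℤ)⟧),
        Triangle.mk (t.ιHeart.map u) (t.ιHeart.map v) w ∈ distTriang C := by
  let ι : H ⥤ C := t.ιHeart
  have hess : ∀ X : C, t.IsLE X 0 → t.IsGE X 0 → ∃ K : H, Nonempty (ι.obj K ≅ X) := fun X hL hG => by
    have : ι.essImage X := by
      change (t.ιHeart (H := H)).essImage X
      rw [t.essImage_ιHeart, t.mem_heart_iff]
      exact ⟨hL, hG⟩
    exact this
  have hι : ∀ ⦃X Y : H⦄ ⦃n : ℤ⦄ (f : ι.obj X ⟶ (ι.obj Y)⟦n⟧), n < 0 → f = 0 := fun X Y n f hn => by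
    haveI : t.IsGE ((ι.obj Y)⟦n⟧) (-n) := t.isGE_shift (ι.obj Y) 0 n (-n) (by omega)
    exact t.zero_of_isLE_of_isGE f 0 (-n) (by omega) inferInstance inferInstance
  have hA : AbelianSubcategory.admissibleMorphism ι = ⊤ := by
    refine eq_top_iff.2 fun X₁ X₂ f _ => ?_
    intro X₃ f₂ f₃ hT
    haveI : t.IsLE ((ι.obj X₁)⟦(1 : ℤ)⟧) 0 := by
      haveI := t.isLE_shift (ι.obj X₁) 0 1 (-1) (by omega)
      exact t.isLE_of_le _ (-1) 0 (by omega)
    haveI : t.IsGE ((ι.obj X₁)⟦(1 : ℤ)⟧) (-1) := t.isGE_shift (ι.obj X₁) 0 1 (-1) (by omega)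
    haveI hL3 : t.IsLE X₃ 0 := t.isLE₂ _ (rot_of_distTriang _ hT) 0 (inferInstanceAs (t.IsLE (ι.obj X₂) 0)) (inferInstanceAs (t.IsLE ((ι.obj X₁)⟦(1 : ℤ)⟧) 0))
    haveI : t.IsGE (ι.obj X₂) (-1) := t.isGE_of_ge _ (-1) 0 (by omega)
    haveI hG3 : t.IsGE X₃ (-1) := t.isGE₂ _ (rot_of_distTriang _ hT) (-1) (inferInstanceAs (t.IsGE (ι.obj X₂) (-1))) (inferInstanceAs (t.IsGE ((ι.obj X₁)⟦(1 : ℤ)⟧) (-1)))
    have hd := t.triangleLTGE_distinguished 0 X₃
    set W := (t.truncLT 0).obj X₃ with hW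
    haveI : t.IsLE W (-1) := t.isLE_truncLT_obj X₃ 0 (-1) (by omega)
    haveI : t.IsGE W (-1) := inferInstance
    haveI := t.isLE_shift W (-1) (-1) 0 (by omega)
    haveI := t.isGE_shift W (-1) (-1) 0 (by omega)
    obtain ⟨K, ⟨eK⟩⟩ := hess (W⟦(-1 : ℤ)⟧) inferInstance inferInstance
    obtain ⟨Q, ⟨eQ⟩⟩ := hess ((t.truncGE 0).obj X₃) inferInstance inferInstance
    let e₁ : (ι.obj K)⟦(1 : ℤ)⟧ ≅ W :=
      (shiftFunctor C (1 : ℤ)).mapIso eK ≪≫ (shiftFunctorCompIsoId C (-1 : ℤ) 1 (by omega)).app W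
    refine ⟨K, Q, e₁.hom ≫ (t.truncLTι 0).app X₃, (t.truncGEπ 0).app X₃ ≫ eQ.inv,
      eQ.hom ≫ (t.truncGEδLT 0).app X₃ ≫ e₁.inv⟦(1 : ℤ)⟧', isomorphic_distinguished _ hd _
      (Triangle.isoMk _ _ e₁ (Iso.refl _) eQ ?_ ?_ ?_)⟩
    · exact Category.comp_id _
    · have h2 : ((t.truncGEπ 0).app X₃ ≫ eQ.inv) ≫ eQ.hom = (t.truncGEπ 0).app X₃ := by simp
      exact h2.trans (Category.id_comp _).symm
    · change (eQ.hom ≫ (t.truncGEδLT 0).app X₃ ≫ e₁.inv⟦(1 : ℤ)⟧') ≫ e₁.hom⟦(1 : ℤ)⟧' =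
        eQ.hom ≫ (t.truncGEδLT 0).app X₃
      rw [Category.assoc, Category.assoc, ← CategoryTheory.Functor.map_comp, Iso.inv_hom_id,
        CategoryTheory.Functor.map_id]
      erw [Category.comp_id]
  constructor
  · rintro ⟨huv, hS⟩
    haveI : Epi v := hS.epi_g
    obtain ⟨X₁, i, δ, hT⟩ := AbelianSubcategory.exists_distinguished_triangle_of_epi hι hA v
    have hk := AbelianSubcategory.isLimitKernelForkOfDistTriang hι i v δ hT
    have hku := hS.fIsKernel
    let e : X ≅ X₁ := IsLimit.conePointUniqueUpToIso hku hk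
    have he : e.hom ≫ i = u := IsLimit.conePointUniqueUpToIso_hom_comp hku hk WalkingParallelPair.zero
    refine ⟨δ ≫ (ι.map e.inv)⟦(1 : ℤ)⟧', isomorphic_distinguished _ hT _ ?_⟩
    refine Triangle.isoMk _ _ (ι.mapIso e) (Iso.refl _) (Iso.refl _) ?_ ?_ ?_
    · refine (Category.comp_id _).trans ?_
      show ι.map u = ι.map e.hom ≫ ι.map i
      rw [← Functor.map_comp, he]
    · exact (Category.comp_id _).trans (Category.id_comp _).symm
    · show (δ ≫ (ι.map e.inv)⟦(1 : ℤ)⟧') ≫ (ι.map e.hom)⟦(1 : ℤ)⟧' = 𝟙 _ ≫ δ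
      rw [Category.assoc, ← Functor.map_comp, ← Functor.map_comp, Iso.inv_hom_id, CategoryTheory.Functor.map_id, CategoryTheory.Functor.map_id]
      exact (Category.comp_id _).trans (Category.id_comp _).symm
  · rintro ⟨w, hT⟩
    have hk := AbelianSubcategory.isLimitKernelForkOfDistTriang hι u v w hT
    have hc := AbelianSubcategory.isColimitCokernelCoforkOfDistTriang hι u v w hT
    have huv : u ≫ v = 0 := ι.map_injective (by
      rw [Functor.map_comp, Functor.map_zero]; exact comp_distTriang_mor_zero₁₂ _ hT)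
    haveI : Mono u := Fork.IsLimit.mono hk
    haveI : Epi v := Cofork.IsColimit.epi hc
    exact ⟨huv, { exact := ShortComplex.exact_of_f_is_kernel _ hk, mono_f := ‹_›, epi_g := ‹_› }⟩

end Groth.Agent.S11521
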