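import Groth.Statements.S11522
import Mathlib.CategoryTheory.Triangulated.TStructure.TruncLEGT
import Mathlib.CategoryTheory.Triangulated.TStructure.Heart
-- import your own Groth.Agent.* helpers here

set_option autoImplicit false
set_option maxHeartbeats 2000000
set_option backward.isDefEq.respectTransparency false
universe v u v' u'
open CategoryTheory CategoryTheory.Limits CategoryTheory.Pretriangulated CategoryTheory.Triangulated
open PervT

namespace Groth.Agent.S11522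

section
variable {C : Type u} [Category.{v} C] [Preadditive C] [HasZeroObject C] [HasShift C ℤ]
  [∀ n : ℤ, (shiftFunctor C n).Additive] [Pretriangulated C] [IsTriangulated C] (t : TStructure C)

theorem right_exact (T : Triangle C) (hT : T ∈ distTriang C) [t.IsLE T.obj₁ 0] {W : C} [t.IsGE W 0]
    (φ : (t.truncLE 0).obj T.obj₂ ⟶ W) (h : (t.truncLE 0).map T.mor₁ ≫ φ = 0) :
    ∃ ψ : (t.truncLE 0).obj T.obj₃ ⟶ W, (t.truncLE 0).map T.mor₂ ≫ ψ = φ := by
  let a : T.obj₁ ⟶ (t.truncLE 0).obj T.obj₂ :=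
    inv ((t.truncLEι 0).app T.obj₁) ≫ (t.truncLE 0).map T.mor₁
  have ha : a ≫ (t.truncLEι 0).app T.obj₂ = T.mor₁ := by
    simp only [a, Category.assoc, (t.truncLEι 0).naturality, Functor.id_map]
    simp
  obtain ⟨W', v, w, hW⟩ := distinguished_cocone_triangle a
  have H := someOctahedron ha hW (t.triangleLEGT_distinguished 0 T.obj₂) hT
  have hle : t.IsLE W' 0 := t.isLE₂ _ (rot_of_distTriang _ hW) 0
    (inferInstanceAs (t.IsLE ((t.truncLE 0).obj T.obj₂) 0))
    (by
      have := t.isLE_shift T.obj₁ 0 1 (-1) (by lia)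
      exact (t.isLE_of_le (T.obj₁⟦(1 : ℤ)⟧) (-1) 0 (by lia) : t.IsLE (T.obj₁⟦(1 : ℤ)⟧) 0))
  have : IsIso ((t.truncLE 0).map H.m₁) :=
    t.isIso₁_truncLE_map_of_isGE _ H.mem 0 1 (by lia) (t.isGE_truncGT_obj T.obj₂ 0 1 (by lia))
  have haφ : a ≫ φ = 0 := by simp [a, h]
  obtain ⟨ψ₀, hψ₀⟩ := Triangle.yoneda_exact₂ _ hW φ haφ
  refine ⟨inv ((t.truncLE 0).map H.m₁) ≫ (t.truncLEι 0).app W' ≫ ψ₀, ?_⟩
  have hv : (t.truncLE 0).map T.mor₂ =
      inv ((t.truncLEι 0).app ((t.truncLE 0).obj T.obj₂)) ≫ (t.truncLE 0).map v ≫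
        (t.truncLE 0).map H.m₁ := by
    rw [← Functor.map_comp, IsIso.eq_inv_comp]
    have h1 : v ≫ H.m₁ = (t.truncLEι 0).app T.obj₂ ≫ T.mor₂ := H.comm₁
    rw [h1, Functor.map_comp]
    congr 1
    exact (t.truncLT_map_truncLTι_app _ _).symm
  rw [hv]
  simp only [Category.assoc, IsIso.hom_inv_id_assoc]
  rw [(t.truncLEι 0).naturality_assoc v ψ₀, IsIso.inv_hom_id_assoc]
  exact hψ₀.symm

theorem mono_GE (T : Triangle C) (hT : T ∈ distTriang C) [t.IsGE T.obj₁ 1] {W : C} [t.IsLE W 0]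
    (k : W ⟶ (t.truncGE 0).obj T.obj₂) (h : k ≫ (t.truncGE 0).map T.mor₂ = 0) : k = 0 := by
  have hA : t.IsGE (T.obj₁⟦(1 : ℤ)⟧) 0 := t.isGE_shift _ 1 1 0 (by lia)
  have : IsIso ((t.truncLT 0).map T.mor₂) :=
    t.isIso₁_truncLT_map_of_isGE _ (rot_of_distTriang _ hT) 0 hA
  let i := asIso ((t.truncLT 0).map T.mor₂)
  have hmem : Triangle.mk ((t.truncLTι 0).app T.obj₂ ≫ T.mor₂) ((t.truncGEπ 0).app T.obj₃)
      ((t.truncGEδLT 0).app T.obj₃ ≫ i.inv⟦(1 : ℤ)⟧') ∈ distTriang C := by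
    refine isomorphic_distinguished _ (t.triangleLTGE_distinguished 0 T.obj₃) _ ?_
    refine Triangle.isoMk _ _ i (Iso.refl _) (Iso.refl _) ?_ ?_ ?_
    · dsimp [i]
      simp
    · dsimp
      simp
    · dsimp
      simp only [Category.assoc, Category.id_comp, ← Functor.map_comp, Iso.inv_hom_id]
      simp
  have H := someOctahedron rfl (t.triangleLTGE_distinguished 0 T.obj₂) (rot_of_distTriang _ hT) hmem
  have hm : H.m₁ = (t.truncGE 0).map T.mor₂ :=
    t.from_truncGE_obj_ext (H.comm₁.trans ((t.truncGEπ 0).naturality T.mor₂))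
  obtain ⟨l, hl⟩ := Triangle.coyoneda_exact₂ _ (inv_rot_of_distTriang _ H.mem) k (by
    dsimp
    rw [hm]
    exact h)
  rw [hl, t.zero_of_isLE_of_isGE l 0 1 (by lia) inferInstance
    (t.isGE_shift (T.obj₁⟦(1 : ℤ)⟧) 0 (-1) 1 (by lia))]
  exact zero_comp

variable {H : Type u'} [Category.{v'} H] [Abelian H] [t.Heart H] (H0 : C ⥤ H)
  (e : H0 ⋙ t.ιHeart ≅ t.truncGE 0 ⋙ t.truncLE 0)

include e in
theorem preservesZero : H0.PreservesZeroMorphisms where
  map_zero X Y := by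
    apply t.ιHeart.map_injective
    have := e.hom.naturality (0 : X ⟶ Y)
    dsimp at this
    rw [← cancel_mono (e.hom.app Y), this]
    simp

include e in
theorem right_H (T : Triangle C) (hT : T ∈ distTriang C) [t.IsLE T.obj₁ 0] {W : H}
    (φ : H0.obj T.obj₂ ⟶ W) (h : H0.map T.mor₁ ≫ φ = 0) :
    ∃ ψ : H0.obj T.obj₃ ⟶ W, H0.map T.mor₂ ≫ ψ = φ := by
  let e' : H0 ⋙ t.ιHeart ≅ t.truncLE 0 ⋙ t.truncGE 0 := e ≪≫ (t.truncGELEIsoLEGE 0 0).symm
  let φ' : (t.truncLE 0).obj T.obj₂ ⟶ t.ιHeart.obj W :=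
    (t.truncGEπ 0).app ((t.truncLE 0).obj T.obj₂) ≫ e'.inv.app T.obj₂ ≫ t.ιHeart.map φ
  have h' : (t.truncLE 0).map T.mor₁ ≫ φ' = 0 := by
    have h1 := (t.truncGEπ 0).naturality ((t.truncLE 0).map T.mor₁)
    have h2 := e'.inv.naturality T.mor₁
    simp only [Functor.id_obj, Functor.id_map, Functor.comp_obj, Functor.comp_map] at h1 h2
    simp only [φ']
    rw [reassoc_of% h1, reassoc_of% h2, ← Functor.map_comp, h, Functor.map_zero, comp_zero,
      comp_zero]
  obtain ⟨ψ, hψ⟩ := right_exact t T hT φ' h'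
  refine ⟨t.ιHeart.preimage (e'.hom.app T.obj₃ ≫ t.descTruncGE ψ 0), t.ιHeart.map_injective ?_⟩
  rw [Functor.map_comp, Functor.map_preimage]
  have h2 := e'.hom.naturality T.mor₂
  simp only [Functor.comp_obj, Functor.comp_map] at h2
  rw [reassoc_of% h2, ← cancel_epi (e'.inv.app T.obj₂), Iso.inv_hom_id_app_assoc]
  refine t.from_truncGE_obj_ext ?_
  have h3 := (t.truncGEπ 0).naturality ((t.truncLE 0).map T.mor₂)
  simp only [Functor.id_obj, Functor.id_map, Functor.comp_obj, Functor.comp_map] at h3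
  rw [← reassoc_of% h3, t.π_descTruncGE, hψ]


include e in
theorem mono_H (T : Triangle C) (hT : T ∈ distTriang C) [t.IsGE T.obj₁ 1] {W : H}
    (k : W ⟶ H0.obj T.obj₂) (h : k ≫ H0.map T.mor₂ = 0) : k = 0 := by
  let k' : t.ιHeart.obj W ⟶ (t.truncGE 0).obj T.obj₂ :=
    t.ιHeart.map k ≫ e.hom.app T.obj₂ ≫ (t.truncLEι 0).app ((t.truncGE 0).obj T.obj₂)
  have hk : k' ≫ (t.truncGE 0).map T.mor₂ = 0 := by
    have h1 := (t.truncLEι 0).naturality ((t.truncGE 0).map T.mor₂)
    have h2 := e.hom.naturality T.mor₂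
    simp only [Functor.id_obj, Functor.id_map, Functor.comp_obj, Functor.comp_map] at h1 h2
    simp only [k', Category.assoc]
    rw [← h1, ← reassoc_of% h2, ← Functor.map_comp_assoc, h, Functor.map_zero, zero_comp]
  have h0 := mono_GE t T hT k' hk
  apply t.ιHeart.map_injective
  rw [Functor.map_zero, ← cancel_mono (e.hom.app T.obj₂), zero_comp]
  refine t.to_truncLE_obj_ext ?_
  rw [zero_comp, Category.assoc]
  exact h0

end


/-- Let `C` be a triangulated category (octahedron axiom included) with a t-structure `t`, and let `H`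
be an abelian category identified with the heart of `t` through a fully faithful additive functor
`ι` whose essential image is the heart. Let `H0 : C ⥤ H` be any functor whose composite with `ι` is
isomorphic to `τ≤0 ∘ τ≥0`, the degree-zero cohomology functor of `t`. Then `H0` is a homological
functor: for every distinguished triangle `X ⟶ Y ⟶ Z ⟶ X⟦1⟧` the sequence `H0 X ⟶ H0 Y ⟶ H0 Z` is
exact, so that by rotation one gets the long exact cohomology sequence of the triangle in `H`. -/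
theorem result {C : Type u} [Category.{v} C] [Preadditive C] [HasZeroObject C] [HasShift C ℤ] [∀ n : ℤ, (shiftFunctor C n).Additive] [Pretriangulated C] [IsTriangulated C] (t : TStructure C) {H : Type u'} [Category.{v'} H] [Abelian H] [t.Heart H] (H0 : C ⥤ H)
    (e : H0 ⋙ t.ιHeart ≅ t.truncGE 0 ⋙ t.truncLE 0) : H0.IsHomological := by
  haveI := preservesZero t H0 e
  refine { exact := fun T hT => ?_ }
  rw [ShortComplex.exact_iff_kernel_ι_comp_cokernel_π_zero]
  change kernel.ι (H0.map T.mor₂) ≫ cokernel.π (H0.map T.mor₁) = 0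
  let a := (t.truncLEι 0).app T.obj₁ ≫ T.mor₁
  obtain ⟨U, v, w, hU⟩ := distinguished_cocone_triangle a
  have O := someOctahedron (rfl : (t.truncLEι 0).app T.obj₁ ≫ T.mor₁ = a)
    (t.triangleLEGT_distinguished 0 T.obj₁) hT hU
  haveI : t.IsLE (Triangle.mk a v w).obj₁ 0 := inferInstanceAs (t.IsLE ((t.truncLE 0).obj T.obj₁) 0)
  haveI : t.IsGE (Triangle.mk O.m₁ O.m₃
      (T.mor₃ ≫ (shiftFunctor C (1 : ℤ)).map ((t.truncGTπ 0).app T.obj₁))).obj₁ 1 := by
    exact t.isGE_truncGT_obj T.obj₁ 0 1 (by lia)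
  have h3 : v ≫ O.m₃ = T.mor₂ := O.comm₃
  obtain ⟨ψ, hψ⟩ := right_H t H0 e _ hU (cokernel.π (H0.map T.mor₁)) (by
    change H0.map ((t.truncLEι 0).app T.obj₁ ≫ T.mor₁) ≫ cokernel.π (H0.map T.mor₁) = 0
    rw [Functor.map_comp, Category.assoc, cokernel.condition, comp_zero])
  replace hψ : H0.map v ≫ ψ = cokernel.π (H0.map T.mor₁) := hψ
  have hk : kernel.ι (H0.map T.mor₂) ≫ H0.map v = 0 :=
    mono_H t H0 e _ O.mem (kernel.ι (H0.map T.mor₂) ≫ H0.map v) (by
      change _ ≫ H0.map O.m₃ = 0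
      rw [Category.assoc, ← Functor.map_comp, h3, kernel.condition])
  rw [← hψ, reassoc_of% hk, zero_comp]

end Groth.Agent.S11522
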