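import Groth.Statements.S11523
import Mathlib

set_option autoImplicit false
set_option backward.isDefEq.respectTransparency false
set_option backward.isDefEq.respectTransparency.types false
universe v u v' u'
open CategoryTheory CategoryTheory.Limits
open PervT

namespace Groth.Agent.S11523
theorem exists_hom_ne_zero {A : Type u} [Category.{v} A] [Abelian A] {B : Type u'} [Category.{v'} B] [Abelian B]
    (u : A ⥤ B) [PreservesFiniteLimits u] [PreservesFiniteColimits u] [u.PreservesZeroMorphisms]
    (hlen : ∀ X : A, IsArtinianObject X ∧ IsNoetherianObject X)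
    (hsimple : ∀ X : A, Simple X → Simple (u.obj X))
    (X : A) {K : B} (ι : K ⟶ u.obj X) [Mono ι] (hK : ¬ IsZero K) :
    ∃ (S : A) (g : u.obj S ⟶ K), g ≠ 0 := by
  haveI := (hlen X).2
  let T : Set (Subobject X) := {N | IsZero (pullback (u.map N.arrow) ι)}
  have hT : (⊥ : Subobject X) ∈ T := by
    haveI : Mono (u.map (⊥ : Subobject X).arrow) := inferInstance
    show IsZero _
    rw [IsZero.iff_id_eq_zero]
    haveI : Mono (pullback.snd (u.map (⊥ : Subobject X).arrow) ι) := inferInstance
    apply pullback.hom_ext
    · have h0 : IsZero (u.obj ((⊥ : Subobject X) : A)) :=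
        u.map_isZero ((isZero_zero A).of_iso Subobject.botCoeIsoZero)
      exact h0.eq_of_tgt _ _
    · rw [← cancel_mono ι, Category.assoc, Category.assoc, ← pullback.condition]
      simp [Subobject.bot_arrow]
  obtain ⟨N, hN, hmax⟩ := wellFounded_gt.has_min T ⟨⊥, hT⟩
  have hQ : ¬ IsZero (cokernel N.arrow) := by
    intro hz
    haveI : Epi N.arrow := Preadditive.epi_of_isZero_cokernel N.arrow hz
    haveI : IsIso N.arrow := isIso_of_mono_of_epi _
    haveI : IsIso (pullback.snd (u.map N.arrow) ι) := inferInstance
    exact hK ((hN : IsZero _).of_iso (asIso (pullback.snd (u.map N.arrow) ι)).symm)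
  haveI := (hlen (cokernel N.arrow)).1
  obtain ⟨S, hS⟩ := exists_simple_subobject hQ
  haveI := hS
  haveI := hsimple _ hS
  haveI : Epi (pullback.snd (cokernel.π N.arrow) S.arrow) := inferInstance
  let n' := pullback.fst (cokernel.π N.arrow) S.arrow
  let s := pullback.snd (cokernel.π N.arrow) S.arrow
  have hcond : n' ≫ cokernel.π N.arrow = s ≫ S.arrow := pullback.condition
  have hle : N ≤ Subobject.mk n' := Subobject.le_mk_of_comm
    (pullback.lift N.arrow 0 (by simp)) (pullback.lift_fst _ _ _)
  have hne : ¬ IsZero (pullback (u.map (Subobject.mk n').arrow) ι) := by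
    refine fun hz => hmax (Subobject.mk n') hz (lt_of_le_of_ne hle fun heq => ?_)
    have h0 : n' ≫ cokernel.π N.arrow = 0 := by
      have h1 : (Subobject.mk n').arrow ≫ cokernel.π N.arrow = 0 := by rw [← heq, cokernel.condition]
      rw [← Subobject.underlyingIso_arrow n', Category.assoc, h1, comp_zero]
    rw [hcond] at h0
    have hS0 : S.arrow = 0 := by rw [← cancel_epi s, h0, comp_zero]
    exact Simple.not_isZero (S : A) (IsZero.of_mono_eq_zero S.arrow hS0)
  let K' := pullback (u.map (Subobject.mk n').arrow) ι
  let m : K' ⟶ u.obj (S : A) :=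
    pullback.fst (u.map (Subobject.mk n').arrow) ι ≫ u.map ((Subobject.underlyingIso n').hom ≫ s)
  have hexact : ((ShortComplex.mk N.arrow (cokernel.π N.arrow) (cokernel.condition _)).map u).Exact :=
    (ShortComplex.exact_cokernel N.arrow).map u
  haveI : Mono m := by
    refine Preadditive.mono_of_cancel_zero _ (fun {T'} t ht => ?_)
    have h1 : (t ≫ pullback.fst _ _ ≫ u.map (Subobject.mk n').arrow) ≫ u.map (cokernel.π N.arrow) = 0 := by
      simp only [Category.assoc, ← u.map_comp]
      have : (Subobject.mk n').arrow ≫ cokernel.π N.arrow =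
          ((Subobject.underlyingIso n').hom ≫ s) ≫ S.arrow := by
        rw [Category.assoc, ← hcond, ← Category.assoc, Subobject.underlyingIso_hom_comp_eq_mk]
      rw [this, u.map_comp]
      have h2 := congrArg (· ≫ u.map S.arrow) ht
      simp only [m, Category.assoc, zero_comp] at h2
      exact h2
    haveI : Mono ((ShortComplex.mk N.arrow (cokernel.π N.arrow) (cokernel.condition _)).map u).f := by
      show Mono (u.map N.arrow); infer_instance
    obtain ⟨l, hl⟩ := hexact.lift' (t ≫ pullback.fst _ _ ≫ u.map (Subobject.mk n').arrow) h1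
    change l ≫ u.map N.arrow = _ at hl
    have hz : pullback.lift l (t ≫ pullback.snd (u.map (Subobject.mk n').arrow) ι)
        (by rw [hl, pullback.condition, Category.assoc]) = 0 := (hN : IsZero _).eq_of_tgt _ _
    have hz2 := congrArg (· ≫ pullback.snd _ _) hz
    simp only [zero_comp] at hz2
    rw [pullback.lift_snd] at hz2
    haveI : Mono (pullback.snd (u.map (Subobject.mk n').arrow) ι) := inferInstance
    rw [← cancel_mono (pullback.snd (u.map (Subobject.mk n').arrow) ι), zero_comp]
    exact hz2
  haveI : IsIso m := isIso_of_mono_of_nonzero (fun h => hne (IsZero.of_mono_eq_zero m h))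
  refine ⟨(S : A), inv m ≫ pullback.snd _ _, fun h => hne ?_⟩
  have h3 : pullback.snd (u.map (Subobject.mk n').arrow) ι = 0 := by
    have := congrArg (m ≫ ·) h
    simpa using this
  exact IsZero.of_mono_eq_zero _ h3

/-- Let `u : A ⥤ B` be a fully faithful exact functor of abelian categories admitting a left adjoint and
a right adjoint `uStar`. Suppose every object of `A` has finite length (it is both an artinian and a
noetherian object) and that `u` sends simple objects to simple objects. Then for every object `Y` of
`B` the counit `u (uStar Y) ⟶ Y` of the adjunction `u ⊣ uStar` is a monomorphism. (The published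
statement also lists two further conditions equivalent to this one: that for every object `Y` of `B`
the unit `Y ⟶ u (L Y)` of the adjunction `L ⊣ u` of the left adjoint `L` is an epimorphism, and that
the essential image of `u` is stable under subobjects and quotients; this row states only the counit
condition.) -/
theorem result {A : Type u} [Category.{v} A] [Abelian A] {B : Type u'} [Category.{v'} B] [Abelian B]
    (u : A ⥤ B) [u.Full] [u.Faithful] [PreservesFiniteLimits u] [PreservesFiniteColimits u] [u.IsRightAdjoint]
    (uStar : B ⥤ A) (adj : u ⊣ uStar)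
    (hlen : ∀ X : A, IsArtinianObject X ∧ IsNoetherianObject X)
    (hsimple : ∀ X : A, Simple X → Simple (u.obj X)) (Y : B) :
    Mono (adj.counit.app Y) := by
  haveI : u.IsLeftAdjoint := ⟨_, ⟨adj⟩⟩
  haveI : u.PreservesZeroMorphisms := inferInstance
  refine Preadditive.mono_of_isZero_kernel _ ?_
  by_contra hK
  obtain ⟨S, g, hg⟩ := exists_hom_ne_zero u hlen hsimple (uStar.obj Y) (kernel.ι (adj.counit.app Y)) hK
  obtain ⟨h, hh⟩ := u.map_surjective (g ≫ kernel.ι (adj.counit.app Y))
  have h0 : u.map h ≫ adj.counit.app Y = 0 := by rw [hh, Category.assoc, kernel.condition, comp_zero]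
  have h1 : (adj.homEquiv S Y).symm h = (adj.homEquiv S Y).symm 0 := by
    rw [adj.homEquiv_counit, adj.homEquiv_counit, u.map_zero, zero_comp]
    exact h0
  have := (adj.homEquiv S Y).symm.injective h1
  apply hg
  rw [this, u.map_zero] at hh
  rw [← cancel_mono (kernel.ι (adj.counit.app Y)), zero_comp]
  exact hh.symm

end Groth.Agent.S11523
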