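import Groth.Statements.S1153
import Groth.Agent.MiscFlat6.FpqcDesc
import Groth.Agent.ProperOverLib.Basic
-- import your own Groth.Agent.* helpers here

set_option autoImplicit false
open CategoryTheory CategoryTheory.Limits AlgebraicGeometry Opposite
universe u
open Desc

namespace Groth.Agent.S1153

/-- Let f : X ⟶ Y be locally of finite type, Z a closed subset of X and g : Y' ⟶ Y quasi-compact, flat
and surjective. If the preimage of Z in X ×_Y Y' is proper over Y', then Z is proper over Y. -/
theorem result {X Y Y' : Scheme.{u}} (f : X ⟶ Y) [LocallyOfFiniteType f] (Z : Set X) (hZ : IsClosed Z)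
    (g : Y' ⟶ Y) [QuasiCompact g] [Flat g] [Surjective g]
    (h : ClSub.IsProperOver (pullback.snd f g) ((pullback.fst f g).base ⁻¹' Z)) :
    ClSub.IsProperOver f Z := by
  refine ⟨hZ, ?_⟩
  let i := (Scheme.IdealSheafData.vanishingIdeal ⟨Z, hZ⟩).subschemeι
  let j := pullback.snd i (pullback.fst f g)
  have hr : Set.range j ⊆ (pullback.fst f g).base ⁻¹' Z := by
    rw [Scheme.Pullback.range_snd, ProperOverLib.range_subschemeι_vanishingIdeal]
    rfl
  have hj : IsProper (j ≫ pullback.snd f g) := ProperOverLib.isProper_comp_closedImmersion h j hr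
  have sq : IsPullback (pullback.fst i (pullback.fst f g)) (j ≫ pullback.snd f g) (i ≫ f) g :=
    (IsPullback.of_hasPullback i (pullback.fst f g)).paste_vert (IsPullback.of_hasPullback f g)
  haveI := MiscFlat6.desc_isProper.{u}
  exact MorphismProperty.of_isPullback_of_descendsAlong (P := @IsProper)
    (Q := @Surjective ⊓ @Flat ⊓ @QuasiCompact) sq.flip ⟨⟨‹_›, ‹_›⟩, ‹_›⟩ hj

end Groth.Agent.S1153
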