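import Groth.Statements.S11530
import Groth.Agent.AdicRingLib.FlatTrunc

set_option autoImplicit false
universe u
open AdicRing

namespace Groth.Agent.S11530

/-- Let R be a base ring of class (N) or (V) for the ideal I and A an R-algebra which is complete and
separated for the I-adic topology. Then A is topologically of finite presentation over R if and only
if, for every n, the truncation A/I^(n+1)A is an algebra of finite presentation over R/I^(n+1). -/
theorem result
    (R : Type u) [CommRing R] (I : Ideal R) (hR : AdicRing.IsBase R I)
    (A : Type u) [CommRing A] [Algebra R A] [IsAdicComplete (I.map (algebraMap R A)) A] :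
    AdicRing.TopFinitePresentation R I A ↔
      ∀ n : ℕ, (Ideal.quotientMap ((I ^ (n + 1)).map (algebraMap R A)) (algebraMap R A)
        Ideal.le_comap_map).FinitePresentation := by
  have hI := AdicRingLib.fg_of_isBase hR
  have key : ∀ m : ℕ, (Ideal.quotientMap ((I ^ m).map (algebraMap R A)) (algebraMap R A)
      Ideal.le_comap_map).FinitePresentation ↔
      Algebra.FinitePresentation R (A ⧸ (I ^ m).map (algebraMap R A)) := fun m => by
    rw [← RingHom.finitePresentation_algebraMap]
    have hcomp : (Ideal.quotientMap ((I ^ m).map (algebraMap R A)) (algebraMap R A)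
        (I := I ^ m) Ideal.le_comap_map).comp (Ideal.Quotient.mk (I ^ m)) =
        algebraMap R (A ⧸ (I ^ m).map (algebraMap R A)) := Ideal.quotientMap_comp_mk Ideal.le_comap_map
    have hmk : (Ideal.Quotient.mk (I ^ m)).FinitePresentation :=
      RingHom.FinitePresentation.of_surjective _ Ideal.Quotient.mk_surjective
        (by rw [Ideal.mk_ker]; exact hI.pow)
    rw [← hcomp]
    exact ⟨fun h => h.comp hmk, fun h => RingHom.FinitePresentation.of_comp_finiteType _ h
      (RingHom.FiniteType.of_surjective _ Ideal.Quotient.mk_surjective)⟩
  refine ⟨fun h n => (key (n + 1)).2 (AdicRingLib.finitePresentation_trunc hI h _), fun h => ?_⟩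
  refine AdicRingLib.topFinitePresentation_of_trunc hR fun m => ?_
  rcases m with _ | n
  · have : Subsingleton (A ⧸ (I ^ 0).map (algebraMap R A)) := by
      rw [pow_zero, Ideal.one_eq_top, Ideal.map_top]
      exact Ideal.Quotient.subsingleton_iff.2 rfl
    refine Algebra.FinitePresentation.of_surjective
      (f := Algebra.ofId R (A ⧸ (I ^ 0).map (algebraMap R A))) (fun y => ⟨0, Subsingleton.elim _ _⟩) ⟨{1}, ?_⟩
    rw [Finset.coe_singleton, Ideal.span_singleton_one]
    exact (eq_top_iff.2 fun x _ => Subsingleton.elim _ _).symm
  · exact (key (n + 1)).1 (h n)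

end Groth.Agent.S11530
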