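import Groth.Statements.S11536
import Groth.Agent.AdicRingLib.FlatTrunc

set_option autoImplicit false
universe u
open AdicRing

namespace Groth.Agent.S11536

/-- Let R be a base ring of class (N) or (V) for the ideal I, A an R-algebra which is complete and
separated for the I-adic topology, and f_1, ..., f_r elements generating the unit ideal of A. Then A
is admissible over R if and only if each complete localization A⟨f_i⁻¹⟩ is. -/
theorem result
    (R : Type u) [CommRing R] (I : Ideal R) (hR : AdicRing.IsBase R I)
    (A : Type u) [CommRing A] [Algebra R A] [IsAdicComplete (I.map (algebraMap R A)) A]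
    (r : ℕ) (f : Fin r → A) (hf : Ideal.span (Set.range f) = ⊤) :
    AdicRing.Admissible R I A ↔ ∀ i, AdicRing.Admissible R I (AdicRing.CLoc I (f i)) := by
  have tft : AdicRing.TopFinitePresentation R I A → AdicRing.TopFiniteType R I A :=
    fun ⟨n, φ, hφ, _⟩ => ⟨n, φ, hφ⟩
  refine ⟨fun h i => ⟨AdicRingLib.topFinitePresentation_cLoc hR h.1 (f i),
    AdicRingLib.noPowTorsion_cLoc hR (tft h.1) (f i) h.2⟩, fun h => ?_⟩
  have hA := AdicRingLib.topFinitePresentation_of_forall_cLoc hR f hf fun i => (h i).1
  exact ⟨hA, AdicRingLib.noPowTorsion_of_forall_cLoc hR (tft hA) f hf fun i => (h i).2⟩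

end Groth.Agent.S11536
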