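import Groth.Statements.S11538
import Groth.Agent.FlatCrit.Quotient
import Mathlib.RingTheory.Flat.Stability
import Mathlib.RingTheory.Flat.Localization
import Mathlib.RingTheory.Localization.BaseChange

set_option autoImplicit false
universe u v
open scoped TensorProduct
open AdicRing

namespace Groth.Agent.S11538

/-- Let A be a commutative ring, π an element of A which is not a zero divisor and M an A-module. Then M
is flat over A if and only if the π-power torsion of M vanishes, (A/πA) ⊗_A M is flat over A/πA, and
A[π⁻¹] ⊗_A M is flat over A[π⁻¹]. -/
theorem result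
    (A : Type u) [CommRing A] (π : A) (hπ : π ∈ nonZeroDivisors A)
    (M : Type v) [AddCommGroup M] [Module A M] :
    Module.Flat A M ↔
      (∀ (x : M) (n : ℕ), π ^ n • x = 0 → x = 0) ∧
        Module.Flat (A ⧸ Ideal.span {π}) ((A ⧸ Ideal.span {π}) ⊗[A] M) ∧
        Module.Flat (Localization.Away π) ((Localization.Away π) ⊗[A] M) := by
  constructor
  · intro h
    refine ⟨fun x n hx => ?_, inferInstance, inferInstance⟩
    have hinj : Function.Injective (LinearMap.lTensor M (LinearMap.lsmul A A (π ^ n))) :=
      Module.Flat.lTensor_preserves_injective_linearMap _ (fun a b hab => by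
        refine sub_eq_zero.mp ((mem_nonZeroDivisors_iff_right.mp (pow_mem hπ n)) _ ?_)
        simp only [LinearMap.lsmul_apply, smul_eq_mul] at hab
        rw [sub_mul, mul_comm a, mul_comm b, hab, sub_self])
    have h0 : x ⊗ₜ[A] (1 : A) = 0 := hinj (by
      rw [map_zero, LinearMap.lTensor_tmul, LinearMap.lsmul_apply, smul_eq_mul, mul_one]
      rw [show (π ^ n : A) = π ^ n • 1 by rw [smul_eq_mul, mul_one], ← TensorProduct.smul_tmul, hx,
        TensorProduct.zero_tmul])
    simpa using congrArg (TensorProduct.rid A M) h0
  · rintro ⟨htf, h2, h3⟩
    have h1 : Function.Injective (LinearMap.lTensor M (Ideal.span {π} : Ideal A).subtype) := by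
      let gen : (Ideal.span {π} : Ideal A) := ⟨π, Ideal.mem_span_singleton_self π⟩
      have hall : ∀ z : TensorProduct A M (Ideal.span {π} : Ideal A), ∃ m : M, z = m ⊗ₜ gen := by
        intro z
        induction z using TensorProduct.induction_on with
        | zero => exact ⟨0, by simp⟩
        | add p q hp hq =>
          obtain ⟨a, rfl⟩ := hp
          obtain ⟨b, rfl⟩ := hq
          exact ⟨a + b, by rw [TensorProduct.add_tmul]⟩
        | tmul m c =>
          obtain ⟨d, hd⟩ := Ideal.mem_span_singleton'.mp c.2
          refine ⟨d • m, ?_⟩
          rw [TensorProduct.smul_tmul, show c = d • gen from Subtype.ext hd.symm]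
      rw [← LinearMap.ker_eq_bot, eq_bot_iff]
      intro z hz
      obtain ⟨m, rfl⟩ := hall z
      have h0 := congrArg (TensorProduct.rid A M) (LinearMap.mem_ker.mp hz)
      rw [LinearMap.lTensor_tmul, map_zero, TensorProduct.rid_tmul] at h0
      rw [Submodule.mem_bot, htf m 1 (by simpa [gen] using h0), TensorProduct.zero_tmul]
    refine Module.Flat.iff_lTensor_injective.mpr fun a _ => ?_
    rw [← LinearMap.ker_eq_bot, eq_bot_iff]
    intro t ht
    haveI : Module.Flat A (TensorProduct A (Localization.Away π) M) :=
      Module.Flat.trans A (Localization.Away π) _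
    let ι := TensorProduct.mk A (Localization.Away π) M 1
    have hz : LinearMap.rTensor a ι t = 0 := by
      refine Module.Flat.lTensor_preserves_injective_linearMap
        (M := TensorProduct A (Localization.Away π) M) a.subtype a.injective_subtype ?_
      rw [map_zero, ← LinearMap.comp_apply, LinearMap.lTensor_comp_rTensor,
        ← LinearMap.rTensor_comp_lTensor, LinearMap.comp_apply, LinearMap.mem_ker.mp ht, map_zero]
    have hz' : TensorProduct.mk A (Localization.Away π) (TensorProduct A M a) 1 t = 0 := by
      have := congrArg (TensorProduct.assoc A (Localization.Away π) M a) hz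
      rw [map_zero, ← LinearEquiv.coe_coe, ← LinearMap.comp_apply] at this
      rw [← this]
      congr 1
      exact TensorProduct.ext' fun m y => rfl
    obtain ⟨⟨s, n, rfl⟩, hs⟩ := (IsLocalizedModule.eq_zero_iff (Submonoid.powers π)
      (TensorProduct.mk A (Localization.Away π) (TensorProduct A M a) 1)).mp hz'
    rw [Submonoid.smul_def] at hs
    rw [Submodule.mem_bot]
    induction n generalizing t with
    | zero => simpa using hs
    | succ n ih =>
      simp only [pow_succ', mul_smul] at hs
      have h0 := FlatCrit.smul_tensor_ideal_injective hπ h1 h2 a _ hs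
      clear hz hz' hs
      have key : ∀ k : ℕ, ∀ u : TensorProduct A M a, π ^ k • u = 0 → u = 0 := by
        intro k
        induction k with
        | zero => simp
        | succ k ihk =>
          intro u hu
          rw [pow_succ', mul_smul] at hu
          exact ihk u (FlatCrit.smul_tensor_ideal_injective hπ h1 h2 a _ hu)
      exact key n t h0

end Groth.Agent.S11538
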