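import Groth.Statements.S1154
import Groth.Agent.PicFldDescLib.Insep

set_option autoImplicit false
set_option linter.style.haveILetI false
set_option backward.isDefEq.respectTransparency false
set_option backward.isDefEq.respectTransparency.types false

set_option autoImplicit false
open CategoryTheory CategoryTheory.Limits AlgebraicGeometry Opposite
universe u
open PicF

namespace Groth.Agent.S1154

/-- Let k have characteristic p > 0, let X be quasi-compact and quasi-separated over k whose ring of
global functions is k itself (the structure morphism induces an isomorphism on global sections), let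
n be prime to p and k'/k purely inseparable. Then every isomorphism class of invertible modules M on
X_{k'} with M^n trivial is the pullback of such a class on X (injectivity of this pullback on
classes being a separate fact). -/
theorem result (k : Type u) [Field k] (p : ℕ) [Fact p.Prime] [CharP k p]
    (X : Scheme.{u}) (f : X ⟶ Spec (CommRingCat.of k)) [CompactSpace X] [QuasiSeparatedSpace X]
    (hH0 : IsIso f.appTop) (n : ℕ) (hn : ¬ p ∣ n) (k' : Type u) [Field k'] [Algebra k k'] [IsPurelyInseparable k k'] :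
    ∀ d : PicF.Cl (pullback f (Spec.map (CommRingCat.ofHom (algebraMap k k')))), (PicF.IsInvertibleCl d ∧ ∃ M : ((pullback f (Spec.map (CommRingCat.ofHom (algebraMap k k'))))).Modules, PicF.cl M = d ∧ Nonempty (CohB1.tensorPow M n ≅ Coh.structureModule ((pullback f (Spec.map (CommRingCat.ofHom (algebraMap k k'))))))) →
      ∃ c : PicF.Cl X, (PicF.IsInvertibleCl c ∧ ∃ M : (X).Modules, PicF.cl M = c ∧ Nonempty (CohB1.tensorPow M n ≅ Coh.structureModule (X))) ∧ PicF.pullCl (pullback.fst f (Spec.map (CommRingCat.ofHom (algebraMap k k')))) c = d := by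
  intro d ⟨hd, M₀, hM₀d, ⟨i₀⟩⟩
  haveI : QuasiCompact f := (quasiCompact_iff_compactSpace f).mpr inferInstance
  haveI : QuasiSeparated f := inferInstance
  have hH : Function.Bijective f.appTop := ConcreteCategory.bijective_of_isIso f.appTop
  obtain ⟨L', hL'd, hL'⟩ := hd
  have ht' : CubeConsLib.cl L' ^ n = 1 := by
    have h0 := congrArg PicFldDescLib.toI (hM₀d.trans hL'd.symm)
    rw [PicFldDescLib.toI_cl, PicFldDescLib.toI_cl] at h0
    rw [← h0, ← PicFldDescLib.tensorPow_eq_pow]
    exact CubeConsLib.cl_eq_one_iff.2 ⟨i₀⟩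
  subst hL'd
  obtain ⟨L, hLfin, M, hM, hML⟩ := PicFldDescLib.exists_stage f k' L' hL'
  haveI : IsPurelyInseparable k L := IsPurelyInseparable.tower_bot k L k'
  have hn0 : n ≠ 0 := fun h => hn (h ▸ dvd_zero p)
  have hHL := PicFldDescLib.bij_snd f L hH
  have htM : CubeConsLib.cl M ^ n = 1 := by
    rw [← PicFldDescLib.tensorPow_eq_pow]
    refine (PicFldDescLib.inj (pullback.snd f (PicFldDescLib.gK k L)) hHL (PicFldDescLib.isPullback_toStage f k' L)
      (AmpleThLib.tensorPow_isInvertible hM n) (MiscFlat6.isInvertible_structureModule _) ?_).trans rfl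
    rw [PicFldDescLib.tensorPow_eq_pow, map_pow, hML, ht']
    exact (map_one _).symm
  obtain ⟨e, he⟩ := PicFldDescLib.exists_pow_descends p f L
  obtain ⟨C, hC, hC2⟩ := he M hM
  have hcop : Nat.Coprime (p ^ e) n := Nat.Coprime.pow_left e (((Fact.out : p.Prime).coprime_iff_not_dvd).2 hn)
  obtain ⟨a, ha⟩ : ∃ a : ℕ, CubeConsLib.cl M ^ (p ^ e * a) = CubeConsLib.cl M := by
    rcases eq_or_lt_of_le (Nat.one_le_iff_ne_zero.2 hn0) with h1 | h1
    · refine ⟨0, ?_⟩
      rw [mul_zero, pow_zero]
      rw [← h1, pow_one] at htM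
      exact htM.symm
    · obtain ⟨a, ha⟩ := Nat.exists_mul_mod_eq_one_of_coprime hcop h1
      refine ⟨a, ?_⟩
      conv_lhs => rw [← Nat.mod_add_div (p ^ e * a) n, ha.2, pow_add, pow_one, pow_mul, htM, one_pow, mul_one]
  let C' := CohB1.tensorPow C a
  have hC' : PicF.IsInvertible C' := AmpleThLib.tensorPow_isInvertible hC a
  have hC'1 : CubeConsLib.pull (pullback.fst f (PicFldDescLib.gK k L)) (CubeConsLib.cl C') = CubeConsLib.cl M := by
    rw [PicFldDescLib.tensorPow_eq_pow, map_pow, hC2, ← pow_mul, ha]
  have htC : CubeConsLib.cl (CohB1.tensorPow C' n) = 1 := by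
    refine (PicFldDescLib.inj f hH (IsPullback.of_hasPullback f (PicFldDescLib.gK k L))
      (AmpleThLib.tensorPow_isInvertible hC' n) (MiscFlat6.isInvertible_structureModule _) ?_).trans rfl
    rw [PicFldDescLib.tensorPow_eq_pow, map_pow, hC'1, htM]
    exact (map_one _).symm
  refine ⟨PicF.cl C', ⟨⟨C', rfl, hC'⟩, C', rfl, CubeConsLib.cl_eq_one_iff.1 htC⟩, PicFldDescLib.toI_injective ?_⟩
  rw [PicFldDescLib.toI_pullCl, PicFldDescLib.toI_cl, PicFldDescLib.toI_cl]
  have h1 := congrArg (CubeConsLib.pull (PicFldDescLib.toStage f k' L)) hC'1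
  rw [CubeConsLib.pull_comp, PicFldDescLib.toStage_fst, hML] at h1
  exact h1

end Groth.Agent.S1154
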