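import Groth.Statements.S11540
import Groth.Agent.AdicRingLib.FlatTrunc

set_option autoImplicit false
universe u
open AdicRing

namespace Groth.Agent.S11540

/-- Let R be a base ring of class (N) or (V) for the ideal I, A an admissible R-algebra and f_0, ...,
f_r elements of A generating an open ideal, i.e. one containing I^k A for some k. Fix i and let C_i
be the I-adic completion of the chart algebra A[ζ_j ; j ≠ i]/(f_i ζ_j − f_j ; j ≠ i). Then the
I-power torsion of C_i coincides with its f_i-power torsion. (That f_i-power torsion is I-power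
torsion is elementary; the content is the converse.) -/
theorem result
    (R : Type u) [CommRing R] (I : Ideal R) (hR : AdicRing.IsBase R I)
    (A : Type u) [CommRing A] [Algebra R A] (hA : AdicRing.Admissible R I A)
    (r : ℕ) (f : Fin (r + 1) → A) (k : ℕ)
    (hopen : (I ^ k).map (algebraMap R A) ≤ Ideal.span (Set.range f)) (i : Fin (r + 1))
    (x : AdicRing.chartCompl I f i) :
    (∃ n : ℕ, ∀ a ∈ I ^ n, a • x = 0) ↔
      ∃ n : ℕ, algebraMap A (AdicRing.chartCompl I f i) (f i) ^ n * x = 0 := by
  classical
  obtain ⟨⟨n₀, φ, hφ, hker⟩, hAT⟩ := hA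
  have hAft : AdicRing.TopFiniteType R I A := ⟨n₀, φ, hφ⟩
  have hI := AdicRingLib.fg_of_isBase hR
  let B := AdicRing.chartAlg f i
  let C := AdicRing.chartCompl I f i
  let g : B := algebraMap A B (f i)
  let v : {j : Fin (r + 1) // j ≠ i} → B := fun j => Ideal.Quotient.mk _ (MvPolynomial.X j)
  have hrel : ∀ j : {j : Fin (r + 1) // j ≠ i}, g * v j = algebraMap A B (f j.1) := fun j => by
    have h := (Ideal.Quotient.mk_eq_mk_iff_sub_mem (I := Ideal.span (Set.range fun j : {j : Fin (r + 1) // j ≠ i} =>
      MvPolynomial.C (f i) * MvPolynomial.X j - MvPolynomial.C (f j.1)))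
      (MvPolynomial.C (f i) * MvPolynomial.X j) (MvPolynomial.C (f j.1))).2 (Ideal.subset_span ⟨j, rfl⟩)
    rw [map_mul] at h
    exact h
  have hgen : ∀ b ∈ Ideal.span (Set.range f), ∃ c : B, algebraMap A B b = g * c := fun b hb => by
    induction hb using Submodule.span_induction with
    | mem y hy =>
      obtain ⟨j, rfl⟩ := hy
      by_cases hj : j = i
      · exact ⟨1, by rw [hj, mul_one]⟩
      · exact ⟨v ⟨j, hj⟩, (hrel ⟨j, hj⟩).symm⟩
    | zero => exact ⟨0, by rw [map_zero, mul_zero]⟩
    | add y z _ _ hy hz =>
      obtain ⟨c, hc⟩ := hy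
      obtain ⟨d, hd⟩ := hz
      exact ⟨c + d, by rw [map_add, hc, hd, mul_add]⟩
    | smul c y _ hy =>
      obtain ⟨d, hd⟩ := hy
      exact ⟨algebraMap A B c * d, by rw [smul_eq_mul, map_mul, hd, mul_left_comm]⟩
  constructor
  · rintro ⟨n, hn⟩
    -- the I-power torsion of the chart algebra is killed by powers of `f i`
    have hB : ∀ b : B, (∀ a ∈ I ^ n, a • b = 0) → ∃ m : ℕ, g ^ m * b = 0 := by
      let L := Localization.Away (f i)
      have hL : AdicRing.NoPowTorsion I L := AdicRingLib.noPowTorsion_of_flat hI hAT
      let χ : B →ₐ[A] L := Ideal.Quotient.liftₐ _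
        (MvPolynomial.aeval fun j : {j : Fin (r + 1) // j ≠ i} =>
          algebraMap A L (f j.1) * IsLocalization.Away.invSelf (f i)) (fun y hy => by
          refine Submodule.span_induction ?_ (map_zero _) (fun a b _ _ ha hb => by rw [map_add, ha, hb, add_zero])
            (fun c a _ ha => by rw [smul_eq_mul, map_mul, ha, mul_zero]) hy
          rintro _ ⟨j, rfl⟩
          rw [map_sub, map_mul, MvPolynomial.aeval_C, MvPolynomial.aeval_C, MvPolynomial.aeval_X, mul_left_comm,
            IsLocalization.Away.mul_invSelf, mul_one, sub_self])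
      let Bg := Localization.Away g
      let ψ : L →+* Bg := IsLocalization.Away.lift (f i) (g := algebraMap A Bg)
        (by rw [IsScalarTower.algebraMap_apply A B Bg]; exact IsLocalization.Away.algebraMap_isUnit g)
      have hψA : ∀ a, ψ (algebraMap A L a) = algebraMap A Bg a := fun a => IsLocalization.Away.lift_eq _ _ a
      have hψχ : ψ.comp χ.toRingHom = algebraMap B Bg := by
        refine Ideal.Quotient.ringHom_ext (MvPolynomial.ringHom_ext (fun a => ?_) (fun j => ?_))
        · show ψ (χ (algebraMap A B a)) = algebraMap B Bg (algebraMap A B a)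
          rw [χ.commutes, hψA, ← IsScalarTower.algebraMap_apply]
        · show ψ (χ (v j)) = algebraMap B Bg (v j)
          refine (IsLocalization.Away.algebraMap_isUnit (S := Bg) g).mul_left_cancel ?_
          rw [← map_mul, hrel, show algebraMap B Bg g = ψ (χ g) by
            rw [χ.commutes, hψA, ← IsScalarTower.algebraMap_apply],
            ← map_mul, ← map_mul, hrel, χ.commutes, hψA, ← IsScalarTower.algebraMap_apply]
      intro b hb
      have h0 : χ b = 0 := hL (χ b) n fun a ha => by
        rw [← algebraMap_smul A a (χ b), ← map_smul, algebraMap_smul, hb a ha, map_zero]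
      have h1 : algebraMap B Bg b = 0 := by
        rw [← hψχ, RingHom.comp_apply, show χ.toRingHom b = 0 from h0, map_zero]
      obtain ⟨⟨_, m, rfl⟩, hm⟩ := (IsLocalization.map_eq_zero_iff (Submonoid.powers g) Bg b).1 h1
      exact ⟨m, hm⟩
    obtain ⟨s, a, ha⟩ := Submodule.fg_iff_exists_fin_generating_family.1 (hI.pow (n := n))
    let u : B →ₗ[B] (Fin s → B) := LinearMap.pi fun j => LinearMap.lsmul B B (algebraMap R B (a j))
    have hflat : Module.Flat B C := (AdicRingLib.hasAR_finiteType hR hAft B).flat_adicCompletion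
    have hex := Module.Flat.lTensor_exact C (LinearMap.exact_subtype_ker_map u)
    have hzero : (u.lTensor C) (x ⊗ₜ[B] (1 : B)) = 0 := by
      refine (TensorProduct.piScalarRight B B C (Fin s)).injective ?_
      rw [LinearMap.lTensor_tmul, map_zero]
      funext j
      simp only [TensorProduct.piScalarRight_apply, TensorProduct.piScalarRightHom_tmul, u, LinearMap.pi_apply,
        LinearMap.lsmul_apply, smul_eq_mul, mul_one, algebraMap_smul, Pi.zero_apply]
      exact hn _ (ha ▸ Submodule.subset_span ⟨j, rfl⟩)
    obtain ⟨z, hz⟩ := (hex _).1 hzero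
    have key : ∀ w : TensorProduct B C (LinearMap.ker u), ∃ m : ℕ,
        algebraMap B C (g ^ m) * (TensorProduct.rid B C ((LinearMap.ker u).subtype.lTensor C w)) = 0 := by
      intro w
      induction w using TensorProduct.induction_on with
      | zero => exact ⟨0, by simp⟩
      | add p q hp hq =>
        obtain ⟨m, hm⟩ := hp
        obtain ⟨l, hl⟩ := hq
        refine ⟨m + l, ?_⟩
        rw [map_add, map_add, mul_add, pow_add, map_mul, mul_assoc, mul_assoc, hl, mul_zero, mul_left_comm, hm,
          mul_zero, add_zero]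
      | tmul c b =>
        obtain ⟨m, hm⟩ := hB b.1 fun y hy => by
          rw [← ha] at hy
          induction hy using Submodule.span_induction with
          | mem y hy =>
            obtain ⟨j, rfl⟩ := hy
            rw [← algebraMap_smul B (a j), smul_eq_mul]
            exact congrFun b.2 j
          | zero => rw [zero_smul]
          | add p q _ _ hp hq => rw [add_smul, hp, hq, add_zero]
          | smul c p _ hp => rw [smul_eq_mul, mul_smul, hp, smul_zero]
        refine ⟨m, ?_⟩
        rw [LinearMap.lTensor_tmul, TensorProduct.rid_tmul, Submodule.subtype_apply, ← algebraMap_smul C (b.1) c, smul_eq_mul,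
          ← mul_assoc, ← map_mul, hm, map_zero, zero_mul]
    obtain ⟨m, hm⟩ := key z
    rw [hz, TensorProduct.rid_tmul, one_smul] at hm
    refine ⟨m, ?_⟩
    rw [map_pow, ← IsScalarTower.algebraMap_apply A B C] at hm
    exact hm
  · rintro ⟨n, hn⟩
    refine ⟨k * n, fun a ha => ?_⟩
    have hle : (I ^ (k * n)).map (algebraMap R B) ≤ Ideal.span {g ^ n} := by
      rw [pow_mul, Ideal.map_pow, ← Ideal.span_singleton_pow]
      refine Ideal.pow_right_mono ?_ n
      rw [IsScalarTower.algebraMap_eq R A B, ← Ideal.map_map]
      refine (Ideal.map_mono hopen).trans (Ideal.map_le_iff_le_comap.2 fun b hb => ?_)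
      obtain ⟨c, hc⟩ := hgen b hb
      rw [Ideal.mem_comap, hc]
      exact Ideal.mul_mem_right _ _ (Ideal.mem_span_singleton_self _)
    obtain ⟨c, hc⟩ := Ideal.mem_span_singleton'.1 (hle (Ideal.mem_map_of_mem _ ha))
    rw [Algebra.smul_def, IsScalarTower.algebraMap_apply R B C, ← hc, map_mul, map_pow,
      ← IsScalarTower.algebraMap_apply A B C, mul_assoc, hn, mul_zero]

end Groth.Agent.S11540
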