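import Groth.Statements.S11541
import Groth.Agent.AdicRingLib.RigFinite

set_option autoImplicit false
universe u
open AdicRing

namespace Groth.Agent.S11541

/-- Let R be a complete valuation ring of height one with t a nonzero element generating an ideal of
definition, and B an admissible R-algebra which is a local integral domain of Krull dimension one.
Then B is a finite R-module whose integral closure inside its fraction field is a valuation ring. -/
theorem result
    (R : Type u) [CommRing R] [IsDomain R] [ValuationRing R] [Ring.KrullDimLE 1 R]
    (t : R) (ht : t ≠ 0) [IsAdicComplete (Ideal.span {t}) R]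
    (B : Type u) [CommRing B] [Algebra R B] [IsDomain B] [IsLocalRing B]
    (hB : AdicRing.Admissible R (Ideal.span {t}) B) (hdim : ringKrullDim B = 1) :
    Module.Finite R B ∧ ValuationRing (integralClosure B (FractionRing B)) := by
  have h := AdicRingLib.isHeightOne R t ht
  have hft := AdicRingLib.topFiniteType_of_topFinitePresentation hB.1
  have htB := h.algebraMap_t_ne_zero hB.2
  have hfin := h.finite_of_ringKrullDim_le_one hft htB hdim.le
  refine ⟨hfin, ?_⟩
  let L := FractionRing B
  have hinjB := h.injective_algebraMap htB
  have hinjL : Function.Injective (algebraMap R L) := by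
    rw [IsScalarTower.algebraMap_eq R B L]
    exact (IsFractionRing.injective B L).comp hinjB
  have : Module.IsTorsionFree R L := Module.isTorsionFree_iff_algebraMap_injective.2 hinjL
  have : Algebra.IsAlgebraic R B := Algebra.IsIntegral.isAlgebraic
  have halg : Algebra.IsAlgebraic R L := (IsFractionRing.isAlgebraic_iff' R B L).1 inferInstance
  have : PreValuationRing (integralClosure B L) := ⟨fun a b => by
    by_cases ha : (a : L) = 0
    · exact ⟨0, Or.inr (Subtype.ext (by simp [ha]))⟩
    rcases h.isIntegral_or_isIntegral_inv hinjL (halg.isAlgebraic ((b : L) / a)) with h1 | h1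
    · refine ⟨⟨(b : L) / a, h1.tower_top⟩, Or.inl (Subtype.ext ?_)⟩
      exact mul_div_cancel₀ (b : L) ha
    · by_cases hb : (b : L) = 0
      · exact ⟨0, Or.inl (Subtype.ext (by simp [hb]))⟩
      refine ⟨⟨(a : L) / b, by rw [← inv_div]; exact h1.tower_top⟩, Or.inr (Subtype.ext ?_)⟩
      exact mul_div_cancel₀ (a : L) hb⟩
  exact ⟨⟩

end Groth.Agent.S11541
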