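import Groth.Statements.S11542
import Groth.Agent.AdicRingLib.RigFinite

set_option autoImplicit false
universe u
open AdicRing

namespace Groth.Agent.S11542

/-- Let R be a complete valuation ring of height one with t a nonzero element generating an ideal of
definition, A and B admissible R-algebras with B a local integral domain of Krull dimension one, f
an element of A and u a surjective R-algebra homomorphism from the complete localization A⟨f⁻¹⟩ onto
B. Then the composite of u with the canonical map A → A⟨f⁻¹⟩ is surjective. -/
theorem result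
    (R : Type u) [CommRing R] [IsDomain R] [ValuationRing R] [Ring.KrullDimLE 1 R]
    (t : R) (ht : t ≠ 0) [IsAdicComplete (Ideal.span {t}) R]
    (A : Type u) [CommRing A] [Algebra R A] (hA : AdicRing.Admissible R (Ideal.span {t}) A) (f : A)
    (B : Type u) [CommRing B] [Algebra R B] [IsDomain B] [IsLocalRing B]
    (hB : AdicRing.Admissible R (Ideal.span {t}) B) (hdim : ringKrullDim B = 1)
    (u : AdicRing.CLoc (Ideal.span {t}) f →ₐ[R] B) (hu : Function.Surjective u) :
    Function.Surjective
      (u.toRingHom.comp (algebraMap A (AdicRing.CLoc (Ideal.span {t}) f))) := by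
  have h := AdicRingLib.isHeightOne R t ht
  have hI : (Ideal.span {t}).FG := Submodule.fg_span_singleton t
  have hft := AdicRingLib.topFiniteType_of_topFinitePresentation hB.1
  have htB := h.algebraMap_t_ne_zero hB.2
  have hfin := h.finite_of_ringKrullDim_le_one hft htB hdim.le
  have := AdicRingLib.isAdicComplete_topFiniteType h.isBase hft
  let ι : A →ₐ[R] B := u.comp (IsScalarTower.toAlgHom R A (AdicRing.CLoc (Ideal.span {t}) f))
  let S : Subalgebra R B := ι.range
  have : Algebra.IsIntegral R B := Algebra.IsIntegral.of_finite R B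
  have : Algebra.IsIntegral S B := Algebra.IsIntegral.tower_top R
  let g : S := ⟨ι f, f, rfl⟩
  have hg : IsUnit (ι f) := by
    show IsUnit (u (algebraMap A (AdicRing.CLoc (Ideal.span {t}) f) f))
    rw [IsScalarTower.algebraMap_apply A (Localization.Away f) (AdicRing.CLoc (Ideal.span {t}) f)]
    exact ((IsLocalization.Away.algebraMap_isUnit f).map _).map u
  have hgS : IsUnit g := by
    by_contra hng
    obtain ⟨Q, hQ, hgQ⟩ := exists_max_ideal_of_mem_nonunits (mem_nonunits_iff.2 hng)
    obtain ⟨Q', hQ', hQQ⟩ := Ideal.exists_ideal_over_maximal_of_isIntegral (S := B) Q (by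
      rw [(RingHom.injective_iff_ker_eq_bot _).1 Subtype.val_injective]; exact bot_le)
    refine hQ'.ne_top (Ideal.eq_top_of_isUnit_mem _ ?_ hg)
    have : g ∈ Q'.comap (algebraMap S B) := hQQ.symm ▸ hgQ
    exact this
  obtain ⟨ginv, hginv⟩ := hgS.exists_right_inv
  have hloc : ∀ z : Localization.Away f,
      u (algebraMap (Localization.Away f) (AdicRing.CLoc (Ideal.span {t}) f) z) ∈ S := by
    intro z
    obtain ⟨⟨a, _, n, rfl⟩, hz⟩ := IsLocalization.surj (Submonoid.powers f) z
    have h1 := congrArg (fun y => u (algebraMap (Localization.Away f) (AdicRing.CLoc (Ideal.span {t}) f) y)) hz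
    simp only [map_mul, map_pow, ← IsScalarTower.algebraMap_apply A (Localization.Away f)] at h1
    have h2 : u (algebraMap (Localization.Away f) (AdicRing.CLoc (Ideal.span {t}) f) z) =
        ι a * (ginv : B) ^ n := by
      have h3 : ι f * (ginv : B) = 1 := congrArg Subtype.val hginv
      calc u (algebraMap (Localization.Away f) (AdicRing.CLoc (Ideal.span {t}) f) z)
          = u (algebraMap (Localization.Away f) (AdicRing.CLoc (Ideal.span {t}) f) z) *
              (ι f * (ginv : B)) ^ n := by rw [h3, one_pow, mul_one]
        _ = _ := by rw [mul_pow, ← mul_assoc]; exact congrArg (· * (ginv : B) ^ n) h1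
    rw [h2]
    exact mul_mem ⟨a, rfl⟩ (pow_mem ginv.2 n)
  have htop : (⊤ : Submodule R B) ≤ Subalgebra.toSubmodule S := by
    refine Submodule.le_of_le_smul_of_le_jacobson_bot (I := Ideal.span {t}) Module.Finite.fg_top ?_ fun b _ => ?_
    · rw [Ideal.span_singleton_le_iff_mem, IsLocalRing.jacobson_eq_maximalIdeal _ bot_ne_top]
      exact h.mem
    · obtain ⟨z, rfl⟩ := hu b
      obtain ⟨c, hc⟩ := AdicRingLib.exists_sub_mem_map_pow (hI.map _) 1 z
      rw [pow_one] at hc
      have h1 := Ideal.mem_map_of_mem u.toRingHom hc
      rw [Ideal.map_map, Ideal.map_map] at h1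
      have hcomp : (u.toRingHom.comp (algebraMap (Localization.Away f) (AdicRing.CLoc (Ideal.span {t}) f))).comp
          (algebraMap R (Localization.Away f)) = algebraMap R B := RingHom.ext fun r => by
        show u (algebraMap _ _ (algebraMap R (Localization.Away f) r)) = _
        rw [← IsScalarTower.algebraMap_apply, u.commutes]
      rw [hcomp] at h1
      rw [show u z = u (algebraMap _ _ c) + u (z - algebraMap (Localization.Away f) _ c) by
        rw [← map_add, add_sub_cancel]]
      refine Submodule.add_mem_sup (hloc c) ?_
      rw [Ideal.smul_top_eq_map]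
      exact h1
  intro b
  obtain ⟨a, ha⟩ : b ∈ S := htop trivial
  exact ⟨a, ha⟩

end Groth.Agent.S11542
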