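import Groth.Statements.S11543
import Groth.Agent.AdicRingLib.RigFinite

set_option autoImplicit false
universe u
open scoped TensorProduct
open AdicRing

namespace Groth.Agent.S11543

/-- Let R be a complete valuation ring of height one with t a nonzero element generating an ideal of
definition and K its field of fractions, and let A be an admissible R-algebra. Then the non-open
prime ideals p of A (those not containing t) with A/p of Krull dimension one correspond bijectively
to the maximal ideals of A ⊗_R K: the extension of such a p along A → A ⊗_R K is maximal and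
contracts back to p, and every maximal ideal of A ⊗_R K contracts to such a prime and is the
extension of its contraction. -/
theorem result
    (R : Type u) [CommRing R] [IsDomain R] [ValuationRing R] [Ring.KrullDimLE 1 R]
    (t : R) (ht : t ≠ 0) [IsAdicComplete (Ideal.span {t}) R]
    (A : Type u) [CommRing A] [Algebra R A] (hA : AdicRing.Admissible R (Ideal.span {t}) A) :
    (∀ p : Ideal A, p.IsPrime → algebraMap R A t ∉ p → ringKrullDim (A ⧸ p) = 1 →
        (p.map (Algebra.TensorProduct.includeLeftRingHom :
          A →+* A ⊗[R] FractionRing R)).IsMaximal ∧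
        (p.map (Algebra.TensorProduct.includeLeftRingHom :
          A →+* A ⊗[R] FractionRing R)).comap (Algebra.TensorProduct.includeLeftRingHom :
          A →+* A ⊗[R] FractionRing R) = p) ∧
      (∀ m : Ideal (A ⊗[R] FractionRing R), m.IsMaximal →
        algebraMap R A t ∉ m.comap (Algebra.TensorProduct.includeLeftRingHom :
            A →+* A ⊗[R] FractionRing R) ∧
          ringKrullDim (A ⧸ m.comap (Algebra.TensorProduct.includeLeftRingHom :
            A →+* A ⊗[R] FractionRing R)) = 1 ∧
          (m.comap (Algebra.TensorProduct.includeLeftRingHom :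
            A →+* A ⊗[R] FractionRing R)).map (Algebra.TensorProduct.includeLeftRingHom :
            A →+* A ⊗[R] FractionRing R) = m) := by
  have h := AdicRingLib.isHeightOne R t ht
  have hft := AdicRingLib.topFiniteType_of_topFinitePresentation hA.1
  let M := Algebra.algebraMapSubmonoid A (nonZeroDivisors R)
  let AK := A ⊗[R] FractionRing R
  have : IsLocalization M AK := inferInstance
  have hM : ∀ p : Ideal A, p.IsPrime → algebraMap R A t ∉ p → Disjoint (M : Set A) (p : Set A) := by
    intro p hp htp
    refine Set.disjoint_left.2 ?_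
    rintro _ ⟨a, ha, rfl⟩ hap
    obtain ⟨n, hn⟩ := h.exists_dvd_pow (nonZeroDivisors.ne_zero ha)
    refine htp (hp.mem_of_pow_mem n ?_)
    rw [← map_pow]
    obtain ⟨d, hd⟩ := hn
    rw [hd, map_mul]
    exact p.mul_mem_right _ hap
  refine ⟨fun p hp htp hdim => ?_, fun m hm => ?_⟩
  · have hcomap : (p.map (algebraMap A AK)).comap (algebraMap A AK) = p :=
      IsLocalization.under_map_of_isPrime_disjoint M AK hp (hM p hp htp)
    refine ⟨?_, hcomap⟩
    have hprime : (p.map (algebraMap A AK)).IsPrime :=
      IsLocalization.isPrime_of_isPrime_disjoint M AK p hp (hM p hp htp)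
    obtain ⟨Q, hQ, hle⟩ := Ideal.exists_le_maximal _ hprime.ne_top
    have hq : (Q.comap (algebraMap A AK)).IsPrime := Ideal.IsPrime.comap _
    have htq : algebraMap R A t ∉ Q.comap (algebraMap A AK) := fun htq =>
      hQ.ne_top (Ideal.eq_top_of_isUnit_mem _ htq (h.isUnit_tensor_fractionRing ht))
    have hpq : p ≤ Q.comap (algebraMap A AK) := hcomap ▸ Ideal.comap_mono hle
    have heq : Q.comap (algebraMap A AK) = p := by
      by_contra hne
      obtain ⟨b, hbq, hbp⟩ := SetLike.exists_of_lt (lt_of_le_of_ne hpq (Ne.symm hne))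
      have : IsDomain (A ⧸ p) := (Ideal.Quotient.isDomain_iff_prime p).2 hp
      obtain ⟨n₀, φ, hφ⟩ := hft
      obtain ⟨n, hn⟩ := h.dvd_pow_of_ringKrullDim_le_one (B := A ⧸ p)
        ⟨n₀, (Ideal.Quotient.mkₐ R p).comp φ, Ideal.Quotient.mk_surjective.comp hφ⟩ hdim.le
        (Ideal.Quotient.mk p b) (fun h0 => hbp (Ideal.Quotient.eq_zero_iff_mem.1 h0))
      obtain ⟨d, hd⟩ := hn
      obtain ⟨d, rfl⟩ := Ideal.Quotient.mk_surjective d
      have h1 : algebraMap R A t ^ n - b * d ∈ p := Ideal.Quotient.eq.1 hd
      refine htq (hq.mem_of_pow_mem n ?_)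
      rw [show algebraMap R A t ^ n = (algebraMap R A t ^ n - b * d) + b * d by ring]
      exact add_mem (hpq h1) (Ideal.mul_mem_right _ _ hbq)
    show (p.map (algebraMap A AK)).IsMaximal
    rw [← heq, IsLocalization.map_comap M AK Q]
    exact hQ
  · have hq : (m.comap (algebraMap A AK)).IsPrime := Ideal.IsPrime.comap _
    have htq : algebraMap R A t ∉ m.comap (algebraMap A AK) := fun htq =>
      hm.ne_top (Ideal.eq_top_of_isUnit_mem _ htq (h.isUnit_tensor_fractionRing ht))
    refine ⟨htq, ?_, IsLocalization.map_comap M AK m⟩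
    show ringKrullDim (A ⧸ m.comap (algebraMap A AK)) = 1
    let p := m.comap (algebraMap A AK)
    have : IsDomain (A ⧸ p) := (Ideal.Quotient.isDomain_iff_prime p).2 hq
    have htB : algebraMap R (A ⧸ p) t ≠ 0 := fun h0 => htq (Ideal.Quotient.eq_zero_iff_mem.1 h0)
    obtain ⟨n₀, φ, hφ⟩ := hft
    have hfin : Module.Finite R (A ⧸ p) := h.finite_of_generic_field
      ⟨n₀, (Ideal.Quotient.mkₐ R p).comp φ, Ideal.Quotient.mk_surjective.comp hφ⟩ htB fun b hb => by
        obtain ⟨b, rfl⟩ := Ideal.Quotient.mk_surjective b
        have hbm : algebraMap A AK b ∉ m := fun hbm => hb (Ideal.Quotient.eq_zero_iff_mem.2 hbm)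
        obtain ⟨y, x, hx, hyx⟩ := hm.exists_inv hbm
        obtain ⟨⟨a, s⟩, has⟩ := IsLocalization.surj M y
        obtain ⟨r, hr, hrs⟩ := s.2
        obtain ⟨k, hk⟩ := h.exists_dvd_pow (nonZeroDivisors.ne_zero hr)
        refine ⟨k, dvd_trans ⟨Ideal.Quotient.mk p a, ?_⟩ (map_pow (algebraMap R (A ⧸ p)) t k ▸
          map_dvd (algebraMap R (A ⧸ p)) hk)⟩
        rw [← map_mul, IsScalarTower.algebraMap_apply R A (A ⧸ p), Ideal.Quotient.algebraMap_eq, hrs,
          Ideal.Quotient.eq]
        show algebraMap A AK (s - b * a) ∈ m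
        rw [map_sub, map_mul, ← has,
          show algebraMap A AK s - algebraMap A AK b * (y * algebraMap A AK s) = x * algebraMap A AK s by
            linear_combination (-(algebraMap A AK ↑s)) * hyx]
        exact m.mul_mem_right _ hx
    have := Algebra.IsIntegral.of_finite R (A ⧸ p)
    exact h.ringKrullDim_of_isIntegral (h.injective_algebraMap htB)

end Groth.Agent.S11543
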