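import Groth.Statements.S11544
import Groth.Agent.AdicRingLib.RigFinite
import Mathlib.RingTheory.Valuation.Integral
import Mathlib.RingTheory.Valuation.LocalSubring
import Mathlib.RingTheory.Bezout
import Mathlib.FieldTheory.Minpoly.IsIntegrallyClosed
import Mathlib.FieldTheory.IntermediateField.Adjoin.Basic
import Mathlib.RingTheory.Norm.Basic

set_option autoImplicit false
universe u
open AdicRing

namespace Groth.Agent.S11544

/-- Let R be a complete valuation ring of height one with t a nonzero element generating an ideal of
definition, K its field of fractions, L an algebraic extension field of K and α an element of L.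
Then α is integral over R if and only if the norm of α from K(α) down to K lies in R. -/
theorem result
    (R : Type u) [CommRing R] [IsDomain R] [ValuationRing R] [Ring.KrullDimLE 1 R]
    (t : R) (ht : t ≠ 0) [IsAdicComplete (Ideal.span {t}) R]
    (L : Type u) [Field L] [Algebra R L] [Algebra (FractionRing R) L]
    [IsScalarTower R (FractionRing R) L] [Algebra.IsAlgebraic (FractionRing R) L] (α : L) :
    IsIntegral R α ↔
      Algebra.norm (FractionRing R) (IntermediateField.AdjoinSimple.gen (FractionRing R) α) ∈
        (algebraMap R (FractionRing R)).range := by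
  have h := AdicRingLib.isHeightOne R t ht
  have : IsIntegrallyClosed R :=
    Valuation.Integers.isIntegrallyClosed (v := ValuationRing.valuation R (FractionRing R))
      ⟨IsFractionRing.injective R (FractionRing R),
        fun r => (ValuationRing.mem_integer_iff R (FractionRing R) _).2 ⟨r, rfl⟩,
        fun {x} hx => (ValuationRing.mem_integer_iff R (FractionRing R) x).1 hx⟩
  have hint : IsIntegral (FractionRing R) α := Algebra.IsIntegral.isIntegral α
  have hgen : IntermediateField.AdjoinSimple.gen (FractionRing R) α =
      (IntermediateField.adjoin.powerBasis hint).gen := (IntermediateField.adjoin.powerBasis_gen hint).symm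
  have hnorm : Algebra.norm (FractionRing R) (IntermediateField.AdjoinSimple.gen (FractionRing R) α) =
      (-1) ^ (minpoly (FractionRing R) α).natDegree * (minpoly (FractionRing R) α).coeff 0 := by
    rw [hgen, Algebra.PowerBasis.norm_gen_eq_coeff_zero_minpoly, IntermediateField.adjoin.powerBasis_dim,
      IntermediateField.adjoin.powerBasis_gen, IntermediateField.minpoly_gen]
  have hinjL : Function.Injective (algebraMap R L) := by
    rw [IsScalarTower.algebraMap_eq R (FractionRing R) L]
    exact (algebraMap (FractionRing R) L).injective.comp (IsFractionRing.injective R (FractionRing R))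
  constructor
  · intro hα
    rw [hnorm, minpoly.isIntegrallyClosed_eq_field_fractions' (FractionRing R) hα,
      (minpoly.monic hα).natDegree_map, Polynomial.coeff_map]
    exact ⟨(-1) ^ (minpoly R α).natDegree * (minpoly R α).coeff 0, by rw [map_mul, map_pow, map_neg, map_one]⟩
  · rintro ⟨N, hN⟩
    by_cases hα0 : α = 0
    · rw [hα0]; exact isIntegral_zero
    have halg : IsAlgebraic R α :=
      (IsFractionRing.isAlgebraic_iff R (FractionRing R) L).2 (Algebra.IsAlgebraic.isAlgebraic α)
    rcases h.isIntegral_or_isIntegral_inv hinjL halg with h1 | h1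
    · exact h1
    -- the constant coefficient of the minimal polynomial of `α⁻¹` is a unit
    let P := minpoly R α⁻¹
    let Q := minpoly (FractionRing R) α⁻¹
    let m := minpoly (FractionRing R) α
    have hPK : Q = P.map (algebraMap R (FractionRing R)) :=
      minpoly.isIntegrallyClosed_eq_field_fractions' (FractionRing R) h1
    have hQint : IsIntegral (FractionRing R) α⁻¹ := Algebra.IsIntegral.isIntegral α⁻¹
    have hQ0 : Q.coeff 0 ≠ 0 := minpoly.coeff_zero_ne_zero hQint (inv_ne_zero hα0)
    have hm0 : m.coeff 0 ≠ 0 := minpoly.coeff_zero_ne_zero hint hα0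
    have hrev : ∀ (p : Polynomial (FractionRing R)) (x : L), p.Monic → x ≠ 0 → p.coeff 0 ≠ 0 →
        Polynomial.aeval x p = 0 → (Polynomial.C (p.coeff 0)⁻¹ * p.reverse).Monic ∧
          (Polynomial.C (p.coeff 0)⁻¹ * p.reverse).natDegree = p.natDegree ∧
          Polynomial.aeval x⁻¹ (Polynomial.C (p.coeff 0)⁻¹ * p.reverse) = 0 := by
      intro p x hp hx hp0 hpx
      have htd : p.natTrailingDegree = 0 := Polynomial.natTrailingDegree_eq_zero.2 (Or.inr hp0)
      refine ⟨?_, ?_, ?_⟩
      · rw [Polynomial.Monic, Polynomial.leadingCoeff_mul, Polynomial.leadingCoeff_C,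
          Polynomial.reverse_leadingCoeff, Polynomial.trailingCoeff, htd, inv_mul_cancel₀ hp0]
      · rw [Polynomial.natDegree_C_mul (inv_ne_zero hp0), Polynomial.reverse_natDegree, htd, Nat.sub_zero]
      · rw [map_mul]
        refine mul_eq_zero_of_right _ ?_
        have := invertibleOfNonzero hx
        rw [← invOf_eq_inv x]
        exact (Polynomial.eval₂_reverse_eq_zero_iff _ x p).2 hpx
    obtain ⟨hA, hAd, hAx⟩ := hrev m α (minpoly.monic hint) hα0 hm0 (minpoly.aeval _ α)
    obtain ⟨hB, hBd, hBx⟩ := hrev Q α⁻¹ (minpoly.monic hQint) (inv_ne_zero hα0) hQ0 (minpoly.aeval _ α⁻¹)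
    rw [inv_inv] at hBx
    have hle : m.natDegree ≤ Q.natDegree :=
      hBd ▸ Polynomial.natDegree_le_of_dvd (minpoly.dvd _ α hBx) hB.ne_zero
    have hdvd : Q ∣ Polynomial.C (m.coeff 0)⁻¹ * m.reverse := minpoly.dvd _ α⁻¹ hAx
    have hQm : Polynomial.C (m.coeff 0)⁻¹ * m.reverse = Q :=
      Polynomial.eq_of_monic_of_dvd_of_natDegree_le (minpoly.monic hQint) hA hdvd (hAd ▸ hle)
    have h2 : algebraMap R (FractionRing R) (P.coeff 0) * (minpoly (FractionRing R) α).coeff 0 = 1 := by
      rw [← Polynomial.coeff_map, ← hPK, ← hQm, Polynomial.coeff_C_mul, Polynomial.coeff_zero_reverse,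
        (minpoly.monic hint).leadingCoeff, mul_one, inv_mul_cancel₀ hm0]
    have hunit : IsUnit (P.coeff 0) := by
      refine IsUnit.of_mul_eq_one ((-1) ^ (minpoly (FractionRing R) α).natDegree * N) ?_
      apply IsFractionRing.injective R (FractionRing R)
      rw [map_mul, map_mul, map_pow, map_neg, map_one, hN, hnorm, ← mul_assoc ((-1 : FractionRing R) ^ _),
        ← mul_pow, neg_one_mul, neg_neg, one_pow, one_mul, h2]
    -- hence `α` is a polynomial in `α⁻¹`
    obtain ⟨w, hw⟩ := hunit.exists_right_inv
    have hP : Polynomial.aeval α⁻¹ P = 0 := minpoly.aeval R α⁻¹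
    rw [← Polynomial.divX_mul_X_add P, map_add, map_mul, Polynomial.aeval_X, Polynomial.aeval_C] at hP
    have hα : α = -(algebraMap R L w * Polynomial.aeval α⁻¹ P.divX) := by
      have hw' : algebraMap R L (P.coeff 0) * algebraMap R L w = 1 := by rw [← map_mul, hw, map_one]
      field_simp at hP ⊢
      linear_combination (algebraMap R L w) * hP - α * hw'
    rw [hα]
    have hmem : Polynomial.aeval α⁻¹ P.divX ∈ Algebra.adjoin R {α⁻¹} := Polynomial.aeval_mem_adjoin_singleton R α⁻¹
    exact (isIntegral_algebraMap.mul
      (IsIntegral.of_mem_of_fg _ h1.fg_adjoin_singleton _ hmem)).neg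

end Groth.Agent.S11544
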