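import Groth.Statements.S11545
import Groth.Agent.CompleteLib.CompletionHom
import Mathlib.RingTheory.MvPolynomial.Basic

set_option autoImplicit false
universe u
open AdicRing

namespace Groth.Agent.S11545

/-- Let R be a base ring of class (N) or (V) for the ideal I, A an admissible R-algebra, f_0, ..., f_r
elements generating an open ideal 𝔞 of A, and A_i = C_i/(f_i-power torsion) the i-th chart algebra
of the formal blowing-up of 𝔞. Let B be an R-algebra complete and separated for the I-adic topology
and φ : A → B an R-algebra homomorphism such that the ideal 𝔞B is generated by φ(f_i), a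
non-zero-divisor of B. Then there is exactly one R-algebra homomorphism A_i → B whose composite with
A → A_i is φ. -/
theorem result
    (R : Type u) [CommRing R] (I : Ideal R) (hR : AdicRing.IsBase R I)
    (A : Type u) [CommRing A] [Algebra R A] (hA : AdicRing.Admissible R I A)
    (r : ℕ) (f : Fin (r + 1) → A) (k : ℕ)
    (hopen : (I ^ k).map (algebraMap R A) ≤ Ideal.span (Set.range f)) (i : Fin (r + 1))
    (B : Type u) [CommRing B] [Algebra R B] [IsAdicComplete (I.map (algebraMap R B)) B]
    (φ : A →ₐ[R] B) (hnzd : φ (f i) ∈ nonZeroDivisors B)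
    (hgen : (Ideal.span (Set.range f)).map φ = Ideal.span {φ (f i)}) :
    ∃! ψ : AdicRing.chartAdm I f i →ₐ[R] B,
      ψ.comp (IsScalarTower.toAlgHom R A (AdicRing.chartAdm I f i)) = φ := by
  classical
  have hIfg : I.FG := by
    rcases hR.2 with ⟨hN, -⟩ | ⟨-, -, -, t, -, rfl⟩
    · exact IsNoetherian.noetherian I
    · exact Submodule.fg_span_singleton t
  set J : Ideal B := I.map (algebraMap R B) with hJ
  have hb : ∀ j, ∃ b : B, φ (f j) = φ (f i) * b := fun j => by
    have : φ (f j) ∈ (Ideal.span (Set.range f)).map φ :=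
      Ideal.mem_map_of_mem _ (Ideal.subset_span ⟨j, rfl⟩)
    rw [hgen, Ideal.mem_span_singleton'] at this
    obtain ⟨b, hb⟩ := this
    exact ⟨b, by rw [← hb, mul_comm]⟩
  choose b hb using hb
  let θ : AdicRing.chartAlg f i →+* B := Ideal.Quotient.lift _
    (MvPolynomial.eval₂Hom φ.toRingHom (fun j : {j // j ≠ i} => b j.1)) (fun x hx => by
      refine Submodule.span_induction ?_ (map_zero _) (fun p q _ _ hp hq => by rw [map_add, hp, hq, add_zero])
        (fun c p _ hp => by rw [smul_eq_mul, map_mul, hp, mul_zero]) hx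
      rintro _ ⟨j, rfl⟩
      simp [← hb j.1])
  have hθA : ∀ a : A, θ (algebraMap A (AdicRing.chartAlg f i) a) = φ a := fun a => by
    show θ (Ideal.Quotient.mk _ (MvPolynomial.C a)) = φ a
    simp [θ]
  have hθR : ∀ x : R, θ (algebraMap R (AdicRing.chartAlg f i) x) = algebraMap R B x := fun x => by
    rw [IsScalarTower.algebraMap_apply R A (AdicRing.chartAlg f i), hθA, φ.commutes]
  set K : Ideal (AdicRing.chartAlg f i) := I.map (algebraMap R (AdicRing.chartAlg f i)) with hK
  have hθK : K.map θ ≤ J := by
    rw [hK, Ideal.map_map, Ideal.map_le_iff_le_comap]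
    intro x hx
    rw [Ideal.mem_comap, RingHom.comp_apply, hθR]
    exact Ideal.mem_map_of_mem _ hx
  let Ψ : AdicRing.chartCompl I f i →+* B := CompleteLib.completionLift K J θ hθK
  have hΨ : ∀ c, Ψ (algebraMap (AdicRing.chartAlg f i) _ c) = θ c :=
    fun c => CompleteLib.completionLift_algebraMap K J θ hθK c
  have hΨA : ∀ a : A, Ψ (algebraMap A (AdicRing.chartCompl I f i) a) = φ a := fun a => by
    rw [IsScalarTower.algebraMap_apply A (AdicRing.chartAlg f i) (AdicRing.chartCompl I f i), hΨ, hθA]
  have htors : ∀ y ∈ (⨆ n : ℕ, Submodule.torsionBy (AdicRing.chartCompl I f i) (AdicRing.chartCompl I f i)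
      (algebraMap A (AdicRing.chartCompl I f i) (f i) ^ n) : Ideal (AdicRing.chartCompl I f i)),
      Ψ y = 0 := by
    intro y hy
    induction hy using Submodule.iSup_induction' with
    | mem n x hx =>
      rw [Submodule.mem_torsionBy_iff, smul_eq_mul] at hx
      have h1 := congrArg Ψ hx
      rw [map_mul, map_pow, hΨA, map_zero, mul_comm] at h1
      exact (pow_mem hnzd n).2 _ h1
    | zero => exact map_zero _
    | add p q _ _ hp hq => rw [map_add, hp, hq, add_zero]
  let ψ : AdicRing.chartAdm I f i →ₐ[R] B :=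
    { Ideal.Quotient.lift _ Ψ htors with
      commutes' := fun x => by
        show Ψ (algebraMap R (AdicRing.chartCompl I f i) x) = _
        rw [IsScalarTower.algebraMap_apply R A (AdicRing.chartCompl I f i), hΨA, φ.commutes] }
  refine ⟨ψ, AlgHom.ext fun a => hΨA a, fun ψ' hψ' => AlgHom.coe_ringHom_injective ?_⟩
  refine Ideal.Quotient.ringHom_ext ?_
  show (ψ' : AdicRing.chartAdm I f i →+* B).comp (Ideal.Quotient.mk _) = _
  set ψ₁ : AdicRing.chartCompl I f i →+* B :=
    (ψ' : AdicRing.chartAdm I f i →+* B).comp (Ideal.Quotient.mk _) with hψ₁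
  have hA' : ∀ a : A, ψ₁ (algebraMap A (AdicRing.chartCompl I f i) a) = φ a := fun a =>
    AlgHom.congr_fun hψ' a
  have hC : ψ₁.comp (algebraMap (AdicRing.chartAlg f i) _) = θ := by
    refine Ideal.Quotient.ringHom_ext (MvPolynomial.ringHom_ext (fun a => ?_) (fun j => ?_))
    · show ψ₁ (algebraMap _ _ (algebraMap A (AdicRing.chartAlg f i) a)) = θ (algebraMap A (AdicRing.chartAlg f i) a)
      rw [← IsScalarTower.algebraMap_apply A (AdicRing.chartAlg f i) (AdicRing.chartCompl I f i), hA',
        hθA]
    · apply mul_cancel_left_mem_nonZeroDivisors hnzd |>.mp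
      have hrel : (Ideal.Quotient.mk _ (MvPolynomial.C (f i) * MvPolynomial.X j - MvPolynomial.C (f j.1)) :
          AdicRing.chartAlg f i) = 0 := Ideal.Quotient.eq_zero_iff_mem.mpr (Ideal.subset_span ⟨j, rfl⟩)
      have h1 := congrArg (ψ₁.comp (algebraMap (AdicRing.chartAlg f i) _)) hrel
      have h2 := congrArg θ hrel
      rw [map_sub, map_mul, map_sub, map_mul, map_zero, sub_eq_zero] at h1 h2
      have e1 : ∀ a : A, (ψ₁.comp (algebraMap (AdicRing.chartAlg f i) _))
          (Ideal.Quotient.mk _ (MvPolynomial.C a)) = φ a := fun a => by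
        show ψ₁ (algebraMap _ _ (algebraMap A (AdicRing.chartAlg f i) a)) = φ a
        rw [← IsScalarTower.algebraMap_apply A (AdicRing.chartAlg f i) (AdicRing.chartCompl I f i), hA']
      have e2 : ∀ a : A, θ (Ideal.Quotient.mk _ (MvPolynomial.C a)) = φ a := hθA
      rw [e1, e1] at h1
      rw [e2, e2] at h2
      exact h1.trans h2.symm
  refine CompleteLib.completion_hom_ext K J (hIfg.map _) ψ₁ Ψ ?_ fun c => ?_
  · rw [hC]; exact hθK
  · rw [hΨ, ← hC]; rfl

end Groth.Agent.S11545
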