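import Groth.Statements.S11548
import Groth.Agent.AdicRingLib.RigFinite
import Mathlib.FieldTheory.IsAlgClosed.AlgebraicClosure
import Mathlib.RingTheory.Jacobson.Ring

set_option autoImplicit false
universe u
open AdicRing

namespace Groth.Agent.S11548

/-- Let R be a complete valuation ring of height one with t a nonzero element generating an ideal of
definition, and m a maximal ideal of R⟨ζ_1, ..., ζ_n⟩ containing t (a closed point of the special
fibre). Then there is a prime ideal p contained in m and not containing t such that R⟨ζ_1, ...,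
ζ_n⟩/p has Krull dimension one. (This is the affine content of the surjectivity of the
specialization map onto closed points, for the formal affine space.) -/
theorem result
    (R : Type u) [CommRing R] [IsDomain R] [ValuationRing R] [Ring.KrullDimLE 1 R]
    (t : R) (ht : t ≠ 0) [IsAdicComplete (Ideal.span {t}) R]
    (n : ℕ) (m : Ideal (AdicRing.RPow R (Ideal.span {t}) n)) [m.IsMaximal]
    (hm : algebraMap R (AdicRing.RPow R (Ideal.span {t}) n) t ∈ m) :
    ∃ p : Ideal (AdicRing.RPow R (Ideal.span {t}) n), p.IsPrime ∧ p ≤ m ∧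
      algebraMap R (AdicRing.RPow R (Ideal.span {t}) n) t ∉ p ∧
      ringKrullDim (AdicRing.RPow R (Ideal.span {t}) n ⧸ p) = 1 := by
  classical
  have h := AdicRingLib.isHeightOne R t ht
  let I : Ideal R := Ideal.span {t}
  have hI : I.FG := Submodule.fg_span_singleton t
  let P := MvPolynomial (Fin n) R
  let A := AdicRing.RPow R I n
  -- the residue field of `m` is finite over the residue field of `R`
  let k := IsLocalRing.ResidueField R
  have hmR : ∀ r ∈ IsLocalRing.maximalIdeal R, algebraMap R A r ∈ m := fun r hr => by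
    obtain ⟨j, d, hd⟩ := h.radical r hr
    exact Ideal.IsPrime.mem_of_pow_mem inferInstance j (by
      rw [← map_pow, hd, map_mul]; exact m.mul_mem_right _ hm)
  let _ : Field (A ⧸ m) := Ideal.Quotient.field m
  let f0 : k →+* A ⧸ m := Ideal.Quotient.lift (IsLocalRing.maximalIdeal R)
    ((Ideal.Quotient.mk m).comp (algebraMap R A))
    fun r hr => Ideal.Quotient.eq_zero_iff_mem.2 (hmR r hr)
  let _ : Algebra k (A ⧸ m) := f0.toAlgebra
  have : IsScalarTower R k (A ⧸ m) := IsScalarTower.of_algebraMap_eq fun r => rfl
  let q : P →ₐ[R] A ⧸ m := (Ideal.Quotient.mkₐ R m).comp (IsScalarTower.toAlgHom R P A)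
  have happrox : ∀ w : A, ∃ p : P, w - algebraMap P A p ∈ Ideal.span {algebraMap R A t} := fun w => by
    obtain ⟨π, hπ, -⟩ := (AdicRingLib.isModel_rPow ht n h.isBase).exists_approx
    obtain ⟨p, hp⟩ := AdicRingLib.exists_sub_mem_map_pow (AdicRingLib.C_fg h.isBase n) 1 w
    refine ⟨p, ?_⟩
    rw [pow_one, ← AdicRingLib.map_rPow] at hp
    have key : (Ideal.span {t}).map (algebraMap R A) = Ideal.span {algebraMap R A t} :=
      (Ideal.map_span (algebraMap R A) {t}).trans (congrArg Ideal.span Set.image_singleton)
    rwa [key] at hp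
  have hqsurj : Function.Surjective q := fun y => by
    obtain ⟨w, rfl⟩ := Ideal.Quotient.mk_surjective y
    obtain ⟨p, hp⟩ := happrox w
    exact ⟨p, (Ideal.Quotient.eq.2 ((Ideal.span_singleton_le_iff_mem m).2 hm hp)).symm⟩
  have : Algebra.FiniteType R (A ⧸ m) := Algebra.FiniteType.of_surjective q hqsurj
  have : Algebra.FiniteType k (A ⧸ m) := Algebra.FiniteType.of_restrictScalars_finiteType R _ _
  have : Module.Finite k (A ⧸ m) := finite_of_finite_type_of_isJacobsonRing k (A ⧸ m)
  -- the integral closure in an algebraic closure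
  let L := AlgebraicClosure (FractionRing R)
  let C := integralClosure R L
  have hinjL : Function.Injective (algebraMap R L) := by
    rw [IsScalarTower.algebraMap_eq R (FractionRing R) L]
    exact (algebraMap (FractionRing R) L).injective.comp (IsFractionRing.injective R (FractionRing R))
  have hinjC : Function.Injective (algebraMap R C) := fun a b hab => hinjL (congrArg Subtype.val hab)
  have : Algebra.IsIntegral R C := integralClosure.AlgebraIsIntegral
  have := h.isLocalRing_of_isIntegral hinjC
  have hlh : IsLocalHom (algebraMap R C) := ⟨fun r hr => by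
    by_contra hnu
    have h1 : r ∈ (IsLocalRing.maximalIdeal C).comap (algebraMap R C) := by
      rw [IsLocalRing.eq_maximalIdeal (Ideal.isMaximal_comap_of_isIntegral_of_isMaximal (R := R) (IsLocalRing.maximalIdeal C))]
      exact hnu
    exact h1 hr⟩
  let Ω := IsLocalRing.ResidueField C
  let _ : Algebra k Ω := (IsLocalRing.ResidueField.map (algebraMap R C)).toAlgebra
  have : IsAlgClosed Ω := IsAlgClosed.of_exists_root Ω fun p hp hpirr => by
    obtain ⟨p', hp', hdeg, hmon⟩ := Polynomial.lifts_and_degree_eq_and_monic
      ((Polynomial.mem_lifts p).2 (Polynomial.map_surjective _ IsLocalRing.residue_surjective p)) hp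
    have hd : (p'.map (algebraMap C L)).degree ≠ 0 := by
      rw [hmon.degree_map, hdeg]
      exact fun h0 => hpirr.not_isUnit (Polynomial.isUnit_iff_degree_eq_zero.2 h0)
    obtain ⟨x, hx⟩ := IsAlgClosed.exists_root _ hd
    have hxint : IsIntegral R x := by
      have h1 : IsIntegral C x := ⟨p', hmon, by rwa [Polynomial.IsRoot, Polynomial.eval_map] at hx⟩
      exact isIntegral_trans x h1
    refine ⟨IsLocalRing.residue C ⟨x, hxint⟩, ?_⟩
    rw [← hp', Polynomial.eval_map, Polynomial.eval₂_at_apply]
    have h2 : p'.eval (⟨x, hxint⟩ : C) = 0 := by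
      apply Subtype.val_injective
      rw [Polynomial.IsRoot, Polynomial.eval_map] at hx
      have h3 := Polynomial.hom_eval₂ p' (RingHom.id C) (algebraMap C L) (⟨x, hxint⟩ : C)
      rw [RingHom.comp_id, Polynomial.eval₂_id] at h3
      exact h3.trans hx
    rw [h2, map_zero]
  have : Algebra.IsAlgebraic k (A ⧸ m) := Algebra.IsAlgebraic.of_finite k (A ⧸ m)
  let ι : (A ⧸ m) →ₐ[k] Ω := IsAlgClosed.lift
  choose a ha using fun i => IsLocalRing.residue_surjective (R := C) (ι (q (MvPolynomial.X i)))
  -- the rig-point
  let B := Algebra.adjoin R (Set.range fun i => (a i : C))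
  have hBfin : Module.Finite R B := Module.Finite.iff_fg.2
    (fg_adjoin_of_finite (Set.finite_range _) fun x _ => Algebra.IsIntegral.isIntegral x)
  have hinjB : Function.Injective (algebraMap R B) := fun x y hxy => hinjC (congrArg Subtype.val hxy)
  have hBint : Algebra.IsIntegral R B := Algebra.IsIntegral.of_finite R B
  have : IsAdicComplete (I.map (algebraMap R B)) B := by
    have h1 := h.isAdicComplete_finite hinjB
    rwa [Ideal.map_span, Set.image_singleton]
  obtain ⟨ψ, hψ⟩ := h.exists_hom (B := B) fun i => ⟨a i, Algebra.subset_adjoin ⟨i, rfl⟩⟩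
  let p := RingHom.ker ψ.toRingHom
  have htp : algebraMap R A t ∉ p := fun htp => ht (hinjB (by
    rw [map_zero, ← ψ.commutes]; exact htp))
  refine ⟨p, RingHom.ker_isPrime _, fun w hw => ?_, htp, ?_⟩
  · obtain ⟨P₀, hP⟩ := happrox w
    obtain ⟨z, hz⟩ := Ideal.mem_span_singleton'.1 hP
    let red : B →+* Ω := (IsLocalRing.residue C).comp B.val.toRingHom
    have hredt : red (algebraMap R B t) = 0 := (IsLocalRing.residue_eq_zero_iff _).2 (by
      show algebraMap R C t ∈ IsLocalRing.maximalIdeal C
      exact fun hu => h.mem (hlh.map_nonunit t hu))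
    have hagree : ∀ Q : P, red (ψ (algebraMap P A Q)) = ι (q Q) := by
      intro Q
      induction Q using MvPolynomial.induction_on with
      | C r =>
        have h1 : algebraMap P A (MvPolynomial.C r) = algebraMap R A r := (AdicRingLib.algebraMap_rPow n r).symm
        rw [h1, ψ.commutes, show q (MvPolynomial.C r) = algebraMap R (A ⧸ m) r from q.commutes r,
          IsScalarTower.algebraMap_apply R k (A ⧸ m), ι.commutes]
        rfl
      | add f g hf hg => simp only [map_add, hf, hg]
      | mul_X f i hf =>
        simp only [map_mul, hf]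
        rw [hψ, MvPolynomial.aeval_X]
        exact congrArg _ (ha i)
    have h0 : ι (q P₀) = 0 := by
      rw [← hagree, show algebraMap P A P₀ = w - z * algebraMap R A t by rw [hz]; ring, map_sub, map_mul,
        ψ.commutes, show ψ w = 0 from hw, map_sub, map_mul, hredt, mul_zero, map_zero, sub_zero]
    have hP0 : algebraMap P A P₀ ∈ m :=
      Ideal.Quotient.eq_zero_iff_mem.1 (ι.toRingHom.injective (h0.trans (map_zero ι).symm))
    rw [show w = algebraMap P A P₀ + z * algebraMap R A t by rw [hz]; ring]
    exact add_mem hP0 (m.mul_mem_left _ hm)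
  · have : p.IsPrime := RingHom.ker_isPrime _
    let χ : (A ⧸ p) →ₐ[R] B := Ideal.kerLiftAlg ψ
    have hχ : Function.Injective χ := Ideal.kerLiftAlg_injective ψ
    have : IsDomain (A ⧸ p) := (Ideal.Quotient.isDomain_iff_prime p).2 inferInstance
    have : Algebra.IsIntegral R (A ⧸ p) := Algebra.IsIntegral.of_injective χ hχ
    exact h.ringKrullDim_of_isIntegral fun x y hxy => hinjB (by rw [← χ.commutes x, ← χ.commutes y, hxy])

end Groth.Agent.S11548
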