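import Groth.Statements.S1156
import Mathlib
-- import your own Groth.Agent.* helpers here

set_option autoImplicit false
universe u
open scoped TensorProduct
open Desc

namespace Groth.Agent.S1156

/-- Exactness of the extended Amitsur complex in degree 0 (injectivity in degree −1 being standard). Let
R → A be faithfully flat and M an R-module. An element x of A ⊗_R M with 1 ⊗ x = (a ⊗ m ↦ a ⊗ 1 ⊗
m)(x) in A ⊗_R A ⊗_R M lies in the image of m ↦ 1 ⊗ m. -/
theorem result (R A : Type u) [CommRing R] [CommRing A] [Algebra R A] [Module.FaithfullyFlat R A]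
    (M : Type u) [AddCommGroup M] [Module R M] (x : A ⊗[R] M)
    (hx : TensorProduct.mk R A (A ⊗[R] M) 1 x = LinearMap.lTensor A (TensorProduct.mk R A M 1) x) :
    x ∈ LinearMap.range (TensorProduct.mk R A M 1) := by
  let L := LinearMap.range (TensorProduct.mk R A M 1)
  have h := congrArg (LinearMap.lTensor A L.mkQ) hx
  rw [← LinearMap.comp_apply, ← LinearMap.comp_apply, ← LinearMap.lTensor_comp,
    show L.mkQ ∘ₗ TensorProduct.mk R A M 1 = 0 from LinearMap.ext fun m =>
      (Submodule.Quotient.mk_eq_zero L).2 ⟨m, rfl⟩, LinearMap.lTensor_zero,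
    LinearMap.zero_apply, LinearMap.comp_apply, TensorProduct.mk_apply, LinearMap.lTensor_tmul] at h
  have h2 : L.mkQ x = 0 := Module.FaithfullyFlat.tensorProduct_mk_injective (B := A) _
    (h.trans (TensorProduct.tmul_zero _ _).symm)
  exact (Submodule.Quotient.mk_eq_zero L).1 h2

end Groth.Agent.S1156
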