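import Groth.Statements.S1157
import Groth.Agent.PicFldDescLib.Galois

set_option autoImplicit false
set_option linter.style.haveILetI false
set_option backward.isDefEq.respectTransparency false
set_option backward.isDefEq.respectTransparency.types false

set_option autoImplicit false
open CategoryTheory CategoryTheory.Limits AlgebraicGeometry Opposite
universe u
open PicF

namespace Groth.Agent.S1157

/-- The descent statement only; injectivity of pullback on Picard groups and continuity of the Galois
action are not asserted: Let X be quasi-compact and quasi-separated over a field k, with ring of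
global functions k itself and with a k-rational point, and let k'/k be a Galois extension. Then
every isomorphism class of invertible modules on X ×_k Spec k' which is fixed by all the
automorphisms id_X × Spec σ, σ ∈ Gal(k'/k), is the pullback of the class of an invertible module on
X. -/
theorem result (k : Type u) [Field k] (X : Scheme.{u}) (f : X ⟶ Spec (CommRingCat.of k))
    [CompactSpace X] [QuasiSeparatedSpace X] (hH0 : IsIso f.appTop)
    (x : Spec (CommRingCat.of k) ⟶ X) (hx : x ≫ f = 𝟙 _)
    (k' : Type u) [Field k'] [Algebra k k'] [IsGalois k k']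
    (d : PicF.Cl (pullback f (Spec.map (CommRingCat.ofHom (algebraMap k k'))))) (hd : PicF.IsInvertibleCl d)
    (hfix : ∀ σ : k' ≃ₐ[k] k', PicF.pullCl (PicF2.twistAut f σ) d = d) :
    ∃ c : PicF.Cl X, PicF.IsInvertibleCl c ∧ PicF.pullCl (pullback.fst f (Spec.map (CommRingCat.ofHom (algebraMap k k')))) c = d := by
  haveI : QuasiCompact f := (quasiCompact_iff_compactSpace f).mpr inferInstance
  haveI : QuasiSeparated f := inferInstance
  have hH : Function.Bijective f.appTop := ConcreteCategory.bijective_of_isIso f.appTop
  obtain ⟨L', rfl, hL'⟩ := hd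
  obtain ⟨L, hLfin, M, hM, hML⟩ := PicFldDescLib.exists_stage f k' L' hL'
  let N : IntermediateField k k' := (FiniteGaloisIntermediateField.adjoin k (Set.range (Module.finBasis k L · |>.1))).toIntermediateField
  haveI : FiniteDimensional k N := inferInstanceAs (FiniteDimensional k (FiniteGaloisIntermediateField.adjoin k _))
  haveI : IsGalois k N := inferInstanceAs (IsGalois k (FiniteGaloisIntermediateField.adjoin k _))
  have hLN : L ≤ N := fun y hy => by
    have h1 := (Module.finBasis k L).sum_repr ⟨y, hy⟩
    have h2 : (∑ i, (Module.finBasis k L).repr ⟨y, hy⟩ i • ((Module.finBasis k L i : L) : k')) = y := by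
      have h3 := congrArg (L.val.toLinearMap) h1
      rw [map_sum] at h3
      exact (Finset.sum_congr rfl fun i _ => (map_smul L.val.toLinearMap _ _).symm).trans h3
    rw [← h2]
    exact sum_mem fun i _ => N.smul_mem (FiniteGaloisIntermediateField.subset_adjoin k _ ⟨i, rfl⟩)
  let ι₀ : L →+* N := (IntermediateField.inclusion hLN).toRingHom
  let t : pullback f (PicFldDescLib.gK k N) ⟶ pullback f (PicFldDescLib.gK k L) :=
    pullback.lift (pullback.fst _ _) (pullback.snd _ _ ≫ Spec.map (CommRingCat.ofHom ι₀)) (by
      rw [Category.assoc, ← Spec.map_comp, ← CommRingCat.ofHom_comp]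
      exact pullback.condition)
  have ht : PicFldDescLib.toStage f k' N ≫ t = PicFldDescLib.toStage f k' L := by
    refine pullback.hom_ext ?_ ?_
    · rw [Category.assoc, pullback.lift_fst, PicFldDescLib.toStage_fst, PicFldDescLib.toStage_fst]
    · rw [Category.assoc, pullback.lift_snd, ← Category.assoc, PicFldDescLib.toStage_snd, PicFldDescLib.toStage_snd,
        Category.assoc, ← Spec.map_comp, ← CommRingCat.ofHom_comp]
      congr 3
  let MN := (Scheme.Modules.pullback t).obj M
  have hMN : PicF.IsInvertible MN := AmpleDevLib.isInvertible_pb t hM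
  have hMNL : CubeConsLib.pull (PicFldDescLib.toStage f k' N) (CubeConsLib.cl MN) = CubeConsLib.cl L' := by
    show CubeConsLib.pull _ (CubeConsLib.pull t (CubeConsLib.cl M)) = _
    rw [CubeConsLib.pull_comp, ht, hML]
  have hHN := PicFldDescLib.bij_snd f N hH
  have hfixN : ∀ τ : N ≃ₐ[k] N, CubeConsLib.pull (PicF2.twistAut f τ) (CubeConsLib.cl MN) = CubeConsLib.cl MN := by
    intro τ
    refine PicFldDescLib.inj (pullback.snd f (PicFldDescLib.gK k N)) hHN (PicFldDescLib.isPullback_toStage f k' N)
      (AmpleDevLib.isInvertible_pb (PicF2.twistAut f τ) hMN) hMN ?_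
    show CubeConsLib.pull _ (CubeConsLib.pull _ (CubeConsLib.cl MN)) = _
    rw [CubeConsLib.pull_comp, PicFldDescLib.toStage_twist f k' N (τ.liftNormal k') τ (AlgEquiv.liftNormal_commutes τ k'),
      ← CubeConsLib.pull_comp, hMNL]
    have h := congrArg PicFldDescLib.toI (hfix (τ.liftNormal k'))
    rwa [PicFldDescLib.toI_pullCl] at h
  obtain ⟨C, hC, hC2⟩ := PicFldDescLib.descend_finite f hH x hx N MN hMN hfixN
  refine ⟨PicF.cl C, ⟨C, rfl, hC⟩, PicFldDescLib.toI_injective ?_⟩
  rw [PicFldDescLib.toI_pullCl, PicFldDescLib.toI_cl, PicFldDescLib.toI_cl]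
  have h1 := congrArg (CubeConsLib.pull (PicFldDescLib.toStage f k' N)) hC2
  rw [CubeConsLib.pull_comp, PicFldDescLib.toStage_fst, hMNL] at h1
  exact h1

end Groth.Agent.S1157
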