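import Groth.Statements.S19455
import Groth.Agent.MeroLib.DivMod
import Groth.Agent.TwistLib.PullGen
import Groth.Agent.TwistLib.HomGlue

-- import your own Groth.Agent.* helpers here

set_option autoImplicit false
universe u
open CategoryTheory CategoryTheory.Limits AlgebraicGeometry TopologicalSpace Opposite
open Mero

namespace Groth.Agent.S19455

open MeroLib Opposite TensorProduct in
open AmpleLib (GenAt GenOn res) in
theorem tmul_eq_shT {X : Scheme.{u}} (M N : X.Modules) {U : X.Opens} (m : Γ(M, U)) (n : Γ(N, U)) :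
    (SecTwist.tmul M N U m n : Γ(CohB1.tensorMod M N, U)) = AmpleLib.shT m n := rfl

open MeroLib Opposite TensorProduct in
open AmpleLib (GenAt GenOn res) in
theorem shT_smul {X : Scheme.{u}} (M N : X.Modules) {U : X.Opens} (r r' : Γ(X, U)) (m : Γ(M, U)) (n : Γ(N, U)) :
    (SecTwist.tmul M N U (r • m) (r' • n) : Γ(CohB1.tensorMod M N, U)) =
      (r * r') • (SecTwist.tmul M N U m n : Γ(CohB1.tensorMod M N, U)) := by
  refine (congrArg ((SecTwist.toTensor M N).app (op U)).hom (TensorProduct.smul_tmul_smul r r' m n)).trans ?_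
  exact ((SecTwist.toTensor M N).app (op U)).hom.map_smul (r * r') _

open MeroLib Opposite TensorProduct in
open AmpleLib (GenAt GenOn res) in
theorem happ {X : Scheme.{u}} {A B : X.Modules} (φ : A ⟶ B) {U V : X.Opens} (h : V ≤ U) (x : Γ(A, U)) :
    φ.app V (res A h x) = res B h (φ.app U x) :=
  ConcreteCategory.congr_hom (φ.mapPresheaf.naturality (homOfLE h).op) x

open MeroLib Opposite TensorProduct in
open AmpleLib (GenAt GenOn res) in
theorem exists_mul {X : Scheme.{u}} (D E : Mero.Divisor X) :
    ∃ μ : CohB1.tensorMod (Mero.divMod D) (Mero.divMod E) ⟶ Mero.divMod (D * E),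
      (∀ (U : X.Opens) (t : Γ(Mero.divMod D, U)) (t' : Γ(Mero.divMod E, U)),
        (Mero.divModι (D * E)).app U (μ.app U (SecTwist.tmul (Mero.divMod D) (Mero.divMod E) U t t')) =
          (Mero.divModι D).app U t * (Mero.divModι E).app U t') ∧
      IsIso μ := by
  choose UD hxD f hf using fun x : X => D.2 x
  choose UE hxE g hg using fun x : X => E.2 x
  let W : X → X.Opens := fun x => UD x ⊓ UE x
  let M := CohB1.tensorMod (Mero.divMod D) (Mero.divMod E)
  let a : ∀ x, Γ(Mero.divMod D, W x) := fun x => res _ inf_le_left (gen (f x) (hf x))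
  let b : ∀ x, Γ(Mero.divMod E, W x) := fun x => res _ inf_le_right (gen (g x) (hg x))
  let e : ∀ x, Γ(M, W x) := fun x => (SecTwist.tmul (Mero.divMod D) (Mero.divMod E) (W x) (a x) (b x) : Γ(M, W x))
  have he : ∀ x, GenOn M (e x) := fun x => TwistLib.genOn_of_genAt fun y hy =>
    (((genOn_gen _ _).res _).genAt hy).tensor (((genOn_gen _ _).res _).genAt hy)
  let rk : ∀ {U V : X.Opens}, V ≤ U → (Γ(Mero.kmod X, U) →+* Γ(Mero.kmod X, V)) := fun {U V} h =>
    { toFun := (Mero.kmod X).presheaf.map (homOfLE h).op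
      map_one' := rfl
      map_mul' := fun _ _ => rfl
      map_zero' := rfl
      map_add' := fun _ _ => rfl }
  let fg : ∀ x, (Γ(Mero.kmod X, W x))ˣ := fun x =>
    Units.map (rk (inf_le_left : W x ≤ UD x)).toMonoidHom (f x) *
      Units.map (rk (inf_le_right : W x ≤ UE x)).toMonoidHom (g x)
  have hDE : ∀ x (y : W x), (D * E).1 y.1 = Mero.germOf (fg x) y := fun x y => by
    show D.1 y.1 * E.1 y.1 = _
    rw [hf x ⟨y.1, y.2.1⟩, hg x ⟨y.1, y.2.2⟩]
    exact (QuotientGroup.mk_mul _ _ _).symm.trans (congrArg _ (Units.ext rfl))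
  let e' : ∀ x, Γ(Mero.divMod (D * E), W x) := fun x => gen (D := D * E) (fg x) (hDE x)
  have hcov : ∀ x : X, ∃ z, x ∈ W z := fun x => ⟨x, hxD x, hxE x⟩
  have hval : ∀ x y (hy : y ∈ W x), dval (e' x) y hy = dval (a x) y hy * dval (b x) y hy := fun x y hy => by
    refine (dval_gen (D := D * E) (fg x) (hDE x) y hy).trans ?_
    show val ((fg x)⁻¹ : (Γ(Mero.kmod X, W x))ˣ).1 y hy = _
    simp only [fg, mul_inv, Units.val_mul, val, map_mul]
    rfl
  have hv : ∀ x {V : X.Opens} (hV : V ≤ W x) (r r' : Γ(X, V)) (t : Γ(Mero.divMod D, V)) (t' : Γ(Mero.divMod E, V)),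
      r • res _ hV (a x) = t → r' • res _ hV (b x) = t' →
      (SecTwist.tmul (Mero.divMod D) (Mero.divMod E) V t t' : Γ(M, V)) = (r * r') • res M hV (e x) := by
    intro x V hV r r' t t' ht ht'
    rw [← ht, ← ht', shT_smul]
    exact congrArg (_ • ·) (SecTwist.map_tmul _ _ (homOfLE hV) (a x) (b x)).symm
  obtain ⟨μ, hμ⟩ := TwistLib.exists_hom_of_gens W e e' hcov he fun p q V hp hq c hc => by
    obtain ⟨r, hr⟩ := ((genOn_gen (f p) (hf p)).res inf_le_left V hp).2 (res _ hq (a q))
    obtain ⟨r', hr'⟩ := ((genOn_gen (g p) (hg p)).res inf_le_right V hp).2 (res _ hq (b q))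
    have h1 := hv p hp r r' _ _ hr hr'
    have h2 : (SecTwist.tmul (Mero.divMod D) (Mero.divMod E) V (res _ hq (a q)) (res _ hq (b q)) : Γ(M, V)) =
        res M hq (e q) := (SecTwist.map_tmul _ _ (homOfLE hq) (a q) (b q)).symm
    rw [h2] at h1
    have h3 : c = r * r' := (he p V hp).1 (hc.trans h1)
    refine dext fun y hy => ?_
    rw [dval_smul, dval_res, dval_res, hval, hval, h3, map_mul, map_mul, mul_mul_mul_comm]
    have h4 := congrArg (fun t => dval t y hy) hr
    have h5 := congrArg (fun t => dval t y hy) hr'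
    simp only [dval_smul, dval_res] at h4 h5
    exact congrArg₂ (· * ·) h4 h5
  haveI := TwistLib.isIso_of_gen μ fun x => ⟨W x, ⟨hxD x, hxE x⟩, e x, (he x).genAt _, by
    rw [hμ x]; exact (genOn_gen _ _).genAt _⟩
  refine ⟨μ, fun U t t' => MeroLib.ext fun y hy => ?_, inferInstance⟩
  let V : X.Opens := U ⊓ W y
  have hyV : y ∈ V := ⟨hy, hxD y, hxE y⟩
  obtain ⟨r, hr⟩ := ((genOn_gen (f y) (hf y)).res inf_le_left V inf_le_right).2 (res _ (inf_le_left : V ≤ U) t)
  obtain ⟨r', hr'⟩ := ((genOn_gen (g y) (hg y)).res inf_le_right V inf_le_right).2 (res _ (inf_le_left : V ≤ U) t')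
  have h1 := hv y (inf_le_right : V ≤ W y) r r' _ _ hr hr'
  have h2 : (SecTwist.tmul (Mero.divMod D) (Mero.divMod E) V (res _ inf_le_left t) (res _ inf_le_left t') : Γ(M, V)) =
      res M (inf_le_left : V ≤ U) (SecTwist.tmul (Mero.divMod D) (Mero.divMod E) U t t') :=
    (SecTwist.map_tmul _ _ (homOfLE inf_le_left) t t').symm
  rw [h2] at h1
  have h3 := congrArg (fun z => μ.app V z) h1
  simp only [Scheme.Modules.Hom.app_smul] at h3
  rw [happ, happ, hμ] at h3
  have h4 := congrArg (fun z => dval z y hyV) h3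
  simp only [dval_smul, dval_res, hval] at h4
  simp only [val, map_mul]
  change dval (μ.app U (SecTwist.tmul (Mero.divMod D) (Mero.divMod E) U t t')) y hy = dval t y hy * dval t' y hy
  refine h4.trans ?_
  have h5 := congrArg (fun z => dval z y hyV) hr
  have h6 := congrArg (fun z => dval z y hyV) hr'
  simp only [dval_smul, dval_res] at h5 h6
  rw [map_mul, map_mul, mul_mul_mul_comm]
  exact congrArg₂ (· * ·) h5 h6



/-- Let X be an integral scheme and D, E Cartier divisors on X (global sections of the sheaf of units of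
K_X modulo units of O_X, written multiplicatively, so that D · E stands for the sum of the two
divisors). Then there is a morphism of O_X-modules from the tensor product O_X(D) ⊗ O_X(E) to O_X(D
· E) which sends each section t ⊗ t' over an open subset U to the product t · t' computed in the
sheaf of meromorphic functions K_X, and this morphism is an isomorphism. (The published statement is
for an irreducible normal variety over an algebraically closed field, where a Cartier divisor is a
locally principal Weil divisor and O_X(D) is its sheaf of rational functions φ with div φ + D ≥ 0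
locally, a subsheaf of the constant sheaf of rational functions equal to O_U · φ⁻¹ wherever D is the
divisor of φ; this row states it for the fractional ideals O_X(D) ⊆ K_X of Cartier divisors on an
arbitrary integral scheme.) -/
theorem result (X : Scheme.{u}) [AlgebraicGeometry.IsIntegral X]
    (D E : Mero.Divisor X) :
    ∃ μ : CohB1.tensorMod (Mero.divMod D) (Mero.divMod E) ⟶ Mero.divMod (D * E),
      (∀ (U : X.Opens) (t : Γ(Mero.divMod D, U)) (t' : Γ(Mero.divMod E, U)),
        (Mero.divModι (D * E)).app U (μ.app U (SecTwist.tmul (Mero.divMod D) (Mero.divMod E) U t t')) =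
          (Mero.divModι D).app U t * (Mero.divModι E).app U t') ∧
      IsIso μ := by
  exact exists_mul D E

end Groth.Agent.S19455
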