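import Groth.Statements.S1162
import Mathlib.AlgebraicGeometry.Morphisms.UniversallyOpen
-- import your own Groth.Agent.* helpers here

set_option autoImplicit false
open CategoryTheory CategoryTheory.Limits AlgebraicGeometry Opposite
universe u
open Desc

namespace Groth.Agent.S1162

/-- Let f : X ⟶ Y be flat and separated. Write X⁰ for the generic points of the irreducible components
of X. If for every ξ in X⁰ the residue field extension κ(f ξ) ⊆ κ(ξ) is trivial and f is injective
on X⁰, then f is universally injective. -/
theorem result {X Y : Scheme.{u}} (f : X ⟶ Y) [Flat f] [IsSeparated f]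
    (h2 : ∀ ξ : X, closure ({ξ} : Set X) ∈ irreducibleComponents (X : Type u) →
      Function.Surjective (f.residueFieldMap ξ).hom)
    (h3 : Set.InjOn f.base {ξ : X | closure ({ξ} : Set X) ∈ irreducibleComponents (X : Type u)}) :
    UniversallyInjective f := by
  rw [UniversallyInjective.iff_diagonal, surjective_iff]
  intro z
  have hgen : ∀ a : X, ∃ ξ : X, ξ ⤳ a ∧ closure ({ξ} : Set X) ∈ irreducibleComponents (X : Type u) := by
    intro a
    have hZ := irreducibleComponent_mem_irreducibleComponents a
    have h := (isIrreducible_irreducibleComponent (x := a)).isGenericPoint_genericPoint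
      isClosed_irreducibleComponent
    refine ⟨(isIrreducible_irreducibleComponent (x := a)).genericPoint, h.specializes mem_irreducibleComponent, ?_⟩
    rw [h.def]
    exact hZ
  have hmax : ∀ ξ b : X, closure ({ξ} : Set X) ∈ irreducibleComponents (X : Type u) → b ⤳ ξ → b = ξ := by
    intro ξ b hξ hb
    exact hb.antisymm (specializes_iff_closure_subset.2
      (hξ.2 isIrreducible_singleton.closure (specializes_iff_closure_subset.1 hb))) |>.eq
  obtain ⟨ξ, hξa, hξ⟩ := hgen (pullback.fst f f z)
  obtain ⟨z', hz'z, hz'⟩ := Flat.generalizingMap (pullback.fst f f) hξa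
  obtain ⟨ξ', hξ'a, hξ'⟩ := hgen (pullback.snd f f z')
  obtain ⟨z'', hz''z', hz''⟩ := Flat.generalizingMap (pullback.snd f f) hξ'a
  have hx : pullback.fst f f z'' = ξ :=
    hmax ξ _ hξ (hz' ▸ hz''z'.map (pullback.fst f f).continuous)
  have hf : f.base ξ = f.base ξ' := by
    rw [← hx, ← hz'']
    exact congrArg (fun g : pullback f f ⟶ Y => g.base z'') pullback.condition
  have hy : pullback.snd f f z'' = ξ := hz''.trans (h3 hξ hξ' hf).symm
  suffices hd : pullback.diagonal f ξ = z'' by
    have hzz : z'' ⤳ z := hz''z'.trans hz'z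
    exact hzz.mem_closed (pullback.diagonal f).isClosedEmbedding.isClosed_range ⟨ξ, hd⟩
  have hT : Scheme.Pullback.Triplet.ofPoint (pullback.diagonal f ξ) = Scheme.Pullback.Triplet.ofPoint z'' := by
    apply Scheme.Pullback.Triplet.ext
    · show pullback.fst f f (pullback.diagonal f ξ) = pullback.fst f f z''
      rw [hx, ← Scheme.Hom.comp_apply, pullback.diagonal_fst]; rfl
    · show pullback.snd f f (pullback.diagonal f ξ) = pullback.snd f f z''
      rw [hy, ← Scheme.Hom.comp_apply, pullback.diagonal_snd]; rfl
  have hsub : Subsingleton (Spec (Scheme.Pullback.Triplet.ofPoint z'').tensor) := by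
    set T := Scheme.Pullback.Triplet.ofPoint z'' with hTdef
    have hTy : T.y = ξ := hy
    haveI : IsIso ((Y.residueFieldCongr T.hy).inv ≫ f.residueFieldMap T.y) := by
      haveI : IsIso (f.residueFieldMap T.y) := by
        rw [hTy]
        exact (ConcreteCategory.isIso_iff_bijective _).2 ⟨(f.residueFieldMap ξ).hom.injective, h2 ξ hξ⟩
      infer_instance
    exact (Spec.map (pushout.inl ((Y.residueFieldCongr T.hx).inv ≫ f.residueFieldMap T.x)
      ((Y.residueFieldCongr T.hy).inv ≫ f.residueFieldMap T.y))).homeomorph.toEquiv.subsingleton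
  apply Scheme.Pullback.carrierEquiv.injective
  refine Scheme.Pullback.carrierEquiv_eq_iff.2 ⟨hT, ?_⟩
  exact @Subsingleton.elim _ hsub _ _

end Groth.Agent.S1162
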