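import Groth.Statements.S1163
import Mathlib
-- import your own Groth.Agent.* helpers here

set_option autoImplicit false
open CategoryTheory CategoryTheory.Limits AlgebraicGeometry Opposite
universe u
open Desc

namespace Groth.Agent.S1163

open CategoryTheory CategoryTheory.Limits AlgebraicGeometry

theorem flat_of_alg {R A B C : Type u} [CommRing R] [CommRing A] [CommRing B] [CommRing C]
    [Algebra R A] [Algebra R B] [Algebra A B] [IsScalarTower R A B] [Algebra A C] [Algebra B C]
    [IsScalarTower A B C] [Module.Flat R B] [Module.FaithfullyFlat A C] : Module.Flat R A := by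
  rw [Module.Flat.iff_lTensor_preserves_injective_linearMap]
  intro N N' _ _ _ _ g hg
  let i : A →ₗ[R] B := (IsScalarTower.toAlgHom R A B).toLinearMap
  have hi : ∀ (N : Type u) [AddCommGroup N] [Module R N], Function.Injective (i.rTensor N) := by
    intro N _ _
    let P := TensorProduct R A N
    let e := TensorProduct.AlgebraTensorModule.cancelBaseChange R A A B N
    let μ : TensorProduct A B P →ₗ[A] TensorProduct A C P :=
      (IsScalarTower.toAlgHom A B C).toLinearMap.rTensor P
    have h1 : Function.Injective (fun p : P => μ ((1 : B) ⊗ₜ[A] p)) := by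
      have : (fun p : P => μ ((1 : B) ⊗ₜ[A] p)) = fun p => (1 : C) ⊗ₜ[A] p := by
        funext p; simp [μ]
      rw [this]
      exact Module.FaithfullyFlat.tensorProduct_mk_injective (B := C) P
    have h2 : ∀ p : P, i.rTensor N p = e ((1 : B) ⊗ₜ[A] p) := fun p => by
      induction p using TensorProduct.induction_on with
      | zero => simp only [TensorProduct.tmul_zero, map_zero]
      | tmul a n => simp [e, i, Algebra.smul_def]
      | add x y hx hy => simp only [TensorProduct.tmul_add, map_add, hx, hy]
    intro p p' h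
    rw [h2, h2] at h
    exact h1 (congrArg μ (e.injective h))
  have hc : ∀ z, g.lTensor B (i.rTensor N z) = i.rTensor N' (g.lTensor A z) := fun z => by
    rw [← LinearMap.comp_apply, ← LinearMap.comp_apply, LinearMap.lTensor_comp_rTensor,
      LinearMap.rTensor_comp_lTensor]
  intro z z' h
  exact hi N (Module.Flat.lTensor_preserves_injective_linearMap g hg (by rw [hc, hc, h]))

theorem flat_of_comp {R A B C : Type u} [CommRing R] [CommRing A] [CommRing B] [CommRing C]
    [IsLocalRing A] [IsLocalRing B] [IsLocalRing C]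
    (φ : R →+* A) (ψ : A →+* B) (χ : B →+* C) [IsLocalHom ψ] [IsLocalHom χ]
    (h1 : (ψ.comp φ).Flat) (h2 : (χ.comp ψ).Flat) : φ.Flat := by
  algebraize [φ, ψ, χ, ψ.comp φ, χ.comp ψ]
  haveI : Module.Flat R B := h1
  haveI : Module.Flat A C := h2
  haveI : IsLocalHom (algebraMap A C) := ⟨fun a ha => by
    have h : IsUnit (χ (ψ a)) := ha
    exact isUnit_of_map_unit ψ a (isUnit_of_map_unit χ _ h)⟩
  haveI : Module.FaithfullyFlat A C := Module.FaithfullyFlat.of_flat_of_isLocalHom
  exact flat_of_alg (B := B) (C := C)

/-- The case P = flat, single fppf cover: Let f : X ⟶ Y and q : Y ⟶ Z be morphisms of schemes, and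
suppose there is a flat, surjective morphism g : Y' ⟶ Y locally of finite presentation which factors
through f. If f ≫ q is flat, then q is flat. -/
theorem result {X Y Z Y' : Scheme.{u}} (f : X ⟶ Y) (q : Y ⟶ Z) (g : Y' ⟶ Y) [Flat g] [Surjective g]
    [LocallyOfFinitePresentation g] (l : Y' ⟶ X) (hl : l ≫ f = g) [Flat (f ≫ q)] : Flat q := by
  subst hl
  rw [Flat.iff_flat_stalkMap]
  intro y
  obtain ⟨y', rfl⟩ := (l ≫ f).surjective y
  have h1 : ((f.stalkMap (l y')).hom.comp (q.stalkMap ((l ≫ f) y')).hom).Flat := by
    have := (Flat.iff_flat_stalkMap (f ≫ q)).1 ‹_› (l y')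
    rw [Scheme.Hom.stalkMap_comp] at this
    exact this
  have h2 : ((l.stalkMap y').hom.comp (f.stalkMap (l y')).hom).Flat := by
    have := (Flat.iff_flat_stalkMap (l ≫ f)).1 ‹_› y'
    rw [Scheme.Hom.stalkMap_comp] at this
    exact this
  haveI hl1 : IsLocalHom (f.stalkMap (l y')).hom := inferInstance
  haveI hl2 : IsLocalHom (l.stalkMap y').hom := inferInstance
  exact @flat_of_comp _ _ _ _ _ _ _ _ _ _ _ _ _ _ hl1 hl2 h1 h2

end Groth.Agent.S1163
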