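import Groth.Statements.S1173
import Groth.Agent.HilbPtsLib.Smooth

set_option backward.isDefEq.respectTransparency false
set_option backward.isDefEq.respectTransparency.types false

set_option autoImplicit false
open CategoryTheory CategoryTheory.Limits AlgebraicGeometry
universe u
open HilbD

namespace Groth.Agent.S1173

/-- With X ⟶ S assumed separated, so that graphs of sections are closed subschemes: Let f : X ⟶ S be
smooth of relative dimension 1 and separated, and let (H, Z) and (H', Z') represent the Hilbert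
functors of points of X over S in degrees d and d + 1. Let T = H ×_S X with its point x : T ⟶ X.
Then the S-morphism T ⟶ H' classifying the closed subscheme Z_T + (graph of x) of X ×_S T is finite
locally free of degree d + 1. -/
theorem result {X S : Scheme.{u}} (f : X ⟶ S) [SmoothOfRelativeDimension 1 f] [IsSeparated f]
    (d : ℕ) (H : Over S) (Z : HilbD.Obj f d H) (hZ : HilbD.IsUniversal f d H Z)
    (H' : Over S) (Z' : HilbD.Obj f (d + 1) H') (hZ' : HilbD.IsUniversal f (d + 1) H' Z')
    (m : Over.mk (pullback.fst H.hom f ≫ H.hom) ⟶ H')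
    (hm : HilbD.pull f m Z'.1 =
      HilbD.pull f (Over.homMk (pullback.fst H.hom f) rfl : Over.mk (pullback.fst H.hom f ≫ H.hom) ⟶ H) Z.1 *
        HilbD.secGraph f (Over.mk (pullback.fst H.hom f ≫ H.hom)) (pullback.snd H.hom f) pullback.condition.symm) :
    Mor2.IsFinLocFreeOfDeg (d + 1) m.left := by
  obtain ⟨k, hkg, hkI, hdeg⟩ := HilbPts.SC.exists_sum f d H' H Z' hZ' Z hZ
  let σ : pullback H.hom f ⟶ pullback f H.hom := (pullbackSymmetry H.hom f).hom
  have hσ₁ : σ ≫ pullback.fst f H.hom = pullback.snd H.hom f := pullbackSymmetry_hom_comp_fst _ _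
  have hσ₂ : σ ≫ pullback.snd f H.hom = pullback.fst H.hom f := pullbackSymmetry_hom_comp_snd _ _
  let T := Over.mk (pullback.fst H.hom f ≫ H.hom)
  have wσ : σ ≫ pullback.snd f H.hom ≫ H.hom = T.hom := by rw [← Category.assoc, hσ₂]; rfl
  let v : T ⟶ H' := Over.homMk (σ ≫ k) (by
    show (σ ≫ k) ≫ H'.hom = T.hom
    rw [Category.assoc, hkg, wσ])
  haveI := HilbPts.SC.smooth_snd f T.hom
  have hprop : Mor2.IsFinLocFreeOfDeg (d + 1) ((HilbD.pull f (T' := T) m Z'.1).subschemeι ≫ PicF.XTproj f T) :=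
    HilbPts.prop_pull f m Z'
  have hv : m = v := by
    refine (hZ' T ⟨_, hprop⟩).unique rfl ?_
    show HilbD.pull f v Z'.1 = HilbD.pull f m Z'.1
    rw [hm, HilbPts.pull_eq, HilbPts.pull_eq]
    show Z'.1.comap (HilbPts.m f (σ ≫ k) _) = _
    rw [← HilbPts.m_comp f k hkg σ wσ, Scheme.IdealSheafData.comap_comp, hkI, HilbPts.SC.comap_mul, mul_comm]
    congr 1
    · rw [← Scheme.IdealSheafData.comap_comp, HilbPts.m_comp]
      congr 2
    · rw [HilbPts.SC.comap_secF]
      show _ = (pullback.lift (pullback.snd H.hom f) (𝟙 _) _).ker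
      congr 1
      exact pullback.hom_ext (by simp [HilbPts.SC.secF, hσ₁]) (by simp [HilbPts.SC.secF])
  rw [hv]
  exact HilbPts.isFinLocFreeOfDeg_of_isPullback (a := σ) (h := 𝟙 _) (IsPullback.of_horiz_isIso ⟨by
    show σ ≫ k = (σ ≫ k) ≫ 𝟙 _
    rw [Category.comp_id]⟩) hdeg

end Groth.Agent.S1173
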