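import Groth.Statements.S1181
import Groth.Agent.HilbPtsLib.Desc

set_option backward.isDefEq.respectTransparency false
set_option backward.isDefEq.respectTransparency.types false

set_option autoImplicit false
open CategoryTheory CategoryTheory.Limits AlgebraicGeometry
universe u
open HilbD

namespace Groth.Agent.S1181

/-- Let f : X ⟶ S, d a natural number, T an S-scheme and g : T' ⟶ T quasi-compact, flat and surjective,
viewed over S. Let Z' be a closed subscheme of X ×_S T' finite locally free of degree d over T'
whose two pullbacks to X ×_S (T' ×_T T') coincide. Then there is exactly one closed subscheme of X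
×_S T, finite locally free of degree d over T, pulling back to Z'. -/
theorem result {X S : Scheme.{u}} (f : X ⟶ S) (d : ℕ) (T : Over S) {T' : Scheme.{u}} (g : T' ⟶ T.left)
    [QuasiCompact g] [Flat g] [Surjective g] (Z' : HilbD.Obj f d (HilbD.coverOver T g))
    (hZ' : HilbD.pull f (HilbD.overlapFst T g) Z'.1 = HilbD.pull f (HilbD.overlapSnd T g) Z'.1) :
    ∃! I : (PicF.XT f T).IdealSheafData, Mor2.IsFinLocFreeOfDeg d (I.subschemeι ≫ PicF.XTproj f T) ∧
      HilbD.pull f (HilbD.coverHom T g) I = Z'.1 := by
  let w : g ≫ T.hom = (HilbD.coverOver T g).hom := rfl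
  let a := HilbPts.m f g w
  haveI : QuasiCompact a := MorphismProperty.of_isPullback (P := @QuasiCompact) (HilbPts.isPullback_m f g w).flip ‹_›
  haveI : Flat a := MorphismProperty.of_isPullback (P := @Flat) (HilbPts.isPullback_m f g w).flip ‹_›
  haveI : Surjective a := MorphismProperty.of_isPullback (P := @Surjective) (HilbPts.isPullback_m f g w).flip ‹_›
  have hp : ∀ I, HilbD.pull f (HilbD.coverHom T g) I = I.comap a := fun I => HilbPts.pull_eq f _ I
  rw [HilbPts.pull_eq f (HilbD.overlapFst T g), HilbPts.pull_eq f (HilbD.overlapSnd T g)] at hZ'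
  let w₀ : pullback.fst g g ≫ (HilbD.coverOver T g).hom = (HilbD.overlapOver T g).hom := Over.w (HilbD.overlapFst T g)
  let w₁ : pullback.snd g g ≫ (HilbD.coverOver T g).hom = (HilbD.overlapOver T g).hom := Over.w (HilbD.overlapSnd T g)
  have hZ : Z'.1.comap (HilbPts.m f (pullback.fst g g) w₀) = Z'.1.comap (HilbPts.m f (pullback.snd g g) w₁) := hZ'
  obtain ⟨I, hI⟩ := HilbPts.exists_desc a Z'.1 (fun {W} x₀ x₁ hx => by
    have h2 : (x₀ ≫ pullback.snd _ _) ≫ g = (x₁ ≫ pullback.snd _ _) ≫ g := by
      simpa [a, Category.assoc] using congrArg (· ≫ pullback.snd f T.hom) hx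
    have h1 : x₀ ≫ pullback.fst _ _ = x₁ ≫ pullback.fst _ _ := by
      simpa [a, Category.assoc] using congrArg (· ≫ pullback.fst f T.hom) hx
    let c := pullback.lift (f := g) (g := g) _ _ h2
    let e := pullback.lift (f := f) (g := (HilbD.overlapOver T g).hom) (x₀ ≫ pullback.fst f (HilbD.coverOver T g).hom) c
      (by rw [← w₀, ← Category.assoc c, pullback.lift_fst, Category.assoc, Category.assoc, pullback.condition])
    have e₀ : e ≫ HilbPts.m f (pullback.fst g g) w₀ = x₀ := by
      refine pullback.hom_ext ?_ ?_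
      · rw [Category.assoc, HilbPts.m_fst, pullback.lift_fst]
      · rw [Category.assoc, HilbPts.m_snd, ← Category.assoc, pullback.lift_snd, pullback.lift_fst]
    have e₁ : e ≫ HilbPts.m f (pullback.snd g g) w₁ = x₁ := by
      refine pullback.hom_ext ?_ ?_
      · rw [Category.assoc, HilbPts.m_fst, pullback.lift_fst]; exact h1
      · rw [Category.assoc, HilbPts.m_snd, ← Category.assoc, pullback.lift_snd, pullback.lift_snd]
    conv_lhs => rw [← e₀, Scheme.IdealSheafData.comap_comp]
    conv_rhs => rw [← e₁, Scheme.IdealSheafData.comap_comp]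
    exact congrArg (fun J => Scheme.IdealSheafData.comap J e) hZ)
  refine ⟨I, ⟨?_, (hp I).trans hI⟩, fun J hJ => HilbPts.eq_of_comap_eq a ?_⟩
  · refine HilbPts.isFinLocFreeOfDeg_descend (HilbPts.isPullback_comap_m f g w I) ?_
    have := Z'.2
    rw [← hI] at this
    exact this
  · exact ((hp J).symm.trans hJ.2).trans hI.symm

end Groth.Agent.S1181
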