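import Groth.Statements.S1183
import Groth.Agent.CohenLib.RegularField
import Groth.Agent.RegFlatLib.Basic

set_option autoImplicit false
universe u
open Desc

namespace Groth.Agent.S1183

/-- Let A → B be a smooth ring map of Noetherian rings and k a natural number. If A satisfies (R_k) then
so does B; and if moreover A → B is faithfully flat and B satisfies (R_k), then A does. -/
theorem result (A B : Type u) [CommRing A] [CommRing B] [IsNoetherianRing A] [IsNoetherianRing B]
    [Algebra A B] [Algebra.Smooth A B] (k : ℕ) :
    (LocCoh.HasRk k A → LocCoh.HasRk k B) ∧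
    (Module.FaithfullyFlat A B → LocCoh.HasRk k B → LocCoh.HasRk k A) := by
  classical
  haveI : Algebra.HasGoingDown A B := Algebra.HasGoingDown.of_flat
  have loc : ∀ (q : Ideal B) [q.IsPrime],
      (IsRegularLocalRing (Localization.AtPrime (q.under A)) → IsRegularLocalRing (Localization.AtPrime q)) ∧
      (IsRegularLocalRing (Localization.AtPrime q) → IsRegularLocalRing (Localization.AtPrime (q.under A))) := by
    intro q _
    let p := q.under A
    let Bq := Localization.AtPrime q
    letI : Algebra (Localization.AtPrime p) Bq :=
      (Localization.localRingHom p q (algebraMap A B) rfl).toAlgebra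
    haveI : IsScalarTower A (Localization.AtPrime p) Bq :=
      IsScalarTower.of_algebraMap_eq fun a => (Localization.localRingHom_to_map p q _ rfl a).symm
    haveI : IsLocalHom (algebraMap (Localization.AtPrime p) Bq) :=
      Localization.isLocalHom_localRingHom p q _ rfl
    haveI : IsNoetherianRing (Localization.AtPrime p) :=
      IsLocalization.isNoetherianRing p.primeCompl _ inferInstance
    haveI : IsNoetherianRing Bq := IsLocalization.isNoetherianRing q.primeCompl _ inferInstance
    haveI : Module.Flat A Bq := Module.Flat.trans A B Bq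
    haveI : Module.Flat (Localization.AtPrime p) Bq :=
      (Module.flat_iff_of_isLocalization (Localization.AtPrime p) p.primeCompl Bq).2 inferInstance
    haveI : Algebra.FormallySmooth B Bq := Algebra.FormallySmooth.of_isLocalization q.primeCompl
    haveI : Algebra.FormallySmooth A Bq := Algebra.FormallySmooth.comp A B Bq
    haveI : Algebra.FormallySmooth (Localization.AtPrime p) Bq :=
      Algebra.FormallySmooth.localization_base p.primeCompl
    refine ⟨fun h => ?_, fun h => ?_⟩
    · haveI := h
      exact CohenLib.isRegularLocalRing_of_formallySmooth_flat (Localization.AtPrime p) Bq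
    · haveI := h
      exact RegFlatLib.isRegularLocalRing_of_flat (Localization.AtPrime p) Bq
  refine ⟨fun hA q _ hq => (loc q).1 (hA _ (le_trans ?_ hq)), fun hff hB p _ hp => ?_⟩
  · haveI : q.LiesOver (q.under A) := ⟨rfl⟩
    rw [Ideal.height_eq_height_add_of_liesOver_of_hasGoingDown (q.under A) q]
    exact le_self_add
  · haveI := hff
    obtain ⟨Q, hQ⟩ := PrimeSpectrum.comap_surjective_of_faithfullyFlat (A := A) (B := B) ⟨p, inferInstance⟩
    have hQp : Q.asIdeal.under A = p := congrArg PrimeSpectrum.asIdeal hQ
    obtain ⟨q, hq, hqQ⟩ := Ideal.exists_minimalPrimes_le (I := p.map (algebraMap A B)) (J := Q.asIdeal)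
      (Ideal.map_le_iff_le_comap.mpr hQp.ge)
    haveI : q.IsPrime := hq.1.1
    have hqp : q.under A = p :=
      le_antisymm ((Ideal.comap_mono hqQ).trans hQp.le) (Ideal.map_le_iff_le_comap.mp hq.1.2)
    haveI : q.LiesOver p := ⟨hqp.symm⟩
    have hht : q.height = p.height := by
      rw [Ideal.height_eq_height_add_of_liesOver_of_hasGoingDown p q]
      have hmin : q.map (Ideal.Quotient.mk (p.map (algebraMap A B))) ∈
          minimalPrimes (B ⧸ p.map (algebraMap A B)) := by
        refine ⟨⟨Ideal.map_isPrime_of_surjective Ideal.Quotient.mk_surjective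
          (by rw [Ideal.mk_ker]; exact hq.1.2), bot_le⟩, fun r hr hle => ?_⟩
        haveI := hr.1
        have h1 : r.comap (Ideal.Quotient.mk (p.map (algebraMap A B))) ≤ q := by
          refine (Ideal.comap_mono hle).trans ?_
          rw [Ideal.comap_map_of_surjective _ Ideal.Quotient.mk_surjective, ← RingHom.ker_eq_comap_bot,
            Ideal.mk_ker, sup_eq_left.mpr hq.1.2]
        have h2 := hq.2 ⟨inferInstance, fun x hx =>
          (show Ideal.Quotient.mk (p.map (algebraMap A B)) x ∈ r by
            rw [Ideal.Quotient.eq_zero_iff_mem.mpr hx]; exact r.zero_mem)⟩ h1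
        refine Ideal.map_le_iff_le_comap.mpr h2
      haveI := hmin.1.1
      rw [Ideal.height_eq_zero_iff.mpr hmin, add_zero]
    have hreg := (loc q).2 (hB q (hht.trans_le hp))
    subst hqp
    exact hreg

end Groth.Agent.S1183
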