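import Groth.Statements.S1185
import Groth.Agent.PunctLefLib.FiniteSec
import Groth.Agent.PunctLefLib.Main
import Groth.Agent.RefHullLib.Generic
import Groth.Agent.PunctFEtLib.Punctured
import Groth.Agent.PurityGlueLib.Square
import Groth.Agent.PurityDescLib.Scheme

set_option autoImplicit false
universe u
open Pi1

namespace Groth.Agent.S1185
open AlgebraicGeometry CategoryTheory Opposite in
theorem bijective_ι_appTop {Z : Scheme.{u}} {V : Z.Opens} (hV : PunctFEtLib.Invisible V) :
    Function.Bijective V.ι.appTop := by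
  have e : V.ι ''ᵁ ⊤ = ⊤ ⊓ V := by rw [Scheme.Opens.ι_image_top, top_inf_eq]
  exact PunctFEtLib.map_bijective_of_eq hV e le_top

open AlgebraicGeometry CategoryTheory CategoryTheory.Limits in
/-- Finiteness of the sections and the extension criterion; the normality of the sections and the
equivalence of categories are not asserted: Let A be a normal Noetherian local domain of Krull
dimension at least 2 with punctured spectrum U, and V a finite etale cover of U. Then the ring of
global sections of V is finite over A (through the map induced by V ⟶ U ⟶ Spec A), and V is the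
restriction of a finite etale cover of Spec A if and only if that ring is etale over A. -/
theorem result (A : Type u) [CommRing A] [IsDomain A] [IsNoetherianRing A]
    [IsLocalRing A] [IsIntegrallyClosed A] (hdim : (2 : WithBot ℕ∞) ≤ ringKrullDim A)
    (V : FEt.Cat (FEt.puncturedSpec A : Scheme.{u})) :
    (((V.hom ≫ (FEt.puncturedSpec A).ι).appTop).hom.comp (Scheme.ΓSpecIso (CommRingCat.of A)).inv.hom).Finite ∧
    ((∃ Y : FEt.Cat (Spec (CommRingCat.of A)), Nonempty ((FEt.restrict (FEt.puncturedSpec A).ι).obj Y ≅ V)) ↔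
      (((V.hom ≫ (FEt.puncturedSpec A).ι).appTop).hom.comp (Scheme.ΓSpecIso (CommRingCat.of A)).inv.hom).Etale) := by
  haveI : IsFinite V.hom := V.prop.1
  haveI : Etale V.hom := V.prop.2
  have h2 : (2 : ℕ∞) ≤ LocCoh.depth A A := RefHullLib.two_le_depth_normal hdim
  let U := FEt.puncturedSpec A
  let φ : CommRingCat.of A ⟶ Γ(V.left, ⊤) := (Scheme.ΓSpecIso (CommRingCat.of A)).inv ≫ (V.hom ≫ U.ι).appTop
  have hfin : φ.hom.Finite := by
    obtain ⟨s, hs⟩ := IsNoetherian.noetherian (IsLocalRing.maximalIdeal A)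
    let fs := s.toList
    have hfs : Ideal.span {a | a ∈ fs} = IsLocalRing.maximalIdeal A := by
      rw [← hs]; congr 1; ext a; simp [fs]
    have hrg : Ideal.span (Set.range fs.get) = IsLocalRing.maximalIdeal A := by
      rw [← hfs, Set.range_list_get]
    obtain ⟨x, hx, hreg⟩ : ∃ x ∈ IsLocalRing.maximalIdeal A, IsSMulRegular A x := by
      obtain ⟨rs, hl, hm, hr⟩ := (CommAlgDim.le_depth_iff 2).1 h2
      match rs, hl with
      | x :: rs', _ => exact ⟨x, hm x List.mem_cons_self, ((RingTheory.Sequence.isWeaklyRegular_cons_iff _ _ _).1 hr).1⟩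
    exact PunctLefLib.finite_Γ_cover fs.get V.hom V.prop (PunctLefLib.puncturedSpec_eq _ hrg)
      (by rw [hrg]; exact Ideal.le_radical hx) hreg
      (PunctLefLib.kills_of_subsingleton_H fs _ hfs A (PunctLefLib.subsingleton_H_of_depth (n := 2) h2 (by omega)))
  haveI : CompactSpace (U : Scheme.{u}) :=
    isCompact_iff_compactSpace.mp (TopologicalSpace.NoetherianSpace.isCompact _)
  haveI : (U : Scheme.{u}).IsQuasiAffine := Scheme.IsQuasiAffine.of_isImmersion U.ι
  refine ⟨hfin, ⟨fun ⟨Y, ⟨e⟩⟩ => ?_, fun het => ?_⟩⟩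
  · haveI : IsFinite Y.hom := Y.prop.1
    haveI : Etale Y.hom := Y.prop.2
    let y : Y.left ⟶ Spec (CommRingCat.of A) := Y.hom
    haveI : IsFinite y := Y.prop.1
    haveI : Etale y := Y.prop.2
    haveI : IsAffine Y.left := isAffine_of_isAffineHom y
    have sq := PurityGlueLib.isPullback_of_iso e
    let k : V.left ⟶ Y.left := e.inv.left ≫ pullback.fst Y.hom U.ι
    have sqR : IsPullback (Y.hom ⁻¹ᵁ U).ι (Y.hom ∣_ U) Y.hom U.ι := (isPullback_morphismRestrict Y.hom U).flip
    let j : V.left ≅ ((Y.hom ⁻¹ᵁ U : Y.left.Opens) : Scheme.{u}) := sq.isoIsPullback _ _ sqR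
    have hk : k = j.hom ≫ (Y.hom ⁻¹ᵁ U).ι := (sq.isoIsPullback_hom_fst _ _ sqR).symm
    have hbij : Function.Bijective k.appTop := by
      rw [hk, Scheme.Hom.comp_appTop]
      haveI : IsIso j.hom.appTop := inferInstanceAs (IsIso (j.hom.app ⊤))
      exact (ConcreteCategory.bijective_of_isIso j.hom.appTop).comp
        (bijective_ι_appTop (PunctFEtLib.invisible_punctured A h2 Y))
    have hy : ((Scheme.ΓSpecIso (CommRingCat.of A)).inv ≫ Y.hom.appTop).hom.Etale := by
      have := (HasRingHomProperty.iff_of_isAffine (P := @Etale) (f := y)).1 inferInstance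
      exact RingHom.Etale.stableUnderComposition _ _
        (RingHom.Etale.of_bijective (ConcreteCategory.bijective_of_isIso (Scheme.ΓSpecIso (CommRingCat.of A)).inv)) this
    show φ.hom.Etale
    rw [show φ = ((Scheme.ΓSpecIso (CommRingCat.of A)).inv ≫ Y.hom.appTop) ≫ k.appTop by
      rw [Category.assoc, ← Scheme.Hom.comp_appTop, show k ≫ Y.hom = V.hom ≫ U.ι from sq.w]]
    exact RingHom.Etale.stableUnderComposition _ _ hy (RingHom.Etale.of_bijective hbij)
  · let z : Spec Γ(V.left, ⊤) ⟶ Spec (CommRingCat.of A) := Spec.map φ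
    have hz : FEt.prop z := ⟨(IsFinite.SpecMap_iff φ).2 hfin, (HasRingHomProperty.Spec_iff (P := @Etale)).2 het⟩
    haveI : IsIso U.ι.appTop := (ConcreteCategory.isIso_iff_bijective _).2
      (bijective_ι_appTop (PunctFEtLib.invisible_punctured A h2
        (MorphismProperty.Over.mk ⊤ (𝟙 (Spec (CommRingCat.of A))) (MorphismProperty.id_mem _ _))))
    let c : Spec Γ((U : Scheme.{u}), ⊤) ⟶ Spec (CommRingCat.of A) :=
      Spec.map ((Scheme.ΓSpecIso (CommRingCat.of A)).inv ≫ U.ι.appTop)
    have hc : (U : Scheme.{u}).toSpecΓ ≫ c = U.ι := PurityDescLib.toSpec_appTop U.ι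
    have hzc : Spec.map V.hom.appTop ≫ c = z := by
      show _ = Spec.map ((Scheme.ΓSpecIso (CommRingCat.of A)).inv ≫ (V.hom ≫ U.ι).appTop)
      rw [← Spec.map_comp, Category.assoc, Scheme.Hom.comp_appTop]
    refine ⟨MorphismProperty.Over.mk ⊤ z hz, PurityGlueLib.nonempty_iso_of_isPullback (k := V.left.toSpecΓ) ?_⟩
    let v : V.left ⟶ (U : Scheme.{u}) := V.hom
    haveI : IsFinite v := V.prop.1
    exact (Scheme.isPullback_toSpecΓ_toSpecΓ v).flip.of_iso (Iso.refl _) (Iso.refl _) (Iso.refl _) (asIso c)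
      (by first | exact (Category.comp_id _) | exact (Category.comp_id _).trans (Category.id_comp _).symm) (by simp [v]) (hzc.trans (Category.id_comp z).symm) (by simpa [U] using hc)

end Groth.Agent.S1185
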