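import Groth.Statements.S1190
import Groth.Agent.GalFunLib.Whisker

set_option autoImplicit false
universe u v w
open CategoryTheory PreGaloisCategory
open Pi1

namespace Groth.Agent.S1190

/-- Let H : C ⥤ C' and H' : C' ⥤ C'' be exact functors between Galois categories, F'' a fibre functor on
C'' with F'' ∘ H' and F'' ∘ H' ∘ H fibre functors, and h', h the induced homomorphisms of
fundamental groups. Then: h is surjective, h ∘ h' is trivial and the kernel of h is the closed
normal subgroup generated by the image of h', if and only if H is fully faithful and its essential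
image consists exactly of those X' in C' for which H'(X') is a finite coproduct of copies of the
final object. -/
theorem result {C C' C'' : Type u} [Category.{v} C] [Category.{v} C'] [Category.{v} C'']
    [GaloisCategory C] [GaloisCategory C'] [GaloisCategory C'']
    (H : C ⥤ C') [Limits.PreservesFiniteLimits H] [Limits.PreservesFiniteColimits H]
    (H' : C' ⥤ C'') [Limits.PreservesFiniteLimits H'] [Limits.PreservesFiniteColimits H']
    (F'' : C'' ⥤ FintypeCat.{w}) [FiberFunctor F''] [FiberFunctor (H' ⋙ F'')] [FiberFunctor (H ⋙ (H' ⋙ F''))] :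
    (Function.Surjective (Pi1X.autWhisker H (H' ⋙ F'')) ∧
      (∀ σ : Aut F'', Pi1X.autWhisker H (H' ⋙ F'') (Pi1X.autWhisker H' F'' σ) = 1) ∧
      (Pi1X.autWhisker H (H' ⋙ F'')).ker = (Subgroup.normalClosure (Set.range (Pi1X.autWhisker H' F''))).topologicalClosure) ↔
    ((H.Full ∧ H.Faithful) ∧
      ∀ X' : C', (∃ X : C, Nonempty (H.obj X ≅ X')) ↔ ∃ n : ℕ, Nonempty (H'.obj X' ≅ ∐ fun _ : Fin n => ⊤_ C'')) := by
  classical
  let G' := H' ⋙ F''
  let G := H ⋙ G'
  let u := Pi1X.autWhisker H G'
  let u' := Pi1X.autWhisker H' F''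
  have hsplit : ∀ X' : C', (∃ n : ℕ, Nonempty (H'.obj X' ≅ Limits.sigmaObj fun _ : Fin n => Limits.terminal C'')) ↔
      ∀ (σ : Aut F'') (x : G'.obj X'), u' σ • x = x :=
    fun X' => GalFunLib.exists_iso_coprod_iff F'' (H'.obj X')
  have hiso : ∀ {X : C} {X' : C'}, (H.obj X ≅ X') → ∀ (τ : Aut G'), u τ = 1 →
      ∀ x : G'.obj X', τ • x = x := by
    intro X X' i τ hτ x
    have hx : G'.map i.hom (G'.map i.inv x) = x := by
      rw [← FintypeCat.comp_apply, ← G'.map_comp, i.inv_hom_id, G'.map_id]; rfl
    rw [← hx, ← GalFunLib.map_smul, (GalFunLib.whisker_eq_one_iff H G' τ).1 hτ X]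
  have hclosed : IsClosed (u.ker : Set (Aut G')) := by
    show IsClosed (u ⁻¹' {1})
    exact isClosed_singleton.preimage (GalFunLib.continuous_autWhisker H G')
  have hle : (∀ σ : Aut F'', u (u' σ) = 1) →
      (Subgroup.normalClosure (Set.range u')).topologicalClosure ≤ u.ker := fun h =>
    Subgroup.topologicalClosure_minimal _
      (Subgroup.normalClosure_le_normal (by rintro _ ⟨σ, rfl⟩; exact h σ)) hclosed
  constructor
  · rintro ⟨hu, htriv, hker⟩
    refine ⟨GalFunLib.full_faithful_of_surjective H G' hu, fun X' => ⟨?_, ?_⟩⟩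
    · rintro ⟨X, ⟨i⟩⟩
      exact (hsplit X').2 fun σ => hiso i _ (htriv σ)
    · intro hX'
      have hN : ∀ x : G'.obj X', u.ker ≤ MulAction.stabilizer (Aut G') x := by
        intro x
        rw [hker]
        refine Subgroup.topologicalClosure_minimal _ ?_
          (Subgroup.isClosed_of_isOpen _ (stabilizer_isOpen (Aut G') x))
        refine (Subgroup.normalClosure_le_normal
          (N := (MulAction.toPermHom (Aut G') (G'.obj X')).ker) ?_).trans fun g hg => ?_
        · rintro _ ⟨σ, rfl⟩
          exact MonoidHom.mem_ker.2 (Equiv.ext fun y => (hsplit X').1 hX' σ y)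
        · exact Equiv.congr_fun (MonoidHom.mem_ker.1 hg) x
      have key : ∀ (a b : Aut G'), u a = u b → ∀ x : G'.obj X', a • x = b • x := by
        intro a b hab x
        have := hN x (show b⁻¹ * a ∈ u.ker by rw [MonoidHom.mem_ker, map_mul, map_inv, hab, inv_mul_cancel])
        rw [MulAction.mem_stabilizer_iff, mul_smul, inv_smul_eq_iff] at this
        exact this
      choose s hs using hu
      let Q : Type w := G'.obj X'
      letI : Fintype Q := Fintype.ofFinite _
      letI : MulAction (Aut G) Q :=
        { smul := fun g q => s g • (show G'.obj X' from q)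
          one_smul := fun q => (key _ 1 (by rw [hs, map_one]) q).trans (one_smul (Aut G') (q : G'.obj X'))
          mul_smul := fun g g' q => (key _ (s g * s g') (by rw [hs, map_mul, hs, hs]) q).trans (mul_smul (s g) (s g') (q : G'.obj X')) }
      letI : TopologicalSpace Q := ⊥
      haveI : DiscreteTopology Q := ⟨rfl⟩
      have hquot : Topology.IsQuotientMap u :=
        (GalFunLib.continuous_autWhisker H G').isClosedMap.isQuotientMap
          (GalFunLib.continuous_autWhisker H G') fun g => ⟨s g, hs g⟩
      haveI : ContinuousSMul (Aut G) Q := ⟨by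
        refine continuous_prod_of_discrete_right.2 fun q => continuous_discrete_rng.2 fun r => ?_
        rw [← hquot.isOpen_preimage]
        haveI : ContinuousSMul (Aut G') (G'.obj X') := continuousSMul_aut_fiber G' X'
        have hopen : IsOpen ((fun a : Aut G' => a • (show G'.obj X' from q)) ⁻¹' {(show G'.obj X' from r)}) :=
          (isOpen_discrete _).preimage (continuous_id.smul continuous_const)
        convert hopen using 1
        ext a
        show s (u a) • (show G'.obj X' from q) = r ↔ a • (show G'.obj X' from q) = r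
        rw [key _ a (hs (u a))]⟩
      obtain ⟨X, e, he⟩ := GalFunLib.exists_obj_of_action G Q
      obtain ⟨f, hf⟩ := GalFunLib.exists_hom_of_equivariant G' (X := H.obj X) (Y := X') e fun a x =>
        (he (u a) x).trans (key _ a (hs (u a)) (e x))
      haveI : IsIso (G'.map f) := by
        rw [ConcreteCategory.isIso_iff_bijective]
        exact ⟨fun a b h => e.injective ((hf a).symm.trans (h.trans (hf b))),
          fun y => ⟨e.symm y, (hf _).trans (e.apply_symm_apply y)⟩⟩
      haveI := isIso_of_reflects_iso f G'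
      exact ⟨X, ⟨asIso f⟩⟩
  · rintro ⟨⟨hfull, -⟩, himg⟩
    haveI := hfull
    have hu : Function.Surjective u := GalFunLib.surjective_of_preservesConnected H G' fun X _ =>
      GalFunLib.preservesConnected_of_full H G' X
    have htriv : ∀ σ : Aut F'', u (u' σ) = 1 := fun σ =>
      (GalFunLib.whisker_eq_one_iff H G' (u' σ)).2 fun X x =>
        (hsplit (H.obj X)).1 ((himg (H.obj X)).1 ⟨X, ⟨Iso.refl _⟩⟩) σ x
    refine ⟨hu, htriv, le_antisymm (fun σ hσ => ?_) (hle htriv)⟩
    show σ ∈ closure ((Subgroup.normalClosure (Set.range u')) : Set (Aut G'))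
    rw [mem_closure_iff_nhds]
    intro t ht
    have ht' : (fun τ => σ * τ) ⁻¹' t ∈ nhds (1 : Aut G') :=
      (continuous_const_mul σ).continuousAt.preimage_mem_nhds (by rwa [mul_one])
    obtain ⟨A, -, hA⟩ := (nhds_one_has_basis_stabilizers G').mem_iff.1 ht'
    obtain ⟨X', x, hX', hx⟩ := GalFunLib.exists_connected_stabilizer G'
      (Subgroup.normalClosure (Set.range u') ⊔ MulAction.stabilizer (Aut G') A.pt)
      (Subgroup.isOpen_mono le_sup_right (stabilizer_isOpen (Aut G') A.pt))
    haveI := hX'
    obtain ⟨X, ⟨i⟩⟩ := (himg X').2 ((hsplit X').2 fun τ y => by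
      obtain ⟨g, rfl⟩ := MulAction.exists_smul_eq (Aut G') x y
      have hc := hx.ge (Subgroup.mem_sup_left (Subgroup.normalClosure_normal.conj_mem (u' τ)
        (Subgroup.subset_normalClosure (s := Set.range u') ⟨τ, rfl⟩) g⁻¹))
      rw [inv_inv, MulAction.mem_stabilizer_iff, mul_smul, mul_smul, inv_smul_eq_iff] at hc
      exact hc)
    have hmem : σ ∈ MulAction.stabilizer (Aut G') x := hiso i σ hσ x
    rw [hx, ← SetLike.mem_coe, Subgroup.normal_mul] at hmem
    obtain ⟨n, hn, s, hs, hns⟩ := hmem
    refine ⟨n, ?_, hn⟩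
    have hmem2 := hA ((MulAction.stabilizer (Aut G') A.pt).inv_mem hs)
    rw [Set.mem_preimage, ← hns] at hmem2
    simpa using hmem2

end Groth.Agent.S1190
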