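import Groth.Statements.S1191
import Mathlib
import Mathlib
-- import your own Groth.Agent.* helpers here

set_option autoImplicit false
universe u
open FlatMor

namespace Groth.Agent.S1191

open TensorProduct in
/-- For a finitely presented algebra S over R, a finitely presented S-module N and a prime q of S over
p, some element of S outside q maps into every associated prime of the fibre module of N over p that
is not contained in the extension of q to the fibre ring. -/
theorem result {R S : Type u} [CommRing R] [CommRing S] [Algebra R S] [Algebra.FinitePresentation R S]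
    (N : Type u) [AddCommGroup N] [Module S N] [Module R N] [IsScalarTower R S N] [Module.FinitePresentation S N]
    (p : Ideal R) [p.IsPrime] (q : Ideal S) [q.IsPrime] [q.LiesOver p] :
    ∃ g : S, g ∉ q ∧ ∀ r ∈ associatedPrimes (p.Fiber S) (FlatCA.fiberMod p S N),
      ¬ r ≤ FlatCA.fiberIdeal p q → (1 : p.ResidueField) ⊗ₜ[R] g ∈ r := by
  classical
  haveI : IsNoetherianRing (p.Fiber S) := Algebra.FiniteType.isNoetherianRing p.ResidueField _
  haveI : Module.Finite (p.Fiber S) (FlatCA.fiberMod p S N) := by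
    letI : Algebra S (p.Fiber S) := Algebra.TensorProduct.rightAlgebra
    exact Module.Finite.base_change S (p.Fiber S) N
  have hfin := associatedPrimes.finite (p.Fiber S) (FlatCA.fiberMod p S N)
  let T := hfin.toFinset.filter (fun r => ¬ r ≤ FlatCA.fiberIdeal p q)
  have key : ∀ r : Ideal (p.Fiber S), ∃ s : S, r ∈ T → s ∉ q ∧ (1 : p.ResidueField) ⊗ₜ[R] s ∈ r := by
    intro r
    by_cases hr : r ∈ T
    · obtain ⟨x, hx, hxq⟩ := SetLike.not_le_iff_exists.1 (Finset.mem_filter.1 hr).2
      obtain ⟨a, ha, s, hs⟩ := Ideal.Fiber.exists_smul_eq_one_tmul _ x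
      refine ⟨s, fun _ => ⟨fun hsq => hxq ?_, hs ▸ Submodule.smul_of_tower_mem r a hx⟩⟩
      have h1 : a • x ∈ FlatCA.fiberIdeal p q := by rw [hs]; exact Ideal.mem_map_of_mem _ hsq
      have hu : IsUnit (algebraMap R (p.Fiber S) a) := by
        rw [IsScalarTower.algebraMap_apply R p.ResidueField (p.Fiber S)]
        exact (Ne.isUnit (mt Ideal.algebraMap_residueField_eq_zero.1 ha)).map _
      rw [Algebra.smul_def] at h1
      exact (Ideal.unit_mul_mem_iff_mem _ hu).1 h1
    · exact ⟨1, fun h => absurd h hr⟩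
  choose s hs using key
  refine ⟨∏ r ∈ T, s r, ?_, fun r hr hrq => ?_⟩
  · intro hmem
    obtain ⟨r, hr, hsr⟩ := Ideal.IsPrime.prod_mem_iff.1 hmem
    exact (hs r hr).1 hsr
  · have hT : r ∈ T := Finset.mem_filter.2 ⟨hfin.mem_toFinset.2 hr, hrq⟩
    rw [← Finset.mul_prod_erase T s hT]
    have : (1 : p.ResidueField) ⊗ₜ[R] (s r * ∏ x ∈ T.erase r, s x) =
        ((1 : p.ResidueField) ⊗ₜ[R] s r) * ((1 : p.ResidueField) ⊗ₜ[R] ∏ x ∈ T.erase r, s x) := by
      rw [Algebra.TensorProduct.tmul_mul_tmul, one_mul]
    rw [this]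
    exact r.mul_mem_right _ (hs r hT).2

end Groth.Agent.S1191
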