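import Groth.Statements.S1192
import Groth.Agent.WeakAssTensLib.Main

set_option autoImplicit false
universe u
open FlatMor

namespace Groth.Agent.S1192

open TensorProduct in
/-- For a finitely presented ring map from R to S, a finitely presented S-module N which is flat over R,
an arbitrary R-module M and a prime q of S over the prime p of R: q is weakly associated to the
S-module N ⊗ M exactly when p is weakly associated to M and the extension of q to the fibre ring
over p is an associated prime of the fibre module of N. -/
theorem result {R S : Type u} [CommRing R] [CommRing S] [Algebra R S] [Algebra.FinitePresentation R S]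
    (N : Type u) [AddCommGroup N] [Module S N] [Module R N] [IsScalarTower R S N] [Module.FinitePresentation S N] [Module.Flat R N]
    (M : Type u) [AddCommGroup M] [Module R M]
    (p : Ideal R) [p.IsPrime] (q : Ideal S) [q.IsPrime] [q.LiesOver p] :
    q ∈ FlatCA.weakAss S (N ⊗[R] M) ↔
      (p ∈ FlatCA.weakAss R M ∧ FlatCA.fiberIdeal p q ∈ associatedPrimes (p.Fiber S) (FlatCA.fiberMod p S N)) := by
  have hflat : FlatCA.FlatAt R q N := by
    unfold FlatCA.FlatAt
    rw [Module.Flat.iff_lTensor_injectiveₛ]
    intro P _ _ Q
    rw [← TensorProduct.AlgebraTensorModule.coe_lTensor (A := S),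
      ← IsLocalizedModule.map_lTensor (S := q.primeCompl) (g := LocalizedModule.mkLinearMap q.primeCompl N)]
    exact IsLocalizedModule.map_injective _ _ _ _
      (Module.Flat.lTensor_preserves_injective_linearMap _ Q.injective_subtype)
  refine ⟨fun h => ⟨WeakAssTensLib.mem_weakAss_base p q hflat h, ?_⟩,
    fun h => WeakAssTensLib.mem_weakAss_tensor p q hflat h.1 h.2⟩
  obtain ⟨z, hz⟩ := h
  obtain ⟨P, hP, hPq⟩ := FlatInjLib.mem_associatedPrimes_of_mem_minimalPrimes p q hflat M z hz
  haveI : P.IsPrime := IsAssociatedPrime.isPrime hP
  rw [(congrArg (FlatCA.fiberIdeal p) hPq.symm).trans (FlatInjLib.fiberIdeal_comap p P)]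
  exact hP

end Groth.Agent.S1192
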