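import Groth.Statements.S1193
import Mathlib
import Mathlib
-- import your own Groth.Agent.* helpers here

set_option autoImplicit false
universe u
open FlatMor

namespace Groth.Agent.S1193

open IsLocalRing in
/-- Let R be a local ring, S an R-algebra whose closed fibre ring is Noetherian and N an S-module whose
closed fibre module N/𝔪N is finite. Let Σ be the set of elements of S acting injectively on N/𝔪N.
Then a prime of S is disjoint from Σ exactly when it lies inside an associated prime of N/𝔪N (the
primes of the localization at Σ), the localization of S at Σ has finitely many maximal ideals, and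
an ideal of that localization is maximal exactly when it is prime and contracts to a maximal member
of the set of associated primes of N/𝔪N. -/
theorem result {R S : Type u} [CommRing R] [IsLocalRing R] [CommRing S] [Algebra R S]
    (N : Type u) [AddCommGroup N] [Module S N] [Module R N] [IsScalarTower R S N]
    [IsNoetherianRing ((maximalIdeal R).Fiber S)]
    [Module.Finite ((maximalIdeal R).Fiber S) (FlatCA.fiberMod (maximalIdeal R) S N)] :
    (∀ (q : Ideal S) [q.IsPrime], Disjoint (q : Set S) (FlatCA.nzdFiber R S N) ↔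
        ∃ q' ∈ associatedPrimes S (FlatCA.fiberMod (maximalIdeal R) S N), q ≤ q') ∧
    {Q : Ideal (Localization (FlatCA.nzdFiber R S N)) | Q.IsMaximal}.Finite ∧
    (∀ Q : Ideal (Localization (FlatCA.nzdFiber R S N)), Q.IsMaximal ↔ (Q.IsPrime ∧
        Maximal (fun r => r ∈ associatedPrimes S (FlatCA.fiberMod (maximalIdeal R) S N))
          (Q.comap (algebraMap S (Localization (FlatCA.nzdFiber R S N)))))) := by
  classical
  set F := (maximalIdeal R).Fiber S
  set M := FlatCA.fiberMod (maximalIdeal R) S N
  let ι : S →+* F := (Algebra.TensorProduct.includeRight (R := R) (A := (maximalIdeal R).ResidueField) (B := S)).toRingHom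
  have hsmul : ∀ (s : S) (z : M), s • z = ι s • z := by
    letI : Algebra S F := Algebra.TensorProduct.rightAlgebra
    have aux : ∀ (s : S) (z : TensorProduct S F N), s • z = ι s • z := fun s z => (algebraMap_smul F s z).symm
    exact aux
  let T : Finset (Ideal S) := (associatedPrimes.finite F M).toFinset.image (Ideal.comap ι)
  have hT : ∀ t ∈ T, t ∈ associatedPrimes S M := by
    intro t ht
    obtain ⟨P, hP, rfl⟩ := Finset.mem_image.1 ht
    obtain ⟨hp, x, rfl⟩ := (associatedPrimes.finite F M).mem_toFinset.1 hP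
    refine ⟨hp.comap ι, x, ?_⟩
    rw [Ideal.comap_radical]
    congr 1
  have hnz : ∀ s : S, s ∈ FlatCA.nzdFiber R S N ↔ ∀ t ∈ T, s ∉ t := by
    intro s
    rw [mem_nonZeroSMulDivisors_iff]
    constructor
    · intro hs t ht hst
      obtain ⟨hp, x, hx⟩ := hT t ht
      rw [hx, Ideal.mem_radical_iff] at hst
      obtain ⟨m, hm⟩ := hst
      rw [Submodule.mem_colon_singleton, Submodule.mem_bot] at hm
      have : ∀ j : ℕ, s ^ j • x = 0 → x = 0 := by
        intro j
        induction j with
        | zero => simp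
        | succ j ih =>
          intro h
          rw [pow_succ', mul_smul] at h
          exact ih (hs _ h)
      apply hp.ne_top
      rw [hx, this m hm]
      simp
    · intro hs z hz
      by_contra h0
      have : ι s ∈ ⋃ p ∈ associatedPrimes F M, (p : Set F) := by
        rw [biUnion_associatedPrimes_eq_zero_divisors]
        exact ⟨z, h0, by rw [← hsmul]; exact hz⟩
      obtain ⟨P, hP, hsP⟩ := Set.mem_iUnion₂.1 this
      exact hs _ (Finset.mem_image_of_mem _ ((associatedPrimes.finite F M).mem_toFinset.2 hP)) hsP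
  have havoid : ∀ q : Ideal S, Disjoint (q : Set S) (FlatCA.nzdFiber R S N) → ∃ t ∈ T, q ≤ t := by
    intro q hq
    refine (Ideal.subset_union_prime (f := fun i => i) ⊤ ⊤ (fun t ht _ _ => (hT t ht).1)).1 fun x hx => ?_
    by_contra hne
    exact Set.disjoint_left.1 hq hx ((hnz x).2 fun t ht hxt => hne (Set.mem_iUnion₂.2 ⟨t, ht, hxt⟩))
  have hdis : ∀ q' ∈ associatedPrimes S M, Disjoint (q' : Set S) (FlatCA.nzdFiber R S N) := by
    intro q' hq'
    obtain ⟨hp, x, hx⟩ := hq'
    rw [Set.disjoint_left]
    intro s hs hsz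
    rw [SetLike.mem_coe, hx, Ideal.mem_radical_iff] at hs
    obtain ⟨m, hm⟩ := hs
    rw [Submodule.mem_colon_singleton, Submodule.mem_bot] at hm
    apply hp.ne_top
    have := (mem_nonZeroSMulDivisors_iff.1 (pow_mem hsz m)) x hm
    rw [hx, this]
    simp
  have part1 : ∀ (q : Ideal S) [q.IsPrime], Disjoint (q : Set S) (FlatCA.nzdFiber R S N) ↔
      ∃ q' ∈ associatedPrimes S M, q ≤ q' := fun q _ =>
    ⟨fun h => let ⟨t, ht, hqt⟩ := havoid q h; ⟨t, hT t ht, hqt⟩,
      fun ⟨q', hq', hle⟩ => (hdis q' hq').mono_left hle⟩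
  have part3 : ∀ Q : Ideal (Localization (FlatCA.nzdFiber R S N)), Q.IsMaximal ↔ (Q.IsPrime ∧
      Maximal (fun r => r ∈ associatedPrimes S M) (Q.comap (algebraMap S _))) := by
    intro Q
    let L := Localization (FlatCA.nzdFiber R S N)
    have hup : ∀ (Q : Ideal L), Q.IsPrime → ∀ r ∈ associatedPrimes S M, Q.comap (algebraMap S L) ≤ r →
        ∃ Q' : Ideal L, Q'.IsPrime ∧ Q ≤ Q' ∧ Q'.comap (algebraMap S L) = r := by
      intro Q _ r hr hle
      refine ⟨r.map (algebraMap S L), IsLocalization.isPrime_of_isPrime_disjoint (FlatCA.nzdFiber R S N) L r hr.1 (hdis r hr).symm, ?_,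
        IsLocalization.comap_map_of_isPrime_disjoint (FlatCA.nzdFiber R S N) L hr.1 (hdis r hr).symm⟩
      rw [← IsLocalization.map_comap (FlatCA.nzdFiber R S N) L Q]
      exact Ideal.map_mono hle
    constructor
    · intro hQ
      have hqd : Disjoint ((FlatCA.nzdFiber R S N : Set S)) (Q.comap (algebraMap S L)) :=
        ((IsLocalization.isPrime_iff_isPrime_disjoint (FlatCA.nzdFiber R S N) L Q).1 hQ.isPrime).2
      obtain ⟨t, ht, hle⟩ := havoid _ hqd.symm
      obtain ⟨Q', hQ', hQQ', hc⟩ := hup Q hQ.isPrime t (hT t ht) hle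
      have heq : Q = Q' := hQ.eq_of_le hQ'.ne_top hQQ'
      refine ⟨hQ.isPrime, ?_, ?_⟩
      · rw [heq, hc]; exact hT t ht
      · intro r hr hle'
        obtain ⟨Q'', hQ'', hQQ'', hc''⟩ := hup Q hQ.isPrime r hr hle'
        rw [← hc'', ← hQ.eq_of_le hQ''.ne_top hQQ'']
    · rintro ⟨hQ, hmem, hmax⟩
      obtain ⟨Q', hQ'max, hQQ'⟩ := Q.exists_le_maximal hQ.ne_top
      have hqd : Disjoint ((FlatCA.nzdFiber R S N : Set S)) (Q'.comap (algebraMap S L)) :=
        ((IsLocalization.isPrime_iff_isPrime_disjoint (FlatCA.nzdFiber R S N) L Q').1 hQ'max.isPrime).2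
      obtain ⟨t, ht, hle⟩ := havoid _ hqd.symm
      have h1 : Q.comap (algebraMap S L) ≤ Q'.comap (algebraMap S L) := Ideal.comap_mono hQQ'
      have h2 : Q'.comap (algebraMap S L) ≤ Q.comap (algebraMap S L) :=
        hle.trans (hmax (hT t ht) (h1.trans hle))
      have : Q = Q' := by
        exact ((IsLocalization.map_comap (FlatCA.nzdFiber R S N) L Q).symm.trans
          (congrArg (Ideal.map (algebraMap S L)) (le_antisymm h1 h2))).trans
          (IsLocalization.map_comap (FlatCA.nzdFiber R S N) L Q')
      rw [this]; exact hQ'max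
  refine ⟨part1, ?_, part3⟩
  refine ((T.finite_toSet.image (Ideal.map (algebraMap S (Localization (FlatCA.nzdFiber R S N))))).subset ?_)
  intro Q hQ
  obtain ⟨hp, hmem, hmax⟩ := (part3 Q).1 hQ
  obtain ⟨t, ht, hle⟩ := havoid _ (hdis _ hmem)
  exact ⟨_, ht, by rw [← le_antisymm hle (hmax (hT t ht) hle), IsLocalization.map_comap (FlatCA.nzdFiber R S N)]⟩

end Groth.Agent.S1193
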