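import Groth.Statements.S1196
import Mathlib
import Groth.Agent.FlatInjLib.AssFibre
import Groth.Agent.FlatInjLib.ProjUniv
-- import your own Groth.Agent.* helpers here

set_option autoImplicit false
universe u
open FlatMor

namespace Groth.Agent.S1196

open TensorProduct IsLocalRing in
/-- Let R → S be a local homomorphism of local rings, essentially of finite presentation, N a finitely
presented S-module flat over R, and S' a flat S-algebra such that every prime of S which is an
associated prime of N/𝔪_R N is the contraction of a prime of S'. Then N → S' ⊗_S N is universally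
injective as a map of R-modules. -/
theorem result {R S S' : Type u} [CommRing R] [IsLocalRing R] [CommRing S] [IsLocalRing S] [CommRing S'] [Algebra R S] [IsLocalHom (algebraMap R S)] [Algebra S S'] [Algebra R S'] [IsScalarTower R S S']
    (hS : FlatCA.EssFinitePresentation R S) [Module.Flat S S']
    (N : Type u) [AddCommGroup N] [Module S N] [Module R N] [IsScalarTower R S N] [Module.FinitePresentation S N] [Module.Flat R N]
    (h : ∀ q ∈ associatedPrimes S (FlatCA.fiberMod (maximalIdeal R) S N),
      ∃ q' : Ideal S', q'.IsPrime ∧ q'.comap (algebraMap S S') = q) :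
    FlatCA.UnivInj R ((TensorProduct.mk S S' N 1).restrictScalars R) := by
  classical
  haveI : Module.Flat R (S' ⊗[S] N) := by
    refine Module.Flat.iff_lTensor_injective.2 fun I _ => ?_
    let i : N ⊗[R] I →ₗ[S] N ⊗[R] R := TensorProduct.AlgebraTensorModule.lTensor S N I.subtype
    have h1 : Function.Injective (LinearMap.lTensor S' i) :=
      Module.Flat.lTensor_preserves_injective_linearMap (M := S') i
        (Module.Flat.lTensor_preserves_injective_linearMap (M := N) I.subtype I.injective_subtype)
    have h2 : ∀ z, TensorProduct.AlgebraTensorModule.assoc R S S' S' N R (I.subtype.lTensor (S' ⊗[S] N) z) =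
        LinearMap.lTensor S' i (TensorProduct.AlgebraTensorModule.assoc R S S' S' N I z) := fun z => by
      induction z using TensorProduct.induction_on with
      | zero => simp
      | tmul a b =>
        induction a using TensorProduct.induction_on with
        | zero => simp [TensorProduct.zero_tmul]
        | tmul c d => rfl
        | add a a' ha ha' => simp only [TensorProduct.add_tmul, map_add, ha, ha']
      | add a b ha hb => simp only [map_add, ha, hb]
    intro a b hab
    apply (TensorProduct.AlgebraTensorModule.assoc R S S' S' N I).injective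
    apply h1
    rw [← h2, ← h2, hab]
  obtain ⟨S₀, _, _, _, _, T, _, _⟩ := hS
  haveI : Algebra.EssFiniteType S₀ S := Algebra.EssFiniteType.of_isLocalization S T
  haveI : Algebra.EssFiniteType R S := Algebra.EssFiniteType.comp R S₀ S
  let m := maximalIdeal R
  haveI : IsNoetherianRing (m.Fiber S) := Algebra.EssFiniteType.isNoetherianRing m.ResidueField _
  let u : N →ₗ[S] S' ⊗[S] N := TensorProduct.mk S S' N 1
  refine fun Q _ _ => FlatInjLib.lTensor_injective_of_injective_mod (A := R) u (fun x hx => ?_) Q
  rw [← FlatInjLib.toFiberMod_eq_zero_iff (S := S)]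
  by_contra hne
  let F := FlatCA.fiberMod m S N
  let xb : F := FlatCA.toFiberMod m S N x
  have hzero : (1 : S') ⊗ₜ[S] xb = 0 := by
    have h1 : ∀ y ∈ m • (⊤ : Submodule R (S' ⊗[S] N)), LinearMap.lTensor S' (FlatCA.toFiberMod m S N) y = 0 := by
      intro y hy
      rw [FlatInjLib.mem_smul_top_iff_map (B := S)] at hy
      refine Submodule.smul_induction_on hy (fun a ha w hw => ?_) fun a b ha hb => by rw [map_add, ha, hb, add_zero]
      clear hw
      induction w using TensorProduct.induction_on with
      | zero => rw [smul_zero, map_zero]
      | tmul c d =>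
        rw [TensorProduct.smul_tmul', TensorProduct.smul_tmul, LinearMap.lTensor_tmul,
          FibAssLib.toFiberMod_map_eq_zero m (Submodule.smul_mem_smul ha Submodule.mem_top), TensorProduct.tmul_zero]
      | add a b ha hb => rw [smul_add, map_add, ha, hb, add_zero]
    exact h1 _ hx
  have htop := FlatInjLib.map_annihilator_eq_top_of_tmul_eq_zero (S' := S') xb hzero
  obtain ⟨P, hP, hle⟩ := exists_le_isAssociatedPrime_of_isNoetherianRing (m.Fiber S) xb hne
  haveI : P.IsPrime := hP.1
  have hass : P.comap (FibAssLib.incl S m) ∈ associatedPrimes S F := by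
    obtain ⟨hPp, y, hy⟩ := hP
    refine ⟨Ideal.IsPrime.comap _, y, ?_⟩
    rw [hy, Ideal.comap_radical]
    congr 1
  obtain ⟨q', hq', hq'q⟩ := h _ hass
  refine hq'.ne_top (top_le_iff.1 (htop ▸ Ideal.map_le_iff_le_comap.2 fun s hs => ?_))
  rw [hq'q]
  refine hle (Submodule.mem_colon_singleton.2 ?_)
  rw [Submodule.mem_bot, ← FibAssLib.smul_eq]
  exact (Submodule.mem_annihilator_span_singleton _ _).1 hs

end Groth.Agent.S1196
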