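import Groth.Statements.S6346
import Groth.Agent.ProjLib.MLOps
import Groth.Agent.ProjLib.FlatML

set_option autoImplicit false
universe u
open scoped TensorProduct
open CAlg

namespace Groth.Agent.S6346
open TensorProduct

/-- Let M be a flat module over a commutative ring R. Then M is Mittag-Leffler exactly when, for each
finite free module F = R^n and each element x of F ⊗ M there is a smallest submodule F' of F such
that x lies in the image of F' ⊗ M → F ⊗ M. -/
theorem result (R : Type u) [CommRing R] (M : Type u)
    [AddCommGroup M] [Module R M] [Module.Flat R M] :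
    CAlg.IsMittagLeffler R M ↔
      ∀ (n : ℕ) (x : (Fin n → R) ⊗[R] M), ∃ F' : Submodule R (Fin n → R),
        x ∈ LinearMap.range (F'.subtype.rTensor M) ∧
        ∀ F'' : Submodule R (Fin n → R), x ∈ LinearMap.range (F''.subtype.rTensor M) → F' ≤ F'' := by
  classical
  constructor
  · intro h n x
    obtain ⟨F', -, h1, h2⟩ := ProjLib.exists_smallest_submodule h x
    exact ⟨F', h1, h2⟩
  · intro h ι Q _ _
    rw [← LinearMap.ker_eq_bot, LinearMap.ker_eq_bot']
    intro z hz
    obtain ⟨T, rfl⟩ := TensorProduct.exists_finset z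
    rw [← Finset.sum_coe_sort T, ← T.equivFin.symm.sum_comp] at hz ⊢
    suffices key : ∀ (l : ℕ) (m : Fin l → M) (w : Fin l → ∀ i, Q i),
        TensorProduct.piRightHom R R M Q (∑ i, m i ⊗ₜ[R] w i) = 0 →
          ∑ i, m i ⊗ₜ[R] w i = (0 : M ⊗[R] (∀ i, Q i)) from key _ _ _ hz
    clear hz
    intro l m w hz
    let x : (Fin l → R) ⊗[R] M := ∑ i, Pi.single i (1 : R) ⊗ₜ[R] m i
    obtain ⟨F', hxF', hmin⟩ := h _ x
    have hperp : ∀ v ∈ F', ∑ i, v i • w i = 0 := by
      intro v hv
      funext a
      have ha : ∑ i, m i ⊗ₜ[R] w i a = 0 := by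
        simpa [map_sum, Finset.sum_apply] using congrFun hz a
      obtain ⟨k, A, y, h1, h2⟩ := ProjLib.vanish_of_flat m (fun i => w i a) ha
      let F'' : Submodule R (Fin l → R) := Submodule.span R (Set.range fun j i => A i j)
      have hx'' : x ∈ LinearMap.range (F''.subtype.rTensor M) := by
        have hx : x = ∑ j, (fun i => A i j) ⊗ₜ[R] y j := by
          simp only [x, h1, TensorProduct.tmul_sum, TensorProduct.tmul_smul,
            ← TensorProduct.smul_tmul']
          rw [Finset.sum_comm]
          refine Finset.sum_congr rfl fun j _ => ?_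
          conv_rhs => rw [pi_eq_sum_univ' fun i => A i j]
          rw [TensorProduct.sum_tmul]
          simp only [TensorProduct.smul_tmul']
        rw [hx]
        exact Submodule.sum_mem _ fun j _ =>
          ⟨⟨_, Submodule.subset_span ⟨j, rfl⟩⟩ ⊗ₜ y j, rfl⟩
      have hle : F'' ≤ LinearMap.ker (Fintype.linearCombination R fun i => w i a) := by
        rw [Submodule.span_le]
        rintro _ ⟨j, rfl⟩
        simpa [Fintype.linearCombination_apply] using h2 j
      simpa [Fintype.linearCombination_apply, Finset.sum_apply] using hle (hmin F'' hx'' hv)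
    obtain ⟨t, ht⟩ := hxF'
    let Θ : (Fin l → R) ⊗[R] M →ₗ[R] M ⊗[R] (∀ i, Q i) :=
      (Fintype.linearCombination R w).lTensor M ∘ₗ (TensorProduct.comm R _ M).toLinearMap
    have h1 : Θ x = ∑ i, m i ⊗ₜ[R] w i := by
      simp [Θ, x, map_sum]
    rw [← h1, ← ht]
    clear ht
    induction t using TensorProduct.induction_on with
    | zero => simp
    | tmul v y =>
      have := hperp v v.2
      simp [Θ, Fintype.linearCombination_apply, this]
    | add a b ha hb => simp [ha, hb]

end Groth.Agent.S6346
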