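import Groth.Statements.S6347
import Groth.Agent.ProjLib.MLOps
import Groth.Agent.S6346
import Mathlib.RingTheory.Flat.Basic

set_option autoImplicit false
universe u
open CAlg

namespace Groth.Agent.S6347
open TensorProduct

/-- Over a Noetherian ring R, the product module R^A (functions from any set A to R) is flat and
Mittag-Leffler. -/
theorem result (R : Type u) [CommRing R] [IsNoetherianRing R]
    (A : Type u) : Module.Flat R (A → R) ∧ CAlg.IsMittagLeffler R (A → R) := by
  classical
  have hflat : Module.Flat R (A → R) := by
    rw [Module.Flat.iff_rTensor_injective']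
    intro I
    have hfp : Module.FinitePresentation R I := Module.finitePresentation_of_finite R I
    rw [← LinearMap.ker_eq_bot, LinearMap.ker_eq_bot']
    intro z hz
    apply ProjLib.piRightHom_injective (R := R) (Q := fun _ : A => R) I
    rw [map_zero]
    funext a
    apply (TensorProduct.rid R I).injective
    rw [Pi.zero_apply, map_zero]
    apply Subtype.ext
    have h2 : ∀ w : (I : Submodule R R) ⊗[R] (A → R),
        ((TensorProduct.rid R I (TensorProduct.piRightHom R R I (fun _ : A => R) w a) : I) : R) =
          (TensorProduct.lid R (A → R) ((Submodule.subtype I).rTensor (A → R) w)) a := by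
      intro w
      induction w using TensorProduct.induction_on with
      | zero => simp
      | tmul i f => simp [mul_comm]
      | add a b ha hb => simp [ha, hb]
    rw [h2 z, hz]
    simp
  refine ⟨hflat, (Groth.Agent.S6346.result R (A → R)).2 fun n x => ?_⟩
  let e : (Fin n → R) ⊗[R] (A → R) →ₗ[R] A → (Fin n → R) :=
    (LinearMap.pi fun a => (TensorProduct.rid R (Fin n → R)).toLinearMap ∘ₗ LinearMap.proj a) ∘ₗ
      TensorProduct.piRightHom R R (Fin n → R) (fun _ : A => R)
  have he : Function.Injective e := fun p q hpq => by
    apply ProjLib.piRightHom_injective (R := R) (Q := fun _ : A => R) (Fin n → R)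
    funext a
    exact (TensorProduct.rid R (Fin n → R)).injective (congrFun hpq a)
  have hsub : ∀ (F : Submodule R (Fin n → R)) (w : F ⊗[R] (A → R)) a,
      e (F.subtype.rTensor (A → R) w) a =
        ((TensorProduct.rid R F (TensorProduct.piRightHom R R F (fun _ : A => R) w a) : F) :
          Fin n → R) := by
    intro F w a
    induction w using TensorProduct.induction_on with
    | zero => simp
    | tmul v f => simp [e]
    | add p q hp hq => simp [hp, hq]
  refine ⟨Submodule.span R (Set.range (e x)), ?_, fun F'' h => Submodule.span_le.2 ?_⟩
  · let F' := Submodule.span R (Set.range (e x))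
    have : Module.FinitePresentation R F' := Module.finitePresentation_of_finite R F'
    obtain ⟨t, ht⟩ := ProjLib.piRightHom_surjective (R := R) (Q := fun _ : A => R) F'
      (fun a => (⟨e x a, Submodule.subset_span ⟨a, rfl⟩⟩ : F') ⊗ₜ[R] (1 : R))
    refine ⟨t, he (funext fun a => ?_)⟩
    rw [hsub, ht]
    simp
  · rintro _ ⟨a, rfl⟩
    obtain ⟨w, rfl⟩ := h
    rw [hsub]
    exact Subtype.prop _

end Groth.Agent.S6347
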