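import Groth.Statements.S1198
import Groth.Agent.ProjLib.CompletionRetract
import Groth.Agent.S1197
import Mathlib.RingTheory.Flat.Basic

set_option autoImplicit false
universe u
open FlatMor

namespace Groth.Agent.S1198

/-- Let R be a Noetherian ring complete with respect to an ideal I and M a flat R-module whose reduction
M/IM is projective over R/I. Then M's I-adic completion is a flat and Mittag-Leffler R-module. -/
theorem result (R : Type u) [CommRing R] [IsNoetherianRing R] (I : Ideal R) [IsAdicComplete I R]
    (M : Type u) [AddCommGroup M] [Module R M] [Module.Flat R M]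
    [Module.Projective (R ⧸ I) (M ⧸ (I • ⊤ : Submodule R M))] :
    Module.Flat R (AdicCompletion I M) ∧ CAlg.IsMittagLeffler R (AdicCompletion I M) := by
  obtain ⟨hflat, hML⟩ := Groth.Agent.S1197.result R I M
  have hπ : Function.Surjective (Finsupp.linearCombination R (id : M → M)) := fun m =>
    ⟨Finsupp.single m 1, (Finsupp.linearCombination_single R _ _).trans (one_smul R m)⟩
  obtain ⟨σ, hσ⟩ := ProjLib.exists_completion_section I M _ hπ
  have h : ((AdicCompletion.map I (Finsupp.linearCombination R (id : M → M))).restrictScalars R).comp σ =
      LinearMap.id := LinearMap.ext hσ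
  exact ⟨Module.Flat.of_retract σ _ h, ProjLib.IsMittagLeffler.of_retract hML σ _ h⟩

end Groth.Agent.S1198
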