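import Groth.Statements.S1199
import Mathlib
import Groth.Agent.FlatInjLib.Main
-- import your own Groth.Agent.* helpers here

set_option autoImplicit false
universe u
open FlatMor

namespace Groth.Agent.S1199

open TensorProduct in
/-- Let R → S be a map of Noetherian rings, I an ideal of R and N a finite S-module. Assume that for
every finite R-module Q and every associated prime q of the S-module N ⊗_R Q the ideal IS + q is
proper. Then the canonical map from N to its I-adic completion is universally injective as a map of
R-modules. -/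
theorem result {R S : Type u} [CommRing R] [CommRing S] [Algebra R S] [IsNoetherianRing R] [IsNoetherianRing S] (I : Ideal R)
    (N : Type u) [AddCommGroup N] [Module S N] [Module R N] [IsScalarTower R S N] [Module.Finite S N]
    (h : ∀ (Q : Type u) [AddCommGroup Q] [Module R Q], Module.Finite R Q →
      ∀ q ∈ associatedPrimes S (N ⊗[R] Q), I.map (algebraMap R S) ⊔ q ≠ ⊤) :
    FlatCA.UnivInj R (AdicCompletion.of I N) := by
  classical
  intro Q _ _
  refine (injective_iff_map_eq_zero _).2 fun z hz => ?_
  obtain ⟨P, hP, t, rfl⟩ := TensorProduct.exists_of_fg z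
  have h1 : LinearMap.rTensor (AdicCompletion I N) P.subtype ((AdicCompletion.of I N).lTensor P t) = 0 := by
    rw [← LinearMap.comp_apply, LinearMap.rTensor_comp_lTensor]
    rw [← LinearMap.comp_apply, LinearMap.lTensor_comp_rTensor] at hz
    exact hz
  obtain ⟨P', hPP', hP', hzero⟩ := TensorProduct.eq_zero_of_fg_of_subtype_eq_zero hP h1
  let t' : P' ⊗[R] N := LinearMap.rTensor N (Submodule.inclusion hPP') t
  have ht' : (AdicCompletion.of I N).lTensor P' t' = 0 := by
    rw [← hzero, ← LinearMap.comp_apply, LinearMap.lTensor_comp_rTensor, ← LinearMap.comp_apply,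
      LinearMap.rTensor_comp_lTensor]
  suffices h0 : t' = 0 by
    rw [show P.subtype = P'.subtype ∘ₗ Submodule.inclusion hPP' from rfl, LinearMap.rTensor_comp, LinearMap.comp_apply,
      show LinearMap.rTensor N (Submodule.inclusion hPP') t = t' from rfl, h0, map_zero]
  haveI : Module.Finite R P' := Module.Finite.iff_fg.2 hP'
  let x : N ⊗[R] P' := TensorProduct.comm R P' N t'
  haveI : Module.Finite S (N ⊗[R] P') := by
    obtain ⟨k, π, hπ⟩ := Module.Finite.exists_fin' R P'
    let e : (Fin k → N) →ₗ[S] N ⊗[R] P' := ∑ i, ((TensorProduct.AlgebraTensorModule.mk R S N P').flip (π (Pi.single i 1))).comp (LinearMap.proj i)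
    refine Module.Finite.of_surjective e fun w => ?_
    induction w using TensorProduct.induction_on with
    | zero => exact ⟨0, map_zero _⟩
    | tmul a b =>
      obtain ⟨c, rfl⟩ := hπ b
      refine ⟨fun i => c i • a, ?_⟩
      conv_rhs => rw [pi_eq_sum_univ' c, map_sum, TensorProduct.tmul_sum]
      simp only [e, LinearMap.coe_sum, Finset.sum_apply, LinearMap.comp_apply]
      refine Finset.sum_congr rfl fun i _ => ?_
      show (c i • a) ⊗ₜ[R] π (Pi.single i 1) = _
      rw [TensorProduct.smul_tmul, map_smul]
    | add a b ha hb =>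
      obtain ⟨u, rfl⟩ := ha
      obtain ⟨v, rfl⟩ := hb
      exact ⟨u + v, map_add _ _ _⟩
  let J := I.map (algebraMap R S)
  have hx : x ∈ (⨅ n : ℕ, J ^ n • ⊤ : Submodule S (N ⊗[R] P')) := by
    refine (Submodule.mem_iInf _).2 fun n => ?_
    rw [← Ideal.map_pow, ← FlatInjLib.mem_smul_top_iff_map]
    have h2 : (Submodule.mkQ (I ^ n • ⊤ : Submodule R N)).lTensor P' t' = 0 := by
      rw [← AdicCompletion.eval_comp_of, LinearMap.lTensor_comp, LinearMap.comp_apply, ht', map_zero]
    obtain ⟨w, hw⟩ := (lTensor_exact P' (LinearMap.exact_subtype_mkQ (I ^ n • ⊤ : Submodule R N))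
      (Submodule.mkQ_surjective _) t').1 h2
    have hle : ∀ w : P' ⊗[R] ↥(I ^ n • ⊤ : Submodule R N),
        TensorProduct.comm R P' N ((Submodule.subtype _).lTensor P' w) ∈ I ^ n • (⊤ : Submodule R (N ⊗[R] P')) := by
      intro w
      induction w using TensorProduct.induction_on with
      | zero => simp
      | tmul a b =>
        rw [LinearMap.lTensor_tmul, TensorProduct.comm_tmul]
        have hb : (TensorProduct.mk R N P').flip a (b : N) ∈ (I ^ n • ⊤ : Submodule R N).map ((TensorProduct.mk R N P').flip a) :=
          Submodule.mem_map_of_mem b.2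
        rw [Submodule.map_smul''] at hb
        exact Submodule.smul_mono le_rfl le_top hb
      | add a b ha hb => rw [map_add, map_add]; exact add_mem ha hb
    show TensorProduct.comm R P' N t' ∈ _
    rw [← hw]
    exact hle w
  obtain ⟨r, hr⟩ := (J.mem_iInf_smul_pow_eq_bot_iff x).1 hx
  by_contra hne
  have hx0 : x ≠ 0 := fun h0 => hne ((TensorProduct.comm R P' N).injective (h0.trans (map_zero _).symm))
  obtain ⟨q, hq, hle⟩ := exists_le_isAssociatedPrime_of_isNoetherianRing S x hx0
  refine h P' inferInstance q hq ((Ideal.eq_top_iff_one _).2 ?_)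
  have h3 : (1 : S) - r ∈ q := hle (Submodule.mem_colon_singleton.2 (by
    rw [Submodule.mem_bot, sub_smul, one_smul, hr, sub_self]))
  have h4 := Submodule.add_mem_sup r.2 h3
  rwa [add_sub_cancel] at h4

end Groth.Agent.S1199
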