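import Groth.Statements.S9670
import Groth.Agent.FibAssLib.Flat
import Mathlib.RingTheory.Ideal.AssociatedPrime.Finiteness


-- import your own Groth.Agent.* helpers here

set_option autoImplicit false
universe u
open CAlg

namespace Groth.Agent.S9670

open TensorProduct in
/-- Part (5): (B_fin ⊆ A_fin): let R → S be a ring map with R Noetherian, N an S-module flat over R, M a
finite R-module, q a prime of S and p the prime of R below q; an associated prime of a module is a
prime ideal equal to the annihilator of some element. If q is an associated prime of the S-module N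
⊗_R M, then q is an associated prime of the S-module N/pN. -/
theorem result {R S : Type u} [CommRing R] [CommRing S] [Algebra R S] (N : Type u) [AddCommGroup N] [Module S N] [Module R N] [IsScalarTower R S N] [IsNoetherianRing R] [Module.Flat R N]
    (M : Type u) [AddCommGroup M] [Module R M] [Module.Finite R M] (p : Ideal R) [p.IsPrime] (q : Ideal S) [q.IsPrime] (hq : q.comap (algebraMap R S) = p)
    (h : q ∈ FlatCA.ass S (N ⊗[R] M)) :
    q ∈ FlatCA.ass S (N ⧸ (p.map (algebraMap R S)) • (⊤ : Submodule S N)) := by
  classical
  have key : ∀ (M : Type u) [AddCommGroup M] [Module R M] (_ : Module.Finite R M),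
      q ∈ FlatCA.ass S (N ⊗[R] M) → ∃ p' : PrimeSpectrum R, q ∈ FlatCA.ass S (FibAssLib.quot (S := S) N p'.1) := by
    intro M _ _ hM
    refine IsNoetherianRing.induction_on_isQuotientEquivQuotientPrime R hM
      (motive := fun M _ _ _ => q ∈ FlatCA.ass S (N ⊗[R] M) → ∃ p' : PrimeSpectrum R, q ∈ FlatCA.ass S (FibAssLib.quot (S := S) N p'.1))
      ?_ ?_ ?_
    · intro M _ _ _ _
      rintro ⟨hq, x, hx⟩
      have hx0 : x = 0 := Subsingleton.elim _ _
      refine (hq.ne_top ((Ideal.eq_top_iff_one _).2 ?_)).elim
      rw [hx, Submodule.mem_annihilator_span_singleton, hx0, smul_zero]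
    · intro M _ _ _ p' e h
      refine ⟨p', FibAssLib.mem_ass_of_injective
        (((FibAssLib.equivTensor S N p'.1).symm.toLinearMap).comp (TensorProduct.AlgebraTensorModule.lTensor S N e.toLinearMap)) ?_ h⟩
      exact (FibAssLib.equivTensor S N p'.1).symm.injective.comp (Module.Flat.lTensor_preserves_injective_linearMap (M := N) e.toLinearMap e.injective)
    · intro M₁ _ _ _ M₂ _ _ _ M₃ _ _ _ f g hf hg he h1 h3 h
      exact (FibAssLib.mem_ass_of_exact (TensorProduct.AlgebraTensorModule.lTensor S N f) (TensorProduct.AlgebraTensorModule.lTensor S N g)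
        (Module.Flat.lTensor_preserves_injective_linearMap (M := N) f hf) (lTensor_exact N he hg) h).elim h1 h3
  obtain ⟨p', hp'⟩ := key M inferInstance h
  have he : p'.1 = p := by
    rw [← hq, FibAssLib.comap_eq_of_mem_ass p'.1 (FibAssLib.mem_ass_of_injective _ (FibAssLib.β_injective p'.1) hp')]
  subst he
  exact hp'

end Groth.Agent.S9670
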