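import Groth.Statements.S1200
import Mathlib
import Groth.Agent.S1199
import Groth.Agent.S9670
import Groth.Agent.FlatInjLib.AssFlat
-- import your own Groth.Agent.* helpers here

set_option autoImplicit false
universe u
open FlatMor

namespace Groth.Agent.S1200

/-- Let R → S be a map of Noetherian rings, I an ideal of R and N a finite S-module which is flat over
R. Assume that for every prime q of S, over p in R, whose extension to the fibre ring over p is an
associated prime of the fibre module of N, the ideal IS + q is proper. Then the canonical map from N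
to its I-adic completion is universally injective as a map of R-modules. -/
theorem result {R S : Type u} [CommRing R] [CommRing S] [Algebra R S] [IsNoetherianRing R] [IsNoetherianRing S] (I : Ideal R)
    (N : Type u) [AddCommGroup N] [Module S N] [Module R N] [IsScalarTower R S N] [Module.Finite S N] [Module.Flat R N]
    (h : ∀ (p : Ideal R) (q : Ideal S) [p.IsPrime] [q.IsPrime] [q.LiesOver p],
      FlatCA.fiberIdeal p q ∈ associatedPrimes (p.Fiber S) (FlatCA.fiberMod p S N) → I.map (algebraMap R S) ⊔ q ≠ ⊤) :
    FlatCA.UnivInj R (AdicCompletion.of I N) := by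
  refine Groth.Agent.S1199.result (S := S) I N fun Q _ _ _ q hq => ?_
  obtain ⟨hqp, x, hx⟩ := isAssociatedPrime_iff.1 hq
  haveI := hqp
  let p := q.comap (algebraMap R S)
  have hass : q ∈ FlatCA.ass S (TensorProduct R N Q) := ⟨hqp, x, by
    rw [hx]
    ext s
    rw [Submodule.mem_colon_singleton, Submodule.mem_annihilator_span_singleton, Submodule.mem_bot]⟩
  have h2 : q ∈ FlatCA.ass S (FlatCA.fiberMod p S N) :=
    FibAssLib.mem_ass_of_injective _ (FibAssLib.β_injective p) (Groth.Agent.S9670.result N Q p q rfl hass)
  obtain ⟨P, ⟨hP, y, hy⟩, hPq⟩ := FibAssLib.exists_of_mem_ass p h2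
  haveI := hP
  haveI : q.LiesOver p := ⟨rfl⟩
  refine h p q ?_
  rw [show FlatCA.fiberIdeal p q = P from (congrArg (FlatCA.fiberIdeal p) hPq.symm).trans (FlatInjLib.fiberIdeal_comap p P)]
  refine ⟨hP, y, ?_⟩
  conv_lhs => rw [← hP.radical, hy]
  congr 1
  ext s
  rw [Submodule.mem_colon_singleton, Submodule.mem_annihilator_span_singleton, Submodule.mem_bot]

end Groth.Agent.S1200
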