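import Groth.Statements.S1203
import Groth.Agent.ProjLib.CompletionRetract
import Groth.Agent.DevissExLib.PureDescent
import Groth.Agent.FlatInjLib.AssFibre
import Groth.Agent.S1197

set_option autoImplicit false
universe u
open FlatMor

namespace Groth.Agent.S1203

/-- Let R be a Noetherian ring complete with respect to an ideal I, S a finite type R-algebra and N a
finite S-module which is flat over R, such that N/IN is a projective R/I-module and such that for
every prime q of S, over p in R, whose extension to the fibre ring over p is an associated prime of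
the fibre module of N, the ideal IS + q is proper. Then N is a projective R-module. -/
theorem result {R S : Type u} [CommRing R] [CommRing S] [Algebra R S] [IsNoetherianRing R] (I : Ideal R) [IsAdicComplete I R]
    [Algebra.FiniteType R S]
    (N : Type u) [AddCommGroup N] [Module S N] [Module R N] [IsScalarTower R S N] [Module.Finite S N] [Module.Flat R N]
    [Module.Projective (R ⧸ I) (N ⧸ (I • ⊤ : Submodule R N))]
    (h : ∀ (p : Ideal R) (q : Ideal S) [p.IsPrime] [q.IsPrime] [q.LiesOver p],
      FlatCA.fiberIdeal p q ∈ associatedPrimes (p.Fiber S) (FlatCA.fiberMod p S N) → I.map (algebraMap R S) ⊔ q ≠ ⊤) :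
    Module.Projective R N := by
  classical
  let Nh := AdicCompletion I N
  let π : (N →₀ R) →ₗ[R] N := Finsupp.linearCombination R id
  have hπ : Function.Surjective π := fun n => ⟨Finsupp.single n 1, by simp [π]⟩
  obtain ⟨σ, hσ⟩ := ProjLib.exists_completion_section I N π hπ
  obtain ⟨hflatF, hMLF⟩ := Groth.Agent.S1197.result R I N
  haveI := hflatF
  let πh : AdicCompletion I (N →₀ R) →ₗ[R] Nh := (AdicCompletion.map I π).restrictScalars R
  have hid : πh.comp σ = LinearMap.id := LinearMap.ext hσ
  haveI : Module.Flat R Nh := Module.Flat.of_retract σ πh hid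
  have hML : CAlg.IsMittagLeffler R Nh := ProjLib.IsMittagLeffler.of_retract hMLF σ πh hid
  let ofN : N →ₗ[R] Nh := AdicCompletion.of I N
  -- injectivity on finite modules
  have hfin : ∀ (Q : Type u) [AddCommGroup Q] [Module R Q] [Module.Finite R Q],
      Function.Injective (ofN.rTensor Q) := by
    intro Q _ _ _
    refine (injective_iff_map_eq_zero _).2 fun z hz => ?_
    by_contra hz0
    haveI : IsNoetherianRing S := Algebra.FiniteType.isNoetherianRing R S
    haveI : Module.Finite S (TensorProduct R N Q) := by
      obtain ⟨G, hG⟩ := (inferInstance : Module.Finite S N).fg_top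
      obtain ⟨H, hH⟩ := (inferInstance : Module.Finite R Q).fg_top
      refine ⟨⟨(G ×ˢ H).image fun x => x.1 ⊗ₜ[R] x.2, eq_top_iff.2 ?_⟩⟩
      rintro t -
      induction t using TensorProduct.induction_on with
      | zero => exact zero_mem _
      | add a b ha hb => exact add_mem ha hb
      | tmul n x =>
        have hn : n ∈ Submodule.span S (G : Set N) := hG ▸ trivial
        induction hn using Submodule.span_induction with
        | zero => rw [TensorProduct.zero_tmul]; exact zero_mem _
        | add a b _ _ ha hb => rw [TensorProduct.add_tmul]; exact add_mem ha hb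
        | smul c a _ ha => rw [← TensorProduct.smul_tmul']; exact Submodule.smul_mem _ c ha
        | mem n hn =>
          have hx : x ∈ Submodule.span R (H : Set Q) := hH ▸ trivial
          induction hx using Submodule.span_induction with
          | zero => rw [TensorProduct.tmul_zero]; exact zero_mem _
          | add a b _ _ ha hb => rw [TensorProduct.tmul_add]; exact add_mem ha hb
          | smul c a _ ha => rw [TensorProduct.tmul_smul, ← algebraMap_smul S c]; exact Submodule.smul_mem _ _ ha
          | mem x hx =>
            refine Submodule.subset_span ?_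
            rw [Finset.coe_image]
            exact ⟨(n, x), Finset.mem_product.2 ⟨hn, hx⟩, rfl⟩
    let J : Ideal S := I.map (algebraMap R S)
    have hmem : ∀ k : ℕ, z ∈ J ^ k • (⊤ : Submodule S (TensorProduct R N Q)) := by
      intro k
      let W : Submodule R N := I ^ k • ⊤
      have h1 : W.mkQ.rTensor Q z = 0 := by
        have hcomp : (AdicCompletion.eval I N k).comp ofN = W.mkQ := LinearMap.ext fun n => rfl
        rw [← hcomp, LinearMap.rTensor_comp, LinearMap.comp_apply, hz, map_zero]
      have hex : Function.Exact W.subtype W.mkQ := LinearMap.exact_subtype_mkQ W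
      obtain ⟨y, hy⟩ := (rTensor_exact Q hex W.mkQ_surjective z).1 h1
      rw [← hy]
      clear hy h1
      induction y using TensorProduct.induction_on with
      | zero => rw [map_zero]; exact zero_mem _
      | add a b ha hb => rw [map_add]; exact add_mem ha hb
      | tmul w x =>
        rw [LinearMap.rTensor_tmul]
        obtain ⟨w, hw⟩ := w
        show w ⊗ₜ[R] x ∈ _
        refine Submodule.smul_induction_on hw (fun a ha n _ => ?_) fun a b ha hb => by
          rw [TensorProduct.add_tmul]; exact add_mem ha hb
        rw [← TensorProduct.smul_tmul', ← algebraMap_smul S a]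
        refine Submodule.smul_mem_smul ?_ trivial
        rw [← Ideal.map_pow]
        exact Ideal.mem_map_of_mem _ ha
    obtain ⟨r, hr⟩ := (Ideal.mem_iInf_smul_pow_eq_bot_iff J z).1 (Submodule.mem_iInf _ |>.2 hmem)
    obtain ⟨p, q, _, _, _, hass, hle⟩ := FlatInjLib.exists_relAss_annihilator_le (S := S) (N := N) Q z hz0
    refine h p q hass ((Ideal.eq_top_iff_one _).2 ?_)
    have h1 : (1 : S) - r ∈ q := hle _ (by rw [sub_smul, one_smul, hr, sub_self])
    have h2 := add_mem (Submodule.mem_sup_left (T := q) r.2) (Submodule.mem_sup_right (S := J) h1)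
    rwa [add_sub_cancel] at h2
  -- universal injectivity
  have huniv : ∀ (Q : Type u) [AddCommGroup Q] [Module R Q], Function.Injective (ofN.rTensor Q) := by
    intro Q _ _
    refine (injective_iff_map_eq_zero _).2 fun z hz => ?_
    obtain ⟨T, hT⟩ := TensorProduct.exists_finset z
    let Q' : Submodule R Q := Submodule.span R (T.image Prod.snd : Set Q)
    haveI : Module.Finite R Q' := Module.Finite.span_of_finite R (Finset.finite_toSet _)
    obtain ⟨z', rfl⟩ : ∃ z', Q'.subtype.lTensor N z' = z := by
      refine ⟨∑ x ∈ T.attach, x.1.1 ⊗ₜ[R] (⟨x.1.2, Submodule.subset_span (Finset.mem_image_of_mem _ x.2)⟩ : Q'), ?_⟩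
      rw [map_sum, hT]
      exact Finset.sum_attach T fun x => x.1 ⊗ₜ[R] x.2
    have hc : ∀ w : TensorProduct R N Q', ofN.rTensor Q (Q'.subtype.lTensor N w) =
        Q'.subtype.lTensor Nh (ofN.rTensor Q' w) := fun w => by
      induction w using TensorProduct.induction_on with
      | zero => simp
      | tmul a b => simp
      | add a b ha hb => simp only [map_add, ha, hb]
    rw [hc] at hz
    have h0 : ofN.rTensor Q' z' = 0 :=
      Module.Flat.lTensor_preserves_injective_linearMap _ Q'.subtype_injective (hz.trans (map_zero _).symm)
    rw [hfin Q' (h0.trans (map_zero _).symm), map_zero]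
  exact DevissExLib.projective_of_univInj hML ofN huniv (DevissExLib.exists_countable_span R (C := S))

end Groth.Agent.S1203
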