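import Groth.Statements.S1204
import Mathlib
import Groth.Agent.FlatInjLib.FibreBasis
import Groth.Agent.RGFlatLib.RingFree
-- import your own Groth.Agent.* helpers here

set_option autoImplicit false
universe u
open FlatMor

namespace Groth.Agent.S1204

open TensorProduct IsLocalRing in
/-- Let R be a local ring and S a finitely presented flat R-algebra with geometrically integral fibres,
so that 𝔭 = 𝔪_R S is a prime of S; let q be a prime of S over 𝔪_R and N a finite S-module. Then
there is an S-linear map α from a finite free module S^r to N inducing a bijection after base change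
to κ(𝔭); and for any such α the following are equivalent: N_q is flat over R; α is universally
injective over R and the cokernel of α is flat over R at q; α is injective and the cokernel is flat
at q; α localized at 𝔭 is bijective and the cokernel is flat at q; α localized at q is injective and
the cokernel is flat at q. -/
theorem result {R S : Type u} [CommRing R] [IsLocalRing R] [CommRing S] [Algebra R S] [Algebra.FinitePresentation R S] [Module.Flat R S]
    (hgi : FlatCA.GeomIntegralFibres R S) [((maximalIdeal R).map (algebraMap R S)).IsPrime]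
    (q : Ideal S) [q.IsPrime] [q.LiesOver (maximalIdeal R)]
    (N : Type u) [AddCommGroup N] [Module S N] [Module R N] [IsScalarTower R S N] [Module.Finite S N] :
    (∃ (r : ℕ) (α : (Fin r → S) →ₗ[S] N), Function.Bijective (α.baseChange ((maximalIdeal R).map (algebraMap R S)).ResidueField)) ∧
    ∀ (r : ℕ) (α : (Fin r → S) →ₗ[S] N), Function.Bijective (α.baseChange ((maximalIdeal R).map (algebraMap R S)).ResidueField) →
      [FlatCA.FlatAt R q N,
       FlatCA.UnivInj R (α.restrictScalars R) ∧ FlatCA.FlatAt R q (N ⧸ LinearMap.range α),
       Function.Injective α ∧ FlatCA.FlatAt R q (N ⧸ LinearMap.range α),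
       Function.Bijective (LocalizedModule.map ((maximalIdeal R).map (algebraMap R S)).primeCompl α) ∧ FlatCA.FlatAt R q (N ⧸ LinearMap.range α),
       Function.Injective (LocalizedModule.map q.primeCompl α) ∧ FlatCA.FlatAt R q (N ⧸ LinearMap.range α)].TFAE := by
  classical
  let pS := (maximalIdeal R).map (algebraMap R S)
  refine ⟨FlatInjLib.exists_baseChange_bijective pS N, fun r α hα => ?_⟩
  have hd : ∀ (p : Ideal R) [p.IsPrime], IsDomain (TensorProduct R p.ResidueField S) := fun p _ =>
    RGFlatLib.isDomain_tensor hgi p.ResidueField
  have hle : pS ≤ q := Ideal.map_le_iff_le_comap.2 (le_of_eq (Ideal.over_def q (maximalIdeal R)))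
  have hall : ∀ (p : Ideal R) [p.IsPrime], p.map (algebraMap R S) ≤ pS := fun p _ =>
    Ideal.map_mono (IsLocalRing.le_maximalIdeal Ideal.IsPrime.ne_top')
  have hallq : ∀ (p : Ideal R) [p.IsPrime], p.map (algebraMap R S) ≤ q := fun p _ => (hall p).trans hle
  let B := Localization.AtPrime q
  let Bp := Localization.AtPrime pS
  let F := Fin r → S
  -- injectivity of the localisations of the free module
  have hFp : ∀ (v : F), (∃ c : S, c ∉ pS ∧ c • v = 0) → v = 0 := fun v ⟨c, hc, hcv⟩ => by
    have h1 := FlatInjLib.univInj_mk_of_map_le hd pS hall r R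
    have h2 : Function.Injective ((TensorProduct.mk S Bp F 1).restrictScalars R) := fun a b hab => by
      refine (TensorProduct.lid R F).symm.injective (h1 ?_)
      rw [TensorProduct.lid_symm_apply, TensorProduct.lid_symm_apply, LinearMap.lTensor_tmul, LinearMap.lTensor_tmul, hab]
    refine h2 ?_
    rw [map_zero]
    obtain ⟨u, hu⟩ := IsLocalization.map_units Bp (⟨c, hc⟩ : pS.primeCompl)
    show (1 : Bp) ⊗ₜ[S] v = 0
    rw [show (1 : Bp) = c • (↑u⁻¹ : Bp) by rw [Algebra.smul_def, ← hu, Units.mul_inv], TensorProduct.smul_tmul, hcv,
      TensorProduct.tmul_zero]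
  let fF := LocalizedModule.mkLinearMap q.primeCompl F
  let fN := LocalizedModule.mkLinearMap q.primeCompl N
  let fC := LocalizedModule.mkLinearMap q.primeCompl (N ⧸ LinearMap.range α)
  let u := LocalizedModule.map q.primeCompl α
  have hu_mk : ∀ (v : F) (s : q.primeCompl), u (LocalizedModule.mk v s) = LocalizedModule.mk (α v) s :=
    fun v s => LocalizedModule.map_mk ..
  let g := LocalizedModule.map q.primeCompl (LinearMap.range α).mkQ
  have hgs : Function.Surjective g := LocalizedModule.map_surjective _ _ (Submodule.mkQ_surjective _)
  have hexact : Function.Exact u g := LocalizedModule.map_exact q.primeCompl _ _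
    (LinearMap.exact_map_mkQ_range α)
  have hker : ∀ v : F, α v = 0 → (∀ x, u x = 0 → x = 0) → v = 0 := fun v hv hinj => by
    have h1 := hinj (LocalizedModule.mk v 1) (by rw [hu_mk, hv, LocalizedModule.zero_mk])
    rw [← LocalizedModule.mkLinearMap_apply, IsLocalizedModule.eq_zero_iff q.primeCompl] at h1
    obtain ⟨c, hc⟩ := h1
    exact hFp v ⟨c, fun h => c.2 (hle h), hc⟩
  haveI : Module.Flat R F :=
    Module.Flat.of_linearEquiv ((Finsupp.linearEquivFunOnFinite R S (Fin r)).symm.trans (finsuppLequivDFinsupp R))
  haveI : Module.Flat R (LocalizedModule q.primeCompl F) := FlatInjLib.flat_of_isLocalizedModule q.primeCompl fF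
  tfae_have 1 → 2 := by
    intro hflat
    haveI : Module.Flat R (LocalizedModule q.primeCompl N) := hflat
    haveI : IsLocalHom (algebraMap R B) := ⟨fun a ha => by
      rw [IsScalarTower.algebraMap_apply R S B, IsLocalization.AtPrime.isUnit_to_map_iff B q] at ha
      by_contra h
      exact ha (hle (Ideal.mem_map_of_mem _ ((IsLocalRing.mem_maximalIdeal a).2 h)))⟩
    haveI : Algebra.EssFiniteType R B := Algebra.EssFiniteType.comp R S B
    have humod : ∀ x, u x ∈ maximalIdeal R • (⊤ : Submodule R (LocalizedModule q.primeCompl N)) →
        x ∈ maximalIdeal R • (⊤ : Submodule R (LocalizedModule q.primeCompl F)) := by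
      intro x hx
      induction x using LocalizedModule.induction_on with
      | h v s =>
        rw [hu_mk, FlatInjLib.mk_mem_iff] at hx
        obtain ⟨t, ht, htv⟩ := hx
        rw [FlatInjLib.mk_mem_iff]
        refine ⟨t, ht, ?_⟩
        let κ := pS.ResidueField
        have h1 : α.baseChange κ ((1 : κ) ⊗ₜ[S] (t • v)) = 0 := by
          rw [LinearMap.baseChange_tmul, map_smul]
          refine Submodule.smul_induction_on htv (fun a ha w _ => ?_) fun a b ha hb => by
            rw [TensorProduct.tmul_add, ha, hb, add_zero]
          rw [← TensorProduct.smul_tmul, Algebra.smul_def, Ideal.algebraMap_residueField_eq_zero.2 ha, zero_mul,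
            TensorProduct.zero_tmul]
        have h2 := hα.1 (h1.trans (map_zero _).symm)
        have h3 := congrArg (TensorProduct.piRight S S κ fun _ : Fin r => S) h2
        rw [map_zero, TensorProduct.piRight_apply, TensorProduct.piRightHom_tmul] at h3
        rw [← Finset.univ_sum_single (t • v)]
        refine sum_mem fun i _ => ?_
        rw [show Pi.single i ((t • v) i) = (t • v) i • (Pi.single i 1 : F) by rw [← Pi.single_smul, smul_eq_mul, mul_one]]
        refine Submodule.smul_mem_smul (Ideal.algebraMap_residueField_eq_zero.1 ?_) trivial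
        have h4 := congrArg (TensorProduct.rid S κ) (congrFun h3 i)
        rw [TensorProduct.rid_tmul, Pi.zero_apply, map_zero, Algebra.smul_def, mul_one] at h4
        exact h4
    have huQ := fun (Q : Type u) (_ : AddCommGroup Q) (_ : Module R Q) =>
      FlatInjLib.lTensor_injective_of_injective_mod (A := R) u humod Q
    refine ⟨fun Q _ _ => ?_, ?_⟩
    · let mk1 := (TensorProduct.mk S B F 1).restrictScalars R
      let e : (TensorProduct S B F) ≃ₗ[R] LocalizedModule q.primeCompl F :=
        ((IsLocalizedModule.isBaseChange q.primeCompl B fF).equiv.restrictScalars S).restrictScalars R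
      have hfac : (fN.restrictScalars R) ∘ₗ (α.restrictScalars R) = (u.restrictScalars R) ∘ₗ (fF.restrictScalars R) :=
        LinearMap.ext fun v => (hu_mk v 1).symm
      have hF1 : fF.restrictScalars R = e.toLinearMap ∘ₗ mk1 := LinearMap.ext fun v => by
        show fF v = (IsLocalizedModule.isBaseChange q.primeCompl B fF).equiv ((1 : B) ⊗ₜ[S] v)
        rw [IsBaseChange.equiv_tmul, one_smul]
      have h1 : Function.Injective ((fF.restrictScalars R).lTensor Q) := by
        rw [hF1, LinearMap.lTensor_comp]
        exact (LinearEquiv.lTensor Q e).injective.comp (FlatInjLib.univInj_mk_of_map_le hd q hallq r Q)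
      have h2 : Function.Injective (((fN.restrictScalars R) ∘ₗ (α.restrictScalars R)).lTensor Q) := by
        rw [hfac, LinearMap.lTensor_comp]
        exact (huQ Q _ _).comp h1
      rw [LinearMap.lTensor_comp] at h2
      exact Function.Injective.of_comp (f := (fN.restrictScalars R).lTensor Q) h2
    · haveI := FlatInjLib.flat_quotient_range (u.restrictScalars R) fun Q _ _ => huQ Q _ _
      haveI : Module.Flat R (LocalizedModule q.primeCompl N ⧸ LinearMap.range u) :=
        Module.Flat.of_linearEquiv ((Submodule.Quotient.restrictScalarsEquiv R (LinearMap.range u)).symm.trans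
          (Submodule.quotEquivOfEq _ _ (LinearMap.range_restrictScalars u).symm))
      exact Module.Flat.of_linearEquiv (((LinearEquiv.restrictScalars R
        ((Submodule.quotEquivOfEq _ _ (hexact.linearMap_ker_eq.symm)).trans
          (g.quotKerEquivOfSurjective hgs)))).symm)
  tfae_have 2 → 3 := fun ⟨h, hc⟩ => ⟨fun a b hab => (TensorProduct.lid R F).symm.injective (h R (by simp [hab])), hc⟩
  tfae_have 3 → 5 := fun ⟨h, hc⟩ => ⟨LocalizedModule.map_injective q.primeCompl α h, hc⟩
  tfae_have 5 → 4 := by
    rintro ⟨h, hc⟩
    refine ⟨⟨?_, ?_⟩, hc⟩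
    · refine LocalizedModule.map_injective pS.primeCompl α ((injective_iff_map_eq_zero _).2 fun v hv =>
        hker v hv fun x hx => h (hx.trans (map_zero _).symm))
    · let up := LocalizedModule.map pS.primeCompl α
      rw [← LinearMap.range_eq_top, ← IsLocalRing.map_mkQ_eq_top]
      rw [eq_top_iff]
      rintro x -
      obtain ⟨x, rfl⟩ := Submodule.mkQ_surjective _ x
      induction x using LocalizedModule.induction_on with
      | h n s =>
        obtain ⟨w, hw⟩ := hα.2 ((1 : pS.ResidueField) ⊗ₜ[S] n)
        let ψ : TensorProduct S Bp N →ₗ[Bp] LocalizedModule pS.primeCompl N :=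
          (IsLocalizedModule.isBaseChange pS.primeCompl Bp (LocalizedModule.mkLinearMap pS.primeCompl N)).equiv.toLinearMap
        obtain ⟨w', hw'⟩ := LinearMap.rTensor_surjective F (g := (IsScalarTower.toAlgHom S Bp pS.ResidueField).toLinearMap)
          IsLocalRing.residue_surjective w
        have hz : ∀ y : TensorProduct S Bp N, (IsScalarTower.toAlgHom S Bp pS.ResidueField).toLinearMap.rTensor N y = 0 →
            ψ y ∈ maximalIdeal Bp • (⊤ : Submodule Bp (LocalizedModule pS.primeCompl N)) := by
          intro y hy
          obtain ⟨c, rfl⟩ := (rTensor_exact N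
            (LinearMap.exact_subtype_ker_map (IsScalarTower.toAlgHom S Bp pS.ResidueField).toLinearMap)
            IsLocalRing.residue_surjective y).1 hy
          clear hy
          induction c using TensorProduct.induction_on with
          | zero => simp
          | tmul a b =>
            rw [LinearMap.rTensor_tmul, show ((LinearMap.ker _).subtype a : Bp) ⊗ₜ[S] b = (a : Bp) • ((1 : Bp) ⊗ₜ[S] b) by
              rw [TensorProduct.smul_tmul', smul_eq_mul, mul_one]; rfl, map_smul]
            exact Submodule.smul_mem_smul ((IsLocalRing.residue_eq_zero_iff (a : Bp)).1 a.2) trivial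
          | add a b ha hb => rw [map_add, map_add]; exact add_mem ha hb
        have hd0 : (IsScalarTower.toAlgHom S Bp pS.ResidueField).toLinearMap.rTensor N
            ((1 : Bp) ⊗ₜ[S] n - α.lTensor Bp w') = 0 := by
          rw [map_sub, LinearMap.rTensor_tmul, ← LinearMap.comp_apply _ (α.lTensor Bp), LinearMap.rTensor_comp_lTensor,
            ← LinearMap.lTensor_comp_rTensor, LinearMap.comp_apply, hw']
          show (algebraMap Bp pS.ResidueField 1) ⊗ₜ[S] n - _ = 0
          rw [map_one, sub_eq_zero]
          exact hw.symm
        have h5 := hz _ hd0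
        have hrange : ∀ y : TensorProduct S Bp F, ψ (α.lTensor Bp y) ∈ LinearMap.range up := by
          intro y
          induction y using TensorProduct.induction_on with
          | zero => simp
          | tmul a b =>
            rw [LinearMap.lTensor_tmul, show a ⊗ₜ[S] α b = a • ((1 : Bp) ⊗ₜ[S] α b) by
              rw [TensorProduct.smul_tmul', smul_eq_mul, mul_one], map_smul]
            refine Submodule.smul_mem _ a ⟨LocalizedModule.mk b 1, ?_⟩
            show up _ = (IsLocalizedModule.isBaseChange pS.primeCompl Bp (LocalizedModule.mkLinearMap pS.primeCompl N)).equiv _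
            rw [IsBaseChange.equiv_tmul, one_smul]
            exact LocalizedModule.map_mk ..
          | add a b ha hb => rw [map_add, map_add]; exact add_mem ha hb
        rw [map_sub, ← Submodule.Quotient.mk_eq_zero, Submodule.Quotient.mk_sub, sub_eq_zero] at h5
        have hn : ψ ((1 : Bp) ⊗ₜ[S] n) = LocalizedModule.mk n 1 := by
          show (IsLocalizedModule.isBaseChange pS.primeCompl Bp (LocalizedModule.mkLinearMap pS.primeCompl N)).equiv _ = _
          rw [IsBaseChange.equiv_tmul, one_smul]
          rfl
        rw [hn] at h5
        rw [show LocalizedModule.mk n s = IsLocalization.mk' Bp (1 : S) s • LocalizedModule.mk n 1 by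
          rw [← Localization.mk_eq_mk']
          exact ((LocalizedModule.mk_smul_mk _ _ _ _).trans (by rw [one_smul, mul_one])).symm, map_smul]
        refine Submodule.smul_mem _ _ ⟨ψ (α.lTensor Bp w'), hrange w', ?_⟩
        exact h5.symm
  tfae_have 4 → 1 := by
    rintro ⟨h, hc⟩
    haveI : Module.Flat R (LocalizedModule q.primeCompl (N ⧸ LinearMap.range α)) := hc
    have hinj : Function.Injective u := LocalizedModule.map_injective q.primeCompl α
      ((injective_iff_map_eq_zero _).2 fun v hv => by
        have h1 := (map_eq_zero_iff _ h.1).1 (show LocalizedModule.map pS.primeCompl α (LocalizedModule.mk v 1) = 0 by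
          rw [show LocalizedModule.map pS.primeCompl α (LocalizedModule.mk v 1) = LocalizedModule.mk (α v) 1 from
            LocalizedModule.map_mk .., hv, LocalizedModule.zero_mk])
        rw [← LocalizedModule.mkLinearMap_apply, IsLocalizedModule.eq_zero_iff pS.primeCompl] at h1
        obtain ⟨c, hc⟩ := h1
        exact hFp v ⟨c, c.2, hc⟩)
    exact FlatInjLib.flat_of_extension (u.restrictScalars R) (g.restrictScalars R) hinj hgs hexact
  tfae_finish

end Groth.Agent.S1204
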