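import Groth.Statements.S1205
import Mathlib
import Groth.Agent.FlatInjLib.FibreBasisBase
import Groth.Agent.FlatInjLib.FinWeakAss
import Groth.Agent.RGFlatLib.RingFree
-- import your own Groth.Agent.* helpers here

set_option autoImplicit false
universe u
open FlatMor

namespace Groth.Agent.S1205

open TensorProduct in
/-- Let S be a finitely presented flat R-algebra with geometrically integral fibres, q a prime of S over
the prime 𝔯 of R, so that 𝔭 = 𝔯S is a prime of S, and N a finitely presented S-module. Then there is
an S-linear map α from a finite free module S^r to N inducing a bijection after base change to κ(𝔭);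
and for any such α the following are equivalent: N_q is flat over R; for some f ∈ R outside 𝔯 the
localization α_f is universally injective over R and for some g ∈ S outside q the localization of
the cokernel at g is flat over R; α localized at (the image of) 𝔯 is universally injective over R
and the cokernel is flat over R at q; α localized at 𝔯 is injective and the cokernel is flat at q; α
localized at 𝔭 is bijective and the cokernel is flat at q; α localized at q is injective and the
cokernel is flat at q. (Universal injectivity over R_f or R_𝔯 of a map of modules over these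
localizations is the same as over R, which is how it is written.) -/
theorem result {R S : Type u} [CommRing R] [CommRing S] [Algebra R S] [Algebra.FinitePresentation R S] [Module.Flat R S]
    (hgi : FlatCA.GeomIntegralFibres R S) (rr : Ideal R) [rr.IsPrime] [(rr.map (algebraMap R S)).IsPrime]
    (q : Ideal S) [q.IsPrime] [q.LiesOver rr]
    (N : Type u) [AddCommGroup N] [Module S N] [Module R N] [IsScalarTower R S N] [Module.FinitePresentation S N] :
    (∃ (r : ℕ) (α : (Fin r → S) →ₗ[S] N), Function.Bijective (α.baseChange (rr.map (algebraMap R S)).ResidueField)) ∧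
    ∀ (r : ℕ) (α : (Fin r → S) →ₗ[S] N), Function.Bijective (α.baseChange (rr.map (algebraMap R S)).ResidueField) →
      [FlatCA.FlatAt R q N,
       (∃ f : R, f ∉ rr ∧ FlatCA.UnivInj R ((LocalizedModule.map (Submonoid.powers (algebraMap R S f)) α).restrictScalars R)) ∧
         (∃ g : S, g ∉ q ∧ Module.Flat R (LocalizedModule (Submonoid.powers g) (N ⧸ LinearMap.range α))),
       FlatCA.UnivInj R ((LocalizedModule.map (Algebra.algebraMapSubmonoid S rr.primeCompl) α).restrictScalars R) ∧ FlatCA.FlatAt R q (N ⧸ LinearMap.range α),
       Function.Injective (LocalizedModule.map (Algebra.algebraMapSubmonoid S rr.primeCompl) α) ∧ FlatCA.FlatAt R q (N ⧸ LinearMap.range α),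
       Function.Bijective (LocalizedModule.map (rr.map (algebraMap R S)).primeCompl α) ∧ FlatCA.FlatAt R q (N ⧸ LinearMap.range α),
       Function.Injective (LocalizedModule.map q.primeCompl α) ∧ FlatCA.FlatAt R q (N ⧸ LinearMap.range α)].TFAE := by
  classical
  let pS := rr.map (algebraMap R S)
  refine ⟨FlatInjLib.exists_baseChange_bijective pS N, fun r α hα => ?_⟩
  have hd : ∀ (p : Ideal R) [p.IsPrime], IsDomain (TensorProduct R p.ResidueField S) := fun p _ =>
    RGFlatLib.isDomain_tensor hgi p.ResidueField
  have hp2 : pS.comap (algebraMap R S) = rr := (RGFlatLib.isPrime_map_of_fibre rr (hd rr)).2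
  have hle : pS ≤ q := Ideal.map_le_iff_le_comap.2 (le_of_eq (Ideal.over_def q rr))
  have hrq : ∀ t : R, t ∉ rr → algebraMap R S t ∉ q := fun t ht h => ht (by rw [Ideal.over_def q rr]; exact h)
  let F := Fin r → S
  let fF := LocalizedModule.mkLinearMap q.primeCompl F
  let fN := LocalizedModule.mkLinearMap q.primeCompl N
  let fC := LocalizedModule.mkLinearMap q.primeCompl (N ⧸ LinearMap.range α)
  let u := LocalizedModule.map q.primeCompl α
  have hu_mk : ∀ (v : F) (s : q.primeCompl), u (LocalizedModule.mk v s) = LocalizedModule.mk (α v) s :=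
    fun v s => LocalizedModule.map_mk ..
  let g := LocalizedModule.map q.primeCompl (LinearMap.range α).mkQ
  have hgs : Function.Surjective g := LocalizedModule.map_surjective _ _ (Submodule.mkQ_surjective _)
  have hexact : Function.Exact u g := LocalizedModule.map_exact q.primeCompl _ _
    (LinearMap.exact_map_mkQ_range α)
  haveI : Module.Flat R F :=
    Module.Flat.of_linearEquiv ((Finsupp.linearEquivFunOnFinite R S (Fin r)).symm.trans (finsuppLequivDFinsupp R))
  haveI : Module.Flat R (LocalizedModule q.primeCompl F) := FlatInjLib.flat_of_isLocalizedModule q.primeCompl fF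
  have hFp : ∀ (v : F), (∃ c : S, c ∉ pS ∧ c • v = 0) → ∃ c : S, c ∉ q ∧ c • v = 0 := by
    rintro v ⟨c, hc, hcv⟩
    by_contra hno
    push Not at hno
    obtain ⟨q', hq', hmap, hdis, hann⟩ := FlatInjLib.exists_map_annihilator_le hd r R q.primeCompl (TensorProduct.tmul R v (1 : R))
      fun t ht htz => hno t ht (by
        rw [TensorProduct.smul_tmul', ← LinearEquiv.map_eq_zero_iff (TensorProduct.rid R F), TensorProduct.rid_tmul, one_smul] at htz
        exact htz)
    have hq'q : q' ≤ q := fun y hy => by_contra fun h => Set.disjoint_left.1 hdis hy h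
    refine hc (hmap.trans (Ideal.map_mono (le_of_le_of_eq (Ideal.comap_mono hq'q) (Ideal.over_def q rr).symm)) (hann c ?_))
    rw [TensorProduct.smul_tmul', hcv, TensorProduct.zero_tmul]
  have hinjp : Function.Injective u → Function.Injective (LocalizedModule.map pS.primeCompl α) := by
    intro hu
    refine (injective_iff_map_eq_zero _).2 fun x hx => ?_
    induction x using LocalizedModule.induction_on with
    | h v s =>
      rw [show LocalizedModule.map pS.primeCompl α (LocalizedModule.mk v s) = LocalizedModule.mk (α v) s from
        LocalizedModule.map_mk .., IsLocalizedModule.mk_eq_mk', IsLocalizedModule.mk'_eq_zero'] at hx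
      obtain ⟨c, hc⟩ := hx
      have h1 : u (LocalizedModule.mk ((c : S) • v) 1) = 0 := by
        rw [hu_mk, map_smul, show (c : S) • α v = 0 from hc, LocalizedModule.zero_mk]
      have h2 := hu (h1.trans (map_zero _).symm)
      rw [← LocalizedModule.mkLinearMap_apply, IsLocalizedModule.eq_zero_iff q.primeCompl] at h2
      obtain ⟨c', hc'⟩ := h2
      rw [IsLocalizedModule.mk_eq_mk', IsLocalizedModule.mk'_eq_zero']
      refine ⟨⟨(c' : S) * c, Ideal.IsPrime.mul_notMem inferInstance (fun h => c'.2 (hle h)) c.2⟩, ?_⟩
      rw [Submonoid.smul_def, mul_smul]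
      exact hc'
  tfae_have 1 → 5 := by
    intro hflat
    let A := Localization.AtPrime rr
    let B := Localization.AtPrime q
    letI : Algebra A B := (Localization.localRingHom rr q (algebraMap R S) (Ideal.over_def q rr)).toAlgebra
    haveI : IsScalarTower R A B := IsScalarTower.of_algebraMap_eq fun x => by
      rw [RingHom.algebraMap_toAlgebra, Localization.localRingHom_to_map, ← IsScalarTower.algebraMap_apply]
    haveI : IsLocalHom (algebraMap A B) :=
      Localization.isLocalHom_localRingHom rr q (algebraMap R S) (Ideal.over_def q rr)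
    haveI : Algebra.EssFiniteType R B := Algebra.EssFiniteType.comp R S B
    haveI : Algebra.EssFiniteType A B := Algebra.EssFiniteType.of_comp R A B
    letI : Module A (LocalizedModule q.primeCompl N) := Module.compHom _ (algebraMap A B)
    haveI : IsScalarTower A B (LocalizedModule q.primeCompl N) := IsScalarTower.of_compHom _ _ _
    letI : Module A (LocalizedModule q.primeCompl F) := Module.compHom _ (algebraMap A B)
    haveI : IsScalarTower A B (LocalizedModule q.primeCompl F) := IsScalarTower.of_compHom _ _ _
    haveI : IsScalarTower R A (LocalizedModule q.primeCompl N) := IsScalarTower.of_algebraMap_smul fun x y => by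
      show algebraMap A B (algebraMap R _ x) • y = x • y
      rw [← IsScalarTower.algebraMap_apply, IsScalarTower.algebraMap_apply R S B, algebraMap_smul, algebraMap_smul]
    haveI : IsScalarTower R A (LocalizedModule q.primeCompl F) := IsScalarTower.of_algebraMap_smul fun x y => by
      show algebraMap A B (algebraMap R _ x) • y = x • y
      rw [← IsScalarTower.algebraMap_apply, IsScalarTower.algebraMap_apply R S B, algebraMap_smul, algebraMap_smul]
    haveI : Module.Flat A (LocalizedModule q.primeCompl N) :=
      (Module.flat_iff_of_isLocalization A rr.primeCompl _).2 hflat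
    have humod : ∀ x, u x ∈ IsLocalRing.maximalIdeal A • (⊤ : Submodule A (LocalizedModule q.primeCompl N)) →
        x ∈ IsLocalRing.maximalIdeal A • (⊤ : Submodule A (LocalizedModule q.primeCompl F)) := by
      intro x hx
      rw [← Localization.AtPrime.map_eq_maximalIdeal, ← FlatInjLib.mem_smul_top_iff_map] at hx ⊢
      induction x using LocalizedModule.induction_on with
      | h v s =>
        rw [hu_mk, FlatInjLib.mk_mem_iff] at hx
        obtain ⟨t, ht, htv⟩ := hx
        rw [FlatInjLib.mk_mem_iff]
        refine ⟨t, ht, ?_⟩
        let κ := pS.ResidueField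
        have h1 : α.baseChange κ ((1 : κ) ⊗ₜ[S] (t • v)) = 0 := by
          rw [LinearMap.baseChange_tmul, map_smul]
          refine Submodule.smul_induction_on htv (fun a ha w _ => ?_) fun a b ha hb => by
            rw [TensorProduct.tmul_add, ha, hb, add_zero]
          rw [← TensorProduct.smul_tmul, Algebra.smul_def, Ideal.algebraMap_residueField_eq_zero.2 ha, zero_mul,
            TensorProduct.zero_tmul]
        have h2 := hα.1 (h1.trans (map_zero _).symm)
        have h3 := congrArg (TensorProduct.piRight S S κ fun _ : Fin r => S) h2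
        rw [map_zero, TensorProduct.piRight_apply, TensorProduct.piRightHom_tmul] at h3
        rw [← Finset.univ_sum_single (t • v)]
        refine sum_mem fun i _ => ?_
        rw [show Pi.single i ((t • v) i) = (t • v) i • (Pi.single i 1 : F) by rw [← Pi.single_smul, smul_eq_mul, mul_one]]
        refine Submodule.smul_mem_smul (Ideal.algebraMap_residueField_eq_zero.1 ?_) trivial
        have h4 := congrArg (TensorProduct.rid S κ) (congrFun h3 i)
        rw [TensorProduct.rid_tmul, Pi.zero_apply, map_zero, Algebra.smul_def, mul_one] at h4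
        exact h4
    have huQ := fun (Q : Type u) (_ : AddCommGroup Q) (_ : Module A Q) =>
      FlatInjLib.lTensor_injective_of_injective_mod u humod Q
    have huinj : Function.Injective u := fun a b hab =>
      (TensorProduct.lid A _).symm.injective (huQ A _ _ (by
        rw [TensorProduct.lid_symm_apply, TensorProduct.lid_symm_apply, LinearMap.lTensor_tmul, LinearMap.lTensor_tmul]
        exact congrArg (TensorProduct.tmul A (1 : A)) hab))
    refine ⟨⟨hinjp huinj, FlatInjLib.surjective_map_of_baseChange pS α hα.2⟩, ?_⟩
    haveI h0 := FlatInjLib.flat_quotient_range (u.restrictScalars A) fun Q _ _ => huQ Q _ _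
    haveI : Module.Flat A (LocalizedModule q.primeCompl N ⧸ LinearMap.range u) :=
      Module.Flat.of_linearEquiv ((Submodule.Quotient.restrictScalarsEquiv A (LinearMap.range u)).symm.trans
        (Submodule.quotEquivOfEq _ _ (LinearMap.range_restrictScalars u).symm))
    haveI : Module.Flat R (LocalizedModule q.primeCompl N ⧸ LinearMap.range u) :=
      (Module.flat_iff_of_isLocalization A rr.primeCompl _).1 inferInstance
    exact Module.Flat.of_linearEquiv (((LinearEquiv.restrictScalars R
      ((Submodule.quotEquivOfEq _ _ (hexact.linearMap_ker_eq.symm)).trans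
        (g.quotKerEquivOfSurjective hgs)))).symm)
  tfae_have 5 → 2 := by
    rintro ⟨hb, hc⟩
    refine ⟨?_, ?_⟩
    · obtain ⟨h, hh, hbij⟩ := Module.FinitePresentation.exists_notMem_bijective α pS
        (LocalizedModule.mkLinearMap pS.primeCompl F) (LocalizedModule.mkLinearMap pS.primeCompl N) hb
      have hopen : IsOpen (PrimeSpectrum.comap (algebraMap R S) '' (PrimeSpectrum.basicOpen h : Set (PrimeSpectrum S))) :=
        PrimeSpectrum.isOpenMap_comap_of_hasGoingDown_of_finitePresentation _ (PrimeSpectrum.basicOpen h).2
      have hmem : (⟨rr, inferInstance⟩ : PrimeSpectrum R) ∈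
          PrimeSpectrum.comap (algebraMap R S) '' (PrimeSpectrum.basicOpen h : Set (PrimeSpectrum S)) :=
        ⟨⟨pS, inferInstance⟩, hh, PrimeSpectrum.ext hp2⟩
      obtain ⟨_, ⟨f, rfl⟩, hf, hsub⟩ :=
        PrimeSpectrum.isTopologicalBasis_basic_opens.exists_subset_of_mem_open hmem hopen
      refine ⟨f, hf, FlatInjLib.univInj_map_of_bijective hd α _ fun q' _ hmap hdis =>
        ⟨Submonoid.powers h, Set.disjoint_left.2 ?_, hbij⟩⟩
      rintro _ hy ⟨k, rfl⟩
      obtain ⟨x, hx, hx2⟩ := hsub (show (⟨q'.comap (algebraMap R S), inferInstance⟩ : PrimeSpectrum R) ∈ PrimeSpectrum.basicOpen f from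
        fun hmem' => Set.disjoint_left.1 hdis (show algebraMap R S f ∈ q' from hmem') ⟨1, pow_one _⟩)
      refine hx (x.isPrime.mem_of_pow_mem k ?_)
      refine (hmap.trans (Ideal.map_le_iff_le_comap.2 ?_)) hy
      exact (congrArg PrimeSpectrum.asIdeal hx2).ge
    · let C := N ⧸ LinearMap.range α
      haveI : Module.FinitePresentation S C :=
        Module.finitePresentation_of_surjective (LinearMap.range α).mkQ (Submodule.mkQ_surjective _)
          (by rw [Submodule.ker_mkQ]; exact Submodule.fg_range α)
      obtain ⟨_, ⟨c, rfl⟩, hcq, hsub⟩ := PrimeSpectrum.isTopologicalBasis_basic_opens.exists_subset_of_mem_open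
        (show (⟨q, inferInstance⟩ : PrimeSpectrum S) ∈ {x : PrimeSpectrum S | Module.Flat R (LocalizedModule x.asIdeal.primeCompl C)}
          from hc) FlatLib.isOpen_flatLocus_fp
      exact ⟨c, hcq, FlatInjLib.flat_away c fun Q _ hcQ =>
        hsub (show (⟨Q, inferInstance⟩ : PrimeSpectrum S) ∈ PrimeSpectrum.basicOpen c from hcQ)⟩
  tfae_have 2 → 6 := by
    rintro ⟨⟨f, hf, hinj⟩, c, hc, hflat⟩
    refine ⟨(injective_iff_map_eq_zero _).2 fun x hx => ?_, ?_⟩
    · let uf := LocalizedModule.map (Submonoid.powers (algebraMap R S f)) α
      have hinjf : Function.Injective uf := fun a b hab => (TensorProduct.lid R _).symm.injective (hinj R (by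
        rw [TensorProduct.lid_symm_apply, TensorProduct.lid_symm_apply, LinearMap.lTensor_tmul, LinearMap.lTensor_tmul]
        exact congrArg (TensorProduct.tmul R (1 : R)) hab))
      induction x using LocalizedModule.induction_on with
      | h v s =>
        rw [hu_mk, IsLocalizedModule.mk_eq_mk', IsLocalizedModule.mk'_eq_zero'] at hx
        obtain ⟨d, hd'⟩ := hx
        have h1 : uf (LocalizedModule.mk ((d : S) • v) 1) = 0 := by
          rw [show uf (LocalizedModule.mk ((d : S) • v) 1) = LocalizedModule.mk (α ((d : S) • v)) 1 from LocalizedModule.map_mk ..,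
            map_smul, show (d : S) • α v = 0 from hd', LocalizedModule.zero_mk]
        have h2 := hinjf (h1.trans (map_zero _).symm)
        rw [← LocalizedModule.mkLinearMap_apply, IsLocalizedModule.eq_zero_iff (Submonoid.powers (algebraMap R S f))] at h2
        obtain ⟨⟨_, k, rfl⟩, hk⟩ := h2
        rw [IsLocalizedModule.mk_eq_mk', IsLocalizedModule.mk'_eq_zero']
        refine ⟨⟨algebraMap R S f ^ k * d, Ideal.IsPrime.mul_notMem inferInstance
          (fun h => hrq f hf (Ideal.IsPrime.mem_of_pow_mem inferInstance k h)) d.2⟩, ?_⟩
        rw [Submonoid.smul_def, mul_smul]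
        exact hk
    · exact FlatInjLib.flat_of_isLocalizedModule q.primeCompl (IsLocalizedModule.liftOfLE (Submonoid.powers c) q.primeCompl
        (Submonoid.powers_le.2 hc) (LocalizedModule.mkLinearMap (Submonoid.powers c) (N ⧸ LinearMap.range α)) fC)
  tfae_have 6 → 5 := fun ⟨h, hc⟩ => ⟨⟨hinjp h, FlatInjLib.surjective_map_of_baseChange pS α hα.2⟩, hc⟩
  tfae_have 5 → 3 := by
    rintro ⟨hb, hc⟩
    refine ⟨FlatInjLib.univInj_map_of_bijective hd α _ fun q' _ hmap hdis => ⟨pS.primeCompl, ?_, hb⟩, hc⟩
    refine Set.disjoint_left.2 fun y hy hyn => hyn (hmap.trans (Ideal.map_mono fun t ht => ?_) hy)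
    by_contra htr
    exact Set.disjoint_left.1 hdis (show algebraMap R S t ∈ q' from ht) ⟨t, htr, rfl⟩
  tfae_have 3 → 4 := fun ⟨h, hc⟩ => ⟨fun a b hab => (TensorProduct.lid R _).symm.injective (h R (by
    rw [TensorProduct.lid_symm_apply, TensorProduct.lid_symm_apply, LinearMap.lTensor_tmul, LinearMap.lTensor_tmul]
    exact congrArg (TensorProduct.tmul R (1 : R)) hab)), hc⟩
  tfae_have 4 → 6 := by
    rintro ⟨h, hc⟩
    refine ⟨(injective_iff_map_eq_zero _).2 fun x hx => ?_, hc⟩
    let T := Algebra.algebraMapSubmonoid S rr.primeCompl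
    induction x using LocalizedModule.induction_on with
    | h v s =>
      rw [hu_mk, IsLocalizedModule.mk_eq_mk', IsLocalizedModule.mk'_eq_zero'] at hx
      obtain ⟨d, hd'⟩ := hx
      have h1 : LocalizedModule.map T α (LocalizedModule.mk ((d : S) • v) 1) = 0 := by
        rw [show LocalizedModule.map T α (LocalizedModule.mk ((d : S) • v) 1) = LocalizedModule.mk (α ((d : S) • v)) 1 from LocalizedModule.map_mk ..,
          map_smul, show (d : S) • α v = 0 from hd', LocalizedModule.zero_mk]
      have h2 := h (h1.trans (map_zero _).symm)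
      rw [← LocalizedModule.mkLinearMap_apply, IsLocalizedModule.eq_zero_iff T] at h2
      obtain ⟨⟨_, t, ht, rfl⟩, hk⟩ := h2
      rw [IsLocalizedModule.mk_eq_mk', IsLocalizedModule.mk'_eq_zero']
      refine ⟨⟨algebraMap R S t * d, Ideal.IsPrime.mul_notMem inferInstance (hrq t ht) d.2⟩, ?_⟩
      rw [Submonoid.smul_def, mul_smul]
      exact hk
  tfae_have 5 → 1 := by
    rintro ⟨hb, hc⟩
    haveI : Module.Flat R (LocalizedModule q.primeCompl (N ⧸ LinearMap.range α)) := hc
    have hinj : Function.Injective u := (injective_iff_map_eq_zero _).2 fun x hx => by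
      induction x using LocalizedModule.induction_on with
      | h v s =>
        rw [hu_mk, IsLocalizedModule.mk_eq_mk', IsLocalizedModule.mk'_eq_zero'] at hx
        obtain ⟨d, hd'⟩ := hx
        have h1 := (map_eq_zero_iff _ hb.1).1 (show LocalizedModule.map pS.primeCompl α (LocalizedModule.mk ((d : S) • v) 1) = 0 by
          rw [show LocalizedModule.map pS.primeCompl α (LocalizedModule.mk ((d : S) • v) 1) = LocalizedModule.mk (α ((d : S) • v)) 1 from
            LocalizedModule.map_mk .., map_smul, show (d : S) • α v = 0 from hd', LocalizedModule.zero_mk])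
        rw [← LocalizedModule.mkLinearMap_apply, IsLocalizedModule.eq_zero_iff pS.primeCompl] at h1
        obtain ⟨c, hc'⟩ := h1
        obtain ⟨c', hc'q, hc'v⟩ := hFp ((d : S) • v) ⟨c, c.2, hc'⟩
        rw [IsLocalizedModule.mk_eq_mk', IsLocalizedModule.mk'_eq_zero']
        refine ⟨⟨c' * d, Ideal.IsPrime.mul_notMem inferInstance hc'q d.2⟩, ?_⟩
        rw [Submonoid.smul_def, mul_smul]
        exact hc'v
    exact FlatInjLib.flat_of_extension (u.restrictScalars R) (g.restrictScalars R) hinj hgs hexact
  tfae_finish

end Groth.Agent.S1205
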