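import Groth.Statements.S4889
import Mathlib
import Groth.Agent.JacDimLib.SuppStalk
-- import your own Groth.Agent.* helpers here

set_option autoImplicit false
universe u
open CategoryTheory AlgebraicGeometry
open EGA43

namespace Groth.Agent.S4889

/-- Stated as the dimension equality to which its two-line proof reduces it: let S be a locally
Noetherian Jacobson scheme whose local rings are universally catenary and whose irreducible
components are equidimensional (for every irreducible component S' and every closed point s of S',
dim S' equals the dimension of the space of generizations of s in S'); let g : X ⟶ S be a morphism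
locally of finite type, F a coherent O_X-module, Y its support and x a point of Y. Then dim(cl{x}) +
dim(F_x) = dim_x(Y), where dim(F_x) is the Krull dimension of the O_{X,x}-module F_x (the Krull
dimension of its support in Spec O_{X,x}) and dim_x(Y) is the local dimension of Y at x. (The
published statement reads prof*_x(F) = dim_x(Y) − coprof(F_x), with the rectified depth prof*_x(F) =
prof(F_x) + dim cl{x} and the codepth coprof(F_x) = dim(F_x) − prof(F_x); for the nonzero finitely
generated module F_x this is the equality stated here. The published form of the special case in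
which the base is X itself assumes only the Jacobson and universally-catenary conditions; this row
keeps the equidimensionality of the irreducible components of the base, which the proof uses and
without which the formula fails.) -/
theorem result {X S : Scheme.{u}} [IsLocallyNoetherian S]
    [JacobsonSpace S] (h2 : ∀ s : S, CAlg.IsUniversallyCatenary (S.presheaf.stalk s))
    (h3 : ∀ S' ∈ irreducibleComponents (S : Type u), ∀ s ∈ S', IsClosed ({s} : Set S) →
      topologicalKrullDim (↥S' : Type u) = topologicalKrullDim ↥{t : S | t ∈ S' ∧ t ⤳ s})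
    (g : X ⟶ S) [LocallyOfFiniteType g] (F : X.Modules) (hF : Coh.IsCoh F) (x : X) (hx : x ∈ CohB1.support F) :
    topologicalKrullDim ↥(closure ({x} : Set X)) + Module.supportDim ↑(X.presheaf.stalk x) ↑(F.presheaf.stalk x) =
      FlatMor.localDim ↥(CohB1.support F) ⟨x, hx⟩ := by
  haveI : IsLocallyNoetherian X := LocallyOfFiniteType.isLocallyNoetherian g
  haveI := LocallyOfFiniteType.jacobsonSpace g
  haveI : Coh.IsQCoh F := hF.1
  have h2' := JacDimLib.h2_of_lft g h2
  have h3' := JacDimLib.h3_of_lft g h2 h3
  have hY : IsClosed (CohB1.support F) := QCohLib.isClosed_support F hF.2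
  haveI := hY.isClosedEmbedding_subtypeVal.quasiSober
  obtain ⟨U, hU, hxU, hgen⟩ := JacDimLib.exists_nhd_generic hY hx
  rw [(JacDimLib.supportDim_stalk F hF.2 x).2]
  refine le_antisymm (le_iInf fun V ↦ ?_) ?_
  · obtain ⟨V, hxV⟩ := V
    obtain ⟨W, hW, hWV⟩ := isOpen_induced_iff.1 V.isOpen
    have hxW : (⟨x, hx⟩ : CohB1.support F) ∈ Subtype.val ⁻¹' W := hWV ▸ hxV
    rw [← JacDimLib.dim_inter_eq h2' h3' hY hx (hW.inter hU) ⟨hxW, hxU⟩ fun v hv ↦ hgen v hv.2]
    let e : ↥((W ∩ U) ∩ CohB1.support F) → ↥(V : Set (CohB1.support F)) :=
      fun w ↦ ⟨⟨w.1, w.2.2⟩, hWV ▸ (w.2.1.1 : (⟨w.1, w.2.2⟩ : CohB1.support F) ∈ Subtype.val ⁻¹' W)⟩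
    exact (Topology.IsInducing.of_comp (f := e) ((continuous_subtype_val.subtype_mk _).subtype_mk _)
      (continuous_subtype_val.comp continuous_subtype_val) Topology.IsInducing.subtypeVal).topologicalKrullDim_le
  · rw [← JacDimLib.dim_inter_eq h2' h3' hY hx hU hxU hgen]
    refine (FibDimLib.localDim_le_of_open (U := ⟨_, hU.preimage continuous_subtype_val⟩) hxU).trans ?_
    let e : ↥((Subtype.val : CohB1.support F → X) ⁻¹' U) → ↥(U ∩ CohB1.support F) := fun w ↦ ⟨w.1.1, w.2, w.1.2⟩
    exact (Topology.IsInducing.of_comp (f := e) ((continuous_subtype_val.comp continuous_subtype_val).subtype_mk _)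
      continuous_subtype_val (show Topology.IsInducing (fun w : ↥((Subtype.val : CohB1.support F → X) ⁻¹' U) ↦ ((w : CohB1.support F) : X)) from
        (Topology.IsInducing.subtypeVal (t := CohB1.support F)).comp (Topology.IsInducing.subtypeVal (t := (Subtype.val : CohB1.support F → X) ⁻¹' U)))).topologicalKrullDim_le

end Groth.Agent.S4889
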