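import Groth.Statements.S12056
import Mathlib.RingTheory.PowerSeries.Substitution
import Mathlib.RingTheory.PowerSeries.Inverse
import Mathlib.Tactic

set_option autoImplicit false
open Red

namespace Groth.Agent.S12056

/-- In formal-power-series form, let R be a commutative ring and F ∈ R⟦X⟧ with constant term 1 whose
linear coefficient a is a unit of R. Suppose that in R⟦X₀, X₁⟧ one has F(X₀ + X₁ · F(X₀)) = F(X₀) ·
F(X₁) (the functional equation F(x + y F(x)) = F(x) F(y)). Then F = 1 + a X. (The published
statement concerns a morphism to the multiplicative group from an open neighbourhood of the zero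
section in the additive group over a base scheme, the identity holding on an open neighbourhood of
the origin of the plane on which all terms are defined, with a the derivative at 0; this row states
it for formal power series over a ring.) -/
theorem result (R : Type) [CommRing R] (F : PowerSeries R)
    (h0 : PowerSeries.constantCoeff F = 1) (ha : IsUnit (PowerSeries.coeff 1 F))
    (hFE : PowerSeries.subst
        (MvPowerSeries.X (0 : Fin 2) + MvPowerSeries.X 1 * PowerSeries.subst (MvPowerSeries.X (0 : Fin 2)) F :
          MvPowerSeries (Fin 2) R) F =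
      PowerSeries.subst (MvPowerSeries.X (0 : Fin 2)) F * PowerSeries.subst (MvPowerSeries.X (1 : Fin 2)) F) :
    F = 1 + PowerSeries.C (PowerSeries.coeff 1 F) * PowerSeries.X := by
  classical
  let G : MvPowerSeries (Fin 2) R := PowerSeries.subst (MvPowerSeries.X 0) F
  let u : MvPowerSeries (Fin 2) R := MvPowerSeries.X 0 + MvPowerSeries.X 1 * G
  let e : ℕ → ℕ → (Fin 2 →₀ ℕ) := fun m n => Finsupp.single 0 m + Finsupp.single 1 n
  let c : ℕ → R := fun j => PowerSeries.coeff j F
  have hX : PowerSeries.HasSubst (MvPowerSeries.X 0 : MvPowerSeries (Fin 2) R) := PowerSeries.HasSubst.X 0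
  have hu : PowerSeries.HasSubst u := PowerSeries.HasSubst.of_constantCoeff_zero (by simp [u])
  have hkey : ∀ (i m n : ℕ) (H : PowerSeries R),
      MvPowerSeries.coeff (e m n) (MvPowerSeries.X 1 ^ i * PowerSeries.subst (MvPowerSeries.X 0) H) =
        if i = n then PowerSeries.coeff m H else 0 := by
    intro i m n H
    rw [MvPowerSeries.X_pow_eq, MvPowerSeries.coeff_monomial_mul, one_mul]
    by_cases hin : i ≤ n
    · rw [if_pos (by simp [Finsupp.single_le_iff, e, hin]), PowerSeries.coeff_subst_single]
      rw [show e m n - Finsupp.single 1 i = e m (n - i) by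
        ext j; fin_cases j <;> simp [e]]
      by_cases h : i = n
      · subst h; simp [e]
      · rw [if_neg h, if_neg]
        intro h'
        have := DFunLike.congr_fun h' 1
        simp [e] at this
        omega
    · rw [if_neg (by simp [Finsupp.single_le_iff, e]; omega), if_neg (by omega)]
  have hpow : ∀ d m n : ℕ, MvPowerSeries.coeff (e m n) (u ^ d) =
      (d.choose n : R) * PowerSeries.coeff m (PowerSeries.X ^ (d - n) * F ^ n) := by
    intro d m n
    rw [show u = MvPowerSeries.X 1 * G + MvPowerSeries.X 0 from add_comm _ _, add_pow, map_sum]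
    have he : ∀ i, MvPowerSeries.coeff (e m n)
        ((MvPowerSeries.X 1 * G) ^ i * MvPowerSeries.X 0 ^ (d - i) * (d.choose i : MvPowerSeries (Fin 2) R)) =
        (d.choose i : R) * (if i = n then PowerSeries.coeff m (PowerSeries.X ^ (d - i) * F ^ i) else 0) := by
      intro i
      have : (MvPowerSeries.X 1 * G) ^ i * MvPowerSeries.X 0 ^ (d - i) * (d.choose i : MvPowerSeries (Fin 2) R) =
          (d.choose i : R) • (MvPowerSeries.X 1 ^ i * PowerSeries.subst (MvPowerSeries.X 0)
            (PowerSeries.X ^ (d - i) * F ^ i)) := by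
        rw [PowerSeries.subst_mul hX, PowerSeries.subst_pow hX, PowerSeries.subst_pow hX,
          PowerSeries.subst_X hX, Nat.cast_smul_eq_nsmul, nsmul_eq_mul, mul_pow]
        ring
      rw [this, LinearMap.map_smul, smul_eq_mul, hkey]
    simp only [he, mul_ite, mul_zero, Finset.sum_ite_eq', Finset.mem_range]
    split_ifs with h
    · rfl
    · rw [Nat.choose_eq_zero_of_lt (by omega)]; simp
  have hrhs : ∀ m n : ℕ, MvPowerSeries.coeff (e m n) (G * PowerSeries.subst (MvPowerSeries.X (1 : Fin 2)) F) =
      c m * c n := by
    intro m n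
    rw [MvPowerSeries.coeff_mul, Finset.sum_eq_single (Finsupp.single 0 m, Finsupp.single 1 n)]
    · simp [G, c, PowerSeries.coeff_subst_single]
    · intro p hp hne
      rw [Finset.mem_antidiagonal] at hp
      simp only [G, PowerSeries.coeff_subst_single]
      split_ifs with h1 h2 <;> try simp
      exfalso
      apply hne
      have a0 := DFunLike.congr_fun hp 0
      have a1 := DFunLike.congr_fun hp 1
      have q0 := DFunLike.congr_fun h2 0
      have q1 := DFunLike.congr_fun h1 1
      simp [e] at a0 a1 q0 q1
      ext j <;> fin_cases j <;> simp <;> omega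
    · intro h
      exact absurd (by rw [Finset.mem_antidiagonal]) h
  have hlhs : ∀ m n : ℕ, MvPowerSeries.coeff (e m n) (PowerSeries.subst u F) =
      ∑ d ∈ Finset.range (n + m + 1), c d * ((d.choose n : R) * PowerSeries.coeff m (PowerSeries.X ^ (d - n) * F ^ n)) := by
    intro m n
    rw [PowerSeries.coeff_subst hu]
    simp only [smul_eq_mul, hpow]
    refine finsum_eq_finsetSum_of_support_subset _ ?_
    intro d hd
    rw [Finset.coe_range, Set.mem_Iio]
    by_contra hlt
    apply hd
    show PowerSeries.coeff d F * _ = 0
    rw [PowerSeries.coeff_X_pow_mul', if_neg (by omega), mul_zero, mul_zero]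
  have heq : ∀ m n : ℕ, ∑ d ∈ Finset.range (n + m + 1),
      c d * ((d.choose n : R) * PowerSeries.coeff m (PowerSeries.X ^ (d - n) * F ^ n)) = c m * c n := by
    intro m n
    rw [← hlhs, ← hrhs]
    exact congrArg _ hFE
  have hF1 : ∀ n : ℕ, PowerSeries.coeff 1 (F ^ n) = (n : R) * c 1 := by
    intro n
    induction n with
    | zero => simp
    | succ n ih =>
      rw [pow_succ, PowerSeries.coeff_mul]
      simp [Finset.Nat.antidiagonal_succ, ih, map_pow, h0, c]
      ring
  -- the equation at x y^n
  have hn1 : ∀ n : ℕ, (n : R) * c 1 * c n + ((n + 1 : ℕ) : R) * c (n + 1) = c 1 * c n := by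
    intro n
    have h := heq 1 n
    rw [Finset.sum_range_succ, Finset.sum_range_succ, Finset.sum_eq_zero, zero_add] at h
    · simp [PowerSeries.coeff_X_pow_mul', hF1, map_pow, h0] at h
      rw [← h]
      push_cast
      ring
    · intro d hd
      rw [Nat.choose_eq_zero_of_lt (Finset.mem_range.mp hd)]
      simp
  -- the equation at x^m y
  let D : PowerSeries R := PowerSeries.mk fun j => ((j + 1 : ℕ) : R) * c (j + 1)
  have hD : D * F = PowerSeries.C (c 1) * F := by
    ext m
    rw [PowerSeries.coeff_C_mul, PowerSeries.coeff_mul, Finset.Nat.sum_antidiagonal_eq_sum_range_succ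
      (fun a b => PowerSeries.coeff a D * PowerSeries.coeff b F)]
    have h := heq m 1
    rw [show 1 + m + 1 = (m + 1) + 1 by omega, Finset.sum_range_succ'] at h
    simp only [Nat.choose_zero_succ, Nat.cast_zero, zero_mul, mul_zero, add_zero, Nat.choose_one_right,
      pow_one, Nat.add_sub_cancel, Nat.reduceAdd] at h
    rw [mul_comm, ← h]
    refine Finset.sum_congr rfl fun d hd => ?_
    rw [PowerSeries.coeff_X_pow_mul', if_pos (by simp at hd; omega)]
    simp [D, c]
    ring
  have hFu : IsUnit F := PowerSeries.isUnit_iff_constantCoeff.mpr (by rw [h0]; exact isUnit_one)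
  have hD' := hFu.mul_right_cancel hD
  have hd0 : ∀ j : ℕ, 2 ≤ j → (j : R) * c j = 0 := by
    intro j hj
    obtain ⟨i, rfl⟩ : ∃ i, j = i + 1 := ⟨j - 1, by omega⟩
    have := congrArg (PowerSeries.coeff i) hD'
    simpa [D, PowerSeries.coeff_C, show i ≠ 0 by omega] using this
  ext j
  rcases j with _ | _ | j
  · simp [h0]
  · simp [PowerSeries.coeff_C]
  · have h := hn1 (j + 2)
    rw [hd0 (j + 3) (by omega), add_zero, mul_right_comm, hd0 (j + 2) (by omega), zero_mul] at h
    have hz : c (j + 2) = 0 := (ha.mul_right_eq_zero).mp h.symm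
    simp [PowerSeries.coeff_C, PowerSeries.coeff_X]
    exact hz

end Groth.Agent.S12056
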