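import Groth.Statements.S12057
import Groth.Agent.TwistLib.PullGen
import Groth.Agent.TwistLib.Basic

set_option autoImplicit false
universe u
open CategoryTheory CategoryTheory.Limits AlgebraicGeometry
open FGA

namespace Groth.Agent.S12057

section
open CategoryTheory CategoryTheory.Limits AlgebraicGeometry TopologicalSpace Opposite
open AmpleLib (GenOn GenAt res)

theorem exists_genOn_restrict {X : Scheme.{u}} {M : X.Modules} (U : X.Opens)
    (i : M.restrict U.ι ≅ Coh.structureModule U.toScheme) :
    ∃ e : Γ(M, U.ι ''ᵁ (⊤ : U.toScheme.Opens)), GenOn M e := by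
  let U' := U.ι ''ᵁ (⊤ : U.toScheme.Opens)
  let e : Γ(M, U') := i.inv.app ⊤ (1 : Γ(U.toScheme, ⊤))
  refine ⟨e, fun V hV => ?_⟩
  have hVU : V ≤ U := hV.trans (by simp only [U', Scheme.Opens.ι_image_top, le_refl])
  obtain ⟨W, rfl⟩ : ∃ W : U.toScheme.Opens, U.ι ''ᵁ W = V := ⟨U.ι ⁻¹ᵁ V, by
    rw [Scheme.Hom.image_preimage_eq_opensRange_inf, Scheme.Opens.opensRange_ι]
    exact inf_eq_right.mpr hVU⟩
  have key : ∀ r : Γ(U.toScheme, W),
      i.inv.app W r = (show Γ(X, U.ι ''ᵁ W) from (U.ι.appIso W).inv r) • res M hV e := by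
    intro r
    have h1 : (r : Γ(Coh.structureModule U.toScheme, W)) =
        r • ((Coh.structureModule U.toScheme).presheaf.map (homOfLE (le_top : W ≤ ⊤)).op
          (1 : Γ(U.toScheme, ⊤))) := by
      refine Eq.trans ?_ (congrArg (r • ·) (map_one (U.toScheme.presheaf.map (homOfLE (le_top : W ≤ ⊤)).op).hom).symm)
      exact (mul_one r).symm
    refine ((congrArg (i.inv.app W) h1).trans (Scheme.Modules.Hom.app_smul i.inv r _)).trans ?_
    refine congrArg (fun t : Γ(M, U.ι ''ᵁ W) => (show Γ(X, U.ι ''ᵁ W) from (U.ι.appIso W).inv r) • t) ?_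
    exact NatTrans.naturality_apply i.inv.mapPresheaf (homOfLE (le_top : W ≤ ⊤)).op (1 : Γ(U.toScheme, ⊤))
  have hb := (ConcreteCategory.bijective_of_isIso (i.inv.app W)).comp
    (ConcreteCategory.bijective_of_isIso (U.ι.appIso W).hom)
  have e' : (⇑(i.inv.app W) ∘ ⇑(U.ι.appIso W).hom) = fun r : Γ(X, U.ι ''ᵁ W) => r • res M hV e :=
    funext fun r => by
      refine (key _).trans ?_
      rw [← CommRingCat.comp_apply, Iso.hom_inv_id]
      rfl
  exact e' ▸ hb


theorem exists_genOn_opens {X : Scheme.{u}} {M : X.Modules} (U : X.Opens)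
    (i : (Scheme.Modules.pullback U.ι).obj M ≅ Coh.structureModule U.toScheme) :
    ∃ e : Γ(M, U), GenOn M e := by
  obtain ⟨e, he⟩ := exists_genOn_restrict U (((Scheme.Modules.restrictFunctorIsoPullback U.ι).app M) ≪≫ i)
  exact ⟨res M (by simp) e, he.res _⟩

theorem genOn_push {X S : Scheme.{u}} (f : X ⟶ S) (hf : ∀ U : S.Opens, Function.Bijective (f.app U))
    {L : X.Modules} {U : S.Opens} (t : Γ(L, f ⁻¹ᵁ U)) (ht : GenOn L t) :
    GenOn ((Scheme.Modules.pushforward f).obj L) (W := U) t := by
  intro V hV
  exact (ht (f ⁻¹ᵁ V) (f.preimage_mono hV)).comp (hf V)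

theorem counit_pu {X S : Scheme.{u}} (f : X ⟶ S) (F : X.Modules) {U : S.Opens}
    (m : Γ((Scheme.Modules.pushforward f).obj F, U)) :
    ((Scheme.Modules.pullbackPushforwardAdjunction f).counit.app F).app (f ⁻¹ᵁ U) (KFlatLib.puSec f m) = m :=
  congr($((Scheme.Modules.pullbackPushforwardAdjunction f).right_triangle_components F).app U m)

end


/-- Let f : X ⟶ S be a morphism of schemes such that for every open U of S the induced map from sections
of the structure sheaf of S over U to sections of the structure sheaf of X over the inverse image of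
U is bijective. Let L be an invertible module on X which is trivial locally over S: every point of S
has an open neighbourhood U such that the restriction of L to the inverse image of U is isomorphic
to the structure sheaf. Then L is isomorphic to the pullback along f of an invertible module on S.
(The relative Picard group here is the group of global sections of the first higher direct image of
the sheaf of units, so its elements vanishing are exactly the classes trivial locally over the
base.) -/
theorem result {X S : Scheme.{u}} (f : X ⟶ S)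
    (hf : ∀ U : S.Opens, Function.Bijective (f.app U)) (L : X.Modules) (hL : PicF.IsInvertible L)
    (hloc : ∀ s : S, ∃ U : S.Opens, s ∈ U ∧
      Nonempty ((Scheme.Modules.pullback (f ⁻¹ᵁ U).ι).obj L ≅ Coh.structureModule (f ⁻¹ᵁ U))) :
    ∃ N : S.Modules, PicF.IsInvertible N ∧ Nonempty (L ≅ (Scheme.Modules.pullback f).obj N) := by
  choose U hsU hU using hloc
  have hg := fun s => exists_genOn_opens (f ⁻¹ᵁ U s) (hU s).some
  choose t ht using hg
  have hN := fun s => genOn_push f hf (t s) (ht s)
  let c := (Scheme.Modules.pullbackPushforwardAdjunction f).counit.app L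
  refine ⟨(Scheme.Modules.pushforward f).obj L, TwistLib.isInvertible_of_genOn U (fun x => ⟨x, hsU x⟩) t hN, ?_⟩
  haveI : IsIso c := TwistLib.isIso_of_gen c fun x => by
    refine ⟨f ⁻¹ᵁ U (f x), hsU (f x), KFlatLib.puSec f (t (f x)),
      TwistLib.GenAt.puSec f ((hN (f x)).genAt (hsU (f x))), ?_⟩
    show AmpleLib.GenAt L (c.app _ _) _
    rw [counit_pu]
    exact (ht (f x)).genAt _
  exact ⟨(asIso c).symm⟩

end Groth.Agent.S12057
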