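import Groth.Statements.S12058
import Groth.Agent.ExtOneLib.Basic
import Mathlib


-- import your own Groth.Agent.* helpers here

set_option autoImplicit false
universe w v u
open CategoryTheory CategoryTheory.Limits CategoryTheory.Abelian
open SGA3

namespace Groth.Agent.S12058

/-- In an abelian category, let 0 → A' → A → A'' → 0 be a short exact sequence, φ : A' ⟶ Q a morphism
and π : A'' ⟶ P an epimorphism with kernel C. Consider the quadruples (B, f, g, h) with 0 → Q → B →
P → 0 short exact (maps f, g) and h : A ⟶ B such that the squares commute: (A' → A → B) = (A' → Q →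
B) and (A → B → P) = (A → A'' → P). Such a quadruple exists if and only if the image in Ext¹(C, Q)
of the class of the given extension in Ext¹(A'', A') (push forward along φ, pull back along the
inclusion C → A'') is zero. -/
theorem result {C : Type u} [Category.{v} C] [Abelian C]
    [HasExt.{w} C] {S : ShortComplex C} (hS : S.ShortExact) {Q P : C} (φ : S.X₁ ⟶ Q) (π : S.X₃ ⟶ P) [Epi π] :
    (∃ (B : C) (f : Q ⟶ B) (g : B ⟶ P) (h : S.X₂ ⟶ B) (w : f ≫ g = 0),
        (ShortComplex.mk f g w).ShortExact ∧ S.f ≫ h = φ ≫ f ∧ h ≫ g = S.g ≫ π) ↔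
      (Ext.mk₀ (kernel.ι π)).comp (hS.extClass.comp (Ext.mk₀ φ) (add_zero 1)) (zero_add 1) = 0 := by
  constructor
  · rintro ⟨B, f, g, h, w, hB, h1, h2⟩
    have hnat := ShortComplex.ShortExact.extClass_naturality hS hB
      (ShortComplex.homMk (S₁ := S) (S₂ := ShortComplex.mk f g w) φ h π h1.symm h2)
    simp only [ShortComplex.homMk_τ₁, ShortComplex.homMk_τ₃] at hnat
    rw [hnat, Ext.mk₀_comp_mk₀_assoc, kernel.condition, Ext.mk₀_zero, Ext.zero_comp]
  · intro hz
    have hK : (ShortComplex.mk (kernel.ι π) π (kernel.condition π)).ShortExact :=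
      { exact := ShortComplex.exact_of_f_is_kernel _ (kernelIsKernel π) }
    obtain ⟨η, hη⟩ := Ext.contravariant_sequence_exact₂ hK Q (hS.extClass.comp (Ext.mk₀ φ) (add_zero 1)) hz
    obtain ⟨B, f, g, w, hB, rfl⟩ := ExtOneLib.exists_extension η
    letI := HasDerivedCategory.standard C
    let G := DerivedCategory.singleFunctor C 0
    have hz' := congrArg Ext.hom hη.symm
    simp only [Ext.comp_hom, Ext.mk₀_hom, ShortComplex.ShortExact.extClass_hom,
      ShiftedHom.comp_mk₀, ShiftedHom.mk₀_comp] at hz'
    rw [hB.extClass_hom] at hz'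
    obtain ⟨θ, h₁, h₂⟩ := CategoryTheory.Pretriangulated.complete_distinguished_triangle_morphism₂ _ _
      hS.singleTriangle_distinguished hB.singleTriangle_distinguished (G.map φ) (G.map π) hz'
    obtain ⟨h, rfl⟩ := G.map_surjective θ
    refine ⟨B, f, g, h, w, hB, G.map_injective ?_, G.map_injective ?_⟩
    · rw [G.map_comp, G.map_comp]; exact h₁
    · rw [G.map_comp, G.map_comp]; exact h₂.symm

end Groth.Agent.S12058
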