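import Groth.Statements.S12059
import Groth.Agent.QuotLib.Affine

set_option autoImplicit false
universe u
open CategoryTheory CategoryTheory.Limits AlgebraicGeometry
open SGA1

namespace Groth.Agent.S12059

/-- Let a finite group G act on a commutative ring A by ring automorphisms σ_g, and let B → A be
injective, G-equivariant for the trivial action on B, with image containing all G-invariants (so B
is the ring of invariants A^G). Let ρ be an action of G on Spec A by scheme automorphisms whose
automorphisms are exactly the maps Spec(σ_g). Then Spec A ⟶ Spec B is a quotient of Spec A by G, and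
the structure sheaf of Spec B is the sheaf of G-invariants of the direct image of the structure
sheaf of Spec A: the map is affine and G-invariant, and for every open U of Spec B the sections of
the structure sheaf of Spec B over U map injectively onto the G-invariant sections of the structure
sheaf of Spec A over the inverse image of U. -/
theorem result (G : Type u) [Group G] [Finite G] (A B : Type u) [CommRing A] [CommRing B]
    [Algebra B A] [MulSemiringAction G A] [SMulCommClass G B A] [Algebra.IsInvariant B A G] [FaithfulSMul B A]
    (ρ : G →* Aut (Spec (CommRingCat.of A)))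
    (hρ : Set.range (fun g : G => (ρ g).hom) =
      Set.range (fun g : G => Spec.map (CommRingCat.ofHom (MulSemiringAction.toRingHom G A g)))) :
    SGA1.IsQuot ρ (Spec.map (CommRingCat.ofHom (algebraMap B A))) := by
  let φ : CommRingCat.of B ⟶ CommRingCat.of A := CommRingCat.ofHom (algebraMap B A)
  let σ : G → (CommRingCat.of A ⟶ CommRingCat.of A) := fun g => CommRingCat.ofHom (MulSemiringAction.toRingHom G A g)
  have hρ1 : ∀ g, ∃ h, Spec.map (σ h) = (ρ g).hom := fun g => hρ.le ⟨g, rfl⟩
  have hρ2 : ∀ h, ∃ g, (ρ g).hom = Spec.map (σ h) := fun h => hρ.ge ⟨h, rfl⟩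
  have htop : ∀ {R S : CommRingCat.{u}} (ψ : R ⟶ S) (x : Γ(Spec R, ⊤)),
      (Scheme.ΓSpecIso S).hom ((Spec.map ψ).appTop x) = ψ ((Scheme.ΓSpecIso R).hom x) := fun ψ x => by
    rw [← CommRingCat.comp_apply, ← CommRingCat.comp_apply]
    exact congr($(Scheme.ΓSpecIso_naturality ψ) x)
  have hinjA : Function.Injective (Scheme.ΓSpecIso (CommRingCat.of A)).hom :=
    (ConcreteCategory.bijective_of_isIso _).1
  refine QuotLib.isQuot_of_affine (fun g => ?_) ?_ ?_
  · obtain ⟨h, hh⟩ := hρ1 g
    rw [← hh, ← Spec.map_comp]
    congr 1
    ext b
    exact smul_algebraMap h b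
  · intro x y hxy
    have h1 := congrArg (Scheme.ΓSpecIso (CommRingCat.of A)).hom hxy
    rw [htop, htop] at h1
    exact (ConcreteCategory.bijective_of_isIso (Scheme.ΓSpecIso (CommRingCat.of B)).hom).1
      (FaithfulSMul.algebraMap_injective B A h1)
  · intro s hs
    obtain ⟨b, hb⟩ := Algebra.IsInvariant.isInvariant (A := B) (G := G) ((Scheme.ΓSpecIso (CommRingCat.of A)).hom s)
      fun h => by
        obtain ⟨g, hg⟩ := hρ2 h
        have h1 := congrArg (Scheme.ΓSpecIso (CommRingCat.of A)).hom (hs g)
        rw [hg, htop] at h1
        exact h1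
    refine ⟨(Scheme.ΓSpecIso (CommRingCat.of B)).inv b, hinjA ?_⟩
    rw [htop]
    refine (congrArg φ (ConcreteCategory.congr_hom (Scheme.ΓSpecIso (CommRingCat.of B)).inv_hom_id b)).trans ?_
    exact hb

end Groth.Agent.S12059
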