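import Groth.Statements.S1206
import Mathlib

-- import your own Groth.Agent.* helpers here

set_option autoImplicit false
universe u
open FlatMor

namespace Groth.Agent.S1206

/-- Let A be a local domain which is not a field and 𝒮 a set of finitely generated ideals of A, closed
under products, such that the union of the closed sets V(I), I ∈ 𝒮, is exactly the set of nonzero
primes (every nonzero prime contains a member of 𝒮 and no member is zero). Then the intersection of
all members of 𝒮 is zero. -/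
theorem result (A : Type u) [CommRing A] [IsDomain A] [IsLocalRing A] (hA : ¬ IsField A)
    (𝒮 : Set (Ideal A)) (hfg : ∀ I ∈ 𝒮, I.FG) (hmul : ∀ I ∈ 𝒮, ∀ J ∈ 𝒮, I * J ∈ 𝒮)
    (hne : ∀ I ∈ 𝒮, I ≠ ⊥) (hcov : ∀ (p : Ideal A), p.IsPrime → p ≠ ⊥ → ∃ I ∈ 𝒮, I ≤ p) :
    sInf 𝒮 = ⊥ := by
  classical
  have key : ∀ b : A, b ≠ 0 → ∃ I ∈ 𝒮, I ≤ Ideal.span {b} := by
    intro b hb
    by_contra hcon
    push Not at hcon
    let T : Set (Ideal A) := {K | Ideal.span {b} ≤ K ∧ ∀ I ∈ 𝒮, ¬ I ≤ K}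
    have hT : Ideal.span {b} ∈ T := ⟨le_rfl, hcon⟩
    obtain ⟨K, hbK, hK⟩ := zorn_le_nonempty₀ T (fun c hcT hc y hy => by
      refine ⟨sSup c, ⟨(hcT hy).1.trans (le_sSup hy), fun I hI hle => ?_⟩, fun z hz => le_sSup hz⟩
      obtain ⟨K, hKc, hIK⟩ := (Submodule.fg_iff_compact I).1 (hfg I hI) c (sSup c) ⟨y, hy⟩ hc.directedOn
        (isLUB_sSup c) hle
      exact (hcT hKc).2 I hI hIK) _ hT
    have hKne : K ≠ ⊤ := by
      intro h
      obtain ⟨I, hI, -⟩ := hcov (IsLocalRing.maximalIdeal A) inferInstance (fun h => hA (IsLocalRing.isField_iff_maximalIdeal_eq.2 h))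
      exact hK.1.2 I hI (h ▸ le_top)
    have hKp : K.IsPrime := by
      refine ⟨hKne, fun {x y} hxy => ?_⟩
      by_contra hne'
      push Not at hne'
      have hx : ∀ z, z ∉ K → ∃ I ∈ 𝒮, I ≤ K ⊔ Ideal.span {z} := fun z hz => by
        by_contra h
        push Not at h
        exact hz (hK.2 ⟨hK.1.1.trans le_sup_left, h⟩ le_sup_left
          (Ideal.mem_sup_right (Ideal.mem_span_singleton_self z)))
      obtain ⟨I, hI, hIx⟩ := hx x hne'.1
      obtain ⟨J, hJ, hJy⟩ := hx y hne'.2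
      refine hK.1.2 (I * J) (hmul I hI J hJ) ((Ideal.mul_mono hIx hJy).trans ?_)
      rw [Ideal.mul_sup, Ideal.sup_mul, Ideal.sup_mul, Ideal.span_singleton_mul_span_singleton]
      refine sup_le (sup_le Ideal.mul_le_right Ideal.mul_le_right) (sup_le Ideal.mul_le_left ?_)
      rwa [Ideal.span_singleton_le_iff_mem]
    have hK0 : K ≠ ⊥ := fun h => hb (by
      have := hK.1.1 (Ideal.mem_span_singleton_self b)
      rwa [h, Ideal.mem_bot] at this)
    obtain ⟨I, hI, hle⟩ := hcov K hKp hK0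
    exact hK.1.2 I hI hle
  refine (Submodule.eq_bot_iff _).2 fun a ha => ?_
  by_contra ha0
  obtain ⟨c, hcm, hc0⟩ := Submodule.exists_mem_ne_zero_of_ne_bot (fun h => hA (IsLocalRing.isField_iff_maximalIdeal_eq.2 h))
  obtain ⟨I, hI, hle⟩ := key (a * c) (mul_ne_zero ha0 hc0)
  obtain ⟨t, ht⟩ := Ideal.mem_span_singleton'.1 (hle ((Submodule.mem_sInf.1 ha) I hI))
  have h1 : c * t = 1 := mul_left_cancel₀ ha0 (by rw [mul_one]; linear_combination ht)
  exact (IsLocalRing.maximalIdeal.isMaximal A).ne_top ((Ideal.eq_top_iff_one _).2 (h1 ▸ Ideal.mul_mem_right t _ hcm))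

end Groth.Agent.S1206
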