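import Groth.Statements.S12061
import Groth.Agent.BorelLib.CentralPreimageRel
import Groth.Agent.BorelLib.ImageField
import Groth.Agent.CentLocusLib.Global
import Groth.Agent.MonoQuotLib.Kernel
import Groth.Agent.S1133
import Groth.Agent.S0083
import Groth.Agent.FlatLib.SmoothScheme
import Groth.Agent.BorelRadLib.Preimage
-- import your own Groth.Agent.* helpers here

set_option autoImplicit false
universe u
open CategoryTheory MonoidalCategory CartesianMonoidalCategory MonObj GrpObj AlgebraicGeometry
open SGA3x

namespace Groth.Agent.S12061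

set_option maxHeartbeats 4000000
set_option synthInstance.maxHeartbeats 400000
set_option backward.isDefEq.respectTransparency false
open CategoryTheory CategoryTheory.Limits MonoidalCategory CartesianMonoidalCategory MonObj GrpObj AlgebraicGeometry
attribute [-instance] CategoryTheory.Hom.commGroup
open Groth.Agent.BorelLib
attribute [local instance] BorelLib.pTop BorelLib.pTopTensor



/-- Let k be a field, G and G′ smooth connected k-group schemes of finite type and u : G → G′ a
faithfully flat homomorphism whose kernel, after base change to an algebraic closure of k, is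
contained in the radical of G, i.e. in some smooth connected solvable normal subgroup. Then B′ ↦
u⁻¹(B′) sends Borel subgroups of G′ (subgroup schemes, smooth of finite type over k, whose geometric
fibre is a Borel subgroup) to Borel subgroups of G, and every Borel subgroup of G arises in this
way: if B′ is a Borel subgroup of G′ and B is a k-group scheme with homomorphisms b : B → G and v :
B → B′ making B = G ×_{G′} B′, then B is a Borel subgroup of G; and every Borel subgroup of G is
such an inverse image of some Borel subgroup of G′. (The published statement says that B′ ↦ u⁻¹(B′)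
is a bijection; its injectivity, a consequence of faithful flatness of u, is not stated here.) -/
theorem result (k : Type u) [Field k] (G G' : Over (Spec (CommRingCat.of k)))
    [GrpObj G] [GrpObj G'] [Smooth G.hom] [QuasiCompact G.hom] [Smooth G'.hom] [QuasiCompact G'.hom]
    [ConnectedSpace ↥G.left] [ConnectedSpace ↥G'.left]
    (u : G ⟶ G') [IsMonHom u] [Flat u.left] [Surjective u.left]
    (hrad : ∀ s : ↥(Spec (CommRingCat.of k)), ∃ (R : Over (Spec (CommRingCat.of (AlgebraicClosure ((Spec (CommRingCat.of k)).residueField s)))))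
      (_ : GrpObj R) (r : R ⟶ Red.geomFibre s G), IsMonHom r ∧ IsClosedImmersion r.left ∧ Smooth R.hom ∧
      ConnectedSpace ↥R.left ∧ Red.IsSolvableGrp R ∧
      (∀ (X : Over (Spec (CommRingCat.of (AlgebraicClosure ((Spec (CommRingCat.of k)).residueField s))))) (g : X ⟶ Red.geomFibre s G)
        (x : X ⟶ R), ∃ x' : X ⟶ R, g * (x ≫ r) * g⁻¹ = x' ≫ r) ∧
      (∀ (X : Over (Spec (CommRingCat.of (AlgebraicClosure ((Spec (CommRingCat.of k)).residueField s))))) (g : X ⟶ Red.geomFibre s G),
        g ≫ (Over.pullback (Red.geomPt s)).map u = 1 → ∃ x : X ⟶ R, x ≫ r = g)) :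
    (∀ (B' : Over (Spec (CommRingCat.of k))) [GrpObj B'] (b' : B' ⟶ G'), (IsMonHom b' ∧ Mono b' ∧ Smooth B'.hom ∧ QuasiCompact B'.hom ∧
      ∀ s : ↥(Spec (CommRingCat.of k)), Red.IsBorelOver (AlgebraicClosure ((Spec (CommRingCat.of k)).residueField s)) ((Over.pullback (Red.geomPt s)).map b')) →
      ∀ (B : Over (Spec (CommRingCat.of k))) [GrpObj B] (b : B ⟶ G) [IsMonHom b] (v : B ⟶ B') [IsMonHom v], IsPullback b v u b' →
      (IsMonHom b ∧ Mono b ∧ Smooth B.hom ∧ QuasiCompact B.hom ∧
      ∀ s : ↥(Spec (CommRingCat.of k)), Red.IsBorelOver (AlgebraicClosure ((Spec (CommRingCat.of k)).residueField s)) ((Over.pullback (Red.geomPt s)).map b))) ∧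
    (∀ (B : Over (Spec (CommRingCat.of k))) [GrpObj B] (b : B ⟶ G), (IsMonHom b ∧ Mono b ∧ Smooth B.hom ∧ QuasiCompact B.hom ∧
      ∀ s : ↥(Spec (CommRingCat.of k)), Red.IsBorelOver (AlgebraicClosure ((Spec (CommRingCat.of k)).residueField s)) ((Over.pullback (Red.geomPt s)).map b)) →
      ∃ (B' : Over (Spec (CommRingCat.of k))) (_ : GrpObj B') (b' : B' ⟶ G') (v : B ⟶ B'), (IsMonHom b' ∧ Mono b' ∧ Smooth B'.hom ∧ QuasiCompact B'.hom ∧
      ∀ s : ↥(Spec (CommRingCat.of k)), Red.IsBorelOver (AlgebraicClosure ((Spec (CommRingCat.of k)).residueField s)) ((Over.pullback (Red.geomPt s)).map b')) ∧ IsMonHom v ∧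
        IsPullback b v u b') := by
  haveI : IsSeparated G.hom := Groth.Agent.GrpField.isSeparated_grp (G := G)
  haveI : IsSeparated G'.hom := Groth.Agent.GrpField.isSeparated_grp (G := G')
  have hconnG : ∀ (s : ↥(Spec (CommRingCat.of k))), ConnectedSpace ↥(Red.geomFibre s G).left := fun s => by
    refine CentLocus.connectedSpace_geom (fun t => ?_) (Red.geomPt s)
    haveI : Subsingleton ↥(Spec (CommRingCat.of k)) := inferInstanceAs (Subsingleton (PrimeSpectrum k))
    haveI := isConnected_iff_connectedSpace.1 (show _root_.IsConnected (G.hom.base ⁻¹' {t}) by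
      rw [show G.hom.base ⁻¹' {t} = Set.univ from Set.eq_univ_of_forall fun x => Subsingleton.elim _ _]
      exact connectedSpace_iff_univ.1 inferInstance)
    exact (G.hom.fiberHomeo t).symm.surjective.connectedSpace (G.hom.fiberHomeo t).symm.continuous
  have hconnG' : ∀ (s : ↥(Spec (CommRingCat.of k))), ConnectedSpace ↥(Red.geomFibre s G').left := fun s => by
    refine CentLocus.connectedSpace_geom (fun t => ?_) (Red.geomPt s)
    haveI : Subsingleton ↥(Spec (CommRingCat.of k)) := inferInstanceAs (Subsingleton (PrimeSpectrum k))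
    haveI := isConnected_iff_connectedSpace.1 (show _root_.IsConnected (G'.hom.base ⁻¹' {t}) by
      rw [show G'.hom.base ⁻¹' {t} = Set.univ from Set.eq_univ_of_forall fun x => Subsingleton.elim _ _]
      exact connectedSpace_iff_univ.1 inferInstance)
    exact (G'.hom.fiberHomeo t).symm.surjective.connectedSpace (G'.hom.fiberHomeo t).symm.continuous
  haveI := CentPre.lfp_left u
  haveI hqu : QuasiCompact u.left := by
    haveI : QuasiCompact (u.left ≫ G'.hom) := by rw [Over.w u]; infer_instance
    exact QuasiCompact.of_comp u.left G'.hom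
  have hs : ∀ (H : Over (Spec (CommRingCat.of k))) [Smooth H.hom] (s : ↥(Spec (CommRingCat.of k))), Smooth (Red.geomFibre s H).hom := fun H _ s =>
    MorphismProperty.pullback_snd (P := @Smooth) _ _ inferInstance
  have hq : ∀ (H : Over (Spec (CommRingCat.of k))) [QuasiCompact H.hom] (s : ↥(Spec (CommRingCat.of k))), QuasiCompact (Red.geomFibre s H).hom := fun H _ s =>
    MorphismProperty.pullback_snd (P := @QuasiCompact) _ _ inferInstance
  refine ⟨?_, ?_⟩
  · intro B' _ b' hB' B _ b _ v _ hpb
    obtain ⟨hb'm, hb'mono, hB's, hB'q, hB'g⟩ := hB'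
    haveI := hb'm; haveI := hb'mono; haveI := hB's; haveI := hB'q
    have hsq : IsPullback b.left v.left u.left b'.left := hpb.map (Over.forget _)
    haveI : Flat v.left := MorphismProperty.of_isPullback (P := @Flat) hsq ‹_›
    haveI : Surjective v.left := MorphismProperty.of_isPullback (P := @Surjective) hsq ‹_›
    haveI : QuasiCompact v.left := MorphismProperty.of_isPullback (P := @QuasiCompact) hsq ‹_›
    haveI : LocallyOfFinitePresentation v.left :=
      MorphismProperty.of_isPullback (P := @LocallyOfFinitePresentation) hsq ‹_›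
    haveI hBq : QuasiCompact B.hom := by rw [← Over.w v]; infer_instance
    haveI : Flat B.hom := by rw [← Over.w v]; infer_instance
    haveI : LocallyOfFinitePresentation B.hom := by rw [← Over.w v]; infer_instance
    have hgeom : ∀ s : ↥(Spec (CommRingCat.of k)), Red.IsBorelOver (AlgebraicClosure ((Spec (CommRingCat.of k)).residueField s))
        ((Over.pullback (Red.geomPt s)).map b) := fun s => by
      haveI := hs G s; haveI := hq G s; haveI := hs G' s; haveI := hq G' s
      haveI := hconnG s; haveI := hconnG' s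
      haveI := DiagRep.isMonHom_bc_map (Red.geomPt s) u
      haveI := DiagRep.isMonHom_bc_map (Red.geomPt s) b
      haveI := surjective_bc (Red.geomPt s) u
      exact RadPre.isBorelOver_of_isPullback (hrad s) (hB'g s)
        (hpb.map (Over.pullback (Red.geomPt s)))
    haveI : Mono b := PullbackCone.mono_fst_of_is_pullback_of_mono hpb.isLimit
    exact ⟨inferInstance, inferInstance, CentPre.smooth_of_geom_fibres B fun s => (hgeom s).2.2.1, hBq, hgeom⟩
  · intro B _ b hB
    obtain ⟨hbm, hbmono, hBs, hBq, hBg⟩ := hB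
    haveI := hbm; haveI := hbmono; haveI := hBs; haveI := hBq
    haveI : QuasiSeparated B.hom := by
      haveI : Mono b.left := inferInstanceAs (Mono ((Over.forget (Spec (CommRingCat.of k))).map b))
      rw [← Over.w b]; infer_instance
    obtain ⟨hN, hbc⟩ := isNormalizerOf_self_of_geomFibres (i := b) (fun s => (hBg s).2.2.2.1) fun s => by
      haveI := hs G s; haveI := hq G s; haveI := hconnG s
      exact BorelLib.NA.isNormalizerOf_self (hBg s)
    haveI := hbc
    have hK : ∀ (X : Over (Spec (CommRingCat.of k))) (z : X ⟶ G), z ≫ u = 1 → ∃ y : X ⟶ B, y ≫ b = z := fun X z hz => by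
      obtain ⟨s⟩ : Nonempty ↥(Spec (CommRingCat.of k)) := inferInstanceAs (Nonempty (PrimeSpectrum k))
      haveI := hs G s; haveI := hq G s; haveI := hconnG s
      haveI := surjective_bc (Red.geomPt s) u
      haveI := DiagRep.isMonHom_bc_map (Red.geomPt s) u
      haveI := DiagRep.isMonHom_bc_map (Red.geomPt s) b
      let F := Over.pullback (Red.geomPt s)
      obtain ⟨y, hy⟩ := RadPre.exists_factor_borel (hrad s) (hBg s) (F.obj X) (F.map z) (by
        rw [← F.map_comp, hz]; exact map_one (F.homMonoidHom))
      have hfl : Flat (pullback.fst X.hom (Red.geomPt s)) :=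
        MorphismProperty.pullback_fst (P := @Flat) _ _ (BorelLib.flat_geomPt s)
      haveI : Surjective (Red.geomPt s) := BorelLib.surjective_geomPt s
      haveI hsj : Surjective (pullback.fst X.hom (Red.geomPt s)) :=
        MorphismProperty.pullback_fst (P := @Surjective) _ _ inferInstance
      obtain ⟨l, hl⟩ := Groth.Agent.Transporter.exists_lift_of_family b.left z.left
        (fun _ : PUnit.{1} => pullback.fst X.hom (Red.geomPt s)) (fun _ => hfl)
        (fun t => ⟨PUnit.unit, hsj.surj t⟩)
        fun _ => ⟨y.left ≫ pullback.fst B.hom (Red.geomPt s), by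
          have e := congrArg (fun φ => φ.left ≫ pullback.fst G.hom (Red.geomPt s)) hy
          simpa [F, Category.assoc, pullback.lift_fst] using e⟩
      exact ⟨Over.homMk l (by rw [← Over.w z, ← hl, Category.assoc, Over.w b]), Over.OverMorphism.ext hl⟩
    have key : ∀ {T : Scheme.{u}} (x₀ x₁ : T ⟶ G.left), x₀ ≫ u.left = x₁ ≫ u.left →
        (∃ l : T ⟶ B.left, l ≫ b.left = x₀) → ∃ l : T ⟶ B.left, l ≫ b.left = x₁ := by
      intro T x₀ x₁ h ⟨l, hl⟩
      let X : Over (Spec (CommRingCat.of k)) := Over.mk (x₀ ≫ G.hom)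
      have hw : x₁ ≫ G.hom = x₀ ≫ G.hom := by rw [← Over.w u, ← Category.assoc, ← h, Category.assoc]
      let g₀ : X ⟶ G := Over.homMk x₀ rfl
      let g₁ : X ⟶ G := Over.homMk x₁ hw
      let m : X ⟶ B := Over.homMk l (by show l ≫ B.hom = x₀ ≫ G.hom; rw [← hl, Category.assoc, Over.w b])
      have hm : m ≫ b = g₀ := Over.OverMorphism.ext hl
      have hu : g₀ ≫ u = g₁ ≫ u := Over.OverMorphism.ext h
      obtain ⟨y, hy⟩ := hK X (g₀⁻¹ * g₁) (by rw [MonObj.mul_comp, GrpObj.inv_comp, hu, inv_mul_cancel])
      have : (m * y) ≫ b = g₁ := by rw [MonObj.mul_comp, hm, hy, mul_inv_cancel_left]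
      exact ⟨(m * y).left, by rw [← Over.comp_left, this]; rfl⟩
    haveI : Mono b.left := inferInstanceAs (Mono ((Over.forget (Spec (CommRingCat.of k))).map b))
    have hsub : ∀ {T : Scheme.{u}} {x : T ⟶ G.left} (v v' : {l : T ⟶ B.left // l ≫ b.left = x}), v = v' :=
      fun v v' => Subtype.ext ((cancel_mono b.left).1 (v.2.trans v'.2.symm))
    let mv : ∀ {T : Scheme.{u}} (x₀ x₁ : T ⟶ G.left), x₀ ≫ u.left = x₁ ≫ u.left →
        {l : T ⟶ B.left // l ≫ b.left = x₀} → {l : T ⟶ B.left // l ≫ b.left = x₁} := fun x₀ x₁ h v =>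
      ⟨(key x₀ x₁ h ⟨v.1, v.2⟩).choose, (key x₀ x₁ h ⟨v.1, v.2⟩).choose_spec⟩
    let D : Desc.SchDD u.left :=
      { obj := Over.mk b.left
        φ := fun T x₀ x₁ h => ⟨mv x₀ x₁ h, mv x₁ x₀ h.symm, fun v => hsub _ _, fun v => hsub _ _⟩
        φ_natural := fun T T' g x₀ x₁ h h' v v' hv' => (cancel_mono b.left).1
          ((mv (g ≫ x₀) (g ≫ x₁) h' v').2.trans (by
            rw [Category.assoc]; exact congrArg (g ≫ ·) (mv x₀ x₁ h v).2.symm))
        φ_self := fun T x v => hsub _ _
        φ_comp := fun T x₀ x₁ x₂ h₀₁ h₁₂ v => hsub _ _ }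
    haveI : IsAffineHom D.obj.hom := inferInstanceAs (IsAffineHom b.left)
    obtain ⟨U, ⟨e⟩⟩ := Groth.Agent.S1133.result u.left D
    let w : pullback u.left U.hom ⟶ B.left := e.hom.hom.left
    let w' : B.left ⟶ pullback u.left U.hom := e.inv.hom.left
    have hw : w ≫ b.left = pullback.fst u.left U.hom := Over.w e.hom.hom
    have hw' : w' ≫ pullback.fst u.left U.hom = b.left := Over.w e.inv.hom
    have hww : w ≫ w' = 𝟙 _ := congrArg (fun f => f.hom.left) e.hom_inv_id
    have hww' : w' ≫ w = 𝟙 _ := congrArg (fun f => f.hom.left) e.inv_hom_id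
    haveI : IsIso w' := ⟨w, hww', hww⟩
    haveI : IsClosedImmersion (pullback.fst u.left U.hom) := by
      haveI : IsIso w := ⟨w', hww, hww'⟩
      rw [← hw]; infer_instance
    haveI := Groth.Agent.S0083.result.{u}
    haveI : IsClosedImmersion U.hom := MorphismProperty.of_isPullback_of_descendsAlong
      (P := @IsClosedImmersion) (Q := @Surjective ⊓ @Flat ⊓ @QuasiCompact)
      (IsPullback.of_hasPullback u.left U.hom) ⟨⟨‹_›, ‹_›⟩, ‹_›⟩ ‹_›
    let B' : Over (Spec (CommRingCat.of k)) := Over.mk (U.hom ≫ G'.hom)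
    let b' : B' ⟶ G' := Over.homMk U.hom rfl
    let v : B ⟶ B' := Over.homMk (w' ≫ pullback.snd u.left U.hom) (by
      show (w' ≫ pullback.snd u.left U.hom) ≫ U.hom ≫ G'.hom = B.hom
      rw [Category.assoc, ← pullback.condition_assoc, Over.w u, ← Category.assoc, hw', Over.w b])
    have hsq : IsPullback b.left v.left u.left b'.left :=
      IsPullback.of_iso (IsPullback.of_hasPullback u.left U.hom) (asIso w').symm (Iso.refl _) (Iso.refl _)
        (Iso.refl _) (by simp [← hw']) (by simp [v]) (by simp) (by simp [b'])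
    have hpb : IsPullback b v u b' :=
      IsPullback.of_map (Over.forget (Spec (CommRingCat.of k))) (Over.OverMorphism.ext hsq.w) hsq
    haveI : IsClosedImmersion b'.left := ‹IsClosedImmersion U.hom›
    haveI : Mono b' := DiagRep.mono_of_isClosedImmersion b' inferInstance
    haveI : Flat v.left := MorphismProperty.of_isPullback (P := @Flat) hsq ‹_›
    haveI : Surjective v.left := MorphismProperty.of_isPullback (P := @Surjective) hsq ‹_›
    haveI : LocallyOfFinitePresentation v.left :=
      MorphismProperty.of_isPullback (P := @LocallyOfFinitePresentation) hsq ‹_›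
    obtain ⟨I, hv, hb'⟩ := MonoQuot.exists_grpObj_image (u := b ≫ u) v b' hpb.w.symm
    letI := I; haveI := hv; haveI := hb'
    haveI hB'q : QuasiCompact B'.hom := by rw [← Over.w b']; infer_instance
    haveI hB's : Smooth B'.hom := by
      haveI : Smooth (v.left ≫ B'.hom) := by rw [Over.w v]; infer_instance
      exact FlatLib.smooth_of_fppf_comp v.left B'.hom
    refine ⟨B', I, b', v, ⟨hb', inferInstance, hB's, hB'q, fun s => ?_⟩, hv, hpb⟩
    haveI := hs G s; haveI := hq G s; haveI := hs G' s; haveI := hq G' s; haveI := hs B' s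
    haveI := hconnG s; haveI := hconnG' s
    haveI := DiagRep.isMonHom_bc_map (Red.geomPt s) u
    haveI := DiagRep.isMonHom_bc_map (Red.geomPt s) b'
    haveI := surjective_bc (Red.geomPt s) u
    haveI := surjective_bc (Red.geomPt s) v
    haveI := isClosedImmersion_bc (Red.geomPt s) b'
    exact RadPre.isBorelOver_of_isPullback' (hrad s) (hBg s)
      (hpb.map (Over.pullback (Red.geomPt s)))


end Groth.Agent.S12061
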