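import Groth.Statements.S12063
import Groth.Agent.BorelLib.RedTorus
import Groth.Agent.ToriSchLib.Fibres
import Groth.Agent.ToriSchLib.Quotient
import Groth.Agent.RCentreLib.Torus
-- import your own Groth.Agent.* helpers here

set_option autoImplicit false
universe u
open CategoryTheory MonoidalCategory CartesianMonoidalCategory MonObj GrpObj AlgebraicGeometry CategoryTheory.Limits
open SGA3x

namespace Groth.Agent.S12063

attribute [local instance] Groth.Agent.BorelLib.pTop Groth.Agent.BorelLib.pTopTensor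

/-- Let G be an S-group scheme, smooth and affine over S, T a maximal torus of G and N = Norm_G(T) its
normalizer. If q : G → Q represents the fppf quotient G/N (q is surjective, flat and locally of
finite presentation, and G ×_S N → G ×_Q G, (g, n) ↦ (g, g n), is an isomorphism), then Q is affine
over S. (With a maximal torus defined over S the reductive rank of G is locally constant, as the
published statement assumes.) -/
theorem result (S : Scheme.{u}) (G : Over S) [GrpObj G]
    [IsAffineHom G.hom] [Smooth G.hom]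
    (T : Over S) [GrpObj T] (i : T ⟶ G) (hT : Red.IsMaximalTorus i)
    (N : Over S) [GrpObj N] (n : N ⟶ G) (hN : Red.IsNormalizerOf i n)
    (Q : Over S) (q : G ⟶ Q) (hq : RedSub.IsQuotient n q) :
    IsAffineHom Q.hom := by
  have hL : SGA3x.HasMaxTorusFpqcLocally G :=
    ⟨S, 𝟙 S, inferInstance, inferInstance, fun V hV => RedRank.hcov_of_open (𝟙 S) V hV, Red.bc (𝟙 S) T, inferInstance,
      (Over.pullback (𝟙 S)).map i, Groth.Agent.RCentre.isMaximalTorus_bc hT (𝟙 S)⟩
  obtain ⟨R⟩ := ToriSch.exists_rep hL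
  have hrep : RedSub.RepresentsTor G R.M R.T R.i := ⟨R.max, fun S' f H' _ h' hh' => by
    haveI := hh'.2.1
    haveI := R.max.2.1
    obtain ⟨v, ⟨hv, hs⟩, hu⟩ := R.univ f H' h' hh'
    exact ⟨v, ⟨hv, (ToriSch.samePoints_iff R.i h' v hv).2 hs⟩,
      fun v' ⟨hv', hp⟩ => hu v' ⟨hv', (ToriSch.samePoints_iff R.i h' v' hv').1 hp⟩⟩⟩
  obtain ⟨q', -, hq'⟩ := ToriSch.exists_quotient R.M R.T R.i hrep i hT n hN
  obtain ⟨hs, hf, hl, hp⟩ := hq
  obtain ⟨hs', hf', hl', hp'⟩ := hq'
  haveI := hs; haveI := hf; haveI := hl; haveI := hs'; haveI := hf'; haveI := hl'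
  -- both maps present the same quotient
  have key : ∀ {Z : Scheme} (a b : Z ⟶ G.left), a ≫ q.left = b ≫ q.left ↔ a ≫ q'.left = b ≫ q'.left := by
    intro Z a b
    have P := hp.map (Over.forget S)
    have P' := hp'.map (Over.forget S)
    constructor <;> intro h
    · obtain ⟨z, h1, h2⟩ := P.exists_lift a b h
      rw [← h1, ← h2]
      exact (Category.assoc _ _ _).trans ((congrArg (z ≫ ·) P'.w).trans (Category.assoc _ _ _).symm)
    · obtain ⟨z, h1, h2⟩ := P'.exists_lift a b h
      rw [← h1, ← h2]
      exact (Category.assoc _ _ _).trans ((congrArg (z ≫ ·) P.w).trans (Category.assoc _ _ _).symm)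
  let u : Q.left ⟶ R.M.left := EffectiveEpi.desc q.left q'.left fun {Z} a b h => (key a b).1 h
  let v : R.M.left ⟶ Q.left := EffectiveEpi.desc q'.left q.left fun {Z} a b h => (key a b).2 h
  have hu : q.left ≫ u = q'.left := EffectiveEpi.fac _ _ _
  have hv : q'.left ≫ v = q.left := EffectiveEpi.fac _ _ _
  have huv : u ≫ v = 𝟙 _ := by rw [← cancel_epi q.left, reassoc_of% hu, hv, Category.comp_id]
  have hvu : v ≫ u = 𝟙 _ := by rw [← cancel_epi q'.left, reassoc_of% hv, hu, Category.comp_id]
  have hw : Q.hom = u ≫ R.M.hom := by rw [← cancel_epi q.left, reassoc_of% hu, Over.w q, Over.w q']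
  haveI : IsIso u := ⟨v, huv, hvu⟩
  haveI := R.affine
  rw [hw]
  infer_instance

end Groth.Agent.S12063
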