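import Groth.Statements.S12066
import Groth.Agent.S0238

set_option autoImplicit false
universe u
open CategoryTheory AlgebraicGeometry
open FSch

namespace Groth.Agent.S12066

/-- Let 𝔛 be a locally Noetherian formal scheme with an ideal of definition, presented as the adic
system of its thickenings X_0 → X_1 → ⋯ (each X_n locally Noetherian). Then the functor "fibre over
X_0", from the category of étale covers of 𝔛 (adic systems R_n → X_n of finite étale covers) to the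
category of finite étale covers of the scheme X_0, is an equivalence of categories. -/
theorem result (𝔛 : FSch.Sys.{u}) (h𝔛 : 𝔛.IsLocNoethFormal) :
    (FSch.EtCov.level 𝔛 0).IsEquivalence := by
  haveI := fun n => (h𝔛.1 n).1
  haveI : ∀ n, Surjective (𝔛.ι n) := fun n => ⟨(h𝔛.1 n).2⟩
  haveI : ∀ n, (FEt.restrict (𝔛.ι n)).IsEquivalence := fun n => Groth.Agent.S0238.result (𝔛.ι n)
  have hom_eq : ∀ (n : ℕ) {Y Z : FEt.Cat (𝔛.X (n + 1))} {A : Scheme.{u}} (top : A ⟶ Y.left) (l : A ⟶ 𝔛.X n),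
      IsPullback top l Y.hom (𝔛.ι n) → ∀ a b : Y ⟶ Z, top ≫ a.left = top ≫ b.left → a = b := by
    intro n Y Z A top l sq a b hab
    refine (FEt.restrict (𝔛.ι n)).map_injective (MorphismProperty.Over.Hom.ext ?_)
    have hfst : Limits.pullback.fst Y.hom (𝔛.ι n) ≫ a.left = Limits.pullback.fst Y.hom (𝔛.ι n) ≫ b.left := by
      rw [← sq.isoPullback_inv_fst, Category.assoc, Category.assoc, hab]
    apply Limits.pullback.hom_ext
    · exact (Limits.pullback.lift_fst _ _ _).trans (hfst.trans (Limits.pullback.lift_fst _ _ _).symm)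
    · exact (Limits.pullback.lift_snd _ _ _).trans (Limits.pullback.lift_snd _ _ _).symm
  have hom_exists : ∀ (n : ℕ) {Y Z : FEt.Cat (𝔛.X (n + 1))} {A B : Scheme.{u}} (top : A ⟶ Y.left) (l : A ⟶ 𝔛.X n)
      (top' : B ⟶ Z.left) (l' : B ⟶ 𝔛.X n),
      IsPullback top l Y.hom (𝔛.ι n) → IsPullback top' l' Z.hom (𝔛.ι n) → ∀ c : A ⟶ B, c ≫ l' = l →
        ∃ a : Y ⟶ Z, top ≫ a.left = c ≫ top' := by
    intro n Y Z A B top l top' l' sq sq' c hc
    let c' : (FEt.restrict (𝔛.ι n)).obj Y ⟶ (FEt.restrict (𝔛.ι n)).obj Z :=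
      MorphismProperty.Over.homMk (sq.isoPullback.inv ≫ c ≫ sq'.isoPullback.hom) (by
        show (sq.isoPullback.inv ≫ c ≫ sq'.isoPullback.hom) ≫ Limits.pullback.snd Z.hom (𝔛.ι n) = Limits.pullback.snd Y.hom (𝔛.ι n)
        rw [Category.assoc, Category.assoc, sq'.isoPullback_hom_snd, hc, sq.isoPullback_inv_snd]) trivial
    refine ⟨(FEt.restrict (𝔛.ι n)).preimage c', ?_⟩
    have h : ((FEt.restrict (𝔛.ι n)).map ((FEt.restrict (𝔛.ι n)).preimage c')).left ≫ Limits.pullback.fst Z.hom (𝔛.ι n) =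
        Limits.pullback.fst Y.hom (𝔛.ι n) ≫ ((FEt.restrict (𝔛.ι n)).preimage c').left :=
      Limits.pullback.lift_fst _ _ _
    rw [Functor.map_preimage] at h
    have h' : (sq.isoPullback.inv ≫ c ≫ sq'.isoPullback.hom) ≫ Limits.pullback.fst Z.hom (𝔛.ι n) = _ := h
    rw [Category.assoc, Category.assoc, sq'.isoPullback_hom_fst, Iso.inv_comp_eq,
      ← Category.assoc sq.isoPullback.hom, sq.isoPullback_hom_fst] at h'
    exact h'.symm
  have obj_exists : ∀ (n : ℕ) (Y : FEt.Cat (𝔛.X n)), ∃ (Z : FEt.Cat (𝔛.X (n + 1))) (top : Y.left ⟶ Z.left),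
      IsPullback top Y.hom Z.hom (𝔛.ι n) := by
    intro n Y
    let Z := (FEt.restrict (𝔛.ι n)).objPreimage Y
    let e : Limits.pullback Z.hom (𝔛.ι n) ≅ Y.left :=
      (MorphismProperty.Over.forget _ _ _ ⋙ Over.forget _).mapIso ((FEt.restrict (𝔛.ι n)).objObjPreimageIso Y)
    have he : e.hom ≫ Y.hom = Limits.pullback.snd Z.hom (𝔛.ι n) :=
      MorphismProperty.Over.w ((FEt.restrict (𝔛.ι n)).objObjPreimageIso Y).hom
    refine ⟨Z, e.inv ≫ Limits.pullback.fst Z.hom (𝔛.ι n), IsPullback.of_iso_pullback ⟨?_⟩ e.symm rfl ?_⟩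
    · rw [Category.assoc, Limits.pullback.condition, ← he, Category.assoc, Iso.inv_hom_id_assoc]
    · rw [Iso.symm_hom, ← he, Iso.inv_hom_id_assoc]
  haveI : (FSch.EtCov.level 𝔛 0).Faithful := ⟨fun {R R'} φ ψ h => by
    refine ObjectProperty.hom_ext _ (Over.OverMorphism.ext (FSch.Hom.ext (funext fun n => ?_)))
    induction n with
    | zero => exact congrArg (fun t => t.left) h
    | succ n ih =>
      refine congrArg (fun t => t.left) (hom_eq n (Y := (FSch.EtCov.level 𝔛 (n + 1)).obj R)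
        (Z := (FSch.EtCov.level 𝔛 (n + 1)).obj R') _ _ (R.property.1 n)
        ((FSch.EtCov.level 𝔛 (n + 1)).map φ) ((FSch.EtCov.level 𝔛 (n + 1)).map ψ) ?_)
      show R.obj.left.ι n ≫ (φ.hom.left : FSch.Hom _ _).app (n + 1) =
        R.obj.left.ι n ≫ (ψ.hom.left : FSch.Hom _ _).app (n + 1)
      rw [← (φ.hom.left : FSch.Hom _ _).comm n, ← (ψ.hom.left : FSch.Hom _ _).comm n, ih]⟩
  haveI : (FSch.EtCov.level 𝔛 0).Full := ⟨fun {R R'} c0 => by
    have step : ∀ n (c : (FSch.EtCov.level 𝔛 n).obj R ⟶ (FSch.EtCov.level 𝔛 n).obj R'),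
        ∃ a : (FSch.EtCov.level 𝔛 (n + 1)).obj R ⟶ (FSch.EtCov.level 𝔛 (n + 1)).obj R',
          R.obj.left.ι n ≫ a.left = c.left ≫ R'.obj.left.ι n := fun n c =>
      hom_exists n (Y := (FSch.EtCov.level 𝔛 (n + 1)).obj R) (Z := (FSch.EtCov.level 𝔛 (n + 1)).obj R')
        _ _ _ _ (R.property.1 n) (R'.property.1 n) c.left (MorphismProperty.Over.w c)
    choose nxt hnxt using step
    let c : ∀ n, (FSch.EtCov.level 𝔛 n).obj R ⟶ (FSch.EtCov.level 𝔛 n).obj R' :=
      fun n => Nat.rec c0 (fun m cm => nxt m cm) n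
    let F : R.obj.left ⟶ R'.obj.left := ⟨fun n => (c n).left, fun n => (hnxt n (c n)).symm⟩
    refine ⟨ObjectProperty.homMk (Over.homMk F (FSch.Hom.ext (funext fun n => MorphismProperty.Over.w (c n)))), ?_⟩
    exact MorphismProperty.Over.Hom.ext rfl⟩
  haveI : (FSch.EtCov.level 𝔛 0).EssSurj := ⟨fun Y0 => by
    choose nxt top hsq using obj_exists
    let Y : ∀ n, FEt.Cat (𝔛.X n) := fun n => Nat.rec Y0 (fun m Ym => nxt m Ym) n
    let T : FSch.Sys.{u} := { X := fun n => (Y n).left, ι := fun n => top n (Y n) }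
    let p : T ⟶ 𝔛 := ⟨fun n => (Y n).hom, fun n => (hsq n (Y n)).w.symm⟩
    let R : FSch.EtCov 𝔛 := ⟨Over.mk p, fun n => hsq n (Y n), fun n => (Y n).prop⟩
    exact ⟨R, ⟨Iso.refl Y0⟩⟩⟩
  exact { }

end Groth.Agent.S12066
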