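import Groth.Statements.S12067
import Mathlib
import Groth.Agent.GLinFinLib.Trig
-- import your own Groth.Agent.* helpers here

set_option autoImplicit false
universe u
open TensorProduct
open SGA3t2b

namespace Groth.Agent.S12067

/-- In Hopf-algebra form, let k be a field and A a finitely generated commutative Hopf algebra over k
(an affine algebraic group G) which is unipotent: every nonzero finite-dimensional comodule has a
nonzero fixed vector. Then every finite-dimensional comodule V (a finite-dimensional representation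
of G), of dimension n, has a flag of subcomodules 0 = V_0 ⊂ V_1 ⊂ ⋯ ⊂ V_n = V with one-dimensional
successive quotients on which G acts trivially: for v ∈ V_(i+1) the coaction of v is congruent to v
⊗ 1 modulo V_i ⊗ A. -/
theorem result (k : Type u) [Field k] (A : Type u) [CommRing A]
    [HopfAlgebra k A] [Algebra.FiniteType k A] (hU : HopfRep.IsUnipotent k A)
    (V : Type u) [AddCommGroup V] [Module k V] [HopfRep.Comod k A V] [Module.Finite k V] :
    ∃ F : Fin (Module.finrank k V + 1) → Submodule k V,
      F 0 = ⊥ ∧ F (Fin.last _) = ⊤ ∧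
      (∀ i : Fin (Module.finrank k V + 1), HopfRep.IsSubcomod (k := k) (A := A) (F i)) ∧
      ∀ i : Fin (Module.finrank k V), F i.castSucc ≤ F i.succ ∧
        Module.finrank k ↥(F i.succ) = Module.finrank k ↥(F i.castSucc) + 1 ∧
        ∀ v ∈ F i.succ, HopfRep.Comod.coact (k := k) (A := A) v - v ⊗ₜ[k] (1 : A) ∈
          LinearMap.range ((F i.castSucc).subtype.rTensor A) := by
  classical
  have hstep : ∀ W : Submodule k V, HopfRep.IsSubcomod (k := k) (A := A) W → W ≠ ⊤ →
      ∃ W' : Submodule k V, HopfRep.IsSubcomod (k := k) (A := A) W' ∧ W ≤ W' ∧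
        Module.finrank k W' = Module.finrank k W + 1 ∧
        ∀ v ∈ W', HopfRep.Comod.coact (k := k) (A := A) v - v ⊗ₜ[k] (1 : A) ∈ LinearMap.range (W.subtype.rTensor A) := by
    intro W hW hne
    letI := GLinFinLib.Trig.quotComod hW
    haveI : Nontrivial (V ⧸ W) := Submodule.Quotient.nontrivial_iff.2 hne
    obtain ⟨q, hq, hq0⟩ := Submodule.exists_mem_ne_zero_of_ne_bot (hU (V ⧸ W) inferInstance inferInstance)
    obtain ⟨x, rfl⟩ := W.mkQ_surjective q
    have hx : HopfRep.Comod.coact (k := k) (A := A) x - x ⊗ₜ[k] (1 : A) ∈ LinearMap.range (W.subtype.rTensor A) := by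
      rw [ComodLib.mem_range_rTensor_iff]
      intro f
      rw [← Submodule.Quotient.mk_eq_zero]
      show W.mkQ _ = 0
      rw [← ComodLib.slice_rTensor, map_sub, LinearMap.rTensor_tmul,
        ← GLinFinLib.Trig.quotComod_coact hW x,
        show (GLinFinLib.Trig.quotComod hW).coact (W.mkQ x) = W.mkQ x ⊗ₜ[k] (1 : A) from hq, sub_self, map_zero]
    have hmem : ∀ v ∈ W ⊔ Submodule.span k {x},
        HopfRep.Comod.coact (k := k) (A := A) v - v ⊗ₜ[k] (1 : A) ∈ LinearMap.range (W.subtype.rTensor A) := by
      intro v hv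
      obtain ⟨w, hw, y, hy, rfl⟩ := Submodule.mem_sup.1 hv
      obtain ⟨c, rfl⟩ := Submodule.mem_span_singleton.1 hy
      rw [map_add, TensorProduct.add_tmul, add_sub_add_comm, map_smul, ← TensorProduct.smul_tmul', ← smul_sub]
      exact add_mem (sub_mem (hW w hw) ⟨⟨w, hw⟩ ⊗ₜ[k] 1, rfl⟩) (Submodule.smul_mem _ c hx)
    refine ⟨W ⊔ Submodule.span k {x}, fun v hv => ?_, le_sup_left, ?_, hmem⟩
    · have hle : LinearMap.range (W.subtype.rTensor A) ≤
          LinearMap.range ((W ⊔ Submodule.span k {x}).subtype.rTensor A) := by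
        rintro _ ⟨t, rfl⟩
        rw [← Submodule.subtype_comp_inclusion W _ le_sup_left, LinearMap.rTensor_comp_apply]
        exact LinearMap.mem_range_self _ _
      rw [← sub_add_cancel (HopfRep.Comod.coact (k := k) (A := A) v) (v ⊗ₜ[k] (1 : A))]
      exact add_mem (hle (hmem v hv)) ⟨⟨v, hv⟩ ⊗ₜ[k] 1, rfl⟩
    · have hxW : x ∉ W := fun h => hq0 ((Submodule.Quotient.mk_eq_zero _).2 h)
      have hx0 : x ≠ 0 := fun h => hxW (h ▸ W.zero_mem)
      have hdis : W ⊓ Submodule.span k {x} = ⊥ := disjoint_iff.1 ((Submodule.disjoint_span_singleton' hx0).2 hxW)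
      have := Submodule.finrank_sup_add_finrank_inf_eq W (Submodule.span k {x})
      rw [hdis, finrank_bot, finrank_span_singleton hx0] at this
      omega
  let next : {W : Submodule k V // HopfRep.IsSubcomod (k := k) (A := A) W} → {W : Submodule k V // HopfRep.IsSubcomod (k := k) (A := A) W} :=
    fun W => if h : W.1 = ⊤ then W else ⟨(hstep W.1 W.2 h).choose, (hstep W.1 W.2 h).choose_spec.1⟩
  let G := fun i : ℕ => next^[i] ⟨⊥, fun v hv => by rw [(Submodule.mem_bot k).1 hv, map_zero]; exact zero_mem _⟩
  have hfin : ∀ i, i ≤ Module.finrank k V → Module.finrank k ↥(G i).1 = i := by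
    intro i
    induction i with
    | zero => intro _; exact finrank_bot k V
    | succ i ih =>
      intro hi
      have ih' := ih (by omega)
      have h : (G i).1 ≠ ⊤ := fun h => by
        have h4 : Module.finrank k ↥(G i).1 = Module.finrank k V := by rw [h, finrank_top]
        omega
      have e : G (i + 1) = ⟨_, (hstep (G i).1 (G i).2 h).choose_spec.1⟩ :=
        (Function.iterate_succ_apply' next i _).trans (dif_neg h)
      rw [e, (hstep (G i).1 (G i).2 h).choose_spec.2.2.1, ih']
  refine ⟨fun i => (G i).1, rfl, Submodule.eq_top_of_finrank_eq (hfin _ le_rfl), fun i => (G i).2, fun i => ?_⟩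
  have h : (G i).1 ≠ ⊤ := fun h => by
    have h4 : Module.finrank k ↥(G i).1 = Module.finrank k V := by rw [h, finrank_top]
    have := hfin i i.2.le
    omega
  have e : G (i.1 + 1) = ⟨_, (hstep (G i).1 (G i).2 h).choose_spec.1⟩ :=
    (Function.iterate_succ_apply' next i.1 _).trans (dif_neg h)
  obtain ⟨-, hle, hrk, hco⟩ := (hstep (G i).1 (G i).2 h).choose_spec
  refine ⟨?_, ?_, fun v hv => ?_⟩
  · show (G i).1 ≤ (G (i.1 + 1)).1
    rw [e]; exact hle
  · show Module.finrank k ↥(G (i.1 + 1)).1 = Module.finrank k ↥(G i).1 + 1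
    rw [e]; exact hrk
  · have hv' : v ∈ (G (i.1 + 1)).1 := hv
    rw [e] at hv'
    exact hco v hv'

end Groth.Agent.S12067
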