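import Groth.Statements.S12068
import Groth.Agent.TorSecLib.Main

set_option autoImplicit false
set_option backward.isDefEq.respectTransparency false
set_option backward.isDefEq.respectTransparency.types false
set_option maxRecDepth 8000
set_option maxHeartbeats 1000000
universe u
open TensorProduct
open SGA3

namespace Groth.Agent.S12068

/-- In Hopf-algebra form, let k be a field, A a finitely generated commutative Hopf algebra over k (an
algebraic group E), ψ : B → A an injective bialgebra map from a finitely generated Hopf algebra B of
multiplicative type (diagonalizable after a faithfully flat extension of k) which is formally smooth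
over k (the quotient H = Spec B is a smooth group of multiplicative type; in particular H may be
étale), J the Hopf ideal of A generated by the image of the augmentation ideal of B (the kernel U =
Spec (A/J)), with U unipotent in the fixed-vector sense and commutative (A/J cocommutative). If the
projection E → H has a section as a morphism of k-schemes, i.e. there is a k-algebra map σ : A → B
with σ ∘ ψ = id, then the extension 1 → U → E → H → 1 is trivial: there is a bialgebra map r : A → B
with r ∘ ψ = id. (The published statement lists further cases in which the extension is trivial,
namely k algebraically closed, or k perfect and U connected, or U k-soluble, and a conjugacy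
assertion for two liftings of H; this row is the case of U commutative with a scheme-theoretic
section.) -/
theorem result (k : Type u) [Field k]
    (A B : Type u) [CommRing A] [HopfAlgebra k A] [Algebra.FiniteType k A] [CommRing B] [HopfAlgebra k B]
    [Algebra.FiniteType k B] (hB : SGA3b.IsMultTypeConst k B) [Algebra.FormallySmooth k B]
    (ψ : B →ₐc[k] A) (hψ : Function.Injective ψ)
    (J : Ideal A) [J.IsHopfIdeal k] (hJ : J = Ideal.map (ψ : B →+* A) (RingHom.ker (Bialgebra.counitAlgHom k B)))
    (hU : HopfRep.IsUnipotent k (A ⧸ J)) [Coalgebra.IsCocomm k (A ⧸ J)]
    (σ : A →ₐ[k] B) (hσ : σ.comp (ψ : B →ₐ[k] A) = AlgHom.id k B) :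
    ∃ r : A →ₐc[k] B, r.comp ψ = BialgHom.id k B := by
  exact TorSecLib.exists_retraction hB ψ hψ J hJ hU σ hσ

end Groth.Agent.S12068
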