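import Groth.Statements.S12111
import Mathlib
import Groth.Agent.QuotSchLib.RegBounded
import Groth.Agent.QuotSchLib.Src
import Groth.Agent.S1647
-- import your own Groth.Agent.* helpers here

set_option autoImplicit false
universe u
open CategoryTheory CategoryTheory.Limits AlgebraicGeometry
open Pic13

namespace Groth.Agent.S12111

/-- Let k be an algebraically closed field, i : X ⟶ P^n_k a closed immersion and O_X(1) = i^*O(1). If a
coherent O_X-module F is m-regular (H^q(X, F(m - q)) = 0 for every q ≥ 1) then for every integer n'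
≥ m, F is n'-regular and F(n') is generated by its global sections. (The published statement is for
a projective k-scheme with an ample O_X(1) generated by its sections at the points of the support of
F; this row is the case of a closed subscheme of projective space.) -/
theorem result (k : Type u) [Field k] [IsAlgClosed k] (n : ℕ) {X : Scheme.{u}}
    (i : X ⟶ CohB1.ProjSpace n k) [IsClosedImmersion i] (F : X.Modules) (hF : Coh.IsCoh F) (m : ℤ)
    (h : Pic13.IsMRegular k i F m) (n' : ℤ) (hn' : m ≤ n') :
    Pic13.IsMRegular k i F n' ∧ Curv2.IsGloballyGenerated (Pic13.twistOn k i F n') := by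
  let P := CohB1.ProjSpace n k
  let O' := Twist.twistProjSpace n k
  let G := Scheme.Modules.pushforward i
  haveI := MumfordLib.isProper_projSpace (n := n) k
  haveI := hF.1
  have hM : Coh.IsCoh (G.obj F) := by
    haveI : IsLocallyNoetherian P := (CurvLib.isNoetherian k (X := P)).toIsLocallyNoetherian
    exact QCohLib.isCoh_push_finite i F hF
  have hiso : ∀ d : ℤ, Nonempty (CohB1.tensorMod (G.obj F) (O' d) ≅ G.obj (Pic13.twistOn k i F d)) := fun d => by
    have hLf : FlatMod.IsFinLocFree (O' d) :=
      CurveVBLib.isFinLocFree_of_rank (CurvLib.locFree_of_isInvertible (PicPnLib.twist_inv n k d))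
    exact ⟨HilbPolyLib.swapIso _ _ ≪≫ @asIso _ _ _ _ (ProjFormLib.projApp i (O' d) F) (ProjFormLib.isIso_projApp i hLf F) ≪≫
      G.mapIso (HilbPolyLib.swapIso _ _)⟩
  have hq' : ∀ d : ℤ, Coh.IsQCoh (Pic13.twistOn k i F d) := fun d =>
    MiscFlat6.isQCoh_tensor (AmpleDevLib.isInvertible_pb i (PicPnLib.twist_inv n k d))
  have hMreg : Curv2.IsMRegular k n (G.obj F) m := fun j hj _ => by
    haveI := hq' (m - j)
    obtain ⟨e⟩ := hiso (m - j)
    obtain ⟨E'⟩ := QCohLib.nonempty_HH_push i (Pic13.twistOn k i F (m - j)) j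
    refine SerreVanLib.subsingleton_HH_of_iso e j ?_
    haveI := h j hj
    first
    | exact E'.toEquiv.subsingleton
    | exact E'.symm.toEquiv.subsingleton
  have hv := PnCohLib.vanishing_ge k (G.obj F) hM.1 m hMreg
  refine ⟨fun j hj => ?_, ?_⟩
  · haveI := hq' (n' - j)
    obtain ⟨e⟩ := hiso (n' - j)
    obtain ⟨E'⟩ := QCohLib.nonempty_HH_push i (Pic13.twistOn k i F (n' - j)) j
    haveI : Subsingleton (Coh.HH P (G.obj (Pic13.twistOn k i F (n' - j))) j) :=
      SerreVanLib.subsingleton_HH_of_iso e.symm j (hv j hj _ (by omega))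
    first
    | exact E'.toEquiv.subsingleton
    | exact E'.symm.toEquiv.subsingleton
  · obtain ⟨ι, p, hp⟩ := Groth.Agent.S1647.result k n (G.obj F) hM n' (fun j hj _ => hv j hj _ (by omega))
    obtain ⟨e⟩ := hiso n'
    have hc : IsIso ((Scheme.Modules.pullbackPushforwardAdjunction i).counit.app (Pic13.twistOn k i F n')) :=
      CycKSuppLib.isIso_counit i _
    haveI : (Scheme.Modules.pullback i).IsLeftAdjoint := (Scheme.Modules.pullbackPushforwardAdjunction i).isLeftAdjoint
    have hpe : Epi ((Scheme.Modules.pullback i).map (p ≫ e.hom)) :=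
      @Functor.map_epi _ _ _ _ (Scheme.Modules.pullback i) _ _ _ (p ≫ e.hom) (@epi_comp _ _ _ _ _ p hp e.hom (IsIso.epi_of_iso _))
    haveI : Epi (p ≫ e.hom) := epi_comp p e.hom
    refine ⟨ι, (SheafOfModules.pullbackObjFreeIso i.toRingCatSheafHom ι).inv ≫ (Scheme.Modules.pullback i).map (p ≫ e.hom) ≫
      (Scheme.Modules.pullbackPushforwardAdjunction i).counit.app _, ?_⟩
    exact @epi_comp _ _ _ _ _ _ inferInstance _ (@epi_comp _ _ _ _ _ _ hpe _ (@IsIso.epi_of_iso _ _ _ _ _ hc))

end Groth.Agent.S12111
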