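import Groth.Statements.S12069
import Mathlib
import Groth.Agent.QuotSchLib.RegBounded
import Groth.Agent.QuotSchLib.Serre
import Groth.Agent.S12111
import Groth.Agent.S4286
-- import your own Groth.Agent.* helpers here

set_option autoImplicit false
universe u
open CategoryTheory CategoryTheory.Limits AlgebraicGeometry
open FGA

namespace Groth.Agent.S12069

/-- Over an algebraically closed field k, let X ⊆ P^n_k be a closed subscheme and P a bounded family of
coherent O_X-modules. Then there are integers m, N and an O_X-module E which is a direct sum of N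
copies of O_X(-m) such that every member of the family is a quotient of E. (The published statement
is relative, for families of classes of sheaves on the fibres of a projective scheme over a
Noetherian base, and gives two necessary conditions for boundedness, which are then shown to be
sufficient together; this row is the necessity of the first condition in the case of the base Spec
k. Finiteness of the set of Hilbert polynomials of the family, the other necessary condition, is a
separate result.) -/
theorem result (k : Type u) [Field k] [IsAlgClosed k] (n : ℕ) (X : Scheme.{u})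
    [X.Over (Spec (CommRingCat.of k))] (i : X ⟶ CohB1.ProjSpace n k) [IsClosedImmersion i]
    (hi : i ≫ CohB1.ProjSpace.toSpec n k = X ↘ Spec (CommRingCat.of k))
    (P : X.Modules → Prop) (hP : ∀ F, P F → Coh.IsCoh F) (hb : Pic13.IsBounded k X P) :
    ∃ (m : ℤ) (N : ℕ) (E : X.Modules) (c : Fin N → (Pic13.twistOn k i (Coh.structureModule X) (-m) ⟶ E)),
      Nonempty (IsColimit (Cofan.mk E c)) ∧ ∀ F, P F → ∃ p : E ⟶ F, Epi p := by
  classical
  obtain ⟨⟨m, hm⟩, s, hs⟩ := Groth.Agent.S4286.result k n X i hi P hP hb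
  obtain ⟨N, hN⟩ := (s.image fun φ => ⌊φ.eval (m : ℚ)⌋.toNat).exists_le
  let O' := Twist.twistProjSpace n k
  haveI := MumfordLib.isProper_projSpace (n := n) k
  haveI : IsProper (X ↘ Spec (CommRingCat.of k)) := by
    rw [← hi]
    haveI : IsProper (CohB1.ProjSpace.toSpec n k) := ProjDegLib.toSpec_isProper k n
    infer_instance
  haveI : CompactSpace X := QuasiCompact.compactSpace_of_compactSpace (X ↘ Spec (CommRingCat.of k))
  let A := (Scheme.Modules.pullback i).obj (O' (-m))
  let C := (Scheme.Modules.pullback i).obj (O' m)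
  have hinv : ∀ a b : ℤ, a + b = 0 → Nonempty (CohB1.tensorMod ((Scheme.Modules.pullback i).obj (O' a))
      ((Scheme.Modules.pullback i).obj (O' b)) ≅ Coh.structureModule X) := fun a b hab => by
    obtain ⟨e⟩ := PicPnLib.twist_add n k a b
    obtain ⟨e₀⟩ := PicPnLib.twist_zero n k
    have hθ := KFlatLib.isIso_pullθ i (O' a) (O' b)
    exact ⟨(@asIso _ _ _ _ (KFlatLib.pullθ i (O' a) (O' b)) hθ).symm ≪≫
      (Scheme.Modules.pullback i).mapIso (e ≪≫ eqToIso (congrArg O' hab) ≪≫ e₀) ≪≫ KFlatLib.pullUnitIso i⟩
  obtain ⟨eAC⟩ := hinv (-m) m (neg_add_cancel m)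
  obtain ⟨eCA⟩ := hinv m (-m) (add_neg_cancel m)
  have hA := VBP1Lib.isEquivalence_tensor eAC
  haveI := hA
  haveI : (CurvLib.tensorLeft' A).IsLeftAdjoint := Functor.isLeftAdjoint_of_isEquivalence
  let f : Fin N → X.Modules := fun _ => Pic13.twistOn k i (Coh.structureModule X) (-m)
  let ε : ∐ f ≅ CohB1.tensorMod A (FlatMod.freeMod X N) :=
    Sigma.mapIso (fun _ => HilbPolyLib.swapIso (Coh.structureModule X) A) ≪≫
      (PreservesCoproduct.iso (CurvLib.tensorLeft' A) fun _ : Fin N => Coh.structureModule X).symm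
  refine ⟨m, N, ∐ f, Sigma.ι f, ⟨coproductIsCoproduct f⟩, fun F hPF => ?_⟩
  have hF := hP F hPF
  have hFA : Coh.IsCoh (Pic13.twistOn k i F m) := SerreVanLib.isCoh_tensor hF (AmpleDevLib.isInvertible_pb i (PicPnLib.twist_inv n k m))
  have hreg := fun (j : ℕ) (hj : 1 ≤ j) => (Groth.Agent.S12111.result k n i F hF m (hm F hPF) (m + j) (by omega)).1 j hj
  obtain ⟨q, hq⟩ := QuotSchLib.exists_epi_free_basis k hFA (Groth.Agent.S12111.result k n i F hF m (hm F hPF) m le_rfl).2
    (CurvLib.finite_HH (k := k) hFA 0)
  obtain ⟨φ, hφ, hchi⟩ := hs F hPF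
  have hh0 : Module.finrank k (Coh.HH X (Pic13.twistOn k i F m) 0) ≤ N := by
    refine le_of_eq_of_le ?_ (hN _ (Finset.mem_image_of_mem _ hφ))
    have h : FGA.eulerCharLE k X (Pic13.twistOn k i F m) n = (Module.finrank k (Coh.HH X (Pic13.twistOn k i F m) 0) : ℤ) := by
      unfold FGA.eulerCharLE
      rw [Finset.sum_eq_single 0]
      · simp
      · intro j _ hj
        haveI : Subsingleton (Coh.HH X (Pic13.twistOn k i F m) j) := by
          simpa using hreg j (Nat.one_le_iff_ne_zero.2 hj)
        rw [Module.finrank_zero_of_subsingleton]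
        simp
      · intro h; exact absurd (Finset.mem_range.2 (Nat.succ_pos n)) h
    rw [← hchi m, h, Int.cast_natCast, Int.floor_natCast, Int.toNat_natCast]
  generalize Module.finrank k (Coh.HH X (Pic13.twistOn k i F m) 0) = a at q hh0
  let pad : FlatMod.freeMod X N ⟶ FlatMod.freeMod X a := Sigma.desc fun j =>
    if h : (j : ℕ) < a then Sigma.ι (fun _ : Fin a => Coh.structureModule X) ⟨j, h⟩ else 0
  haveI : Epi pad := by
    refine Preadditive.epi_of_cancel_zero _ fun {W : X.Modules} (π : FlatMod.freeMod X a ⟶ W) hπ => ?_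
    refine Sigma.hom_ext _ _ fun j => ?_
    have := congrArg (Sigma.ι (fun _ : Fin N => Coh.structureModule X) (Fin.castLE hh0 j) ≫ ·) hπ
    simpa [pad] using this
  haveI := hq
  have hpq : Epi (pad ≫ q) := @epi_comp _ _ _ _ _ pad inferInstance q hq
  obtain ⟨π₀, hπ₀⟩ := @QuotSchLib.exists_epi_untwist _ A C F hA eCA N (pad ≫ q) hpq
  exact ⟨ε.hom ≫ π₀, epi_comp _ _⟩

end Groth.Agent.S12069
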