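import Groth.Statements.S1207
import Mathlib

-- import your own Groth.Agent.* helpers here

set_option autoImplicit false
universe u
open FlatMor

namespace Groth.Agent.S1207

/-- Let A be a local ring and I, J ideals of A with J finitely generated, J ≠ A, and I ⊆ J^n for all n ≥
1. Then every prime p not containing J which is maximal among the primes not containing J (a closed
point of Spec A ∖ V(J)) contains I. (The published statement leaves the hypothesis J ≠ A implicit;
for J = A the assertion fails.) -/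
theorem result (A : Type u) [CommRing A] [IsLocalRing A] (I J : Ideal A) (hJ : J.FG) (hJ1 : J ≠ ⊤)
    (hI : ∀ n : ℕ, 1 ≤ n → I ≤ J ^ n) (p : Ideal A) [p.IsPrime] (hp : ¬ J ≤ p)
    (hmax : ∀ (p' : Ideal A), p'.IsPrime → p ≤ p' → ¬ J ≤ p' → p' = p) : I ≤ p := by
  intro y hy
  by_contra hyp
  have hJm : J ≤ IsLocalRing.maximalIdeal A := IsLocalRing.le_maximalIdeal hJ1
  obtain ⟨c, hcm, hcp⟩ := Set.not_subset.1 fun h : (IsLocalRing.maximalIdeal A : Set A) ⊆ p => hp (hJm.trans h)
  let K := p ⊔ Ideal.span {y * c}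
  have hle : J ≤ K.radical := by
    rw [Ideal.radical_eq_sInf]
    refine le_sInf fun q hq => ?_
    by_contra hJq
    have e := hmax q hq.2 (le_sup_left.trans hq.1) hJq
    have : y * c ∈ p := e ▸ hq.1 (Ideal.mem_sup_right (Ideal.mem_span_singleton_self _))
    exact (Ideal.IsPrime.mem_or_mem inferInstance this).elim hyp hcp
  obtain ⟨n, hn⟩ := Ideal.exists_pow_le_of_le_radical_of_fg hle hJ
  have hyK : y ∈ K := hn (Ideal.pow_le_pow_right (Nat.le_succ n) (hI (n + 1) (Nat.succ_pos n) hy))
  obtain ⟨u, hu, v, hv, huv⟩ := Submodule.mem_sup.1 hyK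
  obtain ⟨t, rfl⟩ := Ideal.mem_span_singleton'.1 hv
  have h1 : y * (1 - c * t) ∈ p := by
    have : y * (1 - c * t) = u := by linear_combination -huv
    rwa [this]
  rcases Ideal.IsPrime.mem_or_mem inferInstance h1 with h | h
  · exact hyp h
  · have hpm : p ≤ IsLocalRing.maximalIdeal A := IsLocalRing.le_maximalIdeal (Ideal.IsPrime.ne_top inferInstance)
    have h2 := Ideal.add_mem _ (hpm h) (Ideal.mul_mem_right t _ hcm)
    rw [sub_add_cancel] at h2
    exact (IsLocalRing.maximalIdeal.isMaximal A).ne_top ((Ideal.eq_top_iff_one _).2 h2)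

end Groth.Agent.S1207
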