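import Groth.Statements.S12071
import Mathlib.GroupTheory.Archimedean

set_option autoImplicit false
open RootD

namespace Groth.Agent.S12071

/-- Let G be the group generated by two elements x, y subject to x² = y² = 1 (the infinite dihedral
group; here Mathlib's DihedralGroup 0 with x = sr 0 and y = sr 1, so that x y = r 1). Then every
normal subgroup of G containing neither x nor y is generated by an element (x y)^n with n > 0; such
a subgroup is cyclic, generated by r n. (The published statement does not exclude the trivial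
subgroup, for which no n > 0 works; this row assumes the subgroup nontrivial.) -/
theorem result (N : Subgroup (DihedralGroup 0)) [N.Normal]
    (hN : N ≠ ⊥) (hx : DihedralGroup.sr (0 : ZMod 0) ∉ N) (hy : DihedralGroup.sr (1 : ZMod 0) ∉ N) :
    ∃ n : ℕ, 0 < n ∧ N = Subgroup.zpowers (DihedralGroup.r (n : ZMod 0)) := by
  classical
  have hsr : ∀ i : ZMod 0, DihedralGroup.sr i ∉ N := by
    intro i hi
    have key : ∀ k : ZMod 0, DihedralGroup.sr (i + 2 * k) ∈ N := by
      intro k
      have hc := Subgroup.Normal.conj_mem (H := N) inferInstance _ hi (DihedralGroup.r (-k))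
      simpa [DihedralGroup.inv_r, two_mul, sub_neg_eq_add, add_assoc, add_comm, add_left_comm] using hc
    obtain ⟨ii, rfl⟩ : ∃ ii : ℤ, (ii : ZMod 0) = i := ⟨i, rfl⟩
    rcases Int.even_or_odd ii with ⟨t, ht⟩ | ⟨t, ht⟩
    · refine hx ?_
      have h2 := key (((-t : ℤ)) : ZMod 0)
      have e : (ii : ZMod 0) + 2 * (((-t : ℤ)) : ZMod 0) = 0 := by
        rw [ht]; push_cast; ring
      convert h2 using 2
      exact e.symm
    · refine hy ?_
      have h2 := key (((-t : ℤ)) : ZMod 0)
      have e : (ii : ZMod 0) + 2 * (((-t : ℤ)) : ZMod 0) = 1 := by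
        rw [ht]; push_cast; ring
      convert h2 using 2
      exact e.symm
  let H : AddSubgroup ℤ :=
    { carrier := {k | DihedralGroup.r (k : ZMod 0) ∈ N}
      zero_mem' := N.one_mem
      add_mem' := fun {a b} ha hb => by simpa [DihedralGroup.r_mul_r] using N.mul_mem ha hb
      neg_mem' := fun {a} ha => by simpa [DihedralGroup.inv_r] using N.inv_mem ha }
  obtain ⟨g, hg⟩ := Int.subgroup_cyclic H
  have hmem : ∀ k : ℤ, DihedralGroup.r (k : ZMod 0) ∈ N ↔ g ∣ k := by
    intro k
    have : k ∈ H ↔ g ∣ k := by
      rw [hg, ← AddSubgroup.zmultiples_eq_closure, Int.mem_zmultiples_iff]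
    exact this
  refine ⟨g.natAbs, Int.natAbs_pos.2 ?_, ?_⟩
  · rintro rfl
    refine hN (Subgroup.eq_bot_iff_forall _ |>.2 ?_)
    rintro (i | i) hi
    · have := (hmem (i : ℤ)).1 hi
      rw [Int.zero_dvd] at this
      show DihedralGroup.r i = 1
      exact congrArg DihedralGroup.r this
    · exact absurd hi (hsr i)
  · ext x
    rw [Subgroup.mem_zpowers_iff]
    constructor
    · intro hxN
      rcases x with i | i
      · obtain ⟨l, hl⟩ := (Int.natAbs_dvd.2 ((hmem (i : ℤ)).1 hxN) : ((g.natAbs : ℤ)) ∣ (i : ℤ))
        refine ⟨l, ?_⟩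
        rw [DihedralGroup.r_zpow]
        exact congrArg DihedralGroup.r hl.symm
      · exact absurd hxN (hsr i)
    · rintro ⟨l, rfl⟩
      apply zpow_mem
      have : g ∣ (g.natAbs : ℤ) := Int.dvd_natAbs.2 dvd_rfl
      simpa using (hmem _).2 this

end Groth.Agent.S12071
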