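import Groth.Statements.S12073
import Groth.Agent.PurityGlueLib.Descend
import Groth.Agent.DescFP.Hom

set_option autoImplicit false
universe u
open CategoryTheory CategoryTheory.Limits AlgebraicGeometry
open Pi1

namespace Groth.Agent.S12073

/-- Let X = lim X_i be the limit of a cofiltered system of quasi-compact quasi-separated schemes with
affine transition morphisms, given by a limit cone. Then: (1) every finite étale cover of X is
isomorphic, over X, to the base change of a finite étale cover of some X_i; (2) if two morphisms
between finite étale covers of some X_i have the same base change to X, then they have the same base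
change to some X_j with j → i. (Fullness — every morphism over X between base changes comes from
some stage — is part of the published statement and is not stated here; nor is the consequence on
fundamental groups.) -/
theorem result {I : Type u} [SmallCategory I] [IsCofiltered I]
    (D : I ⥤ Scheme.{u}) (c : Limits.Cone D) (hc : Limits.IsLimit c)
    [∀ (i j : I) (f : i ⟶ j), IsAffineHom (D.map f)] [∀ i, CompactSpace (D.obj i)]
    [∀ i, QuasiSeparatedSpace (D.obj i)] :
    (∀ V : FEt.Cat c.pt, ∃ (i : I) (Vi : FEt.Cat (D.obj i)), Nonempty ((FEt.restrict (c.π.app i)).obj Vi ≅ V)) ∧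
    (∀ (i : I) (Vi Wi : FEt.Cat (D.obj i)) (φ ψ : Vi ⟶ Wi),
      (FEt.restrict (c.π.app i)).map φ = (FEt.restrict (c.π.app i)).map ψ →
      ∃ (j : I) (a : j ⟶ i), (FEt.restrict (D.map a)).map φ = (FEt.restrict (D.map a)).map ψ) := by
  refine ⟨fun V => ?_, fun i Vi Wi φ ψ h => ?_⟩
  · obtain ⟨i, M, hM⟩ := PurityGlueLib.exists_model_fet hc (f := V.hom) V.prop
    exact ⟨i, MorphismProperty.Over.mk ⊤ M.p hM,
      ⟨(MorphismProperty.Over.isoMk M.sq.isoPullback M.sq.isoPullback_hom_snd).symm⟩⟩
  · haveI : IsFinite Vi.hom := Vi.prop.1
    haveI : IsFinite Wi.hom := Wi.prop.1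
    haveI : CompactSpace Vi.left := @QuasiCompact.compactSpace_of_compactSpace _ (D.obj i) Vi.hom inferInstance inferInstance
    have h' := congrArg (fun (t : (FEt.restrict (c.π.app i)).obj Vi ⟶ (FEt.restrict (c.π.app i)).obj Wi) => t.left ≫ pullback.fst Wi.hom (c.π.app i)) h
    simp only [FEt.restrict, MorphismProperty.Over.pullback_map_left, pullback.lift_fst] at h'
    have h'' := (pullback.lift_fst _ _ _).symm.trans (h'.trans (pullback.lift_fst _ _ _))
    obtain ⟨j, a, ha⟩ := @DescFP.hom_eq_eventually _ _ _ _ _ hc _ _ Vi.left Wi.left Vi.hom Wi.hom _ _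
      (pullback.fst Vi.hom (c.π.app i)) (pullback.snd Vi.hom (c.π.app i)) (IsPullback.of_hasPullback _ _)
      inferInstance φ.left ψ.left (MorphismProperty.Over.w φ) (MorphismProperty.Over.w ψ) h''
    refine ⟨j, a, MorphismProperty.Over.Hom.ext ?_⟩
    apply pullback.hom_ext
    · exact (pullback.lift_fst _ _ _).trans (ha.trans (pullback.lift_fst _ _ _).symm)
    · exact (pullback.lift_snd _ _ _).trans (pullback.lift_snd _ _ _).symm

end Groth.Agent.S12073
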