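import Groth.Statements.S12076
import Groth.Agent.RootSys.Height
-- import your own Groth.Agent.* helpers here

set_option autoImplicit false
open RootD

namespace Groth.Agent.S12076

open RootBasicLib RootPairing

/-- The root with index `i` as an element of the root lattice. -/
def rootL {ι M N : Type*} [AddCommGroup M] [AddCommGroup N] (P : RootPairing ι ℤ M N) (i : ι) :
    Submodule.span ℤ (Set.range P.root) :=
  ⟨P.root i, Submodule.subset_span (Set.mem_range_self i)⟩

/-- Let Δ be a system of simple roots (a base b of a root pairing P over ℤ) and Γ₀ the subgroup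
generated by the roots. Then Γ₀ has a structure of totally ordered group for which the roots > 0 are
exactly the positive roots defined by Δ and for which the height (the additive function with value 1
on each simple root) is monotone. The order is given here by its positive cone C ⊆ Γ₀: 0 ∉ C, C + C
⊆ C, and for every x ≠ 0 exactly one of x, −x lies in C (x < y meaning y − x ∈ C). -/
theorem result {ι M N : Type*} [AddCommGroup M] [AddCommGroup N]
    (P : RootPairing ι ℤ M N) [Finite ι] (b : P.Base) :
    ∃ C : Set ↥(Submodule.span ℤ (Set.range P.root)),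
      0 ∉ C ∧ (∀ x ∈ C, ∀ y ∈ C, x + y ∈ C) ∧ (∀ x, x ≠ 0 → (x ∈ C ∨ -x ∈ C)) ∧ (∀ x ∈ C, -x ∉ C) ∧
      (∀ i : ι, (⟨P.root i, Submodule.subset_span (Set.mem_range_self i)⟩ : ↥(Submodule.span ℤ (Set.range P.root))) ∈ C ↔
        b.IsPos i) ∧
      ∀ φ : ↥(Submodule.span ℤ (Set.range P.root)) →+ ℤ,
        (∀ j ∈ b.support, φ ⟨P.root j, Submodule.subset_span (Set.mem_range_self j)⟩ = 1) →
        ∀ x y : ↥(Submodule.span ℤ (Set.range P.root)), y - x ∈ C → φ x ≤ φ y := by
  classical
  let L := Submodule.span ℤ (Set.range P.root)
  have hli : LinearIndependent ℤ fun a : b.support => rootL P (a : ι) :=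
    LinearIndependent.of_comp L.subtype b.linearIndepOn_root
  have hsp : ⊤ ≤ Submodule.span ℤ (Set.range fun a : b.support => rootL P (a : ι)) := by
    intro x _
    rw [← Submodule.apply_mem_span_image_iff_mem_span L.injective_subtype, ← Set.range_comp]
    have := b.span_int_root_support
    rw [show (L.subtype ∘ fun a : b.support => rootL P (a : ι)) = fun a : b.support => P.root a from rfl,
      show Set.range (fun a : b.support => P.root a) = P.root '' (b.support : Set ι) by ext; simp, this]
    exact x.2
  let B := Module.Basis.mk hli hsp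
  let e := (Fintype.equivFin b.support)
  let coord : L →+ Lex (Fin (Fintype.card b.support) → ℤ) :=
    { toFun := fun x => toLex fun k => B.repr x (e.symm k)
      map_zero' := ofLex.injective (funext fun k => by
        show B.repr 0 (e.symm k) = 0
        rw [map_zero, Finsupp.zero_apply])
      map_add' := fun x y => ofLex.injective (funext fun k => by
        show B.repr (x + y) (e.symm k) = B.repr x (e.symm k) + B.repr y (e.symm k)
        rw [map_add, Finsupp.add_apply]) }
  let h : L →+ ℤ := (B.constr ℤ fun _ => (1 : ℤ)).toAddMonoidHom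
  refine ⟨{x | 0 < h x ∨ (h x = 0 ∧ 0 < coord x)}, ?_, ?_, ?_, ?_, ?_, ?_⟩
  · simp only [Set.mem_ofPred_eq, map_zero]
    rintro (h0 | ⟨-, h0⟩) <;> exact lt_irrefl _ h0
  · rintro x (hx | ⟨hx, hx'⟩) y (hy | ⟨hy, hy'⟩) <;> simp only [Set.mem_ofPred_eq, map_add]
    · exact Or.inl (add_pos hx hy)
    · exact Or.inl (by omega)
    · exact Or.inl (by omega)
    · exact Or.inr ⟨by omega, add_pos hx' hy'⟩
  · intro x hx
    simp only [Set.mem_ofPred_eq, map_neg]
    have hc : coord x ≠ 0 := fun h0 => hx (B.repr.map_eq_zero_iff.1 (Finsupp.ext fun a => by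
      have h3 : B.repr x (e.symm (e a)) = 0 := congrFun (congrArg ofLex h0) (e a)
      simpa using h3))
    rcases lt_trichotomy (h x) 0 with h1 | h1 | h1
    · exact Or.inr (Or.inl (by omega))
    · rcases lt_or_gt_of_ne hc with h2 | h2
      · exact Or.inr (Or.inr ⟨by omega, neg_pos.2 h2⟩)
      · exact Or.inl (Or.inr ⟨h1, h2⟩)
    · exact Or.inl (Or.inl h1)
  · intro x hx hx'
    simp only [Set.mem_ofPred_eq, map_neg] at hx hx'
    rcases hx with hx | ⟨hx, hy⟩ <;> rcases hx' with hx' | ⟨hx', hy'⟩ <;> try omega
    exact lt_asymm hy (neg_pos.1 hy')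
  · intro i
    have hh : h (rootL P i) = b.height i := by
      obtain ⟨f, -, -, hf⟩ := b.exists_root_eq_sum_int i
      have he : rootL P i = ∑ a : b.support, f a • B a := Subtype.ext (by
        rw [AddSubmonoidClass.coe_finsetSum]
        simp only [B, Module.Basis.mk_apply, Submodule.coe_smul]
        show P.root i = ∑ a : b.support, f a • P.root (a : ι)
        rw [hf, Finset.sum_coe_sort b.support fun a => f a • P.root a])
      rw [Base.height_eq_sum hf, he, map_sum, ← Finset.sum_coe_sort b.support]
      refine Finset.sum_congr rfl fun a _ => ?_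
      rw [map_zsmul]
      simp [h]
    show (0 < h (rootL P i) ∨ _) ↔ _
    rw [Base.isPos_iff, ← hh]
    exact ⟨fun hp => hp.elim id fun h0 => absurd (hh.symm.trans h0.1) (b.height_ne_zero i), Or.inl⟩
  · intro φ hφ x y hxy
    have heq : φ = h := by
      have : φ.toIntLinearMap = B.constr ℤ fun _ => (1 : ℤ) := B.ext fun a => by
        rw [Module.Basis.constr_basis]
        simp only [B, Module.Basis.mk_apply]
        exact hφ a a.2
      ext z
      exact LinearMap.congr_fun this z
    subst heq
    rcases hxy with h1 | ⟨h1, -⟩ <;> rw [map_sub] at h1 <;> omega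


end Groth.Agent.S12076
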