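import Groth.Statements.S12077
import Mathlib.RingTheory.AdjoinRoot
import Mathlib.Algebra.Polynomial.Splits
import Mathlib.RingTheory.MvPolynomial.Basic
import Mathlib.RingTheory.Finiteness.Basic
import Mathlib.Algebra.Category.Ring.Colimits
import Mathlib.Algebra.Category.Ring.FilteredColimits
import Mathlib.CategoryTheory.Limits.Preserves.Filtered
import Mathlib.CategoryTheory.Functor.OfSequence
import Mathlib.CategoryTheory.Filtered.Basic
import Mathlib.CategoryTheory.Limits.ConcreteCategory.Basic
-- import your own Groth.Agent.* helpers here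

set_option autoImplicit false
universe u
open Polynomial
open CAlg
open CategoryTheory

namespace Groth.Agent.S12077

/-- Every commutative ring `A` admits an injective ring map into an absolutely integrally closed
commutative ring `B`, that is, one over which every monic polynomial is a product of linear factors
`X - b`. (Only the existence of such an extension is stated, not the finer structure of the
construction.) -/
theorem result (A : Type u) [CommRing A] :
    ∃ (B : Type u) (_ : CommRing B) (_ : Algebra A B), Function.Injective (algebraMap A B) ∧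
      ∀ f : B[X], f.Monic → ∃ s : Multiset B, f = (s.map fun b => X - C b).prod := by
  classical
  rcases subsingleton_or_nontrivial A with hA | hA
  · exact ⟨A, inferInstance, Algebra.id A, fun _ _ h => h, fun f _ => ⟨0, Subsingleton.elim _ _⟩⟩
  -- one step
  have step : ∀ R : CommRingCat.{u}, ∃ (R' : CommRingCat.{u}) (ι : R ⟶ R'), (Nontrivial R → Function.Injective ι.hom ∧ Nontrivial R') ∧
      ∀ f : Polynomial R, f.Monic → ∃ s : Multiset R', f.map ι.hom = (s.map fun b => X - C b).prod := by
    intro R
    let P := MvPolynomial (Σ f : {f : Polynomial R // f.Monic}, Fin f.1.natDegree) R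
    let D : {f : Polynomial R // f.Monic} → Polynomial P := fun f =>
      f.1.map (algebraMap R P) - ∏ i : Fin f.1.natDegree, (X - C (MvPolynomial.X ⟨f, i⟩ : P))
    let I : Ideal P := Ideal.span (Set.range fun fn : {f : Polynomial R // f.Monic} × ℕ => (D fn.1).coeff fn.2)
    refine ⟨CommRingCat.of (P ⧸ I), CommRingCat.ofHom ((Ideal.Quotient.mk I).comp (algebraMap R P)), fun hR => ?_, fun f hf => ?_⟩
    · have hsplit : ∀ F : Finset {f : Polynomial R // f.Monic}, ∃ (S : Type u) (_ : CommRing S) (_ : Algebra R S) (_ : Module.Free R S) (_ : Nontrivial S),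
          ∀ f ∈ F, ∃ v : Fin f.1.natDegree → S, f.1.map (algebraMap R S) = ∏ i, (X - C (v i)) := by
        intro F
        induction F using Finset.induction with
        | empty => exact ⟨R, inferInstance, Algebra.id R, inferInstance, inferInstance, fun f hf => absurd hf (Finset.notMem_empty f)⟩
        | @insert g F hg ih =>
          obtain ⟨S, _, _, _, _, hS⟩ := ih
          obtain ⟨T, _, _, _, _, _, hT⟩ := (g.2.map (algebraMap R S)).exists_splits_map
          letI := ((algebraMap S T).comp (algebraMap R S)).toAlgebra
          haveI : IsScalarTower R S T := IsScalarTower.of_algebraMap_eq fun x => rfl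
          refine ⟨T, inferInstance, inferInstance, Module.Free.trans (S := S), inferInstance, fun f hf => ?_⟩
          rcases Finset.mem_insert.1 hf with rfl | hf
          · rw [Polynomial.map_map, ← IsScalarTower.algebraMap_eq] at hT
            obtain ⟨m, hm⟩ := Polynomial.splits_iff_exists_multiset.1 hT
            rw [(f.2.map _).leadingCoeff, map_one, one_mul] at hm
            have hlen : m.toList.length = f.1.natDegree := by
              rw [Multiset.length_toList, ← f.2.natDegree_map (algebraMap R T), hm, natDegree_multiset_prod_X_sub_C_eq_card]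
            refine ⟨fun i => m.toList.get (i.cast hlen.symm), ?_⟩
            rw [hm, Finset.prod_eq_multiset_prod]
            refine congrArg Multiset.prod (Eq.trans (congrArg (Multiset.map (fun b => X - C b)) ?_)
              (Multiset.map_map (fun b => X - C b) (fun i : Fin f.1.natDegree => m.toList.get (i.cast hlen.symm)) _))
            rw [Fin.univ_val_map]
            conv_lhs => rw [← Multiset.coe_toList m]
            congr 1
            apply List.ext_get
            · simp [hlen]
            · intro i h1 h2; simp
          · obtain ⟨v, hv⟩ := hS f hf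
            refine ⟨fun i => algebraMap S T (v i), ?_⟩
            rw [IsScalarTower.algebraMap_eq R S T, ← Polynomial.map_map, hv, Polynomial.map_prod]
            simp
      have hev : ∀ x ∈ I, ∃ (S : Type u) (_ : CommRing S) (_ : Algebra R S) (_ : Module.Free R S) (_ : Nontrivial S) (e : P →ₐ[R] S), e x = 0 := by
        intro x hx
        obtain ⟨U, hU, hxU⟩ := Submodule.mem_span_finite_of_mem_span hx
        obtain ⟨U', -, rfl⟩ := Finset.subset_set_image_iff.1 (by rwa [Set.image_univ] : (U : Set P) ⊆ (fun fn : {f : Polynomial R // f.Monic} × ℕ => (D fn.1).coeff fn.2) '' Set.univ)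
        obtain ⟨S, _, _, _, _, hS⟩ := hsplit (U'.image Prod.fst)
        choose v hv using hS
        let e : P →ₐ[R] S := MvPolynomial.aeval fun p => if h : p.1 ∈ U'.image Prod.fst then v p.1 h p.2 else 0
        refine ⟨S, inferInstance, inferInstance, inferInstance, inferInstance, e, ?_⟩
        suffices h : Ideal.span ((U'.image fun fn => (D fn.1).coeff fn.2 : Finset P) : Set P) ≤ RingHom.ker e from h hxU
        rw [Ideal.span_le]
        intro y hy
        obtain ⟨⟨f, k⟩, hfn, rfl⟩ := Finset.mem_image.1 hy
        have hf : f ∈ U'.image Prod.fst := Finset.mem_image_of_mem Prod.fst hfn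
        have h0 : (D f).map e.toRingHom = 0 := by
          simp only [D, Polynomial.map_sub, Polynomial.map_map, Polynomial.map_prod, Polynomial.map_X, Polynomial.map_C]
          rw [show e.toRingHom.comp (algebraMap R P) = algebraMap R S from e.comp_algebraMap, hv f hf, sub_eq_zero]
          refine Finset.prod_congr rfl fun i _ => ?_
          rw [show e.toRingHom (MvPolynomial.X ⟨f, i⟩) = v f hf i by show MvPolynomial.aeval _ _ = _; rw [MvPolynomial.aeval_X, dif_pos hf]]
        show e ((D f).coeff k) = 0
        have := congrArg (fun p : Polynomial S => p.coeff k) h0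
        simpa [Polynomial.coeff_map] using this
      refine ⟨(injective_iff_map_eq_zero _).2 fun a ha => ?_, Ideal.Quotient.nontrivial_iff.2 fun h => ?_⟩
      · obtain ⟨S, _, _, _, _, e, he⟩ := hev (algebraMap R P a) (Ideal.Quotient.eq_zero_iff_mem.1 ha)
        rw [AlgHom.commutes] at he
        exact FaithfulSMul.algebraMap_injective R S (he.trans (map_zero _).symm)
      · obtain ⟨S, _, _, _, _, e, he⟩ := hev 1 (h ▸ Submodule.mem_top)
        exact one_ne_zero ((map_one e).symm.trans he)
    · refine ⟨Finset.univ.val.map fun i : Fin f.natDegree => Ideal.Quotient.mk I (MvPolynomial.X ⟨⟨f, hf⟩, i⟩), ?_⟩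
      rw [Multiset.map_map]
      have h0 : (D ⟨f, hf⟩).map (Ideal.Quotient.mk I) = 0 := by
        ext k
        rw [Polynomial.coeff_map, Polynomial.coeff_zero]
        exact Ideal.Quotient.eq_zero_iff_mem.2 (Ideal.subset_span ⟨(⟨f, hf⟩, k), rfl⟩)
      simp only [D, Polynomial.map_sub, Polynomial.map_map, Polynomial.map_prod, Polynomial.map_X, Polynomial.map_C, sub_eq_zero] at h0
      exact h0
  choose next ι hι hroot using step
  let X : ℕ → CommRingCat.{u} := fun n => Nat.rec (CommRingCat.of A) (fun _ R => next R) n
  let Fs : ℕ ⥤ CommRingCat.{u} := Functor.ofSequence (X := X) fun n => ι (X n)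
  have hX : ∀ n : ℕ, Nontrivial ↥(X n) := fun n => by
    induction n with
    | zero => exact hA
    | succ n h => exact ((hι (X n)) h).2
  have hinj : ∀ (n : ℕ) (h : 0 ≤ n), Function.Injective (Fs.map (homOfLE h)).hom := by
    intro n
    induction n with
    | zero => intro h a b hab; simpa using hab
    | succ n ih =>
      intro h
      rw [show (homOfLE h : (0 : ℕ) ⟶ n + 1) = homOfLE (Nat.zero_le n) ≫ homOfLE (Nat.le_succ n) from rfl, Functor.map_comp, CommRingCat.hom_comp, RingHom.coe_comp]
      refine Function.Injective.comp ?_ (ih _)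
      rw [Functor.ofSequence_map_homOfLE_succ]
      exact ((hι (X n)) (hX n)).1
  haveI := Limits.preservesFilteredColimitsOfSize_shrink.{0, u, 0, u} (forget CommRingCat.{u})
  let c := Limits.colimit Fs
  refine ⟨c, inferInstance, (Limits.colimit.ι Fs 0).hom.toAlgebra, ?_, fun f hf => ?_⟩
  · intro a b hab
    obtain ⟨k, g₁, g₂, hk⟩ := (Limits.Concrete.colimit_rep_eq_iff_exists Fs (i := 0) (j := 0) a b).1 hab
    rw [Subsingleton.elim g₁ (homOfLE (Nat.zero_le k)), Subsingleton.elim g₂ (homOfLE (Nat.zero_le k))] at hk
    exact hinj k _ hk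
  · have hlift : ∀ p : Polynomial c, ∃ (n : ℕ) (g : Polynomial ↥(Fs.obj n)), g.map (Limits.colimit.ι Fs n).hom = p := by
      intro p
      induction p using Polynomial.induction_on' with
      | add p q hp hq =>
        obtain ⟨n, g, rfl⟩ := hp
        obtain ⟨m, g', rfl⟩ := hq
        refine ⟨max n m, g.map (Fs.map (homOfLE (le_max_left n m))).hom + g'.map (Fs.map (homOfLE (le_max_right n m))).hom, ?_⟩
        rw [Polynomial.map_add, Polynomial.map_map, Polynomial.map_map, ← CommRingCat.hom_comp, ← CommRingCat.hom_comp, Limits.colimit.w, Limits.colimit.w]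
      | monomial k a =>
        obtain ⟨n, a', rfl⟩ := Limits.Concrete.colimit_exists_rep Fs a
        exact ⟨n, Polynomial.monomial k a', Polynomial.map_monomial _⟩
    obtain ⟨n, g, hg⟩ := hlift f
    haveI : Nontrivial c := by
      refine nontrivial_of_ne (0 : c) 1 fun h => ?_
      rw [← map_zero (Limits.colimit.ι Fs 0).hom, ← map_one (Limits.colimit.ι Fs 0).hom] at h
      obtain ⟨k, g₁, g₂, hk⟩ := (Limits.Concrete.colimit_rep_eq_iff_exists Fs (i := 0) (j := 0) _ _).1 h
      rw [Subsingleton.elim g₁ g₂] at hk
      haveI : Nontrivial ↥(Fs.obj k) := hX k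
      rw [map_zero, map_one] at hk
      exact zero_ne_one hk
    -- a monic representative at a later stage
    obtain ⟨m, hnm, hm⟩ : ∃ (m : ℕ) (h : n ≤ m), ((g.map (Fs.map (homOfLE h)).hom)).coeff f.natDegree = 1 ∧ (g.map (Fs.map (homOfLE h)).hom).natDegree ≤ f.natDegree := by
      have hz : ∀ S : Finset ℕ, (∀ j ∈ S, f.coeff j = 0) → ∃ (m : ℕ) (h : n ≤ m), ∀ j ∈ S, (Fs.map (homOfLE h)).hom (g.coeff j) = 0 := by
        intro S
        induction S using Finset.induction with
        | empty => exact fun _ => ⟨n, le_rfl, fun j hj => absurd hj (Finset.notMem_empty j)⟩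
        | @insert j S hj ih =>
          intro hS
          obtain ⟨m, h, hm⟩ := ih fun i hi => hS i (Finset.mem_insert_of_mem hi)
          have h0 := hS j (Finset.mem_insert_self j S)
          rw [← hg, Polynomial.coeff_map, ← map_zero (Limits.colimit.ι Fs n).hom] at h0
          obtain ⟨k, g₁, g₂, hk⟩ := (Limits.Concrete.colimit_rep_eq_iff_exists Fs (i := n) (j := n) _ _).1 h0
          refine ⟨max m k, h.trans (le_max_left _ _), fun i hi => ?_⟩
          rcases Finset.mem_insert.1 hi with rfl | hi
          · rw [Subsingleton.elim (homOfLE (h.trans (le_max_left m k)) : n ⟶ max m k) (g₁ ≫ homOfLE (le_max_right m k)), Functor.map_comp, CommRingCat.hom_comp, RingHom.comp_apply]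
            rw [show (Fs.map g₁).hom (g.coeff i) = (Fs.map g₂).hom 0 from hk, map_zero, map_zero]
          · rw [show (homOfLE (h.trans (le_max_left m k)) : n ⟶ max m k) = homOfLE h ≫ homOfLE (le_max_left m k) from rfl, Functor.map_comp, CommRingCat.hom_comp, RingHom.comp_apply, hm i hi, map_zero]
      obtain ⟨m, h, hm⟩ := hz (g.support.filter fun j => f.natDegree < j) fun j hj => Polynomial.coeff_eq_zero_of_natDegree_lt (Finset.mem_filter.1 hj).2
      have h1 := hf.coeff_natDegree
      rw [← hg, Polynomial.coeff_map, ← map_one (Limits.colimit.ι Fs n).hom, hg] at h1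
      obtain ⟨k, g₁, g₂, hk⟩ := (Limits.Concrete.colimit_rep_eq_iff_exists Fs (i := n) (j := n) _ _).1 h1
      refine ⟨max m k, h.trans (le_max_left _ _), ?_, Polynomial.natDegree_le_iff_coeff_eq_zero.2 fun j hj => ?_⟩
      · rw [Polynomial.coeff_map, Subsingleton.elim (homOfLE (h.trans (le_max_left m k)) : n ⟶ max m k) (g₁ ≫ homOfLE (le_max_right m k)), Functor.map_comp, CommRingCat.hom_comp, RingHom.comp_apply]
        rw [show (Fs.map g₁).hom (g.coeff f.natDegree) = (Fs.map g₂).hom 1 from hk, map_one, map_one]
      · rw [Polynomial.coeff_map]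
        by_cases hjs : j ∈ g.support
        · rw [show (homOfLE (h.trans (le_max_left m k)) : n ⟶ max m k) = homOfLE h ≫ homOfLE (le_max_left m k) from rfl, Functor.map_comp, CommRingCat.hom_comp, RingHom.comp_apply, hm j (Finset.mem_filter.2 ⟨hjs, hj⟩), map_zero]
        · rw [Polynomial.notMem_support_iff.1 hjs, map_zero]
    let g' : Polynomial ↥(Fs.obj m) := g.map (Fs.map (homOfLE hnm)).hom
    have hg'm : g'.Monic := Polynomial.monic_of_natDegree_le_of_coeff_eq_one _ hm.2 hm.1
    obtain ⟨s, hs⟩ : ∃ s : Multiset ↥(Fs.obj (m + 1)), g'.map (Fs.map (homOfLE (Nat.le_succ m))).hom = (s.map fun b => Polynomial.X - Polynomial.C b).prod := by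
      rw [Functor.ofSequence_map_homOfLE_succ]
      exact hroot (X m) g' hg'm
    refine ⟨s.map (Limits.colimit.ι Fs (m + 1)).hom, ?_⟩
    have := congrArg (Polynomial.map (Limits.colimit.ι Fs (m + 1)).hom) hs
    rw [Polynomial.map_map, ← CommRingCat.hom_comp, Limits.colimit.w, Polynomial.map_multiset_prod, Multiset.map_map] at this
    rw [show f = g'.map (Limits.colimit.ι Fs m).hom by
      rw [← hg, Polynomial.map_map, ← CommRingCat.hom_comp, Limits.colimit.w], this, Multiset.map_map]
    congr 1
    exact Multiset.map_congr rfl fun b _ => by simp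

end Groth.Agent.S12077
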