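import Groth.Statements.S12078
import Mathlib.RingTheory.Bezout
import Mathlib.LinearAlgebra.Matrix.Notation
-- import your own Groth.Agent.* helpers here

set_option autoImplicit false
universe u
open CAlg
open Matrix

namespace Groth.Agent.S12078

/-- An elementary divisor domain is Bézout. Here `R` is a domain such that for all `n, m ≥ 1` and every
`n × m` matrix `A` there are invertible matrices `U` (`n × n`) and `V` (`m × m`) with `U * A * V`
zero off the diagonal and with diagonal entries `f 0 ∣ f 1 ∣ f 2 ∣ …`; the conclusion is that every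
finitely generated ideal of `R` is principal. -/
theorem result (R : Type u) [CommRing R] [IsDomain R]
    (hR : ∀ n m : ℕ, 1 ≤ n → 1 ≤ m → ∀ A : Matrix (Fin n) (Fin m) R,
      ∃ (U : (Matrix (Fin n) (Fin n) R)ˣ) (V : (Matrix (Fin m) (Fin m) R)ˣ) (f : ℕ → R),
        (∀ k : ℕ, f k ∣ f (k + 1)) ∧
        ∀ (i : Fin n) (j : Fin m), ((U : Matrix (Fin n) (Fin n) R) * A * (V : Matrix (Fin m) (Fin m) R)) i j =
          if (i : ℕ) = (j : ℕ) then f i else 0) :
    IsBezout R := by
  rw [IsBezout.iff_span_pair_isPrincipal]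
  intro a b
  obtain ⟨U, V, f, -, h⟩ := hR 1 2 le_rfl (by norm_num) !![a, b]
  have key : (U : Matrix (Fin 1) (Fin 1) R) * !![a, b] * (V : Matrix (Fin 2) (Fin 2) R) = !![f 0, 0] := by
    ext i j
    rw [h i j]
    fin_cases i <;> fin_cases j <;> simp
  have key' : !![a, b] = ((U⁻¹ : (Matrix (Fin 1) (Fin 1) R)ˣ) : Matrix (Fin 1) (Fin 1) R) * !![f 0, 0] *
      ((V⁻¹ : (Matrix (Fin 2) (Fin 2) R)ˣ) : Matrix (Fin 2) (Fin 2) R) := by
    rw [← key, Matrix.mul_assoc (U : Matrix (Fin 1) (Fin 1) R), ← Matrix.mul_assoc _ (U : Matrix (Fin 1) (Fin 1) R),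
      Units.inv_mul, Matrix.one_mul, Matrix.mul_assoc, Units.mul_inv, Matrix.mul_one]
  refine ⟨⟨f 0, le_antisymm (Ideal.span_le.mpr ?_) ((Ideal.span_singleton_le_iff_mem _).mpr ?_)⟩⟩
  · intro z hz
    simp only [Set.mem_insert_iff, Set.mem_singleton_iff] at hz
    rcases hz with rfl | rfl
    · have h0 := congr_fun₂ key' 0 0
      simp [Matrix.mul_apply, Fin.sum_univ_two] at h0
      rw [h0]
      exact Ideal.mem_span_singleton.mpr (Dvd.dvd.mul_right (dvd_mul_left _ _) _)
    · have h0 := congr_fun₂ key' 0 1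
      simp [Matrix.mul_apply, Fin.sum_univ_two] at h0
      rw [h0]
      exact Ideal.mem_span_singleton.mpr (Dvd.dvd.mul_right (dvd_mul_left _ _) _)
  · have h0 := congr_fun₂ key 0 0
    simp [Matrix.mul_apply, Fin.sum_univ_two] at h0
    rw [← h0]
    exact Ideal.add_mem _ (Ideal.mul_mem_right _ _ (Ideal.mul_mem_left _ _ (Ideal.subset_span (by simp))))
      (Ideal.mul_mem_right _ _ (Ideal.mul_mem_left _ _ (Ideal.subset_span (by simp))))

end Groth.Agent.S12078
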