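import Groth.Statements.S12079
import Mathlib.LinearAlgebra.Contraction
import Mathlib.Algebra.Module.FinitePresentation
import Mathlib.RingTheory.Flat.Basic
-- import your own Groth.Agent.* helpers here

set_option autoImplicit false
universe u
open TensorProduct
open CAlg

namespace Groth.Agent.S12079

/-- For a finitely presented `R`-module `M`, any `R`-module `N` and a flat `R`-module `L`, the canonical
map `Hom_R(M, N) ⊗_R L → Hom_R(M, N ⊗_R L)` sending `f ⊗ l` to `m ↦ f m ⊗ l` is bijective. -/
theorem result (R : Type u) [CommRing R]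
    (M N L : Type u) [AddCommGroup M] [Module R M] [AddCommGroup N] [Module R N] [AddCommGroup L] [Module R L]
    [Module.FinitePresentation R M] [Module.Flat R L] :
    Function.Bijective (TensorProduct.rTensorHomToHomRTensor (RingHom.id R) M N L) := by
  obtain ⟨n, m, π, d, hπ, hex⟩ := Module.FinitePresentation.exists_fin' R M
  let Hπ : (M →ₗ[R] N) →ₗ[R] ((Fin n → R) →ₗ[R] N) := LinearMap.lcomp R N π
  let Hd : ((Fin n → R) →ₗ[R] N) →ₗ[R] ((Fin m → R) →ₗ[R] N) := LinearMap.lcomp R N d
  have hπi : Function.Injective Hπ := fun f g h => LinearMap.ext fun x => by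
    obtain ⟨y, rfl⟩ := hπ x
    exact DFunLike.congr_fun h y
  have hHex : Function.Exact Hπ Hd := by
    intro f
    constructor
    · intro hf
      have hker : LinearMap.ker π ≤ LinearMap.ker f := by
        rw [hex.linearMap_ker_eq]
        rintro _ ⟨y, rfl⟩
        exact DFunLike.congr_fun hf y
      refine ⟨(LinearMap.ker π).liftQ f hker ∘ₗ (π.quotKerEquivOfSurjective hπ).symm.toLinearMap, ?_⟩
      ext y
      have he : (π.quotKerEquivOfSurjective hπ).symm (π (Pi.single y 1)) = Submodule.Quotient.mk (Pi.single y 1) := by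
        rw [LinearEquiv.symm_apply_eq]; rfl
      simp [Hπ, he]
    · rintro ⟨g, rfl⟩
      ext y
      simp [Hπ, Hd, hex.apply_apply_eq_zero]
  have cn : ∀ z, TensorProduct.rTensorHomToHomRTensor (RingHom.id R) (Fin n → R) N L (Hπ.rTensor L z) =
      (TensorProduct.rTensorHomToHomRTensor (RingHom.id R) M N L z) ∘ₗ π := by
    intro z
    induction z using TensorProduct.induction_on with
    | zero => simp
    | add a b ha hb => simp only [map_add, ha, hb, LinearMap.add_comp]
    | tmul f l => rw [LinearMap.rTensor_tmul]; refine LinearMap.ext fun y => ?_; simp [Hπ]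
  have cm : ∀ z, TensorProduct.rTensorHomToHomRTensor (RingHom.id R) (Fin m → R) N L (Hd.rTensor L z) =
      (TensorProduct.rTensorHomToHomRTensor (RingHom.id R) (Fin n → R) N L z) ∘ₗ d := by
    intro z
    induction z using TensorProduct.induction_on with
    | zero => simp
    | add a b ha hb => simp only [map_add, ha, hb, LinearMap.add_comp]
    | tmul f l => rw [LinearMap.rTensor_tmul]; refine LinearMap.ext fun y => ?_; simp [Hd]
  have bij : ∀ k : ℕ, Function.Bijective (TensorProduct.rTensorHomToHomRTensor (RingHom.id R) (Fin k → R) N L) := by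
    intro k
    rw [← rTensorHomEquivHomRTensor_toLinearMap]
    exact (rTensorHomEquivHomRTensor R (Fin k → R) N L).bijective
  constructor
  · intro a b h
    apply Module.Flat.rTensor_preserves_injective_linearMap Hπ hπi
    apply (bij n).1
    rw [cn, cn, h]
  · intro g
    obtain ⟨w, hw⟩ := (bij n).2 (g ∘ₗ π)
    have hw0 : Hd.rTensor L w = 0 := by
      apply (bij m).1
      rw [cm, hw, map_zero]
      ext y
      simp [hex.apply_apply_eq_zero]
    obtain ⟨z, rfl⟩ := (Module.Flat.rTensor_exact L hHex w).mp hw0
    refine ⟨z, LinearMap.ext fun x => ?_⟩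
    obtain ⟨y, rfl⟩ := hπ x
    exact DFunLike.congr_fun ((cn z).symm.trans hw) y

end Groth.Agent.S12079
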