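import Groth.Statements.S12081
import Mathlib.RingTheory.IsTensorProduct
import Mathlib.RingTheory.Ideal.Maps
-- import your own Groth.Agent.* helpers here

set_option autoImplicit false
universe u
open TensorProduct
open EtAlg

namespace Groth.Agent.S12081

/-- Let `B' = B ×_A A'` be a fibre square of rings with `A' → A` surjective with kernel `I`, let `J =
Ker(B' → B)`, let `D'` be a `B'`-algebra and `C' = D' ⊗_{B'} A'`. Then the ideal `I C'` is, as a
subset of `C'`, the image of the ideal `J D'` under `D' → C'`; that is, the map `J D' → I C'` is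
surjective. -/
theorem result (B' B A' A : Type u) [CommRing B'] [CommRing B] [CommRing A'] [CommRing A]
    [Algebra B' B] [Algebra B' A'] [Algebra B A] [Algebra A' A] [Algebra B' A] [IsScalarTower B' B A] [IsScalarTower B' A' A]
    (hsq : EtMil.IsFibreSquare B' B A' A)
    (D' C' : Type u) [CommRing D'] [CommRing C'] [Algebra B' D'] [Algebra A' C']
    [Algebra D' C'] [Algebra B' C'] [IsScalarTower B' A' C'] [IsScalarTower B' D' C'] [Algebra.IsPushout B' A' D' C'] :
    (algebraMap D' C') '' ((RingHom.ker (algebraMap B' B)).map (algebraMap B' D') : Set D') =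
      ((RingHom.ker (algebraMap A' A)).map (algebraMap A' C') : Set C') := by
  obtain ⟨-, huniq⟩ := hsq
  let J := (RingHom.ker (algebraMap B' B)).map (algebraMap B' D')
  let T : Set C' := (algebraMap D' C') '' (J : Set D')
  have hT0 : (0 : C') ∈ T := ⟨0, J.zero_mem, map_zero _⟩
  have hTadd : ∀ {x y}, x ∈ T → y ∈ T → x + y ∈ T := by
    rintro _ _ ⟨a, ha, rfl⟩ ⟨b, hb, rfl⟩
    exact ⟨a + b, J.add_mem ha hb, map_add _ _ _⟩
  have hgen : ∀ (i : A'), algebraMap A' A i = 0 → ∃ j : B', algebraMap B' B j = 0 ∧ algebraMap B' A' j = i := fun i hi => by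
    obtain ⟨j, hj, -⟩ := huniq 0 i (by rw [map_zero, hi])
    exact ⟨j, hj⟩
  have hA : ∀ (a : A') (x : C'), x ∈ T → a • x ∈ T := by
    rintro a _ ⟨d, hd, rfl⟩
    have hd' : d ∈ Ideal.span (algebraMap B' D' '' (RingHom.ker (algebraMap B' B) : Set B')) := hd
    clear hd
    induction hd' using Submodule.span_induction with
    | mem y hy =>
      obtain ⟨j, hj, rfl⟩ := hy
      obtain ⟨j', hj', hj''⟩ := hgen (a * algebraMap B' A' j) (by
        rw [map_mul, ← IsScalarTower.algebraMap_apply, IsScalarTower.algebraMap_apply B' B A,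
          RingHom.mem_ker.1 hj, map_zero, mul_zero])
      refine ⟨algebraMap B' D' j', Ideal.mem_map_of_mem _ hj', ?_⟩
      rw [← IsScalarTower.algebraMap_apply B' D' C', ← IsScalarTower.algebraMap_apply B' D' C',
        IsScalarTower.algebraMap_apply B' A' C' j', hj'', map_mul, ← IsScalarTower.algebraMap_apply, Algebra.smul_def]
    | zero => rw [map_zero, smul_zero]; exact hT0
    | add y z _ _ hy hz => rw [map_add, smul_add]; exact hTadd hy hz
    | smul r y _ hy =>
      obtain ⟨w, hw, hw'⟩ := hy
      refine ⟨r * w, J.mul_mem_left _ hw, ?_⟩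
      rw [map_mul, hw', smul_eq_mul, map_mul, mul_smul_comm]
  have hC : ∀ (c x : C'), x ∈ T → c * x ∈ T := by
    intro c
    refine (Algebra.IsPushout.out (R := B') (S := A') (R' := D') (S' := C')).inductionOn c (motive := fun c => ∀ x ∈ T, c * x ∈ T) ?_ ?_ ?_ ?_
    · intro x _; rw [zero_mul]; exact hT0
    · rintro d _ ⟨w, hw, rfl⟩
      exact ⟨d * w, J.mul_mem_left _ hw, map_mul _ _ _⟩
    · intro s n hn x hx
      rw [smul_mul_assoc]
      exact hA s _ (hn x hx)
    · intro n₁ n₂ h1 h2 x hx
      rw [add_mul]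
      exact hTadd (h1 x hx) (h2 x hx)
  apply Set.Subset.antisymm
  · rintro _ ⟨d, hd, rfl⟩
    have hle : J ≤ ((RingHom.ker (algebraMap A' A)).map (algebraMap A' C')).comap (algebraMap D' C') :=
      Ideal.map_le_iff_le_comap.2 fun j hj => by
        rw [Ideal.mem_comap, Ideal.mem_comap, ← IsScalarTower.algebraMap_apply, IsScalarTower.algebraMap_apply B' A' C']
        refine Ideal.mem_map_of_mem _ ?_
        rw [RingHom.mem_ker, ← IsScalarTower.algebraMap_apply, IsScalarTower.algebraMap_apply B' B A,
          RingHom.mem_ker.1 hj, map_zero]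
    exact hle hd
  · intro x hx
    let TI : Ideal C' := { carrier := T, zero_mem' := hT0, add_mem' := hTadd, smul_mem' := fun c x hx => hC c x hx }
    have hle : (RingHom.ker (algebraMap A' A)).map (algebraMap A' C') ≤ TI := Ideal.map_le_iff_le_comap.2 fun i hi => by
      obtain ⟨j, hj, hj'⟩ := hgen i hi
      exact ⟨algebraMap B' D' j, Ideal.mem_map_of_mem _ hj, by
        rw [← IsScalarTower.algebraMap_apply, ← hj', ← IsScalarTower.algebraMap_apply]⟩
    exact hle hx

end Groth.Agent.S12081
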