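import Groth.Statements.S12086
import Groth.Agent.KFlatLib.Cone

set_option autoImplicit false
universe u
open CategoryTheory CategoryTheory.Limits MonoidalCategory CategoryTheory.Pretriangulated
open DRing

namespace Groth.Agent.S12086

/-- Let `(K₁•, K₂•, K₃•)` be a distinguished triangle in the homotopy category `K(R)` of complexes of
`R`-modules. If two out of the three complexes are K-flat (tensoring with them carries acyclic
complexes to acyclic complexes), then so is the third. -/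
theorem result (R : Type u) [CommRing R]
    (T : Pretriangulated.Triangle (HomotopyCategory (ModuleCat.{u} R) (ComplexShape.up ℤ)))
    (hT : T ∈ Pretriangulated.distinguishedTriangles) :
    ((∀ L : DRing.Cx R, (∀ i : ℤ, IsZero (L.homology i)) → ∀ i : ℤ, IsZero ((L ⊗ T.obj₁.as).homology i)) → (∀ L : DRing.Cx R, (∀ i : ℤ, IsZero (L.homology i)) → ∀ i : ℤ, IsZero ((L ⊗ T.obj₂.as).homology i)) → (∀ L : DRing.Cx R, (∀ i : ℤ, IsZero (L.homology i)) → ∀ i : ℤ, IsZero ((L ⊗ T.obj₃.as).homology i))) ∧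
    ((∀ L : DRing.Cx R, (∀ i : ℤ, IsZero (L.homology i)) → ∀ i : ℤ, IsZero ((L ⊗ T.obj₁.as).homology i)) → (∀ L : DRing.Cx R, (∀ i : ℤ, IsZero (L.homology i)) → ∀ i : ℤ, IsZero ((L ⊗ T.obj₃.as).homology i)) → (∀ L : DRing.Cx R, (∀ i : ℤ, IsZero (L.homology i)) → ∀ i : ℤ, IsZero ((L ⊗ T.obj₂.as).homology i))) ∧
    ((∀ L : DRing.Cx R, (∀ i : ℤ, IsZero (L.homology i)) → ∀ i : ℤ, IsZero ((L ⊗ T.obj₂.as).homology i)) → (∀ L : DRing.Cx R, (∀ i : ℤ, IsZero (L.homology i)) → ∀ i : ℤ, IsZero ((L ⊗ T.obj₃.as).homology i)) → (∀ L : DRing.Cx R, (∀ i : ℤ, IsZero (L.homology i)) → ∀ i : ℤ, IsZero ((L ⊗ T.obj₁.as).homology i))) := by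
  let kf : HomotopyCategory (ModuleCat.{u} R) (ComplexShape.up ℤ) → Prop := fun X =>
    ∀ L : DRing.Cx R, (∀ i : ℤ, IsZero (L.homology i)) → ∀ i : ℤ, IsZero ((L ⊗ X.as).homology i)
  have kf_iso : ∀ {X Y : HomotopyCategory (ModuleCat.{u} R) (ComplexShape.up ℤ)},
      (X ≅ Y) → kf X → kf Y := by
    intro X Y e h L hL i
    let H : DRing.Cx R ⥤ HomotopyCategory (ModuleCat.{u} R) (ComplexShape.up ℤ) :=
      MonoidalCategory.tensorLeft L ⋙ HomotopyCategory.quotient _ _
    have hH : ∀ {P Q : DRing.Cx R} (f g : P ⟶ Q), Homotopy f g → H.map f = H.map g :=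
      fun {P Q} f g w => HomotopyCategory.eq_of_homotopy _ _
        (HomologicalComplex.mapBifunctorMapHomotopy₂ (𝟙 L) w
          (MonoidalCategory.curriedTensor (ModuleCat.{u} R)) (ComplexShape.up ℤ))
    let w := HomotopyCategory.homotopyEquivOfIso
      (show (HomotopyCategory.quotient _ _).obj X.as ≅ (HomotopyCategory.quotient _ _).obj Y.as from e)
    let e' : H.obj X.as ≅ H.obj Y.as :=
      { hom := H.map w.hom
        inv := H.map w.inv
        hom_inv_id := by rw [← H.map_comp, hH _ _ w.homotopyHomInvId, H.map_id]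
        inv_hom_id := by rw [← H.map_comp, hH _ _ w.homotopyInvHomId, H.map_id] }
    exact (h L hL i).of_iso
      (((HomotopyCategory.homologyFunctorFactors (ModuleCat.{u} R) (ComplexShape.up ℤ) i).app
          (L ⊗ Y.as)).symm ≪≫
        (HomotopyCategory.homologyFunctor (ModuleCat.{u} R) (ComplexShape.up ℤ) i).mapIso e'.symm ≪≫
        (HomotopyCategory.homologyFunctorFactors (ModuleCat.{u} R) (ComplexShape.up ℤ) i).app
          (L ⊗ X.as))
  have kf_shift : ∀ (X : HomotopyCategory (ModuleCat.{u} R) (ComplexShape.up ℤ)) (n : ℤ),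
      kf X → kf (X⟦n⟧) := fun X n h =>
    kf_iso (((HomotopyCategory.quotient (ModuleCat.{u} R) (ComplexShape.up ℤ)).commShiftIso n).app
      X.as) (KFlatLib.isKFlat_shift (K := X.as) h n)
  have cone : ∀ (S : Pretriangulated.Triangle (HomotopyCategory (ModuleCat.{u} R) (ComplexShape.up ℤ))),
      S ∈ Pretriangulated.distinguishedTriangles → kf S.obj₁ → kf S.obj₂ → kf S.obj₃ := by
    rintro S ⟨P, Q, φ, ⟨e⟩⟩ h1 h2
    exact kf_iso (Pretriangulated.Triangle.π₃.mapIso e).symm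
      (KFlatLib.isKFlat_mappingCone (kf_iso (Pretriangulated.Triangle.π₁.mapIso e) h1)
        (kf_iso (Pretriangulated.Triangle.π₂.mapIso e) h2) φ)
  show (kf T.obj₁ → kf T.obj₂ → kf T.obj₃) ∧ (kf T.obj₁ → kf T.obj₃ → kf T.obj₂) ∧
    (kf T.obj₂ → kf T.obj₃ → kf T.obj₁)
  refine ⟨cone T hT, fun h1 h3 => ?_, fun h2 h3 => ?_⟩
  · exact cone T.invRotate (Pretriangulated.inv_rot_of_distTriang _ hT)
      (kf_shift _ (-1) h3) h1
  · exact kf_iso ((shiftEquiv (HomotopyCategory (ModuleCat.{u} R) (ComplexShape.up ℤ))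
        (1 : ℤ)).unitIso.app T.obj₁).symm
      (kf_shift _ (-1) (cone T.rotate (Pretriangulated.rot_of_distTriang _ hT) h2 h3))

end Groth.Agent.S12086
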