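import Groth.Statements.S12087
import Groth.Agent.QRlimLib.Push
import Groth.Agent.KiehlLib.PushFree
import Groth.Agent.TildePCLib.Main
import Groth.Agent.DRingLib.CoherentRing
import Groth.Agent.RpushLib.Sections
import Groth.Agent.RelFlatLib.RelOpen

set_option autoImplicit false
set_option backward.isDefEq.respectTransparency false
set_option backward.isDefEq.respectTransparency.types false
set_option maxHeartbeats 1000000
universe u
open CategoryTheory CategoryTheory.Limits AlgebraicGeometry
open Perf

namespace Groth.Agent.S12087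

open Groth.Agent
section Helpers

attribute [local instance] HasDerivedCategory.standard

theorem finitePresentation_HH {R : Type u} [CommRing R] (hR : Groth.Agent.DRingLib.IsCoherentR R)
    {X : Scheme.{u}} (f : X ⟶ Spec (CommRingCat.of R))
    [QuasiCompact f] [QuasiSeparated f] [LocallyOfFinitePresentation f]
    (G : X.Modules) [Coh.IsQCoh G] (hG : CohB1.IsFP G) (hflat : FlatMod.IsFlatOver f G)
    (hsupp : ClSub.IsProperOver f (CohB1.support G)) (i : ℕ) :
    letI := Module.compHom (Coh.HH X G i) (Coh.toGlobal f)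
    Module.FinitePresentation R (Coh.HH X G i) := by
  let _ := Module.compHom (Coh.HH X G i) (Coh.toGlobal f)
  haveI := Groth.Agent.DCohRestrLib.hasRpush f
  haveI := KFlatLib.hasLTensorMod G
  let K := (DCoh.Rpush f).obj (DCoh.inD X G)
  have hK : DCoh.IsPerfect K :=
    Groth.Agent.PerfLib.isPerfect_of_iso ((DCoh.Rpush f).mapIso
      (KFlatLib.lTensorModObjIso G _ (PerfBaseLib.isKFlat_unitCx X) ≪≫ PerfBaseLib.inDTwistIso G))
      (KiehlLib.isPerfect_rpush_lTensor_supp f _ (PerfBaseLib.isPerfect_unitCx X) G hG hflat hsupp)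
  haveI : PreservesFiniteLimits (tilde.functor (CommRingCat.of R)) :=
    HensSchLib.tilde_preservesFiniteLimits _
  haveI : (DCoh.inD X G).IsGE 0 :=
    inferInstanceAs (((DerivedCategory.singleFunctor X.Modules 0).obj G).IsGE 0)
  have hKq : DCoh.IsQCohD K :=
    QRlimLib.isQCohD_rpush_bdd f 0 _ (PerfBaseLib.isQCohD_inD G inferInstance)
  obtain ⟨M, ⟨eM⟩⟩ := (TildeDerLib.isQCohD_iff (CommRingCat.of R) K).1 hKq
  obtain ⟨E, a, b, -, hE, ⟨eE⟩⟩ :=
    TildePCLib.isPerfect_of_tildeD (Groth.Agent.PerfLib.isPerfect_of_iso eM.symm hK)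
  have hN : Module.FinitePresentation R (E.homology (i : ℤ)) :=
    Groth.Agent.DRingLib.finitePresentation_homology hR E (fun m => by
      obtain ⟨h1, h2⟩ := hE m
      exact Module.finitePresentation_of_projective R (E.X m)) i
  obtain ⟨eH⟩ := KiehlLib.nonempty_HD_rpush_inD f G i
  let eT : (tilde.functor (CommRingCat.of R)).obj (E.homology (i : ℤ)) ≅ (Coh.Rpush f i).obj G :=
    (tilde.functor _).mapIso (((DerivedCategory.homologyFunctorFactors _ (i : ℤ)).app E).symm ≪≫
        (DerivedCategory.homologyFunctor _ (i : ℤ)).mapIso eE) ≪≫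
      (TildeDerLib.tildeHIso (CommRingCat.of R) i M).symm ≪≫
      (DerivedCategory.homologyFunctor _ (i : ℤ)).mapIso eM ≪≫ eH
  let N := (Coh.Rpush f i).obj G
  let ΓN : ModuleCat.{u} R := (moduleSpecΓFunctor (R := CommRingCat.of R)).obj N
  let eN : E.homology (i : ℤ) ≅ ΓN :=
    @Iso.trans (ModuleCat.{u} R) _ _
      ((moduleSpecΓFunctor (R := CommRingCat.of R)).obj ((tilde.functor (CommRingCat.of R)).obj (E.homology (i : ℤ)))) _
      (tilde.isoTop (R := CommRingCat.of R) (E.homology (i : ℤ)))
      ((moduleSpecΓFunctor (R := CommRingCat.of R)).mapIso eT)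
  haveI := hN
  haveI : Module.FinitePresentation R ΓN := Module.FinitePresentation.of_equiv eN.toLinearEquiv
  let F := RpushLib.FlRes.ofInjective (injectiveResolution G)
  let W : (Spec (CommRingCat.of R)).Opens := ⊤
  let eT' := LinearEquiv.ofBijective (RpushLib.toHom (RpushLib.pushCx f F.K) i W)
    (RpushLib.toHom_bijective (RpushLib.localizes_pushCx f F i) (isAffineOpen_top _))
  let eP := LinearEquiv.ofBijective (RpushLib.phPush f F.K i W) (RpushLib.phPush_bijective f F.K i W)
  let e₁ : Γ(N, W) ≃+ Coh.HH X G i :=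
    ((AddEquiv.ofBijective ((RpushLib.rpushIso f (injectiveResolution G) i).hom.app W).hom
        (ConcreteCategory.bijective_of_isIso
          ((RpushLib.rpushIso f (injectiveResolution G) i).hom.app W))).trans eT'.symm.toAddEquiv).trans
      (eP.toAddEquiv.trans (F.hhEquiv (f.app W).hom i))
  have he : ∀ (r : Γ(Spec (CommRingCat.of R), W)) (x : Γ(N, W)),
      e₁ (r • x) = HSMul.hSMul (α := Coh.Γtop X) (show Coh.Γtop X from f.app W r) (e₁ x) := fun r x => by
    let y := (RpushLib.rpushIso f (injectiveResolution G) i).hom.app W x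
    have h1 : (RpushLib.rpushIso f (injectiveResolution G) i).hom.app W (r • x) = r • y :=
      (RpushLib.rpushIso f (injectiveResolution G) i).hom.app_smul r x
    change F.hhEquiv (f.app W).hom i (eP (eT'.symm
      ((RpushLib.rpushIso f _ i).hom.app W (r • x)))) = _
    rw [h1]
    refine (congrArg (F.hhEquiv (f.app W).hom i) ((congrArg eP (eT'.symm.map_smul r y)).trans
      (eP.map_smul r _))).trans ?_
    exact F.hhEquiv_smul (f.app W).hom i r _
  exact Module.FinitePresentation.of_equiv
    ({ e₁ with
        map_smul' := fun r x => he ((Scheme.ΓSpecIso (CommRingCat.of R)).inv r) x } :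
      ΓN ≃ₗ[R] Coh.HH X G i)

end Helpers

/-- Let `R` be a coherent ring (every finitely generated ideal is finitely presented), `X` a scheme of
finite presentation over `R` (quasi-compact, quasi-separated, locally of finite presentation over
`Spec R`), and `G` an `O_X`-module of finite presentation that is flat over `R` and whose support is
proper over `R`. Then each `H^i(X, G)` is a coherent `R`-module, that is (over a coherent ring) a
finitely presented `R`-module. -/
theorem result (R : Type u) [CommRing R]
    (hR : ∀ I : Ideal R, I.FG → Module.FinitePresentation R I)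
    (X : Scheme.{u}) [X.Over (Spec (CommRingCat.of R))]
    [QuasiCompact (X ↘ Spec (CommRingCat.of R))] [QuasiSeparated (X ↘ Spec (CommRingCat.of R))]
    [LocallyOfFinitePresentation (X ↘ Spec (CommRingCat.of R))]
    (G : X.Modules) (hG : CohB1.IsFP G) (hflat : FlatMod.IsFlatOver (X ↘ Spec (CommRingCat.of R)) G)
    (hsupp : ClSub.IsProperOver (X ↘ Spec (CommRingCat.of R)) (CohB1.support G)) (i : ℕ) :
    Module.FinitePresentation R (Coh.HH X G i) := by
  have := Groth.Agent.RelFlatLib.isQCoh_of_fp hG
  exact finitePresentation_HH hR _ G hG hflat hsupp i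

end Groth.Agent.S12087
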