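import Groth.Statements.S12089
import Groth.Agent.TensorPCLib.Main
import Groth.Agent.TensorPCLib.External
import Groth.Agent.RelPCSchLib.Transport
import Groth.Agent.RelPCSchLib.Main

set_option autoImplicit false
set_option backward.isDefEq.respectTransparency false
set_option backward.isDefEq.respectTransparency.types false
set_option maxHeartbeats 1600000
universe u
open CategoryTheory CategoryTheory.Limits AlgebraicGeometry
attribute [local instance] HasDerivedCategory.standard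
open FlatMor

namespace Groth.Agent.S12089

/-- Let `f : X ⟶ Y` and `g : Y ⟶ S` be locally of finite type with `f` pseudo-coherent (`O_X` in degree
`0` is `n`-pseudo-coherent relative to `f` for every `n`), `m` an integer and `E` an object of
`D(O_Y)` which is `m`-pseudo-coherent relative to `g` (cover-and-chart form). Then, the derived
pullback `Lf^*` being assumed to exist, `Lf^* E` is `m`-pseudo-coherent relative to `f ≫ g`. No
boundedness of `E` is assumed. -/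
theorem result {X Y S : Scheme.{u}} (f : X ⟶ Y) (g : Y ⟶ S)
    [LocallyOfFiniteType f] [LocallyOfFiniteType g] (hf : ∀ n : ℤ, DerSch.IsNPseudoCoherent f n) [DCoh.HasLpull f]
    (m : ℤ) (E : DCoh.D Y) (hE : DerSch.IsPseudoCoherentRel g m E) :
    DerSch.IsPseudoCoherentRel (f ≫ g) m ((DCoh.Lpull f).obj E) := by
  haveI := fun {A B : Scheme.{u}} (k : A ⟶ B) => KFlatLib.hasLpull k
  choose V hV hxV _hV using fun x : X => exists_isAffineOpen_mem_and_subset (x := f x) (U := ⊤) trivial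
  refine RelPCSchLib.rel_of_cover (f ≫ g) (fun x => f ⁻¹ᵁ V x) (fun x => ⟨x, hxV x⟩) fun x => ?_
  haveI : CompactSpace (V x) := isCompact_iff_compactSpace.1 (hV x).isCompact
  have hEV : DerSch.IsPseudoCoherentRel ((V x).ι ≫ g) m ((PerfLib.resD (V x).ι).obj E) :=
    RelPCSchLib.rel_res (V x).ι g hE
  obtain ⟨d, hd⟩ := RelPCSchLib.exists_bound_of_rel ((V x).ι ≫ g) hEV
  haveI : ((PerfLib.resD (V x).ι).obj E).IsLE d := (DerivedCategory.isLE_iff _ _).mpr hd
  haveI : (DCoh.toD (f ⁻¹ᵁ V x : X.Opens) (DerSch.unitCx _)).IsLE 0 :=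
    (DerivedCategory.isLE_iff _ _).mpr fun i hi => RelPCSchLib.isZero_HD_unitCx _ i hi
  have hfV : DerSch.IsPseudoCoherentRel (f ∣_ V x) (m - d) (DCoh.toD _ (DerSch.unitCx _)) := by
    obtain ⟨u⟩ := TensorPCLib.nonempty_lpull_unit (f ⁻¹ᵁ V x).ι
    obtain ⟨r⟩ := PerfBaseLib.nonempty_lpull_restrictD (U := ((f ⁻¹ᵁ V x : X.Opens) : Scheme.{u}))
      (f ⁻¹ᵁ V x) (DCoh.toD X (DerSch.unitCx X))
    have h0 : DerSch.IsPseudoCoherentRel ((f ⁻¹ᵁ V x).ι ≫ f) (m - d) _ :=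
      RelPCSchLib.rel_of_iso _ (r.symm ≪≫ u) (RelPCSchLib.rel_res (f ⁻¹ᵁ V x).ι f (hf (m - d)))
    rw [← morphismRestrict_ι] at h0
    exact (RelPCSchLib.rel_comp_iff (f ∣_ V x) (V x).ι (RelPCSchLib.phBase_of_flat (V x).ι) _ _).1 h0
  have main := TensorPCLib.rel_ten_comp (f ∣_ V x) ((V x).ι ≫ g) (m - d) 0 m d _ hfV
    ((PerfLib.resD (V x).ι).obj E) hEV
  rw [← Category.assoc, morphismRestrict_ι, Category.assoc] at main
  obtain ⟨t⟩ := Dual3Lib.ten_unit ((DCoh.Lpull (f ∣_ V x)).obj ((PerfLib.resD (V x).ι).obj E))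
  obtain ⟨e₁⟩ := PerfBaseLib.nonempty_lpull_restrictD (U := ((f ⁻¹ᵁ V x : X.Opens) : Scheme.{u}))
    (f ⁻¹ᵁ V x) ((DCoh.Lpull f).obj E)
  obtain ⟨e₂⟩ := PerfBaseLib.nonempty_lpull_restrictD (U := ((V x : Y.Opens) : Scheme.{u})) (V x) E
  obtain ⟨c₁⟩ := KFlatLib.lpull_comp (f ⁻¹ᵁ V x).ι f
  obtain ⟨c₂⟩ := KFlatLib.lpull_comp (f ∣_ V x) (V x).ι
  obtain ⟨c₃⟩ := TensorPCLib.nonempty_lpull_eq (E := E) (morphismRestrict_ι f (V x))
  exact RelPCSchLib.rel_mono (by omega) (RelPCSchLib.rel_of_iso _ (t ≪≫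
    (DCoh.Lpull (f ∣_ V x)).mapIso e₂.symm ≪≫ c₂.app E ≪≫ c₃ ≪≫ (c₁.app E).symm ≪≫ e₁) main)

end Groth.Agent.S12089
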