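import Groth.Statements.S1209
import Mathlib
import Groth.Agent.S1208
-- import your own Groth.Agent.* helpers here

set_option autoImplicit false
universe u
open FlatMor

namespace Groth.Agent.S1209

/-- Let R → S be a ring map of finite type and q a prime of S such that the local ring S_q is flat over
R. Then S_q is essentially of finite presentation over R. (The published statement concludes that
S_q is essentially of finite presentation over R_p, where p is the prime of R below q; the two are
equivalent, since R_p is itself a localization of R.) -/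
theorem result {R S : Type u} [CommRing R] [CommRing S] [Algebra R S] [Algebra.FiniteType R S]
    (q : Ideal S) [q.IsPrime] [Module.Flat R (Localization.AtPrime q)] :
    FlatCA.EssFinitePresentation R (Localization.AtPrime q) := by
  classical
  obtain ⟨d, π, hπ⟩ := Algebra.FiniteType.iff_quotient_mvPolynomial''.1 (inferInstance : Algebra.FiniteType R S)
  let P := MvPolynomial (Fin d) R
  letI : Algebra P S := π.toRingHom.toAlgebra
  haveI : IsScalarTower R P S := IsScalarTower.of_algebraMap_eq fun x => (π.commutes x).symm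
  let q' : Ideal P := q.comap (algebraMap P S)
  haveI : Module.Finite P S := Module.Finite.of_surjective (Algebra.linearMap P S) hπ
  haveI : IsLocalizedModule q'.primeCompl (IsScalarTower.toAlgHom P S (Localization.AtPrime q)).toLinearMap :=
    { map_units := fun x => by
        rw [Module.End.isUnit_iff]
        have hu : IsUnit (algebraMap P (Localization.AtPrime q) x) := by
          rw [IsScalarTower.algebraMap_apply P S (Localization.AtPrime q)]
          exact IsLocalization.map_units _ (⟨algebraMap P S x, x.2⟩ : q.primeCompl)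
        rw [show ⇑(algebraMap P (Module.End P (Localization.AtPrime q)) (x : P)) =
          fun y => algebraMap P (Localization.AtPrime q) x * y from funext fun y => by
            show (x : P) • y = _
            exact Algebra.smul_def _ _]
        exact ⟨fun a b h => hu.mul_left_cancel h, fun z => ⟨↑hu.unit⁻¹ * z, by show _ * (_ * z) = z; rw [← mul_assoc, IsUnit.mul_val_inv, one_mul]⟩⟩
      surj := fun y => by
        obtain ⟨⟨s, t⟩, hst⟩ := IsLocalization.surj q.primeCompl y
        obtain ⟨t', ht'⟩ := hπ (t : S)
        refine ⟨(s, ⟨t', fun h => t.2 (show (t : S) ∈ q from ht' ▸ h)⟩), ?_⟩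
        rw [Submonoid.smul_def, Algebra.smul_def]
        show algebraMap P (Localization.AtPrime q) t' * y = algebraMap S (Localization.AtPrime q) s
        rw [IsScalarTower.algebraMap_apply P S (Localization.AtPrime q), ← hst, mul_comm]
        exact congrArg (fun w => y * algebraMap S (Localization.AtPrime q) w) ht'
      exists_of_eq := fun {x y} h => by
        obtain ⟨t, ht⟩ := (IsLocalization.eq_iff_exists q.primeCompl (Localization.AtPrime q)).1 h
        obtain ⟨t', ht'⟩ := hπ (t : S)
        refine ⟨⟨t', fun h => t.2 (show (t : S) ∈ q from ht' ▸ h)⟩, ?_⟩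
        show π t' * x = π t' * y
        rw [ht']
        exact ht }
  have hflat : FlatCA.FlatAt R q' S :=
    Module.Flat.of_linearEquiv
      ((IsLocalizedModule.iso q'.primeCompl (IsScalarTower.toAlgHom P S (Localization.AtPrime q)).toLinearMap).restrictScalars R)
  have hfp := Groth.Agent.S1208.result (S := P) S q' hflat
  -- the kernel is finitely generated at `q'`
  let L := Localization.AtPrime q'
  let g : L →ₗ[L] LocalizedModule q'.primeCompl S := LinearMap.toSpanSingleton L _ (LocalizedModule.mk 1 1)
  have hgalg : ∀ x : P, g (algebraMap P L x) = LocalizedModule.mk (algebraMap P S x) 1 := fun x => by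
    show algebraMap P L x • LocalizedModule.mk (1 : S) (1 : q'.primeCompl) = _
    rw [algebraMap_smul, LocalizedModule.smul'_mk]
    exact congrArg (LocalizedModule.mk · 1) (by rw [Algebra.smul_def, mul_one])
  have hgs : Function.Surjective g := fun y => by
    induction y using LocalizedModule.induction_on with
    | h s t =>
      obtain ⟨p, rfl⟩ := hπ s
      refine ⟨IsLocalization.mk' L p t, ?_⟩
      refine (Module.End.isUnit_iff _).1 (IsLocalizedModule.map_units (LocalizedModule.mkLinearMap q'.primeCompl S) t) |>.1 ?_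
      show (t : P) • g _ = (t : P) • LocalizedModule.mk (π p) t
      rw [← LinearMap.map_smul_of_tower, Algebra.smul_def, IsLocalization.mk'_spec'_mk, hgalg, LocalizedModule.smul'_mk,
        ← Submonoid.smul_def, LocalizedModule.mk_cancel]
      rfl
  obtain ⟨G, hG⟩ := Module.FinitePresentation.fg_ker g hgs
  choose c hc using fun x : L => IsLocalization.surj q'.primeCompl x
  have hkerc : ∀ x ∈ G, ∃ t : P, t ∉ q' ∧ π (t * (c x).1) = 0 := fun x hx => by
    have h1 : g (algebraMap P L (c x).1) = 0 := by
      rw [← hc, mul_comm, ← Algebra.smul_def, LinearMap.map_smul_of_tower,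
        show g x = 0 from (hG ▸ Submodule.subset_span hx : x ∈ LinearMap.ker g), smul_zero]
    rw [hgalg, ← LocalizedModule.mkLinearMap_apply,
      IsLocalizedModule.eq_zero_iff q'.primeCompl (LocalizedModule.mkLinearMap q'.primeCompl S)] at h1
    obtain ⟨t, ht⟩ := h1
    exact ⟨t, t.2, by rw [map_mul]; exact ht⟩
  choose t ht htc using hkerc
  let I₀ : Ideal P := Ideal.span (Set.range fun x : G => t x.1 x.2 * (c x.1).1)
  have hI₀ : I₀ ≤ RingHom.ker π.toRingHom := Ideal.span_le.2 fun z ⟨x, hx⟩ => hx ▸ htc x.1 x.2
  let S₀ := P ⧸ I₀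
  letI : Algebra S₀ S := (Ideal.Quotient.lift I₀ π.toRingHom fun x hx => hI₀ hx).toAlgebra
  haveI : IsScalarTower R S₀ S :=
    IsScalarTower.of_algebraMap_eq (R := R) (S := S₀) (A := S) fun x => (π.commutes x).symm
  let q₀ : Ideal S₀ := q.comap (algebraMap S₀ S)
  refine ⟨S₀, inferInstance, inferInstance, inferInstance, inferInstance, q₀.primeCompl,
    Algebra.FinitePresentation.quotient ⟨Finset.univ.image (fun x : G => t x.1 x.2 * (c x.1).1), by simp [I₀]⟩, ?_⟩
  refine ⟨fun y => IsLocalization.map_units (Localization.AtPrime q) (⟨algebraMap S₀ S y, y.2⟩ : q.primeCompl), fun z => ?_,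
    fun {x y} h => ?_⟩
  · obtain ⟨⟨s, u⟩, hsu⟩ := IsLocalization.surj q.primeCompl z
    obtain ⟨s', rfl⟩ := hπ s
    obtain ⟨u', hu'⟩ := hπ (u : S)
    refine ⟨(Ideal.Quotient.mk I₀ s', ⟨Ideal.Quotient.mk I₀ u', fun h => u.2 (show (u : S) ∈ q from hu' ▸ h)⟩), ?_⟩
    show z * algebraMap S (Localization.AtPrime q) (π u') = algebraMap S (Localization.AtPrime q) (π s')
    rw [hu']
    exact hsu
  · obtain ⟨x, rfl⟩ := Ideal.Quotient.mk_surjective x
    obtain ⟨y, rfl⟩ := Ideal.Quotient.mk_surjective y
    obtain ⟨u, hu⟩ := (IsLocalization.eq_iff_exists q.primeCompl (Localization.AtPrime q)).1 h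
    obtain ⟨u', hu'⟩ := hπ (u : S)
    have h1 : π (u' * (x - y)) = 0 := by
      rw [map_mul, map_sub, hu', mul_sub, sub_eq_zero]
      exact hu
    have h2 : algebraMap P L (u' * (x - y)) ∈ LinearMap.ker g := by
      rw [LinearMap.mem_ker, hgalg, show algebraMap P S (u' * (x - y)) = 0 from h1, LocalizedModule.zero_mk]
    rw [← hG] at h2
    have h3 : algebraMap P L (u' * (x - y)) ∈ I₀.map (algebraMap P L) := by
      refine Submodule.span_le (p := I₀.map (algebraMap P L)).2 (fun z hz => ?_) h2
      have h4 : algebraMap P L (t z hz * (c z).1) ∈ I₀.map (algebraMap P L) :=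
        Ideal.mem_map_of_mem _ (Ideal.subset_span ⟨⟨z, hz⟩, rfl⟩)
      rw [map_mul] at h4
      have hu1 : IsUnit (algebraMap P L (t z hz)) := IsLocalization.map_units L (⟨t z hz, ht z hz⟩ : q'.primeCompl)
      have h5 := (Ideal.unit_mul_mem_iff_mem _ hu1).1 h4
      rw [← hc] at h5
      exact (Ideal.mul_unit_mem_iff_mem _ (IsLocalization.map_units L (c z).2)).1 h5
    obtain ⟨⟨i, w⟩, hw⟩ := (IsLocalization.mem_map_algebraMap_iff q'.primeCompl L).1 h3
    rw [← map_mul, IsLocalization.eq_iff_exists q'.primeCompl] at hw
    obtain ⟨e, he⟩ := hw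
    refine ⟨⟨Ideal.Quotient.mk I₀ ((e : P) * u' * w), fun hm => ?_⟩, ?_⟩
    · have h6 : π ((e : P) * u' * w) ∈ q := hm
      rw [map_mul, map_mul] at h6
      rcases (Ideal.IsPrime.mem_or_mem ‹q.IsPrime› h6) with h7 | h7
      · rcases (Ideal.IsPrime.mem_or_mem ‹q.IsPrime› h7) with h8 | h8
        · exact e.2 h8
        · exact u.2 (show (u : S) ∈ q from hu' ▸ h8)
      · exact w.2 h7
    · show Ideal.Quotient.mk I₀ _ * Ideal.Quotient.mk I₀ x = Ideal.Quotient.mk I₀ _ * Ideal.Quotient.mk I₀ y
      rw [← map_mul, ← map_mul, Ideal.Quotient.eq, ← mul_sub,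
        show (e : P) * u' * w * (x - y) = (e : P) * (u' * (x - y) * w) by ring, he]
      exact Ideal.mul_mem_left _ _ i.2

end Groth.Agent.S1209
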