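import Groth.Statements.S12090
import Groth.Agent.TensorPCLib.Main
import Groth.Agent.BaseAmpLib.PC
import Groth.Agent.RelPCSchLib.BaseChange

set_option autoImplicit false
set_option backward.isDefEq.respectTransparency false
set_option backward.isDefEq.respectTransparency.types false
set_option maxHeartbeats 1600000
set_option synthInstance.maxHeartbeats 400000
universe u
open CategoryTheory CategoryTheory.Limits AlgebraicGeometry
attribute [local instance] HasDerivedCategory.standard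
open FlatMor

namespace Groth.Agent.S12090

section Helpers

open TensorProduct
open Groth.Agent.PerfLib (resD isPC_of_iso)
open Groth.Agent.ImmPCLib (pushD lim_push colim_push)
open Groth.Agent.RelPCSchLib (imm isClosedImmersion_imm)

attribute [local instance] lim_push colim_push

/-- The chart of a base change is the base change of the chart. -/
theorem exists_pres_isPullback {R R' Q Q' : Type u} [CommRing R] [CommRing R'] [CommRing Q] [CommRing Q']
    [Algebra R R'] [Algebra R Q] [Algebra R Q'] [Algebra R' Q'] [Algebra Q Q'] [IsScalarTower R Q Q']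
    [IsScalarTower R R' Q'] [Algebra.IsPushout R Q R' Q'] [Module.Flat R R'] {n : ℕ}
    (φ : MvPolynomial (Fin n) R →ₐ[R] Q) (hφ : Function.Surjective φ) :
    ∃ φ' : MvPolynomial (Fin n) R' →ₐ[R'] Q', Function.Surjective φ' ∧
      (MvPolynomial.map (algebraMap R R') : MvPolynomial (Fin n) R →+* MvPolynomial (Fin n) R').Flat ∧
      IsPullback (Spec.map (CommRingCat.ofHom (algebraMap Q Q'))) (Spec.map (CommRingCat.ofHom φ'.toRingHom))
        (Spec.map (CommRingCat.ofHom φ.toRingHom))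
        (Spec.map (CommRingCat.ofHom (MvPolynomial.map (algebraMap R R') :
          MvPolynomial (Fin n) R →+* MvPolynomial (Fin n) R'))) := by
  let φ' : MvPolynomial (Fin n) R' →ₐ[R'] Q' :=
    MvPolynomial.aeval fun i => algebraMap Q Q' (φ (MvPolynomial.X i))
  letI : Algebra (MvPolynomial (Fin n) R) Q := φ.toRingHom.toAlgebra
  letI : Algebra (MvPolynomial (Fin n) R') Q' := φ'.toRingHom.toAlgebra
  letI : Algebra (MvPolynomial (Fin n) R) (MvPolynomial (Fin n) R') := MvPolynomial.algebraMvPolynomial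
  letI : Algebra (MvPolynomial (Fin n) R) Q' :=
    (φ'.toRingHom.comp (MvPolynomial.map (algebraMap R R'))).toAlgebra
  haveI : IsScalarTower R (MvPolynomial (Fin n) R) Q :=
    IsScalarTower.of_algebraMap_eq fun r => (φ.commutes r).symm
  haveI : IsScalarTower R' (MvPolynomial (Fin n) R') Q' :=
    IsScalarTower.of_algebraMap_eq fun r => (φ'.commutes r).symm
  haveI : IsScalarTower (MvPolynomial (Fin n) R) (MvPolynomial (Fin n) R') Q' :=
    IsScalarTower.of_algebraMap_eq fun _ => rfl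
  haveI : IsScalarTower (MvPolynomial (Fin n) R) Q Q' := by
    refine IsScalarTower.of_algebraMap_eq' (MvPolynomial.ringHom_ext (fun r => ?_) fun i => ?_)
    · change φ' (MvPolynomial.map (algebraMap R R') (MvPolynomial.C r)) =
        algebraMap Q Q' (φ (MvPolynomial.C r))
      rw [MvPolynomial.map_C, ← MvPolynomial.algebraMap_eq, ← MvPolynomial.algebraMap_eq, φ'.commutes,
        φ.commutes, ← IsScalarTower.algebraMap_apply, ← IsScalarTower.algebraMap_apply]
    · change φ' (MvPolynomial.map (algebraMap R R') (MvPolynomial.X i)) =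
        algebraMap Q Q' (φ (MvPolynomial.X i))
      rw [MvPolynomial.map_X]
      exact MvPolynomial.aeval_X _ _
  haveI : IsScalarTower R (MvPolynomial (Fin n) R') Q' := IsScalarTower.of_algebraMap_eq fun r => by
    rw [IsScalarTower.algebraMap_apply R R' (MvPolynomial (Fin n) R'), ← IsScalarTower.algebraMap_apply R' _ Q',
      ← IsScalarTower.algebraMap_apply R R' Q']
  have hpo : Algebra.IsPushout (MvPolynomial (Fin n) R) Q (MvPolynomial (Fin n) R') Q' :=
    (Algebra.IsPushout.comp_iff (R := R) (S := MvPolynomial (Fin n) R) (R' := R')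
      (S' := MvPolynomial (Fin n) R') (T := Q) (T' := Q')).1 inferInstance
  haveI hfl : Module.Flat (MvPolynomial (Fin n) R) (MvPolynomial (Fin n) R') :=
    Module.Flat.isBaseChange R (MvPolynomial (Fin n) R) R' (MvPolynomial (Fin n) R')
      (inferInstance : Algebra.IsPushout R (MvPolynomial (Fin n) R) R' (MvPolynomial (Fin n) R')).out
  refine ⟨φ', ?_, hfl, isPullback_SpecMap_of_isPushout _ _ _ _
    (CommRingCat.isPushout_iff_isPushout.mpr hpo)⟩
  intro y
  induction y using hpo.out.inductionOn with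
  | zero => exact ⟨0, map_zero _⟩
  | tmul x =>
    exact ⟨x, rfl⟩
  | smul q x hx =>
    obtain ⟨p, rfl⟩ := hx
    obtain ⟨q, rfl⟩ := hφ q
    refine ⟨MvPolynomial.map (algebraMap R R') q * p, ?_⟩
    rw [map_mul, Algebra.smul_def]
    congr 1
    exact IsScalarTower.algebraMap_apply (MvPolynomial (Fin n) R) Q Q' q
  | add x y hx hy =>
    obtain ⟨p, rfl⟩ := hx
    obtain ⟨q, rfl⟩ := hy
    exact ⟨p + q, map_add _ _ _⟩

theorem rel_lpull_baseChange' {X Y X' Y' : Scheme.{u}} (f : X ⟶ Y) [LocallyOfFiniteType f]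
    (f' : X' ⟶ Y') [LocallyOfFiniteType f'] (g' : X' ⟶ X) (g : Y' ⟶ Y) [Flat g] [Flat g']
    (hc : IsPullback g' f' f g) [DCoh.HasLpull g'] (k : ℤ)
    {E : DCoh.D X} (hE : DerSch.IsPseudoCoherentRel f k E) :
    DerSch.IsPseudoCoherentRel f' k ((DCoh.Lpull g').obj E) := by
  haveI := fun {A B : Scheme.{u}} (k : A ⟶ B) => KFlatLib.hasLpull k
  refine RelPCSchLib.rel_of_pairs f' {T' | ∃ T : Y.affineOpens, (T' : Y'.Opens) ≤ g ⁻¹ᵁ (T : Y.Opens)} ?_ ?_
  · intro t
    obtain ⟨T, hT, hxT, -⟩ := exists_isAffineOpen_mem_and_subset (x := g t) (U := ⊤) trivial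
    obtain ⟨T', hT', hxT', eT⟩ := exists_isAffineOpen_mem_and_subset (x := t) (U := g ⁻¹ᵁ T) hxT
    exact ⟨⟨T', hT'⟩, ⟨⟨T, hT⟩, eT⟩, hxT'⟩
  rintro ⟨T', hT'⟩ ⟨⟨T, hT⟩, eT'⟩ x' hx'
  have hsT : f (g' x') ∈ T := by
    rw [← Scheme.Hom.comp_apply, hc.w]
    exact eT' hx'
  obtain ⟨U, hU, hxU, hUT⟩ := exists_isAffineOpen_mem_and_subset (x := g' x') (U := f ⁻¹ᵁ T) hsT
  have hUT' : U ≤ f ⁻¹ᵁ T := hUT
  obtain ⟨hU', hp⟩ := LCILocusLib.pullback_chart hc hT hT' eT' hU hUT'
  let U' := g' ⁻¹ᵁ U ⊓ f' ⁻¹ᵁ T'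
  refine ⟨U', hU', inf_le_right, ⟨hxU, hx'⟩, ?_⟩
  obtain ⟨r, χ, hχ⟩ := RelPCSchLib.exists_isChart f hU hT hUT'
  letI : Algebra Γ(Y, T) Γ(Y', T') := (g.appLE T T' eT').hom.toAlgebra
  letI : Algebra Γ(Y, T) Γ(X, U) := (f.appLE T U hUT').hom.toAlgebra
  letI : Algebra Γ(Y', T') Γ(X', U') := (f'.appLE T' U' inf_le_right).hom.toAlgebra
  letI : Algebra Γ(X, U) Γ(X', U') := (g'.appLE U U' inf_le_left).hom.toAlgebra
  letI : Algebra Γ(Y, T) Γ(X', U') := (f.appLE T U hUT' ≫ g'.appLE U U' inf_le_left).hom.toAlgebra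
  haveI : IsScalarTower Γ(Y, T) Γ(X, U) Γ(X', U') := IsScalarTower.of_algebraMap_eq fun _ => rfl
  haveI : IsScalarTower Γ(Y, T) Γ(Y', T') Γ(X', U') :=
    IsScalarTower.of_algebraMap_eq' (congrArg CommRingCat.Hom.hom hp.w)
  haveI : Algebra.IsPushout Γ(Y, T) Γ(X, U) Γ(Y', T') Γ(X', U') :=
    CommRingCat.isPushout_iff_isPushout.mp hp
  haveI : Module.Flat Γ(Y, T) Γ(Y', T') := g.flat_appLE hT hT' eT'
  obtain ⟨φ', hφ', hflat, hsq⟩ := exists_pres_isPullback (R := Γ(Y, T)) (R' := Γ(Y', T'))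
    (Q := Γ(X, U)) (Q' := Γ(X', U'))
    ({ χ with commutes' := fun x => RingHom.congr_fun hχ.2 x } :
      MvPolynomial (Fin r) Γ(Y, T) →ₐ[Γ(Y, T)] Γ(X, U)) hχ.1
  refine RelPCSchLib.rpc_of_cpc f' hU' φ'.toRingHom hφ' φ'.comp_algebraMap fun hi => ?_
  haveI : IsIso U.toSpecΓ := hU.isoSpec_hom ▸ inferInstance
  haveI : IsIso U'.toSpecΓ := hU'.isoSpec_hom ▸ inferInstance
  let q := Spec.map (CommRingCat.ofHom (MvPolynomial.map (algebraMap Γ(Y, T) Γ(Y', T')) :
    MvPolynomial (Fin r) Γ(Y, T) →+* MvPolynomial (Fin r) Γ(Y', T')))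
  haveI : Flat q := (HasRingHomProperty.Spec_iff (P := @Flat)).2 hflat
  let p : (U' : Scheme.{u}) ⟶ U := g'.resLE U U' inf_le_left
  haveI : Flat p := inferInstanceAs (Flat (g'.resLE U U' inf_le_left))
  haveI : IsClosedImmersion (imm U χ) := isClosedImmersion_imm hU hχ.1
  have H : IsPullback p (imm U' φ'.toRingHom) (imm U χ) q := by
    refine hsq.of_iso (asIso U'.toSpecΓ).symm (asIso U.toSpecΓ).symm (Iso.refl _) (Iso.refl _) ?_ ?_ ?_ ?_
    · show Spec.map (g'.appLE U U' inf_le_left) ≫ inv U.toSpecΓ = inv U'.toSpecΓ ≫ p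
      rw [IsIso.comp_inv_eq, Category.assoc, IsIso.eq_inv_comp]
      exact Scheme.Opens.toSpecΓ_SpecMap_appLE g' U U' inf_le_left
    · simp [imm]
    · simp [imm]
    · simp [q]
  obtain ⟨e⟩ := TensorPCLib.nonempty_lpull_pushD H ((resD U.ι).obj E)
  obtain ⟨e₁⟩ := PerfBaseLib.nonempty_lpull_restrictD (U := (U' : Scheme.{u})) U' ((DCoh.Lpull g').obj E)
  obtain ⟨e₂⟩ := PerfBaseLib.nonempty_lpull_restrictD (U := (U : Scheme.{u})) U E
  obtain ⟨c₁⟩ := KFlatLib.lpull_comp U'.ι g'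
  obtain ⟨c₂⟩ := KFlatLib.lpull_comp p U.ι
  obtain ⟨c₃⟩ := TensorPCLib.nonempty_lpull_eq (E := E) (Scheme.Hom.resLE_comp_ι g' inf_le_left :
    p ≫ U.ι = U'.ι ≫ g')
  exact isPC_of_iso ((pushD (imm U' φ'.toRingHom)).mapIso
      ((DCoh.Lpull p).mapIso e₂.symm ≪≫ c₂.app E ≪≫ c₃ ≪≫ (c₁.app E).symm ≪≫ e₁))
    (isPC_of_iso e (KFlatLib.isPseudoCoherent_lpull q k _
      (RelPCSchLib.isPC_of_rel f hE hU hT hUT' χ hχ)))

end Helpers

/-- For a flat base change: let `f : X ⟶ S` be locally of finite type, `h : S' ⟶ S` flat, `X' = X ×_S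
S'` with projections `g : X' ⟶ X` and `f' : X' ⟶ S'`, `m` an integer and `E` in `D(O_X)` that is
`m`-pseudo-coherent relative to `f` (cover-and-chart form). Then, `Lg^*` being assumed to exist,
`Lg^* E` is `m`-pseudo-coherent relative to `f'`. (The published statement asks only that `X` and
`S'` be tor independent over `S`; flatness of `h` implies it. No boundedness of `E` is assumed.) -/
theorem result {X S S' : Scheme.{u}} (f : X ⟶ S) [LocallyOfFiniteType f]
    (h : S' ⟶ S) [Flat h] [DCoh.HasLpull (pullback.fst f h)] (m : ℤ) (E : DCoh.D X)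
    (hE : DerSch.IsPseudoCoherentRel f m E) :
    DerSch.IsPseudoCoherentRel (pullback.snd f h) m ((DCoh.Lpull (pullback.fst f h)).obj E) := by
  exact rel_lpull_baseChange' f (pullback.snd f h) (pullback.fst f h) h (IsPullback.of_hasPullback f h) m hE

end Groth.Agent.S12090
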