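import Groth.Statements.S12091
import Mathlib

set_option autoImplicit false
universe u
open TensorProduct MvPolynomial
open FlatMor

namespace Groth.Agent.S12091

theorem smul_mk {R S : Type*} [CommRing R] [CommRing S] [Algebra R S] (E : Algebra.Extension R S)
    (q : E.Ring) (y : E.ker) :
    algebraMap E.Ring S q • Algebra.Extension.Cotangent.mk y =
      Algebra.Extension.Cotangent.mk (⟨q * y, Ideal.mul_mem_left _ q y.2⟩ : E.ker) := by
  rw [algebraMap_smul, ← map_smul]; rfl

/-- Let `x_1, …, x_m` generate the `A`-module `M`, let `K ⊆ A^m` be the module of relations, `C =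
Sym_A(M)` and `α : A[y_1, …, y_m] → C` the presentation with `y_j ↦ x_j`, with kernel `J`. Then the
`C`-linear map `C ⊗_A K → J/J²` sending `1 ⊗ k` to the class of `Σ_j k_j y_j` is surjective, and it
is bijective when `M` is a projective `A`-module (so that then `J/J² ≅ K ⊗_A C` and the naive
cotangent complex of `α` is `K ⊗_A C → ⊕_j C dy_j`). (The published statement asserts `J/J² ≅ K ⊗_A
C` for every `M`. For `A = ℤ`, `M = (ℤ/2)²`, `m = 2` and the two unit vectors, `K = 2ℤ²` and the
element `y_2 ⊗ (2, 0) - y_1 ⊗ (0, 2)` of `C ⊗_A K` is non-zero but maps to the class of `y_2 · 2y_1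
- y_1 · 2y_2 = 0`; in degree `2` the graded piece of `J/J²` has `8` elements and that of `K ⊗_A C`
has `16`. The published degree-by-degree computation does show that `J` is generated by the linear
forms coming from `K`, which is the surjectivity, and it is valid as written when `0 → K → A^m → M →
0` splits, which is the projective case.) -/
theorem result (A : Type u) [CommRing A] (M : Type u)
    [AddCommGroup M] [Module A M] (m : ℕ) (x : Fin m → M)
    (hx : Function.Surjective (Fintype.linearCombination A x))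
    (G : Algebra.Generators A (SymmetricAlgebra A M) (Fin m))
    (hG : ∀ j, G.val j = SymmetricAlgebra.ι A M (x j)) :
    ∃ e : SymmetricAlgebra A M ⊗[A] (LinearMap.ker (Fintype.linearCombination A x)) →ₗ[SymmetricAlgebra A M]
        G.toExtension.Cotangent,
      (∀ (k : LinearMap.ker (Fintype.linearCombination A x))
        (hk : (∑ j, C ((k : Fin m → A) j) * X j : MvPolynomial (Fin m) A) ∈ G.toExtension.ker),
        e (1 ⊗ₜ k) = Algebra.Extension.Cotangent.mk ⟨_, hk⟩) ∧
      Function.Surjective e ∧ (Module.Projective A M → Function.Bijective e) := by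
  classical
  set lc : (Fin m → A) →ₗ[A] M := Fintype.linearCombination A x with hlc
  let P := MvPolynomial (Fin m) A
  let L : (Fin m → A) →ₗ[A] P := Fintype.linearCombination A (fun j => MvPolynomial.X j)
  have hL : ∀ k : Fin m → A, L k = ∑ j, C (k j) * X j := fun k => by
    show (Fintype.linearCombination A (fun j => (MvPolynomial.X j : MvPolynomial (Fin m) A))) k = _
    rw [Fintype.linearCombination_apply]
    exact Finset.sum_congr rfl fun j _ => MvPolynomial.smul_eq_C_mul _ _
  have hφL : ∀ k : Fin m → A, aeval G.val (L k) = SymmetricAlgebra.ι A M (lc k) := fun k => by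
    rw [hL, map_sum, hlc, Fintype.linearCombination_apply, map_sum]
    refine Finset.sum_congr rfl fun j _ => ?_
    rw [map_mul, aeval_C, aeval_X, hG, map_smul, Algebra.smul_def]
  have hker : ∀ p : P, p ∈ G.toExtension.ker ↔ aeval G.val p = 0 := fun p => by
    rw [show G.toExtension.ker = RingHom.ker (aeval G.val) from G.ker_eq_ker_aeval_val]
    exact RingHom.mem_ker
  have hmemK : ∀ k : LinearMap.ker lc, L k ∈ G.toExtension.ker := fun k => by
    rw [hker, hφL, LinearMap.mem_ker.mp k.2, map_zero]
  let J : Ideal P := Ideal.span (L '' (LinearMap.ker lc : Set (Fin m → A)))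
  have hJ : ∀ p : P, p ∈ G.toExtension.ker → p ∈ J := by
    intro p hp
    let F : (Fin m → A) →ₗ[A] P ⧸ J := (Ideal.Quotient.mkₐ A J).toLinearMap.comp L
    have hF : LinearMap.ker lc ≤ LinearMap.ker F := fun k hk =>
      Ideal.Quotient.eq_zero_iff_mem.mpr (Ideal.subset_span ⟨k, hk, rfl⟩)
    let f : M →ₗ[A] P ⧸ J :=
      ((LinearMap.ker lc).liftQ F hF).comp (lc.quotKerEquivOfSurjective hx).symm.toLinearMap
    have hf : ∀ k, f (lc k) = F k := fun k => by
      have e : (lc.quotKerEquivOfSurjective hx).symm (lc k) = Submodule.Quotient.mk k := by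
        rw [LinearEquiv.symm_apply_eq]; rfl
      show (LinearMap.ker lc).liftQ F hF ((lc.quotKerEquivOfSurjective hx).symm (lc k)) = _
      rw [e]; rfl
    have hψ : (SymmetricAlgebra.lift f).comp (aeval G.val) = Ideal.Quotient.mkₐ A J := by
      refine MvPolynomial.algHom_ext fun j => ?_
      rw [AlgHom.comp_apply, aeval_X, hG, SymmetricAlgebra.lift_ι_apply,
        show x j = lc (Pi.single j 1) by simp [hlc, Fintype.linearCombination_apply_single], hf]
      simp [F, L, Fintype.linearCombination_apply_single]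
    have h0 := DFunLike.congr_fun hψ p
    rw [AlgHom.comp_apply, (hker p).mp hp, map_zero] at h0
    exact Ideal.Quotient.eq_zero_iff_mem.mp h0.symm
  -- the map
  let mkA : LinearMap.ker lc →ₗ[A] G.toExtension.Cotangent :=
    { toFun := fun k => Algebra.Extension.Cotangent.mk ⟨L k, hmemK k⟩
      map_add' := fun k k' => by
        rw [← map_add]
        exact congrArg _ (Subtype.ext (map_add L _ _))
      map_smul' := fun a k => by
        rw [RingHom.id_apply, ← LinearMap.map_smul_of_tower]
        exact congrArg _ (Subtype.ext (map_smul L a _)) }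
  let e : SymmetricAlgebra A M ⊗[A] LinearMap.ker lc →ₗ[SymmetricAlgebra A M] G.toExtension.Cotangent :=
    mkA.liftBaseChange (SymmetricAlgebra A M)
  have he : ∀ (q : P) (k : LinearMap.ker lc), e (aeval G.val q ⊗ₜ k) =
      Algebra.Extension.Cotangent.mk ⟨q * L k, Ideal.mul_mem_left _ q (hmemK k)⟩ := by
    intro q k
    rw [LinearMap.liftBaseChange_tmul,
      show aeval G.val q = algebraMap G.toExtension.Ring (SymmetricAlgebra A M) q from
        (G.algebraMap_apply q).symm]
    exact smul_mk G.toExtension q ⟨L k, hmemK k⟩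
  have hsurjφ : Function.Surjective (aeval (R := A) G.val) := fun c => ⟨G.σ c, G.aeval_val_σ c⟩
  refine ⟨e, fun k hk => ?_, ?surj, fun hproj => ⟨?inj, ?surj⟩⟩
  · rw [LinearMap.liftBaseChange_tmul, one_smul]
    exact congrArg Algebra.Extension.Cotangent.mk (Subtype.ext (hL k) : (⟨L k, hmemK k⟩ : G.toExtension.ker) = ⟨_, hk⟩)
  case surj =>
    intro z
    obtain ⟨⟨p, hp⟩, rfl⟩ := Algebra.Extension.Cotangent.mk_surjective z
    have hp' := hJ p hp
    suffices ∀ p ∈ J, ∀ hp : p ∈ G.toExtension.ker, ∃ w, e w = Algebra.Extension.Cotangent.mk ⟨p, hp⟩ from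
      this p hp' hp
    intro p hpJ
    induction hpJ using Submodule.span_induction with
    | mem y hy =>
      obtain ⟨k, hk, rfl⟩ := hy
      intro _
      refine ⟨1 ⊗ₜ ⟨k, hk⟩, ?_⟩
      rw [LinearMap.liftBaseChange_tmul, one_smul]; rfl
    | zero => exact fun _ => ⟨0, by rw [map_zero]; exact (map_zero _).symm⟩
    | add y y' hy hy' h h' =>
      intro _
      have hyk : ∀ y ∈ J, y ∈ G.toExtension.ker := fun y hy =>
        (Ideal.span_le.mpr (by rintro _ ⟨k, hk, rfl⟩; exact hmemK ⟨k, hk⟩)) hy
      obtain ⟨w, hw⟩ := h (hyk y hy)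
      obtain ⟨w', hw'⟩ := h' (hyk y' hy')
      refine ⟨w + w', ?_⟩
      rw [map_add, hw, hw', ← map_add]; rfl
    | smul q y hy h =>
      intro _
      have hyk : y ∈ G.toExtension.ker :=
        (Ideal.span_le.mpr (by rintro _ ⟨k, hk, rfl⟩; exact hmemK ⟨k, hk⟩)) hy
      obtain ⟨w, hw⟩ := h hyk
      refine ⟨algebraMap G.toExtension.Ring (SymmetricAlgebra A M) q • w, ?_⟩
      rw [map_smul, hw]
      exact smul_mk G.toExtension q ⟨y, hyk⟩
  case inj =>
    obtain ⟨s, hs⟩ := LinearMap.exists_rightInverse_of_surjective lc (LinearMap.range_eq_top.mpr hx)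
    let π : (Fin m → A) →ₗ[A] LinearMap.ker lc := (LinearMap.id - s.comp lc).codRestrict _ fun v => by
      rw [LinearMap.mem_ker, LinearMap.sub_apply, LinearMap.id_apply, LinearMap.comp_apply, map_sub,
        ← LinearMap.comp_apply lc s, hs, LinearMap.id_apply, sub_self]
    letI : Module P (SymmetricAlgebra A M ⊗[A] LinearMap.ker lc) :=
      Module.compHom _ (aeval (R := A) G.val).toRingHom
    have hsm : ∀ (q : P) (z : SymmetricAlgebra A M ⊗[A] LinearMap.ker lc), q • z = aeval G.val q • z :=
      fun _ _ => rfl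
    haveI : IsScalarTower A P (SymmetricAlgebra A M ⊗[A] LinearMap.ker lc) :=
      IsScalarTower.of_algebraMap_smul fun a z => by
        rw [hsm, AlgHom.commutes, algebraMap_smul]
    let D : Derivation A P (SymmetricAlgebra A M ⊗[A] LinearMap.ker lc) :=
      MvPolynomial.mkDerivation A fun j => 1 ⊗ₜ π (Pi.single j 1)
    have hD : ∀ k : LinearMap.ker lc, D (L k) = 1 ⊗ₜ k := by
      intro k
      have hD1 : ∀ j, D (X j) = 1 ⊗ₜ π (Pi.single j 1) := fun j => MvPolynomial.mkDerivation_X A _ j
      have e1 : (D : P →ₗ[A] _).comp L = (TensorProduct.mk A (SymmetricAlgebra A M) _ 1).comp π := by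
        refine LinearMap.pi_ext' fun j => LinearMap.ext_ring ?_
        show D (L (Pi.single j 1)) = _
        rw [Fintype.linearCombination_apply_single, one_smul, hD1]
        rfl
      have := LinearMap.congr_fun e1 k
      rw [LinearMap.comp_apply, LinearMap.comp_apply, TensorProduct.mk_apply] at this
      refine this.trans (congrArg _ (Subtype.ext ?_))
      show (k : Fin m → A) - s (lc k) = k
      rw [LinearMap.mem_ker.mp k.2, map_zero, sub_zero]
    have hD2 : ∀ p : P, p ∈ (RingHom.ker (aeval (R := A) G.val)) ^ 2 → D p = 0 := by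
      intro p hp
      rw [pow_two] at hp
      refine Submodule.mul_induction_on hp (fun a ha b hb => ?_) (fun a b ha hb => ?_)
      · rw [D.leibniz, hsm, hsm, RingHom.mem_ker.mp ha, RingHom.mem_ker.mp hb, zero_smul, zero_smul, add_zero]
      · rw [D.map_add, ha, hb, add_zero]
    rw [injective_iff_map_eq_zero]
    intro z hz
    suffices ∃ (p : P) (hp : p ∈ G.toExtension.ker),
        e z = Algebra.Extension.Cotangent.mk ⟨p, hp⟩ ∧ D p = z by
      obtain ⟨p, hp, hy1, hy2⟩ := this
      rw [← hy2]
      refine hD2 p ?_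
      have h2 := (Algebra.Extension.Cotangent.mk_eq_zero_iff _).mp (hy1.symm.trans hz)
      rw [← G.ker_eq_ker_aeval_val]
      exact h2
    clear hz
    induction z with
    | zero => exact ⟨0, Ideal.zero_mem _, by rw [map_zero]; exact (map_zero _).symm, map_zero _⟩
    | tmul c k =>
      obtain ⟨q, rfl⟩ := hsurjφ c
      refine ⟨q * L k, Ideal.mul_mem_left _ q (hmemK k), he q k, ?_⟩
      rw [D.leibniz, hsm, hsm, hD, (hker _).mp (hmemK k), zero_smul, add_zero, TensorProduct.smul_tmul',
        smul_eq_mul, mul_one]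
    | add y y' h h' =>
      obtain ⟨a, ha, ha1, ha2⟩ := h
      obtain ⟨b, hb, hb1, hb2⟩ := h'
      refine ⟨a + b, Ideal.add_mem _ ha hb, ?_, by rw [D.map_add, ha2, hb2]⟩
      rw [map_add, ha1, hb1, ← map_add]
      rfl

end Groth.Agent.S12091
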