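import Groth.Statements.S12092
import Groth.Agent.TwoTermLib.LocAmp

set_option autoImplicit false
universe u
open CategoryTheory
attribute [local instance] HasDerivedCategory.standard
open DRing MonoidalCategory

namespace Groth.Agent.S12092

/-- (3) ⇒ (1): let `A → B` be a ring map and `K•` a complex of `B`-modules. Suppose that for every
maximal ideal `m ⊆ B`, with `p` its inverse image in `A`, the localization `K•_m`, viewed as a
complex of `A_p`-modules, has tor amplitude in `[a, b]`. Then `K•`, regarded over `A` by restriction
of scalars, has tor amplitude in `[a, b]`. (Tor amplitude in the frozen sense: isomorphic in the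
derived category to a complex of flat modules vanishing outside `[a, b]`.) -/
theorem result (A B : Type u) [CommRing A] [CommRing B]
    [Algebra A B] (K : DRing.Cx B) (a b : ℤ)
    (h3 : ∀ (m : Ideal B) [m.IsMaximal],
      DRing.HasTorAmplitudeIn (Localization.AtPrime (m.comap (algebraMap A B))) a b
        (DRing.toD ((DRing.restrictCx (Localization.localRingHom (m.comap (algebraMap A B)) m (algebraMap A B) rfl)).obj
          (((ModuleCat.extendScalars (algebraMap B (Localization.AtPrime m))).mapHomologicalComplex
            (ComplexShape.up ℤ)).obj K)))) :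
    DRing.HasTorAmplitudeIn A a b (DRing.toD ((DRing.restrictCx (algebraMap A B)).obj K)) := by
  refine (TwoTermLib.RelAmp.hasTorAmplitudeIn_res_iff (algebraMap A B) K a b).2 fun i hi N => ?_
  let Q := (projectiveResolution N).cochainComplex
  refine TwoTermLib.LocAmp.isZero_homology_of_maximal _ i fun m hm => ?_
  haveI := hm
  let p := m.comap (algebraMap A B)
  let φ := algebraMap A B
  let θ := algebraMap A (Localization.AtPrime p)
  let l := Localization.localRingHom p m φ rfl
  let ψ := algebraMap B (Localization.AtPrime m)
  have h₁ : ψ.comp φ = l.comp θ := RingHom.ext fun x =>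
    (Localization.localRingHom_to_map p m φ rfl x).symm
  obtain ⟨π', hπ'⟩ := TwoTermLib.LocAmp.exists_qis_extCx θ
    (RingHom.flat_algebraMap_iff.2 inferInstance) N (projectiveResolution N).π'
  have h := TwoTermLib.RelAmp.isZero_of_hasTorAmplitudeIn l ((DRingLib.extCx ψ).obj K) (h3 m) _
    (KFlatLib.isKFlat_extend θ (DRingLib.isKFlat_projectiveResolution (projectiveResolution N)))
    π' i hi
  let H := HomologicalComplex.homologyFunctor (ModuleCat.{u} (Localization.AtPrime m))
    (ComplexShape.up ℤ) i
  exact CategoryTheory.Limits.IsZero.of_iso h (H.mapIso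
    ((TwoTermLib.RelAmp.baseChangeIso φ ψ h₁.symm K Q).symm ≪≫
      tensorIso (Iso.refl _) (TwoTermLib.RelAmp.extCompIso θ l rfl Q).symm))

end Groth.Agent.S12092
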