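import Groth.Statements.S12093
import Groth.Agent.TwoTermLib.KFlatTrunc

set_option autoImplicit false
universe u
open CategoryTheory CategoryTheory.Limits MonoidalCategory
attribute [local instance] HasDerivedCategory.standard
open DRing

namespace Groth.Agent.S12093

/-- Let `K•` be a complex of `R`-modules (for which `− ⊗^L_R K•` is assumed to exist) and `a` an
integer. Then `K•` has tor amplitude in `[a, ∞)`, i.e. `H^i(M ⊗^L_R K•) = 0` for every `R`-module
`M` and every `i < a`, if and only if `K•` is quasi-isomorphic to a K-flat complex `E•` (tensoring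
with `E•` preserves acyclic complexes) with flat terms and `E^i = 0` for `i < a`. -/
theorem result (R : Type u) [CommRing R] (a : ℤ) (K : DRing.Cx R)
    [DRing.HasLTensorCx R K] :
    (∀ (M : ModuleCat.{u} R) (i : ℤ), i < a →
        Subsingleton (Dual.HD R ((DRing.LTensorCx R K).obj
          (DRing.toD ((CochainComplex.singleFunctor (ModuleCat.{u} R) 0).obj M))) i)) ↔
      ∃ E : DRing.Cx R, (∀ L : DRing.Cx R, (∀ i : ℤ, IsZero (L.homology i)) → ∀ i : ℤ, IsZero ((L ⊗ E).homology i)) ∧
        DRing.TermwiseFlat E ∧ (∀ i : ℤ, i < a → IsZero (E.X i)) ∧ Nonempty (DRing.toD E ≅ DRing.toD K) := by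
  constructor
  · intro h
    let C := (DRingLib.resP R).obj K
    let ψ : C ⟶ K := (DRingLib.resψ R).app K
    haveI : QuasiIso ψ := DRingLib.quasiIso_resψ K
    let eC : DerivedCategory.Q.obj C ≅ DerivedCategory.Q.obj K := asIso (DerivedCategory.Q.map ψ)
    have hC : DRingLib.Good C := DRingLib.good_resP K
    have hv : ∀ (N : ModuleCat.{u} R) (i : ℤ), i < a →
        IsZero ((KFlatLib.tensorN C N).homology i) := fun N i hi => by
      obtain ⟨P⟩ : Nonempty (ProjectiveResolution N) := ⟨projectiveResolution N⟩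
      exact (TwoTermLib.KFlatTrunc.homology_tensorN_iso N C hC.1 P i).mp
        ((TwoTermLib.KFlatTrunc.isZero_tensor_iff_of_iso
          (DRingLib.isKFlat_projectiveResolution P) eC i).mpr
          ((TwoTermLib.KFlatTrunc.subsingleton_HD_iff K N P i).mp (h N i hi)))
    have hE : ∀ i, Module.Flat R ((C.truncGE a).X i) := fun i =>
      TwoTermLib.KFlatTrunc.flat_truncGE_X hC.2 (fun N => hv N (a - 1) (by omega)) i
    let e1 : KFlatLib.tensorN C (𝟙_ (ModuleCat.{u} R)) ≅ C :=
      HomologicalComplex.Hom.isoOfComponents (fun n => ρ_ (C.X n))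
        (fun p q _ => (rightUnitor_naturality (C.d p q)).symm)
    haveI : C.IsGE a := by
      rw [CochainComplex.isGE_iff]
      intro i hi
      rw [HomologicalComplex.exactAt_iff_isZero_homology]
      exact (hv _ i hi).of_iso ((HomologicalComplex.homologyFunctor _ _ i).mapIso e1).symm
    haveI : QuasiIso (C.πTruncGE a) := (CochainComplex.quasiIso_πTruncGE_iff C a).mpr inferInstance
    exact ⟨C.truncGE a, TwoTermLib.KFlatTrunc.isKFlat_truncGE a hC.1 hC.2 hE, hE,
      fun i hi => CochainComplex.isZero_of_isStrictlyGE (C.truncGE a) a i hi,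
      ⟨(asIso (DerivedCategory.Q.map (C.πTruncGE a))).symm ≪≫ eC⟩⟩
  · rintro ⟨E, hE, -, hz, ⟨e⟩⟩ M i hi
    obtain ⟨P⟩ : Nonempty (ProjectiveResolution M) := ⟨projectiveResolution M⟩
    refine (TwoTermLib.KFlatTrunc.subsingleton_HD_iff K M P i).mpr
      ((TwoTermLib.KFlatTrunc.isZero_tensor_iff_of_iso
        (DRingLib.isKFlat_projectiveResolution P) e i).mp
        ((TwoTermLib.KFlatTrunc.homology_tensorN_iso M E hE P i).mpr ?_))
    exact (HomologicalComplex.exactAt_iff_isZero_homology _ i).mp
      (ShortComplex.exact_of_isZero_X₂ _ ((tensorRight M).map_isZero (hz i hi)))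

end Groth.Agent.S12093
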