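import Groth.Statements.S12094
import Groth.Agent.TwoTermLib.Two

set_option autoImplicit false
universe u
open CategoryTheory
attribute [local instance] HasDerivedCategory.standard
open DRing

namespace Groth.Agent.S12094

/-- (1) ⇔ (2): let `I ⊆ R` be an ideal and `K ∈ D(R)` with `H^i(K) = 0` for `i ∉ {-1, 0}`. Then some
power `I^c` annihilates `Ext¹_R(K, N) = Hom_{D(R)}(K, N[1])` for every `R`-module `N` if and only
if, for some `c`, (a) `I^c` annihilates `H^{-1}(K)` and (b) `H^0(K)` is `I^c`-projective, i.e. `I^c`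
annihilates `Ext¹_R(H^0(K), N)` for every `R`-module `N`. -/
theorem result {R : Type u} [CommRing R] (I : Ideal R) (K : Dual.D R)
    (hK : ∀ i : ℤ, i ≠ -1 → i ≠ 0 → Subsingleton (Dual.HD R K i)) :
    (∃ c : ℕ, ∀ (N : Type u) [AddCommGroup N] [Module R N] (a : R), a ∈ I ^ c →
        ∀ ξ : K ⟶ (Dual.inD R N)⟦(1 : ℤ)⟧, a • ξ = 0) ↔
      ∃ c : ℕ, (∀ a : R, a ∈ I ^ c → ∀ x : Dual.HD R K (-1), a • x = 0) ∧
        ∀ (N : Type u) [AddCommGroup N] [Module R N] (a : R), a ∈ I ^ c →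
          ∀ ξ : Dual.inD R (Dual.HD R K 0) ⟶ (Dual.inD R N)⟦(1 : ℤ)⟧, a • ξ = 0 := by
  constructor
  · rintro ⟨c, hc⟩
    refine ⟨c, fun a ha x => ?_, fun N _ _ a ha ξ => ?_⟩
    · obtain ⟨E, hE, hfree, ⟨e⟩⟩ := Groth.Agent.TwoTermLib.exists_rep K hK
      have hE0 : Module.Projective R (E.X 0) := Module.Projective.of_free
      obtain ⟨h, hh⟩ := (Groth.Agent.TwoTermLib.smul_ext_eq_zero_iff hE hE0 a).1 fun N ξ =>
        Groth.Agent.TwoTermLib.smul_ext_iso e.symm a (hc N a ha) ξ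
      let eH := (PQLib.homologyIso e (-1)).toLinearEquiv
      apply eH.injective
      apply Groth.Agent.TwoTermLib.low_injective hE
      rw [map_smul, map_smul, map_zero, map_zero]
      have h2 := congrArg (fun k => (ConcreteCategory.hom k)
        (Groth.Agent.TwoTermLib.low hE (eH x))) hh
      simp only [ModuleCat.comp_apply, Groth.Agent.TwoTermLib.d_low_apply, map_zero] at h2
      exact h2.symm
    · obtain ⟨M, Q, ι, π, δ, hT, -, ⟨eQ⟩⟩ := Groth.Agent.TwoTermLib.exists_decomp hK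
      let π' : K ⟶ Dual.inD R (Dual.HD R K 0) :=
        π ≫ (DerivedCategory.singleFunctor (ModuleCat.{u} R) 0).map eQ.hom
      obtain ⟨η, hη⟩ : ∃ η : ((DerivedCategory.singleFunctor (ModuleCat.{u} R) (-1)).obj M)⟦(1 : ℤ)⟧ ⟶
          (Dual.inD R N)⟦(1 : ℤ)⟧, (DerivedCategory.singleFunctor (ModuleCat.{u} R) 0).map eQ.hom ≫
            (a • ξ) = δ ≫ η :=
        Pretriangulated.Triangle.yoneda_exact₃ _ hT _ (by
          have := hc N a ha (π' ≫ ξ)
          rw [← Linear.comp_smul] at this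
          exact (Category.assoc _ _ _).symm.trans this)
      have hle : DerivedCategory.IsLE
          (((DerivedCategory.singleFunctor (ModuleCat.{u} R) (-1)).obj M)⟦(1 : ℤ)⟧) (-2) :=
        DerivedCategory.TStructure.t.isLE_shift _ (-1) 1 (-2) (by norm_num)
      rw [Groth.Agent.TwoTermLib.eq_zero_of_lt η (-2) (-1) (by norm_num) hle
        (Groth.Agent.TwoTermLib.isGE_shift (ModuleCat.of R N)), Limits.comp_zero] at hη
      exact (cancel_epi ((DerivedCategory.singleFunctor (ModuleCat.{u} R) 0).map eQ.hom)).1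
        (hη.trans Limits.comp_zero.symm)
  · rintro ⟨c, ha, hb⟩
    refine ⟨c + c, fun N _ _ r hr ξ => ?_⟩
    rw [pow_add] at hr
    refine Submodule.mul_induction_on hr (fun a haI b hbI => ?_) fun r s hr hs => by
      rw [add_smul, hr, hs, add_zero]
    obtain ⟨M, Q, ι, π, δ, hT, ⟨eM⟩, ⟨eQ⟩⟩ := Groth.Agent.TwoTermLib.exists_decomp hK
    have hbM : b • 𝟙 M = 0 := by
      apply ModuleCat.hom_ext
      ext x
      apply eM.toLinearEquiv.injective
      show eM.toLinearEquiv (b • x) = eM.toLinearEquiv 0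
      rw [map_smul, map_zero]
      exact ha b hbI _
    obtain ⟨η, hη⟩ : ∃ η : (DerivedCategory.singleFunctor (ModuleCat.{u} R) 0).obj Q ⟶
        (Dual.inD R N)⟦(1 : ℤ)⟧, b • ξ = π ≫ η :=
      Pretriangulated.Triangle.yoneda_exact₂ _ hT _
        (Groth.Agent.TwoTermLib.smul_comp_ι b hbM ι ξ)
    have : a • η = 0 := Groth.Agent.TwoTermLib.smul_ext_iso
      ((DerivedCategory.singleFunctor (ModuleCat.{u} R) 0).mapIso eQ).symm a
      (fun ζ => hb N a haI ζ) η
    show (a * b) • ξ = 0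
    rw [mul_smul, hη, ← Linear.comp_smul, this, Limits.comp_zero]

end Groth.Agent.S12094
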