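import Groth.Statements.S12095
import Mathlib.Algebra.Polynomial.Module.Basic

set_option autoImplicit false
universe u
open CAlg

namespace Groth.Agent.S12095
open Polynomial

section
variable {R R' : Type u} [CommRing R] [CommRing R'] [Algebra R R']
  {S : Type u} [CommRing S] [Algebra R S] (𝒜 : ℕ → Submodule R S) [GradedAlgebra 𝒜] {f : S}
  (hf : f ∈ 𝒜 1) (e : HomogeneousLocalization.Away 𝒜 f ≃+* R')

local notation "ι" => algebraMap S (Localization.Away f)

/-- The value of `e` at `s / f ^ n`. -/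
noncomputable def cc (n : ℕ) (s : 𝒜 n) : R' :=
  e (HomogeneousLocalization.Away.mk 𝒜 hf n (s : S) (by rw [smul_eq_mul, mul_one]; exact s.2))

theorem eq_cc {n : ℕ} (s : 𝒜 n) (x : HomogeneousLocalization.Away 𝒜 f) (h : x.val * ι f ^ n = ι (s : S)) :
    e x = cc 𝒜 hf e n s := by
  refine congrArg e (HomogeneousLocalization.val_injective _ ?_)
  rw [HomogeneousLocalization.Away.val_mk, Localization.mk_eq_mk', IsLocalization.eq_mk'_iff_mul_eq]
  simpa using h

theorem val_cc (n : ℕ) (s : 𝒜 n) : (e.symm (cc 𝒜 hf e n s)).val * ι f ^ n = ι (s : S) := by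
  rw [cc, e.symm_apply_apply, HomogeneousLocalization.Away.val_mk, Localization.mk_eq_mk', ← map_pow]
  exact IsLocalization.mk'_spec (M := Submonoid.powers f) (Localization.Away f) (s : S) ⟨f ^ n, n, rfl⟩

theorem cc_add (n : ℕ) (s t : 𝒜 n) : cc 𝒜 hf e n (s + t) = cc 𝒜 hf e n s + cc 𝒜 hf e n t := by
  have := eq_cc 𝒜 hf e (s + t) (e.symm (cc 𝒜 hf e n s) + e.symm (cc 𝒜 hf e n t))
    (by rw [HomogeneousLocalization.val_add, add_mul, val_cc, val_cc]; exact (map_add ι _ _).symm)
  rw [map_add, e.apply_symm_apply, e.apply_symm_apply] at this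
  exact this.symm

theorem cc_mul {i j : ℕ} (s : 𝒜 i) (t : 𝒜 j) (h : (s : S) * t ∈ 𝒜 (i + j)) :
    cc 𝒜 hf e (i + j) ⟨_, h⟩ = cc 𝒜 hf e i s * cc 𝒜 hf e j t := by
  have := eq_cc 𝒜 hf e ⟨_, h⟩ (e.symm (cc 𝒜 hf e i s) * e.symm (cc 𝒜 hf e j t))
    (by rw [HomogeneousLocalization.val_mul, pow_add, mul_mul_mul_comm, val_cc, val_cc]; exact (map_mul ι _ _).symm)
  rw [map_mul, e.apply_symm_apply, e.apply_symm_apply] at this
  exact this.symm

theorem cc_one (h : (1 : S) ∈ 𝒜 0) : cc 𝒜 hf e 0 ⟨1, h⟩ = 1 := by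
  refine ((eq_cc 𝒜 hf e (⟨1, h⟩ : 𝒜 0) 1 ?_).symm.trans (map_one e))
  rw [HomogeneousLocalization.val_one, pow_zero, one_mul]; exact (map_one ι).symm

theorem cc_self : cc 𝒜 hf e 1 ⟨f, hf⟩ = 1 := by
  refine ((eq_cc 𝒜 hf e (⟨f, hf⟩ : 𝒜 1) 1 ?_).symm.trans (map_one e))
  rw [HomogeneousLocalization.val_one, pow_one, one_mul]

/-- The graded map to polynomials. -/
noncomputable def rho : S →+* R'[X] :=
  (DirectSum.toSemiring (fun n => AddMonoidHom.mk' (fun s => monomial n (cc 𝒜 hf e n s))
      fun s t => by rw [cc_add, map_add])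
    (by exact (congrArg (monomial 0) (cc_one 𝒜 hf e _)).trans monomial_zero_one)
    (fun {i j} s t => by
      exact (congrArg (monomial (i + j)) (cc_mul 𝒜 hf e s t _)).trans (monomial_mul_monomial i j _ _).symm)).comp
    (DirectSum.decomposeRingEquiv 𝒜).toRingHom

theorem rho_of (n : ℕ) (s : 𝒜 n) : rho 𝒜 hf e (s : S) = monomial n (cc 𝒜 hf e n s) := by
  unfold rho
  rw [RingHom.comp_apply, show (DirectSum.decomposeRingEquiv 𝒜).toRingHom (s : S) = DirectSum.of (fun i => 𝒜 i) n s
    from DirectSum.decompose_coe 𝒜 s]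
  exact (DirectSum.toSemiring_of (A := fun i => ↥(𝒜 i)) _ _ _ n s).trans rfl

theorem rho_algebraMap (he : ∀ r : R, (e.symm (algebraMap R R' r)).val = ι (algebraMap R S r)) (r : R) :
    rho 𝒜 hf e (algebraMap R S r) = C (algebraMap R R' r) := by
  refine (rho_of 𝒜 hf e 0 ⟨algebraMap R S r, SetLike.algebraMap_mem_graded 𝒜 r⟩).trans ?_
  rw [monomial_zero_left, ← eq_cc 𝒜 hf e ⟨algebraMap R S r, SetLike.algebraMap_mem_graded 𝒜 r⟩
    (e.symm (algebraMap R R' r)) (by rw [he, pow_zero, mul_one]), e.apply_symm_apply]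

end

theorem result_aux {R R' : Type u} [CommRing R] [CommRing R'] [Algebra R R']
    (M : Type u) [AddCommGroup M] [Module R' M] [Module R M] [IsScalarTower R R' M] [Module.Finite R' M]
    (S : Type u) [CommRing S] [Algebra R S] (𝒜 : ℕ → Submodule R S) [GradedAlgebra 𝒜] (f : S) (hf : f ∈ 𝒜 1)
    (e : HomogeneousLocalization.Away 𝒜 f ≃+* R')
    (he : ∀ r : R, (e.symm (algebraMap R R' r)).val = algebraMap S (Localization.Away f) (algebraMap R S r)) :
    ∃ (N : Type u) (_ : AddCommGroup N) (_ : Module S N) (_ : Module R N) (_ : IsScalarTower R S N)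
      (ℳ : ℕ → Submodule R N) (_ : DirectSum.Decomposition ℳ) (_ : SetLike.GradedSMul 𝒜 ℳ)
      (Nf : Submodule R (LocalizedModule (Submonoid.powers f) N)) (e' : ↥Nf ≃ₗ[R] M),
      Module.Finite S N ∧
      (∀ x, x ∈ Nf ↔ ∃ k : ℕ, ∃ n ∈ ℳ k, f ^ k • x = LocalizedModule.mk n 1) ∧
      (∀ (a : HomogeneousLocalization.Away 𝒜 f) (x y : ↥Nf),
        a.val • (x : LocalizedModule (Submonoid.powers f) N) = y → e' y = e a • e' x) := by
  classical
  obtain ⟨r, g, hg⟩ := Module.Finite.exists_fin (R := R') (M := M)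
  let P := PolynomialModule R' M
  letI : Module S P := Module.compHom P (rho 𝒜 hf e)
  have hsmul : ∀ (s : S) (p : P), s • p = rho 𝒜 hf e s • p := fun _ _ => rfl
  haveI : IsScalarTower R S P := IsScalarTower.of_algebraMap_smul fun x p => by
    rw [hsmul, rho_algebraMap 𝒜 hf e he]
    refine (algebraMap_smul (R'[X]) (algebraMap R R' x) p).trans ?_
    exact algebraMap_smul R' x p
  have hsh : ∀ {i : ℕ} (s : 𝒜 i) (j : ℕ) (m : M), (s : S) • PolynomialModule.single R' j m =
      PolynomialModule.single R' (i + j) (cc 𝒜 hf e i s • m) := fun {i} s j m => by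
    rw [hsmul, rho_of]; exact PolynomialModule.monomial_smul_single _ _ _ _
  let N : Submodule S P := Submodule.span S (Set.range fun l => PolynomialModule.single R' 0 (g l))
  have hN : ∀ p ∈ N, ∀ k : ℕ, PolynomialModule.single R' k (p.coeff k) ∈ N := by
    intro p hp k
    obtain ⟨a, rfl⟩ := (Submodule.mem_span_range_iff_exists_fun S).1 hp
    rw [PolynomialModule.coeff_sum, Finsupp.finsetSum_apply]
    show PolynomialModule.lsingle R' k (∑ l, _) ∈ N
    rw [map_sum]
    refine sum_mem fun l _ => ?_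
    show PolynomialModule.single R' k _ ∈ N
    induction a l using DirectSum.Decomposition.inductionOn 𝒜 with
    | zero => simp
    | @homogeneous i s =>
      rw [hsh, PolynomialModule.coeff_single, Finsupp.single_apply]
      split_ifs with h
      · subst h
        show PolynomialModule.single R' (i + 0) _ ∈ N
        rw [← hsh]
        exact N.smul_mem _ (Submodule.subset_span ⟨l, rfl⟩)
      · simp
    | add s t h1 h2 =>
      rw [add_smul, PolynomialModule.coeff_add, Finsupp.add_apply, PolynomialModule.single_add]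
      exact add_mem h1 h2
  let ℳ : ℕ → Submodule R N := fun k =>
    ((LinearMap.range (PolynomialModule.lsingle R' (M := M) k)).restrictScalars R).comap (N.subtype.restrictScalars R)
  have hmem : ∀ {k : ℕ} {n : N}, n ∈ ℳ k ↔ ∃ m, PolynomialModule.single R' k m = (n : P) := Iff.rfl
  have hint : DirectSum.IsInternal ℳ := by
    refine ⟨(injective_iff_map_eq_zero _).2 fun d hd => DFinsupp.ext fun k => Subtype.ext (Subtype.ext ?_),
      fun n => ?_⟩
    · have h1 : ∀ d : DirectSum ℕ fun k => ℳ k,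
          ((DirectSum.coeAddMonoidHom ℳ d : N) : P).coeff k = ((d k : N) : P).coeff k := fun d => by
        induction d using DirectSum.induction_on with
        | zero => simp
        | of i x =>
          rw [DirectSum.coeAddMonoidHom_of]
          by_cases h : i = k
          · subst h; rw [DirectSum.of_eq_same]
          · rw [DirectSum.of_eq_of_ne _ _ _ (Ne.symm h)]
            obtain ⟨m, hm⟩ := hmem.1 x.2
            simp [← hm, Finsupp.single_apply, h]
        | add x y hx hy =>
          rw [map_add, Submodule.coe_add, PolynomialModule.coeff_add, Finsupp.add_apply, hx, hy]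
          rfl
      obtain ⟨m, hm⟩ := hmem.1 (d k).2
      have h2 := h1 d
      rw [hd, ← hm] at h2
      have : m = 0 := by simpa using h2.symm
      rw [← hm, this]; simp
    · refine ⟨∑ k ∈ (n : P).coeff.support, DirectSum.of (fun k => ℳ k) k
        ⟨⟨_, hN _ n.2 k⟩, hmem.2 ⟨(n : P).coeff k, rfl⟩⟩, Subtype.ext ?_⟩
      rw [map_sum]
      simp only [DirectSum.coeAddMonoidHom_of, Submodule.coe_sum]
      refine PolynomialModule.ext ?_
      rw [PolynomialModule.coeff_sum]
      exact (n : P).coeff.sum_single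
  letI : DirectSum.Decomposition ℳ := hint.chooseDecomposition
  have hgr : SetLike.GradedSMul 𝒜 ℳ := ⟨fun {i j a b} ha hb => by
    obtain ⟨m, hm⟩ := hmem.1 hb
    refine hmem.2 ⟨cc 𝒜 hf e i ⟨a, ha⟩ • m, ?_⟩
    rw [vadd_eq_add, ← hsh, hm]; rfl⟩
  letI : Module S M := Module.compHom M ((Polynomial.evalRingHom 1).comp (rho 𝒜 hf e))
  have hM : ∀ (s : S) (m : M), s • m = (rho 𝒜 hf e s).eval 1 • m := fun _ _ => rfl
  haveI : IsScalarTower R S M := IsScalarTower.of_algebraMap_smul fun x m => by
    rw [hM, rho_algebraMap 𝒜 hf e he, eval_C]; exact algebraMap_smul R' x m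
  let Ψ : N →ₗ[S] M :=
    { toFun := fun n => PolynomialModule.eval (1 : R') (n : P)
      map_add' := fun a b => map_add _ _ _
      map_smul' := fun s a => PolynomialModule.eval_smul (rho 𝒜 hf e s) (a : P) 1 }
  have hcM : ∀ {i : ℕ} (s : 𝒜 i) (m : M), (s : S) • m = cc 𝒜 hf e i s • m := fun {i} s m => by
    rw [hM, rho_of, eval_monomial, one_pow, mul_one]
  have hf1 : ∀ m : M, f • m = m := fun m => by
    refine (hcM ⟨f, hf⟩ m).trans ?_
    rw [cc_self, one_smul]
  have hfk : ∀ (k : ℕ) (m : M), f ^ k • m = m := fun k m => by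
    induction k with
    | zero => rw [pow_zero, one_smul]
    | succ k ih => rw [pow_succ, mul_smul, hf1, ih]
  have hu : ∀ x : Submonoid.powers f, IsUnit (algebraMap S (Module.End S M) x) := by
    rintro ⟨_, k, rfl⟩
    have : algebraMap S (Module.End S M) (f ^ k) = 1 := LinearMap.ext fun m => hfk k m
    exact this ▸ isUnit_one
  let Φ : LocalizedModule (Submonoid.powers f) N →ₗ[S] M := LocalizedModule.lift _ Ψ hu
  have hΦ : ∀ n : N, Φ (LocalizedModule.mk n 1) = Ψ n := fun n => by
    show LocalizedModule.lift _ Ψ hu (LocalizedModule.mk n 1) = _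
    rw [LocalizedModule.lift_mk]
    have h1 := Module.End.isUnit_apply_inv_apply_of_isUnit (hu 1) (Ψ n)
    exact (one_smul S _).symm.trans h1
  have hΦn : ∀ {k : ℕ} {n : N} {x : LocalizedModule (Submonoid.powers f) N},
      f ^ k • x = LocalizedModule.mk n 1 → Φ x = Ψ n := fun {k n x} h => by
    rw [← hΦ, ← h, map_smul, hfk]
  have hup : ∀ {k : ℕ} (j : ℕ) {n : N}, n ∈ ℳ k → f ^ j • n ∈ ℳ (j + k) := fun {k} j {n} hn =>
    hgr.smul_mem (SetLike.pow_mem_graded j hf |> fun h => by simpa using h) hn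
  let Nf : Submodule R (LocalizedModule (Submonoid.powers f) N) :=
    { carrier := {x | ∃ k : ℕ, ∃ n ∈ ℳ k, f ^ k • x = LocalizedModule.mk n 1}
      zero_mem' := ⟨0, 0, zero_mem _, by rw [smul_zero, LocalizedModule.zero_mk]⟩
      add_mem' := by
        rintro x y ⟨k, n, hn, h⟩ ⟨k', n', hn', h'⟩
        refine ⟨k + k', f ^ k' • n + f ^ k • n', add_mem (add_comm k' k ▸ hup k' hn) (hup k hn'), ?_⟩
        rw [smul_add, ← LocalizedModule.mkLinearMap_apply, map_add, map_smul, map_smul,
          LocalizedModule.mkLinearMap_apply, LocalizedModule.mkLinearMap_apply, ← h, ← h', smul_smul, smul_smul,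
          ← pow_add, ← pow_add, add_comm k' k]
      smul_mem' := by
        rintro c x ⟨k, n, hn, h⟩
        refine ⟨k, c • n, (ℳ k).smul_mem c hn, ?_⟩
        rw [smul_comm, h, LocalizedModule.smul'_mk] }
  let Φ' : Nf →ₗ[R] M := (Φ.restrictScalars R).comp Nf.subtype
  have hinj : Function.Injective Φ' := (injective_iff_map_eq_zero _).2 fun x hx => by
    obtain ⟨k, n, hn, h⟩ := x.2
    obtain ⟨m, hm⟩ := hmem.1 hn
    have h1 : Ψ n = 0 := (hΦn h).symm.trans hx
    have h2 : Ψ n = m := by
      show PolynomialModule.eval (1 : R') (n : P) = m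
      rw [← hm, PolynomialModule.eval_single, one_pow, one_smul]
    have h3 : n = 0 := Subtype.ext (by rw [← hm, ← h2, h1]; simp)
    rw [h3, LocalizedModule.zero_mk] at h
    refine Subtype.ext ?_
    rw [ZeroMemClass.coe_zero, ← one_smul S (x : LocalizedModule (Submonoid.powers f) N)]
    have := congrArg (fun z => IsLocalization.mk' (Localization.Away f) (1 : S)
      (⟨f ^ k, k, rfl⟩ : Submonoid.powers f) • z) h
    simp only [smul_zero] at this
    rw [← this, ← algebraMap_smul (Localization.Away f) (f ^ k), smul_smul, IsLocalization.mk'_spec, map_one,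
      one_smul, one_smul]
  have hsurj : Function.Surjective Φ' := by
    intro m
    have hm : m ∈ Submodule.span R' (Set.range g) := hg ▸ trivial
    induction hm using Submodule.span_induction with
    | zero => exact ⟨0, map_zero _⟩
    | add x y _ _ hx hy =>
      obtain ⟨a, rfl⟩ := hx; obtain ⟨b, rfl⟩ := hy
      exact ⟨a + b, map_add _ _ _⟩
    | mem x hx =>
      obtain ⟨l, rfl⟩ := hx
      let n : N := ⟨PolynomialModule.single R' 0 (g l), Submodule.subset_span ⟨l, rfl⟩⟩
      refine ⟨⟨LocalizedModule.mk n 1, 0, n, hmem.2 ⟨g l, rfl⟩, by rw [pow_zero, one_smul]⟩, (hΦ n).trans ?_⟩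
      exact (PolynomialModule.eval_single _ _ _).trans (by rw [pow_zero, one_smul])
    | smul c x _ hx =>
      obtain ⟨a, rfl⟩ := hx
      obtain ⟨i, s, hs, hs'⟩ := HomogeneousLocalization.Away.mk_surjective 𝒜 hf (e.symm c)
      have hs1 : s ∈ 𝒜 i := by simpa using hs
      have hc : cc 𝒜 hf e i ⟨s, hs1⟩ = c := (congrArg e hs').trans (e.apply_symm_apply c)
      obtain ⟨k, n, hn, h⟩ := a.2
      refine ⟨⟨(e.symm c).val • (a : LocalizedModule (Submonoid.powers f) N), i + k, s • n,
        hgr.smul_mem hs1 hn, ?_⟩, ?_⟩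
      · rw [← algebraMap_smul (Localization.Away f) (f ^ (i + k)), smul_smul, pow_add, map_mul, mul_comm (algebraMap _ _ (f ^ i)),
          mul_assoc, mul_comm _ ((e.symm c).val), ← hc, map_pow _ f i, val_cc, mul_comm, ← smul_smul, algebraMap_smul,
          algebraMap_smul, h, LocalizedModule.smul'_mk]
      · show Φ ((e.symm c).val • (a : LocalizedModule (Submonoid.powers f) N)) = c • Φ (a : LocalizedModule (Submonoid.powers f) N)
        rw [← hfk i (Φ ((e.symm c).val • _)), ← map_smul, ← algebraMap_smul (Localization.Away f) (f ^ i), smul_smul,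
          ← hc, map_pow, mul_comm, val_cc, algebraMap_smul, map_smul, hcM ⟨s, hs1⟩]
  refine ⟨N, inferInstance, inferInstance, inferInstance, inferInstance, ℳ, hint.chooseDecomposition, hgr, Nf,
    LinearEquiv.ofBijective Φ' ⟨hinj, hsurj⟩, ?_, fun x => Iff.rfl, ?_⟩
  · exact Module.Finite.iff_fg.2 (Submodule.fg_span (Set.finite_range _))
  · intro a x y hxy
    obtain ⟨i, s, hs, rfl⟩ := HomogeneousLocalization.Away.mk_surjective 𝒜 hf a
    have hs1 : s ∈ 𝒜 i := by simpa using hs
    show Φ (y : LocalizedModule (Submonoid.powers f) N) = cc 𝒜 hf e i ⟨s, hs1⟩ • Φ (x : LocalizedModule (Submonoid.powers f) N)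
    rw [← hcM ⟨s, hs1⟩, ← map_smul, ← hxy, ← hfk i (Φ (_ • _)), ← map_smul, ← algebraMap_smul (Localization.Away f) (f ^ i),
      smul_smul, ← algebraMap_smul (Localization.Away f) s]
    refine congrArg (fun z => Φ (z • (x : LocalizedModule (Submonoid.powers f) N))) ?_
    rw [mul_comm, map_pow]
    have := val_cc 𝒜 hf e i ⟨s, hs1⟩
    rw [cc, e.symm_apply_apply] at this
    exact this


/-- Let `R'` be an `R`-algebra of finite type, `M` a finite `R'`-module, and `S` an `ℕ`-graded
`R`-algebra with `f ∈ S_1` and a ring isomorphism `e : S_(f) ≅ R'` compatible with the maps from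
`R`. Then there is a finite graded `S`-module `N` whose degree-zero localization `N_(f)` (the
elements `n / f^k` of `N_f` with `n` homogeneous of degree `k`) is identified with `M`: an
`R`-linear bijection `e' : N_(f) → M` with `e'(a · x) = e(a) · e'(x)` for all `a ∈ S_(f)`. (The
published lemma produces `S`, `f` and `N` together from `R'` and `M`; here `N` is produced for any
such `S`, `f`, `e`, which the same construction gives.) -/
theorem result (R R' : Type u) [CommRing R] [CommRing R']
    [Algebra R R'] [Algebra.FiniteType R R']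
    (M : Type u) [AddCommGroup M] [Module R' M] [Module R M] [IsScalarTower R R' M] [Module.Finite R' M]
    (S : Type u) [CommRing S] [Algebra R S] (𝒜 : ℕ → Submodule R S) [GradedAlgebra 𝒜] (f : S) (hf : f ∈ 𝒜 1)
    (e : HomogeneousLocalization.Away 𝒜 f ≃+* R')
    (he : ∀ r : R, (e.symm (algebraMap R R' r)).val = algebraMap S (Localization.Away f) (algebraMap R S r)) :
    ∃ (N : Type u) (_ : AddCommGroup N) (_ : Module S N) (_ : Module R N) (_ : IsScalarTower R S N)
      (ℳ : ℕ → Submodule R N) (_ : DirectSum.Decomposition ℳ) (_ : SetLike.GradedSMul 𝒜 ℳ)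
      (Nf : Submodule R (LocalizedModule (Submonoid.powers f) N)) (e' : ↥Nf ≃ₗ[R] M),
      Module.Finite S N ∧
      (∀ x, x ∈ Nf ↔ ∃ k : ℕ, ∃ n ∈ ℳ k, f ^ k • x = LocalizedModule.mk n 1) ∧
      (∀ (a : HomogeneousLocalization.Away 𝒜 f) (x y : ↥Nf),
        a.val • (x : LocalizedModule (Submonoid.powers f) N) = y → e' y = e a • e' x) := by
  exact result_aux M S 𝒜 f hf e he

end Groth.Agent.S12095
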