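import Groth.Statements.S12096
import Groth.Agent.BlowUpLib.Chart

set_option autoImplicit false
universe u
open BlowUp

namespace Groth.Agent.S12096

theorem eq_zero_of_map {A : Type u} [CommRing A] {π a : A} {x : Localization.Away π}
    (h : Localization.awayMap (algebraMap A (Localization.Away a)) π x = 0) :
    ∃ n, algebraMap A (Localization.Away π) a ^ n * x = 0 := by
  obtain ⟨r, ⟨_, m, rfl⟩, rfl⟩ := IsLocalization.exists_mk'_eq (Submonoid.powers π) x
  rw [Localization.awayMap, IsLocalization.Away.map, IsLocalization.map_mk', IsLocalization.mk'_eq_zero_iff] at h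
  obtain ⟨⟨_, j, rfl⟩, hj⟩ := h
  change algebraMap A (Localization.Away a) π ^ j * algebraMap A (Localization.Away a) r = 0 at hj
  rw [← map_pow, ← map_mul, IsLocalization.map_eq_zero_iff (Submonoid.powers a)] at hj
  obtain ⟨⟨_, n, rfl⟩, hn⟩ := hj
  refine ⟨n, ?_⟩
  rw [← map_pow, IsLocalization.mul_mk'_eq_mk'_of_mul, IsLocalization.mk'_eq_zero_iff]
  exact ⟨⟨_, j, rfl⟩, by change π ^ j * (a ^ n * r) = 0; linear_combination hn⟩


/-- Néron's blowup is compatible with localization. For a ring `A`, an ideal `I`, elements `π, a ∈ A`,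
`A' = A[I/π] ⊆ A_π` the affine blowup algebra and `(A_a)' = A_a[I A_a/π]` that of the localization,
the canonical map `A' → (A_a)'` (the restriction of `A_π → (A_a)_π`, given here as a datum with that
compatibility) identifies `(A_a)'` with the localization `A'_a`. In Néron's situation (`I` the
inverse image of the maximal ideal of `Λ`, `π` a uniformizer, `a ∉ I`) this reads: the Néron blowup
of `A_a` is `A'_a`; the identity holds for arbitrary `A, I, π, a`. -/
theorem result (A : Type u) [CommRing A] (I : Ideal A) (π a : A) (hπ : π ∈ I)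
    (ψ : BlowUp.affineAlgebra A I π →+*
      BlowUp.affineAlgebra (Localization.Away a) (I.map (algebraMap A (Localization.Away a))) (algebraMap A (Localization.Away a) π))
    (hψ : ∀ x : BlowUp.affineAlgebra A I π,
      ((ψ x : BlowUp.affineAlgebra (Localization.Away a) (I.map (algebraMap A (Localization.Away a))) (algebraMap A (Localization.Away a) π)) :
          Localization.Away (algebraMap A (Localization.Away a) π)) =
        Localization.awayMap (algebraMap A (Localization.Away a)) π (x : Localization.Away π)) :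
    letI := ψ.toAlgebra
    IsLocalization.Away (algebraMap A (BlowUp.affineAlgebra A I π) a)
      (BlowUp.affineAlgebra (Localization.Away a) (I.map (algebraMap A (Localization.Away a))) (algebraMap A (Localization.Away a) π)) := by
  letI := ψ.toAlgebra
  let A' := Localization.Away a
  let I' := I.map (algebraMap A A')
  let π' := algebraMap A A' π
  let C' := BlowUp.affineAlgebra A' I' π'
  have hψA : ∀ r, ψ (algebraMap A _ r) = algebraMap A' C' (algebraMap A A' r) := fun r => Subtype.ext (by
    rw [hψ]
    exact IsLocalization.map_eq (S := Localization.Away π) _ r)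
  refine IsLocalization.Away.mk (algebraMap A (BlowUp.affineAlgebra A I π) a) ?_ (fun z => ?_) (fun x y h => ?_)
  · change IsUnit (ψ _)
    rw [hψA]
    exact (IsLocalization.Away.algebraMap_isUnit a).map _
  · suffices ∀ c (hc : c ∈ C'), ∃ (n : ℕ) (w : BlowUp.affineAlgebra A I π),
        c * algebraMap A' (Localization.Away π') (algebraMap A A' a) ^ n = (ψ w).1 by
      obtain ⟨n, w, hw⟩ := this z.1 z.2
      refine ⟨n, w, Subtype.ext ?_⟩
      change _ * ((ψ _) ^ n : C').1 = _
      rw [hψA, SubmonoidClass.coe_pow]
      exact hw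
    intro c hc
    induction hc using Algebra.adjoin_induction with
    | mem c hc =>
      obtain ⟨x', hx', rfl⟩ := hc
      obtain ⟨⟨⟨x, hx⟩, ⟨_, n, rfl⟩⟩, hn⟩ := (IsLocalization.mem_map_algebraMap_iff (Submonoid.powers a) A').mp hx'
      change x' * algebraMap A A' (a ^ n) = algebraMap A A' x at hn
      refine ⟨n, ⟨_, Algebra.subset_adjoin ⟨x, hx, rfl⟩⟩, ?_⟩
      rw [hψ, Localization.awayMap, IsLocalization.Away.map, IsLocalization.map_mk', ← map_pow, ← map_pow,
        mul_comm, IsLocalization.mul_mk'_eq_mk'_of_mul]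
      congr 1
      rw [mul_comm]
      exact hn
    | algebraMap r =>
      obtain ⟨x, ⟨_, n, rfl⟩, rfl⟩ := IsLocalization.exists_mk'_eq (Submonoid.powers a) r
      refine ⟨n, algebraMap A _ x, ?_⟩
      rw [hψA, ← map_pow, ← map_mul]
      change _ = algebraMap A' (Localization.Away π') (algebraMap A A' x)
      congr 1
      rw [← map_pow]
      exact IsLocalization.mk'_spec A' x (⟨a ^ n, n, rfl⟩ : Submonoid.powers a)
    | add u v _ _ hu hv =>
      obtain ⟨n, w, hw⟩ := hu
      obtain ⟨n', w', hw'⟩ := hv
      refine ⟨n + n', w * algebraMap A _ a ^ n' + w' * algebraMap A _ a ^ n, ?_⟩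
      simp only [map_add, map_mul, map_pow, hψA, Subalgebra.coe_add, Subalgebra.coe_mul,
        SubmonoidClass.coe_pow, ← hw, ← hw', Subalgebra.coe_algebraMap]
      ring
    | mul u v _ _ hu hv =>
      obtain ⟨n, w, hw⟩ := hu
      obtain ⟨n', w', hw'⟩ := hv
      refine ⟨n + n', w * w', ?_⟩
      simp only [map_mul, Subalgebra.coe_mul, ← hw, ← hw']
      ring
  · obtain ⟨n, hn⟩ := eq_zero_of_map (a := a) (x := x.1 - y.1) (by
      rw [map_sub, ← hψ, ← hψ]
      exact sub_eq_zero.mpr (congrArg Subtype.val h))
    exact ⟨n, Subtype.ext (sub_eq_zero.mp ((mul_sub _ _ _).symm.trans hn))⟩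
end Groth.Agent.S12096
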