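import Groth.Statements.S12097
import Groth.Agent.BlowUpLib.Chart

set_option autoImplicit false
universe u
open BlowUp

namespace Groth.Agent.S12097

/-- Néron's blowup is compatible with closed immersions. For a surjective ring map `B → A` with kernel
`J`, an ideal `I ⊆ B` containing `π`, and the affine blowup algebras `B' = B[I/π] ⊆ B_π`, `A' =
A[IA/π] ⊆ A_π`, the canonical map `B' → A'` (the restriction of `B_π → A_π`, given as a datum with
that compatibility) is surjective with kernel the elements `x` such that `π^n x ∈ J B'` for some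
`n`: `A'` is the quotient of `B'/JB'` by its `π`-power torsion. In Néron's situation (`I` the
inverse image of the maximal ideal of `Λ`, `π` a uniformizer) this is the printed functoriality; the
identity holds for any surjection. -/
theorem result (B A : Type u) [CommRing B] [CommRing A] [Algebra B A]
    (hq : Function.Surjective (algebraMap B A)) (I : Ideal B) (π : B) (hπ : π ∈ I)
    (ψ : BlowUp.affineAlgebra B I π →+* BlowUp.affineAlgebra A (I.map (algebraMap B A)) (algebraMap B A π))
    (hψ : ∀ x : BlowUp.affineAlgebra B I π,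
      ((ψ x : BlowUp.affineAlgebra A (I.map (algebraMap B A)) (algebraMap B A π)) : Localization.Away (algebraMap B A π)) =
        Localization.awayMap (algebraMap B A) π (x : Localization.Away π)) :
    Function.Surjective ψ ∧
      ∀ x : BlowUp.affineAlgebra B I π, x ∈ RingHom.ker ψ ↔
        ∃ n : ℕ, algebraMap B (BlowUp.affineAlgebra B I π) π ^ n * x ∈
          (RingHom.ker (algebraMap B A)).map (algebraMap B (BlowUp.affineAlgebra B I π)) := by
  let π' := algebraMap B A π
  let I' := I.map (algebraMap B A)
  have hψB : ∀ r, ψ (algebraMap B _ r) = algebraMap A (BlowUp.affineAlgebra A I' π') (algebraMap B A r) :=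
    fun r => Subtype.ext (by
      rw [hψ]
      exact IsLocalization.map_eq (S := Localization.Away π) _ r)
  refine ⟨fun z => ?_, fun x => ⟨fun hx => ?_, fun hx => ?_⟩⟩
  · suffices ∀ c (hc : c ∈ BlowUp.affineAlgebra A I' π'), ∃ w, (ψ w).1 = c by
      obtain ⟨w, hw⟩ := this z.1 z.2
      exact ⟨w, Subtype.ext hw⟩
    intro c hc
    induction hc using Algebra.adjoin_induction with
    | mem c hc =>
      obtain ⟨x', hx', rfl⟩ := hc
      obtain ⟨x, hx, rfl⟩ := (Ideal.mem_map_iff_of_surjective _ hq).mp hx'
      refine ⟨⟨_, Algebra.subset_adjoin ⟨x, hx, rfl⟩⟩, ?_⟩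
      rw [hψ, Localization.awayMap, IsLocalization.Away.map, IsLocalization.map_mk']
    | algebraMap r =>
      obtain ⟨x, rfl⟩ := hq r
      exact ⟨algebraMap B _ x, congrArg Subtype.val (hψB x)⟩
    | add u v _ _ hu hv =>
      obtain ⟨w, rfl⟩ := hu
      obtain ⟨w', rfl⟩ := hv
      exact ⟨w + w', by rw [map_add]; rfl⟩
    | mul u v _ _ hu hv =>
      obtain ⟨w, rfl⟩ := hu
      obtain ⟨w', rfl⟩ := hv
      exact ⟨w * w', by rw [map_mul]; rfl⟩
  · obtain ⟨r, ⟨_, m, rfl⟩, hr⟩ := IsLocalization.exists_mk'_eq (Submonoid.powers π) x.1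
    have h0 : Localization.awayMap (algebraMap B A) π x.1 = 0 := by
      rw [← hψ, RingHom.mem_ker.mp hx]
      rfl
    rw [← hr, Localization.awayMap, IsLocalization.Away.map, IsLocalization.map_mk',
      IsLocalization.mk'_eq_zero_iff] at h0
    obtain ⟨⟨_, j, rfl⟩, hj⟩ := h0
    change algebraMap B A π ^ j * algebraMap B A r = 0 at hj
    have key : algebraMap B (BlowUp.affineAlgebra B I π) π ^ (j + m) * x =
        algebraMap B (BlowUp.affineAlgebra B I π) (π ^ j * r) := by
      refine Subtype.ext ?_
      simp only [Subalgebra.coe_mul, SubmonoidClass.coe_pow, Subalgebra.coe_algebraMap, ← hr]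
      rw [pow_add, mul_assoc, map_mul (algebraMap B (Localization.Away π)), map_pow]
      congr 1
      rw [← map_pow]
      exact IsLocalization.mk'_spec' (Localization.Away π) r (⟨π ^ m, m, rfl⟩ : Submonoid.powers π)
    refine ⟨j + m, key ▸ Ideal.mem_map_of_mem _ ?_⟩
    rw [RingHom.mem_ker, map_mul, map_pow]
    exact hj
  · obtain ⟨n, hn⟩ := hx
    have h0 : ψ (algebraMap B (BlowUp.affineAlgebra B I π) π ^ n * x) = 0 := by
      refine (Ideal.map_le_iff_le_comap (K := RingHom.ker ψ)).mpr (fun b hb => ?_) hn
      rw [Ideal.mem_comap, RingHom.mem_ker, hψB, RingHom.mem_ker.mp hb, map_zero]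
    rw [map_mul, map_pow, hψB] at h0
    have hu : IsUnit (algebraMap A (Localization.Away π') π' ^ n) :=
      (IsLocalization.Away.algebraMap_isUnit π').pow n
    rw [RingHom.mem_ker]
    exact Subtype.ext (hu.mul_right_eq_zero.mp (congrArg Subtype.val h0))
end Groth.Agent.S12097
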