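import Groth.Statements.S12098
import Groth.Agent.TwoTermLib.Stab
import Groth.Agent.TwoTermLib.HomCx
import Groth.Agent.KFlatLib.Cone

set_option autoImplicit false
universe u
open CategoryTheory CategoryTheory.Limits
attribute [local instance] HasDerivedCategory.standard
open DRing

namespace Groth.Agent.S12098

/-- Let `p ⊆ R` be a prime and `M•`, `N•` bounded complexes whose terms are finite projective
`R`-modules and which are isomorphic in `D(R)`. Then for some `f ∉ p` the localized complexes `M•_f`
and `N•_f` become isomorphic once a finite direct sum of trivial complexes is added to each: `M•_f ⊕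
P•` and `N•_f ⊕ Q•` are isomorphic as complexes, with `P•`, `Q•` finite direct sums of copies of `0
→ R_f = R_f → 0` (placed in arbitrary degrees), expressed here as: bounded, with finite free terms
and free boundary modules, and with null-homotopic identity. -/
theorem result (R : Type u) [CommRing R] (p : Ideal R) [p.IsPrime]
    (M N : DRing.Cx R) (a b : ℤ) (hM : DRing.VanishesOutside M a b) (hN : DRing.VanishesOutside N a b)
    (hMp : DRing.TermwiseFiniteProjective M) (hNp : DRing.TermwiseFiniteProjective N)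
    (h : Nonempty (DRing.toD M ≅ DRing.toD N)) :
    ∃ f : R, f ∉ p ∧ ∃ P Q : DRing.Cx (Localization.Away f),
      ((∃ a' b' : ℤ, DRing.VanishesOutside P a' b') ∧ DRing.TermwiseFiniteFree P ∧
          (∀ i : ℤ, Module.Free (Localization.Away f) (LinearMap.range (P.d i (i + 1)).hom)) ∧ Nonempty (Homotopy (𝟙 P) 0)) ∧
      ((∃ a' b' : ℤ, DRing.VanishesOutside Q a' b') ∧ DRing.TermwiseFiniteFree Q ∧
          (∀ i : ℤ, Module.Free (Localization.Away f) (LinearMap.range (Q.d i (i + 1)).hom)) ∧ Nonempty (Homotopy (𝟙 Q) 0)) ∧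
      Nonempty ((((ModuleCat.extendScalars (algebraMap R (Localization.Away f))).mapHomologicalComplex (ComplexShape.up ℤ)).obj M) ⊞ P ≅ (((ModuleCat.extendScalars (algebraMap R (Localization.Away f))).mapHomologicalComplex (ComplexShape.up ℤ)).obj N) ⊞ Q) := by
  haveI := DRingLib.isKProjective_of_projective M b (fun i hi => hM i (Or.inr hi)) fun i => (hMp i).2
  haveI := DRingLib.isKProjective_of_projective N b (fun i hi => hN i (Or.inr hi)) fun i => (hNp i).2
  obtain ⟨e⟩ := TwoTermLib.HomCx.exists_homotopyEquiv h.some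
  obtain ⟨θ⟩ := TwoTermLib.Stab.nonempty_iso e
  have cone : ∀ {K L : DRing.Cx R} (φ : K ⟶ L) [QuasiIso φ], DRing.VanishesOutside K a b →
      DRing.VanishesOutside L a b → DRing.TermwiseFiniteProjective K →
      DRing.TermwiseFiniteProjective L →
      DRing.VanishesOutside (CochainComplex.mappingCone φ) (a - 1) b ∧
        DRing.TermwiseFiniteProjective (CochainComplex.mappingCone φ) ∧
        Nonempty (Homotopy (𝟙 (CochainComplex.mappingCone φ)) 0) := by
    intro K L φ _ hK hL hKp hLp
    have hv : DRing.VanishesOutside (CochainComplex.mappingCone φ) (a - 1) b := fun i hi =>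
      (CochainComplex.mappingCone.isZero_X_iff φ i).2 ⟨hK _ (by omega), hL _ (by omega)⟩
    have hp : DRing.TermwiseFiniteProjective (CochainComplex.mappingCone φ) := fun n => by
      haveI := (hKp (n + 1)).1
      haveI := (hKp (n + 1)).2
      haveI := (hLp n).1
      haveI := (hLp n).2
      let s := LinearMap.prod ((CochainComplex.mappingCone.fst φ).1.v n (n + 1) rfl).hom
        ((CochainComplex.mappingCone.snd φ).v n n (add_zero n)).hom
      let r := LinearMap.coprod ((CochainComplex.mappingCone.inl φ).v (n + 1) n (by omega)).hom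
        ((CochainComplex.mappingCone.inr φ).f n).hom
      have hrs : r ∘ₗ s = LinearMap.id := LinearMap.ext fun x =>
        congr($(CochainComplex.mappingCone.id_X φ n (n + 1) rfl).hom x)
      exact ⟨Module.Finite.of_surjective r fun x => ⟨s x, LinearMap.congr_fun hrs x⟩,
        Module.Projective.of_split s r hrs⟩
    haveI := DRingLib.isKProjective_of_projective (CochainComplex.mappingCone φ) b
      (fun i hi => hv i (Or.inr hi)) fun i => (hp i).2
    exact ⟨hv, hp, ⟨CochainComplex.IsKProjective.homotopyZero _ fun i =>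
      (HomologicalComplex.exactAt_iff_isZero_homology _ i).2
        ((KFlatLib.acyclic_cone_iff φ).mpr inferInstance i)⟩⟩
  obtain ⟨hPv, hPp, ⟨HP⟩⟩ := cone e.hom hM hN hMp hNp
  obtain ⟨hQv, hQp, ⟨HQ⟩⟩ := cone (𝟙 M) hM hM hMp hMp
  let CP := CochainComplex.mappingCone e.hom
  let CQ := CochainComplex.mappingCone (𝟙 M)
  let fam : ℤ × Fin 4 → ModuleCat.{u} R := fun x =>
    ![CP.X x.1, TwoTermLib.Stab.bd CP x.1, CQ.X x.1, TwoTermLib.Stab.bd CQ x.1] x.2
  obtain ⟨f, hf, hff⟩ := TwoTermLib.Stab.exists_free_away_finset p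
    ((Finset.Icc (a - 1) b) ×ˢ (Finset.univ : Finset (Fin 4))) fam fun x => by
      obtain ⟨i, j⟩ := x
      fin_cases j
      · exact hPp i
      · exact TwoTermLib.Stab.finite_projective_bd CP HP hPp i
      · exact hQp i
      · exact TwoTermLib.Stab.finite_projective_bd CQ HQ hQp i
  have hm : ∀ i ∈ Finset.Icc (a - 1) b, ∀ j : Fin 4,
      (i, j) ∈ (Finset.Icc (a - 1) b) ×ˢ (Finset.univ : Finset (Fin 4)) :=
    fun i hi j => Finset.mem_product.2 ⟨hi, Finset.mem_univ j⟩
  let F := (ModuleCat.extendScalars.{u, u, u}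
    (algebraMap R (Localization.Away f))).mapHomologicalComplex (ComplexShape.up ℤ)
  haveI := preservesBinaryBiproducts_of_preservesBiproducts F
  exact ⟨f, hf, F.obj CP, F.obj CQ,
    TwoTermLib.Stab.free_data CP hPv hPp HP f fun i hi =>
      ⟨hff (i, 0) (hm i hi 0), hff (i, 1) (hm i hi 1)⟩,
    TwoTermLib.Stab.free_data CQ hQv hQp HQ f fun i hi =>
      ⟨hff (i, 2) (hm i hi 2), hff (i, 3) (hm i hi 3)⟩,
    ⟨(F.mapBiprod M CP).symm ≪≫ F.mapIso θ ≪≫ F.mapBiprod N CQ⟩⟩

end Groth.Agent.S12098
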