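import Groth.Statements.S12099
import Mathlib.CategoryTheory.Abelian.Refinements

set_option autoImplicit false
universe v u
open CategoryTheory CategoryTheory.Limits
open PCoh

namespace Groth.Agent.S12099

/-- Punctual site: let C be an abelian category and C₀ a strictly full additive subcategory,
quasi-liftable in C. For an exact sequence F → G → H → 0 with F of C₀-finite type and G precoherent
relative to C₀ (every morphism from a C₀-object into G has kernel of C₀-finite type), H is
precoherent relative to C₀. -/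
theorem result {C : Type u} [Category.{v} C] [Abelian C]
    (P : ObjectProperty C) [P.IsClosedUnderIsomorphisms] [P.ContainsZero] (hsum : ∀ X Y : C, P X → P Y → P (X ⨯ Y))
    (hql : PCoh.IsQuasiLiftable P)
    (S : ShortComplex C) (hS : S.Exact) (hg : Epi S.g)
    (hF : PCoh.IsOfFiniteType P S.X₁) (hG : ∀ (E : C) (u : E ⟶ S.X₂), P E → PCoh.IsOfFiniteType P (kernel u)) :
    ∀ (E : C) (u : E ⟶ S.X₃), P E → PCoh.IsOfFiniteType P (kernel u) := by
  intro E u hE
  haveI := hg
  obtain ⟨F', v, hF', hv⟩ := hql (pullback S.g u) E (pullback.snd S.g u) inferInstance hE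
  obtain ⟨E1, π1, hE1, hπ1⟩ := hF
  haveI := hπ1
  let w : F' ⟶ S.X₂ := v ≫ pullback.fst S.g u
  have hw : w ≫ S.g = (v ≫ pullback.snd S.g u) ≫ u := by
    simp only [w, Category.assoc, pullback.condition]
  let m : F' ⨯ E1 ⟶ S.X₂ := prod.fst ≫ w - prod.snd ≫ π1 ≫ S.f
  obtain ⟨K, ρ, hK, hρ⟩ := hG _ m (hsum _ _ hF' hE1)
  let φ : kernel m ⟶ kernel u := kernel.lift u (kernel.ι m ≫ prod.fst ≫ v ≫ pullback.snd S.g u) (by
    have h : kernel.ι m ≫ (prod.fst ≫ w - prod.snd ≫ π1 ≫ S.f) = 0 := kernel.condition m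
    rw [Preadditive.comp_sub, sub_eq_zero] at h
    simp only [Category.assoc] at hw ⊢
    rw [← hw, reassoc_of% h]
    simp)
  haveI : Epi φ := by
    rw [epi_iff_surjective_up_to_refinements]
    intro A x
    obtain ⟨A1, p1, hp1, y, hy⟩ := surjective_up_to_refinements_of_epi (v ≫ pullback.snd S.g u) (x ≫ kernel.ι u)
    have hy0 : (y ≫ w) ≫ S.g = 0 := by
      rw [Category.assoc, hw, ← Category.assoc, ← hy]; simp
    obtain ⟨A2, p2, hp2, z, hz⟩ := hS.exact_up_to_refinements (y ≫ w) hy0
    obtain ⟨A3, p3, hp3, t, ht⟩ := surjective_up_to_refinements_of_epi π1 z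
    refine ⟨A3, p3 ≫ p2 ≫ p1, inferInstance, kernel.lift m (prod.lift (p3 ≫ p2 ≫ y) t) ?_, ?_⟩
    · simp only [m, Preadditive.comp_sub, prod.lift_fst_assoc, prod.lift_snd_assoc, Category.assoc]
      rw [hz, ← reassoc_of% ht, sub_self]
    · rw [← cancel_mono (kernel.ι u)]
      simp only [φ, Category.assoc, kernel.lift_ι, kernel.lift_ι_assoc, prod.lift_fst_assoc, hy]
  exact ⟨K, ρ ≫ φ, hK, inferInstance⟩

end Groth.Agent.S12099
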