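import Groth.Statements.S12104
import Groth.Agent.ToriSchLib.BaseChange
import Groth.Agent.CartanMultLib.Central

set_option autoImplicit false
set_option backward.isDefEq.respectTransparency false
set_option backward.isDefEq.respectTransparency.types false
set_option maxHeartbeats 1000000
set_option synthInstance.maxHeartbeats 400000
open CategoryTheory MonoidalCategory CartesianMonoidalCategory MonObj GrpObj AlgebraicGeometry
universe u
open RedSub CategoryTheory.Limits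

attribute [-instance] CategoryTheory.Hom.commGroup
namespace Groth.Agent.S12104

theorem isTypeR_bcTo {S : Scheme.{u}} {G : Over S} [GrpObj G] [Smooth G.hom] [IsAffineHom G.hom] {Y P : Scheme.{u}}
    {y : Y ⟶ S} (p : P ⟶ Y) {d : P ⟶ S} (hd : p ≫ y = d) {H : Over Y} [GrpObj H] {h : H ⟶ Red.bc y G}
    (hh : RedSub.IsTypeR h) : RedSub.IsTypeR (Groth.Agent.ToriSch.bcTo p hd h) := by
  obtain ⟨⟨hm, hi⟩, hs, hq, hconn, hT⟩ := hh
  haveI := hm; haveI := hi; haveI := hs; haveI := hq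
  haveI : Smooth (Red.bc y G).hom := MorphismProperty.pullback_snd (P := @Smooth) _ _ inferInstance
  haveI := RedRank.isAffineHom_bc G y
  refine ⟨⟨Groth.Agent.ToriSch.isMonHom_bcTo p hd h, ?_⟩,
    MorphismProperty.pullback_snd (P := @Smooth) _ _ inferInstance,
    MorphismProperty.pullback_snd (P := @QuasiCompact) _ _ inferInstance, fun x => ?_, fun x => ?_⟩
  · haveI : IsImmersion ((Over.pullback p).map h).left := MorphismProperty.overPullbackMap (P := @IsImmersion) p h hi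
    haveI : IsIso (ActBC.bcCompIso p y G hd).hom.left := (Over.forget _).map_isIso (ActBC.bcCompIso p y G hd).hom
    show IsImmersion (((Over.pullback p).map h).left ≫ (ActBC.bcCompIso p y G hd).hom.left)
    infer_instance
  · obtain ⟨l, hl⟩ := MaxTorConj.exists_geomPt_factor p x
    let eH : Red.bc l (Red.geomFibre (p x) H) ≅ Red.bc (Red.geomPt x) (Red.bc p H) :=
      ActBC.bcCompIso l (Red.geomPt (p x)) H hl ≪≫ (ActBC.bcCompIso (Red.geomPt x) p H rfl).symm
    haveI : ConnectedSpace ↥(Red.geomFibre (p x) H).left := Groth.Agent.CartanMult.connectedSpace_geomFibre H (p x) (hconn (p x))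
    haveI : Smooth (Red.geomFibre (p x) H).hom := MorphismProperty.pullback_snd (P := @Smooth) _ _ inferInstance
    haveI := CommSubLib.geometricallyIrreducible_of_connected (Red.geomFibre (p x) H)
    haveI : IrreducibleSpace ↥(pullback (Red.geomFibre (p x) H).hom l) :=
      GeometricallyIrreducible.geometrically_irreducibleSpace (f := (Red.geomFibre (p x) H).hom) l _ _
        (IsPullback.of_hasPullback _ l)
    haveI : ConnectedSpace ↥(Red.bc (Red.geomPt x) (Red.bc p H)).left := by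
      let φ : ↥(Red.bc l (Red.geomFibre (p x) H)).left ≃ₜ ↥(Red.bc (Red.geomPt x) (Red.bc p H)).left :=
        Scheme.homeoOfIso ((Over.forget _).mapIso eH)
      haveI : ConnectedSpace ↥(Red.bc l (Red.geomFibre (p x) H)).left :=
        inferInstanceAs (ConnectedSpace ↥(pullback (Red.geomFibre (p x) H).hom l))
      exact φ.surjective.connectedSpace φ.continuous
    have hr : Set.range (pullback.fst (Red.bc p H).hom (Red.geomPt x)) = (Red.bc p H).hom.base ⁻¹' {x} := by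
      have hgp : Set.range (Red.geomPt x) = {x} := Set.Subset.antisymm
        (Set.range_subset_iff.2 fun z => by
          show Red.geomPt x z = x
          rw [@Subsingleton.elim (PrimeSpectrum (AlgebraicClosure (P.residueField x))) _ z (IsLocalRing.closedPoint _)]
          exact RedRank.geomPt_apply _)
        (Set.singleton_subset_iff.2 ⟨IsLocalRing.closedPoint _, RedRank.geomPt_apply _⟩)
      rw [Scheme.Pullback.range_fst, hgp]
    rw [← hr]
    haveI : ConnectedSpace ↥(pullback (Red.bc p H).hom (Red.geomPt x)) :=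
      ‹ConnectedSpace ↥(Red.bc (Red.geomPt x) (Red.bc p H)).left›
    exact isConnected_range (pullback.fst (Red.bc p H).hom (Red.geomPt x)).continuous
  · obtain ⟨T₀, _, t₀, ht₀m, ht₀⟩ := hT (p x)
    haveI := ht₀m
    obtain ⟨l, hl⟩ := MaxTorConj.exists_geomPt_factor p x
    haveI := DiagRep.isMonHom_bc_map l t₀
    haveI : IsMonHom (ActBC.bcCompIso l (Red.geomPt (p x)) H hl).hom := ActBC.bcCompIso_isMonHom _ _ _
    haveI : IsMonHom (ActBC.bcCompIso (Red.geomPt x) p H rfl).hom := ActBC.bcCompIso_isMonHom _ _ _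
    haveI : IsMonHom (ActBC.bcCompIso l (Red.geomPt (p x)) (Red.bc y G) hl).hom := ActBC.bcCompIso_isMonHom _ _ _
    haveI : IsMonHom (ActBC.bcCompIso (Red.geomPt x) p (Red.bc y G) rfl).hom := ActBC.bcCompIso_isMonHom _ _ _
    haveI : IsMonHom (ActBC.bcCompIso p y G hd).hom := ActBC.bcCompIso_isMonHom _ _ _
    haveI : IsMonHom (M := Red.bc (Red.geomPt x) (Red.bc p (Red.bc y G))) (N := Red.geomFibre x (Red.bc d G))
      ((Over.pullback (Red.geomPt x)).map (ActBC.bcCompIso p y G hd).hom) := DiagRep.isMonHom_bc_map _ _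
    haveI : Smooth (Red.geomFibre (p x) (Red.bc y G)).hom := MorphismProperty.pullback_snd (P := @Smooth) _ _ inferInstance
    haveI := RedRank.isAffineHom_bc (Red.bc y G) (Red.geomPt (p x))
    haveI : QuasiCompact (Red.geomFibre (p x) (Red.bc y G)).hom := inferInstance
    let eG : Red.bc l (Red.geomFibre (p x) (Red.bc y G)) ≅ Red.geomFibre x (Red.bc d G) :=
      ActBC.bcCompIso l (Red.geomPt (p x)) (Red.bc y G) hl ≪≫ (ActBC.bcCompIso (Red.geomPt x) p (Red.bc y G) rfl).symm ≪≫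
        (Over.pullback (Red.geomPt x)).mapIso (ActBC.bcCompIso p y G hd)
    haveI : IsMonHom eG.hom := by
      show IsMonHom ((ActBC.bcCompIso l (Red.geomPt (p x)) (Red.bc y G) hl).hom ≫
        (ActBC.bcCompIso (Red.geomPt x) p (Red.bc y G) rfl).inv ≫
          (Over.pullback (Red.geomPt x)).map (ActBC.bcCompIso p y G hd).hom)
      infer_instance
    refine ⟨Red.bc l T₀, inferInstance, (Over.pullback l).map t₀ ≫
      (ActBC.bcCompIso l (Red.geomPt (p x)) H hl).hom ≫ (ActBC.bcCompIso (Red.geomPt x) p H rfl).inv, inferInstance, ?_⟩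
    have e : ((Over.pullback l).map t₀ ≫
        (ActBC.bcCompIso l (Red.geomPt (p x)) H hl).hom ≫ (ActBC.bcCompIso (Red.geomPt x) p H rfl).inv) ≫
        (Over.pullback (Red.geomPt x)).map (Groth.Agent.ToriSch.bcTo p hd h) =
        (Over.pullback l).map (t₀ ≫ (Over.pullback (Red.geomPt (p x))).map h) ≫ eG.hom := by
      simp only [eG, Groth.Agent.ToriSch.bcTo, Functor.map_comp, Iso.trans_hom, Iso.symm_hom, Functor.mapIso_hom,
        Category.assoc]
      congr 1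
      simp only [← Category.assoc]
      congr 1
      simp only [Category.assoc]
      rw [reassoc_of% (ActBC.bcCompIso_hom_naturality l (Red.geomPt (p x)) hl h)]
      congr 1
      refine (Iso.eq_comp_inv _).2 ((Category.assoc _ _ _).trans ((Iso.inv_comp_eq _).2 ?_))
      exact ActBC.bcCompIso_hom_naturality (Red.geomPt x) p rfl h
    rw [e]
    exact MaxTorConj.isMaximalTorus_iso eG (MaxTorConj.isMaximalTorus_bc ht₀ l)

theorem exists_comp_eq {S : Scheme.{u}} {G : Over S} [GrpObj G] [Smooth G.hom] [IsAffineHom G.hom]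
    {M : Over S} {H : Over M.left} [GrpObj H] {h : H ⟶ Red.bc M.hom G} (hh : RedSub.IsTypeR h)
    {C C' : Over S} (cl : M ⟶ C) (cl' : M ⟶ C') [Flat cl.left] [Surjective cl.left] [QuasiCompact cl.left]
    (hC : ∀ (S' : Scheme.{u}) (f : S' ⟶ S) (H₁ H₂ : Over S') [GrpObj H₁] [GrpObj H₂] (h₁ : H₁ ⟶ Red.bc f G)
      (h₂ : H₂ ⟶ Red.bc f G) (g₁ g₂ : S' ⟶ M.left), RedSub.IsTypeR h₁ → RedSub.IsTypeR h₂ →
      g₁ ≫ M.hom = f → g₂ ≫ M.hom = f → RedSub.SamePoints G f h₁ M h g₁ → RedSub.SamePoints G f h₂ M h g₂ →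
      g₁ ≫ cl.left = g₂ ≫ cl.left → g₁ ≫ cl'.left = g₂ ≫ cl'.left) :
    ∃ e : C ⟶ C', cl ≫ e = cl' := by
  have key : ∀ {Z : Scheme.{u}} (g₁ g₂ : Z ⟶ M.left), g₁ ≫ cl.left = g₂ ≫ cl.left → g₁ ≫ cl'.left = g₂ ≫ cl'.left := by
    intro Z g₁ g₂ e
    have hf : g₂ ≫ M.hom = g₁ ≫ M.hom := by rw [← Over.w cl, ← Category.assoc, ← e, Category.assoc]
    have hsame : ∀ (g : Z ⟶ M.left) (hg : g ≫ M.hom = g₁ ≫ M.hom),
        RedSub.SamePoints G (g₁ ≫ M.hom) (Groth.Agent.ToriSch.bcTo g hg h) M h g := by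
      intro g hg X y gam
      constructor
      · rintro ⟨q, hq1, hq2⟩
        refine ⟨q ≫ pullback.fst H.hom g, ?_, ?_⟩
        · rw [Category.assoc, pullback.condition, ← hq1, Category.assoc]
          rfl
        · rw [← hq2, Groth.Agent.ToriSch.bcTo_left_fst, Category.assoc]
      · rintro ⟨q, hq1, hq2⟩
        refine ⟨pullback.lift q y hq1, pullback.lift_snd _ _ _, ?_⟩
        rw [Groth.Agent.ToriSch.bcTo_left_fst, pullback.lift_fst_assoc, hq2]
    exact hC Z (g₁ ≫ M.hom) _ _ _ _ g₁ g₂ (isTypeR_bcTo g₁ rfl hh) (isTypeR_bcTo g₂ hf hh) rfl hf (hsame _ rfl)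
      (hsame _ hf) e
  refine ⟨Over.homMk (EffectiveEpi.desc cl.left cl'.left fun g₁ g₂ e => key g₁ g₂ e) ?_,
    Over.OverMorphism.ext (EffectiveEpi.fac cl.left cl'.left fun g₁ g₂ e => key g₁ g₂ e)⟩
  rw [← cancel_epi cl.left, EffectiveEpi.fac_assoc, Over.w cl', Over.w cl]



/-- Let G be a reductive S-group and (M, h : H ⟶ G_M) a representing pair for the functor of subgroups
of type (RC) of G (type (R) with closed root sets on the geometric fibres; every such subgroup of a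
base change G_{S'} has the same points as the pullback of h along exactly one S-morphism S' ⟶ M).
Suppose (Cl₁, cl₁ : M ⟶ Cl₁) and (Cl₂, cl₂ : M ⟶ Cl₂) are two pairs with the following properties:
Clᵢ finite and etale over S; clᵢ smooth, surjective, quasi-compact, locally of finite presentation
and locally quasi-projective with connected geometric fibres; and two subgroups of type (RC) of
G_{S'} with classifying maps g₁, g₂ : S' ⟶ M have the same image under clᵢ if and only if at every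
point of S' their geometric fibres are conjugate under a point of the geometric fibre of G. Then
there is exactly one S-isomorphism e : Cl₁ ≅ Cl₂ with cl₁ ≫ e.hom = cl₂. -/
theorem result {S : Scheme.{u}} (G : Over S) [GrpObj G] (hG : Red.IsReductive G)
    (M : Over S) (H : Over M.left) [GrpObj H] (h : H ⟶ Red.bc M.hom G) (hh : RedSub.IsTypeR h)
    (hRC : (∀ (s : ↥M.left) (D' : Red.SplitRed (Red.geomFibre s (Red.bc M.hom G))) (t' : D'.T ⟶ Red.geomFibre s _),
        t' ≫ (Over.pullback (Red.geomPt s)).map h = D'.i →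
        ∀ a b c : D'.idx, (∃ v, v ≫ (Over.pullback (Red.geomPt s)).map h = D'.u a) →
          (∃ v, v ≫ (Over.pullback (Red.geomPt s)).map h = D'.u b) → D'.P.root a + D'.P.root b = D'.P.root c →
          ∃ v, v ≫ (Over.pullback (Red.geomPt s)).map h = D'.u c))
    (huniv : ∀ (S' : Scheme.{u}) (f : S' ⟶ S) (H' : Over S') [GrpObj H'] (h' : H' ⟶ Red.bc f G), RedSub.IsTypeR h' →
        (∀ (s : ↥S') (D' : Red.SplitRed (Red.geomFibre s (Red.bc f G))) (t' : D'.T ⟶ Red.geomFibre s _),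
        t' ≫ (Over.pullback (Red.geomPt s)).map h' = D'.i →
        ∀ a b c : D'.idx, (∃ v, v ≫ (Over.pullback (Red.geomPt s)).map h' = D'.u a) →
          (∃ v, v ≫ (Over.pullback (Red.geomPt s)).map h' = D'.u b) → D'.P.root a + D'.P.root b = D'.P.root c →
          ∃ v, v ≫ (Over.pullback (Red.geomPt s)).map h' = D'.u c) →
        ∃! g : S' ⟶ M.left, g ≫ M.hom = f ∧ RedSub.SamePoints G f h' M h g) 
    (Cl₁ : Over S) (cl₁ : M ⟶ Cl₁) (Cl₂ : Over S) (cl₂ : M ⟶ Cl₂)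
    (hCl₁ : IsFinite Cl₁.hom ∧ Etale Cl₁.hom ∧ Smooth cl₁.left ∧ Surjective cl₁.left ∧
      QuasiCompact cl₁.left ∧ LocallyOfFinitePresentation cl₁.left ∧ RedSub.IsLocallyQuasiProjective (Over.mk cl₁.left) ∧
      (∀ c : ↥Cl₁.left, ConnectedSpace ↥(Red.geomFibre c (Over.mk cl₁.left)).left) ∧
      ∀ (S' : Scheme.{u}) (f : S' ⟶ S) (H₁ H₂ : Over S') [GrpObj H₁] [GrpObj H₂] (h₁ : H₁ ⟶ Red.bc f G)
        (h₂ : H₂ ⟶ Red.bc f G) (g₁ g₂ : S' ⟶ M.left), RedSub.IsTypeR h₁ → RedSub.IsTypeR h₂ →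
        g₁ ≫ M.hom = f → g₂ ≫ M.hom = f → RedSub.SamePoints G f h₁ M h g₁ → RedSub.SamePoints G f h₂ M h g₂ →
        (g₁ ≫ cl₁.left = g₂ ≫ cl₁.left ↔
          ∀ s : ↥S', ∃ gpt : 𝟙_ _ ⟶ Red.geomFibre s (Red.bc f G),
            RedSub.ConjEq ((Over.pullback (Red.geomPt s)).map h₁) ((Over.pullback (Red.geomPt s)).map h₂) gpt))
    (hCl₂ : IsFinite Cl₂.hom ∧ Etale Cl₂.hom ∧ Smooth cl₂.left ∧ Surjective cl₂.left ∧
      QuasiCompact cl₂.left ∧ LocallyOfFinitePresentation cl₂.left ∧ RedSub.IsLocallyQuasiProjective (Over.mk cl₂.left) ∧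
      (∀ c : ↥Cl₂.left, ConnectedSpace ↥(Red.geomFibre c (Over.mk cl₂.left)).left) ∧
      ∀ (S' : Scheme.{u}) (f : S' ⟶ S) (H₁ H₂ : Over S') [GrpObj H₁] [GrpObj H₂] (h₁ : H₁ ⟶ Red.bc f G)
        (h₂ : H₂ ⟶ Red.bc f G) (g₁ g₂ : S' ⟶ M.left), RedSub.IsTypeR h₁ → RedSub.IsTypeR h₂ →
        g₁ ≫ M.hom = f → g₂ ≫ M.hom = f → RedSub.SamePoints G f h₁ M h g₁ → RedSub.SamePoints G f h₂ M h g₂ →
        (g₁ ≫ cl₂.left = g₂ ≫ cl₂.left ↔
          ∀ s : ↥S', ∃ gpt : 𝟙_ _ ⟶ Red.geomFibre s (Red.bc f G),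
            RedSub.ConjEq ((Over.pullback (Red.geomPt s)).map h₁) ((Over.pullback (Red.geomPt s)).map h₂) gpt)) :
    ∃! e : Cl₁ ≅ Cl₂, cl₁ ≫ e.hom = cl₂ := by
  haveI := hG.1; haveI := hG.2.1
  obtain ⟨-, -, hs₁, hsj₁, hq₁, -, -, -, hc₁⟩ := hCl₁
  obtain ⟨-, -, hs₂, hsj₂, hq₂, -, -, -, hc₂⟩ := hCl₂
  haveI := hs₁; haveI := hsj₁; haveI := hq₁; haveI := hs₂; haveI := hsj₂; haveI := hq₂
  obtain ⟨a, ha⟩ := exists_comp_eq hh cl₁ cl₂ (fun S' f H₁ H₂ _ _ h₁ h₂ g₁ g₂ r₁ r₂ e₁ e₂ p₁ p₂ e =>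
    (hc₂ S' f H₁ H₂ h₁ h₂ g₁ g₂ r₁ r₂ e₁ e₂ p₁ p₂).2 ((hc₁ S' f H₁ H₂ h₁ h₂ g₁ g₂ r₁ r₂ e₁ e₂ p₁ p₂).1 e))
  obtain ⟨b, hb⟩ := exists_comp_eq hh cl₂ cl₁ (fun S' f H₁ H₂ _ _ h₁ h₂ g₁ g₂ r₁ r₂ e₁ e₂ p₁ p₂ e =>
    (hc₁ S' f H₁ H₂ h₁ h₂ g₁ g₂ r₁ r₂ e₁ e₂ p₁ p₂).2 ((hc₂ S' f H₁ H₂ h₁ h₂ g₁ g₂ r₁ r₂ e₁ e₂ p₁ p₂).1 e))
  haveI : Epi cl₁ := Over.epi_of_epi_left cl₁
  haveI : Epi cl₂ := Over.epi_of_epi_left cl₂
  refine ⟨⟨a, b, by rw [← cancel_epi cl₁, ← Category.assoc, ha, hb, Category.comp_id],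
    by rw [← cancel_epi cl₂, ← Category.assoc, hb, ha, Category.comp_id]⟩, ha, fun e he => Iso.ext ?_⟩
  rw [← cancel_epi cl₁, he, ha]

end Groth.Agent.S12104
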