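import Groth.Statements.S12107
import Groth.Agent.TopLib.ClosedCompl
-- import your own Groth.Agent.* helpers here

set_option autoImplicit false
set_option linter.style.haveILetI false
universe u
open CategoryTheory
open SGA4

namespace Groth.Agent.S12107

open CategoryTheory.Limits in
/-- In the topos of sheaves of sets on a small site, let U be an open (a subobject of the final object)
and, for an object X, let X_CU be the pushout of U ← U × X → X along the two projections. For a
morphism m : X ⟶ X' let k : X_CU ⟶ X'_CU be the induced morphism (compatible with the maps from U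
and with m). Then the square with sides m, k and the canonical maps X ⟶ X_CU, X' ⟶ X'_CU is
cartesian if and only if id_U × m : U × X ⟶ U × X' is an isomorphism (that is, m restricts to an
isomorphism over U). -/
theorem result {C : Type u} [SmallCategory C] (J : GrothendieckTopology C)
    (U : Sheaf J (Type u)) (hU : SGA4.IsOpen U) {X X' : Sheaf J (Type u)} (m : X ⟶ X')
    (k : pushout (prod.fst : U ⨯ X ⟶ U) (prod.snd : U ⨯ X ⟶ X) ⟶
      pushout (prod.fst : U ⨯ X' ⟶ U) (prod.snd : U ⨯ X' ⟶ X'))
    (hk₁ : pushout.inl (prod.fst : U ⨯ X ⟶ U) (prod.snd : U ⨯ X ⟶ X) ≫ k =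
      pushout.inl (prod.fst : U ⨯ X' ⟶ U) (prod.snd : U ⨯ X' ⟶ X'))
    (hk₂ : pushout.inr (prod.fst : U ⨯ X ⟶ U) (prod.snd : U ⨯ X ⟶ X) ≫ k =
      m ≫ pushout.inr (prod.fst : U ⨯ X' ⟶ U) (prod.snd : U ⨯ X' ⟶ X')) :
    IsPullback m (pushout.inr (prod.fst : U ⨯ X ⟶ U) (prod.snd : U ⨯ X ⟶ X))
        (pushout.inr (prod.fst : U ⨯ X' ⟶ U) (prod.snd : U ⨯ X' ⟶ X')) k ↔
      IsIso (prod.map (𝟙 U) m) := by
  let F := Over.star U ⋙ Over.forget U
  haveI : PreservesLimitsOfShape WalkingCospan (Over.star U) :=
    (Over.forgetAdjStar U).rightAdjoint_preservesLimits.preservesLimitsOfShape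
  have hmap : ∀ {A B : Sheaf J (Type u)} (q : A ⟶ B), IsIso ((Over.star U).map q) ↔ IsIso (prod.map (𝟙 U) q) :=
    fun q => by
      refine ⟨fun _ => ?_, fun hq => ?_⟩
      · have : IsIso ((Over.forget U).map ((Over.star U).map q)) := inferInstance
        simp at this
        exact this
      · haveI : IsIso ((Over.forget U).map ((Over.star U).map q)) := by
          simp
          exact hq
        exact isIso_of_reflects_iso _ (Over.forget U)
  let r := pushout.inr (prod.fst : U ⨯ X ⟶ U) (prod.snd : U ⨯ X ⟶ X)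
  let r' := pushout.inr (prod.fst : U ⨯ X' ⟶ U) (prod.snd : U ⨯ X' ⟶ X')
  have hcl : ∀ Y : Sheaf J (Type u), IsIso (prod.fst :
      U ⨯ pushout (prod.fst : U ⨯ Y ⟶ U) (prod.snd : U ⨯ Y ⟶ Y) ⟶ U) := fun Y => by
    haveI h : IsIso (prod.fst : U ⨯ TopLib.clObj U Y ⟶ U) := TopLib.closedCompl_clObj U Y
    let e := (TopLib.isPushout_cl hU Y).isoPushout
    rw [show (prod.fst : U ⨯ pushout (prod.fst : U ⨯ Y ⟶ U) (prod.snd : U ⨯ Y ⟶ Y) ⟶ U) =
      prod.map (𝟙 U) e.inv ≫ prod.fst by simp]
    infer_instance
  haveI hk : IsIso ((Over.star U).map k) := (hmap k).2 (by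
    haveI := hcl X
    haveI := hcl X'
    exact IsIso.of_isIso_fac_right (g := prod.map (𝟙 U) k) (f := prod.fst) (h := prod.fst) (by simp))
  constructor
  · intro h
    exact (hmap m).1 (h.map (Over.star U)).isIso_fst_of_isIso
  · intro hm
    let c : X ⟶ pullback r' k := pullback.lift m r hk₂.symm
    haveI := (hmap m).2 hm
    haveI : IsIso ((Over.star U).map (pullback.fst r' k)) :=
      ((IsPullback.of_hasPullback r' k).map (Over.star U)).isIso_fst_of_isIso
    have h₁ : IsIso ((Over.star U).map c) :=
      IsIso.of_isIso_fac_right (g := (Over.star U).map c) (f := (Over.star U).map (pullback.fst r' k))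
        (h := (Over.star U).map m)
        (((Over.star U).map_comp _ _).symm.trans (congrArg _ (pullback.lift_fst _ _ _)))
    let L := TopLib.clFun U
    let adj := TopLib.clAdj U
    have hr : ∀ Y : Sheaf J (Type u),
        IsIso (L.map (pushout.inr (prod.fst : U ⨯ Y ⟶ U) (prod.snd : U ⨯ Y ⟶ Y))) := fun Y => by
      have he : adj.unit.app Y = TopLib.clη U Y := by
        apply Sheaf.hom_ext
        show TopLib.cmη U Y.obj ≫ _ = TopLib.cmη U Y.obj ≫ toSheafify J _
        refine congrArg (TopLib.cmη U Y.obj ≫ ·) ?_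
        rw [Adjunction.homEquiv_unit]
        simp [Functor.FullyFaithful.homEquiv]
        rfl
      haveI : IsIso (L.map (TopLib.clη U Y)) := by
        rw [← he]
        exact inferInstanceAs (IsIso ((TopLib.clFun U).map ((TopLib.clAdj U).unit.app Y)))
      rw [← (TopLib.isPushout_cl hU Y).inr_isoPushout_hom, L.map_comp]
      infer_instance
    haveI := TopLib.preservesFiniteLimits_reflector L adj
    haveI := hr X'
    haveI := hr X
    haveI : IsIso (L.map (pullback.snd r' k)) :=
      ((IsPullback.of_hasPullback r' k).map L).isIso_snd_of_isIso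
    have h₂ : IsIso (L.map c) :=
      IsIso.of_isIso_fac_right (g := L.map c) (f := L.map (pullback.snd r' k)) (h := L.map r)
        ((L.map_comp _ _).symm.trans (congrArg _ (pullback.lift_snd _ _ _)))
    haveI := TopLib.isIso_of_open_closed L adj c h₁ h₂
    exact IsPullback.of_iso_pullback ⟨hk₂.symm⟩ (asIso c) (pullback.lift_fst _ _ _) (pullback.lift_snd _ _ _)

end Groth.Agent.S12107
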