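import Groth.Statements.S12108
import Groth.Agent.TopLib.SheafCoprod
-- import your own Groth.Agent.* helpers here

set_option autoImplicit false
set_option linter.style.haveILetI false
open CategoryTheory CategoryTheory.Limits
universe u
open SGA4

namespace Groth.Agent.S12108

/-- Let `(C, J)` be a small site, `X` an object and `s i : Y i ⟶ X` a family of morphisms indexed by a
small type. The following are equivalent: (i) the family is covering, for every `i` the diagonal of
presheaves `h_{Y i} ⟶ h_{Y i} ×_{h_X} h_{Y i}` becomes an isomorphism under the associated-sheaf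
functor, and for all `i ≠ j` the sheaf associated to the presheaf `h_{Y i} ×_{h_X} h_{Y j}` is an
initial object; (ii) the associated sheaf of `X`, with the maps induced by the `s i`, is a coproduct
of the associated sheaves of the `Y i` in sheaves of sets. -/
theorem result
    {C : Type u} [SmallCategory C] (J : GrothendieckTopology C) {X : C} {ι : Type u}
    (Y : ι → C) (s : ∀ i, Y i ⟶ X) :
    (Sieve.ofArrows Y s ∈ J X ∧
      (∀ i, IsIso ((presheafToSheaf J (Type u)).map (pullback.diagonal (yoneda.map (s i))))) ∧
      (∀ i j, i ≠ j → Nonempty (IsInitial ((presheafToSheaf J (Type u)).obj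
        (pullback (yoneda.map (s i)) (yoneda.map (s j))))))) ↔
    Nonempty (IsColimit (Cofan.mk ((presheafToSheaf J (Type u)).obj (yoneda.obj X))
      (fun i => (presheafToSheaf J (Type u)).map (yoneda.map (s i))))) := by
  rw [TopLib.isColimit_sheafify_iff]
  have hel : ∀ i j (W : C) (g : W ⟶ Y i) (h : W ⟶ Y j), g ≫ s i = h ≫ s j →
      ∃ p : (pullback (yoneda.map (s i)) (yoneda.map (s j))).obj (Opposite.op W),
        (pullback.fst (yoneda.map (s i)) (yoneda.map (s j))).app _ p = g ∧
        (pullback.snd (yoneda.map (s i)) (yoneda.map (s j))).app _ p = h := fun i j W g h e =>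
    Types.exists_of_isPullback ((IsPullback.of_hasPullback (yoneda.map (s i)) (yoneda.map (s j))).map
      ((evaluation _ _).obj (Opposite.op W))) g h e
  have hw : ∀ i j (W : Cᵒᵖ) (p : (pullback (yoneda.map (s i)) (yoneda.map (s j))).obj W),
      (pullback.fst (yoneda.map (s i)) (yoneda.map (s j))).app W p ≫ s i =
        (pullback.snd (yoneda.map (s i)) (yoneda.map (s j))).app W p ≫ s j := fun i j W p =>
    ConcreteCategory.congr_hom (NatTrans.congr_app
      (pullback.condition (f := yoneda.map (s i)) (g := yoneda.map (s j))) W) p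
  constructor
  · rintro ⟨h₁, h₂, h₃⟩
    refine ⟨h₁, fun i W g h e => ?_, fun i j hij W g h e => ?_⟩
    · have hW := (J.W_iff (pullback.diagonal (yoneda.map (s i)))).2 (h₂ i)
      rw [GrothendieckTopology.W_iff_isLocallyBijective] at hW
      obtain ⟨p, hp₁, hp₂⟩ := hel i i W g h e
      haveI := hW.2
      refine ⟨_, Presheaf.imageSieve_mem J (pullback.diagonal (yoneda.map (s i))) p, fun V u ⟨k, hk⟩ => ?_⟩
      have e₁ := congrArg ((pullback.fst (yoneda.map (s i)) (yoneda.map (s i))).app _) hk
      have e₂ := congrArg ((pullback.snd (yoneda.map (s i)) (yoneda.map (s i))).app _) hk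
      have d₁ := ConcreteCategory.congr_hom (NatTrans.congr_app
        (pullback.diagonal_fst (yoneda.map (s i))) (Opposite.op V)) k
      have d₂ := ConcreteCategory.congr_hom (NatTrans.congr_app
        (pullback.diagonal_snd (yoneda.map (s i))) (Opposite.op V)) k
      replace e₁ := d₁.symm.trans (e₁.trans (ConcreteCategory.congr_hom
        ((pullback.fst (yoneda.map (s i)) (yoneda.map (s i))).naturality u.op) p))
      replace e₂ := d₂.symm.trans (e₂.trans (ConcreteCategory.congr_hom
        ((pullback.snd (yoneda.map (s i)) (yoneda.map (s i))).naturality u.op) p))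
      rw [← hp₁, ← hp₂]
      exact e₁.symm.trans e₂
    · exact (TopLib.isInitial_sheafify_iff J _).1 (h₃ i j hij) W (hel i j W g h e).choose
  · rintro ⟨h₁, h₂, h₃⟩
    refine ⟨h₁, fun i => (J.W_iff _).1 ?_, fun i j hij => (TopLib.isInitial_sheafify_iff J _).2
      fun W p => h₃ i j hij W _ _ (hw i j _ p)⟩
    rw [GrothendieckTopology.W_iff_isLocallyBijective]
    refine ⟨⟨fun {W} a b e => ?_⟩, ⟨fun {W} p => ?_⟩⟩
    · have d : ∀ k, (pullback.fst (yoneda.map (s i)) (yoneda.map (s i))).app W
          ((pullback.diagonal (yoneda.map (s i))).app W k) = k := fun k =>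
        ConcreteCategory.congr_hom (NatTrans.congr_app (pullback.diagonal_fst (yoneda.map (s i))) W) k
      have hab : a = b := (d a).symm.trans ((congrArg _ e).trans (d b))
      exact J.superset_covering (fun V u _ => by rw [hab]; rfl) (J.top_mem _)
    · obtain ⟨S, hS, hS'⟩ := h₂ i _ _ _ (hw i i _ p)
      refine J.superset_covering (fun V u hu => ?_) hS
      refine ⟨u ≫ (pullback.fst (yoneda.map (s i)) (yoneda.map (s i))).app _ p, ?_⟩
      refine Types.ext_of_isPullback ((IsPullback.of_hasPullback (yoneda.map (s i)) (yoneda.map (s i))).map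
        ((evaluation _ _).obj (Opposite.op V))) ?_ ?_
      · exact (ConcreteCategory.congr_hom (NatTrans.congr_app (pullback.diagonal_fst (yoneda.map (s i))) _) _).trans
          (ConcreteCategory.congr_hom ((pullback.fst (yoneda.map (s i)) (yoneda.map (s i))).naturality u.op) p).symm
      · exact ((ConcreteCategory.congr_hom (NatTrans.congr_app (pullback.diagonal_snd (yoneda.map (s i))) _) _).trans
          (hS' u hu)).trans
          (ConcreteCategory.congr_hom ((pullback.snd (yoneda.map (s i)) (yoneda.map (s i))).naturality u.op) p).symm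

end Groth.Agent.S12108
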