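import Groth.Statements.S12109
import Groth.Agent.FibSiteLib.Lan
-- import your own Groth.Agent.* helpers here

set_option autoImplicit false
open CategoryTheory CategoryTheory.Limits
universe u
open SGA4

open Opposite Groth.FibSiteL
namespace Groth.Agent.S12109

section
variable {C : Type u} [SmallCategory C] {C' : Type u} [SmallCategory C'] (u : C ⥤ C')

lemma fullFaithful
    (hb : ∀ (F G : Cᵒᵖ ⥤ Type u), IsIndObject F → IsIndObject G →
        Function.Bijective (fun φ : F ⟶ G => (u.op.lan : (Cᵒᵖ ⥤ Type u) ⥤ (C'ᵒᵖ ⥤ Type u)).map φ)) :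
    u.Full ∧ u.Faithful := by
  have key : ∀ X Y : C, Function.Bijective (fun f : X ⟶ Y => u.map f) := by
    intro X Y
    let τ : yoneda.obj Y ⟶ u.op ⋙ yoneda.obj (u.obj Y) :=
      yonedaEquiv.symm (show (u.op ⋙ yoneda.obj (u.obj Y)).obj (op Y) from 𝟙 (u.obj Y))
    have hτ : ∀ (U : C) (x : U ⟶ Y), τ.app (op U) x = u.map x := fun U x => by
      change u.map x ≫ 𝟙 (u.obj Y) = _
      exact Category.comp_id _
    let φ := (((u.op.lanAdjunction (Type u)).homEquiv (yoneda.obj Y) (yoneda.obj (u.obj Y))).symm τ).app (op (u.obj X))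
    have hφ : ∀ (U : C) (g : u.obj X ⟶ u.obj U) (x : U ⟶ Y), φ (lanGen u (yoneda.obj Y) g x) = g ≫ u.map x :=
      fun U g x => by
        refine (lanGen_homEquiv_symm u (yoneda.obj Y) τ g x).trans ?_
        rw [hτ]; rfl
    have hφb : Function.Bijective φ := by
      have hgen : ∀ z, ∃ g : u.obj X ⟶ u.obj Y, lanGen u (yoneda.obj Y) g (𝟙 Y) = z := fun z => by
        obtain ⟨U, g, x, rfl⟩ := lanGen_surjective u _ z
        refine ⟨g ≫ u.map x, ?_⟩
        rw [← lanGen_comp]
        exact congrArg _ (Category.comp_id x)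
      refine ⟨fun a b h => ?_, fun g => ⟨lanGen u (yoneda.obj Y) g (𝟙 Y), by rw [hφ]; simp⟩⟩
      obtain ⟨g, rfl⟩ := hgen a
      obtain ⟨g', rfl⟩ := hgen b
      rw [hφ, hφ] at h
      simp only [CategoryTheory.Functor.map_id, Category.comp_id] at h
      rw [h]
    let Q : C'ᵒᵖ ⥤ Type u := u.op.lan.obj (yoneda.obj Y)
    let p : (u.op.lan.obj (yoneda.obj X) ⟶ Q) ≃ (u.op ⋙ Q).obj (op X) :=
      ((u.op.lanAdjunction (Type u)).homEquiv (yoneda.obj X) Q).trans yonedaEquiv
    have := hφb.comp (p.bijective.comp ((hb _ _ (isIndObject_yoneda X) (isIndObject_yoneda Y)).comp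
      (yonedaEquiv (F := yoneda.obj Y) (X := X)).symm.bijective))
    refine (?_ : _ = fun f : X ⟶ Y => u.map f) ▸ this
    funext f
    change φ (p (u.op.lan.map (yonedaEquiv.symm f))) = u.map f
    have hp : p (u.op.lan.map (yonedaEquiv.symm f)) =
        (u.op.lan.map (yonedaEquiv.symm f)).app (op (u.obj X)) (lanGen u (yoneda.obj X) (𝟙 _) (𝟙 X)) := by
      dsimp only [lanGen, p]
      simp only [Equiv.trans_apply, yonedaEquiv_apply, Adjunction.homEquiv_unit, Functor.lanAdjunction_unit,
        op_id, CategoryTheory.Functor.map_id]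
      rfl
    rw [hp, lanGen_natural, hφ, Category.id_comp, ← yonedaEquiv_apply, Equiv.apply_symm_apply]
  exact ⟨⟨fun {X Y} f => (key X Y).2 f⟩, ⟨fun {X Y} f g h => (key X Y).1 h⟩⟩

variable (hret : ∀ X' : C', ∃ (X : C) (i : X' ⟶ u.obj X) (r : u.obj X ⟶ X'), i ≫ r = 𝟙 X')

include hret in
lemma isIso_counit [u.Full] [u.Faithful] (G' : C'ᵒᵖ ⥤ Type u) :
    IsIso ((u.op.lanAdjunction (Type u)).counit.app G') := by
  set c := (u.op.lanAdjunction (Type u)).counit.app G'
  have h := u.op.lanUnit_app_whiskerLeft_lanAdjunction_counit_app G'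
  haveI : IsIso (u.op.lanUnit.app (u.op ⋙ G')) := inferInstance
  haveI : IsIso (𝟙 (u.op ⋙ G')) := IsIso.id _
  haveI hi : IsIso (Functor.whiskerLeft u.op c) := @IsIso.of_isIso_fac_left _ _ _ _ _ _ _ _ (by assumption) (IsIso.id _) h
  have hu : ∀ X : C, Function.Bijective (c.app (op (u.obj X))) := fun X =>
    ConcreteCategory.bijective_of_isIso ((Functor.whiskerLeft u.op c).app (op X))
  haveI : ∀ X : C'ᵒᵖ, IsIso (c.app X) := fun X => by
    obtain ⟨X', rfl⟩ : ∃ Y, op Y = X := ⟨X.unop, rfl⟩
    obtain ⟨W, i, r, hir⟩ := hret X'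
    rw [isIso_iff_bijective]
    have hid : ∀ (P : C'ᵒᵖ ⥤ Type u) (z : P.obj (op X')), P.map i.op (P.map r.op z) = z := fun P z => by
      rw [← Functor.map_comp_apply, ← op_comp, hir, op_id, Functor.map_id_apply]
    refine ⟨fun a b hab => ?_, fun y => ?_⟩
    · rw [← hid _ a, ← hid _ b]
      refine congrArg _ ((hu W).1 ?_)
      rw [NatTrans.naturality_apply, NatTrans.naturality_apply, hab]
    · obtain ⟨z, hz⟩ := (hu W).2 (G'.map r.op y)
      exact ⟨_, (NatTrans.naturality_apply c i.op z).trans ((congrArg _ hz).trans (hid _ y))⟩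
  exact NatIso.isIso_of_isIso_app c

include hret in
lemma isInd [u.Full] [u.Faithful] (G' : C'ᵒᵖ ⥤ Type u) (hG' : IsIndObject G') :
    IsIndObject (u.op ⋙ G') := by
  haveI := hG'.isFiltered
  let σ : ∀ {X' : C'} {X : C}, (u.obj X ⟶ X') → (yoneda.obj X' ⟶ G') → (yoneda.obj X ⟶ u.op ⋙ G') :=
    fun r η => yonedaEquiv.symm (show (u.op ⋙ G').obj (op _) from G'.map r.op (yonedaEquiv η))
  let el : CostructuredArrow yoneda (u.op ⋙ G') → CostructuredArrow yoneda G' := fun a =>
    CostructuredArrow.mk (Y := u.obj a.left) (yonedaEquiv.symm (show G'.obj (op (u.obj a.left)) from yonedaEquiv (F := u.op ⋙ G') (X := a.left) a.hom))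
  have hw : ∀ {a : CostructuredArrow yoneda (u.op ⋙ G')} {k : CostructuredArrow yoneda G'} (f : el a ⟶ k) {X : C}
      (i : k.left ⟶ u.obj X) (r : u.obj X ⟶ k.left) (_ : i ≫ r = 𝟙 _) (g : a.left ⟶ X) (_ : u.map g = f.left ≫ i),
      yoneda.map g ≫ σ r k.hom = a.hom := fun {a k} f {X} i r hir g hg => by
    apply yonedaEquiv.injective
    rw [← yonedaEquiv_naturality, Equiv.apply_symm_apply]
    change G'.map (u.map g).op (G'.map r.op _) = _
    rw [← Functor.map_comp_apply, ← op_comp, hg, Category.assoc, hir, Category.comp_id]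
    have := congrArg yonedaEquiv (CostructuredArrow.w f)
    rw [← yonedaEquiv_naturality] at this
    exact this.trans (Equiv.apply_symm_apply _ _)
  haveI : IsFilteredOrEmpty (CostructuredArrow yoneda (u.op ⋙ G')) := by
    refine ⟨fun a b => ?_, fun a b p q => ?_⟩
    · let k := IsFiltered.max (el a) (el b)
      obtain ⟨X, i, r, hir⟩ := hret k.left
      obtain ⟨g, hg⟩ := u.map_surjective ((IsFiltered.leftToMax (el a) (el b)).left ≫ i)
      obtain ⟨g', hg'⟩ := u.map_surjective ((IsFiltered.rightToMax (el a) (el b)).left ≫ i)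
      exact ⟨CostructuredArrow.mk (σ r k.hom), CostructuredArrow.homMk g (hw _ i r hir g hg),
        CostructuredArrow.homMk g' (hw _ i r hir g' hg'), trivial⟩
    · have hm : ∀ (p : a ⟶ b), yoneda.map (u.map p.left) ≫ (el b).hom = (el a).hom := fun p => by
        apply yonedaEquiv.injective
        rw [← yonedaEquiv_naturality]
        change G'.map (u.map p.left).op (yonedaEquiv (yonedaEquiv.symm _)) = yonedaEquiv (yonedaEquiv.symm _)
        rw [Equiv.apply_symm_apply, Equiv.apply_symm_apply]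
        have := congrArg yonedaEquiv (CostructuredArrow.w p)
        rw [← yonedaEquiv_naturality] at this
        exact this
      let P : el a ⟶ el b := CostructuredArrow.homMk (u.map p.left) (hm p)
      let Q : el a ⟶ el b := CostructuredArrow.homMk (u.map q.left) (hm q)
      let k := IsFiltered.coeq P Q
      let c := IsFiltered.coeqHom P Q
      obtain ⟨X, i, r, hir⟩ := hret k.left
      obtain ⟨g, hg⟩ := u.map_surjective (c.left ≫ i)
      refine ⟨CostructuredArrow.mk (σ r k.hom), CostructuredArrow.homMk g (hw c i r hir g hg), ?_⟩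
      apply CostructuredArrow.hom_ext
      apply u.map_injective
      have hc : u.map p.left ≫ c.left = u.map q.left ≫ c.left :=
        congrArg CommaMorphism.left (IsFiltered.coeq_condition P Q)
      change u.map (p.left ≫ g) = u.map (q.left ≫ g)
      rw [u.map_comp, u.map_comp, hg, reassoc_of% hc]
  haveI : IsFiltered (CostructuredArrow yoneda (u.op ⋙ G')) := by
    obtain ⟨k⟩ := IsFiltered.nonempty (C := CostructuredArrow yoneda G')
    obtain ⟨X, i, r, hir⟩ := hret k.left
    exact { nonempty := ⟨CostructuredArrow.mk (σ r k.hom)⟩ }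
  haveI := essentiallySmallSelf (CostructuredArrow yoneda (u.op ⋙ G'))
  haveI : FinallySmall.{u} (CostructuredArrow yoneda (u.op ⋙ G')) := finallySmall_of_essentiallySmall _
  exact isIndObject_of_isFiltered_of_finallySmall _

end


/-- Let `u : C ⥤ C'` be a functor between small categories and `u_!` the left Kan extension functor on
presheaves of sets, whose restriction to ind-representable presheaves is the induced functor `Ind C
⥤ Ind C'`. Then `Ind(u)` is an equivalence — `u_!` is bijective on morphisms between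
ind-representable presheaves on `C` and every ind-representable presheaf on `C'` is isomorphic to
`u_! F` for some ind-representable `F` — if and only if `u` is full and faithful and every object of
`C'` is a retract (direct factor) of an object `u X`. -/
theorem result
    {C : Type u} [SmallCategory C] {C' : Type u} [SmallCategory C'] (u : C ⥤ C') :
    ((∀ (F G : Cᵒᵖ ⥤ Type u), IsIndObject F → IsIndObject G →
        Function.Bijective (fun φ : F ⟶ G => (u.op.lan : (Cᵒᵖ ⥤ Type u) ⥤ (C'ᵒᵖ ⥤ Type u)).map φ)) ∧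
      (∀ G' : C'ᵒᵖ ⥤ Type u, IsIndObject G' →
        ∃ F : Cᵒᵖ ⥤ Type u, IsIndObject F ∧
          Nonempty ((u.op.lan : (Cᵒᵖ ⥤ Type u) ⥤ (C'ᵒᵖ ⥤ Type u)).obj F ≅ G'))) ↔
    ((u.Full ∧ u.Faithful) ∧
      ∀ X' : C', ∃ (X : C) (i : X' ⟶ u.obj X) (r : u.obj X ⟶ X'), i ≫ r = 𝟙 X') := by
  constructor
  · rintro ⟨hb, hs⟩
    refine ⟨fullFaithful u hb, fun X' => ?_⟩
    obtain ⟨F, hF, ⟨e⟩⟩ := hs (yoneda.obj X') (isIndObject_yoneda X')
    obtain ⟨U, g, x, hx⟩ := lanGen_surjective u F (e.inv.app (op X') (𝟙 X'))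
    refine ⟨U, g, e.hom.app (op (u.obj U)) ((u.op.lanUnit.app F).app (op U) x), ?_⟩
    have h1 := congrArg (e.hom.app (op X')) hx
    dsimp only [lanGen] at h1
    rw [NatTrans.naturality_apply e.hom g.op, Iso.inv_hom_id_app_apply] at h1
    exact h1
  · rintro ⟨⟨_, _⟩, hret⟩
    haveI : IsIso (u.op.lanAdjunction (Type u)).unit := inferInstance
    let ff := (u.op.lanAdjunction (Type u)).fullyFaithfulLOfIsIsoUnit
    refine ⟨fun F G _ _ => ff.homEquiv.bijective, fun G' hG' => ⟨u.op ⋙ G', isInd u hret G' hG', ?_⟩⟩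
    haveI := isIso_counit u hret G'
    exact ⟨asIso ((u.op.lanAdjunction (Type u)).counit.app G')⟩

end Groth.Agent.S12109
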