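import Groth.Statements.S12112
import Groth.Agent.NumTrivLib.Transfer
import Groth.Agent.PnCohLib.HypSec

set_option autoImplicit false
universe u
open CategoryTheory CategoryTheory.Limits AlgebraicGeometry
open Pic13

namespace Groth.Agent.S12112

open HilbPolyLib NumTrivLib in
theorem transfer {k : Type u} [Field k] {n : ℕ} {X : Scheme.{u}} [X.Over (Spec (CommRingCat.of k))]
    [IsProper (X ↘ Spec (CommRingCat.of k))] (i : X ⟶ CohB1.ProjSpace n k) [IsClosedImmersion i]
    (hi : i ≫ CohB1.ProjSpace.toSpec n k = X ↘ Spec (CommRingCat.of k)) {F : X.Modules} (hF : Coh.IsCoh F)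
    (q : ℕ) (d : ℤ) :
    Module.finrank k (Coh.HH X (Pic13.twistOn k i F d) q) = hq k i F q d ∧
      (Subsingleton (Coh.HH X (Pic13.twistOn k i F d) q) ↔
        Subsingleton (Coh.HH (CohB1.ProjSpace n k) (tw k i F d) q)) := by
  obtain ⟨E⟩ := nonempty_HH_tw i hF q d
  let e := CurvLib.hIso (k := k) (swapIso F ((Scheme.Modules.pullback i).obj (Twist.twistProjSpace n k d))) q
  exact ⟨e.finrank_eq.trans (finrank_tw i hi hF q d), (e.toEquiv.trans E.toEquiv).subsingleton_congr⟩

/-- Let k be an algebraically closed field, i : X ⟶ P^n_k a closed k-immersion, O_X(1) = i^*O(1), and F,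
G coherent O_X-modules with a short exact sequence 0 → F(-1) → F → G → 0 and G m-regular. Then (i)
H^q(X, F(n')) = 0 for q ≥ 2 and n' ≥ m - q; (ii) h^1(F(n' - 1)) ≥ h^1(F(n')) for n' ≥ m - 1, h^1
being the dimension over k; (iii) H^1(X, F(n')) = 0 for n' ≥ (m - 1) + h^1(F(m - 1)); in particular
F is (m + h^1(F(m - 1)))-regular. (The published statement takes F(-1) → F given by a section of
O_X(1); the printed argument uses only the short exact sequence and its twists, so any short exact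
sequence of this shape is allowed here.) -/
theorem result (k : Type u) [Field k] [IsAlgClosed k] (n : ℕ) (X : Scheme.{u})
    [X.Over (Spec (CommRingCat.of k))] (i : X ⟶ CohB1.ProjSpace n k) [IsClosedImmersion i]
    (hi : i ≫ CohB1.ProjSpace.toSpec n k = X ↘ Spec (CommRingCat.of k))
    (F G : X.Modules) (hF : Coh.IsCoh F) (hG : Coh.IsCoh G)
    (f : Pic13.twistOn k i F (-1) ⟶ F) (g : F ⟶ G) (hfg : f ≫ g = 0) (hS : (ShortComplex.mk f g hfg).ShortExact)
    (m : ℤ) (hGm : Pic13.IsMRegular k i G m) :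
    (∀ (q : ℕ) (n' : ℤ), 2 ≤ q → m - q ≤ n' → Subsingleton (Coh.HH X (Pic13.twistOn k i F n') q)) ∧
    (∀ n' : ℤ, m - 1 ≤ n' →
      Module.finrank k (Coh.HH X (Pic13.twistOn k i F n') 1) ≤ Module.finrank k (Coh.HH X (Pic13.twistOn k i F (n' - 1)) 1)) ∧
    (∀ n' : ℤ, (m - 1) + (Module.finrank k (Coh.HH X (Pic13.twistOn k i F (m - 1)) 1) : ℤ) ≤ n' →
      Subsingleton (Coh.HH X (Pic13.twistOn k i F n') 1)) ∧
    Pic13.IsMRegular k i F (m + Module.finrank k (Coh.HH X (Pic13.twistOn k i F (m - 1)) 1)) := by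
  haveI := MumfordLib.isProper_projSpace (n := n) k
  haveI : IsProper (X ↘ Spec (CommRingCat.of k)) := hi ▸ (inferInstance : IsProper (i ≫ CohB1.ProjSpace n k ↘ Spec (CommRingCat.of k)))
  haveI := CurvLib.isNoetherian k (X := X)
  haveI := hF.1; haveI := hG.1
  have hFP := NumTrivLib.isCoh_push k i hF
  haveI := ProjClosedImmLib.preservesHomology_push i
  have hp := hS.map_of_exact (Coh.push i)
  obtain ⟨e⟩ := NumTrivLib.nonempty_tw_push i F (-1)
  let e₀ : CohB1.tensorMod ((Coh.push i).obj F) (Twist.twistProjSpace n k (-1)) ≅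
      (Coh.push i).obj (Pic13.twistOn k i F (-1)) := e ≪≫ (Coh.push i).mapIso (HilbPolyLib.swapIso _ _)
  let ι := e₀.hom ≫ (Coh.push i).map f
  haveI : Mono ((Coh.push i).map f) := hp.mono_f
  haveI : Mono ι := mono_comp _ _
  obtain ⟨c⟩ : Nonempty (cokernel ι ≅ (Coh.push i).obj G) :=
    ⟨cokernelEpiComp e₀.hom ((Coh.push i).map f) ≪≫
      (cokernelIsCokernel _).coconePointUniqueUpToIso hp.gIsCokernel⟩
  have hGc : Curv2.IsMRegular k n (cokernel ι) m := fun j hj _ =>
    SerreVanLib.subsingleton_HH_of_iso (HilbPolyLib.congrLeft c _) j ((transfer i hi hG j (m - j)).2.mp (hGm j hj))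
  have hfr : ∀ d, Module.finrank k (Coh.HH X (Pic13.twistOn k i F d) 1) = PnCohLib.h1 k ((Coh.push i).obj F) d :=
    fun d => (transfer i hi hF 1 d).1
  have h2 : ∀ (q : ℕ) (n' : ℤ), 2 ≤ q → m - q ≤ n' → Subsingleton (Coh.HH X (Pic13.twistOn k i F n') q) :=
    fun q n' hq hn' => (transfer i hi hF q n').2.mpr (PnCohLib.vanishing_two k _ ι hFP m hGc q hq n' hn')
  have h3 : ∀ n' : ℤ, (m - 1) + (Module.finrank k (Coh.HH X (Pic13.twistOn k i F (m - 1)) 1) : ℤ) ≤ n' →
      Subsingleton (Coh.HH X (Pic13.twistOn k i F n') 1) := fun n' hn' => by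
    rw [hfr] at hn'
    refine (transfer i hi hF 1 n').2.mpr ?_
    haveI := PnCohLib.finite_twist k _ hFP n' 1
    have hb := PnCohLib.h1_bound k _ ι hFP m hGc (n' - (m - 1)).toNat
    rw [Int.toNat_of_nonneg (by omega), add_sub_cancel, Nat.sub_eq_zero_of_le (by omega), Nat.le_zero] at hb
    exact Module.finrank_zero_iff.mp hb
  refine ⟨h2, fun n' hn' => ?_, h3, fun q hq => ?_⟩
  · rw [hfr, hfr]; exact PnCohLib.h1_le k _ ι hFP m hGc n' hn'
  · rcases (show q = 1 ∨ 2 ≤ q by omega) with rfl | h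
    · exact h3 _ (by push_cast; omega)
    · exact h2 q _ h (by omega)

end Groth.Agent.S12112
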