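import Groth.Statements.S12113
import Groth.Agent.TorsExtLib.Props

set_option autoImplicit false
set_option backward.isDefEq.respectTransparency false
universe u
open CategoryTheory CategoryTheory.Limits MonoidalCategory CartesianMonoidalCategory MonObj AlgebraicGeometry
open SGA7

open MonoidalCategory CartesianMonoidalCategory CategoryTheory.Limits
namespace Groth.Agent.S12113

/-- An fppf cover of `Y` with a lift to `X`. -/
def HasCover {S : Scheme.{u}} {X Y : Over S} (q : X ⟶ Y) : Prop :=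
  ∃ (T : Over S) (π : T ⟶ Y) (t : T ⟶ X), Flat π.left ∧ Surjective π.left ∧ LocallyOfFinitePresentation π.left ∧ t ≫ q = π

theorem hasCover_of_locallyTrivial {S : Scheme.{u}} {X Y : Over S} (q : X ⟶ Y)
    (h : NonAbH1.IsLocallyTrivialFor Scheme.fppfPrecoverage (Over.mk q.left : Over Y.left)) : HasCover q := by
  obtain ⟨T, hf, hs, hl, ⟨t⟩⟩ := TorsExtLib.exists_cover h
  have ht : t.left ≫ q.left = T.hom := Over.w t
  exact ⟨Over.mk (T.hom ≫ Y.hom), Over.homMk T.hom rfl,
    Over.homMk t.left (show t.left ≫ X.hom = T.hom ≫ Y.hom by rw [← Over.w q, reassoc_of% ht]),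
    hf, hs, hl, Over.OverMorphism.ext ht⟩

theorem epi_cover {S : Scheme.{u}} {T Y : Over S} (π : T ⟶ Y) [Flat π.left] [Surjective π.left]
    [LocallyOfFinitePresentation π.left] {Z : Over S} (a b : Y ⟶ Z) (h : π ≫ a = π ≫ b) : a = b := by
  ext1
  rw [← cancel_epi π.left]
  exact congrArg Over.Hom.left h

theorem cancel_cover {S : Scheme.{u}} {X Y Z : Over S} (q : X ⟶ Y) (hq : HasCover q) (a b : Y ⟶ Z)
    (h : q ≫ a = q ≫ b) : a = b := by
  obtain ⟨T, π, t, hf, hs, hl, rfl⟩ := hq
  haveI := hf; haveI := hs; haveI := hl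
  exact epi_cover (t ≫ q) a b (by rw [Category.assoc, h, Category.assoc])

theorem descend_cover {S : Scheme.{u}} {X Y Z : Over S} (q : X ⟶ Y) (hq : HasCover q) (d : X ⟶ Z)
    (hinv : ∀ (T : Over S) (a b : T ⟶ X), a ≫ q = b ≫ q → a ≫ d = b ≫ d) : ∃ c, q ≫ c = d := by
  obtain ⟨T, π, t, hf, hs, hl, hπ⟩ := hq
  haveI := hf; haveI := hs; haveI := hl
  have hl' : ∀ {W : Scheme.{u}} (g₁ g₂ : W ⟶ T.left), g₁ ≫ π.left = g₂ ≫ π.left →
      g₁ ≫ (t ≫ d).left = g₂ ≫ (t ≫ d).left := fun {W} g₁ g₂ e => by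
    let V : Over S := Over.mk (g₁ ≫ T.hom)
    let a : V ⟶ T := Over.homMk g₁ rfl
    let b : V ⟶ T := Over.homMk g₂ (show g₂ ≫ T.hom = g₁ ≫ T.hom by rw [← Over.w π, reassoc_of% e])
    have e' : a ≫ π = b ≫ π := Over.OverMorphism.ext e
    have h := hinv V (a ≫ t) (b ≫ t) (by rw [Category.assoc, Category.assoc, hπ, e'])
    rw [Category.assoc, Category.assoc] at h
    exact congrArg Over.Hom.left h
  let c : Y ⟶ Z := Over.homMk (EffectiveEpi.desc π.left _ hl') (by
    rw [← cancel_epi π.left, ← Category.assoc, EffectiveEpi.fac, Over.w, Over.w])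
  have hc : π ≫ c = t ≫ d := Over.OverMorphism.ext (EffectiveEpi.fac π.left _ hl')
  refine ⟨c, ?_⟩
  let p := pullback.fst q.left π.left
  let W : Over S := Over.mk (p ≫ X.hom)
  let pX : W ⟶ X := Over.homMk p rfl
  let r : W ⟶ T := Over.homMk (pullback.snd q.left π.left)
    (show pullback.snd q.left π.left ≫ T.hom = p ≫ X.hom by
      rw [← Over.w π, ← Over.w q, pullback.condition_assoc])
  have hr : pX ≫ q = r ≫ π := Over.OverMorphism.ext pullback.condition
  haveI : Flat pX.left := inferInstanceAs (Flat (pullback.fst q.left π.left))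
  haveI : Surjective pX.left := inferInstanceAs (Surjective (pullback.fst q.left π.left))
  haveI : LocallyOfFinitePresentation pX.left :=
    inferInstanceAs (LocallyOfFinitePresentation (pullback.fst q.left π.left))
  refine epi_cover pX _ _ ?_
  rw [reassoc_of% hr, hc]
  have h := hinv W (r ≫ t) pX (by rw [Category.assoc, hπ, hr])
  rwa [Category.assoc] at h

theorem hasCover_tensor {S : Scheme.{u}} {X Y X' Y' : Over S} (q : X ⟶ Y) (q' : X' ⟶ Y') (hq : HasCover q)
    (hq' : HasCover q') : HasCover (q ⊗ₘ q') := by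
  obtain ⟨T, π, t, hf, hs, hl, hπ⟩ := hq
  obtain ⟨T', π', t', hf', hs', hl', hπ'⟩ := hq'
  haveI := hf; haveI := hs; haveI := hl; haveI := hf'; haveI := hs'; haveI := hl'
  have sq1 : IsPullback (fst T T').left (π ▷ T').left π.left (fst Y T').left := by
    refine IsPullback.of_bot ?_ (by rw [← Over.comp_left, ← Over.comp_left, whiskerRight_fst])
      (TorsExtLib.isPullback_fst_snd Y T')
    have : (π ▷ T').left ≫ (snd Y T').left = (snd T T').left := by rw [← Over.comp_left, whiskerRight_snd]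
    rw [this, Over.w π]
    exact TorsExtLib.isPullback_fst_snd T T'
  have sq2 : IsPullback (snd Y T').left (Y ◁ π').left π'.left (snd Y Y').left := by
    refine IsPullback.of_bot ?_ (by rw [← Over.comp_left, ← Over.comp_left, whiskerLeft_snd])
      (TorsExtLib.isPullback_fst_snd Y Y').flip
    have : (Y ◁ π').left ≫ (fst Y Y').left = (fst Y T').left := by rw [← Over.comp_left, whiskerLeft_fst]
    rw [this, Over.w π']
    exact (TorsExtLib.isPullback_fst_snd Y T').flip
  haveI : Flat (π ▷ T').left := MorphismProperty.of_isPullback sq1 hf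
  haveI : Surjective (π ▷ T').left := MorphismProperty.of_isPullback sq1 hs
  haveI : LocallyOfFinitePresentation (π ▷ T').left := MorphismProperty.of_isPullback sq1 hl
  haveI : Flat (Y ◁ π').left := MorphismProperty.of_isPullback sq2 hf'
  haveI : Surjective (Y ◁ π').left := MorphismProperty.of_isPullback sq2 hs'
  haveI : LocallyOfFinitePresentation (Y ◁ π').left := MorphismProperty.of_isPullback sq2 hl'
  refine ⟨T ⊗ T', π ⊗ₘ π', t ⊗ₘ t', ?_, ?_, ?_, by rw [tensorHom_comp_tensorHom, hπ, hπ']⟩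
  all_goals
    rw [MonoidalCategory.tensorHom_def, Over.comp_left]
    infer_instance

/-- Group schemes, fppf site: over a base scheme S, let P and G be S-group schemes with G commutative,
and let u : G → E, v : E → P and u' : G → E', v' : E' → P be homomorphisms forming sequences 1 → G →
E → P → 1 and 1 → G → E' → P → 1 exact for the fppf topology. Suppose every morphism of S-schemes P
×_S P → G trivial on P × e_P and on e_P × P is trivial. Let f : E → E' be a morphism of S-schemes
over P (f ≫ v' = v) and under G (u ≫ f = u'), preserving the unit section, and compatible with left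
and right translations by G: for all points g of G and x of E with values in any S-scheme, f(u(g) x)
= u'(g) f(x) and f(x u(g)) = f(x) u'(g). Then f is a homomorphism of S-group schemes: such
extensions have no non-multiplicative morphisms of their underlying rigidified bitorsors. (The
published statement is for sheaves of groups on an arbitrary topos and phrased as full faithfulness
of the functor from extensions to rigidified bitorsors; this row is the case of representable
sheaves on the fppf site of S, with G commutative so that the defect of multiplicativity descends to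
P ×_S P as in the printed argument. Morphisms to a group scheme form a group; trivial means equal to
its unit.) -/
theorem result (S : Scheme.{u})
    (P G E E' : Over S) [GrpObj P] [GrpObj G] [GrpObj E] [GrpObj E'] [IsCommMonObj G]
    (u : G ⟶ E) (v : E ⟶ P) (hex : NonAbH1.IsExactSeq Scheme.fppfPrecoverage u v)
    (u' : G ⟶ E') (v' : E' ⟶ P) (hex' : NonAbH1.IsExactSeq Scheme.fppfPrecoverage u' v')
    (hPP : ∀ c : P ⊗ P ⟶ G, lift (𝟙 P) (toUnit P ≫ η[P]) ≫ c = 1 → lift (toUnit P ≫ η[P]) (𝟙 P) ≫ c = 1 → c = 1)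
    (f : E ⟶ E') (hv : f ≫ v' = v) (hu : u ≫ f = u') (h1 : η[E] ≫ f = η[E'])
    (hl : ∀ (T : Over S) (g : T ⟶ G) (x : T ⟶ E), ((g ≫ u) * x) ≫ f = (g ≫ u') * (x ≫ f))
    (hr : ∀ (T : Over S) (g : T ⟶ G) (x : T ⟶ E), (x * (g ≫ u)) ≫ f = (x ≫ f) * (g ≫ u')) :
    IsMonHom f := by
  obtain ⟨hum, hvm, huv, hpb, hloc⟩ := hex
  obtain ⟨hum', hvm', huv', hpb', hloc'⟩ := hex'
  haveI := hum; haveI := hvm; haveI := hum'; haveI := hvm'
  -- kernels
  have hker : ∀ (X Y : Over S) [GrpObj X] [GrpObj Y] (w : G ⟶ X) (q : X ⟶ Y) [IsMonHom q],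
      IsPullback (fst X G) ((X ◁ w) ≫ μ[X]) q q → ∀ (T : Over S) (a b : T ⟶ X), a ≫ q = b ≫ q →
        ∃! g : T ⟶ G, a * (g ≫ w) = b := by
    intro X Y _ _ w q _ hp T a b hab
    refine ⟨hp.lift a b hab ≫ snd X G, ?_, fun g hg => ?_⟩
    · have h := hp.lift_snd a b hab
      have e : lift a (hp.lift a b hab ≫ snd X G) = hp.lift a b hab :=
        CartesianMonoidalCategory.hom_ext _ _ (by rw [lift_fst, hp.lift_fst]) (by rw [lift_snd])
      generalize hp.lift a b hab = L at h e ⊢
      rw [← e, lift_whiskerLeft_assoc] at h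
      exact h
    · have h : lift a g = hp.lift a b hab := hp.hom_ext (by rw [lift_fst, hp.lift_fst])
        (by rw [hp.lift_snd, lift_whiskerLeft_assoc]; exact hg)
      rw [← h, lift_snd]
  -- the defect
  let D : E ⊗ E ⟶ E' := ((fst E E * snd E E) ≫ f) * ((fst E E ≫ f) * (snd E E ≫ f))⁻¹
  obtain ⟨d₀, hd₀, -⟩ := hker E' P u' v' hpb' (E ⊗ E) 1 D (by
    rw [MonObj.one_comp, MonObj.mul_comp, GrpObj.inv_comp, MonObj.mul_comp (fst E E ≫ f), Category.assoc,
      Category.assoc, Category.assoc, hv, MonObj.mul_comp, mul_inv_cancel])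
  rw [_root_.one_mul] at hd₀
  have hD : ∀ (T : Over S) (x y : T ⟶ E),
      ((lift x y ≫ d₀) ≫ u') * ((x ≫ f) * (y ≫ f)) = (x * y) ≫ f := fun T x y => by
    rw [Category.assoc, hd₀, MonObj.comp_mul, GrpObj.comp_inv, MonObj.comp_mul (lift x y) (fst E E ≫ f),
      ← Category.assoc, ← Category.assoc (lift x y) (fst E E), ← Category.assoc (lift x y) (snd E E),
      MonObj.comp_mul (lift x y) (fst E E), lift_fst, lift_snd, inv_mul_cancel_right]
  have hu' : ∀ (T : Over S) (g g' : T ⟶ G), g ≫ u' = g' ≫ u' → g = g' := fun T g g' h => by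
    obtain ⟨g₀, -, huniq⟩ := hker E' P u' v' hpb' T 1 (g ≫ u') (by
      rw [Category.assoc, huv', MonObj.comp_one, MonObj.one_comp])
    rw [huniq g (_root_.one_mul _), huniq g' ((_root_.one_mul _).trans h.symm)]
  have hd : ∀ (T : Over S) (x y : T ⟶ E) (d : T ⟶ G),
      (d ≫ u') * ((x ≫ f) * (y ≫ f)) = (x * y) ≫ f → lift x y ≫ d₀ = d := fun T x y d h =>
    hu' T _ _ (mul_right_cancel ((hD T x y).trans h.symm))
  have hinv : ∀ (T : Over S) (a b : T ⟶ E ⊗ E), a ≫ (v ⊗ₘ v) = b ≫ (v ⊗ₘ v) → a ≫ d₀ = b ≫ d₀ := by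
    intro T a b hab
    have e1 : (a ≫ fst E E) ≫ v = (b ≫ fst E E) ≫ v := by
      have := congrArg (· ≫ fst P P) hab
      simpa using this
    have e2 : (a ≫ snd E E) ≫ v = (b ≫ snd E E) ≫ v := by
      have := congrArg (· ≫ snd P P) hab
      simpa using this
    obtain ⟨g, hg, -⟩ := hker E P u v hpb T _ _ e1
    obtain ⟨g', hg', -⟩ := hker E P u v hpb T _ _ e2
    have hsplit : ∀ z : T ⟶ E ⊗ E, z = lift (z ≫ fst E E) (z ≫ snd E E) := fun z =>
      CartesianMonoidalCategory.hom_ext _ _ (by rw [lift_fst]) (by rw [lift_snd])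
    rw [hsplit b, ← hg, ← hg', hsplit a]
    simp only [lift_fst, lift_snd]
    set x := a ≫ fst E E
    set y := a ≫ snd E E
    -- right translate `x` by `g` and `y` by `g'`
    obtain ⟨h, hh, -⟩ := hker E P u v hpb T y ((g ≫ u) * y) (by
      rw [MonObj.mul_comp, Category.assoc g, huv, MonObj.comp_one, _root_.one_mul])
    refine (hd T _ _ _ ?_).symm
    have hh' : (g ≫ u') * (y ≫ f) = (y ≫ f) * (h ≫ u') := by
      rw [← hl, ← hr, hh]
    rw [hr, hr, show x * (g ≫ u) * (y * (g' ≫ u)) = x * y * (h ≫ u) * (g' ≫ u) by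
      rw [_root_.mul_assoc x y, hh]; simp [_root_.mul_assoc], hr, hr, ← hD T x y]
    simp only [_root_.mul_assoc]
    congr 2
    rw [← _root_.mul_assoc (g ≫ u'), hh', _root_.mul_assoc]
  have hq := hasCover_of_locallyTrivial v hloc
  obtain ⟨c, hc⟩ := descend_cover (v ⊗ₘ v) (hasCover_tensor v v hq hq) d₀ hinv
  have hax1 : lift (𝟙 P) (toUnit P ≫ η[P]) ≫ c = 1 := by
    refine cancel_cover v hq _ _ ?_
    rw [MonObj.comp_one, ← Category.assoc, comp_lift, Category.comp_id, ← Category.assoc, comp_toUnit,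
      show lift v (toUnit E ≫ η[P]) = lift (𝟙 E) (toUnit E ≫ η[E]) ≫ (v ⊗ₘ v) by
        rw [lift_map, Category.id_comp, Category.assoc, IsMonHom.one_hom],
      Category.assoc, hc]
    refine hd E _ _ 1 ?_
    rw [← Hom.one_def, MonObj.one_comp, _root_.one_mul, _root_.mul_one, Category.id_comp,
      show (1 : E ⟶ E) ≫ f = 1 by rw [Hom.one_def, Category.assoc, h1, ← Hom.one_def], _root_.mul_one]
  have hax2 : lift (toUnit P ≫ η[P]) (𝟙 P) ≫ c = 1 := by
    refine cancel_cover v hq _ _ ?_
    rw [MonObj.comp_one, ← Category.assoc, comp_lift, Category.comp_id, ← Category.assoc, comp_toUnit,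
      show lift (toUnit E ≫ η[P]) v = lift (toUnit E ≫ η[E]) (𝟙 E) ≫ (v ⊗ₘ v) by
        rw [lift_map, Category.id_comp, Category.assoc, IsMonHom.one_hom],
      Category.assoc, hc]
    refine hd E _ _ 1 ?_
    rw [← Hom.one_def, MonObj.one_comp, _root_.one_mul, _root_.one_mul, Category.id_comp,
      show (1 : E ⟶ E) ≫ f = 1 by rw [Hom.one_def, Category.assoc, h1, ← Hom.one_def], _root_.one_mul]
  have hd1 : d₀ = 1 := by rw [← hc, hPP c hax1 hax2, MonObj.comp_one]
  refine { one_hom := h1, mul_hom := ?_ }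
  have h := hD (E ⊗ E) (fst E E) (snd E E)
  rw [hd1, MonObj.comp_one, MonObj.one_comp, _root_.one_mul] at h
  rw [MonObj.mul_eq_mul, MonObj.mul_eq_mul, ← h, MonObj.comp_mul, tensorHom_fst, tensorHom_snd]

end Groth.Agent.S12113
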