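import Groth.Statements.S12114
import Groth.Agent.QFChainLib.Chain
import Groth.Agent.SMTLib.MaxHeight
-- import your own Groth.Agent.* helpers here

set_option autoImplicit false
set_option backward.isDefEq.respectTransparency false
set_option backward.isDefEq.respectTransparency.types false
set_option linter.style.haveILetI false
universe u
open CategoryTheory CategoryTheory.Limits AlgebraicGeometry
open EtDl

namespace Groth.Agent.S12114

open AlgebraicGeometry CategoryTheory CategoryTheory.Limits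

noncomputable section

variable {k : Type u} [Field k] {X : Scheme.{u}} {ι : Type u}

/-- The morphism to affine space given by functions on an open. -/
def cmor (f : X ⟶ Spec (CommRingCat.of k)) (W : X.Opens) (a : ι → Γ(X, W)) :
    (W : Scheme.{u}) ⟶ AffineSpace ι (Spec (CommRingCat.of k)) :=
  AffineSpace.homOfVector (W.ι ≫ f) fun i => W.topIso.inv (a i)

lemma homOfVector_spec {C : CommRingCat.{u}} (ψ : CommRingCat.of k ⟶ C) (a : ι → C) :
    AffineSpace.homOfVector (Spec.map ψ) (fun i => (Scheme.ΓSpecIso C).inv (a i)) =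
      Spec.map (CommRingCat.ofHom (MvPolynomial.eval₂Hom ψ.hom a)) ≫
        (AffineSpace.SpecIso ι (CommRingCat.of k)).inv := by
  apply AffineSpace.hom_ext
  · rw [AffineSpace.homOfVector_over, Category.assoc, AffineSpace.SpecIso_inv_over, ← Spec.map_comp]
    congr 1
    ext x
    exact (MvPolynomial.eval₂Hom_C ψ.hom a x).symm
  · intro i
    rw [AffineSpace.homOfVector_appTop_coord, Scheme.Hom.comp_appTop, CommRingCat.comp_apply,
      AffineSpace.SpecIso_inv_appTop_coord, ← CommRingCat.comp_apply, ← Scheme.ΓSpecIso_inv_naturality,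
      CommRingCat.comp_apply]
    exact congrArg _ (MvPolynomial.eval₂Hom_X' ψ.hom a i).symm

lemma cmor_iff (P : MorphismProperty Scheme.{u}) [P.RespectsIso] (f : X ⟶ Spec (CommRingCat.of k))
    {W : X.Opens} (hW : IsAffineOpen W) (ψ : CommRingCat.of k ⟶ Γ(X, W))
    (hψ : Spec.map ψ = hW.fromSpec ≫ f) (a : ι → Γ(X, W)) :
    P (cmor f W a) ↔ P (Spec.map (CommRingCat.ofHom (MvPolynomial.eval₂Hom ψ.hom a))) := by
  have key : hW.isoSpec.inv ≫ cmor f W a =
      Spec.map (CommRingCat.ofHom (MvPolynomial.eval₂Hom ψ.hom a)) ≫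
        (AffineSpace.SpecIso ι (CommRingCat.of k)).inv := by
    rw [← homOfVector_spec, cmor, AffineSpace.comp_homOfVector]
    congr 1
    · rw [hψ, ← Category.assoc]
      rfl
    · ext i
      simp only [Function.comp_apply]
      rw [hW.isoSpec_inv_appTop, CommRingCat.comp_apply, Iso.inv_hom_id_apply]
  rw [← P.cancel_left_of_respectsIso hW.isoSpec.inv (cmor f W a), key,
    P.cancel_right_of_respectsIso]

lemma ι_appTop_topIso (W : X.Opens) :
    W.ι.appTop ≫ W.topIso.hom = X.presheaf.map (homOfLE (le_top : W ≤ ⊤)).op := by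
  rw [Scheme.Opens.ι_appTop, Scheme.Opens.topIso_hom, ← Functor.map_comp]
  rfl

lemma ι_comp_eq_cmor (f : X ⟶ Spec (CommRingCat.of k)) (u : X ⟶ AffineSpace ι (Spec (CommRingCat.of k)))
    (hu : u ≫ (AffineSpace ι (Spec (CommRingCat.of k)) ↘ Spec (CommRingCat.of k)) = f) (W : X.Opens) :
    W.ι ≫ u = cmor f W fun i =>
      X.presheaf.map (homOfLE (le_top : W ≤ ⊤)).op (u.appTop (AffineSpace.coord _ i)) := by
  apply AffineSpace.hom_ext
  · rw [cmor, AffineSpace.homOfVector_over, Category.assoc, hu]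
  · intro i
    rw [cmor, AffineSpace.homOfVector_appTop_coord, Scheme.Hom.comp_appTop, CommRingCat.comp_apply,
      ← ι_appTop_topIso, CommRingCat.comp_apply, Iso.hom_inv_id_apply]

lemma exists_rational {B : Type u} [CommRing B] [Algebra k B] [IsAlgClosed k] [Algebra.FiniteType k B]
    (q : Ideal B) [q.IsMaximal] (b : B) : ∃ c : k, b - algebraMap k B c ∈ q := by
  letI := Ideal.Quotient.field q
  haveI : Module.Finite k (B ⧸ q) := finite_of_finite_type_of_isJacobsonRing k (B ⧸ q)
  obtain ⟨c, hc⟩ := (IsAlgClosed.algebraMap_bijective_of_isIntegral (k := k) (K := B ⧸ q)).2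
    (Ideal.Quotient.mk q b)
  exact ⟨c, Ideal.Quotient.eq.mp hc.symm⟩

end

/-- Let k be an algebraically closed field, X a k-scheme of finite type whose local rings are
Cohen–Macaulay, and u, v : X ⟶ 𝔸^ι_k (ι a finite index type) two k-morphisms which are locally
quasi-finite and flat. Every closed point x of X has an open neighbourhood U together with a finite
chain of k-morphisms w_0, …, w_m : U ⟶ 𝔸^ι_k (morphisms over Spec k, U carrying the structure map of
X), each locally quasi-finite and flat, with w_0 = u|_U, w_m = v|_U and such that w_{j+1} differs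
from w_j in at most one coordinate function. (The published statement asks only for morphisms w_j,
which would make the assertion trivial; the printed argument produces w_j that are quasi-finite and
flat near x, via systems of parameters of the local ring, and that is what is stated here.) -/
theorem result (k : Type u) [Field k] [IsAlgClosed k]
    (X : Scheme.{u}) [X.Over (Spec (CommRingCat.of k))] [LocallyOfFiniteType (X ↘ Spec (CommRingCat.of k))]
    [QuasiCompact (X ↘ Spec (CommRingCat.of k))]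
    (hCM : ∀ y : X, LocCoh.IsCohenMacaulayLocalRing (X.presheaf.stalk y)) (ι : Type u) [Finite ι]
    (u v : X ⟶ AffineSpace ι (Spec (CommRingCat.of k)))
    (hu : u ≫ (AffineSpace ι (Spec (CommRingCat.of k)) ↘ Spec (CommRingCat.of k)) = X ↘ Spec (CommRingCat.of k))
    (hv : v ≫ (AffineSpace ι (Spec (CommRingCat.of k)) ↘ Spec (CommRingCat.of k)) = X ↘ Spec (CommRingCat.of k))
    [LocallyQuasiFinite u] [Flat u] [LocallyQuasiFinite v] [Flat v] (x : X) (hx : IsClosed ({x} : Set X)) :
    ∃ (U : X.Opens), x ∈ U ∧ ∃ (m : ℕ) (w : Fin (m + 1) → ((U : Scheme.{u}) ⟶ AffineSpace ι (Spec (CommRingCat.of k)))),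
      w 0 = U.ι ≫ u ∧ w (Fin.last m) = U.ι ≫ v ∧
      (∀ j : Fin (m + 1), LocallyQuasiFinite (w j) ∧ Flat (w j) ∧
        w j ≫ (AffineSpace ι (Spec (CommRingCat.of k)) ↘ Spec (CommRingCat.of k)) = U.ι ≫ (X ↘ Spec (CommRingCat.of k))) ∧
      (∀ j : Fin m, ∃ i : ι, ∀ i' : ι, i' ≠ i →
        (w j.castSucc).appTop (AffineSpace.coord (Spec (CommRingCat.of k)) i') =
          (w j.succ).appTop (AffineSpace.coord (Spec (CommRingCat.of k)) i')) := by
  obtain ⟨f, hf⟩ : ∃ f : X ⟶ Spec (CommRingCat.of k), f = X ↘ Spec (CommRingCat.of k) := ⟨_, rfl⟩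
  rw [← hf] at hu hv ⊢
  haveI : LocallyOfFiniteType f := by rw [hf]; infer_instance
  obtain ⟨_, ⟨V, hV, rfl⟩, hxV, -⟩ :=
    X.isBasis_affineOpens.exists_subset_of_mem_open (Set.mem_univ x) isOpen_univ
  replace hV : IsAffineOpen V := hV
  let ψ : CommRingCat.of k ⟶ Γ(X, V) := Spec.preimage (hV.fromSpec ≫ f)
  have hψ : Spec.map ψ = hV.fromSpec ≫ f := Spec.map_preimage _
  letI : Algebra k Γ(X, V) := ψ.hom.toAlgebra
  haveI : Algebra.FiniteType k Γ(X, V) := by
    have h : LocallyOfFiniteType (Spec.map ψ) := by rw [hψ]; infer_instance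
    exact (HasRingHomProperty.Spec_iff (P := @LocallyOfFiniteType)).mp h
  let z := hV.primeIdealOf ⟨x, hxV⟩
  haveI : z.asIdeal.IsMaximal := hV.primeIdealOf_isMaximal_of_isClosed ⟨x, hxV⟩ hx
  have hk := exists_rational (k := k) z.asIdeal
  have hcm : CommAlgDim.IsCM (Localization.AtPrime z.asIdeal) := by
    letI := TopCat.Presheaf.algebra_section_stalk X.presheaf (⟨x, hxV⟩ : V)
    haveI := hV.isLocalization_stalk ⟨x, hxV⟩
    haveI : IsNoetherianRing Γ(X, V) := Algebra.FiniteType.isNoetherianRing k _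
    refine (CMFlatLib.isCohenMacaulayLocalRing_iff_isCM _).mp
      ((CMFlatLib.isCohenMacaulayLocalRing_congr ?_).mp (hCM x))
    exact (IsLocalization.algEquiv z.asIdeal.primeCompl (X.presheaf.stalk x) _).toRingEquiv
  -- the two given tuples
  let tup : (X ⟶ AffineSpace ι (Spec (CommRingCat.of k))) → ι → Γ(X, V) := fun w i =>
    X.presheaf.map (homOfLE (le_top : V ≤ ⊤)).op (w.appTop (AffineSpace.coord _ i))
  have hgood : ∀ w : X ⟶ AffineSpace ι (Spec (CommRingCat.of k)), LocallyQuasiFinite w → Flat w →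
      w ≫ (AffineSpace ι (Spec (CommRingCat.of k)) ↘ Spec (CommRingCat.of k)) = f →
      QFChainLib.Good (k := k) z.asIdeal (tup w) := by
    intro w hw1 hw2 hw3
    have e := ι_comp_eq_cmor f w hw3 V
    refine QFChainLib.good_of_global z.asIdeal ?_ ?_
    · have h : LocallyQuasiFinite (cmor f V (tup w)) := e ▸ inferInstance
      exact (HasRingHomProperty.Spec_iff (P := @LocallyQuasiFinite)).mp
        ((cmor_iff @LocallyQuasiFinite f hV ψ hψ (tup w)).mp h)
    · have h : Flat (cmor f V (tup w)) := e ▸ inferInstance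
      exact (HasRingHomProperty.Spec_iff (P := @Flat)).mp
        ((cmor_iff @Flat f hV ψ hψ (tup w)).mp h)
  obtain ⟨m, c, hc0, hcm', hgd, hstep⟩ := QFChainLib.exists_chain z.asIdeal hk hcm (tup u) (tup v)
    (hgood u ‹_› ‹_› hu) (hgood v ‹_› ‹_› hv)
  choose O hOo hzO hO using fun j : Fin (m + 1) =>
    QFChainLib.exists_basicOpen_good z.asIdeal (hgd j (Nat.lt_succ_iff.mp j.2))
  obtain ⟨_, ⟨g, rfl⟩, hgz, hgsub⟩ := PrimeSpectrum.isTopologicalBasis_basic_opens.exists_subset_of_mem_open
    (Set.mem_iInter.mpr hzO) (isOpen_iInter_of_finite hOo)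
  have hU : IsAffineOpen (X.basicOpen g) := hV.basicOpen g
  have hUV : X.basicOpen g ≤ V := X.basicOpen_le g
  let res := X.presheaf.map (homOfLE hUV).op
  haveI := hV.isLocalization_basicOpen g
  refine ⟨X.basicOpen g, ?_, m, fun j => cmor f (X.basicOpen g) fun i => res (c j i), ?_, ?_, fun j => ?_, fun j => ?_⟩
  · have h2 : z ∈ hV.fromSpec ⁻¹ᵁ X.basicOpen g := by
      rw [hV.fromSpec_preimage_basicOpen]
      exact hgz
    have h3 : hV.fromSpec z ∈ X.basicOpen g := h2
    rwa [hV.fromSpec_primeIdealOf ⟨x, hxV⟩] at h3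
  · rw [ι_comp_eq_cmor f u hu]
    simp only [Fin.val_zero, hc0, tup, res, ← CommRingCat.comp_apply, Category.assoc, ← Functor.map_comp]
    rfl
  · rw [ι_comp_eq_cmor f v hv]
    simp only [Fin.val_last, hcm', tup, res, ← CommRingCat.comp_apply, Category.assoc, ← Functor.map_comp]
    rfl
  · have hψU : Spec.map (ψ ≫ res) = hU.fromSpec ≫ f := by
      rw [Spec.map_comp, hψ, ← Category.assoc, hV.map_fromSpec hU]
    have hφ : MvPolynomial.eval₂Hom (ψ ≫ res).hom (fun i => res (c j i)) =
        (algebraMap Γ(X, V) Γ(X, X.basicOpen g)).comp (MvPolynomial.aeval (R := k) (c j)).toRingHom :=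
      MvPolynomial.ringHom_ext (fun r => by simp [res]; rfl) (fun i => by simp [res]; rfl)
    have h := QFChainLib.away_of_good (k := k) (a := c j) g
      (fun y hy => hO j y (Set.mem_iInter.mp (hgsub hy) j)) Γ(X, X.basicOpen g)
    rw [← hφ] at h
    refine ⟨?_, ?_, AffineSpace.homOfVector_over _ _⟩
    · exact (cmor_iff @LocallyQuasiFinite f hU _ hψU _).mpr
        ((HasRingHomProperty.Spec_iff (P := @LocallyQuasiFinite)).mpr h.1)
    · exact (cmor_iff @Flat f hU _ hψU _).mpr ((HasRingHomProperty.Spec_iff (P := @Flat)).mpr h.2)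
  · obtain ⟨i, hi⟩ := hstep j j.2
    refine ⟨i, fun i' hi' => ?_⟩
    simp only [cmor, AffineSpace.homOfVector_appTop_coord]
    exact congrArg _ (congrArg _ (hi i' hi'))

end Groth.Agent.S12114
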