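import Groth.Statements.S12118
import Mathlib

set_option autoImplicit false
universe u v
open EGA41

namespace Groth.Agent.S12118

/-- Let A be a commutative ring, M an A-module, (M_k)_{k ≥ 0} a decreasing filtration of M by submodules
with M_0 = M and ⋂_k M_k = 0, and f an element of A which is a non-zero-divisor on every graded
piece M_k/M_{k+1} (equivalently on the associated graded module). Then (i) f is a non-zero-divisor
on M, and (ii) M_k ∩ fM = fM_k for every k ≥ 0. -/
theorem result {A : Type u} [CommRing A] {M : Type v} [AddCommGroup M] [Module A M]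
    (F : ℕ → Submodule A M) (hanti : Antitone F) (h0 : F 0 = ⊤) (hsep : ⨅ k, F k = ⊥) (f : A)
    (hreg : ∀ k : ℕ, IsSMulRegular (↥(F k) ⧸ Submodule.comap (F k).subtype (F (k + 1))) f) :
    IsSMulRegular M f ∧ ∀ k : ℕ, F k ⊓ (Ideal.span {f} • (⊤ : Submodule A M)) = Ideal.span {f} • F k := by
  have key : ∀ k j, ∀ x ∈ F j, f • x ∈ F (j + k) → x ∈ F (j + k) := by
    intro k
    induction k with
    | zero => intro j x hx _; simpa using hx
    | succ k ih =>
      intro j x hx hfx
      have h1 : x ∈ F (j + k) := ih j x hx (hanti (by omega) hfx)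
      have h2 : (Submodule.Quotient.mk (⟨x, h1⟩ : F (j + k)) :
          ↥(F (j + k)) ⧸ Submodule.comap (F (j + k)).subtype (F (j + k + 1))) = 0 := by
        apply hreg (j + k)
        show f • _ = f • (0 : _)
        rw [smul_zero, ← Submodule.Quotient.mk_smul, Submodule.Quotient.mk_eq_zero]
        exact hfx
      rw [Submodule.Quotient.mk_eq_zero] at h2
      exact h2
  have key' : ∀ k x, f • x ∈ F k → x ∈ F k := fun k x hx => by
    have := key k 0 x (by rw [h0]; trivial) (by simpa using hx)
    simpa using this
  refine ⟨isSMulRegular_iff_right_eq_zero_of_smul.2 fun x hx => ?_, fun k => le_antisymm ?_ ?_⟩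
  · rw [← Submodule.mem_bot A, ← hsep, Submodule.mem_iInf]
    exact fun k => key' k x (by rw [hx]; exact zero_mem _)
  · rintro y ⟨hy1, hy2⟩
    rw [Submodule.ideal_span_singleton_smul] at hy2 ⊢
    obtain ⟨z, -, rfl⟩ := Set.mem_smul_set.1 hy2
    exact Set.mem_smul_set.2 ⟨z, key' k z hy1, rfl⟩
  · refine le_inf ?_ (Submodule.smul_mono le_rfl le_top)
    exact Submodule.smul_le_right

end Groth.Agent.S12118
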