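import Groth.Statements.S12121
import Groth.Agent.SkEmbLib.Main
import Groth.Agent.S2668

set_option autoImplicit false
universe u
open EGA4

namespace Groth.Agent.S12121

/-- Let A be a Noetherian ring, M a finite A-module (a coherent sheaf on X = Spec A) and k ≥ 1. Then M
has property (S_k) — depth M_p ≥ min(k, dim M_p) at every prime p — if and only if, for every basic
open set D(g) of X, every integer r < k and every M_g-regular sequence f_1, …, f_r in A_g, the
module M_g/(f_1, …, f_r)M_g has no embedded associated primes, i.e. no associated prime of it
strictly contains another one. (The published statement quantifies over all open subsets of a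
locally Noetherian scheme; both sides being local, over an affine scheme the basic open sets
suffice.) -/
theorem result (k : ℕ) (hk : 1 ≤ k) (A : Type u) [CommRing A] [IsNoetherianRing A]
    (M : Type u) [AddCommGroup M] [Module A M] [Module.Finite A M] :
    LocCoh.HasSk k A M ↔
      ∀ (g : A) (rs : List (Localization.Away g)), rs.length < k →
        RingTheory.Sequence.IsWeaklyRegular (LocalizedModule (Submonoid.powers g) M) rs →
        ∀ p ∈ associatedPrimes (Localization.Away g)
            (LocalizedModule (Submonoid.powers g) M ⧸
              (Ideal.ofList rs • (⊤ : Submodule (Localization.Away g) (LocalizedModule (Submonoid.powers g) M)))),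
          ∀ q ∈ associatedPrimes (Localization.Away g)
            (LocalizedModule (Submonoid.powers g) M ⧸
              (Ideal.ofList rs • (⊤ : Submodule (Localization.Away g) (LocalizedModule (Submonoid.powers g) M)))),
            p ≤ q → p = q := by
  constructor
  · intro h g rs hlen hreg P hP Q hQ hPQ
    haveI : Module.Finite (Localization.Away g) (LocalizedModule (Submonoid.powers g) M) :=
      Module.Finite.of_isLocalizedModule (Submonoid.powers g) (LocalizedModule.mkLinearMap (Submonoid.powers g) M)
    haveI : IsNoetherianRing (Localization.Away g) := IsLocalization.isNoetherianRing (Submonoid.powers g) _ inferInstance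
    exact SkEmbLib.eq_of_le_of_hasSk (k := k - rs.length) (by omega)
      (Groth.Agent.S2668.result k (Localization.Away g) (LocalizedModule (Submonoid.powers g) M)
        (SkEmbLib.hasSk_localization _ k h) rs hreg hlen.le) hP hQ hPQ
  · intro h p hp
    by_contra hlt
    rw [not_le] at hlt
    obtain ⟨n, hn⟩ : ∃ n : ℕ, LocCoh.depth (Localization.AtPrime p) (LocalizedModule p.primeCompl M) = n := by
      refine (ENat.ne_top_iff_exists.1 fun htop => ?_).imp fun n hn => hn.symm
      rw [htop] at hlt
      exact not_top_lt (lt_of_lt_of_le hlt (le_refl _))
    rw [hn] at hlt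
    have hnk : n < k := by
      have := hlt.trans_le (min_le_left _ _)
      exact_mod_cast this
    have hd : ((n + 1 : ℕ) : WithBot ℕ∞) ≤ SkOpenLib.sdim M p := by
      have h' := hlt.trans_le (min_le_right _ _)
      show _ ≤ Module.supportDim (Localization.AtPrime p) (LocalizedModule p.primeCompl M)
      revert h'
      generalize Module.supportDim (Localization.AtPrime p) (LocalizedModule p.primeCompl M) = d
      intro h'
      induction d using WithBot.recBotCoe with
      | bot => exact absurd h' not_lt_bot
      | coe d =>
        refine WithBot.coe_le_coe.2 ?_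
        exact (ENat.add_one_le_iff (ENat.coe_ne_top n)).2 (WithBot.coe_lt_coe.1 h')
    have hn1 : CommAlgDim.HasSeqIn (IsLocalRing.maximalIdeal (Localization.AtPrime p))
        (LocalizedModule p.primeCompl M) n := (CommAlgDim.le_depth_iff n).1 hn.ge
    have hn2 : ¬ CommAlgDim.HasSeqIn (IsLocalRing.maximalIdeal (Localization.AtPrime p))
        (LocalizedModule p.primeCompl M) (n + 1) := fun hh => by
      have := (CommAlgDim.le_depth_iff (n + 1)).2 hh
      rw [hn] at this
      have : n + 1 ≤ n := by exact_mod_cast this
      omega
    obtain ⟨rs, hl, hreg, hass, hdim⟩ := SkEmbLib.exists_witness p n M hn1 hn2 hd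
    obtain ⟨g, hg, hgreg⟩ := SkEmbLib.exists_away_regular p rs hreg
    let R := Localization.Away g
    let U := Submonoid.powers g
    let N := M ⧸ (Ideal.ofList rs • (⊤ : Submodule A M))
    let f := LocalizedModule.mkLinearMap U M
    have heq : (Ideal.ofList rs • (⊤ : Submodule A M)).localized' R U f =
        Ideal.ofList (rs.map (algebraMap A R)) • (⊤ : Submodule R (LocalizedModule U M)) := by
      apply Submodule.restrictScalars_injective A
      rw [Submodule.restrictScalars_localized', Submodule.localized₀_smul U f, Submodule.localized₀_top,
        ← Ideal.map_ofList, Ideal.smul_restrictScalars]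
      rfl
    let φ := (Ideal.ofList rs • (⊤ : Submodule A M)).toLocalizedQuotient' R U f
    have hnoemb := h g (rs.map (algebraMap A R)) (by simpa [hl] using hnk)
      ((RingTheory.Sequence.isWeaklyRegular_map_algebraMap_iff _ _ _).2 hgreg)
    rw [← heq] at hnoemb
    have hlift : ∀ q : Ideal A, q ∈ associatedPrimes A N → g ∉ q → q.map (algebraMap A R) ∈ associatedPrimes R
        (LocalizedModule U M ⧸ (Ideal.ofList rs • (⊤ : Submodule A M)).localized' R U f) ∧
        (q.map (algebraMap A R)).comap (algebraMap A R) = q := by
      intro q hq hgq
      have hdis : Disjoint (U : Set A) (q : Set A) := Set.disjoint_left.2 fun a ha haq => by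
        obtain ⟨m, rfl⟩ := ha
        exact hgq (hq.1.mem_of_pow_mem m haq)
      have hc : (q.map (algebraMap A R)).comap (algebraMap A R) = q :=
        IsLocalization.under_map_of_isPrime_disjoint U R hq.1 hdis
      exact ⟨Module.associatedPrimes.mem_associatedPrimes_of_comap_mem_associatedPrimes_of_isLocalizedModule U φ _
        (by rw [hc]; exact hq), hc⟩
    have hnm : ∃ q : Ideal A, q ∈ associatedPrimes A N ∧ q < p := by
      have hne : ∃ P ∈ Module.support (Localization.AtPrime p) (LocalizedModule p.primeCompl N),
          P.asIdeal ≠ IsLocalRing.maximalIdeal (Localization.AtPrime p) := by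
        by_contra hcon
        push Not at hcon
        have h0 : SkOpenLib.sdim N p ≤ 0 := Order.krullDim_nonpos_iff_forall_isMax.2 fun P Q _ => by
          show Q.1.asIdeal ≤ P.1.asIdeal
          rw [hcon _ P.2, hcon _ Q.2]
        exact absurd (hdim.trans h0) (by norm_num)
      obtain ⟨P, hP, hPm⟩ := hne
      haveI : Module.Finite A N := inferInstance
      let q₁ := P.asIdeal.comap (algebraMap A (Localization.AtPrime p))
      have hq₁p : q₁ < p := by
        refine lt_of_le_of_ne ?_ fun e => hPm ?_
        · exact (Ideal.comap_mono (f := algebraMap A (Localization.AtPrime p))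
            (IsLocalRing.le_maximalIdeal P.isPrime.ne_top)).trans_eq Localization.AtPrime.under_maximalIdeal
        · rw [← IsLocalization.map_under p.primeCompl (Localization.AtPrime p) P.asIdeal,
            show P.asIdeal.under A = p from e, Localization.AtPrime.map_eq_maximalIdeal]
      have hann : Module.annihilator A N ≤ q₁ := by
        intro a ha
        rw [Ideal.mem_comap]
        by_contra hna
        obtain ⟨x, hx⟩ := Module.mem_support_iff'.1 hP
        obtain ⟨⟨m, s⟩, hms⟩ := IsLocalizedModule.surj p.primeCompl (LocalizedModule.mkLinearMap p.primeCompl N) x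
        refine hx (algebraMap A (Localization.AtPrime p) ((s : A) * a))
          (fun hmem => ?_) ?_
        · rw [map_mul] at hmem
          refine (P.isPrime.mem_or_mem hmem).elim (fun hs => P.isPrime.ne_top ?_) hna
          exact Ideal.eq_top_of_isUnit_mem _ hs (IsLocalization.map_units _ s)
        · rw [algebraMap_smul, mul_comm, mul_smul]
          change a • ((s : A) • x) = 0
          rw [show (s : A) • x = LocalizedModule.mkLinearMap p.primeCompl N m from hms, ← map_smul,
            Module.mem_annihilator.1 ha, map_zero]
      obtain ⟨q₀, hq₀, hq₀le⟩ := Ideal.exists_minimalPrimes_le hann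
      exact ⟨q₀, Module.associatedPrimes.minimalPrimes_annihilator_subset_associatedPrimes A N hq₀,
        lt_of_le_of_lt hq₀le hq₁p⟩
    obtain ⟨q, hq, hqp⟩ := hnm
    obtain ⟨h1, h1c⟩ := hlift p hass hg
    obtain ⟨h2, h2c⟩ := hlift q hq (fun hh => hg (hqp.le hh))
    have := hnoemb _ h2 _ h1 (Ideal.map_mono hqp.le)
    exact hqp.ne (h2c.symm.trans ((congrArg (Ideal.comap (algebraMap A R)) this).trans h1c))

end Groth.Agent.S12121
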