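import Groth.Statements.S12125
import Groth.Agent.NagataFG.LocalN1

set_option autoImplicit false
universe u
open EGA4

namespace Groth.Agent.S12125

/-- Let A be a Noetherian ring. Then every quotient of A by a prime ideal is N-2 (i.e. A is a Nagata
ring) if and only if (1) for every maximal ideal m of A every quotient of A_m by a prime ideal is
N-2, and (2) for every prime p of A, writing B = A/p with fraction field K, for every finite purely
inseparable field extension K' of K and every sub-B-algebra B' of K' which is a finite B-module and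
has K' as its fraction field, there is a nonzero element f of B' such that B'_f is an integrally
closed domain. -/
theorem result (A : Type u) [CommRing A] [IsNoetherianRing A] :
    CAlg.IsNagata A ↔
      ((∀ (m : Ideal A) [m.IsMaximal] (P : Ideal (Localization.AtPrime m)) [P.IsPrime],
          CAlg.IsN2 (Localization.AtPrime m ⧸ P)) ∧
        ∀ (p : Ideal A) [p.IsPrime] (K' : Type u) [Field K'] [Algebra (A ⧸ p) K']
          [Algebra (FractionRing (A ⧸ p)) K'] [IsScalarTower (A ⧸ p) (FractionRing (A ⧸ p)) K']
          [FiniteDimensional (FractionRing (A ⧸ p)) K'] [IsPurelyInseparable (FractionRing (A ⧸ p)) K']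
          (B' : Subalgebra (A ⧸ p) K'), Module.Finite (A ⧸ p) B' → IsFractionRing B' K' →
            ∃ f : B', f ≠ 0 ∧ IsIntegrallyClosed (Localization.Away f)) := by
  constructor
  · intro hA
    refine ⟨fun m _ P _ => (NagataFG.isNagata_of_isLocalization m.primeCompl _ hA).2 P, ?_⟩
    intro p _ K' _ _ _ _ _ _ B' hfin _
    have hB : CAlg.IsNagata B' := NagataFG.isNagata_of_finite (NormalLib.isNagata_quotient hA p)
    have := hB.1
    have hN1 : CAlg.IsN1 B' := NormalLib.finite_integralClosure_self
      (NormalLib.isN2_of_ringEquiv (RingEquiv.quotientBot B') (hB.2 ⊥))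
    exact (NormalLib.isN1_iff.1 hN1).1
  · rintro ⟨h1, h2⟩
    refine ⟨inferInstance, fun p _ => ?_⟩
    refine NormalLib.isN2_of_purelyInseparable fun K' _ _ _ _ hfin hpi => ?_
    classical
    let K := FractionRing (A ⧸ p)
    obtain ⟨s, hs⟩ := Module.Finite.fg_top (R := K) (M := K')
    choose d hd using fun y : K' => IsIntegral.exists_multiple_integral_of_isLocalization (nonZeroDivisors (A ⧸ p)) y
      (Algebra.IsIntegral.isIntegral (R := K) y)
    let B' := Algebra.adjoin (A ⧸ p) ((s.image fun y => d y • y : Finset K') : Set K')
    have : Module.Finite (A ⧸ p) B' := Module.Finite.iff_fg.2 (fg_adjoin_of_finite (Finset.finite_toSet _) fun z hz => by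
      obtain ⟨y, -, rfl⟩ := Finset.mem_image.1 (Finset.mem_coe.1 hz); exact hd y)
    have hinjK : Function.Injective (algebraMap (A ⧸ p) K') := by
      rw [IsScalarTower.algebraMap_eq (A ⧸ p) K K']
      exact (algebraMap K K').injective.comp (IsFractionRing.injective (A ⧸ p) K)
    have hfrac : IsFractionRing B' K' := IsFractionRing.of_field B' K' fun z => by
      have key : ∀ z ∈ Submodule.span K (s : Set K'), ∃ t : B', ∃ e : A ⧸ p, e ≠ 0 ∧ algebraMap (A ⧸ p) K' e * z = t := by
        intro z hz
        induction hz using Submodule.span_induction with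
        | mem y hy =>
          exact ⟨⟨d y • y, Algebra.subset_adjoin (Finset.mem_coe.2 (Finset.mem_image_of_mem _ hy))⟩, (d y : A ⧸ p),
            nonZeroDivisors.coe_ne_zero (d y), (Algebra.smul_def _ _).symm⟩
        | zero => exact ⟨0, 1, one_ne_zero, by simp⟩
        | add a b _ _ ha hb =>
          obtain ⟨t, e, he, hte⟩ := ha
          obtain ⟨t', e', he', hte'⟩ := hb
          refine ⟨e' • t + e • t', e * e', mul_ne_zero he he', ?_⟩
          rw [AddMemClass.coe_add, SetLike.val_smul, SetLike.val_smul, ← hte, ← hte', Algebra.smul_def,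
            Algebra.smul_def, map_mul]
          ring
        | smul k a _ ha =>
          obtain ⟨t, e, he, hte⟩ := ha
          obtain ⟨a', b', hb', rfl⟩ := IsFractionRing.div_surjective (A := A ⧸ p) k
          refine ⟨a' • t, e * b', mul_ne_zero he (nonZeroDivisors.ne_zero hb'), ?_⟩
          rw [SetLike.val_smul, ← hte, Algebra.smul_def, Algebra.smul_def, map_div₀, map_mul,
            ← IsScalarTower.algebraMap_apply, ← IsScalarTower.algebraMap_apply]
          have := (map_ne_zero_iff _ hinjK).2 (nonZeroDivisors.ne_zero hb')
          field_simp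
      obtain ⟨t, e, he, hte⟩ := key z (hs.symm ▸ Submodule.mem_top)
      refine ⟨t, algebraMap (A ⧸ p) B' e, ?_⟩
      show z = (t : K') / algebraMap (A ⧸ p) K' e
      rw [← hte, mul_div_cancel_left₀ _ ((map_ne_zero_iff _ hinjK).2 he)]
    have hf := h2 p K' B' inferInstance hfrac
    let _ : Algebra A B' := ((algebraMap (A ⧸ p) B').comp (Ideal.Quotient.mk p)).toAlgebra
    have : IsScalarTower A (A ⧸ p) B' := IsScalarTower.of_algebraMap_eq' rfl
    have : Module.Finite A B' := Module.Finite.trans (A ⧸ p) B'
    have hN1 : CAlg.IsN1 B' := NagataFG.isN1_of_local_nagata (fun m _ => ⟨inferInstance, fun P _ => h1 m P⟩) hf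
    have : Module.Finite B' (integralClosure B' (FractionRing B')) := hN1
    have : Module.Finite B' (integralClosure B' K') :=
      NormalLib.finite_integralClosure_of_algEquiv (IsLocalization.algEquiv (nonZeroDivisors B') (FractionRing B') K')
    have : Module.Finite (A ⧸ p) (integralClosure B' K') := Module.Finite.trans B' _
    have : Algebra.IsIntegral (A ⧸ p) B' := Algebra.IsIntegral.of_finite _ _
    let g : integralClosure B' K' →ₗ[A ⧸ p] integralClosure (A ⧸ p) K' :=
      { toFun := fun z => ⟨z, isIntegral_trans (z : K') z.2⟩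
        map_add' := fun _ _ => rfl
        map_smul' := fun a z => Subtype.ext (by simp) }
    exact Module.Finite.of_surjective g fun z => ⟨⟨z, z.2.tower_top⟩, rfl⟩

end Groth.Agent.S12125
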