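import Groth.Statements.S12129
import Mathlib
import Mathlib
-- import your own Groth.Agent.* helpers here

set_option autoImplicit false
universe u
open EGA2

namespace Groth.Agent.S12129

open AlgebraicGeometry CategoryTheory in
/-- Let X be a scheme of finite type over a field k. Then the local ring of X at every closed point has
dimension one if and only if the irreducible closed subsets of X other than its irreducible
components are exactly the (singletons of) closed points of X — that is, every irreducible closed
subset which is not an irreducible component is a closed point, and no closed point is by itself an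
irreducible component. -/
theorem result (k : Type u) [Field k] (X : Scheme.{u})
    [X.Over (Spec (CommRingCat.of k))] [LocallyOfFiniteType (X ↘ (Spec (CommRingCat.of k)))]
    [QuasiCompact (X ↘ (Spec (CommRingCat.of k)))] :
    (∀ x : X, IsClosed ({x} : Set X) → ringKrullDim (X.presheaf.stalk x) = 1) ↔
      ((∀ F : Set X, IsClosed F → IsIrreducible F → F ∉ irreducibleComponents (X : Type u) →
          ∃ x : X, IsClosed ({x} : Set X) ∧ F = {x}) ∧
        ∀ x : X, IsClosed ({x} : Set X) → ({x} : Set X) ∉ irreducibleComponents (X : Type u)) := by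
  haveI : JacobsonSpace X := LocallyOfFiniteType.jacobsonSpace (X ↘ Spec (CommRingCat.of k))
  have hdim : ∀ x : X, ringKrullDim (X.presheaf.stalk x) = 1 ↔ ¬ IsMax x ∧ ∀ y, x < y → IsMax y := by
    intro x
    rw [ringKrullDim_stalk_eq_coheight]
    constructor
    · intro h
      have h1 : Order.coheight x = (1 : ℕ∞) := WithBot.coe_eq_one.mp h
      refine ⟨fun hm => ?_, fun y hy => ?_⟩
      · rw [Order.coheight_eq_zero.2 hm] at h1
        exact zero_ne_one h1
      · have := (Order.coheight_le_coe_iff (n := 1)).1 (by rw [h1]; exact le_rfl) y hy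
        rw [Nat.cast_one, ENat.lt_one_iff_eq_zero] at this
        exact Order.coheight_eq_zero.1 this
    · rintro ⟨h0, h1⟩
      refine WithBot.coe_eq_one.mpr (le_antisymm ((Order.coheight_le_coe_iff (n := 1)).2 fun y hy => ?_) ?_)
      · rw [Order.coheight_eq_zero.2 (h1 y hy)]
        exact Nat.cast_lt.2 one_pos
      · rw [Order.one_le_iff_ne_zero]
        exact fun h => h0 (Order.coheight_eq_zero.1 h)
  have hmax : ∀ x : X, IsMax x ↔ closure ({x} : Set X) ∈ irreducibleComponents X := by
    intro x
    refine ⟨fun h => ⟨isIrreducible_singleton.closure, fun t ht hle => ?_⟩, fun h y hy => ?_⟩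
    · obtain ⟨z, hz⟩ := QuasiSober.sober ht.closure isClosed_closure
      have hzx : z ⤳ x := hz.specializes (subset_closure (hle (subset_closure rfl)))
      have : x ⤳ z := h hzx
      exact (subset_closure.trans hz.def.symm.subset).trans (specializes_iff_closure_subset.1 this)
    · exact specializes_iff_closure_subset.2 (h.2 isIrreducible_singleton.closure
        (specializes_iff_closure_subset.1 (show y ⤳ x from hy)))
  constructor
  · intro h
    refine ⟨fun F hF hirr hnc => ?_, fun x hx hc => ?_⟩
    · obtain ⟨η, hη⟩ := QuasiSober.sober hirr hF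
      obtain ⟨x, hxF, hxc⟩ := nonempty_inter_closedPoints hirr.nonempty hF.isLocallyClosed
      have hηx : η ⤳ x := hη.specializes hxF
      have hne : ¬ IsMax η := fun hm => hnc (hη.def ▸ (hmax η).1 hm)
      by_cases hlt : x < η
      · exact absurd (((hdim x).1 (h x hxc)).2 η hlt) hne
      · have heq : x ⤳ η := by
          by_contra hno
          exact hlt ⟨hηx, hno⟩
        exact ⟨x, hxc, by rw [← hη.def, ← (hηx.antisymm heq).eq.symm, hxc.closure_eq]⟩
    · have := ((hdim x).1 (h x hx)).1
      exact this ((hmax x).2 (by rwa [hx.closure_eq]))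
  · rintro ⟨hF, hpt⟩ x hx
    refine (hdim x).2 ⟨fun hm => hpt x hx (hx.closure_eq ▸ (hmax x).1 hm), fun y hy => ?_⟩
    by_contra hm
    obtain ⟨x', hx', he⟩ := hF (closure {y}) isClosed_closure isIrreducible_singleton.closure
      (fun hc => hm ((hmax y).2 hc))
    have h1 : x ∈ closure ({y} : Set X) := specializes_iff_mem_closure.1 (show y ⤳ x from hy.le)
    have h2 : y ∈ closure ({y} : Set X) := subset_closure rfl
    rw [he, Set.mem_singleton_iff] at h1 h2
    exact hy.ne (h1.trans h2.symm)

end Groth.Agent.S12129
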