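import Groth.Statements.S1213
import Mathlib


-- import your own Groth.Agent.* helpers here

set_option autoImplicit false
universe u
open scoped Classical
open FlatMor

namespace Groth.Agent.S1213

open TensorProduct IsLocalRing in
/-- Let R be a local ring, S an R-algebra and N an S-module which, as an R-module, is an internal direct
sum of finite R-submodules. Then for every R-module M and every prime q of S which is the
annihilator of an element of the S-module N ⊗_R M we have q + 𝔪_R S ≠ S. -/
theorem result {R S : Type u} [CommRing R] [IsLocalRing R] [CommRing S] [Algebra R S]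
    (N : Type u) [AddCommGroup N] [Module S N] [Module R N] [IsScalarTower R S N]
    (ι : Type u) (F : ι → Submodule R N) (hF : DirectSum.IsInternal F) (hfin : ∀ i, Module.Finite R (F i))
    (M : Type u) [AddCommGroup M] [Module R M]
    (q : Ideal S) [q.IsPrime] (hq : q ∈ FlatCA.ass S (N ⊗[R] M)) :
    q ⊔ (maximalIdeal R).map (algebraMap R S) ≠ ⊤ := by
  classical
  intro htop
  obtain ⟨hqp, x, hx⟩ := hq
  obtain ⟨a, ha, b, hb, hab⟩ := Submodule.mem_sup.1 ((Ideal.eq_top_iff_one _).1 htop)
  have hax : a • x = 0 := by
    rw [hx, Submodule.mem_annihilator_span_singleton] at ha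
    exact ha
  have hbx : b • x = x := by
    have h := add_smul a b x
    rw [hab, one_smul, hax, zero_add] at h
    exact h.symm
  obtain ⟨T, hT⟩ := TensorProduct.exists_finset x
  let e := LinearEquiv.ofBijective (DirectSum.coeLinearMap F) hF
  let s : Finset ι := T.biUnion fun t => (e.symm t.1).support
  let E : N →ₗ[R] N := ∑ i ∈ s, (F i).subtype ∘ₗ DirectSum.component R ι (fun i => F i) i ∘ₗ e.symm.toLinearMap
  have hfix : ∀ t ∈ T, E t.1 = t.1 := by
    intro t ht
    calc E t.1 = ∑ i ∈ s, ((e.symm t.1 i : F i) : N) := by simp [E]; rfl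
      _ = ∑ i ∈ (e.symm t.1).support, ((e.symm t.1 i : F i) : N) := by
          refine (Finset.sum_subset (fun i hi => Finset.mem_biUnion.2 ⟨t, ht, hi⟩) ?_).symm
          intro i _ hi
          simp [DFinsupp.notMem_support_iff.1 hi]
      _ = e (e.symm t.1) := by
          conv_rhs => rw [← DirectSum.sum_support_of (e.symm t.1), map_sum]
          refine Finset.sum_congr rfl fun i _ => ?_
          exact (DirectSum.coeLinearMap_of F i _).symm
      _ = t.1 := e.apply_symm_apply _
  let P : Submodule R N := s.sup F
  haveI : Module.Finite R P := by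
    refine Module.Finite.iff_fg.2 ?_
    show (s.sup F).FG
    rw [Finset.sup_eq_iSup]
    exact Submodule.fg_biSup s F fun i _ => Module.Finite.iff_fg.1 (hfin i)
  have hEP : ∀ n, E n ∈ P := fun n => by
    simp only [E, LinearMap.sum_apply]
    exact Submodule.sum_mem _ fun i hi => Finset.le_sup (f := F) hi (Subtype.prop _)
  let π : N →ₗ[R] P := E.codRestrict P hEP
  let μ : N →ₗ[R] N := DistribSMul.toLinearMap R N b
  have hμ : ∀ n, μ n ∈ IsLocalRing.maximalIdeal R • (⊤ : Submodule R N) := by
    suffices key : ∀ c ∈ Ideal.map (algebraMap R S) (IsLocalRing.maximalIdeal R), ∀ n : N,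
        c • n ∈ IsLocalRing.maximalIdeal R • (⊤ : Submodule R N) from fun n => key b hb n
    intro c hc n
    induction hc using Submodule.span_induction generalizing n with
    | mem c hc =>
      obtain ⟨r, hr, rfl⟩ := hc
      rw [algebraMap_smul]
      exact Submodule.smul_mem_smul hr trivial
    | zero => simp
    | add u v _ _ h1 h2 => rw [add_smul]; exact add_mem (h1 n) (h2 n)
    | smul c u _ h => rw [smul_eq_mul, mul_comm, mul_smul]; exact h _
  let ψ : P →ₗ[R] P := π ∘ₗ μ ∘ₗ P.subtype
  have hψ : ∀ p, ψ p ∈ IsLocalRing.maximalIdeal R • (⊤ : Submodule R P) := fun p => by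
    have := Submodule.mem_map_of_mem (f := π) (hμ p.1)
    rw [Submodule.map_smul''] at this
    exact Submodule.smul_mono le_rfl le_top this
  have hsurj : Function.Surjective ((LinearMap.id : P →ₗ[R] P) - ψ) := by
    rw [← LinearMap.range_eq_top, eq_top_iff]
    refine Submodule.le_of_le_smul_of_le_jacobson_bot Module.Finite.fg_top
      (IsLocalRing.maximalIdeal_le_jacobson _) ?_
    intro p _
    have hp : p = ((LinearMap.id : P →ₗ[R] P) - ψ) p + ψ p := by simp
    rw [hp]
    exact add_mem (Submodule.mem_sup_left ⟨p, rfl⟩) (Submodule.mem_sup_right (hψ p))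
  have hinj : Function.Injective (((LinearMap.id : P →ₗ[R] P) - ψ).rTensor M) :=
    (TensorProduct.congr (LinearEquiv.ofBijective _
      ⟨OrzechProperty.injective_of_surjective_endomorphism _ hsurj, hsurj⟩) (LinearEquiv.refl R M)).injective
  let y := π.rTensor M x
  have hyx : P.subtype.rTensor M y = x := by
    show P.subtype.rTensor M (π.rTensor M x) = x
    rw [hT, map_sum, map_sum]
    exact Finset.sum_congr rfl fun t ht => by simp [π, hfix t ht]
  have hμx : ∀ z : N ⊗[R] M, μ.rTensor M z = b • z := fun z => by
    induction z using TensorProduct.induction_on with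
    | zero => simp
    | tmul n m => rfl
    | add u v h1 h2 => rw [map_add, h1, h2, smul_add]
  have hψy : ψ.rTensor M y = y := by
    show (π ∘ₗ μ ∘ₗ P.subtype).rTensor M y = y
    rw [LinearMap.rTensor_comp_apply, LinearMap.rTensor_comp_apply, hyx, hμx, hbx]
  have hy : y = 0 := hinj (by rw [LinearMap.rTensor_sub]; simp [hψy])
  have hx0 : x = 0 := by rw [← hyx, hy, map_zero]
  refine hqp.ne_top ?_
  rw [hx, hx0]
  rw [Submodule.span_singleton_eq_bot.2 rfl, Submodule.annihilator_bot]

end Groth.Agent.S1213
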