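import Groth.Statements.S12132
import Groth.Agent.TLenLib.Core
import Groth.Agent.S16234

-- import your own Groth.Agent.* helpers here

set_option autoImplicit false
universe u
open AssSch

namespace Groth.Agent.S12132



/-- Let B be a Noetherian local ring (the local ring of X at the generic point z of an irreducible
component Z of the support of F/tF), t an element of its maximal ideal, and M a finite B-module (the
stalk F_z) such that the support of M has positive dimension (Z is not an irreducible component of
Supp F) and M/tM has finite length (z is a maximal point of Supp(F/tF)). Then the length of M/tM is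
at least the sum, over the primes p of B minimal over the annihilator of M (the generic points of
the irreducible components of Supp F through z), of the lengths of the B_p-modules M_p; and the two
are equal if and only if t is a non-zero-divisor on M and for every such p the image of t generates
the maximal ideal of B/p (so that B/p is a discrete valuation ring with uniformizer t). -/
theorem result {B : Type u} [CommRing B] [IsNoetherianRing B]
    [IsLocalRing B] (t : B) (ht : t ∈ IsLocalRing.maximalIdeal B)
    (M : Type u) [AddCommGroup M] [Module B M] [Module.Finite B M]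
    (hdim : 0 < Module.supportDim B M)
    (hfin : Module.length B (M ⧸ (Ideal.span {t} • (⊤ : Submodule B M))) ≠ ⊤) :
    (∑ᶠ p : (Module.annihilator B M).minimalPrimes,
        haveI : p.1.IsPrime := p.2.1.1
        Module.length (Localization.AtPrime p.1) (LocalizedModule p.1.primeCompl M)) ≤
      Module.length B (M ⧸ (Ideal.span {t} • (⊤ : Submodule B M))) ∧
    ((∑ᶠ p : (Module.annihilator B M).minimalPrimes,
        haveI : p.1.IsPrime := p.2.1.1
        Module.length (Localization.AtPrime p.1) (LocalizedModule p.1.primeCompl M)) =
      Module.length B (M ⧸ (Ideal.span {t} • (⊤ : Submodule B M))) ↔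
    IsSMulRegular M t ∧
      ∀ p : (Module.annihilator B M).minimalPrimes,
        Ideal.map (Ideal.Quotient.mk p.1) (IsLocalRing.maximalIdeal B) =
          Ideal.span {Ideal.Quotient.mk p.1 t}) := by
  have h1 : TLenLib.Only (Module.annihilator B M) t := fun P hP hle htP => by
    have hfl := Module.length_ne_top_iff.1 hfin
    have hsupp : (⟨P, hP⟩ : PrimeSpectrum B) ∈ Module.support B (M ⧸ (Ideal.span {t} • (⊤ : Submodule B M))) := by
      rw [Module.support_quotient]
      exact ⟨Module.mem_support_iff_of_finite.2 hle,
        (PrimeSpectrum.mem_zeroLocus _ _).2 ((Ideal.span_singleton_le_iff_mem _).2 htP)⟩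
    exact IsLocalRing.eq_maximalIdeal ((Groth.Agent.S16234.result B _).mpr hfl ⟨P, hP⟩ hsupp)
  have h2 : IsLocalRing.maximalIdeal B ∉ (Module.annihilator B M).minimalPrimes := fun hmin => by
    haveI : Ring.KrullDimLE 0 (B ⧸ Module.annihilator B M) := Ring.KrullDimLE.mk₀ fun P hP => by
      have hle : Module.annihilator B M ≤ P.comap (Ideal.Quotient.mk _) := fun a ha => by
        rw [Ideal.mem_comap, Ideal.Quotient.eq_zero_iff_mem.2 ha]; exact zero_mem P
      have hle' := IsLocalRing.le_maximalIdeal (hP.comap (Ideal.Quotient.mk (Module.annihilator B M))).ne_top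
      have he := le_antisymm hle' (hmin.2 ⟨hP.comap _, hle⟩ hle')
      rw [← Ideal.map_comap_of_surjective _ Ideal.Quotient.mk_surjective P, he]
      refine (Ideal.map_eq_top_or_isMaximal_of_surjective _ Ideal.Quotient.mk_surjective
        (IsLocalRing.maximalIdeal.isMaximal B)).resolve_left fun htop => hP.ne_top ?_
      rw [← Ideal.map_comap_of_surjective _ Ideal.Quotient.mk_surjective P, he, htop]
    rw [Module.supportDim_eq_ringKrullDim_quotient_annihilator] at hdim
    exact absurd (Ring.krullDimLE_iff.1 this) (not_le.2 hdim)
  obtain ⟨ha, hb⟩ := h1.le_and_iff ht h2 M le_rfl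
  refine ⟨ha, hb.trans (and_congr_right' ⟨fun h p => h p ?_, fun h p _ => h p⟩)⟩
  haveI : p.1.IsPrime := p.2.1.1
  exact Module.mem_support_iff.1
    (Module.mem_support_iff_of_finite.2 p.2.1.2 : (⟨p.1, inferInstance⟩ : PrimeSpectrum B) ∈ Module.support B M)


end Groth.Agent.S12132
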