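import Groth.Statements.S12133
import Groth.Agent.GradedAlgLib.Veronese
-- import your own Groth.Agent.* helpers here

set_option autoImplicit false
universe u
open EGA2

namespace Groth.Agent.S12133
attribute [local instance] ULift.algebra'

namespace aux

attribute [local instance] ULift.algebra'

variable {A : Type u} [CommRing A] (𝒜 : ℕ → AddSubgroup A) [GradedRing 𝒜]

/-- the same grading with `ULift ℤ`-submodules (the scalars in the universe of `A`) -/
abbrev zGr : ℕ → Submodule (ULift.{u} ℤ) A := fun n =>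
  { (𝒜 n).toAddSubmonoid with
    smul_mem' := fun r x hx => show r.down • x ∈ 𝒜 n from zsmul_mem (K := 𝒜 n) hx r.down }

theorem zGr_restrictScalars (n : ℕ) :
    (zGr 𝒜 n).restrictScalars ℤ = AddSubgroup.toIntSubmodule (𝒜 n) := rfl

instance : SetLike.GradedMonoid (zGr 𝒜) where
  one_mem := SetLike.one_mem_graded 𝒜
  mul_mem _ _ _ _ ha hb := SetLike.mul_mem_graded (A := 𝒜) ha hb

noncomputable instance gradedAlgebraZ : GradedAlgebra (zGr 𝒜) where
  decompose' x := DirectSum.decompose 𝒜 x
  left_inv := DirectSum.Decomposition.left_inv (ℳ := 𝒜)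
  right_inv := DirectSum.Decomposition.right_inv (ℳ := 𝒜)

variable {R S : Type u} [CommRing R] [CommRing S] [Algebra R S]

/-- each degree of a graded ring of finite type over degree zero is generated by finitely many elements -/
theorem exists_span_deg (ℬ : ℕ → Submodule R S) [GradedAlgebra ℬ] [Algebra.FiniteType (ℬ 0) S] (k : ℕ) :
    ∃ T : Finset S, (T : Set S) ⊆ ℬ k ∧ ℬ k = ℬ 0 * Submodule.span R (T : Set S) := by
  classical
  obtain ⟨s, hs, hspan⟩ := ProjTopLib.exists_homogeneous_gens ℬ (ProjTopLib.fg_of_finiteType ℬ)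
  choose! d hd hmem using hs
  induction k using Nat.strong_induction_on with
  | _ k ih =>
    rcases Nat.eq_zero_or_pos k with rfl | hk
    · refine ⟨{1}, by simpa using SetLike.one_mem_graded ℬ, ?_⟩
      rw [Finset.coe_singleton, ← Submodule.one_eq_span, mul_one]
    choose! T hT hT' using ih
    let U : Finset S := (s.filter fun e => d e ≤ k).biUnion fun e => (T (k - d e)).image fun t => t * e
    have hU : (U : Set S) ⊆ ℬ k := by
      intro y hy
      simp only [U, Finset.mem_coe, Finset.mem_biUnion, Finset.mem_filter, Finset.mem_image] at hy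
      obtain ⟨e, ⟨he, hek⟩, t, ht, rfl⟩ := hy
      have hlt : k - d e < k := Nat.sub_lt hk (hd e he)
      have := SetLike.mul_mem_graded (hT _ hlt ht) (hmem e he)
      rwa [Nat.sub_add_cancel hek] at this
    refine ⟨U, hU, le_antisymm (fun a ha => ?_) ?_⟩
    · have hs' := hspan.le (ProjTopLib.mem_irrelevant_of_mem ℬ hk ha)
      obtain ⟨c, -, hc⟩ := Submodule.mem_span_finset.mp hs'
      rw [← DirectSum.decompose_of_mem_same ℬ ha, ← hc, DirectSum.decompose_sum, DFinsupp.finsetSum_apply,
        Submodule.coe_sum]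
      refine Submodule.sum_mem _ fun e he => ?_
      rw [smul_eq_mul]
      by_cases hek : d e ≤ k
      · rw [DirectSum.coe_decompose_mul_of_right_mem_of_le ℬ (hmem e he) hek]
        have hlt : k - d e < k := Nat.sub_lt hk (hd e he)
        have h1 : (DirectSum.decompose ℬ (c e) (k - d e) : S) ∈
            ℬ 0 * Submodule.span R (T (k - d e) : Set S) := hT' _ hlt ▸ SetLike.coe_mem _
        refine (?_ : ℬ 0 * Submodule.span R (T (k - d e) : Set S) * Submodule.span R ({e} : Set S) ≤
          ℬ 0 * Submodule.span R (U : Set S)) (Submodule.mul_mem_mul h1 (Submodule.mem_span_singleton_self e))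
        rw [mul_assoc, Submodule.span_mul_span]
        refine mul_le_mul' le_rfl (Submodule.span_mono ?_)
        rintro _ ⟨t, ht, _, rfl, rfl⟩
        simp only [U, Finset.mem_coe, Finset.mem_biUnion, Finset.mem_filter, Finset.mem_image]
        exact ⟨_, ⟨he, hek⟩, t, ht, rfl⟩
      · rw [DirectSum.coe_decompose_mul_of_right_mem_of_not_le ℬ (hmem e he) hek]
        exact zero_mem _
    · refine (mul_le_mul' le_rfl (Submodule.span_le.mpr hU)).trans ?_
      refine (GradedAlgLib.mul_le_add ℬ 0 k).trans (le_of_eq (by rw [zero_add]))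

/-- a degree in which all multiples are generated by powers, stable under taking multiples -/
theorem pow_degree_mul (ℬ : ℕ → Submodule R S) [GradedAlgebra ℬ] {h k : ℕ} (hk : 0 < k)
    (H : ∀ m : ℕ, 0 < m → ℬ (m * h) = ℬ h ^ m) (n : ℕ) (hn : 0 < n) :
    ℬ (n * (k * h)) = ℬ (k * h) ^ n := by
  rw [← mul_assoc, H _ (Nat.mul_pos hn hk), H _ hk, ← pow_mul, mul_comm]

theorem finiteType_zero {B : Type u} [CommRing B] (f : B →+* A) (hf : f.FiniteType)
    (hmem : ∀ b, f b ∈ 𝒜 0) : Algebra.FiniteType (zGr 𝒜 0) A := by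
  let g : B →+* (zGr 𝒜 0) :=
    { toFun := fun b => ⟨f b, hmem b⟩
      map_one' := Subtype.ext (map_one f)
      map_mul' := fun a b => Subtype.ext (map_mul f a b)
      map_zero' := Subtype.ext (map_zero f)
      map_add' := fun a b => Subtype.ext (map_add f a b) }
  have hg : (algebraMap (zGr 𝒜 0) A).comp g = f := RingHom.ext fun _ => rfl
  have := RingHom.FiniteType.of_comp_finiteType (f := g) (g := algebraMap (zGr 𝒜 0) A) (hg ▸ hf)
  exact this

end aux

open CategoryTheory AlgebraicGeometry Opposite in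
/-- Let Y be a scheme, 𝒮 a quasi-coherent positively graded O_Y-algebra, and (U_i) a finite cover of Y
by affine open sets such that each graded ring 𝒮(U_i) is an algebra of finite type over O_Y(U_i).
Then there is an integer d > 0 such that for every i: 𝒮(U_i)_{nd} = (𝒮(U_i)_d)^n for all n > 0 (as
additive subgroups of the ring 𝒮(U_i); that is, 𝒮^{(d)} is generated by 𝒮_d), and 𝒮(U_i)_d is a
finitely generated module over the degree-zero subring 𝒮(U_i)_0. (The published statement says 𝒮_d
is an O_Y-module of finite type; its proof gives finite generation over 𝒮_0, which is what is stated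
here — for 𝒮 = O_Y[x][T] with x of degree 0 and T of degree 1 over an affine Y, 𝒮 is of finite type
but 𝒮_1 = O_Y[x] T is not a finitely generated O_Y-module.) -/
theorem result {Y : Scheme.{u}} (𝒮 : RelProj.QCGrAlg Y)
    {ι : Type u} [Finite ι] (U : ι → Y.Opens) (hU : ∀ i, IsAffineOpen (U i)) (hcov : ⨆ i, U i = ⊤)
    (hft : ∀ i, (𝒮.str.app (op (U i))).hom.FiniteType) :
    ∃ d : ℕ, 0 < d ∧ ∀ i,
      (∀ n : ℕ, 0 < n →
        AddSubgroup.toIntSubmodule (𝒮.deg (U i) (hU i) (n * d)) =
          AddSubgroup.toIntSubmodule (𝒮.deg (U i) (hU i) d) ^ n) ∧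
      ∃ T : Finset (𝒮.presheaf.obj (op (U i))),
        (↑T : Set (𝒮.presheaf.obj (op (U i)))) ⊆ (𝒮.deg (U i) (hU i) d : Set (𝒮.presheaf.obj (op (U i)))) ∧
        AddSubgroup.toIntSubmodule (𝒮.deg (U i) (hU i) d) =
          AddSubgroup.toIntSubmodule (𝒮.deg (U i) (hU i) 0) *
            Submodule.span ℤ (↑T : Set (𝒮.presheaf.obj (op (U i)))) := by
  classical
  have hft' : ∀ i, Algebra.FiniteType (aux.zGr (𝒮.deg (U i) (hU i)) 0) (𝒮.presheaf.obj (op (U i))) := fun i =>
    aux.finiteType_zero _ _ (hft i) (𝒮.str_mem (U i) (hU i))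
  choose h hh hpow using fun i => by
    have := hft' i
    exact GradedAlgLib.exists_pow_degree (aux.zGr (𝒮.deg (U i) (hU i)))
  have := Fintype.ofFinite ι
  refine ⟨∏ i, h i, Finset.prod_pos fun i _ => hh i, fun i => ⟨fun n hn => ?_, ?_⟩⟩
  · obtain ⟨k, hk⟩ := Finset.dvd_prod_of_mem h (Finset.mem_univ i)
    have hk0 : 0 < k := Nat.pos_of_ne_zero fun h0 => by
      have := Finset.prod_pos (s := Finset.univ) fun i _ => hh i
      rw [hk, h0, mul_zero] at this
      exact lt_irrefl 0 this
    rw [hk, mul_comm (h i)]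
    have e := congrArg (Submodule.restrictScalars ℤ)
      (aux.pow_degree_mul (aux.zGr (𝒮.deg (U i) (hU i))) hk0 (hpow i) n hn)
    rwa [Submodule.restrictScalars_pow hn.ne', aux.zGr_restrictScalars, aux.zGr_restrictScalars] at e
  · have := hft' i
    obtain ⟨T, hT, e⟩ := aux.exists_span_deg (aux.zGr (𝒮.deg (U i) (hU i))) (∏ i, h i)
    refine ⟨T, hT, ?_⟩
    have e' := congrArg (Submodule.restrictScalars ℤ) e
    rwa [Submodule.restrictScalars_mul, Submodule.restrictScalars_span ℤ _ (fun r => ⟨r.down, rfl⟩),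
      aux.zGr_restrictScalars, aux.zGr_restrictScalars] at e'


end Groth.Agent.S12133
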