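import Groth.Statements.S12134
import Groth.Agent.GradedStratLib.Stratum
-- import your own Groth.Agent.* helpers here

set_option autoImplicit false
set_option maxHeartbeats 2000000
set_option backward.isDefEq.respectTransparency false
universe u
open scoped TensorProduct
open EGA43

namespace Groth.Agent.S12134

open AlgebraicGeometry CategoryTheory

/-- An affine piece of the base. -/
structure Piece₀ (A₀ : Type u) [CommRing A₀] where
  carrier : Type u
  [ring : CommRing carrier]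
  [alg : Algebra A₀ carrier]

attribute [instance] Piece₀.ring Piece₀.alg

abbrev rg {A₀ : Type u} [CommRing A₀] (P : Piece₀.{u} A₀) : Set (Spec (CommRingCat.of A₀)) :=
  Set.range (Spec.map (CommRingCat.ofHom (algebraMap A₀ P.carrier)))

/-- A prime and a basic open isolating it inside a closed subset. -/
theorem exists_prime_nhd {A₀ : Type u} [CommRing A₀] [IsNoetherianRing A₀] (I : Ideal A₀) (hI : I ≠ ⊤) :
    ∃ (p : Ideal A₀) (_ : p.IsPrime) (g : A₀), I ≤ p ∧ g ∉ p ∧ ∀ q : Ideal A₀, q.IsPrime → I ≤ q → g ∉ q → p ≤ q := by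
  classical
  obtain ⟨m, hm, hIm⟩ := Ideal.exists_le_maximal I hI
  obtain ⟨p, hp, -⟩ := Ideal.exists_minimalPrimes_le hIm
  haveI : p.IsPrime := hp.1.1
  have hfin : (I.minimalPrimes \ {p}).Finite := (Ideal.finite_minimalPrimes_of_isNoetherianRing A₀ I).diff
  have hg : ∀ r ∈ hfin.toFinset, ∃ g ∈ r, g ∉ p := fun r hr => by
    rw [Set.Finite.mem_toFinset] at hr
    refine SetLike.not_le_iff_exists.1 fun hle => hr.2 ?_
    exact le_antisymm hle (hp.2 hr.1.1 hle)
  choose g hgr hgp using hg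
  refine ⟨p, ‹_›, ∏ r ∈ hfin.toFinset.attach, g r.1 r.2, hp.1.2, ?_, ?_⟩
  · intro h
    obtain ⟨r, -, hr⟩ := (Ideal.IsPrime.prod_mem_iff (p := p)).1 h
    exact hgp r.1 r.2 hr
  · intro q hq hIq hgq
    obtain ⟨r, hr, hrq⟩ := Ideal.exists_minimalPrimes_le hIq
    by_contra hpq
    have hmem : r ∈ hfin.toFinset := by
      rw [Set.Finite.mem_toFinset]
      exact ⟨hr, fun h => hpq (by rwa [Set.mem_singleton_iff.1 h] at hrq)⟩
    exact hgq (Ideal.mem_of_dvd q (Finset.dvd_prod_of_mem (fun x => g x.1 x.2) (Finset.mem_attach _ ⟨r, hmem⟩)) (hrq (hgr r hmem)))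

theorem range_stratum {A₀ : Type u} [CommRing A₀] (p : Ideal A₀) [p.IsPrime] (f : A₀) :
    rg (⟨GradedStrat.LA p f⟩ : Piece₀.{u} A₀) = PrimeSpectrum.zeroLocus (p : Set A₀) ∩ (PrimeSpectrum.basicOpen f : Set _) := by
  show Set.range (PrimeSpectrum.comap (algebraMap A₀ (GradedStrat.LA p f))) = _
  rw [IsScalarTower.algebraMap_eq A₀ (A₀ ⧸ p) (GradedStrat.LA p f), PrimeSpectrum.comap_comp,
    Set.range_comp, PrimeSpectrum.localization_away_comap_range (GradedStrat.LA p f) (Ideal.Quotient.mk p f)]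
  ext x
  constructor
  · rintro ⟨y, hy, rfl⟩
    refine ⟨?_, hy⟩
    intro a ha
    show Ideal.Quotient.mk p a ∈ y.asIdeal
    rw [Ideal.Quotient.eq_zero_iff_mem.2 ha]
    exact Ideal.zero_mem _
  · rintro ⟨h1, h2⟩
    have hx : x ∈ Set.range (PrimeSpectrum.comap (algebraMap A₀ (A₀ ⧸ p))) := by
      rw [range_comap_of_surjective (A₀ ⧸ p) (algebraMap A₀ (A₀ ⧸ p)) Ideal.Quotient.mk_surjective]
      show (↑(RingHom.ker (algebraMap A₀ (A₀ ⧸ p))) : Set A₀) ⊆ x.asIdeal
      rw [Ideal.Quotient.algebraMap_eq, Ideal.mk_ker]; exact h1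
    obtain ⟨y, rfl⟩ := hx
    exact ⟨y, h2, rfl⟩

theorem immersion_stratum {A₀ : Type u} [CommRing A₀] (p : Ideal A₀) (f : A₀) :
    IsImmersion (Spec.map (CommRingCat.ofHom (algebraMap A₀ (GradedStrat.LA p f)))) := by
  rw [IsScalarTower.algebraMap_eq A₀ (A₀ ⧸ p) (GradedStrat.LA p f), CommRingCat.ofHom_comp, Spec.map_comp]
  haveI : IsClosedImmersion (Spec.map (CommRingCat.ofHom (algebraMap A₀ (A₀ ⧸ p)))) :=
    IsClosedImmersion.spec_of_surjective _ Ideal.Quotient.mk_surjective
  haveI : IsOpenImmersion (Spec.map (CommRingCat.ofHom (algebraMap (A₀ ⧸ p) (GradedStrat.LA p f)))) :=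
    IsOpenImmersion.of_isLocalization (Ideal.Quotient.mk p f)
  infer_instance

theorem exists_pieces {A₀ : Type u} [CommRing A₀] [IsNoetherianRing A₀]
    {B₀ : Type u} [CommRing B₀] [Algebra A₀ B₀] [Algebra.FiniteType A₀ B₀] (J₀ : Ideal B₀)
    (M₀ : Type u) [AddCommGroup M₀] [Module B₀ M₀] [Module A₀ M₀] [IsScalarTower A₀ B₀ M₀]
    [Module.Finite B₀ M₀] (I : Ideal A₀) :
    ∃ (m : ℕ) (P : Fin m → Piece₀.{u} A₀),
      (∀ i, IsImmersion (Spec.map (CommRingCat.ofHom (algebraMap A₀ (P i).carrier)))) ∧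
      (∀ i j, i ≠ j → Disjoint (rg (P i)) (rg (P j))) ∧
      (⋃ i, rg (P i)) = PrimeSpectrum.zeroLocus (I : Set A₀) ∧
      (∀ i, ∃ U : Set (Spec (CommRingCat.of A₀)), IsOpen U ∧ U ∩ (⋃ j, ⋃ (_ : i ≤ j), rg (P j)) = rg (P i)) ∧
      ∀ i (n : ℕ), Module.Flat (P i).carrier
        ↥(Submodule.map (GradedStrat.Im (A₀ := A₀) J₀ M₀ (P i).carrier (n + 1)).mkQ
          (GradedStrat.Im (A₀ := A₀) J₀ M₀ (P i).carrier n)) := by
  induction I using IsNoetherian.induction with
  | hgt I ih =>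
  by_cases hI : I = ⊤
  · refine ⟨0, Fin.elim0, fun i => i.elim0, fun i => i.elim0, ?_, fun i => i.elim0, fun i => i.elim0⟩
    rw [hI, Set.iUnion_of_empty]
    exact (PrimeSpectrum.zeroLocus_univ).symm
  obtain ⟨p, hp, g, hIp, hg, hiso⟩ := exists_prime_nhd I hI
  obtain ⟨f₁, hf₁, hflat⟩ := GradedStrat.exists_flat_stratum J₀ M₀ p
  let f := f₁ * g
  have hf : f ∉ p := fun h => (hp.mem_or_mem h).elim hf₁ hg
  have hlt : I < I ⊔ Ideal.span {f} := by
    refine lt_of_le_of_ne le_sup_left fun h => hf (hIp ?_)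
    rw [h]
    exact Ideal.mem_sup_right (Ideal.mem_span_singleton_self f)
  obtain ⟨m, P, himm, hdisj, hcov, hopen, hfl⟩ := ih _ hlt
  let P₀ : Piece₀.{u} A₀ := ⟨GradedStrat.LA p f⟩
  have hrg : rg P₀ = PrimeSpectrum.zeroLocus (I : Set A₀) ∩ (PrimeSpectrum.basicOpen f : Set _) := by
    rw [range_stratum]
    ext q
    refine ⟨fun ⟨h1, h2⟩ => ⟨Set.Subset.trans hIp h1, h2⟩, fun ⟨h1, h2⟩ => ⟨?_, h2⟩⟩
    exact hiso q.asIdeal q.2 h1 (fun hgq => h2 (Ideal.mul_mem_left _ _ hgq))
  have hrest : PrimeSpectrum.zeroLocus ((I ⊔ Ideal.span {f} : Ideal A₀) : Set A₀) =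
      PrimeSpectrum.zeroLocus (I : Set A₀) \ (PrimeSpectrum.basicOpen f : Set _) := by
    ext q
    simp [PrimeSpectrum.mem_zeroLocus, Ideal.span_le, PrimeSpectrum.basicOpen_eq_zeroLocus_compl]
  have hd : ∀ j, Disjoint (rg P₀) (rg (P j)) := fun j => by
    refine Set.disjoint_left.2 fun q hq hq' => ?_
    have := hcov.subset (Set.mem_iUnion.2 ⟨j, hq'⟩)
    rw [hrest] at this
    rw [hrg] at hq
    exact this.2 hq.2
  refine ⟨m + 1, Fin.cons P₀ P, ?_, ?_, ?_, ?_, ?_⟩
  · intro i; cases i using Fin.cases with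
    | zero => exact immersion_stratum p f
    | succ i => exact himm i
  · intro i j hij
    cases i using Fin.cases with
    | zero => cases j using Fin.cases with
      | zero => exact absurd rfl hij
      | succ j => simpa using hd j
    | succ i => cases j using Fin.cases with
      | zero => simpa using (hd i).symm
      | succ j => simpa using hdisj i j (fun h => hij (by rw [h]))
  · ext q
    constructor
    · intro h
      obtain ⟨i, hi⟩ := Set.mem_iUnion.1 h
      cases i using Fin.cases with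
      | zero => rw [Fin.cons_zero, hrg] at hi; exact hi.1
      | succ i =>
        rw [Fin.cons_succ] at hi
        have := hcov.subset (Set.mem_iUnion.2 ⟨i, hi⟩)
        rw [hrest] at this; exact this.1
    · intro h
      by_cases hq : q ∈ ((PrimeSpectrum.basicOpen f : TopologicalSpace.Opens (PrimeSpectrum A₀)) : Set (PrimeSpectrum A₀))
      · exact Set.mem_iUnion.2 ⟨0, by rw [Fin.cons_zero, hrg]; exact ⟨h, hq⟩⟩
      · obtain ⟨i, hi⟩ := Set.mem_iUnion.1 (hcov.superset (show q ∈ PrimeSpectrum.zeroLocus _ by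
          rw [hrest]; exact ⟨h, hq⟩))
        exact Set.mem_iUnion.2 ⟨i.succ, by rw [Fin.cons_succ]; exact hi⟩
  · intro i
    cases i using Fin.cases with
    | zero =>
      refine ⟨((PrimeSpectrum.basicOpen f : TopologicalSpace.Opens (PrimeSpectrum A₀)) : Set (PrimeSpectrum A₀)),
        (PrimeSpectrum.basicOpen f).isOpen, ?_⟩
      ext q
      constructor
      · rintro ⟨hqf, hq⟩
        simp only [Set.mem_iUnion] at hq
        obtain ⟨j, -, hj⟩ := hq
        cases j using Fin.cases with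
        | zero => exact hj
        | succ j =>
          rw [Fin.cons_succ] at hj
          have := hcov.subset (Set.mem_iUnion.2 ⟨j, hj⟩)
          rw [hrest] at this
          exact absurd hqf this.2
      · intro hq
        rw [Fin.cons_zero] at hq
        refine ⟨(hrg.subset hq).2, ?_⟩
        simp only [Set.mem_iUnion]
        exact ⟨0, le_rfl, by rw [Fin.cons_zero]; exact hq⟩
    | succ i =>
      obtain ⟨U, hU, hUi⟩ := hopen i
      refine ⟨U, hU, ?_⟩
      rw [Fin.cons_succ, ← hUi]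
      congr 1
      ext q
      simp only [Set.mem_iUnion]
      constructor
      · rintro ⟨j, hij, hj⟩
        cases j using Fin.cases with
        | zero => exact absurd hij (by simp [Fin.le_def])
        | succ j => exact ⟨j, Fin.succ_le_succ_iff.1 hij, by rwa [Fin.cons_succ] at hj⟩
      · rintro ⟨j, hij, hj⟩
        exact ⟨j.succ, Fin.succ_le_succ_iff.2 hij, by rwa [Fin.cons_succ]⟩
  · intro i n
    cases i using Fin.cases with
    | zero => exact hflat f (dvd_mul_right _ _) n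
    | succ i => exact hfl i n


open AlgebraicGeometry CategoryTheory in
/-- Suppose A₀ is a Noetherian ring and B₀ is a finitely generated A₀-algebra; fix an ideal J₀ ⊆ B₀ and
a finite B₀-module M₀. Then Spec A₀ admits finitely many affine subschemes S_1, …, S_m — presented
as immersions Spec A_i → Spec A₀ — whose underlying sets are mutually disjoint with union all of
Spec A₀, such that each S_i is open in S_i ∪ S_{i+1} ∪ … ∪ S_m, and such that for each i, setting
N_i = A_i ⊗_{A₀} M₀, the graded module associated to the J₀-adic filtration on N_i is A_i-flat.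
Concretely, for every n the A_i-module J₀ⁿN_i / J₀ⁿ⁺¹N_i is flat, where this quotient is encoded as
the image of J₀ⁿN_i inside N_i / J₀ⁿ⁺¹N_i, and J₀ⁿN_i denotes the image in N_i of A_i ⊗_{A₀} J₀ⁿM₀. -/
theorem result {A₀ : Type u} [CommRing A₀] [IsNoetherianRing A₀]
    {B₀ : Type u} [CommRing B₀] [Algebra A₀ B₀] [Algebra.FiniteType A₀ B₀] (J₀ : Ideal B₀)
    (M₀ : Type u) [AddCommGroup M₀] [Module B₀ M₀] [Module A₀ M₀] [IsScalarTower A₀ B₀ M₀]
    [Module.Finite B₀ M₀] :
    ∃ (m : ℕ) (A : Fin m → Type u) (_ : ∀ i, CommRing (A i)) (_ : ∀ i, Algebra A₀ (A i)),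
      (∀ i, IsImmersion (Spec.map (CommRingCat.ofHom (algebraMap A₀ (A i))))) ∧
      (∀ i j, i ≠ j → Disjoint (Set.range (Spec.map (CommRingCat.ofHom (algebraMap A₀ (A i)))))
        (Set.range (Spec.map (CommRingCat.ofHom (algebraMap A₀ (A j)))))) ∧
      (⋃ i, Set.range (Spec.map (CommRingCat.ofHom (algebraMap A₀ (A i)))) = Set.univ) ∧
      (∀ i, ∃ U : Set (Spec (CommRingCat.of A₀)), IsOpen U ∧
        U ∩ (⋃ j, ⋃ (_ : i ≤ j), Set.range (Spec.map (CommRingCat.ofHom (algebraMap A₀ (A j))))) =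
          Set.range (Spec.map (CommRingCat.ofHom (algebraMap A₀ (A i))))) ∧
      ∀ i (n : ℕ), Module.Flat (A i)
        ↥(Submodule.map
            (LinearMap.range (LinearMap.baseChange (A i)
              ((J₀ ^ (n + 1) • (⊤ : Submodule B₀ M₀)).restrictScalars A₀).subtype)).mkQ
            (LinearMap.range (LinearMap.baseChange (A i)
              ((J₀ ^ n • (⊤ : Submodule B₀ M₀)).restrictScalars A₀).subtype))) := by
  obtain ⟨m, P, h1, h2, h3, h4, h5⟩ := exists_pieces J₀ M₀ (⊥ : Ideal A₀)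
  exact ⟨m, fun i => (P i).carrier, fun i => (P i).ring, fun i => (P i).alg, h1, h2,
    h3.trans PrimeSpectrum.zeroLocus_bot, h4, fun i n => h5 i n⟩

end Groth.Agent.S12134
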