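import Groth.Statements.S12135
import Groth.Agent.ProConsLib.Sch

set_option autoImplicit false
universe u
open EGA41

namespace Groth.Agent.S12135

section Cons
open Topology

variable {X : Type*} [TopologicalSpace X] [QuasiSeparatedSpace X] [PrespectralSpace X]

omit [QuasiSeparatedSpace X] [PrespectralSpace X] in
lemma isClopen_cons_of_isOpen {U : Set X} (hU : IsOpen U) (hU' : IsCompact U) :
    @IsClopen X (constructibleTopology X) U :=
  ⟨@IsClosed.mk X (constructibleTopology X) U
      (IsCompact.isOpen_constructibleTopology_of_isClosed (by rwa [compl_compl]) hU.isClosed_compl),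
    hU'.isOpen_constructibleTopology_of_isOpen hU⟩

omit [QuasiSeparatedSpace X] in
lemma continuous_cons_id : Continuous[constructibleTopology X, ‹TopologicalSpace X›] (id : X → X) := by
  refine continuous_def.mpr fun U hU => ?_
  refine (@isOpen_iff_forall_mem_open X (constructibleTopology X) _).mpr fun x hx => ?_
  obtain ⟨V, ⟨hV, hV'⟩, hxV, hVU⟩ := PrespectralSpace.isTopologicalBasis.exists_subset_of_mem_open hx hU
  exact ⟨V, hVU, (isClopen_cons_of_isOpen hV hV').2, hxV⟩

omit [QuasiSeparatedSpace X] in
lemma t2Space_cons_qs [T0Space X] : @T2Space X (constructibleTopology X) := by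
  have key : ∀ a b : X, ¬ a ⤳ b → ∃ V : Set X, IsOpen V ∧ IsCompact V ∧ b ∈ V ∧ a ∉ V := fun a b hab => by
    obtain ⟨U, hU, hbU, haU⟩ := not_specializes_iff_exists_open.mp hab
    obtain ⟨V, ⟨hV, hVc⟩, hbV, hVU⟩ :=
      PrespectralSpace.isTopologicalBasis.exists_subset_of_mem_open hbU hU
    exact ⟨V, hV, hVc, hbV, fun h => haU (hVU h)⟩
  refine @T2Space.mk X (constructibleTopology X) fun x y hxy => ?_
  by_cases h : x ⤳ y
  · obtain ⟨V, hV, hV', hxV, hyV⟩ := key y x fun h' => hxy (h.antisymm h').eq
    exact ⟨V, Vᶜ, (isClopen_cons_of_isOpen hV hV').2,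
      (@IsClosed.isOpen_compl X (constructibleTopology X) V (isClopen_cons_of_isOpen hV hV').1),
      hxV, hyV, disjoint_compl_right⟩
  · obtain ⟨V, hV, hV', hyV, hxV⟩ := key x y h
    exact ⟨Vᶜ, V, (@IsClosed.isOpen_compl X (constructibleTopology X) V (isClopen_cons_of_isOpen hV hV').1),
      (isClopen_cons_of_isOpen hV hV').2, hxV, hyV, disjoint_compl_left⟩

lemma isCompact_cons_of_isOpen [QuasiSober X] {U : Set X} (hU : IsOpen U) (hU' : IsCompact U) :
    @IsCompact X (constructibleTopology X) U := by
  have : CompactSpace U := isCompact_iff_compactSpace.mp hU'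
  have : QuasiSeparatedSpace U := hU.isOpenEmbedding_subtypeVal.quasiSeparatedSpace
  have : PrespectralSpace U := hU.isOpenEmbedding_subtypeVal.prespectralSpace
  have : QuasiSober U := hU.isOpenEmbedding_subtypeVal.quasiSober
  have hc : Continuous[constructibleTopology U, constructibleTopology X] (Subtype.val : U → X) := by
    refine continuous_generateFrom_iff.mpr fun s hs => ?_
    rcases hs with ⟨ho, hc⟩ | ⟨ho, hc⟩
    · refine (ProConsLib.isClopen_cons_of_isConstructible
        (IsCompact.isConstructible ?_ (ho.preimage continuous_subtype_val))).2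
      rw [hU.isOpenEmbedding_subtypeVal.isEmbedding.isCompact_iff, Set.image_preimage_eq_inter_range,
        Subtype.range_coe]
      exact QuasiSeparatedSpace.inter_isCompact s U ho hc hU hU'
    · rw [← compl_compl s, Set.preimage_compl]
      refine @IsClosed.isOpen_compl U (constructibleTopology U) _ (ProConsLib.isClopen_cons_of_isConstructible
        (IsCompact.isConstructible ?_ (ho.isOpen_compl.preimage continuous_subtype_val))).1
      rw [hU.isOpenEmbedding_subtypeVal.isEmbedding.isCompact_iff, Set.image_preimage_eq_inter_range,
        Subtype.range_coe]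
      exact QuasiSeparatedSpace.inter_isCompact sᶜ U ho.isOpen_compl hc hU hU'
  have := @IsCompact.image U X (constructibleTopology U) (constructibleTopology X) Set.univ _
    (@isCompact_univ U (constructibleTopology U) ProConsLib.compactSpace_cons) hc
  rwa [Set.image_univ, Subtype.range_coe] at this

lemma weaklyLocallyCompactSpace_cons [QuasiSober X] :
    @WeaklyLocallyCompactSpace X (constructibleTopology X) := by
  refine @WeaklyLocallyCompactSpace.mk X (constructibleTopology X) fun x => ?_
  obtain ⟨V, ⟨hV, hV'⟩, hxV, -⟩ :=
    PrespectralSpace.isTopologicalBasis.exists_subset_of_mem_open (Set.mem_univ x) isOpen_univ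
  exact ⟨V, isCompact_cons_of_isOpen hV hV',
    @IsOpen.mem_nhds X (constructibleTopology X) x V (isClopen_cons_of_isOpen hV hV').2 hxV⟩

end Cons


open AlgebraicGeometry Topology in
/-- Let f : X → Y be a morphism of schemes with X and Y quasi-separated, and let X^cons, Y^cons denote
the underlying sets with the constructible topology (generated by the quasi-compact open subsets and
their complements; for quasi-separated schemes the open sets are exactly the ind-constructible
subsets). Then f is quasi-compact if and only if the map X^cons → Y^cons underlying f is proper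
(continuous and universally closed). (The published statement is for arbitrary schemes with the
ind-constructible topology; this row covers the quasi-separated case, where that topology is the one
used here.) -/
theorem result {X Y : Scheme.{u}} [QuasiSeparatedSpace X]
    [QuasiSeparatedSpace Y] (f : X ⟶ Y) :
    QuasiCompact f ↔ @IsProperMap X Y (constructibleTopology X) (constructibleTopology Y) f := by
  rw [@isProperMap_iff_isCompact_preimage X Y (constructibleTopology X) (constructibleTopology Y)
    t2Space_cons_qs (@CompactlyCoherentSpace.of_weaklyLocallyCompactSpace Y (constructibleTopology Y)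
      weaklyLocallyCompactSpace_cons)]
  constructor
  · intro hf
    have hcont : Continuous[constructibleTopology X, constructibleTopology Y] f := by
      refine continuous_generateFrom_iff.mpr fun s hs => ?_
      rcases hs with ⟨ho, hc⟩ | ⟨ho, hc⟩
      · exact (isClopen_cons_of_isOpen (ho.preimage f.continuous) (QuasiCompact.isCompact_preimage _ ho hc)).2
      · rw [← compl_compl s, Set.preimage_compl]
        exact @IsClosed.isOpen_compl X (constructibleTopology X) _
          (isClopen_cons_of_isOpen (ho.isOpen_compl.preimage f.continuous) (QuasiCompact.isCompact_preimage _ ho.isOpen_compl hc)).1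
    refine ⟨hcont, fun K hK => ?_⟩
    choose V hV hxV _hV using fun y : Y =>
      PrespectralSpace.isTopologicalBasis.exists_subset_of_mem_open (Set.mem_univ y) isOpen_univ
    obtain ⟨t, ht⟩ := @IsCompact.elim_finite_subcover Y (constructibleTopology Y) K Y hK V
      (fun y => (isClopen_cons_of_isOpen (hV y).1 (hV y).2).2) (fun y _ => Set.mem_iUnion.mpr ⟨y, hxV y⟩)
    refine @IsCompact.of_isClosed_subset X (constructibleTopology X) _ _
      (@Finset.isCompact_biUnion X Y (constructibleTopology X) t (fun y => f ⁻¹' V y) fun y _ =>
        isCompact_cons_of_isOpen ((hV y).1.preimage f.continuous) (QuasiCompact.isCompact_preimage _ (hV y).1 (hV y).2))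
      (@IsClosed.preimage X Y (constructibleTopology X) (constructibleTopology Y) _ hcont K
        (@IsCompact.isClosed Y (constructibleTopology Y) t2Space_cons_qs K hK)) fun x hx => ?_
    obtain ⟨y, hy, hxy⟩ := Set.mem_iUnion₂.mp (ht hx)
    exact Set.mem_iUnion₂.mpr ⟨y, hy, hxy⟩
  · rintro ⟨-, hprop⟩
    refine ⟨fun U hU hU' => ?_⟩
    have h1 := hprop (isCompact_cons_of_isOpen hU hU')
    have h2 := @IsCompact.image X X (constructibleTopology X) _ _ _ h1 continuous_cons_id
    rwa [Set.image_id] at h2

end Groth.Agent.S12135
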