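import Groth.Statements.S12137
import Groth.Agent.RelConeLib.PolyProj
import Groth.Agent.RelConeLib.Spec
-- import your own Groth.Agent.* helpers here

set_option autoImplicit false
universe u
open CategoryTheory CategoryTheory.Limits AlgebraicGeometry Opposite TopologicalSpace
open scoped HomogeneousIdeal
noncomputable section
open EGA2

namespace Groth.Agent.S12137

/-- Let Y be a scheme, 𝒜 a quasi-coherent O_Y-algebra and Ŝ = 𝒜[T], graded with 𝒜 in degree 0 and T in
degree 1 — presented through a homomorphism of algebras ι : 𝒜 → Ŝ landing in degree 0 and a global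
section z of Ŝ of degree 1 such that, over every affine open U, the map 𝒜(U)[X] → Ŝ(U) sending X to
z is bijective — and let p : P → Y with its charts be the relative homogeneous spectrum Proj(Ŝ). For
each affine open U let θ_U : Ŝ(U)_(z) → 𝒜(U) be the ring isomorphism sending ι(a) z^k / z^k to a.
Then there is a unique morphism i : Spec(𝒜) → P which, on the chart Spec 𝒜(U) of Spec(𝒜) over each
affine open U, is Spec(θ_U) followed by the open immersion of D_+(z|U) into Proj Ŝ(U) and the chart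
of P; moreover i is an isomorphism and lies over Y. In particular Proj(O_Y[T]) is Y. -/
theorem result {Y P : Scheme.{u}} (𝒜 : RelSpec.QCAlg Y) (Sh : RelProj.QCGrAlg Y)
    (ι : 𝒜 ⟶ Sh.toQCAlg)
    (hι : ∀ (U : Y.Opens) (hU : IsAffineOpen U) (a : 𝒜.presheaf.obj (op U)), (ι.hom.app (op U)).hom a ∈ Sh.deg U hU 0)
    (z : Sh.presheaf.obj (op ⊤))
    (hz : ∀ (U : Y.Opens) (hU : IsAffineOpen U), (Sh.presheaf.map (homOfLE le_top).op).hom z ∈ Sh.deg U hU 1)
    (hpoly : ∀ (U : Y.Opens) (hU : IsAffineOpen U),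
      Function.Bijective (Polynomial.eval₂RingHom (ι.hom.app (op U)).hom ((Sh.presheaf.map (homOfLE le_top).op).hom z)))
    (p : P ⟶ Y)
    (chart : ∀ (U : Y.Opens) (hU : IsAffineOpen U), (((p ⁻¹ᵁ U : P.Opens) : Scheme.{u}) ≅ Proj (Sh.deg U hU)))
    (hP : RelProj.IsRelProj Sh p chart)
    (θ : ∀ (U : Y.Opens) (hU : IsAffineOpen U),
      CommRingCat.of (HomogeneousLocalization.Away (Sh.deg U hU) ((Sh.presheaf.map (homOfLE le_top).op).hom z)) ⟶
        𝒜.presheaf.obj (op U))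
    (hθ : ∀ (U : Y.Opens) (hU : IsAffineOpen U)
      (q : HomogeneousLocalization.Away (Sh.deg U hU) ((Sh.presheaf.map (homOfLE le_top).op).hom z))
      (k : ℕ) (a : 𝒜.presheaf.obj (op U)),
        q.val = Localization.mk ((ι.hom.app (op U)).hom a * (Sh.presheaf.map (homOfLE le_top).op).hom z ^ k)
          ⟨(Sh.presheaf.map (homOfLE le_top).op).hom z ^ k,
            pow_mem (Submonoid.mem_powers ((Sh.presheaf.map (homOfLE le_top).op).hom z)) k⟩ →
        (θ U hU).hom q = a) :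
    (∃! i : 𝒜.spec ⟶ P, ∀ (U : Y.Opens) (hU : IsAffineOpen U),
        𝒜.ι U hU ≫ i =
          Spec.map (θ U hU) ≫
            Proj.awayι (Sh.deg U hU) ((Sh.presheaf.map (homOfLE le_top).op).hom z) (hz U hU) one_pos ≫
              RelProj.emb p chart U hU) ∧
      ∀ i : 𝒜.spec ⟶ P, (∀ (U : Y.Opens) (hU : IsAffineOpen U),
        𝒜.ι U hU ≫ i =
          Spec.map (θ U hU) ≫
            Proj.awayι (Sh.deg U hU) ((Sh.presheaf.map (homOfLE le_top).op).hom z) (hz U hU) one_pos ≫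
              RelProj.emb p chart U hU) →
        IsIso i ∧ i ≫ p = 𝒜.π := by

  let zU : ∀ U : Y.Opens, Sh.presheaf.obj (op U) := fun U => (Sh.presheaf.map (homOfLE le_top).op).hom z
  let fU : ∀ U : Y.Opens, 𝒜.presheaf.obj (op U) →+* Sh.presheaf.obj (op U) := fun U => (ι.hom.app (op U)).hom
  let t : ∀ (U : Y.Opens) (hU : IsAffineOpen U), Spec (𝒜.presheaf.obj (op U)) ⟶ P := fun U hU =>
    Spec.map (θ U hU) ≫ Proj.awayι (Sh.deg U hU) (zU U) (hz U hU) one_pos ≫ RelProj.emb p chart U hU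
  have hres : ∀ (U : Y.Opens) (hU : IsAffineOpen U) (r : Γ(Y, U)),
      Spec.map (𝒜.presheaf.map (homOfLE (Y.basicOpen_le r)).op) ≫ t U hU = t _ (hU.basicOpen r) := by
    intro U hU r
    let W := Y.basicOpen r
    let hW : IsAffineOpen W := hU.basicOpen r
    let ρ := Sh.res hU hW (Y.basicOpen_le r)
    have hzres : ρ (zU U) = zU W := by
      show ((Sh.presheaf.map (homOfLE le_top).op) ≫ (Sh.presheaf.map (homOfLE (Y.basicOpen_le r)).op)).hom z = _
      rw [← Functor.map_comp, ← op_comp, homOfLE_comp]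
    have key : ∀ (e : Sh.presheaf.obj (op W)) (he : e ∈ Sh.deg W hW 1) (hee : ρ (zU U) = e),
        ∃ k : HomogeneousLocalization.Away (Sh.deg U hU) (zU U) →+* HomogeneousLocalization.Away (Sh.deg W hW) e,
          (∀ n a ha, k (HomogeneousLocalization.Away.mk _ (hz U hU) n a ha) =
            HomogeneousLocalization.Away.mk _ he n (ρ a) (ρ.2 ha)) ∧
          Proj.awayι (Sh.deg W hW) e he one_pos ≫ Proj.map ρ (Sh.irrelevant_le_map U hU r) =
            Spec.map (CommRingCat.ofHom k) ≫ Proj.awayι (Sh.deg U hU) (zU U) (hz U hU) one_pos := by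
      intro e he hee
      subst hee
      exact ⟨HomogeneousLocalization.Away.map ρ _, fun n a ha => HomogeneousLocalization.Away.map_mk ..,
        Proj.awayι_comp_map ρ _ one_pos _ _⟩
    obtain ⟨k, hk, hk'⟩ := key _ (hz W hW) hzres
    have hEq : θ U hU ≫ 𝒜.presheaf.map (homOfLE (Y.basicOpen_le r)).op = CommRingCat.ofHom k ≫ θ W hW := by
      refine CommRingCat.hom_ext (RingHom.ext fun q => ?_)
      obtain ⟨n, b, hb, rfl⟩ := HomogeneousLocalization.Away.mk_surjective _ (hz U hU) q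
      obtain ⟨a, rfl⟩ := RelConeLib.polyHom_homogeneous (fU U) (hι U hU) (zU U) (hz U hU) (hpoly U hU) (n := n)
        (by simpa using hb)
      show (𝒜.presheaf.map (homOfLE (Y.basicOpen_le r)).op).hom ((θ U hU).hom _) = (θ W hW).hom (k _)
      rw [hθ U hU _ n a (HomogeneousLocalization.Away.val_mk _ _ _ _ _), hk]
      refine (hθ W hW _ n _ ?_).symm
      rw [HomogeneousLocalization.Away.val_mk, map_mul, map_pow, hzres]
      congr 2
      exact (NatTrans.naturality_apply ι.hom (homOfLE (Y.basicOpen_le r)).op a).symm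
    show Spec.map _ ≫ Spec.map (θ U hU) ≫ _ = Spec.map (θ W hW) ≫ Proj.awayι _ _ _ _ ≫ RelProj.emb p chart W hW
    rw [← Spec.map_comp_assoc, hEq, Spec.map_comp_assoc, ← RelProj.map_res_emb hP U hU r]
    exact congrArg (Spec.map (θ W hW) ≫ ·) (((Category.assoc _ _ _).symm.trans
      (congrArg (· ≫ RelProj.emb p chart U hU) hk'.symm)).trans (Category.assoc _ _ _))
  obtain ⟨i, hi, hu⟩ := RelConeLib.existsUnique_glue_local (fun U : Y.affineOpens => 𝒜.ι U.1 U.2)
    (fun U => t U.1 U.2)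
    (fun x => by
      obtain ⟨U, hU, w, hw⟩ := RelConeLib.exists_chart 𝒜 x
      exact ⟨⟨U, hU⟩, w, hw⟩)
    (fun U V x hx hx' => by
      have hxU : 𝒜.π x ∈ U.1 := by rw [← 𝒜.π_preimage U.1 U.2] at hx; exact hx
      have hxV : 𝒜.π x ∈ V.1 := by rw [← 𝒜.π_preimage V.1 V.2] at hx'; exact hx'
      obtain ⟨r, r', e, hr⟩ := exists_basicOpen_le_affine_inter U.2 V.2 _ ⟨hxU, hxV⟩
      have key : ∀ W : Y.affineOpens, W.1 = Y.basicOpen r' →
          ∃ l : Spec (𝒜.presheaf.obj (op W.1)) ⟶ Spec (𝒜.presheaf.obj (op V.1)),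
            l ≫ 𝒜.ι V.1 V.2 = 𝒜.ι W.1 W.2 ∧ l ≫ t V.1 V.2 = t W.1 W.2 := by
        rintro ⟨W, hW⟩ rfl
        exact ⟨Spec.map (𝒜.presheaf.map (homOfLE (Y.basicOpen_le r')).op),
          RelConeLib.ι_res_le 𝒜 V.2 hW _, hres V.1 V.2 r'⟩
      obtain ⟨l, hl, hlt⟩ := key ⟨_, U.2.basicOpen r⟩ e
      refine ⟨⟨_, U.2.basicOpen r⟩, Spec.map (𝒜.presheaf.map (homOfLE (Y.basicOpen_le r)).op), l, ?_,
        RelConeLib.ι_res_le 𝒜 U.2 (U.2.basicOpen r) _, hl, hres U.1 U.2 r, hlt⟩
      rw [← 𝒜.π_preimage _ (U.2.basicOpen r)]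
      exact hr)
  refine ⟨⟨i, fun U hU => hi ⟨U, hU⟩, fun j hj => hu j fun U => hj U.1 U.2⟩, fun j hj => ?_⟩
  have hover : j ≫ p = 𝒜.π := by
    refine RelConeLib.ext_of_charts _ _ fun x => ?_
    obtain ⟨U, hU, w, hw⟩ := RelConeLib.exists_chart 𝒜 x
    refine ⟨_, 𝒜.ι U hU, inferInstance, ⟨w, hw⟩, ?_⟩
    rw [← Category.assoc, hj U hU, 𝒜.ι_π, Category.assoc, Category.assoc, RelConeLib.emb_over hP,
      Proj.awayι_toSpecZero_assoc, ← Spec.map_comp_assoc, ← Spec.map_comp_assoc]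
    congr 2
    refine CommRingCat.hom_ext (RingHom.ext fun a => ?_)
    refine hθ U hU _ 0 ((𝒜.str.app (op U)).hom a) ?_
    erw [HomogeneousLocalization.val_mk]
    congr 1
    · rw [pow_zero, mul_one]
      exact (congrArg (fun f => f.hom a) (NatTrans.congr_app ι.comm (op U))).symm
    · exact Subtype.ext (pow_zero _).symm
  refine ⟨?_, hover⟩
  refine RelConeLib.of_squares (MorphismProperty.isomorphisms Scheme.{u}) j (fun U : Y.affineOpens => 𝒜.ι U.1 U.2)
    (fun U => RelProj.emb p chart U.1 U.2)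
    (fun U => Spec.map (θ U.1 U.2) ≫ Proj.awayι (Sh.deg U.1 U.2) (zU U.1) (hz U.1 U.2) one_pos)
    (fun U => (hj U.1 U.2).trans (Category.assoc _ _ _).symm) (fun U => ?_) (fun y => ?_) fun U => ?_
  · rw [RelConeLib.emb_opensRange, ← Scheme.Hom.comp_preimage, hover, 𝒜.π_preimage U.1 U.2]
  · obtain ⟨U, hU, v, hv⟩ := RelConeLib.exists_emb (chart := chart) y
    exact ⟨⟨U, hU⟩, v, hv⟩
  · haveI : IsIso (θ U.1 U.2) := (ConcreteCategory.isIso_iff_bijective _).mpr
      (RelConeLib.poly_away_bijective (fU U.1) (hι U.1 U.2) (zU U.1) (hz U.1 U.2) (hpoly U.1 U.2) (θ U.1 U.2).hom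
        fun q k a hq => hθ U.1 U.2 q k a hq)
    haveI : IsIso (Proj.awayι (Sh.deg U.1 U.2) (zU U.1) (hz U.1 U.2) one_pos) := by
      refine AlgebraicGeometry.isIso_of_isOpenImmersion_of_opensRange_eq_top _ ?_
      rw [Proj.opensRange_awayι,
        RelConeLib.basicOpen_poly_eq_top (fU U.1) (hι U.1 U.2) (zU U.1) (hz U.1 U.2) (hpoly U.1 U.2)]
    exact MorphismProperty.isomorphisms.infer_property _


end Groth.Agent.S12137
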