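import Groth.Statements.S1214
import Mathlib
import Mathlib
-- import your own Groth.Agent.* helpers here

set_option autoImplicit false
universe u
open FlatMor

namespace Groth.Agent.S1214

open TensorProduct in
/-- Let R → S be a ring map, I an ideal of R and N an S-module which is I-adically complete. Then for
every R-module M and every prime q of S which is the annihilator of an element of the S-module N ⊗_R
M we have q + IS ≠ S. -/
theorem result {R S : Type u} [CommRing R] [CommRing S] [Algebra R S] (I : Ideal R)
    (N : Type u) [AddCommGroup N] [Module S N] [Module R N] [IsScalarTower R S N] [IsAdicComplete I N]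
    (M : Type u) [AddCommGroup M] [Module R M]
    (q : Ideal S) [q.IsPrime] (hq : q ∈ FlatCA.ass S (N ⊗[R] M)) :
    q ⊔ I.map (algebraMap R S) ≠ ⊤ := by
  intro htop
  obtain ⟨hqp, m, hm⟩ := hq
  obtain ⟨b, hb, a, ha, hab⟩ : ∃ b ∈ q, ∃ a ∈ I.map (algebraMap R S), b + a = 1 :=
    Submodule.mem_sup.1 (htop ▸ Submodule.mem_top)
  have hIN : ∀ (n : ℕ) (c : S), c ∈ I.map (algebraMap R S) → ∀ x ∈ (I ^ n • ⊤ : Submodule R N),
      c • x ∈ (I ^ (n + 1) • ⊤ : Submodule R N) := by
    intro n c hc
    rw [Ideal.map] at hc
    induction hc using Submodule.span_induction with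
    | mem c hc =>
      obtain ⟨i, hi, rfl⟩ := hc
      intro x hx
      rw [algebraMap_smul, pow_succ', Submodule.mul_smul]
      exact Submodule.smul_mem_smul hi hx
    | zero => intro x _; rw [zero_smul]; exact zero_mem _
    | add c d _ _ hc hd => intro x hx; rw [add_smul]; exact add_mem (hc x hx) (hd x hx)
    | smul e c _ hc =>
      intro x hx
      rw [smul_assoc, smul_comm e c]
      refine hc _ ?_
      refine Submodule.smul_induction_on hx (fun r hr y _ => ?_) (fun y z hy hz => ?_)
      · rw [smul_comm]; exact Submodule.smul_mem_smul hr trivial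
      · rw [smul_add]; exact add_mem hy hz
  have hpow : ∀ (n : ℕ) (y : N), a ^ n • y ∈ (I ^ n • ⊤ : Submodule R N) := by
    intro n y
    induction n with
    | zero => simp
    | succ n ih => rw [pow_succ' a n, mul_smul]; exact hIN n a ha _ ih
  have hinj : ∀ x : N, b • x = 0 → x = 0 := by
    intro x hx
    have hx' : a • x = x := by
      have : (b + a) • x = x := by rw [hab, one_smul]
      rwa [add_smul, hx, zero_add] at this
    refine IsHausdorff.haus (I := I) inferInstance x fun n => ?_
    rw [SModEq.zero]
    have : a ^ n • x = x := by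
      induction n with
      | zero => simp
      | succ n ih => rw [pow_succ, mul_smul, hx', ih]
    exact this ▸ hpow n x
  have hsurj : ∀ y : N, ∃ x : N, b • x = y := by
    intro y
    let f : ℕ → N := fun n => (∑ i ∈ Finset.range n, a ^ i) • y
    obtain ⟨L, hL⟩ := IsPrecomplete.prec (I := I) inferInstance (f := f) (fun {n p} hnp => by
      rw [SModEq.sub_mem, show f n - f p = -((∑ i ∈ Finset.Ico n p, a ^ i) • y) by
        rw [Finset.sum_Ico_eq_sub _ hnp, sub_smul, neg_sub]]
      refine neg_mem ?_
      rw [Finset.sum_smul]
      refine Submodule.sum_mem _ fun i hi => ?_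
      exact Submodule.pow_smul_top_le I N (Finset.mem_Ico.1 hi).1 (hpow i y))
    refine ⟨L, sub_eq_zero.1 (IsHausdorff.haus (I := I) inferInstance _ fun n => SModEq.zero.2 ?_)⟩
    have hb' : b = 1 - a := eq_sub_of_add_eq hab
    have h1 : b • f n = y - a ^ n • y := by
      rw [hb', ← mul_smul, mul_neg_geom_sum, sub_smul, one_smul]
    have h2 : b • (L - f n) ∈ (I ^ n • ⊤ : Submodule R N) := by
      have := SModEq.sub_mem.1 (hL n).symm
      refine Submodule.smul_induction_on this (fun r hr z _ => ?_) (fun z w hz hw => ?_)
      · rw [smul_comm]; exact Submodule.smul_mem_smul hr trivial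
      · rw [smul_add]; exact add_mem hz hw
    have h3 : b • L - y = b • (L - f n) - a ^ n • y := by
      rw [smul_sub, h1]; abel
    rw [h3]
    exact sub_mem h2 (hpow n y)
  let e : N ≃ₗ[S] N := LinearEquiv.ofBijective (b • (LinearMap.id : N →ₗ[S] N))
    ⟨(injective_iff_map_eq_zero (b • (LinearMap.id : N →ₗ[S] N))).2 fun x hx => hinj x hx, fun y => hsurj y⟩
  have hm0 : m = 0 := by
    have hbm : b • m = 0 := by
      rw [hm] at hb
      exact Submodule.mem_annihilator_span_singleton _ _ |>.1 hb
    have hcomp : ∀ z : N ⊗[R] M, (e.restrictScalars R).toLinearMap.rTensor M z = b • z := by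
      intro z
      induction z using TensorProduct.induction_on with
      | zero => simp
      | tmul x y => simp [e, TensorProduct.smul_tmul']
      | add x y hx hy => simp only [map_add, hx, hy, smul_add]
    apply (LinearEquiv.rTensor M (e.restrictScalars R)).injective
    rw [map_zero]
    exact (hcomp m).trans hbm
  apply hqp.ne_top
  rw [hm, hm0, Submodule.span_singleton_eq_bot.2 rfl]
  exact Submodule.annihilator_bot

end Groth.Agent.S1214
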