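import Groth.Statements.S12140
import Groth.Agent.RelConeLib.QMap
-- import your own Groth.Agent.* helpers here

set_option autoImplicit false
universe u
open CategoryTheory CategoryTheory.Limits AlgebraicGeometry TopologicalSpace Opposite
open scoped HomogeneousIdeal
noncomputable section
open EGA2

namespace Groth.Agent.S12140

/-- Let φ : 𝒜 → ℬ be a graded homomorphism of quasi-coherent positively graded O_Y-algebras, PA =
Proj(𝒜), PB = Proj(ℬ) with their charts, G(φ) ⊆ PB the open on which the induced morphism is defined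
and Φ = Proj(φ) : G(φ) → PA that morphism (pinned on the standard affine charts of G(φ)). Then Φ is
affine, and for every affine open U of Y the part of G(φ) over U is the image, under the chart of PB
over U, of the open G(φ(U)) of Proj ℬ(U) where the morphism of homogeneous spectra induced by φ(U) :
𝒜(U) → ℬ(U) is defined. -/
theorem result {Y PA PB : Scheme.{u}} (𝒜 ℬ : RelProj.QCGrAlg Y)
    (φ : 𝒜.toQCAlg ⟶ ℬ.toQCAlg) (hφ : RelProj.IsGradedHom φ)
    (pA : PA ⟶ Y) (chartA : ∀ (U : Y.Opens) (hU : IsAffineOpen U), (((pA ⁻¹ᵁ U : PA.Opens) : Scheme.{u}) ≅ Proj (𝒜.deg U hU)))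
    (hA : RelProj.IsRelProj 𝒜 pA chartA)
    (pB : PB ⟶ Y) (chartB : ∀ (U : Y.Opens) (hU : IsAffineOpen U), (((pB ⁻¹ᵁ U : PB.Opens) : Scheme.{u}) ≅ Proj (ℬ.deg U hU)))
    (hB : RelProj.IsRelProj ℬ pB chartB)
    (Φ : ((RelProj.domQ (RelProj.QGrHom.ofHom φ hφ) pB chartB : PB.Opens) : Scheme.{u}) ⟶ PA)
    (hΦ : RelProj.IsProjQMapOn (RelProj.QGrHom.ofHom φ hφ) pA chartA pB chartB
      (RelProj.domQ (RelProj.QGrHom.ofHom φ hφ) pB chartB) Φ) :
    IsAffineHom Φ ∧
      ∀ (U : Y.Opens) (hU : IsAffineOpen U),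
        RelProj.domQ (RelProj.QGrHom.ofHom φ hφ) pB chartB ⊓ pB ⁻¹ᵁ U =
          (RelProj.emb pB chartB U hU) ''ᵁ RelCone.domOpen (RelProj.gradedHomAt φ hφ U hU) := by

  have hat : ∀ (U : Y.Opens) (hU : IsAffineOpen U),
      (RelProj.QGrHom.ofHom φ hφ).gradedAt U hU U hU (le_refl U) = RelProj.gradedHomAt φ hφ U hU := by
    intro U hU
    refine GradedRingHom.ext fun a => ?_
    show (φ.hom.app (op U) ≫ ℬ.presheaf.map (homOfLE (le_refl U)).op).hom a = (φ.hom.app (op U)).hom a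
    rw [show (homOfLE (le_refl U) : U ⟶ U) = 𝟙 U from rfl, op_id, CategoryTheory.Functor.map_id, Category.comp_id]

  let j : ∀ U : Y.affineOpens, RelConeLib.Pair (𝟙 Y) := fun U => ⟨U.1, U.2, U.1, U.2, le_refl U.1⟩
  refine ⟨?_, fun U hU => ?_⟩
  · refine RelConeLib.of_squares @IsAffineHom Φ
      (fun U : Y.affineOpens => RelConeLib.qEmb (RelProj.QGrHom.ofHom φ hφ) (j U))
      (fun U => RelProj.emb pA chartA U.1 U.2)
      (fun U => RelConeLib.dMap ((j U).hom (RelProj.QGrHom.ofHom φ hφ)))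
      (fun U => (RelConeLib.isProjQMapOn_iff _ Φ).mp hΦ (j U)) (fun U => ?_) (fun x => ?_)
      fun U => RelConeLib.isAffineHom_dMap _
    · rw [RelConeLib.emb_opensRange, RelConeLib.qEmb_opensRange _ hB, ← Scheme.Hom.comp_preimage,
        RelConeLib.qMap_over _ hA hB hΦ]
      rfl
    · obtain ⟨U, hU, v, hv⟩ := RelConeLib.exists_emb (chart := chartA) x
      exact ⟨⟨U, hU⟩, v, hv⟩
  · have h := RelConeLib.range_qEmb_inf (RelProj.QGrHom.ofHom φ hφ) hB (j ⟨U, hU⟩)
    rw [show (j ⟨U, hU⟩).hom (RelProj.QGrHom.ofHom φ hφ) = RelProj.gradedHomAt φ hφ U hU from hat U hU] at h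
    exact h


end Groth.Agent.S12140
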