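import Groth.Statements.S12142

-- import your own Groth.Agent.* helpers here

set_option autoImplicit false
universe u
open CategoryTheory CategoryTheory.Limits AlgebraicGeometry TopologicalSpace Opposite
open scoped HomogeneousIdeal
noncomputable section
open EGA2

namespace Groth.Agent.S12142



/-- Let g : S' → S be a morphism of schemes, A a quasi-coherent O_S-algebra and B = g^*A, presented as a
quasi-coherent O_{S'}-algebra with a g-morphism u : A → g_*B whose squares of rings over affine
opens U' ⊆ g⁻¹(U) are pushouts; let h = Spec(u) : Spec(B) → Spec(A) be the induced morphism of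
relative spectra (chartwise Spec of A(U) → B(U')). Then h and the structure morphisms form a
cartesian square: Spec(g^*A) is the fibre product Spec(A) ×_S S'. -/
theorem result {S S' : Scheme.{u}} (g : S' ⟶ S)
    (A : RelSpec.QCAlg S) (B : RelSpec.QCAlg S') (u : RelSpec.QHom g A B) (hu : RelSpec.IsQBaseChange u)
    (h : B.spec ⟶ A.spec) (hh : RelSpec.IsSpecQMap u h) :
    IsPullback h B.π A.π g := by
  have hcomm : h ≫ A.π = B.π ≫ g := by
    refine Scheme.hom_ext_of_forall _ _ fun b => ?_
    obtain ⟨U, hU, hxU, -⟩ := exists_isAffineOpen_mem_and_subset (x := g (B.π b)) (U := ⊤) trivial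
    obtain ⟨U', hU', hxU', hle'⟩ := exists_isAffineOpen_mem_and_subset (x := B.π b) (U := g ⁻¹ᵁ U) hxU
    have hle : U' ≤ g ⁻¹ᵁ U := fun y hy => hle' hy
    refine ⟨(B.ι U' hU').opensRange, by rw [← B.π_preimage U' hU']; exact hxU', ?_⟩
    rw [← cancel_epi (B.ι U' hU').isoOpensRange.hom, Scheme.Hom.isoOpensRange_hom_ι_assoc,
      Scheme.Hom.isoOpensRange_hom_ι_assoc, ← Category.assoc, ← Category.assoc, hh U hU U' hU' hle, B.ι_π,
      Category.assoc, Category.assoc, A.ι_π, ← IsAffineOpen.SpecMap_appLE_fromSpec g hU hU' hle,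
      ← Spec.map_comp_assoc, ← Spec.map_comp_assoc, (hu U hU U' hU' hle).w]
  let φ : B.spec ⟶ pullback A.π g := pullback.lift h B.π hcomm
  have hsel : ∀ y : S', ∃ (U : S.Opens) (_ : IsAffineOpen U) (U' : S'.Opens) (_ : IsAffineOpen U'),
      U' ≤ g ⁻¹ᵁ U ∧ y ∈ U' := fun y => by
    obtain ⟨U, hU, hxU, -⟩ := exists_isAffineOpen_mem_and_subset (x := g y) (U := ⊤) trivial
    obtain ⟨U', hU', hxU', hle'⟩ := exists_isAffineOpen_mem_and_subset (x := y) (U := g ⁻¹ᵁ U) hxU
    exact ⟨U, hU, U', hU', fun z hz => hle' hz, hxU'⟩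
  choose U hU U' hU' hle hy using hsel
  let 𝒰 : S'.OpenCover := {
    I₀ := S', X y := Spec Γ(S', U' y), f y := (hU' y).fromSpec,
    mem₀ := by
      rw [Scheme.presieve₀_mem_precoverage_iff]
      refine ⟨fun y => ⟨y, ?_⟩, inferInstance⟩
      exact (hU' y).range_fromSpec.symm ▸ hy y }
  have hφ : IsIso φ := by
    refine IsZariskiLocalAtTarget.of_openCover (P := MorphismProperty.isomorphisms Scheme.{u})
      (Precoverage.ZeroHypercover.pullback₁ (pullback.snd A.π g) 𝒰) fun y => ?_
    change IsIso (pullback.snd φ (pullback.fst (pullback.snd A.π g) (hU' y).fromSpec))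
    have sA : IsPullback (A.ι (U y) (hU y)) (Spec.map (A.str.app (op (U y)))) A.π (hU y).fromSpec :=
      (IsOpenImmersion.isPullback _ (A.ι (U y) (hU y)) (hU y).fromSpec A.π (A.ι_π _ _)
        (by rw [IsAffineOpen.opensRange_fromSpec]; exact A.π_preimage _ _)).flip
    have sB : IsPullback (B.ι (U' y) (hU' y)) (Spec.map (B.str.app (op (U' y)))) B.π (hU' y).fromSpec :=
      (IsOpenImmersion.isPullback _ (B.ι (U' y) (hU' y)) (hU' y).fromSpec B.π (B.ι_π _ _)
        (by rw [IsAffineOpen.opensRange_fromSpec]; exact B.π_preimage _ _)).flip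
    have sT : IsPullback (B.ι (U' y) (hU' y) ≫ h) (Spec.map (B.str.app (op (U' y)))) A.π
        ((hU' y).fromSpec ≫ g) := by
      have h2 := (isPullback_SpecMap_of_isPushout _ _ _ _ (hu (U y) (hU y) (U' y) (hU' y) (hle y))).flip.paste_horiz sA
      rw [IsAffineOpen.SpecMap_appLE_fromSpec g (hU y) (hU' y) (hle y)] at h2
      rw [hh (U y) (hU y) (U' y) (hU' y) (hle y)]
      exact h2
    have sR : IsPullback (pullback.fst (pullback.snd A.π g) (hU' y).fromSpec ≫ pullback.fst A.π g)
        (pullback.snd (pullback.snd A.π g) (hU' y).fromSpec) A.π ((hU' y).fromSpec ≫ g) :=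
      (IsPullback.of_hasPullback (pullback.snd A.π g) (hU' y).fromSpec).paste_horiz (IsPullback.of_hasPullback A.π g)
    let ψ : Spec (B.presheaf.obj (op (U' y))) ⟶ pullback (pullback.snd A.π g) (hU' y).fromSpec :=
      pullback.lift (B.ι (U' y) (hU' y) ≫ φ) (Spec.map (B.str.app (op (U' y)))) (by
        rw [Category.assoc, pullback.lift_snd]; exact sB.w)
    have hψ : ψ = (sT.isoIsPullback _ _ sR).hom := by
      refine sR.hom_ext ?_ ?_
      · rw [IsPullback.isoIsPullback_hom_fst]
        simp only [ψ, pullback.lift_fst_assoc, Category.assoc, φ, pullback.lift_fst]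
      · rw [IsPullback.isoIsPullback_hom_snd]
        exact pullback.lift_snd _ _ _
    have sq : IsPullback (B.ι (U' y) (hU' y)) ψ φ (pullback.fst (pullback.snd A.π g) (hU' y).fromSpec) := by
      refine IsPullback.of_bot ?_ (pullback.lift_fst _ _ _).symm
        (IsPullback.of_hasPullback (pullback.snd A.π g) (hU' y).fromSpec)
      simp only [ψ, φ, pullback.lift_snd]
      exact sB
    rw [← sq.isoPullback_inv_snd]
    haveI : IsIso ψ := hψ ▸ inferInstance
    infer_instance
  exact (IsPullback.of_hasPullback A.π g).of_iso (asIso φ).symm (Iso.refl _) (Iso.refl _) (Iso.refl _)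
    (by simp [φ, pullback.lift_fst, IsIso.inv_comp_eq]) (by simp [φ, pullback.lift_snd, IsIso.inv_comp_eq]) (by simp) (by simp)


end Groth.Agent.S12142
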