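import Groth.Statements.S12145
import Mathlib
import Groth.Agent.EGA2SymLib.Line
import Groth.Agent.S12143
-- import your own Groth.Agent.* helpers here

set_option autoImplicit false
universe u
open CategoryTheory CategoryTheory.Limits AlgebraicGeometry TopologicalSpace Opposite
open scoped HomogeneousIdeal
noncomputable section
open EGA2

namespace Groth.Agent.S12145

/-- Let q : X → Y be a morphism with Y affine, L an invertible O_X-module, 𝒮L = ⊕_{n≥0} L^{⊗n} its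
graded symmetric algebra (whose Proj, presented with its charts, is identified with X by its
structure morphism pL), 𝒮 a quasi-coherent positively graded O_Y-algebra with S = Γ(Y, 𝒮), ψ : q^*𝒮
→ 𝒮L a graded homomorphism given as a graded q-morphism u = ψ♭ : 𝒮 → q_*𝒮L, P = Proj(𝒮), and r =
r_{L,ψ} : G(ψ) → P the associated morphism on its open of definition G(ψ) ⊆ Proj(𝒮L). Then r is
everywhere defined, i.e. G(ψ) = X, if and only if for every x ∈ X there are an integer n > 0 and s ∈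
S_n such that the section t = ψ♭(s) of L^{⊗n} does not vanish at x (x has an affine neighbourhood V
over which 𝒮L(V)_n = Γ(V, L^{⊗n}) lies in the ideal generated by t|V). -/
theorem result {Y X P PL : Scheme.{u}} (q : X ⟶ Y)
    (L : X.Modules) (hL : PicF.IsInvertible L) (hLq : Coh.IsQCoh L)
    (𝒮 : RelProj.QCGrAlg Y) (𝒮L : RelProj.QCGrAlg X) (j : L ⟶ 𝒮L.toModule) (hj : RelProj.IsGrSymAlg L 𝒮L j)
    (u : RelProj.QGrHom q 𝒮 𝒮L)
    (p : P ⟶ Y) (chart : ∀ (U : Y.Opens) (hU : IsAffineOpen U), (((p ⁻¹ᵁ U : P.Opens) : Scheme.{u}) ≅ Proj (𝒮.deg U hU)))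
    (hP : RelProj.IsRelProj 𝒮 p chart)
    (pL : PL ⟶ X) (chartL : ∀ (U : X.Opens) (hU : IsAffineOpen U), (((pL ⁻¹ᵁ U : PL.Opens) : Scheme.{u}) ≅ Proj (𝒮L.deg U hU)))
    (hPL : RelProj.IsRelProj 𝒮L pL chartL)
    (hY : IsAffineOpen (⊤ : Y.Opens)) :
    RelProj.domQ u pL chartL = ⊤ ↔
      ∀ x : X, ∃ (n : ℕ) (_ : 0 < n) (s : 𝒮.presheaf.obj (op ⊤)) (_ : s ∈ 𝒮.deg ⊤ hY n)
        (V : X.Opens) (hV : IsAffineOpen V), x ∈ V ∧
          ((𝒮L.deg V hV n : AddSubgroup (𝒮L.presheaf.obj (op V))) : Set (𝒮L.presheaf.obj (op V))) ⊆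
            (Ideal.span {(u.appLE ⊤ V (le_top.trans (Scheme.Hom.preimage_top q).ge)).hom s} : Set (𝒮L.presheaf.obj (op V))) := by
  haveI := hLq
  haveI : IsIso pL := Groth.Agent.S12143.result L hL hLq 𝒮L j hj pL chartL hPL
  obtain ⟨r, hr, -⟩ := RelConeLib.existsUnique_isProjQMapOn u hP hPL
  constructor
  · intro htop x
    obtain ⟨y, rfl⟩ := pL.homeomorph.surjective x
    let y' : (RelProj.domQ u pL chartL : Scheme.{u}) := ⟨y, htop ▸ trivial⟩
    obtain ⟨t, ht⟩ := RelConeLib.exists_emb_eq (chart := chart) hY (r y') trivial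
    obtain ⟨d, g, hd, hg, htg, -⟩ := EGA2SymLib.exists_homogeneous_basicOpen t (O := ⊤) trivial
    have hmem : y ∈ (RelProj.domQ u pL chartL).ι ''ᵁ
        (r ⁻¹ᵁ ((RelProj.emb p chart ⊤ hY) ''ᵁ Proj.basicOpen (𝒮.deg ⊤ hY) g)) :=
      ⟨y', ⟨t, htg, ht⟩, rfl⟩
    rw [EGA2SymLib.preimage_eq hL hj hP hPL hr hY d hd g hg] at hmem
    obtain ⟨⟨⟨V, hV⟩, hgen⟩, hyV⟩ := Opens.mem_iSup.mp hmem
    exact ⟨d, hd, g, hg, V, hV, hyV, hgen⟩
  · intro h
    refine eq_top_iff.mpr fun y _ => ?_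
    obtain ⟨n, hn, s, hs, V, hV, hyV, hgen⟩ := h (pL y)
    have hmem : y ∈ pL ⁻¹ᵁ EGA2SymLib.goodOpen u n s := Opens.mem_iSup.mpr ⟨⟨⟨V, hV⟩, hgen⟩, hyV⟩
    rw [← EGA2SymLib.preimage_eq hL hj hP hPL hr hY n hn s hs] at hmem
    obtain ⟨y', -, rfl⟩ := hmem
    exact y'.2

end Groth.Agent.S12145
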