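import Groth.Statements.S12146
import Mathlib
import Groth.Agent.EGA2SymLib.RL
-- import your own Groth.Agent.* helpers here

set_option autoImplicit false
universe u
open CategoryTheory CategoryTheory.Limits AlgebraicGeometry TopologicalSpace Opposite
open scoped HomogeneousIdeal
noncomputable section
open EGA2

namespace Groth.Agent.S12146

/-- Let q : X → Y be a morphism with Y affine, L an invertible O_X-module, 𝒮L = ⊕_{n≥0} L^{⊗n} its
graded symmetric algebra (whose Proj, presented with its charts, is identified with X by its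
structure morphism pL), 𝒮 a quasi-coherent positively graded O_Y-algebra with S = Γ(Y, 𝒮), ψ : q^*𝒮
→ 𝒮L a graded homomorphism given as a graded q-morphism u = ψ♭ : 𝒮 → q_*𝒮L, P = Proj(𝒮), and r =
r_{L,ψ} : G(ψ) → P the associated morphism on its open of definition G(ψ) ⊆ Proj(𝒮L). Then r is
dominant if and only if for every n > 0, every s ∈ S_n such that ψ♭(s) ∈ Γ(X, L^{⊗n}) is locally
nilpotent (as a section of the algebra 𝒮L: each point of X has an affine neighbourhood V with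
ψ♭(s)|V nilpotent in 𝒮L(V)) is nilpotent. -/
theorem result {Y X P PL : Scheme.{u}} (q : X ⟶ Y)
    (L : X.Modules) (hL : PicF.IsInvertible L) (hLq : Coh.IsQCoh L)
    (𝒮 : RelProj.QCGrAlg Y) (𝒮L : RelProj.QCGrAlg X) (j : L ⟶ 𝒮L.toModule) (hj : RelProj.IsGrSymAlg L 𝒮L j)
    (u : RelProj.QGrHom q 𝒮 𝒮L)
    (p : P ⟶ Y) (chart : ∀ (U : Y.Opens) (hU : IsAffineOpen U), (((p ⁻¹ᵁ U : P.Opens) : Scheme.{u}) ≅ Proj (𝒮.deg U hU)))
    (hP : RelProj.IsRelProj 𝒮 p chart)
    (pL : PL ⟶ X) (chartL : ∀ (U : X.Opens) (hU : IsAffineOpen U), (((pL ⁻¹ᵁ U : PL.Opens) : Scheme.{u}) ≅ Proj (𝒮L.deg U hU)))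
    (hPL : RelProj.IsRelProj 𝒮L pL chartL)
    (r : ((RelProj.domQ u pL chartL : PL.Opens) : Scheme.{u}) ⟶ P)
    (hr : RelProj.IsProjQMapOn u p chart pL chartL (RelProj.domQ u pL chartL) r)
    (hY : IsAffineOpen (⊤ : Y.Opens)) :
    IsDominant r ↔
      ∀ (n : ℕ), 0 < n → ∀ s ∈ 𝒮.deg ⊤ hY n,
        (∀ x : X, ∃ (V : X.Opens) (_ : IsAffineOpen V), x ∈ V ∧ IsNilpotent ((u.appLE ⊤ V (le_top.trans (Scheme.Hom.preimage_top q).ge)).hom s)) →
          IsNilpotent s := by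
  rw [EGA2SymLib.isDominant_iff hr hP hPL]
  have hres : ∀ {U : Y.Opens} (hU : IsAffineOpen U) {V W : X.Opens} (_ : IsAffineOpen V) (_ : IsAffineOpen W)
      (hle : V ≤ q ⁻¹ᵁ U) (h : W ≤ V) (a : 𝒮.presheaf.obj (op U)),
      (𝒮L.presheaf.map (homOfLE h).op).hom ((u.appLE U V hle).hom a) = (u.appLE U W (h.trans hle)).hom a :=
    fun _ _ _ _ _ hle h a => congrArg (fun f => f.hom a) (u.toQHom.appLE_map hle h)
  constructor
  · intro h n hn s hs hloc
    by_contra hs0
    obtain ⟨V, hV, hle, z, hz⟩ := h ⊤ hY n hn s hs hs0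
    obtain ⟨W, hW, hxW, hnil⟩ := hloc (pL (RelProj.emb pL chartL V hV z))
    obtain ⟨a, b, e, hxa, -⟩ := RelConeLib.exists_common_basicOpen hV hW
      (pL (RelProj.emb pL chartL V hV z)) (RelConeLib.mem_of_emb z) hxW (O := ⊤) trivial
    refine EGA2SymLib.not_nilpotent_res hPL hV a hz hxa ?_
    show IsNilpotent ((𝒮L.presheaf.map (homOfLE (X.basicOpen_le a)).op).hom ((u.appLE ⊤ V hle).hom s))
    rw [hres hY hV (hV.basicOpen a) hle (X.basicOpen_le a) s]
    have hWle : X.basicOpen a ≤ W := e.le.trans (X.basicOpen_le b)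
    rw [← hres hY hW (hV.basicOpen a) (le_top.trans (Scheme.Hom.preimage_top q).ge) hWle s]
    exact hnil.map _
  · intro h U hU d hd g hg hg0
    classical
    obtain ⟨z, hz⟩ := EGA2SymLib.exists_mem_basicOpen_of_not_nilpotent hd hg hg0
    obtain ⟨b, a, e, hxb, -⟩ := RelConeLib.exists_common_basicOpen hU hY
      (p (RelProj.emb p chart U hU z)) (RelConeLib.mem_of_emb z) (Set.mem_univ _) (O := ⊤) trivial
    have hgD := EGA2SymLib.not_nilpotent_res hP hU b hz hxb
    have hD : IsAffineOpen (Y.basicOpen b) := hU.basicOpen b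
    let ρ := (𝒮.presheaf.map (homOfLE (le_top : Y.basicOpen b ≤ ⊤)).op).hom
    let g' := (𝒮.presheaf.map (homOfLE (Y.basicOpen_le b)).op).hom g
    let c := (𝒮.str.app (op ⊤)).hom a
    obtain ⟨k, s₀, hs₀⟩ : ∃ (k : ℕ) (s₀ : 𝒮.presheaf.obj (op ⊤)), g' * ρ c ^ k = ρ s₀ := by
      have key : ∀ (D : Y.Opens) (_ : D = Y.basicOpen a) (g'' : 𝒮.presheaf.obj (op D)),
          ∃ (k : ℕ) (s₀ : 𝒮.presheaf.obj (op ⊤)), g'' * ((𝒮.presheaf.map (homOfLE (le_top : D ≤ ⊤)).op).hom c) ^ k =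
            (𝒮.presheaf.map (homOfLE (le_top : D ≤ ⊤)).op).hom s₀ := by
        rintro D rfl g''
        let _inst := (𝒮.presheaf.map (homOfLE (Y.basicOpen_le a)).op).hom.toAlgebra
        have hloc : IsLocalization.Away c (𝒮.presheaf.obj (op (Y.basicOpen a))) := 𝒮.isQC ⊤ hY a
        obtain ⟨⟨s₀, _, k, rfl⟩, hks⟩ := IsLocalization.surj (Submonoid.powers c) g''
        exact ⟨k, s₀, by rw [← map_pow]; exact hks⟩
      exact key _ e g'
    have hρd : g' ∈ 𝒮.deg _ hD d := 𝒮.map_mem hU hD _ hg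
    let s₁ : 𝒮.presheaf.obj (op ⊤) := DirectSum.decompose (𝒮.deg ⊤ hY) s₀ d
    have hs₁ : ρ s₁ = g' * ρ c ^ k := by
      have e1 := GradedRingHom.map_directSumDecompose (𝒜 := 𝒮.deg ⊤ hY) (ℬ := 𝒮.deg _ hD) (𝒮.res hY hD le_top) (x := s₀) (i := d)
      have h2 : g' * ρ c ^ k ∈ 𝒮.deg _ hD d := by
        simpa using SetLike.mul_mem_graded (A := 𝒮.deg _ hD) hρd (SetLike.pow_mem_graded (A := 𝒮.deg _ hD) k (𝒮.map_mem hY hD le_top (𝒮.str_mem ⊤ hY a)))
      refine e1.trans ?_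
      show (DirectSum.decompose (𝒮.deg _ hD) (ρ s₀) d : 𝒮.presheaf.obj (op (Y.basicOpen b))) = _
      rw [← hs₀, DirectSum.decompose_of_mem_same _ h2]
    have hcs : c * s₁ ∈ 𝒮.deg ⊤ hY d := by
      simpa using SetLike.mul_mem_graded (𝒮.str_mem ⊤ hY a) (SetLike.coe_mem (DirectSum.decompose (𝒮.deg ⊤ hY) s₀ d))
    have hcu : IsUnit (ρ c) := by
      have key : ∀ (D : Y.Opens) (_ : D = Y.basicOpen a),
          IsUnit ((𝒮.presheaf.map (homOfLE (le_top : D ≤ ⊤)).op).hom c) := by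
        rintro D rfl
        let _inst := (𝒮.presheaf.map (homOfLE (Y.basicOpen_le a)).op).hom.toAlgebra
        have hloc : IsLocalization.Away c (𝒮.presheaf.obj (op (Y.basicOpen a))) := 𝒮.isQC ⊤ hY a
        exact IsLocalization.Away.algebraMap_isUnit c
      exact key _ e
    have hnot : ¬ IsNilpotent (c * s₁) := by
      intro hh
      refine hgD ?_
      have h3 : IsNilpotent (ρ c ^ (k + 1) * g') := by
        have := hh.map ρ
        rw [map_mul, hs₁] at this
        rwa [pow_succ', mul_assoc, mul_comm (ρ c ^ k) g']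
      obtain ⟨m, hm⟩ := h3
      refine ⟨m, ?_⟩
      rw [mul_pow] at hm
      exact (((hcu.pow (k + 1)).pow m).mul_right_eq_zero).mp hm
    by_contra hall
    push Not at hall
    refine hnot (h d hd _ hcs fun x => ?_)
    obtain ⟨V, hV, hxV, -⟩ := exists_isAffineOpen_mem_and_subset (x := x) (U := ⊤) trivial
    refine ⟨V, hV, hxV, ?_⟩
    have hVt : V ≤ q ⁻¹ᵁ ⊤ := le_top.trans (Scheme.Hom.preimage_top q).ge
    let cX : Γ(X, V) := (q.appLE ⊤ V hVt).hom a
    have hWle : X.basicOpen cX ≤ q ⁻¹ᵁ Y.basicOpen b := by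
      have h1 : X.basicOpen cX = V ⊓ q ⁻¹ᵁ Y.basicOpen a := by
        rw [show cX = (X.presheaf.map (homOfLE hVt).op) ((q.app ⊤) a) from rfl, Scheme.basicOpen_res,
          Scheme.preimage_basicOpen]
      rw [h1, ← e]
      exact inf_le_right
    have hW : IsAffineOpen (X.basicOpen cX) := hV.basicOpen cX
    have hWU : X.basicOpen cX ≤ q ⁻¹ᵁ U := hWle.trans (fun y hy => Y.basicOpen_le b hy)
    have hnil : IsNilpotent ((u.appLE U (X.basicOpen cX) hWU).hom g) := by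
      by_contra hn
      obtain ⟨z', hz'⟩ := EGA2SymLib.exists_mem_basicOpen_of_not_nilpotent hd (u.map_mem U hU _ hW hWU hg) hn
      exact hall _ hW hWU z' hz'
    have m1 : (u.appLE U (X.basicOpen cX) hWU).hom g = (u.appLE (Y.basicOpen b) (X.basicOpen cX) hWle).hom g' :=
      (congrArg (fun f => f.hom g) (u.toQHom.map_appLE (Y.basicOpen_le b) hWle)).symm
    have m2 : (u.appLE ⊤ (X.basicOpen cX) ((X.basicOpen_le cX).trans hVt)).hom (c * s₁) =
        (u.appLE (Y.basicOpen b) (X.basicOpen cX) hWle).hom (ρ (c * s₁)) :=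
      (congrArg (fun f => f.hom (c * s₁)) (u.toQHom.map_appLE le_top hWle)).symm
    have hnil2 : IsNilpotent ((𝒮L.presheaf.map (homOfLE (X.basicOpen_le cX)).op).hom
        ((u.appLE ⊤ V hVt).hom (c * s₁))) := by
      rw [hres hY hV hW hVt (X.basicOpen_le cX), m2, map_mul ρ, hs₁, map_mul, map_mul, ← m1]
      exact (Commute.all _ _).isNilpotent_mul_left ((Commute.all _ _).isNilpotent_mul_right hnil)
    obtain ⟨m, hm⟩ := hnil2
    let _inst := (𝒮L.presheaf.map (homOfLE (X.basicOpen_le cX)).op).hom.toAlgebra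
    have hloc : IsLocalization.Away ((𝒮L.str.app (op V)).hom cX) (𝒮L.presheaf.obj (op (X.basicOpen cX))) :=
      𝒮L.isQC V hV cX
    rw [← map_pow] at hm
    obtain ⟨⟨_, l, rfl⟩, hl⟩ := (IsLocalization.map_eq_zero_iff (Submonoid.powers ((𝒮L.str.app (op V)).hom cX))
      (𝒮L.presheaf.obj (op (X.basicOpen cX))) _).mp hm
    have hstr : (u.appLE ⊤ V hVt).hom c = (𝒮L.str.app (op V)).hom cX :=
      congrArg (fun f => f.hom a) (u.toQHom.str_appLE ⊤ V hVt)
    refine ⟨m + l, ?_⟩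
    have : ((u.appLE ⊤ V hVt).hom (c * s₁)) ^ (m + l) = 0 := by
      rw [map_mul, hstr]
      rw [map_mul, hstr] at hl
      linear_combination ((u.appLE ⊤ V hVt).hom s₁) ^ l * hl
    exact this

end Groth.Agent.S12146
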