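import Groth.Statements.S12151
import Mathlib
import Groth.Agent.EGA2SymLib.Crit
import Groth.Agent.S12143
-- import your own Groth.Agent.* helpers here

set_option autoImplicit false
universe u
open CategoryTheory CategoryTheory.Limits AlgebraicGeometry TopologicalSpace Opposite
open scoped HomogeneousIdeal
noncomputable section
open EGA2

namespace Groth.Agent.S12151

/-- Let q : X → Y be a morphism with Y affine, L an invertible O_X-module with 𝒮L = ⊕ L^{⊗n} (whose Proj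
is X), 𝒮 a quasi-coherent positively graded O_Y-algebra with S = Γ(Y, 𝒮), ψ♭ = u : 𝒮 → q_*𝒮L a
graded q-morphism and r = r_{L,ψ} : G(ψ) → P = Proj(𝒮). For a family s_a ∈ S_{n_a} (n_a > 0) put f_a
= ψ♭(s_a) ∈ Γ(X, L^{⊗n_a}) and let X_{f_a} be the open where f_a does not vanish; conditions: (i)
the X_{f_a} cover X; (ii) the X_{f_a} are affine; (iii) every function t on X_{f_a} is of the form
ψ♭(s') f_a^{-m} with m > 0 and s' ∈ S_{m n_a} (that is, t f_a^m = ψ♭(s') in 𝒮L(X_{f_a})); (iv) for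
every m > 0 and s' ∈ S_{m n_a} with ψ♭(s')|X_{f_a} = 0 there is k > 0 with s_a^k s' = 0. Then r is
everywhere defined and an open immersion if and only if there is a family (s_a) satisfying (i),
(ii), (iii) and (iv). -/
theorem result {Y X P PL : Scheme.{u}} (q : X ⟶ Y)
    (L : X.Modules) (hL : PicF.IsInvertible L) (hLq : Coh.IsQCoh L)
    (𝒮 : RelProj.QCGrAlg Y) (𝒮L : RelProj.QCGrAlg X) (j : L ⟶ 𝒮L.toModule) (hj : RelProj.IsGrSymAlg L 𝒮L j)
    (u : RelProj.QGrHom q 𝒮 𝒮L)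
    (p : P ⟶ Y) (chart : ∀ (U : Y.Opens) (hU : IsAffineOpen U), (((p ⁻¹ᵁ U : P.Opens) : Scheme.{u}) ≅ Proj (𝒮.deg U hU)))
    (hP : RelProj.IsRelProj 𝒮 p chart)
    (pL : PL ⟶ X) (chartL : ∀ (U : X.Opens) (hU : IsAffineOpen U), (((pL ⁻¹ᵁ U : PL.Opens) : Scheme.{u}) ≅ Proj (𝒮L.deg U hU)))
    (hPL : RelProj.IsRelProj 𝒮L pL chartL)
    (r : ((RelProj.domQ u pL chartL : PL.Opens) : Scheme.{u}) ⟶ P)
    (hr : RelProj.IsProjQMapOn u p chart pL chartL (RelProj.domQ u pL chartL) r)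
    (hY : IsAffineOpen (⊤ : Y.Opens)) :
    (RelProj.domQ u pL chartL = ⊤ ∧ IsOpenImmersion r) ↔
      ∃ (ι : Type u) (n : ι → ℕ) (s : ι → 𝒮.presheaf.obj (op ⊤)) (XT : ι → X.Opens),
        (∀ a, 0 < n a ∧ s a ∈ 𝒮.deg ⊤ hY (n a)) ∧
        (∀ a, XT a = (⨆ V : {V : X.affineOpens //
          ((𝒮L.deg V.1 V.2 (n a) : AddSubgroup (𝒮L.presheaf.obj (op (V.1 : X.Opens)))) : Set (𝒮L.presheaf.obj (op (V.1 : X.Opens)))) ⊆
            (Ideal.span {(u.appLE ⊤ (V.1 : X.Opens) (le_top.trans (Scheme.Hom.preimage_top q).ge)).hom (s a)} : Set (𝒮L.presheaf.obj (op (V.1 : X.Opens))))},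
          (V.1.1 : X.Opens))) ∧
        (⨆ a, XT a) = ⊤ ∧ (∀ a, IsAffineOpen (XT a)) ∧
        (∀ (a : ι) (t : X.presheaf.obj (op (XT a))), ∃ (m : ℕ) (_ : 0 < m) (s' : 𝒮.presheaf.obj (op ⊤)) (_ : s' ∈ 𝒮.deg ⊤ hY (m * n a)),
            (𝒮L.str.app (op (XT a))).hom t * ((u.appLE ⊤ (XT a) (le_top.trans (Scheme.Hom.preimage_top q).ge)).hom (s a)) ^ m =
              (u.appLE ⊤ (XT a) (le_top.trans (Scheme.Hom.preimage_top q).ge)).hom s') ∧
        (∀ (a : ι) (m : ℕ), 0 < m → ∀ s' ∈ 𝒮.deg ⊤ hY (m * n a),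
            (u.appLE ⊤ (XT a) (le_top.trans (Scheme.Hom.preimage_top q).ge)).hom s' = 0 → ∃ (k : ℕ), 0 < k ∧ (s a) ^ k * s' = 0) := by
  haveI := hLq
  haveI : IsIso pL := Groth.Agent.S12143.result L hL hLq 𝒮L j hj pL chartL hPL
  constructor
  · rintro ⟨htop, hc⟩
    haveI : IsOpenImmersion r := hc
    have hcv : ∀ x : X, ∃ a : Σ m : ℕ, {g : 𝒮.presheaf.obj (op ⊤) //
        (0 < m ∧ g ∈ 𝒮.deg ⊤ hY m) ∧ EGA2SymLib.stdOpen p chart hY g ≤ r.opensRange},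
        x ∈ EGA2SymLib.goodOpen u a.1 a.2.1 := fun x => by
      obtain ⟨m, g, hm, hg, hle, hx⟩ :=
        EGA2SymLib.exists_good_of_range hL hj hP hPL hr hY htop r.opensRange (fun _ h => h) x
      exact ⟨⟨m, g, ⟨hm, hg⟩, hle⟩, hx⟩
    have haff : ∀ a : Σ m : ℕ, {g : 𝒮.presheaf.obj (op ⊤) //
        (0 < m ∧ g ∈ 𝒮.deg ⊤ hY m) ∧ EGA2SymLib.stdOpen p chart hY g ≤ r.opensRange},
        IsAffineOpen (EGA2SymLib.goodOpen u a.1 a.2.1) := fun a =>
      (EGA2SymLib.affine_iff hL hj hP hPL hr hY a.2.2.1.1 a.2.2.1.2).mp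
        ((EGA2SymLib.isAffineOpen_stdOpen hY a.2.2.1.1 a.2.2.1.2).preimage_of_isOpenImmersion r a.2.2.2)
    let r' : (RelProj.domQ u pL chartL : Scheme.{u}) ⟶ (r.opensRange : Scheme.{u}) :=
      IsOpenImmersion.lift r.opensRange.ι r (by rw [Scheme.Opens.range_ι]; rfl)
    have hr' : r' ≫ r.opensRange.ι = r := IsOpenImmersion.lift_fac _ _ _
    haveI : IsIso r' := by
      haveI : IsOpenImmersion (r' ≫ r.opensRange.ι) := hr'.symm ▸ hc
      haveI : IsOpenImmersion r' := IsOpenImmersion.of_comp r' r.opensRange.ι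
      haveI : Epi r'.base := by
        rw [TopCat.epi_iff_surjective]
        rintro ⟨z, y, rfl⟩
        exact ⟨y, r.opensRange.ι.isOpenEmbedding.injective (congr($hr' y))⟩
      exact IsOpenImmersion.isIso r'
    have hbij : ∀ a : Σ m : ℕ, {g : 𝒮.presheaf.obj (op ⊤) //
        (0 < m ∧ g ∈ 𝒮.deg ⊤ hY m) ∧ EGA2SymLib.stdOpen p chart hY g ≤ r.opensRange}, Function.Bijective _ :=
      fun a => (isIso_SpecMap_iff (f := CommRingCat.ofHom _)).mp
        (EGA2SymLib.chart_property hL hj hP hPL hr hY a.2.2.1.1 a.2.2.1.2 (MorphismProperty.isomorphisms Scheme)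
          hr' a.2.2.2 ‹IsIso r'› (haff a))
    refine ⟨Σ m : ℕ, {g : 𝒮.presheaf.obj (op ⊤) //
        (0 < m ∧ g ∈ 𝒮.deg ⊤ hY m) ∧ EGA2SymLib.stdOpen p chart hY g ≤ r.opensRange},
      fun a => a.1, fun a => a.2.1, fun a => EGA2SymLib.goodOpen u a.1 a.2.1, ?hns, ?heq,
      top_le_iff.mp fun x _ => Opens.mem_iSup.mpr (hcv x), haff, ?surj, ?inj⟩
    case hns => exact fun a => a.2.2.1
    case heq => exact fun a => rfl
    · intro a
      exact (EGA2SymLib.surjective_iff hL hj hP hPL hr hY a.2.2.1.1 a.2.2.1.2 (haff a)).mp (hbij a).2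
    · intro a
      exact (EGA2SymLib.injective_iff' hY a.2.2.1.1 a.2.2.1.2 (haff a)).mp (hbij a).1
  · rintro ⟨ι, n, s, XT, hns, hXTeq, hcov, haff, hsurj, hinj⟩
    obtain rfl : XT = fun a => EGA2SymLib.goodOpen u (n a) (s a) := funext hXTeq
    obtain ⟨htop, r', hr', hQ⟩ := EGA2SymLib.exists_lift_of_cover hL hj hP hPL hr hY n s hns hcov haff (MorphismProperty.isomorphisms Scheme)
      fun a => (isIso_SpecMap_iff (f := CommRingCat.ofHom _)).mpr
        ⟨(EGA2SymLib.injective_iff' hY (hns a).1 (hns a).2 (haff a)).mpr (hinj a),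
          (EGA2SymLib.surjective_iff hL hj hP hPL hr hY (hns a).1 (hns a).2 (haff a)).mpr (hsurj a)⟩
    haveI : IsIso r' := hQ
    refine ⟨htop, ?_⟩
    rw [← hr']
    infer_instance

end Groth.Agent.S12151
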