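import Groth.Statements.S12154
import Mathlib
import Groth.Agent.EGA2SymLib.Factor
-- import your own Groth.Agent.* helpers here

set_option autoImplicit false
universe u
open CategoryTheory CategoryTheory.Limits AlgebraicGeometry TopologicalSpace Opposite
open scoped HomogeneousIdeal
noncomputable section
open EGA2

namespace Groth.Agent.S12154

/-- Let q : X → Y be a morphism, L an invertible O_X-module with 𝒮L = ⊕ L^{⊗n} (whose Proj, with its
charts, is X), v : 𝒯 → 𝒮 a graded homomorphism of quasi-coherent positively graded O_Y-algebras, ψ♭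
= u : 𝒮 → q_*𝒮L a graded q-morphism and ψ'♭ = u' its composite with v; let r = r_{L,ψ} : G(ψ) →
Proj(𝒮) and r' = r_{L,ψ'} : G(ψ') → Proj(𝒯), with r' everywhere defined and v (TN)-surjective (v :
𝒯_k → 𝒮_k surjective for all large k, on sections over affine opens). If r' is an open immersion, so
is r; if r' is a closed immersion, so is r. -/
theorem result {Y X P PL P' : Scheme.{u}} (q : X ⟶ Y)
    (L : X.Modules) (hL : PicF.IsInvertible L) (hLq : Coh.IsQCoh L)
    (𝒮 : RelProj.QCGrAlg Y) (𝒮L : RelProj.QCGrAlg X) (j : L ⟶ 𝒮L.toModule) (hj : RelProj.IsGrSymAlg L 𝒮L j)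
    (u : RelProj.QGrHom q 𝒮 𝒮L)
    (p : P ⟶ Y) (chart : ∀ (U : Y.Opens) (hU : IsAffineOpen U), (((p ⁻¹ᵁ U : P.Opens) : Scheme.{u}) ≅ Proj (𝒮.deg U hU)))
    (hP : RelProj.IsRelProj 𝒮 p chart)
    (pL : PL ⟶ X) (chartL : ∀ (U : X.Opens) (hU : IsAffineOpen U), (((pL ⁻¹ᵁ U : PL.Opens) : Scheme.{u}) ≅ Proj (𝒮L.deg U hU)))
    (hPL : RelProj.IsRelProj 𝒮L pL chartL)
    (r : ((RelProj.domQ u pL chartL : PL.Opens) : Scheme.{u}) ⟶ P)
    (hr : RelProj.IsProjQMapOn u p chart pL chartL (RelProj.domQ u pL chartL) r)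
    (𝒯 : RelProj.QCGrAlg Y) (v : 𝒯.toQCAlg ⟶ 𝒮.toQCAlg) (hv : RelProj.IsGradedHom v)
    (u' : RelProj.QGrHom q 𝒯 𝒮L) (hu' : ∀ U : Y.Opens, u'.app U = v.hom.app (op U) ≫ u.app U)
    (p' : P' ⟶ Y) (chart' : ∀ (U : Y.Opens) (hU : IsAffineOpen U), (((p' ⁻¹ᵁ U : P'.Opens) : Scheme.{u}) ≅ Proj (𝒯.deg U hU)))
    (hP' : RelProj.IsRelProj 𝒯 p' chart')
    (r' : ((RelProj.domQ u' pL chartL : PL.Opens) : Scheme.{u}) ⟶ P')
    (hr' : RelProj.IsProjQMapOn u' p' chart' pL chartL (RelProj.domQ u' pL chartL) r')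
    (hTN : ∃ n : ℕ, ∀ k, n ≤ k → ∀ (U : Y.Opens) (hU : IsAffineOpen U), ∀ y ∈ 𝒮.deg U hU k,
      ∃ x ∈ 𝒯.deg U hU k, (v.hom.app (op U)).hom x = y)
    (hdef : RelProj.domQ u' pL chartL = ⊤) :
    (IsOpenImmersion r' → IsOpenImmersion r) ∧ (IsClosedImmersion r' → IsClosedImmersion r) := by
  obtain ⟨k, ρ, Φ, hk, hΦ, hρ, e⟩ := EGA2SymLib.exists_factor hv hu' hP hP' hPL hr hr'
  have htop : RelProj.domQ u pL chartL = ⊤ :=
    top_le_iff.mp (hdef ▸ EGA2SymLib.domQ_comp_le v hv u' hu')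
  haveI : IsIso k := by
    haveI : IsOpenImmersion (k ≫ (RelProj.domQ u pL chartL).ι) := by rw [hk]; infer_instance
    haveI : IsOpenImmersion k := IsOpenImmersion.of_comp k (RelProj.domQ u pL chartL).ι
    haveI : Epi k.base := by
      rw [TopCat.epi_iff_surjective]
      intro x
      refine ⟨⟨x.1, hdef ▸ trivial⟩, (RelProj.domQ u pL chartL).ι.isOpenEmbedding.injective ?_⟩
      rw [← Scheme.Hom.comp_apply, hk]
      rfl
    exact IsOpenImmersion.isIso k
  obtain ⟨n, hn⟩ := hTN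
  let w := RelProj.QGrHom.ofHom v hv
  have hs : ∀ (U : Y.Opens) (hU : IsAffineOpen U) m, n ≤ m → ∀ y ∈ 𝒮.deg U hU m, ∃ x ∈ 𝒯.deg U hU m,
      w.gradedAt U hU U hU (le_refl U) x = y := fun U hU m hm y hy => by
    obtain ⟨x, hx, hxy⟩ := hn m hm U hU y hy
    exact ⟨x, hx, (EGA2SymLib.gradedAt_ofHom hv U hU x).trans hxy⟩
  obtain ⟨hw, hcl⟩ := EGA2SymLib.projQMap_of_local (chartA := chart') (chartB := chart) hv @IsClosedImmersion hP' hP
    (fun U hU => EGA2SymLib.tn_domOpen_eq_top _ n (hs U hU))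
    fun U hU => EGA2SymLib.dMap_squares _ @IsClosedImmersion fun i =>
      IsClosedImmersion.spec_of_surjective _ (EGA2SymLib.tn_awayMap_surjective _ n (hs U hU) i)
  haveI : IsIso (RelProj.domQ w p chart).ι := by
    haveI : Epi (RelProj.domQ w p chart).ι.base := by
      rw [TopCat.epi_iff_surjective]
      exact fun x => ⟨⟨x, hw ▸ trivial⟩, rfl⟩
    exact IsOpenImmersion.isIso _
  haveI hΦc : IsClosedImmersion Φ := by
    have hq : RelProj.IsProjQMap w p' chart' p chart (inv (RelProj.domQ w p chart).ι ≫ Φ) := by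
      refine ⟨hw, fun U hU U' hU' hle d hd f hf => ?_⟩
      have hW : Set.range (RelProj.awayEmb w p chart U hU U' hU' hle hd f hf).base ⊆
          Set.range (RelProj.domQ w p chart).ι.base :=
        RelProj.range_awayEmb_subset_domQ w p chart U hU U' hU' hle hd f hf
      rw [← hΦ U hU U' hU' hle d hd f hf hW, ← Category.assoc]
      congr 1
      rw [IsIso.comp_inv_eq, IsOpenImmersion.lift_fac]
    haveI := hcl _ hq
    rw [← IsIso.hom_inv_id_assoc (RelProj.domQ w p chart).ι Φ]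
    infer_instance
  have hr2 : r = inv k ≫ ρ ≫ (RelProj.domQ w p chart).ι := by rw [hρ, IsIso.inv_hom_id_assoc]
  refine ⟨fun h => ?_, fun h => ?_⟩
  · haveI : IsOpenImmersion (ρ ≫ Φ) := e ▸ h
    haveI : IsOpenImmersion ρ := by
      have sq : IsPullback ρ (𝟙 _) Φ (ρ ≫ Φ) :=
        IsPullback.of_isLimit (c := PullbackCone.mk ρ (𝟙 _) (by simp)) (PullbackCone.IsLimit.mk _
          (fun s => s.snd)
          (fun s => by rw [← cancel_mono Φ, Category.assoc]; exact s.condition.symm)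
          (fun s => Category.comp_id _) (fun s m _ h2 => by rw [← h2, Category.comp_id]))
      exact MorphismProperty.of_isPullback sq.flip inferInstance
    rw [hr2]; infer_instance
  · haveI : IsClosedImmersion (ρ ≫ Φ) := e ▸ h
    haveI : IsClosedImmersion ρ := IsClosedImmersion.of_comp ρ Φ
    rw [hr2]; infer_instance

end Groth.Agent.S12154
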