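import Groth.Statements.S12155
import Groth.Agent.RelConeLib.QMap
import Groth.Agent.RelConeLib.DomCone
import Groth.Agent.RelConeLib.ConeImm
-- import your own Groth.Agent.* helpers here

set_option autoImplicit false
universe u
open CategoryTheory CategoryTheory.Limits AlgebraicGeometry TopologicalSpace Opposite
open scoped HomogeneousIdeal
noncomputable section
open EGA2

namespace Groth.Agent.S12155

/-- Let q : Y' → Y be a morphism, φ : 𝒮 → q_*𝒮' a graded q-morphism of quasi-coherent positively graded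
algebras with 𝒮_0 = O_Y, 𝒮'_0 = O_{Y'}, φ̂ : 𝒮[z] → q_*𝒮'[z] its extension with φ̂(z) = z, Ĉ =
Proj(𝒮[z]), Ĉ' = Proj(𝒮'[z]) the projective cones with pointed cones Ê, Ê', and Φ̂ = Proj(φ̂) :
G(φ̂) → Ĉ. Then Φ̂⁻¹(Ê) ⊆ Ê'; moreover if Proj(φ) is everywhere defined on Proj(𝒮'), then Φ̂ is
everywhere defined on Ĉ' and Φ̂⁻¹(Ê) = Ê'. -/
theorem result {Y Y' PC PC' : Scheme.{u}} (q : Y' ⟶ Y)
    (𝒮 : RelProj.QCGrAlg Y) (𝒮' : RelProj.QCGrAlg Y') (h0 : RelCone.StrZeroBij 𝒮) (h0' : RelCone.StrZeroBij 𝒮')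
    (u : RelProj.QGrHom q 𝒮 𝒮')
    (𝒮h : RelProj.QCGrAlg Y) (ι : 𝒮.toQCAlg ⟶ 𝒮h.toQCAlg) (z : 𝒮h.presheaf.obj (op ⊤))
    (hz : RelCone.IsPolyOver 𝒮 𝒮h ι z)
    (pC : PC ⟶ Y) (chartC : ∀ (U : Y.Opens) (hU : IsAffineOpen U), (((pC ⁻¹ᵁ U : PC.Opens) : Scheme.{u}) ≅ Proj (𝒮h.deg U hU)))
    (hC : RelProj.IsRelProj 𝒮h pC chartC)
    (𝒮h' : RelProj.QCGrAlg Y') (ι' : 𝒮'.toQCAlg ⟶ 𝒮h'.toQCAlg) (z' : 𝒮h'.presheaf.obj (op ⊤))
    (hz' : RelCone.IsPolyOver 𝒮' 𝒮h' ι' z')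
    (pC' : PC' ⟶ Y') (chartC' : ∀ (U : Y'.Opens) (hU : IsAffineOpen U), (((pC' ⁻¹ᵁ U : PC'.Opens) : Scheme.{u}) ≅ Proj (𝒮h'.deg U hU)))
    (hC' : RelProj.IsRelProj 𝒮h' pC' chartC')
    (uh : RelProj.QGrHom q 𝒮h 𝒮h')
    (huh : ∀ U : Y.Opens, ι.hom.app (op U) ≫ uh.app U = u.app U ≫ ι'.hom.app (op (q ⁻¹ᵁ U)))
    (huhz : (uh.app ⊤).hom z = RelCone.restrictTop 𝒮h' z' (q ⁻¹ᵁ ⊤))
    (Φh : ((RelProj.domQ uh pC' chartC' : PC'.Opens) : Scheme.{u}) ⟶ PC)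
    (hΦh : RelProj.IsProjQMapOn uh pC chartC pC' chartC' (RelProj.domQ uh pC' chartC') Φh)
    {P' : Scheme.{u}} (p' : P' ⟶ Y') (chart' : ∀ (U : Y'.Opens) (hU : IsAffineOpen U), (((p' ⁻¹ᵁ U : P'.Opens) : Scheme.{u}) ≅ Proj (𝒮'.deg U hU)))
    (hP' : RelProj.IsRelProj 𝒮' p' chart') :
    (RelProj.domQ uh pC' chartC').ι ''ᵁ (Φh ⁻¹ᵁ RelCone.pointedProjCone 𝒮 hz pC chartC) ≤ RelCone.pointedProjCone 𝒮' hz' pC' chartC' ∧
      (RelProj.domQ u p' chart' = ⊤ →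
        RelProj.domQ uh pC' chartC' = ⊤ ∧
          (RelProj.domQ uh pC' chartC').ι ''ᵁ (Φh ⁻¹ᵁ RelCone.pointedProjCone 𝒮 hz pC chartC) = RelCone.pointedProjCone 𝒮' hz' pC' chartC') := by

  classical
  have hcomm : ∀ (j : RelConeLib.Pair q) (a : 𝒮.presheaf.obj (op j.U)),
      j.hom uh (RelProj.gradedHomAt ι hz.graded j.U j.hU a) =
        RelProj.gradedHomAt ι' hz'.graded j.U' j.hU' (j.hom u a) := by
    intro j a
    have h1 := congrArg (fun f => (f ≫ 𝒮h'.presheaf.map (homOfLE j.le).op).hom a) (huh j.U)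
    exact h1.trans (NatTrans.naturality_apply ι'.hom (homOfLE j.le).op ((u.app j.U).hom a)).symm
  have hzU : ∀ j : RelConeLib.Pair q, j.hom uh (RelCone.restrictTop 𝒮h z j.U) = RelCone.restrictTop 𝒮h' z' j.U' := by
    intro j
    have h1 := congrArg (fun f => f.hom z) (uh.toQHom.map_appLE (le_top : j.U ≤ ⊤) j.le)
    refine h1.trans ?_
    show (𝒮h'.presheaf.map (homOfLE _).op).hom ((uh.app ⊤).hom z) = _
    rw [huhz]
    show ((𝒮h'.presheaf.map (homOfLE le_top).op) ≫ (𝒮h'.presheaf.map (homOfLE _).op)).hom z' = _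
    rw [← Functor.map_comp, ← op_comp, homOfLE_comp]
  -- membership in the preimage, on a chart
  have hmem : ∀ (j : RelConeLib.Pair q) (w : (RelCone.domOpen (j.hom uh) : Scheme.{u})),
      RelConeLib.qEmb uh (chart' := chartC') j w ∈ Φh ⁻¹ᵁ RelCone.pointedProjCone 𝒮 hz pC chartC ↔
        ∃ i : ConeRetrLib.Idx (𝒮.deg j.U j.hU), w.1 ∈ Proj.basicOpen (𝒮h'.deg j.U' j.hU')
          (RelProj.gradedHomAt ι' hz'.graded j.U' j.hU' (j.hom u i.el)) := by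
    intro j w
    show w ∈ RelConeLib.qEmb uh (chart' := chartC') j ⁻¹ᵁ (Φh ⁻¹ᵁ RelCone.pointedProjCone 𝒮 hz pC chartC) ↔ _
    rw [← Scheme.Hom.comp_preimage, (RelConeLib.isProjQMapOn_iff uh Φh).mp hΦh j, RelConeLib.qTarget,
      Scheme.Hom.comp_preimage, RelConeLib.emb_preimage_pointedProjCone hz hC]
    show RelConeLib.dMap (j.hom uh) w ∈ RelCone.domOpen _ ↔ _
    rw [RelConeLib.mem_domOpen_iff]
    refine exists_congr fun i => ?_
    have h1 := RelConeLib.dMap_preimage (j.hom uh) (g := RelProj.gradedHomAt ι hz.graded j.U j.hU i.el)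
      ((RelProj.gradedHomAt ι hz.graded j.U j.hU).map_mem i.mem) i.pos
    rw [hcomm j] at h1
    exact Iff.of_eq (congrArg (fun O : (RelCone.domOpen (j.hom uh) : Scheme.{u}).Opens => w ∈ O) h1)
  have hchart : ∀ x : PC', ∃ (j : RelConeLib.Pair q) (v : Proj (𝒮h'.deg j.U' j.hU')),
      RelProj.emb pC' chartC' j.U' j.hU' v = x := by
    intro x
    obtain ⟨j, hj⟩ := RelConeLib.exists_pair (g := q) (pC' x)
    exact ⟨j, RelConeLib.exists_emb_eq (chart := chartC') j.hU' x hj⟩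
  have hE' : ∀ (j : RelConeLib.Pair q) (v : Proj (𝒮h'.deg j.U' j.hU')),
      RelProj.emb pC' chartC' j.U' j.hU' v ∈ RelCone.pointedProjCone 𝒮' hz' pC' chartC' ↔
        v ∈ RelCone.domOpen (RelProj.gradedHomAt ι' hz'.graded j.U' j.hU') := fun j v => by
    rw [← RelConeLib.emb_preimage_pointedProjCone hz' hC']
    rfl
  have hfirst : (RelProj.domQ uh pC' chartC').ι ''ᵁ (Φh ⁻¹ᵁ RelCone.pointedProjCone 𝒮 hz pC chartC) ≤
      RelCone.pointedProjCone 𝒮' hz' pC' chartC' := by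
    rintro _ ⟨y, hy, rfl⟩
    obtain ⟨j, hj⟩ := RelConeLib.qEmb_cover uh hC' y
    obtain ⟨w, rfl⟩ := hj
    obtain ⟨i, hi⟩ := (hmem j w).mp hy
    show ((RelConeLib.qEmb uh (chart' := chartC') j) ≫ (RelProj.domQ uh pC' chartC').ι) w ∈ _
    rw [RelConeLib.qEmb_ι]
    refine (hE' j w.1).mpr ((RelConeLib.mem_domOpen_iff _ _).mpr ?_)
    exact ⟨⟨i.deg, j.hom u i.el, i.pos, (j.hom u).map_mem i.mem⟩, hi⟩
  refine ⟨hfirst, fun htop => ?_⟩
  have hkey : ∀ (j : RelConeLib.Pair q) (v : Proj (𝒮h'.deg j.U' j.hU')),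
      v ∈ RelCone.domOpen (RelProj.gradedHomAt ι' hz'.graded j.U' j.hU') →
        ∃ i : ConeRetrLib.Idx (𝒮.deg j.U j.hU), v ∈ Proj.basicOpen (𝒮h'.deg j.U' j.hU')
          (RelProj.gradedHomAt ι' hz'.graded j.U' j.hU' (j.hom u i.el)) := by
    intro j v hv
    let ψ := RelProj.gradedHomAt ι' hz'.graded j.U' j.hU'
    let P₀ : Proj (𝒮'.deg j.U' j.hU') := RelConeLib.dMap ψ ⟨v, hv⟩
    have hP₀ : P₀ ∈ RelCone.domOpen (j.hom u) := by
      rw [← RelConeLib.emb_preimage_domQ u hP', htop]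
      trivial
    obtain ⟨i, hi⟩ := (RelConeLib.mem_domOpen_iff _ _).mp hP₀
    refine ⟨i, ?_⟩
    have h1 : (⟨v, hv⟩ : (RelCone.domOpen ψ : Scheme.{u})) ∈
        RelConeLib.dMap ψ ⁻¹ᵁ Proj.basicOpen (𝒮'.deg j.U' j.hU') (j.hom u i.el) := hi
    have h2 := RelConeLib.dMap_preimage ψ (g := j.hom u i.el) ((j.hom u).map_mem i.mem) i.pos
    exact h2.le h1
  have hmemuh : ∀ (j : RelConeLib.Pair q) (v : Proj (𝒮h'.deg j.U' j.hU')),
      v ∈ RelCone.domOpen (j.hom uh) := by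
    intro j v
    by_contra hv
    letI := RelConeLib.algι ι' j.U'
    by_cases hv' : v ∈ RelCone.domOpen (RelProj.gradedHomAt ι' hz'.graded j.U' j.hU')
    · obtain ⟨i, hi⟩ := hkey j v hv'
      rw [← hcomm j] at hi
      exact hv ((RelConeLib.mem_domOpen_iff _ _).mpr
        ⟨⟨i.deg, _, i.pos, (RelProj.gradedHomAt ι hz.graded j.U j.hU).map_mem i.mem⟩, hi⟩)
    · have h1 := RelConeLib.notMem_of_notMem_domOpen (RelProj.gradedHomAt ι' hz'.graded j.U' j.hU') (fun _ => rfl)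
        (RelCone.restrictTop 𝒮h' z' j.U') (hz'.deg_z j.U' j.hU') (RelConeLib.hat_bij hz' j.U' j.hU') hv'
      rw [← hzU j] at h1
      exact hv ((RelConeLib.mem_domOpen_iff _ _).mpr ⟨⟨1, _, one_pos, hz.deg_z j.U j.hU⟩, h1⟩)
  refine ⟨top_le_iff.mp fun x _ => ?_, le_antisymm hfirst ?_⟩
  · obtain ⟨j, v, rfl⟩ := hchart x
    show v ∈ RelProj.emb pC' chartC' j.U' j.hU' ⁻¹ᵁ RelProj.domQ uh pC' chartC'
    rw [RelConeLib.emb_preimage_domQ uh hC']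
    exact hmemuh j v
  · intro x hx
    obtain ⟨j, v, rfl⟩ := hchart x
    have hw := (hmem j ⟨v, hmemuh j v⟩).mpr (hkey j v ((hE' j v).mp hx))
    refine ⟨_, hw, ?_⟩
    show ((RelConeLib.qEmb uh (chart' := chartC') j) ≫ (RelProj.domQ uh pC' chartC').ι) ⟨v, hmemuh j v⟩ = _
    rw [RelConeLib.qEmb_ι]
    rfl


end Groth.Agent.S12155
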