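import Groth.Statements.S12156
import Mathlib
import Mathlib
import Groth.Agent.RelConeLib.Spec
import Groth.Agent.RelConeLib.Dom
import Groth.Agent.RelConeLib.Charts
import Groth.Agent.RelConeLib.QMap
-- import your own Groth.Agent.* helpers here

set_option autoImplicit false
universe u
open CategoryTheory CategoryTheory.Limits AlgebraicGeometry TopologicalSpace Opposite
open scoped HomogeneousIdeal
noncomputable section
open EGA2 HomogeneousLocalization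

namespace Groth.Agent.S12156

/-- Let q : Y' → Y be a morphism, φ : 𝒮 → q_*𝒮' a graded q-morphism of quasi-coherent positively graded
algebras with 𝒮_0 = O_Y, 𝒮'_0 = O_{Y'}, φ̂ : 𝒮[z] → q_*𝒮'[z] its extension with φ̂(z) = z, Ĉ =
Proj(𝒮[z]), Ĉ' = Proj(𝒮'[z]) the projective cones with pointed cones Ê, Ê', and Φ̂ = Proj(φ̂) :
G(φ̂) → Ĉ; let X = Proj(𝒮), X' = Proj(𝒮'), Proj(φ) : G(φ) → X on its open of definition G(φ) ⊆ X',
and p̂ : Ê → X, p̂' : Ê' → X' the canonical retractions. Then p̂'(Φ̂⁻¹(Ê)) ⊆ G(φ) and on Φ̂⁻¹(Ê) the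
composites p̂ ∘ Φ̂ and Proj(φ) ∘ p̂' agree (stated on T-valued points: a : T → Ê' and b : T → G(φ̂)
agreeing in Ĉ' with Φ̂ ∘ b = c : T → Ê). -/
theorem result {Y Y' PC PC' : Scheme.{u}} (q : Y' ⟶ Y)
    (𝒮 : RelProj.QCGrAlg Y) (𝒮' : RelProj.QCGrAlg Y') (h0 : RelCone.StrZeroBij 𝒮) (h0' : RelCone.StrZeroBij 𝒮')
    (u : RelProj.QGrHom q 𝒮 𝒮')
    (𝒮h : RelProj.QCGrAlg Y) (ι : 𝒮.toQCAlg ⟶ 𝒮h.toQCAlg) (z : 𝒮h.presheaf.obj (op ⊤))
    (hz : RelCone.IsPolyOver 𝒮 𝒮h ι z)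
    (pC : PC ⟶ Y) (chartC : ∀ (U : Y.Opens) (hU : IsAffineOpen U), (((pC ⁻¹ᵁ U : PC.Opens) : Scheme.{u}) ≅ Proj (𝒮h.deg U hU)))
    (hC : RelProj.IsRelProj 𝒮h pC chartC)
    (𝒮h' : RelProj.QCGrAlg Y') (ι' : 𝒮'.toQCAlg ⟶ 𝒮h'.toQCAlg) (z' : 𝒮h'.presheaf.obj (op ⊤))
    (hz' : RelCone.IsPolyOver 𝒮' 𝒮h' ι' z')
    (pC' : PC' ⟶ Y') (chartC' : ∀ (U : Y'.Opens) (hU : IsAffineOpen U), (((pC' ⁻¹ᵁ U : PC'.Opens) : Scheme.{u}) ≅ Proj (𝒮h'.deg U hU)))
    (hC' : RelProj.IsRelProj 𝒮h' pC' chartC')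
    (uh : RelProj.QGrHom q 𝒮h 𝒮h')
    (huh : ∀ U : Y.Opens, ι.hom.app (op U) ≫ uh.app U = u.app U ≫ ι'.hom.app (op (q ⁻¹ᵁ U)))
    (huhz : (uh.app ⊤).hom z = RelCone.restrictTop 𝒮h' z' (q ⁻¹ᵁ ⊤))
    (Φh : ((RelProj.domQ uh pC' chartC' : PC'.Opens) : Scheme.{u}) ⟶ PC)
    (hΦh : RelProj.IsProjQMapOn uh pC chartC pC' chartC' (RelProj.domQ uh pC' chartC') Φh)
    {P P' : Scheme.{u}} (p : P ⟶ Y) (chart : ∀ (U : Y.Opens) (hU : IsAffineOpen U), (((p ⁻¹ᵁ U : P.Opens) : Scheme.{u}) ≅ Proj (𝒮.deg U hU)))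
    (hP : RelProj.IsRelProj 𝒮 p chart)
    (p' : P' ⟶ Y') (chart' : ∀ (U : Y'.Opens) (hU : IsAffineOpen U), (((p' ⁻¹ᵁ U : P'.Opens) : Scheme.{u}) ≅ Proj (𝒮'.deg U hU)))
    (hP' : RelProj.IsRelProj 𝒮' p' chart')
    (Φ : ((RelProj.domQ u p' chart' : P'.Opens) : Scheme.{u}) ⟶ P)
    (hΦ : RelProj.IsProjQMapOn u p chart p' chart' (RelProj.domQ u p' chart') Φ)
    (r : ((RelCone.pointedProjCone 𝒮 hz pC chartC : PC.Opens) : Scheme.{u}) ⟶ P)
    (hr : RelProj.IsProjQMapOn (RelProj.QGrHom.ofHom ι hz.graded) p chart pC chartC (RelCone.pointedProjCone 𝒮 hz pC chartC) r)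
    (r' : ((RelCone.pointedProjCone 𝒮' hz' pC' chartC' : PC'.Opens) : Scheme.{u}) ⟶ P')
    (hr' : RelProj.IsProjQMapOn (RelProj.QGrHom.ofHom ι' hz'.graded) p' chart' pC' chartC' (RelCone.pointedProjCone 𝒮' hz' pC' chartC') r')
    (T : Scheme.{u}) (a : T ⟶ ((RelCone.pointedProjCone 𝒮' hz' pC' chartC' : PC'.Opens) : Scheme.{u}))
    (b : T ⟶ ((RelProj.domQ uh pC' chartC' : PC'.Opens) : Scheme.{u}))
    (c : T ⟶ ((RelCone.pointedProjCone 𝒮 hz pC chartC : PC.Opens) : Scheme.{u}))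
    (hab : a ≫ (RelCone.pointedProjCone 𝒮' hz' pC' chartC').ι = b ≫ (RelProj.domQ uh pC' chartC').ι) (hbc : b ≫ Φh = c ≫ (RelCone.pointedProjCone 𝒮 hz pC chartC).ι) :
    Set.range (a ≫ r').base ⊆ ((RelProj.domQ u p' chart' : P'.Opens) : Set P') ∧
      ∀ d : T ⟶ ((RelProj.domQ u p' chart' : P'.Opens) : Scheme.{u}),
        a ≫ r' = d ≫ (RelProj.domQ u p' chart').ι → c ≫ r = d ≫ Φ := by
  have hofU : ∀ {S : Scheme.{u}} {𝒜 ℬ : RelProj.QCGrAlg S} (τ : 𝒜.toQCAlg ⟶ ℬ.toQCAlg) (hτ : RelProj.IsGradedHom τ)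
      (U : S.Opens) (hU : IsAffineOpen U) (b : 𝒜.presheaf.obj (op U)),
      (RelProj.QGrHom.ofHom τ hτ).gradedAt U hU U hU (le_refl U) b = (τ.hom.app (op U)).hom b := by
    intro S 𝒜 ℬ τ hτ U hU b
    show (τ.hom.app (op U) ≫ ℬ.presheaf.map (𝟙 (op U))).hom b = _
    rw [CategoryTheory.Functor.map_id, Category.comp_id]
  have huι : ∀ (U : Y.Opens) (U' : Y'.Opens) (hle : U' ≤ q ⁻¹ᵁ U) (a : 𝒮.presheaf.obj (op U)),
      (uh.appLE U U' hle).hom ((ι.hom.app (op U)).hom a) = (ι'.hom.app (op U')).hom ((u.appLE U U' hle).hom a) := by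
    intro U U' hle a
    show (ι.hom.app (op U) ≫ uh.app U ≫ 𝒮h'.presheaf.map (homOfLE hle).op).hom a =
      ((u.app U ≫ 𝒮'.presheaf.map (homOfLE hle).op) ≫ ι'.hom.app (op U')).hom a
    rw [← Category.assoc, huh, Category.assoc, Category.assoc, ι'.hom.naturality]
  have key : ∀ (U : Y.Opens) (hU : IsAffineOpen U) (U' : Y'.Opens) (hU' : IsAffineOpen U') (hle : U' ≤ q ⁻¹ᵁ U)
      (n : ℕ) (hn : 0 < n) (f : 𝒮.presheaf.obj (op U)) (hf : f ∈ 𝒮.deg U hU n),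
      ∃ (Z : Scheme.{u}) (C : Z ⟶ PC') (_ : IsOpenImmersion C) (la : Z ⟶ (RelCone.pointedProjCone 𝒮' hz' pC' chartC' : Scheme.{u}))
        (lb : Z ⟶ (RelProj.domQ uh pC' chartC' : Scheme.{u}))
        (lc : Z ⟶ (RelCone.pointedProjCone 𝒮 hz pC chartC : Scheme.{u})) (ld : Z ⟶ (RelProj.domQ u p' chart' : Scheme.{u})),
        la ≫ (RelCone.pointedProjCone 𝒮' hz' pC' chartC').ι = C ∧ lb ≫ (RelProj.domQ uh pC' chartC').ι = C ∧
        lc ≫ (RelCone.pointedProjCone 𝒮 hz pC chartC).ι = lb ≫ Φh ∧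
        la ≫ r' = ld ≫ (RelProj.domQ u p' chart').ι ∧ lc ≫ r = ld ≫ Φ ∧
        ∀ v ∈ Proj.basicOpen (𝒮h'.deg U' hU') (uh.gradedAt U hU U' hU' hle ((ι.hom.app (op U)).hom f)),
          RelProj.emb pC' chartC' U' hU' v ∈ C.opensRange := by
    intro U hU U' hU' hle n hn f hf
    let fh := (ι.hom.app (op U)).hom f
    have hfh : fh ∈ 𝒮h.deg U hU n := hz.graded U hU n f hf
    let f' := u.gradedAt U hU U' hU' hle f
    have hf' : f' ∈ 𝒮'.deg U' hU' n := (u.gradedAt U hU U' hU' hle).map_mem hf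
    let e := uh.gradedAt U hU U' hU' hle fh
    have he : e ∈ 𝒮h'.deg U' hU' n := (uh.gradedAt U hU U' hU' hle).map_mem hfh
    have gen1 : ∀ (g : 𝒮h.presheaf.obj (op U)) (hg : g ∈ 𝒮h.deg U hU n),
        (RelProj.QGrHom.ofHom ι hz.graded).gradedAt U hU U hU (le_refl U) f = g →
        ∃ m : Away (𝒮.deg U hU) f →+* Away (𝒮h.deg U hU) g,
          (∀ k b hb, (m (Away.mk _ hf k b hb)).val =
            Localization.mk ((ι.hom.app (op U)).hom b) (⟨g ^ k, k, rfl⟩ : Submonoid.powers g)) ∧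
          ∃ l : _ ⟶ (RelCone.pointedProjCone 𝒮 hz pC chartC : Scheme.{u}),
            l ≫ (RelCone.pointedProjCone 𝒮 hz pC chartC).ι = Proj.awayι (𝒮h.deg U hU) g hg hn ≫ RelProj.emb pC chartC U hU ∧
            l ≫ r = Spec.map (CommRingCat.ofHom m) ≫ Proj.awayι (𝒮.deg U hU) f hf hn ≫ RelProj.emb p chart U hU := by
      intro g hg hgg
      subst hgg
      have hW : Set.range (RelProj.awayEmb (RelProj.QGrHom.ofHom ι hz.graded) pC chartC U hU U hU (le_refl U) hn f hf).base ⊆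
          Set.range (RelCone.pointedProjCone 𝒮 hz pC chartC).ι.base := by
        rw [Scheme.Opens.range_ι]
        rintro _ ⟨w, rfl⟩
        refine Opens.mem_iSup.mpr ⟨⟨U, hU⟩, Proj.awayι _ _ _ _ w,
          (RelConeLib.mem_domOpen_iff _ _).mpr ⟨⟨n, f, hn, hf⟩, ?_⟩, rfl⟩
        have h1 := (Proj.opensRange_awayι (𝒮h.deg U hU) ((RelProj.QGrHom.ofHom ι hz.graded).gradedAt U hU U hU (le_refl U) f)
          ((RelProj.QGrHom.ofHom ι hz.graded).map_mem U hU U hU (le_refl U) hf) hn).le ⟨w, rfl⟩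
        exact (hofU ι hz.graded U hU f) ▸ h1
      refine ⟨Away.map _ _, fun k b hb => ?_, _, IsOpenImmersion.lift_fac _ _ _, hr U hU U hU (le_refl U) n hn f hf hW⟩
      rw [Away.map_mk, Away.val_mk]
      congr 1
      exact hofU ι hz.graded U hU b
    have gen3 : ∀ (g : 𝒮h'.presheaf.obj (op U')) (hg : g ∈ 𝒮h'.deg U' hU' n),
        (RelProj.QGrHom.ofHom ι' hz'.graded).gradedAt U' hU' U' hU' (le_refl U') f' = g →
        ∃ m : Away (𝒮'.deg U' hU') f' →+* Away (𝒮h'.deg U' hU') g,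
          (∀ k b hb, (m (Away.mk _ hf' k b hb)).val =
            Localization.mk ((ι'.hom.app (op U')).hom b) (⟨g ^ k, k, rfl⟩ : Submonoid.powers g)) ∧
          ∃ l : _ ⟶ (RelCone.pointedProjCone 𝒮' hz' pC' chartC' : Scheme.{u}),
            l ≫ (RelCone.pointedProjCone 𝒮' hz' pC' chartC').ι = Proj.awayι (𝒮h'.deg U' hU') g hg hn ≫ RelProj.emb pC' chartC' U' hU' ∧
            l ≫ r' = Spec.map (CommRingCat.ofHom m) ≫ Proj.awayι (𝒮'.deg U' hU') f' hf' hn ≫ RelProj.emb p' chart' U' hU' := by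
      intro g hg hgg
      subst hgg
      have hW : Set.range (RelProj.awayEmb (RelProj.QGrHom.ofHom ι' hz'.graded) pC' chartC' U' hU' U' hU' (le_refl U') hn f' hf').base ⊆
          Set.range (RelCone.pointedProjCone 𝒮' hz' pC' chartC').ι.base := by
        rw [Scheme.Opens.range_ι]
        rintro _ ⟨w, rfl⟩
        refine Opens.mem_iSup.mpr ⟨⟨U', hU'⟩, Proj.awayι _ _ _ _ w,
          (RelConeLib.mem_domOpen_iff _ _).mpr ⟨⟨n, f', hn, hf'⟩, ?_⟩, rfl⟩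
        have h1 := (Proj.opensRange_awayι (𝒮h'.deg U' hU') ((RelProj.QGrHom.ofHom ι' hz'.graded).gradedAt U' hU' U' hU' (le_refl U') f')
          ((RelProj.QGrHom.ofHom ι' hz'.graded).map_mem U' hU' U' hU' (le_refl U') hf') hn).le ⟨w, rfl⟩
        exact (hofU ι' hz'.graded U' hU' f') ▸ h1
      refine ⟨Away.map _ _, fun k b hb => ?_, _, IsOpenImmersion.lift_fac _ _ _, hr' U' hU' U' hU' (le_refl U') n hn f' hf' hW⟩
      rw [Away.map_mk, Away.val_mk]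
      congr 1
      exact hofU ι' hz'.graded U' hU' b
    obtain ⟨m1, hm1, lc0, hlc0, hlc0'⟩ := gen1 fh hfh (hofU ι hz.graded U hU f)
    obtain ⟨m3, hm3, la, hla, hla'⟩ := gen3 e he ((hofU ι' hz'.graded U' hU' f').trans (huι U U' hle f).symm)
    let lb := IsOpenImmersion.lift (RelProj.domQ uh pC' chartC').ι _
      (RelProj.range_awayEmb_subset_domQ uh pC' chartC' U hU U' hU' hle hn fh hfh)
    have hlb' := hΦh U hU U' hU' hle n hn fh hfh (RelProj.range_awayEmb_subset_domQ uh pC' chartC' U hU U' hU' hle hn fh hfh)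
    refine ⟨_, Proj.awayι (𝒮h'.deg U' hU') e he hn ≫ RelProj.emb pC' chartC' U' hU', inferInstance, la, lb,
      Spec.map (CommRingCat.ofHom (Away.map (uh.gradedAt U hU U' hU' hle) fh)) ≫ lc0,
      Spec.map (CommRingCat.ofHom m3) ≫ IsOpenImmersion.lift (RelProj.domQ u p' chart').ι _
        (RelProj.range_awayEmb_subset_domQ u p' chart' U hU U' hU' hle hn f hf),
      hla, IsOpenImmersion.lift_fac _ _ _, ?_, ?_, ?_, fun v hv => ?_⟩
    · rw [Category.assoc, hlc0]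
      exact hlb'.symm
    · rw [Category.assoc, IsOpenImmersion.lift_fac, hla']
      rfl
    · rw [Category.assoc, hlc0', Category.assoc,
        hΦ U hU U' hU' hle n hn f hf (RelProj.range_awayEmb_subset_domQ u p' chart' U hU U' hU' hle hn f hf),
        ← Spec.map_comp_assoc, ← Spec.map_comp_assoc]
      congr 2
      refine CommRingCat.hom_ext (RingHom.ext fun x => val_injective _ ?_)
      obtain ⟨k, b, hb, rfl⟩ := x.mk_surjective _ hf
      show (Away.map (uh.gradedAt U hU U' hU' hle) fh (m1 _)).val = (m3 (Away.map (u.gradedAt U hU U' hU' hle) f _)).val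
      have h1 : m1 (Away.mk _ hf k b hb) = Away.mk _ hfh k ((ι.hom.app (op U)).hom b) (hz.graded U hU _ b hb) :=
        val_injective _ ((hm1 k b hb).trans (Away.val_mk _ _ _ _ _).symm)
      rw [h1, Away.map_mk, Away.map_mk, hm3, Away.val_mk]
      congr 1
      exact huι U U' hle b
    · rw [Scheme.Hom.opensRange_comp, Proj.opensRange_awayι]
      exact ⟨v, hv, rfl⟩
  let xT := a ≫ (RelCone.pointedProjCone 𝒮' hz' pC' chartC').ι
  have main : ∀ t : T, ∃ (O : T.Opens) (_ : t ∈ O) (ld : (O : Scheme.{u}) ⟶ (RelProj.domQ u p' chart' : Scheme.{u})),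
      O.ι ≫ a ≫ r' = ld ≫ (RelProj.domQ u p' chart').ι ∧ O.ι ≫ c ≫ r = ld ≫ Φ := by
    intro t
    let x := b t
    obtain ⟨U, hU, hxU, -⟩ := exists_isAffineOpen_mem_and_subset (x := pC (Φh x)) (U := ⊤) trivial
    have hq : q (pC' x.1) ∈ U := by
      have h := congr($(RelConeLib.qMap_over uh hC hC' hΦh) x)
      rw [Scheme.Hom.comp_apply, Scheme.Hom.comp_apply, Scheme.Hom.comp_apply] at h
      exact Eq.subst (motive := fun y => y ∈ U) h hxU
    obtain ⟨U', hU', hxU', hle'⟩ := exists_isAffineOpen_mem_and_subset (x := pC' x.1) (U := q ⁻¹ᵁ U) hq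
    let W : RelConeLib.Pair q := ⟨U, hU, U', hU', fun y hy => hle' hy⟩
    obtain ⟨w, hw⟩ : x ∈ (RelConeLib.qEmb uh (chart' := chartC') W).opensRange := by
      rw [RelConeLib.qEmb_opensRange uh hC']
      exact hxU'
    have h1 : Φh x = RelProj.emb pC chartC U hU (RelConeLib.dMap (W.hom uh) w) := by
      rw [← hw, ← Scheme.Hom.comp_apply, (RelConeLib.isProjQMapOn_iff uh Φh).mp hΦh W, RelConeLib.qTarget,
        Scheme.Hom.comp_apply]
    have h2 : RelConeLib.dMap (W.hom uh) w ∈ RelCone.domOpen (RelProj.gradedHomAt ι hz.graded U hU) := by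
      rw [← RelConeLib.emb_preimage_pointedProjCone hz hC U hU]
      show RelProj.emb pC chartC U hU _ ∈ RelCone.pointedProjCone 𝒮 hz pC chartC
      rw [← h1, show Φh x = (RelCone.pointedProjCone 𝒮 hz pC chartC).ι (c t) from congr($hbc t)]
      exact (c t).2
    obtain ⟨i, hi⟩ := (RelConeLib.mem_domOpen_iff _ _).mp h2
    have h3 := (RelConeLib.dMap_preimage (W.hom uh) (hz.graded U hU _ _ i.mem) i.pos).le hi
    obtain ⟨Z, C, hC0, la, lb, lc, ld, e1, e2, e3, e4, e5, hmem⟩ := key U hU U' hU' W.le i.deg i.pos i.el i.mem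
    have htC : t ∈ xT ⁻¹ᵁ C.opensRange := by
      show xT t ∈ C.opensRange
      rw [show xT t = (RelProj.domQ uh pC' chartC').ι x from congr($hab t), ← hw, ← Scheme.Hom.comp_apply,
        RelConeLib.qEmb_ι uh, Scheme.Hom.comp_apply]
      exact hmem _ h3
    let O := xT ⁻¹ᵁ C.opensRange
    let t0 := IsOpenImmersion.lift C (O.ι ≫ xT) (by rintro _ ⟨y, rfl⟩; exact y.2)
    have ht0 : t0 ≫ C = O.ι ≫ xT := IsOpenImmersion.lift_fac _ _ _
    have ea : O.ι ≫ a = t0 ≫ la := by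
      rw [← cancel_mono (RelCone.pointedProjCone 𝒮' hz' pC' chartC').ι, Category.assoc, Category.assoc, e1, ht0]
    have eb : O.ι ≫ b = t0 ≫ lb := by
      rw [← cancel_mono (RelProj.domQ uh pC' chartC').ι, Category.assoc, Category.assoc, e2, ht0, ← hab]
    have ec : O.ι ≫ c = t0 ≫ lc := by
      rw [← cancel_mono (RelCone.pointedProjCone 𝒮 hz pC chartC).ι, Category.assoc, Category.assoc, e3, ← hbc,
        reassoc_of% eb]
    exact ⟨O, htC, t0 ≫ ld, by rw [reassoc_of% ea, e4, Category.assoc], by rw [reassoc_of% ec, e5, Category.assoc]⟩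
  refine ⟨?_, fun d hd => ?_⟩
  · rintro _ ⟨t, rfl⟩
    obtain ⟨O, htO, ld, h, -⟩ := main t
    show (a ≫ r') t ∈ RelProj.domQ u p' chart'
    rw [show (a ≫ r') t = (RelProj.domQ u p' chart').ι (ld ⟨t, htO⟩) from congr($h ⟨t, htO⟩)]
    exact (ld ⟨t, htO⟩).2
  · refine RelConeLib.ext_of_charts _ _ fun t => ?_
    obtain ⟨O, htO, ld, h, h'⟩ := main t
    refine ⟨_, O.ι, inferInstance, ⟨⟨t, htO⟩, rfl⟩, ?_⟩
    have ed : O.ι ≫ d = ld := by
      rw [← cancel_mono (RelProj.domQ u p' chart').ι, Category.assoc, ← hd, h]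
    rw [h', reassoc_of% ed]

end Groth.Agent.S12156
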