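import Groth.Statements.S12157
import Mathlib
import Mathlib
import Groth.Agent.RelConeLib.Spec
-- import your own Groth.Agent.* helpers here

set_option autoImplicit false
universe u
open CategoryTheory CategoryTheory.Limits AlgebraicGeometry TopologicalSpace Opposite
open scoped HomogeneousIdeal
noncomputable section
open EGA2 HomogeneousLocalization

namespace Groth.Agent.S12157

/-- Let q : Y' → Y be a morphism, φ : 𝒮 → q_*𝒮' a graded q-morphism of quasi-coherent positively graded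
algebras with 𝒮_0 = O_Y, 𝒮'_0 = O_{Y'}, φ̂ : 𝒮[z] → q_*𝒮'[z] its extension with φ̂(z) = z, Ĉ =
Proj(𝒮[z]), Ĉ' = Proj(𝒮'[z]) the projective cones with pointed cones Ê, Ê', and Φ̂ = Proj(φ̂) :
G(φ̂) → Ĉ; let Φ = Spec(φ) : C' = Spec(𝒮') → C = Spec(𝒮) be the morphism of affine cones and i : C →
Ĉ, i' : C' → Ĉ' the canonical open immersions. Then i'(C') ⊆ G(φ̂) and the square formed by Φ, i', i
and Φ̂ commutes. -/
theorem result {Y Y' PC PC' : Scheme.{u}} (q : Y' ⟶ Y)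
    (𝒮 : RelProj.QCGrAlg Y) (𝒮' : RelProj.QCGrAlg Y') (h0 : RelCone.StrZeroBij 𝒮) (h0' : RelCone.StrZeroBij 𝒮')
    (u : RelProj.QGrHom q 𝒮 𝒮')
    (𝒮h : RelProj.QCGrAlg Y) (ι : 𝒮.toQCAlg ⟶ 𝒮h.toQCAlg) (z : 𝒮h.presheaf.obj (op ⊤))
    (hz : RelCone.IsPolyOver 𝒮 𝒮h ι z)
    (pC : PC ⟶ Y) (chartC : ∀ (U : Y.Opens) (hU : IsAffineOpen U), (((pC ⁻¹ᵁ U : PC.Opens) : Scheme.{u}) ≅ Proj (𝒮h.deg U hU)))
    (hC : RelProj.IsRelProj 𝒮h pC chartC)
    (𝒮h' : RelProj.QCGrAlg Y') (ι' : 𝒮'.toQCAlg ⟶ 𝒮h'.toQCAlg) (z' : 𝒮h'.presheaf.obj (op ⊤))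
    (hz' : RelCone.IsPolyOver 𝒮' 𝒮h' ι' z')
    (pC' : PC' ⟶ Y') (chartC' : ∀ (U : Y'.Opens) (hU : IsAffineOpen U), (((pC' ⁻¹ᵁ U : PC'.Opens) : Scheme.{u}) ≅ Proj (𝒮h'.deg U hU)))
    (hC' : RelProj.IsRelProj 𝒮h' pC' chartC')
    (uh : RelProj.QGrHom q 𝒮h 𝒮h')
    (huh : ∀ U : Y.Opens, ι.hom.app (op U) ≫ uh.app U = u.app U ≫ ι'.hom.app (op (q ⁻¹ᵁ U)))
    (huhz : (uh.app ⊤).hom z = RelCone.restrictTop 𝒮h' z' (q ⁻¹ᵁ ⊤))
    (Φh : ((RelProj.domQ uh pC' chartC' : PC'.Opens) : Scheme.{u}) ⟶ PC)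
    (hΦh : RelProj.IsProjQMapOn uh pC chartC pC' chartC' (RelProj.domQ uh pC' chartC') Φh)
    (Φc : 𝒮'.toQCAlg.spec ⟶ 𝒮.toQCAlg.spec) (hΦc : RelSpec.IsSpecQMap u.toQHom Φc)
    (i : 𝒮.toQCAlg.spec ⟶ PC) (hi : RelCone.IsConeImm 𝒮 hz pC chartC i)
    (i' : 𝒮'.toQCAlg.spec ⟶ PC') (hi' : RelCone.IsConeImm 𝒮' hz' pC' chartC' i') :
    Set.range i'.base ⊆ ((RelProj.domQ uh pC' chartC' : PC'.Opens) : Set PC') ∧
      ∀ i'' : 𝒮'.toQCAlg.spec ⟶ ((RelProj.domQ uh pC' chartC' : PC'.Opens) : Scheme.{u}),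
        i'' ≫ (RelProj.domQ uh pC' chartC').ι = i' → i'' ≫ Φh = Φc ≫ i := by
  have huz : ∀ (U : Y.Opens) (U' : Y'.Opens) (hle : U' ≤ q ⁻¹ᵁ U),
      (uh.appLE U U' hle).hom (RelCone.restrictTop 𝒮h z U) = RelCone.restrictTop 𝒮h' z' U' := by
    intro U U' hle
    have h1 := congrArg (fun f => f.hom z) (uh.toQHom.map_appLE (U := ⊤) (le_top : U ≤ ⊤) hle)
    refine h1.trans ?_
    show (𝒮h'.presheaf.map _).hom ((uh.app ⊤).hom z) = _
    rw [huhz]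
    show ((𝒮h'.presheaf.map (homOfLE le_top).op) ≫ (𝒮h'.presheaf.map _)).hom z' = _
    rw [← Functor.map_comp, ← op_comp, homOfLE_comp]
  have huι : ∀ (U : Y.Opens) (U' : Y'.Opens) (hle : U' ≤ q ⁻¹ᵁ U) (a : 𝒮.presheaf.obj (op U)),
      (uh.appLE U U' hle).hom ((ι.hom.app (op U)).hom a) = (ι'.hom.app (op U')).hom ((u.appLE U U' hle).hom a) := by
    intro U U' hle a
    show (ι.hom.app (op U) ≫ uh.app U ≫ 𝒮h'.presheaf.map (homOfLE hle).op).hom a =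
      ((u.app U ≫ 𝒮'.presheaf.map (homOfLE hle).op) ≫ ι'.hom.app (op U')).hom a
    rw [← Category.assoc, huh, Category.assoc, Category.assoc, ι'.hom.naturality]
  have hev : ∀ (U : Y.Opens) (hU : IsAffineOpen U) (U' : Y'.Opens) (hU' : IsAffineOpen U') (hle : U' ≤ q ⁻¹ᵁ U)
      (b : 𝒮h.presheaf.obj (op U)),
      hz'.evalOne U' hU' ((uh.appLE U U' hle).hom b) = (u.appLE U U' hle).hom (hz.evalOne U hU b) := by
    intro U hU U' hU' hle b
    obtain ⟨p, rfl⟩ := (hz.polyEquiv U hU).surjective b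
    induction p using Polynomial.induction_on' with
    | add p p' hp hp' => simp only [map_add, hp, hp']
    | monomial n a =>
      rw [hz.polyEquiv_apply, Polynomial.eval₂_monomial, map_mul, map_pow, huz, huι, map_mul, map_pow,
        hz'.evalOne_z U' hU', hz'.evalOne_ι U' hU', map_mul, map_pow, hz.evalOne_z U hU, hz.evalOne_ι U hU]
      simp only [map_mul, map_one, one_pow, mul_one]
  have key : ∀ (U : Y.Opens) (hU : IsAffineOpen U) (U' : Y'.Opens) (hU' : IsAffineOpen U') (hle : U' ≤ q ⁻¹ᵁ U),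
      ∃ k, 𝒮'.toQCAlg.ι U' hU' ≫ i' =
          k ≫ RelProj.awayEmb uh pC' chartC' U hU U' hU' hle one_pos (RelCone.restrictTop 𝒮h z U) (hz.deg_z U hU) ∧
        k ≫ Spec.map (CommRingCat.ofHom (Away.map (uh.gradedAt U hU U' hU' hle) (RelCone.restrictTop 𝒮h z U))) =
          Spec.map (u.appLE U U' hle) ≫ Spec.map (CommRingCat.ofHom (hz.awayZToBase U hU)) := by
    intro U hU U' hU' hle
    have gen : ∀ (e : 𝒮h'.presheaf.obj (op U')) (he : e ∈ 𝒮h'.deg U' hU' 1), RelCone.restrictTop 𝒮h' z' U' = e →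
        ∃ k : Away (𝒮h'.deg U' hU') e →+* 𝒮'.presheaf.obj (op U'),
          (∀ n b hb, k (Away.mk _ he n b hb) = hz'.evalOne U' hU' b) ∧
          𝒮'.toQCAlg.ι U' hU' ≫ i' =
            Spec.map (CommRingCat.ofHom k) ≫ Proj.awayι (𝒮h'.deg U' hU') e he one_pos ≫ RelProj.emb pC' chartC' U' hU' := by
      intro e he hee
      subst hee
      exact ⟨hz'.awayZToBase U' hU', fun n b hb => hz'.awayZToBase_of_val U' hU' _ b n (Away.val_mk _ _ _ _ _),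
        hi' U' hU'⟩
    obtain ⟨k, hk, hk'⟩ := gen _ ((uh.gradedAt U hU U' hU' hle).map_mem (hz.deg_z U hU)) (huz U U' hle).symm
    refine ⟨Spec.map (CommRingCat.ofHom k), hk', ?_⟩
    rw [← Spec.map_comp, ← Spec.map_comp]
    congr 1
    refine CommRingCat.hom_ext (RingHom.ext fun x => ?_)
    obtain ⟨n, b, hb, rfl⟩ := x.mk_surjective _ (hz.deg_z U hU)
    show k (Away.map (uh.gradedAt U hU U' hU' hle) _ _) = (u.appLE U U' hle).hom (hz.awayZToBase U hU _)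
    rw [Away.map_mk, hk, hz.awayZToBase_of_val U hU _ b n (Away.val_mk _ _ _ _ _)]
    exact hev U hU U' hU' hle b
  refine ⟨?_, fun i'' hi'' => ?_⟩
  · rintro _ ⟨x, rfl⟩
    obtain ⟨U, hU, U', hU', hle, w, rfl⟩ := RelConeLib.exists_chart_pair q 𝒮'.toQCAlg x
    obtain ⟨k, hk, -⟩ := key U hU U' hU' hle
    obtain ⟨y, hy⟩ := RelProj.range_awayEmb_subset_domQ uh pC' chartC' U hU U' hU' hle one_pos _ (hz.deg_z U hU)
      ⟨k w, rfl⟩
    show i' (𝒮'.toQCAlg.ι U' hU' w) ∈ RelProj.domQ uh pC' chartC'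
    rw [← Scheme.Hom.comp_apply, hk, Scheme.Hom.comp_apply]
    exact hy ▸ y.2
  · refine RelConeLib.ext_of_charts _ _ fun x => ?_
    obtain ⟨U, hU, U', hU', hle, w, rfl⟩ := RelConeLib.exists_chart_pair q 𝒮'.toQCAlg x
    refine ⟨_, 𝒮'.toQCAlg.ι U' hU', inferInstance, ⟨w, rfl⟩, ?_⟩
    obtain ⟨k, hk, hk'⟩ := key U hU U' hU' hle
    have h1 : 𝒮'.toQCAlg.ι U' hU' ≫ i'' = k ≫ IsOpenImmersion.lift (RelProj.domQ uh pC' chartC').ι _
        (RelProj.range_awayEmb_subset_domQ uh pC' chartC' U hU U' hU' hle one_pos _ (hz.deg_z U hU)) := by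
      rw [← cancel_mono (RelProj.domQ uh pC' chartC').ι, Category.assoc, Category.assoc, hi'', IsOpenImmersion.lift_fac]
      exact hk
    rw [reassoc_of% h1, hΦh U hU U' hU' hle 1 one_pos _ (hz.deg_z U hU), reassoc_of% hk',
      reassoc_of% (hΦc U hU U' hU' hle), hi U hU]

end Groth.Agent.S12157
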