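import Groth.Statements.S12158
import Mathlib
import Mathlib
import Groth.Agent.RelConeLib.Spec
import Groth.Agent.RelConeLib.Dom
-- import your own Groth.Agent.* helpers here

set_option autoImplicit false
universe u
open CategoryTheory CategoryTheory.Limits AlgebraicGeometry TopologicalSpace Opposite
open scoped HomogeneousIdeal
noncomputable section
open EGA2 HomogeneousLocalization

namespace Groth.Agent.S12158

/-- Let q : Y' → Y be a morphism, φ : 𝒮 → q_*𝒮' a graded q-morphism of quasi-coherent positively graded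
algebras with 𝒮_0 = O_Y, 𝒮'_0 = O_{Y'}, φ̂ : 𝒮[z] → q_*𝒮'[z] its extension with φ̂(z) = z, Ĉ =
Proj(𝒮[z]), Ĉ' = Proj(𝒮'[z]) the projective cones with pointed cones Ê, Ê', and Φ̂ = Proj(φ̂) :
G(φ̂) → Ĉ; let Proj(φ) : G(φ) → X = Proj(𝒮) be the morphism induced by φ on G(φ) ⊆ X' = Proj(𝒮'),
and j : X → Ĉ, j' : X' → Ĉ' the canonical closed immersions at infinity (Proj of the graded
retractions 𝒮[z] → 𝒮, 𝒮'[z] → 𝒮' killing z). Then j'(G(φ)) ⊆ G(φ̂) and the square formed by Proj(φ),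
j', j and Φ̂ commutes. -/
theorem result {Y Y' PC PC' : Scheme.{u}} (q : Y' ⟶ Y)
    (𝒮 : RelProj.QCGrAlg Y) (𝒮' : RelProj.QCGrAlg Y') (h0 : RelCone.StrZeroBij 𝒮) (h0' : RelCone.StrZeroBij 𝒮')
    (u : RelProj.QGrHom q 𝒮 𝒮')
    (𝒮h : RelProj.QCGrAlg Y) (ι : 𝒮.toQCAlg ⟶ 𝒮h.toQCAlg) (z : 𝒮h.presheaf.obj (op ⊤))
    (hz : RelCone.IsPolyOver 𝒮 𝒮h ι z)
    (pC : PC ⟶ Y) (chartC : ∀ (U : Y.Opens) (hU : IsAffineOpen U), (((pC ⁻¹ᵁ U : PC.Opens) : Scheme.{u}) ≅ Proj (𝒮h.deg U hU)))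
    (hC : RelProj.IsRelProj 𝒮h pC chartC)
    (𝒮h' : RelProj.QCGrAlg Y') (ι' : 𝒮'.toQCAlg ⟶ 𝒮h'.toQCAlg) (z' : 𝒮h'.presheaf.obj (op ⊤))
    (hz' : RelCone.IsPolyOver 𝒮' 𝒮h' ι' z')
    (pC' : PC' ⟶ Y') (chartC' : ∀ (U : Y'.Opens) (hU : IsAffineOpen U), (((pC' ⁻¹ᵁ U : PC'.Opens) : Scheme.{u}) ≅ Proj (𝒮h'.deg U hU)))
    (hC' : RelProj.IsRelProj 𝒮h' pC' chartC')
    (uh : RelProj.QGrHom q 𝒮h 𝒮h')
    (huh : ∀ U : Y.Opens, ι.hom.app (op U) ≫ uh.app U = u.app U ≫ ι'.hom.app (op (q ⁻¹ᵁ U)))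
    (huhz : (uh.app ⊤).hom z = RelCone.restrictTop 𝒮h' z' (q ⁻¹ᵁ ⊤))
    (Φh : ((RelProj.domQ uh pC' chartC' : PC'.Opens) : Scheme.{u}) ⟶ PC)
    (hΦh : RelProj.IsProjQMapOn uh pC chartC pC' chartC' (RelProj.domQ uh pC' chartC') Φh)
    {P P' : Scheme.{u}} (p : P ⟶ Y) (chart : ∀ (U : Y.Opens) (hU : IsAffineOpen U), (((p ⁻¹ᵁ U : P.Opens) : Scheme.{u}) ≅ Proj (𝒮.deg U hU)))
    (hP : RelProj.IsRelProj 𝒮 p chart)
    (p' : P' ⟶ Y') (chart' : ∀ (U : Y'.Opens) (hU : IsAffineOpen U), (((p' ⁻¹ᵁ U : P'.Opens) : Scheme.{u}) ≅ Proj (𝒮'.deg U hU)))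
    (hP' : RelProj.IsRelProj 𝒮' p' chart')
    (Φ : ((RelProj.domQ u p' chart' : P'.Opens) : Scheme.{u}) ⟶ P)
    (hΦ : RelProj.IsProjQMapOn u p chart p' chart' (RelProj.domQ u p' chart') Φ)
    (θ : 𝒮h.toQCAlg ⟶ 𝒮.toQCAlg) (hθ : RelProj.IsGradedHom θ) (hθι : ι ≫ θ = 𝟙 _)
    (hθz : (θ.hom.app (op ⊤)).hom z = 0)
    (jX : P ⟶ PC) (hjX : RelProj.IsProjQMap (RelProj.QGrHom.ofHom θ hθ) pC chartC p chart jX)
    (θ' : 𝒮h'.toQCAlg ⟶ 𝒮'.toQCAlg) (hθ' : RelProj.IsGradedHom θ') (hθι' : ι' ≫ θ' = 𝟙 _)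
    (hθz' : (θ'.hom.app (op ⊤)).hom z' = 0)
    (jX' : P' ⟶ PC') (hjX' : RelProj.IsProjQMap (RelProj.QGrHom.ofHom θ' hθ') pC' chartC' p' chart' jX')
    (T : Scheme.{u}) (d : T ⟶ ((RelProj.domQ u p' chart' : P'.Opens) : Scheme.{u}))
    (e : T ⟶ ((RelProj.domQ uh pC' chartC' : PC'.Opens) : Scheme.{u}))
    (hde : d ≫ (RelProj.domQ u p' chart').ι ≫ jX' = e ≫ (RelProj.domQ uh pC' chartC').ι) :
    jX'.base '' ((RelProj.domQ u p' chart' : P'.Opens) : Set P') ⊆ ((RelProj.domQ uh pC' chartC' : PC'.Opens) : Set PC') ∧ e ≫ Φh = d ≫ Φ ≫ jX := by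
  have hofU : ∀ {S : Scheme.{u}} {𝒜 ℬ : RelProj.QCGrAlg S} (τ : 𝒜.toQCAlg ⟶ ℬ.toQCAlg) (hτ : RelProj.IsGradedHom τ)
      (U : S.Opens) (hU : IsAffineOpen U) (b : 𝒜.presheaf.obj (op U)),
      (RelProj.QGrHom.ofHom τ hτ).gradedAt U hU U hU (le_refl U) b = (τ.hom.app (op U)).hom b := by
    intro S 𝒜 ℬ τ hτ U hU b
    show (τ.hom.app (op U) ≫ ℬ.presheaf.map (𝟙 (op U))).hom b = _
    rw [CategoryTheory.Functor.map_id, Category.comp_id]
  have hret : ∀ (U : Y.Opens) (a : 𝒮.presheaf.obj (op U)), (θ.hom.app (op U)).hom ((ι.hom.app (op U)).hom a) = a :=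
    fun U a => congrArg (fun f => (f.hom.app (op U)).hom a) hθι
  have hret' : ∀ (U : Y'.Opens) (a : 𝒮'.presheaf.obj (op U)), (θ'.hom.app (op U)).hom ((ι'.hom.app (op U)).hom a) = a :=
    fun U a => congrArg (fun f => (f.hom.app (op U)).hom a) hθι'
  have hθ0 : ∀ U : Y.Opens, (θ.hom.app (op U)).hom (RelCone.restrictTop 𝒮h z U) = 0 := by
    intro U
    show (𝒮h.presheaf.map (homOfLE le_top).op ≫ θ.hom.app (op U)).hom z = 0
    rw [θ.hom.naturality]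
    show (𝒮.presheaf.map _).hom ((θ.hom.app (op ⊤)).hom z) = 0
    rw [hθz, map_zero]
  have hθ0' : ∀ U : Y'.Opens, (θ'.hom.app (op U)).hom (RelCone.restrictTop 𝒮h' z' U) = 0 := by
    intro U
    show (𝒮h'.presheaf.map (homOfLE le_top).op ≫ θ'.hom.app (op U)).hom z' = 0
    rw [θ'.hom.naturality]
    show (𝒮'.presheaf.map _).hom ((θ'.hom.app (op ⊤)).hom z') = 0
    rw [hθz', map_zero]
  have huz : ∀ (U : Y.Opens) (U' : Y'.Opens) (hle : U' ≤ q ⁻¹ᵁ U),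
      (uh.appLE U U' hle).hom (RelCone.restrictTop 𝒮h z U) = RelCone.restrictTop 𝒮h' z' U' := by
    intro U U' hle
    have h1 := congrArg (fun f => f.hom z) (uh.toQHom.map_appLE (U := ⊤) (le_top : U ≤ ⊤) hle)
    refine h1.trans ?_
    show (𝒮h'.presheaf.map _).hom ((uh.app ⊤).hom z) = _
    rw [huhz]
    show ((𝒮h'.presheaf.map (homOfLE le_top).op) ≫ (𝒮h'.presheaf.map _)).hom z' = _
    rw [← Functor.map_comp, ← op_comp, homOfLE_comp]
  have huι : ∀ (U : Y.Opens) (U' : Y'.Opens) (hle : U' ≤ q ⁻¹ᵁ U) (a : 𝒮.presheaf.obj (op U)),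
      (uh.appLE U U' hle).hom ((ι.hom.app (op U)).hom a) = (ι'.hom.app (op U')).hom ((u.appLE U U' hle).hom a) := by
    intro U U' hle a
    show (ι.hom.app (op U) ≫ uh.app U ≫ 𝒮h'.presheaf.map (homOfLE hle).op).hom a =
      ((u.app U ≫ 𝒮'.presheaf.map (homOfLE hle).op) ≫ ι'.hom.app (op U')).hom a
    rw [← Category.assoc, huh, Category.assoc, Category.assoc, ι'.hom.naturality]
  have hth : ∀ (U : Y.Opens) (hU : IsAffineOpen U) (U' : Y'.Opens) (hle : U' ≤ q ⁻¹ᵁ U) (b : 𝒮h.presheaf.obj (op U)),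
      (θ'.hom.app (op U')).hom ((uh.appLE U U' hle).hom b) = (u.appLE U U' hle).hom ((θ.hom.app (op U)).hom b) := by
    intro U hU U' hle b
    obtain ⟨p, rfl⟩ := (hz.polyEquiv U hU).surjective b
    induction p using Polynomial.induction_on' with
    | add p p' hp hp' => simp only [map_add, hp, hp']
    | monomial n a =>
      rw [hz.polyEquiv_apply, Polynomial.eval₂_monomial, map_mul, map_pow, huz, huι, map_mul, map_pow,
        hθ0', hret', map_mul, map_pow, hθ0, hret, map_mul, map_pow, map_zero]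
  have key : ∀ (U : Y.Opens) (hU : IsAffineOpen U) (U' : Y'.Opens) (hU' : IsAffineOpen U') (hle : U' ≤ q ⁻¹ᵁ U)
      (n : ℕ) (hn : 0 < n) (f : 𝒮.presheaf.obj (op U)) (hf : f ∈ 𝒮.deg U hU n),
      ∃ c : _ ⟶ (RelProj.domQ uh pC' chartC' : Scheme.{u}),
        c ≫ (RelProj.domQ uh pC' chartC').ι = RelProj.awayEmb u p' chart' U hU U' hU' hle hn f hf ≫ jX' ∧
        c ≫ Φh = Spec.map (CommRingCat.ofHom (Away.map (u.gradedAt U hU U' hU' hle) f)) ≫
          Proj.awayι (𝒮.deg U hU) f hf hn ≫ RelProj.emb p chart U hU ≫ jX := by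
    intro U hU U' hU' hle n hn f hf
    let fh := (ι.hom.app (op U)).hom f
    have hfh : fh ∈ 𝒮h.deg U hU n := hz.graded U hU n f hf
    have gen1 : ∀ (g : 𝒮.presheaf.obj (op U)) (hg : g ∈ 𝒮.deg U hU n),
        (RelProj.QGrHom.ofHom θ hθ).gradedAt U hU U hU (le_refl U) fh = g →
        ∃ m : Away (𝒮h.deg U hU) fh →+* Away (𝒮.deg U hU) g,
          (∀ k b hb, (m (Away.mk _ hfh k b hb)).val = Localization.mk ((θ.hom.app (op U)).hom b) (⟨g ^ k, k, rfl⟩ : Submonoid.powers g)) ∧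
          Proj.awayι (𝒮.deg U hU) g hg hn ≫ RelProj.emb p chart U hU ≫ jX =
            Spec.map (CommRingCat.ofHom m) ≫ Proj.awayι (𝒮h.deg U hU) fh hfh hn ≫ RelProj.emb pC chartC U hU := by
      intro g hg hgg
      subst hgg
      refine ⟨Away.map _ _, fun k b hb => ?_, (Category.assoc _ _ _).symm.trans (hjX.2 U hU U hU (le_refl U) n hn fh hfh)⟩
      rw [Away.map_mk, Away.val_mk]
      congr 1
      exact hofU θ hθ U hU b
    have gen2 : ∀ (e : 𝒮h'.presheaf.obj (op U')) (he : e ∈ 𝒮h'.deg U' hU' n),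
        uh.gradedAt U hU U' hU' hle fh = e →
        ∃ m : Away (𝒮h.deg U hU) fh →+* Away (𝒮h'.deg U' hU') e,
          (∀ k b hb, ∃ hb', m (Away.mk _ hfh k b hb) = Away.mk _ he k ((uh.appLE U U' hle).hom b) hb') ∧
          ∃ c : _ ⟶ (RelProj.domQ uh pC' chartC' : Scheme.{u}),
            c ≫ (RelProj.domQ uh pC' chartC').ι = Proj.awayι (𝒮h'.deg U' hU') e he hn ≫ RelProj.emb pC' chartC' U' hU' ∧
            c ≫ Φh = Spec.map (CommRingCat.ofHom m) ≫ Proj.awayι (𝒮h.deg U hU) fh hfh hn ≫ RelProj.emb pC chartC U hU := by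
      intro e he hee
      subst hee
      exact ⟨Away.map _ _, fun k b hb => ⟨_, Away.map_mk _ _ hfh k b hb⟩, _, IsOpenImmersion.lift_fac _ _ _,
        hΦh U hU U' hU' hle n hn fh hfh (RelProj.range_awayEmb_subset_domQ uh pC' chartC' U hU U' hU' hle hn fh hfh)⟩
    let e := (ι'.hom.app (op U')).hom ((u.appLE U U' hle).hom f)
    have he : e ∈ 𝒮h'.deg U' hU' n := hz'.graded U' hU' n _ ((u.gradedAt U hU U' hU' hle).map_mem hf)
    have gen3 : ∀ (g : 𝒮'.presheaf.obj (op U')) (hg : g ∈ 𝒮'.deg U' hU' n),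
        (RelProj.QGrHom.ofHom θ' hθ').gradedAt U' hU' U' hU' (le_refl U') e = g →
        ∃ m : Away (𝒮h'.deg U' hU') e →+* Away (𝒮'.deg U' hU') g,
          (∀ k b hb, (m (Away.mk _ he k b hb)).val = Localization.mk ((θ'.hom.app (op U')).hom b) (⟨g ^ k, k, rfl⟩ : Submonoid.powers g)) ∧
          (Proj.awayι (𝒮'.deg U' hU') g hg hn ≫ RelProj.emb p' chart' U' hU') ≫ jX' =
            Spec.map (CommRingCat.ofHom m) ≫ Proj.awayι (𝒮h'.deg U' hU') e he hn ≫ RelProj.emb pC' chartC' U' hU' := by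
      intro g hg hgg
      subst hgg
      refine ⟨Away.map _ _, fun k b hb => ?_, hjX'.2 U' hU' U' hU' (le_refl U') n hn e he⟩
      rw [Away.map_mk, Away.val_mk]
      congr 1
      exact hofU θ' hθ' U' hU' b
    obtain ⟨m1, hm1, hm1'⟩ := gen1 f hf ((hofU θ hθ U hU fh).trans (hret U f))
    obtain ⟨m2, hm2, c, hc, hc'⟩ := gen2 e he (huι U U' hle f)
    obtain ⟨m3, hm3, hm3'⟩ := gen3 (u.gradedAt U hU U' hU' hle f) ((u.gradedAt U hU U' hU' hle).map_mem hf)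
      ((hofU θ' hθ' U' hU' e).trans (hret' U' _))
    refine ⟨Spec.map (CommRingCat.ofHom m3) ≫ c, ?_, ?_⟩
    · rw [Category.assoc, hc]
      exact hm3'.symm
    · rw [Category.assoc, hc', hm1', ← Spec.map_comp_assoc, ← Spec.map_comp_assoc]
      congr 2
      refine CommRingCat.hom_ext (RingHom.ext fun x => val_injective _ ?_)
      obtain ⟨k, b, hb, rfl⟩ := x.mk_surjective _ hfh
      show (m3 (m2 _)).val = (Away.map (u.gradedAt U hU U' hU' hle) f (m1 _)).val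
      obtain ⟨hb', h2⟩ := hm2 k b hb
      have h1 : m1 (Away.mk _ hfh k b hb) = Away.mk _ hf k ((θ.hom.app (op U)).hom b) (hθ U hU _ b hb) :=
        val_injective _ ((hm1 k b hb).trans (Away.val_mk _ _ _ _ _).symm)
      rw [h2, hm3, h1, Away.map_mk, Away.val_mk, hth U hU U' hle b]
      rfl
  have hcov : ∀ x : (RelProj.domQ u p' chart' : Scheme.{u}), ∃ (U : Y.Opens) (hU : IsAffineOpen U) (U' : Y'.Opens)
      (hU' : IsAffineOpen U') (hle : U' ≤ q ⁻¹ᵁ U) (n : ℕ) (hn : 0 < n) (f : 𝒮.presheaf.obj (op U))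
      (hf : f ∈ 𝒮.deg U hU n) (w : _), RelProj.awayEmb u p' chart' U hU U' hU' hle hn f hf w = x.1 := by
    intro x
    obtain ⟨⟨⟨⟨U, hU⟩, ⟨U', hU'⟩⟩, hle⟩, v, hv, hvx⟩ := Opens.mem_iSup.mp x.2
    obtain ⟨i, hi⟩ := (RelConeLib.mem_domOpen_iff _ v).mp hv
    obtain ⟨w, hw⟩ := (Proj.opensRange_awayι _ _ ((u.gradedAt U hU U' hU' hle).map_mem i.mem) i.pos).ge hi
    refine ⟨U, hU, U', hU', hle, i.deg, i.pos, i.el, i.mem, w, ?_⟩
    exact (congrArg (RelProj.emb p' chart' U' hU') hw).trans hvx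
  have hsub : jX'.base '' ((RelProj.domQ u p' chart' : P'.Opens) : Set P') ⊆
      ((RelProj.domQ uh pC' chartC' : PC'.Opens) : Set PC') := by
    rintro _ ⟨x, hx, rfl⟩
    obtain ⟨U, hU, U', hU', hle, n, hn, f, hf, w, hw⟩ := hcov ⟨x, hx⟩
    obtain ⟨c, hc, -⟩ := key U hU U' hU' hle n hn f hf
    show jX' x ∈ RelProj.domQ uh pC' chartC'
    rw [show x = RelProj.awayEmb u p' chart' U hU U' hU' hle hn f hf w from hw.symm, ← Scheme.Hom.comp_apply, ← hc]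
    exact (c w).2
  refine ⟨hsub, ?_⟩
  let e0 := IsOpenImmersion.lift (RelProj.domQ uh pC' chartC').ι ((RelProj.domQ u p' chart').ι ≫ jX') (by
    rw [Scheme.Opens.range_ι]
    rintro _ ⟨x, rfl⟩
    exact hsub ⟨x.1, x.2, rfl⟩)
  have he0 : e = d ≫ e0 := by
    rw [← cancel_mono (RelProj.domQ uh pC' chartC').ι, Category.assoc, IsOpenImmersion.lift_fac]
    exact hde.symm
  rw [he0, Category.assoc]
  congr 1
  refine RelConeLib.ext_of_charts _ _ fun x => ?_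
  obtain ⟨U, hU, U', hU', hle, n, hn, f, hf, w, hw⟩ := hcov x
  let j := IsOpenImmersion.lift (RelProj.domQ u p' chart').ι _
    (RelProj.range_awayEmb_subset_domQ u p' chart' U hU U' hU' hle hn f hf)
  have hj : j ≫ (RelProj.domQ u p' chart').ι = RelProj.awayEmb u p' chart' U hU U' hU' hle hn f hf :=
    IsOpenImmersion.lift_fac _ _ _
  haveI : IsOpenImmersion (RelProj.awayEmb u p' chart' U hU U' hU' hle hn f hf) := by
    rw [RelProj.awayEmb]
    infer_instance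
  haveI : IsOpenImmersion j := by
    haveI : IsOpenImmersion (j ≫ (RelProj.domQ u p' chart').ι) := by rw [hj]; infer_instance
    exact IsOpenImmersion.of_comp j (RelProj.domQ u p' chart').ι
  refine ⟨_, j, inferInstance, ⟨w, (RelProj.domQ u p' chart').ι.isOpenEmbedding.injective ?_⟩, ?_⟩
  · rw [← Scheme.Hom.comp_apply, hj, hw]
    rfl
  obtain ⟨c, hc, hc'⟩ := key U hU U' hU' hle n hn f hf
  have h1 : j ≫ e0 = c := by
    rw [← cancel_mono (RelProj.domQ uh pC' chartC').ι, hc, Category.assoc, IsOpenImmersion.lift_fac, reassoc_of% hj]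
  rw [reassoc_of% h1, hc', reassoc_of% (hΦ U hU U' hU' hle n hn f hf
    (RelProj.range_awayEmb_subset_domQ u p' chart' U hU U' hU' hle hn f hf))]

end Groth.Agent.S12158
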