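import Groth.Statements.S12159
import Mathlib
import Groth.Agent.EGA2SymLib.RL
import Groth.Agent.S12143
import Mathlib.AlgebraicGeometry.Morphisms.QuasiCompact
-- import your own Groth.Agent.* helpers here

set_option autoImplicit false
universe u
open CategoryTheory CategoryTheory.Limits AlgebraicGeometry TopologicalSpace Opposite
open scoped HomogeneousIdeal
noncomputable section
open EGA2

namespace Groth.Agent.S12159

/-- Let Y be a quasi-compact scheme, q : X → Y a quasi-compact morphism, L an invertible O_X-module with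
𝒮L = ⊕ L^{⊗n} (whose Proj is X), 𝒮 = colim 𝒮^i a filtered colimit of quasi-coherent positively
graded O_Y-algebras along graded homomorphisms φ_i : 𝒮^i → 𝒮 (colimit taken on sections over affine
opens), ψ♭ = u : 𝒮 → q_*𝒮L a graded q-morphism and ψ_i♭ = u ∘ φ_i. Then r_{L,ψ} is everywhere
defined if and only if some r_{L,ψ_i} is everywhere defined, and in that case r_{L,ψ_j} is
everywhere defined for all j ≥ i. -/
theorem result {Y X P PL : Scheme.{u}} (q : X ⟶ Y)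
    (L : X.Modules) (hL : PicF.IsInvertible L) (hLq : Coh.IsQCoh L)
    (𝒮 : RelProj.QCGrAlg Y) (𝒮L : RelProj.QCGrAlg X) (j : L ⟶ 𝒮L.toModule) (hj : RelProj.IsGrSymAlg L 𝒮L j)
    (u : RelProj.QGrHom q 𝒮 𝒮L)
    (p : P ⟶ Y) (chart : ∀ (U : Y.Opens) (hU : IsAffineOpen U), (((p ⁻¹ᵁ U : P.Opens) : Scheme.{u}) ≅ Proj (𝒮.deg U hU)))
    (hP : RelProj.IsRelProj 𝒮 p chart)
    (pL : PL ⟶ X) (chartL : ∀ (U : X.Opens) (hU : IsAffineOpen U), (((pL ⁻¹ᵁ U : PL.Opens) : Scheme.{u}) ≅ Proj (𝒮L.deg U hU)))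
    (hPL : RelProj.IsRelProj 𝒮L pL chartL)
    [CompactSpace Y] [QuasiCompact q]
    (Λ : Type u) [Preorder Λ] [IsDirected Λ (· ≤ ·)] [Nonempty Λ]
    (𝒮i : Λ → RelProj.QCGrAlg Y) (φ : ∀ i, (𝒮i i).toQCAlg ⟶ 𝒮.toQCAlg) (hφ : ∀ i, RelProj.IsGradedHom (φ i))
    (t : ∀ i j, i ≤ j → ((𝒮i i).toQCAlg ⟶ (𝒮i j).toQCAlg)) (ht : ∀ i j (h : i ≤ j), RelProj.IsGradedHom (t i j h))
    (hφt : ∀ i j (h : i ≤ j), t i j h ≫ φ j = φ i)
    (hsurj : ∀ (U : Y.Opens), IsAffineOpen U → ∀ x : 𝒮.presheaf.obj (op U),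
      ∃ (i : Λ) (y : (𝒮i i).presheaf.obj (op U)), ((φ i).hom.app (op U)).hom y = x)
    (hker : ∀ (U : Y.Opens), IsAffineOpen U → ∀ (i : Λ) (y : (𝒮i i).presheaf.obj (op U)),
      ((φ i).hom.app (op U)).hom y = 0 → ∃ (j : Λ) (h : i ≤ j), ((t i j h).hom.app (op U)).hom y = 0)
    (ui : ∀ i, RelProj.QGrHom q (𝒮i i) 𝒮L) (hui : ∀ i (U : Y.Opens), (ui i).app U = (φ i).hom.app (op U) ≫ u.app U) :
    (RelProj.domQ u pL chartL = ⊤ ↔ ∃ i, RelProj.domQ (ui i) pL chartL = ⊤) ∧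
      ∀ i, RelProj.domQ (ui i) pL chartL = ⊤ → ∀ j, i ≤ j → RelProj.domQ (ui j) pL chartL = ⊤ := by
  classical
  haveI : IsIso pL := Groth.Agent.S12143.result L hL hLq 𝒮L j hj pL chartL hPL
  haveI : CompactSpace X := QuasiCompact.compactSpace_of_compactSpace q
  haveI : CompactSpace PL := pL.homeomorph.symm.compactSpace
  have hle : ∀ i, RelProj.domQ (ui i) pL chartL ≤ RelProj.domQ u pL chartL :=
    fun i => EGA2SymLib.domQ_comp_le (φ i) (hφ i) (ui i) (hui i)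
  have hmono : ∀ i j, i ≤ j → RelProj.domQ (ui i) pL chartL ≤ RelProj.domQ (ui j) pL chartL :=
    fun i j h => EGA2SymLib.domQ_comp_le (t i j h) (ht i j h) (ui i) fun U => by
      rw [hui, hui, ← hφt i j h]; rfl
  have hcov : RelProj.domQ u pL chartL ≤ ⨆ i, RelProj.domQ (ui i) pL chartL := by
    intro x hx
    obtain ⟨⟨⟨⟨U, hU⟩, ⟨V, hV⟩⟩, hle'⟩, z, hz, rfl⟩ := Opens.mem_iSup.mp hx
    obtain ⟨k, hk⟩ := (RelConeLib.mem_domOpen_iff _ z).mp hz
    obtain ⟨i, y, hy⟩ := hsurj U hU k.el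
    have hy' : ((φ i).hom.app (op U)).hom (DirectSum.decompose ((𝒮i i).deg U hU) y k.deg) = k.el := by
      have e := GradedRingHom.map_directSumDecompose (𝒜 := (𝒮i i).deg U hU) (ℬ := 𝒮.deg U hU)
        (RelProj.gradedHomAt (φ i) (hφ i) U hU) (x := y) (i := k.deg)
      refine e.trans ?_
      show (DirectSum.decompose (𝒮.deg U hU) (((φ i).hom.app (op U)).hom y) k.deg : 𝒮.presheaf.obj (op U)) = _
      rw [hy, DirectSum.decompose_of_mem_same (𝒮.deg U hU) k.mem]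
    refine Opens.mem_iSup.mpr ⟨i, Opens.mem_iSup.mpr ⟨⟨(⟨U, hU⟩, ⟨V, hV⟩), hle'⟩, z, ?_, rfl⟩⟩
    refine (RelConeLib.mem_domOpen_iff _ z).mpr
      ⟨⟨k.deg, DirectSum.decompose ((𝒮i i).deg U hU) y k.deg, k.pos, SetLike.coe_mem _⟩, ?_⟩
    show z ∈ Proj.basicOpen _ _
    rw [EGA2SymLib.gradedAt_comp (φ i) (ui i) (hui i) U hU V hV hle', hy']
    exact hk
  refine ⟨⟨fun h => ?_, fun ⟨i, hi⟩ => top_le_iff.mp (hi ▸ hle i)⟩,
    fun i hi j hij => top_le_iff.mp (hi ▸ hmono i j hij)⟩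
  obtain ⟨i, hi⟩ := (isCompact_univ (X := PL)).elim_directed_cover
    (fun i => (RelProj.domQ (ui i) pL chartL : Set PL)) (fun i => (RelProj.domQ (ui i) pL chartL).2)
    (fun x _ => Set.mem_iUnion.mpr (Opens.mem_iSup.mp (hcov (h.ge trivial))))
    (fun a b => by
      obtain ⟨c, hac, hbc⟩ := exists_ge_ge a b
      exact ⟨c, hmono a c hac, hmono b c hbc⟩)
  exact ⟨i, top_le_iff.mp fun x _ => hi trivial⟩

end Groth.Agent.S12159
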