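import Groth.Statements.S12161
import Mathlib
import Mathlib
import Groth.Agent.EGA2SymLib.Colim
import Groth.Agent.S12153
import Groth.Agent.S12150
import Groth.Agent.S12143
-- import your own Groth.Agent.* helpers here

set_option autoImplicit false
universe u
open CategoryTheory CategoryTheory.Limits AlgebraicGeometry TopologicalSpace Opposite
open scoped HomogeneousIdeal
noncomputable section
open EGA2 HomogeneousLocalization

namespace Groth.Agent.S12161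

/-- Let Y be a quasi-compact scheme, q : X → Y a quasi-compact morphism, L an invertible O_X-module with
𝒮L = ⊕ L^{⊗n} (whose Proj is X), 𝒮 = colim 𝒮^i a filtered colimit of quasi-coherent positively
graded O_Y-algebras along graded homomorphisms φ_i : 𝒮^i → 𝒮 (colimit taken on sections over affine
opens), ψ♭ = u : 𝒮 → q_*𝒮L a graded q-morphism and ψ_i♭ = u ∘ φ_i, with q of finite type; let r =
r_{L,ψ} : G(ψ) → Proj(𝒮) and r_i = r_{L,ψ_i} : G(ψ_i) → Proj(𝒮^i). Then r is everywhere defined and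
an immersion if and only if some r_i is, and then so is r_j for all j ≥ i. -/
theorem result {Y X P PL : Scheme.{u}} (q : X ⟶ Y)
    (L : X.Modules) (hL : PicF.IsInvertible L) (hLq : Coh.IsQCoh L)
    (𝒮 : RelProj.QCGrAlg Y) (𝒮L : RelProj.QCGrAlg X) (j : L ⟶ 𝒮L.toModule) (hj : RelProj.IsGrSymAlg L 𝒮L j)
    (u : RelProj.QGrHom q 𝒮 𝒮L)
    (p : P ⟶ Y) (chart : ∀ (U : Y.Opens) (hU : IsAffineOpen U), (((p ⁻¹ᵁ U : P.Opens) : Scheme.{u}) ≅ Proj (𝒮.deg U hU)))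
    (hP : RelProj.IsRelProj 𝒮 p chart)
    (pL : PL ⟶ X) (chartL : ∀ (U : X.Opens) (hU : IsAffineOpen U), (((pL ⁻¹ᵁ U : PL.Opens) : Scheme.{u}) ≅ Proj (𝒮L.deg U hU)))
    (hPL : RelProj.IsRelProj 𝒮L pL chartL)
    [CompactSpace Y] [QuasiCompact q] [LocallyOfFiniteType q]
    (r : ((RelProj.domQ u pL chartL : PL.Opens) : Scheme.{u}) ⟶ P)
    (hr : RelProj.IsProjQMapOn u p chart pL chartL (RelProj.domQ u pL chartL) r)
    (Λ : Type u) [Preorder Λ] [IsDirected Λ (· ≤ ·)] [Nonempty Λ]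
    (𝒮i : Λ → RelProj.QCGrAlg Y) (φ : ∀ i, (𝒮i i).toQCAlg ⟶ 𝒮.toQCAlg) (hφ : ∀ i, RelProj.IsGradedHom (φ i))
    (t : ∀ i j, i ≤ j → ((𝒮i i).toQCAlg ⟶ (𝒮i j).toQCAlg)) (ht : ∀ i j (h : i ≤ j), RelProj.IsGradedHom (t i j h))
    (hφt : ∀ i j (h : i ≤ j), t i j h ≫ φ j = φ i)
    (hsurj : ∀ (U : Y.Opens), IsAffineOpen U → ∀ x : 𝒮.presheaf.obj (op U),
      ∃ (i : Λ) (y : (𝒮i i).presheaf.obj (op U)), ((φ i).hom.app (op U)).hom y = x)
    (hker : ∀ (U : Y.Opens), IsAffineOpen U → ∀ (i : Λ) (y : (𝒮i i).presheaf.obj (op U)),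
      ((φ i).hom.app (op U)).hom y = 0 → ∃ (j : Λ) (h : i ≤ j), ((t i j h).hom.app (op U)).hom y = 0)
    (ui : ∀ i, RelProj.QGrHom q (𝒮i i) 𝒮L) (hui : ∀ i (U : Y.Opens), (ui i).app U = (φ i).hom.app (op U) ≫ u.app U)
    (Pi : Λ → Scheme.{u}) (pi : ∀ i, Pi i ⟶ Y)
    (charti : ∀ i (U : Y.Opens) (hU : IsAffineOpen U), ((((pi i) ⁻¹ᵁ U : (Pi i).Opens) : Scheme.{u}) ≅ Proj ((𝒮i i).deg U hU)))
    (hPi : ∀ i, RelProj.IsRelProj (𝒮i i) (pi i) (charti i))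
    (ri : ∀ i, ((RelProj.domQ (ui i) pL chartL : PL.Opens) : Scheme.{u}) ⟶ Pi i)
    (hri : ∀ i, RelProj.IsProjQMapOn (ui i) (pi i) (charti i) pL chartL (RelProj.domQ (ui i) pL chartL) (ri i)) :
    ((RelProj.domQ u pL chartL = ⊤ ∧ IsImmersion r) ↔
        ∃ i, RelProj.domQ (ui i) pL chartL = ⊤ ∧ IsImmersion (ri i)) ∧
      ∀ i, (RelProj.domQ (ui i) pL chartL = ⊤ ∧ IsImmersion (ri i)) →
        ∀ j, i ≤ j → RelProj.domQ (ui j) pL chartL = ⊤ ∧ IsImmersion (ri j) := by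
  haveI := hLq
  haveI : IsIso pL := Groth.Agent.S12143.result L hL hLq 𝒮L j hj pL chartL hPL
  have hmono : ∀ i, (RelProj.domQ (ui i) pL chartL = ⊤ ∧ IsImmersion (ri i)) →
      ∀ k, i ≤ k → RelProj.domQ (ui k) pL chartL = ⊤ ∧ IsImmersion (ri k) := fun i hi k hik =>
    Groth.Agent.S12153.result q L hL hLq (𝒮i k) 𝒮L j hj (ui k) (pi k) (charti k) (hPi k) pL chartL hPL (ri k) (hri k)
      (𝒮i i) (t i k hik) (ht i k hik) (ui i) (fun U => by
        rw [hui, hui, ← Category.assoc, ← hφt i k hik]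
        rfl) (pi i) (charti i) (hPi i) (ri i) (hri i) hi.1 hi.2
  refine ⟨⟨?_, fun ⟨i, h1, h2⟩ =>
    Groth.Agent.S12153.result q L hL hLq 𝒮 𝒮L j hj u p chart hP pL chartL hPL r hr
      (𝒮i i) (φ i) (hφ i) (ui i) (hui i) (pi i) (charti i) (hPi i) (ri i) (hri i) h1 h2⟩, hmono⟩
  rintro ⟨htop, himm⟩
  haveI : IsImmersion r := himm
  have hcompat : ∀ {i k : Λ} (h : i ≤ k) {U : Y.Opens} (x : (𝒮i i).presheaf.obj (op U)),
      ((φ k).hom.app (op U)).hom (((t i k h).hom.app (op U)).hom x) = ((φ i).hom.app (op U)).hom x := by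
    intro i k h U x
    rw [← hφt i k h]
    rfl
  have hlift : ∀ {U : Y.Opens} (hU : IsAffineOpen U) (n : ℕ) (x : 𝒮.presheaf.obj (op U)), x ∈ 𝒮.deg U hU n →
      ∃ (i : Λ) (y : (𝒮i i).presheaf.obj (op U)), y ∈ (𝒮i i).deg U hU n ∧ ((φ i).hom.app (op U)).hom y = x := by
    intro U hU n x hx
    obtain ⟨i, y, rfl⟩ := hsurj U hU x
    refine ⟨i, DirectSum.decompose ((𝒮i i).deg U hU) y n, SetLike.coe_mem _, ?_⟩
    refine (GradedRingHom.map_directSumDecompose (𝒜 := (𝒮i i).deg U hU) (ℬ := 𝒮.deg U hU)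
      (RelProj.gradedHomAt (φ i) (hφ i) U hU)).trans ?_
    exact DirectSum.decompose_of_mem_same _ hx
  haveI : CompactSpace X := QuasiCompact.compactSpace_of_compactSpace q
  haveI : CompactSpace PL := pL.homeomorph.symm.compactSpace
  let O : P.Opens := r.coborderRange
  have key : ∀ y : PL, ∃ (U : Y.Opens) (hU : IsAffineOpen U) (d : ℕ) (_ : 0 < d) (g : 𝒮.presheaf.obj (op U))
      (_ : g ∈ 𝒮.deg U hU d) (V : X.Opens) (_ : IsAffineOpen V) (_ : V ≤ q ⁻¹ᵁ U),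
      EGA2SymLib.gOpen p chart U hU g ≤ O ∧
      (RelProj.domQ u pL chartL).ι ''ᵁ (r ⁻¹ᵁ EGA2SymLib.gOpen p chart U hU g) = pL ⁻¹ᵁ V ∧
      y ∈ pL ⁻¹ᵁ V := by
    intro y
    let y' : (RelProj.domQ u pL chartL : Scheme.{u}) := ⟨y, htop ▸ trivial⟩
    obtain ⟨_, ⟨U, hU, rfl⟩, hxU, -⟩ :=
      Y.isBasis_affineOpens.exists_subset_of_mem_open (Set.mem_univ (p (r y'))) isOpen_univ
    obtain ⟨z, hz⟩ := RelConeLib.exists_emb_eq (chart := chart) hU (r y') hxU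
    have hzO : RelProj.emb p chart U hU z ∈ O := by
      rw [hz, ← congr($(r.liftCoborder_ι) y')]
      exact (r.liftCoborder y').2
    obtain ⟨d, g, hd, hg, hzg, hgO⟩ := EGA2SymLib.exists_homogeneous_basicOpen z
      (O := RelProj.emb p chart U hU ⁻¹ᵁ O) hzO
    have hle : EGA2SymLib.gOpen p chart U hU g ≤ O := by
      rintro w ⟨w', hw', rfl⟩
      exact hgO hw'
    have hW : IsAffineOpen (r ⁻¹ᵁ EGA2SymLib.gOpen p chart U hU g) := by
      have h1 := ((EGA2SymLib.isAffineOpen_gOpen hU hd hg).preimage_of_isOpenImmersion O.ι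
        (by rw [Scheme.Opens.opensRange_ι]; exact hle)).preimage r.liftCoborder
      rwa [← Scheme.Hom.comp_preimage, r.liftCoborder_ι] at h1
    let W' := (RelProj.domQ u pL chartL).ι ''ᵁ (r ⁻¹ᵁ EGA2SymLib.gOpen p chart U hU g)
    refine ⟨U, hU, d, hd, g, hg, pL ''ᵁ W', (hW.image_of_isOpenImmersion _).image_of_isOpenImmersion pL, ?_, hle,
      (pL.preimage_image_eq W').symm, ?_⟩
    · rintro _ ⟨_, ⟨w, hw, rfl⟩, rfl⟩
      obtain ⟨w', -, hw'⟩ := hw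
      have h := congr($(RelConeLib.qMap_over u hP hPL hr) w)
      rw [Scheme.Hom.comp_apply, Scheme.Hom.comp_apply, Scheme.Hom.comp_apply] at h
      refine Eq.subst (motive := fun a => a ∈ U) h ?_
      rw [← hw']
      exact RelConeLib.mem_of_emb w'
    · rw [pL.preimage_image_eq W']
      exact ⟨y', ⟨z, hzg, hz⟩, rfl⟩
  choose U hU d hd g hg V hV hle hgO hWeq hyV using key
  obtain ⟨κ, hκ⟩ := isCompact_univ.elim_finite_subcover (fun y : PL => ((pL ⁻¹ᵁ V y : PL.Opens) : Set PL))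
    (fun y => (pL ⁻¹ᵁ V y).2) (fun y _ => Set.mem_iUnion.mpr ⟨y, hyV y⟩)
  have hS : ∀ a : κ, Function.Surjective (Away.map (u.gradedAt (U a) (hU a) (V a) (hV a) (hle a)) (g a)) := by
    intro a
    haveI := EGA2SymLib.gchart_property hPL hr (hU a) (hd a) (hg a) (hV a) (hle a) (hWeq a) @IsClosedImmersion
      r.liftCoborder_ι (hgO a) inferInstance
    exact @Groth.Agent.S12150.surjective_of_SpecMap _ _ (CommRingCat.ofHom _) this
  have hft : ∀ a : κ, ∃ G : Finset Γ(X, V a), letI := (q.appLE (U a) (V a) (hle a)).hom.toAlgebra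
      Algebra.adjoin Γ(Y, U a) (G : Set Γ(X, V a)) = ⊤ := by
    intro a
    letI := (q.appLE (U a) (V a) (hle a)).hom.toAlgebra
    have h : Algebra.FiniteType Γ(Y, U a) Γ(X, V a) := q.finiteType_appLE (hU a) (hV a) (hle a)
    exact h.out
  choose G hG using hft
  have hfr : ∀ (a : κ) (s : G a), EGA2SymLib.Frac u (hU a) (g a) (d a) (hV a) (hle a) s.1 := fun a s =>
    EGA2SymLib.frac_of_surjective (hU a) (hg a) (hV a) (hle a) (hS a) _
  choose l m b hb hbeq using hfr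
  choose i1 g1 hg1 hg1eq using fun a : κ => hlift (hU a) (d a) (g a) (hg a)
  choose i2 b1 hb1 hb1eq using fun x : (Σ a : κ, ↥(G a)) => hlift (hU x.1) (m x.1 x.2 • d x.1) (b x.1 x.2) (hb x.1 x.2)
  obtain ⟨I, hI⟩ := Finite.exists_le (Sum.elim i1 i2)
  let gI := fun a : κ => ((t (i1 a) I (hI (.inl a))).hom.app (op (U a))).hom (g1 a)
  have hgI : ∀ a : κ, gI a ∈ (𝒮i I).deg (U a) (hU a) (d a) := fun a => ht _ _ _ _ (hU a) _ _ (hg1 a)
  have hgu : ∀ (a : κ) (V' : X.Opens) (hV' : IsAffineOpen V') (hle' : V' ≤ q ⁻¹ᵁ U a),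
      (ui I).gradedAt (U a) (hU a) V' hV' hle' (gI a) = u.gradedAt (U a) (hU a) V' hV' hle' (g a) := by
    intro a V' hV' hle'
    rw [EGA2SymLib.gradedAt_comp (φ I) (ui I) (hui I)]
    congr 1
    exact (hcompat _ _).trans (hg1eq a)
  have hWI : ∀ a : κ, (RelProj.domQ (ui I) pL chartL).ι ''ᵁ
      (ri I ⁻¹ᵁ EGA2SymLib.gOpen (pi I) (charti I) (U a) (hU a) (gI a)) = pL ⁻¹ᵁ V a := by
    intro a
    rw [← hWeq a]
    ext y
    show y ∈ (RelProj.domQ (ui I) pL chartL).ι ''ᵁ _ ↔ y ∈ (RelProj.domQ u pL chartL).ι ''ᵁ _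
    rw [EGA2SymLib.mem_preimage_iff (hPi I) hPL (hri I) (hU a) (hd a) (hgI a),
      EGA2SymLib.mem_preimage_iff hP hPL hr (hU a) (hd a) (hg a)]
    simp only [hgu a]
  refine ⟨I, EGA2SymLib.isImmersion_of_charts hPL (hri I) (fun a : κ => U a) (fun a => hU a) (fun a => d a)
    (fun a => hd a) gI hgI (fun a => V a) (fun a => hV a) (fun a => hle a) hWI (fun y => ?_) (fun a => ?_)⟩
  · obtain ⟨a, ha, hya⟩ := Set.mem_iUnion₂.mp (hκ (Set.mem_univ y))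
    exact ⟨⟨a, ha⟩, hya⟩
  · refine EGA2SymLib.surjective_of_generators hPL (hri I) (hU a) (hd a) (hgI a) (hV a) (hle a) (hWI a) (G a) (hG a) ?_
    intro s hs
    let x : (Σ a : κ, ↥(G a)) := ⟨a, ⟨s, hs⟩⟩
    refine ⟨l a ⟨s, hs⟩, m a ⟨s, hs⟩, ((t (i2 x) I (hI (.inr x))).hom.app (op (U a))).hom (b1 x),
      ht _ _ _ _ (hU a) _ _ (hb1 x), ?_⟩
    rw [hgu, EGA2SymLib.gradedAt_comp (φ I) (ui I) (hui I) (U a) (hU a) _ _ _ _,
      (hcompat _ _).trans (hb1eq x)]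
    exact hbeq a ⟨s, hs⟩

end Groth.Agent.S12161
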