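import Groth.Statements.S12162
import Mathlib
import Groth.Agent.EGA2SymLib.SubGen
import Groth.Agent.EGA2SymLib.SpanLocus
import Groth.Agent.EGA2SymLib.FTVA
import Groth.Agent.S12153
import Groth.Agent.S12150
import Groth.Agent.S12143
-- import your own Groth.Agent.* helpers here

set_option autoImplicit false
universe u
open CategoryTheory CategoryTheory.Limits AlgebraicGeometry TopologicalSpace Opposite
open scoped HomogeneousIdeal
noncomputable section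
open EGA2

namespace Groth.Agent.S12162

/-- Let Y be a quasi-compact separated scheme or a scheme with Noetherian underlying space, q : X → Y a
morphism of finite type, L an invertible O_X-module with 𝒮L = ⊕ L^{⊗n} (whose Proj is X), 𝒮 a
quasi-coherent positively graded O_Y-algebra, ψ♭ = u : 𝒮 → q_*𝒮L a graded q-morphism and r = r_{L,ψ}
: G(ψ) → Proj(𝒮). Then r is everywhere defined and an immersion if and only if there are n > 0 and a
quasi-coherent sub-O_Y-module E ⊆ 𝒮_n of finite type such that (a) q^*(E) → L^{⊗n} (induced by ψ_n)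
is surjective and (b) for the graded sub-algebra 𝒮' of 𝒮 generated by E and ψ' = ψ ∘ q^*(𝒮' ⊆ 𝒮),
r_{L,ψ'} is everywhere defined and an immersion. (Here E is written as the degree-n part of 𝒮',
which it equals; 𝒮' is given abstractly with an injective graded homomorphism into 𝒮 and degree-zero
part the image of O_Y; surjectivity in (a) is stated stalkwise: every point of X has an affine
neighbourhood V over which some section of E generates L^{⊗n}.) -/
theorem result {Y X P PL : Scheme.{u}} (q : X ⟶ Y)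
    (L : X.Modules) (hL : PicF.IsInvertible L) (hLq : Coh.IsQCoh L)
    (𝒮 : RelProj.QCGrAlg Y) (𝒮L : RelProj.QCGrAlg X) (j : L ⟶ 𝒮L.toModule) (hj : RelProj.IsGrSymAlg L 𝒮L j)
    (u : RelProj.QGrHom q 𝒮 𝒮L)
    (p : P ⟶ Y) (chart : ∀ (U : Y.Opens) (hU : IsAffineOpen U), (((p ⁻¹ᵁ U : P.Opens) : Scheme.{u}) ≅ Proj (𝒮.deg U hU)))
    (hP : RelProj.IsRelProj 𝒮 p chart)
    (pL : PL ⟶ X) (chartL : ∀ (U : X.Opens) (hU : IsAffineOpen U), (((pL ⁻¹ᵁ U : PL.Opens) : Scheme.{u}) ≅ Proj (𝒮L.deg U hU)))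
    (hPL : RelProj.IsRelProj 𝒮L pL chartL)
    (r : ((RelProj.domQ u pL chartL : PL.Opens) : Scheme.{u}) ⟶ P)
    (hr : RelProj.IsProjQMapOn u p chart pL chartL (RelProj.domQ u pL chartL) r)
    (hYs : (CompactSpace Y ∧ Y.IsSeparated) ∨ NoetherianSpace Y) [QuasiCompact q] [LocallyOfFiniteType q] :
    (RelProj.domQ u pL chartL = ⊤ ∧ IsImmersion r) ↔
      ∃ (n : ℕ) (_ : 0 < n) (𝒮' : RelProj.QCGrAlg Y) (j' : 𝒮'.toQCAlg ⟶ 𝒮.toQCAlg) (_ : RelProj.IsGradedHom j')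
        (_ : ∀ (U : Y.Opens), IsAffineOpen U → Function.Injective (j'.hom.app (op U)).hom)
        (_ : ∀ (U : Y.Opens) (hU : IsAffineOpen U),
          ((𝒮'.deg U hU 0 : AddSubgroup (𝒮'.presheaf.obj (op U))) : Set (𝒮'.presheaf.obj (op U))) =
            Set.range (𝒮'.str.app (op U)).hom)
        (_ : ∀ (U : Y.Opens) (hU : IsAffineOpen U),
          Subring.closure (((𝒮'.deg U hU 0 : AddSubgroup (𝒮'.presheaf.obj (op U))) : Set (𝒮'.presheaf.obj (op U))) ∪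
            ((𝒮'.deg U hU n : AddSubgroup (𝒮'.presheaf.obj (op U))) : Set (𝒮'.presheaf.obj (op U)))) = ⊤)
        (_ : 𝒮'.IsFTDeg n)
        (u' : RelProj.QGrHom q 𝒮' 𝒮L) (_ : ∀ U : Y.Opens, u'.app U = j'.hom.app (op U) ≫ u.app U),
        (∀ x : X, ∃ (U : Y.Opens) (hU : IsAffineOpen U) (e : 𝒮'.presheaf.obj (op U)) (_ : e ∈ 𝒮'.deg U hU n)
            (V : X.Opens) (hV : IsAffineOpen V) (hVU : V ≤ q ⁻¹ᵁ U), x ∈ V ∧
              ((𝒮L.deg V hV n : AddSubgroup (𝒮L.presheaf.obj (op V))) : Set (𝒮L.presheaf.obj (op V))) ⊆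
                (Ideal.span {(u'.appLE U V hVU).hom e} : Set (𝒮L.presheaf.obj (op V)))) ∧
        (∀ (P' : Scheme.{u}) (p' : P' ⟶ Y)
            (chart' : ∀ (U : Y.Opens) (hU : IsAffineOpen U), (((p' ⁻¹ᵁ U : P'.Opens) : Scheme.{u}) ≅ Proj (𝒮'.deg U hU)))
            (_ : RelProj.IsRelProj 𝒮' p' chart')
            (r' : ((RelProj.domQ u' pL chartL : PL.Opens) : Scheme.{u}) ⟶ P')
            (_ : RelProj.IsProjQMapOn u' p' chart' pL chartL (RelProj.domQ u' pL chartL) r'),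
          RelProj.domQ u' pL chartL = ⊤ ∧ IsImmersion r') := by
  haveI := hLq
  haveI : IsIso pL := Groth.Agent.S12143.result L hL hLq 𝒮L j hj pL chartL hPL
  haveI : CompactSpace Y := by rcases hYs with h | h <;> [exact h.1; exact inferInstance]
  haveI : QuasiSeparatedSpace Y := by
    rcases hYs with h | h
    · haveI := h.2
      infer_instance
    · exact ⟨fun U V _ _ _ _ => NoetherianSpace.isCompact _⟩
  constructor
  swap
  · rintro ⟨n, hn, 𝒮', j', hj', -, -, -, -, u', hu', -, h⟩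
    obtain ⟨P', p', chart', hP'⟩ := MiscFlat6.exists_relProj 𝒮'
    obtain ⟨r', hr', -⟩ := RelConeLib.existsUnique_isProjQMapOn u' hP' hPL (chart := chart')
    obtain ⟨h1, h2⟩ := h P' p' chart' hP' r' hr'
    exact Groth.Agent.S12153.result q L hL hLq 𝒮 𝒮L j hj u p chart hP pL chartL hPL r hr
      𝒮' j' hj' u' hu' p' chart' hP' r' hr' h1 h2
  rintro ⟨htop, himm⟩
  haveI : IsImmersion r := himm
  haveI : CompactSpace X := QuasiCompact.compactSpace_of_compactSpace q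
  haveI : CompactSpace PL := pL.homeomorph.symm.compactSpace
  let O : P.Opens := r.coborderRange
  have key : ∀ y : PL, ∃ (U : Y.Opens) (hU : IsAffineOpen U) (d : ℕ) (_ : 0 < d) (g : 𝒮.presheaf.obj (op U))
      (_ : g ∈ 𝒮.deg U hU d) (V : X.Opens) (_ : IsAffineOpen V) (_ : V ≤ q ⁻¹ᵁ U),
      EGA2SymLib.gOpen p chart U hU g ≤ O ∧
      (RelProj.domQ u pL chartL).ι ''ᵁ (r ⁻¹ᵁ EGA2SymLib.gOpen p chart U hU g) = pL ⁻¹ᵁ V ∧
      y ∈ pL ⁻¹ᵁ V := by
    intro y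
    let y' : (RelProj.domQ u pL chartL : Scheme.{u}) := ⟨y, htop ▸ trivial⟩
    obtain ⟨_, ⟨U, hU, rfl⟩, hxU, -⟩ :=
      Y.isBasis_affineOpens.exists_subset_of_mem_open (Set.mem_univ (p (r y'))) isOpen_univ
    obtain ⟨z, hz⟩ := RelConeLib.exists_emb_eq (chart := chart) hU (r y') hxU
    have hzO : RelProj.emb p chart U hU z ∈ O := by
      rw [hz, ← congr($(r.liftCoborder_ι) y')]
      exact (r.liftCoborder y').2
    obtain ⟨d, g, hd, hg, hzg, hgO⟩ := EGA2SymLib.exists_homogeneous_basicOpen z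
      (O := RelProj.emb p chart U hU ⁻¹ᵁ O) hzO
    have hle : EGA2SymLib.gOpen p chart U hU g ≤ O := by
      rintro w ⟨w', hw', rfl⟩
      exact hgO hw'
    have hW : IsAffineOpen (r ⁻¹ᵁ EGA2SymLib.gOpen p chart U hU g) := by
      have h1 := ((EGA2SymLib.isAffineOpen_gOpen hU hd hg).preimage_of_isOpenImmersion O.ι
        (by rw [Scheme.Opens.opensRange_ι]; exact hle)).preimage r.liftCoborder
      rwa [← Scheme.Hom.comp_preimage, r.liftCoborder_ι] at h1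
    let W' := (RelProj.domQ u pL chartL).ι ''ᵁ (r ⁻¹ᵁ EGA2SymLib.gOpen p chart U hU g)
    refine ⟨U, hU, d, hd, g, hg, pL ''ᵁ W', (hW.image_of_isOpenImmersion _).image_of_isOpenImmersion pL, ?_, hle,
      (pL.preimage_image_eq W').symm, ?_⟩
    · rintro _ ⟨_, ⟨w, hw, rfl⟩, rfl⟩
      obtain ⟨w', -, hw'⟩ := hw
      have h := congr($(RelConeLib.qMap_over u hP hPL hr) w)
      rw [Scheme.Hom.comp_apply, Scheme.Hom.comp_apply, Scheme.Hom.comp_apply] at h
      refine Eq.subst (motive := fun a => a ∈ U) h ?_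
      rw [← hw']
      exact RelConeLib.mem_of_emb w'
    · rw [pL.preimage_image_eq W']
      exact ⟨y', ⟨z, hzg, hz⟩, rfl⟩
  choose U hU d hd g hg V hV hle hgO hWeq hyV using key
  obtain ⟨κ, hκ⟩ := isCompact_univ.elim_finite_subcover (fun y : PL => ((pL ⁻¹ᵁ V y : PL.Opens) : Set PL))
    (fun y => (pL ⁻¹ᵁ V y).2) (fun y _ => Set.mem_iUnion.mpr ⟨y, hyV y⟩)
  have hS : ∀ a : κ, Function.Surjective (HomogeneousLocalization.Away.map (u.gradedAt (U a) (hU a) (V a) (hV a) (hle a)) (g a)) := by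
    intro a
    haveI := EGA2SymLib.gchart_property hPL hr (hU a) (hd a) (hg a) (hV a) (hle a) (hWeq a) @IsClosedImmersion
      r.liftCoborder_ι (hgO a) inferInstance
    exact @Groth.Agent.S12150.surjective_of_SpecMap _ _ (CommRingCat.ofHom _) this
  have hft : ∀ a : κ, ∃ G : Finset Γ(X, V a), letI := (q.appLE (U a) (V a) (hle a)).hom.toAlgebra
      Algebra.adjoin Γ(Y, U a) (G : Set Γ(X, V a)) = ⊤ := by
    intro a
    letI := (q.appLE (U a) (V a) (hle a)).hom.toAlgebra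
    have h : Algebra.FiniteType Γ(Y, U a) Γ(X, V a) := q.finiteType_appLE (hU a) (hV a) (hle a)
    exact h.out
  choose G hG using hft
  have hfr : ∀ (a : κ) (s : G a), EGA2SymLib.Frac u (hU a) (g a) (d a) (hV a) (hle a) s.1 := fun a s =>
    EGA2SymLib.frac_of_surjective (hU a) (hg a) (hV a) (hle a) (hS a) _
  choose l m b hb hbeq using hfr
  classical
  let n := (∏ a : κ, d a) * (1 + ∑ x : (Σ a : κ, ↥(G a)), m x.1 x.2)
  have hn : 0 < n := Nat.mul_pos (Finset.prod_pos fun a _ => hd a) (Nat.add_pos_left one_pos _)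
  let e := fun a : κ => n / d a
  have he : ∀ a : κ, e a * d a = n := fun a =>
    Nat.div_mul_cancel ((Finset.dvd_prod_of_mem (fun a : κ => d a) (Finset.mem_univ a)).mul_right _)
  have hem : ∀ (a : κ) (s : G a), m a s + 1 ≤ e a := by
    intro a s
    rw [Nat.le_div_iff_mul_le (hd a)]
    calc (m a s + 1) * d a ≤ (1 + ∑ x : (Σ a : κ, ↥(G a)), m x.1 x.2) * ∏ a : κ, d a := by
          refine Nat.mul_le_mul ?_ (Nat.le_of_dvd (Finset.prod_pos fun a _ => hd a) (Finset.dvd_prod_of_mem _ (Finset.mem_univ a)))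
          have := Finset.single_le_sum (f := fun x : (Σ a : κ, ↥(G a)) => m x.1 x.2) (fun _ _ => Nat.zero_le _) (Finset.mem_univ ⟨a, s⟩)
          dsimp only at this
          omega
      _ = n := Nat.mul_comm _ _
  have he1 : ∀ a : κ, 0 < e a := fun a => Nat.pos_of_ne_zero fun h => by
    have := he a
    rw [h, zero_mul] at this
    omega
  let g' : ∀ a : κ, 𝒮.presheaf.obj (op (U a)) := fun a => g a ^ e a
  have hg' : ∀ a : κ, g' a ∈ 𝒮.deg (U a) (hU a) n := fun a => by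
    simpa [he a] using SetLike.pow_mem_graded (e a) (hg a)
  let b' : ∀ (a : κ) (s : G a), 𝒮.presheaf.obj (op (U a)) := fun a s => b a s * g a ^ (e a - m a s)
  have hb' : ∀ (a : κ) (s : G a), b' a s ∈ 𝒮.deg (U a) (hU a) n := fun a s => by
    have h := SetLike.mul_mem_graded (hb a s) (SetLike.pow_mem_graded (e a - m a s) (hg a))
    rwa [← add_nsmul, Nat.add_sub_cancel' (Nat.le_of_succ_le (hem a s)), smul_eq_mul, he a] at h
  haveI := EGA2SymLib.isQCoh_degPart 𝒮 n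
  choose eg heg using fun a : κ => EGA2SymLib.exists_degIncl_eq 𝒮 n (hU a) (hg' a)
  choose eb heb using fun x : (Σ a : κ, ↥(G a)) => EGA2SymLib.exists_degIncl_eq 𝒮 n (hU x.1) (hb' x.1 x.2)
  obtain ⟨S, hS', hSt⟩ := EGA2SymLib.exists_ft_through_finset (F := EGA2SymLib.degPart 𝒮 n)
    ((Finset.univ.image fun a : κ => (⟨⟨U a, hU a⟩, eg a⟩ : Σ W : Y.affineOpens, Γ(EGA2SymLib.degPart 𝒮 n, W.1))) ∪
      (Finset.univ.image fun x : (Σ a : κ, ↥(G a)) => (⟨⟨U x.1, hU x.1⟩, eb x⟩ : Σ W : Y.affineOpens, Γ(EGA2SymLib.degPart 𝒮 n, W.1))))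
  haveI := QCohLib.LocSub.isQCoh_toModules S hS'
  let j0 : S.toModules ⟶ 𝒮.toModule := S.ι ≫ EGA2SymLib.degIncl 𝒮 n
  have hj0 : ∀ (W : Y.Opens) (hW : IsAffineOpen W) (x : Γ(S.toModules, W)), EGA2SymLib.jS j0 W x ∈ 𝒮.deg W hW n :=
    fun W hW x => EGA2SymLib.degIncl_mem 𝒮 n hW (S.ι.app W x)
  have hgmem : ∀ a : κ, g' a ∈ SymGenLib.memRing 𝒮.toQCAlg j0 (U a) := fun a => by
    rw [← heg a]
    exact (SymGenLib.mem_affine _ j0 (hU a)).mpr (SymGenLib.j_mem _ j0 _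
      (S.lift (eg a) (hSt ⟨⟨U a, hU a⟩, eg a⟩ (Finset.mem_union_left _ (Finset.mem_image_of_mem _ (Finset.mem_univ a))))))
  have hbmem : ∀ x : (Σ a : κ, ↥(G a)), b' x.1 x.2 ∈ SymGenLib.memRing 𝒮.toQCAlg j0 (U x.1) := fun x => by
    rw [← heb x]
    exact (SymGenLib.mem_affine _ j0 (hU x.1)).mpr (SymGenLib.j_mem _ j0 _
      (S.lift (eb x) (hSt ⟨⟨U x.1, hU x.1⟩, eb x⟩ (Finset.mem_union_right _ (Finset.mem_image_of_mem _ (Finset.mem_univ x))))))
  let 𝒮' := EGA2SymLib.subGr 𝒮 j0 n hj0 hn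
  let j' : 𝒮'.toQCAlg ⟶ 𝒮.toQCAlg := EGA2SymLib.subGrIncl 𝒮 j0 n hj0 hn
  obtain ⟨hj', hinj, h0, hgen, hftd⟩ := EGA2SymLib.subGr_properties 𝒮 j0 n hj0 hn (QCohLib.LocSub.isFT_toModules S hS')
  let u' : RelProj.QGrHom q 𝒮' 𝒮L :=
    { app := fun W => j'.hom.app (op W) ≫ u.app W
      naturality := fun {W W'} i => by
        rw [Category.assoc, u.naturality, ← Category.assoc, ← Category.assoc, j'.hom.naturality]
      str_app := fun W => by
        rw [← Category.assoc, ← NatTrans.comp_app, j'.comm, u.str_app]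
      map_mem := fun W hW W' hW' hle' {d x} hx => u.map_mem W hW W' hW' hle' hx }
  let gI : ∀ a : κ, 𝒮'.presheaf.obj (op (U a)) := fun a => ⟨g' a, hgmem a⟩
  have hgI : ∀ a : κ, gI a ∈ 𝒮'.deg (U a) (hU a) n := fun a => hg' a
  have hgu : ∀ (a : κ) (V' : X.Opens) (hV' : IsAffineOpen V') (hle' : V' ≤ q ⁻¹ᵁ U a),
      u'.gradedAt (U a) (hU a) V' hV' hle' (gI a) = u.gradedAt (U a) (hU a) V' hV' hle' (g a) ^ e a :=
    fun a V' hV' hle' => map_pow (u.appLE (U a) V' hle').hom (g a) (e a)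
  refine ⟨n, hn, 𝒮', j', hj', hinj, h0, hgen, hftd, u', fun W => rfl, ?_⟩
  have main : ∀ (P' : Scheme.{u}) (p' : P' ⟶ Y)
      (chart' : ∀ (W : Y.Opens) (hW : IsAffineOpen W), (((p' ⁻¹ᵁ W : P'.Opens) : Scheme.{u}) ≅ Proj (𝒮'.deg W hW)))
      (_ : RelProj.IsRelProj 𝒮' p' chart')
      (r' : ((RelProj.domQ u' pL chartL : PL.Opens) : Scheme.{u}) ⟶ P')
      (_ : RelProj.IsProjQMapOn u' p' chart' pL chartL (RelProj.domQ u' pL chartL) r'),
      (RelProj.domQ u' pL chartL = ⊤ ∧ IsImmersion r') ∧ ∀ a : κ, (RelProj.domQ u' pL chartL).ι ''ᵁ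
        (r' ⁻¹ᵁ EGA2SymLib.gOpen p' chart' (U a) (hU a) (gI a)) = pL ⁻¹ᵁ V a := by
    intro P' p' chart' hP' r' hr'
    have hWI : ∀ a : κ, (RelProj.domQ u' pL chartL).ι ''ᵁ
        (r' ⁻¹ᵁ EGA2SymLib.gOpen p' chart' (U a) (hU a) (gI a)) = pL ⁻¹ᵁ V a := by
      intro a
      rw [← hWeq a]
      ext y
      show y ∈ (RelProj.domQ u' pL chartL).ι ''ᵁ _ ↔ y ∈ (RelProj.domQ u pL chartL).ι ''ᵁ _
      rw [EGA2SymLib.mem_preimage_iff hP' hPL hr' (hU a) hn (hgI a),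
        EGA2SymLib.mem_preimage_iff hP hPL hr (hU a) (hd a) (hg a)]
      simp only [hgu a, Proj.basicOpen_pow _ _ _ (he1 a)]
    refine ⟨EGA2SymLib.isImmersion_of_charts hPL hr' (fun a : κ => U a) (fun a => hU a) (fun _ => n)
      (fun _ => hn) gI hgI (fun a => V a) (fun a => hV a) (fun a => hle a) hWI (fun y => ?_) (fun a => ?_), hWI⟩
    · obtain ⟨a, ha, hya⟩ := Set.mem_iUnion₂.mp (hκ (Set.mem_univ y))
      exact ⟨⟨a, ha⟩, hya⟩
    · refine EGA2SymLib.surjective_of_generators hPL hr' (hU a) hn (hgI a) (hV a) (hle a) (hWI a) (G a) (hG a) ?_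
      intro s hs
      let x : (Σ a : κ, ↥(G a)) := ⟨a, ⟨s, hs⟩⟩
      let bI : 𝒮'.presheaf.obj (op (U a)) := ⟨b' a ⟨s, hs⟩, hbmem x⟩
      refine ⟨l a ⟨s, hs⟩, 1, bI, by rw [one_smul]; exact hb' a ⟨s, hs⟩, ?_⟩
      have hbI : u'.gradedAt (U a) (hU a) (V a) (hV a) (hle a) bI =
          u.gradedAt (U a) (hU a) (V a) (hV a) (hle a) (b a ⟨s, hs⟩) *
            u.gradedAt (U a) (hU a) (V a) (hV a) (hle a) (g a) ^ (e a - m a ⟨s, hs⟩) :=
        (map_mul (u.appLE (U a) (V a) (hle a)).hom _ _).trans (congrArg (_ * ·) (map_pow _ _ _))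
      rw [hgu, hbI, pow_one, ← pow_mul]
      have h1 := hbeq a ⟨s, hs⟩
      generalize u.gradedAt (U a) (hU a) (V a) (hV a) (hle a) (g a) = x₀ at h1 ⊢
      generalize u.gradedAt (U a) (hU a) (V a) (hV a) (hle a) (b a ⟨s, hs⟩) = x₁ at h1 ⊢
      generalize (𝒮L.str.app (op (V a))).hom s = x₂ at h1 ⊢
      have h2 : l a ⟨s, hs⟩ ≤ e a * l a ⟨s, hs⟩ := Nat.le_mul_of_pos_left _ (he1 a)
      obtain ⟨k, hk⟩ := Nat.exists_eq_add_of_le h2
      obtain ⟨k', hk'⟩ := Nat.exists_eq_add_of_le (Nat.le_of_succ_le (hem a ⟨s, hs⟩))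
      rw [hk, hk', Nat.add_sub_cancel_left, pow_add, pow_add]
      linear_combination (x₀ ^ k * x₀ ^ k') * h1
  refine ⟨fun x => ?_, fun P' p' chart' hP' r' hr' => (main P' p' chart' hP' r' hr').1⟩
  obtain ⟨P', p', chart', hP'⟩ := MiscFlat6.exists_relProj 𝒮'
  obtain ⟨r', hr', -⟩ := RelConeLib.existsUnique_isProjQMapOn u' hP' hPL (chart := chart')
  obtain ⟨-, hWI⟩ := main P' p' chart' hP' r' hr'
  obtain ⟨a, ha, hxa⟩ := Set.mem_iUnion₂.mp (hκ (Set.mem_univ (inv pL x)))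
  have hy : inv pL x ∈ (pL ⁻¹ᵁ V a : PL.Opens) := hxa
  rw [← hWI ⟨a, ha⟩] at hy
  obtain ⟨z, hz, hzx⟩ := hy
  obtain ⟨W, hW, hWU, hxW, hspan⟩ := EGA2SymLib.exists_span_of_mem_gOpen hL hj hP' hPL hr' (hU a) hn (hgI ⟨a, ha⟩) z hz
  refine ⟨U a, hU a, gI ⟨a, ha⟩, hgI ⟨a, ha⟩, W, hW, hWU, ?_, hspan⟩
  have hxW2 : pL (inv pL x) ∈ W := Eq.subst (motive := fun y => pL y ∈ W) hzx hxW
  rw [← Scheme.Hom.comp_apply, IsIso.inv_hom_id] at hxW2
  exact hxW2

end Groth.Agent.S12162
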