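import Groth.Statements.S12163
import Groth.Agent.RelConeLib.QMap
-- import your own Groth.Agent.* helpers here

set_option autoImplicit false
universe u
open CategoryTheory CategoryTheory.Limits AlgebraicGeometry TopologicalSpace Opposite
open scoped HomogeneousIdeal
noncomputable section
open EGA2

namespace Groth.Agent.S12163

/-- Let φ : 𝒜 → ℬ be a graded homomorphism of quasi-coherent positively graded O_Y-algebras and PB =
Proj(ℬ) with its charts. If every point of Y has an affine neighbourhood U over which the irrelevant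
ideal of ℬ(U) is contained in the ideal generated by φ(𝒜(U)_+), then the open of definition G(φ) of
Proj(φ) is all of PB. (The published condition asks 𝒮_+ to be generated by the image as a module
over the functions on U; generation as an ideal, used here, is implied by it.) -/
theorem result {Y PB : Scheme.{u}} (𝒜 ℬ : RelProj.QCGrAlg Y)
    (φ : 𝒜.toQCAlg ⟶ ℬ.toQCAlg) (hφ : RelProj.IsGradedHom φ)
    (pB : PB ⟶ Y) (chartB : ∀ (U : Y.Opens) (hU : IsAffineOpen U), (((pB ⁻¹ᵁ U : PB.Opens) : Scheme.{u}) ≅ Proj (ℬ.deg U hU)))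
    (hB : RelProj.IsRelProj ℬ pB chartB)
    (hcov : ∀ y : Y, ∃ (U : Y.Opens) (hU : IsAffineOpen U), y ∈ U ∧
      (ℬ.deg U hU)₊ ≤ ((𝒜.deg U hU)₊).map (RelProj.gradedHomAt φ hφ U hU)) :
    RelProj.domQ (RelProj.QGrHom.ofHom φ hφ) pB chartB = ⊤ := by

  have hat : ∀ (U : Y.Opens) (hU : IsAffineOpen U),
      (RelProj.QGrHom.ofHom φ hφ).gradedAt U hU U hU (le_refl U) = RelProj.gradedHomAt φ hφ U hU := by
    intro U hU
    refine GradedRingHom.ext fun a => ?_
    show (φ.hom.app (op U) ≫ ℬ.presheaf.map (homOfLE (le_refl U)).op).hom a = (φ.hom.app (op U)).hom a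
    rw [show (homOfLE (le_refl U) : U ⟶ U) = 𝟙 U from rfl, op_id, CategoryTheory.Functor.map_id, Category.comp_id]

  refine top_le_iff.mp fun x _ => ?_
  obtain ⟨U, hU, hxU, hle⟩ := hcov (pB x)
  obtain ⟨v, rfl⟩ := RelConeLib.exists_emb_eq (chart := chartB) hU x hxU
  refine Opens.mem_iSup.mpr ⟨⟨(⟨U, hU⟩, ⟨U, hU⟩), le_refl U⟩, v, ?_, rfl⟩
  show v ∈ RelCone.domOpen ((RelProj.QGrHom.ofHom φ hφ).gradedAt U hU U hU (le_refl U))
  rw [hat U hU, RelCone.mem_domOpen]
  by_contra hc
  push Not at hc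
  refine v.not_irrelevant_le (le_trans hle ?_)
  show Ideal.map (RelProj.gradedHomAt φ hφ U hU) _ ≤ v.asHomogeneousIdeal.toIdeal
  rw [Ideal.map_le_iff_le_comap]
  exact hc


end Groth.Agent.S12163
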