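import Groth.Statements.S12166
import Mathlib
import Groth.Agent.EGA2SymLib.TN
-- import your own Groth.Agent.* helpers here

set_option autoImplicit false
universe u
open CategoryTheory CategoryTheory.Limits AlgebraicGeometry TopologicalSpace Opposite
open scoped HomogeneousIdeal
noncomputable section
open EGA2

namespace Groth.Agent.S12166

/-- Let φ : 𝒜 → ℬ be a graded homomorphism of quasi-coherent positively graded O_Y-algebras which is a
(TN)-isomorphism (φ : 𝒜_k → ℬ_k bijective for all large k, on sections over affine opens), PA =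
Proj(𝒜), PB = Proj(ℬ) with their charts. Then Proj(φ) is defined on all of PB and is an isomorphism
PB → PA. -/
theorem result {Y PA PB : Scheme.{u}} (𝒜 ℬ : RelProj.QCGrAlg Y)
    (φ : 𝒜.toQCAlg ⟶ ℬ.toQCAlg) (hφ : RelProj.IsGradedHom φ)
    (hTN : ∃ n : ℕ, ∀ k, n ≤ k → ∀ (U : Y.Opens) (hU : IsAffineOpen U),
      (∀ x ∈ 𝒜.deg U hU k, (φ.hom.app (op U)).hom x = 0 → x = 0) ∧
        ∀ y ∈ ℬ.deg U hU k, ∃ x ∈ 𝒜.deg U hU k, (φ.hom.app (op U)).hom x = y)
    (pA : PA ⟶ Y) (chartA : ∀ (U : Y.Opens) (hU : IsAffineOpen U), (((pA ⁻¹ᵁ U : PA.Opens) : Scheme.{u}) ≅ Proj (𝒜.deg U hU)))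
    (hA : RelProj.IsRelProj 𝒜 pA chartA)
    (pB : PB ⟶ Y) (chartB : ∀ (U : Y.Opens) (hU : IsAffineOpen U), (((pB ⁻¹ᵁ U : PB.Opens) : Scheme.{u}) ≅ Proj (ℬ.deg U hU)))
    (hB : RelProj.IsRelProj ℬ pB chartB) :
    RelProj.domQ (RelProj.QGrHom.ofHom φ hφ) pB chartB = ⊤ ∧
      ∀ h : PB ⟶ PA, RelProj.IsProjQMap (RelProj.QGrHom.ofHom φ hφ) pA chartA pB chartB h → IsIso h := by
  obtain ⟨n, hn⟩ := hTN
  have hs : ∀ (U : Y.Opens) (hU : IsAffineOpen U) k, n ≤ k → ∀ y ∈ ℬ.deg U hU k, ∃ x ∈ 𝒜.deg U hU k,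
      (RelProj.QGrHom.ofHom φ hφ).gradedAt U hU U hU (le_refl U) x = y := fun U hU k hk y hy => by
    obtain ⟨x, hx, hxy⟩ := (hn k hk U hU).2 y hy
    exact ⟨x, hx, (EGA2SymLib.gradedAt_ofHom hφ U hU x).trans hxy⟩
  refine EGA2SymLib.projQMap_of_local hφ (MorphismProperty.isomorphisms Scheme) hA hB
    (fun U hU => EGA2SymLib.tn_domOpen_eq_top _ n (hs U hU))
    fun U hU => EGA2SymLib.dMap_squares _ (MorphismProperty.isomorphisms Scheme) fun i => ?_
  show IsIso _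
  haveI : IsIso (CommRingCat.ofHom (HomogeneousLocalization.Away.map
      ((RelProj.QGrHom.ofHom φ hφ).gradedAt U hU U hU (le_refl U)) i.el)) :=
    (ConcreteCategory.isIso_iff_bijective _).mpr
      ⟨EGA2SymLib.tn_awayMap_injective _ n (fun k hk x hx h0 => (hn k hk U hU).1 x hx
        ((EGA2SymLib.gradedAt_ofHom hφ U hU x).symm.trans h0)) i,
      EGA2SymLib.tn_awayMap_surjective _ n (hs U hU) i⟩
  infer_instance

end Groth.Agent.S12166
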