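import Groth.Statements.S1218
import Groth.Agent.PureCritLib.LocalCover
import Groth.Agent.DevissExLib.LocalFT

set_option autoImplicit false
universe u
open FlatMor

namespace Groth.Agent.S1218

open scoped TensorProduct in
/-- Ring form, X = Spec B affine: let B be a finite type A-algebra, N a finite B-module and p a prime of
A such that N is flat over A at every prime of B lying over p. If N is pure along the fibre over p
then N is universally pure along the fibre over p. -/
theorem result {A B : Type u} [CommRing A] [CommRing B] [Algebra A B] [Algebra.FiniteType A B]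
    (N : Type u) [AddCommGroup N] [Module B N] [Module A N] [IsScalarTower A B N] [Module.Finite B N] (p : Ideal A) [p.IsPrime]
    (hflat : ∀ (q : Ideal B) [q.IsPrime], q.LiesOver p → FlatCA.FlatAt A q N)
    (hpure : FlatCA.IsPureAlong A B N p) : FlatCA.IsUnivPureAlong A B N p := by
  classical
  obtain ⟨R', _, _, p', _, ⟨hetR, hp'p, hbR⟩, hmain⟩ := DevissExLib.exists_local_free_cover_finiteType N p
    {w | w.asIdeal.LiesOver p} (fun w hw => hw.over.symm) (Or.inl hflat)
  haveI := hetR
  haveI := hp'p
  -- purity of the base change to the neighbourhood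
  let BR := TensorProduct A R' B
  letI : Algebra B BR := Algebra.TensorProduct.rightAlgebra
  haveI : IsScalarTower A B BR := IsScalarTower.of_algebraMap_eq fun a =>
    ((Algebra.TensorProduct.includeRight : B →ₐ[A] BR).commutes a).symm
  haveI : Algebra.IsPushout A R' B BR := inferInstanceAs (Algebra.IsPushout A R' B (TensorProduct A R' B))
  haveI : Algebra.IsPushout A B R' BR := Algebra.IsPushout.symm inferInstance
  haveI : Algebra.FiniteType R' BR := inferInstanceAs (Algebra.FiniteType R' (TensorProduct A R' B))
  let NR := TensorProduct B BR N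
  haveI : IsScalarTower R' BR NR := TensorProduct.isScalarTower_left
  let fR : N →ₗ[B] NR := TensorProduct.mk B BR N 1
  have hfR : IsBaseChange BR fR := TensorProduct.isBaseChange B N BR
  have hpR : FlatCA.IsPureAlong R' BR NR p' := GeomPureLib.isPureAlong_baseChange_of_quasiFinite hfR hpure
  -- the local ring of the neighbourhood
  let L := Localization.AtPrime p'
  let m := IsLocalRing.maximalIdeal L
  haveI hm : m.LiesOver p' := ⟨(IsLocalization.AtPrime.comap_maximalIdeal L p').symm⟩
  haveI : m.LiesOver p := Ideal.LiesOver.trans m p' p
  let BL := TensorProduct A L B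
  letI : Algebra B BL := Algebra.TensorProduct.rightAlgebra
  haveI : IsScalarTower A B BL := IsScalarTower.of_algebraMap_eq fun a =>
    ((Algebra.TensorProduct.includeRight : B →ₐ[A] BL).commutes a).symm
  haveI hpoL : Algebra.IsPushout A L B BL := inferInstanceAs (Algebra.IsPushout A L B (TensorProduct A L B))
  haveI : Algebra.IsPushout A B L BL := hpoL.symm
  haveI : Algebra.FiniteType L BL := inferInstanceAs (Algebra.FiniteType L (TensorProduct A L B))
  let NL := TensorProduct B BL N
  haveI : IsScalarTower L BL NL := TensorProduct.isScalarTower_left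
  let fL : N →ₗ[B] NL := TensorProduct.mk B BL N 1
  have hfL : IsBaseChange BL fL := TensorProduct.isBaseChange B N BL
  haveI : Module.Flat L (Localization.AtPrime m) := inferInstance
  haveI : Module.Flat A L := Module.Flat.trans A R' L
  haveI : Module.Flat A (Localization.AtPrime m) := Module.Flat.trans A L (Localization.AtPrime m)
  have hresL : Function.Surjective (Ideal.ResidueField.mapₐ p m (Algebra.ofId A L) (Ideal.over_def m p)) :=
    DevissExLib.surjective_residue_comp p p' m hbR.2
      ((RingHom.surjectiveOnStalks_of_isLocalization p'.primeCompl L).residueFieldMap_bijective _ _ _).2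
  have h9 := hmain BL NL fL hfL
  obtain ⟨C, _, _, _, _, _, _, h16⟩ := h9
  obtain ⟨hetC, h17⟩ := h16
  have hcov := h17.1
  have hfree := h17.2
  haveI := hetC
  haveI : Algebra.FiniteType L C := Algebra.FiniteType.trans (R := L) (S := BL) inferInstance inferInstance
  let M := TensorProduct BL C NL
  haveI : IsScalarTower L C M := TensorProduct.isScalarTower_left
  haveI : Module.Free L M := by
    haveI := hfree
    let E : RestrictScalars L C M ≃ₗ[L] M :=
      { RestrictScalars.addEquiv L C M with
        map_smul' := fun c z => by
          show RestrictScalars.addEquiv L C M (c • z) = c • RestrictScalars.addEquiv L C M z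
          rw [RestrictScalars.addEquiv_map_smul, algebraMap_smul] }
    exact Module.Free.of_equiv E
  let π : BR →ₐ[A] BL := Algebra.TensorProduct.map (IsScalarTower.toAlgHom A R' L) (AlgHom.id A B)
  letI : Algebra BR BL := π.toRingHom.toAlgebra
  haveI : IsScalarTower R' BR BL := IsScalarTower.of_algebraMap_eq fun r => by
    show algebraMap R' L r ⊗ₜ[A] (1 : B) = π (r ⊗ₜ[A] (1 : B))
    rw [Algebra.TensorProduct.map_tmul, map_one]; rfl
  haveI : IsScalarTower B BR BL := IsScalarTower.of_algebraMap_eq fun b => by
    show (1 : L) ⊗ₜ[A] b = π ((1 : R') ⊗ₜ[A] b)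
    rw [Algebra.TensorProduct.map_tmul, map_one]; rfl
  haveI : SMulCommClass B BR BL := ⟨fun b c z => by rw [Algebra.smul_def c, Algebra.smul_def c, mul_smul_comm]⟩
  haveI : IsScalarTower BR BL NL := TensorProduct.isScalarTower_left
  haveI : IsScalarTower B BR NL := TensorProduct.isScalarTower_left
  exact PureCritLib.isUnivPureAlong_of_local_cover (A := A) (B := B) (R' := R') (L := L) (BR := BR) (BL := BL) (C := C)
    (N := N) (NR := NR) (NL := NL) (M := M) p p' hresL (TensorProduct.mk BL C NL 1) (TensorProduct.isBaseChange BL NL C)
    fR hfR fL hfL hpR fun q _ hq => by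
      obtain ⟨x, hxI, hxq, hxm, -⟩ := hcov q hq
      exact ⟨x, hxI, hxq.over.symm, hxm⟩

end Groth.Agent.S1218
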