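import Groth.Statements.S12188
import Groth.Agent.GlueAlgLib.Hom
import Groth.Agent.GlueFlatLib.Basic
import Mathlib.RingTheory.RingHom.Finite
import Mathlib.RingTheory.RingHom.Flat
-- import your own Groth.Agent.* helpers here

set_option autoImplicit false
universe u
open TensorProduct
open EtAlg

namespace Groth.Agent.S12188

/-- Glueing along a glueing pair detects flat morphisms of affine schemes, stated for coordinate rings.
Let (R → R', f) be a glueing pair and φ : A → B a homomorphism of R-algebras with A and B glueable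
as R-modules. Then φ is flat exactly when both induced maps A_f → B_f and R' ⊗_R A → R' ⊗_R B are
flat. -/
theorem result (R : Type u) [CommRing R] (R' : Type u) [CommRing R'] [Algebra R R'] (f : R)
    (hRR' : EtGlue.IsGlueingPair R R' f) (A B : Type u) [CommRing A] [Algebra R A] [CommRing B] [Algebra R B]
    (hA : EtGlue.IsGlueable R R' f A) (hB : EtGlue.IsGlueable R R' f B) (φ : A →ₐ[R] B) :
    φ.toRingHom.Flat ↔ (Localization.awayMap φ.toRingHom (algebraMap R A f)).Flat ∧
      (Algebra.TensorProduct.map (AlgHom.id R R') φ).toRingHom.Flat := by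
  let := φ.toRingHom.toAlgebra
  let : Algebra A (R' ⊗[R] A) := Algebra.TensorProduct.rightAlgebra
  let := (Localization.awayMap φ.toRingHom (algebraMap R A f)).toAlgebra
  let := (Algebra.TensorProduct.map (AlgHom.id R R') φ).toRingHom.toAlgebra
  obtain ⟨hp, ⟨e₁⟩, ⟨e₂⟩⟩ := Groth.Agent.GlueAlgLib.exists_corners hRR' hA φ
  change Module.Flat A B ↔ Module.Flat _ _ ∧ Module.Flat _ _
  refine ⟨fun _ => ⟨Module.Flat.of_linearEquiv e₁.symm.toLinearEquiv, Module.Flat.of_linearEquiv e₂.symm.toLinearEquiv⟩, fun ⟨h1, h2⟩ => ?_⟩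
  have := Module.Flat.of_linearEquiv e₁.toLinearEquiv
  have := Module.Flat.of_linearEquiv e₂.toLinearEquiv
  exact Groth.Agent.GlueFlatLib.flat_of_glueing hp B

end Groth.Agent.S12188
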