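import Groth.Statements.S12195
import Groth.Agent.AlgSpLib.FormalLocal

set_option autoImplicit false
set_option linter.style.haveILetI false
set_option backward.isDefEq.respectTransparency false
set_option backward.isDefEq.respectTransparency.types false
universe u
open CategoryTheory CategoryTheory.Limits AlgebraicGeometry
open AlgSp

namespace Groth.Agent.S12195
open AlgSpLib



/-- Let a : F ⟶ G be a representable, surjective and etale morphism of fppf sheaves on (Sch/S) and b : G
⟶ H a morphism such that a ≫ b is formally smooth. Consider a solid infinitesimal lifting square for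
b: a square-zero thickening T = Spec (A/I) ⊂ T' = Spec A of affine schemes over S, a morphism T ⟶ G
and a morphism T' ⟶ H making the square commute. Then for every point t of T' there exist an affine
scheme U', an etale morphism U' ⟶ T' whose image contains t, and a morphism U' ⟶ G lying over T' ⟶ H
whose restriction to T ×_{T'} U' agrees with the given T ⟶ G (stated for every scheme V mapping
compatibly to T and U'). (The published statement is for transformations of arbitrary presheaves of
sets on (Sch/S)_fppf; this row takes fppf sheaves, the case of algebraic spaces.) -/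
theorem result {S : Scheme.{u}} {F G H : AlgSp.Sp S} (a : F ⟶ G)
    (b : G ⟶ H) (ha : AlgSp.RepWith @Etale a) (ha' : AlgSp.RepWith @Surjective a)
    (hab : AlgSp.IsFormallySmoothMor (a ≫ b)) (sq : AlgSp.InfSq b) (t : ↥sq.ptT'.left) :
    ∃ (U' : Over S) (g : U' ⟶ sq.ptT') (l : (AlgSp.yon S).obj U' ⟶ G),
      IsAffine U'.left ∧ Etale g.left ∧ (∃ u : ↥U'.left, g.left u = t) ∧
        l ≫ b = (AlgSp.yon S).map g ≫ sq.bot ∧
          ∀ (V : Over S) (p : V ⟶ sq.ptT) (q : V ⟶ U'), p ≫ sq.j = q ≫ g →
            (AlgSp.yon S).map q ≫ l = (AlgSp.yon S).map p ≫ sq.top := by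
  obtain ⟨W, p, e, sqW⟩ : ∃ (W : Over S) (p : (AlgSp.yon S).obj W ⟶ F) (e : W ⟶ sq.ptT),
      IsPullback p ((AlgSp.yon S).map e) a sq.top := ⟨_, _, _, ha.rep.isPullback sq.top⟩
  have : Etale e.left := etale_left (repWith_of_isPullback sqW ha)
  have : Surjective e.left := surjective_left (repWith_of_isPullback sqW ha')
  obtain ⟨B, _, φ, hφ, ⟨z, hz⟩, k, hk⟩ := exists_etale_refine sq e t
  let sq' := pullSq sq φ
  let s : AlgSp.InfSq (a ≫ b) :=
  { A := sq'.A, I := sq'.I, sq_zero := sq'.sq_zero, str := sq'.str,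
    top := (AlgSp.yon S).map k ≫ p, bot := sq'.bot,
    comm := by
      rw [Category.assoc, ← Category.assoc p, sqW.w, Category.assoc, ← Category.assoc ((AlgSp.yon S).map k),
        ← Category.assoc ((AlgSp.yon S).map k ≫ (AlgSp.yon S).map e), Category.assoc ((AlgSp.yon S).map k), hk]
      exact sq'.comm }
  obtain ⟨l, hl1, hl2⟩ := hab s
  have htop : (AlgSp.yon S).map sq'.j ≫ l ≫ a = sq'.top := by
    change (AlgSp.yon S).map s.j ≫ l ≫ a = _
    rw [← Category.assoc, hl1]
    change ((AlgSp.yon S).map k ≫ p) ≫ a = _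
    rw [Category.assoc, sqW.w]
    exact hk
  haveI : Etale (pullSqHom sq φ).left :=
    (HasRingHomProperty.Spec_iff (P := @Etale) (φ := CommRingCat.ofHom φ)).2 hφ
  refine ⟨sq'.ptT', pullSqHom sq φ, l ≫ a, inferInstanceAs (IsAffine (Spec (CommRingCat.of B))), inferInstance,
    ⟨z, hz⟩, (Category.assoc _ _ _).trans hl2, fun V pV q hpq => ?_⟩
  obtain ⟨r, hr1, hr2⟩ : ∃ r : V ⟶ sq'.ptT, r ≫ sq'.j = q ∧ (AlgSp.yon S).map r ≫ sq'.top = (AlgSp.yon S).map pV ≫ sq.top := by
    -- a map to an affine scheme is given by global functions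
    have gen : ∀ {R : Type u} [CommRing R] (f : V.left ⟶ Spec (CommRingCat.of R)),
        f = V.left.toSpecΓ ≫ Spec.map ((Scheme.ΓSpecIso (CommRingCat.of R)).inv ≫ f.appTop) := fun {R} _ f => by
      rw [Spec.map_comp, ← Scheme.toSpecΓ_naturality_assoc, toSpecΓ_SpecMap_ΓSpecIso_inv, Category.comp_id]
    let α : sq.A ⧸ sq.I →+* Γ(V.left, ⊤) :=
      ((Scheme.ΓSpecIso (CommRingCat.of (sq.A ⧸ sq.I))).inv ≫ pV.left.appTop).hom
    let β : B →+* Γ(V.left, ⊤) := ((Scheme.ΓSpecIso (CommRingCat.of B)).inv ≫ q.left.appTop).hom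
    have hring : α.comp (Ideal.Quotient.mk sq.I) = β.comp φ := by
      have h0 := congrArg (fun m => Scheme.Hom.appTop m) (congrArg CommaMorphism.left hpq)
      change (pV.left ≫ Spec.map (CommRingCat.ofHom (Ideal.Quotient.mk sq.I))).appTop =
        (q.left ≫ Spec.map (CommRingCat.ofHom φ)).appTop at h0
      rw [Scheme.Hom.comp_appTop, Scheme.Hom.comp_appTop] at h0
      have h1 := congrArg (fun m => (Scheme.ΓSpecIso (CommRingCat.of sq.A)).inv ≫ m) h0
      simp only [← Scheme.ΓSpecIso_inv_naturality_assoc] at h1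
      exact congrArg CommRingCat.Hom.hom h1
    have hker : ∀ x ∈ sq.I.map φ, β x = 0 := by
      have : sq.I.map φ ≤ RingHom.ker β := by
        rw [Ideal.map_le_iff_le_comap]
        intro x hx
        rw [Ideal.mem_comap, RingHom.mem_ker, ← RingHom.comp_apply, ← hring, RingHom.comp_apply,
          Ideal.Quotient.eq_zero_iff_mem.2 hx, map_zero]
      exact fun x hx => this hx
    let γ := Ideal.Quotient.lift (sq.I.map φ) β hker
    let rl : V.left ⟶ sq'.ptT.left := V.left.toSpecΓ ≫ Spec.map (CommRingCat.ofHom γ)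
    have hrj : rl ≫ Spec.map (CommRingCat.ofHom (Ideal.Quotient.mk (sq.I.map φ))) = q.left := by
      rw [gen q.left]
      simp only [rl, Category.assoc, ← Spec.map_comp]
      rfl
    refine ⟨Over.homMk rl ?_, Over.OverMorphism.ext hrj, ?_⟩
    · change rl ≫ Spec.map (CommRingCat.ofHom (Ideal.Quotient.mk (sq.I.map φ))) ≫ sq'.str = V.hom
      rw [← Category.assoc, hrj]
      exact Over.w q
    · change (AlgSp.yon S).map _ ≫ (AlgSp.yon S).map _ ≫ sq.top = _
      rw [← Functor.map_comp_assoc]
      refine congrArg (fun m => (AlgSp.yon S).map m ≫ sq.top) (Over.OverMorphism.ext ?_)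
      change rl ≫ Spec.map _ = pV.left
      rw [gen pV.left]
      simp only [rl, Category.assoc, ← Spec.map_comp]
      refine congrArg (fun m => V.left.toSpecΓ ≫ Spec.map m) (CommRingCat.hom_ext ?_)
      refine Ideal.Quotient.ringHom_ext (RingHom.ext fun x => ?_)
      exact (RingHom.congr_fun hring x).symm
  rw [← hr1, Functor.map_comp, Category.assoc, htop]
  exact hr2

end Groth.Agent.S12195
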