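import Groth.Statements.S12196
import Groth.Agent.AlgSpPerfLib.UnitExt
import Groth.Agent.AlgSpPerfLib.Shifts

set_option autoImplicit false
set_option backward.isDefEq.respectTransparency false
set_option backward.isDefEq.respectTransparency.types false
set_option maxHeartbeats 1000000
set_option synthInstance.maxHeartbeats 200000
universe u
open CategoryTheory CategoryTheory.Limits AlgebraicGeometry Opposite
open AlgSp
open Groth.Agent CategoryTheory.Abelian

namespace Groth.Agent.S12196

attribute [local instance] HasDerivedCategory.standard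

theorem isPerfect_unit {S : Scheme.{u}} {X : AlgSp.Space S} :
    AlgSp.IsPerfectEtD (DCoh.inDMod (AlgSp.OEtRing X.obj) (AlgSp.unitModEt X.obj)) := by
  intro U
  refine ⟨PUnit, fun _ => U, fun _ => 𝟙 U, ?_, fun _ => ⟨(HomologicalComplex.single _ (ComplexShape.up ℤ) 0).obj
    (SheafOfModules.unit (AlgSp.OEtOn U)), ?_, ⟨?_⟩⟩⟩
  · exact (AlgSp.ofArrows_mem_etPre_iff _ _).2 fun x => ⟨⟨⟩, x, rfl⟩
  · refine ⟨⟨0, 0, fun i hi => HomologicalComplex.isZero_single_obj_X (ComplexShape.up ℤ) 0 _ i (by omega)⟩, fun i => ?_⟩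
    by_cases h : i = 0
    · subst h
      let e := HomologicalComplex.singleObjXSelf (ComplexShape.up ℤ) 0 (SheafOfModules.unit (AlgSp.OEtOn U))
      refine ⟨1, e.hom ≫ Sigma.ι (fun _ : ULift.{u + 1} (Fin 1) => SheafOfModules.unit (AlgSp.OEtOn U)) ⟨0⟩,
        Sigma.desc (fun _ : ULift.{u + 1} (Fin 1) => 𝟙 (SheafOfModules.unit (AlgSp.OEtOn U))) ≫ e.inv, ?_⟩
      erw [Category.assoc, Sigma.ι_desc_assoc]
      rw [Category.id_comp, e.hom_inv_id]
    · exact ⟨0, 0, 0, (HomologicalComplex.isZero_single_obj_X (ComplexShape.up ℤ) 0 _ i h).eq_of_src _ _⟩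
  · exact ((AlgSp.resModEt U).mapDerivedCategorySingleFunctor 0).app (AlgSp.unitModEt X.obj) ≪≫
      (DerivedCategory.singleFunctorIsoCompQ _ 0).app _

/-- Let X be a quasi-compact algebraic space, quasi-separated over a quasi-separated base scheme S. Then
there is an integer n, depending only on X, such that H^q(X, M) = 0 for every quasi-coherent
O_X-module M on the small etale site of X and every q ≥ n. (The published statement moreover
produces the bound from an affine etale surjective chart U → X with fibre degree d and affine etale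
surjective charts of the quotients U_p with fibre degrees d_p, as max(d_p + p); this row asserts
only that a bound exists. Quasi-separatedness is taken relative to S together with S
quasi-separated, which gives the absolute notion.) -/
theorem result {S : Scheme.{u}} [QuasiSeparatedSpace ↥S] (X : AlgSp.Space S)
    (hqc : AlgSp.IsQuasiCompactSp X.obj) (hqs : AlgSp.IsQuasiSeparatedSp X.obj) :
    ∃ n : ℕ, ∀ (M : AlgSp.ModEt X.obj), M.IsQuasicoherent → ∀ q : ℕ, n ≤ q →
      Subsingleton (AlgSp.HModEt X.obj M q) := by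
  obtain ⟨a, b, -, h⟩ := AlgSpPerfLib.vanishes_of_isPerfect hqc hqs _ (isPerfect_unit (X := X))
  obtain ⟨U, p, hU, hp, hs⟩ := AlgSpLib.exists_affine_chart hqc
  haveI := hU
  haveI : EnoughInjectives (AlgSp.ModEt X.obj) := ModEtInjLib.enoughInjectives_sheaf (AlgSp.OEtRing X.obj)
  haveI : HasExt.{u + 1} (AlgSp.ModEt X.obj) := hasExt_of_enoughInjectives.{u + 1} _
  refine ⟨(|a| + |b|).toNat + 1, fun M hM q hq => ?_⟩
  obtain ⟨q, rfl⟩ := Nat.exists_eq_succ_of_ne_zero (show q ≠ 0 by omega)
  refine AlgSpPerfLib.subsingleton_H_of_ext p hp hs X.property hqs q M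
    (subsingleton_of_forall_eq 0 fun x => Abelian.Ext.homEquiv.injective ?_)
  have hq' : |a| + |b| ≤ (q : ℤ) := by have := Int.self_le_toNat (|a| + |b|); omega
  have := le_abs_self a; have := neg_le_abs a; have := le_abs_self b; have := neg_le_abs b
  have hz : ∀ i : ℤ, i ≠ 0 → IsZero (DCoh.HDMod (AlgSp.OEtRing X.obj) (DCoh.inDMod (AlgSp.OEtRing X.obj) M) i) :=
    fun i hi => by
      rcases lt_or_gt_of_ne hi with hi | hi
      · exact DerivedCategory.isZero_of_isGE ((DerivedCategory.singleFunctor (AlgSp.ModEt X.obj) 0).obj M) 0 i hi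
      · exact DerivedCategory.isZero_of_isLE ((DerivedCategory.singleFunctor (AlgSp.ModEt X.obj) 0).obj M) 0 i hi
  have hL : DCoh.IsQCohDMod (AlgSp.OEtRing X.obj) (DCoh.inDMod (AlgSp.OEtRing X.obj) M) := fun i => by
    by_cases hi : i = 0
    · subst hi
      exact ObjectProperty.prop_of_iso (SheafOfModules.isQuasicoherent (AlgSp.OEtRing X.obj))
        ((DerivedCategory.singleFunctorCompHomologyFunctorIso (AlgSp.ModEt X.obj) 0).app M).symm hM
    · exact AlgSpRlimLib.isQuasicoherent_of_isZero (hz i hi) hM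
  exact (h _ (AlgSpPerfLib.isQCoh_shift hL _)
    (fun i h1 h2 => (hz _ (by push_cast; omega)).of_iso (AlgSpPerfLib.hShift _ _ i _ rfl)) _).trans
    (h _ (AlgSpPerfLib.isQCoh_shift hL _)
      (fun i h1 h2 => (hz _ (by push_cast; omega)).of_iso (AlgSpPerfLib.hShift _ _ i _ rfl)) _).symm

end Groth.Agent.S12196
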