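import Groth.Statements.S12205
import Groth.Agent.TorSESLib.Basic

set_option autoImplicit false
universe u
open CategoryTheory
open scoped TensorProduct
open CAlg

namespace Groth.Agent.S12205

/-- Let I be an ideal of a commutative ring R and M an R-module such that M/IM is flat over R/I and
Tor_1^R(R/I, M) = 0. Then Tor_1^R(N, M) = 0 for every R-module N annihilated by I^m for some m ≥ 0.
Here Tor_1^R(N, M) is the first left derived functor of N ⊗_R − evaluated at M. -/
theorem result (R : Type u) [CommRing R] (I : Ideal R) (M : Type u)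
    [AddCommGroup M] [Module R M] [Module.Flat (R ⧸ I) ((R ⧸ I) ⊗[R] M)]
    (h : Limits.IsZero (((CategoryTheory.Tor (ModuleCat.{u} R) 1).obj (ModuleCat.of R (R ⧸ I))).obj (ModuleCat.of R M)))
    (N : Type u) [AddCommGroup N] [Module R N] (m : ℕ) (hN : ∀ a : R, a ∈ I ^ m → ∀ x : N, a • x = 0) :
    Limits.IsZero (((CategoryTheory.Tor (ModuleCat.{u} R) 1).obj (ModuleCat.of R N)).obj (ModuleCat.of R M)) := by
  let P := (projectiveResolution (ModuleCat.of R M)).complex
  let d₂ : P.X 2 →ₗ[R] P.X 1 := (P.d 2 1).hom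
  let d₁ : P.X 1 →ₗ[R] P.X 0 := (P.d 1 0).hom
  let ε : P.X 0 →ₗ[R] M := ((projectiveResolution (ModuleCat.of R M)).π.f 0).hom
  have hε : Function.Exact d₁ ε := by
    have := (projectiveResolution (ModuleCat.of R M)).exact₀
    rw [ShortComplex.ShortExact.moduleCat_exact_iff_function_exact] at this
    exact this
  have hεs : Function.Surjective ε := (ModuleCat.epi_iff_surjective _).1
    (inferInstanceAs (Epi ((projectiveResolution (ModuleCat.of R M)).π.f 0)))
  have tor_iff : ∀ (X : Type u) [AddCommGroup X] [Module R X],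
      Limits.IsZero (((CategoryTheory.Tor (ModuleCat.{u} R) 1).obj (ModuleCat.of R X)).obj (ModuleCat.of R M)) ↔
        Function.Exact (d₂.lTensor X) (d₁.lTensor X) := by
    intro X _ _
    rw [(TorSESLib.torIso (ModuleCat.of R M) (ModuleCat.of R X) 1).isZero_iff,
      ← HomologicalComplex.exactAt_iff_isZero_homology,
      HomologicalComplex.exactAt_iff' _ 2 1 0 (by simp [ChainComplex.prev]) (by simp),
      ShortComplex.ShortExact.moduleCat_exact_iff_function_exact]
    rfl
  have hdd : ∀ (X : Type u) [AddCommGroup X] [Module R X] (z : X ⊗[R] P.X 2),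
      d₁.lTensor X (d₂.lTensor X z) = 0 := fun X _ _ z => by
    rw [← LinearMap.lTensor_comp_apply, show d₁ ∘ₗ d₂ = 0 from
      congrArg ModuleCat.Hom.hom (P.d_comp_d 2 1 0), LinearMap.lTensor_zero, LinearMap.zero_apply]
  have main : ∀ (K G X : Type u) [AddCommGroup K] [Module R K] [AddCommGroup G] [Module R G]
      [AddCommGroup X] [Module R X] (j : K →ₗ[R] G) (qR : G →ₗ[R] X), Function.Exact j qR →
      Function.Surjective qR → Function.Injective (j.rTensor M) →
      Function.Exact (d₂.lTensor G) (d₁.lTensor G) → Function.Exact (d₂.lTensor X) (d₁.lTensor X) := by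
    intro K G X _ _ _ _ _ _ j qR hjq hq hinj hF
    intro x
    refine ⟨fun hx => ?_, by rintro ⟨z, rfl⟩; exact hdd X z⟩
    have comm : ∀ {A B Y Z : Type u} [AddCommGroup A] [Module R A] [AddCommGroup B] [Module R B]
        [AddCommGroup Y] [Module R Y] [AddCommGroup Z] [Module R Z] (g : A →ₗ[R] B) (d : Y →ₗ[R] Z)
        (w : A ⊗[R] Y), d.lTensor B (g.rTensor Y w) = g.rTensor Z (d.lTensor A w) := by
      intro A B Y Z _ _ _ _ _ _ _ _ g d w
      rw [← LinearMap.comp_apply, LinearMap.lTensor_comp_rTensor, ← LinearMap.rTensor_comp_lTensor]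
      rfl
    obtain ⟨y, rfl⟩ := LinearMap.rTensor_surjective (P.X 1) hq x
    rw [comm] at hx
    obtain ⟨k, hk⟩ := (rTensor_exact (P.X 0) hjq hq _).1 hx
    have hk0 : ε.lTensor _ k = 0 := hinj (by
      rw [← comm, hk, map_zero, ← LinearMap.lTensor_comp_apply, hε.linearMap_comp_eq_zero,
        LinearMap.lTensor_zero, LinearMap.zero_apply])
    obtain ⟨k₁, rfl⟩ := (lTensor_exact K hε hεs _).1 hk0
    obtain ⟨w, hw⟩ := (hF (y - j.rTensor (P.X 1) k₁)).1 (by rw [map_sub, comm, hk, sub_self])
    refine ⟨qR.rTensor (P.X 2) w, ?_⟩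
    rw [comm, hw, map_sub, ← LinearMap.rTensor_comp_apply, hjq.linearMap_comp_eq_zero,
      LinearMap.rTensor_zero, LinearMap.zero_apply, sub_zero]
  classical
  have key : ∀ (X : Type u) [AddCommGroup X] [Module R X], (∀ a ∈ I, ∀ x : X, a • x = 0) →
      Function.Exact (d₂.lTensor X) (d₁.lTensor X) := by
    intro X _ _ hX
    have hT : Module.IsTorsionBySet R X I := fun x a => hX a a.2 x
    letI := hT.module
    haveI : IsScalarTower R (R ⧸ I) X := hT.isScalarTower
    let q : (X →₀ (R ⧸ I)) →ₗ[R ⧸ I] X := Finsupp.linearCombination (R ⧸ I) id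
    have hq : Function.Surjective q := fun x => ⟨Finsupp.single x 1, by simp [q]⟩
    let qR : (X →₀ (R ⧸ I)) →ₗ[R] X := q.restrictScalars R
    let j : LinearMap.ker q →ₗ[R] (X →₀ (R ⧸ I)) := (LinearMap.ker q).subtype.restrictScalars R
    have hjq : Function.Exact j qR := LinearMap.exact_subtype_ker_map q
    have hF : Function.Exact (d₂.lTensor (X →₀ (R ⧸ I))) (d₁.lTensor (X →₀ (R ⧸ I))) := by
      let c : ∀ (Y : Type u) [AddCommGroup Y] [Module R Y],
          (X →₀ (R ⧸ I)) ⊗[R] Y ≃ₗ[R] (X →₀ R) ⊗[R] ((R ⧸ I) ⊗[R] Y) := fun Y _ _ =>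
        ((TensorProduct.finsuppScalarLeft R (R ⧸ I) X).symm.rTensor Y).trans
          (TensorProduct.assoc R (X →₀ R) (R ⧸ I) Y)
      refine (Function.Exact.iff_of_ladder_addEquiv (e₁ := (c _).toAddEquiv) (e₂ := (c _).toAddEquiv)
        (e₃ := (c _).toAddEquiv)
        (f₁₂ := (d₂.lTensor (X →₀ (R ⧸ I))).toAddMonoidHom)
        (f₂₃ := (d₁.lTensor (X →₀ (R ⧸ I))).toAddMonoidHom)
        (g₁₂ := ((d₂.lTensor (R ⧸ I)).lTensor (X →₀ R)).toAddMonoidHom)
        (g₂₃ := ((d₁.lTensor (R ⧸ I)).lTensor (X →₀ R)).toAddMonoidHom) ?_ ?_).1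
        (Module.Flat.lTensor_exact (X →₀ R) ((tor_iff _).1 h))
      all_goals
        ext z
        induction z using TensorProduct.induction_on with
        | zero => simp
        | add x y hx hy => simp_all
        | tmul g y =>
          obtain ⟨g, rfl⟩ := (TensorProduct.finsuppScalarLeft R (R ⧸ I) X).surjective g
          induction g using TensorProduct.induction_on with
          | zero => simp
          | add x y hx hy => simp_all [TensorProduct.add_tmul]
          | tmul a b => simp [c]
    have hinj : Function.Injective (j.rTensor M) := by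
      let e : ∀ (Y : Type u) [AddCommGroup Y] [Module R Y] [Module (R ⧸ I) Y] [IsScalarTower R (R ⧸ I) Y],
          Y ⊗[R ⧸ I] ((R ⧸ I) ⊗[R] M) ≃ₗ[R ⧸ I] Y ⊗[R] M := fun Y _ _ _ _ =>
        TensorProduct.AlgebraTensorModule.cancelBaseChange R (R ⧸ I) (R ⧸ I) Y M
      have h1 : Function.Injective ((LinearMap.ker q).subtype.rTensor ((R ⧸ I) ⊗[R] M)) :=
        Module.Flat.rTensor_preserves_injective_linearMap _ (Submodule.injective_subtype _)
      have h2 : ∀ z, j.rTensor M (e (LinearMap.ker q) z) =
          e (X →₀ (R ⧸ I)) ((LinearMap.ker q).subtype.rTensor ((R ⧸ I) ⊗[R] M) z) := fun z => by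
        induction z using TensorProduct.induction_on with
        | zero => simp
        | add x y hx hy => simp_all
        | tmul k y =>
          induction y using TensorProduct.induction_on with
          | zero => simp
          | add x y hx hy => simp_all [TensorProduct.tmul_add]
          | tmul a m => simp [e, j]
      intro a b hab
      obtain ⟨a, rfl⟩ := (e (LinearMap.ker q)).surjective a
      obtain ⟨b, rfl⟩ := (e (LinearMap.ker q)).surjective b
      rw [h2, h2] at hab
      rw [h1 ((e _).injective hab)]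
    exact main (LinearMap.ker q) (X →₀ (R ⧸ I)) X j qR hjq hq hinj hF
  induction m generalizing N with
  | zero =>
    haveI : Subsingleton N := ⟨fun x y => by
      rw [← one_smul R x, ← one_smul R y, hN 1 (by simp) x, hN 1 (by simp) y]⟩
    exact TorSESLib.isZero_tor_of_flat (ModuleCat.of R M) (ModuleCat.of R N) one_pos
  | succ m ih =>
    let S : Submodule R N := I ^ m • ⊤
    let T : ShortComplex (ModuleCat.{u} R) := ShortComplex.moduleCatMk S.subtype S.mkQ
      (LinearMap.ext fun y => (Submodule.Quotient.mk_eq_zero S).2 y.2)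
    have hT : T.ShortExact :=
      { exact := (ShortComplex.ShortExact.moduleCat_exact_iff_function_exact _).2
          (LinearMap.exact_subtype_mkQ S)
        mono_f := (ModuleCat.mono_iff_injective _).2 S.injective_subtype
        epi_g := (ModuleCat.epi_iff_surjective _).2 S.mkQ_surjective }
    refine TorSESLib.isZero_tor_middle T (ModuleCat.of R M) hT 1 ((tor_iff S).2 (key S ?_)) (ih (N ⧸ S) ?_)
    · rintro a ha ⟨x, hx⟩
      refine Subtype.ext ?_
      show a • x = 0
      refine Submodule.smul_induction_on hx (fun b hb n _ => ?_) (fun u v hu hv => by rw [smul_add, hu, hv, add_zero])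
      rw [smul_smul]
      exact hN _ (by rw [pow_succ']; exact Ideal.mul_mem_mul ha hb) n
    · intro a ha x
      obtain ⟨y, rfl⟩ := S.mkQ_surjective x
      rw [← map_smul]
      exact (Submodule.Quotient.mk_eq_zero S).2 (Submodule.smul_mem_smul ha Submodule.mem_top)

end Groth.Agent.S12205
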