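import Groth.Statements.S12206
import Mathlib.Algebra.Module.FinitePresentation
-- import your own Groth.Agent.* helpers here

set_option autoImplicit false
set_option linter.style.haveILetI false
universe u
open CAlg

namespace Groth.Agent.S12206

/-- Let φ : N → M be a linear map from a finite R-module N to a coherent R-module M, where coherent
means finitely generated with every finitely generated submodule finitely presented. Then the kernel
of φ is finitely generated, and the image of φ and the cokernel M/φ(N) are coherent. -/
theorem result (R : Type u) [CommRing R] {N M : Type u}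
    [AddCommGroup N] [Module R N] [AddCommGroup M] [Module R M] [Module.Finite R N]
    (hM : Module.Finite R M ∧ ∀ P : Submodule R M, P.FG → Module.FinitePresentation R P)
    (φ : N →ₗ[R] M) :
    (LinearMap.ker φ).FG ∧
    (Module.Finite R (LinearMap.range φ) ∧
      ∀ P : Submodule R (LinearMap.range φ), P.FG → Module.FinitePresentation R P) ∧
    (Module.Finite R (M ⧸ LinearMap.range φ) ∧
      ∀ P : Submodule R (M ⧸ LinearMap.range φ), P.FG → Module.FinitePresentation R P) := by
  obtain ⟨hMf, hMc⟩ := hM
  haveI := hMf
  have hr : (LinearMap.range φ).FG := Module.Finite.iff_fg.1 inferInstance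
  haveI := hMc _ hr
  refine ⟨?_, ⟨inferInstance, fun P hP => ?_⟩, inferInstance, fun P hP => ?_⟩
  · rw [← LinearMap.ker_rangeRestrict]
    exact Module.FinitePresentation.fg_ker _ φ.surjective_rangeRestrict
  · haveI := hMc _ (hP.map (LinearMap.range φ).subtype)
    exact Module.FinitePresentation.of_equiv (Submodule.equivMapOfInjective (LinearMap.range φ).subtype Subtype.val_injective P).symm
  · let P' := P.comap (LinearMap.range φ).mkQ
    have hP' : P'.FG := by
      refine Submodule.fg_of_fg_map_of_fg_inf_ker (LinearMap.range φ).mkQ ?_ ?_
      · rwa [Submodule.map_comap_eq_of_surjective (Submodule.mkQ_surjective _)]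
      · rw [Submodule.ker_mkQ, inf_eq_right.2 (fun x hx => by simp [P', (Submodule.Quotient.mk_eq_zero _).2 hx])]
        exact hr
    haveI := hMc _ hP'
    let l : P' →ₗ[R] P := (LinearMap.range φ).mkQ.restrict fun x hx => hx
    refine Module.finitePresentation_of_surjective l ?_ ?_
    · rintro ⟨y, hy⟩
      obtain ⟨x, rfl⟩ := Submodule.mkQ_surjective _ y
      exact ⟨⟨x, hy⟩, rfl⟩
    · have : LinearMap.ker l = (LinearMap.range φ).comap P'.subtype := by
        ext x
        simp [l, Subtype.ext_iff, LinearMap.restrict_apply, Submodule.Quotient.mk_eq_zero]
      rw [this]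
      refine Submodule.fg_of_fg_map_injective P'.subtype Subtype.val_injective ?_
      rw [Submodule.map_comap_eq, Submodule.range_subtype, inf_eq_right.2 (fun x hx => by simp [P', (Submodule.Quotient.mk_eq_zero _).2 hx])]
      exact hr

end Groth.Agent.S12206
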