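import Groth.Statements.S12209
import Mathlib.RingTheory.Flat.EquationalCriterion
-- import your own Groth.Agent.* helpers here

set_option autoImplicit false
set_option linter.style.haveILetI false
universe u
open CAlg

namespace Groth.Agent.S12209

/-- Let (R_i) be a system of commutative rings over a nonempty directed preorder, with colimit R, and
let M be an R-module which is flat as an R_i-module for every i (the R_i-module structure being
restriction of scalars along R_i → R). Then M is flat as an R-module. -/
theorem result {ι : Type u} [Preorder ι] [Nonempty ι] [IsDirectedOrder ι]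
    (G : ι → Type u) [∀ i, CommRing (G i)] (f : ∀ i j, i ≤ j → G i →+* G j)
    [DirectedSystem G fun i j h => f i j h]
    (M : Type u) [AddCommGroup M] [Module (Ring.DirectLimit G fun i j h => f i j h) M]
    (hflat : ∀ i, letI : Module (G i) M := Module.compHom M (Ring.DirectLimit.of G (fun i j h => f i j h) i);
      Module.Flat (G i) M) :
    Module.Flat (Ring.DirectLimit G fun i j h => f i j h) M := by
  classical
  rw [Module.Flat.iff_forall_isTrivialRelation]
  intro l a x h
  have := fun q => Ring.DirectLimit.exists_of (G := G) (f := fun i j h => f i j h) (a q)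
  choose i r hr using this
  obtain ⟨j, hj⟩ := Finset.exists_le (Finset.univ.image i)
  let r' : Fin l → G j := fun q => f (i q) j (hj _ (Finset.mem_image_of_mem _ (Finset.mem_univ q))) (r q)
  have hr' : ∀ q, Ring.DirectLimit.of G (fun i j h => f i j h) j (r' q) = a q := fun q => by
    rw [← hr q]
    exact Ring.DirectLimit.of_f _ _
  letI : Module (G j) M := Module.compHom M (Ring.DirectLimit.of G (fun i j h => f i j h) j)
  haveI : Module.Flat (G j) M := hflat j
  have h' : ∑ q, r' q • x q = 0 := by
    rw [← h]
    refine Finset.sum_congr rfl fun q _ => ?_
    show Ring.DirectLimit.of G (fun i j h => f i j h) j (r' q) • x q = _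
    rw [hr']
  obtain ⟨k, c, y, hx, hc⟩ := Module.Flat.isTrivialRelation_of_sum_smul_eq_zero h'
  refine ⟨k, fun q s => Ring.DirectLimit.of G (fun i j h => f i j h) j (c q s), y, hx, fun s => ?_⟩
  have := congrArg (Ring.DirectLimit.of G (fun i j h => f i j h) j) (hc s)
  rw [map_sum, map_zero] at this
  simpa only [map_mul, hr'] using this

end Groth.Agent.S12209
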