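import Groth.Statements.S12210
import Groth.Agent.AffCodimLib.Apply

set_option autoImplicit false
universe u
open CategoryTheory CategoryTheory.Limits AlgebraicGeometry
open Divisors

namespace Groth.Agent.S12210

/-- Let X be locally Noetherian and U an open subscheme whose inclusion is an affine morphism. If ξ is a
point outside U which is maximal under generization among points outside U (a generic point of an
irreducible component of the complement) and ξ lies in the closure of U, then the local ring of X at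
ξ has dimension exactly one. (The case X separated and U an affine open is the corresponding special
case, since then the inclusion of U is affine.) -/
theorem result (X : Scheme.{u}) [IsLocallyNoetherian X]
    (U : X.Opens) [IsAffineHom U.ι] (ξ : X) (hξ : ξ ∉ U) (hgen : ∀ y : X, y ∉ U → y ⤳ ξ → y = ξ)
    (hcl : ξ ∈ closure (U : Set X)) :
    ringKrullDim (X.presheaf.stalk ξ) = 1 := by
  obtain ⟨d, h⟩ := AffCodimLib.exists_nat_dim ξ
  have h1 := AffCodimLib.dim_le_one_of_affine U ξ hξ hgen
  have h0 : ringKrullDim (X.presheaf.stalk ξ) ≠ 0 := fun h0 => by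
    obtain ⟨V, hV, hξV, -⟩ := exists_isAffineOpen_mem_and_subset (x := ξ) (U := ⊤) trivial
    haveI : IsNoetherianRing Γ(X, V) := IsLocallyNoetherian.component_noetherian ⟨V, hV⟩
    obtain ⟨q, hq⟩ := hV.range_fromSpec.ge hξV
    have hqh : q.asIdeal.height = 0 := by
      have := AffCodimLib.height_eq_stalk hV q
      rw [hq, h0] at this
      exact WithBot.coe_inj.1 this
    have hqmin : q.asIdeal ∈ minimalPrimes Γ(X, V) := Ideal.height_eq_zero_iff.1 hqh
    classical
    let T := (minimalPrimes.finite_of_isNoetherianRing Γ(X, V)).toFinset.erase q.asIdeal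
    have hex : ∃ g, g ∉ q.asIdeal ∧ ∀ P ∈ T, g ∈ P := by
      have : ¬ T.inf id ≤ q.asIdeal := by
        intro hle
        obtain ⟨P, hP, hPle⟩ := (Ideal.IsPrime.inf_le' q.isPrime).1 hle
        obtain ⟨h1, h2⟩ := Finset.mem_erase.1 hP
        exact h1 (le_antisymm hPle (hqmin.2 ((Set.Finite.mem_toFinset _).1 h2).1 hPle))
      obtain ⟨g, hg, hgq⟩ := SetLike.not_le_iff_exists.1 this
      exact ⟨g, hgq, fun P hP => (Finset.inf_le hP : T.inf id ≤ P) hg⟩
    obtain ⟨g, hgq, hg⟩ := hex
    obtain ⟨y, hyW, hyU⟩ := mem_closure_iff.1 hcl _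
      (hV.fromSpec.isOpenEmbedding.isOpenMap _ (PrimeSpectrum.basicOpen g).2) ⟨q, hgq, hq⟩
    obtain ⟨r, hr, rfl⟩ := hyW
    obtain ⟨P, hP, hPr⟩ := Ideal.exists_minimalPrimes_le (I := ⊥) (J := r.asIdeal) bot_le
    have hPq : P = q.asIdeal := by
      by_contra hne'
      exact hr (hPr (hg P (Finset.mem_erase.2 ⟨hne', (Set.Finite.mem_toFinset _).2 hP⟩)))
    have hspec : q ⤳ r := (PrimeSpectrum.le_iff_specializes q r).1 (by rw [hPq] at hPr; exact hPr)
    exact hξ (hq ▸ (hspec.map hV.fromSpec.continuous).mem_open U.2 hyU)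
  rw [h] at h1 h0 ⊢
  have h1' : d ≤ 1 := by exact_mod_cast h1
  have h0' : d ≠ 0 := fun e => h0 (by rw [e]; rfl)
  obtain rfl : d = 1 := by omega
  rfl

end Groth.Agent.S12210
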