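import Groth.Statements.S12216
import Groth.Agent.CSALib.Split
import Groth.Agent.CSALib.Descent
-- import your own Groth.Agent.* helpers here

set_option autoImplicit false
universe u v w
open scoped TensorProduct
open Curves

namespace Groth.Agent.S12216

/-- (1) ⇔ (3): a K-algebra A is finite central simple over the field K (finite-dimensional, with centre
K and no non-trivial two-sided ideals) if and only if, for an algebraic closure K̄ of K, the
K̄-algebra K̄ ⊗_K A is isomorphic to a matrix algebra Mat(d × d, K̄) for some d ≥ 1. -/
theorem result (K : Type u) [Field K] (A : Type v) [Ring A] [Algebra K A] :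
    (Algebra.IsCentral K A ∧ IsSimpleRing A ∧ FiniteDimensional K A) ↔
      Curves.Splits K A (AlgebraicClosure K) := by
  refine ⟨fun ⟨_, _, _⟩ => CSALib.splits_of_isSepClosed K A _, ?_⟩
  rintro ⟨n, hn, ⟨e⟩⟩
  have : NeZero n := ⟨hn⟩
  have : Module.Finite (AlgebraicClosure K) (AlgebraicClosure K ⊗[K] A) := Module.Finite.equiv e.toLinearEquiv.symm
  have : FiniteDimensional K A := Module.finite_of_finrank_pos (by
    rw [← Module.finrank_baseChange (R := AlgebraicClosure K) (S := K) (M' := A)]
    haveI := e.toEquiv.nontrivial
    exact Module.finrank_pos)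
  have : IsSimpleRing (AlgebraicClosure K ⊗[K] A) := CSALib.simple_of_equiv e.symm
  have : Algebra.IsCentral (AlgebraicClosure K) (AlgebraicClosure K ⊗[K] A) := CSALib.central_of_equiv e.symm
  exact ⟨CSALib.central_of_baseChange (k := K) (AlgebraicClosure K), CSALib.simple_of_baseChange (k := K) (AlgebraicClosure K), inferInstance⟩

end Groth.Agent.S12216
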