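import Groth.Statements.S12217
import Mathlib
import Groth.Agent.GorLib.Polynomial
import Groth.Agent.GorLib.FlatLocal
import Groth.Agent.CohenLib.FlatUnramified
-- import your own Groth.Agent.* helpers here

set_option autoImplicit false
universe u
open Curves

namespace Groth.Agent.S12217

/-- In this form A is the local ring of the curve at the point, and a Gorenstein scheme has Gorenstein
local rings. Let k be an algebraically closed field and A a Gorenstein local ring whose completion
with respect to its maximal ideal is isomorphic to the multicross ring with n ≥ 2 branches, the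
subring of (k[[t]])^n consisting of the n-tuples of power series having a common constant term. Then
n = 2: a Gorenstein multicross singularity is a node. The isomorphism is given as an injective ring
map from the completion to (k[[t]])^n with that subring as its range. -/
theorem result (k : Type u) [Field k] [IsAlgClosed k]
    (A : Type u) [CommRing A] [LocCoh.IsGorensteinLocalRing A] (n : ℕ) (hn : 2 ≤ n)
    (φ : AdicCompletion (IsLocalRing.maximalIdeal A) A →+* (Fin n → PowerSeries k))
    (hinj : Function.Injective φ)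
    (hrange : Set.range φ = {f : Fin n → PowerSeries k | ∀ i j : Fin n, PowerSeries.constantCoeff (f i) = PowerSeries.constantCoeff (f j)}) :
    n = 2 := by
  classical
  by_contra hne
  let B := AdicCompletion (IsLocalRing.maximalIdeal A) A
  obtain ⟨hBl, hBn, hBh, hmax, -⟩ := CohenLib.completion_facts A (IsLocalRing.maximalIdeal A) (IsLocalRing.maximalIdeal.isMaximal A).ne_top
  haveI : Module.Flat A B := AdicCompletion.flat_of_isNoetherian _
  have hmem : ∀ f : Fin n → PowerSeries k, f ∈ Set.range φ ↔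
      ∀ i j, PowerSeries.constantCoeff (f i) = PowerSeries.constantCoeff (f j) := fun f => by rw [hrange]; rfl
  have hconst : ∀ (b : B) i j, PowerSeries.constantCoeff (φ b i) = PowerSeries.constantCoeff (φ b j) :=
    fun b => (hmem (φ b)).1 ⟨b, rfl⟩
  let i0 : Fin n := ⟨0, by omega⟩
  let i1 : Fin n := ⟨1, by omega⟩
  let i2 : Fin n := ⟨2, by omega⟩
  -- Gorenstein property of the completion
  haveI : IsLocalRing (B ⧸ (IsLocalRing.maximalIdeal A).map (algebraMap A B)) :=
    GorLib.isLocalRing_quotient (by rw [hmax]; exact (IsLocalRing.maximalIdeal.isMaximal B).ne_top)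
  have hB : LocCoh.IsGorensteinLocalRing B := by
    refine (GorLib.gorenstein_flat_iff A B).2 ⟨inferInstance, GorLib.gorenstein_of_maximalIdeal_eq_bot ?_⟩
    rw [GorLib.maximalIdeal_quotient, Ideal.map_eq_bot_iff_le_ker, Ideal.mk_ker, hmax]
  -- the maximal ideal
  have hm : ∀ b : B, b ∈ IsLocalRing.maximalIdeal B ↔ PowerSeries.constantCoeff (φ b i0) = 0 := by
    intro b
    rw [IsLocalRing.mem_maximalIdeal, mem_nonunits_iff]
    refine ⟨fun hb => ?_, fun h0 hu => ?_⟩
    · by_contra h0
      apply hb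
      have hu : ∀ j, IsUnit (φ b j) := fun j => by
        rw [PowerSeries.isUnit_iff_constantCoeff, hconst b j i0]
        exact isUnit_iff_ne_zero.2 h0
      choose g hg using fun j => (hu j).exists_right_inv
      have hgr : g ∈ Set.range φ := (hmem g).2 fun i j => by
        have e : ∀ l, PowerSeries.constantCoeff (φ b i0) * PowerSeries.constantCoeff (g l) = 1 := fun l => by
          rw [← hconst b l i0, ← map_mul, hg, map_one]
        exact mul_left_cancel₀ h0 ((e i).trans (e j).symm)
      obtain ⟨c, rfl⟩ := hgr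
      refine IsUnit.of_mul_eq_one c (hinj ?_)
      rw [map_mul, map_one]
      exact funext hg
    · have h := ((hu.map φ).map (Pi.evalRingHom _ i0)).map (PowerSeries.constantCoeff (R := k))
      exact h.ne_zero h0
  obtain ⟨x, hx⟩ : (fun _ : Fin n => (PowerSeries.X : PowerSeries k)) ∈ Set.range φ := (hmem _).2 fun i j => rfl
  have hf : ∀ i, (Pi.single i (PowerSeries.X : PowerSeries k) : Fin n → PowerSeries k) ∈ Set.range φ := fun i => (hmem _).2 fun a b => by
    simp only [Pi.single_apply]; split_ifs <;> simp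
  choose f hf using hf
  have hxm : x ∈ IsLocalRing.maximalIdeal B := (hm x).2 (by rw [hx]; simp)
  have hxreg : IsSMulRegular B x := fun a b h => by
    have h' : φ x * φ a = φ x * φ b := by rw [← map_mul, ← map_mul]; exact congrArg φ h
    refine hinj (funext fun i => mul_left_cancel₀ (PowerSeries.X_ne_zero (R := k)) ?_)
    have h'' := congrFun h' i
    rwa [Pi.mul_apply, Pi.mul_apply, hx] at h''
  have hxmem : ∀ (b : B) (q : Fin n → PowerSeries k), (∀ i, φ b i = PowerSeries.X * q i) →
      (b ∈ Ideal.span {x} ↔ q ∈ Set.range φ) := by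
    intro b q hq
    rw [Ideal.mem_span_singleton]
    refine ⟨?_, ?_⟩
    · rintro ⟨c, rfl⟩
      refine ⟨c, funext fun i => mul_left_cancel₀ (PowerSeries.X_ne_zero (R := k)) ?_⟩
      rw [← hq i, map_mul, Pi.mul_apply, hx]
    · rintro ⟨c, rfl⟩
      refine ⟨c, hinj (funext fun i => ?_)⟩
      rw [hq i, map_mul, Pi.mul_apply, hx]
  let I : Ideal B := Ideal.span {x}
  have hI : I ≠ ⊤ := fun h => (IsLocalRing.maximalIdeal.isMaximal B).ne_top
    (top_le_iff.1 (h ▸ (Ideal.span_singleton_le_iff_mem _).2 hxm))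
  haveI : IsLocalRing (B ⧸ I) := GorLib.isLocalRing_quotient hI
  have hsq : ∀ a ∈ IsLocalRing.maximalIdeal B, ∀ b ∈ IsLocalRing.maximalIdeal B, a * b ∈ I := by
    intro a ha b hb
    choose qa hqa using fun i => PowerSeries.X_dvd_iff.2 ((hconst a i i0).trans ((hm a).1 ha))
    choose qb hqb using fun i => PowerSeries.X_dvd_iff.2 ((hconst b i i0).trans ((hm b).1 hb))
    refine (hxmem (a * b) (fun i => PowerSeries.X * (qa i * qb i)) fun i => ?_).2 ((hmem _).2 fun i j => ?_)
    · rw [map_mul, Pi.mul_apply, hqa, hqb]; ring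
    · simp
  have hmq : ∀ a : B, Ideal.Quotient.mk I a ∈ IsLocalRing.maximalIdeal (B ⧸ I) ↔ a ∈ IsLocalRing.maximalIdeal B := fun a => by
    rw [GorLib.maximalIdeal_quotient, Ideal.mem_map_iff_of_surjective _ Ideal.Quotient.mk_surjective]
    refine ⟨?_, fun h => ⟨a, h, rfl⟩⟩
    rintro ⟨b, hb, hba⟩
    rw [Ideal.Quotient.eq] at hba
    have := Ideal.sub_mem _ hb ((Ideal.span_singleton_le_iff_mem _).2 hxm hba)
    rwa [sub_sub_cancel] at this
  haveI : Ring.KrullDimLE 0 (B ⧸ I) := Ring.krullDimLE_zero_iff.2 fun P hP => by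
    have : IsLocalRing.maximalIdeal (B ⧸ I) ≤ P := fun y hy => by
      obtain ⟨a, rfl⟩ := Ideal.Quotient.mk_surjective y
      have h0 : Ideal.Quotient.mk I a * Ideal.Quotient.mk I a ∈ P := by
        rw [← map_mul, Ideal.Quotient.eq_zero_iff_mem.2 (hsq a ((hmq a).1 hy) a ((hmq a).1 hy))]
        exact P.zero_mem
      exact (hP.mem_or_mem h0).elim id id
    have hPm : P = IsLocalRing.maximalIdeal (B ⧸ I) := le_antisymm (IsLocalRing.le_maximalIdeal hP.ne_top) this
    rw [hPm]; infer_instance
  haveI : IsArtinianRing (B ⧸ I) := IsNoetherianRing.isArtinianRing_of_krullDimLE_zero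
  obtain ⟨s, -, hs, hsoc⟩ := GorLib.gorenstein_iff_socCyclic.1 ((GorLib.gorenstein_quotient_iff hxreg hxm).1 hB)
  have hfm : ∀ i, f i ∈ IsLocalRing.maximalIdeal B := fun i => (hm _).2 (by
    rw [hf]; simp only [Pi.single_apply]; split_ifs <;> simp)
  have hfs : ∀ i, Ideal.Quotient.mk I (f i) ∈ Ideal.span {s} := fun i => hsoc _ fun a ha => by
    obtain ⟨a, rfl⟩ := Ideal.Quotient.mk_surjective a
    rw [← map_mul, Ideal.Quotient.eq_zero_iff_mem]
    exact hsq a ((hmq a).1 ha) _ (hfm i)
  obtain ⟨c0, hc0⟩ := Ideal.mem_span_singleton'.1 (hfs i0)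
  obtain ⟨c1, hc1⟩ := Ideal.mem_span_singleton'.1 (hfs i1)
  have h01 : i0 ≠ i1 := by simp [i0, i1]
  have h02 : i0 ≠ i2 := by simp [i0, i2]
  have h12 : i1 ≠ i2 := by simp [i1, i2]
  have hf0 : f i0 ∉ I := fun h => by
    have h' := (hmem _).1 ((hxmem (f i0) (Pi.single i0 1) fun i => by
      rw [hf]; simp only [Pi.single_apply]; split_ifs <;> simp).1 h) i0 i1
    simp [h01.symm] at h'
  have hu : IsUnit c0 := by
    by_contra hnu
    apply hf0
    rw [← Ideal.Quotient.eq_zero_iff_mem, ← hc0]
    exact hs c0 hnu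
  obtain ⟨c, hc⟩ := Ideal.Quotient.mk_surjective (c1 * ((hu.unit⁻¹ : (B ⧸ I)ˣ) : B ⧸ I))
  have hrel : f i1 - c * f i0 ∈ I := by
    rw [← Ideal.Quotient.eq_zero_iff_mem, map_sub, map_mul, hc, ← hc1, ← hc0]
    linear_combination (-(c1 * s)) * hu.val_inv_mul
  have h' := (hmem _).1 ((hxmem _ (fun i => (Pi.single i1 1 : Fin n → PowerSeries k) i - φ c i * (Pi.single i0 1 : Fin n → PowerSeries k) i) fun i => by
    rw [map_sub, map_mul, Pi.sub_apply, Pi.mul_apply, hf, hf]
    simp only [Pi.single_apply]; split_ifs <;> ring).1 hrel) i1 i2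
  simp [h01.symm, h02.symm, h12.symm] at h'

end Groth.Agent.S12217
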