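import Groth.Statements.S12221
import Groth.Agent.CanExtLib.Main
import Groth.Agent.CanExtLib.Flat
import Groth.Agent.CanExtLib.Pt

set_option autoImplicit false
set_option backward.isDefEq.respectTransparency false
set_option backward.isDefEq.respectTransparency.types false
set_option linter.style.haveILetI false
set_option maxHeartbeats 1000000
universe u
open CategoryTheory AlgebraicGeometry Opposite
open Algz

namespace Groth.Agent.S12221

/-- Let A be a Noetherian ring, I ⊆ 𝔞 ideals, U the complement of V(𝔞) in Spec A and (F_n) an object of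
Coh(U, IO_U), indexed here from 0. Assume that for some Noetherian local ring R with maximal ideal 𝔪
and some ring map φ : R → A we have (1) I = 𝔪A, (2) for every point y of U lying in V(I) the
completed stalk F_y^∧ is flat as an R-module (through R → A → O_{U,y} → O_{U,y}^∧), and (3) the
cohomology groups H^0(U, F_0), H^1(U, F_0) are finitely generated over A. Then (F_n) has a canonical
extension to Spec A. -/
theorem result (A : Type u) [CommRing A] [IsNoetherianRing A] (I 𝔞 : Ideal A) (hI𝔞 : I ≤ 𝔞)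
    (G : ℕᵒᵖ ⥤ (↑(LocCoh.puncturedOpen A 𝔞) : Scheme.{u}).Modules) (hG : Formal.IsCohFormal I G)
    (R : Type u) [CommRing R] [IsNoetherianRing R] [IsLocalRing R] (φ : R →+* A)
    (h1 : I = Ideal.map φ (IsLocalRing.maximalIdeal R))
    (h2 : ∀ (y : (↑(LocCoh.puncturedOpen A 𝔞) : Scheme.{u})), (LocCoh.puncturedOpen A 𝔞).ι.base y ∈ PrimeSpectrum.zeroLocus (R := A) I →
      letI : Module R ↥(Algz.hatStalk I G y) := Module.compHom ↥(Algz.hatStalk I G y)
        ((algebraMap ((↑(LocCoh.puncturedOpen A 𝔞) : Scheme.{u}).presheaf.stalk y) (Algz.hatRing I y)).comp ((Algz.toStalk A (↑(LocCoh.puncturedOpen A 𝔞) : Scheme.{u}) y).comp φ));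
      Module.Flat R ↥(Algz.hatStalk I G y))
    (h3 : Module.Finite A (Coh.HH (↑(LocCoh.puncturedOpen A 𝔞) : Scheme.{u}) (G.obj (op 0)) 0) ∧ Module.Finite A (Coh.HH (↑(LocCoh.puncturedOpen A 𝔞) : Scheme.{u}) (G.obj (op 0)) 1)) :
    Algz.CanonicallyExtends A I (LocCoh.puncturedOpen A 𝔞) G := by
  haveI := CanExtLib.isNoetherian_opens (LocCoh.puncturedOpen A 𝔞)
  refine CanExtLib.canonicallyExtends_of_split hG h3.1 h3.2 fun n => ?_
  obtain ⟨s, b, hb, hmin⟩ := CanExtLib.exists_minimal_gens (IsLocalRing.maximalIdeal R ^ (n + 1))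
    (IsNoetherian.noetherian _)
  refine ⟨s, fun i => φ (b i), fun i => ?_, ?_⟩
  · rw [h1, ← Ideal.map_pow]
    exact Ideal.mem_map_of_mem _ (hb.le (Ideal.subset_span ⟨i, rfl⟩))
  have hJ : ∀ y : (↑(LocCoh.puncturedOpen A 𝔞) : Scheme.{u}),
      Algz.stalkIdeal I y = (IsLocalRing.maximalIdeal R).map ((Algz.toStalk A _ y).comp φ) := fun y => by
    rw [← Ideal.map_map, ← h1]
    rfl
  refine CanExtLib.exists_split hG n _ _ (fun y hy => ?_) fun y hy l hl i => ?_
  · rw [hJ y, ← Ideal.map_pow, ← hb, Ideal.map_span, ← Set.range_comp]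
    rfl
  · let ψ : R →+* (↑(LocCoh.puncturedOpen A 𝔞) : Scheme.{u}).presheaf.stalk y := (Algz.toStalk A _ y).comp φ
    letI : Module R ↥(Algz.hatStalk I G y) := Module.compHom ↥(Algz.hatStalk I G y)
      ((algebraMap ((↑(LocCoh.puncturedOpen A 𝔞) : Scheme.{u}).presheaf.stalk y) (Algz.hatRing I y)).comp ψ)
    haveI : Module.Flat R ↥(Algz.hatStalk I G y) := h2 y (CanExtLib.mem_zeroLocus_of_ne_top y hy)
    have key := CanExtLib.ind_of_flat ψ (fun r x => algebraMap_smul (Algz.hatRing I y) (ψ r) x) (n + 1) b hb hmin l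
      ((congrArg (fun K : Ideal _ => (K ^ (n + 1 + 1) • ⊤ : Submodule _ ↥(Algz.hatStalk I G y))) (hJ y)).le hl) i
    exact (congrArg (fun K : Ideal _ => (K • ⊤ : Submodule _ ↥(Algz.hatStalk I G y))) (hJ y)).ge key

end Groth.Agent.S12221
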