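import Groth.Statements.S12222
import Mathlib

set_option autoImplicit false
universe u
open Hensel

namespace Groth.Agent.S12222

/-- (11) ⇒ (1): let R be a local ring such that every finite-type R-algebra S can be written as a
product A × B with A finite over R and R → B quasi-finite at no prime lying over the maximal ideal —
concretely, S has an idempotent e with S/(1 − e) finite over R and R → S/(e) quasi-finite at no
prime over the maximal ideal. Then R is henselian. -/
theorem result (R : Type u) [CommRing R] [IsLocalRing R]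
    (h : ∀ (S : Type u) [CommRing S] [Algebra R S] [Algebra.FiniteType R S],
      ∃ e : S, IsIdempotentElem e ∧ Module.Finite R (S ⧸ Ideal.span ({1 - e} : Set S)) ∧
        ∀ (q : Ideal (S ⧸ Ideal.span ({e} : Set S))) [q.IsPrime],
          q.LiesOver (IsLocalRing.maximalIdeal R) → ¬ Algebra.QuasiFiniteAt R q) :
    HenselianLocalRing R := by
  refine ⟨fun f hf a₀ h₁ h₂ => ?_⟩
  let m := IsLocalRing.maximalIdeal R
  let hp := f /ₘ (Polynomial.X - Polynomial.C a₀)
  have hfeq : f = Polynomial.C (f.eval a₀) + (Polynomial.X - Polynomial.C a₀) * hp := by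
    rw [← Polynomial.modByMonic_X_sub_C_eq_C_eval, Polynomial.modByMonic_add_div]
  have hha : hp.eval a₀ = f.derivative.eval a₀ := by
    conv_rhs => rw [hfeq]
    simp
  let A := AdjoinRoot f
  haveI : Module.Free R A := hf.free_adjoinRoot
  haveI : Module.Finite R A := hf.finite_adjoinRoot
  let c : A := AdjoinRoot.mk f hp
  let S := Localization.Away c
  haveI : Module.Flat A S := IsLocalization.flat S (Submonoid.powers c)
  haveI : Module.Flat R S := Module.Flat.trans R A S
  haveI : Algebra.FiniteType A S := IsLocalization.finiteType_of_monoid_fg (Submonoid.powers c) S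
  haveI : Algebra.FiniteType R S := Algebra.FiniteType.trans (inferInstanceAs (Algebra.FiniteType R A)) this
  haveI : Algebra.QuasiFinite R S := Algebra.QuasiFinite.of_isLocalization (Submonoid.powers c) (S := A)
  obtain ⟨e, he, hfin, hq⟩ := h S
  let S₁ := S ⧸ Ideal.span ({1 - e} : Set S)
  haveI : Module.Finite R S₁ := hfin
  haveI : IsLocalization.Away e S₁ := IsLocalization.Away.quotient_of_isIdempotentElem he
  haveI : Module.Flat S S₁ := IsLocalization.flat S₁ (Submonoid.powers e)
  haveI : Module.Flat R S₁ := Module.Flat.trans R S S₁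
  haveI : Module.Free R S₁ := Module.free_of_flat_of_isLocalRing
  -- the point over the root `a₀` of the special fibre
  let κ := IsLocalRing.ResidueField R
  let ρ₀ : A →ₐ[R] κ := AdjoinRoot.liftAlgHom f (Algebra.ofId R κ) (IsLocalRing.residue R a₀) (by
    change f.eval₂ (IsLocalRing.residue R) (IsLocalRing.residue R a₀) = 0
    rw [Polynomial.eval₂_at_apply, IsLocalRing.residue_eq_zero_iff]
    exact h₁)
  have hc : IsUnit (ρ₀ c) := by
    have : ρ₀ c = IsLocalRing.residue R (hp.eval a₀) := by
      rw [AdjoinRoot.liftAlgHom_mk, ← Polynomial.eval₂_at_apply]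
      rfl
    rw [this, hha]
    exact h₂.map _
  let χ : S →+* κ := IsLocalization.Away.lift c (g := ρ₀.toRingHom) hc
  have hχA : ∀ a : A, χ (algebraMap A S a) = ρ₀ a := fun a => IsLocalization.Away.lift_eq c hc a
  have hχR : ∀ r : R, χ (algebraMap R S r) = IsLocalRing.residue R r := fun r => by
    rw [IsScalarTower.algebraMap_apply R A S, hχA, AlgHom.commutes]
    rfl
  have hχe : χ e = 1 := by
    rcases IsIdempotentElem.iff_eq_zero_or_one.mp (he.map χ) with h0 | h0
    · exfalso
      let χ₂ : S ⧸ Ideal.span ({e} : Set S) →+* κ := Ideal.Quotient.lift _ χ fun a ha => by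
        obtain ⟨t, rfl⟩ := Ideal.mem_span_singleton.mp ha
        rw [map_mul, h0, zero_mul]
      haveI : (RingHom.ker χ₂).IsPrime := RingHom.ker_isPrime χ₂
      have hlo : (RingHom.ker χ₂).LiesOver (IsLocalRing.maximalIdeal R) := ⟨by
        ext r
        rw [Ideal.under_def, Ideal.mem_comap, RingHom.mem_ker,
          IsScalarTower.algebraMap_apply R S (S ⧸ Ideal.span ({e} : Set S)), Ideal.Quotient.algebraMap_eq,
          Ideal.Quotient.lift_mk, hχR, IsLocalRing.residue_eq_zero_iff]⟩
      exact hq (RingHom.ker χ₂) hlo inferInstance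
    · exact h0
  let χ₁ : S₁ →+* κ := Ideal.Quotient.lift _ χ fun a ha => by
    obtain ⟨t, rfl⟩ := Ideal.mem_span_singleton.mp ha
    rw [map_mul, map_sub, map_one, hχe, sub_self, zero_mul]
  haveI : Nontrivial S₁ := χ₁.domain_nontrivial
  -- the structure map of the finite part is bijective
  have hinj : Function.Injective (algebraMap R S₁) := FaithfulSMul.algebraMap_injective R S₁
  let g : A →ₐ[R] S₁ := IsScalarTower.toAlgHom R A S₁
  let x₁ : S₁ := g (AdjoinRoot.root f)
  have hgmk : ∀ p : Polynomial R, g (AdjoinRoot.mk f p) = Polynomial.aeval x₁ p := fun p => by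
    rw [← AdjoinRoot.aeval_eq, ← Polynomial.aeval_algHom_apply]
  have hfx : Polynomial.aeval x₁ f = 0 := by rw [← hgmk, AdjoinRoot.mk_self, map_zero]
  have hgc : IsUnit (g c) := by
    change IsUnit (algebraMap A S₁ c)
    rw [IsScalarTower.algebraMap_apply A S S₁]
    exact (IsLocalization.Away.algebraMap_isUnit c).map _
  let I : Ideal S₁ := m.map (algebraMap R S₁)
  let π := Ideal.Quotient.mk I
  have hx : π x₁ = π (algebraMap R S₁ a₀) := by
    rw [Ideal.Quotient.eq]
    have h3 : (x₁ - algebraMap R S₁ a₀) * g c = - algebraMap R S₁ (f.eval a₀) := by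
      have h4 : Polynomial.aeval x₁ (Polynomial.C (f.eval a₀) +
          (Polynomial.X - Polynomial.C a₀) * hp) = 0 := (congrArg (Polynomial.aeval x₁) hfeq).symm.trans hfx
      rw [map_add, map_mul, map_sub, Polynomial.aeval_X, Polynomial.aeval_C, Polynomial.aeval_C] at h4
      rw [hgmk]
      exact eq_neg_of_add_eq_zero_right h4
    rw [← Ideal.mul_unit_mem_iff_mem I hgc, h3]
    exact neg_mem (Ideal.mem_map_of_mem _ h₁)
  have hev : ∀ p : Polynomial R, π (Polynomial.aeval x₁ p) = π (algebraMap R S₁ (p.eval a₀)) := fun p => by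
    rw [← Polynomial.aeval_algebraMap_apply_eq_algebraMap_eval (R := R) (A := S₁) a₀ p,
      ← Ideal.Quotient.mkₐ_eq_mk R, ← Polynomial.aeval_algHom_apply, ← Polynomial.aeval_algHom_apply,
      Ideal.Quotient.mkₐ_eq_mk]
    exact congrArg (fun z => Polynomial.aeval z p) hx
  obtain ⟨v, hv⟩ := (show IsUnit (hp.eval a₀) by rw [hha]; exact h₂).exists_left_inv
  have hsurjπ : ∀ s : S, ∃ r : R, π (algebraMap S S₁ s) = π (algebraMap R S₁ r) := fun s => by
    obtain ⟨n, a, ha⟩ := IsLocalization.Away.surj c s
    obtain ⟨p, rfl⟩ := AdjoinRoot.mk_surjective a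
    refine ⟨p.eval a₀ * v ^ n, ?_⟩
    have h5 := congrArg (fun z => π (algebraMap S S₁ z)) ha
    simp only [map_mul, map_pow] at h5
    rw [← IsScalarTower.algebraMap_apply, ← IsScalarTower.algebraMap_apply] at h5
    change π (algebraMap S S₁ s) * π (g c) ^ n = π (g (AdjoinRoot.mk f p)) at h5
    rw [hgmk, hgmk, hev, hev] at h5
    have hone : π (algebraMap R S₁ (hp.eval a₀)) * π (algebraMap R S₁ v) = 1 := by
      rw [← map_mul, ← map_mul, mul_comm, hv, map_one, map_one]
    have key : ∀ {B : Type u} [CommRing B] (z x y w : B), z * x ^ n = w → x * y = 1 → z = w * y ^ n :=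
      fun z x y w hw hxy => by rw [← hw, mul_assoc, ← mul_pow, hxy, one_pow, mul_one]
    rw [map_mul, map_pow]
    exact (key _ _ _ _ h5 hone).trans (by rw [map_mul, map_pow])
  have hsurj : Function.Surjective (algebraMap R S₁) := by
    change Function.Surjective (Algebra.linearMap R S₁)
    rw [← LinearMap.range_eq_top, ← top_le_iff]
    refine Submodule.le_of_le_smul_of_le_jacobson_bot (I := m) Module.Finite.fg_top
      (IsLocalRing.maximalIdeal_le_jacobson _) ?_
    rintro z -
    obtain ⟨s, rfl⟩ := Ideal.Quotient.mk_surjective z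
    obtain ⟨r, hr⟩ := hsurjπ s
    have hr' : (Ideal.Quotient.mk _ s : S₁) - algebraMap R S₁ r ∈ m • (⊤ : Submodule R S₁) := by
      rw [Ideal.smul_top_eq_map]
      exact (Ideal.Quotient.eq).mp hr
    rw [← add_sub_cancel (algebraMap R S₁ r) (Ideal.Quotient.mk _ s : S₁)]
    exact add_mem (Submodule.mem_sup_left ⟨r, rfl⟩) (Submodule.mem_sup_right hr')
  obtain ⟨a, ha⟩ := hsurj x₁
  refine ⟨a, hinj ?_, ?_⟩
  · rw [map_zero, ← Polynomial.aeval_algebraMap_apply_eq_algebraMap_eval, ha, hfx]
  · rw [← IsLocalRing.residue_eq_zero_iff, map_sub, sub_eq_zero]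
    have hχ1 : ∀ r : R, χ₁ (algebraMap R S₁ r) = IsLocalRing.residue R r := fun r => by
      rw [IsScalarTower.algebraMap_apply R S S₁, Ideal.Quotient.algebraMap_eq, Ideal.Quotient.lift_mk, hχR]
    rw [← hχ1 a, ha]
    change χ₁ (algebraMap A S₁ (AdjoinRoot.root f)) = _
    rw [IsScalarTower.algebraMap_apply A S S₁, Ideal.Quotient.algebraMap_eq, Ideal.Quotient.lift_mk, hχA]
    exact AdjoinRoot.liftAlgHom_root _ _ _ _

end Groth.Agent.S12222
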