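import Groth.Statements.S12224
import Groth.Agent.ModGenLib.Ext
import Groth.Agent.EtShLib.JContAll

set_option autoImplicit false
universe u
open CategoryTheory CategoryTheory.Limits AlgebraicGeometry Opposite
attribute [local instance] HasDerivedCategory.standard
open EtModD

namespace Groth.Agent.S12224

/-- Let Λ be a Noetherian ring and j : U → X an étale morphism of schemes which is quasi-compact and
quasi-separated. If M is an object of D(U_et, Λ) with constructible cohomology sheaves, then j_!M
has constructible cohomology sheaves; here j_! on derived categories is induced by the exact functor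
extension by zero on sheaves of Λ-modules (its left exactness is carried as an instance hypothesis,
as is the continuity of V ↦ (V → U → X) on small étale sites; both always hold). -/
theorem result (Λ : Type (u + 1)) [CommRing Λ] [IsNoetherianRing Λ]
    {U X : Scheme.{u}} (j : U ⟶ X) [Etale j] [QuasiCompact j] [QuasiSeparated j] [EtShriek.JCont j]
    [PreservesFiniteLimits (EtSix.extZeroMod Λ j)] (M : EtModD.D Λ U)
    (hM : ∀ i : ℤ, EtModW.IsConstructible Λ (EtModD.HD M i)) (i : ℤ) :
    EtModW.IsConstructible Λ (EtModD.HD ((EtSix.extZeroMod Λ j).mapDerivedCategory.obj M) i) := by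
  let G := EtSix.extZeroMod Λ j
  haveI : G.IsLeftAdjoint := EtSix.isLeftAdjoint_extZeroMod Λ j
  let C := DerivedCategory.Q.objPreimage M
  let eM : DerivedCategory.Q.obj C ≅ M := DerivedCategory.Q.objObjPreimageIso M
  let γ := DerivedCategory.homologyFunctorFactors (EtModW.Mod Λ U) i
  let γ' := DerivedCategory.homologyFunctorFactors (EtModW.Mod Λ X) i
  let hC : EtModD.HD M i ≅ C.homology i :=
    (DerivedCategory.homologyFunctor (EtModW.Mod Λ U) i).mapIso eM.symm ≪≫ γ.app C
  let eG : EtModD.HD (G.mapDerivedCategory.obj M) i ≅ G.obj (EtModD.HD M i) :=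
    (DerivedCategory.homologyFunctor (EtModW.Mod Λ X) i).mapIso
        (G.mapDerivedCategory.mapIso eM.symm ≪≫ G.mapDerivedCategoryFactors.app C) ≪≫
      γ'.app _ ≪≫ (C.sc i).mapHomologyIso G ≪≫ G.mapIso hC.symm
  refine (Groth.Agent.EtShLib.isConstructibleMod_iff _).2 ?_
  have hF := (Groth.Agent.EtShLib.isConstructibleMod_iff _).1 (hM i)
  refine Groth.Agent.EtShLib.IsCons.of_hom ?_ eG.inv
  refine Groth.Agent.EtShLib.IsCons.of_open_cover (fun W : X.affineOpens => (W : X.Opens))
    (iSup_affineOpens_eq_top X) fun W => ?_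
  haveI : IsAffine (W : X.Opens).toScheme := W.2
  let s := pullback.snd j (W : X.Opens).ι
  let f' := pullback.fst j (W : X.Opens).ι
  haveI : CompactSpace (pullback j (W : X.Opens).ι : Scheme.{u}) := QuasiCompact.compactSpace_of_compactSpace s
  haveI : QuasiSeparatedSpace (pullback j (W : X.Opens).ι : Scheme.{u}) := quasiSeparatedSpace_of_quasiSeparated s
  haveI : EtShriek.JCont s := Groth.Agent.EtShLib.jCont s
  obtain ⟨e⟩ := Groth.Agent.ModGenLib.nonempty_extZeroMod_bc Λ (j := j) (f := (W : X.Opens).ι) (j' := s) (f' := f')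
    (IsPullback.of_hasPullback j (W : X.Opens).ι).flip
  exact Groth.Agent.EtShLib.IsCons.of_hom
    (Groth.Agent.ModGenLib.isCons_extZero_qcqs s (hF.pull (f := f'))) (e.app (EtModD.HD M i)).hom

end Groth.Agent.S12224
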