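import Groth.Statements.S12229
import Mathlib.Algebra.Homology.DerivedCategory.ShortExact
import Mathlib.CategoryTheory.Abelian.Exact
import Mathlib.Algebra.Homology.HomologicalComplexAbelian


set_option autoImplicit false
universe w w' v v' u u'
open CategoryTheory CategoryTheory.Limits CategoryTheory.Pretriangulated
open CohDer

namespace Groth.Agent.S12229

private lemma transfer {A : Type u'} [Category.{v'} A] [Abelian A] {x y z x' y' z' : A}
    {f : x ⟶ y} {g : y ⟶ z} {f' : x' ⟶ y'} {g' : y' ⟶ z'} {w' : f' ≫ g' = 0}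
    (h : (ShortComplex.mk f' g' w').Exact) (ka : x ≅ x') (kb : y ≅ y') (kc : z ≅ z')
    (sq₁ : f ≫ kb.hom = ka.hom ≫ f') (sq₂ : g ≫ kc.hom = kb.hom ≫ g') :
    kernelSubobject g = imageSubobject f := by
  have w : f ≫ g = 0 := by
    rw [← cancel_mono kc.hom, Category.assoc, sq₂, reassoc_of% sq₁, w', comp_zero, zero_comp]
  exact ((ShortComplex.exact_iff_image_eq_kernel (ShortComplex.mk f g w)).1
    (ShortComplex.exact_of_iso (Iso.symm (ShortComplex.isoMk ka kb kc sq₁.symm sq₂.symm)) h)).symm

section Aux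
open Pretriangulated

variable {C : Type u} [Category.{v} C] [Abelian C] [HasDerivedCategory.{w} C]
    [EnoughInjectives C] {D : Type u'} [Category.{v'} D] [Abelian D] [HasDerivedCategory.{w'} D]
    (F : C ⥤ D) [F.Additive]

/-- `K⁺(Inj C) ⥤ D⁺(C)`. -/
private noncomputable abbrev injQh :
    HomotopyCategory.Plus (InjectiveObject C) ⥤ DerivedCategory.Plus C :=
  (InjectiveObject.ι C).mapHomotopyCategoryPlus ⋙ DerivedCategory.Plus.Qh

/-- `K⁺(Inj C) ⥤ D(D)`, applying `F` termwise. -/
private noncomputable abbrev injF :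
    HomotopyCategory.Plus (InjectiveObject C) ⥤ DerivedCategory D :=
  (InjectiveObject.ι C).mapHomotopyCategoryPlus ⋙ F.mapHomotopyCategoryPlus ⋙
    DerivedCategory.Plus.Qh ⋙ DerivedCategory.Plus.ι

private noncomputable def injFIso :
    injQh ⋙ F.rightDerivedFunctorPlus ⋙ DerivedCategory.Plus.ι ≅ injF F :=
  NatIso.ofComponents
    (fun X => (DerivedCategory.Plus.ι (C := D)).mapIso
      (asIso (F.rightDerivedFunctorPlusUnit.app
        ((InjectiveObject.ι C).mapHomotopyCategoryPlus.obj X))).symm)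
    (fun {X Y} a => by
      let U := F.rightDerivedFunctorPlusUnit
      let m := (InjectiveObject.ι C).mapHomotopyCategoryPlus
      have key : F.rightDerivedFunctorPlus.map (DerivedCategory.Plus.Qh.map (m.map a)) ≫
          inv (U.app (m.obj Y)) = inv (U.app (m.obj X)) ≫
            DerivedCategory.Plus.Qh.map (F.mapHomotopyCategoryPlus.map (m.map a)) := by
        rw [IsIso.eq_inv_comp, ← Category.assoc, IsIso.comp_inv_eq]
        exact (U.naturality (m.map a)).symm
      exact congrArg (DerivedCategory.Plus.ι (C := D)).map key)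

private lemma exists_injQh_obj_iso (X : CochainComplex.Plus C) :
    ∃ (L : CochainComplex.Plus (InjectiveObject C)),
      Nonempty (DerivedCategory.Plus.Qh.obj ((HomotopyCategory.Plus.quotient C).obj X) ≅
        injQh.obj ((HomotopyCategory.Plus.quotient _).obj L)) := by
  obtain ⟨n, hn⟩ := X.property
  obtain ⟨L, _, i, hi⟩ := CochainComplex.Plus.exists_quasiIso_injective X n
  have hq : IsIso (DerivedCategory.Plus.Qh.map ((HomotopyCategory.Plus.quotient C).map i)) :=
    Localization.inverts DerivedCategory.Plus.Qh (HomotopyCategory.Plus.quasiIso C) _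
      ((HomotopyCategory.quotient_map_mem_quasiIso_iff _).2 hi)
  exact ⟨L, ⟨@asIso _ _ _ _ (DerivedCategory.Plus.Qh.map
    ((HomotopyCategory.Plus.quotient C).map i)) hq⟩⟩

private lemma injQh_map_surjective (K : HomotopyCategory.Plus (InjectiveObject C))
    (L : CochainComplex.Plus (InjectiveObject C)) :
    Function.Surjective (injQh.map : (K ⟶ (HomotopyCategory.Plus.quotient _).obj L) → _) := by
  intro a
  obtain ⟨b, hb⟩ := (DerivedCategory.Plus.Qh_map_bijective_of_isKInjective _ _
    (inferInstanceAs (CochainComplex.IsKInjective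
      (((InjectiveObject.ι C).mapHomologicalComplex (.up ℤ)).obj L.obj)))).2 a
  obtain ⟨c, rfl⟩ := (InjectiveObject.ι C).mapHomotopyCategoryPlus.map_surjective b
  exact ⟨c, hb⟩

end Aux

/-- Let F : C → D be a left exact functor between abelian categories with C having enough injectives,
and let 0 → X₁ → X₂ → X₃ → 0 be a short exact sequence of bounded below complexes of C (maps f, g
with f a monomorphism, g an epimorphism and ker g = im f, degreewise). Then there is a long exact
cohomology sequence … → H^i(RF X₁) → H^i(RF X₂) → H^i(RF X₃) → H^{i+1}(RF X₁) → …: for every i the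
induced sequence is exact at H^i(RF X₂), and there is a connecting morphism H^i(RF X₃) → H^{i+1}(RF
X₁) with exactness at H^i(RF X₃) and at H^{i+1}(RF X₁). Here RF is the right derived functor on the
bounded below derived category and H^i is computed in D(D); exactness is expressed as equality of
kernel and image subobjects. Existence of such a connecting morphism only; the canonical one coming
from the distinguished triangle of the short exact sequence is not named. -/
theorem result {C : Type u} [Category.{v} C] [Abelian C] [HasDerivedCategory.{w} C]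
    [EnoughInjectives C] {D : Type u'} [Category.{v'} D] [Abelian D] [HasDerivedCategory.{w'} D]
    (F : C ⥤ D) [F.Additive] [PreservesFiniteLimits F]
    {X₁ X₂ X₃ : CochainComplex.Plus C} (f : X₁ ⟶ X₂) (g : X₂ ⟶ X₃)
    (hf : Mono ((CochainComplex.Plus.ι C).map f)) (hg : Epi ((CochainComplex.Plus.ι C).map g))
    (hex : kernelSubobject ((CochainComplex.Plus.ι C).map g) = imageSubobject ((CochainComplex.Plus.ι C).map f))
    (i : ℤ) :
    let Φ := HomotopyCategory.Plus.quotient C ⋙ DerivedCategory.Plus.Qh ⋙ F.rightDerivedFunctorPlus ⋙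
      DerivedCategory.Plus.ι ⋙ DerivedCategory.homologyFunctor D i
    let Ψ := HomotopyCategory.Plus.quotient C ⋙ DerivedCategory.Plus.Qh ⋙ F.rightDerivedFunctorPlus ⋙
      DerivedCategory.Plus.ι ⋙ DerivedCategory.homologyFunctor D (i + 1)
    kernelSubobject (Φ.map g) = imageSubobject (Φ.map f) ∧
      ∃ δ : Φ.obj X₃ ⟶ Ψ.obj X₁,
        kernelSubobject δ = imageSubobject (Φ.map g) ∧ kernelSubobject (Ψ.map f) = imageSubobject δ := by
  intro Φ Ψ
  -- the short exact sequence and its distinguished triangle in `D⁺(C)`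
  have w₀ : (CochainComplex.Plus.ι C).map f ≫ (CochainComplex.Plus.ι C).map g = 0 :=
    (kernelSubobject_factors_iff ((CochainComplex.Plus.ι C).map g) _).1
      (hex ▸ imageSubobject_factors_comp_self ((CochainComplex.Plus.ι C).map f) (𝟙 _) |>
        fun h => by simpa using h)
  let S : ShortComplex (CochainComplex C ℤ) :=
    ShortComplex.mk ((CochainComplex.Plus.ι C).map f) ((CochainComplex.Plus.ι C).map g) w₀
  have hS : S.ShortExact :=
    { exact := (ShortComplex.exact_iff_image_eq_kernel S).2 hex.symm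
      mono_f := hf
      epi_g := hg }
  let P : CochainComplex.Plus C ⥤ DerivedCategory.Plus C :=
    HomotopyCategory.Plus.quotient C ⋙ DerivedCategory.Plus.Qh
  let Ti : P ⋙ DerivedCategory.Plus.ι ≅ CochainComplex.Plus.ι C ⋙ DerivedCategory.Q :=
    NatIso.ofComponents (fun X => (DerivedCategory.quotientCompQhIso C).app X.obj)
      (fun {X Y} a => (DerivedCategory.quotientCompQhIso C).hom.naturality a.hom)
  let δ₀ : P.obj X₃ ⟶ (P.obj X₁)⟦(1 : ℤ)⟧ := DerivedCategory.Plus.ι.preimage
    (Ti.hom.app X₃ ≫ DerivedCategory.triangleOfSESδ hS ≫ (Ti.inv.app X₁)⟦(1 : ℤ)⟧' ≫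
      ((DerivedCategory.Plus.ι (C := C)).commShiftIso (1 : ℤ)).inv.app (P.obj X₁))
  let T : Triangle (DerivedCategory.Plus C) := Triangle.mk (P.map f) (P.map g) δ₀
  have hT : T ∈ distTriang _ := by
    change DerivedCategory.Plus.ι.mapTriangle.obj T ∈ distTriang _
    refine isomorphic_distinguished _ (DerivedCategory.triangleOfSES_distinguished hS) _
      (Triangle.isoMk _ _ (Ti.app X₁) (Ti.app X₂) (Ti.app X₃) (Ti.hom.naturality f)
        (Ti.hom.naturality g) ?_)
    change (DerivedCategory.Plus.ι.map δ₀ ≫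
      ((DerivedCategory.Plus.ι (C := C)).commShiftIso (1 : ℤ)).hom.app (P.obj X₁)) ≫
      (Ti.hom.app X₁)⟦(1 : ℤ)⟧' = Ti.hom.app X₃ ≫ DerivedCategory.triangleOfSESδ hS
    simp only [δ₀, Functor.map_preimage, Category.assoc, Iso.inv_hom_id_app_assoc]
    erw [← Functor.map_comp, Iso.inv_hom_id_app, CategoryTheory.Functor.map_id, Category.comp_id]
  -- injective model of the triangle
  obtain ⟨L₁, ⟨e₁⟩⟩ := exists_injQh_obj_iso X₁
  obtain ⟨L₂, ⟨e₂⟩⟩ := exists_injQh_obj_iso X₂
  obtain ⟨φ, hφ⟩ := injQh_map_surjective _ L₂ (e₁.inv ≫ P.map f ≫ e₂.hom)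
  obtain ⟨Z, a, b, hT'⟩ := distinguished_cocone_triangle φ
  have comm : P.map f ≫ e₂.hom = e₁.hom ≫ injQh.map φ := by
    rw [hφ]; simp
  let e : T ≅ injQh.mapTriangle.obj (Triangle.mk φ a b) :=
    isoTriangleOfIso₁₂ _ _ hT (injQh.map_distinguished _ hT') e₁ e₂ comm
  let e₃ : P.obj X₃ ≅ injQh.obj Z := Triangle.π₃.mapIso e
  have comm₂ : P.map g ≫ e₃.hom = e₂.hom ≫ injQh.map a := e.hom.comm₂
  let R : DerivedCategory.Plus C ⥤ DerivedCategory D :=
    F.rightDerivedFunctorPlus ⋙ DerivedCategory.Plus.ι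
  have hTD := (injF F).map_distinguished _ hT'
  let k₁ : R.obj (P.obj X₁) ≅ (injF F).obj ((HomotopyCategory.Plus.quotient _).obj L₁) :=
    R.mapIso e₁ ≪≫ (injFIso F).app _
  let k₂ : R.obj (P.obj X₂) ≅ (injF F).obj ((HomotopyCategory.Plus.quotient _).obj L₂) :=
    R.mapIso e₂ ≪≫ (injFIso F).app _
  let k₃ : R.obj (P.obj X₃) ≅ (injF F).obj Z := R.mapIso e₃ ≪≫ (injFIso F).app _
  have nat : ∀ {A B} (c : A ⟶ B), R.map (injQh.map c) ≫ (injFIso F).hom.app B =
      (injFIso F).hom.app A ≫ (injF F).map c := fun c => (injFIso F).hom.naturality c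
  have sq₁ : R.map (P.map f) ≫ k₂.hom = k₁.hom ≫ (injF F).map φ := by
    simp only [k₁, k₂, Iso.trans_hom, Functor.mapIso_hom, Iso.app_hom]
    rw [← R.map_comp_assoc, comm, R.map_comp_assoc, nat, Category.assoc]
  have sq₂ : R.map (P.map g) ≫ k₃.hom = k₂.hom ≫ (injF F).map a := by
    simp only [k₂, k₃, Iso.trans_hom, Functor.mapIso_hom, Iso.app_hom]
    rw [← R.map_comp_assoc, comm₂, R.map_comp_assoc, nat, Category.assoc]
  let H := DerivedCategory.homologyFunctor D
  have hsq : ∀ (n : ℤ), (H n).map (R.map (P.map f)) ≫ (H n).map k₂.hom =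
        (H n).map k₁.hom ≫ (H n).map ((injF F).map φ) := fun n => by
    rw [← Functor.map_comp, ← Functor.map_comp, sq₁]
  have hsq₂ : ∀ (n : ℤ), (H n).map (R.map (P.map g)) ≫ (H n).map k₃.hom =
        (H n).map k₂.hom ≫ (H n).map ((injF F).map a) := fun n => by
    rw [← Functor.map_comp, ← Functor.map_comp, sq₂]
  have h2 := DerivedCategory.HomologySequence.exact₂ _ hTD i
  have h3 := DerivedCategory.HomologySequence.exact₃ _ hTD i (i + 1) rfl
  have h1 := DerivedCategory.HomologySequence.exact₁ _ hTD i (i + 1) rfl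
  let d : (H i).obj ((injF F).obj Z) ⟶
      (H (i + 1)).obj ((injF F).obj ((HomotopyCategory.Plus.quotient _).obj L₁)) :=
    DerivedCategory.HomologySequence.δ
      ((injF F).mapTriangle.obj (Triangle.mk φ a b)) i (i + 1) rfl
  let δ : (H i).obj (R.obj (P.obj X₃)) ⟶ (H (i + 1)).obj (R.obj (P.obj X₁)) :=
    ((H i).mapIso k₃).hom ≫ d ≫ ((H (i + 1)).mapIso k₁).inv
  refine ⟨?_, δ, ?_, ?_⟩
  · exact transfer h2 ((H i).mapIso k₁) ((H i).mapIso k₂) ((H i).mapIso k₃) (hsq i) (hsq₂ i)
  · refine transfer h3 ((H i).mapIso k₂) ((H i).mapIso k₃) ((H (i + 1)).mapIso k₁) (hsq₂ i) ?_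
    change (((H i).mapIso k₃).hom ≫ d ≫ ((H (i + 1)).mapIso k₁).inv) ≫
      ((H (i + 1)).mapIso k₁).hom = ((H i).mapIso k₃).hom ≫ d
    rw [Category.assoc, Category.assoc, Iso.inv_hom_id, Category.comp_id]
  · refine transfer h1 ((H i).mapIso k₃) ((H (i + 1)).mapIso k₁) ((H (i + 1)).mapIso k₂) ?_
      (hsq (i + 1))
    change (((H i).mapIso k₃).hom ≫ d ≫ ((H (i + 1)).mapIso k₁).inv) ≫
      ((H (i + 1)).mapIso k₁).hom = ((H i).mapIso k₃).hom ≫ d
    rw [Category.assoc, Category.assoc, Iso.inv_hom_id, Category.comp_id]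

end Groth.Agent.S12229
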