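import Groth.Statements.S12235
import Groth.Agent.BirIrrLib.Main
-- import your own Groth.Agent.* helpers here

set_option autoImplicit false
universe u
open CategoryTheory CategoryTheory.Limits AlgebraicGeometry
open Curves

namespace Groth.Agent.S12235

/-- Let k be a field, X a proper geometrically irreducible curve over k (proper over k, integral, of
dimension one), K/k a field extension and Y_K the normalization of the reduction of X_K (that
reduction is integral). If Y_K is smooth over K then H^0(Y_K, O) = K: the global functions of Y_K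
form a one-dimensional K-vector space. (Stated for proper X; the instance hypotheses on (X_K)_red
always hold.) -/
theorem result (k : Type u) [Field k] (X : Scheme.{u})
    [X.Over (Spec (CommRingCat.of k))] [IsIntegral X] [IsProper (X ↘ (Spec (CommRingCat.of k)))]
    [GeometricallyIrreducible (X ↘ (Spec (CommRingCat.of k)))] (hdim : topologicalKrullDim X = 1)
    (K : Type u) [Field K] [Algebra k K] [IsIntegral ((Curv2.bc k X K).nilradical).subscheme]
    [QuasiCompact ((((Curv2.bc k X K).nilradical).subscheme).fromSpecStalk (genericPoint ((Curv2.bc k X K).nilradical).subscheme))]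
    [QuasiSeparated ((((Curv2.bc k X K).nilradical).subscheme).fromSpecStalk (genericPoint ((Curv2.bc k X K).nilradical).subscheme))]
    (hsm : Smooth (Curv2.normalizationι ((Curv2.bc k X K).nilradical).subscheme ≫ ((Curv2.bc k X K).nilradical).subschemeι ≫ Curv2.bcSnd k X K)) :
    letI : (Curv2.normalization ((Curv2.bc k X K).nilradical).subscheme).Over (Spec (CommRingCat.of K)) := ⟨(Curv2.normalizationι ((Curv2.bc k X K).nilradical).subscheme ≫ ((Curv2.bc k X K).nilradical).subschemeι ≫ Curv2.bcSnd k X K)⟩
    Module.finrank K (Coh.HH (Curv2.normalization ((Curv2.bc k X K).nilradical).subscheme) (Coh.structureModule (Curv2.normalization ((Curv2.bc k X K).nilradical).subscheme)) 0) = 1 := by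
  let Z := ((Curv2.bc k X K).nilradical).subscheme
  let ι := ((Curv2.bc k X K).nilradical).subschemeι
  let g₀ := Z.fromSpecStalk (genericPoint Z)
  let Y := Curv2.normalization Z
  let σ : Y ⟶ Spec (CommRingCat.of K) := Curv2.normalizationι Z ≫ ι ≫ Curv2.bcSnd k X K
  letI : Y.Over (Spec (CommRingCat.of K)) := ⟨σ⟩
  haveI : IsIntegralHom (Curv2.normalizationι Z) := inferInstanceAs (IsIntegralHom g₀.fromNormalization)
  haveI : IsIntegral Y := inferInstanceAs (IsIntegral g₀.normalization)
  haveI : Smooth σ := hsm
  haveI : Smooth (Y ↘ Spec (CommRingCat.of K)) := hsm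
  haveI : LocallyOfFiniteType σ := inferInstance
  haveI : LocallyOfFiniteType (Curv2.normalizationι Z) :=
    locallyOfFiniteType_of_comp _ (ι ≫ Curv2.bcSnd k X K)
  haveI : IsFinite (Curv2.normalizationι Z) :=
    (IsFinite.iff_isIntegralHom_and_locallyOfFiniteType _).2 ⟨‹_›, ‹_›⟩
  haveI : IsProper (Curv2.bcSnd k X K) := inferInstanceAs (IsProper (pullback.snd (X ↘ Spec (CommRingCat.of k)) _))
  haveI : IsProper (Y ↘ Spec (CommRingCat.of K)) :=
    inferInstanceAs (IsProper (Curv2.normalizationι Z ≫ ι ≫ Curv2.bcSnd k X K))
  haveI : GeometricallyIrreducible (Curv2.bcSnd k X K) := inferInstance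
  haveI : IrreducibleSpace ↥(Curv2.bc k X K) :=
    GeometricallyIrreducible.irreducibleSpace_of_subsingleton (Curv2.bcSnd k X K)
  let η : (Spec (Z.presheaf.stalk (genericPoint Z))) := IsLocalRing.closedPoint _
  have hsub : ∀ z : (Spec (Z.presheaf.stalk (genericPoint Z))), z = η := fun z => by
    letI : Field (Z.presheaf.stalk (genericPoint Z)) := (inferInstance : Field Z.functionField)
    exact Subsingleton.elim (α := PrimeSpectrum (Z.presheaf.stalk (genericPoint Z))) z η
  have hrange : ∀ {W : Scheme.{u}} (f : Spec (Z.presheaf.stalk (genericPoint Z)) ⟶ W), Set.range f = {f η} :=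
    fun f => Set.eq_singleton_iff_unique_mem.2 ⟨⟨η, rfl⟩, fun y ⟨z, hz⟩ => by rw [← hz, hsub z]⟩
  haveI : Surjective ι := ⟨by
    rw [← Set.range_eq_univ]
    simp [ι, Scheme.IdealSheafData.range_subschemeι]⟩
  have hb : Set.range (g₀ ≫ ι) = {genericPoint ↥(Curv2.bc k X K)} := by
    rw [hrange]
    refine congrArg ({·}) (IsGenericPoint.eq ?_ (genericPoint_spec _))
    have h1 : g₀ η = genericPoint Z := Scheme.fromSpecStalk_closedPoint
    rw [Scheme.Hom.comp_apply, h1, isGenericPoint_def]
    refine Set.eq_univ_of_univ_subset ?_
    calc Set.univ = ι '' closure {genericPoint Z} := by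
          rw [(genericPoint_spec Z).def, Set.image_univ, ι.surjective.range_eq]
      _ ⊆ closure (ι '' {genericPoint Z}) := image_closure_subset_closure_image ι.continuous
      _ = closure {ι (genericPoint Z)} := by rw [Set.image_singleton]
  have hj : Set.range g₀.toNormalization = {genericPoint Y} := by
    rw [hrange]
    refine congrArg ({·}) (IsGenericPoint.eq (α := Y) ?_ (genericPoint_spec _))
    have hd := g₀.toNormalization.denseRange
    rw [DenseRange, hrange, dense_iff_closure_eq] at hd
    exact hd
  haveI : GeometricallyIrreducible (Y ↘ Spec (CommRingCat.of K)) :=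
    BirIrrLib.geometricallyIrreducible σ (Curv2.bcSnd k X K) g₀.toNormalization (g₀ ≫ ι)
      (by
        show g₀.toNormalization ≫ g₀.fromNormalization ≫ ι ≫ Curv2.bcSnd k X K = _
        rw [Scheme.Hom.toNormalization_fromNormalization_assoc, Category.assoc]) hj hb
  exact BirIrrLib.finrank_h0 Y

end Groth.Agent.S12235
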