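import Groth.Statements.S12240
import Groth.Agent.BirIrrLib.Main
import Groth.Agent.GenNormLib.Basic
import Groth.Agent.BMLib.PtMap
import Groth.Agent.HurwitzLib.SmoothCurve

set_option backward.isDefEq.respectTransparency.types false
set_option linter.style.haveILetI false
set_option maxHeartbeats 1000000
-- import your own Groth.Agent.* helpers here

set_option autoImplicit false
universe u
open CategoryTheory CategoryTheory.Limits AlgebraicGeometry
open Curves

namespace Groth.Agent.S12240

/-- Stated over the field where the nonsingular projective model is already smooth. Let K be a field and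
X a proper geometrically irreducible curve over K (proper over K, integral, of dimension one) whose
normalization Y = X^ν is smooth over K. Then for every field extension Ω of K the base change Y_Ω,
together with its map to X_Ω, is the normalization of the reduction (X_Ω)_red: there is an
isomorphism from Y_Ω to the normalization of (X_Ω)_red whose composite with the normalization map
and the closed immersion (X_Ω)_red → X_Ω is the base change Y_Ω → X_Ω of Y → X. (Applied to the
reduction of the base change of a geometrically irreducible proper curve to a field over which its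
nonsingular projective model becomes smooth, this says that the smooth model is compatible with all
further field extensions; the instance hypotheses on (X_Ω)_red — integrality and the two conditions
needed to form the normalization — always hold.) -/
theorem result (K : Type u) [Field K] (X : Scheme.{u})
    [X.Over (Spec (CommRingCat.of K))] [IsIntegral X] [IsProper (X ↘ (Spec (CommRingCat.of K)))]
    [GeometricallyIrreducible (X ↘ (Spec (CommRingCat.of K)))] (hdim : topologicalKrullDim X = 1)
    [QuasiCompact (X.fromSpecStalk (genericPoint X))] [QuasiSeparated (X.fromSpecStalk (genericPoint X))]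
    (hsm : Smooth (Curv2.normalizationι X ≫ (X ↘ (Spec (CommRingCat.of K)))))
    (Ω : Type u) [Field Ω] [Algebra K Ω]
    [IsIntegral ((Curv2.bc K X Ω).nilradical).subscheme]
    [QuasiCompact ((((Curv2.bc K X Ω).nilradical).subscheme).fromSpecStalk (genericPoint ((Curv2.bc K X Ω).nilradical).subscheme))]
    [QuasiSeparated ((((Curv2.bc K X Ω).nilradical).subscheme).fromSpecStalk (genericPoint ((Curv2.bc K X Ω).nilradical).subscheme))] :
    ∃ e : Limits.pullback (Curv2.normalizationι X ≫ (X ↘ (Spec (CommRingCat.of K))))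
          (Spec.map (CommRingCat.ofHom (algebraMap K Ω))) ≅
        Curv2.normalization ((Curv2.bc K X Ω).nilradical).subscheme,
      e.hom ≫ Curv2.normalizationι ((Curv2.bc K X Ω).nilradical).subscheme ≫ ((Curv2.bc K X Ω).nilradical).subschemeι =
        Limits.pullback.map (Curv2.normalizationι X ≫ (X ↘ (Spec (CommRingCat.of K))))
          (Spec.map (CommRingCat.ofHom (algebraMap K Ω))) (X ↘ (Spec (CommRingCat.of K)))
          (Spec.map (CommRingCat.ofHom (algebraMap K Ω))) (Curv2.normalizationι X) (𝟙 _) (𝟙 _)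
          (Category.comp_id _) ((Category.comp_id _).trans (Category.id_comp _).symm) := by
  let x := Spec.map (CommRingCat.ofHom (algebraMap K Ω))
  let g₀ := X.fromSpecStalk (genericPoint X)
  let ν := Curv2.normalizationι X
  let σ := ν ≫ (X ↘ Spec (CommRingCat.of K))
  haveI : IsIntegralHom ν := inferInstanceAs (IsIntegralHom g₀.fromNormalization)
  haveI : IsIntegral (Curv2.normalization X) := inferInstanceAs (IsIntegral g₀.normalization)
  haveI : Smooth σ := hsm
  haveI : LocallyOfFiniteType ν := locallyOfFiniteType_of_comp _ (X ↘ Spec (CommRingCat.of K))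
  haveI : IsFinite ν := (IsFinite.iff_isIntegralHom_and_locallyOfFiniteType _).2 ⟨‹_›, ‹_›⟩
  haveI : IsProper σ := inferInstanceAs (IsProper (ν ≫ (X ↘ Spec (CommRingCat.of K))))
  haveI : GeometricallyIrreducible σ := by
    haveI : Subsingleton ↥(Spec (X.presheaf.stalk (genericPoint X))) :=
      letI : Field (X.presheaf.stalk (genericPoint X)) := (inferInstance : Field X.functionField)
      inferInstanceAs (Subsingleton (PrimeSpectrum (X.presheaf.stalk (genericPoint X))))
    let η : ↥(Spec (X.presheaf.stalk (genericPoint X))) := IsLocalRing.closedPoint _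
    have hrange : ∀ {W : Scheme.{u}} (f : Spec (X.presheaf.stalk (genericPoint X)) ⟶ W), Set.range f = {f η} :=
      fun f => Set.eq_singleton_iff_unique_mem.2 ⟨⟨η, rfl⟩, fun y ⟨z, hz⟩ => by rw [← hz, Subsingleton.elim z η]⟩
    refine BirIrrLib.geometricallyIrreducible σ (X ↘ Spec (CommRingCat.of K)) g₀.toNormalization g₀
      (Scheme.Hom.toNormalization_fromNormalization_assoc g₀ _) ?_ ?_
    · rw [hrange]
      refine congrArg ({·}) (IsGenericPoint.eq (α := Curv2.normalization X) ?_ (genericPoint_spec _))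
      have hd := g₀.toNormalization.denseRange
      rw [DenseRange, hrange, dense_iff_closure_eq] at hd
      exact hd
    · rw [hrange]
      exact congrArg ({·}) Scheme.fromSpecStalk_closedPoint
  haveI : GeometricallyConnected σ := ⟨fun K' _ y Z fst snd h => by
    haveI : IrreducibleSpace Z := GeometricallyIrreducible.geometrically_irreducibleSpace (f := σ) _ _ _ h
    infer_instance⟩
  haveI := FibVALib.geometricallyIntegral_of_geometricallyConnected σ
  let W := pullback σ x
  haveI : IsIntegral W := GeometricallyIntegral.isIntegral_of_subsingleton (pullback.snd σ x)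
  letI : W.Over (Spec (CommRingCat.of Ω)) := ⟨pullback.snd σ x⟩
  haveI : Smooth (W ↘ Spec (CommRingCat.of Ω)) := inferInstanceAs (Smooth (pullback.snd σ x))
  have hN : Pi1.IsNormalScheme W := HurwitzLib.isNormalScheme_of_smooth (k := Ω)
  let φ : W ⟶ Curv2.bc K X Ω :=
    pullback.map σ x (X ↘ Spec (CommRingCat.of K)) x ν (𝟙 _) (𝟙 _)
      (Category.comp_id _) ((Category.comp_id _).trans (Category.id_comp _).symm)
  have hφ : IsPullback (pullback.fst σ x) φ ν (Curv2.bcFst K X Ω) := by
    have h2 : φ ≫ Curv2.bcSnd K X Ω = pullback.snd σ x :=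
      (pullback.lift_snd _ _ _).trans (Category.comp_id _)
    refine IsPullback.of_bot ?_ (pullback.lift_fst _ _ _).symm (IsPullback.of_hasPullback _ _)
    rw [h2]
    exact IsPullback.of_hasPullback σ x
  haveI : IsFinite φ := MorphismProperty.of_isPullback (P := @IsFinite) hφ ‹_›
  let Z := ((Curv2.bc K X Ω).nilradical).subscheme
  let ι := ((Curv2.bc K X Ω).nilradical).subschemeι
  have hker : ι.ker ≤ φ.ker := by
    rw [Scheme.IdealSheafData.ker_subschemeι, ← Scheme.IdealSheafData.map_bot,
      Scheme.IdealSheafData.le_map_iff_comap_le, ← Scheme.nilradical_eq_bot (X := W),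
      ← Scheme.IdealSheafData.vanishingIdeal_top (X := W),
      ← Scheme.IdealSheafData.le_support_iff_le_vanishingIdeal, Scheme.IdealSheafData.support_comap]
    intro w _
    show φ.base w ∈ (Curv2.bc K X Ω).nilradical.support
    rw [Scheme.support_nilradical]
    trivial
  let g : W ⟶ Z := IsClosedImmersion.lift ι φ hker
  have hg : g ≫ ι = φ := IsClosedImmersion.lift_fac ι φ hker
  haveI : IsFinite g := by
    haveI : IsFinite (g ≫ ι) := by rw [hg]; infer_instance
    exact IsFinite.of_comp g ι
  haveI : Surjective ι := ⟨by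
    rw [← Set.range_eq_univ]
    simp [ι, Scheme.IdealSheafData.range_subschemeι]⟩
  haveI : LocallyOfFiniteType g₀.fromNormalization := ‹LocallyOfFiniteType ν›
  obtain ⟨U₀, hU₀, hiso⟩ := BMLib.exists_isIso_normalization (X₀ := X)
  let V := Curv2.bcFst K X Ω ⁻¹ᵁ U₀
  haveI : IsIso (φ ∣_ V) := by
    have sq1 := (isPullback_morphismRestrict φ V).flip.paste_horiz hφ
    have hle : φ ⁻¹ᵁ V ≤ pullback.fst σ x ⁻¹ᵁ (ν ⁻¹ᵁ U₀) := fun w hw => by
      have hw' : Curv2.bcFst K X Ω (φ w) ∈ U₀ := hw
      show ν (pullback.fst σ x w) ∈ U₀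
      rwa [← Scheme.Hom.comp_apply, hφ.w, Scheme.Hom.comp_apply]
    have e1 : (φ ⁻¹ᵁ V).ι ≫ pullback.fst σ x =
        (pullback.fst σ x).resLE (ν ⁻¹ᵁ U₀) (φ ⁻¹ᵁ V) hle ≫ (ν ⁻¹ᵁ U₀).ι := (Scheme.Hom.resLE_comp_ι _ _).symm
    have e2 : V.ι ≫ Curv2.bcFst K X Ω = (Curv2.bcFst K X Ω ∣_ U₀) ≫ U₀.ι := (morphismRestrict_ι _ _).symm
    rw [e1, e2] at sq1
    have sq2 : IsPullback ((pullback.fst σ x).resLE (ν ⁻¹ᵁ U₀) (φ ⁻¹ᵁ V) hle) (φ ∣_ V) (ν ∣_ U₀)
        (Curv2.bcFst K X Ω ∣_ U₀) := by
      refine IsPullback.of_right sq1 ?_ (isPullback_morphismRestrict ν U₀).flip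
      rw [← cancel_mono U₀.ι, Category.assoc, morphismRestrict_ι, Category.assoc, morphismRestrict_ι,
        morphismRestrict_ι_assoc, ← Category.assoc, Scheme.Hom.resLE_comp_ι, Category.assoc, hφ.w]
    haveI : IsIso (ν ∣_ U₀) := hiso
    exact sq2.isIso_snd_of_isIso
  let Vz := ι ⁻¹ᵁ V
  haveI : IsIso (g ∣_ Vz) := by
    have h2 : IsIso ((g ∣_ Vz) ≫ (ι ∣_ V)) := by
      haveI : IsIso ((g ≫ ι) ∣_ V) := by rw [hg]; infer_instance
      rwa [morphismRestrict_comp] at this
    haveI := h2
    haveI : IsSplitEpi (ι ∣_ V) :=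
      IsSplitEpi.mk' ⟨inv ((g ∣_ Vz) ≫ (ι ∣_ V)) ≫ (g ∣_ Vz), by rw [Category.assoc, IsIso.inv_hom_id]⟩
    haveI : Mono (ι ∣_ V) := inferInstance
    haveI : IsIso (ι ∣_ V) := isIso_of_mono_of_isSplitEpi _
    exact IsIso.of_isIso_comp_right (g ∣_ Vz) (ι ∣_ V)
  let ζ := genericPoint Z
  let f := Z.fromSpecStalk ζ
  have hV : Nonempty Vz := by
    obtain ⟨v, hv⟩ := (Curv2.bcFst K X Ω).surjective (genericPoint X)
    obtain ⟨z, rfl⟩ := ι.surjective v
    exact ⟨⟨z, show Curv2.bcFst K X Ω (ι z) ∈ U₀ by rw [hv]; exact hU₀⟩⟩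
  have hζ : ζ ∈ Vz := ((genericPoint_spec Z).mem_open_set_iff Vz.isOpen).2
    (let ⟨⟨z, hz⟩⟩ := hV; ⟨z, trivial, hz⟩)
  let T := Spec (Z.presheaf.stalk ζ)
  haveI : IsIntegral T := inferInstanceAs (IsIntegral (Spec Z.functionField))
  haveI : Subsingleton T :=
    letI : Field (Z.presheaf.stalk ζ) := (inferInstance : Field Z.functionField)
    inferInstanceAs (Subsingleton (PrimeSpectrum (Z.presheaf.stalk ζ)))
  have hη : f (genericPoint T) = ζ := by
    rw [Subsingleton.elim (genericPoint T) (IsLocalRing.closedPoint (Z.presheaf.stalk ζ))]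
    exact Scheme.fromSpecStalk_closedPoint
  have hrg : Set.range f ⊆ Set.range Vz.ι := by
    rintro z ⟨w, rfl⟩
    rw [Scheme.Opens.range_ι, Subsingleton.elim w (genericPoint T), hη]
    exact hζ
  let f' : T ⟶ Vz := IsOpenImmersion.lift Vz.ι f hrg
  let j : ↑Vz ⟶ W := inv (g ∣_ Vz) ≫ (g ⁻¹ᵁ Vz).ι
  have hj : j ≫ g = Vz.ι := by
    simp only [j, Category.assoc, ← morphismRestrict_ι, IsIso.inv_hom_id_assoc]
  haveI : IsPreimmersion f' := by
    haveI : IsPreimmersion (f' ≫ Vz.ι) := by rw [IsOpenImmersion.lift_fac]; infer_instance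
    exact IsPreimmersion.of_comp f' Vz.ι
  obtain ⟨u, hu⟩ := GenNormLib.exists_iso_normalization f hη
    (RingHom.Finite.of_surjective _ (f.stalkMap_surjective _)) hN g (f' ≫ j)
    (by rw [Category.assoc, hj, IsOpenImmersion.lift_fac])
    (by
      haveI : Nonempty Vz := hV
      haveI : IsIntegral Vz.toScheme := inferInstance
      rw [Scheme.Hom.comp_apply]
      have h1 : f' (genericPoint T) = genericPoint Vz.toScheme := by
        refine Vz.ι.injective ?_
        rw [← Scheme.Hom.comp_apply, IsOpenImmersion.lift_fac, hη]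
        exact (genericPoint_eq_of_isOpenImmersion Vz.ι).symm
      rw [h1]
      exact genericPoint_eq_of_isOpenImmersion j)
    ((f' ≫ j).stalkMap_surjective _)
  refine ⟨u.symm, ?_⟩
  show u.inv ≫ f.fromNormalization ≫ ι = φ
  rw [← hu, Category.assoc, Iso.inv_hom_id_assoc, hg]

end Groth.Agent.S12240
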