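import Groth.Statements.S12243
import Groth.Agent.DevissShrinkLib.TensorPieces

set_option autoImplicit false
set_option backward.isDefEq.respectTransparency false
set_option backward.isDefEq.respectTransparency.types false
set_option maxHeartbeats 1000000
universe u
open FlatMor

namespace Groth.Agent.S12243


section Helpers
end Helpers

open TensorProduct in
/-- All schemes are affine; the base-changed complete dévissage is asserted to exist with its pieces
pinned as base changes. Let R → S be of finite type, N a finite S-module, p a prime of R and 𝒟 a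
complete dévissage of N/S/R over p in the prelude's algebraic form (rings A_i, smooth R-algebras B_i
with pB_i prime and geometrically irreducible fibres, finite A_i-modules M_i with N ≅ M_0, maps α_i
from finite free B_i-modules, bijective on the fibre at pB_i, whose cokernels are the next modules,
the last one surjective; steps indexed by i below the length). Let R → R' be a ring map, p' a prime
of R' over p, S' the base change of S and N' = N ⊗_S S'. Then N'/S'/R' has a complete dévissage 𝒟'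
over p' of the same length and the same ranks whose pieces are base changes of those of 𝒟: for the
steps i below the length there are algebra structures making A'_i and B'_i the base changes of A_i
and B_i along R → R', compatibly with B_i → A_i, with B_i → A_{i+1}, with S → A_0 and with S' →
A'_0, and A_i-linear base-change maps M_i → M'_i (M'_i ≅ M_i ⊗_{A_i} A'_i) carrying N ≅ M_0 to N' ≅
M'_0 and the image of α_i onto a generating set of the image of α'_i. (The published statement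
base-changes all the data functorially; here the identifications of cokernels inside 𝒟' are not
required to be the base-changed ones.) -/
theorem result
    (R S : Type u) [CommRing R] [CommRing S] [Algebra R S] [Algebra.FiniteType R S]
    (N : Type u) [AddCommGroup N] [Module S N] [Module.Finite S N]
    (p : Ideal R) [p.IsPrime] (𝒟 : FlatCA.CompleteDevissage R S N p)
    (R' : Type u) [CommRing R'] [Algebra R R'] (p' : Ideal R') [p'.IsPrime] [p'.LiesOver p]
    (S' : Type u) [CommRing S'] [Algebra R' S'] [Algebra R S'] [Algebra S S'] [IsScalarTower R R' S']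
    [IsScalarTower R S S'] [Algebra.IsPushout R R' S S']
    (N' : Type u) [AddCommGroup N'] [Module S' N'] [Module S N'] [IsScalarTower S S' N']
    (f : N →ₗ[S] N') (hf : IsBaseChange S' f) :
    ∃ (𝒟' : FlatCA.CompleteDevissage R' S' N' p')
      (aA : ∀ i : Fin 𝒟.n, Algebra (𝒟.A i) (𝒟'.A i)) (rA : ∀ i : Fin 𝒟.n, Algebra R (𝒟'.A i))
      (_t1 : ∀ i : Fin 𝒟.n, IsScalarTower R (R') (𝒟'.A i)) (_t2 : ∀ i : Fin 𝒟.n, IsScalarTower R (𝒟.A i) (𝒟'.A i))
      (aB : ∀ i : Fin 𝒟.n, Algebra (𝒟.B i) (𝒟'.B i)) (rB : ∀ i : Fin 𝒟.n, Algebra R (𝒟'.B i))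
      (_t3 : ∀ i : Fin 𝒟.n, IsScalarTower R (R') (𝒟'.B i)) (_t4 : ∀ i : Fin 𝒟.n, IsScalarTower R (𝒟.B i) (𝒟'.B i))
      (bA : ∀ i : Fin 𝒟.n, Algebra (𝒟.B i) (𝒟'.A i)) (_t5 : ∀ i : Fin 𝒟.n, IsScalarTower (𝒟.B i) (𝒟.A i) (𝒟'.A i))
      (_t6 : ∀ i : Fin 𝒟.n, IsScalarTower (𝒟.B i) (𝒟'.B i) (𝒟'.A i))
      (bA' : ∀ i : Fin 𝒟.n, Algebra (𝒟.B i) (𝒟'.A (i + 1)))
      (_t7 : ∀ i : Fin 𝒟.n, IsScalarTower (𝒟.B i) (𝒟'.B i) (𝒟'.A (i + 1)))
      (sA : Algebra S (𝒟'.A 0)) (_t8 : IsScalarTower S (S') (𝒟'.A 0))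
      (mA : ∀ i : Fin 𝒟.n, Module (𝒟.A i) (𝒟'.M i)) (_t9 : ∀ i : Fin 𝒟.n, IsScalarTower (𝒟.A i) (𝒟'.A i) (𝒟'.M i))
      (gM : ∀ i : Fin 𝒟.n, 𝒟.M i →ₗ[𝒟.A i] 𝒟'.M i),
      𝒟'.n = 𝒟.n ∧ 𝒟'.r = 𝒟.r ∧
      (letI := aA ⟨0, 𝒟.pos⟩; IsScalarTower S (𝒟.A 0) (𝒟'.A 0)) ∧
      (∀ x : N, 𝒟'.isoN (f x) = gM ⟨0, 𝒟.pos⟩ (𝒟.isoN x)) ∧
      (∀ (i : Fin 𝒟.n) (h : (i : ℕ) + 1 < 𝒟.n),
        letI := aA ⟨i + 1, h⟩; IsScalarTower (𝒟.B i) (𝒟.A (i + 1)) (𝒟'.A (i + 1))) ∧
      ∀ i : Fin 𝒟.n,
        Algebra.IsPushout R R' (𝒟.A i) (𝒟'.A i) ∧ Algebra.IsPushout R R' (𝒟.B i) (𝒟'.B i) ∧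
        IsBaseChange (𝒟'.A i) (gM i) ∧
        LinearMap.range (𝒟'.α i) =
          Submodule.span (𝒟'.B i) ((gM i) '' (LinearMap.range (𝒟.α i) : Set (𝒟.M i))) := by
  choose X hX using DevissShrinkLib.exists_tensor_piece 𝒟 R' p'
  obtain ⟨L⟩ := DevissShrinkLib.nonempty_tensor_links hX
  obtain ⟨T⟩ := DevissShrinkLib.nonempty_tensor_start hX S'
  let aA : ∀ i : Fin 𝒟.n, Algebra (𝒟.A i) (X i).A := fun i => ((X i).ia i.2).toAlgebra
  let rA : ∀ i : Fin 𝒟.n, Algebra R (X i).A := fun i => ((algebraMap R' (X i).A).comp (algebraMap R R')).toAlgebra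
  let aB : ∀ i : Fin 𝒟.n, Algebra (𝒟.B i) (X i).B := fun i => ((X i).ib i.2).toAlgebra
  let rB : ∀ i : Fin 𝒟.n, Algebra R (X i).B := fun i => ((algebraMap R' (X i).B).comp (algebraMap R R')).toAlgebra
  let bA : ∀ i : Fin 𝒟.n, Algebra (𝒟.B i) (X i).A := fun i =>
    (((X i).ia i.2).comp (algebraMap (𝒟.B i) (𝒟.A i))).toAlgebra
  let bA' : ∀ i : Fin 𝒟.n, Algebra (𝒟.B i) (X (i + 1)).A := fun i =>
    ((L.map i).toRingHom.comp ((X i).ib i.2)).toAlgebra
  let sA : Algebra S (X 0).A := (T.σ.toRingHom.comp (algebraMap S S')).toAlgebra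
  let mA : ∀ i : Fin 𝒟.n, Module (𝒟.A i) (X i).M := fun i => Module.compHom (X i).M ((X i).ia i.2)
  let gM : ∀ i : Fin 𝒟.n, letI := mA i; 𝒟.M i →ₗ[𝒟.A i] (X i).M := fun i =>
    letI := mA i
    { toFun := (X i).g i.2, map_add' := map_add ((X i).g i.2), map_smul' := (X i).smul i.2 }
  have t1 : ∀ i : Fin 𝒟.n, letI := rA i; IsScalarTower R R' (X i).A := fun i => by
    letI := rA i; exact IsScalarTower.of_algebraMap_eq fun _ => rfl
  have t2 : ∀ i : Fin 𝒟.n, letI := rA i; letI := aA i; IsScalarTower R (𝒟.A i) (X i).A := fun i => by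
    letI := rA i; letI := aA i
    exact IsScalarTower.of_algebraMap_eq fun r => (RingHom.congr_fun ((X i).ra i.2) r).symm
  have t3 : ∀ i : Fin 𝒟.n, letI := rB i; IsScalarTower R R' (X i).B := fun i => by
    letI := rB i; exact IsScalarTower.of_algebraMap_eq fun _ => rfl
  have t4 : ∀ i : Fin 𝒟.n, letI := rB i; letI := aB i; IsScalarTower R (𝒟.B i) (X i).B := fun i => by
    letI := rB i; letI := aB i
    exact IsScalarTower.of_algebraMap_eq fun r => (RingHom.congr_fun ((X i).rb i.2) r).symm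
  have t5 : ∀ i : Fin 𝒟.n, letI := aA i; letI := bA i; IsScalarTower (𝒟.B i) (𝒟.A i) (X i).A := fun i => by
    letI := aA i; letI := bA i; exact IsScalarTower.of_algebraMap_eq fun _ => rfl
  have t6 : ∀ i : Fin 𝒟.n, letI := aB i; letI := bA i; IsScalarTower (𝒟.B i) (X i).B (X i).A := fun i => by
    letI := aB i; letI := bA i; exact IsScalarTower.of_algebraMap_eq fun b => ((X i).commA i.2 b).symm
  have t7 : ∀ i : Fin 𝒟.n, letI := aB i; letI := bA' i
      letI : Algebra (X i).B (X (i + 1)).A := (L.map i).toRingHom.toAlgebra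
      IsScalarTower (𝒟.B i) (X i).B (X (i + 1)).A := fun i => by
    letI := aB i; letI := bA' i; letI : Algebra (X i).B (X (i + 1)).A := (L.map i).toRingHom.toAlgebra
    exact IsScalarTower.of_algebraMap_eq fun _ => rfl
  have t8 : letI := sA; letI : Algebra S' (X 0).A := T.σ.toRingHom.toAlgebra; IsScalarTower S S' (X 0).A := by
    letI := sA; letI : Algebra S' (X 0).A := T.σ.toRingHom.toAlgebra
    exact IsScalarTower.of_algebraMap_eq fun _ => rfl
  have t9 : ∀ i : Fin 𝒟.n, letI := aA i; letI := mA i; IsScalarTower (𝒟.A i) (X i).A (X i).M := fun i => by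
    letI := aA i; letI := mA i; exact IsScalarTower.of_algebraMap_smul fun _ _ => rfl
  have h0 : letI := aA ⟨0, 𝒟.pos⟩; letI := sA; IsScalarTower S (𝒟.A 0) (X 0).A := by
    letI := aA ⟨0, 𝒟.pos⟩; letI := sA
    exact IsScalarTower.of_algebraMap_eq fun b =>
      (RingHom.congr_fun (congrArg CommRingCat.Hom.hom T.push.w) b).symm
  have hstep : ∀ (i : Fin 𝒟.n) (h : (i : ℕ) + 1 < 𝒟.n), letI := aA ⟨i + 1, h⟩; letI := bA' i
      IsScalarTower (𝒟.B i) (𝒟.A (i + 1)) (X (i + 1)).A := fun i h => by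
    letI := aA ⟨i + 1, h⟩; letI := bA' i
    exact IsScalarTower.of_algebraMap_eq fun b => L.map_eq i h b
  have hP : ∀ i : Fin 𝒟.n, letI := aA i; letI := rA i; letI := aB i; letI := rB i
      haveI := t1 i; haveI := t2 i; haveI := t3 i; haveI := t4 i; letI := mA i; haveI := t9 i
      Algebra.IsPushout R R' (𝒟.A i) (X i).A ∧ Algebra.IsPushout R R' (𝒟.B i) (X i).B ∧
        IsBaseChange (X i).A (gM i) ∧
        LinearMap.range (X i).α =
          Submodule.span (X i).B ((gM i) '' (LinearMap.range (𝒟.α i) : Set (𝒟.M i))) := fun i => by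
    obtain ⟨hB, hA⟩ := hX i i.2
    letI := aA i; letI := rA i; letI := aB i; letI := rB i
    haveI := t1 i; haveI := t2 i; haveI := t3 i; haveI := t4 i
    exact ⟨(CommRingCat.isPushout_iff_isPushout.mp hA).symm, (CommRingCat.isPushout_iff_isPushout.mp hB).symm,
      (X i).bc i.2, (X i).range_α i.2⟩
  exact ⟨DevissShrinkLib.build X L T hf, aA, rA, t1, t2, aB, rB, t3, t4, bA, t5, t6, bA', t7, sA, t8, mA, t9, gM,
    rfl, rfl, h0, fun x => DevissShrinkLib.build_isoN X L T hf x, hstep, hP⟩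

end Groth.Agent.S12243
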