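import Groth.Statements.S12244
import Groth.Agent.DevissShrinkLib.AtIndex

set_option autoImplicit false
set_option backward.isDefEq.respectTransparency false
set_option backward.isDefEq.respectTransparency.types false
set_option maxHeartbeats 1000000
universe u
open FlatMor

namespace Groth.Agent.S12244


section Helpers
end Helpers

open TensorProduct in
/-- All schemes are affine. Let R → S be of finite type, N a finite S-module, p ⊆ R and q ⊆ S primes, 𝒟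
a complete dévissage of N/S/R over p in the prelude's algebraic form and 𝒜 a datum making it a
complete dévissage at q (primes qB_i ⊆ B_i over p with purely transcendental residue fields, unique
primes qA_i ⊆ A_i over them, threaded through q and through the maps B_i → A_{i+1}, relative
dimensions d_i of R → B_i equal to the local dimension of the fibre support of M_i at qB_i). Let R →
R' be a ring map and p' a prime over p with κ(p) → κ(p') bijective, S' the base change of S, N' = N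
⊗_S S', and q' a prime of S' over q and over p'. Let 𝒟' be a complete dévissage of N'/S'/R' over p'
of the same length whose rings A'_i, B'_i (i below the length) are base changes of A_i, B_i along R
→ R' compatibly with B_i → A_i, B_i → A_{i+1}, S → A_0 and S' → A'_0, and whose modules M'_i are
base changes of M_i along A_i → A'_i compatibly with N ≅ M_0 and N' ≅ M'_0. Assume moreover that at
every index at or beyond the length the ring B'_i has a prime over p' and A'_i a prime over that one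
(the structure's families run over all natural numbers and constrain nothing at those indices, while
a datum at a point asks for such primes at every index; the condition touches only this
unconstrained tail and holds, for instance, when the tail repeats the last genuine step — without it
the zero ring could sit there and no datum would exist). Then 𝒟' is a complete dévissage at q' with
the same relative dimensions: there is a datum 𝒜' for (𝒟', q') with d' = d whose primes qB'_i, qA'_i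
lie over qB_i, qA_i for every step i below the length. -/
theorem result
    (R S : Type u) [CommRing R] [CommRing S] [Algebra R S] [Algebra.FiniteType R S]
    (N : Type u) [AddCommGroup N] [Module S N] [Module.Finite S N]
    (p : Ideal R) [p.IsPrime] (q : Ideal S) [q.IsPrime] (𝒟 : FlatCA.CompleteDevissage R S N p)
    (𝒜 : FlatCA.CompleteDevissageAt R S N p q 𝒟)
    (R' : Type u) [CommRing R'] [Algebra R R'] (p' : Ideal R') [p'.IsPrime] [hp' : p'.LiesOver p]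
    (hκ : Function.Bijective (Ideal.ResidueField.mapₐ p p' (Algebra.ofId R R') hp'.over))
    (S' : Type u) [CommRing S'] [Algebra R' S'] [Algebra R S'] [Algebra S S'] [IsScalarTower R R' S']
    [IsScalarTower R S S'] [Algebra.IsPushout R R' S S']
    (N' : Type u) [AddCommGroup N'] [Module S' N'] [Module S N'] [IsScalarTower S S' N']
    (f : N →ₗ[S] N') (hf : IsBaseChange S' f)
    (q' : Ideal S') [q'.IsPrime] [q'.LiesOver q] [q'.LiesOver p']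
    (𝒟' : FlatCA.CompleteDevissage R' S' N' p') (hn : 𝒟'.n = 𝒟.n)
    (htail : ∀ i, 𝒟.n ≤ i → ∃ (Q : Ideal (𝒟'.B i)) (P : Ideal (𝒟'.A i)),
      Q.IsPrime ∧ P.IsPrime ∧ Q.LiesOver p' ∧ P.LiesOver Q)
    [aA : ∀ i : Fin 𝒟.n, Algebra (𝒟.A i) (𝒟'.A i)] [rA : ∀ i : Fin 𝒟.n, Algebra R (𝒟'.A i)]
      [∀ i : Fin 𝒟.n, IsScalarTower R (R') (𝒟'.A i)] [∀ i : Fin 𝒟.n, IsScalarTower R (𝒟.A i) (𝒟'.A i)]
      [aB : ∀ i : Fin 𝒟.n, Algebra (𝒟.B i) (𝒟'.B i)] [rB : ∀ i : Fin 𝒟.n, Algebra R (𝒟'.B i)]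
      [∀ i : Fin 𝒟.n, IsScalarTower R (R') (𝒟'.B i)] [∀ i : Fin 𝒟.n, IsScalarTower R (𝒟.B i) (𝒟'.B i)]
      [bA : ∀ i : Fin 𝒟.n, Algebra (𝒟.B i) (𝒟'.A i)] [∀ i : Fin 𝒟.n, IsScalarTower (𝒟.B i) (𝒟.A i) (𝒟'.A i)]
      [∀ i : Fin 𝒟.n, IsScalarTower (𝒟.B i) (𝒟'.B i) (𝒟'.A i)]
      [bA' : ∀ i : Fin 𝒟.n, Algebra (𝒟.B i) (𝒟'.A (i + 1))]
      [∀ i : Fin 𝒟.n, IsScalarTower (𝒟.B i) (𝒟'.B i) (𝒟'.A (i + 1))]
      [sA : Algebra S (𝒟'.A 0)] [IsScalarTower S (S') (𝒟'.A 0)]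
      [mA : ∀ i : Fin 𝒟.n, Module (𝒟.A i) (𝒟'.M i)] [∀ i : Fin 𝒟.n, IsScalarTower (𝒟.A i) (𝒟'.A i) (𝒟'.M i)]
      (gM : ∀ i : Fin 𝒟.n, 𝒟.M i →ₗ[𝒟.A i] 𝒟'.M i)
    (hbc : (letI := aA ⟨0, 𝒟.pos⟩; IsScalarTower S (𝒟.A 0) (𝒟'.A 0)) ∧
      (∀ x : N, 𝒟'.isoN (f x) = gM ⟨0, 𝒟.pos⟩ (𝒟.isoN x)) ∧
      (∀ (i : Fin 𝒟.n) (h : (i : ℕ) + 1 < 𝒟.n),
        letI := aA ⟨i + 1, h⟩; IsScalarTower (𝒟.B i) (𝒟.A (i + 1)) (𝒟'.A (i + 1))) ∧
      ∀ i : Fin 𝒟.n,
        Algebra.IsPushout R R' (𝒟.A i) (𝒟'.A i) ∧ Algebra.IsPushout R R' (𝒟.B i) (𝒟'.B i) ∧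
        IsBaseChange (𝒟'.A i) (gM i)) :
    ∃ 𝒜' : FlatCA.CompleteDevissageAt R' S' N' p' q' 𝒟', 𝒜'.d = 𝒜.d ∧
      ∀ i : Fin 𝒟.n, (𝒜'.qB i).LiesOver (𝒜.qB i) ∧ (𝒜'.qA i).LiesOver (𝒜.qA i) := by
  obtain ⟨h0, hiso, hstep, hP⟩ := hbc
  haveI := 𝒜.hqB
  haveI := 𝒜.hqA
  haveI := 𝒜.overB
  haveI := 𝒜.overA
  have key : ∀ i, ∃ (Q : Ideal (𝒟'.B i)) (P : Ideal (𝒟'.A i)) (_ : Q.IsPrime) (_ : P.IsPrime),
      Q.comap (algebraMap R' (𝒟'.B i)) = p' ∧ P.comap (algebraMap R' (𝒟'.A i)) = p' ∧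
      ((∀ h : i < 𝒟.n, (letI := aB ⟨i, h⟩; Q.comap (algebraMap (𝒟.B i) (𝒟'.B i)) = 𝒜.qB i) ∧
        (letI := aA ⟨i, h⟩; P.comap (algebraMap (𝒟.A i) (𝒟'.A i)) = 𝒜.qA i))) ∧
      (¬ i < 𝒟.n → P.LiesOver Q) := by
    intro i
    by_cases h : i < 𝒟.n
    · letI := aB ⟨i, h⟩; letI := aA ⟨i, h⟩; letI := rB ⟨i, h⟩; letI := rA ⟨i, h⟩
      haveI : IsScalarTower R R' (𝒟'.A i) := ‹∀ i : Fin 𝒟.n, IsScalarTower R R' (𝒟'.A i)› ⟨i, h⟩
      haveI : IsScalarTower R (𝒟.A i) (𝒟'.A i) := ‹∀ i : Fin 𝒟.n, IsScalarTower R (𝒟.A i) (𝒟'.A i)› ⟨i, h⟩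
      haveI : IsScalarTower R R' (𝒟'.B i) := ‹∀ i : Fin 𝒟.n, IsScalarTower R R' (𝒟'.B i)› ⟨i, h⟩
      haveI : IsScalarTower R (𝒟.B i) (𝒟'.B i) := ‹∀ i : Fin 𝒟.n, IsScalarTower R (𝒟.B i) (𝒟'.B i)› ⟨i, h⟩
      obtain ⟨hpA, hpB, -⟩ := hP ⟨i, h⟩
      haveI := hpA; haveI := hpB
      haveI : (𝒜.qA i).LiesOver p := Ideal.LiesOver.trans (𝒜.qA i) (𝒜.qB i) p
      obtain ⟨Q, hQ, hQ1, hQ2⟩ := DevissShrinkLib.exists_prime_pushout (D' := 𝒟'.B i) p p' (𝒜.qB i)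
      obtain ⟨P, hP', hP1, hP2⟩ := DevissShrinkLib.exists_prime_pushout (D' := 𝒟'.A i) p p' (𝒜.qA i)
      exact ⟨Q, P, hQ, hP', hQ1, hP1, fun _ => ⟨hQ2, hP2⟩, fun hn => absurd h hn⟩
    · obtain ⟨Q, P, hQ, hP', hQ1, hPQ⟩ := htail i (not_lt.1 h)
      refine ⟨Q, P, hQ, hP', hQ1.over.symm, ?_, fun h' => absurd h' h, fun _ => hPQ⟩
      rw [IsScalarTower.algebraMap_eq R' (𝒟'.B i) (𝒟'.A i), ← Ideal.comap_comap]
      exact ((congrArg (Ideal.comap _) hPQ.over).symm).trans hQ1.over.symm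
  choose qB qA hqB hqA hQp hPp hover htl using key
  have main : ∀ i : Fin 𝒟.n, ∃ (_ : (qA i).LiesOver (qB i)),
      (haveI : (qB i).LiesOver p' := ⟨(hQp i).symm⟩; FlatCA.PurelyTranscendental p' (qB i)) ∧
      (∀ (Q : Ideal (𝒟'.A i)) [Q.IsPrime], Q.LiesOver (qB i) → Q = qA i) ∧
      FlatCA.SmoothRelDim (𝒜.d i) R' (𝒟'.B i) ∧
      ∃ (x : PrimeSpectrum (p'.Fiber (𝒟'.B i)))
        (hx : x ∈ Module.support (p'.Fiber (𝒟'.B i)) (FlatCA.fiberMod p' (𝒟'.B i) (𝒟'.M i))),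
        x.asIdeal = FlatCA.fiberIdeal p' (qB i) ∧
        FlatMor.localDim (Module.support (p'.Fiber (𝒟'.B i)) (FlatCA.fiberMod p' (𝒟'.B i) (𝒟'.M i))) ⟨x, hx⟩ =
          𝒜.d i := by
    intro i
    obtain ⟨hpA, hpB, hg⟩ := hP i
    haveI := hpA; haveI := hpB
    haveI := hqB i; haveI := hqA i
    haveI : (qB i).LiesOver p' := ⟨(hQp i).symm⟩
    haveI : (qA i).LiesOver p' := ⟨(hPp i).symm⟩
    haveI : (qB i).LiesOver (𝒜.qB i) := ⟨((hover i i.2).1).symm⟩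
    haveI : (qA i).LiesOver (𝒜.qA i) := ⟨((hover i i.2).2).symm⟩
    haveI := 𝒟.finiteBA i i.2
    haveI := 𝒟.finiteM i i.2
    exact DevissShrinkLib.at_index p p' hκ (gM i) hg (𝒜.qB i) (𝒜.qA i) (qB i) (qA i)
      (𝒜.pureTrans i i.2) (𝒜.uniq i i.2) (𝒜.d i) (𝒜.relDim i i.2) (𝒜.locDim i i.2)
  have hAB : ∀ i, (qA i).LiesOver (qB i) := fun i =>
    if h : i < 𝒟.n then (main ⟨i, h⟩).1 else htl i h
  have hq0 : (qA 0).comap (algebraMap S' (𝒟'.A 0)) = q' := by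
    haveI := hqA 0
    letI := aA ⟨0, 𝒟.pos⟩
    haveI := h0
    refine DevissExLib.eq_of_comap_eq (C₁ := S) p p' hκ.2 _ q' ⟨?_⟩ inferInstance ?_
    · show p' = ((qA 0).comap (algebraMap S' (𝒟'.A 0))).comap (algebraMap R' S')
      rw [Ideal.comap_comap, ← IsScalarTower.algebraMap_eq]
      exact (hPp 0).symm
    · rw [Ideal.comap_comap, ← IsScalarTower.algebraMap_eq, IsScalarTower.algebraMap_eq S (𝒟.A 0) (𝒟'.A 0),
        ← Ideal.comap_comap, (hover 0 𝒟.pos).2, 𝒜.q0]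
      exact Ideal.over_def q' q
  have hqs : ∀ i, i + 1 < 𝒟.n → (qA (i + 1)).comap (algebraMap (𝒟'.B i) (𝒟'.A (i + 1))) = qB i := by
    intro i h
    haveI := hqA (i + 1); haveI := hqB i
    let j : Fin 𝒟.n := ⟨i, Nat.lt_of_succ_lt h⟩
    letI := aA ⟨i + 1, h⟩
    letI : Algebra (𝒟.B i) (𝒟'.A (i + 1)) := bA' j
    letI : Algebra (𝒟.B i) (𝒟'.B i) := aB j
    haveI : IsScalarTower (𝒟.B i) (𝒟.A (i + 1)) (𝒟'.A (i + 1)) := hstep j h
    haveI : IsScalarTower (𝒟.B i) (𝒟'.B i) (𝒟'.A (i + 1)) :=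
      ‹∀ i : Fin 𝒟.n, IsScalarTower (𝒟.B i) (𝒟'.B i) (𝒟'.A (i + 1))› j
    letI : Algebra R (𝒟'.B i) := rB j
    haveI : IsScalarTower R R' (𝒟'.B i) := ‹∀ i : Fin 𝒟.n, IsScalarTower R R' (𝒟'.B i)› j
    haveI : IsScalarTower R (𝒟.B i) (𝒟'.B i) := ‹∀ i : Fin 𝒟.n, IsScalarTower R (𝒟.B i) (𝒟'.B i)› j
    haveI : Algebra.IsPushout R R' (𝒟.B i) (𝒟'.B i) := (hP j).2.1
    refine DevissExLib.eq_of_comap_eq (C₁ := 𝒟.B i) p p' hκ.2 _ (qB i) ⟨?_⟩ ⟨(hQp i).symm⟩ ?_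
    · show p' = ((qA (i + 1)).comap (algebraMap (𝒟'.B i) (𝒟'.A (i + 1)))).comap (algebraMap R' (𝒟'.B i))
      rw [Ideal.comap_comap, ← IsScalarTower.algebraMap_eq]
      exact (hPp (i + 1)).symm
    · rw [Ideal.comap_comap, ← IsScalarTower.algebraMap_eq,
        IsScalarTower.algebraMap_eq (𝒟.B i) (𝒟.A (i + 1)) (𝒟'.A (i + 1)), ← Ideal.comap_comap,
        (hover (i + 1) h).2, 𝒜.qStep i h]
      exact ((hover i (Nat.lt_of_succ_lt h)).1).symm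
  exact ⟨{ qB := qB, qA := qA, hqB := hqB, hqA := hqA, overB := fun i => ⟨(hQp i).symm⟩, overA := hAB
           pureTrans := fun i hi => (main ⟨i, hn ▸ hi⟩).2.1
           uniq := fun i hi => (main ⟨i, hn ▸ hi⟩).2.2.1
           q0 := hq0
           qStep := fun i hi => hqs i (hn ▸ hi)
           d := 𝒜.d
           relDim := fun i hi => (main ⟨i, hn ▸ hi⟩).2.2.2.1
           locDim := fun i hi => (main ⟨i, hn ▸ hi⟩).2.2.2.2 },
    rfl, fun i => ⟨⟨((hover i i.2).1).symm⟩, ⟨((hover i i.2).2).symm⟩⟩⟩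

end Groth.Agent.S12244
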