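import Groth.Statements.S12245
import Groth.Agent.DevissExLib.OpenNhd
import Groth.Agent.DevissExLib.FibreEtale
import Groth.Agent.FlatInjLib.AssFlat

set_option autoImplicit false
universe u
open FlatMor

namespace Groth.Agent.S12245

open TensorProduct AlgebraicGeometry in
/-- All schemes are affine. Let R → S be of finite type, N a finite S-module, p ⊆ R and q ⊆ S primes
with q over p, and (C, D, G, n; z, y) a one-step dévissage of N/S/R at q (one-step dévissage over p;
z a prime of C over q and over the prime y of D, unique over y; κ(y)/κ(p) purely transcendental;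
local dimension of the fibre support at q equal to n). Let (R, p) → (R', p') and (D, y) → (D', y')
be elementary étale ring maps at those primes (étale, prime over prime, trivial residue field
extension) with D' an R'-algebra compatibly with D and R, and y' over p'. Then there are: an
elementary étale ring map (R', p') → (R'', p''); an R''-algebra D'' which is an affine open of the
base change of D' to R'' (an open immersion on spectra out of a pushout T of D' along R' → R''),
compatibly with D' and R'', with a prime y'' over y' and over p''; the base change C'' of C along D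
→ D'' with a prime z'' over z and y'' and the base change G'' of G to C''; an elementary étale ring
map (S, q) → (S'', q'') with S'' an R''-algebra compatibly with R → S and a surjection S'' → C''
compatible with S → C and with D'' → C'' over R'', z'' lying over q''; and the base change N'' of N
to S'' — such that (C'', D'', G'', n; z'', y'') is a one-step dévissage of N''/S''/R'' at q''
(including the four pointed conditions). -/
theorem result
    (R S : Type u) [CommRing R] [CommRing S] [Algebra R S] [Algebra.FiniteType R S]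
    (N : Type u) [AddCommGroup N] [Module S N] [Module R N] [IsScalarTower R S N] [Module.Finite S N]
    (p : Ideal R) [p.IsPrime] (q : Ideal S) [q.IsPrime] [q.LiesOver p]
    (C D G : Type u) [CommRing C] [CommRing D] [Algebra S C] [Algebra R C] [IsScalarTower R S C]
    [Algebra R D] [Algebra D C] [IsScalarTower R D C] [AddCommGroup G] [Module C G] [Module S G]
    [IsScalarTower S C G] (n : ℕ)
    (h : FlatCA.IsOneStepDevissage R S N p C D G n)
    (z : Ideal C) [z.IsPrime] (y : Ideal D) [y.IsPrime] [z.LiesOver q] [z.LiesOver y] [y.LiesOver p]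
    (h1 : ∃ (ξ : PrimeSpectrum (p.Fiber S)) (hξ : ξ ∈ Module.support (p.Fiber S) (FlatCA.fiberMod p S N)),
      ξ.asIdeal = FlatCA.fiberIdeal p q ∧
      FlatMor.localDim (Module.support (p.Fiber S) (FlatCA.fiberMod p S N)) ⟨ξ, hξ⟩ = n)
    (h3 : ∀ (z₁ : Ideal C) [z₁.IsPrime], z₁.LiesOver y → z₁ = z)
    (h4 : FlatCA.PurelyTranscendental p y)
    (R' : Type u) [CommRing R'] [Algebra R R'] (p' : Ideal R') [p'.IsPrime] (hR' : FlatCA.IsEtaleNhd R R' p p')
    (D' : Type u) [CommRing D'] [Algebra D D'] [Algebra R' D'] [Algebra R D'] [IsScalarTower R R' D']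
    [IsScalarTower R D D'] (y' : Ideal D') [y'.IsPrime] (hD' : FlatCA.IsEtaleNhd D D' y y') [y'.LiesOver p'] :
    ∃ (R'' : Type u) (_ : CommRing R'') (_ : Algebra R' R'') (_ : Algebra R R'') (_ : IsScalarTower R R' R'')
      (p'' : Ideal R'') (_ : p''.IsPrime),
      FlatCA.IsEtaleNhd R' R'' p' p'' ∧
    ∃ (T : Type u) (_ : CommRing T) (_ : Algebra R' T) (_ : Algebra R'' T) (_ : Algebra D' T)
      (_ : IsScalarTower R' R'' T) (_ : IsScalarTower R' D' T),
      Algebra.IsPushout R' R'' D' T ∧
    ∃ (D'' : Type u) (_ : CommRing D'') (_ : Algebra T D'') (_ : Algebra D' D'') (_ : Algebra R'' D'')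
      (_ : Algebra D D'') (_ : Algebra R D'') (_ : IsScalarTower D' T D'') (_ : IsScalarTower R'' T D'')
      (_ : IsScalarTower D D' D'') (_ : IsScalarTower R R'' D'') (_ : IsScalarTower R D D'')
      (y'' : Ideal D'') (_ : y''.IsPrime) (_ : y''.LiesOver y') (_ : y''.LiesOver p''),
      IsOpenImmersion (Spec.map (CommRingCat.ofHom (algebraMap T D''))) ∧
    ∃ (C'' : Type u) (_ : CommRing C'') (_ : Algebra C C'') (_ : Algebra D'' C'') (_ : Algebra D C'')
      (_ : Algebra R'' C'') (_ : IsScalarTower D D'' C'') (_ : IsScalarTower D C C'') (_ : IsScalarTower R'' D'' C'')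
      (z'' : Ideal C'') (_ : z''.IsPrime) (_ : z''.LiesOver z) (_ : z''.LiesOver y''),
      Algebra.IsPushout D D'' C C'' ∧
    ∃ (G'' : Type u) (_ : AddCommGroup G'') (_ : Module C'' G'') (_ : Module C G'') (_ : IsScalarTower C C'' G'')
      (gG : G →ₗ[C] G''), IsBaseChange C'' gG ∧
    ∃ (S'' : Type u) (_ : CommRing S'') (_ : Algebra S S'') (_ : Algebra R'' S'') (_ : Algebra R S'')
      (_ : IsScalarTower R S S'') (_ : IsScalarTower R R'' S'') (q'' : Ideal S'') (_ : q''.IsPrime)
      (_ : Algebra S'' C'') (_ : Algebra S C'') (_ : IsScalarTower S S'' C'') (_ : IsScalarTower S C C'')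
      (_ : IsScalarTower R'' S'' C'') (_ : Module S'' G'') (_ : IsScalarTower S'' C'' G''),
      FlatCA.IsEtaleNhd S S'' q q'' ∧ z''.LiesOver q'' ∧
    ∃ (N'' : Type u) (_ : AddCommGroup N'') (_ : Module S'' N'') (_ : Module S N'') (_ : IsScalarTower S S'' N'')
      (_ : Module R'' N'') (_ : IsScalarTower R'' S'' N'') (gN : N →ₗ[S] N''), IsBaseChange S'' gN ∧
      FlatCA.IsOneStepDevissage R'' S'' N'' p'' C'' D'' G'' n ∧
      (∃ (ξ : PrimeSpectrum (p''.Fiber S'')) (hξ : ξ ∈ Module.support (p''.Fiber S'') (FlatCA.fiberMod p'' S'' N'')),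
        ξ.asIdeal = FlatCA.fiberIdeal p'' q'' ∧
        FlatMor.localDim (Module.support (p''.Fiber S'') (FlatCA.fiberMod p'' S'' N'')) ⟨ξ, hξ⟩ = n) ∧
      (∀ (z₂ : Ideal C'') [z₂.IsPrime], z₂.LiesOver y'' → z₂ = z'') ∧
      FlatCA.PurelyTranscendental p'' y'' := by
  obtain ⟨⟨eN⟩, hsurj, hfp, hfinDC, hfinCG, hsm, hgi₀, hdim⟩ := h
  haveI := hfinDC
  haveI := hfinCG
  haveI := hfp
  obtain ⟨R'', _, _, p'', _, hnR'', T, _, _, _, _, _, _, hT, D'', _, _, _, _, _, _, y'', _, hopen, hnD'', hy''p'',
    hsm'', hgi''⟩ := DevissExLib.exists_open_good_nhd hsm h4 R' p' hR' D' y' hD'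
  haveI := hy''p''
  obtain ⟨hetR'', hp''p', hbR''⟩ := hnR''
  obtain ⟨hetD'', hy''y', hbD''⟩ := hnD''
  haveI := hp''p'
  haveI := hy''y'
  letI algRR'' : Algebra R R'' := ((algebraMap R' R'').comp (algebraMap R R')).toAlgebra
  haveI : IsScalarTower R R' R'' := IsScalarTower.of_algebraMap_eq fun _ => rfl
  letI algDD'' : Algebra D D'' := ((algebraMap D' D'').comp (algebraMap D D')).toAlgebra
  haveI : IsScalarTower D D' D'' := IsScalarTower.of_algebraMap_eq fun _ => rfl
  letI algRD'' : Algebra R D'' := ((algebraMap D D'').comp (algebraMap R D)).toAlgebra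
  haveI : IsScalarTower R D D'' := IsScalarTower.of_algebraMap_eq fun _ => rfl
  haveI : IsScalarTower R R'' D'' := IsScalarTower.of_algebraMap_eq fun a => by
    show algebraMap D' D'' (algebraMap D D' (algebraMap R D a)) = algebraMap R'' D'' (algebraMap R' R'' (algebraMap R R' a))
    rw [← IsScalarTower.algebraMap_apply R D D', IsScalarTower.algebraMap_apply R R' D',
      IsScalarTower.algebraMap_apply D' T D'', ← IsScalarTower.algebraMap_apply R' D' T,
      IsScalarTower.algebraMap_apply R' R'' T, ← IsScalarTower.algebraMap_apply R'' T D'']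
  have hnR : FlatCA.IsEtaleNhd R R'' p p'' := DevissExLib.isEtaleNhd_trans hR' ⟨hetR'', hp''p', hbR''⟩
  have hnD : FlatCA.IsEtaleNhd D D'' y y'' := DevissExLib.isEtaleNhd_trans hD' ⟨hetD'', hy''y', hbD''⟩
  obtain ⟨hetR, hp''p, hbR⟩ := hnR
  obtain ⟨hetD, hy''y, hbD⟩ := hnD
  haveI := hetR
  haveI := hetD
  haveI := hp''p
  haveI := hy''y
  -- the base change of `C`
  let C'' := TensorProduct D D'' C
  letI algCC : Algebra C C'' := Algebra.TensorProduct.rightAlgebra
  haveI hpC : Algebra.IsPushout D D'' C C'' := inferInstanceAs (Algebra.IsPushout D D'' C (TensorProduct D D'' C))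
  haveI : IsScalarTower D C C'' := IsScalarTower.of_algebraMap_eq fun a =>
    ((Algebra.TensorProduct.includeRight : C →ₐ[D] C'').commutes a).symm
  haveI : Algebra.Etale C C'' := RingHom.etale_algebraMap.1
    (RingHom.Etale.isStableUnderBaseChange D D'' C C'' (RingHom.etale_algebraMap.2 inferInstance))
  haveI : IsScalarTower R'' D'' C'' := inferInstanceAs (IsScalarTower R'' D'' (TensorProduct D D'' C))
  obtain ⟨S'', _, _, _, _, _, _, _, _, _, _, hetS, hpS, hcomm⟩ :=
    DevissExLib.exists_etale_lift (R := R) (R'' := R'') (S := S) (C := C) (C'' := C'') hsurj hfp (fun a => by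
      rw [← IsScalarTower.algebraMap_apply R S C, IsScalarTower.algebraMap_apply R D C,
        ← IsScalarTower.algebraMap_apply D C C'', IsScalarTower.algebraMap_apply R'' D'' C'',
        ← IsScalarTower.algebraMap_apply R R'' D'', IsScalarTower.algebraMap_apply R D D'',
        ← IsScalarTower.algebraMap_apply D D'' C''])
  haveI := hetS
  haveI := hpS
  haveI : IsScalarTower R'' S'' C'' := IsScalarTower.of_algebraMap_eq fun a => (hcomm a).symm
  have hsq : CategoryTheory.IsPullback (Spec.map (CommRingCat.ofHom (algebraMap D'' C''))) (Spec.map (CommRingCat.ofHom (algebraMap C C'')))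
      (Spec.map (CommRingCat.ofHom (algebraMap D D''))) (Spec.map (CommRingCat.ofHom (algebraMap D C))) :=
    isPullback_SpecMap_of_isPushout _ _ _ _ (CommRingCat.isPushout_iff_isPushout.mpr hpC)
  obtain ⟨zz, hzy, hzz⟩ := Scheme.exists_preimage_of_isPullback hsq
    (⟨y'', inferInstance⟩ : PrimeSpectrum D'') (⟨z, inferInstance⟩ : PrimeSpectrum C)
    (PrimeSpectrum.ext ((Ideal.over_def y'' y).symm.trans (Ideal.over_def z y)))
  let z'' := zz.asIdeal
  haveI : z''.IsPrime := zz.isPrime
  haveI hz''y : z''.LiesOver y'' := ⟨(congrArg PrimeSpectrum.asIdeal hzy).symm⟩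
  have hz''z : z''.comap (algebraMap C C'') = z := congrArg PrimeSpectrum.asIdeal hzz
  haveI hz''zO : z''.LiesOver z := ⟨hz''z.symm⟩
  let q'' := z''.comap (algebraMap S'' C'')
  haveI : q''.IsPrime := Ideal.IsPrime.comap _
  haveI hq''q : q''.LiesOver q := ⟨by
    show q = (z''.comap (algebraMap S'' C'')).comap (algebraMap S S'')
    rw [Ideal.comap_comap, ← IsScalarTower.algebraMap_eq, IsScalarTower.algebraMap_eq S C C'',
      ← Ideal.comap_comap, hz''z]
    exact Ideal.over_def z q⟩
  haveI hq''P : q''.LiesOver p'' := ⟨by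
    show p'' = (z''.comap (algebraMap S'' C'')).comap (algebraMap R'' S'')
    rw [Ideal.comap_comap, ← IsScalarTower.algebraMap_eq, IsScalarTower.algebraMap_eq R'' D'' C'',
      ← Ideal.comap_comap]
    exact (Ideal.over_def y'' p'').trans (congrArg (Ideal.comap _) hz''y.over)⟩
  have hnS : FlatCA.IsEtaleNhd S S'' q q'' := by
    refine ⟨inferInstance, hq''q, DevissExLib.bijective_mapₐ_of_surjective hq''q fun w => ?_⟩
    let μ := Ideal.ResidueField.map q'' z'' (algebraMap S'' C'') rfl
    have hsurjz : Function.Surjective (Ideal.ResidueField.map z z'' (algebraMap C C'') hz''z.symm) :=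
      DevissExLib.surjective_residue_of_range _ fun a =>
        DevissExLib.mem_range_residue_tensor y y'' z hbD.2 z'' hz''y.over.symm hz''z.symm a
    have hzq : q = z.comap (algebraMap S C) := Ideal.over_def z q
    have hsurjq : Function.Surjective (Ideal.ResidueField.map q z (algebraMap S C) hzq) :=
      DevissExLib.surjective_residue_of_range _ fun c => by
        obtain ⟨s, rfl⟩ := hsurj c
        exact ⟨algebraMap S _ s, Ideal.ResidueField.map_algebraMap _ _ _ _ _⟩
    obtain ⟨w₁, hw₁⟩ := hsurjz (μ w)
    obtain ⟨w₀, hw₀⟩ := hsurjq w₁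
    refine ⟨w₀, μ.injective ?_⟩
    have hext : μ.comp (Ideal.ResidueField.mapₐ q q'' (Algebra.ofId S S'') hq''q.over).toRingHom =
        (Ideal.ResidueField.map z z'' (algebraMap C C'') hz''z.symm).comp
          (Ideal.ResidueField.map q z (algebraMap S C) hzq) :=
      Ideal.ResidueField.ringHom_ext (RingHom.ext fun s => by
        simp only [RingHom.comp_apply, AlgHom.toRingHom_eq_coe, RingHom.coe_coe, AlgHom.commutes,
          Ideal.ResidueField.map_algebraMap, μ]
        rw [IsScalarTower.algebraMap_apply S S'' q''.ResidueField, Ideal.ResidueField.map_algebraMap,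
          ← IsScalarTower.algebraMap_apply S S'' C'', ← IsScalarTower.algebraMap_apply S C C''])
    have h' := RingHom.congr_fun hext w₀
    simp only [RingHom.comp_apply, AlgHom.toRingHom_eq_coe, RingHom.coe_coe] at h'
    rw [h', hw₀, hw₁]
  -- the modules
  let G'' := TensorProduct C C'' G
  haveI : IsScalarTower S'' C'' G'' := TensorProduct.isScalarTower_left
  let N'' := TensorProduct S S'' N
  let gN : N →ₗ[S] N'' := TensorProduct.mk S S'' N 1
  have hgN : IsBaseChange S'' gN := TensorProduct.isBaseChange S N S''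
  haveI : IsScalarTower R'' S'' N'' := TensorProduct.isScalarTower_left
  let eS : N'' ≃ₗ[S''] G'' :=
    (TensorProduct.AlgebraTensorModule.congr (LinearEquiv.refl S'' S'') eN).trans
      (Algebra.IsPushout.cancelBaseChange S S'' C C'' G).symm
  have hfp'' : Algebra.FinitePresentation S'' C'' := by
    haveI : Algebra.FinitePresentation S'' (TensorProduct S S'' C) := inferInstance
    exact Algebra.FinitePresentation.equiv (Algebra.IsPushout.equiv S S'' C C'')
  have hsurj'' : Function.Surjective (algebraMap S'' C'') := by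
    intro c
    obtain ⟨w, rfl⟩ := (Algebra.IsPushout.equiv S S'' C C'').surjective c
    induction w using TensorProduct.induction_on with
    | zero => exact ⟨0, by simp⟩
    | tmul s c =>
      obtain ⟨t, rfl⟩ := hsurj c
      refine ⟨s * algebraMap S S'' t, ?_⟩
      rw [Algebra.IsPushout.equiv_tmul, map_mul, ← IsScalarTower.algebraMap_apply,
        ← IsScalarTower.algebraMap_apply]
    | add u v hu hv =>
      obtain ⟨a, ha⟩ := hu; obtain ⟨b, hb⟩ := hv
      exact ⟨a + b, by rw [map_add, map_add, ha, hb]⟩
  haveI : Module.Finite D'' C'' := Module.Finite.base_change D D'' C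
  haveI : Module.Finite C'' G'' := Module.Finite.base_change C C'' G
  have huniq : ∀ (z₂ : Ideal C'') [z₂.IsPrime], z₂.LiesOver y'' → z₂ = z'' := by
    intro z₂ _ h₂
    refine DevissExLib.eq_of_comap_eq (C₁ := C) y y'' hbD.2 z₂ z'' h₂ hz''y ?_
    rw [hz''z]
    haveI := h₂
    haveI : (z₂.comap (algebraMap C C'')).LiesOver y := ⟨by
      show y = (z₂.comap (algebraMap C C'')).comap (algebraMap D C)
      rw [Ideal.comap_comap, ← IsScalarTower.algebraMap_eq, IsScalarTower.algebraMap_eq D D'' C'',
        ← Ideal.comap_comap]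
      exact (Ideal.over_def y'' y).trans (congrArg (Ideal.comap _) h₂.over)⟩
    exact h3 _ inferInstance
  have hpt : FlatCA.PurelyTranscendental p'' y'' :=
    DevissExLib.purelyTranscendental_of_bijective (S := D) p p'' y y'' hbR.2 hbD.2 h4
  -- the fibre
  haveI : Algebra.FiniteType R'' S'' := by
    haveI : Algebra.FiniteType R S'' := Algebra.FiniteType.trans (S := S) inferInstance inferInstance
    exact Algebra.FiniteType.of_restrictScalars_finiteType R R'' S''
  haveI : Module.Finite S'' N'' := Module.Finite.base_change S S'' N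
  obtain ⟨g, hg⟩ := DevissExLib.exists_map_support_etale p p'' N N'' gN hgN
  obtain ⟨ξ, hξ, hξq, hξn⟩ := h1
  haveI : (ξ.asIdeal).IsPrime := ξ.isPrime
  obtain ⟨x₀, hx₀⟩ := (DevissExLib.mem_range_comap_incl p'' (⟨q'', inferInstance⟩ : PrimeSpectrum S'')).2
    (Ideal.over_def q'' p'').symm
  obtain ⟨x₁, hx₁⟩ := (DevissExLib.mem_range_comap_incl p (⟨q, inferInstance⟩ : PrimeSpectrum S)).2
    (Ideal.over_def q p).symm
  have hξx : ξ = x₁ := PrimeSpectrum.ext (by
    rw [hξq, show q = x₁.asIdeal.comap (FibAssLib.incl S p) from (congrArg PrimeSpectrum.asIdeal hx₁).symm]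
    exact FlatInjLib.fiberIdeal_comap p x₁.asIdeal)
  have hπ : PrimeSpectrum.comap (algebraMap S S'') (PrimeSpectrum.comap (FibAssLib.incl S'' p'') x₀) =
      PrimeSpectrum.comap (FibAssLib.incl S p) ξ := by
    rw [hx₀, hξx, hx₁]
    exact PrimeSpectrum.ext (Ideal.over_def q'' q).symm
  have hx₀s : x₀ ∈ Module.support (p''.Fiber S'') (FlatCA.fiberMod p'' S'' N'') := by
    rw [DevissExLib.mem_support_fiberMod, ← hgN.equiv.support_eq]
    refine (DepthLib.mem_support_baseChange (P₀ := S) (P := S'') N _).2 ?_
    rw [hπ, ← DevissExLib.mem_support_fiberMod]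
    exact hξ
  have hgx : g ⟨x₀, hx₀s⟩ = ⟨ξ, hξ⟩ :=
    Subtype.ext ((DevissExLib.isEmbedding_comap_incl p).injective ((hg ⟨x₀, hx₀s⟩).1.trans hπ))
  have hloc : FlatMor.localDim (Module.support (p''.Fiber S'') (FlatCA.fiberMod p'' S'' N'')) ⟨x₀, hx₀s⟩ = n := by
    rw [(hg ⟨x₀, hx₀s⟩).2, hgx, hξn]
  have hdim'' : Module.supportDim (p''.Fiber S'') (FlatCA.fiberMod p'' S'' N'') = n := by
    refine le_antisymm ?_ (hloc ▸ ?_)
    · rw [DevissExLib.supportDim_fiberMod_eq, FibDimLib.topologicalKrullDim_eq_iSup_localDim, ← hdim,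
        DevissExLib.supportDim_fiberMod_eq]
      exact iSup_le fun x => (hg x).2.le.trans (FibDimLib.localDim_le _)
    · rw [DevissExLib.supportDim_fiberMod_eq]
      exact FibDimLib.localDim_le _
  have hx₀q : x₀.asIdeal = FlatCA.fiberIdeal p'' q'' := by
    rw [show q'' = x₀.asIdeal.comap (FibAssLib.incl S'' p'') from (congrArg PrimeSpectrum.asIdeal hx₀).symm]
    exact (FlatInjLib.fiberIdeal_comap p'' x₀.asIdeal).symm
  exact ⟨R'', inferInstance, inferInstance, algRR'', inferInstance, p'', inferInstance, ⟨hetR'', hp''p', hbR''⟩,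
    T, inferInstance, inferInstance, inferInstance, inferInstance, inferInstance, inferInstance, hT,
    D'', inferInstance, inferInstance, inferInstance, inferInstance, algDD'', algRD'', inferInstance, inferInstance,
    inferInstance, inferInstance, inferInstance, y'', inferInstance, inferInstance, inferInstance, hopen,
    C'', inferInstance, algCC, inferInstance, inferInstance, inferInstance, inferInstance, inferInstance, inferInstance,
    z'', inferInstance, inferInstance, inferInstance, hpC,
    G'', inferInstance, inferInstance, inferInstance, inferInstance, TensorProduct.mk C C'' G 1, TensorProduct.isBaseChange C G C'',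
    S'', inferInstance, inferInstance, inferInstance, inferInstance, inferInstance, inferInstance, q'', inferInstance,
    inferInstance, inferInstance, inferInstance, inferInstance, inferInstance, inferInstance, inferInstance,
    hnS, ⟨rfl⟩,
    N'', inferInstance, inferInstance, inferInstance, inferInstance, inferInstance, inferInstance, gN, hgN,
    ⟨⟨eS⟩, hsurj'', hfp'', inferInstance, inferInstance, hsm'', hgi'', hdim''⟩,
    ⟨x₀, hx₀s, hx₀q, hloc⟩, huniq, hpt⟩

end Groth.Agent.S12245
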