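import Groth.Statements.S12249
import Groth.Agent.ArtLib.Pairs

set_option autoImplicit false
universe u v
open CategoryTheory
open Deform

namespace Groth.Agent.S12249

/-- Let k be an algebraically closed field and F a set-valued functor on local Artinian k-algebras with
residue field k such that F(k) is a single point. If F has a semiuniversal formal element and its
tangent space F(k[ε]) is reduced to one element, then F(A) consists of exactly one element for every
A: F is the constant one-point functor h_k. -/
theorem result
    {k : Type u} [Field k] [IsAlgClosed k]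
    (F : ArtFun.Art k k ⥤ Type v) (h0 : ArtFun.H0 F) (hF : ArtFun.HasHull F)
    (ht : Subsingleton (ArtFun.TangentSpace F)) (A : ArtFun.Art k k) :
    Nonempty (F.obj A) ∧ Subsingleton (F.obj A) := by
  obtain ⟨H⟩ := hF
  have hs := ArtLib.surjective_app_of_versal h0 H.family H.miniversal.1
  have h1 := ArtLib.s1_of_versal H.family H.miniversal.1 hs
  have h2 := ArtLib.heps_of_miniversal H.family H.miniversal hs
  let one : ArtFun.Art k k ⥤ Type v := (CategoryTheory.Functor.const _).obj PUnit.{v + 1}
  let η : ArtLib.NatMap F one := ⟨fun _ _ => PUnit.unit, fun _ _ => rfl⟩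
  have hsub : Subsingleton (F.obj A) := ⟨fun x y =>
    ArtLib.injective_app η h0.2 (ArtLib.hbar_of_s1 h1) h2 (fun _ _ _ _ _ _ h _ =>
        ⟨fun z z' _ => Subsingleton.elim (α := PUnit) z z', fun t => ⟨PUnit.unit,
          ArtFun.FibProd.ext (Subsingleton.elim (α := PUnit) _ _) (Subsingleton.elim (α := PUnit) _ _)⟩⟩)
      (fun a b _ => ht.elim a b) A rfl⟩
  obtain ⟨a⟩ := h0.1
  exact ⟨⟨F.map ⟨Algebra.ofId k A, AlgHom.ext fun c => A.res.commutes c⟩ a⟩, hsub⟩

end Groth.Agent.S12249
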