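import Groth.Statements.S1225
import Mathlib
import Groth.Agent.FlatInjLib.AssFibre
import Groth.Agent.S1221
-- import your own Groth.Agent.* helpers here

set_option autoImplicit false
universe u
open FlatMor

namespace Groth.Agent.S1225

open IsLocalRing in
/-- Ring form, X = Spec B affine: let A be a local ring, B a finite type A-algebra and N a finite
B-module which is flat over A and pure along the closed fibre. Then a B-linear map φ from N to any
B-module is injective if and only if its localization at q is injective for every prime q of B over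
𝔪_A whose extension to the closed fibre ring is an associated prime of the closed fibre module. -/
theorem result {A B : Type u} [CommRing A] [IsLocalRing A] [CommRing B] [Algebra A B] [Algebra.FiniteType A B]
    (N : Type u) [AddCommGroup N] [Module B N] [Module A N] [IsScalarTower A B N] [Module.Finite B N] [Module.Flat A N]
    (hpure : FlatCA.IsPureAlong A B N (maximalIdeal A))
    (N' : Type u) [AddCommGroup N'] [Module B N'] (φ : N →ₗ[B] N') :
    Function.Injective φ ↔ ∀ (q : Ideal B) [q.IsPrime], q.LiesOver (maximalIdeal A) →
      FlatCA.fiberIdeal (maximalIdeal A) q ∈ associatedPrimes ((maximalIdeal A).Fiber B) (FlatCA.fiberMod (maximalIdeal A) B N) →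
      Function.Injective (LocalizedModule.map q.primeCompl φ) := by
  refine ⟨fun hinj q _ _ _ => LocalizedModule.map_injective q.primeCompl φ hinj, fun h => ?_⟩
  refine (injective_iff_map_eq_zero _).2 fun z hz => ?_
  by_contra hz0
  let e := TensorProduct.AlgebraTensorModule.rid A B N
  obtain ⟨p', q', _, _, _, hass, hle⟩ := FlatInjLib.exists_relAss_annihilator_le (S := B) (N := N) A (e.symm z)
    ((LinearEquiv.map_ne_zero_iff _).2 hz0)
  have hm : p' ≤ maximalIdeal A := IsLocalRing.le_maximalIdeal Ideal.IsPrime.ne_top'
  have het : FlatCA.IsEtaleNhd A A (maximalIdeal A) (maximalIdeal A) := by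
    refine ⟨inferInstance, ⟨by ext; rfl⟩, ?_⟩
    have : ∀ x, Ideal.ResidueField.mapₐ (maximalIdeal A) (maximalIdeal A) (Algebra.ofId A A) (by ext; rfl) x = x := by
      intro x
      obtain ⟨a, rfl⟩ := Ideal.algebraMap_residueField_surjective (maximalIdeal A) x
      exact AlgHom.commutes _ a
    exact (show Function.Bijective _ from ⟨fun a b hab => (this a).symm.trans (hab.trans (this b)), fun a => ⟨a, this a⟩⟩)
  have himp := hpure A B N (LinearMap.id) p' (maximalIdeal A) q' het
  have hspec : ∃ (t : Ideal B), t.IsPrime ∧ q' ≤ t ∧ t.LiesOver (maximalIdeal A) := by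
    by_contra hno
    refine himp ⟨inferInstance, IsBaseChange.ofEquiv (LinearEquiv.refl B N), hm, ⟨by ext; rfl⟩, inferInstance, hass,
      fun P' _ hP' hP'm => hno ⟨P', inferInstance, hP', hP'm⟩⟩
  obtain ⟨q, hqp, hq'q, hqm, hqass⟩ := Groth.Agent.S1221.result N (maximalIdeal A)
    (fun q _ _ => FlatInjLib.flat_of_isLocalizedModule q.primeCompl (LocalizedModule.mkLinearMap q.primeCompl N))
    p' hm q' hass hspec
  have h1 : LocalizedModule.map q.primeCompl φ (LocalizedModule.mk z 1) = 0 := by
    rw [show LocalizedModule.map q.primeCompl φ (LocalizedModule.mk z 1) = LocalizedModule.mk (φ z) 1 from LocalizedModule.map_mk ..,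
      hz, LocalizedModule.zero_mk]
  have h2 := (map_eq_zero_iff _ (h q hqm hqass)).1 h1
  rw [← LocalizedModule.mkLinearMap_apply, IsLocalizedModule.eq_zero_iff q.primeCompl] at h2
  obtain ⟨s, hs⟩ := h2
  exact s.2 (hq'q (hle s (by rw [← map_smul, show (s : B) • z = 0 from hs, map_zero])))

end Groth.Agent.S1225
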