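import Groth.Statements.S12252
import Groth.Agent.ArtLib.CRingHom

set_option autoImplicit false
universe u v
open CategoryTheory
open Deform

namespace Groth.Agent.S12252

/-- Let k be an algebraically closed field, Λ a complete local Noetherian k-algebra with residue field k
and F a set-valued functor on local Artinian Λ-algebras with residue field k. If (R, u) and (S, v)
both prorepresent F (complete local Noetherian Λ-algebras with residue field k carrying universal
families), then there is a unique isomorphism of Λ-algebras R ≅ S, compatible with the augmentations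
to k, along which the universal family of R is transported to that of S. -/
theorem result
    {k Λ : Type u} [Field k] [IsAlgClosed k] [CommRing Λ] [IsLocalRing Λ] [IsNoetherianRing Λ]
    [IsAdicComplete (IsLocalRing.maximalIdeal Λ) Λ] [Algebra k Λ] [Algebra Λ k] [IsScalarTower k Λ k]
    {F : ArtFun.Art Λ k ⥤ Type v} (P Q : ArtFun.ProRep F) :
    ∃! e : P.ring.carrier ≃ₐ[Λ] Q.ring.carrier,
      ∃ he : Q.ring.res.comp e.toAlgHom = P.ring.res, P.family.along e.toAlgHom he = Q.family := by
  obtain ⟨η, hη⟩ : ∃ η : ArtFun.Family Q.ring.carrier Q.ring.res (ArtFun.hR P.ring.carrier P.ring.res),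
      ∀ A ψ, P.family.app A (η.app A ψ) = Q.family.app A ψ := by
    choose v hv using fun (A : ArtFun.Art Λ k) (ψ : ArtFun.HomSet Q.ring.carrier Q.ring.res A) =>
      (P.universal A).2 (Q.family.app A ψ)
    exact ⟨⟨v, fun f ψ => (P.universal _).1 ((hv _ _).trans ((Q.family.natural f ψ).trans
      ((congrArg (F.map f) (hv _ ψ).symm).trans (P.family.natural f (v _ ψ)).symm)))⟩, hv⟩
  obtain ⟨η', hη'⟩ : ∃ η' : ArtFun.Family P.ring.carrier P.ring.res (ArtFun.hR Q.ring.carrier Q.ring.res),
      ∀ A ψ, Q.family.app A (η'.app A ψ) = P.family.app A ψ := by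
    choose v hv using fun (A : ArtFun.Art Λ k) (ψ : ArtFun.HomSet P.ring.carrier P.ring.res A) =>
      (Q.universal A).2 (P.family.app A ψ)
    exact ⟨⟨v, fun f ψ => (Q.universal _).1 ((hv _ _).trans ((P.family.natural f ψ).trans
      ((congrArg (F.map f) (hv _ ψ).symm).trans (Q.family.natural f (v _ ψ)).symm)))⟩, hv⟩
  obtain ⟨g, hg, hgA⟩ := ArtLib.exists_hom_of_family Q.ring η
  obtain ⟨g', hg', hgA'⟩ := ArtLib.exists_hom_of_family P.ring η'
  have h1 : g.comp g' = AlgHom.id Λ Q.ring.carrier := by
    refine ArtLib.cring_hom_ext Q.ring fun n s => ?_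
    have e : η'.app _ (η.app _ (Q.ring.truncHom n)) = Q.ring.truncHom n :=
      (Q.universal _).1 ((hη' _ _).trans (hη _ _))
    have e' := hgA' _ (η.app _ (Q.ring.truncHom n))
    rw [e, hgA] at e'
    exact (AlgHom.congr_fun e' s).symm
  have h2 : g'.comp g = AlgHom.id Λ P.ring.carrier := by
    refine ArtLib.cring_hom_ext P.ring fun n s => ?_
    have e : η.app _ (η'.app _ (P.ring.truncHom n)) = P.ring.truncHom n :=
      (P.universal _).1 ((hη _ _).trans (hη' _ _))
    have e' := hgA _ (η'.app _ (P.ring.truncHom n))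
    rw [e, hgA'] at e'
    exact (AlgHom.congr_fun e' s).symm
  refine ⟨AlgEquiv.ofAlgHom g g' h1 h2, ⟨hg, ?_⟩, ?_⟩
  · have happ : ∀ A ψ, (P.family.along g hg).app A ψ = Q.family.app A ψ := fun A ψ =>
      (congrArg (P.family.app A) (Subtype.ext (hgA A ψ).symm)).trans (hη A ψ)
    change P.family.along g hg = Q.family
    generalize P.family.along g hg = L at happ
    cases L
    cases hQ : Q.family
    rw [hQ] at happ
    congr
    exact funext fun A => funext fun ψ => happ A ψ
  · rintro e ⟨he, hfam⟩
    refine AlgEquiv.ext fun s => ?_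
    refine AlgHom.congr_fun (ArtLib.cring_hom_ext Q.ring (g := e.toAlgHom) (g' := g) fun n s => ?_) s
    have h := congrArg (fun L => L.app _ (Q.ring.truncHom n)) hfam
    rw [← hη] at h
    have h' := congrArg Subtype.val ((P.universal _).1 h)
    rw [hgA] at h'
    exact AlgHom.congr_fun h' s

end Groth.Agent.S12252
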