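import Groth.Statements.S12734
import Groth.Agent.ArtLib.Pairs

set_option autoImplicit false
universe u v
open CategoryTheory
open ArtFun

namespace Groth.Agent.S12734

/-- A functor F on Artinian local Λ-algebras with residue field k is prorepresentable if and only if (a)
F(k) is a point and F satisfies (RS): F(A₁ ×_A A₂) → F(A₁) ×_{F(A)} F(A₂) is bijective whenever A₂ →
A is surjective; (b) its tangent space is finite-dimensional; and (c) the map from morphisms k →
k[ε] of the category (the Λ-derivations of k) to the tangent space, σ ↦ F(σ)(x₀), is injective.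
Condition (c) is empty when k is separable over the image of Λ in k. -/
theorem result {Λ : Type u} {k : Type u} [CommRing Λ] [Field k] [Algebra Λ k]
    [IsNoetherianRing Λ] [Module.Finite Λ k]
    (F : ArtFun.Art Λ k ⥤ Type v) [ArtFun.TangentStr F] :
    ArtFun.IsProrepresentable F ↔
      ((ArtFun.H0 F ∧ (∀ ⦃B A A' A'' : ArtFun.Art Λ k⦄ (p' : B ⟶ A') (p'' : B ⟶ A'') (f' : A' ⟶ A) (f'' : A'' ⟶ A)
        (h : ArtFun.Art.IsFibreProd p' p'' f' f''), Function.Surjective f'' → Function.Bijective (ArtFun.cmp F h))) ∧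
        ArtFun.Hfin F ∧
        ∀ x₀ : F.obj (ArtFun.Art.base Λ k),
          Function.Injective (fun σ : ArtFun.Art.base Λ k ⟶ ArtFun.Art.dual Λ k => F.map σ x₀)) := by
  constructor
  · intro h
    obtain ⟨h0, hl, hf, hi⟩ := ArtLib.conditions_of_prorep h
    exact ⟨⟨h0, fun _ _ _ _ _ _ _ _ h _ => hl _ _ _ _ h⟩, hf, hi⟩
  · rintro ⟨⟨h0, hRS⟩, hf, hi⟩
    exact ArtLib.isProrepresentable_of_conditions h0 (fun _ _ _ _ _ _ _ _ h hs => (hRS _ _ _ _ h hs).2)
      (fun _ _ _ _ h => hRS _ _ _ _ h (ArtLib.toBase_surjective _)) hf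
      (fun _ _ _ _ _ _ h hs => hRS _ _ _ _ h hs.1) hi

end Groth.Agent.S12734
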