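import Groth.Statements.S12309
import Groth.Agent.DefGlueLib.Functor
import Groth.Agent.ArtLib.Tangent
import Groth.Agent.S12731
import Groth.Agent.S12734

set_option autoImplicit false
universe u
open CategoryTheory AlgebraicGeometry
open SGA7

namespace Groth.Agent.S12309

/-- Suppose Λ is a Noetherian local ring, complete for its maximal ideal, whose residue field is k (so
that Λ → k is surjective), and work with functors defined on local Artinian Λ-algebras having
residue field k. Take a k-scheme X₀ and assume its deformation functor (sending A to isomorphism
classes of schemes flat over Spec A whose closed fibre is X₀) admits a hull. The deformation functor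
is then pro-representable exactly when the following holds: given any surjective morphism p : A' → A
and any deformation X' of X₀ over A', every automorphism of the base change of X' along p arises by
restricting some automorphism of X' (automorphisms being taken over Spec A' and inducing the
identity on X₀), i.e. the restriction map is surjective. (In the published version the assertion is
stated for X₀ proper over k, or affine of finite type with only finitely many non-smooth points,
cases in which a hull exists; here the existence of a hull is assumed outright, as that is all the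
printed proof relies on.) -/
theorem result (Λ k : Type u) [CommRing Λ] [IsLocalRing Λ] [IsNoetherianRing Λ]
    [IsAdicComplete (IsLocalRing.maximalIdeal Λ) Λ] [Field k] [Algebra Λ k]
    (hk : Function.Surjective (algebraMap Λ k))
    (X : Scheme.{u}) (x : X ⟶ Spec (CommRingCat.of k))
    (hX : ArtFun.HasHull (ArtFun.defFunctor (Λ := Λ) X x)) :
    ArtFun.IsProrepresentable (ArtFun.defFunctor (Λ := Λ) X x) ↔
      ∀ (A' A : ArtFun.Art Λ k) (p : A' ⟶ A), Function.Surjective p →
        ∀ ξ' : ArtFun.DefSch (Λ := Λ) X x A',
          Function.Surjective (fun e : ξ'.Iso ξ' => e.baseChange p) := by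
  haveI : Module.Finite Λ k := Module.Finite.of_surjective (Algebra.linearMap Λ k) hk
  have h0 := DefGlueLib.h0_defFunctor (Λ := Λ) (x := x)
  obtain ⟨T⟩ := ArtLib.nonempty_tangentStr h0 DefGlueLib.heps_defFunctor
  letI := T
  rw [Groth.Agent.S12734.result]
  refine ⟨fun H A' A p hp ξ' => ?_, fun H => ⟨⟨h0, fun B A A₁ A₂ p₁ p₂ f₁ f₂ h hs =>
    ⟨DefGlueLib.cmp_injective h hs (H _ _ f₂ hs), DefGlueLib.cmp_surjective h hs⟩⟩,
    (Groth.Agent.S12731.result _ h0 hX).2.2, fun _ σ τ _ => ?_⟩⟩
  · obtain ⟨B, q, q', h⟩ := ArtLib.exists_fp p p hp
    exact DefGlueLib.aut_surjective h hp (H.1.2 q q' p p h hp).1 ξ'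
  · refine ArtFun.Art.hom_ext (AlgHom.ext fun c => ?_)
    obtain ⟨a, rfl⟩ := hk c
    exact (AlgHom.commutes σ.toAlgHom a).trans (AlgHom.commutes τ.toAlgHom a).symm

end Groth.Agent.S12309
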