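import Groth.Statements.S12255
import Groth.Agent.DefClassLib.Proper
import Groth.Agent.DefGlueLib.AutDer
import Groth.Agent.ChowLib.Embed
import Groth.Agent.S12307
import Groth.Agent.S12309

set_option autoImplicit false
universe u
open CategoryTheory CategoryTheory.Limits AlgebraicGeometry
open Deform

namespace Groth.Agent.S12255

/-- Let k be an algebraically closed field and X a projective k-scheme, given with a closed immersion
into some P^n_k over k, such that H^0(X, T_X) = Hom_{O_X}(Ω_{X/k}, O_X) = 0 (no infinitesimal
automorphisms). Then the local moduli functor Def_X, of isomorphism classes of deformations of X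
over local Artinian k-algebras with residue field k, is prorepresentable by a complete local
Noetherian k-algebra with residue field k. -/
theorem result
    {k : Type u} [Field k] [IsAlgClosed k] (X : Scheme.{u}) (x : X ⟶ Spec (CommRingCat.of k))
    [LocallyOfFiniteType x] [IsSeparated x] [QuasiCompact x]
    (hproj : ∃ (n : ℕ) (c : X ⟶ CohB1.ProjSpaceOver n (Spec (CommRingCat.of k))),
      IsClosedImmersion c ∧ c ≫ CohB1.ProjSpaceOver.toBase n (Spec (CommRingCat.of k)) = x)
    (h0 : Subsingleton (Omega.sheaf x ⟶ Coh.structureModule X)) :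
    ArtFun.IsProrepresentable (ArtFun.defFunctor (Λ := k) X x) := by
  obtain ⟨n, c, hc, rfl⟩ := hproj
  haveI := hc
  haveI := ChowLib.isProper_toBase n (Spec (CommRingCat.of k))
  haveI : IsAdicComplete (IsLocalRing.maximalIdeal k) k := by
    rw [IsLocalRing.maximalIdeal_eq_bot]; infer_instance
  have hk : Function.Surjective (algebraMap k k) := fun a => ⟨a, rfl⟩
  have hull := Groth.Agent.S12307.result k k hk X (c ≫ CohB1.ProjSpaceOver.toBase n (Spec (CommRingCat.of k)))
  refine (Groth.Agent.S12309.result k k hk X _ hull).2 fun A' A p hp ξ' e => ⟨ArtFun.DefSch.Iso.refl ξ', ?_⟩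
  have h := DefGlueLib.autTriv_of_dual ((DefGlueLib.autTriv_triv_iff_hom _).2 h0) A (ξ'.baseChange p)
  exact DefGlueLib.iso_ext ((h _).trans (h e).symm)

end Groth.Agent.S12255
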