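import Groth.Statements.S12261
import Groth.Agent.HilbGlueLib.Tangent
import Groth.Agent.HilbGlueLib.NormalCoh
import Groth.Agent.ArtLib.Pairs
import Groth.Agent.HomCohLib.Coh
import Groth.Agent.SurfExtLib.CBGeom
import Groth.Agent.CohGenLib.PullK
import Groth.Agent.CohGenLib.Pro
import Groth.Agent.CohCmpLib.HomMod
import Groth.Agent.CurvLib.Euler
import Groth.Agent.ChowLib.Embed

set_option autoImplicit false
universe u
open CategoryTheory CategoryTheory.Limits AlgebraicGeometry
open Deform

namespace Groth.Agent.S12261

/-- Let k be an algebraically closed field, Y a separated k-scheme of finite type and X ⊆ Y the closed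
subscheme of a quasi-coherent ideal sheaf I₀; assume X is projective over k, i.e. X admits a closed
immersion over k into some projective space P^n_k. Then the local Hilbert functor of X in Y (closed
subschemes of Y ×_k Spec A flat over Spec A restricting to X on the closed fibre, for A local
Artinian with residue field k) is prorepresentable by a complete local Noetherian k-algebra with
residue field k. (The published statement assumes only that the space of global sections of the
normal sheaf of X in Y is finite-dimensional, X projective being the named instance; this row states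
the projective case.) -/
theorem result
    {k : Type u} [Field k] [IsAlgClosed k] (Y : Scheme.{u}) (y : Y ⟶ Spec (CommRingCat.of k))
    [LocallyOfFiniteType y] [IsSeparated y] [QuasiCompact y] (I₀ : Y.IdealSheafData)
    (hproj : ∃ (n : ℕ) (c : I₀.subscheme ⟶ CohB1.ProjSpaceOver n (Spec (CommRingCat.of k))),
      IsClosedImmersion c ∧ c ≫ CohB1.ProjSpaceOver.toBase n (Spec (CommRingCat.of k)) = I₀.subschemeι ≫ y) :
    ArtFun.IsProrepresentable (ArtFun.localHilb Y y I₀) := by
  letI : Y.Over (Spec (CommRingCat.of k)) := ⟨y⟩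
  letI : I₀.subscheme.Over (Spec (CommRingCat.of k)) := ⟨I₀.subschemeι ≫ y⟩
  obtain ⟨T⟩ := ArtLib.nonempty_tangentStr (HilbGlueLib.h0 y (I₀ := I₀)) (HilbGlueLib.heps y)
  letI : ArtFun.TangentStr (ArtFun.localHilb Y (Y ↘ Spec (CommRingCat.of k)) I₀) := T
  haveI : DCoh.HasSheafHom (Omega.conormal I₀.subschemeι) := CohCmpLib.hasSheafHom _
  obtain ⟨e⟩ := HilbGlueLib.exists_tangentEquiv (k := k) (X := Y) (I₀ := I₀)
  obtain ⟨e'⟩ := HilbGlueLib.exists_normalEquiv_sub (k := k) I₀ rfl
  obtain ⟨n, c, hc, hcy⟩ := hproj
  haveI := hc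
  haveI : IsProper (CohB1.ProjSpaceOver.toBase n (Spec (CommRingCat.of k))) := ChowLib.isProper_toBase n _
  haveI : IsProper (I₀.subscheme ↘ Spec (CommRingCat.of k)) := by
    show IsProper (I₀.subschemeι ≫ y)
    rw [← hcy]
    infer_instance
  haveI : IsLocallyNoetherian Y := LocallyOfFiniteType.isLocallyNoetherian y
  haveI : IsLocallyNoetherian I₀.subscheme := LocallyOfFiniteType.isLocallyNoetherian (I₀.subschemeι ≫ y)
  have hfin := CurvLib.finite_HH (k := k) (HilbGlueLib.isCoh_normal I₀) 0
  refine ArtLib.isProrepresentable_of_conditions (HilbGlueLib.h0 y) (HilbGlueLib.s1 y) (HilbGlueLib.heps y) ?_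
    (HilbGlueLib.hsq y) fun x₀ σ τ _ => ?_
  · haveI := hfin
    exact Module.Finite.equiv (e ≪≫ₗ e').symm
  · refine ArtFun.Art.hom_ext (AlgHom.ext fun c => ?_)
    exact (σ.toAlgHom.commutes c).trans (τ.toAlgHom.commutes c).symm

end Groth.Agent.S12261
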