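import Groth.Statements.S12264
import Groth.Agent.DefLib.UnobsAlg
import Groth.Agent.DefLib.AffineExt
import Groth.Agent.DefLib.ArtFlat

set_option maxHeartbeats 1000000

set_option autoImplicit false
universe u
open CategoryTheory CategoryTheory.Limits AlgebraicGeometry
open Deform

namespace Groth.Agent.S12264

/-- Let k be an algebraically closed field and B₀ a k-algebra given with a finite presentation P =
k[X_i]/(f_s) (finitely many variables and relations), and let T² = T²(B₀/k, B₀) be the second
cotangent module computed from P (classes of B₀-linear maps on the relation module modulo trivial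
relations, modulo those extending to the free module on the relations). Suppose T² = 0. Then Spec B₀
is unobstructed: for every small extension A' → A of local Artinian k-algebras with residue field k
the map Def_{B₀}(A') → Def_{B₀}(A) between isomorphism classes of deformations (schemes flat over
the Artinian base with Spec B₀ as closed fibre) is surjective. (The published statement says that
T²_{B₀} is an obstruction space for Def_{B₀}, for B₀ the quotient of any smooth k-algebra that is a
localisation of a polynomial ring: each deformation over A has an obstruction in T²_{B₀} attached to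
each small extension of A, vanishing exactly when a lifting exists; this row states the consequence
for T²_{B₀} = 0 and a polynomial presentation.) -/
theorem result
    {k : Type u} [Field k] [IsAlgClosed k] (B₀ : Type u) [CommRing B₀] [Algebra k B₀] {ι σ : Type u} [Finite ι] [Finite σ]
    (P : Algebra.Presentation k B₀ ι σ)
    (hT2 : Subsingleton (CotT.T2 P B₀))
    {A' A : ArtFun.Art k k} (p : A' ⟶ A) (hp : ArtFun.Art.IsSmallExt p) :
    Function.Surjective ((ArtFun.defFunctor (Λ := k) (Spec (CommRingCat.of B₀)) (Spec.map (CommRingCat.ofHom (algebraMap k B₀)))).map p) := by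
  intro z
  induction z using Quotient.inductionOn with
  | h 𝒳 =>
  haveI := DefLib.isAffine_total B₀ 𝒳
  let B : CommRingCat.{u} := Γ(𝒳.total, ⊤)
  let e : 𝒳.total ≅ Spec B := 𝒳.total.isoSpec
  let φ : CommRingCat.of A ⟶ B := Spec.preimage (e.inv ≫ 𝒳.f)
  have hφ : Spec.map φ = e.inv ≫ 𝒳.f := Spec.map_preimage _
  let qB : B ⟶ CommRingCat.of B₀ := Spec.preimage (𝒳.i ≫ e.hom)
  have hqB : Spec.map qB = 𝒳.i ≫ e.hom := Spec.map_preimage _
  have sqB : IsPushout φ (CommRingCat.ofHom A.res.toRingHom) qB (CommRingCat.ofHom (algebraMap k B₀)) := by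
    refine DefLib.isPushout_of_isPullback_SpecMap ?_
    refine 𝒳.isPullback.of_iso (Iso.refl _) e (Iso.refl _) (Iso.refl _) ?_ ?_ ?_ ?_
    · simp [hqB]
    · simp
    · simp [hφ]
    · simp; rfl
  obtain ⟨hqs, hqk⟩ := DefLib.surjective_ker_of_isPushout sqB.flip A.res_surjective
  letI : Algebra A B := φ.hom.toAlgebra
  haveI : Module.Flat A B := by
    have : Flat (Spec.map φ) := by rw [hφ]; infer_instance
    exact RingHom.flat_algebraMap_iff.1 (Flat.SpecMap_iff.1 this)
  have hker : RingHom.ker A.res.toRingHom = IsLocalRing.maximalIdeal A := by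
    ext a
    exact (ArtFun.Art.mem_maximalIdeal_iff A a).symm
  have hnil : IsNilpotent (IsLocalRing.maximalIdeal A) := by
    rw [← IsLocalRing.jacobson_eq_maximalIdeal ⊥ bot_ne_top]
    exact IsArtinianRing.isNilpotent_jacobson_bot
  haveI : Module.Free A B := DefLib.free_of_flat_of_nilpotent hnil
  obtain ⟨hps, hne, hprin, hmul⟩ := hp
  obtain ⟨ε, hεk⟩ := hprin.principal
  have hεp : p.toAlgHom ε = 0 := by
    rw [← RingHom.mem_ker, hεk]
    exact Ideal.mem_span_singleton_self ε
  have hres : ∀ c, A.res (p.toAlgHom c) = A'.res c := fun c => ArtFun.Art.res_app p c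
  have hε : ∀ c, c * ε = 0 ↔ A.res.toRingHom (p.toAlgHom.toRingHom c) = 0 := by
    intro c
    change c * ε = 0 ↔ A.res (p.toAlgHom c) = 0
    rw [hres]
    refine ⟨fun h => ?_, fun h => ?_⟩
    · by_contra hc
      have hu : IsUnit c := by
        by_contra hu
        exact hc ((ArtFun.Art.mem_maximalIdeal_iff A' c).1 hu)
      exact hne (by rw [hεk, hu.mul_right_eq_zero.1 h]; simp)
    · rw [← Ideal.mem_bot (R := A'), ← hmul]
      exact Ideal.mul_mem_mul ((ArtFun.Art.mem_maximalIdeal_iff A' c).2 h)
        (hεk ▸ Ideal.mem_span_singleton_self ε)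
  have hεε : ε * ε = 0 := (hε ε).2 (by
    show A.res (p.toAlgHom ε) = 0
    rw [hεp, map_zero])
  obtain ⟨E, _, _, hflat, π, hπs, hπA, hπk⟩ := DefLib.Unobs.exists_flat_lift P p.toAlgHom.toRingHom
    A.res.toRingHom ε hps hεk hε hT2 A.res_surjective (hker ▸ hnil) hεε qB.hom hqs
    (fun a => congr(($(sqB.w)) a)) hqk
  let p' : CommRingCat.of A' ⟶ CommRingCat.of A := CommRingCat.ofHom p.toAlgHom.toRingHom
  let aL : CommRingCat.of A' ⟶ CommRingCat.of E := CommRingCat.ofHom (algebraMap A' E)
  let πL : CommRingCat.of E ⟶ B := CommRingCat.ofHom π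
  have sqL : IsPullback (e.hom ≫ Spec.map πL) 𝒳.f (Spec.map aL) (ArtFun.Art.specMap p) := by
    have h1 : IsPushout p' aL φ πL := DefLib.isPushout_of_surjective p' aL φ πL
      (by ext c; exact (hπA c).symm) hps hπs hπk
    refine (isPullback_SpecMap_of_isPushout _ _ _ _ h1).flip.of_iso e.symm (Iso.refl _) (Iso.refl _) (Iso.refl _)
      ?_ ?_ ?_ ?_
    · simp
    · simp [hφ]
    · simp
    · simp [p']; rfl
  let 𝒳' : ArtFun.DefSch (Spec (CommRingCat.of B₀)) (Spec.map (CommRingCat.ofHom (algebraMap k B₀))) A' :=
    { total := Spec (CommRingCat.of E)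
      f := Spec.map aL
      flat := Flat.SpecMap_iff.2 (RingHom.flat_algebraMap_iff.2 hflat)
      i := 𝒳.i ≫ e.hom ≫ Spec.map πL
      isPullback := by
        have := 𝒳.isPullback.paste_horiz sqL
        rwa [ArtFun.Art.specRes_comp] at this }
  refine ⟨Quotient.mk _ 𝒳', Quotient.sound ⟨
    { iso := sqL.isoPullback.symm
      hom_f := sqL.isoPullback_inv_snd
      i_hom := ?_ }⟩⟩
  rw [Iso.symm_hom, Iso.comp_inv_eq]
  apply pullback.hom_ext
  · rw [ArtFun.DefSch.baseChange_i_fst, Category.assoc, IsPullback.isoPullback_hom_fst]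
  · rw [Category.assoc, IsPullback.isoPullback_hom_snd]
    exact (ArtFun.DefSch.baseChange_i_f 𝒳' p).trans 𝒳.i_f.symm

end Groth.Agent.S12264
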