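import Groth.Statements.S12269
import Groth.Agent.CotTLib.Smooth

set_option autoImplicit false
universe u
open CategoryTheory
open Deform

namespace Groth.Agent.S12269

open CotT CotTLib in
/-- A relation with coefficients in the ideal is trivial near a generic point of a radical ideal in a regular ring. -/
lemma exists_notMem_smul_mem_triv {R : Type u} [CommRing R] [IsRegularRing R] {n : ℕ} (f : Fin n → R)
    (hrad : (Ideal.span (Set.range f)).IsRadical) (Q : Ideal R) [Q.IsPrime]
    (hQ : Q ∈ (Ideal.span (Set.range f)).minimalPrimes)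
    (q : Fin n →₀ R) (hq : Finsupp.linearCombination R f q = 0)
    (hqI : ∀ i, q i ∈ Ideal.span (Set.range f)) : ∃ t ∉ Q, t • q ∈ triv f n := by
  classical
  set S := Localization.AtPrime Q
  set φ := algebraMap R S
  set I := Ideal.span (Set.range f) with hIdef
  have hmap : I.map φ = IsLocalRing.maximalIdeal S := by
    rw [← hrad.radical, IsLocalization.map_radical Q.primeCompl, Ideal.radical_eq_sInf]
    refine le_antisymm (sInf_le ⟨?_, inferInstance⟩) (le_sInf ?_)
    · rw [← Localization.AtPrime.map_eq_maximalIdeal]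
      exact Ideal.map_mono hQ.1.2
    · rintro J ⟨hJ, hJp⟩
      have h1 : I ≤ J.comap φ := Ideal.map_le_iff_le_comap.mp hJ
      have hd : Disjoint (Q.primeCompl : Set R) (J.comap φ) :=
        IsLocalization.disjoint_comap_iff Q.primeCompl S J |>.mpr hJp.ne_top
      have h2 : J.comap φ ≤ Q := fun x hx => by
        by_contra hxQ; exact Set.disjoint_left.mp hd hxQ hx
      have h3 : Q ≤ J.comap φ := hQ.2 ⟨inferInstance, h1⟩ h2
      rw [← Localization.AtPrime.map_eq_maximalIdeal]
      exact Ideal.map_le_iff_le_comap.mpr h3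
  have hIS : Ideal.span (Set.range fun i => φ (f i)) = IsLocalRing.maximalIdeal S := by
    rw [← hmap, hIdef, Ideal.map_span, ← Set.range_comp]; rfl
  have hy : Finsupp.mapRange φ (map_zero _) q ∈ triv (fun i => φ (f i)) n := by
    refine mem_triv_of_locally _ (fun P' _ hP' => ?_) _ ?_ ?_
    · rw [hIS] at hP' ⊢
      obtain rfl : P' = IsLocalRing.maximalIdeal S :=
        (Ideal.IsMaximal.eq_of_le inferInstance (Ideal.IsPrime.ne_top ‹_›) hP').symm
      set T := Localization.AtPrime (IsLocalRing.maximalIdeal S)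
      have : IsRegularLocalRing T :=
        IsRegularLocalRing.of_ringEquiv
          (IsLocalization.atUnits S (IsLocalRing.maximalIdeal S).primeCompl (S := T)
            (fun x hx => IsLocalRing.notMem_maximalIdeal.mp hx)).toRingEquiv
      rw [Localization.AtPrime.map_eq_maximalIdeal]
      have : IsRegularLocalRing (T ⧸ IsLocalRing.maximalIdeal T) :=
        inferInstanceAs (IsRegularLocalRing (IsLocalRing.ResidueField T))
      obtain ⟨rs, hrs, hrsJ⟩ :=
        CommAlgDim.exists_isRegular_of_regular_quotient (R := T) (J := IsLocalRing.maximalIdeal T)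
      exact ⟨rs, hrs.toIsWeaklyRegular, hrsJ⟩
    · exact (mapRange_linearCombination f φ q).trans ((congrArg φ hq).trans (map_zero φ))
    · intro i
      rw [hIS, ← hmap, Finsupp.mapRange_apply]
      exact Ideal.mem_map_of_mem φ (hqI i)
  obtain ⟨t, ht, y0, hy0, e⟩ := triv_descend f Q.primeCompl (S := S) hy
  have hz : ∀ i, ∃ s : Q.primeCompl, (s : R) * y0 i = s * (t * q i) := fun i => by
    apply IsLocalization.exists_of_eq (S := S)
    have := DFunLike.congr_fun e i
    rw [Finsupp.mapRange_apply, Finsupp.smul_apply, Finsupp.mapRange_apply] at this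
    rw [map_mul]; exact this
  choose s hs using hz
  refine ⟨(∏ i, (s i : R)) * t, mul_mem (prod_mem fun i _ => (s i).2) ht, ?_⟩
  have hkey : ((∏ i, (s i : R)) * t) • q = (∏ i, (s i : R)) • y0 := by
    ext i
    obtain ⟨d, hd⟩ := Finset.dvd_prod_of_mem (fun i => (s i : R)) (Finset.mem_univ i)
    rw [Finsupp.smul_apply, Finsupp.smul_apply, smul_eq_mul, smul_eq_mul, hd,
      mul_comm (s i : R) d, mul_assoc d (s i : R) t, mul_assoc, mul_assoc, mul_assoc, ← hs i]
  rw [hkey]; exact Submodule.smul_mem _ _ hy0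

open CotT CotTLib TensorProduct in
/-- every functional on `L₂` kills the kernel of `d₂`, for reduced algebras over a field -/
lemma apply_eq_zero_of_d2 {k : Type u} [Field k] (B : Type u) [CommRing B] [Algebra k B]
    [IsReduced B] {ι σ : Type u} [Finite ι] [Finite σ] (P : Algebra.Presentation k B ι σ)
    (φ : L2 P →ₗ[B] B) (z : L2 P) (hz : d2 P z = 0) : φ z = 0 := by
  classical
  haveI : IsRegularRing P.toExtension.Ring := inferInstanceAs (IsRegularRing (MvPolynomial ι k))
  obtain ⟨n, ⟨eσ⟩⟩ := Finite.exists_equiv_fin σ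
  obtain ⟨q, rfl⟩ := mk_one_tmul_surjective P z
  rw [d2_mk_tmul] at hz
  let f : Fin n → P.toExtension.Ring := fun i => rel P (eσ.symm i)
  let D : relMod P ≃ₗ[P.toExtension.Ring] (Fin n →₀ P.toExtension.Ring) := Finsupp.domLCongr eσ
  have hD : ∀ g, Finsupp.linearCombination P.toExtension.Ring f g = jmap P (D.symm g) := fun g => by
    have h : Finsupp.linearCombination P.toExtension.Ring f =
        (jmap P) ∘ₗ D.symm.toLinearMap := Finsupp.lhom_ext fun i r => by
      simp [D, f, jmap, Finsupp.linearCombination_single]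
    exact LinearMap.congr_fun h g
  have hI : Ideal.span (Set.range f) = RingHom.ker (algebraMap P.toExtension.Ring B) := by
    have : Set.range f = Set.range (rel P) := eσ.symm.surjective.range_comp (rel P)
    rw [this]
    exact P.span_range_relation_eq_ker
  have hrad : (Ideal.span (Set.range f)).IsRadical := by
    rw [hI]; intro x ⟨m, hm⟩
    rw [RingHom.mem_ker, map_pow] at hm
    exact IsReduced.eq_zero _ ⟨m, hm⟩
  have hcoef : ∀ i, D (q : relMod P) i ∈ Ideal.span (Set.range f) := fun i => by
    rw [hI, RingHom.mem_ker]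
    have := congrArg (fun w => (L1basis P).repr w (eσ.symm i)) hz
    simp only [map_zero, Finsupp.coe_zero, Pi.zero_apply] at this
    rw [← this]
    simp [L1basis, D, Algebra.algebraMap_eq_smul_one]
  suffices h : φ (Submodule.Quotient.mk ((1 : B) ⊗ₜ q)) ∈ sInf (minimalPrimes B) by
    rw [show sInf (minimalPrimes B) = (⊥ : Ideal B).radical from Ideal.sInf_minimalPrimes] at h
    exact IsReduced.eq_zero _ h
  rw [Submodule.mem_sInf]
  intro (p : Ideal B) hp
  haveI : p.IsPrime := hp.1.1
  have hQ : p.comap (algebraMap P.toExtension.Ring B) ∈ (Ideal.span (Set.range f)).minimalPrimes := by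
    rw [hI, RingHom.ker_eq_comap_bot]
    exact Ideal.minimalPrimes_comap_of_surjective P.toExtension.algebraMap_surjective hp
  obtain ⟨t, ht, htt⟩ := exists_notMem_smul_mem_triv f hrad _ hQ (D q)
    (by rw [hD, LinearEquiv.symm_apply_apply]; exact q.2) hcoef
  have htriv : ((t • q : relKer P) : relMod P) ∈ trivRel P := by
    have hle : triv f n ≤ (trivRel P).comap D.symm.toLinearMap := by
      refine Submodule.span_le.2 ?_
      rintro _ ⟨g, -, h', -, rfl⟩
      refine Submodule.subset_span ⟨D.symm g, D.symm h', ?_⟩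
      rw [LinearEquiv.coe_coe, map_sub, map_smul, map_smul, hD, hD]
    have := hle htt
    rw [Submodule.mem_comap, LinearEquiv.coe_coe, map_smul, LinearEquiv.symm_apply_apply] at this
    exact this
  have h0 : algebraMap P.toExtension.Ring B t •
      (Submodule.Quotient.mk ((1 : B) ⊗ₜ q) : L2 P) = 0 := by
    rw [← Submodule.Quotient.mk_smul, TensorProduct.smul_tmul', smul_eq_mul,
      show algebraMap P.toExtension.Ring B t * 1 = t • (1 : B) from (Algebra.smul_def t 1).symm,
      TensorProduct.smul_tmul]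
    exact (mk_one_tmul_eq_zero_iff P (t • q)).2 htriv
  have h1 := congrArg φ h0
  rw [map_smul, map_zero, smul_eq_mul] at h1
  refine (Ideal.IsPrime.mem_or_mem inferInstance (h1 ▸ p.zero_mem :
    algebraMap P.toExtension.Ring B t * φ _ ∈ p)).resolve_left ht

open CotT CotTLib in
/-- `T²` via the module of first syzygies of the conormal module. -/
lemma nonempty_T2_equiv {k : Type u} [CommRing k] (B : Type u) [CommRing B] [Algebra k B]
    {ι σ : Type u} (P : Algebra.Presentation k B ι σ)
    (hK : ∀ (φ : L2 P →ₗ[B] B) (z : L2 P), d2 P z = 0 → φ z = 0) :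
    Nonempty (((↥(LinearMap.ker (toCot P)) →ₗ[B] B) ⧸
      (LinearMap.range (LinearMap.lcomp B B (LinearMap.ker (toCot P)).subtype) :
        Submodule B (↥(LinearMap.ker (toCot P)) →ₗ[B] B))) ≃ₗ[B] T2 P B) := by
  let e : L2 P →ₗ[B] LinearMap.ker (toCot P) :=
    (d2 P).codRestrict _ fun w => LinearMap.congr_fun (toCot_comp_d2 P) w
  have hes : Function.Surjective e := fun ⟨y, hy⟩ => by
    obtain ⟨w, hw⟩ := (toCot_exact P y).1 hy
    exact ⟨w, Subtype.ext hw⟩
  let res := LinearMap.lcomp B B (LinearMap.ker (toCot P)).subtype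
  have hle : LinearMap.range res ≤ (LinearMap.range (d2Star P B)).comap (LinearMap.lcomp B B e) := by
    rintro _ ⟨ψ, rfl⟩
    exact ⟨ψ, LinearMap.ext fun w => rfl⟩
  refine ⟨LinearEquiv.ofBijective
    (Submodule.mapQ _ (LinearMap.range (d2Star P B)) (LinearMap.lcomp B B e) hle) ⟨?_, ?_⟩⟩
  · rw [injective_iff_map_eq_zero]
    intro x hx
    obtain ⟨g, rfl⟩ := Submodule.Quotient.mk_surjective _ x
    obtain ⟨ψ, hψ⟩ := (Submodule.Quotient.mk_eq_zero _).1 hx
    refine (Submodule.Quotient.mk_eq_zero _).2 ⟨ψ, LinearMap.ext fun y => ?_⟩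
    obtain ⟨w, rfl⟩ := hes y
    exact LinearMap.congr_fun hψ w
  · intro x
    obtain ⟨φ, rfl⟩ := Submodule.Quotient.mk_surjective _ x
    let E := LinearMap.quotKerEquivOfSurjective (M := L2 P) (M₂ := LinearMap.ker (toCot P)) e hes
    refine ⟨Submodule.Quotient.mk ((Submodule.liftQ _ φ (fun z hz => hK φ z
      (congrArg Subtype.val (LinearMap.mem_ker.1 hz)))) ∘ₗ E.symm.toLinearMap), ?_⟩
    refine congrArg Submodule.Quotient.mk (LinearMap.ext fun w => ?_)
    change Submodule.liftQ (LinearMap.ker e) φ (fun z hz => hK φ z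
      (congrArg Subtype.val (LinearMap.mem_ker.1 hz))) (E.symm (e w)) = φ w
    rw [show E.symm (e w) = Submodule.Quotient.mk w from E.symm_apply_eq.2 rfl]
    rfl

open Abelian in
/-- `Ext¹` from a presentation by a projective module -/
lemma nonempty_ext_equiv {B : Type u} [CommRing B] {C L : Type u} [AddCommGroup C] [Module B C]
    [AddCommGroup L] [Module B L] [Module.Projective B L] (p : L →ₗ[B] C) (hp : Function.Surjective p)
    (M : Type u) [AddCommGroup M] [Module B M] :
    Nonempty (((↥(LinearMap.ker p) →ₗ[B] M) ⧸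
      (LinearMap.range (LinearMap.lcomp B M (LinearMap.ker p).subtype) :
        Submodule B (↥(LinearMap.ker p) →ₗ[B] M))) ≃ₗ[B]
      Ext (ModuleCat.of B C) (ModuleCat.of B M) 1) := by
  let S : ShortComplex (ModuleCat.{u} B) := ShortComplex.mk (ModuleCat.ofHom (LinearMap.ker p).subtype)
    (ModuleCat.ofHom p) (ModuleCat.hom_ext (LinearMap.ext fun x => x.2))
  have hS : S.ShortExact := by
    refine ShortComplex.ShortExact.mk' ?_ ?_ ?_
    · rw [ShortComplex.moduleCat_exact_iff]
      intro x hx
      exact ⟨⟨x, hx⟩, rfl⟩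
    · exact (ModuleCat.mono_iff_injective _).2 Subtype.val_injective
    · exact (ModuleCat.epi_iff_surjective _).2 hp
  let δ : (↥(LinearMap.ker p) →ₗ[B] M) →ₗ[B] Ext (ModuleCat.of B C) (ModuleCat.of B M) 1 :=
    Ext.precompOfLinear hS.extClass B (ModuleCat.of B M) (add_zero 1) ∘ₗ
      (Ext.linearEquiv₀ (R := B)).symm.toLinearMap ∘ₗ
      (ModuleCat.homLinearEquiv (S := B) (M := S.X₁) (N := ModuleCat.of B M)).symm.toLinearMap
  have hδ : ∀ g, δ g = hS.extClass.comp (Ext.mk₀ (ModuleCat.ofHom g)) (add_zero 1) := fun g => rfl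
  have hsur : Function.Surjective δ := fun y => by
    haveI : Projective S.X₂ := inferInstanceAs (Projective (ModuleCat.of B L))
    obtain ⟨x, hx⟩ := Ext.contravariant_sequence_exact₃ hS (ModuleCat.of B M) y
      (Ext.eq_zero_of_projective _) (add_zero 1)
    obtain ⟨g, rfl⟩ := (Ext.linearEquiv₀ (R := B)).symm.surjective x
    exact ⟨g.hom, hx⟩
  refine ⟨(Submodule.quotEquivOfEq _ _ ?_).trans (δ.quotKerEquivOfSurjective hsur)⟩
  ext g
  rw [LinearMap.mem_ker, hδ]
  constructor
  · rintro ⟨ψ, rfl⟩
    have h : ModuleCat.ofHom ((LinearMap.lcomp B M (LinearMap.ker p).subtype) ψ) =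
        S.f ≫ ModuleCat.ofHom ψ := rfl
    rw [h, ← Ext.mk₀_comp_mk₀, ← Ext.comp_assoc (hS.extClass) (Ext.mk₀ S.f) _ (add_zero 1) (add_zero 0)
      (add_zero 1), hS.extClass_comp, Ext.zero_comp]
  · intro h
    obtain ⟨x₂, hx₂⟩ := Ext.contravariant_sequence_exact₁ hS (ModuleCat.of B M)
      (Ext.mk₀ (ModuleCat.ofHom g)) (add_zero 1) h
    obtain ⟨ψ, rfl⟩ := (Ext.linearEquiv₀ (R := B)).symm.surjective x₂
    rw [Ext.linearEquiv₀_symm_apply, Ext.mk₀_comp_mk₀] at hx₂
    exact ⟨ψ.hom, congrArg ModuleCat.Hom.hom (Ext.addEquiv₀.symm.injective hx₂)⟩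

/-- Let k be an algebraically closed field and B₀ a reduced k-algebra given with a finite presentation P
= k[X_i]/I (finitely many variables and relations); let T² = T²(B₀/k, B₀) be the second cotangent
module computed from P and I/I² the conormal module of the presentation. Then T² and Ext¹_{B₀}(I/I²,
B₀) are isomorphic B₀-modules (existence of a B₀-linear isomorphism; the published one is induced by
the chosen presentation). (The published statement allows the quotient of any smooth k-algebra; this
row takes a polynomial presentation.) -/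
theorem result
    {k : Type u} [Field k] [IsAlgClosed k] (B₀ : Type u) [CommRing B₀] [Algebra k B₀] {ι σ : Type u} [Finite ι] [Finite σ]
    (P : Algebra.Presentation k B₀ ι σ) [IsReduced B₀] :
    Nonempty (CotT.T2 P B₀ ≃ₗ[B₀]
      Abelian.Ext (ModuleCat.of B₀ P.toExtension.Cotangent) (ModuleCat.of B₀ B₀) 1) := by
  haveI : Module.Projective B₀ (CotT.L1 P) :=
    Module.Projective.of_basis (CotT.L1basis P)
  obtain ⟨e₁⟩ := nonempty_T2_equiv B₀ P (apply_eq_zero_of_d2 B₀ P)
  obtain ⟨e₂⟩ := nonempty_ext_equiv (CotT.toCot P) (CotTLib.toCot_surjective P) B₀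
  exact ⟨e₁.symm.trans e₂⟩

end Groth.Agent.S12269
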