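import Groth.Statements.S1227
import Mathlib


-- import your own Groth.Agent.* helpers here

set_option autoImplicit false
universe u
open FlatMor

namespace Groth.Agent.S1227

open TensorProduct in
/-- Let u be a surjective linear map from a projective A-module M to an A-module N. Then there is an
ideal I of A such that for every A-algebra B, the base change u ⊗ 1 from B ⊗ M to B ⊗ N is bijective
if and only if the image of I in B is zero. -/
theorem result {A : Type u} [CommRing A] {M N : Type u} [AddCommGroup M] [Module A M] [Module.Projective A M]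
    [AddCommGroup N] [Module A N] (u : M →ₗ[A] N) (hu : Function.Surjective u) :
    ∃ I : Ideal A, ∀ (B : Type u) [CommRing B] [Algebra A B],
      Function.Bijective (u.baseChange B) ↔ I.map (algebraMap A B) = ⊥ := by
  classical
  obtain ⟨s, hs⟩ := Module.projective_def'.1 (inferInstance : Module.Projective A M)
  refine ⟨Ideal.span {r : A | ∃ m ∈ LinearMap.ker u, ∃ i, r = s m i}, fun B _ _ => ?_⟩
  have hsurj : Function.Surjective (u.baseChange B) := LinearMap.lTensor_surjective B hu
  have hex := lTensor_exact B (f := (LinearMap.ker u).subtype) (g := u) (LinearMap.exact_subtype_ker_map u) hu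
  rw [Ideal.map_span, Ideal.span_eq_bot]
  constructor
  · rintro ⟨hinj, -⟩ _ ⟨r, ⟨m, hm, i, rfl⟩, rfl⟩
    have h0 : (1 : B) ⊗ₜ[A] m = 0 := hinj (by simp [LinearMap.mem_ker.1 hm])
    have := congrArg ((TensorProduct.rid A B).toLinearMap ∘ₗ LinearMap.lTensor B (Finsupp.lapply i ∘ₗ s)) h0
    simpa [Algebra.smul_def] using this
  · intro h
    refine ⟨?_, hsurj⟩
    rw [injective_iff_map_eq_zero]
    intro z hz
    obtain ⟨w, rfl⟩ := (hex z).1 hz
    induction w using TensorProduct.induction_on with
    | zero => simp
    | tmul b m =>
      rw [LinearMap.lTensor_tmul]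
      have hm : ((m : M)) = (s m).sum fun i r => r • i := by
        have := LinearMap.congr_fun hs (m : M)
        rw [LinearMap.comp_apply, Finsupp.linearCombination_apply, LinearMap.id_apply] at this
        exact this.symm
      rw [show ((LinearMap.ker u).subtype m : M) = (m : M) from rfl, hm, Finsupp.sum, TensorProduct.tmul_sum]
      refine Finset.sum_eq_zero fun i _ => ?_
      rw [← TensorProduct.smul_tmul, Algebra.smul_def,
        h _ ⟨_, ⟨m, m.2, i, rfl⟩, rfl⟩, zero_mul, TensorProduct.zero_tmul]
    | add a b ha hb =>
      rw [map_add, ha (by exact (hex _).2 ⟨a, rfl⟩), hb (by exact (hex _).2 ⟨b, rfl⟩), add_zero]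

end Groth.Agent.S1227
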