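import Groth.Statements.S12272
import Groth.Agent.HilbGlueLib.Fibres
import Groth.Agent.HilbGlueLib.Tangent

set_option autoImplicit false
universe u
open CategoryTheory CategoryTheory.Limits AlgebraicGeometry
attribute [local instance] HasDerivedCategory.standard
open Deform

namespace Groth.Agent.S12272

/-- Let k be an algebraically closed field, Y a separated k-scheme of finite type and i : X → Y a
regular closed immersion over k with X projective over k; let N = Hom_{O_X}(I/I², O_X) be the normal
sheaf (sheaf Hom of the conormal sheaf of i, as a right adjoint, assumed to exist). Then X is rigid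
in Y, meaning that for every local Artinian k-algebra A with residue field k there is at most one
closed subscheme of Y ×_k Spec A flat over Spec A restricting to X on the closed fibre (necessarily
X ×_k Spec A), if and only if H⁰(X, N) = 0. -/
theorem result
    {k : Type u} [Field k] [IsAlgClosed k] (Y : Scheme.{u}) (y : Y ⟶ Spec (CommRingCat.of k))
    [LocallyOfFiniteType y] [IsSeparated y] [QuasiCompact y]
    (X : Scheme.{u}) [X.Over (Spec (CommRingCat.of k))] (i : X ⟶ Y) [IsClosedImmersion i] (hi : i ≫ y = X ↘ (Spec (CommRingCat.of k)))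
    (hreg : Mor2.IsRegularClosedImmersion i)
    (hproj : ∃ (n : ℕ) (c : X ⟶ CohB1.ProjSpaceOver n (Spec (CommRingCat.of k))),
      IsClosedImmersion c ∧ c ≫ CohB1.ProjSpaceOver.toBase n (Spec (CommRingCat.of k)) = X ↘ (Spec (CommRingCat.of k)))
    [DCoh.HasSheafHom (Omega.conormal i)] :
    (∀ A : ArtFun.Art k k, Subsingleton ((ArtFun.localHilb Y y i.ker).obj A)) ↔
      Subsingleton (Coh.HH X ((DCoh.sheafHom (Omega.conormal i)).obj (Coh.structureModule X)) 0) := by
  letI : Y.Over (Spec (CommRingCat.of k)) := ⟨y⟩
  obtain ⟨e⟩ := HilbGlueLib.exists_normalEquiv (k := k) (X := Y) i hi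
  let τ := (Equiv.ofBijective _ (HilbGlueLib.theta_bijective y (I₀ := i.ker))).trans e.toEquiv
  refine ⟨fun h => ?_, fun h A => ?_⟩
  · haveI := h (ArtFun.Art.dual k k)
    exact τ.symm.injective.subsingleton
  · have hinj := HilbGlueLib.injective_map_of_tangent (HilbGlueLib.h0 y (I₀ := i.ker)) (HilbGlueLib.hbar y)
      (HilbGlueLib.heps y) (τ.injective.subsingleton) (ArtFun.Art.toBase A) A.res_surjective
    exact ⟨fun a b => hinj ((HilbGlueLib.h0 y (I₀ := i.ker)).2.elim _ _)⟩

end Groth.Agent.S12272
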