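import Groth.Statements.S12278
import Groth.Agent.VBExtLib.Thin

set_option autoImplicit false
universe u
open CategoryTheory CategoryTheory.Limits AlgebraicGeometry
open scoped TensorProduct
attribute [local instance] HasDerivedCategory.standard
open DefT

namespace Groth.Agent.S12278

/-- Let k be a field and X₀ a separated k-scheme; let C' → C be a surjection of local Artinian
k-algebras with residue field k whose kernel J is annihilated by the maximal ideal of C', X' a
deformation of X₀ over C' (a scheme flat over Spec C' with a morphism from X₀ identifying X₀ with
the closed fibre) and X = X' ×_{Spec C'} Spec C its base change, a deformation of X₀ over C. Let F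
be a finite locally free O_X-module and F₀ its restriction to X₀, and let End F₀ = Hom_{O_{X₀}}(F₀,
F₀) be the sheaf of endomorphisms (the sheaf Hom, assumed to exist as the right adjoint of tensoring
with F₀). If H^2(X₀, End F₀) = 0, then F extends over X': there is a finite locally free
O_{X'}-module F' whose restriction to X is isomorphic to F. (The published statement attaches to F
an obstruction in H^2(X₀, End F₀ ⊗ J) whose vanishing is equivalent to the existence of an
extension, for deformations over arbitrary local Artin rings; this row states the consequence when
H^2(X₀, End F₀) = 0, over local Artinian k-algebras, and also assumes X₀ separated, so that the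
second cohomology of the quasi-coherent module End F₀ is computed on affine open covers.) -/
theorem result
    {k : Type u} [Field k] (X₀ : Scheme.{u}) (x : X₀ ⟶ Spec (CommRingCat.of k)) [IsSeparated x]
    {C' C : ArtFun.Art k k} (p : C' ⟶ C) (hp : ArtFun.Art.IsSemismallExt p)
    (X' : ArtFun.DefSch X₀ x C')
    (F : (X'.baseChange p).total.Modules) (hF : FlatMod.IsFinLocFree F)
    [DCoh.HasSheafHom ((Scheme.Modules.pullback (X'.baseChange p).i).obj F)]
    (h2 : Subsingleton (Coh.HH X₀ ((DCoh.sheafHom ((Scheme.Modules.pullback (X'.baseChange p).i).obj F)).obj
        ((Scheme.Modules.pullback (X'.baseChange p).i).obj F)) 2)) :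
    ∃ F' : X'.total.Modules, FlatMod.IsFinLocFree F' ∧
      Nonempty ((Scheme.Modules.pullback (pullback.fst X'.f (ArtFun.Art.specMap p))).obj F' ≅ F) := by
  exact VBExtLib.exists_extension p hp X' F hF h2

end Groth.Agent.S12278
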