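import Groth.Statements.S1228
import Groth.Agent.PureCritLib.Global

set_option autoImplicit false
universe u
open FlatMor
open scoped TensorProduct

namespace Groth.Agent.S1228

open TensorProduct in
/-- Ring form, S = Spec A and X = Spec B affine, test schemes affine: let B be a finitely presented
A-algebra, N a finitely presented B-module which is flat over A and pure relative to Spec A, and u a
surjective B-linear map from N to a B-module N'. Then the functor 'u becomes an isomorphism after
base change' is represented by a closed subscheme of Spec A: there is an ideal I of A such that for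
every A-algebra A' the base change A' ⊗_A N → A' ⊗_A N' is bijective if and only if IA' = 0. If N'
is finitely presented then I is finitely generated. -/
theorem result {A B : Type u} [CommRing A] [CommRing B] [Algebra A B] [Algebra.FinitePresentation A B]
    (N : Type u) [AddCommGroup N] [Module B N] [Module A N] [IsScalarTower A B N] [Module.FinitePresentation B N] [Module.Flat A N]
    (hpure : FlatCA.IsPure A B N)
    (N' : Type u) [AddCommGroup N'] [Module B N'] [Module A N'] [IsScalarTower A B N'] (u : N →ₗ[B] N') (hu : Function.Surjective u) :
    ∃ I : Ideal A, (∀ (A' : Type u) [CommRing A'] [Algebra A A'],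
        Function.Bijective ((u.restrictScalars A).baseChange A') ↔ I.map (algebraMap A A') = ⊥) ∧
      (Module.FinitePresentation B N' → I.FG) := by
  classical
  haveI : Module.Projective A N := PureCritLib.projective_of_isPure N hpure
  obtain ⟨i, hi⟩ := (inferInstance : Module.Projective A N).out
  let s : (N →₀ A) →ₗ[A] N := Finsupp.linearCombination A id
  let K : Submodule B N := LinearMap.ker u
  let I : Ideal A := Ideal.span {a | ∃ (φ : N →ₗ[A] A) (k : N), k ∈ K ∧ a = φ k}
  refine ⟨I, fun A' _ _ => ?_, fun hfp => ?_⟩
  · let v := (u.restrictScalars A).baseChange A'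
    have hex : Function.Exact ((K.restrictScalars A).subtype.baseChange A') v :=
      lTensor_exact A' (f := (K.restrictScalars A).subtype) (g := u.restrictScalars A)
        (fun x => ⟨fun h => ⟨⟨x, h⟩, rfl⟩, by rintro ⟨k, rfl⟩; exact k.2⟩) hu
    have hsurj : Function.Surjective v := LinearMap.lTensor_surjective A' (g := u.restrictScalars A) hu
    constructor
    · intro hbij
      rw [Ideal.map_span, Ideal.span_eq_bot]
      rintro _ ⟨_, ⟨φ, k, hk, rfl⟩, rfl⟩
      have h0 : (1 : A') ⊗ₜ[A] k = 0 := hbij.1 (by
        rw [map_zero]
        show (1 : A') ⊗ₜ[A] (u k) = 0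
        rw [show u k = 0 from hk, TensorProduct.tmul_zero])
      have h1 := congrArg (fun z => TensorProduct.rid A A' (φ.lTensor A' z)) h0
      simpa [Algebra.smul_def] using h1
    · intro hI
      refine ⟨?_, hsurj⟩
      rw [injective_iff_map_eq_zero]
      intro z hz
      obtain ⟨w, rfl⟩ := (hex z).1 hz
      induction w using TensorProduct.induction_on with
      | zero => simp
      | add a b ha hb =>
        rw [map_add, ha (hex.apply_apply_eq_zero a), hb (hex.apply_apply_eq_zero b), add_zero]
      | tmul a k =>
        have hc : ∀ l : N, algebraMap A A' (i (k : N) l) = 0 := fun l => by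
          have hm : i (k : N) l ∈ I := Ideal.subset_span ⟨(Finsupp.lapply l).comp i, k, k.2, rfl⟩
          have := Ideal.mem_map_of_mem (algebraMap A A') hm
          rwa [hI, Ideal.mem_bot] at this
        rw [LinearMap.baseChange_tmul]
        show a ⊗ₜ[A] (k : N) = 0
        rw [← hi (k : N), Finsupp.linearCombination_apply, Finsupp.sum, TensorProduct.tmul_sum]
        refine Finset.sum_eq_zero fun l _ => ?_
        rw [TensorProduct.tmul_smul, TensorProduct.smul_tmul', Algebra.smul_def, hc l, zero_mul, TensorProduct.zero_tmul]
  · haveI := hfp
    obtain ⟨G, hG⟩ := Module.FinitePresentation.fg_ker u hu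
    let c : N → Ideal A := fun k => Ideal.span ((i k).support.image fun l => i k l : Finset A)
    refine ⟨G.biUnion fun k => (i k).support.image fun l => i k l, ?_⟩
    refine le_antisymm (Ideal.span_le.2 fun a ha => ?_) (Ideal.span_le.2 ?_)
    · obtain ⟨k, hk, ha'⟩ := Finset.mem_biUnion.1 (Finset.mem_coe.1 ha)
      obtain ⟨l, -, rfl⟩ := Finset.mem_image.1 ha'
      exact Ideal.subset_span ⟨(Finsupp.lapply l).comp i, k, hG.le (Submodule.subset_span hk), rfl⟩
    · rintro _ ⟨φ, k, hk, rfl⟩
      let J : Ideal A := Ideal.span (G.biUnion fun k => (i k).support.image fun l => i k l : Finset A)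
      have hmem : ∀ x ∈ Submodule.span B (G : Set N), x ∈ J • (⊤ : Submodule A N) := by
        intro x hx
        induction hx using Submodule.span_induction with
        | mem x hx =>
          rw [← hi x, Finsupp.linearCombination_apply]
          refine Submodule.sum_mem _ fun l hl => Submodule.smul_mem_smul ?_ trivial
          exact Ideal.subset_span (Finset.mem_coe.2 (Finset.mem_biUnion.2 ⟨x, hx, Finset.mem_image.2 ⟨l, hl, rfl⟩⟩))
        | zero => exact zero_mem _
        | add x y _ _ hx hy => exact add_mem hx hy
        | smul b x _ hx =>
          refine Submodule.smul_induction_on hx (fun a ha m _ => ?_) fun y z hy hz => by rw [smul_add]; exact add_mem hy hz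
          rw [smul_comm]
          exact Submodule.smul_mem_smul ha trivial
      refine Submodule.smul_induction_on (hmem k (hG.ge hk)) (fun a ha m _ => ?_) fun y z hy hz => by rw [map_add]; exact add_mem hy hz
      rw [map_smul, smul_eq_mul]
      exact Ideal.mul_mem_right _ _ ha

end Groth.Agent.S1228
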