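import Groth.Statements.S12280
import Groth.Agent.HilbGlueLib.StalkDim
import Groth.Agent.HilbSmoothLib.Bridge
import Groth.Agent.HilbSmoothLib.Transport
import Groth.Agent.HilbObsLib.Regular
import Groth.Agent.HilbObsLib.Induct
import Groth.Agent.ChowLib.Embed
import Groth.Agent.RTrivLib.P1

set_option autoImplicit false
universe u
open CategoryTheory CategoryTheory.Limits AlgebraicGeometry
open scoped TensorProduct
attribute [local instance] HasDerivedCategory.standard
open DefT

namespace Groth.Agent.S12280

/-- Let k be an algebraically closed field, X = P^n_k, and (H, Z) a Hilbert scheme of X over k: H is a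
locally Noetherian k-scheme and Z ⊆ X ×_k H a closed subscheme, proper and flat over H, such that
every closed subscheme of X ×_k T proper and flat over a locally Noetherian k-scheme T is the
pull-back of Z along a unique k-morphism T → H. Let Y ⊆ X be a closed subscheme, regarded as a
k-scheme through X, with ideal sheaf I and normal sheaf N = Hom_{O_Y}(I/I², O_Y) (the sheaf Hom,
assumed to exist as the right adjoint of tensoring with I/I²), and let y ∈ H be the k-point
classifying Y (the pull-back of Z along Spec k → H is Y). If Y → X is a regular closed immersion (Y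
is a local complete intersection in X) and H^1(Y, N) = 0, then H is nonsingular at y: the local ring
O_{H,y} is regular, and its dimension equals dim_k H^0(Y, N). -/
theorem result
    {k : Type u} [Field k] [IsAlgClosed k] (n : ℕ)
    (H : Over (Spec (CommRingCat.of k))) (Z : FGA.HilbSet (CohB1.ProjSpaceOver.toBase n (Spec (CommRingCat.of k))) H) (hH : FGA.HilbRepresentedBy (CohB1.ProjSpaceOver.toBase n (Spec (CommRingCat.of k))) H Z)
    (Y : Scheme.{u}) [Y.Over (Spec (CommRingCat.of k))] (i : Y ⟶ CohB1.ProjSpaceOver n (Spec (CommRingCat.of k))) [IsClosedImmersion i]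
    (hi : i ≫ CohB1.ProjSpaceOver.toBase n (Spec (CommRingCat.of k)) = Y ↘ Spec (CommRingCat.of k))
    (hreg : Mor2.IsRegularClosedImmersion i)
    [DCoh.HasSheafHom (Omega.conormal i)]
    (y : Over.mk (𝟙 (Spec (CommRingCat.of k))) ⟶ H)
    (hy : FGA.hilbPull (CohB1.ProjSpaceOver.toBase n (Spec (CommRingCat.of k))) y Z.1 = i.ker.comap (pullback.fst (CohB1.ProjSpaceOver.toBase n (Spec (CommRingCat.of k))) (Over.mk (𝟙 (Spec (CommRingCat.of k)))).hom))
    (h1 : Subsingleton (Coh.HH Y ((DCoh.sheafHom (Omega.conormal i)).obj (Coh.structureModule Y)) 1)) :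
    IsRegularLocalRing (H.left.presheaf.stalk (y.left.base (IsLocalRing.closedPoint k))) ∧
      ringKrullDim (H.left.presheaf.stalk (y.left.base (IsLocalRing.closedPoint k))) = (Module.finrank k (Coh.HH Y ((DCoh.sheafHom (Omega.conormal i)).obj (Coh.structureModule Y)) 0) : WithBot ℕ∞) := by
  let f := CohB1.ProjSpaceOver.toBase n (Spec (CommRingCat.of k))
  haveI : Smooth f := RTrivLib.smooth_toBase n _
  haveI : IsProper f := ChowLib.isProper_toBase n _
  haveI := hH.1
  haveI : DCoh.HasSheafHom (Omega.conormal i.ker.subschemeι) := CohCmpLib.hasSheafHom _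
  haveI : IsIso i.toImage := inferInstance
  have he : inv i.toImage ≫ i = i.ker.subschemeι := by
    rw [IsIso.inv_comp_eq]
    exact i.toImage_imageι.symm
  have hreg' : Mor2.IsRegularClosedImmersion i.ker.subschemeι := by
    refine ⟨inferInstance, fun w => ?_⟩
    obtain ⟨U, hU, hz, rs, hrs, hker⟩ := hreg.2 ((inv i.toImage).base w)
    refine ⟨U, hU, ?_, rs, hrs, ?_⟩
    · rw [← he]; exact hz
    · rw [Scheme.IdealSheafData.ker_subschemeι]; exact hker
  haveI hR : IsRegularLocalRing (H.left.presheaf.stalk (y.left.base (IsLocalRing.closedPoint k))) :=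
    HilbSmoothLib.isRegularLocalRing_stalk f H Z hH y i.ker hy fun B A μ hμ =>
      HilbObsLib.surjective_map_of_split f i.ker (HilbObsLib.splitsLocKR_of_regular f i.ker hreg'
        (HilbSmoothLib.subsingleton_normal_image i 1 h1)) B _ μ hμ rfl
  refine ⟨hR, ?_⟩
  rw [← (isRegularLocalRing_iff _).1 hR]
  rw [← HilbGlueLib.finrank_cotangent_stalk f H Z hH Y i hi y hy]
  rw [IsLocalRing.spanFinrank_maximalIdeal_eq_finrank_cotangentSpace]

end Groth.Agent.S12280
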