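import Groth.Statements.S12284
import Groth.Prelude.Def_CotT

set_option autoImplicit false
universe u w m
set_option maxHeartbeats 3200000
open scoped TensorProduct
open DefT

namespace Groth.Agent.S12284

/-- Let A → B be a ring homomorphism, P a presentation of B over A with cotangent complex L₂ → L₁ → L₀,
and 0 → M' → M → M'' → 0 a short exact sequence of B-modules (f : M' → M injective, g : M → M''
surjective, image of f = kernel of g). Write T^i(N) for the i-th cohomology of Hom_B(L•, N) and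
T^i(f), T^i(g) for the maps induced by composition. Then T^0(f) is injective, the sequences T^i(M')
→ T^i(M) → T^i(M'') are exact for i = 0, 1, 2, and there are B-linear connecting maps δ₀ : T^0(M'')
→ T^1(M') and δ₁ : T^1(M'') → T^2(M') such that the nine-term sequence 0 → T^0(M') → T^0(M) →
T^0(M'') → T^1(M') → T^1(M) → T^1(M'') → T^2(M') → T^2(M) → T^2(M'') is exact. (The connecting maps
are asserted to exist with this exactness; the text does not single them out otherwise.) -/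
theorem result
    (A B : Type u) [CommRing A] [CommRing B] [Algebra A B] (ι σ : Type w)
    (P : Algebra.Presentation A B ι σ)
    (M' M M'' : Type m) [AddCommGroup M'] [Module B M'] [AddCommGroup M] [Module B M] [AddCommGroup M''] [Module B M'']
    (f : M' →ₗ[B] M) (g : M →ₗ[B] M'') (hf : Function.Injective f) (hg : Function.Surjective g)
    (hfg : Function.Exact f g) :
    Function.Injective (CotT.T0map P f) ∧ Function.Exact (CotT.T0map P f) (CotT.T0map P g) ∧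
      Function.Exact (CotT.T1map P f) (CotT.T1map P g) ∧ Function.Exact (CotT.T2map P f) (CotT.T2map P g) ∧
      ∃ (δ₀ : CotT.T0 P M'' →ₗ[B] CotT.T1 P M') (δ₁ : CotT.T1 P M'' →ₗ[B] CotT.T2 P M'),
        Function.Exact (CotT.T0map P g) δ₀ ∧ Function.Exact δ₀ (CotT.T1map P f) ∧
        Function.Exact (CotT.T1map P g) δ₁ ∧ Function.Exact δ₁ (CotT.T2map P f) := by
  haveI : Module.Free B (CotT.L1 P) := Module.Free.of_basis (CotT.L1basis P)
  haveI : Module.Free B (CotT.L0 P) := Module.Free.of_basis P.cotangentSpaceBasis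
  have hlift : ∀ {X : Type _} [AddCommGroup X] [Module B X] (φ : X →ₗ[B] M),
      g ∘ₗ φ = 0 → ∃ ψ : X →ₗ[B] M', f ∘ₗ ψ = φ := by
    intro X _ _ φ hφ
    let e : M' ≃ₗ[B] LinearMap.range f := LinearEquiv.ofInjective f hf
    refine ⟨e.symm.toLinearMap ∘ₗ φ.codRestrict (LinearMap.range f)
      (fun x => (hfg (φ x)).1 (LinearMap.congr_fun hφ x)), LinearMap.ext fun x => ?_⟩
    exact congrArg Subtype.val (e.apply_symm_apply _)
  have hgf : g ∘ₗ f = 0 := LinearMap.ext fun x => (hfg (f x)).2 ⟨x, rfl⟩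
  have hcan : ∀ {X : Type _} [AddCommGroup X] [Module B X] (a b : X →ₗ[B] M'),
      f ∘ₗ a = f ∘ₗ b → a = b := fun a b h => LinearMap.ext fun x => hf (LinearMap.congr_fun h x)
  have hp1 : ∀ φ : CotT.L1 P →ₗ[B] M'', ∃ ψ : CotT.L1 P →ₗ[B] M, g ∘ₗ ψ = φ := fun φ =>
    Module.projective_lifting_property g φ hg
  have hp0 : ∀ φ : CotT.L0 P →ₗ[B] M'', ∃ ψ : CotT.L0 P →ₗ[B] M, g ∘ₗ ψ = φ := fun φ =>
    Module.projective_lifting_property g φ hg
  -- first connecting map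
  choose l0 hl0 using hp0
  choose l1 hl1 using hp1
  have hc0 : ∀ φ : CotT.T0 P M'', ∃ ψ : CotT.L1 P →ₗ[B] M',
      f ∘ₗ ψ = l0 φ.1 ∘ₗ CotT.d1 P := fun φ => hlift _ (by
    rw [← LinearMap.comp_assoc, hl0]; exact φ.2)
  choose c0 hc0 using hc0
  have hc1 : ∀ φ : CotT.cocycles1 P M'', ∃ ψ : CotT.L2 P →ₗ[B] M',
      f ∘ₗ ψ = l1 φ.1 ∘ₗ CotT.d2 P := fun φ => hlift _ (by
    rw [← LinearMap.comp_assoc, hl1]; exact φ.2)
  choose c1 hc1 using hc1
  have hcoc : ∀ φ, c0 φ ∈ CotT.cocycles1 P M' := fun φ => by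
    rw [LinearMap.mem_ker, CotT.d2Star_apply]
    refine hcan _ _ ?_
    rw [← LinearMap.comp_assoc, hc0, LinearMap.comp_assoc, CotT.d1_comp_d2, LinearMap.comp_zero,
      LinearMap.comp_zero]
  have hone0 : ∀ (φ : CotT.T0 P M'') (a : CotT.L0 P →ₗ[B] M) (b : CotT.L1 P →ₗ[B] M')
      (hb : b ∈ CotT.cocycles1 P M'),
      g ∘ₗ a = φ.1 → f ∘ₗ b = a ∘ₗ CotT.d1 P →
      (Submodule.Quotient.mk ⟨c0 φ, hcoc φ⟩ : CotT.T1 P M') = Submodule.Quotient.mk ⟨b, hb⟩ := by
    intro φ a b hb ha hab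
    rw [Submodule.Quotient.eq]
    obtain ⟨w, hw⟩ := hlift (l0 φ.1 - a) (by rw [LinearMap.comp_sub, hl0, ha, sub_self])
    refine ⟨w, hcan _ _ ?_⟩
    change f ∘ₗ (w ∘ₗ CotT.d1 P) = f ∘ₗ (c0 φ - b)
    rw [LinearMap.comp_sub, hc0, hab, ← LinearMap.comp_assoc, hw, LinearMap.sub_comp]
  let δ₀ : CotT.T0 P M'' →ₗ[B] CotT.T1 P M' :=
    { toFun := fun φ => Submodule.Quotient.mk ⟨c0 φ, hcoc φ⟩
      map_add' := fun x y => by
        rw [hone0 (x + y) (l0 x.1 + l0 y.1) (c0 x + c0 y) (Submodule.add_mem _ (hcoc x) (hcoc y))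
          (by rw [LinearMap.comp_add, hl0, hl0]; rfl)
          (by rw [LinearMap.comp_add, hc0, hc0, LinearMap.add_comp])]
        rfl
      map_smul' := fun b x => by
        rw [RingHom.id_apply, hone0 (b • x) (b • l0 x.1) (b • c0 x) (Submodule.smul_mem _ b (hcoc x))
          (by rw [LinearMap.comp_smul, hl0]; rfl)
          (by rw [LinearMap.comp_smul, hc0, LinearMap.smul_comp])]
        rfl }
  have hone1 : ∀ (φ : CotT.cocycles1 P M'') (a : CotT.L1 P →ₗ[B] M) (b : CotT.L2 P →ₗ[B] M'),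
      g ∘ₗ a = φ.1 → f ∘ₗ b = a ∘ₗ CotT.d2 P →
      (Submodule.Quotient.mk (c1 φ) : CotT.T2 P M') = Submodule.Quotient.mk b := by
    intro φ a b ha hab
    rw [Submodule.Quotient.eq]
    obtain ⟨w, hw⟩ := hlift (l1 φ.1 - a) (by rw [LinearMap.comp_sub, hl1, ha, sub_self])
    refine ⟨w, hcan _ _ ?_⟩
    change f ∘ₗ (w ∘ₗ CotT.d2 P) = f ∘ₗ (c1 φ - b)
    rw [LinearMap.comp_sub, hc1, hab, ← LinearMap.comp_assoc, hw, LinearMap.sub_comp]
  let pre : CotT.cocycles1 P M'' →ₗ[B] CotT.T2 P M' :=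
    { toFun := fun φ => Submodule.Quotient.mk (c1 φ)
      map_add' := fun x y => by
        rw [hone1 (x + y) (l1 x.1 + l1 y.1) (c1 x + c1 y)
          (by rw [LinearMap.comp_add, hl1, hl1]; rfl)
          (by rw [LinearMap.comp_add, hc1, hc1, LinearMap.add_comp])]
        rfl
      map_smul' := fun b x => by
        rw [RingHom.id_apply, hone1 (b • x) (b • l1 x.1) (b • c1 x)
          (by rw [LinearMap.comp_smul, hl1]; rfl)
          (by rw [LinearMap.comp_smul, hc1, LinearMap.smul_comp])]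
        rfl }
  have hpre : CotT.coboundaries1 P M'' ≤ LinearMap.ker pre := by
    rintro φ ⟨ψ, hψ⟩
    rw [LinearMap.mem_ker]
    change (Submodule.Quotient.mk (c1 φ) : CotT.T2 P M') = 0
    rw [hone1 φ (l0 ψ ∘ₗ CotT.d1 P) 0 (by rw [← LinearMap.comp_assoc, hl0]; exact hψ)
      (by rw [LinearMap.comp_zero, LinearMap.comp_assoc, CotT.d1_comp_d2, LinearMap.comp_zero])]
    rfl
  refine ⟨fun a b h => Subtype.ext (hcan _ _ (congrArg Subtype.val h)), ?_, ?_, ?_, δ₀,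
    Submodule.liftQ _ pre hpre, ?_, ?_, ?_, ?_⟩
  · intro φ
    constructor
    · intro h
      obtain ⟨ψ, hψ⟩ := hlift φ.1 (congrArg Subtype.val h)
      exact ⟨⟨ψ, hcan _ _ (by
        change f ∘ₗ (ψ ∘ₗ CotT.d1 P) = f ∘ₗ 0
        rw [← LinearMap.comp_assoc, hψ, LinearMap.comp_zero]; exact φ.2)⟩, Subtype.ext hψ⟩
    · rintro ⟨ψ, rfl⟩
      refine Subtype.ext ?_
      change g ∘ₗ f ∘ₗ ψ.1 = 0
      rw [← LinearMap.comp_assoc, hgf, LinearMap.zero_comp]
  · intro x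
    obtain ⟨φ, rfl⟩ := Submodule.Quotient.mk_surjective _ x
    constructor
    · intro h
      obtain ⟨w, hw⟩ := (Submodule.Quotient.mk_eq_zero _).1 h
      have hw' : w ∘ₗ CotT.d1 P = g ∘ₗ φ.1 := hw
      obtain ⟨b, hb⟩ := hlift (φ.1 - l0 w ∘ₗ CotT.d1 P) (by
        rw [LinearMap.comp_sub, ← LinearMap.comp_assoc, hl0, hw', sub_self])
      have hbc : b ∈ CotT.cocycles1 P M' := hcan _ _ (by
        change f ∘ₗ (b ∘ₗ CotT.d2 P) = f ∘ₗ 0
        rw [← LinearMap.comp_assoc, hb, LinearMap.sub_comp, LinearMap.comp_assoc, CotT.d1_comp_d2,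
          LinearMap.comp_zero, LinearMap.comp_zero, sub_zero]
        exact φ.2)
      refine ⟨Submodule.Quotient.mk ⟨b, hbc⟩, (Submodule.Quotient.eq _).2 ⟨-l0 w, ?_⟩⟩
      change (-l0 w) ∘ₗ CotT.d1 P = f ∘ₗ b - φ.1
      rw [hb, LinearMap.neg_comp, sub_sub_cancel_left]
    · rintro ⟨y, hy⟩
      obtain ⟨ψ, rfl⟩ := Submodule.Quotient.mk_surjective _ y
      rw [← hy]
      refine (Submodule.Quotient.mk_eq_zero _).2 ⟨0, ?_⟩
      change 0 ∘ₗ CotT.d1 P = g ∘ₗ f ∘ₗ ψ.1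
      rw [LinearMap.zero_comp, ← LinearMap.comp_assoc, hgf, LinearMap.zero_comp]
  · intro x
    obtain ⟨φ, rfl⟩ := Submodule.Quotient.mk_surjective _ x
    constructor
    · intro h
      obtain ⟨w, hw⟩ := (Submodule.Quotient.mk_eq_zero _).1 h
      have hw' : w ∘ₗ CotT.d2 P = g ∘ₗ φ := hw
      obtain ⟨b, hb⟩ := hlift (φ - l1 w ∘ₗ CotT.d2 P) (by
        rw [LinearMap.comp_sub, ← LinearMap.comp_assoc, hl1, hw', sub_self])
      refine ⟨Submodule.Quotient.mk b, (Submodule.Quotient.eq _).2 ⟨-l1 w, ?_⟩⟩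
      change (-l1 w) ∘ₗ CotT.d2 P = f ∘ₗ b - φ
      rw [hb, LinearMap.neg_comp, sub_sub_cancel_left]
    · rintro ⟨y, hy⟩
      obtain ⟨ψ, rfl⟩ := Submodule.Quotient.mk_surjective _ y
      rw [← hy]
      refine (Submodule.Quotient.mk_eq_zero _).2 ⟨0, ?_⟩
      change 0 ∘ₗ CotT.d2 P = g ∘ₗ f ∘ₗ ψ
      rw [LinearMap.zero_comp, ← LinearMap.comp_assoc, hgf, LinearMap.zero_comp]
  · intro φ
    constructor
    · intro h
      obtain ⟨w, hw⟩ := (Submodule.Quotient.mk_eq_zero _).1 (show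
        (Submodule.Quotient.mk ⟨c0 φ, hcoc φ⟩ : CotT.T1 P M') = 0 from h)
      have hw' : w ∘ₗ CotT.d1 P = c0 φ := hw
      refine ⟨⟨l0 φ.1 - f ∘ₗ w, ?_⟩, Subtype.ext ?_⟩
      · rw [LinearMap.mem_ker, CotT.d1Star_apply, LinearMap.sub_comp, LinearMap.comp_assoc, hw', hc0,
          sub_self]
      · change g ∘ₗ (l0 φ.1 - f ∘ₗ w) = φ.1
        rw [LinearMap.comp_sub, hl0, ← LinearMap.comp_assoc, hgf, LinearMap.zero_comp, sub_zero]
    · rintro ⟨ψ, rfl⟩
      change (Submodule.Quotient.mk ⟨c0 _, hcoc _⟩ : CotT.T1 P M') = 0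
      rw [hone0 _ ψ.1 0 (Submodule.zero_mem _) rfl (by rw [LinearMap.comp_zero]; exact ψ.2.symm)]
      rfl
  · intro x
    obtain ⟨φ, rfl⟩ := Submodule.Quotient.mk_surjective _ x
    constructor
    · intro h
      obtain ⟨w, hw⟩ := (Submodule.Quotient.mk_eq_zero _).1 h
      have hw' : w ∘ₗ CotT.d1 P = f ∘ₗ φ.1 := hw
      refine ⟨⟨g ∘ₗ w, ?_⟩, hone0 _ w φ.1 φ.2 rfl hw'.symm⟩
      rw [LinearMap.mem_ker, CotT.d1Star_apply, LinearMap.comp_assoc, hw', ← LinearMap.comp_assoc, hgf,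
        LinearMap.zero_comp]
    · rintro ⟨ψ, hψ⟩
      rw [← hψ]
      refine (Submodule.Quotient.mk_eq_zero _).2 ⟨l0 ψ.1, ?_⟩
      exact (hc0 ψ).symm
  · intro x
    obtain ⟨φ, rfl⟩ := Submodule.Quotient.mk_surjective _ x
    constructor
    · intro h
      obtain ⟨w, hw⟩ := (Submodule.Quotient.mk_eq_zero _).1 (show
        (Submodule.Quotient.mk (c1 φ) : CotT.T2 P M') = 0 from h)
      have hw' : w ∘ₗ CotT.d2 P = c1 φ := hw
      refine ⟨Submodule.Quotient.mk ⟨l1 φ.1 - f ∘ₗ w, ?_⟩, congrArg Submodule.Quotient.mk (Subtype.ext ?_)⟩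
      · rw [LinearMap.mem_ker, CotT.d2Star_apply, LinearMap.sub_comp, LinearMap.comp_assoc, hw', hc1,
          sub_self]
      · change g ∘ₗ (l1 φ.1 - f ∘ₗ w) = φ.1
        rw [LinearMap.comp_sub, hl1, ← LinearMap.comp_assoc, hgf, LinearMap.zero_comp, sub_zero]
    · rintro ⟨y, hy⟩
      obtain ⟨ψ, rfl⟩ := Submodule.Quotient.mk_surjective _ y
      rw [← hy]
      change (Submodule.Quotient.mk (c1 _) : CotT.T2 P M') = 0
      rw [hone1 _ ψ.1 0 rfl (by rw [LinearMap.comp_zero]; exact ψ.2.symm)]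
      rfl
  · intro x
    obtain ⟨φ, rfl⟩ := Submodule.Quotient.mk_surjective _ x
    constructor
    · intro h
      obtain ⟨w, hw⟩ := (Submodule.Quotient.mk_eq_zero _).1 h
      have hw' : w ∘ₗ CotT.d2 P = f ∘ₗ φ := hw
      refine ⟨Submodule.Quotient.mk ⟨g ∘ₗ w, ?_⟩, hone1 _ w φ rfl hw'.symm⟩
      rw [LinearMap.mem_ker, CotT.d2Star_apply, LinearMap.comp_assoc, hw', ← LinearMap.comp_assoc, hgf,
        LinearMap.zero_comp]
    · rintro ⟨y, hy⟩
      obtain ⟨ψ, rfl⟩ := Submodule.Quotient.mk_surjective _ y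
      rw [← hy]
      refine (Submodule.Quotient.mk_eq_zero _).2 ⟨l1 ψ.1, ?_⟩
      exact (hc1 ψ).symm

end Groth.Agent.S12284
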