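import Groth.Statements.S12285
import Groth.Agent.CotTLib.NineTerm

set_option autoImplicit false
set_option maxHeartbeats 3200000
universe u w m
open scoped TensorProduct
open DefT

namespace Groth.Agent.S12285

/-- Let A → B → C be ring homomorphisms and M a C-module. Compute T^i(C/B, M), T^i(C/A, M) and T^i(B/A,
M) from the choice-free presentations (every element a variable, every kernel element a relation),
and let T^i(C/B, M) → T^i(C/A, M) and T^i(C/A, M) → T^i(B/A, M) be the maps induced by the morphisms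
of presentations given by A → B over the identity of C and by B → C over the identity of A. Then
T^0(C/B, M) → T^0(C/A, M) is injective, the sequences T^i(C/B, M) → T^i(C/A, M) → T^i(B/A, M) are
exact for i = 0, 1, 2, and there are additive connecting maps δ₀ : T^0(B/A, M) → T^1(C/B, M) and δ₁
: T^1(B/A, M) → T^2(C/B, M) making the nine-term sequence 0 → T^0(C/B) → T^0(C/A) → T^0(B/A) →
T^1(C/B) → T^1(C/A) → T^1(B/A) → T^2(C/B) → T^2(C/A) → T^2(B/A) exact. (The connecting maps are
asserted to exist with this exactness only, and only as additive maps; the published statement is an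
exact sequence of C-modules, with C-linear connecting maps.) -/
theorem result
    (A B C : Type u) [CommRing A] [CommRing B] [CommRing C] [Algebra A B] [Algebra B C] [Algebra A C]
    [IsScalarTower A B C] (M : Type u) [AddCommGroup M] [Module C M] [Module B M] [IsScalarTower B C M] :
    Function.Injective ((CotT.canonHom A C B C).T0pull M) ∧
    Function.Exact ((CotT.canonHom A C B C).T0pull M) ((CotT.canonHom A B A C).T0pull M) ∧
    Function.Exact ((CotT.canonHom A C B C).T1pull M) ((CotT.canonHom A B A C).T1pull M) ∧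
    Function.Exact ((CotT.canonHom A C B C).T2pull M) ((CotT.canonHom A B A C).T2pull M) ∧
    ∃ (δ₀ : CotT.T0 (CotT.canon A B) M →+ CotT.T1 (CotT.canon B C) M)
      (δ₁ : CotT.T1 (CotT.canon A B) M →+ CotT.T2 (CotT.canon B C) M),
      Function.Exact ((CotT.canonHom A B A C).T0pull M) δ₀ ∧ Function.Exact δ₀ ((CotT.canonHom A C B C).T1pull M) ∧
      Function.Exact ((CotT.canonHom A B A C).T1pull M) δ₁ ∧ Function.Exact δ₁ ((CotT.canonHom A C B C).T2pull M) := by
  let X := (CotT.canon B C).comp (CotT.canon A B)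
  let E : CotT.PresHom (CotT.canon A C) X := CotTLib.someHom _ _
  let E' : CotT.PresHom X (CotT.canon A C) := CotTLib.someHom _ _
  let o := CotTLib.outHom (CotT.canon B C) (CotT.canon A B)
  let i := CotTLib.inHom (CotT.canon B C) (CotT.canon A B)
  have q0 : ∀ x, (CotT.canonHom A C B C).T0pull M x = E.T0pull M (o.T0pull M x) := fun x => by
    rw [CotTLib.T0pull_eq (CotT.canonHom A C B C) (CotTLib.comp o E)]
    exact Subtype.ext (CotTLib.comp_T0pull M o E x)
  have q1 : ∀ x, (CotT.canonHom A C B C).T1pull M x = E.T1pull M (o.T1pull M x) := fun x => by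
    rw [CotTLib.T1pull_eq (CotT.canonHom A C B C) (CotTLib.comp o E)]
    exact CotTLib.comp_T1pull M o E x
  have q2 : ∀ x, (CotT.canonHom A C B C).T2pull M x = E.T2pull M (o.T2pull M x) := fun x => by
    rw [CotTLib.T2pull_eq (CotT.canonHom A C B C) (CotTLib.comp o E)]
    exact CotTLib.comp_T2pull M o E x
  have i0 : ∀ x, i.T0pull M x = (CotT.canonHom A B A C).T0pull M (E.T0pull M x) := fun x => by
    rw [CotTLib.T0pull_eq i (CotTLib.comp E (CotT.canonHom A B A C))]
    exact Subtype.ext (CotTLib.comp_T0pull M E (CotT.canonHom A B A C) x)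
  have i1 : ∀ x, i.T1pull M x = (CotT.canonHom A B A C).T1pull M (E.T1pull M x) := fun x => by
    rw [CotTLib.T1pull_eq i (CotTLib.comp E (CotT.canonHom A B A C))]
    exact CotTLib.comp_T1pull M E (CotT.canonHom A B A C) x
  have i2 : ∀ x, i.T2pull M x = (CotT.canonHom A B A C).T2pull M (E.T2pull M x) := fun x => by
    rw [CotTLib.T2pull_eq i (CotTLib.comp E (CotT.canonHom A B A C))]
    exact CotTLib.comp_T2pull M E (CotT.canonHom A B A C) x
  obtain ⟨inj0, surj0⟩ := CotTLib.T0pull_bijective _ _ M E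
  obtain ⟨inj1, surj1⟩ := CotTLib.T1pull_bijective _ _ M E
  obtain ⟨inj2, surj2⟩ := CotTLib.T2pull_bijective _ _ M E
  refine ⟨fun x y h => CotTLib.T0pull_out_injective (CotT.canon B C) (CotT.canon A B) M (inj0 (by rw [← q0, ← q0]; exact h)),
    ?_, ?_, ?_, CotTLib.delta0 (CotT.canon B C) (CotT.canon A B) M, CotTLib.delta1 (CotT.canon B C) (CotT.canon A B) M, ?_, ?_, ?_, ?_⟩
  · intro y
    obtain ⟨x, rfl⟩ := surj0 y
    rw [← i0, CotTLib.T0pull_exact (CotT.canon B C) (CotT.canon A B) M x]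
    exact ⟨fun ⟨z, hz⟩ => ⟨z, (q0 z).trans (congrArg (fun t => E.T0pull M t) hz)⟩,
      fun ⟨z, hz⟩ => ⟨z, inj0 ((q0 z).symm.trans hz)⟩⟩
  · intro y
    obtain ⟨x, rfl⟩ := surj1 y
    rw [← i1, CotTLib.T1pull_exact (CotT.canon B C) (CotT.canon A B) M x]
    exact ⟨fun ⟨z, hz⟩ => ⟨z, (q1 z).trans (congrArg (fun t => E.T1pull M t) hz)⟩,
      fun ⟨z, hz⟩ => ⟨z, inj1 ((q1 z).symm.trans hz)⟩⟩
  · intro y
    obtain ⟨x, rfl⟩ := surj2 y
    rw [← i2, CotTLib.T2pull_exact (CotT.canon B C) (CotT.canon A B) M x]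
    exact ⟨fun ⟨z, hz⟩ => ⟨z, (q2 z).trans (congrArg (fun t => E.T2pull M t) hz)⟩,
      fun ⟨z, hz⟩ => ⟨z, inj2 ((q2 z).symm.trans hz)⟩⟩
  · intro y
    rw [CotTLib.T0pull_delta0_exact (CotT.canon B C) (CotT.canon A B) M y]
    refine ⟨fun ⟨x, hx⟩ => ⟨E.T0pull M x, by rw [← i0]; exact hx⟩, fun ⟨z, hz⟩ => ?_⟩
    obtain ⟨x, rfl⟩ := surj0 z
    exact ⟨x, by rw [← hz, ← i0]⟩
  · intro y
    rw [q1, map_eq_zero_iff _ inj1]
    exact CotTLib.delta0_T1pull_exact (CotT.canon B C) (CotT.canon A B) M y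
  · intro y
    rw [CotTLib.T1pull_delta1_exact (CotT.canon B C) (CotT.canon A B) M y]
    refine ⟨fun ⟨x, hx⟩ => ⟨E.T1pull M x, by rw [← i1]; exact hx⟩, fun ⟨z, hz⟩ => ?_⟩
    obtain ⟨x, rfl⟩ := surj1 z
    exact ⟨x, by rw [← hz, ← i1]⟩
  · intro y
    rw [q2, map_eq_zero_iff _ inj2]
    exact CotTLib.delta1_T2pull_exact (CotT.canon B C) (CotT.canon A B) M y

end Groth.Agent.S12285
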