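import Groth.Statements.S12286


set_option autoImplicit false
universe u w m
open scoped TensorProduct
open DefT

namespace Groth.Agent.S12286

/-- Let A → B be a ring homomorphism, P a presentation of B over A and M a B-module. The canonical
B-linear map from the A-derivations Der_A(B, M) = Hom_B(Ω_{B/A}, M) to T^0(B/A, M) (the kernel of
Hom_B(L₀, M) → Hom_B(L₁, M), L₀ = B ⊗_R Ω_{R/A}), sending a derivation D to b ⊗ dr ↦ b·D(r̄), is
bijective. -/
theorem result
    (A B : Type u) [CommRing A] [CommRing B] [Algebra A B] (ι σ : Type w) (P : Algebra.Presentation A B ι σ)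
    (M : Type m) [AddCommGroup M] [Module B M] [Module A M] [IsScalarTower A B M] :
    Function.Bijective (CotT.derToT0 P M) := by
  classical
  have hsurj : Function.Surjective (algebraMap P.toExtension.Ring B) := P.toExtension.algebraMap_surjective
  refine ⟨(injective_iff_map_eq_zero _).mpr fun D hD => ?_, fun φ => ?_⟩
  · ext b
    obtain ⟨r, rfl⟩ := hsurj b
    have h := LinearMap.congr_fun (congrArg Subtype.val hD)
      ((1 : B) ⊗ₜ KaehlerDifferential.D A P.toExtension.Ring r)
    rw [CotT.derToT0_apply, CotT.derLift_tmul_D, one_smul] at h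
    simpa using h
  · let Φ : P.toExtension.Ring → M := fun r =>
      (φ.1 : CotT.L0 P →ₗ[B] M) ((1 : B) ⊗ₜ KaehlerDifferential.D A P.toExtension.Ring r)
    have hΦadd : ∀ r s, Φ (r + s) = Φ r + Φ s := fun r s => by
      simp only [Φ, map_add, TensorProduct.tmul_add]
    have hΦmul : ∀ r s, Φ (r * s) = algebraMap _ B r • Φ s + algebraMap _ B s • Φ r := fun r s => by
      simp only [Φ, Derivation.leibniz, TensorProduct.tmul_add, map_add]
      rw [← map_smul φ.1, ← map_smul φ.1]
      congr 2 <;> rw [TensorProduct.smul_tmul', smul_eq_mul, mul_one, ← TensorProduct.smul_tmul,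
        Algebra.algebraMap_eq_smul_one]
    have hker : ∀ r, algebraMap P.toExtension.Ring B r = 0 → Φ r = 0 := fun r hr => by
      obtain ⟨f, rfl⟩ : r ∈ LinearMap.range (CotT.jmap P) := by rw [CotT.range_jmap]; exact hr
      have h := LinearMap.congr_fun (LinearMap.mem_ker.mp φ.2) ((1 : B) ⊗ₜ f)
      change (φ.1 : CotT.L0 P →ₗ[B] M) (CotT.d1 P ((1 : B) ⊗ₜ f)) = 0 at h
      rwa [CotT.d1_tmul, one_smul] at h
    have hwd : ∀ r s, algebraMap P.toExtension.Ring B r = algebraMap _ B s → Φ r = Φ s := fun r s h => by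
      have h2 := hker (r - s) (by rw [map_sub, h, sub_self])
      calc Φ r = Φ (r - s + s) := by rw [sub_add_cancel]
        _ = Φ s := by rw [hΦadd, h2, zero_add]
    choose σ' hσ' using hsurj
    have hΦA : ∀ a, Φ (algebraMap A P.toExtension.Ring a) = 0 := fun a => by
      simp [Φ]
    have hsmul : ∀ (a : A) (b : B), Φ (σ' (a • b)) = a • Φ (σ' b) := fun a b => by
      rw [hwd (σ' (a • b)) (algebraMap A P.toExtension.Ring a * σ' b) (by
        rw [hσ', map_mul, hσ', ← IsScalarTower.algebraMap_apply, Algebra.smul_def]),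
        hΦmul, hΦA, smul_zero, add_zero, ← IsScalarTower.algebraMap_apply, algebraMap_smul]
    let D : Derivation A B M := Derivation.mk'
      { toFun := fun b => Φ (σ' b)
        map_add' := fun b c => by
          rw [hwd (σ' (b + c)) (σ' b + σ' c) (by rw [hσ', map_add, hσ', hσ']), hΦadd]
        map_smul' := hsmul }
      fun b c => by
        show Φ (σ' (b * c)) = b • Φ (σ' c) + c • Φ (σ' b)
        rw [hwd (σ' (b * c)) (σ' b * σ' c) (by rw [hσ', map_mul, hσ', hσ']), hΦmul, hσ', hσ']
    refine ⟨D, Subtype.ext ?_⟩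
    refine (P.cotangentSpaceBasis).ext fun i => ?_
    rw [CotT.derToT0_apply, CotT.derLift_basis, Algebra.Generators.cotangentSpaceBasis_apply]
    exact hwd _ _ (by
      rw [hσ']
      exact ((CotT.algebraMap_toExtension P (MvPolynomial.X i)).trans (MvPolynomial.aeval_X _ _)).symm)

end Groth.Agent.S12286
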