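import Groth.Statements.S12289
import Groth.Prelude.Def_CotT

set_option autoImplicit false
universe u w m
open scoped TensorProduct
open DefT

namespace Groth.Agent.S12289

/-- Let k be a commutative ring and B a k-algebra presented as R/I with R = k[x_i] a polynomial ring
(any set of variables) and chosen generators of I, and let M be a B-module; T^0(B/k, M) and T^1(B/k,
M) are computed from this presentation. Then the sequence 0 → T^0(B/k, M) → Hom_B(Ω_{R/k} ⊗_R B, M)
→ Hom_B(I/I², M) → T^1(B/k, M) → 0 is exact, where the middle map is composition with the conormal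
map d : I/I² → Ω_{R/k} ⊗_R B and the last map sends φ to the class of φ ∘ (F/IF → I/I²): the
submodule T^0(B/k, M) of Hom_B(Ω_{R/k} ⊗ B, M) is the kernel of composition with d, the kernel of
Hom_B(I/I², M) → T^1(B/k, M) is the image of composition with d, and Hom_B(I/I², M) → T^1(B/k, M) is
surjective. (The published statement takes finitely many variables over a field and adds that the
same holds over any base ring; this row allows any base ring and any set of variables.) -/
theorem result
    (k B : Type u) [CommRing k] [CommRing B] [Algebra k B] (ι σ : Type w) (P : Algebra.Presentation k B ι σ)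
    (M : Type m) [AddCommGroup M] [Module B M] :
    LinearMap.ker (CotT.d1Star P M) = LinearMap.ker (LinearMap.lcomp B M P.toExtension.cotangentComplex) ∧
    LinearMap.ker (CotT.homToT1 P M) = LinearMap.range (LinearMap.lcomp B M P.toExtension.cotangentComplex) ∧
    Function.Surjective (CotT.homToT1 P M) := by
  have hsurjR : Function.Surjective (algebraMap P.toExtension.Ring B) := P.toExtension.algebraMap_surjective
  have hone : ∀ z : CotT.L1 P, ∃ f : CotT.relMod P, z = (1 : B) ⊗ₜ f := fun z => by
    obtain ⟨f, hf⟩ := TensorProduct.mk_surjective P.toExtension.Ring (CotT.relMod P) B hsurjR z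
    exact ⟨f, hf.symm⟩
  have hj : ∀ b : P.toExtension.ker, ∃ f : CotT.relMod P, CotT.jker P f = b := fun b => by
    obtain ⟨f, hf⟩ := (CotT.range_jmap P).ge b.2
    exact ⟨f, Subtype.ext hf⟩
  have hsurj : Function.Surjective (CotT.toCot P) := fun z => by
    obtain ⟨b, rfl⟩ := Algebra.Extension.Cotangent.mk_surjective z
    obtain ⟨f, rfl⟩ := hj b
    exact ⟨(1 : B) ⊗ₜ f, by rw [CotT.toCot_tmul, one_smul]⟩
  have hker : LinearMap.ker (CotT.toCot P) ≤ LinearMap.range (CotT.d2 P) := by
    intro z hz
    obtain ⟨f, rfl⟩ := hone z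
    rw [LinearMap.mem_ker, CotT.toCot_tmul, one_smul, Algebra.Extension.Cotangent.mk_eq_zero_iff, pow_two] at hz
    have key : ∀ r ∈ P.toExtension.ker * P.toExtension.ker, ∃ g : CotT.relMod P,
        CotT.jmap P g = r ∧ (1 : B) ⊗ₜ[P.toExtension.Ring] g = (0 : CotT.L1 P) := by
      intro r hr
      refine Submodule.mul_induction_on hr (fun a ha b hb => ?_) ?_
      · obtain ⟨g, hg⟩ := hj ⟨b, hb⟩
        refine ⟨a • g, by rw [map_smul, smul_eq_mul]; exact congrArg (a * ·) (congrArg Subtype.val hg), ?_⟩
        rw [← TensorProduct.smul_tmul, Algebra.smul_def, show algebraMap P.toExtension.Ring B a = 0 from ha, zero_mul,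
          TensorProduct.zero_tmul]
      · rintro x y ⟨g, hg, hg'⟩ ⟨g', h1, h2⟩
        exact ⟨g + g', by rw [map_add, hg, h1], by rw [TensorProduct.tmul_add, hg', h2, add_zero]⟩
    obtain ⟨g, hg, hg0⟩ := key _ hz
    let q : CotT.relKer P := ⟨f - g, by
      show CotT.jmap P (f - g) = 0
      rw [map_sub, hg]; exact sub_eq_zero.2 rfl⟩
    refine ⟨Submodule.Quotient.mk ((1 : B) ⊗ₜ q), ?_⟩
    rw [CotT.d2_mk_tmul, TensorProduct.tmul_sub, hg0, sub_zero]
  have hd : ∀ ψ : CotT.L0 P →ₗ[B] M, CotT.d1Star P M ψ = 0 ↔ ψ ∘ₗ P.toExtension.cotangentComplex = 0 := fun ψ => by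
    rw [CotT.d1Star_apply, CotT.d1, ← LinearMap.comp_assoc]
    exact ⟨fun h => LinearMap.ext fun z => by
      obtain ⟨y, rfl⟩ := hsurj z
      exact LinearMap.congr_fun h y, fun h => by rw [h, LinearMap.zero_comp]⟩
  refine ⟨?_, ?_, ?_⟩
  · ext ψ
    rw [LinearMap.mem_ker, LinearMap.mem_ker, LinearMap.lcomp_apply']
    exact hd ψ
  · ext φ
    rw [LinearMap.mem_ker, CotT.homToT1, LinearMap.comp_apply, Submodule.mkQ_apply, Submodule.Quotient.mk_eq_zero]
    constructor
    · rintro ⟨ψ, hψ⟩
      refine ⟨ψ, LinearMap.ext fun z => ?_⟩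
      obtain ⟨y, rfl⟩ := hsurj z
      exact LinearMap.congr_fun hψ y
    · rintro ⟨ψ, rfl⟩
      exact ⟨ψ, rfl⟩
  · intro c
    obtain ⟨⟨c, hc⟩, rfl⟩ := Submodule.mkQ_surjective _ c
    have h0 : LinearMap.ker (CotT.toCot P) ≤ LinearMap.ker c := fun z hz => by
      obtain ⟨w, rfl⟩ := hker hz
      exact LinearMap.congr_fun hc w
    refine ⟨(Submodule.liftQ _ c h0) ∘ₗ (LinearMap.quotKerEquivOfSurjective _ hsurj).symm.toLinearMap,
      congrArg (Submodule.Quotient.mk) (Subtype.ext (LinearMap.ext fun z => ?_))⟩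
    show Submodule.liftQ _ c h0 ((LinearMap.quotKerEquivOfSurjective _ hsurj).symm (CotT.toCot P z)) = c z
    rw [← LinearMap.quotKerEquivOfSurjective_apply_mk (CotT.toCot P) hsurj, LinearEquiv.symm_apply_apply,
      Submodule.liftQ_apply]

end Groth.Agent.S12289
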