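import Groth.Statements.S1229
import Groth.Agent.AInjLib.HenselFlat

set_option autoImplicit false
universe u
open FlatMor

open scoped TensorProduct

namespace Groth.Agent.S1229

/-- Base change of a module along a surjection of the algebras. -/
theorem exists_model_equiv {A A' B B0 B' M M' : Type u} [CommRing A] [CommRing A'] [CommRing B] [CommRing B0]
    [CommRing B'] [Algebra A A'] [Algebra A B] [Algebra A B0] [Algebra B0 B] [IsScalarTower A B0 B]
    [Algebra B B'] [Algebra A' B'] [Algebra A B'] [IsScalarTower A B B'] [IsScalarTower A A' B']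
    [Algebra.IsPushout A B A' B']
    [AddCommGroup M] [Module B M] [Module B0 M] [Module A M] [IsScalarTower B0 B M] [IsScalarTower A B M] [IsScalarTower A B0 M]
    [AddCommGroup M'] [Module B' M'] [Module B M'] [IsScalarTower B B' M'] [Module A' M'] [IsScalarTower A' B' M']
    {f : M →ₗ[B] M'} (hf : IsBaseChange B' f) (φ : A' ⊗[A] B0 →ₐ[A'] B')
    (hφ : ∀ b, φ ((1 : A') ⊗ₜ b) = algebraMap B B' (algebraMap B0 B b)) :
    letI := (Algebra.TensorProduct.rightAlgebra : Algebra B0 (A' ⊗[A] B0))
    ∃ e : (A' ⊗[A] B0) ⊗[B0] M ≃ₗ[A'] M', ∀ p x, e (p • x) = φ p • e x := by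
  letI := (Algebra.TensorProduct.rightAlgebra : Algebra B0 (A' ⊗[A] B0))
  haveI : Algebra.IsPushout A A' B B' := Algebra.IsPushout.symm inferInstance
  let eD := Algebra.IsPushout.cancelBaseChange A A' B0 (A' ⊗[A] B0) M
  let eC := Algebra.IsPushout.cancelBaseChange A A' B B' M
  let e := eD ≪≫ₗ eC.symm ≪≫ₗ hf.equiv.restrictScalars A'
  have h1 : ∀ g : M, e ((1 : A' ⊗[A] B0) ⊗ₜ[B0] g) = f g := fun g => by
    show hf.equiv (eC.symm (eD _)) = _
    rw [show eC.symm (eD ((1 : A' ⊗[A] B0) ⊗ₜ[B0] g)) = (1 : B') ⊗ₜ[B] g by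
      rw [LinearEquiv.symm_apply_eq, Algebra.IsPushout.cancelBaseChange_tmul, Algebra.IsPushout.cancelBaseChange_tmul],
      IsBaseChange.equiv_tmul, one_smul]
  have hgen : ∀ (p : A' ⊗[A] B0) (g : M), e (p ⊗ₜ[B0] g) = φ p • f g := fun p g => by
    induction p using TensorProduct.induction_on with
    | zero => simp
    | add p p' hp hp' => rw [TensorProduct.add_tmul, map_add, hp, hp', map_add, add_smul]
    | tmul a b =>
      have h2 : (a ⊗ₜ[A] b) ⊗ₜ[B0] g = a • ((1 : A' ⊗[A] B0) ⊗ₜ[B0] (b • g)) := by
        rw [← TensorProduct.smul_tmul, TensorProduct.smul_tmul', Algebra.smul_def b (1 : A' ⊗[A] B0), mul_one]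
        congr 1
        show _ = a • ((1 : A') ⊗ₜ[A] b)
        rw [TensorProduct.smul_tmul', smul_eq_mul, mul_one]
      rw [h2, map_smul, h1, ← algebraMap_smul B b g, map_smul, ← algebraMap_smul B' (algebraMap B0 B b) (f g),
        ← algebraMap_smul B' a (algebraMap B B' (algebraMap B0 B b) • f g), smul_smul]
      congr 1
      rw [← hφ, ← φ.commutes, ← map_mul]
      simp
  refine ⟨e, fun p x => ?_⟩
  induction x using TensorProduct.induction_on with
  | zero => simp
  | add x y hx hy => rw [smul_add, map_add, hx, hy, map_add, smul_add]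
  | tmul p' g => rw [TensorProduct.smul_tmul', smul_eq_mul, hgen, hgen, map_mul, mul_smul]

open IsLocalRing in
/-- The closed-point test passes to an algebra surjecting onto the given one. -/
theorem test_of_surjective {A A' B B0 B' M M' : Type u} [CommRing A] [CommRing A'] [IsLocalRing A'] [CommRing B]
    [IsLocalRing B] [CommRing B0] [IsLocalRing B0]
    [CommRing B'] [Algebra A A'] [Algebra A B] [Algebra A B0] [Algebra B0 B] [IsScalarTower A B0 B]
    [Algebra B B'] [Algebra A' B'] [Algebra A B'] [IsScalarTower A B B'] [IsScalarTower A A' B']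
    [Algebra.IsPushout A B A' B']
    [AddCommGroup M] [Module B M] [Module B0 M] [Module A M] [IsScalarTower B0 B M] [IsScalarTower A B M] [IsScalarTower A B0 M]
    [AddCommGroup M'] [Module B' M'] [Module B M'] [IsScalarTower B B' M'] [Module A' M'] [IsScalarTower A' B' M']
    {f : M →ₗ[B] M'} (hf : IsBaseChange B' f) (hsurj : Function.Surjective (algebraMap B0 B))
    (hflat : ∀ (q' : Ideal B') [q'.IsPrime], (maximalIdeal A').map (algebraMap A' B') ⊔ (maximalIdeal B).map (algebraMap B B') ≤ q' →
      FlatCA.FlatAt A' q' M') :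
    letI := (Algebra.TensorProduct.rightAlgebra : Algebra B0 (A' ⊗[A] B0))
    ∀ (t : Ideal (A' ⊗[A] B0)) [t.IsPrime],
      (maximalIdeal A').map (algebraMap A' (A' ⊗[A] B0)) ⊔ (maximalIdeal B0).map (algebraMap B0 (A' ⊗[A] B0)) ≤ t →
        FlatCA.FlatAt A' t ((A' ⊗[A] B0) ⊗[B0] M) := by
  let B0' := A' ⊗[A] B0
  letI := (Algebra.TensorProduct.rightAlgebra : Algebra B0 B0')
  obtain ⟨φ, hφs, hφc⟩ : ∃ φ : B0' →ₐ[A'] B', Function.Surjective φ ∧
      ∀ b, φ ((1 : A') ⊗ₜ b) = algebraMap B B' (algebraMap B0 B b) := by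
    let Φ := Algebra.TensorProduct.map (AlgHom.id A' A') (IsScalarTower.toAlgHom A B0 B)
    let ε : A' ⊗[A] B →ₐ[A'] B' :=
      Algebra.TensorProduct.lift (Algebra.ofId A' B') (IsScalarTower.toAlgHom A B B') fun _ _ => Commute.all _ _
    have hε : Function.Surjective ε := by
      haveI : Algebra.IsPushout A A' B B' := Algebra.IsPushout.symm inferInstance
      intro z
      obtain ⟨w, rfl⟩ := (Algebra.IsPushout.equiv A A' B B').surjective z
      refine ⟨w, ?_⟩
      induction w using TensorProduct.induction_on with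
      | zero => rw [map_zero, map_zero]
      | add p p' hp hp' => rw [map_add, map_add, hp, hp']
      | tmul a b => rw [Algebra.TensorProduct.lift_tmul, Algebra.IsPushout.equiv_tmul]; rfl
    exact ⟨ε.comp Φ, hε.comp (Algebra.TensorProduct.map_surjective (AlgHom.id A' A')
      (IsScalarTower.toAlgHom A B0 B) Function.surjective_id hsurj), fun b => by
        refine (congrArg ε (Algebra.TensorProduct.map_tmul ..)).trans ((Algebra.TensorProduct.lift_tmul ..).trans ?_)
        rw [AlgHom.id_apply, map_one, one_mul]; rfl⟩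
  obtain ⟨e, he⟩ := exists_model_equiv (f := f) hf φ hφc
  intro t ht hle
  refine AInjLib.flatAt_of_semilinear_integral φ (RingHom.isIntegral_of_surjective _ hφs) e he t fun Q _ hQ => ?_
  refine hflat Q (sup_le ?_ ?_)
  · rw [Ideal.map_le_iff_le_comap, ← φ.comp_algebraMap, ← Ideal.comap_comap]
    exact Ideal.map_le_iff_le_comap.1 (((le_sup_left).trans hle).trans_eq hQ.symm)
  · rw [Ideal.map_le_iff_le_comap]
    intro b hb
    obtain ⟨b₀, rfl⟩ := hsurj b
    have h1 : b₀ ∈ maximalIdeal B0 := (mem_maximalIdeal _).2 fun h => (mem_maximalIdeal _).1 hb (h.map _)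
    have h2 : (1 : A') ⊗ₜ[A] b₀ ∈ t := le_sup_right.trans hle (Ideal.mem_map_of_mem _ h1)
    rw [← hQ, Ideal.mem_comap] at h2
    rw [Ideal.mem_comap, ← hφc]
    exact h2

open IsLocalRing in
/-- The ideal dies when the closed-point test holds. -/
theorem map_eq_bot_of_test {A A' B B0 B' M M' : Type u} [CommRing A] [CommRing A'] [IsLocalRing A'] [CommRing B]
    [IsLocalRing B] [CommRing B0] [IsLocalRing B0]
    [CommRing B'] [Algebra A A'] [Algebra A B] [Algebra A B0] [Algebra B0 B] [IsScalarTower A B0 B]
    [Algebra B B'] [Algebra A' B'] [Algebra A B'] [IsScalarTower A B B'] [IsScalarTower A A' B']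
    [Algebra.IsPushout A B A' B']
    [AddCommGroup M] [Module B M] [Module B0 M] [Module A M] [IsScalarTower B0 B M] [IsScalarTower A B M] [IsScalarTower A B0 M]
    [AddCommGroup M'] [Module B' M'] [Module B M'] [IsScalarTower B B' M'] [Module A' M'] [IsScalarTower A' B' M']
    {f : M →ₗ[B] M'} (hf : IsBaseChange B' f) (hsurj : Function.Surjective (algebraMap B0 B))
    (hflat : ∀ (q' : Ideal B') [q'.IsPrime], (maximalIdeal A').map (algebraMap A' B') ⊔ (maximalIdeal B).map (algebraMap B B') ≤ q' →
      FlatCA.FlatAt A' q' M')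
    [IsLocalHom (algebraMap A A')] (I : Ideal A)
    (H : ∀ (A' B' M' : Type u) [CommRing A'] [IsLocalRing A'] [Algebra A A'] [IsLocalHom (algebraMap A A')]
        [CommRing B'] [Algebra B0 B'] [Algebra A' B'] [Algebra A B'] [IsScalarTower A B0 B'] [IsScalarTower A A' B']
        [Algebra.IsPushout A B0 A' B']
        [AddCommGroup M'] [Module B' M'] [Module B0 M'] [IsScalarTower B0 B' M'] [Module A' M'] [IsScalarTower A' B' M']
        (f : M →ₗ[B0] M'), IsBaseChange B' f →
        ((∀ (q' : Ideal B') [q'.IsPrime], (maximalIdeal A').map (algebraMap A' B') ⊔ (maximalIdeal B0).map (algebraMap B0 B') ≤ q' →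
            FlatCA.FlatAt A' q' M') ↔ I.map (algebraMap A A') = ⊥)) :
    I.map (algebraMap A A') = ⊥ := by
  letI := (Algebra.TensorProduct.rightAlgebra : Algebra B0 (A' ⊗[A] B0))
  exact (H A' (A' ⊗[A] B0) ((A' ⊗[A] B0) ⊗[B0] M) (TensorProduct.mk B0 (A' ⊗[A] B0) M 1) (TensorProduct.isBaseChange _ _ _)).1
    (test_of_surjective hf hsurj hflat)

open IsLocalRing in
/-- Let A be a henselian local ring, A → B a local homomorphism of local rings which is essentially of
finite type, and M a finite B-module. Then some ideal I of A has the following property: for any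
local ring A' with a local structure map from A, writing B', M' for the base changes of B, M to A'
(any models), M' is flat over A' at all primes of B' lying above both maximal ideals exactly when
IA' = 0. If A → B is essentially of finite presentation and M is finitely presented over B then I is
finitely generated. -/
theorem result {A B : Type u} [CommRing A] [HenselianLocalRing A] [CommRing B] [IsLocalRing B] [Algebra A B]
    [IsLocalHom (algebraMap A B)] [Algebra.EssFiniteType A B]
    (M : Type u) [AddCommGroup M] [Module B M] [Module A M] [IsScalarTower A B M] [Module.Finite B M] :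
    ∃ I : Ideal A,
      (∀ (A' B' M' : Type u) [CommRing A'] [IsLocalRing A'] [Algebra A A'] [IsLocalHom (algebraMap A A')]
        [CommRing B'] [Algebra B B'] [Algebra A' B'] [Algebra A B'] [IsScalarTower A B B'] [IsScalarTower A A' B']
        [Algebra.IsPushout A B A' B']
        [AddCommGroup M'] [Module B' M'] [Module B M'] [IsScalarTower B B' M'] [Module A' M'] [IsScalarTower A' B' M']
        (f : M →ₗ[B] M'), IsBaseChange B' f →
        ((∀ (q : Ideal B') [q.IsPrime], (maximalIdeal A').map (algebraMap A' B') ⊔ (maximalIdeal B).map (algebraMap B B') ≤ q →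
            FlatCA.FlatAt A' q M') ↔ I.map (algebraMap A A') = ⊥)) ∧
      (FlatCA.EssFinitePresentation A B → Module.FinitePresentation B M → I.FG) := by
  classical
  obtain ⟨d, π, hπ⟩ := FlatInjLib.exists_presentation A B
  let P := MvPolynomial (Fin d) A
  letI algPB : Algebra P B := π.toRingHom.toAlgebra
  haveI : IsScalarTower A P B := IsScalarTower.of_algebraMap_eq fun a => (π.commutes a).symm
  let q : Ideal P := (maximalIdeal B).comap (algebraMap P B)
  have hq : q.comap (algebraMap A P) = maximalIdeal A := by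
    rw [Ideal.comap_comap, ← IsScalarTower.algebraMap_eq]
    exact Ideal.ext fun a => by
      rw [Ideal.mem_comap, mem_maximalIdeal, mem_maximalIdeal, mem_nonunits_iff, mem_nonunits_iff, isUnit_map_iff]
  let B0 := Localization.AtPrime q
  have hu : ∀ s : q.primeCompl, IsUnit (algebraMap P B s) := fun s =>
    IsLocalRing.notMem_maximalIdeal.1 fun h => s.2 h
  letI algB0 : Algebra B0 B := (IsLocalization.lift (S := B0) hu).toAlgebra
  haveI : IsScalarTower P B0 B := IsScalarTower.of_algebraMap_eq fun a => (IsLocalization.lift_eq hu a).symm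
  haveI : IsScalarTower A B0 B := IsScalarTower.of_algebraMap_eq fun a => by
    rw [IsScalarTower.algebraMap_apply A P B0, ← IsScalarTower.algebraMap_apply P B0 B,
      ← IsScalarTower.algebraMap_apply A P B]
  have hsurj : Function.Surjective (algebraMap B0 B) := fun b => by
    obtain ⟨t, f, ht, htf⟩ := hπ b
    refine ⟨IsLocalization.mk' B0 f (⟨t, fun h => (mem_maximalIdeal _).1 h ht⟩ : q.primeCompl), ?_⟩
    show IsLocalization.lift hu (IsLocalization.mk' B0 f _) = b
    rw [IsLocalization.lift_mk'_spec]
    exact htf.symm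
  haveI : IsLocalHom (algebraMap B0 B) := IsLocalHom.of_surjective _ hsurj
  letI : Module B0 M := Module.compHom M (algebraMap B0 B)
  letI : Module P M := Module.compHom M (algebraMap P B)
  haveI : IsScalarTower B0 B M := IsScalarTower.of_compHom _ _ _
  haveI : IsScalarTower P B M := IsScalarTower.of_compHom _ _ _
  haveI : IsScalarTower A B0 M := IsScalarTower.of_algebraMap_smul fun a m => by
    rw [← algebraMap_smul B (algebraMap A B0 a) m, ← IsScalarTower.algebraMap_apply, algebraMap_smul]
  haveI : IsScalarTower P B0 M := IsScalarTower.of_algebraMap_smul fun a m => by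
    rw [← algebraMap_smul B (algebraMap P B0 a) m, ← IsScalarTower.algebraMap_apply, algebraMap_smul]
  haveI : IsScalarTower A P M := IsScalarTower.of_algebraMap_smul fun a m => by
    rw [← algebraMap_smul B (algebraMap A P a) m, ← IsScalarTower.algebraMap_apply, algebraMap_smul]
  -- a finite model over the polynomial ring
  obtain ⟨s, hs⟩ := (inferInstance : Module.Finite B M).fg_top
  let N : Submodule P M := Submodule.span P (s : Set M)
  haveI : Module.Finite P N := Module.Finite.span_of_finite P s.finite_toSet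
  have hN : ∀ z ∈ Submodule.span B (s : Set M), ∃ c : q.primeCompl, (c : P) • z ∈ N := by
    intro z hz
    induction hz using Submodule.span_induction with
    | mem z hz => exact ⟨1, by rw [OneMemClass.coe_one, one_smul]; exact Submodule.subset_span hz⟩
    | zero => exact ⟨1, by rw [smul_zero]; exact zero_mem _⟩
    | add z w _ _ ihz ihw =>
      obtain ⟨c, hc⟩ := ihz; obtain ⟨c', hc'⟩ := ihw
      refine ⟨c * c', ?_⟩
      rw [smul_add, Submonoid.coe_mul, mul_comm, mul_smul, mul_comm, mul_smul]
      exact add_mem (N.smul_mem _ hc) (N.smul_mem _ hc')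
    | smul b z _ ihz =>
      obtain ⟨c, hc⟩ := ihz
      obtain ⟨t, f, ht, htf⟩ := hπ b
      refine ⟨⟨t, fun h => (mem_maximalIdeal _).1 h ht⟩ * c, ?_⟩
      rw [Submonoid.coe_mul, mul_smul, smul_comm (c : P) b, ← algebraMap_smul B (t : P) (b • _), smul_smul,
        show algebraMap P B t * b = algebraMap P B f from htf, algebraMap_smul]
      exact N.smul_mem _ hc
  haveI : IsLocalizedModule q.primeCompl N.subtype :=
    { map_units := fun c => by
        obtain ⟨u, hu⟩ := hu c
        rw [Module.End.isUnit_iff]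
        refine ⟨fun a b hab => ?_, fun a => ⟨(↑u⁻¹ : B) • a, ?_⟩⟩
        · have h : (u : B) • a = (u : B) • b := by
            rw [hu, algebraMap_smul, algebraMap_smul]; exact hab
          have := congrArg ((↑u⁻¹ : B) • ·) h
          simpa [smul_smul] using this
        · show (c : P) • (↑u⁻¹ : B) • a = a
          rw [← algebraMap_smul B (c : P), ← hu, smul_smul, Units.mul_inv, one_smul]
      surj := fun z => by
        obtain ⟨c, hc⟩ := hN z (hs ▸ trivial)
        exact ⟨(⟨_, hc⟩, c), rfl⟩
      exists_of_eq := fun {z w} h => ⟨1, by rw [Subtype.ext h]⟩ }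
  obtain ⟨I, hItop, hIfq, hImin, hItest⟩ :=
    AInjLib.exists_ideal_henselian (A := A) (P := P) q hq (B := B0) (M := M) N.subtype
  refine ⟨I, fun A' B' M' _ _ _ _ _ _ _ _ _ _ _ _ _ _ _ _ _ f hf => ⟨fun hflat => ?_, fun hI q' _ _ => ?_⟩,
    fun hB hM => ?_⟩
  · exact map_eq_bot_of_test (B0 := B0) hf hsurj hflat I hItest
  · have hker : I ≤ RingHom.ker (algebraMap A A') := (Ideal.map_eq_bot_iff_le_ker _).1 hI
    haveI : Module.Flat A' M' := AInjLib.flat_of_fq_ker f hf (AInjLib.fq_mono hker hIfq)
    exact FlatInjLib.flat_of_isLocalizedModule q'.primeCompl (LocalizedModule.mkLinearMap q'.primeCompl M')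
  · obtain ⟨S₀, _, _, _, _, Mon, hfp, hloc⟩ := hB
    haveI := hfp
    haveI := hloc
    haveI := hM
    let q₀ : Ideal S₀ := (maximalIdeal B).comap (algebraMap S₀ B)
    haveI : IsLocalization.AtPrime B q₀ := IsLocalization.of_le (S := B) Mon q₀.primeCompl
      (fun m hm h => (mem_maximalIdeal _).1 h (IsLocalization.map_units B (⟨m, hm⟩ : Mon)))
      fun m hm => IsLocalRing.notMem_maximalIdeal.1 hm
    letI : Module S₀ M := Module.compHom M (algebraMap S₀ B)
    haveI : IsScalarTower S₀ B M := IsScalarTower.of_compHom _ _ _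
    haveI : IsScalarTower A S₀ M := IsScalarTower.of_algebraMap_smul fun a m => by
      rw [← algebraMap_smul B (algebraMap A S₀ a) m, ← IsScalarTower.algebraMap_apply, algebraMap_smul]
    obtain ⟨M₀, _, _, g, hM₀, hg⟩ := FlatLib.exists_model_of_isLocalization (C := S₀) (L := B) (M := M) q₀.primeCompl
    haveI := hM₀
    haveI := hg
    letI : Module A M₀ := Module.compHom M₀ (algebraMap A S₀)
    haveI : IsScalarTower A S₀ M₀ := IsScalarTower.of_compHom _ _ _
    let eM : LocalizedModule q₀.primeCompl M₀ ≃ₗ[A] M := (IsLocalizedModule.iso q₀.primeCompl g).restrictScalars A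
    have hIq : I ≤ q₀.comap (algebraMap A S₀) := by
      refine (IsLocalRing.le_maximalIdeal hItop).trans fun a ha => ?_
      rw [Ideal.mem_comap, Ideal.mem_comap, ← IsScalarTower.algebraMap_apply]
      exact map_nonunit _ _ ha
    obtain ⟨I₀, hfg, hle, h₀⟩ := AInjLib.exists_fg_le (R := A) (C := S₀) (X := M₀) q₀ I hIq
      ((AInjLib.fq_congr eM I).2 hIfq)
    exact le_antisymm hle (hImin I₀ (fun h => hItop (top_le_iff.1 (h ▸ hle))) ((AInjLib.fq_congr eM I₀).1 h₀)) ▸ hfg

end Groth.Agent.S1229
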