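import Groth.Statements.S12290
import Groth.Agent.CotTLib.Smooth
import Groth.Agent.S2116

set_option autoImplicit false
universe u w m
open scoped TensorProduct
open DefT

namespace Groth.Agent.S12290

/-- Let k be an algebraically closed field and B a finitely generated k-algebra, X = Spec B. Then X is
nonsingular (localizing B at any prime ideal gives a regular local ring) exactly when T^1(B/k, M)
vanishes for every B-module M; and when X is nonsingular, T^2(B/k, M) vanishes too, for every
B-module M. Here T^1, T^2 are computed from the choice-free presentation of B over k. -/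
theorem result
    (k B : Type u) [Field k] [IsAlgClosed k] [CommRing B] [Algebra k B] [Algebra.FiniteType k B] :
    ((∀ (p : Ideal B) [p.IsPrime], IsRegularLocalRing (Localization.AtPrime p)) ↔
      ∀ (M : Type u) [AddCommGroup M] [Module B M], Subsingleton (CotT.T1 (CotT.canon k B) M)) ∧
    ((∀ (p : Ideal B) [p.IsPrime], IsRegularLocalRing (Localization.AtPrime p)) →
      ∀ (M : Type u) [AddCommGroup M] [Module B M], Subsingleton (CotT.T2 (CotT.canon k B) M)) := by
  haveI : IsNoetherianRing B := Algebra.FiniteType.isNoetherianRing k B
  haveI : Algebra.FinitePresentation k B := Algebra.FinitePresentation.of_finiteType.1 inferInstance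
  have hsm : (∀ (p : Ideal B) [p.IsPrime], IsRegularLocalRing (Localization.AtPrime p)) →
      Algebra.FormallySmooth k B := by
    intro h
    rw [← Algebra.smoothLocus_eq_univ_iff, Set.eq_univ_iff_forall]
    intro p
    obtain ⟨m, hm, hpm⟩ := Ideal.exists_le_maximal p.asIdeal p.2.ne_top
    haveI := hm.isPrime
    refine Algebra.isOpen_smoothLocus.stableUnderGeneralization
      ((PrimeSpectrum.le_iff_specializes p ⟨m, hm.isPrime⟩).1 hpm) ?_
    exact (Groth.Agent.S2116.result m).1 (h m)
  refine ⟨⟨fun h => (CotTLib.forall_subsingleton_T1_canon_iff k B).2 (hsm h), fun h p _ => ?_⟩,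
    fun h M _ _ => ?_⟩
  · haveI := (CotTLib.forall_subsingleton_T1_canon_iff k B).1 h
    haveI : Algebra.Smooth k B := ⟨inferInstance, inferInstance⟩
    haveI := CohenLib.isRegularRing_of_smooth k B
    infer_instance
  · haveI := hsm h
    haveI : Algebra.Smooth k B := ⟨inferInstance, inferInstance⟩
    exact CotTLib.subsingleton_T2_of_smooth M

end Groth.Agent.S12290
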