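import Groth.Statements.S12291
import Groth.Agent.S12285
import Groth.Agent.S12288
import Groth.Agent.CommAlgDim.CM

set_option autoImplicit false
set_option maxHeartbeats 1600000
universe u w m
open scoped TensorProduct
open DefT

namespace Groth.Agent.S12291

/-- Let k be an algebraically closed field and A a regular local k-algebra with residue field k such
that T^1(A/k, N) = 0 and T^2(A/k, N) = 0 for all A-modules N; let I be a proper ideal of A and B =
A/I. Then B is cut out of A as a local complete intersection — meaning I is generated by some list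
of r elements with r + dim B = dim A, i.e. by dim A − dim B elements — exactly when T^2(B/k, M)
vanishes for each B-module M. The T^i are computed from the choice-free presentations. (The
published statement assumes only that A is a regular local k-algebra with residue field k; its proof
uses the vanishing of T^1(A/k, −) and T^2(A/k, −), which holds when A is essentially of finite type
over k and which this row carries as a hypothesis.) -/
theorem result
    (k A : Type u) [Field k] [IsAlgClosed k] [CommRing A] [IsRegularLocalRing A] [Algebra k A]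
    (hres : Function.Surjective (algebraMap k (IsLocalRing.ResidueField A)))
    (hT : ∀ (N : Type u) [AddCommGroup N] [Module A N],
      Subsingleton (CotT.T1 (CotT.canon k A) N) ∧ Subsingleton (CotT.T2 (CotT.canon k A) N))
    (I : Ideal A) (hI : I ≠ ⊤) :
    (∃ rs : List A, Ideal.ofList rs = I ∧ (rs.length : WithBot ℕ∞) + ringKrullDim (A ⧸ I) = ringKrullDim A) ↔
      ∀ (M : Type u) [AddCommGroup M] [Module (A ⧸ I) M], Subsingleton (CotT.T2 (CotT.canon k (A ⧸ I)) M) := by
  classical
  haveI : Nontrivial (A ⧸ I) := Ideal.Quotient.nontrivial_iff.2 hI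
  haveI : IsLocalRing (A ⧸ I) :=
    IsLocalRing.of_surjective' (Ideal.Quotient.mk I) Ideal.Quotient.mk_surjective
  haveI hloc : IsLocalHom (Ideal.Quotient.mk I) :=
    IsLocalHom.of_surjective _ Ideal.Quotient.mk_surjective
  have hs : Function.Surjective (algebraMap A (A ⧸ I)) := Ideal.Quotient.mk_surjective
  have hkerI : RingHom.ker (algebraMap A (A ⧸ I)) = I := Ideal.mk_ker
  have hIm : I ≤ IsLocalRing.maximalIdeal A := IsLocalRing.le_maximalIdeal hI
  have hcmp : ∀ (M : Type u) [AddCommGroup M] [Module (A ⧸ I) M],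
      Subsingleton (CotT.T2 (CotT.canon A (A ⧸ I)) M) ↔ Subsingleton (CotT.T2 (CotT.canon k (A ⧸ I)) M) := by
    intro M _ _
    letI : Module A M := Module.compHom M (algebraMap A (A ⧸ I))
    haveI : IsScalarTower A (A ⧸ I) M := IsScalarTower.of_compHom A (A ⧸ I) M
    obtain ⟨-, -, -, hex2, -, δ₁, -, -, -, hδ⟩ := Groth.Agent.S12285.result k A (A ⧸ I) M
    haveI := (hT M).1
    haveI := (hT M).2
    let g := (CotT.canonHom k (A ⧸ I) A (A ⧸ I)).T2pull M
    have hinj : Function.Injective g := (injective_iff_map_eq_zero g).2 fun x hx => by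
      obtain ⟨y, rfl⟩ := (hδ x).1 hx
      rw [Subsingleton.elim y 0, map_zero]
    have hsurj : Function.Surjective g := fun x => (hex2 x).1 (Subsingleton.elim _ _)
    exact (Equiv.ofBijective g ⟨hinj, hsurj⟩).subsingleton_congr
  constructor
  · rintro ⟨rs, hrs, hdim⟩ M _ _
    have hreg : RingTheory.Sequence.IsRegular A rs :=
      CommAlgDim.isRegular_of_dim (CommAlgDim.isCM_of_isRegularLocalRing A)
        (fun r hr => hIm (hrs ▸ Ideal.subset_span hr))
        (by rw [hrs, add_comm]; exact hdim.le)
    exact (hcmp M).1 (Groth.Agent.S12288.result A (A ⧸ I) hs rs hreg (hkerI.trans hrs.symm) M)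
  · intro hT2
    obtain ⟨t, ht, htI⟩ := Submodule.FG.exists_span_finset_card_eq_spanFinrank (IsNoetherian.noetherian I)
    rw [Ideal.submodule_span_eq] at htI
    set rs := t.toList with hrsdef
    have hlist : Ideal.ofList rs = I := by
      rw [← htI, Ideal.ofList]
      exact congrArg _ (by ext; simp [hrsdef])
    let a : Fin rs.length → A := fun i => rs[i]
    have hrange : Ideal.span (Set.range a) = I := by
      rw [← hlist, Ideal.ofList]
      congr 1
      ext x
      exact ⟨fun ⟨i, hi⟩ => hi ▸ List.getElem_mem i.2,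
        fun hx => (List.mem_iff_getElem.1 hx).elim fun j ⟨hj, hx⟩ => ⟨⟨j, hj⟩, hx⟩⟩
    have hmin : ∀ (c : Fin rs.length → A), ∑ i, c i * a i = 0 → ∀ j, ¬ IsUnit (c j) := by
      intro c hc j hu
      have hle : I ≤ Ideal.span (a '' {i | i ≠ j}) := by
        rw [← hrange, Ideal.span_le]
        rintro _ ⟨i, rfl⟩
        by_cases h : i = j
        · subst h
          obtain ⟨u, hu⟩ := hu
          have h1 : c i * a i = -∑ x ∈ Finset.univ.erase i, c x * a x :=
            eq_neg_of_add_eq_zero_left (by rw [Finset.add_sum_erase _ (fun x => c x * a x) (Finset.mem_univ i)]; exact hc)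
          have h2 : a i = (↑u⁻¹ : A) * (c i * a i) := by rw [← hu, ← mul_assoc, Units.inv_mul, one_mul]
          rw [SetLike.mem_coe, h2, h1]
          refine Ideal.mul_mem_left _ _ (neg_mem (sum_mem fun x hx => Ideal.mul_mem_left _ _ ?_))
          exact Ideal.subset_span ⟨x, (Finset.mem_erase.1 hx).1, rfl⟩
        · exact Ideal.subset_span ⟨i, h, rfl⟩
      have heq : I = Ideal.span (a '' {i | i ≠ j}) :=
        le_antisymm hle (Ideal.span_le.2 fun x ⟨i, _, hi⟩ => hrange ▸ Ideal.subset_span ⟨i, hi⟩)
      have hfin : (a '' {i | i ≠ j}).Finite := (Set.toFinite _).image _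
      have h3 : I.spanFinrank ≤ (a '' {i | i ≠ j}).ncard := by
        rw [heq]; exact Submodule.spanFinrank_span_le_ncard_of_finite hfin
      have h4 : (a '' {i | i ≠ j}).ncard ≤ rs.length - 1 := by
        refine (Set.ncard_image_le (Set.toFinite _)).trans ?_
        rw [show {i | i ≠ j} = ({j} : Set (Fin rs.length))ᶜ from rfl, Set.ncard_compl,
          Set.ncard_singleton, Nat.card_eq_fintype_card, Fintype.card_fin]
      have h5 : rs.length = I.spanFinrank := by rw [hrsdef, Finset.length_toList, ht]
      have := j.2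
      omega
    let P : Algebra.Presentation A (A ⧸ I) PEmpty.{u + 1} (Fin rs.length) :=
      CotTLib.quotPres.{u, u, u} hs a (hkerI.trans hrange.symm)
    let e : P.toExtension.Ring ≃+* A := MvPolynomial.isEmptyRingEquiv A PEmpty.{u + 1}
    have heC : ∀ x : A, e (algebraMap A P.toExtension.Ring x) = x := fun x =>
      e.apply_symm_apply x
    have halg : ∀ r : P.toExtension.Ring, algebraMap P.toExtension.Ring (A ⧸ I) r = Ideal.Quotient.mk I (e r) := by
      intro r
      obtain ⟨x, rfl⟩ : ∃ x, algebraMap A P.toExtension.Ring x = r := MvPolynomial.C_surjective PEmpty r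
      rw [← IsScalarTower.algebraMap_apply, heC]
      rfl
    have hrel : ∀ i, e (CotT.rel P i) = a i := fun i => heC (a i)
    haveI : IsNoetherianRing P.toExtension.Ring := isNoetherianRing_of_ringEquiv A e.symm
    haveI : Module.Finite P.toExtension.Ring (CotT.relKer P) := Module.Finite.of_fg (IsNoetherian.noetherian _)
    have hL : Subsingleton (CotT.L2 P) := by
      have hz : Subsingleton (CotT.T2 P (CotT.L2 P)) :=
        (CotTLib.subsingleton_T2_iff P _ (CotT.L2 P)).2 ((hcmp (CotT.L2 P)).2 (hT2 (CotT.L2 P)))
      obtain ⟨φ, hφ⟩ := (Submodule.Quotient.mk_eq_zero _).1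
        (Subsingleton.elim (Submodule.Quotient.mk (LinearMap.id : CotT.L2 P →ₗ[A ⧸ I] CotT.L2 P) :
          CotT.T2 P (CotT.L2 P)) 0)
      have hsmall : (⊤ : Submodule (A ⧸ I) (CotT.L2 P)) ≤
          IsLocalRing.maximalIdeal (A ⧸ I) • (⊤ : Submodule (A ⧸ I) (CotT.L2 P)) := by
        intro x _
        obtain ⟨q, rfl⟩ := CotTLib.mk_one_tmul_surjective P x
        have hx := LinearMap.congr_fun hφ (Submodule.Quotient.mk ((1 : A ⧸ I) ⊗ₜ q))
        rw [CotT.d2Star_apply, LinearMap.comp_apply, CotT.d2_mk_tmul, LinearMap.id_apply] at hx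
        rw [← hx, ← (q : CotT.relMod P).sum_single, Finsupp.sum, TensorProduct.tmul_sum, map_sum]
        refine sum_mem fun i _ => ?_
        rw [← mul_one ((q : CotT.relMod P) i), ← smul_eq_mul, ← Finsupp.smul_single, TensorProduct.tmul_smul,
          ← algebraMap_smul (A ⧸ I) ((q : CotT.relMod P) i), map_smul]
        refine Submodule.smul_mem_smul ?_ trivial
        rw [halg]
        refine fun hu => hmin (fun i => e ((q : CotT.relMod P) i)) ?_ i (hloc.map_nonunit _ hu)
        have h0 : CotT.jmap P (q : CotT.relMod P) = 0 := q.2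
        rw [CotT.jmap, Finsupp.linearCombination_apply] at h0
        have h0' : (∑ j, (q : CotT.relMod P) j * CotT.rel P j) = 0 :=
          (Finsupp.sum_fintype _ (fun j r => r * CotT.rel P j) (fun j => zero_mul _)).symm.trans h0
        have h1 := congrArg e h0'
        rw [map_sum, map_zero] at h1
        refine Eq.trans (Finset.sum_congr rfl fun j _ => ?_) h1
        rw [map_mul, hrel]
      have := Submodule.eq_bot_of_le_smul_of_le_jacobson_bot _ _ (Module.Finite.fg_top)
        hsmall (IsLocalRing.maximalIdeal_le_jacobson _)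
      exact Submodule.subsingleton_iff (A ⧸ I) |>.1 (subsingleton_of_bot_eq_top this.symm)
    have hH : ∀ f : CotT.relMod P, CotT.jmap P f = 0 → f ∈ CotTLib.triv (CotT.rel P) rs.length := by
      intro f hf
      have hmem := (CotTLib.mk_one_tmul_eq_zero_iff P ⟨f, hf⟩).1 (Subsingleton.elim _ _)
      refine (Submodule.span_le.2 ?_ : CotT.trivRel P ≤ CotTLib.triv (CotT.rel P) rs.length) hmem
      rintro _ ⟨g, h, rfl⟩
      exact Submodule.subset_span ⟨g, by rw [CotTLib.supp_top]; trivial, h,
        by rw [CotTLib.supp_top]; trivial, rfl⟩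
    have hjac : ∀ i, CotT.rel P i ∈ (⊥ : Ideal P.toExtension.Ring).jacobson := by
      intro i
      rw [Ideal.mem_jacobson_bot]
      intro y
      have hm : a i * e y ∈ IsLocalRing.maximalIdeal A :=
        Ideal.mul_mem_right _ _ (hIm (hrange ▸ Ideal.subset_span ⟨i, rfl⟩))
      have hu : IsUnit (a i * e y + 1) :=
        Ideal.mem_jacobson_bot.1 (IsLocalRing.maximalIdeal_le_jacobson _
          (hIm (hrange ▸ Ideal.subset_span ⟨i, rfl⟩))) (e y)
      have := hu.map e.symm
      rwa [← hrel, ← map_mul, ← map_one e, ← map_add, RingEquiv.symm_apply_apply] at this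
    have helem : CotTLib.IsRegElem a := by
      have h1 := (CotTLib.reg_of_mem_triv (CotT.rel P) hjac hH).map e
      simpa only [hrel] using h1
    have hreg : RingTheory.Sequence.IsRegular A rs := by
      refine ⟨(CotTLib.isWeaklyRegular_iff_isRegElem rs).2 helem, ?_⟩
      rw [hlist, smul_eq_mul, Ideal.mul_top]
      exact fun h => hI h.symm
    refine ⟨rs, hlist, ?_⟩
    have hd := ringKrullDim_add_length_eq_ringKrullDim_of_isRegular rs hreg
    rw [← hlist, add_comm]
    exact hd

end Groth.Agent.S12291
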