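import Groth.Statements.S12295
import Groth.Agent.CotTLib.Tower

set_option autoImplicit false
set_option maxHeartbeats 1600000
universe u w m
open scoped TensorProduct
open DefT

namespace Groth.Agent.S12295

/-- Let k be a commutative ring, B a k-algebra and P a presentation of B over k with polynomial ring R =
k[x_i] (any set of variables), so that B = R/I; let P' be a presentation of B over R with no
polynomial variables (R itself mapping onto B, with chosen generators of I), and M a B-module. Then
T^2(B/R, M), computed from P', and T^2(B/k, M), computed from P, are isomorphic B-modules.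
(Existence of a B-linear isomorphism only; the published statement has finitely many variables over
a field and notes that any base ring works.) -/
theorem result
    (k B : Type u) [CommRing k] [CommRing B] [Algebra k B] (ι σ ι' σ' : Type w)
    (P : Algebra.Presentation k B ι σ) [IsEmpty ι']
    (P' : Algebra.Presentation P.toExtension.Ring B ι' σ')
    (M : Type m) [AddCommGroup M] [Module B M] :
    Nonempty (CotT.T2 P' M ≃ₗ[B] CotT.T2 P M) := by
  let R := P.toExtension.Ring
  have hsurj : Function.Surjective (algebraMap R B) := P.toExtension.algebraMap_surjective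
  let G : Algebra.Generators R B PEmpty.{w + 1} := Algebra.Generators.ofSurjectiveAlgebraMap hsurj
  let P'' : Algebra.Presentation R B PEmpty.{w + 1} σ :=
    { G with
      relation := fun s => MvPolynomial.C (CotT.rel P s)
      span_range_relation_eq_ker := by
        refine le_antisymm (Ideal.span_le.2 ?_) fun x hx => ?_
        · rintro _ ⟨s, rfl⟩
          rw [SetLike.mem_coe, Algebra.Generators.ker_eq_ker_aeval_val, RingHom.mem_ker, MvPolynomial.aeval_C]
          exact CotT.algebraMap_rel P s
        · obtain ⟨c, rfl⟩ := MvPolynomial.C_surjective PEmpty x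
          rw [Algebra.Generators.ker_eq_ker_aeval_val, RingHom.mem_ker, MvPolynomial.aeval_C] at hx
          have hc : c ∈ Ideal.span (Set.range (CotT.rel P)) := P.span_range_relation_eq_ker.ge hx
          have := Ideal.mem_map_of_mem (MvPolynomial.C (σ := PEmpty.{w + 1})) hc
          rwa [Ideal.map_span, ← Set.range_comp] at this }
  let H : Algebra.Generators.Hom P.toGenerators P''.toGenerators :=
    { val := fun i => MvPolynomial.C (CotTLib.varX P i)
      aeval_val := fun i => by
        rw [MvPolynomial.aeval_C]
        exact (CotT.algebraMap_toExtension P (CotTLib.varX P i)).trans (MvPolynomial.aeval_X _ i) }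
  have hH : ∀ r : R, H.toExtensionHom.toRingHom r = MvPolynomial.C r := fun r => by
    induction r using CotTLib.ring_induction (P := P) with
    | hC a =>
      rw [Algebra.Extension.Hom.toRingHom_algebraMap]
      rfl
    | hadd p q hp hq =>
      rw [map_add, hp, hq]
      exact (map_add (MvPolynomial.C : R →+* MvPolynomial PEmpty.{w + 1} R) p q).symm
    | hmul p i hp =>
      rw [map_mul, hp, map_mul]
      congr 1
      exact H.toAlgHom_X i
  let h : CotT.PresHom P P'' :=
    { hom := H
      relVal := fun s => Finsupp.single s 1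
      jmap_relVal := fun s => by rw [CotT.jmap_single, one_mul, hH] }
  have hbij : Function.Bijective h.ringHom := by
    rw [show ⇑h.ringHom = (MvPolynomial.C : R → MvPolynomial PEmpty.{w + 1} R) from funext hH]
    exact ⟨MvPolynomial.C_injective _ _, MvPolynomial.C_surjective _⟩
  have hmod : ∀ f, h.relModMap f = Finsupp.mapRange h.ringHom (map_zero _) f := fun f => by
    induction f using Finsupp.induction_linear with
    | zero => simp
    | add a b ha hb => rw [map_add, ha, hb, Finsupp.mapRange_add (map_add _)]
    | single s r =>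
      rw [CotT.PresHom.relModMap_single, Finsupp.mapRange_single]
      change h.ringHom r • Finsupp.single s 1 = _
      rw [Finsupp.smul_single, smul_eq_mul, mul_one]
  have hminj : Function.Injective h.relModMap := fun a b e => by
    rw [hmod, hmod] at e
    exact Finsupp.mapRange_injective _ _ hbij.1 e
  have hmsurj : Function.Surjective h.relModMap := fun b => by
    obtain ⟨a, ha⟩ := Finsupp.mapRange_surjective h.ringHom (map_zero _) hbij.2 b
    exact ⟨a, (hmod a).trans ha⟩
  have hq : ∀ q : CotT.relMod P, h.relModMap q ∈ CotT.relKer P'' → q ∈ CotT.relKer P := fun q hq => by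
    refine hbij.1 ?_
    rw [← h.jmap_relModMap, map_zero]
    exact hq
  have htriv : ∀ y ∈ CotT.trivRel P'', ∃ y' ∈ CotT.trivRel P, h.relModMap y' = y := fun y hy => by
    induction hy using Submodule.span_induction with
    | mem y hy =>
      obtain ⟨a, b, rfl⟩ := hy
      obtain ⟨a, rfl⟩ := hmsurj a
      obtain ⟨b, rfl⟩ := hmsurj b
      refine ⟨_, Submodule.subset_span ⟨a, b, rfl⟩, ?_⟩
      rw [map_sub, LinearMap.map_smulₛₗ, LinearMap.map_smulₛₗ, h.jmap_relModMap, h.jmap_relModMap]
    | zero => exact ⟨0, zero_mem _, map_zero _⟩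
    | add a b _ _ ha hb =>
      obtain ⟨a, ha, rfl⟩ := ha; obtain ⟨b, hb, rfl⟩ := hb
      exact ⟨a + b, add_mem ha hb, map_add _ _ _⟩
    | smul c a _ ha =>
      obtain ⟨a, ha, rfl⟩ := ha
      obtain ⟨c, rfl⟩ := hbij.2 c
      exact ⟨c • a, Submodule.smul_mem _ _ ha, LinearMap.map_smulₛₗ _ _ _⟩
  let l2 : CotT.L2 P →ₗ[B] CotT.L2 P'' := CotT.PresHom.linOfSemilinear (CotT.L2 P'') h.L2map
  have hl2 : Function.Bijective l2 := by
    constructor
    · refine (injective_iff_map_eq_zero l2).2 fun z hz => ?_
      obtain ⟨q, rfl⟩ := CotTLib.mk_one_tmul_surjective P z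
      have hz' : (Submodule.Quotient.mk (algebraMap B B 1 ⊗ₜ h.relKerMap q) : CotT.L2 P'') = 0 := by
        rw [← h.L2map_mk_tmul]; exact hz
      rw [map_one, CotTLib.mk_one_tmul_eq_zero_iff, CotT.PresHom.relKerMap_coe] at hz'
      obtain ⟨y, hy, hy'⟩ := htriv _ hz'
      rw [CotTLib.mk_one_tmul_eq_zero_iff, ← hminj hy']
      exact hy
    · intro z
      obtain ⟨q, rfl⟩ := CotTLib.mk_one_tmul_surjective P'' z
      obtain ⟨a, ha⟩ := hmsurj q
      refine ⟨Submodule.Quotient.mk ((1 : B) ⊗ₜ ⟨a, hq a (ha ▸ q.2)⟩), ?_⟩
      change h.L2map _ = _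
      rw [h.L2map_mk_tmul, map_one]
      congr 2
      exact Subtype.ext ha
  have hl1 : ∀ s, h.L1map (CotT.L1basis P s) = CotT.L1basis P'' s := fun s => by
    rw [CotT.L1basis_apply, CotT.L1basis_apply, CotT.PresHom.L1map_tmul, map_one, hmod,
      Finsupp.mapRange_single, map_one]
  have hT : Function.Bijective (h.T2pull M) := by
    constructor
    · refine (injective_iff_map_eq_zero (h.T2pull M)).2 fun x hx => ?_
      obtain ⟨ψ, rfl⟩ := Submodule.Quotient.mk_surjective _ x
      obtain ⟨χ, hχ⟩ := (Submodule.Quotient.mk_eq_zero _).1 hx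
      refine (Submodule.Quotient.mk_eq_zero _).2
        ⟨(CotT.L1basis P'').constr B fun s => χ (CotT.L1basis P s), ?_⟩
      have hpull : h.pull1 M ((CotT.L1basis P'').constr B fun s => χ (CotT.L1basis P s)) = χ :=
        (CotT.L1basis P).ext fun s => by
          rw [CotT.PresHom.pull1_apply, hl1, Module.Basis.constr_basis]
      refine LinearMap.ext fun z => ?_
      obtain ⟨z, rfl⟩ := hl2.2 z
      have := h.pull2_d2Star M ((CotT.L1basis P'').constr B fun s => χ (CotT.L1basis P s))
      rw [hpull] at this
      exact (LinearMap.congr_fun this z).trans (LinearMap.congr_fun hχ z)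
    · intro x
      obtain ⟨φ, rfl⟩ := Submodule.Quotient.mk_surjective _ x
      refine ⟨Submodule.Quotient.mk (φ ∘ₗ (LinearEquiv.ofBijective l2 hl2).symm.toLinearMap), ?_⟩
      refine congrArg Submodule.Quotient.mk (LinearMap.ext fun z => ?_)
      change φ ((LinearEquiv.ofBijective l2 hl2).symm (l2 z)) = φ z
      rw [LinearEquiv.ofBijective_symm_apply_apply]
  exact ⟨(CotTLib.T2equiv M (CotTLib.someHom P'' P') (CotTLib.someHom P' P'')).trans
    (LinearEquiv.ofBijective (h.T2pull M) hT)⟩

end Groth.Agent.S12295
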