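import Groth.Statements.S12297
import Groth.Agent.CotTLib.Smooth
import Groth.Agent.CotTLib.Localization
import Groth.Agent.S2116
import Groth.Agent.S12285

set_option autoImplicit false
set_option maxHeartbeats 1600000
universe u w m
open scoped TensorProduct
open DefT

namespace Groth.Agent.S12297

/-- Let k be an algebraically closed field, B a finitely generated k-algebra, m a maximal ideal of B and
B_m the localization, a local k-algebra with residue field k. Then B_m is a regular local ring if
and only if T^1(B_m/k, M) = 0 for all B_m-modules M, and in that case T^2(B_m/k, M) = 0 for all M as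
well; the T^i are computed from the choice-free presentation of B_m over k. (The published statement
is for a local k-algebra with residue field k, k algebraically closed, proved by localization from
the finitely generated case; this row states it for the localizations of finitely generated
k-algebras at maximal ideals, the case that proof covers.) -/
theorem result
    (k B : Type u) [Field k] [IsAlgClosed k] [CommRing B] [Algebra k B] [Algebra.FiniteType k B]
    (m : Ideal B) [m.IsMaximal] :
    (IsRegularLocalRing (Localization.AtPrime m) ↔
      ∀ (M : Type u) [AddCommGroup M] [Module (Localization.AtPrime m) M],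
        Subsingleton (CotT.T1 (CotT.canon k (Localization.AtPrime m)) M)) ∧
    (IsRegularLocalRing (Localization.AtPrime m) →
      ∀ (M : Type u) [AddCommGroup M] [Module (Localization.AtPrime m) M],
        Subsingleton (CotT.T2 (CotT.canon k (Localization.AtPrime m)) M)) := by
  haveI : IsNoetherianRing B := Algebra.FiniteType.isNoetherianRing k B
  haveI : Algebra.FinitePresentation k B := Algebra.FinitePresentation.of_finiteType.1 inferInstance
  let L := Localization.AtPrime m
  refine ⟨(Groth.Agent.S2116.result m).trans
    (CotTLib.forall_subsingleton_T1_canon_iff k L).symm, fun hreg M _ _ => ?_⟩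
  haveI : Algebra.IsSmoothAt k m := (Groth.Agent.S2116.result m).1 hreg
  obtain ⟨f, hf, hsm⟩ := Algebra.IsSmoothAt.exists_notMem_smooth k m
  haveI := hsm
  let Af := Localization.Away f
  have hu : IsUnit (algebraMap B L f) := IsLocalization.map_units L (⟨f, hf⟩ : m.primeCompl)
  letI : Algebra Af L := (IsLocalization.Away.lift f hu).toAlgebra
  haveI : IsScalarTower B Af L := IsScalarTower.of_algebraMap_eq
    (fun x => (IsLocalization.Away.lift_eq f hu x).symm)
  haveI : IsScalarTower k Af L := IsScalarTower.of_algebraMap_eq (fun x => by
    rw [IsScalarTower.algebraMap_apply k B Af, ← IsScalarTower.algebraMap_apply B Af L,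
      ← IsScalarTower.algebraMap_apply k B L])
  have hle : Submonoid.powers f ≤ m.primeCompl := Submonoid.powers_le.2 hf
  haveI : IsLocalization (m.primeCompl.map (algebraMap B Af)) L :=
    IsLocalization.isLocalization_of_submonoid_le Af L (Submonoid.powers f) m.primeCompl hle
  letI : Module Af M := Module.compHom M (algebraMap Af L)
  haveI : IsScalarTower Af L M := IsScalarTower.of_compHom Af L M
  obtain ⟨-, -, -, hex2, -⟩ := Groth.Agent.S12285.result k Af L M
  haveI : Subsingleton (CotT.T2 (CotT.canon Af L) M) :=
    CotTLib.subsingleton_T2_localization (m.primeCompl.map (algebraMap B Af)) M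
  haveI : Subsingleton (CotT.T2 (CotT.canon k Af) M) := CotTLib.subsingleton_T2_of_smooth M
  refine subsingleton_of_forall_eq 0 fun x => ?_
  obtain ⟨y, rfl⟩ := (hex2 x).1 (Subsingleton.elim _ _)
  rw [Subsingleton.elim y 0, map_zero]

end Groth.Agent.S12297
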