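import Groth.Statements.S12301
import Groth.Agent.ArtLib.CRingHom

set_option autoImplicit false
universe u v
open CategoryTheory
open ArtFun

namespace Groth.Agent.S12301

/-- Let k be an algebraically closed field, f : F₁ → F₂ a morphism of set-valued functors on local
Artinian k-algebras with residue field k, (R₁, ξ₁) a family for F₁ and (R₂, ξ₂) a versal family for
F₂, where R₁, R₂ are complete local Noetherian k-algebras with residue field k and versal is meant
in the strong sense: h_{R₂} → F₂ is surjective on every object and has the lifting property along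
surjections. Then there is a k-algebra map φ : R₂ → R₁, compatible with the augmentations, such that
for every local Artinian A and every u : R₁ → A the element of F₂(A) given by ξ₂ at u ∘ φ equals the
image under f of the element of F₁(A) given by ξ₁ at u; in other words composition with φ, h_{R₁} →
h_{R₂}, covers f. (The published statement assumes (R₁, ξ₁) versal as well; this row asks nothing of
ξ₁, which is all the argument uses, and takes the coefficient rings Noetherian.) -/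
theorem result
    {k : Type u} [Field k] [IsAlgClosed k] {F₁ F₂ : ArtFun.Art k k ⥤ Type v} (f : F₁ ⟶ F₂)
    (R₁ : ArtFun.CRing k k) (ξ₁ : ArtFun.Family R₁.carrier R₁.res F₁)
    (R₂ : ArtFun.CRing k k) (ξ₂ : ArtFun.Family R₂.carrier R₂.res F₂) (hξ₂ : ArtFun.IsVersal ξ₂)
    (hsurj : ∀ A : ArtFun.Art k k, Function.Surjective (ξ₂.app A)) :
    ∃ (φ : R₂.carrier →ₐ[k] R₁.carrier) (hφ : R₁.res.comp φ = R₂.res),
      ∀ (A : ArtFun.Art k k) (u : ArtFun.HomSet R₁.carrier R₁.res A),
        (ξ₂.along φ hφ).app A u = f.app A (ξ₁.app A u) := by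
  obtain ⟨u, hu⟩ : ∃ u : ∀ n, { ψ : ArtFun.HomSet R₂.carrier R₂.res (R₁.trunc n) //
      ξ₂.app _ ψ = f.app _ (ξ₁.app _ (R₁.truncHom n)) },
      ∀ n, ArtFun.HomSet.map (R₁.truncMap n) (u (n + 1)).1 = (u n).1 := by
    have step : ∀ (n : ℕ) (ψ : { ψ : ArtFun.HomSet R₂.carrier R₂.res (R₁.trunc n) //
        ξ₂.app _ ψ = f.app _ (ξ₁.app _ (R₁.truncHom n)) }),
        ∃ ψ' : { ψ : ArtFun.HomSet R₂.carrier R₂.res (R₁.trunc (n + 1)) //
          ξ₂.app _ ψ = f.app _ (ξ₁.app _ (R₁.truncHom (n + 1))) },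
          ArtFun.HomSet.map (R₁.truncMap n) ψ'.1 = ψ.1 := fun n ψ => by
      have hsurj' : Function.Surjective (R₁.truncMap n) := fun x => by
        obtain ⟨r, rfl⟩ := ArtLib.truncHom_surjective R₁ n x
        exact ⟨(R₁.truncHom (n + 1)).1 r, rfl⟩
      obtain ⟨ψ', h₁, h₂⟩ := hξ₂ (R₁.truncMap n) hsurj' ψ.1
        (f.app _ (ξ₁.app _ (R₁.truncHom (n + 1)))) (by
          rw [← ArtLib.nat_app, ← ξ₁.natural, ArtFun.CRing.truncMap_truncHom, ψ.2])
      exact ⟨⟨ψ', h₂⟩, h₁⟩
    choose nx hnx using step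
    obtain ⟨ψ₀, hψ₀⟩ := hsurj _ (f.app _ (ξ₁.app _ (R₁.truncHom 0)))
    exact ⟨fun n => Nat.rec (motive := fun n => { ψ : ArtFun.HomSet R₂.carrier R₂.res (R₁.trunc n) //
      ξ₂.app _ ψ = f.app _ (ξ₁.app _ (R₁.truncHom n)) }) ⟨ψ₀, hψ₀⟩ (fun n ψ => nx n ψ) n,
      fun n => hnx n _⟩
  obtain ⟨g, hg, hgφ⟩ := ArtLib.exists_hom_of_compatible R₁ (fun n => (u n).1) hu
  refine ⟨g, hg, fun A v => ?_⟩
  obtain ⟨N, hN⟩ := ArtLib.exists_trunc_factor R₁ v
  obtain ⟨t, rfl⟩ := hN N le_rfl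
  rw [(ξ₂.along g hg).natural, ξ₁.natural, ArtLib.nat_app, ← (u N).2]
  exact congrArg (fun ψ => F₂.map t (ξ₂.app _ ψ)) (ArtLib.homSet_ext fun s => hgφ N s)

end Groth.Agent.S12301
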