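import Groth.Statements.S12304
import Groth.Agent.ArtLib.Hull
import Mathlib.AlgebraicGeometry.Stalk
-- import your own Groth.Agent.* helpers here

set_option autoImplicit false
universe u
open CategoryTheory CategoryTheory.Limits AlgebraicGeometry
open ArtFun

namespace Groth.Agent.S12304

/-- A complete ring with the same maps to local Artinian algebras. -/
theorem exists_cring_equiv {k : Type u} [Field k] (O : Type u) [CommRing O] [IsNoetherianRing O] [Algebra k O]
    (res : O →ₐ[k] k) :
    ∃ (R : CRing k k) (ι : O →ₐ[k] R.carrier), ∀ A : Art k k, ∃ e : HomSet R.carrier R.res A ≃ HomSet O res A,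
      ∀ φ o, (e φ).1 o = φ.1 (ι o) := by
  have hres : Function.Surjective res := fun c => ⟨algebraMap k O c, res.commutes c⟩
  let J : ℕ → Ideal O := fun q => RingHom.ker (res : O →+* k) ^ (q + 1)
  have hJ : ∀ q, ArtLib.IsSub res (J q) := fun q => ArtLib.isSub_pow (Nat.succ_ne_zero q)
  have hanti : ∀ q, J (q + 1) ≤ J q := fun q => Ideal.pow_le_pow_right (Nat.le_succ _)
  obtain ⟨R, π, hπ, hπsurj, hlim, hker, -⟩ := ArtLib.exists_limit_ring hres J hJ hanti
  have hex : ∀ o : O, ∃! s : R.carrier, ∀ q, (π q).1 s = (ArtLib.pqMk hres (hJ q)).1 o :=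
    fun o => hlim (fun _ => o) fun q => by rw [sub_self]; exact zero_mem _
  let f : O → R.carrier := fun o => (hex o).exists.choose
  have hf : ∀ o q, (π q).1 (f o) = (ArtLib.pqMk hres (hJ q)).1 o := fun o => (hex o).exists.choose_spec
  have huniq : ∀ o s, (∀ q, (π q).1 s = (ArtLib.pqMk hres (hJ q)).1 o) → f o = s :=
    fun o s hs => (hex o).unique (hf o) hs
  let ι : O →ₐ[k] R.carrier :=
    { toFun := f
      map_one' := huniq 1 1 fun q => by rw [map_one, map_one]
      map_mul' := fun a b => huniq (a * b) _ fun q => by rw [map_mul, map_mul, hf, hf]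
      map_zero' := huniq 0 0 fun q => by rw [map_zero, map_zero]
      map_add' := fun a b => huniq (a + b) _ fun q => by rw [map_add, map_add, hf, hf]
      commutes' := fun c => huniq _ _ fun q => by rw [AlgHom.commutes, AlgHom.commutes] }
  have hιres : R.res.comp ι = res := AlgHom.ext fun o => by
    change R.res (f o) = res o
    rw [← ArtLib.homSet_res (π 0), hf, ArtLib.homSet_res]
  have hπι : ∀ q o, (π q).1 (ι o) = (ArtLib.pqMk hres (hJ q)).1 o := fun q o => hf o q
  refine ⟨R, ι, fun A => ⟨Equiv.ofBijective (fun φ => (⟨φ.1.comp ι, by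
    rw [← AlgHom.comp_assoc, φ.2, hιres]⟩ : HomSet O res A)) ⟨fun φ φ' h => ?_, fun ψ => ?_⟩,
    fun φ o => rfl⟩⟩
  · obtain ⟨n, hn⟩ := ArtLib.homSet_pow φ
    obtain ⟨n', hn'⟩ := ArtLib.homSet_pow φ'
    obtain ⟨q, hq⟩ := hker (n + n')
    rw [← ArtLib.ker_res_eq R] at hq
    obtain ⟨g, hg, -⟩ := ArtLib.exists_factor R φ (π q) (hπsurj q) fun r hr =>
      hn r (Ideal.pow_le_pow_right (Nat.le_add_right n n') (hq (RingHom.mem_ker.2 hr)))
    obtain ⟨g', hg', -⟩ := ArtLib.exists_factor R φ' (π q) (hπsurj q) fun r hr =>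
      hn' r (Ideal.pow_le_pow_right (Nat.le_add_left n' n) (hq (RingHom.mem_ker.2 hr)))
    rw [← hg, ← hg']
    congr 1
    refine ArtLib.pq_hom_ext hres fun o => ?_
    rw [← hπι]
    have h1 : φ.1 (ι o) = φ'.1 (ι o) := congrArg (fun t : HomSet O res A => t.1 o) h
    rw [← hg, ← hg'] at h1
    exact h1
  · obtain ⟨n, hn⟩ := ArtLib.homSet_pow ψ
    let g := ArtLib.pqLift hres (hJ n) ψ fun o ho => hn o (Ideal.pow_le_pow_right (Nat.le_succ n) ho)
    refine ⟨HomSet.map g (π n), Subtype.ext (AlgHom.ext fun o => ?_)⟩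
    change g ((π n).1 (ι o)) = ψ.1 o
    rw [hπι]
    rfl

/-- Let k be an algebraically closed field, M a locally Noetherian k-scheme and x₀ : Spec k → M a
k-rational point. For a local Artinian k-algebra A with residue field k consider the k-morphisms
Spec A → M whose restriction along the closed point Spec k → Spec A is x₀ (the local functor of M at
x₀, a morphism A → B acting by composition with Spec B → Spec A). This functor is pro-representable:
there are a complete local Noetherian k-algebra R with residue field k and bijections, natural in A,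
between the augmentation-compatible k-algebra maps R → A and these morphisms. (The published
statement is phrased for the fine moduli scheme M of a moduli problem, whose local functor at the
point of a given object is this one; M is taken locally Noetherian here so that the coefficient ring
is Noetherian.) -/
theorem result
    {k : Type u} [Field k] [IsAlgClosed k] (M : Scheme.{u}) (m : M ⟶ Spec (CommRingCat.of k))
    [IsLocallyNoetherian M] (x₀ : Spec (CommRingCat.of k) ⟶ M) (hx₀ : x₀ ≫ m = 𝟙 _) :
    ∃ (R : ArtFun.CRing k k)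
      (e : ∀ A : ArtFun.Art k k, ArtFun.HomSet R.carrier R.res A ≃
        {g : ArtFun.Art.spec A ⟶ M // g ≫ m = ArtFun.Art.specMap (ArtFun.Art.ofBase A) ∧ ArtFun.Art.specRes A ≫ g = x₀}),
      ∀ (A B : ArtFun.Art k k) (h : A ⟶ B) (φ : ArtFun.HomSet R.carrier R.res A),
        ((e B) (ArtFun.HomSet.map h φ)).1 = ArtFun.Art.specMap h ≫ ((e A) φ).1 := by
  let x := x₀ (IsLocalRing.closedPoint k)
  let ι : CommRingCat.of k ⟶ M.presheaf.stalk x := Spec.preimage (M.fromSpecStalk x ≫ m)
  letI : Algebra k (M.presheaf.stalk x) := ι.hom.toAlgebra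
  let r : M.presheaf.stalk x ⟶ CommRingCat.of k := Scheme.stalkClosedPointTo x₀
  have hr0 : Spec.map r ≫ M.fromSpecStalk x = x₀ := Scheme.Spec_stalkClosedPointTo_fromSpecStalk x₀
  have hιr : ι ≫ r = 𝟙 _ := Spec.map_injective (by
    rw [Spec.map_comp, Spec.map_preimage, ← Category.assoc, hr0, hx₀, Spec.map_id])
  let res : M.presheaf.stalk x →ₐ[k] k :=
    { r.hom with commutes' := fun c => RingHom.congr_fun (congrArg CommRingCat.Hom.hom hιr) c }
  haveI : IsLocalHom r.hom := Scheme.isLocalHom_stalkClosedPointTo' x₀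
  obtain ⟨R, _, he⟩ := exists_cring_equiv (M.presheaf.stalk x) res
  choose e₁ he₁ using he
  have hcl : ∀ A : Art k k, (Art.specRes A) (IsLocalRing.closedPoint k) = IsLocalRing.closedPoint A := by
    intro A
    haveI : IsLocalHom A.res.toRingHom := IsLocalHom.of_surjective _ A.res_surjective
    exact IsLocalRing.comap_closedPoint A.res.toRingHom
  have hm : ∀ (A : Art k k) (φ : HomSet (M.presheaf.stalk x) res A),
      (Spec.map (CommRingCat.ofHom φ.1.toRingHom) ≫ M.fromSpecStalk x) ≫ m = Art.specMap (Art.ofBase A) ∧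
      Art.specRes A ≫ Spec.map (CommRingCat.ofHom φ.1.toRingHom) ≫ M.fromSpecStalk x = x₀ := by
    intro A φ
    refine ⟨?_, ?_⟩
    · rw [Category.assoc, show M.fromSpecStalk x ≫ m = Spec.map ι from (Spec.map_preimage _).symm,
        ← Spec.map_comp]
      exact congrArg Spec.map (CommRingCat.hom_ext (RingHom.ext fun c => φ.1.commutes c))
    · rw [← Category.assoc, ← Spec.map_comp]
      refine Eq.trans ?_ hr0
      exact congrArg (fun t => Spec.map t ≫ M.fromSpecStalk x)
        (CommRingCat.hom_ext (RingHom.ext fun o => ArtLib.homSet_res φ o))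
  have hloc : ∀ (A : Art k k) (φ : HomSet (M.presheaf.stalk x) res A),
      IsLocalHom (CommRingCat.ofHom φ.1.toRingHom).hom := fun A φ => ⟨fun a ha => by
    have h := ha.map A.res.toRingHom
    rw [show A.res.toRingHom ((CommRingCat.ofHom φ.1.toRingHom).hom a) = r.hom a from
      ArtLib.homSet_res φ a] at h
    exact isUnit_of_map_unit r.hom a h⟩
  let F : ∀ A : Art k k, HomSet (M.presheaf.stalk x) res A →
      {g : Art.spec A ⟶ M // g ≫ m = Art.specMap (Art.ofBase A) ∧ Art.specRes A ≫ g = x₀} :=
    fun A φ => ⟨Spec.map (CommRingCat.ofHom φ.1.toRingHom) ≫ M.fromSpecStalk x, hm A φ⟩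
  have hF : ∀ A, Function.Bijective (F A) := by
    intro A
    refine ⟨fun φ φ' h => ?_, fun ⟨g, hg1, hg2⟩ => ?_⟩
    · have h2 := (SpecToEquivOfLocalRing M (CommRingCat.of A)).symm.injective
        (a₁ := ⟨x, CommRingCat.ofHom φ.1.toRingHom, hloc A φ⟩)
        (a₂ := ⟨x, CommRingCat.ofHom φ'.1.toRingHom, hloc A φ'⟩) (congrArg Subtype.val h)
      have h3 := congrArg Subtype.val (eq_of_heq (Sigma.mk.inj h2).2)
      exact Subtype.ext (AlgHom.ext fun o => RingHom.congr_fun (congrArg CommRingCat.Hom.hom h3) o)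
    · obtain ⟨⟨y, f, hf⟩, rfl⟩ := (SpecToEquivOfLocalRing M (CommRingCat.of A)).symm.surjective g
      have hy : y = x := by
        refine (Eq.trans (congrArg (fun t : Spec (CommRingCat.of k) ⟶ M => t (IsLocalRing.closedPoint k)) hg2.symm) ?_).symm
        refine (Scheme.Hom.comp_apply _ _ _).trans ?_
        refine (congrArg _ (hcl A)).trans ?_
        refine (Scheme.Hom.comp_apply (Spec.map f) (M.fromSpecStalk y) _).trans ?_
        haveI := hf
        exact (congrArg (M.fromSpecStalk y) (IsLocalRing.comap_closedPoint f.hom)).trans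
          Scheme.fromSpecStalk_closedPoint
      subst hy
      haveI := hf
      have hιf : ι ≫ f = CommRingCat.ofHom (algebraMap k A) := Spec.map_injective (by
        rw [Spec.map_comp, show Spec.map ι = M.fromSpecStalk x ≫ m from Spec.map_preimage _,
          ← Category.assoc]
        exact hg1)
      let φ : M.presheaf.stalk x →ₐ[k] A :=
        { f.hom with commutes' := fun c => RingHom.congr_fun (congrArg CommRingCat.Hom.hom hιf) c }
      have hlr : IsLocalHom (f ≫ CommRingCat.ofHom A.res.toRingHom).hom := by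
        haveI : IsLocalHom A.res.toRingHom := IsLocalHom.of_surjective _ A.res_surjective
        exact RingHom.isLocalHom_comp A.res.toRingHom f.hom
      have hres' : f ≫ CommRingCat.ofHom A.res.toRingHom = r := by
        have hEq : Spec.map (f ≫ CommRingCat.ofHom A.res.toRingHom) ≫ M.fromSpecStalk x =
            Spec.map r ≫ M.fromSpecStalk x := by
          rw [Spec.map_comp, Category.assoc, hr0]
          exact hg2
        have h2 := (SpecToEquivOfLocalRing M (CommRingCat.of k)).symm.injective
          (a₁ := ⟨x, f ≫ CommRingCat.ofHom A.res.toRingHom, hlr⟩) (a₂ := ⟨x, r, inferInstance⟩) hEq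
        exact congrArg Subtype.val (eq_of_heq (Sigma.mk.inj h2).2)
      exact ⟨⟨φ, AlgHom.ext fun o => RingHom.congr_fun (congrArg CommRingCat.Hom.hom hres') o⟩, rfl⟩
  refine ⟨R, fun A => (e₁ A).trans (Equiv.ofBijective (F A) (hF A)), fun A B h φ => ?_⟩
  change Spec.map (CommRingCat.ofHom (e₁ B (HomSet.map h φ)).1.toRingHom) ≫ M.fromSpecStalk x =
    Art.specMap h ≫ Spec.map (CommRingCat.ofHom (e₁ A φ).1.toRingHom) ≫ M.fromSpecStalk x
  rw [← Category.assoc, ← Spec.map_comp]
  refine congrArg (fun t => Spec.map t ≫ M.fromSpecStalk x) (CommRingCat.hom_ext (RingHom.ext fun o => ?_))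
  exact (he₁ B _ o).trans (congrArg h (he₁ A φ o)).symm

end Groth.Agent.S12304
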