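import Groth.Statements.S12306
import Groth.Agent.CotTLib.Rigid

set_option autoImplicit false
universe u
open CotT

namespace Groth.Agent.S12306

/-- Let k be an algebraically closed field and B₀ a finitely generated k-algebra which is not smooth
over k and is rigid, in the sense that the cotangent module T¹(B₀/k, B₀) (from the choice-free
presentation) vanishes. Let A be a finitely generated k-algebra which is a domain, smooth over k of
Krull dimension one, t ∈ A an element generating a maximal ideal, and B a finitely generated flat
A-algebra, a k-algebra compatibly with A, whose fibre B/tB is k-isomorphic to B₀. Then this family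
does not smooth Spec B₀: there is a prime of B not containing t at which B is not smooth over A.
(The published statement asserts that a singular rigid scheme admits no smoothing by any flat
family; this row states it for flat families with affine total space over an affine nonsingular
curve whose point is cut out by one equation.) -/
theorem result
    {k : Type u} [Field k] [IsAlgClosed k] (B₀ : Type u) [CommRing B₀] [Algebra k B₀] [Algebra.FiniteType k B₀]
    (hsing : ¬ Algebra.Smooth k B₀) (hrigid : Subsingleton (CotT.T1 (CotT.canon k B₀) B₀))
    (A B : Type u) [CommRing A] [CommRing B] [IsDomain A] [Algebra k A] [Algebra.FiniteType k A]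
    [Algebra.Smooth k A] (hdim : ringKrullDim A = 1) (t : A) (ht : (Ideal.span {t}).IsMaximal)
    [Algebra A B] [Algebra.FiniteType A B] [Module.Flat A B] [Algebra k B] [IsScalarTower k A B]
    (e : (B ⧸ Ideal.span {algebraMap A B t}) ≃ₐ[k] B₀) :
    ∃ q : PrimeSpectrum B, algebraMap A B t ∉ q.asIdeal ∧ q ∉ Algebra.smoothLocus A B := by
  by_contra hcon
  push Not at hcon
  haveI : IsNoetherianRing A := Algebra.FiniteType.isNoetherianRing k A
  haveI : Algebra.FinitePresentation A B := Algebra.FinitePresentation.of_finiteType.1 inferInstance
  haveI : Algebra.FormallySmooth A (Localization.Away (algebraMap A B t)) :=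
    Algebra.basicOpen_subset_smoothLocus_iff.1 fun q hq => hcon q hq
  obtain ⟨n, hw⟩ := CotTLib.exists_weak_pow (A := A) (B := B) t
  have ht0 : t ≠ 0 := by
    rintro rfl
    haveI : Ring.KrullDimLE 0 A := by
      have hF : IsField A := by
        by_contra hF
        exact (Ring.ne_bot_of_isMaximal_of_not_isField ht hF) Ideal.span_singleton_zero
      letI := hF.toField
      infer_instance
    have := Ring.krullDimLE_iff.1 this
    rw [hdim] at this
    exact absurd this (by decide)
  have hreg : algebraMap A B t ∈ nonZeroDivisors B :=
    mem_nonZeroDivisors_iff_right.2 fun x hx => by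
      have h1 : IsSMulRegular B (algebraMap A B t) :=
        IsSMulRegular.of_flat (fun u v h => mul_left_cancel₀ ht0 h)
      exact h1 (show algebraMap A B t • x = algebraMap A B t • 0 by
        rw [smul_eq_mul, smul_zero, mul_comm]; exact hx)
  haveI := hrigid
  exact hsing ⟨CotTLib.formallySmooth_of_rigid_of_weak ht ht0 hreg e hw,
    Algebra.FinitePresentation.of_finiteType.1 inferInstance⟩

end Groth.Agent.S12306
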