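import Groth.Statements.S12308
import Groth.Agent.DefGlueLib.Hfin
import Groth.Agent.S12732

set_option autoImplicit false
universe u
open CategoryTheory AlgebraicGeometry
open SGA7

namespace Groth.Agent.S12308

/-- Suppose Λ is a Noetherian local ring, complete for its maximal ideal, whose residue field is k (so
the map Λ → k is surjective), and work with functors on local Artinian Λ-algebras having residue
field k. Take X₀ to be an affine scheme of finite type over k, together with an open subscheme U ⊆
X₀ that is smooth over k and has finite complement (thus X₀ fails to be smooth at only finitely many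
points). Under these assumptions the deformation functor of X₀, which sends A to isomorphism classes
of schemes flat over Spec A whose closed fibre is X₀, has a hull; equivalently, there is a
miniversal family defined over a complete local Noetherian Λ-algebra with residue field k. -/
theorem result (Λ k : Type u) [CommRing Λ] [IsLocalRing Λ] [IsNoetherianRing Λ]
    [IsAdicComplete (IsLocalRing.maximalIdeal Λ) Λ] [Field k] [Algebra Λ k]
    (hk : Function.Surjective (algebraMap Λ k))
    (X : Scheme.{u}) [IsAffine X] (x : X ⟶ Spec (CommRingCat.of k)) [LocallyOfFiniteType x]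
    (U : X.Opens) (hU : Smooth (U.ι ≫ x)) (hfin : ((U : Set X)ᶜ).Finite) :
    ArtFun.HasHull (ArtFun.defFunctor (Λ := Λ) X x) := by
  have : Module.Finite Λ k := Module.Finite.of_surjective (Algebra.linearMap Λ k) hk
  have hd : Subsingleton (Derivation Λ k k) := ⟨fun a b => Derivation.ext fun c => by
    obtain ⟨l, rfl⟩ := hk c
    rw [Derivation.map_algebraMap, Derivation.map_algebraMap]⟩
  let e : Spec Γ(X, ⊤) ≅ X := X.isoSpec.symm
  letI alg : Algebra k Γ(X, ⊤) := (Spec.preimage (e.hom ≫ x)).hom.toAlgebra
  have he : e.hom ≫ x = Spec.map (CommRingCat.ofHom (algebraMap k Γ(X, ⊤))) :=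
    (Spec.map_preimage (e.hom ≫ x)).symm
  have hft : LocallyOfFiniteType (Spec.map (CommRingCat.ofHom (algebraMap k Γ(X, ⊤)))) := by
    rw [← he]; infer_instance
  have : Algebra.FiniteType k Γ(X, ⊤) :=
    RingHom.finiteType_algebraMap.1 ((HasRingHomProperty.Spec_iff (P := @LocallyOfFiniteType)).1 hft)
  have : Algebra.FinitePresentation k Γ(X, ⊤) := Algebra.FinitePresentation.of_finiteType.1 inferInstance
  have hsm : ∀ p : PrimeSpectrum Γ(X, ⊤), e.hom p ∈ U → p ∈ Algebra.smoothLocus k Γ(X, ⊤) := by
    intro p hp
    obtain ⟨_, ⟨_, ⟨g, rfl⟩, rfl⟩, hpg, hg⟩ := PrimeSpectrum.isBasis_basic_opens.exists_subset_of_mem_open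
      (u := (e.hom ⁻¹ᵁ U).carrier) hp (e.hom ⁻¹ᵁ U).2
    let j := Spec.map (CommRingCat.ofHom (algebraMap Γ(X, ⊤) (Localization.Away (g : Γ(X, ⊤)))))
    have hj : IsOpenImmersion j := IsOpenImmersion.of_isLocalization (g : Γ(X, ⊤))
    have hr : Set.range (j ≫ e.hom) ⊆ Set.range U.ι := by
      rintro _ ⟨q, rfl⟩
      rw [Scheme.Opens.range_ι]
      exact hg ((PrimeSpectrum.localization_away_comap_range (Localization.Away g) g).le ⟨q, rfl⟩)
    let l := IsOpenImmersion.lift U.ι (j ≫ e.hom) hr
    have hl : IsOpenImmersion l := by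
      have h : IsOpenImmersion (l ≫ U.ι) := by
        rw [IsOpenImmersion.lift_fac]; infer_instance
      exact IsOpenImmersion.of_comp l U.ι
    have h2 : Smooth (Spec.map (CommRingCat.ofHom (algebraMap k (Localization.Away (g : Γ(X, ⊤)))))) := by
      have h3 : Spec.map (CommRingCat.ofHom (algebraMap k (Localization.Away (g : Γ(X, ⊤))))) = l ≫ U.ι ≫ x := by
        rw [← Category.assoc, IsOpenImmersion.lift_fac, Category.assoc, he, ← Spec.map_comp, ← CommRingCat.ofHom_comp,
          ← IsScalarTower.algebraMap_eq]
      rw [h3]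
      exact MorphismProperty.comp_mem _ l (U.ι ≫ x) inferInstance hU
    have : Algebra.Smooth k (Localization.Away (g : Γ(X, ⊤))) :=
      RingHom.smooth_algebraMap.1 ((HasRingHomProperty.Spec_iff (P := @Smooth)).1 h2)
    exact Algebra.basicOpen_subset_smoothLocus_iff_smooth.2 this hpg
  have hns : ((Algebra.smoothLocus k Γ(X, ⊤))ᶜ).Finite :=
    (hfin.preimage e.hom.isOpenEmbedding.injective.injOn).subset fun p hp hpU => hp (hsm p hpU)
  let P := (Algebra.Presentation.ofFinitePresentation k Γ(X, ⊤)).reindex Equiv.ulift.{u} Equiv.ulift.{u}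
  have := DefGlueLib.finite_T1_of_finite_nonsmooth P hns
  obtain ⟨T⟩ := ArtLib.nonempty_tangentStr (DefGlueLib.h0_defFunctor (Λ := Λ) (x := x)) DefGlueLib.heps_defFunctor
  exact Groth.Agent.S12732.result hd _ DefGlueLib.h0_defFunctor DefGlueLib.s1_defFunctor DefGlueLib.heps_defFunctor
    (DefGlueLib.hfin P e he)

end Groth.Agent.S12308
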