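import Groth.Statements.S12316
import Groth.Agent.ArtLib.Easy

set_option autoImplicit false
universe u v
open CategoryTheory
open SGA7

namespace Groth.Agent.S12316

/-- Suppose Λ is a Noetherian local ring, complete for its maximal ideal, whose residue field is k (so Λ
→ k is surjective), and work with functors defined on the category of local Artinian Λ-algebras
having residue field k. Take morphisms φ : F → G and ψ : G → H of such functors. Assume that each of
F(k), G(k), H(k) consists of a single point; that for G the comparison map on fibre products A₁ ×_A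
A₂ is surjective as soon as A₂ → A is surjective, and is bijective for products of the form A' ×_k
k[ε]; that for H the comparison map is bijective on every fibre product A₁ ×_A A₂ with A₂ → A
surjective; and that the induced map on tangent spaces G(k[ε]) → H(k[ε]) coming from ψ is injective.
Under these assumptions, φ ≫ ψ is smooth if and only if both φ and ψ are smooth. (The published
statement is for functors of cofibred groupoids with G semi-homogeneous and H homogeneous; this row
is the case of set-valued functors.) -/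
theorem result (Λ k : Type u) [CommRing Λ] [IsLocalRing Λ] [IsNoetherianRing Λ]
    [IsAdicComplete (IsLocalRing.maximalIdeal Λ) Λ] [Field k] [Algebra Λ k]
    (hk : Function.Surjective (algebraMap Λ k))
    {F G H : ArtFun.Art Λ k ⥤ Type v} (φ : F ⟶ G) (ψ : G ⟶ H)
    (hF : ArtFun.H0 F) (hG : ArtFun.H0 G ∧ ArtFun.S1 G ∧ ArtFun.Heps G) (hH0 : ArtFun.H0 H)
    (hH : ∀ ⦃B A A' A'' : ArtFun.Art Λ k⦄ (p' : B ⟶ A') (p'' : B ⟶ A'') (f' : A' ⟶ A) (f'' : A'' ⟶ A)
      (h : ArtFun.Art.IsFibreProd p' p'' f' f''), Function.Surjective f'' → Function.Bijective (ArtFun.cmp H h))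
    (hψ : Function.Injective (ArtFun.TangentSpace.map ψ)) :
    ArtFun.IsSmooth (φ ≫ ψ) ↔ (ArtFun.IsSmooth φ ∧ ArtFun.IsSmooth ψ) := by
  haveI := ArtLib.finite_of_surjective hk
  simp only [← ArtLib.isSmoothMap_ofNat]
  constructor
  · intro h
    have hφ : ArtLib.IsSmoothMap (ArtLib.NatMap.ofNat φ) :=
      ArtLib.isSmoothMap_of_smallExt _ fun B A μ hμ x y e => by
        have e' : φ.app A x = G.map μ y := e
        obtain ⟨z, hz, hz'⟩ := h μ hμ.1 x (ψ.app B y)
          (show ψ.app A (φ.app A x) = H.map μ (ψ.app B y) by rw [e', ArtLib.nat_app])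
        refine ⟨z, hz, ?_⟩
        exact ArtLib.inj_step (ArtLib.NatMap.ofNat ψ) (ArtLib.hbar_of_s1 hG.2.1) hG.2.2
          (fun _ _ _ _ _ _ h hs => hH _ _ _ _ h hs.1) hψ hμ
          (by rw [show G.map μ (φ.app B z) = φ.app A x by rw [← ArtLib.nat_app, hz]]; exact e') hz'
    refine ⟨hφ, fun B A μ hμ g y e => ?_⟩
    obtain ⟨x, hx⟩ := ArtLib.surjective_of_isSmoothMap _ hφ (fun g₀ => by
      obtain ⟨a⟩ := hF.1
      exact ⟨a, hG.1.2.elim _ _⟩) A g
    have hx' : φ.app A x = g := hx
    obtain ⟨z, hz, hz'⟩ := h μ hμ x y (show ψ.app A (φ.app A x) = H.map μ y by rw [hx']; exact e)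
    exact ⟨φ.app B z, by rw [← ArtLib.nat_app, hz, hx'], hz'⟩
  · rintro ⟨hφ, hψ'⟩ B A μ hμ x y e
    obtain ⟨g, hg, hg'⟩ := hψ' μ hμ (φ.app A x) y e
    obtain ⟨z, hz, hz'⟩ := hφ μ hμ x g hg.symm
    have hz'' : φ.app B z = g := hz'
    exact ⟨z, hz, show ψ.app B (φ.app B z) = y by rw [hz'']; exact hg'⟩

end Groth.Agent.S12316
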