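import Groth.Statements.S12320
import Groth.Agent.ArtLib.Torsor
-- import your own Groth.Agent.* helpers here

set_option autoImplicit false
universe u v
open CategoryTheory
open SGA7

namespace Groth.Agent.S12320

/-- Suppose Λ is a Noetherian local ring, complete for its maximal ideal, whose residue field is k (so
that Λ → k is onto), and work with functors defined on the category of local Artinian Λ-algebras
having residue field k. Take such a functor F for which F(k) is a singleton, for which the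
comparison map F(A₁ ×_A A₂) → F(A₁) ×_{F(A)} F(A₂) is surjective as soon as A₂ → A is surjective,
and for which this map is bijective in the case A' ×_k k[ε]. Call an element a ∈ F(R) versal for
small prolongations of the base point when, given any object R₀ whose augmentation R₀ → k is a small
extension and any b ∈ F(R₀), some morphism R → R₀ sends a to b. Assume a ∈ F(R) has this versality
property, that π₁ : R₁ → R is a small extension together with a₁ ∈ F(R₁) whose image is a, and that
g : R' → R is a morphism together with a' ∈ F(R') whose image is a. Then a morphism f : R' → R₁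
satisfying f ≫ π₁ = g and sending a' to a₁ exists exactly when some morphism f : R' → R₁ satisfying
f ≫ π₁ = g exists at all. (The published statement concerns semi-homogeneous cofibred groupoids;
this row treats only the set-valued functor case.) -/
theorem result (Λ k : Type u) [CommRing Λ] [IsLocalRing Λ] [IsNoetherianRing Λ]
    [IsAdicComplete (IsLocalRing.maximalIdeal Λ) Λ] [Field k] [Algebra Λ k]
    (hk : Function.Surjective (algebraMap Λ k))
    (F : ArtFun.Art Λ k ⥤ Type v) (hF : ArtFun.H0 F ∧ ArtFun.S1 F ∧ ArtFun.Heps F)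
    {R R₁ R' : ArtFun.Art Λ k} (π₁ : R₁ ⟶ R) (hπ : ArtFun.Art.IsSmallExt π₁) (g : R' ⟶ R)
    (a : F.obj R) (a₁ : F.obj R₁) (a' : F.obj R') (h₁ : F.map π₁ a₁ = a) (h' : F.map g a' = a)
    (hvers : ∀ (R₀ : ArtFun.Art Λ k), ArtFun.Art.IsSmallExt (ArtFun.Art.toBase R₀) →
      ∀ b : F.obj R₀, ∃ φ : R ⟶ R₀, F.map φ a = b) :
    (∃ f : R' ⟶ R₁, f ≫ π₁ = g ∧ F.map f a' = a₁) ↔ (∃ f : R' ⟶ R₁, f ≫ π₁ = g) := by
  haveI : Module.Finite Λ k := Module.Finite.of_surjective (Algebra.linearMap Λ k) hk
  refine ⟨fun ⟨f, hf, _⟩ => ⟨f, hf⟩, fun ⟨f, hf⟩ => ?_⟩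
  obtain ⟨t, P, q₁, q₂, act, -, hP, hsq, -, -⟩ := ArtLib.exists_act_square hπ
  obtain ⟨z, hz₁, hz₂⟩ := (ArtLib.cmp_surjective_iff F hsq).1 (hF.2.1 _ _ _ _ hsq hπ.1)
    (F.map f a') a₁ (by rw [← ArtLib.map_comp_apply, hf, h', h₁])
  have hdual : ArtFun.Art.IsSmallExt (ArtFun.Art.toBase (ArtFun.Art.dual Λ k)) := by
    have hfst : ∀ x : DualNumber k, x ∈ RingHom.ker (ArtFun.Art.toBase (ArtFun.Art.dual Λ k)).toAlgHom ↔
        x.fst = 0 := fun x => Iff.rfl
    refine ⟨ArtLib.toBase_surjective _, fun h => ?_, ⟨⟨(DualNumber.eps : DualNumber k), ?_⟩⟩, ?_⟩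
    · have h2 : (DualNumber.eps : DualNumber k) = 0 :=
        (Submodule.eq_bot_iff _).1 h _ ((hfst _).2 rfl)
      exact one_ne_zero (congrArg TrivSqZeroExt.snd h2)
    · refine le_antisymm (fun x hx => Ideal.mem_span_singleton.2
        ⟨(TrivSqZeroExt.inl x.snd : DualNumber k), TrivSqZeroExt.ext ?_ ?_⟩)
        ((Ideal.span_singleton_le_iff_mem _).2 ((hfst _).2 rfl))
      · refine ((hfst x).1 hx).trans ?_
        change (0 : k) = 0 * x.snd
        rw [zero_mul]
      · change x.snd = 0 • (0 : k) + MulOpposite.op x.snd • (1 : k)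
        simp
    · rw [eq_bot_iff, Ideal.mul_le]
      intro x hx y hy
      have hx' : (x : DualNumber k).fst = 0 := (ArtFun.Art.mem_maximalIdeal_iff _ x).1 hx
      have hy' : (y : DualNumber k).fst = 0 := (hfst y).1 hy
      refine Ideal.mem_bot.2 (TrivSqZeroExt.ext ?_ ?_)
      · change (x : DualNumber k).fst * (y : DualNumber k).fst = 0
        rw [hx', zero_mul]
      · change (x : DualNumber k).fst • (y : DualNumber k).snd +
          MulOpposite.op (y : DualNumber k).fst • (x : DualNumber k).snd = 0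
        rw [hx', hy', MulOpposite.op_zero, zero_smul, zero_smul, add_zero]
  obtain ⟨φ, hφ⟩ := hvers _ hdual (F.map q₂ z)
  have hw : f ≫ ArtFun.Art.toBase R₁ = (g ≫ φ) ≫ ArtFun.Art.toBase _ := by
    rw [ArtFun.Art.eq_toBase (f ≫ ArtFun.Art.toBase R₁), ArtFun.Art.eq_toBase ((g ≫ φ) ≫ ArtFun.Art.toBase _)]
  have hz : F.map (ArtLib.fpLift hP f (g ≫ φ) hw) a' = z := by
    refine (ArtLib.cmp_injective_iff F hP).1 (hF.2.2 _ _ hP).1 _ _ ?_ ?_
    · rw [← ArtLib.map_comp_apply, ArtLib.fpLift_fst, hz₁]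
    · rw [← ArtLib.map_comp_apply, ArtLib.fpLift_snd, ArtLib.map_comp_apply, h', hφ]
  refine ⟨ArtLib.fpLift hP f (g ≫ φ) hw ≫ act, ?_, ?_⟩
  · rw [Category.assoc, ← hsq.w, ← Category.assoc, ArtLib.fpLift_fst, hf]
  · rw [ArtLib.map_comp_apply, hz, hz₂]

end Groth.Agent.S12320
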