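import Groth.Statements.S12321
import Groth.Agent.S12320
import Groth.Agent.ArtLib.Hull
import Groth.Agent.ArtLib.Essential
-- import your own Groth.Agent.* helpers here

set_option autoImplicit false
universe u v
open CategoryTheory
open SGA7

namespace Groth.Agent.S12321

/-- Suppose Λ is a Noetherian local ring that is complete, and k is its residue field, so the map Λ → k
is surjective. We look at functors on the category of local Artinian Λ-algebras whose residue field
is k. Take such a functor F for which F(k) is a single point, the comparison map F(A₁ ×_A A₂) →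
F(A₁) ×_{F(A)} F(A₂) is surjective whenever A₂ → A is surjective, and this map is bijective for A'
×_k k[ε]. Call an element a ∈ F(R) versal for small prolongations of the base point when, for each
object R₀ whose augmentation R₀ → k is a small extension and each b ∈ F(R₀), some morphism R → R₀
sends a to b. Assume a ∈ F(R) has this property. Then one can find an object R', a morphism q : R' →
R and an element a' ∈ F(R') whose image is a, satisfying the following. First, q is surjective and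
the maximal ideal annihilates its kernel. Second, q induces an isomorphism m_{R'}/(m_{R'}² + m_Λ R')
→ m_R/(m_R² + m_Λ R) between relative cotangent spaces (only injectivity is stated; surjectivity
comes for free). Third, a' is versal for small prolongations of a: given any small extension π₁ : R₁
→ R and any a₁ ∈ F(R₁) with image a, there is f : R' → R₁ satisfying f ≫ π₁ = q and sending a' to
a₁. (The published statement concerns semi-homogeneous cofibred groupoids; this row treats the case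
of set-valued functors.) -/
theorem result (Λ k : Type u) [CommRing Λ] [IsLocalRing Λ] [IsNoetherianRing Λ]
    [IsAdicComplete (IsLocalRing.maximalIdeal Λ) Λ] [Field k] [Algebra Λ k]
    (hk : Function.Surjective (algebraMap Λ k))
    (F : ArtFun.Art Λ k ⥤ Type v) (hF : ArtFun.H0 F ∧ ArtFun.S1 F ∧ ArtFun.Heps F)
    (R : ArtFun.Art Λ k) (a : F.obj R)
    (hvers : ∀ (R₀ : ArtFun.Art Λ k), ArtFun.Art.IsSmallExt (ArtFun.Art.toBase R₀) →
      ∀ b : F.obj R₀, ∃ φ : R ⟶ R₀, F.map φ a = b) :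
    ∃ (R' : ArtFun.Art Λ k) (q : R' ⟶ R) (a' : F.obj R'), F.map q a' = a ∧
      ArtFun.Art.IsSemismallExt q ∧
      (∀ x' : R', x' ∈ IsLocalRing.maximalIdeal (R' : Type u) →
        q x' ∈ (IsLocalRing.maximalIdeal (R : Type u)) ^ 2 ⊔ (IsLocalRing.maximalIdeal Λ).map (algebraMap Λ R) →
        x' ∈ (IsLocalRing.maximalIdeal (R' : Type u)) ^ 2 ⊔ (IsLocalRing.maximalIdeal Λ).map (algebraMap Λ R')) ∧
      ∀ (R₁ : ArtFun.Art Λ k) (π₁ : R₁ ⟶ R), ArtFun.Art.IsSmallExt π₁ →
        ∀ a₁ : F.obj R₁, F.map π₁ a₁ = a → ∃ f : R' ⟶ R₁, f ≫ π₁ = q ∧ F.map f a' = a₁ := by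
  haveI : Module.Finite Λ k := Module.Finite.of_surjective (Algebra.linearMap Λ k) hk
  haveI := ArtLib.finite_carrier (Λ := Λ) (k := k) R
  obtain ⟨n, v, hv⟩ := Module.Finite.exists_fin (R := Λ) (M := R)
  let φ : MvPolynomial (ULift.{u} (Fin n)) Λ →ₐ[Λ] R := MvPolynomial.aeval fun i => v i.down
  have hφ : Function.Surjective φ := fun r => by
    obtain ⟨c, rfl⟩ := (Submodule.mem_span_range_iff_exists_fun Λ).1 (hv ▸ Submodule.mem_top : r ∈ _)
    exact ⟨∑ i, c i • MvPolynomial.X ⟨i⟩, by simp [φ, map_sum]⟩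
  let resP : MvPolynomial (ULift.{u} (Fin n)) Λ →ₐ[Λ] k := R.res.comp φ
  have hres : Function.Surjective resP := R.res_surjective.comp hφ
  let J : Ideal (MvPolynomial (ULift.{u} (Fin n)) Λ) := RingHom.ker φ
  have hJ : ArtLib.IsSub resP J := by
    obtain ⟨N, hN⟩ := ArtLib.isNilpotent_maximalIdeal R
    refine ⟨fun p hp => ?_, N, fun p hp => ?_⟩
    · change R.res (φ p) = 0
      rw [RingHom.mem_ker.1 hp, map_zero]
    · have hle : (RingHom.ker (resP : MvPolynomial (ULift.{u} (Fin n)) Λ →+* k)).map φ ≤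
          IsLocalRing.maximalIdeal R :=
        Ideal.map_le_iff_le_comap.2 fun z hz => (ArtFun.Art.mem_maximalIdeal_iff R _).2 hz
      have h := Ideal.mem_map_of_mem φ hp
      rw [Ideal.map_pow] at h
      have h' := Ideal.pow_right_mono hle N h
      rw [hN] at h'
      exact h'
  let e : ArtLib.pq hres hJ ⟶ R := ArtLib.pqLift hres hJ ⟨φ, rfl⟩ fun _ ha => ha
  have he : Function.Bijective e := by
    refine ⟨(injective_iff_map_eq_zero e.toAlgHom).2 fun y hy => ?_, fun r => ?_⟩
    · obtain ⟨p, rfl⟩ := ArtLib.pqMk_surjective hres hJ y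
      exact (ArtLib.pqMk_eq_zero hres hJ).2 hy
    · obtain ⟨p, hp⟩ := hφ r
      exact ⟨(ArtLib.pqMk hres hJ).1 p, hp⟩
  haveI := (ArtLib.isIso_iff_bijective e).2 he
  obtain ⟨x, hx⟩ := (ArtLib.map_bijective F e he).2 a
  obtain ⟨J', hle, hJ', y, hy, hlift, htight⟩ :=
    ArtLib.exists_step hres (ArtLib.hasLift_mvPolynomial resP) hF.2.1 hJ x
  let J'' := J' ⊔ RingHom.ker (resP : MvPolynomial (ULift.{u} (Fin n)) Λ →+* k) * J
  have hle' : J'' ≤ J := sup_le hle Ideal.mul_le_right
  have hJ'' : ArtLib.IsSub resP J'' := ArtLib.isSub_of_le hJ hle' le_sup_right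
  let y'' := F.map (ArtLib.pqMap hres hJ'' hJ' le_sup_left) y
  have hy'' : F.map (ArtLib.pqMap hres hJ hJ'' hle') y'' = x := by
    rw [← ArtLib.map_comp_apply, ArtLib.pqMap_comp, hy]
  let q := ArtLib.pqMap hres hJ hJ'' hle' ≫ e
  have hqmk : ∀ p, q ((ArtLib.pqMk hres hJ'').1 p) = φ p := fun p => rfl
  have hqker : ∀ z ∈ RingHom.ker q.toAlgHom, ∃ p ∈ J, (ArtLib.pqMk hres hJ'').1 p = z := fun z hz => by
    obtain ⟨p, rfl⟩ := ArtLib.pqMk_surjective hres hJ'' z
    exact ⟨p, hz, rfl⟩
  have hqsurj : Function.Surjective q := fun r => by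
    obtain ⟨p, hp⟩ := hφ r
    exact ⟨(ArtLib.pqMk hres hJ'').1 p, hp⟩
  have hqa : F.map q y'' = a := by rw [ArtLib.map_comp_apply, hy'', hx]
  refine ⟨ArtLib.pq hres hJ'', q, y'', hqa, ⟨hqsurj, ?_⟩, fun x' _ hx2 => ?_, ?_⟩
  · rw [eq_bot_iff, Ideal.mul_le]
    intro u hu z hz
    obtain ⟨j, hj, rfl⟩ := hqker z hz
    obtain ⟨p, rfl⟩ := ArtLib.pqMk_surjective hres hJ'' u
    rw [ArtFun.Art.mem_maximalIdeal_iff, ArtLib.homSet_res] at hu
    rw [Ideal.mem_bot, ← map_mul, ArtLib.pqMk_eq_zero]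
    exact Ideal.mem_sup_right (Ideal.mul_mem_mul hu hj)
  · have hker : RingHom.ker (algebraMap Λ k) = IsLocalRing.maximalIdeal Λ :=
      IsLocalRing.eq_maximalIdeal (RingHom.ker_isMaximal_of_surjective _ hk)
    have hrel : ∀ A : ArtFun.Art Λ k, ArtLib.relSq A =
        (IsLocalRing.maximalIdeal (A : Type u)) ^ 2 ⊔ (IsLocalRing.maximalIdeal Λ).map (algebraMap Λ A) :=
      fun A => by rw [ArtLib.relSq, hker, sup_comm]
    rw [← hrel] at hx2 ⊢
    rw [← ArtLib.relSq_map_of_surjective q hqsurj, Ideal.mem_map_iff_of_surjective _ hqsurj] at hx2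
    obtain ⟨w, hw, hwx⟩ := hx2
    by_contra hx'
    have hd : x' - w ∈ RingHom.ker q.toAlgHom := by
      rw [RingHom.mem_ker, map_sub, sub_eq_zero]
      exact hwx.symm
    haveI : Algebra.IsSeparable (↥(algebraMap Λ k).range) k :=
      ⟨fun c => by
        obtain ⟨r, rfl⟩ := hk c
        let e := RingEquiv.ofBijective (algebraMap Λ k).range.subtype
          ⟨Subtype.val_injective, fun d => ⟨⟨d, hk d⟩, rfl⟩⟩
        letI : Field ↥(algebraMap Λ k).range :=
          (MulEquiv.isField (Field.toIsField k) e.toMulEquiv).toField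
        exact isSeparable_algebraMap (⟨algebraMap Λ k r, r, rfl⟩ : ↥(algebraMap Λ k).range)⟩
    obtain ⟨δ, hδ⟩ := ArtLib.exists_hom_dual_of_notMem_relSq (ArtLib.ker_le_maximalIdeal q hd)
      (fun h => hx' (by simpa using add_mem h hw))
    obtain ⟨j, hj, hjx⟩ := hqker _ hd
    have h0 := htight (ArtFun.HomSet.map δ (ArtLib.pqMk hres hJ'')) (fun r hr => by
      change δ ((ArtLib.pqMk hres hJ'').1 r) = 0
      rw [(ArtLib.pqMk_eq_zero hres hJ'').2 (Ideal.mem_sup_left hr), map_zero]) j hj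
    change δ ((ArtLib.pqMk hres hJ'').1 j) = 0 at h0
    rw [hjx] at h0
    exact hδ (by rw [h0]; rfl)
  · intro R₁ π₁ hπ a₁ ha₁
    have hp : ArtFun.Art.IsSmallExt (π₁ ≫ inv e) := by
      have hk2 : RingHom.ker (π₁ ≫ inv e).toAlgHom = RingHom.ker π₁.toAlgHom := by
        have hinj := ((ArtLib.isIso_iff_bijective (inv e)).1 inferInstance).1
        ext z
        rw [RingHom.mem_ker, RingHom.mem_ker]
        exact map_eq_zero_iff (inv e).toAlgHom hinj
      refine ⟨((ArtLib.isIso_iff_bijective (inv e)).1 inferInstance).2.comp hπ.1, ?_, ?_, ?_⟩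
      · rw [hk2]; exact hπ.2.1
      · rw [hk2]; exact hπ.2.2.1
      · rw [hk2]; exact hπ.2.2.2
    have hz : F.map (π₁ ≫ inv e) a₁ = x := by
      refine (ArtLib.map_bijective F e he).1 ?_
      rw [← ArtLib.map_comp_apply, Category.assoc, IsIso.inv_hom_id, Category.comp_id, ha₁, hx]
    obtain ⟨ψ, hψ, hψ0⟩ := hlift _ hp a₁ hz
    have hkill : ∀ r ∈ J'', ψ.1 r = 0 := by
      intro r hr
      refine (show J'' ≤ RingHom.ker ψ.1 from sup_le hψ0 (Ideal.mul_le.2 fun b hb c hc => ?_)) hr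
      have h1 : ψ.1 b ∈ IsLocalRing.maximalIdeal R₁ := by
        rw [ArtFun.Art.mem_maximalIdeal_iff, ArtLib.homSet_res]; exact hb
      have h2 : ψ.1 c ∈ RingHom.ker (π₁ ≫ inv e).toAlgHom := by
        change (π₁ ≫ inv e) (ψ.1 c) = 0
        rw [show (π₁ ≫ inv e) (ψ.1 c) = (ArtLib.pqMk hres hJ).1 c from
          AlgHom.congr_fun (congrArg Subtype.val hψ) c, ArtLib.pqMk_eq_zero]
        exact hc
      have h3 := Ideal.mul_mem_mul h1 h2
      rw [hp.2.2.2, Ideal.mem_bot] at h3
      rw [RingHom.mem_ker, map_mul]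
      exact h3
    have hf : ArtLib.pqLift hres hJ'' ψ hkill ≫ π₁ = q := by
      have h : ArtLib.pqLift hres hJ'' ψ hkill ≫ (π₁ ≫ inv e) = ArtLib.pqMap hres hJ hJ'' hle' :=
        ArtLib.pq_hom_ext hres fun r => AlgHom.congr_fun (congrArg Subtype.val hψ) r
      rw [show q = ArtLib.pqMap hres hJ hJ'' hle' ≫ e from rfl, ← h, Category.assoc, Category.assoc,
        IsIso.inv_hom_id, Category.comp_id]
    exact (Groth.Agent.S12320.result Λ k hk F hF π₁ hπ q a a₁ y'' ha₁ hqa hvers).2 ⟨_, hf⟩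

end Groth.Agent.S12321
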