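import Groth.Statements.S4790
import Groth.Agent.LimHomLib.Main
-- import your own Groth.Agent.* helpers here

set_option autoImplicit false
set_option backward.isDefEq.respectTransparency false
set_option linter.all false
universe u
open CategoryTheory AlgebraicGeometry
open Lim8

namespace Groth.Agent.S4790

/-- Let S = lim S_i be a cofiltered limit of schemes with affine transition maps and S_{i₀} a
quasi-compact quasi-separated stage; let F₀ and G₀ be quasi-coherent O-modules of finite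
presentation on S_{i₀}. Then the pullbacks of F₀ and G₀ along S ⟶ S_{i₀} are isomorphic if and only
if, for some index j over i₀, their pullbacks along S_j ⟶ S_{i₀} are isomorphic. -/
theorem result {I : Type u} [SmallCategory I] [IsCofiltered I]
    (D : I ⥤ Scheme.{u}) (c : Limits.Cone D) (hc : Limits.IsLimit c)
    [∀ (i j : I) (f : i ⟶ j), IsAffineHom (D.map f)] (i₀ : I) [CompactSpace (D.obj i₀)]
    [QuasiSeparatedSpace (D.obj i₀)] (F₀ G₀ : (D.obj i₀).Modules)
    [Coh.IsQCoh F₀] (hF₀fp : CohB1.IsFP F₀)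
    [Coh.IsQCoh G₀] (hG₀fp : CohB1.IsFP G₀) :
    Nonempty ((Scheme.Modules.pullback (c.π.app i₀)).obj F₀ ≅ (Scheme.Modules.pullback (c.π.app i₀)).obj G₀) ↔
      ∃ (j : I) (φ : j ⟶ i₀),
        Nonempty ((Scheme.Modules.pullback (D.map φ)).obj F₀ ≅ (Scheme.Modules.pullback (D.map φ)).obj G₀) := by
  constructor
  · rintro ⟨h⟩
    obtain ⟨φ, hj, he⟩ := LimHomLib.exists_hom hc F₀ G₀ hF₀fp h.hom
    let A := RichLib.LimBC.ofStage D c hc φ.left
    haveI : CompactSpace (D.obj φ.left) := (RichLib.LimBC.ofStage D c hc i₀).compactSpace_obj φ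
    haveI := KFlatLib.isQCoh_pullback (D.map φ.hom) F₀
    haveI := KFlatLib.isQCoh_pullback (D.map φ.hom) G₀
    have hG := RichLib.ModFlat.isFP_pullback (D.map φ.hom) hG₀fp
    have hiso : CategoryTheory.IsIso ((Scheme.Modules.pullback A.s).map hj) := by
      have h2 := (Iso.inv_comp_eq _).1 he
      have h3 := (Iso.eq_comp_inv _).2 h2
      show CategoryTheory.IsIso ((Scheme.Modules.pullback (c.π.app φ.left)).map hj)
      erw [h3]
      infer_instance
    obtain ⟨χ, hχ⟩ := FlatFunLimLib.exists_stage_isIso hj A (ConsLib.isFT_pullback _ _ (FlatFunLimLib.isFT_of_isFP' hF₀fp))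
      hG (FlatFunLimLib.isFT_of_isFP' hG) hiso
    exact ⟨χ.left, χ.hom ≫ φ.hom, ⟨((LimHomLib.cmp (D.map_comp χ.hom φ.hom).symm).app F₀).symm ≪≫
      (@asIso _ _ _ _ _ hχ) ≪≫ (LimHomLib.cmp (D.map_comp χ.hom φ.hom).symm).app G₀⟩⟩
  · rintro ⟨j, φ, ⟨e⟩⟩
    exact ⟨((LimHomLib.cmp (c.w φ)).app F₀).symm ≪≫ (Scheme.Modules.pullback (c.π.app j)).mapIso e ≪≫
      (LimHomLib.cmp (c.w φ)).app G₀⟩

end Groth.Agent.S4790
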