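import Groth.Statements.S1238
import Mathlib
import Groth.Agent.FlatInjLib.FinWeakAssFT
-- import your own Groth.Agent.* helpers here

set_option autoImplicit false
universe u
open FlatMor

namespace Groth.Agent.S1238

/-- Ring form, X = Spec S, S = Spec R affine: let R be a ring with finitely many weakly associated
primes and S a finite type R-algebra. Then the set of primes q of S with S_q flat over R is open in
Spec S, and every such q has a basic open neighbourhood D(g) with S_g flat and of finite
presentation over R. -/
theorem result {R S : Type u} [CommRing R] [CommRing S] [Algebra R S] [Algebra.FiniteType R S]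
    (hR : (FlatCA.weakAss R R).Finite) :
    IsOpen {q : PrimeSpectrum S | Module.Flat R (Localization.AtPrime q.asIdeal)} ∧
    ∀ (q : Ideal S) [q.IsPrime], Module.Flat R (Localization.AtPrime q) → ∃ g : S, g ∉ q ∧
      Algebra.FinitePresentation R (Localization.Away g) ∧ Module.Flat R (Localization.Away g) := by
  have hiff : ∀ (q : Ideal S) [q.IsPrime], FlatCA.FlatAt R q S ↔ Module.Flat R (Localization.AtPrime q) := fun q _ =>
    Module.Flat.equiv_iff ((IsLocalizedModule.iso q.primeCompl (Algebra.linearMap S (Localization.AtPrime q))).restrictScalars R)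
  refine ⟨isOpen_iff_forall_mem_open.2 fun x hx => ?_, fun q _ h => ?_⟩
  · obtain ⟨g, hg, hflat, -⟩ := FlatInjLib.exists_relFinitePresentation (N := S) hR x.asIdeal ((hiff _).2 hx)
    exact ⟨PrimeSpectrum.basicOpen g, fun y hy => (hiff _).1 (hflat y.asIdeal hy), (PrimeSpectrum.basicOpen g).2, hg⟩
  obtain ⟨n, π, hπ⟩ := Algebra.FiniteType.iff_quotient_mvPolynomial''.1 (inferInstance : Algebra.FiniteType R S)
  let P := MvPolynomial (Fin n) R
  letI : Algebra P S := π.toRingHom.toAlgebra
  haveI : IsScalarTower R P S := IsScalarTower.of_algebraMap_eq fun x => (π.commutes x).symm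
  obtain ⟨g, hg, -, hfl, hfp⟩ := FlatInjLib.exists_away_fp_flat_of_surjective (P := P) (N := S) hπ hR q ((hiff q).2 h)
  let gS := algebraMap P S g
  let Pg := Localization.Away g
  let Sg := Localization.Away gS
  refine ⟨gS, hg, ?_, Module.Flat.of_linearEquiv
    ((IsLocalizedModule.iso (Submonoid.powers gS) (Algebra.linearMap S Sg)).symm.restrictScalars R)⟩
  letI : Algebra Pg Sg := (IsLocalization.Away.map Pg Sg (algebraMap P S) g).toAlgebra
  haveI : IsScalarTower P Pg Sg := IsScalarTower.of_algebraMap_eq fun x => by
    rw [RingHom.algebraMap_toAlgebra, IsLocalization.Away.map, IsLocalization.map_eq]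
    exact IsScalarTower.algebraMap_apply P S Sg x
  haveI : IsScalarTower R Pg Sg := IsScalarTower.of_algebraMap_eq fun x => by
    rw [IsScalarTower.algebraMap_apply R P Pg, ← IsScalarTower.algebraMap_apply P Pg Sg, ← IsScalarTower.algebraMap_apply]
  have hPS : Function.Surjective (algebraMap Pg Sg) := fun y => by
    obtain ⟨s, ⟨_, k, rfl⟩, rfl⟩ := IsLocalization.exists_mk'_eq (Submonoid.powers gS) y
    obtain ⟨t, rfl⟩ := hπ s
    refine ⟨IsLocalization.mk' Pg t (⟨g ^ k, k, rfl⟩ : Submonoid.powers g), ?_⟩
    rw [RingHom.algebraMap_toAlgebra, IsLocalization.Away.map, IsLocalization.map_mk']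
    congr 1
    exact Subtype.ext (map_pow (algebraMap P S) g k)
  haveI : IsLocalizedModule (Algebra.algebraMapSubmonoid S (Submonoid.powers g)) (Algebra.linearMap S Sg) := by
    rw [Algebra.algebraMapSubmonoid_powers]
    infer_instance
  let f := (Algebra.linearMap S Sg).restrictScalars P
  haveI : IsLocalizedModule (Submonoid.powers g) f := IsLocalizedModule.restrictScalars _ _
  let e' : LocalizedModule (Submonoid.powers g) S ≃ₗ[Pg] Sg :=
    LinearEquiv.extendScalarsOfIsLocalization (Submonoid.powers g) Pg (IsLocalizedModule.iso (Submonoid.powers g) f)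
  haveI := hfp
  haveI : Module.FinitePresentation Pg Sg := Module.FinitePresentation.of_equiv e'
  haveI : Algebra.FinitePresentation P Pg := IsLocalization.Away.finitePresentation g
  haveI : Algebra.FinitePresentation R Pg := Algebra.FinitePresentation.trans R P Pg
  exact Algebra.FinitePresentation.of_surjective (f := IsScalarTower.toAlgHom R Pg Sg) hPS
    (Module.FinitePresentation.fg_ker (Algebra.linearMap Pg Sg) hPS)

end Groth.Agent.S1238
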