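import Groth.Statements.S12418
-- import your own Groth.Agent.* helpers here

set_option autoImplicit false
set_option linter.style.haveILetI false
universe u
open CAlg

namespace Groth.Agent.S12418

/-- Let R be a Noetherian ring and b ∈ R; for x outside the ideal (b) put I_x = ((b) : x), the ideal of
r with r x ∈ (b). If s ∉ (b) and I_s is maximal among the I_x (x ∉ (b)), then I_s is prime. -/
theorem result {R : Type u} [CommRing R] [IsNoetherianRing R]
    (b s : R) (hs : s ∉ Ideal.span {b})
    (hmax : ∀ x : R, x ∉ Ideal.span {b} →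
      Submodule.colon (Ideal.span {b}) (Ideal.span {s}) ≤ Submodule.colon (Ideal.span {b}) (Ideal.span {x}) →
      Submodule.colon (Ideal.span {b}) (Ideal.span {x}) = Submodule.colon (Ideal.span {b}) (Ideal.span {s})) :
    (Submodule.colon (Ideal.span {b}) (Ideal.span ({s} : Set R))).IsPrime := by
  have mem : ∀ x r : R, r ∈ Submodule.colon (Ideal.span {b}) (Ideal.span ({x} : Set R)) ↔ r * x ∈ Ideal.span {b} := by
    intro x r
    simp only [Submodule.mem_colon, smul_eq_mul, SetLike.mem_coe]
    refine ⟨fun h => h x (Ideal.mem_span_singleton_self x), fun h y hy => ?_⟩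
    obtain ⟨c, rfl⟩ := Ideal.mem_span_singleton'.1 hy
    rw [mul_comm c, ← mul_assoc]
    exact Ideal.mul_mem_right _ _ h
  constructor
  · rw [Ideal.ne_top_iff_one, mem, one_mul]
    exact hs
  · intro r t hrt
    by_cases ht : t * s ∈ Ideal.span {b}
    · exact Or.inr ((mem s t).2 ht)
    · left
      rw [← hmax (t * s) ht (fun x hx => (mem _ x).2 (by
        have := (mem s x).1 hx
        rw [mul_comm t, ← mul_assoc]
        exact Ideal.mul_mem_right _ _ this)), mem]
      rw [← mul_assoc]
      exact (mem s _).1 hrt

end Groth.Agent.S12418
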