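import Groth.Statements.S12419
import Mathlib
import Groth.Agent.FlatCrit.Basic
import Groth.Agent.TopFlatLib.Basic
-- import your own Groth.Agent.* helpers here

set_option autoImplicit false
universe u
open TensorProduct
open CAlg

namespace Groth.Agent.S12419

/-- Let A → B be a local homomorphism of Noetherian local rings, m the maximal ideal of A, and φ : A →
A' a ring homomorphism to a semi-local Noetherian ring A' with Jacobson radical r', such that
φ⁻¹(r') = m and such that every power m^n contains φ⁻¹(r'^N) for some N. Then B is flat over A if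
and only if A' ⊗_A B is flat over A'. (Given φ⁻¹(r') = m, the condition on powers says that the
m-adic topology of A is induced by the r'-adic topology of A', equivalently that the induced
homomorphism of adic completions is injective, which is how the published statement phrases this
hypothesis.) -/
theorem result (A B A' : Type u) [CommRing A] [CommRing B]
    [CommRing A'] [IsNoetherianRing A] [IsLocalRing A] [IsNoetherianRing B] [IsLocalRing B]
    [Algebra A B] [IsLocalHom (algebraMap A B)] [IsNoetherianRing A'] [Finite (MaximalSpectrum A')]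
    [Algebra A A']
    (hrad : (Ideal.jacobson (⊥ : Ideal A')).comap (algebraMap A A') = IsLocalRing.maximalIdeal A)
    (htop : ∀ n : ℕ, ∃ N : ℕ,
      ((Ideal.jacobson (⊥ : Ideal A')) ^ N).comap (algebraMap A A') ≤ (IsLocalRing.maximalIdeal A) ^ n) :
    Module.Flat A B ↔ Module.Flat A' (A' ⊗[A] B) := by
  refine ⟨fun _ => inferInstance, fun hflat => ?_⟩
  refine FlatCrit.flat_of_flat_quotient_pow (S := B) (M := B) (IsLocalRing.maximalIdeal A) ?_ fun m => ?_
  · rw [IsLocalRing.jacobson_eq_maximalIdeal _ bot_ne_top]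
    exact ((IsLocalRing.local_hom_TFAE (algebraMap A B)).out 0 2).1 ‹_›
  obtain ⟨N, hN⟩ := htop m
  let J := Ideal.jacobson (⊥ : Ideal A')
  let b := J ^ (N + 1)
  let a := b.comap (algebraMap A A')
  have hbN : J ^ (N + 1) ≤ J ^ N := Ideal.pow_le_pow_right (Nat.le_succ N)
  have ha : a ≤ IsLocalRing.maximalIdeal A ^ m := (Ideal.comap_mono hbN).trans hN
  have ham : a ≤ IsLocalRing.maximalIdeal A := by
    rw [← hrad]
    exact Ideal.comap_mono (Ideal.pow_le_self (Nat.succ_ne_zero N))
  haveI : Nontrivial (A ⧸ a) := Ideal.Quotient.nontrivial_iff.2 fun h =>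
    (IsLocalRing.maximalIdeal.isMaximal A).ne_top (top_le_iff.1 (h ▸ ham))
  haveI : IsLocalRing (A ⧸ a) := IsLocalRing.of_surjective' _ Ideal.Quotient.mk_surjective
  letI : Algebra (A ⧸ a) (A' ⧸ b) := (Ideal.quotientMap b (algebraMap A A') le_rfl).toAlgebra
  haveI : IsScalarTower A (A ⧸ a) (A' ⧸ b) := IsScalarTower.of_algebraMap_eq fun x => rfl
  have hinj : Function.Injective (algebraMap (A ⧸ a) (A' ⧸ b)) := Ideal.quotientMap_injective
  have hnil : IsNilpotent (IsLocalRing.maximalIdeal (A ⧸ a)) := by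
    refine ⟨N + 1, ?_⟩
    rw [← IsLocalRing.map_maximalIdeal_of_surjective _ (Ideal.Quotient.mk_surjective (I := a)),
      ← Ideal.map_pow, Ideal.zero_eq_bot, Ideal.map_eq_bot_iff_le_ker, Ideal.mk_ker]
    refine Ideal.map_le_iff_le_comap.1 ?_
    rw [Ideal.map_pow]
    refine Ideal.pow_right_mono (Ideal.map_le_iff_le_comap.2 hrad.ge) _
  haveI : Module.Flat A' (A' ⊗[A] B) := hflat
  haveI : Module.Flat (A' ⧸ b) ((A' ⧸ b) ⊗[A ⧸ a] ((A ⧸ a) ⊗[A] B)) := by
    haveI : Module.Flat (A' ⧸ b) ((A' ⧸ b) ⊗[A'] (A' ⊗[A] B)) := inferInstance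
    exact Module.Flat.of_linearEquiv
      ((TensorProduct.AlgebraTensorModule.cancelBaseChange A (A ⧸ a) (A' ⧸ b) (A' ⧸ b) B).trans
        (TensorProduct.AlgebraTensorModule.cancelBaseChange A A' (A' ⧸ b) (A' ⧸ b) B).symm)
  haveI := TopFlatLib.free_of_flat_baseChange hinj hnil ((A ⧸ a) ⊗[A] B)
  letI : Algebra (A ⧸ a) (A ⧸ IsLocalRing.maximalIdeal A ^ m) := (Ideal.Quotient.factor ha).toAlgebra
  haveI : IsScalarTower A (A ⧸ a) (A ⧸ IsLocalRing.maximalIdeal A ^ m) := IsScalarTower.of_algebraMap_eq fun x => rfl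
  exact Module.Flat.of_linearEquiv
    (TensorProduct.AlgebraTensorModule.cancelBaseChange A (A ⧸ a) (A ⧸ IsLocalRing.maximalIdeal A ^ m)
      (A ⧸ IsLocalRing.maximalIdeal A ^ m) B).symm

end Groth.Agent.S12419
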