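import Groth.Statements.S12422
import Groth.Agent.S5022
import Groth.Agent.S5019
import Groth.Agent.CurveH0Lib.Smooth
import Groth.Agent.AlgSpLib.RelDim
import Groth.Agent.FibDimLib.Comps
import Groth.Agent.KleimanLib.GenSmooth

set_option autoImplicit false
universe u
open CategoryTheory CategoryTheory.Limits AlgebraicGeometry
open NonsingVar

namespace Groth.Agent.S12422

/-- Let k be an algebraically closed field, X an irreducible scheme which is separated and of finite
type over k, n = dim X, and (Ω, d) a sheaf of relative differentials of X over k, i.e. d : O_X → Ω a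
universal k-derivation. Then Ω is locally free of rank n if and only if every local ring of X is
regular (X is a nonsingular variety over k). -/
theorem result (k : Type u) [Field k] [IsAlgClosed k] (n : ℕ)
    (X : Scheme.{u}) [X.Over (Spec (CommRingCat.of k))] [IrreducibleSpace ↥X]
    [IsSeparated (X ↘ (Spec (CommRingCat.of k)))] [LocallyOfFiniteType (X ↘ (Spec (CommRingCat.of k)))]
    [QuasiCompact (X ↘ (Spec (CommRingCat.of k)))]
    (hn : topologicalKrullDim ↥X = (n : WithBot ℕ∞))
    (Ω : X.Modules) (d : OmegaSh.Der (X ↘ (Spec (CommRingCat.of k))) Ω) (hd : OmegaSh.IsUniversal d) :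
    FlatMod.IsFinLocFreeOfRank n Ω ↔ ∀ x : ↥X, IsRegularLocalRing ↑(X.presheaf.stalk x) := by
  let f := X ↘ (Spec (CommRingCat.of k))
  haveI : LocallyOfFiniteType f := ‹_›
  haveI : LocallyOfFinitePresentation f := LocallyOfFinitePresentation.iff_locallyOfFiniteType.2 inferInstance
  have hdim : ∀ x : X, FlatMor.fibreDimAt f x = (n : WithBot ℕ∞) := fun x ↦ by
    rw [AlgSpLib.fibreDimAt_eq_localDim f x, FibDimLib.localDim_of_irreducible f x, hn]
  constructor
  · intro h x
    haveI : Flat f := inferInstance
    haveI : Smooth f := Scheme.Hom.smoothLocus_eq_top_iff.mp (eq_top_iff.mpr fun x _ ↦ by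
      obtain ⟨U, hxU, hU⟩ := h x
      exact (Groth.Agent.S5022.result f Ω d hd x).mpr ⟨Flat.stalkMap f x, U, n, hxU, hU, hdim x⟩)
    exact KleimanLib.regular_of_smooth f x
  · intro h x
    haveI : Smooth f := CurveH0Lib.smooth_of_regular k f h
    obtain ⟨U, m, hxU, hU, hm⟩ := Groth.Agent.S5019.result f Ω d hd x
    rw [hdim x] at hm
    obtain rfl : n = m := by exact_mod_cast hm
    exact ⟨U, hxU, hU⟩
end Groth.Agent.S12422
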