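import Groth.Statements.S12423
import Groth.Agent.ConormalInjLib.Comp
import Groth.Agent.S5976
import Groth.Agent.SmoothPtLib.Scheme
import Groth.Agent.RepZeroLib.Main
import Groth.Agent.ProjBunLib.Ses
import Groth.Agent.SeesawLib.Ranks
import Groth.Agent.CurveH0Lib.Smooth
import Groth.Agent.BlowUpLib.RegBlow
import Groth.Agent.CurvLib.EulerTensor
import Groth.Agent.OmegaAffLib.Rank

set_option autoImplicit false
universe u
open CategoryTheory CategoryTheory.Limits AlgebraicGeometry
open NonsingVar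

namespace Groth.Agent.S12423

set_option backward.isDefEq.respectTransparency false in
set_option backward.isDefEq.respectTransparency.types false in
theorem regular_stalk_field (k : Type u) [Field k] (x : Spec (CommRingCat.of k)) :
    IsRegularLocalRing ((Spec (CommRingCat.of k)).presheaf.stalk x) := by
  exact IsRegularLocalRing.of_ringEquiv (StructureSheaf.stalkIso k x).toRingEquiv

/-- The kernel of an epimorphism of locally free modules is locally free of the difference of the ranks. -/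
theorem rank_kernel {X : Scheme.{u}} [IsLocallyNoetherian X] {S : ShortComplex X.Modules} (hS : S.ShortExact) {n m : ℕ}
    (h₂ : FlatMod.IsFinLocFreeOfRank n S.X₂) (h₃ : FlatMod.IsFinLocFreeOfRank m S.X₃) :
    FlatMod.IsFinLocFreeOfRank (n - m) S.X₁ := by
  haveI := hS.mono_f
  have h1 : Coh.IsCoh S.X₁ := by
    have hk := QCohLib.isCoh_kernel S.g (CurvLib.isCoh_of_locFree h₂) (CurvLib.isCoh_of_locFree h₃).1
    exact QCohLib.isCoh_of_iso (IsLimit.conePointUniqueUpToIso (limit.isLimit _) hS.fIsKernel) hk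
  haveI := h1.1
  have hst : ∀ x : X, Module.Free (X.presheaf.stalk x) ((DerSch.stalkFunctor X x).obj S.X₁) ∧
      Module.finrank (X.presheaf.stalk x) ((DerSch.stalkFunctor X x).obj S.X₁) = n - m := by
    intro x
    obtain ⟨σ⟩ := ProjBunLib.nonempty_splitting hS h₃ x
    obtain ⟨e₂⟩ := ProjBunLib.free_stalk_of_rank h₂ x
    obtain ⟨e₃⟩ := ProjBunLib.free_stalk_of_rank h₃ x
    let T := S.map (DerSch.stalkFunctor X x)
    let φ : T.X₁ →ₗ[X.presheaf.stalk x] T.X₂ := T.f.hom
    let ρ : T.X₂ →ₗ[X.presheaf.stalk x] T.X₁ := σ.r.hom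
    have hr : ρ ∘ₗ φ = LinearMap.id := by
      refine LinearMap.ext fun a => ?_
      exact congr($(σ.f_r) a)
    haveI : Module.Free (X.presheaf.stalk x) T.X₂ := Module.Free.of_equiv e₂.symm
    haveI : Module.Finite (X.presheaf.stalk x) T.X₂ := Module.Finite.equiv e₂.symm
    haveI : Module.Projective (X.presheaf.stalk x) T.X₁ := Module.Projective.of_split φ ρ hr
    haveI : Module.Finite (X.presheaf.stalk x) T.X₁ :=
      Module.Finite.of_surjective ρ fun a => ⟨φ a, LinearMap.congr_fun hr a⟩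
    haveI : Module.Free (X.presheaf.stalk x) T.X₁ := Module.free_of_flat_of_isLocalRing
    haveI : Module.Free (X.presheaf.stalk x) T.X₃ := Module.Free.of_equiv e₃.symm
    haveI : Module.Finite (X.presheaf.stalk x) T.X₃ := Module.Finite.equiv e₃.symm
    refine ⟨inferInstanceAs (Module.Free (X.presheaf.stalk x) T.X₁), ?_⟩
    let w : T.X₂ ≃ₗ[X.presheaf.stalk x] T.X₁ × T.X₃ :=
      { toFun := fun b => (σ.r.hom b, T.g.hom b)
        invFun := fun p => T.f.hom p.1 + σ.s.hom p.2
        map_add' := fun a b => by simp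
        map_smul' := fun a b => by simp
        left_inv := fun b => by
          exact congr($(σ.id) b)
        right_inv := fun p => Prod.ext (by
            simp only [map_add]
            rw [show σ.r.hom (T.f.hom p.1) = p.1 from congr($(σ.f_r) p.1),
              show σ.r.hom (σ.s.hom p.2) = 0 from congr($(σ.s_r) p.2), add_zero]) (by
            simp only [map_add]
            rw [show T.g.hom (T.f.hom p.1) = 0 from congr($(T.zero) p.1),
              show T.g.hom (σ.s.hom p.2) = p.2 from congr($(σ.s_g) p.2), zero_add]) }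
    have h := w.finrank_eq
    have h2 : Module.finrank (X.presheaf.stalk x) T.X₂ = n := e₂.finrank_eq.trans (Module.finrank_fin_fun _)
    have h3 : Module.finrank (X.presheaf.stalk x) T.X₃ = m := e₃.finrank_eq.trans (Module.finrank_fin_fun _)
    rw [Module.finrank_prod, h2, h3] at h
    show Module.finrank (X.presheaf.stalk x) T.X₁ = n - m
    omega
  have hF : FlatMod.IsFinLocFree S.X₁ :=
    (MiscFlat6.isFP_and_free_iff (M := S.X₁)).1 ⟨QCohLib.isFP_of_isCoh _ h1, fun x => (hst x).1⟩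
  intro x
  obtain ⟨U, j, hxU, ⟨e⟩⟩ := hF x
  obtain ⟨e'⟩ := CurveVBLib.nonempty_stalk_pi_on e hxU
  obtain rfl : j = n - m := by rw [← (hst x).2, e'.finrank_eq, Module.finrank_fin_fun]
  exact ⟨U, hxU, ⟨e⟩⟩

/-- The differentials of a smooth irreducible scheme over a field are locally free of rank the dimension. -/
theorem rank_omega {k : Type u} [Field k] {X : Scheme.{u}} [IrreducibleSpace X] {p : X ⟶ Spec (CommRingCat.of k)}
    [Smooth p] {n : ℕ} (hn : topologicalKrullDim X = (n : WithBot ℕ∞)) {Ω : X.Modules} {d : OmegaSh.Der p Ω}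
    (hd : OmegaSh.IsUniversal d) : FlatMod.IsFinLocFreeOfRank n Ω := by
  intro x
  obtain ⟨U, m, hxU, he, hm⟩ := OmegaAffLib.exists_free_fibreDim hd x
  rw [SmoothPtLib.fibreDimAt_field, hn] at hm
  obtain rfl : n = m := by exact_mod_cast hm
  exact ⟨U, hxU, he⟩

open TensorProduct in
/-- Smoothness of a closed subscheme from the conormal sequence. -/
theorem smooth_of_mono {S X Y : Scheme.{u}} [IsLocallyNoetherian X] [IsLocallyNoetherian S] (i : Y ⟶ X)
    [IsClosedImmersion i] (p : X ⟶ S) [Smooth p] {ΩX : X.Modules} {dX : OmegaSh.Der p ΩX}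
    (hX : OmegaSh.IsUniversal dX) {ΩY : Y.Modules} {dY : OmegaSh.Der (i ≫ p) ΩY} (hY : OmegaSh.IsUniversal dY)
    {φ : Omega.conormal i ⟶ (Scheme.Modules.pullback i).obj ΩX} (hφ : OmegaSh.IsConormalDiff i dX φ)
    (hΩ : FlatMod.IsFinLocFree ΩY) [Mono φ] : Smooth (i ≫ p) := by
  haveI : Coh.IsQCoh ΩY := OmegaAffLib.isQCoh_of_isUniversal hY
  haveI : Coh.IsQCoh ΩX := OmegaAffLib.isQCoh_of_isUniversal hX
  rw [HasRingHomProperty.iff_exists_appLE (P := @Smooth)
    (RingHom.Smooth.stableUnderComposition.stableUnderCompositionWithLocalizationAway RingHom.Smooth.holdsForLocalizationAway).1]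
  intro z
  obtain ⟨V, hV, hzV, -⟩ := exists_isAffineOpen_mem_and_subset (show p (i z) ∈ (⊤ : S.Opens) from trivial)
  obtain ⟨W, hW, hzW, hWV, hWc⟩ := ConormalInjLib.exists_chart i z (p ⁻¹ᵁ V) hzV
  obtain ⟨hU, hsurj⟩ := ConormalInjLib.chart_of_le i hW hWc
  have e₂ : i ⁻¹ᵁ W ≤ (i ≫ p) ⁻¹ᵁ V := i.preimage_mono hWV
  refine ⟨⟨V, hV⟩, ⟨i ⁻¹ᵁ W, hU⟩, hzW, e₂, ?_⟩
  letI := (p.appLE V W hWV).hom.toAlgebra
  letI := (i.app W).hom.toAlgebra
  letI := ((i ≫ p).appLE V (i ⁻¹ᵁ W) e₂).hom.toAlgebra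
  haveI : IsScalarTower Γ(S, V) Γ(X, W) Γ(Y, i ⁻¹ᵁ W) := IsScalarTower.of_algebraMap_eq' (by
    show ((i ≫ p).appLE V (i ⁻¹ᵁ W) e₂).hom = (i.app W).hom.comp (p.appLE V W hWV).hom
    rw [← CommRingCat.hom_comp, Scheme.Hom.app_eq_appLE, Scheme.Hom.appLE_comp_appLE])
  haveI : Algebra.Smooth Γ(S, V) Γ(X, W) := (p.smooth_appLE hV hW hWV).toAlgebra
  haveI : IsNoetherianRing Γ(X, W) := IsLocallyNoetherian.component_noetherian ⟨W, hW⟩
  obtain ⟨e, he⟩ := OmegaAffLib.exists_equiv_alg hX hV hW hWV rfl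
  obtain ⟨eY, -⟩ := OmegaAffLib.exists_equiv_alg hY hV hU e₂ rfl
  haveI := (RepZeroLib.finite_projective_sections hΩ hU).2
  haveI : Module.Projective Γ(Y, i ⁻¹ᵁ W) Ω[Γ(Y, i ⁻¹ᵁ W)⁄Γ(S, V)] := Module.Projective.of_equiv eY.symm
  have halg : ∀ r, algebraMap Γ(X, W) Γ(Y, i ⁻¹ᵁ W) r = (i.appLE W (i ⁻¹ᵁ W) le_rfl).hom r := fun r => by
    rw [ConormalInjLib.appLE_self]; rfl
  letI : Module Γ(X, W) Γ(KFlatLib.pb i ΩX, i ⁻¹ᵁ W) := Module.compHom _ (i.app W).hom
  haveI : IsScalarTower Γ(X, W) Γ(Y, i ⁻¹ᵁ W) Γ(KFlatLib.pb i ΩX, i ⁻¹ᵁ W) :=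
    IsScalarTower.of_algebraMap_smul fun a t => rfl
  let ψ : Γ(ΩX, W) →ₗ[Γ(X, W)] Γ(KFlatLib.pb i ΩX, i ⁻¹ᵁ W) :=
    { toFun := KFlatLib.puSecLE i ΩX le_rfl
      map_add' := map_add _
      map_smul' := fun r m => (KFlatLib.puSecLE_smul i ΩX le_rfl r m).trans (by
        rw [ConormalInjLib.appLE_self]; rfl) }
  have hinj : Function.Injective (KaehlerDifferential.kerCotangentToTensor Γ(S, V) Γ(X, W) Γ(Y, i ⁻¹ᵁ W)) := by
    refine (injective_iff_map_eq_zero _).mpr fun t ht => ?_
    obtain ⟨⟨x, hx⟩, rfl⟩ := Ideal.toCotangent_surjective _ t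
    rw [KaehlerDifferential.kerCotangentToTensor_toCotangent] at ht
    let s := ConormalSecLib.lift i W x hx
    have h0 : ψ (e (KaehlerDifferential.D Γ(S, V) Γ(X, W) x)) = 0 := by
      have hψ : IsBaseChange Γ(Y, i ⁻¹ᵁ W) ψ :=
        KFlatLib.isBaseChange_puSec i ΩX hW hU le_rfl halg ψ fun _ => rfl
      have h1 := congrArg (fun t => hψ.equiv (TensorProduct.congr (LinearEquiv.refl Γ(X, W) Γ(Y, i ⁻¹ᵁ W)) e t)) ht
      simp only [map_zero, TensorProduct.congr_tmul, IsBaseChange.equiv_tmul, LinearEquiv.refl_apply, one_smul] at h1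
      exact h1
    have hs : OmegaSh.conormalSect i W s = 0 := by
      apply QCohLib.app_injective_of_mono φ
      rw [map_zero, hφ]
      refine (congrArg (fun t => OmegaSh.pullSect i ΩX W (dX.app W t)) (ConormalSecLib.idealSect_lift i W x hx)).trans ?_
      rw [← he]
      refine Eq.trans ?_ h0
      show OmegaSh.pullSect i ΩX W _ = KFlatLib.puSecLE i ΩX le_rfl _
      rw [KFlatLib.puSecLE_apply, Subsingleton.elim (homOfLE (le_refl (i ⁻¹ᵁ W))).op (𝟙 _),
        CategoryTheory.Functor.map_id]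
      rfl
    refine (Ideal.toCotangent_eq_zero _ ⟨x, hx⟩).mpr ?_
    have h2 := ConormalInjLib.mem_ker_sq_of_conormalSect_eq_zero i hW hWc s hs
    have h3 : OmegaSh.idealSect i.ker W s = x := ConormalSecLib.idealSect_lift i W x hx
    rw [h3] at h2
    exact h2
  have hfs : Algebra.FormallySmooth Γ(S, V) Γ(Y, i ⁻¹ᵁ W) :=
    (Algebra.formallySmooth_iff _ _).mpr ⟨inferInstance,
      (Algebra.FormallySmooth.kerCotangentToTensor_injective_iff hsurj).mp hinj⟩
  haveI := hfs
  haveI : Algebra.FinitePresentation Γ(S, V) Γ(Y, i ⁻¹ᵁ W) := by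
    haveI : Algebra.FiniteType Γ(S, V) Γ(Y, i ⁻¹ᵁ W) :=
      (i ≫ p).finiteType_appLE hV hU e₂
    haveI : IsNoetherianRing Γ(S, V) := IsLocallyNoetherian.component_noetherian ⟨V, hV⟩
    exact Algebra.FinitePresentation.of_finiteType.mp inferInstance
  show ((i ≫ p).appLE V (i ⁻¹ᵁ W) e₂).hom.Smooth
  exact ⟨hfs, inferInstance⟩


/-- Let k be an algebraically closed field, X a nonsingular variety over k (integral, separated and of
finite type over k, all local rings regular) of dimension n, i : Y → X an irreducible closed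
subscheme of dimension q with ideal sheaf I, (Ω_X, d_X) and (Ω_Y, d_Y) sheaves of differentials of X
and Y over k (universal derivations), and φ : I/I² → i^*Ω_X the canonical map from the conormal
sheaf (class of a local section s of I ↦ pullback of d_X s). Then Y is nonsingular if and only if
(1) Ω_Y is locally free and (2) φ is a monomorphism (the conormal sequence 0 → I/I² → i^*Ω_X → Ω_Y →
0 is exact on the left too). Moreover in that case I/I² is locally free of rank n − q, the
codimension of Y. (The clause that I is then locally generated by n − q sections is not restated.) -/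
theorem result (k : Type u) [Field k]
    [IsAlgClosed k] (n q : ℕ)
    (X : Scheme.{u}) [X.Over (Spec (CommRingCat.of k))] [IsIntegral X] [IsSeparated (X ↘ (Spec (CommRingCat.of k)))]
    [LocallyOfFiniteType (X ↘ (Spec (CommRingCat.of k)))] [QuasiCompact (X ↘ (Spec (CommRingCat.of k)))]
    (hreg : ∀ x : ↥X, IsRegularLocalRing ↑(X.presheaf.stalk x))
    (hn : topologicalKrullDim ↥X = (n : WithBot ℕ∞))
    (Y : Scheme.{u}) (i : Y ⟶ X) [IsClosedImmersion i] [IrreducibleSpace ↥Y]
    (hq : topologicalKrullDim ↥Y = (q : WithBot ℕ∞))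
    (ΩX : X.Modules) (dX : OmegaSh.Der (X ↘ (Spec (CommRingCat.of k))) ΩX) (hX : OmegaSh.IsUniversal dX)
    (ΩY : Y.Modules) (dY : OmegaSh.Der (i ≫ (X ↘ (Spec (CommRingCat.of k)))) ΩY) (hY : OmegaSh.IsUniversal dY)
    (φ : Omega.conormal i ⟶ (Scheme.Modules.pullback i).obj ΩX) (hφ : OmegaSh.IsConormalDiff i dX φ) :
    ((∀ y : ↥Y, IsRegularLocalRing ↑(Y.presheaf.stalk y)) ↔ (FlatMod.IsFinLocFree ΩY ∧ Mono φ)) ∧
      ((∀ y : ↥Y, IsRegularLocalRing ↑(Y.presheaf.stalk y)) →
        FlatMod.IsFinLocFreeOfRank (n - q) (Omega.conormal i)) := by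
  let p := X ↘ Spec (CommRingCat.of k)
  haveI : IsLocallyNoetherian (Spec (CommRingCat.of k)) := inferInstance
  haveI : IsLocallyNoetherian X := LocallyOfFiniteType.isLocallyNoetherian p
  haveI : Smooth p := CurveH0Lib.smooth_of_regular k p hreg
  haveI : LocallyOfFiniteType (i ≫ p) := inferInstance
  haveI : IsLocallyNoetherian Y := LocallyOfFiniteType.isLocallyNoetherian (i ≫ p)
  have fwd : (∀ y : ↥Y, IsRegularLocalRing ↑(Y.presheaf.stalk y)) →
      (FlatMod.IsFinLocFreeOfRank q ΩY ∧ Mono φ) := fun h => by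
    haveI : Smooth (i ≫ p) := CurveH0Lib.smooth_of_regular k (i ≫ p) h
    refine ⟨rank_omega hq hY, ConormalInjLib.mono_of_formallySmooth_charts i p (fun hV hU e => ?_) hX hφ⟩
    exact ((i ≫ p).smooth_appLE hV hU e).1
  refine ⟨⟨fun h => ⟨fun y => ?_, (fwd h).2⟩, fun h => ?_⟩, fun h => ?_⟩
  · obtain ⟨U, hyU, he⟩ := (fwd h).1 y
    exact ⟨U, q, hyU, he⟩
  · haveI := h.2
    haveI := smooth_of_mono i p hX hY hφ h.1
    intro y
    haveI := regular_stalk_field k ((i ≫ p) y)
    exact BlowUpLib.isRegularLocalRing_stalk_of_smooth (i ≫ p) y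
  · obtain ⟨hr, hm⟩ := fwd h
    haveI := hm
    obtain ⟨c, hc, -⟩ := OmegaAffLib.existsUnique_diffCompat (b := 𝟙 (Spec (CommRingCat.of k)))
      (h := i) (f' := i ≫ p) (Category.comp_id _) dX hX dY
    obtain ⟨hepi, him⟩ := Groth.Agent.S5976.result p i ΩX dX hX ΩY dY hY φ hφ c hc
    haveI := hepi
    have w : φ ≫ c = 0 := by
      rw [← imageSubobject_arrow_comp φ, Category.assoc,
        show (imageSubobject φ).arrow = Subobject.ofLE _ _ him.le ≫ (kernelSubobject c).arrow from
          (Subobject.ofLE_arrow him.le).symm, Category.assoc, kernelSubobject_arrow_comp, comp_zero, comp_zero]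
    have hse : (ShortComplex.mk φ c w).ShortExact :=
      { exact := (ShortComplex.exact_iff_image_eq_kernel _).mpr him
        mono_f := hm
        epi_g := hepi }
    exact rank_kernel hse (SeesawLib.isFinLocFreeOfRank_pullback i (rank_omega hn hX)) hr

end Groth.Agent.S12423
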