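import Groth.Statements.S12428
import Groth.Agent.ObsLib.Groups


set_option autoImplicit false
set_option linter.style.haveILetI false
set_option backward.isDefEq.respectTransparency false
set_option backward.isDefEq.respectTransparency.types false
set_option maxHeartbeats 1000000
set_option synthInstance.maxHeartbeats 400000
universe u
open CategoryTheory MonoidalCategory CartesianMonoidalCategory MonObj GrpObj AlgebraicGeometry
open scoped TensorProduct
open AGF

attribute [-instance] CategoryTheory.Hom.commGroup

attribute [local instance] Groth.Agent.BorelLib.pTop Groth.Agent.BorelLib.pTopTensor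

namespace Groth.Agent.S12428

/-- Let k be an algebraically closed field, G a linear algebraic group over k (an affine smooth group
scheme over k), i : H → G a closed subgroup (smooth closed subgroup scheme), j : G° → G the identity
component (a connected open subgroup scheme), and K = H ∩ G° the intersection subgroup scheme, with
homomorphisms a : K → H and b : K → G° whose underlying square of schemes is a pullback of i and j.
Then H is observable in G if and only if K is observable in G°. -/
theorem result (k : Type u) [Field k] [IsAlgClosed k]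
    (G : Over (Spec (CommRingCat.of k))) [GrpObj G] [IsAffine G.left] [Smooth G.hom]
    (H : Over (Spec (CommRingCat.of k))) [GrpObj H] [Smooth H.hom] (i : H ⟶ G) [IsMonHom i]
    [IsClosedImmersion i.left]
    (G₀ : Over (Spec (CommRingCat.of k))) [GrpObj G₀] [ConnectedSpace G₀.left] (j : G₀ ⟶ G) [IsMonHom j]
    [IsOpenImmersion j.left]
    (K : Over (Spec (CommRingCat.of k))) [GrpObj K] (a : K ⟶ H) [IsMonHom a] (b : K ⟶ G₀) [IsMonHom b]
    (hK : IsPullback a.left b.left i.left j.left) :
    AGF.IsObservableIn k i ↔ AGF.IsObservableIn k b := by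
  obtain ⟨A, _, _, v, hv, hA, hA'⟩ := Groth.Agent.BorelLib.exists_setup G
  haveI := hv; haveI := hA; haveI := hA'
  haveI : IsClosedImmersion j.left := Groth.Agent.ObsLib.isClosedImmersion_of_open j
  haveI : Smooth G₀.hom := by rw [← Over.w j]; infer_instance
  haveI : IsAffine G₀.left := isAffine_of_isAffineHom j.left
  haveI : IsClosedImmersion b.left :=
    MorphismProperty.of_isPullback (P := @IsClosedImmersion) hK inferInstance
  haveI : IsOpenImmersion a.left :=
    MorphismProperty.of_isPullback (P := @IsOpenImmersion) hK.flip inferInstance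
  haveI : Smooth K.hom := by rw [← Over.w a]; infer_instance
  obtain ⟨A₀, _, _, w, hw, π, -, hA₀, hA₀', hπ, hsur⟩ := Groth.Agent.ObsLib.exists_sub_data v j
  haveI := hw; haveI := hA₀; haveI := hA₀'
  haveI : IsClosedImmersion (b ≫ j).left := by rw [Over.comp_left]; infer_instance
  rw [Groth.Agent.ObsLib.isObservableIn_iff_obs v i, Groth.Agent.ObsLib.isObservableIn_iff_obs w b,
    Groth.Agent.ObsLib.obs_iff_inf_neut (Groth.Agent.BorelLib.isClosed_ptsSub v),
    ← Groth.Agent.ObsLib.ptsSub_open v j]
  have e : Groth.Agent.BorelLib.ptsSub v i ⊓ Groth.Agent.BorelLib.ptsSub v j =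
      Groth.Agent.BorelLib.ptsSub v (b ≫ j) := by
    refine le_antisymm (fun x hx => ?_) (le_inf (fun x hx => ?_) (Groth.Agent.ObsLib.ptsSub_le v))
    · obtain ⟨h, hh⟩ := (Groth.Agent.ObsLib.mem_ptsSub' v).1 hx.1
      obtain ⟨g, hg⟩ := (Groth.Agent.ObsLib.mem_ptsSub' v).1 hx.2
      rw [Groth.Agent.ObsLib.mem_ptsSub']
      have hcond : h.left ≫ i.left = g.left ≫ j.left := by
        rw [← Over.comp_left, ← Over.comp_left, hh, hg]
      refine ⟨Over.homMk (hK.lift h.left g.left hcond) ?_, ?_⟩
      · rw [← Over.w a, ← Category.assoc, hK.lift_fst, Over.w h]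
      · refine Over.OverMorphism.ext ?_
        rw [← hg, Over.comp_left, Over.comp_left, Over.comp_left]
        show hK.lift h.left g.left hcond ≫ b.left ≫ j.left = _
        rw [← Category.assoc, hK.lift_snd]
    · rw [Groth.Agent.ObsLib.mem_ptsSub'] at hx ⊢
      obtain ⟨h, hh⟩ := hx
      refine ⟨h ≫ a, ?_⟩
      have hw' : a ≫ i = b ≫ j := Over.OverMorphism.ext hK.w
      rw [Category.assoc, hw', hh]
  rw [e, Groth.Agent.ObsLib.obsIn_iff v w hπ hsur (Groth.Agent.BorelLib.isClosed_ptsSub v)
    (Groth.Agent.ObsLib.ptsSub_le v), Groth.Agent.ObsLib.comap_ptsSub v w hπ hsur]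

end Groth.Agent.S12428
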