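import Groth.Statements.S1243
import Groth.Agent.RGFlatLib.CommonTarget

set_option autoImplicit false
universe u
open FlatMor

namespace Groth.Agent.S1243

open CategoryTheory.Limits

open AlgebraicGeometry CategoryTheory in
/-- Let S be a quasi-compact and quasi-separated scheme, Y → S separated and of finite type, and X → Y a
morphism such that X has a compactification over S (a quasi-compact open immersion into a scheme
proper over S, compatible with the structure maps). Then X has a compactification over Y: the
morphism X → Y factors as a quasi-compact open immersion followed by a proper morphism. -/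
theorem result {S X Y Xb : Scheme.{u}} [CompactSpace S] [QuasiSeparatedSpace S]
    (g : Y ⟶ S) [IsSeparated g] [LocallyOfFiniteType g] [QuasiCompact g]
    (f : X ⟶ Y) (j : X ⟶ Xb) [IsOpenImmersion j] [QuasiCompact j] (b : Xb ⟶ S) [IsProper b] (hj : j ≫ b = f ≫ g) :
    ∃ (Xb' : Scheme.{u}) (j' : X ⟶ Xb') (b' : Xb' ⟶ Y), IsOpenImmersion j' ∧ QuasiCompact j' ∧ IsProper b' ∧ j' ≫ b' = f := by
  let σ : X ⟶ pullback b g := pullback.lift j f hj
  have hσ₁ : σ ≫ pullback.fst b g = j := pullback.lift_fst _ _ _
  haveI : QuasiCompact (σ ≫ pullback.fst b g) := by rw [hσ₁]; infer_instance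
  haveI : QuasiCompact σ := QuasiCompact.of_comp σ (pullback.fst b g)
  let φ : σ.image ⟶ Xb := σ.imageι ≫ pullback.fst b g
  haveI hiso : IsIso (φ ∣_ j.opensRange) := RGFlatLib.isIso_image_of_section σ _ j hσ₁
  have hpre := RGFlatLib.preimage_opensRange_eq σ (pullback.fst b g) j hσ₁
  -- `toImage` is the open immersion inverse to `φ` over `j`
  have e : σ.toImage = j.isoOpensRange.hom ≫ inv (φ ∣_ j.opensRange) ≫ (φ ⁻¹ᵁ j.opensRange).ι := by
    refine ModPairLib.eq_of_isIso_restrict (s := φ) (V := j.opensRange) ?_ fun w => ?_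
    · rw [show σ.toImage ≫ φ = j by rw [Scheme.Hom.toImage_imageι_assoc, hσ₁]]
      simp only [Category.assoc, ← morphismRestrict_ι, IsIso.inv_hom_id_assoc]
      simp [Scheme.Hom.isoOpensRange]
    · exact ⟨w, by rw [← Scheme.Hom.comp_apply σ.toImage, Scheme.Hom.toImage_imageι_assoc, hσ₁]⟩
  haveI : IsOpenImmersion σ.toImage := by rw [e]; infer_instance
  haveI : QuasiCompact (σ.toImage ≫ σ.imageι) := by rw [Scheme.Hom.toImage_imageι]; infer_instance
  refine ⟨σ.image, σ.toImage, σ.imageι ≫ pullback.snd b g, inferInstance,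
    QuasiCompact.of_comp σ.toImage σ.imageι, inferInstance, ?_⟩
  rw [Scheme.Hom.toImage_imageι_assoc]
  exact pullback.lift_snd _ _ _

end Groth.Agent.S1243
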