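import Groth.Statements.S12431
import Groth.Agent.ExtLineLib.Main
import Groth.Agent.CurveH0Lib.Smooth
-- import your own Groth.Agent.* helpers here

set_option autoImplicit false
universe u
open CategoryTheory CategoryTheory.Limits AlgebraicGeometry
open Curves

namespace Groth.Agent.S12431

/-- Uniqueness, e = 0 case: let C be an elliptic curve over an algebraically closed field k — integral,
proper over k, of dimension one, all local rings regular, of genus 1 — and let E and E′ be locally
free O_C-modules of rank 2 which are normalized (H^0(C, E) ≠ 0 while H^0(C, E ⊗ M) = 0 for every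
invertible M of negative degree; likewise for E′), indecomposable (not isomorphic to a direct sum of
two invertible modules) and of degree 0, where deg E = χ(E) − 2χ(O_C). Then E and E′ are isomorphic:
there is exactly one elliptic ruled surface with invariant e = 0 and indecomposable E. -/
theorem result (k : Type u) [Field k] [IsAlgClosed k] (C : Scheme.{u}) [C.Over (Spec (CommRingCat.of k))]
    [IsIntegral C] [IsProper (C ↘ (Spec (CommRingCat.of k)))] (hdimC : topologicalKrullDim C = 1)
    (hregC : ∀ x : C, IsRegularLocalRing (C.presheaf.stalk x)) (hg : Curv2.genus k C = 1)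
    (E : C.Modules) (hE : FlatMod.IsFinLocFreeOfRank 2 E)
    (hE0 : Nontrivial (Coh.HH C E 0))
    (hEneg : ∀ M : C.Modules, PicF.IsInvertible M → Curv2.deg k C M 1 < 0 → Subsingleton (Coh.HH C (CohB1.tensorMod E M) 0))
    (hEind : ∀ L₁ L₂ : C.Modules, PicF.IsInvertible L₁ → PicF.IsInvertible L₂ → IsEmpty (E ≅ L₁ ⊞ L₂))
    (hEdeg : Curv2.deg k C E 2 = 0)
    (E' : C.Modules) (hE' : FlatMod.IsFinLocFreeOfRank 2 E')
    (hE'0 : Nontrivial (Coh.HH C E' 0))
    (hE'neg : ∀ M : C.Modules, PicF.IsInvertible M → Curv2.deg k C M 1 < 0 → Subsingleton (Coh.HH C (CohB1.tensorMod E' M) 0))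
    (hE'ind : ∀ L₁ L₂ : C.Modules, PicF.IsInvertible L₁ → PicF.IsInvertible L₂ → IsEmpty (E' ≅ L₁ ⊞ L₂))
    (hE'deg : Curv2.deg k C E' 2 = 0) :
    Nonempty (E ≅ E') := by
  haveI : LocallyOfFiniteType (C ↘ Spec (CommRingCat.of k)) := inferInstance
  haveI := CurveH0Lib.smooth_of_regular k (C ↘ Spec (CommRingCat.of k)) hregC
  have hh1 : Module.finrank k (Coh.HH C (Coh.structureModule C) 1) = 1 := hg
  obtain ⟨S, hS, hns, eE, e₁, ⟨e₃⟩⟩ := ExtLineLib.exists_seq_of_normalized (k := k) hdimC hg hE hE0 hEneg hEind hEdeg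
  obtain ⟨S', hS', hns', eE', e₁', ⟨e₃'⟩⟩ :=
    ExtLineLib.exists_seq_of_normalized (k := k) hdimC hg hE' hE'0 hE'neg hE'ind hE'deg
  obtain ⟨i⟩ := ExtLineLib.nonempty_iso_of_nonsplit (k := k) hdimC hS hS'
    (CurvLib.isCoh_of_locFree (CurvLib.locFree_of_isInvertible
      (HilbPolyLib.isInvertible_of_iso e₁'.symm CurvLib.isInvertible_structureModule)))
    (e₁ ≪≫ e₁'.symm) e₃ e₃'
    (by rw [LinearEquiv.finrank_eq (CurvLib.hIso (k := k) e₁' 1), hh1]) hns hns'
  exact ⟨eE.symm ≪≫ i ≪≫ eE'⟩

end Groth.Agent.S12431
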