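import Groth.Statements.S12432
import Groth.Agent.CurveCoverLib.Basic
import Groth.Agent.CurveH0Lib.VeryAmple
import Groth.Agent.CurveH0Lib.Smooth

set_option autoImplicit false
universe u
open CategoryTheory CategoryTheory.Limits AlgebraicGeometry
open Curves

namespace Groth.Agent.S12432
attribute [local instance] CurveDualLib.algFF

/-- In degree d = 6 the curve is canonical. Take k algebraically closed and suppose X is a curve over k
(integral, proper over k, one-dimensional, with every local ring regular), equipped with a closed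
immersion i : X → P^3_k over k whose image lies in no plane — that is, any nonzero global section of
O(1) on P^3_k pulls back to a nonzero global section of i^*O(1). Assume the hyperplane section is
special, meaning H^1(X, i^*O(1)) ≠ 0, and that deg i^*O(1) = 6. Then i^*O(1) is isomorphic to the
canonical sheaf Ω_{X/k}, and X has genus 4 (so X is a canonical curve of genus 4; the isomorphism is
asserted to exist as O_X-modules). -/
theorem result (k : Type u) [Field k] [IsAlgClosed k] (X : Scheme.{u}) [X.Over (Spec (CommRingCat.of k))]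
    [IsIntegral X] [IsProper (X ↘ (Spec (CommRingCat.of k)))] (hdim : topologicalKrullDim X = 1)
    (hreg : ∀ x : X, IsRegularLocalRing (X.presheaf.stalk x))
    (i : X ⟶ CohB1.ProjSpace 3 k) [IsClosedImmersion i] (hi : i ≫ CohB1.ProjSpace.toSpec 3 k = (X ↘ (Spec (CommRingCat.of k))))
    (hplane : ∀ s : LinSer.Sect (CohB1.ProjSpace 3 k) (Twist.twistProjSpace 3 k 1), s ≠ 0 →
      OmegaSh.pullSect i (Twist.twistProjSpace 3 k 1) ⊤ s ≠ 0)
    (hspecial : Nontrivial (Coh.HH X ((Scheme.Modules.pullback i).obj (Twist.twistProjSpace 3 k 1)) 1))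
    (hdeg : Curv2.deg k X ((Scheme.Modules.pullback i).obj (Twist.twistProjSpace 3 k 1)) 1 = 6) :
    Nonempty (((Scheme.Modules.pullback i).obj (Twist.twistProjSpace 3 k 1)) ≅ Omega.sheaf (X ↘ (Spec (CommRingCat.of k)))) ∧ Curv2.genus k X = 4 := by
  classical
  haveI := CurveH0Lib.smooth_of_regular k (X ↘ Spec (CommRingCat.of k)) hreg
  have h0 := RRVanLib.finrank_h0_structure (k := k) (X := X)
  have hK := CurveDualLib.isFunctionField (k := k) (X := X) hdim
  have hgen := CurveDualLib.genus_eq (k := k) (X := X) hdim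
  have hL := TwistLib.coord_isInvertible 3 k i
  obtain ⟨C, hCd, hC⟩ := CurveH0Lib.LinStable.exists_canonical_hasDiv (k := k) hdim
  obtain ⟨D, hD⟩ := ZetaCurveLib.exists_hasDiv (k := k) hdim hL
  have h4 : 4 ≤ FunFld.ell D := by
    rw [← CurveH0Lib.LinStable.h0_eq_ell hdim hD]
    exact CurveCoverLib.le_h0_of_nondegenerate i hi hplane
  have hd : FunFld.Divisor.deg D = 6 := by rw [← hD.deg hdim h0]; exact hdeg
  haveI := CurvLib.isNoetherian k (X := X)
  haveI := CurvLib.finite_HH (k := k) (CurvLib.isCoh_of_isInvertible hL) 1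
  haveI := hspecial
  have h1 : 1 ≤ FunFld.ell (C - D) := by
    rw [← CurveH0Lib.Nine.h1_eq hdim hC hD]
    exact Module.finrank_pos
  obtain ⟨hrr, hcl⟩ := CurveH0Lib.LinStable.estimate hdim hC D (by omega)
  have hcl' := hcl h1
  have hl : FunFld.ell D = 4 := by omega
  by_cases hg : FunFld.ell D = FunFld.genus k X.functionField
  · rw [hgen] at hg
    refine ⟨?_, by omega⟩
    obtain ⟨z, hz, he⟩ := CurveH0Lib.exists_eq_canonical_add_div hK hC (A := D)
      (by rw [hgen]; omega) (by rw [hgen]; omega)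
    obtain ⟨e⟩ := ZetaCurveLib.HasDiv.nonempty_iso hdim h0 hCd hD hz he
    exact ⟨e.symm⟩
  exfalso
  obtain ⟨N, z, hN, hN2, hz, hDN⟩ := CurveH0Lib.exists_pencil_of_clifford_eq hK hC (D := D) (by omega) (by omega)
    (by omega) (by omega) hg
  obtain ⟨w, hw, hE⟩ := Groth.Agent.FFLib.exists_effective_of_ell_pos hK.1 (D := N) (by omega)
  obtain ⟨P, Q, hP, hQ, hPQ⟩ := CurveH0Lib.exists_eq_two_points hdim hE
    (by rw [Groth.Agent.FFLib.deg_add, Groth.Agent.FFLib.deg_div hK.1, hN]; norm_num)
  have hs := (CurveH0Lib.separates_iff (k := k) hdim hreg hL).1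
    (CurveH0Lib.separates_of_isClosedImmersion hdim hreg i hi) P Q hP hQ
  rw [CurveH0Lib.finrank_h0_two_points hdim hD hP hQ, CurveH0Lib.LinStable.h0_eq_ell hdim hD, ← hPQ] at hs
  rw [hl, show (4 - 1 : ℕ) = 3 from rfl] at hDN
  have h3 := CurveH0Lib.succ_le_ell_nsmul hK hN2 2
  have he : D - (N + FunFld.div k w) = 2 • N + FunFld.div k (z * w⁻¹) := by
    rw [Groth.Agent.FFLib.div_mul hK.1 hz (inv_ne_zero hw), Groth.Agent.FFLib.div_inv hK.1, hDN]
    abel
  rw [he, Groth.Agent.FFLib.ell_add_div hK.1 _ (mul_ne_zero hz (inv_ne_zero hw))] at hs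
  omega

end Groth.Agent.S12432
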