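import Groth.Statements.S12435
import Groth.Agent.VADescLib.Main
import Groth.Agent.EGA2SymLib.TensorVA

set_option autoImplicit false
set_option backward.isDefEq.respectTransparency false
set_option backward.isDefEq.respectTransparency.types false
set_option maxRecDepth 8000
set_option maxHeartbeats 1000000
universe u
open CategoryTheory CategoryTheory.Limits AlgebraicGeometry
open Desc

namespace Groth.Agent.S12435

/-- Let f : X → Y be a morphism of finite type, g : Y′ → Y faithfully flat and quasi-compact, X′ = X ×_Y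
Y′ with projections f′ : X′ → Y′ and g′ : X′ → X, and L an invertible O_X-module (locally isomorphic
to O_X). Then L is very ample for f — every point of Y has an open neighbourhood U with an immersion
of f⁻¹(U) into some P^n_U over U under which O(1) pulls back to L — if and only if g′^*L is very
ample for f′ in the same sense. (The published statement has X, Y over a base S and base change
along a faithfully flat quasi-compact S′ → S; the case S = Y stated here is equivalent.) -/
theorem result {X Y Y' : Scheme.{u}} (f : X ⟶ Y)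
    [LocallyOfFiniteType f] [QuasiCompact f] (g : Y' ⟶ Y) [Surjective g] [Flat g] [QuasiCompact g]
    (L : X.Modules) (hL : PicF.IsInvertible L) :
    (∀ y : Y, ∃ U : Y.Opens, y ∈ U ∧ RelAmple.IsRelVeryAmplePn (f ∣_ U) (L.restrict (f ⁻¹ᵁ U).ι)) ↔
      ∀ y' : Y', ∃ U' : Y'.Opens, y' ∈ U' ∧
        RelAmple.IsRelVeryAmplePn (pullback.snd f g ∣_ U')
          (((Scheme.Modules.pullback (pullback.fst f g)).obj L).restrict (pullback.snd f g ⁻¹ᵁ U').ι) := by
  have loc : ∀ {A B : Scheme.{u}} (q : A ⟶ B) [LocallyOfFiniteType q] [QuasiCompact q] (M : A.Modules),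
      PicF.IsInvertible M → RelProj.IsRelVeryAmple q M →
        ∀ b : B, ∃ U : B.Opens, b ∈ U ∧ RelAmple.IsRelVeryAmplePn (q ∣_ U) (M.restrict (q ⁻¹ᵁ U).ι) := by
    intro A B q _ _ M hM h b
    obtain ⟨U, hU, hbU, -⟩ := exists_isAffineOpen_mem_and_subset (X := B) (x := b) (U := ⊤) trivial
    refine ⟨U, hbU, ?_⟩
    haveI : IsAffine (U : Scheme.{u}) := hU
    refine EGA2SymLib.isRelVeryAmplePn_of_isRelVeryAmple _ (AmpleThLib.restrict_isInvertible hM _) ?_
    exact (EGA2SymLib.isRelVeryAmple_iff_of_openCover q hM (fun U : B.affineOpens => (U.1 : B.Opens))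
      (iSup_affineOpens_eq_top B)).mp h ⟨U, hU⟩
  have glob : ∀ {A B : Scheme.{u}} (q : A ⟶ B) [LocallyOfFiniteType q] [QuasiCompact q] (M : A.Modules),
      PicF.IsInvertible M →
      (∀ b : B, ∃ U : B.Opens, b ∈ U ∧ RelAmple.IsRelVeryAmplePn (q ∣_ U) (M.restrict (q ⁻¹ᵁ U).ι)) →
        RelProj.IsRelVeryAmple q M := by
    intro A B q _ _ M hM h
    choose U hbU hU using h
    exact (EGA2SymLib.isRelVeryAmple_iff_of_openCover q hM U
      (eq_top_iff.mpr fun b _ => TopologicalSpace.Opens.mem_iSup.mpr ⟨b, hbU b⟩)).mpr fun b =>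
      EGA2SymLib.isRelVeryAmple_of_isRelVeryAmplePn _ (AmpleThLib.restrict_isInvertible hM _) (hU b)
  have hL' : PicF.IsInvertible ((Scheme.Modules.pullback (pullback.fst f g)).obj L) :=
    AmpleDevLib.isInvertible_pb _ hL
  refine ⟨fun h => loc _ _ hL' ?_, fun h => loc f L hL ?_⟩
  · exact EGA2SymLib.isRelVeryAmple_baseChange f (IsPullback.of_hasPullback f g) L (glob f L hL h)
  · have hva := glob _ _ hL' h
    refine (EGA2SymLib.isRelVeryAmple_iff_of_openCover f hL (fun U : Y.affineOpens => (U.1 : Y.Opens))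
      (iSup_affineOpens_eq_top Y)).mpr ?_
    rintro ⟨U, hU⟩
    haveI : IsAffine (U : Scheme.{u}) := hU
    haveI : CompactSpace (g ⁻¹ᵁ U : Scheme.{u}) :=
      isCompact_iff_compactSpace.mp (g.isCompact_preimage hU.isCompact)
    let 𝒰 := (g ⁻¹ᵁ U : Scheme.{u}).affineCover.finiteSubcover
    haveI : ∀ i, IsAffine (𝒰.X i) := fun i => inferInstanceAs (IsAffine (Spec _))
    let p : (∐ 𝒰.X) ⟶ (g ⁻¹ᵁ U : Scheme.{u}) := Sigma.desc 𝒰.f
    haveI : Flat p := IsZariskiLocalAtSource.sigmaDesc (P := @Flat) fun i => inferInstance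
    haveI : Surjective p := ⟨fun x => by
      obtain ⟨i, y, hy⟩ := 𝒰.exists_eq x
      exact ⟨Sigma.ι 𝒰.X i y, by rw [← Scheme.Hom.comp_apply, Sigma.ι_desc]; exact hy⟩⟩
    haveI : Surjective (g ∣_ U) :=
      MorphismProperty.of_isPullback (P := @Surjective) (isPullback_morphismRestrict g U).flip ‹Surjective g›
    let q : (∐ 𝒰.X) ⟶ (U : Scheme.{u}) := p ≫ g ∣_ U
    let t := p ≫ (g ⁻¹ᵁ U).ι
    have ht : t ≫ g = q ≫ U.ι := by simp [t, q]
    let a := pullback.fst (f ∣_ U) q ≫ (f ⁻¹ᵁ U).ι
    let b := pullback.snd (f ∣_ U) q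
    have hout : IsPullback a b f (t ≫ g) := by
      rw [ht]
      exact (IsPullback.of_hasPullback (f ∣_ U) q).paste_horiz (isPullback_morphismRestrict f U).flip
    let c := (IsPullback.of_hasPullback f g).lift a (b ≫ t) (hout.w.trans (Category.assoc b t g).symm)
    have hc1 : c ≫ pullback.fst f g = a := (IsPullback.of_hasPullback f g).lift_fst _ _ _
    have hc2 : c ≫ pullback.snd f g = b ≫ t := (IsPullback.of_hasPullback f g).lift_snd _ _ _
    have sq : IsPullback c b (pullback.snd f g) t :=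
      IsPullback.of_right (hc1.symm ▸ hout) hc2 (IsPullback.of_hasPullback f g)
    have h2 := EGA2SymLib.isRelVeryAmple_baseChange (pullback.snd f g) sq _ hva
    refine VADescLib.isRelVeryAmple_of_baseChange (IsPullback.of_hasPullback (f ∣_ U) q)
      (AmpleThLib.restrict_isInvertible hL _) (EGA2SymLib.isRelVeryAmple_of_iso ?_ h2)
    exact (Scheme.Modules.pullbackComp c (pullback.fst f g)).app L ≪≫
      (Scheme.Modules.pullbackCongr hc1).app L ≪≫
      ((Scheme.Modules.pullbackComp (pullback.fst (f ∣_ U) q) (f ⁻¹ᵁ U).ι).app L).symm ≪≫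
      (Scheme.Modules.pullback (pullback.fst (f ∣_ U) q)).mapIso
        (((Scheme.Modules.restrictFunctorIsoPullback (f ⁻¹ᵁ U).ι).app L).symm)

end Groth.Agent.S12435
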