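import Groth.Statements.S12436
import Groth.Agent.RuledSurfLib.Basic

set_option autoImplicit false
universe u
open CategoryTheory CategoryTheory.Limits AlgebraicGeometry
open Surf

set_option linter.style.haveILetI false

namespace Groth.Agent.S12436

open KFlatLib (pb)
open IntMultLib IntFunLib HodgeIdxLib SurfNumLib

theorem pr_section (k : Type u) [Field k] {X C : Scheme.{u}} [X.Over (Spec (CommRingCat.of k))]
    [C.Over (Spec (CommRingCat.of k))] [IsProper (X ↘ Spec (CommRingCat.of k))]
    [IsProper (C ↘ Spec (CommRingCat.of k))] (hd : topologicalKrullDim C = 1) (j : C ⟶ X) [IsClosedImmersion j]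
    (hj : j ≫ (X ↘ Spec (CommRingCat.of k)) = C ↘ Spec (CommRingCat.of k))
    (hJ : BlowUp.IsEffCartierIdeal j.ker) {T : X.Modules} (hT : PicF.IsInvertible T) :
    HodgeIdxLib.pr k (ClSub.idealMod j.ker) T = -Curv2.deg k C (pb j T) 1 := by
  haveI := CurvLib.isNoetherian k (X := X)
  haveI := CurvLib.isNoetherian k (X := C)
  rw [pr_ideal _ (CurvLib.isCoh_of_isInvertible (IntMultLib.isInvertible_idealMod _ hJ)) hT,
    N_congr [T] (quotMod_ker_iso j).some,
    ← N_push (k := k) (g := j) hj (l := [T]) (by simpa using hT) (DevissLib.isCoh_structureModule C)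
      ((topologicalKrullDim_subspace_le _ _).trans (by rw [hd]; simp))]
  change -N k [pb j T] (Coh.structureModule C) = _
  rw [← euler_sub_eq_N, Curv2.deg]
  simp

/-- Let π : X → C be a ruled surface over an algebraically closed field k — X a surface (integral, of
dimension two, all local rings regular, with a closed immersion into some P^n_k over k), C a curve
(integral, proper over k, of dimension one, all local rings regular), π a surjective k-morphism with
every closed fibre isomorphic to P^1_k, σ a section — let C₀ = σ(C) with ideal sheaf ker σ, and let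
f = π⁻¹(y) be the fibre over a closed point y, with ideal m_y·O_X. Then C₀.f = 1 and f² = 0; in
terms of the intersection number (L·M) = χ(O) − χ(L) − χ(M) + χ(L ⊗ M) of the ideal sheaves,
(I_{C₀}·I_f) = 1 and (I_f·I_f) = 0. -/
theorem result (k : Type u) [Field k] [IsAlgClosed k] (X : Scheme.{u}) [X.Over (Spec (CommRingCat.of k))]
    [IsIntegral X] (hdim : topologicalKrullDim X = 2) (hreg : ∀ x : X, IsRegularLocalRing (X.presheaf.stalk x))
    (hproj : ∃ (n : ℕ) (ι : X ⟶ CohB1.ProjSpace n k), IsClosedImmersion ι ∧ ι ≫ CohB1.ProjSpace.toSpec n k = (X ↘ (Spec (CommRingCat.of k))))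
    (C : Scheme.{u}) [C.Over (Spec (CommRingCat.of k))]
    [IsIntegral C] [IsProper (C ↘ (Spec (CommRingCat.of k)))] (hdimC : topologicalKrullDim C = 1)
    (hregC : ∀ x : C, IsRegularLocalRing (C.presheaf.stalk x))
    (π : X ⟶ C) (hπ : π ≫ (C ↘ (Spec (CommRingCat.of k))) = (X ↘ (Spec (CommRingCat.of k)))) (hsurj : Function.Surjective π)
    (hfib : ∀ y : C, IsClosed ({y} : Set C) → Nonempty (pullback π (C.fromSpecResidueField y) ≅ CohB1.ProjSpace 1 k))
    (σ : C ⟶ X) (hσ : σ ≫ π = 𝟙 C)
    [HasInjectiveResolutions X.Modules] (y : C) (hy : IsClosed ({y} : Set C)) :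
    FGA.intNum k X 2 ![ClSub.idealMod σ.ker, (ClSub.idealMod ((Scheme.IdealSheafData.vanishingIdeal ⟨{y}, hy⟩).comap π))] (Coh.structureModule X) = 1 ∧
      FGA.intNum k X 2 ![(ClSub.idealMod ((Scheme.IdealSheafData.vanishingIdeal ⟨{y}, hy⟩).comap π)), (ClSub.idealMod ((Scheme.IdealSheafData.vanishingIdeal ⟨{y}, hy⟩).comap π))] (Coh.structureModule X) = 0 := by
  obtain ⟨N, ι, hι, hιe⟩ := hproj
  haveI := hι
  haveI : IsProper (X ↘ Spec (CommRingCat.of k)) := SurfNumLib.isProper_of_embedding ι hιe
  obtain ⟨hCs, hCc⟩ := RuledSurfLib.curve_facts (k := k) hregC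
  haveI := hCs
  haveI := hCc
  have hf := ConicCurveLib.isCurveOfGenus_of_closed_fibres k X C hdim hdimC hregC π hπ hsurj hfib
  haveI := hf.1
  haveI := hf.2.1
  haveI := ZeroFamLib.geometricallyConnected hf
  haveI : IsClosedImmersion σ := by
    haveI : IsClosedImmersion (σ ≫ π) := by rw [hσ]; infer_instance
    exact IsClosedImmersion.of_comp σ π
  have hJ := RelDualLib.isEffCartier_section π (fun s => (ZeroFamLib.fibreData hf s).dim) σ hσ
  obtain ⟨Z, _, i, v, -, -, hI, hpr, h0, h1⟩ := RuledSurfLib.exists_fibre π hf hπ hdimC y hy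
  refine ⟨?_, ?_⟩
  · rw [SurfNumLib.intNum_eq_pr_two hdim, pr_section k hdimC σ (by rw [← hπ, reassoc_of% hσ]) hJ hI, h1 σ hσ]
    rfl
  · rw [SurfNumLib.intNum_eq_pr_two hdim, hpr _ hI, h0, neg_zero]

end Groth.Agent.S12436
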