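import Groth.Statements.S12437
import Groth.Agent.SymIrrLib.Basic

set_option autoImplicit false
universe u
open Cubic

namespace Groth.Agent.S12437

/-- Over an algebraically closed field k of characteristic zero, the closed subscheme V(σ₂, σ₄) of A^5_k
cut out by the elementary symmetric polynomials of degrees 2 and 4 in five variables — the affine
cone over the surface H = V_+(σ₂, σ₄) ⊂ P^4_k — is irreducible: the radical of the ideal (σ₂, σ₄) of
k[X_0, …, X_4] is a prime ideal. -/
theorem result (k : Type u) [Field k] [IsAlgClosed k] [CharZero k] :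
    (Ideal.span ({MvPolynomial.esymm (Fin 5) k 2, MvPolynomial.esymm (Fin 5) k 4} :
      Set (MvPolynomial (Fin 5) k))).radical.IsPrime := by
  let e := MvPolynomial.finSuccEquiv k 4
  have x0 : e (MvPolynomial.X 0) = Polynomial.X := MvPolynomial.finSuccEquiv_X_zero
  have x1 : e (MvPolynomial.X 1) = Polynomial.C (MvPolynomial.X 0) := MvPolynomial.finSuccEquiv_X_succ (j := 0)
  have x2 : e (MvPolynomial.X 2) = Polynomial.C (MvPolynomial.X 1) := MvPolynomial.finSuccEquiv_X_succ (j := 1)
  have x3 : e (MvPolynomial.X 3) = Polynomial.C (MvPolynomial.X 2) := MvPolynomial.finSuccEquiv_X_succ (j := 2)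
  have x4 : e (MvPolynomial.X 4) = Polynomial.C (MvPolynomial.X 3) := MvPolynomial.finSuccEquiv_X_succ (j := 3)
  have s2 : e (MvPolynomial.esymm (Fin 5) k 2) =
      Polynomial.C (SymIrrLib.e2 k) + Polynomial.C (SymIrrLib.e1 k) * Polynomial.X := by
    have h : (Finset.powersetCard 2 (Finset.univ : Finset (Fin 5))) =
        {{0, 1}, {0, 2}, {0, 3}, {0, 4}, {1, 2}, {1, 3}, {1, 4}, {2, 3}, {2, 4}, {3, 4}} := by decide
    rw [MvPolynomial.esymm, h]
    repeat rw [Finset.sum_insert (by decide)]
    rw [Finset.sum_singleton]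
    simp [SymIrrLib.e1, SymIrrLib.e2, x0, x1, x2, x3, x4]
    ring
  have s4 : e (MvPolynomial.esymm (Fin 5) k 4) =
      Polynomial.C (SymIrrLib.e4 k) + Polynomial.C (SymIrrLib.e3 k) * Polynomial.X := by
    have h : (Finset.powersetCard 4 (Finset.univ : Finset (Fin 5))) =
        {{0, 1, 2, 3}, {0, 1, 2, 4}, {0, 1, 3, 4}, {0, 2, 3, 4}, {1, 2, 3, 4}} := by decide
    rw [MvPolynomial.esymm, h]
    repeat rw [Finset.sum_insert (by decide)]
    rw [Finset.sum_singleton]
    simp [SymIrrLib.e3, SymIrrLib.e4, x0, x1, x2, x3, x4]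
    ring
  have key := SymIrrLib.isPrime_radical k
  rw [← s2, ← s4] at key
  have : ((Ideal.span {MvPolynomial.esymm (Fin 5) k 2, MvPolynomial.esymm (Fin 5) k 4}).radical) =
      Ideal.comap (e : _ →+* _) (Ideal.span {e (MvPolynomial.esymm (Fin 5) k 2),
        e (MvPolynomial.esymm (Fin 5) k 4)}).radical := by
    rw [Ideal.comap_radical]
    congr 1
    ext x
    have hm : Ideal.map (e : _ →+* _) (Ideal.span {MvPolynomial.esymm (Fin 5) k 2, MvPolynomial.esymm (Fin 5) k 4}) =
        Ideal.span {e (MvPolynomial.esymm (Fin 5) k 2), e (MvPolynomial.esymm (Fin 5) k 4)} := by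
      rw [Ideal.map_span, Set.image_pair]
      rfl
    rw [← hm]
    exact (SetLike.ext_iff.1 (Ideal.comap_map_of_bijective _ e.bijective) x).symm
  rw [this]
  exact Ideal.IsPrime.comap _

end Groth.Agent.S12437
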