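import Groth.Statements.S12438
import Groth.Agent.S11245
import Groth.Agent.ObsLib.WeightMul
import Groth.Agent.ObsLib.BorelDecomp
import Groth.Agent.ObsLib.AlgMod
import Groth.Agent.ObsLib.Transfer
import Groth.Agent.ObsLib.SemiFrac
import Groth.Agent.ObsLib.UniFG
-- import your own Groth.Agent.* helpers here

set_option autoImplicit false
set_option linter.style.haveILetI false
set_option backward.isDefEq.respectTransparency false
set_option backward.isDefEq.respectTransparency.types false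
set_option maxHeartbeats 2000000
set_option synthInstance.maxHeartbeats 400000
universe u
open CategoryTheory MonoidalCategory CartesianMonoidalCategory MonObj GrpObj AlgebraicGeometry
open scoped TensorProduct
open AGF

attribute [-instance] CategoryTheory.Hom.commGroup

namespace Groth.Agent.S12438

attribute [local instance] BorelLib.pTop BorelLib.pTopTensor BlowRegLib.algTop
open Groth.Agent CoactBr

/-- Let k be an algebraically closed field of characteristic zero, G a connected reductive linear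
algebraic group over k, B a Borel subgroup with unipotent radical U, T a maximal torus of G inside
B, and ω, ω′ characters of T. Write E(ω) for the space of global functions f on G with f(x·u) = f(x)
for u in U and f(x·t) = ω(t)·f(x) for t in T, and assume E(ω) and E(ω′) are nonzero (equivalently ω
and ω′ are dominant). Then the multiplication map E(ω) ⊗ E(ω′) → E(ω + ω′) is surjective: every
function in the weight space of the product character ω·ω′ is a finite sum of products a·b with a ∈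
E(ω) and b ∈ E(ω′). -/
theorem result (k : Type u) [Field k] [IsAlgClosed k] [CharZero k]
    (G : Over (Spec (CommRingCat.of k))) [GrpObj G] (hG : Red.IsReductiveOver k G)
    (Bo : Over (Spec (CommRingCat.of k))) [GrpObj Bo] (iB : Bo ⟶ G) (hB : Red.IsBorelOver k iB)
    (U : Over (Spec (CommRingCat.of k))) [GrpObj U] (u : U ⟶ Bo) (hU : Par.IsUnipotentRadical u)
    (T : Over (Spec (CommRingCat.of k))) [GrpObj T] (t : T ⟶ Bo) [IsMonHom t] (hT : AGF.IsMaxTorus (t ≫ iB))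
    (ω ω' : T ⟶ Red.Gm (Spec (CommRingCat.of k))) [IsMonHom ω] [IsMonHom ω']
    (hω : ∃ a : Γ(G.left, ⊤), a ≠ 0 ∧ (((G ◁ (u ≫ iB)) ≫ μ[G]).left.appTop a = (fst G U).left.appTop a ∧
        ((G ◁ (t ≫ iB)) ≫ μ[G]).left.appTop a = (fst G T).left.appTop a * (snd G T).left.appTop (Red.gmFn ω)))
    (hω' : ∃ b : Γ(G.left, ⊤), b ≠ 0 ∧ (((G ◁ (u ≫ iB)) ≫ μ[G]).left.appTop b = (fst G U).left.appTop b ∧
        ((G ◁ (t ≫ iB)) ≫ μ[G]).left.appTop b = (fst G T).left.appTop b * (snd G T).left.appTop (Red.gmFn ω')))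
    (f : Γ(G.left, ⊤)) (hf : (((G ◁ (u ≫ iB)) ≫ μ[G]).left.appTop f = (fst G U).left.appTop f ∧
        ((G ◁ (t ≫ iB)) ≫ μ[G]).left.appTop f = (fst G T).left.appTop f * (snd G T).left.appTop (Red.gmFn ω * Red.gmFn ω'))) :
    ∃ s : Finset (Γ(G.left, ⊤) × Γ(G.left, ⊤)),
      (∀ p ∈ s, (((G ◁ (u ≫ iB)) ≫ μ[G]).left.appTop p.1 = (fst G U).left.appTop p.1 ∧
        ((G ◁ (t ≫ iB)) ≫ μ[G]).left.appTop p.1 = (fst G T).left.appTop p.1 * (snd G T).left.appTop (Red.gmFn ω)) ∧ (((G ◁ (u ≫ iB)) ≫ μ[G]).left.appTop p.2 = (fst G U).left.appTop p.2 ∧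
        ((G ◁ (t ≫ iB)) ≫ μ[G]).left.appTop p.2 = (fst G T).left.appTop p.2 * (snd G T).left.appTop (Red.gmFn ω'))) ∧
      f = ∑ p ∈ s, p.1 * p.2 := by
  obtain ⟨hGa, hGs, hGc, -⟩ := id hG
  haveI := hGa; haveI := hGs; haveI := hGc
  obtain ⟨R, _, _, v, hv, hR, hR'⟩ := BorelLib.exists_setup G
  haveI := hv; haveI := hR; haveI := hR'
  haveI : QuasiCompact G.hom := inferInstance
  haveI : IsDomain R := ObsLib.isDomain_of_connected (BorelLib.isPreconnected_univ_of_connected v)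
  have hred : BorelLib.IsRedPts k R := BorelLib.isRedPts_of_isReductiveOver v hG
  obtain ⟨hiB, hBc, hBsm, hBconn, -, -⟩ := id hB
  haveI := hiB; haveI := hBc; haveI := hBsm; haveI := hBconn
  obtain ⟨hu, huc, hun, -, -, -, -⟩ := id hU
  haveI := hu
  obtain ⟨hUc, hUsm, hUp, hUs, hUu⟩ := ObsLib.uni_data v iB hB u hU
  haveI := hUc; haveI := hUsm
  obtain ⟨hTm, hTmono, hTT, -⟩ := id hT
  haveI := hTm
  haveI := BorelLib.isClosedImmersion_of_torus v (t ≫ iB) hTT
  haveI : LocallyOfFiniteType T.hom := by rw [← Over.w (t ≫ iB)]; infer_instance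
  haveI : Smooth T.hom := (AlbLib.smooth_connected_of_isTorus hTT).1
  obtain ⟨C, _, _, z, hz, τ, hTa, hC, hC', hτ, -⟩ := ObsLib.exists_sub_data v (t ≫ iB)
  haveI := hz; haveI := hTa; haveI := hC; haveI := hC'
  obtain ⟨D, _, _, w, hw, π, hUa, hD, hD', hπ, -⟩ := ObsLib.exists_sub_data v (u ≫ iB)
  haveI := hw; haveI := hUa; haveI := hD; haveI := hD'
  set N := BorelLib.ptsSub v (u ≫ iB) with hNdef
  set S := BorelLib.ptsSub v (t ≫ iB) with hSdef
  set B := BorelLib.ptsSub v iB with hBdef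
  let s : BorelLib.Pt k C → BorelLib.Pt k R := BorelLib.pull τ
  let chi : Γ(T.left, ⊤) → BorelLib.Pt k C → k := fun c y => y.ofConv (ObsLib.ev z c)
  have hmem : ∀ (c : Γ(T.left, ⊤)) (a : Γ(G.left, ⊤)),
      (((G ◁ (u ≫ iB)) ≫ μ[G]).left.appTop a = (fst G U).left.appTop a ∧
        ((G ◁ (t ≫ iB)) ≫ μ[G]).left.appTop a = (fst G T).left.appTop a * (snd G T).left.appTop c) ↔
      ObsLib.ev v a ∈ ObsLib.wt N s (chi c) := fun c a => by
    refine and_congr (ObsLib.isRTransInv_iff_inv v w hπ a) ⟨fun h y x => ?_, fun h => ObsLib.eq_of_pairs v z fun x y => ?_⟩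
    · have e := congrArg (BlowRegLib.evalPt (lift (ObsLib.ptk v x) (ObsLib.ptk z y))) h
      rw [map_mul, ObsLib.evalPt_lift_mul v z hτ, ObsLib.evalPt_lift_fst v z hτ, ObsLib.evalPt_appTop, lift_snd,
        ObsLib.evalPt_ptk] at e
      rw [e, mul_comm]
    · rw [map_mul, ObsLib.evalPt_lift_mul v z hτ, ObsLib.evalPt_lift_fst v z hτ, ObsLib.evalPt_appTop, lift_snd,
        ObsLib.evalPt_ptk, h y x, mul_comm]
  have hTmax : BorelLib.IsMaxTor ⊤ S := BorelLib.isMaxTor_ptsSub v hT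
  have hSB : S ≤ B := BorelLib.ptsSub_le_of_factor v rfl
  have hTB : BorelLib.IsMaxTor B S := ⟨hSB, hTmax.tor, fun T' _ h hle => hTmax.maximal T' le_top h hle⟩
  have hBor : BorelLib.IsBor ⊤ B := BorelLib.isBor_ptsSub v hB
  have hn : ∀ g ∈ S, ∀ x ∈ N, g * x * g⁻¹ ∈ N := fun g hg x hx => by
    obtain ⟨b, hb⟩ := (BorelLib.mem_ptsSub v).1 (hSB hg)
    obtain ⟨n', hn'⟩ := (BorelLib.mem_ptsSub v).1 hx
    obtain ⟨m, hm⟩ := hun _ b n'
    refine (BorelLib.mem_ptsSub v).2 ⟨m, ?_⟩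
    rw [map_mul, map_mul, map_inv, ← hb, ← hn', ← Category.assoc, ← hm, MonObj.mul_comp, MonObj.mul_comp,
      GrpObj.inv_comp, Category.assoc]
  have hgen : ∀ M : Subgroup (BorelLib.Pt k R), IsClosed (M : Set (BorelLib.Pt k R)) → S ≤ M → N ≤ M → B ≤ M :=
    fun M hM h1 h2 => ObsLib.borel_le v hB hU hT hM h1 h2
  obtain ⟨d, O, hO, hOne, hd, hcell⟩ := ObsLib.exists_cell_torus hred hBor hTB
  -- left translations on the right invariants
  obtain ⟨δ, hδ⟩ := ObsLib.exists_invLeft N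
  obtain ⟨m, hm, hρ⟩ := ObsLib.exists_algMod v δ (fun r => Subtype.ext (by rw [hδ, _root_.inv_one, ObsLib.lT_one]; rfl))
    (fun x y r => Subtype.ext (by rw [hδ, hδ, hδ, _root_.mul_inv_rev, ObsLib.lT_mul]; rfl))
  have hρ' : ∀ x r, (((ObsLib.toRep v m).ρ x r : ↥(ObsLib.invAlg N)) : R) = ObsLib.lT x⁻¹ (r : R) := fun x r => by
    rw [hρ, hδ]
  have hGgrp : VecGrp.IsReductiveGrp k G :=
    ⟨hGa, hGs, G, inferInstance, 𝟙 G, inferInstance, inferInstanceAs (IsOpenImmersion (𝟙 G.left)), hG⟩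
  have hstable : ∀ W : Submodule k R, (∀ a ∈ W, ObsLib.Inv N a) →
      (∀ g : BorelLib.Pt k R, ∀ a ∈ W, ObsLib.lT g a ∈ W) →
      (∀ a, ObsLib.Inv N a → (∀ x ∈ N, ObsLib.lT x a = a) → a ∈ W) → ∀ a, ObsLib.Inv N a → a ∈ W := by
    intro W _ hWl hWf a ha
    let Wc : Submodule k ↥(ObsLib.invAlg N) := W.comap (ObsLib.invAlg N).val.toLinearMap
    have hle : sInf {X : Submodule k ↥(ObsLib.invAlg N) | m.fixedUnder (u ≫ iB) ≤ X ∧ m.IsStable (𝟙 G) X} ≤ Wc := by
      refine sInf_le ⟨fun r hr => ?_, ObsLib.isStable_of_pts v m fun x r hr => ?_⟩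
      · refine hWf _ r.2 fun x hx => ?_
        obtain ⟨y, hy⟩ := (ObsLib.mem_sub_iff v w hπ).1 (N.inv_mem hx)
        have h := congrArg Subtype.val ((ObsLib.fixedUnder_iff v w hπ m r).1 hr y)
        rw [hρ', hy, _root_.inv_inv] at h
        exact h
      · show (((ObsLib.toRep v m).ρ x r : ↥(ObsLib.invAlg N)) : R) ∈ W
        rw [hρ']
        exact hWl _ _ hr
    rw [S11245.result k G hGgrp Bo iB hB U u hU _ m] at hle
    exact hle (Submodule.mem_top (x := (⟨a, ha⟩ : ↥(ObsLib.invAlg N))))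
  have hfix : ∀ c : BorelLib.Pt k C → k, ∀ a ∈ ObsLib.wt N s c, a ≠ 0 →
      ∃ a' ∈ ObsLib.wt N s c, a' ≠ 0 ∧ ∀ x ∈ N, ObsLib.lT x a' = a' := by
    intro c a ha ha0
    let r : ↥(ObsLib.invAlg N) := ⟨a, ha.1⟩
    haveI := ObsLib.finiteDimensional_orbit v m r
    have hstab := ObsLib.stable_orbit v m r
    have hr : r ∈ Submodule.span k (Set.range fun g => (ObsLib.toRep v m).ρ g r) :=
      Submodule.subset_span ⟨1, by simp [(ObsLib.toRep v m).map_one]⟩
    obtain ⟨r', -, hr', hr'0, hr'f⟩ := ObsLib.exists_fixed (ObsLib.toRep v m) hUp hUs hUu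
      (W' := (ObsLib.wt N s c).comap (ObsLib.invAlg N).val.toLinearMap) hstab
      ((Submodule.ne_bot_iff _).2 ⟨r, hr, fun h => ha0 (congrArg Subtype.val h)⟩)
      (fun g _ y hy => by
        show (((ObsLib.toRep v m).ρ g y : ↥(ObsLib.invAlg N)) : R) ∈ ObsLib.wt N s c
        rw [hρ']
        exact ObsLib.lT_mem_wt hy _)
      ((Submodule.ne_bot_iff _).2 ⟨r, ⟨hr, ha⟩, fun h => ha0 (congrArg Subtype.val h)⟩)
    refine ⟨r', hr', fun h => hr'0 (Subtype.ext h), fun x hx => ?_⟩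
    have h := congrArg Subtype.val (hr'f _ (N.inv_mem hx))
    rwa [hρ', _root_.inv_inv] at h
  obtain ⟨a, ha0, ha⟩ := hω
  obtain ⟨b, hb0, hb⟩ := hω'
  have hinj := (ObsLib.ev_bijective v).1
  obtain ⟨a', ha', ha'0, ha'u⟩ := hfix _ _ ((hmem _ a).1 ha) fun h => ha0 (hinj (h.trans (map_zero _).symm))
  obtain ⟨b', hb', hb'0, hb'u⟩ := hfix _ _ ((hmem _ b).1 hb) fun h => hb0 (hinj (h.trans (map_zero _).symm))
  have hne : ∀ y, chi (Red.gmFn ω * Red.gmFn ω') y ≠ 0 := fun y =>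
    (((GmPts.isUnit_gmFn ω).mul (GmPts.isUnit_gmFn ω')).map (ObsLib.ev z)).map y.ofConv |>.ne_zero
  have key := ObsLib.wt_le_mul (φ := chi (Red.gmFn ω * Red.gmFn ω')) (χ := chi (Red.gmFn ω))
    (ψ := chi (Red.gmFn ω')) hTmax.tor (fun y => ObsLib.pull_mem v z hτ y)
    (fun g hg => (ObsLib.mem_sub_iff v z hτ).1 hg) hn hgen hO hOne hd hcell
    (fun y => by simp only [chi, map_mul]) hne hstable ha' hb' ha'0 hb'0 ha'u hb'u ((hmem _ f).1 hf)
  obtain ⟨p, hp, hsum⟩ := ObsLib.exists_finset_sum_mul key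
  let e : Γ(G.left, ⊤) ≃ₐ[k] R := AlgEquiv.ofBijective (ObsLib.ev v) (ObsLib.ev_bijective v)
  refine ⟨p.map (e.symm.toEquiv.prodCongr e.symm.toEquiv).toEmbedding, fun q hq => ?_, ?_⟩
  · obtain ⟨q, hq', rfl⟩ := Finset.mem_map.1 hq
    obtain ⟨h1, h2⟩ := hp q hq'
    exact ⟨(hmem _ _).2 (by show e (e.symm q.1) ∈ _; rw [AlgEquiv.apply_symm_apply]; exact h1),
      (hmem _ _).2 (by show e (e.symm q.2) ∈ _; rw [AlgEquiv.apply_symm_apply]; exact h2)⟩
  · refine e.injective ?_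
    show ObsLib.ev v f = e _
    rw [hsum, map_sum, Finset.sum_map]
    exact Finset.sum_congr rfl fun q _ => by simp

end Groth.Agent.S12438
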