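import Groth.Statements.S1244
import Mathlib

set_option autoImplicit false
set_option linter.style.haveILetI false
set_option backward.isDefEq.respectTransparency false
universe u
open FlatMor

namespace Groth.Agent.S1244

open AlgebraicGeometry CategoryTheory in
/-- Let A be the limit of an inverse system of rings (A_n) indexed by the natural numbers whose
transition maps are surjective with locally nilpotent kernels. Let T → Spec A be a monomorphism of
schemes which is locally of finite type. If each Spec A_n → Spec A factors through T, then T → Spec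
A is an isomorphism. -/
theorem result {A : Type u} [CommRing A] (A' : ℕ → Type u) [∀ n, CommRing (A' n)]
    (φ : ∀ n, A' (n + 1) →+* A' n) (π : ∀ n, A →+* A' n) (hlim : FlatCA.IsRingLimit A A' φ π)
    (hsurj : ∀ n, Function.Surjective (φ n)) (hnil : ∀ n, ∀ x ∈ RingHom.ker (φ n), IsNilpotent x)
    {T : Scheme.{u}} (h : T ⟶ Spec (CommRingCat.of A)) [Mono h] [LocallyOfFiniteType h]
    (hsec : ∀ n, ∃ g : Spec (CommRingCat.of (A' n)) ⟶ T, g ≫ h = Spec.map (CommRingCat.ofHom (π n))) :
    IsIso h := by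
  obtain ⟨hcomp, hinj, hex⟩ := hlim
  have hcomp' : ∀ n a, φ n (π (n + 1) a) = π n a := fun n a => RingHom.congr_fun (hcomp n) a
  -- `π 0` is surjective
  have hπ0 : Function.Surjective (π 0) := fun a₀ => by
    choose l hl using hsurj
    let x : ∀ n, A' n := fun n => n.rec a₀ (fun m xm => l m xm)
    obtain ⟨a, ha⟩ := hex x (fun n => hl n _)
    exact ⟨a, ha 0⟩
  -- the kernel of `π 0` lies in the Jacobson radical
  have hnilp : ∀ n (x : A), π 0 x = 0 → IsNilpotent (π n x) := by
    intro n x hx
    induction n with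
    | zero => exact hx ▸ IsNilpotent.zero
    | succ n ih =>
      obtain ⟨k, hk⟩ := ih
      obtain ⟨l, hl⟩ := hnil n (π (n + 1) x ^ k) (by rw [RingHom.mem_ker, map_pow, hcomp', hk])
      exact ⟨k * l, by rw [pow_mul, hl]⟩
  have hunit : ∀ x : A, π 0 x = 0 → IsUnit (1 + x) := by
    intro x hx
    have hu : ∀ n, IsUnit (π n (1 + x)) := fun n => by
      rw [map_add, map_one]; exact (hnilp n x hx).isUnit_one_add
    obtain ⟨y, hy⟩ := hex (fun n => ((hu n).unit⁻¹ : (A' n)ˣ)) (fun n => by
      apply (hu n).mul_left_cancel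
      rw [IsUnit.mul_val_inv, ← hcomp' n (1 + x), ← map_mul, IsUnit.mul_val_inv, map_one])
    refine .of_mul_eq_one y (hinj _ _ fun n => ?_)
    rw [map_mul, hy n, IsUnit.mul_val_inv, map_one]
  -- the sections and their images
  choose g hg using hsec
  let ρ : ∀ n, CommRingCat.of A ⟶ CommRingCat.of (A' n) := fun n => CommRingCat.ofHom (π n)
  let t : ∀ n, Spec (CommRingCat.of (A' n)) ⟶ Spec (CommRingCat.of (A' (n + 1))) :=
    fun n => Spec.map (CommRingCat.ofHom (φ n))
  have ht : ∀ n, t n ≫ g (n + 1) = g n := fun n => by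
    rw [← cancel_mono h, Category.assoc, hg, hg, ← Spec.map_comp, ← CommRingCat.ofHom_comp, hcomp]
  have htsurj : ∀ n, Function.Surjective (t n) := fun n p => by
    have h2 : p ∈ PrimeSpectrum.zeroLocus (RingHom.ker (φ n) : Set _) := by
      intro x hx
      exact nilpotent_iff_mem_prime.1 (hnil n x hx) _ p.isPrime
    rw [← range_comap_of_surjective _ (φ n) (hsurj n)] at h2
    exact h2
  have hrange : ∀ n, Set.range (g n) ⊆ Set.range (g 0) := by
    intro n
    induction n with
    | zero => exact le_rfl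
    | succ n ih =>
      rintro _ ⟨p, rfl⟩
      obtain ⟨q, rfl⟩ := htsurj n p
      rw [← Scheme.Hom.comp_apply, ht]
      exact ih ⟨q, rfl⟩
  -- a quasi-compact open of `T` through which everything factors
  obtain ⟨U, hUc, hU⟩ : ∃ U : T.Opens, IsCompact (U : Set T) ∧ Set.range (g 0) ⊆ U := by
    have hc : IsCompact (Set.range (g 0)) := isCompact_range (g 0).continuous
    obtain ⟨K, hKc, hKs, hKo⟩ : ∃ K, IsCompact K ∧ Set.range (g 0) ⊆ K ∧ IsOpen K := by
      choose W hWa hxW using fun x : T =>
        (exists_isAffineOpen_mem_and_subset (x := x) (U := ⊤) trivial).imp fun W hW => And.intro hW.1 hW.2.1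
      obtain ⟨s, hs⟩ := hc.elim_finite_subcover (fun x => (W x : Set T)) (fun x => (W x).2)
        (fun x _ => Set.mem_iUnion.2 ⟨x, hxW x⟩)
      exact ⟨_, s.isCompact_biUnion fun x _ => (hWa x).isCompact, hs, isOpen_biUnion fun x _ => (W x).2⟩
    exact ⟨⟨K, hKo⟩, hKc, hKs⟩
  let g' : ∀ n, Spec (CommRingCat.of (A' n)) ⟶ U.toScheme := fun n =>
    IsOpenImmersion.lift U.ι (g n) (by rw [U.range_ι]; exact (hrange n).trans hU)
  have hg' : ∀ n, g' n ≫ U.ι = g n := fun n => IsOpenImmersion.lift_fac _ _ _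
  have ht' : ∀ n, t n ≫ g' (n + 1) = g' n := fun n => by
    rw [← cancel_mono U.ι, Category.assoc, hg', hg', ht]
  -- `U` is quasi-affine
  haveI : CompactSpace U.toScheme := isCompact_iff_compactSpace.mp hUc
  let f := U.ι ≫ h
  haveI : Mono f := mono_comp _ _
  haveI : IsSeparated f := inferInstance
  haveI : LocallyOfFiniteType f := inferInstance
  haveI : LocallyQuasiFinite f := LocallyQuasiFinite.of_injective f.injective
  haveI : QuasiCompact f :=
    HasAffineProperty.iff_of_isAffine.mpr (inferInstanceAs (CompactSpace U.toScheme))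
  haveI : IsAffine f.normalization := isAffine_of_isAffineHom f.fromNormalization
  haveI : U.toScheme.IsQuasiAffine := Scheme.IsQuasiAffine.of_isImmersion f.toNormalization
  -- the map `Γ(U) → A`
  let ψ : ∀ n, Γ(U.toScheme, ⊤) ⟶ CommRingCat.of (A' n) := fun n =>
    Spec.preimage (g' n ≫ U.toScheme.toSpecΓ)
  have hψ : ∀ n b, φ n (ψ (n + 1) b) = ψ n b := fun n b => by
    have e : ψ (n + 1) ≫ CommRingCat.ofHom (φ n) = ψ n := Spec.map_injective (by
      simp only [Spec.map_comp, ψ, Spec.map_preimage]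
      exact (Category.assoc _ _ _).symm.trans (congrArg (· ≫ _) (ht' n)))
    exact congr($(e) b)
  choose r hr using fun b => hex (fun n => ψ n b) (fun n => hψ n b)
  let r' : Γ(U.toScheme, ⊤) →+* A :=
    { toFun := r
      map_one' := hinj _ _ fun n => by rw [hr, map_one, map_one]
      map_mul' := fun a b => hinj _ _ fun n => by rw [map_mul, hr, hr, hr, map_mul]
      map_zero' := hinj _ _ fun n => by rw [hr, map_zero, map_zero]
      map_add' := fun a b => hinj _ _ fun n => by rw [map_add, hr, hr, hr, map_add] }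
  let P : Spec (CommRingCat.of A) ⟶ Spec Γ(U.toScheme, ⊤) := Spec.map (CommRingCat.ofHom r')
  have hP : ∀ n, Spec.map (ρ n) ≫ P = g' n ≫ U.toScheme.toSpecΓ := fun n => by
    rw [← Spec.map_preimage (g' n ≫ U.toScheme.toSpecΓ), ← Spec.map_comp]
    exact congrArg Spec.map (by ext b; exact hr b n)
  have hPrange : Set.range P ⊆ Set.range U.toScheme.toSpecΓ := by
    rintro _ ⟨p, rfl⟩
    obtain ⟨m, hm, hpm⟩ := Ideal.exists_le_maximal p.asIdeal p.isPrime.ne_top
    let q : PrimeSpectrum A := ⟨m, hm.isPrime⟩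
    have hqI : q ∈ PrimeSpectrum.zeroLocus (RingHom.ker (π 0) : Set A) := by
      intro x hx
      have hj : x ∈ (⊥ : Ideal A).jacobson := Ideal.mem_jacobson_bot.2 fun y => ?_
      · exact Ideal.mem_sInf.1 hj ⟨bot_le, hm⟩
      rw [add_comm]
      exact hunit _ (by rw [map_mul, show π 0 x = 0 from hx, zero_mul])
    rw [← range_comap_of_surjective _ (π 0) hπ0] at hqI
    obtain ⟨z, hz⟩ := hqI
    have hspec : P p ⤳ P q :=
      ((PrimeSpectrum.le_iff_specializes p q).1 hpm).map P.continuous
    refine hspec.mem_open (U.toScheme.toSpecΓ.isOpenEmbedding.isOpen_range) ?_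
    refine ⟨g' 0 z, ?_⟩
    rw [← Scheme.Hom.comp_apply, ← hP, Scheme.Hom.comp_apply]
    exact congrArg P hz
  let σ : Spec (CommRingCat.of A) ⟶ U.toScheme := IsOpenImmersion.lift U.toScheme.toSpecΓ P hPrange
  have hσ : ∀ n, Spec.map (ρ n) ≫ σ = g' n := fun n => by
    rw [← cancel_mono U.toScheme.toSpecΓ, Category.assoc, IsOpenImmersion.lift_fac, hP]
  have hid : σ ≫ f = 𝟙 _ := by
    have e : Spec.preimage (σ ≫ f) = 𝟙 _ := by
      ext a
      refine hinj _ _ fun n => ?_
      have e2 : Spec.preimage (σ ≫ f) ≫ ρ n = ρ n := Spec.map_injective (by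
        rw [Spec.map_comp, Spec.map_preimage, ← Category.assoc, hσ, ← Category.assoc, hg', hg])
      exact congr($(e2) a)
    rw [← Spec.map_preimage (σ ≫ f), e, Spec.map_id]
  refine ⟨σ ≫ U.ι, ?_, by rw [Category.assoc]; exact hid⟩
  rw [← cancel_mono h, Category.assoc, Category.assoc, hid, Category.comp_id, Category.id_comp]

end Groth.Agent.S1244
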