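import Groth.Statements.S12443
import Mathlib.CategoryTheory.Adjunction.FullyFaithful
import Mathlib.Topology.Sheaves.Functors


-- import your own Groth.Agent.* helpers here

set_option autoImplicit false
universe u
open CategoryTheory TopologicalSpace
open ShSp

namespace Groth.Agent.S12443

/-- Let j : U → X be the inclusion of an open subset (an open embedding) and F a sheaf of sets on U.
Then the counit j⁻¹ j_* F → F is an isomorphism, i.e. j⁻¹ j_* is the identity on sheaves on U. -/
theorem result {U X : TopCat.{u}} (j : U ⟶ X) (hj : Topology.IsOpenEmbedding j)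
    (F : U.Sheaf (Type u)) :
    IsIso ((TopCat.Sheaf.pullbackPushforwardAdjunction (Type u) j).counit.app F) := by
  have he : ∀ W : Opens U, (Opens.map j).obj (hj.isOpenMap.functor.obj W) = W := fun W =>
    Opens.ext (Set.preimage_image_eq _ hj.injective)
  haveI : (TopCat.Sheaf.pushforward (Type u) j).Faithful := ⟨fun {G H} a b hab => by
    refine Sheaf.hom_ext (NatTrans.ext (funext fun W => ?_))
    obtain ⟨W, rfl⟩ : ∃ V, W = Opposite.op V := ⟨W.unop, rfl⟩
    have h := congrArg (fun t => t.hom.app (Opposite.op (hj.isOpenMap.functor.obj W))) hab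
    change a.hom.app (Opposite.op ((Opens.map j).obj (hj.isOpenMap.functor.obj W))) =
      b.hom.app (Opposite.op ((Opens.map j).obj (hj.isOpenMap.functor.obj W))) at h
    rwa [he] at h⟩
  haveI : (TopCat.Sheaf.pushforward (Type u) j).Full := ⟨fun {G H} c => by
    let a : G ⟶ H := ⟨
      { app := fun W => G.obj.map (eqToHom (congrArg Opposite.op (he W.unop)).symm) ≫
          c.hom.app (Opposite.op (hj.isOpenMap.functor.obj W.unop)) ≫
          H.obj.map (eqToHom (congrArg Opposite.op (he W.unop)))
        naturality := fun W W' i => by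
          have h := c.hom.naturality (hj.isOpenMap.functor.map i.unop).op
          change G.obj.map ((Opens.map j).map (hj.isOpenMap.functor.map i.unop)).op ≫ _ =
            _ ≫ H.obj.map ((Opens.map j).map (hj.isOpenMap.functor.map i.unop)).op at h
          have e1 : i ≫ eqToHom (congrArg Opposite.op (he W'.unop)).symm =
              eqToHom (congrArg Opposite.op (he W.unop)).symm ≫ ((Opens.map j).map (hj.isOpenMap.functor.map i.unop)).op :=
            Subsingleton.elim _ _
          have e2 : ((Opens.map j).map (hj.isOpenMap.functor.map i.unop)).op ≫ eqToHom (congrArg Opposite.op (he W'.unop)) =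
              eqToHom (congrArg Opposite.op (he W.unop)) ≫ i := Subsingleton.elim _ _
          rw [← Category.assoc, ← Functor.map_comp, e1, Functor.map_comp, Category.assoc]
          refine Eq.trans (congrArg (fun t => _ ≫ t) ((Category.assoc _ _ _).symm.trans
            ((congrArg (fun t => t ≫ _) h).trans (Category.assoc _ _ _)))) ?_
          rw [Category.assoc, Category.assoc]
          refine congrArg (fun t => _ ≫ t) (congrArg (fun t => _ ≫ t) ?_)
          exact (H.obj.map_comp _ _).symm.trans ((congrArg H.obj.map e2).trans (H.obj.map_comp _ _)) }⟩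
    refine ⟨a, Sheaf.hom_ext (NatTrans.ext (funext fun V => ?_))⟩
    obtain ⟨V, rfl⟩ : ∃ W, V = Opposite.op W := ⟨V.unop, rfl⟩
    change G.obj.map _ ≫ c.hom.app (Opposite.op (hj.isOpenMap.functor.obj ((Opens.map j).obj V))) ≫ H.obj.map _ =
      c.hom.app (Opposite.op V)
    have hle : hj.isOpenMap.functor.obj ((Opens.map j).obj V) ≤ V := Set.image_preimage_subset _ _
    have h := c.hom.naturality (homOfLE hle).op
    change G.obj.map ((Opens.map j).map (homOfLE hle)).op ≫ _ =
      _ ≫ H.obj.map ((Opens.map j).map (homOfLE hle)).op at h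
    rw [← Category.assoc, show (eqToHom (congrArg Opposite.op (he ((Opens.map j).obj V))).symm) =
      ((Opens.map j).map (homOfLE hle)).op from Subsingleton.elim _ _]
    refine Eq.trans ((congrArg (fun t => t ≫ _) h).trans (Category.assoc _ _ _)) ?_
    refine Eq.trans (congrArg (fun t => _ ≫ t) ((H.obj.map_comp _ _).symm.trans (congrArg H.obj.map
      (show ((Opens.map j).map (homOfLE hle)).op ≫ eqToHom (congrArg Opposite.op (he ((Opens.map j).obj V))) = 𝟙 _
        from Subsingleton.elim _ _)))) ?_
    exact (congrArg (fun t => _ ≫ t) (H.obj.map_id _)).trans (Category.comp_id _)⟩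
  infer_instance

end Groth.Agent.S12443
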