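import Groth.Statements.S12452
import Mathlib

set_option autoImplicit false
universe u
open CategoryTheory TopologicalSpace Opposite
open ShSp

namespace Groth.Agent.S12452

/-- For sheaves of sets, let f : X → Y be a continuous map, F a sheaf of sets on X, G a sheaf of sets on
Y, and B_X, B_Y bases for the topologies of X and Y. Suppose given, for every V in B_Y and U in B_X
with U ⊆ f⁻¹V, a map φ_V^U : G(V) → F(U), compatibly with restrictions. Then there is exactly one
morphism of sheaves ψ : G → f_*F (an f-map G → F) such that G(V) → F(f⁻¹V) → F(U) equals φ_V^U for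
every such pair. -/
theorem result {X Y : TopCat.{u}} (f : X ⟶ Y) (F : X.Sheaf (Type u)) (G : Y.Sheaf (Type u))
    {BX : Set (Opens X)} (hBX : Opens.IsBasis BX) {BY : Set (Opens Y)} (hBY : Opens.IsBasis BY)
    (φ : ∀ (V : BY) (U : BX), (U : Opens X) ≤ (Opens.map f).obj V →
      (G.presheaf.obj (op (V : Opens Y)) → F.presheaf.obj (op (U : Opens X))))
    (hφ : ∀ (V V' : BY) (U U' : BX) (hUV : (U : Opens X) ≤ (Opens.map f).obj V)
      (hU'V' : (U' : Opens X) ≤ (Opens.map f).obj V') (hV : (V' : Opens Y) ≤ V) (hU : (U' : Opens X) ≤ U)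
      (s : G.presheaf.obj (op (V : Opens Y))),
      F.presheaf.map (homOfLE hU).op (φ V U hUV s) = φ V' U' hU'V' (G.presheaf.map (homOfLE hV).op s)) :
    ∃! ψ : G ⟶ (TopCat.Sheaf.pushforward (Type u) f).obj F,
      ∀ (V : BY) (U : BX) (hUV : (U : Opens X) ≤ (Opens.map f).obj V) (s : G.presheaf.obj (op (V : Opens Y))),
        F.presheaf.map (homOfLE hUV).op (ψ.1.app (op (V : Opens Y)) s) = φ V U hUV s := by
  classical
  have hext : ∀ (W : Opens X) (a b : F.presheaf.obj (op W)),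
      (∀ x ∈ W, ∃ U : Opens X, x ∈ U ∧ ∃ h : U ≤ W, F.presheaf.map (homOfLE h).op a = F.presheaf.map (homOfLE h).op b) → a = b := by
    intro W a b h
    choose U hxU hU e using h
    refine TopCat.Sheaf.eq_of_locally_eq' F (fun x : W => U x.1 x.2) W (fun x => homOfLE (hU x.1 x.2)) ?_ a b (fun x => e x.1 x.2)
    exact fun x hx => Opens.mem_iSup.2 ⟨⟨x, hx⟩, hxU x hx⟩
  have hres : ∀ {Z : TopCat.{u}} (H : Z.Sheaf (Type u)) {a b c : Opens Z} (i : b ≤ a) (j : c ≤ b) (s : H.presheaf.obj (op a)),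
      H.presheaf.map (homOfLE j).op (H.presheaf.map (homOfLE i).op s) = H.presheaf.map (homOfLE (j.trans i)).op s := by
    intro Z H a b c i j s
    rw [← ConcreteCategory.comp_apply, ← Functor.map_comp]
    rfl
  let m : ∀ {a b : Opens X}, a ≤ b → F.presheaf.obj (op b) → F.presheaf.obj (op a) :=
    fun h s => F.presheaf.map (homOfLE h).op s
  let n : ∀ {a b : Opens Y}, a ≤ b → G.presheaf.obj (op b) → G.presheaf.obj (op a) :=
    fun h s => G.presheaf.map (homOfLE h).op s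
  have common : ∀ (V V' : BY) (U U' : BX) (hUV : (U : Opens X) ≤ (Opens.map f).obj V) (hUV' : (U' : Opens X) ≤ (Opens.map f).obj V')
      (W : Opens Y) (hV : (V : Opens Y) ≤ W) (hV' : (V' : Opens Y) ≤ W) (s : G.presheaf.obj (op W))
      (x : X), x ∈ (U : Opens X) → x ∈ (U' : Opens X) → ∃ U'' : BX, x ∈ (U'' : Opens X) ∧
        ∃ (h : (U'' : Opens X) ≤ U) (h' : (U'' : Opens X) ≤ U'), m h (φ V U hUV (n hV s)) = m h' (φ V' U' hUV' (n hV' s)) := by
    intro V V' U U' hUV hUV' W hV hV' s x hx hx'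
    obtain ⟨V'', hV'', hxV, hle⟩ := Opens.isBasis_iff_nbhd.1 hBY
      (show f x ∈ (V : Opens Y) ⊓ V' from ⟨hUV hx, hUV' hx'⟩)
    obtain ⟨U'', hU'', hxU, hle'⟩ := Opens.isBasis_iff_nbhd.1 hBX
      (show x ∈ ((U : Opens X) ⊓ U') ⊓ (Opens.map f).obj V'' from ⟨⟨hx, hx'⟩, hxV⟩)
    refine ⟨⟨U'', hU''⟩, hxU, hle'.trans (inf_le_left.trans inf_le_left), hle'.trans (inf_le_left.trans inf_le_right), ?_⟩
    show F.presheaf.map _ (φ V U hUV _) = F.presheaf.map _ (φ V' U' hUV' _)
    rw [hφ V ⟨V'', hV''⟩ U ⟨U'', hU''⟩ hUV (hle'.trans inf_le_right) (hle.trans inf_le_left),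
      hφ V' ⟨V'', hV''⟩ U' ⟨U'', hU''⟩ hUV' (hle'.trans inf_le_right) (hle.trans inf_le_right), hres, hres]
  have hex : ∀ (W : Opens Y) (s : G.presheaf.obj (op W)), ∃! t : F.presheaf.obj (op ((Opens.map f).obj W)),
      ∀ (V : BY) (U : BX) (hV : (V : Opens Y) ≤ W) (hUV : (U : Opens X) ≤ (Opens.map f).obj V),
        m (hUV.trans ((Opens.map f).monotone hV)) t = φ V U hUV (n hV s) := by
    intro W s
    let I := {p : BY × BX // (p.1 : Opens Y) ≤ W ∧ (p.2 : Opens X) ≤ (Opens.map f).obj p.1}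
    have hcompat : TopCat.Presheaf.IsCompatible F.presheaf (fun p : I => (p.1.2 : Opens X)) (fun p => φ p.1.1 p.1.2 p.2.2 (n p.2.1 s)) := by
      intro p q
      refine hext _ _ _ fun x hx => ?_
      obtain ⟨U'', hxU, h, h', e⟩ := common p.1.1 q.1.1 p.1.2 q.1.2 p.2.2 q.2.2 W p.2.1 q.2.1 s x hx.1 hx.2
      refine ⟨U'', hxU, le_inf h h', ?_⟩
      erw [hres, hres]
      exact e
    have hcov : (Opens.map f).obj W ≤ iSup (fun p : I => (p.1.2 : Opens X)) := by
      intro x hx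
      obtain ⟨V, hV, hxV, hle⟩ := Opens.isBasis_iff_nbhd.1 hBY (show f x ∈ W from hx)
      obtain ⟨U, hU, hxU, hle'⟩ := Opens.isBasis_iff_nbhd.1 hBX (show x ∈ (Opens.map f).obj V from hxV)
      exact Opens.mem_iSup.2 ⟨⟨(⟨V, hV⟩, ⟨U, hU⟩), hle, hle'⟩, hxU⟩
    obtain ⟨t, ht, huniq⟩ := TopCat.Sheaf.existsUnique_gluing' F (fun p : I => (p.1.2 : Opens X)) ((Opens.map f).obj W)
      (fun p => homOfLE (p.2.2.trans ((Opens.map f).monotone p.2.1))) hcov _ hcompat
    exact ⟨t, fun V U hV hUV => ht ⟨(V, U), hV, hUV⟩, fun t' ht' => huniq t' fun p => ht' p.1.1 p.1.2 p.2.1 p.2.2⟩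
  choose ψ hψ huniq using hex
  have hnat : ∀ (W W' : Opens Y) (h : W' ≤ W) (s : G.presheaf.obj (op W)),
      ψ W' (n h s) = m ((Opens.map f).monotone h) (ψ W s) := by
    intro W W' h s
    refine (huniq W' (n h s) _ fun V U hV hUV => ?_).symm
    show F.presheaf.map _ (F.presheaf.map _ _) = _
    rw [hres]
    refine (hψ W s V U (hV.trans h) hUV).trans ?_
    show φ V U hUV _ = φ V U hUV (G.presheaf.map _ (G.presheaf.map _ _))
    rw [hres]
  refine ⟨⟨{ app := fun W => TypeCat.ofHom (ψ W.unop), naturality := ?_ }⟩, ?_, ?_⟩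
  · intro W W' i
    ext s
    exact hnat W.unop W'.unop (leOfHom i.unop) s
  · intro V U hUV s
    refine (hψ V s V U le_rfl hUV).trans ?_
    show φ V U hUV (G.presheaf.map _ s) = _
    congr 1
    exact ConcreteCategory.congr_hom (G.presheaf.map_id (op (V : Opens Y))) s
  · intro ψ' hψ'
    refine Sheaf.hom_ext (NatTrans.ext (funext fun W => ?_))
    ext s
    refine huniq W.unop s _ fun V U hV hUV => ?_
    refine Eq.trans ?_ (hψ' V U hUV (n hV s))
    have e := ConcreteCategory.congr_hom (ψ'.1.naturality (homOfLE hV).op) s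
    erw [e]
    exact (hres F ((Opens.map f).monotone hV) hUV _).symm

end Groth.Agent.S12452
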