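import Groth.Statements.S12459
import Groth.Agent.PtTopLib.CatScheme
import Groth.Agent.JacDimLib.Inherit
import Groth.Agent.CatLib.More

-- import your own Groth.Agent.* helpers here

set_option autoImplicit false
universe u
open CategoryTheory AlgebraicGeometry
open Props

namespace Groth.Agent.S12459



/-- For a locally Noetherian scheme S, the scheme S is universally catenary — every scheme X locally of
finite type over S has catenary underlying topological space — if and only if all local rings
O_{S,s} are universally catenary rings. (Schemes X over S are taken in the universe of S.) -/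
theorem result (S : Scheme.{u}) [IsLocallyNoetherian S] :
    (∀ (X : Scheme.{u}) (f : X ⟶ S), LocallyOfFiniteType f → PtTop.IsCatenarySpace X) ↔
      ∀ s : S, CAlg.IsUniversallyCatenary (S.presheaf.stalk s) := by
  constructor
  · intro h s
    obtain ⟨U, hU, hsU, -⟩ := exists_isAffineOpen_mem_and_subset (X := S) (x := s) (U := ⊤) trivial
    haveI : IsNoetherianRing Γ(S, U) := IsLocallyNoetherian.component_noetherian ⟨U, hU⟩
    have hA : CAlg.IsUniversallyCatenary Γ(S, U) := by
      refine ⟨inferInstance, fun B _ _ hB => ?_⟩
      let g : Spec (CommRingCat.of B) ⟶ S := Spec.map (CommRingCat.ofHom (algebraMap Γ(S, U) B)) ≫ hU.fromSpec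
      haveI : LocallyOfFiniteType (Spec.map (CommRingCat.ofHom (algebraMap Γ(S, U) B))) := by
        rw [HasRingHomProperty.Spec_iff (P := @LocallyOfFiniteType)]
        exact RingHom.finiteType_algebraMap.mpr hB
      haveI : LocallyOfFiniteType g := inferInstanceAs (LocallyOfFiniteType (_ ≫ _))
      exact (PtTopLib.isCatenarySpace_spec_iff B).mp (h _ g inferInstance)
    letI := TopCat.Presheaf.algebra_section_stalk S.presheaf (⟨s, hsU⟩ : (U : Set S))
    haveI : IsLocalization.AtPrime (S.presheaf.stalk s) (hU.primeIdealOf ⟨s, hsU⟩).asIdeal :=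
      hU.isLocalization_stalk ⟨s, hsU⟩
    exact CatLib.isUniversallyCatenary_of_isLocalization (hU.primeIdealOf ⟨s, hsU⟩).asIdeal.primeCompl _ hA
  · intro h X f hf
    rw [PtTopLib.isCatenarySpace_iff_stalks]
    intro x
    exact (JacDimLib.isUniversallyCatenary_stalk_of_lft f x (h _)).2 _ inferInstance


end Groth.Agent.S12459
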