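import Groth.Statements.S12460
import Mathlib
-- import your own Groth.Agent.* helpers here

set_option autoImplicit false
universe u
open CategoryTheory AlgebraicGeometry
open Props

namespace Groth.Agent.S12460
set_option linter.all false
theorem regLocus_iff {Y : Scheme.{u}} {V : Y.Opens} (hV : IsAffineOpen V) (q : PrimeSpectrum Γ(Y, V)) :
    IsRegularLocalRing (Y.presheaf.stalk (hV.fromSpec.base q)) ↔ q ∈ EGA4.regLocus Γ(Y, V) := by
  have hy : hV.fromSpec.base q ∈ V := by
    show _ ∈ (V : Set Y)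
    rw [← hV.range_fromSpec]; exact ⟨q, rfl⟩
  letI alg := Y.presheaf.algebra_section_stalk (⟨_, hy⟩ : V)
  haveI : IsLocalization.AtPrime (Y.presheaf.stalk (hV.fromSpec.base q)) q.asIdeal :=
    hV.isLocalization_stalk' q hy
  let e := IsLocalization.algEquiv q.asIdeal.primeCompl (Localization.AtPrime q.asIdeal)
    (Y.presheaf.stalk (hV.fromSpec.base q))
  exact ⟨fun h => IsRegularLocalRing.of_ringEquiv e.toRingEquiv.symm,
    fun (h : IsRegularLocalRing (Localization.AtPrime q.asIdeal)) =>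
      IsRegularLocalRing.of_ringEquiv e.toRingEquiv⟩

theorem j2_of_open {X : Scheme.{u}} {U : X.Opens} (hU : IsAffineOpen U)
    (h : ∀ (Y : Scheme.{u}) (g : Y ⟶ X), LocallyOfFiniteType g →
      IsOpen {y : Y | IsRegularLocalRing (Y.presheaf.stalk y)}) : EGA4.IsJ2 Γ(X, U) := by
  intro S _ _ hS
  haveI : LocallyOfFiniteType (Spec.map (CommRingCat.ofHom (algebraMap Γ(X, U) S))) :=
    (HasRingHomProperty.Spec_iff (P := @LocallyOfFiniteType)).mpr (RingHom.finiteType_algebraMap.mpr hS)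
  have ho := h _ (Spec.map (CommRingCat.ofHom (algebraMap Γ(X, U) S)) ≫ hU.fromSpec) inferInstance
  have e : EGA4.regLocus S = {y : Spec (CommRingCat.of S) |
      IsRegularLocalRing ((Spec (CommRingCat.of S)).presheaf.stalk y)} := by
    ext q
    letI alg : Algebra S ((Spec (CommRingCat.of S)).presheaf.stalk q) :=
      (inferInstance : Algebra S ((Spec.structureSheaf S).presheaf.stalk q))
    haveI : IsLocalization.AtPrime ((Spec (CommRingCat.of S)).presheaf.stalk q) q.asIdeal :=
      inferInstanceAs (IsLocalization.AtPrime ((Spec.structureSheaf S).presheaf.stalk q) q.asIdeal)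
    let e := IsLocalization.algEquiv q.asIdeal.primeCompl (Localization.AtPrime q.asIdeal)
      ((Spec (CommRingCat.of S)).presheaf.stalk q)
    exact ⟨fun (h : IsRegularLocalRing (Localization.AtPrime q.asIdeal)) =>
        IsRegularLocalRing.of_ringEquiv e.toRingEquiv,
      fun (h : IsRegularLocalRing ((Spec (CommRingCat.of S)).presheaf.stalk q)) => IsRegularLocalRing.of_ringEquiv e.toRingEquiv.symm⟩
  rw [e]; exact ho

theorem open_of_j2 {X : Scheme.{u}}
    (h : ∀ x : X, ∃ U : X.affineOpens, x ∈ (U : X.Opens) ∧ EGA4.IsJ2 Γ(X, U))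
    (Y : Scheme.{u}) (g : Y ⟶ X) (hg : LocallyOfFiniteType g) :
    IsOpen {y : Y | IsRegularLocalRing (Y.presheaf.stalk y)} := by
  rw [isOpen_iff_forall_mem_open]
  intro y hy
  obtain ⟨U, hyU, hJ⟩ := h (g.base y)
  obtain ⟨_, ⟨V, hV, rfl⟩, hyV, hVU⟩ := Y.isBasis_affineOpens.exists_subset_of_mem_open
    (show y ∈ g ⁻¹ᵁ U.1 from hyU) (g ⁻¹ᵁ U.1).2
  have hft := HasRingHomProperty.appLE (P := @LocallyOfFiniteType) g hg U ⟨V, hV⟩ hVU
  letI := (g.appLE U.1 V hVU).hom.toAlgebra
  haveI : Algebra.FiniteType Γ(X, U.1) Γ(Y, V) := hft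
  have ho := hJ Γ(Y, V) inferInstance
  refine ⟨hV.fromSpec.base '' EGA4.regLocus Γ(Y, V), ?_, hV.fromSpec.isOpenEmbedding.isOpenMap _ ho, ?_⟩
  · rintro _ ⟨q, hq, rfl⟩; exact (regLocus_iff hV q).2 hq
  · obtain ⟨q, hq⟩ : y ∈ Set.range hV.fromSpec := by rw [hV.range_fromSpec]; exact hyV
    exact ⟨q, (regLocus_iff hV q).1 (by rw [show hV.fromSpec.base q = y from hq]; exact hy), hq⟩


/-- (1) ⇔ (3) ⇔ (4): let X be a locally Noetherian scheme. Then X is J-2 — for every morphism Y → X
locally of finite type the set of points y with O_{Y,y} a regular local ring is open in Y — if and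
only if for every affine open U of X the ring Γ(X, U) is J-2 (every finite type algebra over it has
open regular locus), if and only if every point of X lies in such an affine open. (Schemes Y over X
are taken in the universe of X.) -/
theorem result (X : Scheme.{u}) [IsLocallyNoetherian X] :
    ((∀ (Y : Scheme.{u}) (g : Y ⟶ X), LocallyOfFiniteType g →
        IsOpen {y : Y | IsRegularLocalRing (Y.presheaf.stalk y)}) ↔
      ∀ U : X.affineOpens, EGA4.IsJ2 Γ(X, U)) ∧
    ((∀ (Y : Scheme.{u}) (g : Y ⟶ X), LocallyOfFiniteType g →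
        IsOpen {y : Y | IsRegularLocalRing (Y.presheaf.stalk y)}) ↔
      ∀ x : X, ∃ U : X.affineOpens, x ∈ (U : X.Opens) ∧ EGA4.IsJ2 Γ(X, U)) := by
  refine ⟨⟨fun h U => j2_of_open U.2 h, fun h => open_of_j2 fun x => ?_⟩,
    ⟨fun h x => ?_, open_of_j2⟩⟩
  · obtain ⟨_, ⟨U, hU, rfl⟩, hxU, -⟩ := X.isBasis_affineOpens.exists_subset_of_mem_open
      (Set.mem_univ x) isOpen_univ
    exact ⟨⟨U, hU⟩, hxU, h _⟩
  · obtain ⟨_, ⟨U, hU, rfl⟩, hxU, -⟩ := X.isBasis_affineOpens.exists_subset_of_mem_open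
      (Set.mem_univ x) isOpen_univ
    exact ⟨⟨U, hU⟩, hxU, j2_of_open hU h⟩

end Groth.Agent.S12460
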