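import Groth.Statements.S12462
import Groth.Agent.SpecSubLib.More
-- import your own Groth.Agent.* helpers here

set_option autoImplicit false
universe u
open CategoryTheory CategoryTheory.Limits
open SpecSp Topology

namespace Groth.Agent.S12462

/-- A spectral space is a directed inverse limit of finite sober topological spaces. Precisely: for X
spectral there exist a nonempty directed preordered index set J, a functor from the opposite of J to
topological spaces whose values are finite sober (T0, every irreducible closed subset has a generic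
point) spaces, and a limit cone of it whose vertex is isomorphic to X. -/
theorem result (X : Type u) [TopologicalSpace X] [SpectralSpace X] :
    ∃ (J : Type u) (_ : Preorder J) (_ : Nonempty J) (_ : IsDirected J (· ≤ ·)) (F : Jᵒᵖ ⥤ TopCat.{u})
      (c : Cone F), Nonempty (IsLimit c) ∧
        (∀ j : Jᵒᵖ, Finite (F.obj j) ∧ T0Space (F.obj j) ∧ QuasiSober (F.obj j)) ∧
        Nonempty (c.pt ≅ TopCat.of X) := by
  classical
  let CO : Type u := {U : Set X // IsOpen U ∧ IsCompact U}
  let pr : (G : Finset CO) → X → (G → Prop) := fun G x U => x ∈ U.1.1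
  have hpr : ∀ G, Continuous (pr G) := fun G => continuous_pi fun U => continuous_Prop.mpr U.1.2.1
  have fin_qs : ∀ {Y : Type u} [TopologicalSpace Y] [Finite Y], QuasiSober Y := by
    intro Y _ _
    refine ⟨fun {S} hS hSc => ?_⟩
    obtain ⟨t, ht, hSt⟩ := (isIrreducible_iff_sUnion_isClosed.mp hS) (Finset.image (fun y => closure {y}) (Set.toFinite S).toFinset)
      (fun z hz => by obtain ⟨y, -, rfl⟩ := Finset.mem_image.mp hz; exact isClosed_closure)
      (fun y hy => Set.mem_sUnion.mpr ⟨closure {y}, by simpa using ⟨y, hy, rfl⟩, subset_closure rfl⟩)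
    obtain ⟨y, hy, rfl⟩ := Finset.mem_image.mp ht
    exact ⟨y, Set.Subset.antisymm (hSc.closure_subset_iff.mpr (by simpa using hy)) hSt⟩
  let res : {G H : Finset CO} → G ≤ H → Set.range (pr H) → Set.range (pr G) := fun {G H} h p =>
    ⟨fun U => p.1 ⟨U.1, h U.2⟩, by obtain ⟨x, hx⟩ := p.2; exact ⟨x, by rw [← hx]⟩⟩
  have hres : ∀ {G H : Finset CO} (h : G ≤ H), Continuous (res h) := fun h =>
    (continuous_pi fun U => (continuous_apply (⟨U.1, h U.2⟩ : {x // x ∈ _})).comp continuous_subtype_val).subtype_mk _
  let F : (Finset CO)ᵒᵖ ⥤ TopCat.{u} :=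
    { obj := fun G => TopCat.of (Set.range (pr G.unop))
      map := fun f => TopCat.ofHom ⟨res (leOfHom f.unop), hres _⟩
      map_id := fun _ => rfl
      map_comp := fun _ _ => rfl }
  let c : Cone F :=
    { pt := TopCat.of X
      π := { app := fun G => TopCat.ofHom ⟨fun x => ⟨pr G.unop x, x, rfl⟩, (hpr _).subtype_mk _⟩
             naturality := fun _ _ _ => rfl } }
  refine ⟨Finset CO, inferInstance, inferInstance, inferInstance, F, c, ?_, fun G => ?_, ⟨Iso.refl _⟩⟩
  swap
  · haveI : Finite (F.obj G) := inferInstanceAs (Finite (Set.range (pr G.unop)))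
    exact ⟨inferInstance, inferInstanceAs (T0Space (Set.range (pr G.unop))), fin_qs⟩
  let q : (s : Cone F) → s.pt → CO → Prop := fun s p U =>
    ((s.π.app ⟨{U}⟩) p).1 ⟨U, Finset.mem_singleton_self U⟩
  have hq : ∀ (s : Cone F) (p : s.pt) (G : Finset CO) (U : G), ((s.π.app ⟨G⟩) p).1 U = q s p U.1 := by
    intro s p G U
    have h := s.w (homOfLE (show ({U.1} : Finset CO) ≤ G from Finset.singleton_subset_iff.mpr U.2)).op
    have := congrArg (fun g => (g p).1 ⟨U.1, Finset.mem_singleton_self _⟩) h
    simpa [q, F, res] using this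
  have exu : ∀ (s : Cone F) (p : s.pt), ∃ x : X, ∀ U : CO, x ∈ U.1 ↔ q s p U := by
    intro s p
    let C : CO → Set X := fun U => if q s p U then U.1 else U.1ᶜ
    have hC : ∀ U, IsClosed[constructibleTopology X] (C U) := fun U => by
      have hc : IsConstructible U.1 :=
        U.2.2.isConstructible U.2.1
      by_cases h : q s p U
      · simp only [C, if_pos h]; exact Groth.Agent.SpecSubLib.isClosed_cons_of_isConstructible hc
      · simp only [C, if_neg h]; exact Groth.Agent.SpecSubLib.isClosed_cons_of_isConstructible hc.compl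
    have hfip : ∀ G : Finset CO, (⋂ U ∈ G, C U).Nonempty := by
      intro G
      obtain ⟨x, hx⟩ := ((s.π.app ⟨G⟩) p).2
      refine ⟨x, Set.mem_iInter₂.mpr fun U hU => ?_⟩
      have h : (x ∈ U.1) = q s p U := (congrFun hx ⟨U, hU⟩).trans (hq s p G ⟨U, hU⟩)
      by_cases h' : q s p U
      · simp only [C, if_pos h']; exact h ▸ h'
      · simp only [C, if_neg h', Set.mem_compl_iff, h]; exact h'
    haveI := compactSpace_withConstructibleTopology (X := X)
    obtain ⟨z, hz⟩ := CompactSpace.iInter_nonempty (fun U =>
        @IsClosed.preimage (WithConstructibleTopology X) X _ (constructibleTopology X) WithTopology.ofTopology (WithTopology.continuous_ofTopology _) _ (hC U)) (fun G => by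
          obtain ⟨x, hx⟩ := hfip G
          exact ⟨WithTopology.toTopology _ x, Set.mem_iInter₂.mpr fun U hU => Set.mem_iInter₂.mp hx U hU⟩)
    refine ⟨WithTopology.ofTopology z, fun U => ?_⟩
    have := Set.mem_iInter.mp hz U
    by_cases h : q s p U <;> simp_all [C]
  choose g hg using exu
  have basis : ∀ x y : X, (∀ U : CO, x ∈ U.1 ↔ y ∈ U.1) → x = y := fun x y h =>
    ((PrespectralSpace.isTopologicalBasis (X := X)).inseparable_iff.mpr fun U hU => h ⟨U, hU⟩).eq
  have hgc : ∀ s : Cone F, Continuous (g s) := fun s => by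
    rw [(PrespectralSpace.isTopologicalBasis (X := X)).continuous_iff]
    intro U hU
    have : g s ⁻¹' U = {p | q s p ⟨U, hU⟩} := Set.ext fun p => hg s p ⟨U, hU⟩
    rw [this]
    exact continuous_Prop.mp ((continuous_apply _).comp (continuous_subtype_val.comp (s.π.app _).hom.continuous))
  exact ⟨{
    lift := fun s => TopCat.ofHom ⟨g s, hgc s⟩
    fac := fun s G => by
      apply TopCat.hom_ext; ext p
      exact (hg s p (Subtype.val ‹_›)).trans (iff_of_eq (hq s p G.unop _).symm)
    uniq := fun s m hm => by
      apply TopCat.hom_ext; ext p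
      refine basis _ _ fun U => ?_
      exact (iff_of_eq (congrArg (fun f => (f p).1 ⟨U, Finset.mem_singleton_self U⟩) (hm ⟨{U}⟩))).trans (hg s p U).symm }⟩

end Groth.Agent.S12462
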