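import Groth.Statements.S12463
import Groth.Agent.S7652
import Mathlib.RingTheory.Length
import Mathlib.RingTheory.DiscreteValuationRing.TFAE
import Mathlib.RingTheory.Ideal.GoingUp
import Mathlib.FieldTheory.PurelyInseparable.Basic

set_option autoImplicit false
universe u
open Variety

namespace Groth.Agent.S12463
open IsLocalRing

theorem length_key {A C : Type u} [CommRing A] [IsLocalRing A] [CommRing C] [Algebra A C] [Module.Finite A C]
    (s : Finset (MaximalSpectrum C)) :
    ∃ P : C →ₗ[A] (∀ m : s, C ⧸ m.1.asIdeal), Function.Surjective P ∧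
      (∀ c, ∀ m : s, P c m = Ideal.Quotient.mk m.1.asIdeal c) ∧
      (∑ m : s, Module.length A (C ⧸ m.1.asIdeal)) + Module.length A
          (LinearMap.ker ((LinearMap.range (P ∘ₗ Algebra.linearMap A C)).mkQ ∘ₗ P) ⧸
            Submodule.comap (LinearMap.ker ((LinearMap.range (P ∘ₗ Algebra.linearMap A C)).mkQ ∘ₗ P)).subtype
              (LinearMap.range (Algebra.linearMap A C))) ≤
        Module.length A (C ⧸ LinearMap.range (Algebra.linearMap A C)) + 1 := by
  classical
  let P : C →ₗ[A] (∀ m : s, C ⧸ m.1.asIdeal) :=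
    LinearMap.pi fun m => (Ideal.Quotient.mkₐ A m.1.asIdeal).toLinearMap
  have hP : Function.Surjective P := fun z => by
    obtain ⟨c, hc⟩ := Ideal.exists_forall_sub_mem_ideal (I := fun m : s => m.1.asIdeal)
      (fun m n hmn => by
        haveI := m.1.isMaximal
        haveI := n.1.isMaximal
        exact Ideal.isCoprime_of_isMaximal fun h => hmn (Subtype.ext (MaximalSpectrum.ext h)))
      (fun m => Quotient.out (z m))
    refine ⟨c, funext fun m => ?_⟩
    change Ideal.Quotient.mk m.1.asIdeal c = z m
    rw [(Ideal.Quotient.eq).2 (hc m)]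
    exact Quotient.out_eq _
  refine ⟨P, hP, fun _ _ => rfl, ?_⟩
  rw [← Module.length_pi_of_fintype]
  set R0 := LinearMap.range (P ∘ₗ Algebra.linearMap A C)
  set g := R0.mkQ ∘ₗ P
  set K0 := LinearMap.ker g
  set W := LinearMap.range (Algebra.linearMap A C)
  have hW : W ≤ K0 := by
    rintro _ ⟨a, rfl⟩
    exact (Submodule.Quotient.mk_eq_zero R0).2 ⟨a, rfl⟩
  have e1 := Module.length_eq_add_of_exact R0.subtype R0.mkQ Subtype.val_injective (Submodule.mkQ_surjective _)
    (LinearMap.exact_subtype_mkQ _)
  have e2 : Module.length A (C ⧸ W) = Module.length A (K0 ⧸ Submodule.comap K0.subtype W) +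
      Module.length A ((∀ m : s, C ⧸ m.1.asIdeal) ⧸ R0) := by
    refine Module.length_eq_add_of_exact (Submodule.mapQ _ W K0.subtype le_rfl) (Submodule.liftQ W g hW) ?_ ?_ ?_
    · rw [← LinearMap.ker_eq_bot, Submodule.ker_mapQ]; simp
    · intro z
      obtain ⟨c, rfl⟩ := ((Submodule.mkQ_surjective R0).comp hP) z
      exact ⟨Submodule.Quotient.mk c, rfl⟩
    · rw [LinearMap.exact_iff, Submodule.ker_liftQ]
      ext x
      constructor
      · rintro ⟨c, hc, rfl⟩
        exact ⟨Submodule.Quotient.mk ⟨c, hc⟩, rfl⟩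
      · rintro ⟨z, rfl⟩
        obtain ⟨c, rfl⟩ := Submodule.mkQ_surjective _ z
        exact ⟨c.1, c.2, rfl⟩
  have h2 : Module.length A R0 ≤ 1 := by
    by_cases hs : s.Nonempty
    · let f : ResidueField A →ₗ[A] (∀ m : s, C ⧸ m.1.asIdeal) :=
        Submodule.liftQ _ (P ∘ₗ Algebra.linearMap A C) fun a ha => by
          rw [LinearMap.mem_ker]
          funext m
          change Ideal.Quotient.mk m.1.asIdeal (algebraMap A C a) = 0
          rw [Ideal.Quotient.eq_zero_iff_mem, ← Ideal.mem_comap]
          haveI := m.1.isMaximal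
          rw [eq_maximalIdeal (Ideal.isMaximal_comap_of_isIntegral_of_isMaximal (R := A) m.1.asIdeal)]
          exact ha
      have hR : R0 = LinearMap.range f := (Submodule.range_liftQ _ _ _).symm
      rw [hR]
      refine (Module.length_le_of_surjective f.rangeRestrict f.surjective_rangeRestrict).trans_eq ?_
      rw [Module.length_eq_of_surjective (S := A) residue_surjective]
      exact Module.length_eq_one _ _
    · haveI : IsEmpty ↥s := ⟨fun m => hs ⟨m.1, m.2⟩⟩
      simp [Module.length_eq_zero]
  rw [e1, e2]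
  calc _ = Module.length A R0 + (Module.length A (K0 ⧸ Submodule.comap K0.subtype W) +
        Module.length A ((∀ m : s, C ⧸ m.1.asIdeal) ⧸ R0)) := by ring
    _ ≤ 1 + _ := add_le_add h2 le_rfl
    _ = _ := add_comm _ _

theorem core {A C : Type u} [CommRing A] [IsLocalRing A] [CommRing C] [Algebra A C] [Module.Finite A C]
    (δ : ℕ) (hδ : Module.length A (C ⧸ LinearMap.range (Algebra.linearMap A C)) = δ)
    (hcard : (δ : ℕ∞) + 1 ≤ ENat.card (MaximalSpectrum C)) :
    (∀ m : MaximalSpectrum C, Function.Surjective (algebraMap A (C ⧸ m.asIdeal))) ∧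
      ∀ c : C, (∃ a : A, ∀ m : MaximalSpectrum C, c - algebraMap A C a ∈ m.asIdeal) →
        c ∈ (algebraMap A C).range := by
  classical
  have hlen : ∀ m : MaximalSpectrum C, 1 ≤ Module.length A (C ⧸ m.asIdeal) := fun m =>
    Order.one_le_iff_ne_zero.2 fun h => by
      haveI := Module.length_eq_zero_iff.1 h
      haveI := Ideal.Quotient.nontrivial_iff.2 m.isMaximal.ne_top
      exact not_subsingleton (C ⧸ m.asIdeal) inferInstance
  have hfin : ∀ s : Finset (MaximalSpectrum C), (s.card : ℕ∞) ≤ δ + 1 := fun s => by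
    obtain ⟨P, -, -, h⟩ := length_key (A := A) s
    rw [hδ] at h
    refine le_trans ?_ (le_trans le_self_add h)
    refine le_trans ?_ (Finset.sum_le_sum fun (m : s) _ => hlen m.1)
    simp
  haveI : Finite (MaximalSpectrum C) := by
    by_contra hinf
    rw [not_finite_iff_infinite] at hinf
    obtain ⟨s, hs⟩ := Infinite.exists_subset_card_eq (MaximalSpectrum C) (δ + 2)
    have := hfin s
    rw [hs] at this
    norm_cast at this
    omega
  haveI := Fintype.ofFinite (MaximalSpectrum C)
  obtain ⟨P, hP, hPm, h⟩ := length_key (A := A) (Finset.univ : Finset (MaximalSpectrum C))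
  rw [hδ] at h
  set rest := Module.length A
    (LinearMap.ker ((LinearMap.range (P ∘ₗ Algebra.linearMap A C)).mkQ ∘ₗ P) ⧸
      Submodule.comap (LinearMap.ker ((LinearMap.range (P ∘ₗ Algebra.linearMap A C)).mkQ ∘ₗ P)).subtype
        (LinearMap.range (Algebra.linearMap A C)))
  have hN : (δ : ℕ∞) + 1 ≤ ∑ m : (Finset.univ : Finset (MaximalSpectrum C)), (1 : ℕ∞) := by
    refine hcard.trans_eq ?_
    simp [ENat.card_eq_coe_fintype_card]
  have hsum : ∑ m : (Finset.univ : Finset (MaximalSpectrum C)), Module.length A (C ⧸ m.1.asIdeal) ≤ δ + 1 :=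
    le_self_add.trans h
  have hrest : rest = 0 := by
    have h1 : ((δ : ℕ∞) + 1) + rest ≤ δ + 1 :=
      (add_le_add (hN.trans (Finset.sum_le_sum fun (m : (Finset.univ : Finset (MaximalSpectrum C))) _ => hlen m.1))
        le_rfl).trans h
    have h2 : rest ≠ ⊤ := fun h2 => by rw [h2, add_top] at h1; exact absurd h1 (by simp)
    obtain ⟨r, hr⟩ := ENat.ne_top_iff_exists.1 h2
    rw [← hr] at h1 ⊢
    norm_cast at h1 ⊢
    omega
  have hone : ∀ m : MaximalSpectrum C, Module.length A (C ⧸ m.asIdeal) ≤ 1 := fun m => by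
    by_contra hm
    have h1 : ∑ m : (Finset.univ : Finset (MaximalSpectrum C)), (1 : ℕ∞) <
        ∑ m : (Finset.univ : Finset (MaximalSpectrum C)), Module.length A (C ⧸ m.1.asIdeal) := by
      have : ∀ m' : (Finset.univ : Finset (MaximalSpectrum C)), Module.length A (C ⧸ m'.1.asIdeal) ≠ ⊤ := fun m' h' =>
        absurd ((Finset.single_le_sum (fun _ _ => zero_le) (Finset.mem_univ m')).trans hsum) (by simp [h'])
      choose f hf using fun m' => ENat.ne_top_iff_exists.1 (this m')
      simp only [← hf]
      rw [← Nat.cast_one, ← Nat.cast_sum, ← Nat.cast_sum, Nat.cast_lt]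
      refine Finset.sum_lt_sum (fun m' _ => ?_) ⟨⟨m, Finset.mem_univ m⟩, Finset.mem_univ _, ?_⟩
      · have := hlen m'.1
        rw [← hf] at this
        exact_mod_cast this
      · have hm' := hm
        rw [← hf ⟨m, Finset.mem_univ m⟩] at hm'
        exact_mod_cast lt_of_not_ge hm'
    exact absurd (hN.trans_lt h1) (not_lt.2 hsum)
  refine ⟨fun m z => ?_, fun c ⟨a, ha⟩ => ?_⟩
  · haveI := m.isMaximal
    have hs : IsSimpleModule A (C ⧸ m.asIdeal) := Module.length_eq_one_iff.1 (le_antisymm (hone m) (hlen m))
    have hne : LinearMap.range (Algebra.linearMap A (C ⧸ m.asIdeal)) ≠ ⊥ := fun hb =>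
      one_ne_zero ((Submodule.mem_bot A).1 (hb ▸ ⟨1, by simp⟩) : (1 : C ⧸ m.asIdeal) = 0)
    exact LinearMap.range_eq_top.1 ((eq_bot_or_eq_top _).resolve_left hne) z
  · rw [Module.length_eq_zero_iff, Submodule.Quotient.subsingleton_iff, Submodule.comap_subtype_eq_top] at hrest
    have hker : c - algebraMap A C a ∈ LinearMap.ker ((LinearMap.range (P ∘ₗ Algebra.linearMap A C)).mkQ ∘ₗ P) := by
      rw [LinearMap.mem_ker, LinearMap.comp_apply,
        show P (c - algebraMap A C a) = 0 from funext fun m => (hPm _ m).trans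
          ((Ideal.Quotient.eq_zero_iff_mem).2 (ha m.1)), map_zero]
    obtain ⟨b, hb⟩ := hrest hker
    exact ⟨b + a, by rw [map_add]; exact (eq_add_of_sub_eq hb.symm).symm⟩

/-- Let (A, m) be a strictly henselian reduced Nagata local ring of dimension one with δ-invariant equal
to the number of geometric branches minus one, and A' the integral closure of A in its total ring of
fractions. Then A is a wedge of discrete valuation rings: for every maximal ideal m' of A' the
localization A'_{m'} is a discrete valuation ring whose residue field is the image of A, and A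
consists exactly of the elements of A' congruent to an element of A modulo every maximal ideal of A'
(the displayed inclusion; the reverse inclusion is trivial). (The inequality δ ≥ branches − 1 of the
published statement holds for every reduced Nagata local ring of dimension one and is not restated.) -/
theorem result (A : Type u) [CommRing A] [HenselianLocalRing A]
    [IsSepClosed (IsLocalRing.ResidueField A)] [IsReduced A] (hN : CAlg.IsNagata A) (hdim : ringKrullDim A = 1)
    (heq : Curv2.deltaInv A + 1 = Brnch.numGeomBranches A) :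
    (∀ m' : MaximalSpectrum ↥(integralClosure A (FractionRing A)),
        (∃ _ : IsDomain (Localization.AtPrime m'.asIdeal), IsDiscreteValuationRing (Localization.AtPrime m'.asIdeal)) ∧
        Function.Surjective (⇑(IsLocalRing.residue (Localization.AtPrime m'.asIdeal)) ∘
          ⇑(algebraMap ↥(integralClosure A (FractionRing A)) (Localization.AtPrime m'.asIdeal)) ∘
          ⇑(algebraMap A ↥(integralClosure A (FractionRing A))))) ∧
    ∀ a' : ↥(integralClosure A (FractionRing A)),
      (∃ a : A, ∀ m' : MaximalSpectrum ↥(integralClosure A (FractionRing A)),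
          a' - algebraMap A _ a ∈ m'.asIdeal) →
      a' ∈ (algebraMap A ↥(integralClosure A (FractionRing A))).range := by
  classical
  haveI := hN.1
  obtain ⟨hfin, hnorm, hdelta⟩ := S7652.result A hN hdim
  obtain ⟨δ, hδ⟩ := ENat.ne_top_iff_exists.1 hdelta.ne
  have hbij : Function.Bijective (Ideal.Quotient.mk (nilradical A)) :=
    ⟨(RingHom.injective_iff_ker_eq_bot _).2 (by rw [Ideal.mk_ker, nilradical_eq_zero]; rfl),
      Ideal.Quotient.mk_surjective⟩
  haveI : IsFractionRing A (FractionRing (CAlg2.red A)) := by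
    constructor
    constructor
    · rintro ⟨y, hy⟩
      rw [IsScalarTower.algebraMap_apply A (CAlg2.red A)]
      refine IsLocalization.map_units (M := nonZeroDivisors (CAlg2.red A)) _ ⟨_, ?_⟩
      rw [mem_nonZeroDivisors_iff_right] at hy ⊢
      intro z hz
      obtain ⟨z, rfl⟩ := hbij.2 z
      have : z * y = 0 := hbij.1 (by rw [map_mul, map_zero]; exact hz)
      rw [hy z this, map_zero]
    · intro z
      obtain ⟨⟨a, s⟩, h⟩ := IsLocalization.surj (nonZeroDivisors (CAlg2.red A)) z
      obtain ⟨a, rfl⟩ := hbij.2 a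
      obtain ⟨t, ht⟩ := hbij.2 s
      have ht' : t ∈ nonZeroDivisors A := by
        rw [mem_nonZeroDivisors_iff_right]
        intro w hw
        refine hbij.1 ((mem_nonZeroDivisors_iff_right.1 s.2 _ ?_).trans (map_zero _).symm)
        rw [← ht, ← map_mul, hw, map_zero]
      refine ⟨(a, ⟨t, ht'⟩), ?_⟩
      rw [IsScalarTower.algebraMap_apply A (CAlg2.red A), IsScalarTower.algebraMap_apply A (CAlg2.red A)]
      change z * algebraMap (CAlg2.red A) _ (Ideal.Quotient.mk _ t) = _
      rw [ht]
      exact h
    · intro x y h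
      rw [IsScalarTower.algebraMap_apply A (CAlg2.red A), IsScalarTower.algebraMap_apply A (CAlg2.red A)] at h
      exact ⟨1, congrArg _ (hbij.1 (IsFractionRing.injective (CAlg2.red A) _ h))⟩
  let e : FractionRing A ≃ₐ[A] FractionRing (CAlg2.red A) := IsLocalization.algEquiv (nonZeroDivisors A) _ _
  let ψ : ↥(integralClosure A (FractionRing A)) ≃ₐ[A] CAlg2.normRed A :=
    { toFun := fun x => ⟨e x.1, IsIntegral.tower_top (R := A) (x.2.map e.toAlgHom)⟩
      invFun := fun x => ⟨e.symm x.1, (isIntegral_trans (A := CAlg2.red A) x.1 x.2).map e.symm.toAlgHom⟩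
      left_inv := fun x => Subtype.ext (e.symm_apply_apply _)
      right_inv := fun x => Subtype.ext (e.apply_symm_apply _)
      map_mul' := fun x y => Subtype.ext (map_mul e _ _)
      map_add' := fun x y => Subtype.ext (map_add e _ _)
      commutes' := fun r => Subtype.ext (e.commutes r) }
  haveI : Module.Finite A (CAlg2.normRed A) := Module.Finite.equiv ψ.toLinearEquiv
  have hsub : ∀ m' : MaximalSpectrum (CAlg2.normRed A), Subsingleton (Brnch.Emb A m') := by
    intro m'
    haveI := m'.isMaximal
    letI := Ideal.Quotient.field m'.asIdeal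
    have hk : ∀ x ∈ maximalIdeal A, algebraMap A (CAlg2.normRed A ⧸ m'.asIdeal) x = 0 := fun x hx => by
      rw [← eq_maximalIdeal (Ideal.isMaximal_comap_of_isIntegral_of_isMaximal (R := A) m'.asIdeal),
        Ideal.mem_comap] at hx
      exact Ideal.Quotient.eq_zero_iff_mem.2 hx
    letI : Algebra (ResidueField A) (CAlg2.normRed A ⧸ m'.asIdeal) :=
      (Ideal.Quotient.lift (maximalIdeal A) (algebraMap A _) hk).toAlgebra
    haveI : IsScalarTower A (ResidueField A) (CAlg2.normRed A ⧸ m'.asIdeal) :=
      IsScalarTower.of_algebraMap_eq fun _ => rfl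
    haveI : Module.Finite (ResidueField A) (CAlg2.normRed A ⧸ m'.asIdeal) :=
      Module.Finite.of_restrictScalars_finite A _ _
    refine ⟨fun σ τ => Subtype.ext (IsPurelyInseparable.injective_comp_algebraMap (ResidueField A)
      (CAlg2.normRed A ⧸ m'.asIdeal) (AlgebraicClosure (ResidueField A)) ?_)⟩
    ext r
    obtain ⟨a, rfl⟩ := residue_surjective r
    exact (DFunLike.congr_fun σ.2 a).trans (DFunLike.congr_fun τ.2 a).symm
  have hcard : (δ : ℕ∞) + 1 ≤ ENat.card (MaximalSpectrum ↥(integralClosure A (FractionRing A))) := by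
    rw [hδ, heq, Brnch.numGeomBranches, if_pos (minimalPrimes.finite_of_isNoetherianRing A)]
    let h : (Σ m : MaximalSpectrum (CAlg2.normRed A), Brnch.Emb A m) →
        MaximalSpectrum ↥(integralClosure A (FractionRing A)) := fun p =>
      ⟨p.1.asIdeal.comap ψ.toRingEquiv.toRingHom,
        Ideal.comap_isMaximal_of_surjective _ ψ.surjective (H := p.1.isMaximal)⟩
    refine ENat.card_le_card_of_injective (f := h) ?_
    rintro ⟨m, σ⟩ ⟨n, τ⟩ he
    obtain rfl : m = n := MaximalSpectrum.ext
      (Ideal.comap_injective_of_surjective _ ψ.surjective (congrArg MaximalSpectrum.asIdeal he))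
    rw [(hsub m).elim σ τ]
  obtain ⟨hsurj, hmem⟩ := core δ hδ.symm hcard
  refine ⟨fun m' => ⟨?_, ?_⟩, hmem⟩
  · haveI := m'.isMaximal
    obtain ⟨hD, hI⟩ := hnorm ⟨m'.asIdeal, inferInstance⟩
    haveI := hD
    haveI := hI
    haveI : IsNoetherianRing ↥(integralClosure A (FractionRing A)) := IsNoetherianRing.of_finite A _
    haveI : IsNoetherianRing (Localization.AtPrime m'.asIdeal) :=
      IsLocalization.isNoetherianRing m'.asIdeal.primeCompl _ inferInstance
    refine ⟨hD, ?_⟩
    have hmA := eq_maximalIdeal (Ideal.isMaximal_comap_of_isIntegral_of_isMaximal (R := A) m'.asIdeal)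
    have hnm : maximalIdeal A ∉ minimalPrimes A := fun hmin => by
      have h0 : maximalIdeal A = ⊥ := by
        refine le_bot_iff.1 (le_trans ?_ (nilradical_eq_zero A).le)
        intro x hx
        rw [nilradical_eq_sInf, Submodule.mem_sInf]
        intro q (hq : Ideal.IsPrime q)
        exact hmin.2 ⟨hq, bot_le⟩ (le_maximalIdeal hq.ne_top) hx
      have h1 := ringKrullDim_eq_zero_of_isField (isField_iff_maximalIdeal_eq.2 h0)
      rw [hdim] at h1
      exact one_ne_zero h1
    have hnf : ¬ IsField (Localization.AtPrime m'.asIdeal) := fun hf => by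
      obtain ⟨x, hx, hxn⟩ : ∃ x ∈ maximalIdeal A, x ∈ nonZeroDivisors A := by
        by_contra hc
        push Not at hc
        have hsub' : (maximalIdeal A : Set A) ⊆ ⋃ q ∈ (minimalPrimes.finite_of_isNoetherianRing A).toFinset,
            (q : Set A) := by
          intro x hx
          have hnd := hc x hx
          rw [mem_nonZeroDivisors_iff_right] at hnd
          push Not at hnd
          obtain ⟨y, hxy, hy⟩ := hnd
          have hy' : y ∉ sInf (minimalPrimes A) := by
            rw [show sInf (minimalPrimes A) = nilradical A by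
              rw [nilradical, ← Ideal.sInf_minimalPrimes]; rfl, nilradical_eq_zero]
            simpa using hy
          rw [Submodule.mem_sInf] at hy'
          push Not at hy'
          obtain ⟨q, hq, hyq⟩ := hy'
          simp only [Set.mem_iUnion, Set.Finite.mem_toFinset]
          exact ⟨q, hq, (hq.1.1.mem_or_mem (show y * x ∈ q by rw [hxy]; exact q.zero_mem)).resolve_left hyq⟩
        obtain ⟨q, hq, hpq⟩ := (Ideal.subset_union_prime (s := (minimalPrimes.finite_of_isNoetherianRing A).toFinset)
          (f := id) ⊥ ⊥ fun q hq _ _ => ((Set.Finite.mem_toFinset _).1 hq).1.1).1 hsub'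
        rw [Set.Finite.mem_toFinset] at hq
        exact hnm ((le_antisymm hpq (le_maximalIdeal hq.1.1.ne_top) : maximalIdeal A = q) ▸ hq)
      have h1 : algebraMap ↥(integralClosure A (FractionRing A)) (Localization.AtPrime m'.asIdeal)
          (algebraMap A _ x) = 0 := by
        by_contra h1
        have hu : IsUnit (algebraMap ↥(integralClosure A (FractionRing A)) (Localization.AtPrime m'.asIdeal)
            (algebraMap A _ x)) := by
          obtain ⟨b, hb⟩ := hf.mul_inv_cancel h1
          exact IsUnit.of_mul_eq_one b hb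
        rw [IsLocalization.AtPrime.isUnit_to_map_iff _ m'.asIdeal] at hu
        exact hu (Ideal.mem_comap.1 (hmA.symm ▸ hx))
      obtain ⟨⟨c, hc⟩, h2⟩ := (IsLocalization.map_eq_zero_iff m'.asIdeal.primeCompl _ _).1 h1
      have hxu : IsUnit (algebraMap A (FractionRing A) x) := IsLocalization.map_units _ ⟨x, hxn⟩
      have hc0 : (c : FractionRing A) = 0 := hxu.mul_left_eq_zero.1 (congrArg Subtype.val h2)
      exact hc (by rw [Subtype.ext (show (c : FractionRing A) = (0 : ↥(integralClosure A (FractionRing A))) from hc0)]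
                   exact m'.asIdeal.zero_mem)
    have htfae : IsDiscreteValuationRing (Localization.AtPrime m'.asIdeal) ↔
        (IsIntegrallyClosed (Localization.AtPrime m'.asIdeal) ∧
          ∃! P : Ideal (Localization.AtPrime m'.asIdeal), P ≠ ⊥ ∧ P.IsPrime) :=
      (IsDiscreteValuationRing.TFAE _ hnf).out 0 3
    refine htfae.2 ⟨inferInstance, IsLocalRing.maximalIdeal _,
      ⟨fun h => hnf (isField_iff_maximalIdeal_eq.2 h), inferInstance⟩, fun P hP => ?_⟩
    haveI := hP.2
    by_contra hne
    haveI : (⊥ : Ideal (Localization.AtPrime m'.asIdeal)).IsPrime := Ideal.isPrime_bot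
    have hlt : ∀ {I J : Ideal (Localization.AtPrime m'.asIdeal)}, I.IsPrime → I < J →
        I.under ↥(integralClosure A (FractionRing A)) < J.under _ := fun {I J} _ hIJ =>
      lt_of_le_of_ne (Ideal.comap_mono hIJ.le) fun h => hIJ.ne (by
        rw [← IsLocalization.map_under m'.asIdeal.primeCompl _ I, ← IsLocalization.map_under m'.asIdeal.primeCompl _ J, h])
    have l1 := hlt inferInstance (bot_lt_iff_ne_bot.2 hP.1)
    have l2 := hlt hP.2 (lt_of_le_of_ne (le_maximalIdeal hP.2.ne_top) hne)
    have k1 := Ideal.IsIntegral.comap_lt_comap (R := A) l1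
    have k2 := Ideal.IsIntegral.comap_lt_comap (R := A) l2
    let p : Fin 3 → PrimeSpectrum A := ![⟨_, Ideal.IsPrime.comap (algebraMap A _) (K := (⊥ : Ideal (Localization.AtPrime m'.asIdeal)).under ↥(integralClosure A (FractionRing A)))⟩,
      ⟨_, Ideal.IsPrime.comap (algebraMap A _) (K := P.under ↥(integralClosure A (FractionRing A)))⟩,
      ⟨_, Ideal.IsPrime.comap (algebraMap A _) (K := (maximalIdeal (Localization.AtPrime m'.asIdeal)).under ↥(integralClosure A (FractionRing A)))⟩]
    have hmono : StrictMono p := by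
      refine Fin.strictMono_iff_lt_succ.2 fun i => ?_
      fin_cases i
      · exact k1
      · exact k2
    have := Order.LTSeries.length_le_krullDim (LTSeries.mk 2 p hmono)
    rw [← ringKrullDim, hdim] at this
    exact absurd (by exact_mod_cast this : (2 : ℕ) ≤ 1) (by decide)
  · intro z
    obtain ⟨z, rfl⟩ := residue_surjective z
    obtain ⟨⟨c, s⟩, hz⟩ := IsLocalization.surj m'.asIdeal.primeCompl z
    haveI := m'.isMaximal
    letI := Ideal.Quotient.field m'.asIdeal
    obtain ⟨a, ha⟩ := hsurj m' (Ideal.Quotient.mk _ c * (Ideal.Quotient.mk m'.asIdeal s)⁻¹)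
    refine ⟨a, ?_⟩
    have hs0 : Ideal.Quotient.mk m'.asIdeal (s : ↥(integralClosure A (FractionRing A))) ≠ 0 :=
      fun h => s.2 (Ideal.Quotient.eq_zero_iff_mem.1 h)
    have hmem' : algebraMap A _ a * s - c ∈ m'.asIdeal := by
      rw [← Ideal.Quotient.eq_zero_iff_mem, map_sub, map_mul, Ideal.Quotient.mk_algebraMap, ha,
        inv_mul_cancel_right₀ hs0, sub_self]
    simp only [Function.comp_apply]
    set R := Localization.AtPrime m'.asIdeal
    have h1 : residue R (algebraMap _ R (algebraMap A _ a * (s : ↥(integralClosure A (FractionRing A))) - c)) = 0 := by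
      rw [residue_eq_zero_iff, mem_maximalIdeal, mem_nonunits_iff, IsLocalization.AtPrime.isUnit_to_map_iff R m'.asIdeal]
      exact fun hn => hn hmem'
    rw [map_sub, map_mul, ← hz, map_sub, map_mul, map_mul, ← sub_mul] at h1
    have hs : residue R (algebraMap _ R (s : ↥(integralClosure A (FractionRing A)))) ≠ 0 := by
      rw [Ne, residue_eq_zero_iff, mem_maximalIdeal, mem_nonunits_iff, not_not]
      exact IsLocalization.map_units _ s
    exact sub_eq_zero.1 ((mul_eq_zero.1 h1).resolve_right hs)

end Groth.Agent.S12463
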