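import Groth.Statements.S12466
import Mathlib
import Groth.Agent.SncLib.Main
import Groth.Agent.NagataFG.Closure
import Groth.Agent.DimIneqLib.Dim
-- import your own Groth.Agent.* helpers here

set_option autoImplicit false
universe u
open CategoryTheory CategoryTheory.Limits AlgebraicGeometry
open Resolve

namespace Groth.Agent.S12466

/-- Let X be an integral Noetherian scheme which is regular of dimension two and Z ⊂ X a closed
subscheme with ideal I ≠ 0 such that every integral closed subscheme of dimension one contained in Z
has finite normalization. Then there is a finite sequence of blowings up in closed points g : X' → X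
such that the inverse image ideal I·O_{X'} is the ideal of an effective Cartier divisor supported on
a strict normal crossings divisor, i.e. for every point p of its support there are an affine open U
∋ p, a regular system of parameters x_1, …, x_d of O_{X',p} (d = dim O_{X',p}, the x_i generating
the maximal ideal) and 1 ≤ r ≤ d such that the radical of the inverse image ideal, taken in
O_{X',p}, is generated by x_1⋯x_r. (The published statement takes X any regular scheme of dimension
two, hence only locally Noetherian, and Z any proper closed subscheme whose one-dimensional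
irreducible components have finite normalization; this row takes X integral and Noetherian. For the
disjoint union of a regular surface and a regular curve, with Z the curve, no sequence of blowings
up in closed points makes the inverse image of Z an effective Cartier divisor (the
largest-Cartier-divisor step of the proof needs every piece of X of dimension exactly two), and a
finite sequence of blowings up in single closed points can resolve Z only when X is quasi-compact,
since a non-quasi-compact regular surface may carry a curve with infinitely many singular points.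
The quasi-compactness and quasi-separatedness binders in the hypothesis on the components of Z
always hold.) -/
theorem result (X : Scheme.{u}) [IsIntegral X] [IsNoetherian X]
    (hreg : ∀ x : X, IsRegularLocalRing (X.presheaf.stalk x)) (hdim : topologicalKrullDim X = 2)
    (I : X.IdealSheafData) (hI : I ≠ ⊥)
    (hZ : ∀ (J : X.IdealSheafData) [IsIntegral J.subscheme]
      [QuasiCompact (J.subscheme.fromSpecStalk (genericPoint ↥J.subscheme))]
      [QuasiSeparated (J.subscheme.fromSpecStalk (genericPoint ↥J.subscheme))],
      (J.support : Set X) ⊆ I.support → topologicalKrullDim ↥J.subscheme = 1 →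
        IsFinite (Curv2.normalizationι J.subscheme)) :
    ∃ (X' : Scheme.{u}) (g : X' ⟶ X), Models.IsContractionSeq g ∧ BlowUp.IsEffCartierIdeal (I.comap g) ∧
      ∀ p : X', p ∈ ((I.comap g).support : Set X') →
        ∃ (U : X'.affineOpens) (hp : p ∈ (U : X'.Opens)) (d r : ℕ) (x : Fin d → X'.presheaf.stalk p),
          1 ≤ r ∧ r ≤ d ∧ ringKrullDim (X'.presheaf.stalk p) = (d : WithBot ℕ∞) ∧
          Ideal.span (Set.range x) = IsLocalRing.maximalIdeal (X'.presheaf.stalk p) ∧
          ((I.comap g).radical.ideal U).map (X'.presheaf.germ (U : X'.Opens) p hp).hom =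
            Ideal.span {∏ i : Fin d, if (i : ℕ) < r then x i else 1} := by
  classical
  let S : Set X := {η | η ∈ (I.support : Set X) ∧ ∀ y ∈ (I.support : Set X), y ⤳ η → y = η}
  have hSf : S.Finite := by
    obtain ⟨K, hK, hKcl, hKir, hKeq⟩ := TopologicalSpace.NoetherianSpace.exists_finite_set_isClosed_irreducible I.support.isClosed
    refine (hK.biUnion fun t ht => Set.Subsingleton.finite (s := {z : X | IsGenericPoint z t}) fun a ha b hb =>
      ha.eq hb).subset ?_
    rintro z ⟨hz, hmax⟩
    obtain ⟨t, ht, hzt⟩ : z ∈ ⋃₀ K := hKeq ▸ hz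
    obtain ⟨η, hη⟩ := QuasiSober.sober (hKir t ht) (hKcl t ht)
    have : η = z := hmax η (hKeq.symm ▸ ⟨t, ht, hη.mem⟩) (hη.specializes hzt)
    exact Set.mem_iUnion₂.2 ⟨t, ht, this ▸ hη⟩
  let T₀ : Set X := {t ∈ S | IsClosed ({t} : Set X)}
  let S' : Set X := {t ∈ S | ¬ IsClosed ({t} : Set X)}
  have hS' : S'.Finite := hSf.subset fun a ha => ha.1
  haveI : Fintype S' := hS'.fintype
  let e : S' ≃ Fin (Fintype.card S') := Fintype.equivFin S'
  let J : Fin (Fintype.card S') → X.IdealSheafData := fun i => IntMult.ptIdeal (e.symm i).1
  haveI hJint : ∀ i, IsIntegral (J i).subscheme := fun i => NagataFG.isIntegral_closure _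
  have hsupp : ∀ i, ((J i).support : Set X) = closure {(e.symm i).1} := fun i =>
    Scheme.IdealSheafData.coe_support_vanishingIdeal _
  haveI hYn : ∀ i, IsNoetherian (J i).subscheme := fun i => {
    toIsLocallyNoetherian := LocallyOfFiniteType.isLocallyNoetherian (J i).subschemeι
    toCompactSpace := QuasiCompact.compactSpace_of_compactSpace (J i).subschemeι }
  have hJI : ∀ i, ((J i).support : Set X) ⊆ I.support := fun i => by
    rw [hsupp]
    exact closure_minimal (Set.singleton_subset_iff.2 (e.symm i).2.1.1) I.support.isClosed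
  have hgenI := SncLib.generic_not_mem hI
  have hJd : ∀ i, topologicalKrullDim ↥(J i).subscheme = 1 := fun i => by
    have hη : (J i).subschemeι (genericPoint ↥(J i).subscheme) = (e.symm i).1 := by
      have h1 : IsGenericPoint ((J i).subschemeι (genericPoint ↥(J i).subscheme)) (closure ({(e.symm i).1} : Set X)) := by
        have := (genericPoint_spec ↥(J i).subscheme).image (J i).subschemeι.continuous
        rw [Set.image_univ, Scheme.IdealSheafData.range_subschemeι, hsupp, closure_closure] at this
        exact this
      exact h1.eq isGenericPoint_closure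
    have hne : (J i).subschemeι (genericPoint ↥(J i).subscheme) ≠ genericPoint X := fun h =>
      hgenI (h ▸ hη.symm ▸ (e.symm i).2.1.1)
    refine le_antisymm (le_of_not_gt fun hlt => ?_) ?_
    · have h2 : ((2 : ℕ) : WithBot ℕ∞) ≤ topologicalKrullDim ↥(J i).subscheme :=
        SncLib.two_le_of_one_lt hlt
      obtain ⟨c, hinj, hc⟩ := FibDimLib.exists_specChain h2
      have hemb := (J i).subschemeι.isClosedEmbedding.injective
      have hsp : ∀ a b : Fin 3, a ≤ b → (J i).subschemeι (c a) ⤳ (J i).subschemeι (c b) := fun a b hab =>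
        (hc a b hab).map (J i).subschemeι.continuous
      have hne' : genericPoint X ≠ (J i).subschemeι (c 0) := fun h => hgenI (hJI i (h ▸ by
        rw [← Scheme.IdealSheafData.range_subschemeι]; exact ⟨_, rfl⟩))
      have h3 := ((((DimIneqLib.chainTo_zero (genericPoint X)).step (genericPoint_specializes _) hne').step
        (hsp 0 1 (by decide)) fun h => absurd (hinj (hemb h)) (by decide)).step
        (hsp 1 2 (by decide)) fun h => absurd (hinj (hemb h)) (by decide)).le_dim
      rw [hdim] at h3
      exact absurd h3 (by decide)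
    · obtain ⟨z, hz⟩ : ∃ z : ↥(J i).subscheme, z ≠ genericPoint ↥(J i).subscheme := by
        by_contra hall
        push Not at hall
        refine (e.symm i).2.2 ?_
        rw [← hη, ← Set.image_singleton,
          show ({genericPoint ↥(J i).subscheme} : Set ↥(J i).subscheme) = Set.univ from
            Set.eq_univ_of_forall fun z => hall z]
        exact (J i).subschemeι.isClosedEmbedding.isClosedMap _ isClosed_univ
      exact ((DimIneqLib.chainTo_zero _).step (genericPoint_specializes z) (Ne.symm hz)).le_dim
  have hfin : ∀ i, IsFinite (Curv2.normalizationι (J i).subscheme) := fun i => hZ (J i) (hJI i) (hJd i)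
  obtain ⟨X', g, hg, hcar, hloc⟩ := SncLib.resolution hreg hdim.le I hI J hJd hJI hfin T₀ (hSf.subset fun a ha => ha.1)
    (fun t ht => ht.2) (fun w hw => by
      obtain ⟨K, hK, hKcl, hKir, hKeq⟩ := TopologicalSpace.NoetherianSpace.exists_finite_set_isClosed_irreducible I.support.isClosed
      obtain ⟨t₀, ht₀, hwt₀⟩ : w ∈ ⋃₀ K := hKeq ▸ hw
      obtain ⟨t, ⟨ht, hwt⟩, htmax⟩ := Set.Finite.exists_maximal (s := {t ∈ K | w ∈ t}) (hK.subset fun a ha => ha.1) ⟨t₀, ht₀, hwt₀⟩
      obtain ⟨η, hη⟩ := QuasiSober.sober (hKir t ht) (hKcl t ht)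
      have hηS : η ∈ S := ⟨hKeq ▸ ⟨t, ht, hη.mem⟩, fun y hy hyη => by
        obtain ⟨t', ht', hyt'⟩ : y ∈ ⋃₀ K := hKeq ▸ hy
        have hsub' : t ⊆ t' := fun a ha => (hη.specializes ha).mem_closed (hKcl t' ht') (hyη.mem_closed (hKcl t' ht') hyt')
        exact ((hη.specializes (htmax ⟨ht', hsub' hwt⟩ hsub' hyt')).antisymm hyη).eq.symm⟩
      by_cases hc : IsClosed ({η} : Set X)
      · exact Or.inr ((Set.mem_singleton_iff.1 ((hη.specializes hwt).mem_closed hc rfl)).symm ▸ ⟨hηS, hc⟩)
      · refine Or.inl (Set.mem_iUnion.2 ⟨e ⟨η, hηS, hc⟩, ?_⟩)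
        rw [hsupp, Equiv.symm_apply_apply]
        exact (hη.specializes hwt).mem_closure)
  refine ⟨X', g, ?_, hcar, fun p hp => ?_⟩
  · simpa using hg (𝟙 X) (Models.IsContractionSeq.iso (Iso.refl X))
  obtain ⟨d, r, x, h1, h2, h3, h4, h5⟩ := hloc p hp
  obtain ⟨U, hU, hpU, -⟩ := exists_isAffineOpen_mem_and_subset (x := p) (U := ⊤) trivial
  refine ⟨⟨U, hU⟩, hpU, d, r, x, h1, h2, h3, h4, ?_⟩
  rw [← h5, SDivLib.stalkIdeal_eq (I.comap g) ⟨U, hU⟩ hpU]
  letI := X'.presheaf.algebra_section_stalk (⟨p, hpU⟩ : U)
  haveI hP : (SDivLib.prm ⟨U, hU⟩ hpU).IsPrime := SDivLib.prm_isPrime ⟨U, hU⟩ hpU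
  haveI : @IsLocalization.AtPrime Γ(X', U) _ (X'.presheaf.stalk p) _ _ (SDivLib.prm ⟨U, hU⟩ hpU) hP :=
    hU.isLocalization_stalk ⟨p, hpU⟩
  exact IsLocalization.map_radical (SDivLib.prm ⟨U, hU⟩ hpU).primeCompl (X'.presheaf.stalk p) _

end Groth.Agent.S12466
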