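import Groth.Statements.S12469
import Mathlib
import Groth.Agent.EGA2SymLib.PBTwist
import Groth.Agent.EGA2SymLib.CanId
import Groth.Agent.EGA2SymLib.SymGrExists
import Groth.Agent.MiscFlat6.RelProjExist
import Groth.Agent.GrModLib6.RelPow
import Groth.Agent.CubeConsLib.IsoCls
-- import your own Groth.Agent.* helpers here

set_option autoImplicit false
universe u
open CategoryTheory CategoryTheory.Limits AlgebraicGeometry TopologicalSpace Opposite
open scoped HomogeneousIdeal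
open EGA2

namespace Groth.Agent.S12469

/-- Let q : X → Y be a morphism of schemes, L an invertible O_X-module and K an invertible O_Y-module.
Then L is very ample relative to q (isomorphic to the inverse image of O(1) along a Y-immersion of X
into the projective bundle P(E) of a quasi-coherent O_Y-module E) if and only if L ⊗ q^*K is. -/
theorem result {X Y : Scheme.{u}} (q : X ⟶ Y) (L : X.Modules)
    (hL : PicF.IsInvertible L) (K : Y.Modules) (hK : PicF.IsInvertible K) :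
    RelProj.IsRelVeryAmple q L ↔
      RelProj.IsRelVeryAmple q (CohB1.tensorMod L ((Scheme.Modules.pullback q).obj K)) := by
  have key : ∀ {M : X.Modules} {N : Y.Modules}, PicF.IsInvertible N → RelProj.IsRelVeryAmple q M →
      RelProj.IsRelVeryAmple q (CohB1.tensorMod M ((Scheme.Modules.pullback q).obj N)) := by
    rintro M N hN ⟨E, hE, 𝒮, j, hj, P, p, chart, hP, O1, lam, hO1, i, hi, hip, ⟨e⟩⟩
    haveI := hE
    haveI hEN : Coh.IsQCoh (CohB1.tensorMod E N) := MiscFlat6.isQCoh_tensor hN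
    obtain ⟨𝒯, k, hk⟩ := EGA2SymLib.exists_isGrSymAlg (CohB1.tensorMod E N)
    obtain ⟨Q, qQ, chartQ, hQ⟩ := MiscFlat6.exists_relProj 𝒯
    obtain ⟨OQ, lamQ, hOQ⟩ := GrModLib6.exists_isRelTwist hQ 1
    obtain ⟨φ, hφ⟩ := EGA2SymLib.exists_canonicalMap_one hP hO1 j hj.2
    obtain ⟨φQ, hφQ⟩ := EGA2SymLib.exists_canonicalMap_one hQ hOQ k hk.2
    obtain ⟨t, ht, ⟨τ⟩⟩ := EGA2SymLib.exists_twist_iso φ φQ hP hO1 hj hφ hQ hOQ hk hφQ hN
    refine ⟨_, hEN, 𝒯, k, hk, Q, qQ, chartQ, hQ, OQ, lamQ, hOQ, i ≫ t.hom, inferInstance,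
      by rw [Category.assoc, ht, hip], ?_⟩
    subst hip
    refine ⟨PicGrp.tensorModIso e ((Scheme.Modules.pullbackComp i p).app N).symm ≪≫ ?_ ≪≫
      (Scheme.Modules.pullback i).mapIso τ.symm ≪≫ (Scheme.Modules.pullbackComp i t.hom).app OQ⟩
    haveI := KFlatLib.isIso_pullθ i O1 ((Scheme.Modules.pullback p).obj N)
    exact (asIso (KFlatLib.pullθ i O1 ((Scheme.Modules.pullback p).obj N))).symm
  refine ⟨key hK, fun h => ?_⟩
  have h' := key (MiscFlat6.dual_isInvertible hK) h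
  obtain ⟨f⟩ : Nonempty (CohB1.tensorMod (CohB1.tensorMod L ((Scheme.Modules.pullback q).obj K))
      ((Scheme.Modules.pullback q).obj (MiscFlat6.dual K)) ≅ L) := by
    refine CubeConsLib.cl_eq_iff.1 ?_
    rw [CubeConsLib.cl_tensor, CubeConsLib.cl_tensor, ← CubeConsLib.pull_cl, ← CubeConsLib.pull_cl, mul_assoc, ← map_mul,
      show CubeConsLib.cl K * CubeConsLib.cl (MiscFlat6.dual K) = 1 from
        CubeConsLib.cl_eq_one_iff.2 (MiscFlat6.nonempty_dualIso hK), map_one, mul_one]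
  obtain ⟨E, hE, 𝒮, j, hj, P, p, chart, hP, O1, lam, hO1, i, hi, hip, ⟨e⟩⟩ := h'
  exact ⟨E, hE, 𝒮, j, hj, P, p, chart, hP, O1, lam, hO1, i, hi, hip, ⟨f.symm ≪≫ e⟩⟩

end Groth.Agent.S12469
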