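import Groth.Statements.S12475
import Mathlib
import Groth.Agent.EGA2SymLib.FibreVA
import Groth.Agent.S12474
-- import your own Groth.Agent.* helpers here

set_option autoImplicit false
universe u
open CategoryTheory CategoryTheory.Limits AlgebraicGeometry TopologicalSpace Opposite
open scoped HomogeneousIdeal
open EGA2

namespace Groth.Agent.S12475

/-- Let Y₁ → S and Y₂ → S be schemes over S, f₁ : X₁ → Y₁ and f₂ : X₂ → Y₂ morphisms (so that X₁, X₂ are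
S-schemes through them), P with projections p₁, p₂ a fibre product X₁ ×_S X₂, Q with projections q₁,
q₂ a fibre product Y₁ ×_S Y₂, and h : P → Q the morphism f₁ ×_S f₂, that is, the one with h ≫ q₁ =
p₁ ≫ f₁ and h ≫ q₂ = p₂ ≫ f₂. If L₁ is an invertible O_{X₁}-module very ample relative to f₁ and L₂
an invertible O_{X₂}-module very ample relative to f₂ (each isomorphic to the inverse image of O(1)
along an immersion over the base into the projective bundle of a quasi-coherent module on the base),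
then the external tensor product p₁^*L₁ ⊗ p₂^*L₂ is very ample relative to h. -/
theorem result {S X₁ X₂ Y₁ Y₂ P Q : Scheme.{u}} (y₁ : Y₁ ⟶ S) (y₂ : Y₂ ⟶ S)
    (f₁ : X₁ ⟶ Y₁) (f₂ : X₂ ⟶ Y₂) (p₁ : P ⟶ X₁) (p₂ : P ⟶ X₂) (hP : IsPullback p₁ p₂ (f₁ ≫ y₁) (f₂ ≫ y₂))
    (q₁ : Q ⟶ Y₁) (q₂ : Q ⟶ Y₂) (hQ : IsPullback q₁ q₂ y₁ y₂) (h : P ⟶ Q)
    (hh₁ : h ≫ q₁ = p₁ ≫ f₁) (hh₂ : h ≫ q₂ = p₂ ≫ f₂)
    (L₁ : X₁.Modules) (hL₁ : PicF.IsInvertible L₁) (hva₁ : RelProj.IsRelVeryAmple f₁ L₁)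
    (L₂ : X₂.Modules) (hL₂ : PicF.IsInvertible L₂) (hva₂ : RelProj.IsRelVeryAmple f₂ L₂) :
    RelProj.IsRelVeryAmple h
      (CohB1.tensorMod ((Scheme.Modules.pullback p₁).obj L₁) ((Scheme.Modules.pullback p₂).obj L₂)) := by
  let a := hQ.lift (pullback.fst (f₁ ≫ y₁) y₂ ≫ f₁) (pullback.snd (f₁ ≫ y₁) y₂) (by rw [Category.assoc, pullback.condition])
  let b := hQ.lift (pullback.fst y₁ (f₂ ≫ y₂)) (pullback.snd y₁ (f₂ ≫ y₂) ≫ f₂) (by rw [Category.assoc, pullback.condition])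
  let pa : P ⟶ pullback (f₁ ≫ y₁) y₂ := pullback.lift p₁ (p₂ ≫ f₂) (by rw [Category.assoc]; exact hP.w)
  let pbB : P ⟶ pullback y₁ (f₂ ≫ y₂) := pullback.lift (p₁ ≫ f₁) p₂ (by rw [Category.assoc]; exact hP.w)
  have ha1 : a ≫ q₁ = pullback.fst (f₁ ≫ y₁) y₂ ≫ f₁ := hQ.lift_fst _ _ _
  have ha2 : a ≫ q₂ = pullback.snd (f₁ ≫ y₁) y₂ := hQ.lift_snd _ _ _
  have hb1 : b ≫ q₁ = pullback.fst y₁ (f₂ ≫ y₂) := hQ.lift_fst _ _ _
  have hb2 : b ≫ q₂ = pullback.snd y₁ (f₂ ≫ y₂) ≫ f₂ := hQ.lift_snd _ _ _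
  have hpa1 : pa ≫ pullback.fst (f₁ ≫ y₁) y₂ = p₁ := pullback.lift_fst _ _ _
  have hpa2 : pa ≫ pullback.snd (f₁ ≫ y₁) y₂ = p₂ ≫ f₂ := pullback.lift_snd _ _ _
  have hpb1 : pbB ≫ pullback.fst y₁ (f₂ ≫ y₂) = p₁ ≫ f₁ := pullback.lift_fst _ _ _
  have hpb2 : pbB ≫ pullback.snd y₁ (f₂ ≫ y₂) = p₂ := pullback.lift_snd _ _ _
  have hA : IsPullback (pullback.fst (f₁ ≫ y₁) y₂) a f₁ q₁ := by
    refine IsPullback.of_bot (v₂₁ := q₂) (v₂₂ := y₁) (h₃₁ := y₂) ?_ (by simp [a]) hQ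
    simpa [a] using IsPullback.of_hasPullback (f₁ ≫ y₁) y₂
  have hB : IsPullback (pullback.snd y₁ (f₂ ≫ y₂)) b f₂ q₂ := by
    refine IsPullback.of_bot (v₂₁ := q₁) (v₂₂ := y₂) (h₃₁ := y₁) ?_ (by simp [b]) hQ.flip
    simpa [b] using (IsPullback.of_hasPullback y₁ (f₂ ≫ y₂)).flip
  have hout : IsPullback p₁ pbB f₁ (b ≫ q₁) := by
    refine IsPullback.of_bot (v₂₁ := pullback.snd y₁ (f₂ ≫ y₂)) (v₂₂ := y₁) (h₃₁ := f₂ ≫ y₂) ?_ (by rw [hb1, hpb1]) ?_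
    · rw [hpb2]; exact hP
    · rw [hb1]; exact IsPullback.of_hasPullback y₁ (f₂ ≫ y₂)
  have hsq : IsPullback pa pbB a b := by
    refine IsPullback.of_right (h₁₂ := pullback.fst (f₁ ≫ y₁) y₂) (h₂₂ := q₁) ?_ ?_ hA
    · rw [hpa1]; exact hout
    · apply hQ.hom_ext
      · rw [Category.assoc, Category.assoc, ha1, hb1, reassoc_of% hpa1, hpb1]
      · rw [Category.assoc, Category.assoc, ha2, hb2, hpa2, reassoc_of% hpb2]
  have hh : h = pa ≫ a := by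
    apply hQ.hom_ext
    · rw [hh₁, Category.assoc, ha1, reassoc_of% hpa1]
    · rw [hh₂, Category.assoc, ha2, hpa2]
  have hinv₁ : PicF.IsInvertible ((Scheme.Modules.pullback (pullback.fst (f₁ ≫ y₁) y₂)).obj L₁) :=
    (CohCmpLib.invertible_iff_rank_one _).2
      (CohCmpLib.rank_one_pullback _ ((CohCmpLib.invertible_iff_rank_one L₁).1 hL₁))
  have hinv₂ : PicF.IsInvertible ((Scheme.Modules.pullback (pullback.snd y₁ (f₂ ≫ y₂))).obj L₂) :=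
    (CohCmpLib.invertible_iff_rank_one _).2
      (CohCmpLib.rank_one_pullback _ ((CohCmpLib.invertible_iff_rank_one L₂).1 hL₂))
  have key := EGA2SymLib.isRelVeryAmple_pullback_tensor hsq hinv₁ hinv₂
    (Groth.Agent.S12474.result f₁ q₁ _ a hA L₁ hL₁ hva₁) (Groth.Agent.S12474.result f₂ q₂ _ b hB L₂ hL₂ hva₂)
  rw [← hh] at key
  exact EGA2SymLib.isRelVeryAmple_of_iso (PicGrp.tensorModIso
    ((Scheme.Modules.pullbackComp pa (pullback.fst (f₁ ≫ y₁) y₂)).app L₁ ≪≫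
      (Scheme.Modules.pullbackCongr hpa1).app L₁)
    ((Scheme.Modules.pullbackComp pbB (pullback.snd y₁ (f₂ ≫ y₂))).app L₂ ≪≫
      (Scheme.Modules.pullbackCongr hpb2).app L₂)) key

end Groth.Agent.S12475
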