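import Groth.Statements.S12482
import Mathlib.RingTheory.Regular.RegularSequence
import Mathlib.RingTheory.Ideal.Cotangent
import Mathlib.LinearAlgebra.Basis.Defs
-- import your own Groth.Agent.* helpers here

set_option autoImplicit false
set_option linter.style.haveILetI false
universe u
open Dual

namespace Groth.Agent.S12482

/-- Let `A` be a commutative ring, `x_1, …, x_p` a sequence of elements of `A` such that each `x_i` is a
non-zero-divisor on `A/(x_1, …, x_{i-1})`, and `J` the ideal generated by the `x_i`. Then `J/J²` is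
a free `(A/J)`-module with basis the classes of the `x_i`: there is a basis of `J/J²` over `A/J`,
indexed by `1, …, p`, whose `i`-th vector is the class of `x_i`. (The other assertions of the
published statement, on the Koszul complex and on Ext and Tor against `A/J`, are stated separately.) -/
theorem result (A : Type u) [CommRing A] (p : ℕ) (x : Fin p → A)
    (hreg : RingTheory.Sequence.IsWeaklyRegular A (List.ofFn x)) :
    ∃ b : Module.Basis (Fin p) (A ⧸ Ideal.span (Set.range x)) (Ideal.span (Set.range x)).Cotangent,
      ∀ i, b i = (Ideal.span (Set.range x)).toCotangent ⟨x i, Ideal.subset_span (Set.mem_range_self i)⟩ := by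
  classical
  set J := Ideal.span (Set.range x) with hJ
  have hxJ : ∀ i, x i ∈ J := fun i => Ideal.subset_span (Set.mem_range_self i)
  -- regularity, unfolded
  have hstep : ∀ k : Fin p, ∀ c : A, c * x k ∈ Ideal.span (x '' {j | j < k}) →
      c ∈ Ideal.span (x '' {j | j < k}) := by
    intro k c hc
    have hlen : (k : ℕ) < (List.ofFn x).length := by simp
    have hr := hreg.regular_mod_prev k hlen
    have hI : Ideal.ofList ((List.ofFn x).take k) = Ideal.span (x '' {j | j < k}) := by
      refine congrArg Ideal.span (Set.ext fun r => ?_)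
      change r ∈ (List.ofFn x).take k ↔ ∃ j, j ∈ {j | j < k} ∧ x j = r
      simp only [Set.mem_ofPred_eq, List.mem_take_iff_getElem, List.getElem_ofFn]
      constructor
      · rintro ⟨j, hj, rfl⟩
        simp only [lt_min_iff, List.length_ofFn] at hj
        exact ⟨⟨j, hj.2⟩, hj.1, rfl⟩
      · rintro ⟨j, hj, rfl⟩
        exact ⟨j, by simp only [lt_min_iff, List.length_ofFn]; exact ⟨hj, j.2⟩, rfl⟩
    have hz : (List.ofFn x)[(k : ℕ)] • (Submodule.Quotient.mk c :
        A ⧸ (Ideal.ofList ((List.ofFn x).take k) • ⊤ : Submodule A A)) = 0 := by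
      rw [← Submodule.Quotient.mk_smul, Submodule.Quotient.mk_eq_zero, smul_eq_mul,
        smul_eq_mul, Ideal.mul_top, hI]
      simpa [mul_comm] using hc
    have h0 := hr (hz.trans (smul_zero _).symm)
    rwa [Submodule.Quotient.mk_eq_zero, smul_eq_mul, Ideal.mul_top, hI] at h0
  have key : ∀ (k : ℕ) (hk : k ≤ p) (c : Fin p → A), (∀ i : Fin p, k ≤ (i : ℕ) → c i = 0) →
      ∑ i, c i * x i = 0 → ∀ i, c i ∈ J := by
    intro k
    induction k with
    | zero => intro _ c hc _ i; rw [hc i (Nat.zero_le _)]; exact zero_mem _
    | succ k ih =>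
      intro hk c hc hsum
      let kk : Fin p := ⟨k, hk⟩
      have hck : c kk ∈ Ideal.span (x '' {j | j < kk}) := by
        refine hstep kk _ ?_
        rw [← Finset.add_sum_erase _ _ (Finset.mem_univ kk), add_eq_zero_iff_eq_neg] at hsum
        rw [hsum, neg_mem_iff]
        refine Ideal.sum_mem _ fun j hj => ?_
        rcases lt_or_ge (j : ℕ) k with h | h
        · exact Ideal.mul_mem_left _ _ (Ideal.subset_span ⟨j, h, rfl⟩)
        · have : j ≠ kk := Finset.ne_of_mem_erase hj
          rw [hc j (by have := Fin.val_ne_of_ne this; simp only [kk] at this; omega), zero_mul]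
          exact zero_mem _
      have hckJ : c kk ∈ J := Ideal.span_mono (Set.image_subset_range _ _) hck
      obtain ⟨d, hd0, hd⟩ : ∃ d : Fin p → A, (∀ i : Fin p, k ≤ (i : ℕ) → d i = 0) ∧
          c kk = ∑ i, d i * x i := by
        clear hckJ
        refine Submodule.span_induction ?_ ?_ ?_ ?_ hck
        · rintro _ ⟨j, hj, rfl⟩
          refine ⟨Pi.single j 1, fun i hi => ?_, ?_⟩
          · have : (j : ℕ) < k := hj
            exact Pi.single_eq_of_ne (Fin.ne_of_val_ne (by omega)) _
          · simp [Pi.single_apply]
        · exact ⟨0, fun _ _ => rfl, by simp⟩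
        · rintro a b _ _ ⟨d, hd, rfl⟩ ⟨d', hd', rfl⟩
          exact ⟨d + d', fun i hi => by simp [hd i hi, hd' i hi], by
            simp [add_mul, Finset.sum_add_distrib]⟩
        · rintro s a _ ⟨d, hd, rfl⟩
          exact ⟨s • d, fun i hi => by simp [hd i hi], by simp [Finset.mul_sum, mul_assoc]⟩
      let c' : Fin p → A := fun i => if i = kk then 0 else c i + d i * x kk
      have hc'0 : ∀ i : Fin p, k ≤ (i : ℕ) → c' i = 0 := by
        intro i hi
        by_cases h : i = kk
        · simp [c', h]
        · have : k + 1 ≤ (i : ℕ) := by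
            have := Fin.val_ne_of_ne h; simp only [kk] at this; omega
          simp [c', h, hc i this, hd0 i hi]
      have hsum' : ∑ i, c' i * x i = 0 := by
        have h1 : ∀ i, c' i * x i = c i * x i + x kk * (d i * x i) -
            (if i = kk then c kk * x kk else 0) := by
          intro i
          by_cases h : i = kk
          · subst h; simp [c', hd0 kk le_rfl]
          · simp [c', h]; ring
        simp only [h1, Finset.sum_sub_distrib, Finset.sum_add_distrib, ← Finset.mul_sum, ← hd,
          hsum, Finset.sum_ite_eq', Finset.mem_univ, if_true]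
        ring
      intro i
      by_cases h : i = kk
      · rw [h]; exact hckJ
      · have h2 := ih (by omega) c' hc'0 hsum' i
        simp only [c', if_neg h] at h2
        simpa using Ideal.sub_mem _ h2 (Ideal.mul_mem_left _ (d i) (hxJ kk))
  -- the basis
  let v : Fin p → J.Cotangent := fun i => J.toCotangent ⟨x i, hxJ i⟩
  have hcomb : ∀ a : Fin p → A, ∑ i, a i • v i =
      J.toCotangent ⟨∑ i, a i * x i, Ideal.sum_mem _ fun i _ => Ideal.mul_mem_left _ _ (hxJ i)⟩ := by
    intro a
    simp only [v, ← map_smul, ← map_sum]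
    congr 1
    exact Subtype.ext (by simp)
  have hli : LinearIndependent (A ⧸ J) v := by
    rw [Fintype.linearIndependent_iff]
    intro g hg i
    choose a ha using fun i => Ideal.Quotient.mk_surjective (g i)
    have hg' : ∑ i, a i • v i = 0 := by
      rw [← hg]
      exact Finset.sum_congr rfl fun i _ => by rw [← ha i]; rfl
    rw [hcomb, Ideal.toCotangent_eq_zero, pow_two] at hg'
    have hbex : ∀ y ∈ J • J, ∃ b : Fin p → A, (∀ i, b i ∈ J) ∧ y = ∑ i, b i * x i := by
      intro y hy
      refine Submodule.smul_induction_on hy (fun r hr n hn => ?_) ?_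
      · obtain ⟨e, rfl⟩ := (Ideal.mem_span_range_iff_exists_fun).1 hn
        exact ⟨fun i => r * e i, fun i => Ideal.mul_mem_right _ _ hr, by
          simp [Finset.mul_sum, mul_assoc]⟩
      · rintro u w ⟨b, hb, rfl⟩ ⟨b', hb', rfl⟩
        exact ⟨b + b', fun i => Ideal.add_mem _ (hb i) (hb' i), by
          simp [add_mul, Finset.sum_add_distrib]⟩
    obtain ⟨b, hb, hab⟩ := hbex (∑ i, a i * x i) hg'
    have h3 := key p le_rfl (fun i => a i - b i) (fun i hi => absurd i.2 (not_lt.2 hi))
      (by simp only [sub_mul, Finset.sum_sub_distrib, hab, sub_self]) i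
    rw [← ha i]
    exact Ideal.Quotient.eq_zero_iff_mem.2 (by simpa using Ideal.add_mem _ h3 (hb i))
  refine ⟨Module.Basis.mk hli ?_, fun i => Module.Basis.mk_apply _ _ i⟩
  rintro z -
  obtain ⟨⟨y, hy⟩, rfl⟩ := J.toCotangent_surjective z
  obtain ⟨e, rfl⟩ := (Ideal.mem_span_range_iff_exists_fun).1 hy
  rw [← hcomb]
  refine Submodule.sum_mem _ fun i _ => ?_
  exact Submodule.smul_mem _ (Ideal.Quotient.mk J (e i)) (Submodule.subset_span (s := Set.range v) ⟨i, rfl⟩)

end Groth.Agent.S12482
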