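import Groth.Statements.S12486
import Mathlib
import Groth.Agent.EGA2SymLib.FTVA
-- import your own Groth.Agent.* helpers here

set_option autoImplicit false
universe u
open CategoryTheory CategoryTheory.Limits AlgebraicGeometry TopologicalSpace Opposite
open scoped HomogeneousIdeal
open EGA2

namespace Groth.Agent.S12486

/-- Let Y be a scheme which is either quasi-compact and separated or has Noetherian underlying space, q
: X → Y a morphism of finite type and L an invertible O_X-module which is very ample relative to q.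
Then the quasi-coherent module of the definition can be taken of finite type: there are a
quasi-coherent O_Y-module E of finite type, its graded symmetric algebra 𝒯 with projective bundle p
: P(E) = Proj(𝒯) → Y (given with its charts over affine opens) and fundamental sheaf O(1) (given
with its chart identifications), and an immersion i : X → P(E) with i ≫ p = q and L isomorphic to
i^*O(1). (The published statement phrases this condition through the morphism to P(E) attached to an
epimorphism q^*E → L, and adds a variant in which E is a submodule of q_*L; those forms are not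
stated here.) -/
theorem result {X Y : Scheme.{u}}
    (hY : (CompactSpace Y ∧ Y.IsSeparated) ∨ TopologicalSpace.NoetherianSpace Y) (q : X ⟶ Y) [QuasiCompact q]
    [LocallyOfFiniteType q] (L : X.Modules) (hL : PicF.IsInvertible L) (h : RelProj.IsRelVeryAmple q L) :
    ∃ (E : Y.Modules) (𝒯 : RelProj.QCGrAlg Y) (j : E ⟶ 𝒯.toModule) (P : Scheme.{u}) (p : P ⟶ Y)
      (chart : ∀ (U : Y.Opens) (hU : IsAffineOpen U), ((p ⁻¹ᵁ U : P.Opens) : Scheme.{u}) ≅ Proj (𝒯.deg U hU))
      (O1 : P.Modules)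
      (lam : ∀ (U : Y.Opens) (hU : IsAffineOpen U),
        O1 ⟶ (Scheme.Modules.pushforward (RelProj.emb p chart U hU)).obj (GrTwist.twist (𝒯.deg U hU) 1))
      (i : X ⟶ P),
      Coh.IsQCoh E ∧ CohB1.IsFT E ∧ RelProj.IsGrSymAlg E 𝒯 j ∧ RelProj.IsRelProj 𝒯 p chart ∧
        RelProj.IsRelTwist 𝒯 p chart 1 O1 lam ∧ IsImmersion i ∧ i ≫ p = q ∧
        Nonempty (L ≅ (Scheme.Modules.pullback i).obj O1) := by
  obtain ⟨E, ι, hE, hEft, -, hdata⟩ := EGA2SymLib.exists_ft_sub_secData hY q hL h
  haveI := hE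
  let s : KFlatLib.pb q E ⟶ L := EGA2SymLib.adjA ι
  have hs : ∀ (U : Y.Opens) (m : Γ(E, U)), EGA2SymLib.qVal s U m = (show Γ(L, q ⁻¹ᵁ U) from ι.app U m) :=
    fun U m => EGA2SymLib.adjA_puSec ι m
  haveI : Coh.IsQCoh L :=
    (LocSuppLib.isCoh_of_isFinLocFree fun x =>
      let ⟨V, h⟩ := (CohCmpLib.invertible_iff_rank_one _).1 hL x; ⟨V, 1, h⟩).1
  haveI : Epi s := EGA2SymLib.epi_of_genAt _ fun x => by
    obtain ⟨U, -, e, hx, hgx, -⟩ := hdata x
    exact ⟨q ⁻¹ᵁ U, hx, KFlatLib.puSec q e, EGA2SymLib.genAt_congr (hs U e).symm hgx⟩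
  obtain ⟨𝒜, jE, hA⟩ := EGA2SymLib.exists_isGrSymAlg E
  obtain ⟨P, p, chart, hP⟩ := MiscFlat6.exists_relProj 𝒜
  obtain ⟨O1, lam, hO1⟩ := GrModLib6.exists_isRelTwist hP 1
  obtain ⟨φ, hφ⟩ := EGA2SymLib.exists_canonicalMap_one hP hO1 jE hA.2
  obtain ⟨r, hr, hI⟩ := EGA2SymLib.exists_induces s hA hP hL hO1 hφ
  refine ⟨E, 𝒜, jE, P, p, chart, O1, lam, r, hE, hEft, hA, hP, hO1, ?_, hr, ?_⟩
  · refine EGA2SymLib.isImmersion_of_local hO1 hA hφ hI fun x => ?_
    obtain ⟨U, hU, e, hx, hgx, hrest⟩ := hdata x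
    refine ⟨U, hU, e, hx, EGA2SymLib.genAt_congr (hs U e).symm hgx, fun W hW hWe => ?_⟩
    simp only [EGA2SymLib.ratios, hs] at hWe ⊢
    exact hrest W hW hWe
  · obtain ⟨τ, -⟩ := hI
    exact ⟨τ.symm⟩

end Groth.Agent.S12486
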