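import Groth.Statements.S12484
import Mathlib
import Groth.Agent.S12486
import Groth.Agent.EGA2SymLib.AmpleVA
import Groth.Agent.AmpleThLib.Pow
-- import your own Groth.Agent.* helpers here

set_option autoImplicit false
universe u
open CategoryTheory CategoryTheory.Limits AlgebraicGeometry TopologicalSpace Opposite
open scoped HomogeneousIdeal
open EGA2

namespace Groth.Agent.S12484

/-- Let Y be a scheme which is either quasi-compact and separated or has Noetherian underlying space,
and let f : X → Y be quasi-projective (of finite type, and some invertible O_X-module is ample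
relative to f). Then there are a quasi-coherent O_Y-module E of finite type, its graded symmetric
algebra 𝒯 with projective bundle p : P(E) = Proj(𝒯) → Y (given with its charts over affine opens),
and an immersion i : X → P(E) with i ≫ p = f: X is Y-isomorphic to a sub-scheme of the projective
bundle of a finite-type module. (The converse implication and the third equivalent condition of the
published statement are not stated here.) -/
theorem result {X Y : Scheme.{u}}
    (hY : (CompactSpace Y ∧ Y.IsSeparated) ∨ TopologicalSpace.NoetherianSpace Y) (f : X ⟶ Y)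
    (hf : RelProj.IsQuasiProjective f) :
    ∃ (E : Y.Modules) (𝒯 : RelProj.QCGrAlg Y) (j : E ⟶ 𝒯.toModule) (P : Scheme.{u}) (p : P ⟶ Y)
      (chart : ∀ (U : Y.Opens) (hU : IsAffineOpen U), ((p ⁻¹ᵁ U : P.Opens) : Scheme.{u}) ≅ Proj (𝒯.deg U hU))
      (i : X ⟶ P),
      Coh.IsQCoh E ∧ CohB1.IsFT E ∧ RelProj.IsGrSymAlg E 𝒯 j ∧ RelProj.IsRelProj 𝒯 p chart ∧
        IsImmersion i ∧ i ≫ p = f := by
  obtain ⟨h1, h2, L, hL⟩ := hf
  haveI : CompactSpace Y := by rcases hY with h | h <;> [exact h.1; exact inferInstance]
  have hLi := MiscFlat6.invertible_of_relAmple hL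
  obtain ⟨n, -, hn⟩ := EGA2SymLib.eventually_tensorPow_isRelVeryAmple f hLi hL
  obtain ⟨E, 𝒯, j, P, p, chart, O1, lam, i, h3, h4, h5, h6, -, h7, h8, -⟩ :=
    Groth.Agent.S12486.result hY f (CohB1.tensorPow L n) (AmpleThLib.tensorPow_isInvertible hLi n) (hn n le_rfl)
  exact ⟨E, 𝒯, j, P, p, chart, i, h3, h4, h5, h6, h7, h8⟩

end Groth.Agent.S12484
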