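import Groth.Statements.S12491
import Groth.Agent.CommAlgDim.GlobalDim
-- import your own Groth.Agent.* helpers here

set_option autoImplicit false
universe u
open VBPn

namespace Groth.Agent.S12491

/-- Let A be a regular local ring, k ≥ 0, and N_0, N_1, … A-modules with N_0 finitely generated and N_1,
…, N_k finitely generated and free, with linear maps d_i : N_i → N_{i+1} such that d_0 is injective
and the sequence 0 → N_0 → N_1 → ⋯ → N_k is exact. Then for every prime ideal p of A of height at
most k the localization of N_0 at p is a free module over A_p. The published statement is for a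
coherent analytic sheaf on a complex manifold that is locally a k-th syzygy sheaf and says its set
of non-free stalks has codimension greater than k; this row is the statement at one stalk, over any
regular local ring. -/
theorem result (A : Type u) [CommRing A] [IsRegularLocalRing A]
    (k : ℕ) (N : ℕ → Type u) [∀ i, AddCommGroup (N i)] [∀ i, Module A (N i)] [Module.Finite A (N 0)]
    (hfree : ∀ i, 1 ≤ i → i ≤ k → Module.Free A (N i) ∧ Module.Finite A (N i))
    (d : ∀ i, N i →ₗ[A] N (i + 1)) (hinj : Function.Injective (d 0))
    (hex : ∀ i, i + 1 < k → LinearMap.range (d i) = LinearMap.ker (d (i + 1)))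
    (p : Ideal A) [p.IsPrime] (hp : p.height ≤ k) :
    Module.Free (Localization.AtPrime p) (LocalizedModule p.primeCompl (N 0)) := by
  classical
  let R := Localization.AtPrime p
  haveI : IsRegularLocalRing R := CommAlgDim.isRegularLocalRing_localization A p
  have hdim : (IsLocalRing.maximalIdeal R).spanFinrank ≤ k := by
    have h1 : ((IsLocalRing.maximalIdeal R).spanFinrank : WithBot ℕ∞) = ringKrullDim R :=
      IsRegularLocalRing.spanFinrank_maximalIdeal
    rw [IsLocalization.AtPrime.ringKrullDim_eq_height p R] at h1
    have h2 : ((p.height : ℕ∞) : WithBot ℕ∞) ≤ ((k : ℕ∞) : WithBot ℕ∞) := WithBot.coe_le_coe.mpr hp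
    rw [← h1] at h2
    exact_mod_cast h2
  let L : ℕ → Type u := fun i => LocalizedModule p.primeCompl (N i)
  have hfin : ∀ i, i ≤ k → Module.Finite R (L i) := fun i hi => by
    haveI : Module.Finite A (N i) := by
      rcases Nat.eq_zero_or_pos i with rfl | h
      · infer_instance
      · exact (hfree i h hi).2
    exact Module.Finite.of_isLocalizedModule p.primeCompl (LocalizedModule.mkLinearMap p.primeCompl (N i))
  have hproj : ∀ i, 1 ≤ i → i ≤ k → Module.Projective R (L i) := fun i h1 h2 => by
    haveI := (hfree i h1 h2).1
    exact Module.projective_of_isLocalizedModule p.primeCompl (LocalizedModule.mkLinearMap p.primeCompl (N i))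
  let D : ∀ i, L i →ₗ[R] L (i + 1) := fun i => LocalizedModule.map p.primeCompl (d i)
  have hD0 : Function.Injective (D 0) := LocalizedModule.map_injective p.primeCompl (d 0) hinj
  have hDex : ∀ i, i + 1 < k → LinearMap.ker (D (i + 1)) = LinearMap.range (D i) := fun i hi =>
    LinearMap.exact_iff.mp (LocalizedModule.map_exact p.primeCompl (d i) (d (i + 1))
      (LinearMap.exact_iff.mpr (hex i hi).symm))
  haveI := hfin 0 (Nat.zero_le k)
  suffices h : CommAlgDim.PDLT R (L 0) 1 by
    haveI : Module.Projective R (L 0) := CommAlgDim.pdlt_one_iff.mp h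
    exact Module.free_of_flat_of_isLocalRing
  rcases Nat.eq_zero_or_pos k with rfl | hk
  · exact (CommAlgDim.pdlt_of_isRegularLocalRing R (L 0)).mono (by omega)
  have key : ∀ j i, i + j + 1 = k → CommAlgDim.PDLT R (LinearMap.range (D i)) (i + 1) := by
    intro j
    induction j with
    | zero =>
      intro i hi
      haveI := hproj (i + 1) (by omega) (by omega)
      haveI := hfin (i + 1) (by omega)
      have h := ((CommAlgDim.pdlt_of_isRegularLocalRing R (L (i + 1) ⧸ LinearMap.range (D i))).mono
        (show _ ≤ i + 2 by omega))
      exact ((CommAlgDim.pdlt_ker_iff (LinearMap.range (D i)).mkQ (Submodule.mkQ_surjective _) i).mp h).of_equiv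
        (LinearEquiv.ofEq _ _ (Submodule.ker_mkQ _))
    | succ j ih =>
      intro i hi
      haveI := hproj (i + 1) (by omega) (by omega)
      have h := ih (i + 1) (by omega)
      exact ((CommAlgDim.pdlt_ker_iff (D (i + 1)).rangeRestrict (D (i + 1)).surjective_rangeRestrict i).mp h).of_equiv
        (LinearEquiv.ofEq _ _ ((LinearMap.ker_rangeRestrict _).trans (hDex i (by omega))))
  exact (key (k - 1) 0 (by omega)).of_equiv (LinearEquiv.ofInjective (D 0) hD0).symm

end Groth.Agent.S12491
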