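import Groth.Statements.S12498
import Mathlib
import Mathlib
-- import your own Groth.Agent.* helpers here

set_option autoImplicit false
universe u
open Deform
open scoped TensorProduct

namespace Groth.Agent.S12498

/-- Let k be an algebraically closed field, A a local Artinian k-algebra with residue field k, and t a
nonzero element of the maximal ideal m_A annihilated by m_A, so that A → A/tA is a small extension.
Let B be a flat A-algebra (a deformation over A of its closed fibre B_0 = B/m_A B), and σ an
A-algebra automorphism of B/tB inducing the identity on B_0. Fix an A-algebra automorphism τ of B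
inducing σ (so τ induces the identity on B_0). Then the A-algebra automorphisms η of B inducing σ
correspond bijectively to the k-derivations d of B_0 through the rule η = τ + t·d, meaning η(b) =
τ(b) + t b′ for all b ∈ B and all b′ ∈ B lifting d applied to the image of b in B_0: every such η
determines a unique d, and every d comes from some such η. (The published statement phrases the
conclusion as a free and transitive action of Der_k(B_0, B_0) on the nonempty set of lifts of σ; the
condition that σ induces the identity on B_0 is expressed here through the chosen lift τ.) -/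
theorem result
    {k : Type u} [Field k] [IsAlgClosed k]
    {A : Type u} [CommRing A] [Algebra k A] [IsLocalRing A] [IsArtinianRing A]
    (hres : ∀ a : A, ∃ c : k, a - algebraMap k A c ∈ IsLocalRing.maximalIdeal A)
    (t : A) (ht : t ∈ IsLocalRing.maximalIdeal A) (ht0 : t ≠ 0)
    (htm : ∀ a ∈ IsLocalRing.maximalIdeal A, a * t = 0)
    {B : Type u} [CommRing B] [Algebra A B] [Module.Flat A B] [Algebra k B] [IsScalarTower k A B]
    (σ : (B ⧸ Ideal.span {algebraMap A B t}) ≃ₐ[A] (B ⧸ Ideal.span {algebraMap A B t}))
    (τ : B ≃ₐ[A] B)
    (hτ : ∀ b : B, Ideal.Quotient.mk (Ideal.span {algebraMap A B t}) (τ b) =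
      σ (Ideal.Quotient.mk (Ideal.span {algebraMap A B t}) b))
    (hτ0 : ∀ b : B, τ b - b ∈ (IsLocalRing.maximalIdeal A).map (algebraMap A B)) :
    (∀ η : B ≃ₐ[A] B, (∀ b : B, Ideal.Quotient.mk (Ideal.span {algebraMap A B t}) (η b) =
        σ (Ideal.Quotient.mk (Ideal.span {algebraMap A B t}) b)) →
      ∃! d : Derivation k (B ⧸ (IsLocalRing.maximalIdeal A).map (algebraMap A B))
          (B ⧸ (IsLocalRing.maximalIdeal A).map (algebraMap A B)),
        ∀ b b' : B, Ideal.Quotient.mk ((IsLocalRing.maximalIdeal A).map (algebraMap A B)) b' =
            d (Ideal.Quotient.mk ((IsLocalRing.maximalIdeal A).map (algebraMap A B)) b) →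
          η b = τ b + algebraMap A B t * b') ∧
    (∀ d : Derivation k (B ⧸ (IsLocalRing.maximalIdeal A).map (algebraMap A B))
        (B ⧸ (IsLocalRing.maximalIdeal A).map (algebraMap A B)),
      ∃ η : B ≃ₐ[A] B, (∀ b : B, Ideal.Quotient.mk (Ideal.span {algebraMap A B t}) (η b) =
          σ (Ideal.Quotient.mk (Ideal.span {algebraMap A B t}) b)) ∧
        ∀ b b' : B, Ideal.Quotient.mk ((IsLocalRing.maximalIdeal A).map (algebraMap A B)) b' =
            d (Ideal.Quotient.mk ((IsLocalRing.maximalIdeal A).map (algebraMap A B)) b) →
          η b = τ b + algebraMap A B t * b') := by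
  classical
  set m := (IsLocalRing.maximalIdeal A).map (algebraMap A B) with hm
  set T := algebraMap A B t with hTdef
  have hTm : ∀ x ∈ m, T * x = 0 := by
    intro x hx
    rw [hm, Ideal.map] at hx
    induction hx using Submodule.span_induction with
    | mem x hx =>
      obtain ⟨a, ha, rfl⟩ := hx
      rw [hTdef, ← map_mul, mul_comm, htm a ha, map_zero]
    | zero => exact mul_zero _
    | add x y _ _ hx hy => rw [mul_add, hx, hy, add_zero]
    | smul c x _ hx => rw [smul_eq_mul, mul_left_comm, hx, mul_zero]
  have hTmem : T ∈ m := Ideal.mem_map_of_mem _ ht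
  have hkill : ∀ x : B, T * x = 0 → x ∈ m := by
    intro x hx
    have hex : Function.Exact (IsLocalRing.maximalIdeal A).subtype (LinearMap.mulLeft A t) := by
      intro a
      constructor
      · intro ha
        refine ⟨⟨a, ?_⟩, rfl⟩
        by_contra hna
        have hu : IsUnit a := by simpa [mem_nonunits_iff] using hna
        exact ht0 ((hu.mul_left_eq_zero).1 ha)
      · rintro ⟨a, rfl⟩
        show t * (a : A) = 0
        rw [mul_comm]; exact htm a a.2
    have h1 := Module.Flat.rTensor_exact (M := B) hex
    have h2 : (LinearMap.mulLeft A t).rTensor B ((1 : A) ⊗ₜ[A] x) = 0 := by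
      apply (TensorProduct.lid A B).injective
      rw [map_zero, LinearMap.rTensor_tmul, TensorProduct.lid_tmul]
      show (t * 1) • x = 0
      rw [mul_one, Algebra.smul_def]
      exact hx
    obtain ⟨z, hz⟩ := (h1 _).1 h2
    have key : ∀ z, TensorProduct.lid A B ((IsLocalRing.maximalIdeal A).subtype.rTensor B z) ∈ m := by
      intro z
      induction z using TensorProduct.induction_on with
      | zero => simp
      | tmul a b =>
        simp only [LinearMap.rTensor_tmul, TensorProduct.lid_tmul, Submodule.coe_subtype, Algebra.smul_def]
        exact Ideal.mul_mem_right _ _ (Ideal.mem_map_of_mem _ a.2)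
      | add a b ha hb => rw [map_add, map_add]; exact add_mem ha hb
    have := key z
    rwa [hz, TensorProduct.lid_tmul, one_smul] at this
  have hcong : ∀ x y : B, x - y ∈ m → T * x = T * y := fun x y h => by
    rw [← sub_eq_zero, ← mul_sub]; exact hTm _ h
  let π := Ideal.Quotient.mk m
  have hπ : ∀ x y : B, π x = π y ↔ x - y ∈ m := fun x y => Ideal.Quotient.eq
  refine ⟨fun η hη => ?_, fun d => ?_⟩
  · have hdiff : ∀ b, ∃ c, η b - τ b = T * c := fun b => by
      have : η b - τ b ∈ Ideal.span {T} := by
        rw [← Ideal.Quotient.eq, hη, hτ]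
      obtain ⟨c, hc⟩ := Ideal.mem_span_singleton'.1 this
      exact ⟨c, by rw [← hc, mul_comm]⟩
    choose c hc using hdiff
    let D : B → B ⧸ m := fun b => π (c b)
    have hD : ∀ b b' : B, η b = τ b + T * b' → D b = π b' := fun b b' h => by
      rw [hπ]
      refine hkill _ ?_
      rw [mul_sub, ← hc, h]; ring
    have heq : ∀ b, η b = τ b + T * c b := fun b => by rw [← hc]; ring
    have hτm : ∀ b, π (τ b) = π b := fun b => (hπ _ _).2 (hτ0 b)
    have hηm : ∀ b, π (η b) = π b := fun b => by
      rw [← hτm b, hπ, heq b, add_sub_cancel_left]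
      exact m.mul_mem_right _ hTmem
    have hadd : ∀ a b, D (a + b) = D a + D b := fun a b => by
      rw [hD (a + b) (c a + c b) (by rw [map_add, map_add, heq a, heq b]; ring)]
      exact map_add π _ _
    have hzero : ∀ b ∈ m, D b = 0 := by
      intro b hb
      rw [hm, Ideal.map] at hb
      induction hb using Submodule.span_induction with
      | mem x hx =>
        obtain ⟨a, -, rfl⟩ := hx
        rw [hD _ 0 (by rw [AlgEquiv.commutes, AlgEquiv.commutes, mul_zero, add_zero]), map_zero]
      | zero => rw [hD _ 0 (by rw [map_zero, map_zero, mul_zero, add_zero]), map_zero]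
      | add x y _ _ hx hy => rw [hadd, hx, hy, add_zero]
      | smul e x hx0 hx =>
        rw [smul_eq_mul, hD (e * x) (c e * τ x + η e * c x) (by rw [map_mul, map_mul, heq x, heq e]; ring)]
        have hxm : x ∈ m := hx0
        rw [map_add, map_mul, map_mul, hτm, Ideal.Quotient.eq_zero_iff_mem.2 hxm, mul_zero, zero_add]
        rw [show π (c x) = 0 from hx, mul_zero]
    have hmul : ∀ a b, D (a * b) = π a * D b + π b * D a := fun a b => by
      rw [hD (a * b) (c a * τ b + η a * c b) (by rw [map_mul, map_mul, heq b, heq a]; ring)]
      rw [map_add, map_mul, map_mul, hτm, hηm]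
      ring
    let f : B ⧸ m → B ⧸ m := Quotient.lift D (fun a b hab => by
      have h1 : a - b ∈ m := (Submodule.quotientRel_def m).1 hab
      have := hadd (a - b) b
      rw [sub_add_cancel, hzero _ h1, zero_add] at this
      exact this)
    have hf : ∀ b, f (π b) = D b := fun b => rfl
    let L : (B ⧸ m) →ₗ[k] (B ⧸ m) :=
      { toFun := f
        map_add' := fun x y => by
          obtain ⟨a, rfl⟩ := Ideal.Quotient.mk_surjective x
          obtain ⟨b, rfl⟩ := Ideal.Quotient.mk_surjective y
          exact hadd a b
        map_smul' := fun r x => by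
          obtain ⟨a, rfl⟩ := Ideal.Quotient.mk_surjective x
          show D (r • a) = π (r • c a)
          refine hD _ _ ?_
          have h1 : r • a = algebraMap A B (algebraMap k A r) * a := by
            rw [← IsScalarTower.algebraMap_apply, Algebra.smul_def]
          have h2 : r • c a = algebraMap A B (algebraMap k A r) * c a := by
            rw [← IsScalarTower.algebraMap_apply, Algebra.smul_def]
          rw [h1, h2, map_mul, map_mul, AlgEquiv.commutes, AlgEquiv.commutes, heq a]; ring }
    let d : Derivation k (B ⧸ m) (B ⧸ m) := Derivation.mk' L fun x y => by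
      obtain ⟨a, rfl⟩ := Ideal.Quotient.mk_surjective x
      obtain ⟨b, rfl⟩ := Ideal.Quotient.mk_surjective y
      exact hmul a b
    refine ⟨d, fun b b' hb => ?_, fun d' hd' => ?_⟩
    · change π b' = D b at hb
      rw [heq b, hcong _ _ ((hπ _ _).1 hb.symm)]
    · ext x
      obtain ⟨b, rfl⟩ := Ideal.Quotient.mk_surjective x
      obtain ⟨b', hb'⟩ := Ideal.Quotient.mk_surjective (d' (π b))
      show d' (π b) = D b
      rw [hD b b' (hd' b b' hb'), ← hb']
  · choose r hr using fun b => Ideal.Quotient.mk_surjective (d (π b))
    have hrm : ∀ x y : B, π x = π y → T * r x = T * r y := fun x y h =>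
      hcong _ _ ((hπ _ _).1 (by rw [show π (r x) = d (π x) from hr x, show π (r y) = d (π y) from hr y, h]))
    have hτm : ∀ b, π (τ b) = π b := fun b => (hπ _ _).2 (hτ0 b)
    have hτsm : ∀ b, π (τ.symm b) = π b := fun b => by
      conv_rhs => rw [← τ.apply_symm_apply b]
      exact (hτm _).symm
    have hT2 : T * T = 0 := hTm T hTmem
    have hTπ : ∀ x, π (T * x) = 0 := fun x => Ideal.Quotient.eq_zero_iff_mem.2 (m.mul_mem_right _ hTmem)
    have hdA : ∀ a : A, d (π (algebraMap A B a)) = 0 := by
      intro a
      obtain ⟨c, hc⟩ := hres a
      have h1 : π (algebraMap A B a) = algebraMap k (B ⧸ m) c := by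
        have : π (algebraMap A B a) = π (algebraMap A B (algebraMap k A c)) := by
          rw [hπ, ← map_sub]; exact Ideal.mem_map_of_mem _ hc
        rw [this, ← IsScalarTower.algebraMap_apply k A B]
        rfl
      rw [h1, Derivation.map_algebraMap]
    let f : B →ₐ[A] B :=
      { toFun := fun b => τ b + T * r b
        map_one' := by
          have : T * r 1 = T * 0 := hcong _ _ ((hπ _ _).1 (by rw [show π (r 1) = d (π 1) from hr 1, map_one, Derivation.map_one_eq_zero, map_zero]))
          rw [map_one, this, mul_zero, add_zero]
        map_mul' := fun a b => by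
          have : T * r (a * b) = T * (τ a * r b + τ b * r a) := hcong _ _ ((hπ _ _).1 (by
            rw [map_add, map_mul, map_mul, hτm, hτm, show π (r (a * b)) = d (π (a * b)) from hr _,
              show π (r a) = d (π a) from hr a, show π (r b) = d (π b) from hr b, map_mul, Derivation.leibniz,
              smul_eq_mul, smul_eq_mul]))
          rw [map_mul, this]
          linear_combination (-(r a) * r b) * hT2
        map_zero' := by
          have : T * r 0 = T * 0 := hcong _ _ ((hπ _ _).1 (by rw [show π (r 0) = d (π 0) from hr 0, map_zero, map_zero]))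
          rw [map_zero, this, mul_zero, add_zero]
        map_add' := fun a b => by
          have : T * r (a + b) = T * (r a + r b) := hcong _ _ ((hπ _ _).1 (by
            rw [show π (r (a + b)) = d (π (a + b)) from hr _, map_add, map_add, map_add,
              show π (r a) = d (π a) from hr a, show π (r b) = d (π b) from hr b]))
          rw [map_add, this]; ring
        commutes' := fun a => by
          have : T * r (algebraMap A B a) = T * 0 := hcong _ _ ((hπ _ _).1 (by
            rw [show π (r (algebraMap A B a)) = d (π (algebraMap A B a)) from hr _, hdA, map_zero]))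
          rw [AlgEquiv.commutes, this, mul_zero, add_zero] }
    have hbij : Function.Bijective f := by
      refine Function.bijective_iff_has_inverse.2 ⟨fun x => τ.symm x - T * r x, fun b => ?_, fun x => ?_⟩
      · show τ.symm (τ b + T * r b) - T * r (τ b + T * r b) = b
        rw [map_add, τ.symm_apply_apply, map_mul, hTdef, AlgEquiv.commutes, ← hTdef,
          hcong _ _ ((hπ _ _).1 (hτsm (r b))), hrm (τ b + T * r b) b (by rw [map_add, hτm, hTπ, add_zero])]
        ring
      · show τ (τ.symm x - T * r x) + T * r (τ.symm x - T * r x) = x
        rw [map_sub, τ.apply_symm_apply, map_mul, hTdef, AlgEquiv.commutes, ← hTdef,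
          hcong _ _ ((hπ _ _).1 (hτm (r x))), hrm (τ.symm x - T * r x) x (by rw [map_sub, hτsm, hTπ, sub_zero])]
        ring
    refine ⟨AlgEquiv.ofBijective f hbij, fun b => ?_, fun b b' hb => ?_⟩
    · show Ideal.Quotient.mk _ (τ b + T * r b) = _
      rw [map_add, hτ, map_mul, Ideal.Quotient.mk_singleton_self, zero_mul, add_zero]
    · show τ b + T * r b = τ b + T * b'
      rw [hcong _ _ ((hπ _ _).1 ((hr b).trans hb.symm))]

end Groth.Agent.S12498
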