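import Groth.Statements.S1250
import Mathlib
import Groth.Agent.FlatInjLib.EtaleTransfer
import Groth.Agent.AbsFlat.Basic
-- import your own Groth.Agent.* helpers here

set_option autoImplicit false
universe u
open FlatMor

namespace Groth.Agent.S1250

/-- Given an elementary dévissage E of N at q over p in dimension n, the following are equivalent: N_q
is flat over R; G_z is flat over R'; G_y (G viewed as a D-module) is flat over R'. Also equivalent
to each other: N becomes flat over R on some basic open D(g) ∋ q of Spec S; G becomes flat over R'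
on some basic open of Spec C containing z; G as a D-module becomes flat over R' on some basic open
of Spec D containing y. -/
theorem result {R S : Type u} [CommRing R] [CommRing S] [Algebra R S] [Algebra.FiniteType R S]
    (N : Type u) [AddCommGroup N] [Module S N] [Module R N] [IsScalarTower R S N] [Module.Finite S N]
    (p : Ideal R) [p.IsPrime] (q : Ideal S) [q.IsPrime] [q.LiesOver p] (n : ℕ) (E : FlatCA.ElemDevissage R S N p q n) :
    [FlatCA.FlatAt R q N, FlatCA.FlatAt E.R' E.z E.G, FlatCA.FlatAt E.R' E.y E.G].TFAE ∧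
    [∃ g : S, g ∉ q ∧ Module.Flat R (LocalizedModule (Submonoid.powers g) N),
     ∃ g : E.C, g ∉ E.z ∧ Module.Flat E.R' (LocalizedModule (Submonoid.powers g) E.G),
     ∃ g : E.D, g ∉ E.y ∧ Module.Flat E.R' (LocalizedModule (Submonoid.powers g) E.G)].TFAE := by
  haveI := E.finiteDC
  haveI := E.etaleR.1
  haveI := E.etaleS.1
  obtain ⟨hq, -⟩ := E.etaleS.2
  haveI := hq
  haveI : Module.Flat R E.R' := Algebra.WeaklyEtale.flat
  letI : Module E.R' E.N' := Module.compHom E.N' (algebraMap E.R' E.S')
  haveI : IsScalarTower E.R' E.S' E.N' := IsScalarTower.of_compHom _ _ _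
  letI : Module R E.N' := Module.compHom E.N' (algebraMap R E.S')
  haveI : IsScalarTower R E.S' E.N' := IsScalarTower.of_compHom _ _ _
  haveI : IsScalarTower E.R' E.S' E.G := IsScalarTower.of_algebraMap_smul fun x g => by
    rw [← algebraMap_smul E.C (algebraMap E.R' E.S' x) g, ← IsScalarTower.algebraMap_apply, algebraMap_smul]
  have hker : ∀ (P : Ideal E.S') [P.IsPrime], ¬ RingHom.ker (algebraMap E.S' E.C) ≤ P →
      FlatCA.FlatAt E.R' P E.N' := by
    intro P _ hP
    obtain ⟨s, hs, hsP⟩ := SetLike.not_le_iff_exists.1 hP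
    haveI : Subsingleton (LocalizedModule P.primeCompl E.N') :=
      LocalizedModule.subsingleton_iff.2 fun m => ⟨s, hsP, by
        apply E.iso.injective
        rw [map_smul, map_zero, ← algebraMap_smul E.C s, RingHom.mem_ker.1 hs, zero_smul]⟩
    show Module.Flat E.R' (LocalizedModule P.primeCompl E.N')
    infer_instance
  have hC : ∀ (Q : Ideal E.C) [Q.IsPrime],
      FlatCA.FlatAt E.R' (Q.comap (algebraMap E.S' E.C)) E.N' ↔ FlatCA.FlatAt E.R' Q E.G := by
    intro Q _
    rw [← FlatInjLib.flatAt_comap_iff E.surjC Q]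
    exact FlatInjLib.flatAt_congr_of_surjective E.iso.toLinearMap E.iso.surjective _
      fun x hx => ⟨1, fun h1 => (Ideal.IsPrime.comap (algebraMap E.S' E.C)).ne_top ((Ideal.eq_top_iff_one _).2 h1),
        by rw [one_smul]; exact (map_eq_zero_iff _ E.iso.injective).1 hx⟩
  have hbase : ∀ (P : Ideal S) [P.IsPrime] (P' : Ideal E.S') [P'.IsPrime] [P'.LiesOver P],
      FlatCA.FlatAt E.R' P' E.N' ↔ FlatCA.FlatAt R P N := by
    intro P _ P' _ _
    rw [← FlatInjLib.flatAt_iff_of_isBaseChange E.f E.isBaseChange P P']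
    haveI : IsScalarTower R E.R' (LocalizedModule P'.primeCompl E.N') :=
      IsScalarTower.of_algebraMap_smul fun x y => by
        rw [← algebraMap_smul E.S' (algebraMap R E.R' x) y, ← IsScalarTower.algebraMap_apply, algebraMap_smul]
    exact ⟨fun h => (haveI : Module.Flat E.R' (LocalizedModule P'.primeCompl E.N') := h; Module.Flat.trans R E.R' (LocalizedModule P'.primeCompl E.N')),
      fun h => @AbsFlat.flat_of_flat_mul R E.R' _ _ _ (Algebra.WeaklyEtale.flat_lmul' R E.R')
        (LocalizedModule P'.primeCompl E.N') _ _ _ _ h⟩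
  refine ⟨?_, ?_⟩
  · tfae_have 1 ↔ 2 := by
      rw [← hbase q E.q']
      convert hC E.z using 2
      exact Ideal.over_def E.z E.q'
    tfae_have 2 ↔ 3 := FlatInjLib.flatAt_iff_of_unique E.z E.y E.uniq
    tfae_finish
  have hD : ∀ d : E.D, Module.Flat E.R' (LocalizedModule (Submonoid.powers d) E.G) ↔
      Module.Flat E.R' (LocalizedModule (Submonoid.powers (algebraMap E.D E.C d)) E.G) := by
    intro d
    haveI : IsLocalizedModule (Algebra.algebraMapSubmonoid E.C (Submonoid.powers d))
        (LocalizedModule.mkLinearMap (Submonoid.powers (algebraMap E.D E.C d)) E.G) := by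
      rw [Algebra.algebraMapSubmonoid_powers]
      infer_instance
    haveI : IsLocalizedModule (Submonoid.powers d)
        ((LocalizedModule.mkLinearMap (Submonoid.powers (algebraMap E.D E.C d)) E.G).restrictScalars E.D) :=
      IsLocalizedModule.restrictScalars _ _
    exact Module.Flat.equiv_iff ((IsLocalizedModule.iso (Submonoid.powers d)
      ((LocalizedModule.mkLinearMap (Submonoid.powers (algebraMap E.D E.C d)) E.G).restrictScalars E.D)).restrictScalars E.R')
  tfae_have 1 → 2 := by
    rintro ⟨g, hg, hfl⟩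
    refine ⟨algebraMap E.S' E.C (algebraMap S E.S' g), fun h => hg ?_, (FlatInjLib.flat_away_iff _).2 fun Q _ hQ => ?_⟩
    · rw [Ideal.over_def E.q' q, Ideal.over_def E.z E.q']
      exact h
    rw [← hC Q]
    haveI : (Q.comap (algebraMap E.S' E.C)).LiesOver ((Q.comap (algebraMap E.S' E.C)).comap (algebraMap S E.S')) := ⟨rfl⟩
    rw [hbase ((Q.comap (algebraMap E.S' E.C)).comap (algebraMap S E.S'))]
    exact (FlatInjLib.flat_away_iff g).1 hfl _ hQ
  tfae_have 2 → 1 := by
    rintro ⟨c, hc, hfl⟩
    obtain ⟨h, rfl⟩ := E.surjC c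
    haveI : Algebra.HasGoingDown S E.S' := inferInstance
    have hopen := PrimeSpectrum.isOpenMap_comap_of_hasGoingDown_of_finitePresentation (R := S) (S := E.S') _
      (PrimeSpectrum.basicOpen h).isOpen
    have hmem : (⟨q, inferInstance⟩ : PrimeSpectrum S) ∈
        PrimeSpectrum.comap (algebraMap S E.S') '' (PrimeSpectrum.basicOpen h : Set (PrimeSpectrum E.S')) :=
      ⟨⟨E.q', inferInstance⟩, fun h' => hc ((Ideal.over_def E.z E.q' ▸ (h' : h ∈ E.q')) : h ∈ E.z.under E.S'),
        PrimeSpectrum.ext (Ideal.over_def E.q' q).symm⟩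
    obtain ⟨_, ⟨g, rfl⟩, hgq, hgsub⟩ :=
      PrimeSpectrum.isTopologicalBasis_basic_opens.exists_subset_of_mem_open hmem hopen
    refine ⟨g, hgq, (FlatInjLib.flat_away_iff g).2 fun P _ hP => ?_⟩
    obtain ⟨P', hP', e⟩ := hgsub (show (⟨P, inferInstance⟩ : PrimeSpectrum S) ∈ _ from hP)
    haveI : P'.asIdeal.LiesOver P := ⟨(congrArg PrimeSpectrum.asIdeal e).symm⟩
    rw [← hbase P P'.asIdeal]
    by_cases hk : RingHom.ker (algebraMap E.S' E.C) ≤ P'.asIdeal
    · haveI := Ideal.map_isPrime_of_surjective E.surjC hk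
      have hcm : (P'.asIdeal.map (algebraMap E.S' E.C)).comap (algebraMap E.S' E.C) = P'.asIdeal := by
        rw [Ideal.comap_map_of_surjective' _ E.surjC, sup_eq_left.2 hk]
      have h2 := (hC (P'.asIdeal.map (algebraMap E.S' E.C))).2 ((FlatInjLib.flat_away_iff _).1 hfl _
        fun hm => hP' ((congrArg (h ∈ ·) hcm).mp hm))
      convert h2 using 2
      exact hcm.symm
    · exact hker _ hk
  tfae_have 2 → 3 := by
    rintro ⟨c, hc, hfl⟩
    obtain ⟨d, hd, c', hdc⟩ := FlatInjLib.exists_dvd_of_unique E.z E.y E.uniq c hc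
    exact ⟨d, hd, (hD d).2 ((FlatInjLib.flat_away_iff _).2 fun Q _ hQ =>
      (FlatInjLib.flat_away_iff c).1 hfl Q fun hcQ => hQ (hdc ▸ Q.mul_mem_right c' hcQ))⟩
  tfae_have 3 → 2 := by
    rintro ⟨d, hd, hfl⟩
    exact ⟨algebraMap E.D E.C d, fun h => hd (by rw [Ideal.over_def E.z E.y]; exact h), (hD d).1 hfl⟩
  tfae_finish

end Groth.Agent.S1250
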