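import Groth.Statements.S12500
import Groth.Agent.S1627
import Groth.Agent.S7976
import Groth.Agent.SemiAbLib.GaSpec
import Groth.Agent.TorusFieldLib.Scheme
import Groth.Agent.AlbLib.AlgClosed
import Groth.Agent.CubeConsLib.FieldHom
import Groth.Agent.ProjDegLib.Criterion
import Groth.Agent.SekSuwaMonoLib.Basic

set_option autoImplicit false
set_option linter.style.haveILetI false
set_option backward.isDefEq.respectTransparency false
set_option maxHeartbeats 400000
universe u
open CategoryTheory AlgebraicGeometry
open Neron CoactBr MonoidalCategory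
open scoped MonObj

namespace Groth.Agent.S12500

theorem nonempty_of_bialgEquiv (k : Type u) [Field k] {A B : Type u} [CommRing A] [HopfAlgebra k A]
    [CommRing B] [HopfAlgebra k B] (G : Over (Spec (CommRingCat.of k))) [GrpObj G]
    (v : sp k A ≅ G) [IsMonHom v.inv] (φ : A ≃ₐc[k] B)
    {H : Over (Spec (CommRingCat.of k))} [GrpObj H] (w : sp k B ≅ H) [IsMonHom w.hom] :
    Nonempty (Grp.mk G ≅ Grp.mk H) := by
  let f : B →ₐc[k] A := φ.symm
  let g : A →ₐc[k] B := φ
  let u : sp k A ≅ sp k B :=
    ⟨pt (f : B →ₐ[k] A), pt (g : A →ₐ[k] B),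
      by rw [← pt_comp]; exact (congrArg pt (AlgHom.ext fun x => φ.symm_apply_apply x)).trans pt_id,
      by rw [← pt_comp]; exact (congrArg pt (AlgHom.ext fun x => φ.apply_symm_apply x)).trans pt_id⟩
  haveI : IsMonHom u.hom := SekSuwa.isMonHom_specHom f
  haveI : IsMonHom (v.symm ≪≫ u ≪≫ w).hom := by dsimp only [Iso.trans_hom, Iso.symm_hom]; infer_instance
  exact ⟨Grp.mkIso (v.symm ≪≫ u ≪≫ w) (IsMonHom.one_hom _) (IsMonHom.mul_hom _)⟩

/-- Let k be an algebraically closed field and G a k-group scheme whose underlying scheme is integral,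
separated and of finite type over k and has dimension one. Then either G is isomorphic to G_a as a
k-group scheme, or G is isomorphic to G_m as a k-group scheme, or G is proper over k and its group
law is commutative. (The published third alternative says G is an elliptic curve, i.e. a smooth
proper curve of genus one whose group-variety law is the elliptic-curve addition with origin the
identity; this row records properness and the commutativity that the printed proof establishes.) -/
theorem result (k : Type u) [Field k] [IsAlgClosed k]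
    (G : Over (Spec (CommRingCat.of k))) [GrpObj G] [IsIntegral G.left]
    [IsSeparated G.hom] [LocallyOfFiniteType G.hom] [QuasiCompact G.hom]
    (hdim : topologicalKrullDim ↥G.left = 1) :
    Nonempty (Grp.mk G ≅ Grp.mk (Red.Ga (Spec (CommRingCat.of k)))) ∨
      Nonempty (Grp.mk G ≅ Grp.mk (Red.Gm (Spec (CommRingCat.of k)))) ∨
      (IsProper G.hom ∧ IsCommMonObj G) := by
  letI : G.left.Over (Spec (CommRingCat.of k)) := ⟨G.hom⟩
  haveI : IsSeparated (G.left ↘ Spec (CommRingCat.of k)) := inferInstanceAs (IsSeparated G.hom)
  haveI : LocallyOfFiniteType (G.left ↘ Spec (CommRingCat.of k)) := inferInstanceAs (LocallyOfFiniteType G.hom)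
  haveI : QuasiCompact (G.left ↘ Spec (CommRingCat.of k)) := inferInstanceAs (QuasiCompact G.hom)
  rcases Groth.Agent.S1627.result k G.left (hdim := hdim) with haff | ⟨d, c, hc, hcG⟩
  · haveI := haff
    obtain ⟨H, ⟨e⟩⟩ : (hopfSpec (CommRingCat.of k)).essImage (Grp.mk G) :=
      (essImage_hopfSpec (R := CommRingCat.of k) (G := Grp.mk G)).2 inferInstance
    let A : Type u := H.unop.X
    letI : CommRing A := H.unop.commRing
    letI : HopfAlgebra k A := H.unop.hopfAlgebra
    let v : sp k A ≅ G := (Grp.forget _).mapIso e
    haveI : IsMonHom v.hom := e.hom.hom.isMonHom_hom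
    haveI : IsMonHom v.inv := e.inv.hom.isMonHom_hom
    haveI : IsIso v.hom.left := (Over.forget _).map_isIso v.hom
    haveI : Algebra.FiniteType k A := by
      haveI : LocallyOfFiniteType (sp k A).hom := by rw [← Over.w v.hom]; infer_instance
      have h : (algebraMap k A).FiniteType :=
        (HasRingHomProperty.Spec_iff (P := @LocallyOfFiniteType) (φ := CommRingCat.ofHom (algebraMap k A))).1
          (inferInstance : LocallyOfFiniteType (sp k A).hom)
      exact RingHom.finiteType_algebraMap.1 h
    haveI : IsDomain A := by
      haveI : Nonempty ↥(Spec (CommRingCat.of A)) := Nonempty.map (inv v.hom.left) inferInstance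
      haveI : IsIntegral (Spec (CommRingCat.of A)) := isIntegral_of_isOpenImmersion v.hom.left
      exact (affine_isIntegral_iff (CommRingCat.of A)).1 inferInstance
    have hdA : ringKrullDim A = 1 := by
      rw [← PrimeSpectrum.topologicalKrullDim_eq_ringKrullDim, ← hdim]
      exact IsHomeomorph.topologicalKrullDim_eq _ (v.hom.left.homeomorph).isHomeomorph
    have hconn : ∀ a : A, IsIdempotentElem a → a = 0 ∨ a = 1 := fun a ha => by
      have h : a * (a - 1) = 0 := by rw [mul_sub, ha.eq, mul_one, sub_self]
      exact (mul_eq_zero.1 h).imp_right sub_eq_zero.1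
    haveI : IsMonHom (asIso (SemiAbLib.toGa k)).hom := SemiAbLib.isMonHom_toGa k
    obtain ⟨w, hw, hw'⟩ := Groth.Agent.TorusField.exists_DS_iso k ℤ
    haveI := hw
    rcases Groth.Agent.S7976.result k A hconn hdA with h | h
    · obtain ⟨φ⟩ := h
      exact Or.inr (Or.inl (nonempty_of_bialgEquiv k G v φ w))
    · obtain ⟨φ⟩ := h
      exact Or.inl (nonempty_of_bialgEquiv k G v φ (asIso (SemiAbLib.toGa k)))
  · right; right
    haveI := hc
    haveI : IsProper (CohB1.ProjSpace.toSpec d k) := ProjDegLib.toSpec_isProper k d
    haveI : IsProper G.hom := by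
      have : IsProper (c ≫ CohB1.ProjSpace.toSpec d k) := inferInstance
      rw [hcG] at this
      exact this
    haveI := AlbLib.geometricallyIntegral_of_isIntegral G
    exact ⟨inferInstance, CubeConsLib.isCommMonObj_field (A := G)⟩

end Groth.Agent.S12500
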