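import Groth.Statements.S12505
import Groth.Agent.ModSiteLib.TensorSheaf

set_option autoImplicit false
universe u
open CategoryTheory
open ModSite

namespace Groth.Agent.S12505

open CategoryTheory.MonoidalCategory in
/-- Let (C, J) be a small site and O a sheaf of commutative rings on it; for presheaves of O-modules M
and N, with u_M : M → aM and u_N : N → aN the unit maps of the sheafification adjunction (aM, aN
regarded as presheaves), the morphism a(u_M ⊗ u_N) from the sheafification of the presheaf tensor
product M ⊗_p N to the sheafification of aM ⊗_p aN is an isomorphism. -/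
theorem result {C : Type u} [SmallCategory C] {J : GrothendieckTopology C}
    (O : Sheaf J CommRingCat.{u})
    (M N : PresheafOfModules.{u} (O.obj ⋙ forget₂ CommRingCat.{u} RingCat.{u})) :
    IsIso ((ModSite.sheafify O).map
      (MonoidalCategoryStruct.tensorHom (C := PresheafOfModules.{u} (O.obj ⋙ forget₂ CommRingCat.{u} RingCat.{u}))
        ((PresheafOfModules.sheafificationAdjunction (𝟙 (ModSite.ringSh O).obj)).unit.app M)
        ((PresheafOfModules.sheafificationAdjunction (𝟙 (ModSite.ringSh O).obj)).unit.app N))) := by
  let adj := PresheafOfModules.sheafificationAdjunction.{u} (𝟙 (ModSite.ringSh O).obj)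
  let f : M ⟶ (ModSiteLib.jP O).obj ((ModSiteLib.aP O).obj M) := (ModSiteLib.adjP O).unit.app M
  let g : N ⟶ (ModSiteLib.jP O).obj ((ModSiteLib.aP O).obj N) := (ModSiteLib.adjP O).unit.app N
  show IsIso ((ModSiteLib.aP O).map (MonoidalCategoryStruct.tensorHom f g))
  rw [MonoidalCategory.tensorHom_def, Functor.map_comp]
  have h1 : IsIso ((ModSiteLib.aP O).map (MonoidalCategoryStruct.whiskerRight f N)) :=
    ModSiteLib.isIso_tensorSh_map O N f (ModSiteLib.W_unit O M)
  have h2 : ∀ P, IsIso ((ModSiteLib.aP O).map (MonoidalCategoryStruct.whiskerLeft P g)) := fun P => by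
    have : IsIso ((ModSiteLib.aP O).map (MonoidalCategoryStruct.whiskerRight g P)) :=
      ModSiteLib.isIso_tensorSh_map O P g (ModSiteLib.W_unit O N)
    have e : MonoidalCategoryStruct.whiskerLeft P g =
        (BraidedCategory.braiding P _).hom ≫ MonoidalCategoryStruct.whiskerRight g P ≫
          (BraidedCategory.braiding P _).inv := by
      rw [← BraidedCategory.braiding_naturality_right_assoc, Iso.hom_inv_id, Category.comp_id]
    rw [e, Functor.map_comp, Functor.map_comp]
    infer_instance
  have := h2
  infer_instance

end Groth.Agent.S12505
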