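import Groth.Statements.S1251
import Mathlib
import Groth.Agent.FlatInjLib.FPTransfer
-- import your own Groth.Agent.* helpers here

set_option autoImplicit false
universe u
open FlatMor

namespace Groth.Agent.S1251

/-- Given an elementary dévissage E of N at q over p in dimension n, with S of finite presentation over
R: the finite map D → C is of finite presentation; the following are equivalent: N_q is a finitely
presented S_q-module; G_z is a finitely presented C_z-module; G_y is a finitely presented
D_y-module. Also equivalent to each other: N is finitely presented on some basic open of Spec S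
containing q; G is finitely presented on some basic open of Spec C containing z; G as a D-module is
finitely presented on some basic open of Spec D containing y. -/
theorem result {R S : Type u} [CommRing R] [CommRing S] [Algebra R S] [Algebra.FinitePresentation R S]
    (N : Type u) [AddCommGroup N] [Module S N] [Module R N] [IsScalarTower R S N] [Module.Finite S N]
    (p : Ideal R) [p.IsPrime] (q : Ideal S) [q.IsPrime] [q.LiesOver p] (n : ℕ) (E : FlatCA.ElemDevissage R S N p q n) :
    Algebra.FinitePresentation E.D E.C ∧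
    [Module.FinitePresentation (Localization.AtPrime q) (LocalizedModule q.primeCompl N),
     Module.FinitePresentation (Localization.AtPrime E.z) (LocalizedModule E.z.primeCompl E.G),
     Module.FinitePresentation (Localization.AtPrime E.y) (LocalizedModule E.y.primeCompl E.G)].TFAE ∧
    [∃ g : S, g ∉ q ∧ Module.FinitePresentation (Localization.Away g) (LocalizedModule (Submonoid.powers g) N),
     ∃ g : E.C, g ∉ E.z ∧ Module.FinitePresentation (Localization.Away g) (LocalizedModule (Submonoid.powers g) E.G),
     ∃ g : E.D, g ∉ E.y ∧ Module.FinitePresentation (Localization.Away g) (LocalizedModule (Submonoid.powers g) E.G)].TFAE := by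
  haveI := E.finiteDC
  haveI := E.etaleR.1
  haveI := E.etaleS.1
  obtain ⟨hq, -⟩ := E.etaleS.2
  haveI := hq
  haveI := E.fpC
  haveI : Algebra.FinitePresentation R E.S' := Algebra.FinitePresentation.trans R S E.S'
  haveI : Algebra.FinitePresentation E.R' E.S' :=
    Algebra.FinitePresentation.of_restrict_scalars_finitePresentation R E.R' E.S'
  haveI : Algebra.FinitePresentation E.R' E.C := Algebra.FinitePresentation.trans E.R' E.S' E.C
  haveI : Algebra.FiniteType E.R' E.D := by
    haveI : AlgebraicGeometry.SmoothOfRelativeDimension n (AlgebraicGeometry.Spec.map (CommRingCat.ofHom (algebraMap E.R' E.D))) := E.smooth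
    haveI : AlgebraicGeometry.Smooth (AlgebraicGeometry.Spec.map (CommRingCat.ofHom (algebraMap E.R' E.D))) := AlgebraicGeometry.SmoothOfRelativeDimension.smooth n _
    haveI : AlgebraicGeometry.LocallyOfFiniteType (AlgebraicGeometry.Spec.map (CommRingCat.ofHom (algebraMap E.R' E.D))) := inferInstance
    exact RingHom.finiteType_algebraMap.1
      ((AlgebraicGeometry.HasRingHomProperty.Spec_iff (P := @AlgebraicGeometry.LocallyOfFiniteType)).1 this)
  have hDC : Algebra.FinitePresentation E.D E.C :=
    Algebra.FinitePresentation.of_restrict_scalars_finitePresentation E.R' E.D E.C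
  haveI : Module.FinitePresentation E.D E.C := Module.FinitePresentation.of_finite_of_finitePresentation _ _
  haveI : Module.Finite E.S' E.C := Module.Finite.of_surjective (Algebra.linearMap E.S' E.C) E.surjC
  haveI : Module.FinitePresentation E.S' E.C := Module.FinitePresentation.of_finite_of_finitePresentation _ _
  have hiso : ∀ T : Submonoid E.S',
      Module.FinitePresentation (Localization T) (LocalizedModule T E.N') ↔
        Module.FinitePresentation (Localization T) (LocalizedModule T E.G) := fun T =>
    ⟨FlatInjLib.fp_localization_of_le E.iso.toLinearMap (IsBaseChange.ofEquiv E.iso) T T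
        fun t ht => IsLocalization.map_units _ (⟨t, ht⟩ : T),
      FlatInjLib.fp_localization_of_le E.iso.symm.toLinearMap (IsBaseChange.ofEquiv E.iso.symm) T T
        fun t ht => IsLocalization.map_units _ (⟨t, ht⟩ : T)⟩
  have hpow : ∀ {A : Type u} [CommRing A] (a b : A), a ∣ b → ∀ t ∈ Submonoid.powers a,
      IsUnit (algebraMap A (Localization (Submonoid.powers b)) t) := by
    rintro A _ a b hab _ ⟨k, rfl⟩
    rw [map_pow]
    refine IsUnit.pow k (isUnit_of_dvd_unit (map_dvd _ hab) ?_)
    exact IsLocalization.map_units _ (⟨b, Submonoid.mem_powers b⟩ : Submonoid.powers b)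
  refine ⟨hDC, ?_, ?_⟩
  · tfae_have 1 ↔ 2 := by
      have h1 : Module.FinitePresentation (Localization E.z.primeCompl) (LocalizedModule E.z.primeCompl E.G) ↔
          Module.FinitePresentation (Localization E.q'.primeCompl) (LocalizedModule E.q'.primeCompl E.G) := by
        refine FlatInjLib.fp_localization_iff_of_finite E.q'.primeCompl E.z.primeCompl
          (fun t ht h => ht ?_) fun t' ht' => ?_
        · exact (Ideal.over_def E.z E.q').symm ▸ (h : t ∈ E.z.under E.S')
        · obtain ⟨t, rfl⟩ := E.surjC t'
          exact ⟨t, fun h => ht' ((Ideal.over_def E.z E.q' ▸ h : t ∈ E.z.under E.S')), 1, (mul_one _).symm⟩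
      refine Iff.trans ?_ (((hiso _)).trans h1.symm)
      have hT : ∀ t ∈ q.primeCompl, IsUnit (algebraMap E.S' (Localization E.q'.primeCompl) (algebraMap S E.S' t)) :=
        fun t ht => IsLocalization.map_units _ (⟨_, fun h => ht ((Ideal.over_def E.q' q).symm ▸
          (h : t ∈ E.q'.under S))⟩ : E.q'.primeCompl)
      refine ⟨FlatInjLib.fp_localization_of_le E.f E.isBaseChange _ _ hT,
        FlatInjLib.fp_localization_descent E.f E.isBaseChange _ _ hT fun P _ hP => ?_⟩
      have hle : P ≤ q := fun x hx => by
        by_contra hxq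
        exact Set.disjoint_left.1 hP hxq hx
      obtain ⟨P', hP', hP'p, hP'o⟩ := Ideal.exists_ideal_le_liesOver_of_le (p := P) (q := q) E.q' hle
      exact ⟨P', hP'p, Set.disjoint_left.2 fun x hx hxP => hx (hP' hxP), hP'o.over.symm⟩
    tfae_have 2 ↔ 3 := FlatInjLib.fp_localization_iff_of_finite E.y.primeCompl E.z.primeCompl
      (fun t ht h => ht ((Ideal.over_def E.z E.y).symm ▸ (h : t ∈ E.z.under E.D)))
      fun t' ht' => by
        obtain ⟨d, hd, c, hc⟩ := FlatInjLib.exists_dvd_of_unique E.z E.y E.uniq t' ht'
        exact ⟨d, hd, c, hc⟩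
    tfae_finish
  have hfin : ∀ h : E.S', Module.FinitePresentation (Localization.Away (algebraMap E.S' E.C h))
      (LocalizedModule (Submonoid.powers (algebraMap E.S' E.C h)) E.G) ↔
        Module.FinitePresentation (Localization.Away h) (LocalizedModule (Submonoid.powers h) E.G) := fun h => by
    refine FlatInjLib.fp_localization_iff_of_finite (Submonoid.powers h) (Submonoid.powers (algebraMap E.S' E.C h))
      ?_ ?_
    · rintro _ ⟨k, rfl⟩; exact ⟨k, (map_pow _ _ _).symm⟩
    · rintro _ ⟨k, rfl⟩; exact ⟨h ^ k, ⟨k, rfl⟩, 1, by simp⟩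
  have hfinD : ∀ d : E.D, Module.FinitePresentation (Localization.Away (algebraMap E.D E.C d))
      (LocalizedModule (Submonoid.powers (algebraMap E.D E.C d)) E.G) ↔
        Module.FinitePresentation (Localization.Away d) (LocalizedModule (Submonoid.powers d) E.G) := fun d => by
    refine FlatInjLib.fp_localization_iff_of_finite (Submonoid.powers d) (Submonoid.powers (algebraMap E.D E.C d))
      ?_ ?_
    · rintro _ ⟨k, rfl⟩; exact ⟨k, (map_pow _ _ _).symm⟩
    · rintro _ ⟨k, rfl⟩; exact ⟨d ^ k, ⟨k, rfl⟩, 1, by simp⟩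
  tfae_have 1 → 2 := by
    rintro ⟨g, hg, hfp⟩
    refine ⟨algebraMap E.S' E.C (algebraMap S E.S' g), fun h => hg ?_, (hfin _).2 ((hiso _).1 ?_)⟩
    · rw [Ideal.over_def E.q' q, Ideal.over_def E.z E.q']
      exact h
    · refine FlatInjLib.fp_localization_of_le E.f E.isBaseChange (Submonoid.powers g) _ ?_ hfp
      rintro _ ⟨k, rfl⟩
      exact hpow (algebraMap S E.S' g) (algebraMap S E.S' g) dvd_rfl _ ⟨k, (map_pow _ _ _).symm⟩
  tfae_have 2 → 1 := by
    rintro ⟨c, hc, hfp⟩
    obtain ⟨h, rfl⟩ := E.surjC c
    have hN := (hiso _).2 ((hfin h).1 hfp)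
    have hopen := PrimeSpectrum.isOpenMap_comap_of_hasGoingDown_of_finitePresentation (R := S) (S := E.S') _
      (PrimeSpectrum.basicOpen h).isOpen
    have hmem : (⟨q, inferInstance⟩ : PrimeSpectrum S) ∈
        PrimeSpectrum.comap (algebraMap S E.S') '' (PrimeSpectrum.basicOpen h : Set (PrimeSpectrum E.S')) :=
      ⟨⟨E.q', inferInstance⟩, fun h' => hc ((Ideal.over_def E.z E.q' ▸ (h' : h ∈ E.q')) : h ∈ E.z.under E.S'),
        PrimeSpectrum.ext (Ideal.over_def E.q' q).symm⟩
    obtain ⟨_, ⟨g, rfl⟩, hgq, hgsub⟩ :=
      PrimeSpectrum.isTopologicalBasis_basic_opens.exists_subset_of_mem_open hmem hopen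
    refine ⟨g, hgq, FlatInjLib.fp_localization_descent E.f E.isBaseChange (Submonoid.powers g)
      (Submonoid.powers (h * algebraMap S E.S' g)) ?_ (fun P _ hP => ?_) ?_⟩
    · rintro _ ⟨k, rfl⟩
      exact hpow (algebraMap S E.S' g) _ (dvd_mul_left _ _) _ ⟨k, (map_pow _ _ _).symm⟩
    · have hgP : g ∉ P := fun hg => Set.disjoint_left.1 hP (Submonoid.mem_powers g) hg
      obtain ⟨P', hP', e⟩ := hgsub (show (⟨P, inferInstance⟩ : PrimeSpectrum S) ∈ _ from hgP)
      have e' : P'.asIdeal.comap (algebraMap S E.S') = P := congrArg PrimeSpectrum.asIdeal e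
      refine ⟨P'.asIdeal, P'.2, Set.disjoint_left.2 ?_, e'⟩
      rintro _ ⟨k, rfl⟩ hk
      rcases P'.2.mem_or_mem (P'.2.mem_of_pow_mem k hk) with h1 | h1
      · exact hP' h1
      · exact hgP (e' ▸ h1)
    · exact FlatInjLib.fp_localization_of_le (S' := E.S') (LinearMap.id (R := E.S') (M := E.N'))
        (IsBaseChange.ofEquiv (LinearEquiv.refl _ _)) (Submonoid.powers h) _
        (hpow h _ (dvd_mul_right _ _)) hN
  tfae_have 2 → 3 := by
    rintro ⟨c, hc, hfp⟩
    obtain ⟨d, hd, c', hdc⟩ := FlatInjLib.exists_dvd_of_unique E.z E.y E.uniq c hc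
    exact ⟨d, hd, (hfinD d).1 (FlatInjLib.fp_localization_of_le (S' := E.C) (LinearMap.id (R := E.C) (M := E.G))
      (IsBaseChange.ofEquiv (LinearEquiv.refl _ _)) (Submonoid.powers c) _ (hpow c _ ⟨c', hdc⟩) hfp)⟩
  tfae_have 3 → 2 := by
    rintro ⟨d, hd, hfp⟩
    exact ⟨algebraMap E.D E.C d, fun h => hd (by rw [Ideal.over_def E.z E.y]; exact h), (hfinD d).2 hfp⟩
  tfae_finish

end Groth.Agent.S1251
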