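import Groth.Statements.S12514
import Groth.Agent.FFLib.Ext

set_option autoImplicit false
open FunFld

namespace Groth.Agent.S12514

/-- For a geometric function field of one variable `K/k` and finite extensions `K ⊆ K' ⊆ K''`, the
conorm maps on divisors compose: `N*_{K''/K'} ∘ N*_{K'/K} = N*_{K''/K}`. The companion identity for
norms is not stated. -/
theorem result (k K K' K'' : Type*) [Field k] [Field K] [Field K'] [Field K'']
    [Algebra k K] [Algebra k K'] [Algebra k K''] [Algebra K K'] [Algebra K' K''] [Algebra K K'']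
    [IsScalarTower k K K'] [IsScalarTower k K' K''] [IsScalarTower k K K''] [IsScalarTower K K' K'']
    [FiniteDimensional K K'] [FiniteDimensional K' K'']
    (hK : FunFld.IsFunctionField k K) (hg : FunFld.IsGeometric k K) (D : FunFld.Divisor k K) :
    FunFld.conorm K'' (FunFld.conorm K' D) = FunFld.conorm K'' D := by
  have hK' : Groth.Agent.FFLib.FG1 k K' := Groth.Agent.FFLib.fg1_ext hK.1
  have : FiniteDimensional K K'' := Module.Finite.trans K' K''
  refine Finsupp.ext fun R => ?_
  rw [Groth.Agent.FFLib.conorm_apply hK', Groth.Agent.FFLib.conorm_apply hK.1,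
    Groth.Agent.FFLib.conorm_apply hK.1]
  have h1 := Groth.Agent.FFLib.isOverWith_under hK.1 (Groth.Agent.FFLib.underPlace hK' R)
  have h2 := Groth.Agent.FFLib.isOverWith_under hK' R
  obtain ⟨hP, he⟩ := Groth.Agent.FFLib.under_eq hK.1 (Q := R)
    (P := Groth.Agent.FFLib.underPlace hK.1 (Groth.Agent.FFLib.underPlace hK' R))
    (e := Groth.Agent.FFLib.underIdx hK.1 (Groth.Agent.FFLib.underPlace hK' R) *
      Groth.Agent.FFLib.underIdx hK' R) fun x => by
    rw [IsScalarTower.algebraMap_apply K K' K'', h2 (algebraMap K K' x), h1 x, ← pow_mul]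
  rw [hP, he]; push_cast; ring

end Groth.Agent.S12514
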