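import Groth.Statements.S12515
import Groth.Agent.FFLib.ASReduce


-- import your own Groth.Agent.* helpers here

set_option autoImplicit false
open FunFld

namespace Groth.Agent.S12515

/-- If `char k ≠ 2` and `K` has degree `2` over the rational function field `k(x)`, then `K = k(x)(y)`
for some `y` with `y² = f(x)`, `f` a squarefree polynomial over `k`. -/
theorem result (k K : Type*) [Field k] [Field K] (h2 : ringChar k ≠ 2)
    [Algebra (RatFunc k) K] (hdeg : Module.finrank (RatFunc k) K = 2) :
    ∃ (y : K) (f : Polynomial k), Squarefree f ∧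
      y ^ 2 = algebraMap (RatFunc k) K (algebraMap (Polynomial k) (RatFunc k) f) ∧
      IntermediateField.adjoin (RatFunc k) ({y} : Set K) = ⊤ := by
  open Groth.Agent.FFLib in
  have : FiniteDimensional (RatFunc k) K := Module.finite_of_finrank_eq_succ hdeg
  obtain ⟨y, u, v, hy, heq⟩ := exists_quad hdeg
  have h2k : (2 : RatFunc k) ≠ 0 := by
    rw [← map_ofNat (algebraMap k (RatFunc k)) 2]
    exact (_root_.map_ne_zero _).2 (two_ne_zero' h2)
  set w := u + (v / 2) ^ 2 with hw
  set z := y + algebraMap (RatFunc k) K (v / 2) with hz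
  have hzn : z ∉ Set.range (algebraMap (RatFunc k) K) := by
    rintro ⟨x, hx⟩
    exact hy ⟨x - v / 2, by rw [map_sub, hx, hz]; ring⟩
  have hzw : z ^ 2 = algebraMap (RatFunc k) K w := by
    rw [hw, map_add, map_pow, hz, ← heq]
    have : algebraMap (RatFunc k) K v = 2 * algebraMap (RatFunc k) K (v / 2) := by
      rw [← map_ofNat (algebraMap (RatFunc k) K) 2, ← map_mul]; congr 1; field_simp
    rw [this]; ring
  have hw0 : w ≠ 0 := fun e => hzn ⟨0, by
    rw [e, map_zero] at hzw; rw [map_zero]; exact (pow_eq_zero_iff two_ne_zero).1 hzw |>.symm⟩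
  obtain ⟨n, d, hn, hd, hnd⟩ := exists_num_den hw0
  obtain ⟨s, r, hs, hr, hsr⟩ := exists_sq_mul_squarefree (n * d) (mul_ne_zero hn hd)
  set c : RatFunc k := algebraMap _ _ d / algebraMap _ _ s with hc
  have hc0 : c ≠ 0 := div_ne_zero (iota_ne hd) (iota_ne hs)
  have hzn' : z * algebraMap (RatFunc k) K c ∉ Set.range (algebraMap (RatFunc k) K) := by
    rintro ⟨x, hx⟩
    exact hzn ⟨x / c, by rw [map_div₀, hx, mul_div_assoc, div_self ((_root_.map_ne_zero _).2 hc0), mul_one]⟩
  have hfin : (z * algebraMap (RatFunc k) K c) ^ 2 = algebraMap (RatFunc k) K (algebraMap (Polynomial k) (RatFunc k) r) := by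
    rw [mul_pow, hzw, ← map_pow, ← map_mul]
    congr 1
    have h := congrArg (algebraMap (Polynomial k) (RatFunc k)) hsr
    rw [map_mul, map_mul, map_pow] at h
    rw [hnd, hc]
    have := iota_ne (k := k) hd
    have := iota_ne (k := k) hs
    field_simp
    linear_combination h
  exact ⟨_, r, hr, hfin, (minpoly_quad hdeg hzn' (a := (0 : RatFunc k)) (g := algebraMap (Polynomial k) (RatFunc k) r) (by rw [map_zero, zero_mul, add_zero, hfin])).2.2⟩

end Groth.Agent.S12515
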