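import Groth.Statements.S12516
import Groth.Agent.FFLib.Hyper


-- import your own Groth.Agent.* helpers here

set_option autoImplicit false
open FunFld

namespace Groth.Agent.S12516

/-- Let `char k ≠ 2`, `K` of degree `2` over `k(x)`, `y ∈ K` with `y² = f(x)` for a squarefree
polynomial `f` of degree `≥ 1`, and `P∞` the place of `k(x)` at which `x` has a pole. If `deg f` is
odd there is a unique place of `K` above `P∞`; it has ramification index `2` and degree `1`. If `deg
f` is even, every place of `K` above `P∞` is unramified and the conorm of `P∞` has degree `2` (so it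
is one place of degree `2` or the sum of two places of degree `1`). -/
theorem result (k K : Type*) [Field k] [Field K] (h2 : ringChar k ≠ 2) [Algebra k K]
    [Algebra (RatFunc k) K] [IsScalarTower k (RatFunc k) K]
    (hdeg : Module.finrank (RatFunc k) K = 2) (y : K) (f : Polynomial k) (hf : Squarefree f)
    (hd : 1 ≤ f.natDegree)
    (heq : y ^ 2 = algebraMap (RatFunc k) K (algebraMap (Polynomial k) (RatFunc k) f))
    (Pinf : FunFld.Place k (RatFunc k)) (hinf : Pinf.ord (RatFunc.X : RatFunc k) < 0) :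
    (Odd f.natDegree → (∃! P : FunFld.Place k K, FunFld.IsOver P Pinf) ∧
      ∀ P : FunFld.Place k K, FunFld.IsOver P Pinf → FunFld.IsOverWith P Pinf 2 ∧ P.deg = 1) ∧
    (Even f.natDegree → (FunFld.conorm K (Finsupp.single Pinf 1)).deg = 2 ∧
      ∀ P : FunFld.Place k K, FunFld.IsOver P Pinf → FunFld.IsOverWith P Pinf 1) := by
  open Groth.Agent.FFLib in
  have : FiniteDimensional (RatFunc k) K := Module.finite_of_finrank_eq_succ hdeg
  have hK := fg1_ratFunc (k := k)
  obtain ⟨hX1, hP1⟩ := inf_ord_deg Pinf hinf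
  have hf0 := iota_ne (k := k) hf.ne_zero
  have hfo := ord_poly_inf' Pinf hinf hf.ne_zero
  refine ⟨fun ho => ?_, fun he => ⟨?_, fun P hP => ?_⟩⟩
  · obtain ⟨hu, hall⟩ := sqrt_ramified hdeg hf0 heq Pinf (by
      rw [hfo, odd_neg, Int.odd_coe_nat]; exact ho)
    exact ⟨hu, fun P hP => ⟨(hall P hP).1, (hall P hP).2.trans hP1⟩⟩
  · rw [deg_conorm hK, hdeg, deg_single, hP1]; norm_num
  · obtain ⟨m, hm⟩ := he
    have hny := not_range_of_squarefree hf hd heq
    have hX0 : (RatFunc.X : RatFunc k) ≠ 0 := RatFunc.X_ne_zero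
    set c : RatFunc k := (RatFunc.X : RatFunc k) ^ m with hc
    have hc0 : c ≠ 0 := pow_ne_zero _ hX0
    refine sqrt_unramified hdeg h2 (y := y * (algebraMap (RatFunc k) K c)⁻¹) ?_
      (g := algebraMap (Polynomial k) (RatFunc k) f * (c⁻¹) ^ 2) ?_ Pinf (mul_ne_zero hf0 (pow_ne_zero _ (inv_ne_zero hc0))) ?_ P hP
    · rintro ⟨x, hx⟩
      exact hny ⟨x * c, by rw [map_mul, hx, mul_assoc, inv_mul_cancel₀ ((_root_.map_ne_zero _).2 hc0), mul_one]⟩
    · rw [mul_pow, heq, map_mul, ← map_inv₀, ← map_pow]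
    · rw [ord_mul Pinf hf0 (pow_ne_zero _ (inv_ne_zero hc0)), ord_pow, ord_inv, hc, ord_pow, hfo, hX1, hm]
      push_cast; ring

end Groth.Agent.S12516
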