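import Groth.Statements.S12517
import Groth.Agent.FFLib.ASReduce


-- import your own Groth.Agent.* helpers here

set_option autoImplicit false
open FunFld

namespace Groth.Agent.S12517

/-- If `k` is perfect of characteristic `2` and `K` is a separable extension of degree `2` of the
rational function field `k(x)`, then `K = k(x)(y)` for some `y` with `y² + y = f(x)`, `f ∈ k(x)`.
The correspondence between such extensions and cosets of `{a² + a}` in `k(x)` is not stated. -/
theorem result (k K : Type*) [Field k] [Field K] [PerfectField k]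
    (h2 : ringChar k = 2) [Algebra (RatFunc k) K] (hdeg : Module.finrank (RatFunc k) K = 2)
    [Algebra.IsSeparable (RatFunc k) K] :
    ∃ (y : K) (f : RatFunc k), y ^ 2 + y = algebraMap (RatFunc k) K f ∧
      IntermediateField.adjoin (RatFunc k) ({y} : Set K) = ⊤ := by
  open Groth.Agent.FFLib in
  have : FiniteDimensional (RatFunc k) K := Module.finite_of_finrank_eq_succ hdeg
  have hc2 : CharP k 2 := ringChar.of_eq h2
  obtain ⟨z, u, v, hz, heq⟩ := exists_quad hdeg
  obtain ⟨hmin, -, -⟩ := minpoly_quad hdeg hz heq
  have h2r : (2 : RatFunc k) = 0 := by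
    rw [← map_ofNat (algebraMap k (RatFunc k)) 2, show (2 : k) = 0 by exact_mod_cast CharP.cast_eq_zero k 2, map_zero]
  have hv : v ≠ 0 := by
    rintro rfl
    have hsep := Algebra.IsSeparable.isSeparable (RatFunc k) z
    have hder : Polynomial.derivative (minpoly (RatFunc k) z) = 0 := by
      rw [hmin]; simp [one_add_one_eq_two, h2r]
    exact (Polynomial.separable_iff_derivative_ne_zero (minpoly.irreducible (Algebra.IsIntegral.isIntegral z))).1 hsep hder
  set y := z / algebraMap (RatFunc k) K v with hy
  have hyeq : y ^ 2 + y = algebraMap (RatFunc k) K (u / v ^ 2) := by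
    have hv' := (_root_.map_ne_zero (algebraMap (RatFunc k) K)).2 hv
    rw [hy, map_div₀, map_pow, ← heq]
    field_simp
  have hyn : y ∉ Set.range (algebraMap (RatFunc k) K) := by
    rintro ⟨x, hx⟩
    exact hz ⟨x * v, by rw [map_mul, hx, hy, div_mul_cancel₀ _ ((_root_.map_ne_zero _).2 hv)]⟩
  exact ⟨y, _, hyeq, (minpoly_quad hdeg hyn (a := (1 : RatFunc k)) (g := u / v ^ 2) (by rw [map_one, one_mul, hyeq])).2.2⟩

end Groth.Agent.S12517
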