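import Groth.Statements.S12518
import Groth.Agent.S12517
import Groth.Agent.FFLib.ASReduce


-- import your own Groth.Agent.* helpers here

set_option autoImplicit false
open FunFld

namespace Groth.Agent.S12518

/-- If `k` is perfect of characteristic `2` and `K` is a separable extension of degree `2` of `k(x)`,
then `K = k(x)(y)` for some `y` with `y² + y = f(x)` such that every pole of `f`, at any place of
`k(x)/k` including the infinite one, has odd order. -/
theorem result (k K : Type*) [Field k] [Field K] [PerfectField k] (h2 : ringChar k = 2)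
    [Algebra k K] [Algebra (RatFunc k) K] [IsScalarTower k (RatFunc k) K]
    (hdeg : Module.finrank (RatFunc k) K = 2) [Algebra.IsSeparable (RatFunc k) K] :
    ∃ (y : K) (f : RatFunc k), y ^ 2 + y = algebraMap (RatFunc k) K f ∧
      IntermediateField.adjoin (RatFunc k) ({y} : Set K) = ⊤ ∧
      ∀ P : FunFld.Place k (RatFunc k), P.ord f < 0 → Odd (P.ord f) := by
  open Groth.Agent.FFLib in
  have : FiniteDimensional (RatFunc k) K := Module.finite_of_finrank_eq_succ hdeg
  have hc2 : CharP k 2 := ringChar.of_eq h2
  obtain ⟨y, f, hy, htop⟩ := Groth.Agent.S12517.result k K h2 hdeg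
  obtain ⟨g, hg⟩ := exists_odd_poles f
  have h2K : (2 : K) = 0 := by
    rw [← map_ofNat (algebraMap k K) 2, show (2 : k) = 0 by exact_mod_cast CharP.cast_eq_zero k 2, map_zero]
  refine ⟨y + algebraMap (RatFunc k) K g, f + g ^ 2 + g, ?_, ?_, hg⟩
  · rw [map_add, map_add, map_pow]
    linear_combination hy + (y * algebraMap (RatFunc k) K g) * h2K
  · rw [eq_top_iff, ← htop, IntermediateField.adjoin_simple_le_iff]
    have h := sub_mem (IntermediateField.mem_adjoin_simple_self (RatFunc k) (y + algebraMap (RatFunc k) K g))
      ((IntermediateField.adjoin (RatFunc k) ({y + algebraMap (RatFunc k) K g} : Set K)).algebraMap_mem g)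
    rwa [add_sub_cancel_right] at h

end Groth.Agent.S12518
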