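import Groth.Statements.S12519
import Groth.Agent.FFLib.Hyper


-- import your own Groth.Agent.* helpers here

set_option autoImplicit false
open FunFld

namespace Groth.Agent.S12519

/-- Let `k` be perfect of characteristic `2`, `K` separable of degree `2` over `k(x)`, and `y ∈ K \
k(x)` with `y² + y = f(x)`. At a place `p` of `k(x)/k` where `f` has a pole of odd order there is a
unique place `P` of `K` above `p`, with `e(P|p) = 2` and `deg P = deg p` (residue degree `1`); at a
place where `f` has no pole, every place of `K` above it is unramified. The different is not stated. -/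
theorem result (k K : Type*) [Field k] [Field K] [PerfectField k] (h2 : ringChar k = 2)
    [Algebra k K] [Algebra (RatFunc k) K] [IsScalarTower k (RatFunc k) K]
    (hdeg : Module.finrank (RatFunc k) K = 2) [Algebra.IsSeparable (RatFunc k) K]
    (y : K) (hy : y ∉ Set.range (algebraMap (RatFunc k) K))
    (f : RatFunc k) (heq : y ^ 2 + y = algebraMap (RatFunc k) K f)
    (P₀ : FunFld.Place k (RatFunc k)) :
    ((P₀.ord f < 0 ∧ Odd (P₀.ord f)) → (∃! P : FunFld.Place k K, FunFld.IsOver P P₀) ∧
      ∀ P : FunFld.Place k K, FunFld.IsOver P P₀ → FunFld.IsOverWith P P₀ 2 ∧ P.deg = P₀.deg) ∧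
    (0 ≤ P₀.ord f → ∀ P : FunFld.Place k K, FunFld.IsOver P P₀ → FunFld.IsOverWith P P₀ 1) := by
  open Groth.Agent.FFLib in
  have : FiniteDimensional (RatFunc k) K := Module.finite_of_finrank_eq_succ hdeg
  have hK := fg1_ratFunc (k := k)
  have hc2 : CharP k 2 := ringChar.of_eq h2
  have hK2 : (2 : K) = 0 := by
    rw [← map_ofNat (algebraMap k K) 2, show (2 : k) = 0 by exact_mod_cast CharP.cast_eq_zero k 2, map_zero]
  have hy0 : y ≠ 0 := fun e => hy ⟨0, by rw [e, map_zero]⟩
  have key : ∀ (Q : FunFld.Place k K), 1 < Q.1 y → Q.1 (algebraMap (RatFunc k) K f) = Q.1 y ^ 2 ∧ 1 < Q.1 y ^ 2 := by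
    intro Q hQ
    have h1 : Q.1 y < Q.1 y * Q.1 y := lt_mul_of_one_lt_left (zero_lt_one.trans hQ) hQ
    refine ⟨?_, one_lt_pow₀ hQ two_ne_zero⟩
    rw [← heq, sq, Valuation.map_add_eq_of_lt_left _ (by rwa [map_mul]), map_mul, sq]
  refine ⟨fun ⟨hneg, hodd⟩ => ?_, fun hpos P hP => ?_⟩
  · have hf0 : f ≠ 0 := fun e => by rw [e, ord_zero] at hneg; omega
    have hall : ∀ P : FunFld.Place k K, FunFld.IsOver P P₀ → FunFld.IsOverWith P P₀ 2 := by
      rintro P ⟨e, he⟩
      have ho := (isOverWith_iff_ord.1 he).2 f hf0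
      have hgt : 1 < P.1 y := by
        by_contra hle
        have h2' : 1 < P.1 (algebraMap (RatFunc k) K f) := not_le.1 fun hh => by
          have := (v_le_one_iff P₀ f).1 ((isOverWith_le_one_iff he f).1 hh)
          omega
        rw [← heq] at h2'
        refine absurd h2' (not_lt.2 ((P.1.map_add _ _).trans (max_le ?_ (not_lt.1 hle))))
        rw [map_pow]; exact pow_le_one₀ zero_le (not_lt.1 hle)
      have h2y : P.ord (algebraMap (RatFunc k) K f) = 2 * P.ord y := by
        have := (key P hgt).1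
        rw [← map_pow] at this
        rw [FunFld.Place.ord, this, ← FunFld.Place.ord, ord_pow]; norm_num
      have hev : Even e := by
        rw [← Int.even_coe_nat]
        have : Even ((e : ℤ) * P₀.ord f) := ⟨P.ord y, by omega⟩
        exact (Int.even_mul.1 this).resolve_right (Int.not_even_iff_odd.2 hodd)
      rwa [idx_two_of_even hK hdeg he hev] at he
    obtain ⟨Q₀, hQ₀⟩ := exists_overs (K' := K) hK P₀
    have h0 : FunFld.IsOver Q₀ P₀ := ⟨_, hQ₀⟩
    exact ⟨⟨Q₀, h0, fun R hR => (ramified_unique hK hdeg (hall Q₀ h0)).2 R hR⟩,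
      fun Q hQ => ⟨hall Q hQ, (ramified_unique hK hdeg (hall Q hQ)).1⟩⟩
  · obtain ⟨e, he⟩ := hP
    have hf1 : P.1 (algebraMap (RatFunc k) K f) ≤ 1 := (isOverWith_le_one_iff he f).2 ((v_le_one_iff P₀ f).2 hpos)
    have hy1 : P.1 y ≤ 1 := not_lt.1 fun h => by
      obtain ⟨a, b⟩ := key P h
      rw [← a] at b
      exact absurd hf1 (not_le.2 b)
    have := idx_one_of_unit (a := (1 : RatFunc k)) (g := f) hK hdeg hy (by rw [map_one, one_mul, heq]) he hy1
      (by rw [hK2, zero_mul, zero_add, map_one, map_one])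
    rwa [this] at he

end Groth.Agent.S12519
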