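import Groth.Statements.S12520
import Groth.Agent.GeomFFLib.Power
-- import your own Groth.Agent.* helpers here

set_option autoImplicit false
universe u v
open FunFld

namespace Groth.Agent.S12520

/-- For a geometric function field of one variable `K/k` of characteristic `p > 0` and a geometric
function field `K₀/k₀` with `K₀ ⊆ K` of finite index (and `k₀ ⊆ k` compatibly), the map `Ω_{K₀/k₀} →
Ω_{K/k}` induced by the inclusion vanishes when `K₀ ⊆ kK^p` and is injective otherwise. -/
theorem result (k₀ k : Type u) (K₀ K : Type v) [Field k₀] [Field k] [Field K₀] [Field K]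
    [Algebra k₀ k] [Algebra k₀ K₀] [Algebra k₀ K] [Algebra k K] [Algebra K₀ K]
    [IsScalarTower k₀ k K] [IsScalarTower k₀ K₀ K] [FiniteDimensional K₀ K]
    (p : ℕ) [Fact p.Prime] [CharP K p]
    (hK : FunFld.IsFunctionField k K) (hg : FunFld.IsGeometric k K)
    (hK₀ : FunFld.IsFunctionField k₀ K₀) (hg₀ : FunFld.IsGeometric k₀ K₀) :
    (Set.range (algebraMap K₀ K) ⊆ ↑(IntermediateField.adjoin k (Set.range fun y : K => y ^ p)) →
      KaehlerDifferential.map k₀ k K₀ K = 0) ∧
    (¬ Set.range (algebraMap K₀ K) ⊆ ↑(IntermediateField.adjoin k (Set.range fun y : K => y ^ p)) →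
      Function.Injective (KaehlerDifferential.map k₀ k K₀ K)) := by
  open Groth.Agent in
  obtain ⟨x₀, hx₀⟩ := GeomFFLib.exists_separating hK₀ hg₀
  obtain ⟨hD₀, -⟩ := GeomFFLib.D_ne_zero_of_sep hK₀ hx₀
  have hone := GeomFFLib.finrank_kaehler hK₀ hg₀
  refine ⟨fun hle => LinearMap.ext fun w => ?_, fun hnot => ?_⟩
  · obtain ⟨c, rfl⟩ := (finrank_eq_one_iff_of_nonzero' _ hD₀).1 hone w
    rw [map_smul, KaehlerDifferential.map_D, GeomFFLib.D_eq_zero_of_mem p (hle ⟨x₀, rfl⟩), smul_zero,
      LinearMap.zero_apply]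
  · obtain ⟨_, ⟨a, rfl⟩, ha⟩ := Set.not_subset.1 hnot
    have hDa' : KaehlerDifferential.D k K (algebraMap K₀ K a) ≠ 0 := fun h =>
      ha ((GeomFFLib.mem_M_iff p hK hg).2 h)
    have hDa : KaehlerDifferential.D k₀ K₀ a ≠ 0 := fun h => hDa' (by
      rw [← KaehlerDifferential.map_D k₀ k K₀ K, h, map_zero])
    rw [injective_iff_map_eq_zero]
    intro w hw
    obtain ⟨c, rfl⟩ := (finrank_eq_one_iff_of_nonzero' _ hDa).1 hone w
    rw [map_smul, KaehlerDifferential.map_D, ← algebraMap_smul K c] at hw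
    rcases smul_eq_zero.1 hw with h | h
    · rw [(map_eq_zero _).1 h, zero_smul]
    · exact absurd h hDa'

end Groth.Agent.S12520
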