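import Groth.Statements.S12524
import Mathlib.RingTheory.AdicCompletion.RingHom
import Mathlib.RingTheory.PowerSeries.Trunc
import Mathlib.RingTheory.DiscreteValuationRing.Basic
import Mathlib.RingTheory.PowerSeries.Basic
import Mathlib.RingTheory.LocalRing.ResidueField.Basic
import Mathlib.Algebra.Polynomial.Div
-- import your own Groth.Agent.* helpers here

set_option autoImplicit false
set_option linter.style.haveILetI false
universe u v
open CAlg

namespace Groth.Agent.S12524

open IsLocalRing in
/-- Let `A` be a complete discrete valuation ring with maximal ideal `m`, containing a field `K` such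
that `K → A → A/m` is bijective (a coefficient field), and let `x` be any generator of `m`. Then the
`K`-algebra map `K[X] → A`, `X ↦ x`, extends to a bijective `K`-algebra map `φ : K⟦X⟧ → A`,
characterised by `φ(∑ aᵢ Xⁱ) ≡ ∑_{i<n} aᵢ xⁱ (mod mⁿ)` for every `n`. -/
theorem result (K : Type u) (A : Type v) [Field K]
    [CommRing A] [IsDomain A] [IsDiscreteValuationRing A] [Algebra K A]
    [IsAdicComplete (maximalIdeal A) A]
    (hK : Function.Bijective ((residue A).comp (algebraMap K A)))
    (x : A) (hx : maximalIdeal A = Ideal.span {x}) :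
    ∃ φ : PowerSeries K →ₐ[K] A, φ PowerSeries.X = x ∧ Function.Bijective φ ∧
      ∀ (f : PowerSeries K) (n : ℕ),
        φ f - (Finset.range n).sum (fun i => algebraMap K A (PowerSeries.coeff i f) * x ^ i) ∈
          maximalIdeal A ^ n := by
  have hxm : ∀ n, x ^ n ∈ maximalIdeal A ^ n := fun n =>
    Ideal.pow_mem_pow (by rw [hx]; exact Ideal.mem_span_singleton_self x) n
  have hpow : ∀ n, maximalIdeal A ^ n = Ideal.span {x ^ n} := fun n => by
    rw [hx, Ideal.span_singleton_pow]
  -- aeval at x of the truncations
  have hev : ∀ (f : PowerSeries K) (n : ℕ), Polynomial.aeval x (PowerSeries.trunc n f) =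
      (Finset.range n).sum (fun i => algebraMap K A (PowerSeries.coeff i f) * x ^ i) := fun f n =>
    PowerSeries.eval₂_trunc_eq_sum_range x (algebraMap K A) n f
  have hdvd : ∀ (n : ℕ) (p q : Polynomial K), (∀ d < n, p.coeff d = q.coeff d) →
      Polynomial.aeval x p - Polynomial.aeval x q ∈ maximalIdeal A ^ n := by
    intro n p q h
    obtain ⟨r, hr⟩ : Polynomial.X ^ n ∣ p - q := Polynomial.X_pow_dvd_iff.mpr fun d hd => by
      rw [Polynomial.coeff_sub, h d hd, sub_self]
    rw [← map_sub, hr, map_mul, map_pow, Polynomial.aeval_X]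
    exact Ideal.mul_mem_right _ _ (hxm n)
  let fn : (n : ℕ) → PowerSeries K →ₐ[K] A ⧸ maximalIdeal A ^ n := fun n =>
    AlgHom.ofLinearMap ((Ideal.Quotient.mkₐ K (maximalIdeal A ^ n)).toLinearMap ∘ₗ
        (Polynomial.aeval x).toLinearMap ∘ₗ PowerSeries.trunc n)
      (by
        show Ideal.Quotient.mk (maximalIdeal A ^ n) (Polynomial.aeval x (PowerSeries.trunc n 1)) = 1
        rw [← map_one (Ideal.Quotient.mk (maximalIdeal A ^ n)),
          ← map_one (Polynomial.aeval (R := K) x), Ideal.Quotient.mk_eq_mk_iff_sub_mem]
        refine hdvd n _ _ fun d hd => ?_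
        rw [PowerSeries.coeff_trunc, if_pos hd, PowerSeries.coeff_one, Polynomial.coeff_one])
      (fun f g => by
        show Ideal.Quotient.mk (maximalIdeal A ^ n) (Polynomial.aeval x (PowerSeries.trunc n (f * g)))
          = Ideal.Quotient.mk (maximalIdeal A ^ n) (Polynomial.aeval x (PowerSeries.trunc n f)) *
            Ideal.Quotient.mk (maximalIdeal A ^ n) (Polynomial.aeval x (PowerSeries.trunc n g))
        rw [← map_mul, ← map_mul, Ideal.Quotient.mk_eq_mk_iff_sub_mem]
        refine hdvd n _ _ fun d hd => ?_
        rw [PowerSeries.coeff_trunc, if_pos hd,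
          PowerSeries.coeff_mul_eq_coeff_trunc_mul_trunc f g hd,
          ← Polynomial.coeff_coe, Polynomial.coe_mul])
  have hf : ∀ {m n : ℕ} (hle : m ≤ n),
      (Ideal.Quotient.factorₐ K (Ideal.pow_le_pow_right hle)).comp (fn n) = fn m := by
    intro m n hle
    refine AlgHom.ext fun f => ?_
    show Ideal.Quotient.mk (maximalIdeal A ^ m) (Polynomial.aeval x (PowerSeries.trunc n f)) =
      Ideal.Quotient.mk (maximalIdeal A ^ m) (Polynomial.aeval x (PowerSeries.trunc m f))
    rw [Ideal.Quotient.mk_eq_mk_iff_sub_mem]
    refine hdvd m _ _ fun d hd => ?_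
    rw [PowerSeries.coeff_trunc, PowerSeries.coeff_trunc, if_pos hd, if_pos (by omega)]
  let φ : PowerSeries K →ₐ[K] A := IsAdicComplete.liftAlgHom (maximalIdeal A) fn hf
  have hφ : ∀ (f : PowerSeries K) (n : ℕ),
      φ f - (Finset.range n).sum (fun i => algebraMap K A (PowerSeries.coeff i f) * x ^ i) ∈
        maximalIdeal A ^ n := by
    intro f n
    rw [← Ideal.Quotient.mk_eq_mk_iff_sub_mem, ← hev]
    exact IsAdicComplete.mk_liftAlgHom (maximalIdeal A) fn hf n f
  have hsep : ∀ a b : A, (∀ n, a - b ∈ maximalIdeal A ^ n) → a = b := by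
    intro a b h
    refine sub_eq_zero.mp (IsHausdorff.haus (I := maximalIdeal A) inferInstance _ fun n => ?_)
    rw [SModEq.sub_mem, sub_zero, smul_eq_mul, Ideal.mul_top]
    exact h n
  have hx0 : x ≠ 0 := by
    rintro rfl
    exact IsDiscreteValuationRing.not_a_field A (by rw [hx]; simp)
  refine ⟨φ, ?_, ⟨?_, ?_⟩, hφ⟩
  · refine hsep _ _ fun n => ?_
    rcases Nat.lt_or_ge n 2 with h | h
    · have h2 := hφ PowerSeries.X 2
      have : φ PowerSeries.X - x ∈ maximalIdeal A ^ 2 := by
        convert h2 using 2
        simp [Finset.sum_range_succ, PowerSeries.coeff_X]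
      exact Ideal.pow_le_pow_right (by omega) this
    · convert hφ PowerSeries.X n using 2
      rw [← hev, PowerSeries.trunc_X_of h, Polynomial.aeval_X]
  · rw [injective_iff_map_eq_zero]
    intro f hf0
    ext n
    rw [map_zero]
    induction n using Nat.strong_induction_on with
    | _ n ih =>
      have h := hφ f (n + 1)
      rw [hf0, zero_sub, Finset.sum_range_succ, Finset.sum_eq_zero (fun i hi => by
        rw [ih i (Finset.mem_range.mp hi), map_zero, zero_mul]), zero_add, neg_mem_iff, hpow,
        Ideal.mem_span_singleton, pow_succ, mul_comm _ (x ^ n)] at h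
      have h' := (mul_dvd_mul_iff_left (pow_ne_zero n hx0)).mp h
      apply hK.1
      rw [map_zero]
      show residue A (algebraMap K A (PowerSeries.coeff n f)) = 0
      rw [IsLocalRing.residue_eq_zero_iff, hx, Ideal.mem_span_singleton]
      exact h'
  · intro a
    have hstep : ∀ r : A, ∃ c : K, ∃ r' : A, r = algebraMap K A c + x * r' := by
      intro r
      obtain ⟨c, hc⟩ := hK.2 (residue A r)
      have : r - algebraMap K A c ∈ maximalIdeal A := by
        rw [← IsLocalRing.residue_eq_zero_iff, map_sub, ← hc]
        exact sub_self _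
      rw [hx, Ideal.mem_span_singleton] at this
      obtain ⟨r', hr'⟩ := this
      exact ⟨c, r', by rw [← hr']; ring⟩
    choose c r' hr' using hstep
    let r : ℕ → A := fun n => (fun y => r' y)^[n] a
    refine ⟨PowerSeries.mk fun n => c (r n), hsep _ _ fun n => ?_⟩
    have key : ∀ n, a = (Finset.range n).sum (fun i => algebraMap K A (c (r i)) * x ^ i)
        + x ^ n * r n := by
      intro n
      induction n with
      | zero => simp [r]
      | succ n ih =>
        rw [Finset.sum_range_succ]
        refine ih.trans ?_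
        have : r (n + 1) = r' (r n) := Function.iterate_succ_apply' _ _ _
        rw [this]
        conv_lhs => rw [hr' (r n)]
        ring
    have h1 := hφ (PowerSeries.mk fun n => c (r n)) n
    simp only [PowerSeries.coeff_mk] at h1
    have : φ (PowerSeries.mk fun n => c (r n)) - a = (φ (PowerSeries.mk fun n => c (r n)) -
        (Finset.range n).sum (fun i => algebraMap K A (c (r i)) * x ^ i)) - x ^ n * r n := by
      conv_lhs => rw [key n]
      ring
    rw [this]
    exact Ideal.sub_mem _ h1 (Ideal.mul_mem_right _ _ (hxm n))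

end Groth.Agent.S12524
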