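import Groth.Statements.S12527
import Groth.Agent.GeomFFLib.Singular
-- import your own Groth.Agent.* helpers here

set_option autoImplicit false
universe u v
open scoped TensorProduct
open FunFld

namespace Groth.Agent.S12527

/-- A geometric function field of one variable `K/k` has at most finitely many singular places, i.e.
places `P` for which, for some finite extension `k'/k`, the integral closure of `O_P` in `k' ⊗_k K`
is strictly larger than `k' ⊗_k O_P`. The existence of a purely inseparable finite `k'` making `k'
⊗_k K` nonsingular is not stated. -/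
theorem result (k : Type u) (K : Type v) [Field k] [Field K] [Algebra k K]
    (hK : FunFld.IsFunctionField k K) (hg : FunFld.IsGeometric k K) :
    {P : FunFld.Place k K | ∃ (k' : Type u) (_ : Field k') (_ : Algebra k k'), FiniteDimensional k k' ∧
      integralClosure (P.O.toSubring.map (Algebra.TensorProduct.includeRight : K →ₐ[k] k' ⊗[k] K).toRingHom) (k' ⊗[k] K) ≠
        Algebra.adjoin (P.O.toSubring.map (Algebra.TensorProduct.includeRight : K →ₐ[k] k' ⊗[k] K).toRingHom)
          (Set.range (Algebra.TensorProduct.includeLeftRingHom : k' →+* k' ⊗[k] K))}.Finite := by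
  classical
  open Groth.Agent.GeomFFLib TensorProduct in
  obtain ⟨x, hx, n, b, hb, hfin⟩ := exists_good_data hK hg
  refine hfin.subset ?_
  rintro P ⟨k', _, _, hfd, hne⟩ hgood
  apply hne
  letI : Field (k' ⊗[k] K) := (hg k' hfd).toField
  letI : Algebra K (k' ⊗[k] K) := Algebra.TensorProduct.rightAlgebra
  haveI : IsScalarTower k K (k' ⊗[k] K) := IsScalarTower.of_algebraMap_eq fun c => by
    show _ = (1 : k') ⊗ₜ[k] algebraMap k K c
    rw [Algebra.TensorProduct.algebraMap_apply, Algebra.algebraMap_eq_smul_one, Algebra.algebraMap_eq_smul_one,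
      TensorProduct.smul_tmul]
  have hbij : Function.Bijective (Algebra.TensorProduct.productMap
      (IsScalarTower.toAlgHom k k' (k' ⊗[k] K)) (IsScalarTower.toAlgHom k K (k' ⊗[k] K))) := by
    have e : Algebra.TensorProduct.productMap (IsScalarTower.toAlgHom k k' (k' ⊗[k] K))
        (IsScalarTower.toAlgHom k K (k' ⊗[k] K)) = AlgHom.id k (k' ⊗[k] K) := by
      refine AlgHom.ext fun w => ?_
      induction w using TensorProduct.induction_on with
      | zero => rw [map_zero, map_zero]
      | tmul a c =>
        show (a ⊗ₜ[k] (1 : K)) * ((1 : k') ⊗ₜ[k] c) = a ⊗ₜ[k] c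
        rw [Algebra.TensorProduct.tmul_mul_tmul, mul_one, one_mul]
      | add a b ha hb => rw [map_add, map_add, ha, hb]
    rw [e]; exact Function.bijective_id
  exact nonsingular_of_good hbij hx b hK hb P hgood

end Groth.Agent.S12527
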