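import Groth.Statements.S12534
import Groth.Agent.GeomFFLib.Tower
-- import your own Groth.Agent.* helpers here

set_option autoImplicit false
universe u v
open FunFld

namespace Groth.Agent.S12534

/-- Let `K/k` be a geometric function field of one variable, `P` a place of `K`, and `k ⊆ k' ⊆ k''`
finite extensions, `K' = k' ⊗_k K`, `K'' = k'' ⊗_{k'} K'`. Then `P` is nonsingular with respect to
`k''` if and only if `P` is nonsingular with respect to `k'` and every place `Q` of `K'` above `P`
is nonsingular with respect to `k''`. Here 'nonsingular with respect to `k'`' means that the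
integral closure of the valuation ring in `K'` is the ring generated over it by `k'`, both taken
inside `K'` over the image of the valuation ring. -/
theorem result (k k' k'' : Type u) (K K' K'' : Type v) [Field k] [Field k'] [Field k''] [Field K] [Field K'] [Field K'']
    [Algebra k k'] [Algebra k' k''] [Algebra k k''] [IsScalarTower k k' k'']
    [FiniteDimensional k k'] [FiniteDimensional k' k'']
    [Algebra k K] [Algebra K K'] [Algebra k' K'] [Algebra k K'] [IsScalarTower k k' K'] [IsScalarTower k K K']
    [Algebra K' K''] [Algebra k'' K''] [Algebra k' K''] [Algebra k K''] [Algebra K K'']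
    [IsScalarTower k' k'' K''] [IsScalarTower k' K' K''] [IsScalarTower K K' K''] [IsScalarTower k K K'']
    (h1 : Function.Bijective (Algebra.TensorProduct.productMap
      (IsScalarTower.toAlgHom k k' K') (IsScalarTower.toAlgHom k K K')))
    (h2 : Function.Bijective (Algebra.TensorProduct.productMap
      (IsScalarTower.toAlgHom k' k'' K'') (IsScalarTower.toAlgHom k' K' K'')))
    (hK : FunFld.IsFunctionField k K) (hg : FunFld.IsGeometric k K) (P : FunFld.Place k K) :
    (integralClosure (P.O.toSubring.map (algebraMap K K'')) K'' =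
        Algebra.adjoin (P.O.toSubring.map (algebraMap K K'')) (Set.range (algebraMap k'' K''))) ↔
      (integralClosure (P.O.toSubring.map (algebraMap K K')) K' =
          Algebra.adjoin (P.O.toSubring.map (algebraMap K K')) (Set.range (algebraMap k' K')) ∧
        ∀ Q : FunFld.Place k K', FunFld.IsOver Q P →
          integralClosure (Q.O.toSubring.map (algebraMap K' K'')) K'' =
            Algebra.adjoin (Q.O.toSubring.map (algebraMap K' K'')) (Set.range (algebraMap k'' K''))) := by
  classical
  open Groth.Agent.GeomFFLib Groth.Agent.FFLib TensorProduct in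
  haveI : FiniteDimensional K K' := finite_of_surj h1.2
  haveI : Algebra.IsAlgebraic k k' := Algebra.IsAlgebraic.of_finite k k'
  haveI : IsScalarTower k K' K'' := IsScalarTower.of_algebraMap_eq fun c => by
    rw [IsScalarTower.algebraMap_apply k K K'' c, IsScalarTower.algebraMap_apply K K' K'', ← IsScalarTower.algebraMap_apply k K K']
  haveI : IsScalarTower k k'' K'' := IsScalarTower.of_algebraMap_eq fun c => by
    rw [IsScalarTower.algebraMap_apply k K' K'' c, IsScalarTower.algebraMap_apply k k' K' c, ← IsScalarTower.algebraMap_apply k' K' K'',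
      IsScalarTower.algebraMap_apply k' k'' K'', ← IsScalarTower.algebraMap_apply k k' k'']
  haveI : FiniteDimensional k k'' := Module.Finite.trans k' k''
  letI : Algebra P.O K' := ((algebraMap K K').comp P.O.subtype).toAlgebra
  haveI : IsScalarTower P.O K K' := IsScalarTower.of_algebraMap_eq fun _ => rfl
  let c := Module.finBasis k' k''
  obtain ⟨B, hB⟩ := exists_constBasis c h2
  have hsum : ∀ y, y = ∑ l, algebraMap K' K'' (B.repr y l) * algebraMap k'' K'' (c l) := fun y => by
    conv_lhs => rw [← B.sum_repr y]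
    exact Finset.sum_congr rfl fun l _ => by rw [Algebra.smul_def, hB]
  set A' := P.O.toSubring.map (algebraMap K K') with hA'
  set A'' := P.O.toSubring.map (algebraMap K K'') with hA''
  have hAA : ∀ a ∈ A'', ∃ a' ∈ A', algebraMap K' K'' a' = a := by
    rintro _ ⟨a, ha, rfl⟩
    exact ⟨_, ⟨a, ha, rfl⟩, (IsScalarTower.algebraMap_apply K K' K'' a).symm⟩
  let g : A' →+* A'' := ((algebraMap K' K'').comp A'.subtype).codRestrict A'' (by
    rintro ⟨_, a, ha, rfl⟩
    exact ⟨a, ha, IsScalarTower.algebraMap_apply K K' K'' a⟩)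
  have hA1 : ∀ z : K', IsIntegral A' z ↔ IsIntegral P.O z := fun z => by
    constructor
    · rintro ⟨p, hp, hp0⟩
      have hl : p ∈ Polynomial.lifts ((algebraMap P.O K').codRestrict A' fun c => ⟨c, c.2, rfl⟩) := by
        rw [Polynomial.lifts_iff_coeff_lifts]
        intro i
        obtain ⟨a, ha, hai⟩ := (p.coeff i).2
        exact ⟨⟨a, ha⟩, Subtype.ext hai⟩
      obtain ⟨q, hq, -, hqm⟩ := Polynomial.lifts_and_degree_eq_and_monic hl hp
      refine ⟨q, hqm, ?_⟩
      rw [← hq, Polynomial.eval₂_map] at hp0
      exact hp0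
    · rintro ⟨p, hp, hp0⟩
      refine ⟨p.map ((algebraMap P.O K').codRestrict A' fun c => ⟨c, c.2, rfl⟩), hp.map _, ?_⟩
      rw [Polynomial.eval₂_map]
      exact hp0
  have hup : ∀ z : K', IsIntegral A' z → IsIntegral A'' (algebraMap K' K'' z) := by
    rintro z ⟨p, hp, hp0⟩
    refine ⟨p.map g, hp.map g, ?_⟩
    rw [Polynomial.eval₂_map, show (algebraMap A'' K'').comp g = (algebraMap K' K'').comp (algebraMap A' K') from
      RingHom.ext fun _ => rfl, ← Polynomial.hom_eval₂, hp0, map_zero]
  have hk' : ∀ a : k', IsIntegral A' (algebraMap k' K' a) := fun a => by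
    obtain ⟨q, hq, hq0⟩ := (IsIntegral.of_finite k a).map (IsScalarTower.toAlgHom k k' K')
    let f : k →+* A' := (algebraMap k K').codRestrict A' fun c =>
      ⟨algebraMap k K c, P.2.1 c, (IsScalarTower.algebraMap_apply k K K' c).symm⟩
    refine ⟨q.map f, hq.map _, ?_⟩
    rw [Polynomial.eval₂_map, show (algebraMap A' K').comp f = algebraMap k K' from RingHom.ext fun _ => rfl]
    exact hq0
  set R' := Algebra.adjoin A' (Set.range (algebraMap k' K'))
  set R'' := Algebra.adjoin A'' (Set.range (algebraMap k'' K''))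
  have hR'int : ∀ z ∈ R', IsIntegral A' z := fun z hz =>
    (Algebra.adjoin_le (S := integralClosure A' K') (by rintro _ ⟨a, rfl⟩; exact hk' a) hz :)
  have hR''int : ∀ z ∈ R'', IsIntegral A'' z := fun z hz =>
    (Algebra.adjoin_le (S := integralClosure A'' K'') (by
      rintro _ ⟨a, rfl⟩
      obtain ⟨q, hq, hq0⟩ := (IsIntegral.of_finite k a).map (IsScalarTower.toAlgHom k k'' K'')
      let f : k →+* A'' := (algebraMap k K'').codRestrict A'' fun c =>
        ⟨algebraMap k K c, P.2.1 c, (IsScalarTower.algebraMap_apply k K K'' c).symm⟩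
      refine ⟨q.map f, hq.map _, ?_⟩
      rw [Polynomial.eval₂_map, show (algebraMap A'' K'').comp f = algebraMap k K'' from RingHom.ext fun _ => rfl]
      exact hq0) hz :)
  have hdown : ∀ y ∈ R'', ∀ l, B.repr y l ∈ R' := fun y hy l =>
    repr_mem_of_adjoin hB A' A'' hAA R'.toSubring (fun a ha => R'.algebraMap_mem ⟨a, ha⟩)
      (fun a => Algebra.subset_adjoin ⟨a, rfl⟩) hy l
  have hR'R'' : ∀ z ∈ R', algebraMap K' K'' z ∈ R'' := fun z hz => by
    induction hz using Algebra.adjoin_induction with
    | mem a ha =>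
      obtain ⟨a, rfl⟩ := ha
      rw [← IsScalarTower.algebraMap_apply k' K' K'', IsScalarTower.algebraMap_apply k' k'' K'']
      exact Algebra.subset_adjoin ⟨_, rfl⟩
    | algebraMap a => exact R''.algebraMap_mem (g a)
    | add a b _ _ ha hb => rw [map_add]; exact add_mem ha hb
    | mul a b _ _ ha hb => rw [map_mul]; exact mul_mem ha hb
  have hk'Q : ∀ (Q : FunFld.Place k K') (a : k'), algebraMap k' K' a ∈ Q.O := fun Q a => by
    obtain ⟨p, hp, hp0⟩ := (IsIntegral.of_finite k a).map (IsScalarTower.toAlgHom k k' K')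
    have hint : IsIntegral Q.O (algebraMap k' K' a) := ⟨p.map (algebraMap k Q.O), hp.map _, by
      rw [Polynomial.eval₂_map]; exact hp0⟩
    obtain ⟨⟨y, hy⟩, he⟩ := IsIntegrallyClosed.isIntegral_iff.1 hint
    exact he ▸ hy
  constructor
  · intro H
    refine ⟨?_, fun Q hQ => ?_⟩
    · refine le_antisymm (fun z hz => ?_) (fun z hz => hR'int z hz)
      have hzR : algebraMap K' K'' z ∈ R'' := H ▸ (hup z hz : algebraMap K' K'' z ∈ integralClosure A'' K'')
      obtain ⟨l, hl⟩ : ∃ l, c.repr 1 l ≠ 0 := by
        by_contra hh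
        push Not at hh
        exact (one_ne_zero : (1 : k'') ≠ 0) (c.repr.map_eq_zero_iff.1 (Finsupp.ext hh))
      have h3 := hdown _ hzR l
      rw [show algebraMap K' K'' z = z • (algebraMap k'' K'' 1) by rw [Algebra.smul_def, map_one, mul_one],
        map_smul, Finsupp.smul_apply, repr_const hB, smul_eq_mul] at h3
      have h4 := mul_mem h3 (Algebra.subset_adjoin ⟨(c.repr 1 l)⁻¹, rfl⟩ : algebraMap k' K' (c.repr 1 l)⁻¹ ∈ R')
      rwa [mul_assoc, ← map_mul, mul_inv_cancel₀ hl, map_one, mul_one] at h4
    · refine le_antisymm (fun y hy => ?_) (Algebra.adjoin_le ?_)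
      swap
      · rintro _ ⟨a, rfl⟩
        obtain ⟨q, hq, hq0⟩ := (IsIntegral.of_finite k a).map (IsScalarTower.toAlgHom k k'' K'')
        let f : k →+* Q.O.toSubring.map (algebraMap K' K'') := (algebraMap k K'').codRestrict _ fun c =>
          ⟨algebraMap k K' c, Q.2.1 c, (IsScalarTower.algebraMap_apply k K' K'' c).symm⟩
        refine ⟨q.map f, hq.map _, ?_⟩
        rw [Polynomial.eval₂_map, show (algebraMap (Q.O.toSubring.map (algebraMap K' K'')) K'').comp f = algebraMap k K'' from RingHom.ext fun _ => rfl]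
        exact hq0
      obtain ⟨p, hp, hp0⟩ := hy
      choose a haQ ha using fun i => (p.coeff i).2
      obtain ⟨N, hN⟩ : ∃ N : ℕ, ∀ R ∈ overs hK.1 P, ∀ i ∈ Finset.range (p.natDegree + 1), R.1 (a i) ≤ WithZero.exp (N : ℤ) := by
        refine ⟨((overs hK.1 P) ×ˢ Finset.range (p.natDegree + 1)).sup fun x => (WithZero.log (x.1.1 (a x.2))).toNat, fun R hR i hi => ?_⟩
        rcases eq_or_ne (R.1 (a i)) 0 with h0 | h0
        · rw [h0]; exact zero_le
        have h5 := Finset.le_sup (f := fun x : FunFld.Place k K' × ℕ => (WithZero.log (x.1.1 (a x.2))).toNat)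
          (Finset.mem_product.2 (⟨hR, hi⟩ : (R, i).1 ∈ overs hK.1 P ∧ (R, i).2 ∈ _))
        simp only at h5
        exact (WithZero.log_le_iff_le_exp h0).1 (by omega)
      obtain ⟨s, hs⟩ := weak_approx_eq (insert Q (overs hK.1 P)) (fun _ => 0) (fun R => if R = Q then 0 else (N : ℤ))
      have hsQ : Q.1 s = 1 := by simpa using hs Q (Finset.mem_insert_self _ _)
      have hsR : ∀ R ∈ overs hK.1 P, R ≠ Q → R.1 s = WithZero.exp (-(N : ℤ)) := fun R hR hne => by
        simpa [hne] using hs R (Finset.mem_insert_of_mem hR)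
      have hs1 : InR P s := fun R hR => by
        rcases eq_or_ne R Q with rfl | hne
        · exact hsQ.le
        · rw [hsR R ((mem_overs hK.1).2 hR) hne, ← WithZero.exp_zero, WithZero.exp_le_exp]; omega
      have hsa : ∀ i ∈ Finset.range (p.natDegree + 1), IsIntegral A' (s * a i) := fun i hi =>
        (hA1 _).2 (isIntegral_of_inR hK.1 P fun R hR => by
          rw [map_mul]
          rcases eq_or_ne R Q with rfl | hne
          · rw [hsQ, one_mul]; exact haQ i
          · rw [hsR R ((mem_overs hK.1).2 hR) hne]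
            refine (mul_le_mul' le_rfl (hN R ((mem_overs hK.1).2 hR) i hi)).trans ?_
            rw [← WithZero.exp_add, neg_add_cancel, WithZero.exp_zero])
      have hsA : IsIntegral A' s := (hA1 _).2 (isIntegral_of_inR hK.1 P hs1)
      have hsy : IsIntegral A'' (algebraMap K' K'' s * y) := by
        rcases Nat.eq_zero_or_pos p.natDegree with h0 | hpos
        · rw [hp.natDegree_eq_zero.1 h0] at hp0
          exact absurd (show (1 : K'') = 0 by simpa using hp0) one_ne_zero
        set C' := integralClosure A'' K''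
        have hcoef : ∀ i < p.natDegree, algebraMap K' K'' (s ^ (p.natDegree - i) * a i) ∈ C' := by
          intro i hi
          obtain ⟨j, hj⟩ : ∃ j, p.natDegree - i = j + 1 := ⟨p.natDegree - i - 1, by omega⟩
          rw [hj, pow_succ, mul_assoc]
          exact hup _ ((hsA.pow j).mul (hsa i (Finset.mem_range.2 (by omega))))
        refine isIntegral_trans (A := C') _ ?_
        refine ⟨Polynomial.X ^ p.natDegree + ∑ i : Fin p.natDegree, Polynomial.C (⟨_, hcoef i i.2⟩ : C') * Polynomial.X ^ (i : ℕ),
          Polynomial.monic_X_pow_add ((Polynomial.degree_sum_le _ _).trans_lt ((Finset.sup_lt_iff (WithBot.bot_lt_coe _)).2 fun i _ =>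
            (Polynomial.degree_C_mul_X_pow_le _ _).trans_lt (by exact_mod_cast i.2))), ?_⟩
        rw [Polynomial.eval₂_add, Polynomial.eval₂_pow, Polynomial.eval₂_X, Polynomial.eval₂_finsetSum]
        rw [Polynomial.eval₂_eq_sum_range, Finset.sum_range_succ, hp.coeff_natDegree, map_one, one_mul, Finset.sum_range] at hp0
        have := congrArg (fun z => algebraMap K' K'' s ^ p.natDegree * z) hp0
        simp only [mul_zero] at this
        refine Eq.trans ?_ this
        rw [mul_add, mul_pow, add_comm, Finset.mul_sum]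
        congr 1
        refine Finset.sum_congr rfl fun i _ => ?_
        rw [Polynomial.eval₂_mul, Polynomial.eval₂_C, Polynomial.eval₂_pow, Polynomial.eval₂_X, mul_pow]
        show algebraMap K' K'' (s ^ (p.natDegree - i) * a i) * _ = _ * (((p.coeff i : _) : K'') * _)
        rw [map_mul, map_pow, ha]
        have e : algebraMap K' K'' s ^ p.natDegree = algebraMap K' K'' s ^ (p.natDegree - (i : ℕ)) * algebraMap K' K'' s ^ (i : ℕ) := by
          rw [← pow_add, Nat.sub_add_cancel i.2.le]
        rw [e]
        ring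
      have hR : algebraMap K' K'' s * y ∈ R'' := H ▸ (hsy : algebraMap K' K'' s * y ∈ integralClosure A'' K'')
      rw [hsum y]
      refine sum_mem fun l _ => mul_mem (Subalgebra.algebraMap_mem _
        (⟨_, B.repr y l, ?_, rfl⟩ : Q.O.toSubring.map (algebraMap K' K''))) (Algebra.subset_adjoin ⟨_, rfl⟩)
      have h3 := hdown _ hR l
      rw [← Algebra.smul_def, map_smul, Finsupp.smul_apply, smul_eq_mul] at h3
      have h4 := inR_of_isIntegral P ((hA1 _).1 (hR'int _ h3)) Q hQ
      rw [map_mul, hsQ, one_mul] at h4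
      exact h4
  · rintro ⟨H1, H2⟩
    refine le_antisymm (fun y hy => ?_) (fun z hz => hR''int z hz)
    rw [hsum y]
    refine sum_mem fun l _ => mul_mem (hR'R'' _ ?_) (Algebra.subset_adjoin ⟨_, rfl⟩)
    refine (H1 ▸ ?_ : B.repr y l ∈ R')
    refine (hA1 _).2 (isIntegral_of_inR hK.1 P fun Q hQ => ?_)
    have hQA : A'' ≤ Q.O.toSubring.map (algebraMap K' K'') := by
      rintro _ ⟨a, ha, rfl⟩
      obtain ⟨e, he⟩ := hQ
      exact ⟨algebraMap K K' a, (isOverWith_le_one_iff he a).2 ha, (IsScalarTower.algebraMap_apply K K' K'' a).symm⟩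
    have hyQ : y ∈ integralClosure (Q.O.toSubring.map (algebraMap K' K'')) K'' := by
      obtain ⟨p, hp, hp0⟩ := hy
      refine ⟨p.map (Subring.inclusion hQA), hp.map _, ?_⟩
      rw [Polynomial.eval₂_map]
      exact hp0
    rw [H2 Q hQ] at hyQ
    exact repr_mem_of_adjoin hB Q.O.toSubring _ (fun a ha => by obtain ⟨a', ha', e⟩ := ha; exact ⟨a', ha', e⟩)
      Q.O.toSubring le_rfl (fun a => hk'Q Q a) hyQ l

end Groth.Agent.S12534
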