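import Groth.Statements.S12535
import Groth.Agent.FFLib.Hyper


-- import your own Groth.Agent.* helpers here

set_option autoImplicit false
open FunFld

namespace Groth.Agent.S12535

/-- Let `char k ≠ 2`, `K` of degree `2` over `k(x)`, and `y ∈ K` with `y² = f(x)`, `f` a squarefree
polynomial of degree `≥ 1`. Then a place `P` of `K` is a zero of `y` exactly when it lies over a
finite place of `k(x)` where `f` has a zero, and in that case `ord_P(y) = 1`: the divisor of zeros
of `y` is `Σ P_i`, one place over each irreducible factor of `f`, with multiplicity one. -/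
theorem result (k K : Type*) [Field k] [Field K] (h2 : ringChar k ≠ 2) [Algebra k K]
    [Algebra (RatFunc k) K] [IsScalarTower k (RatFunc k) K]
    (hdeg : Module.finrank (RatFunc k) K = 2) (y : K) (f : Polynomial k) (hf : Squarefree f)
    (hd : 1 ≤ f.natDegree)
    (heq : y ^ 2 = algebraMap (RatFunc k) K (algebraMap (Polynomial k) (RatFunc k) f)) (P : FunFld.Place k K) :
    (0 < P.ord y → P.ord y = 1) ∧
    (0 < P.ord y ↔ ∃ P₀ : FunFld.Place k (RatFunc k), FunFld.IsOver P P₀ ∧ 0 ≤ P₀.ord (RatFunc.X : RatFunc k) ∧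
      0 < P₀.ord (algebraMap (Polynomial k) (RatFunc k) f)) := by
  open Groth.Agent.FFLib in
  have : FiniteDimensional (RatFunc k) K := Module.finite_of_finrank_eq_succ hdeg
  have hK := fg1_ratFunc (k := k)
  have hQ := isOverWith_under hK P
  have h := two_mul_ord (iota_ne hf.ne_zero) heq hQ
  have he := underIdx_pos hK P
  have hpos : 0 < P.ord y → 0 ≤ (underPlace hK P).ord (RatFunc.X : RatFunc k) ∧
      0 < (underPlace hK P).ord (algebraMap (Polynomial k) (RatFunc k) f) := by
    intro hy
    have hp : 0 < (underPlace hK P).ord (algebraMap (Polynomial k) (RatFunc k) f) :=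
      pos_of_mul_pos_right (by omega : (0:ℤ) < (underIdx hK P : ℤ) * _) (Int.natCast_nonneg _)
    refine ⟨?_, hp⟩
    by_contra hX
    rw [ord_poly_inf' _ (not_le.1 hX) hf.ne_zero] at hp
    omega
  refine ⟨fun hy => ?_, fun hy => ⟨_, ⟨_, hQ⟩, hpos hy⟩, ?_⟩
  · obtain ⟨hX, hp⟩ := hpos hy
    have h1 := ord_squarefree_le_one hX hf hp
    rw [h1, mul_one] at h
    have hev : Even (underIdx hK P) := by
      rw [← Int.even_coe_nat]; exact ⟨P.ord y, by omega⟩
    rw [idx_two_of_even hK hdeg hQ hev] at h
    omega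
  · rintro ⟨P₀, ⟨e, he₀⟩, -, hp⟩
    have h' := two_mul_ord (iota_ne hf.ne_zero) heq he₀
    have h3 : 0 < (e : ℤ) * P₀.ord (algebraMap (Polynomial k) (RatFunc k) f) :=
      mul_pos (by exact_mod_cast isOverWith_pos he₀) hp
    omega

end Groth.Agent.S12535
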