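import Groth.Statements.S12536
import Groth.Agent.S3637
import Groth.Agent.CurveDualModLib.CM
import Groth.Agent.AssPointLib.S1
import Groth.Agent.CMFlatLib.Open
import Groth.Agent.MiscFlat6.ClosedPts
import Groth.Agent.DimIneqLib.Dim
import Groth.Agent.EquidimLib.OpenComponent
import Groth.Agent.DevissLib.Stalk
import Groth.Agent.QCohLib.QCoh

set_option autoImplicit false
set_option backward.isDefEq.respectTransparency false
set_option backward.isDefEq.respectTransparency.types false
set_option maxHeartbeats 1000000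
set_option linter.style.haveILetI false
set_option backward.isDefEq.respectTransparency false
set_option backward.isDefEq.respectTransparency.types false
universe u
open CategoryTheory CategoryTheory.Limits AlgebraicGeometry Opposite
attribute [local instance] HasDerivedCategory.standard
open Dual3

namespace Groth.Agent.S12536

/-- Let `X` be proper and reduced over a field `k`, of pure dimension `1`, with dualizing module `ω =
H^{-1}(a(O))` (`a` right adjoint to `Rf_*` on `D_QCoh`, `O` the structure sheaf of `Spec k` in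
degree `0`), and let `U ⊆ X` be an open subscheme containing every non-closed point. Then `ω →
j_*(ω|_U)` is injective: for every open `V`, restriction of sections `ω(V) → ω(V ∩ U)` is injective.
(The published statement takes `U` to be the dense open smooth locus of a generically smooth `X`;
this row allows any open `U` containing the generic points, which is what the printed proof uses:
the kernel is supported at finitely many closed points.) -/
theorem result (k : Type u) [Field k] (X : Scheme.{u}) (f : X ⟶ Spec (CommRingCat.of k))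
    [IsProper f] [IsReduced X]
    (hdim : ∀ Z ∈ irreducibleComponents X, topologicalKrullDim ↥Z = (1 : WithBot ℕ∞))
    [DCoh.HasRpush f] (hf : DCoh.RpushPreservesQCoh f)
    (a : DCoh.DQCoh (Spec (CommRingCat.of k)) ⥤ DCoh.DQCoh X) (adj : DCoh.RpushQ f hf ⊣ a)
    (O : DCoh.DQCoh (Spec (CommRingCat.of k)))
    (hO : Nonempty (O.obj ≅ DCoh.inD (Spec (CommRingCat.of k)) (Coh.structureModule (Spec (CommRingCat.of k)))))
    (U : X.Opens) (hU : ∀ x : X, ¬ IsClosed ({x} : Set X) → x ∈ U) (V : X.Opens) :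
    Function.Injective ((DCoh.HD (a.obj O).obj (-(1 : ℤ))).presheaf.map (homOfLE (inf_le_left : V ⊓ U ≤ V)).op) := by
  classical
  obtain ⟨eO⟩ := hO
  haveI : IsLocallyNoetherian X := LocallyOfFiniteType.isLocallyNoetherian f
  haveI : CompactSpace X := QuasiCompact.compactSpace_of_compactSpace f
  haveI : AlgebraicGeometry.IsNoetherian X := ⟨⟩
  haveI : TopologicalSpace.NoetherianSpace X := inferInstance
  have hle : topologicalKrullDim X ≤ ((1 : ℕ) : WithBot ℕ∞) :=
    EquidimLib.topologicalKrullDim_le_of_components fun Z hZ => (hdim Z hZ).le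
  have hCM : ∀ x : X, LocCoh.IsCohenMacaulayLocalRing (X.presheaf.stalk x) := by
    refine MiscFlat6.isCohenMacaulayLocalRing_stalk_iff.2 fun x _ => ?_
    rw [CMFlatLib.isCohenMacaulayLocalRing_iff_isCM]
    let R := X.presheaf.stalk x
    have hd : ringKrullDim R ≤ ((1 : ℕ) : WithBot ℕ∞) := (DimIneqLib.stalk_dim_le_dim x).trans hle
    by_cases hm : IsLocalRing.maximalIdeal R = ⊥
    · have hf : IsField R := IsLocalRing.isField_iff_maximalIdeal_eq.2 hm
      exact CatLib.isCM_of_hasSeqIn (CommAlgDim.hasSeqIn_zero _) (ringKrullDim_eq_zero_of_isField hf).le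
    obtain ⟨r, hr, hreg⟩ : ∃ r ∈ IsLocalRing.maximalIdeal R, IsSMulRegular R r := by
      by_contra hc
      simp only [not_exists, not_and] at hc
      have hsub : (IsLocalRing.maximalIdeal R : Set R) ⊆ ⋃ p ∈ associatedPrimes R R, p := fun r hr =>
        (biUnion_associatedPrimes_eq_compl_regular R R).ge (hc r hr)
      obtain ⟨p, hp, hle'⟩ := (Ideal.subset_union_prime_finite (associatedPrimes.finite R R) ⊥ ⊥
        (fun p hp _ _ => hp.isPrime)).mp hsub
      obtain rfl := (IsLocalRing.maximalIdeal.isMaximal R).eq_of_le hp.isPrime.ne_top hle'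
      obtain ⟨-, a, ha⟩ := isAssociatedPrime_iff.1 hp
      have hk : ∀ z, z ∈ IsLocalRing.maximalIdeal R ↔ z * a = 0 := fun z => by
        rw [ha, Submodule.mem_colon_singleton, Submodule.mem_bot, smul_eq_mul]
      by_cases hau : IsUnit a
      · exact hm ((Submodule.eq_bot_iff _).2 fun z hz => hau.mul_left_eq_zero.1 ((hk z).1 hz))
      · have ha0 : a = 0 := IsReduced.eq_zero a ⟨2, by
          rw [sq]; exact (hk a).1 ((IsLocalRing.mem_maximalIdeal a).2 hau)⟩
        exact (IsLocalRing.maximalIdeal.isMaximal R).ne_top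
          (Ideal.eq_top_iff_one _ |>.2 ((hk 1).2 (by rw [ha0, mul_zero])))
    exact CatLib.isCM_of_hasSeqIn ⟨[r], rfl, by simpa using hr,
      (RingTheory.Sequence.isWeaklyRegular_singleton_iff R r).mpr hreg⟩ hd
  obtain ⟨-, hc, hst⟩ := Groth.Agent.S3637.result k X f hCM 1 hdim hf a adj O ⟨eO⟩
  let M := DCoh.HD (a.obj O).obj (-((1 : ℕ) : ℤ))
  haveI : Coh.IsQCoh M := hc.1
  show Function.Injective (M.presheaf.map (homOfLE (inf_le_left : V ⊓ U ≤ V)).op)
  refine (injective_iff_map_eq_zero _).2 fun s hs => ?_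
  refine TopCat.Presheaf.section_ext ((QCohLib.toAbF X).obj M : TopCat.Sheaf AddCommGrpCat X.toTopCat) V _ _
    fun x hx => ?_
  show DevissLib.gm M x hx s = DevissLib.gm M x hx 0
  rw [DevissLib.gm_zero]
  have hgerm : ∀ (y : X) (hy : y ∈ V), y ∈ U → DevissLib.gm M y hy s = 0 := fun y hy hyU => by
    have h1 := congrArg (M.presheaf.germ (V ⊓ U) y ⟨hy, hyU⟩) hs
    rw [map_zero, TopCat.Presheaf.germ_res_apply] at h1
    exact h1
  by_cases hxU : x ∈ U
  · exact hgerm x hx hxU
  have hUc : ∀ z ∈ (U : Set X)ᶜ, IsClosed ({z} : Set X) := fun z hz => by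
    by_contra h; exact hz (hU z h)
  have hxc : IsClosed ({x} : Set X) := hUc x hxU
  have hfin : ((U : Set X)ᶜ).Finite := by
    obtain ⟨S, hSf, hSc, hSi, hSU⟩ :=
      TopologicalSpace.NoetherianSpace.exists_finite_set_isClosed_irreducible (s := (U : Set X)ᶜ) U.2.isClosed_compl
    rw [hSU]
    refine hSf.sUnion fun Z hZ => ?_
    obtain ⟨η, hη⟩ := QuasiSober.sober (hSi Z hZ) (hSc Z hZ)
    have hηc : IsClosed ({η} : Set X) := hUc η (hSU ▸ Set.mem_sUnion_of_mem hη.mem hZ)
    rw [← hη.def, hηc.closure_eq]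
    exact Set.finite_singleton η
  have hcl : IsClosed ((U : Set X)ᶜ \ {x}) := by
    rw [← Set.biUnion_of_singleton ((U : Set X)ᶜ \ {x})]
    exact hfin.sdiff.isClosed_biUnion fun z hz => hUc z hz.1
  obtain ⟨W, hW, hxW, hWV⟩ := exists_isAffineOpen_mem_and_subset (x := x)
    (U := V ⊓ ⟨((U : Set X)ᶜ \ {x})ᶜ, hcl.isOpen_compl⟩) ⟨hx, fun h => h.2 rfl⟩
  haveI : IsNoetherianRing Γ(X, W) := IsLocallyNoetherian.component_noetherian ⟨W, hW⟩
  have hWV' : W ≤ V := fun z hz => (hWV hz).1
  let s' := M.presheaf.map (homOfLE hWV').op s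
  rw [← DevissLib.gm_map M hWV' x hxW s]
  show DevissLib.gm M x hxW s' = 0
  let p := hW.primeIdealOf ⟨x, hxW⟩
  have hpow : ∀ r ∈ p.asIdeal, ∃ n : ℕ, r ^ n • s' = 0 := fun r hr => by
    suffices h : ∃ n : ℕ, X.presheaf.map (homOfLE (le_refl W)).op r ^ n • s' = 0 by simpa using h
    refine (QCohLib.localizingAt_of_isQCoh hW M r).eq_zero s' ?_
    refine TopCat.Presheaf.section_ext ((QCohLib.toAbF X).obj M : TopCat.Sheaf AddCommGrpCat X.toTopCat) _ _ _
      fun y hy => ?_
    have hyW : y ∈ W := X.basicOpen_le r hy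
    have hyne : y ≠ x := fun h => by
      subst h
      have h' : hW.primeIdealOf ⟨y, hxW⟩ ∈ hW.fromSpec ⁻¹ᵁ X.basicOpen r := by
        change hW.fromSpec (hW.primeIdealOf ⟨y, hxW⟩) ∈ X.basicOpen r
        rw [hW.fromSpec_primeIdealOf]; exact hy
      rw [hW.fromSpec_preimage_basicOpen] at h'
      exact h' hr
    have hyU : y ∈ U := by
      by_contra h; exact (hWV hyW).2 ⟨h, hyne⟩
    show DevissLib.gm M y hy _ = DevissLib.gm M y hy 0
    rw [DevissLib.gm_zero, DevissLib.gm_map M (X.basicOpen_le r) y hy s', DevissLib.gm_map M hWV' y hyW s]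
    exact hgerm y (hWV' hyW) hyU
  let R := X.presheaf.stalk x
  let b : (DevissLib.St x).obj M := DevissLib.gm M x hxW s'
  by_contra hb
  have hkill : ∀ z ∈ IsLocalRing.maximalIdeal R, ∃ n : ℕ, z ^ n • b = 0 := fun z hz => by
    let alg := X.presheaf.algebra_section_stalk (⟨x, hxW⟩ : W)
    have hloc : IsLocalization.AtPrime (X.presheaf.stalk x) p.asIdeal := hW.isLocalization_stalk ⟨x, hxW⟩
    obtain ⟨r, c, rfl⟩ := IsLocalization.exists_mk'_eq p.asIdeal.primeCompl z
    obtain ⟨n, hn⟩ := hpow r ((IsLocalization.AtPrime.mk'_mem_maximal_iff R p.asIdeal r c).mp hz)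
    refine ⟨n, ?_⟩
    have hu : IsUnit (X.presheaf.germ W x hxW c.1 ^ n) := (IsLocalization.map_units R c).pow n
    refine hu.smul_eq_zero.1 ?_
    rw [smul_smul, ← mul_pow]
    have h1 : X.presheaf.germ W x hxW c.1 * IsLocalization.mk' R r c = X.presheaf.germ W x hxW r :=
      IsLocalization.mk'_spec' R r c
    rw [h1, ← map_pow, ← DevissLib.gm_smul, hn, DevissLib.gm_zero]
  obtain ⟨hnt, hMcm⟩ := hst x
  haveI : Nontrivial ((DevissLib.St x).obj M) := hnt
  haveI : IsNoetherian R ((DevissLib.St x).obj M) := DevissLib.isNoetherian_stalk hc x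
  haveI : Module.Finite R ((DevissLib.St x).obj M) := ⟨IsNoetherian.noetherian _⟩
  have hass : IsAssociatedPrime (IsLocalRing.maximalIdeal R) ((DevissLib.St x).obj M) := by
    obtain ⟨P, hP, hle'⟩ := exists_le_isAssociatedPrime_of_isNoetherianRing R b hb
    have hmP : IsLocalRing.maximalIdeal R ≤ P := fun z hz => by
      obtain ⟨n, hn⟩ := hkill z hz
      refine hP.isPrime.mem_of_pow_mem n (hle' ?_)
      rw [Submodule.mem_colon_singleton, Submodule.mem_bot]; exact hn
    exact ((IsLocalRing.maximalIdeal.isMaximal R).eq_of_le hP.isPrime.ne_top hmP).symm ▸ hP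
  have hd0 : LocCoh.depth R ((DevissLib.St x).obj M) = 0 :=
    ENat.lt_one_iff_eq_zero.mp (not_le.mp fun h => AssPointLib.one_le_depth_iff.mp h hass)
  have hT : AssPointLib.IsTors R ((DevissLib.St x).obj M) := by
    rw [AssPointLib.isTors_iff]
    have h2 : Module.supportDim R ((DevissLib.St x).obj M) =
        ((LocCoh.depth R ((DevissLib.St x).obj M) : ℕ∞) : WithBot ℕ∞) := hMcm
    rw [h2, hd0]
    rfl
  -- but the module lives at a generic point
  haveI : QuasiSober (X : Type u) := inferInstanceAs (QuasiSober X)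
  obtain ⟨η, hη⟩ := QuasiSober.sober (α := (X : Type u)) (isIrreducible_irreducibleComponent (x := x)) isClosed_irreducibleComponent
  have hηx : η ⤳ x := hη.specializes mem_irreducibleComponent
  have hne : η ≠ x := fun h => by
    have hd := hdim _ (irreducibleComponent_mem_irreducibleComponents x)
    have hsub : irreducibleComponent x = {x} := by rw [← hη.def, h, hxc.closure_eq]
    rw [hsub] at hd
    haveI : Subsingleton ↥({x} : Set X) := ⟨fun a b => Subtype.ext (a.2.trans b.2.symm)⟩
    haveI : Subsingleton (TopologicalSpace.IrreducibleCloseds ↥({x} : Set X)) :=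
      ⟨fun a b => TopologicalSpace.IrreducibleCloseds.ext (Set.ext fun z => by
        obtain ⟨za, hza⟩ := a.isIrreducible.nonempty
        obtain ⟨zb, hzb⟩ := b.isIrreducible.nonempty
        rw [Subsingleton.elim z za]
        exact ⟨fun _ => Subsingleton.elim zb za ▸ hzb, fun _ => hza⟩)⟩
    have h0 : topologicalKrullDim ↥({x} : Set X) ≤ 0 := Order.krullDim_nonpos_of_subsingleton
    rw [hd] at h0
    exact absurd h0 (not_le.mpr zero_lt_one)
  have hηW : η ∈ W := hηx.mem_open W.2 hxW
  haveI : Nontrivial ((DevissLib.St η).obj M) := (hst η).1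
  obtain ⟨m, hm⟩ := exists_ne (0 : (DevissLib.St η).obj M)
  obtain ⟨v, t, hv, ht⟩ := AssPointLib.exists_smul_eq_gm hW hηW m
  have hnle : ¬ p.asIdeal ≤ (hW.primeIdealOf ⟨η, hηW⟩).asIdeal := fun hle' => by
    have h := ((PrimeSpectrum.le_iff_specializes _ _).mp hle').map hW.fromSpec.continuous
    rw [hW.fromSpec_primeIdealOf, hW.fromSpec_primeIdealOf] at h
    exact hne (hηx.antisymm h).eq
  obtain ⟨r, hrx, hrη⟩ := SetLike.not_le_iff_exists.1 hnle
  have hrm : X.presheaf.germ W x hxW r ∈ IsLocalRing.maximalIdeal R := by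
    let alg := X.presheaf.algebra_section_stalk (⟨x, hxW⟩ : W)
    have hloc : IsLocalization.AtPrime (X.presheaf.stalk x) p.asIdeal := hW.isLocalization_stalk ⟨x, hxW⟩
    exact (IsLocalization.AtPrime.to_map_mem_maximal_iff R p.asIdeal r).mpr hrx
  obtain ⟨n, hn⟩ := hT (DevissLib.gm M x hxW t) _ hrm
  rw [← map_pow, ← DevissLib.gm_smul] at hn
  obtain ⟨q, hq, hqt⟩ := (DevissLib.gm_eq_zero_iff hW x hxW _).1 hn
  have hqη : q ∉ (hW.primeIdealOf ⟨η, hηW⟩).asIdeal := fun h => hq
    ((PrimeSpectrum.le_iff_specializes (hW.primeIdealOf ⟨η, hηW⟩) p).2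
      ((hW.fromSpec.isOpenEmbedding.isInducing.specializes_iff).1
        (by rw [hW.fromSpec_primeIdealOf, hW.fromSpec_primeIdealOf]; exact hηx)) h)
  have ht0 : DevissLib.gm M η hηW t = 0 := (DevissLib.gm_eq_zero_iff hW η hηW t).2
    ⟨q * r ^ n, fun h => ((hW.primeIdealOf ⟨η, hηW⟩).2.mem_or_mem h).elim hqη
      fun h' => hrη ((hW.primeIdealOf ⟨η, hηW⟩).2.mem_of_pow_mem n h'), by rw [mul_smul]; exact hqt⟩
  exact hm (hv.smul_eq_zero.1 (ht.trans ht0))

end Groth.Agent.S12536
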