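import Groth.Statements.S4147
import Groth.Agent.BorelLib.ImageComp
import Groth.Agent.ImgTorusLib.Global
-- import your own Groth.Agent.* helpers here

set_option autoImplicit false
set_option maxHeartbeats 4000000
set_option synthInstance.maxHeartbeats 400000
set_option backward.isDefEq.respectTransparency false
universe u
open CategoryTheory CategoryTheory.Limits MonoidalCategory CartesianMonoidalCategory MonObj GrpObj AlgebraicGeometry CategoryTheory.Limits
open SGA3x

attribute [-instance] CategoryTheory.Hom.commGroup

namespace Groth.Agent.S4147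

open Groth.Agent.BorelLib
attribute [local instance] BorelLib.pTop BorelLib.pTopTensor

/-- Let G and G' be S-group schemes, smooth, separated and of finite type over S, G acquiring a maximal
torus after an fpqc covering base change, and u : G → G' a homomorphism which is surjective on every
geometric fibre. Then for every maximal torus i : T → G there is a maximal torus i' : T' → G' of G'
and a surjective flat homomorphism v : T → T' with v ≫ i' = i ≫ u (T' is the image u(T)). -/
theorem result (S : Scheme.{u}) (G G' : Over S) [GrpObj G] [GrpObj G']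
    [Smooth G.hom] [IsSeparated G.hom] [QuasiCompact G.hom] [Smooth G'.hom] [IsSeparated G'.hom] [QuasiCompact G'.hom]
    (hG : SGA3x.HasMaxTorusFpqcLocally G) (u : G ⟶ G') [IsMonHom u]
    (hu : ∀ s : S, Surjective ((Over.pullback (Red.geomPt s)).map u).left)
    (T : Over S) [GrpObj T] (i : T ⟶ G) (hT : Red.IsMaximalTorus i) :
    ∃ (T' : Over S) (_ : GrpObj T') (i' : T' ⟶ G') (v : T ⟶ T'), Red.IsMaximalTorus i' ∧ IsMonHom v ∧
      v ≫ i' = i ≫ u ∧ Surjective v.left ∧ Flat v.left := by
  obtain ⟨him, hio, hit, himax⟩ := hT
  haveI := him; haveI := hio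
  haveI : LocallyOfFinitePresentation G'.hom := inferInstance
  obtain ⟨T', _, i', hi', hm', p, hp, hT', hpi, hpf, hps, -⟩ := ImgTorus.exists_image_torus hit (i ≫ u)
  haveI := hi'; haveI := hm'; haveI := hp; haveI := hpf; haveI := hps
  refine ⟨T', inferInstance, i', p, ⟨hi', hm', hT', fun s T'' _ j _ _ f hT'' hf => ?_⟩, hp, hpi, hps, hpf⟩
  haveI : Smooth (Red.geomFibre s G).hom := MorphismProperty.pullback_snd (P := @Smooth) _ _ inferInstance
  haveI : QuasiCompact (Red.geomFibre s G).hom := MorphismProperty.pullback_snd (P := @QuasiCompact) _ _ inferInstance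
  haveI : Smooth (Red.geomFibre s G').hom := MorphismProperty.pullback_snd (P := @Smooth) _ _ inferInstance
  haveI : QuasiCompact (Red.geomFibre s G').hom := MorphismProperty.pullback_snd (P := @QuasiCompact) _ _ inferInstance
  haveI := DiagRep.isMonHom_bc_map (Red.geomPt s) u
  haveI := DiagRep.isMonHom_bc_map (Red.geomPt s) i
  haveI := DiagRep.isMonHom_bc_map (Red.geomPt s) i'
  haveI := mono_bc (Red.geomPt s) i
  haveI := mono_bc (Red.geomPt s) i'
  haveI := surjective_bc (Red.geomPt s) p
  haveI : Flat ((Over.pullback (Red.geomPt s)).map p).left :=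
    MorphismProperty.overPullbackMap (P := @Flat) _ p hpf
  haveI := hu s
  obtain ⟨-, -, -, hmax⟩ := NA.isMaxTorus_image' ((Over.pullback (Red.geomPt s)).map u)
    (i := (Over.pullback (Red.geomPt s)).map i)
    ⟨inferInstance, inferInstance, RedRank.isTorus_bc hit _, fun T₀ _ j₀ _ _ f₀ h₀ e₀ => himax s T₀ j₀ f₀ h₀ e₀⟩
    ((Over.pullback (Red.geomPt s)).map i') (RedRank.isTorus_bc hT' _) ((Over.pullback (Red.geomPt s)).map p)
    (by rw [← Functor.map_comp, hpi, Functor.map_comp])
  exact hmax T'' j f hT'' hf

end Groth.Agent.S4147
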