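import Groth.Statements.S12540
import Groth.Agent.SemiAbLib.Points
import Groth.Agent.BorelLib.QuotProper
import Groth.Agent.ChevLib.Main
import Groth.Agent.AntiAffLib.Image
import Groth.Agent.AVAmpleLib.HomDiv

set_option autoImplicit false
universe u
open CategoryTheory MonoidalCategory CartesianMonoidalCategory MonObj GrpObj AlgebraicGeometry
open AlgGrp

attribute [-instance] CategoryTheory.Hom.commGroup

namespace Groth.Agent.S12540

/-- Over an algebraically closed field k, let G be an algebraic group (a smooth k-group scheme of finite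
type), h : H → G a closed subgroup scheme, and h' : H' → H a closed subgroup scheme of H which is
reduced with the same underlying space as H (the reduced subgroup scheme H_red; it is a subgroup of
G through h' ≫ h). Let X, with its G-action and base point, be the quotient G/H, and X' the quotient
G/H' (each locally of finite type over k, with flat surjective orbit map identifying G × H with G
×_X G, respectively G × H' with G ×_{X'} G). Then X is affine if and only if X' is affine. (The
published statement adds the same equivalence with the identity component of H_red; that clause is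
not stated here.) -/
theorem result (k : Type u) [Field k] [IsAlgClosed k]
    (G : Over (Spec (CommRingCat.of k))) [GrpObj G] [Smooth G.hom] [QuasiCompact G.hom]
    (H : Over (Spec (CommRingCat.of k))) [GrpObj H] (h : H ⟶ G) [IsMonHom h] [IsClosedImmersion h.left]
    (H' : Over (Spec (CommRingCat.of k))) [GrpObj H'] (h' : H' ⟶ H) [IsMonHom h'] [IsClosedImmersion h'.left]
    [Surjective h'.left] [IsReduced H'.left]
    (X : Over (Spec (CommRingCat.of k))) (a : AlgGrp.Action G X) (o : 𝟙_ (Over (Spec (CommRingCat.of k))) ⟶ X)
    (hX : AGF.IsQuotient h X a o)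
    (X' : Over (Spec (CommRingCat.of k))) (a' : AlgGrp.Action G X') (o' : 𝟙_ (Over (Spec (CommRingCat.of k))) ⟶ X')
    (hX' : AGF.IsQuotient (h' ≫ h) X' a' o') :
    IsAffine X.left ↔ IsAffine X'.left := by
  obtain ⟨hXl, hqf, hqs, sq⟩ := hX
  obtain ⟨hXl', hqf', hqs', sq'⟩ := hX'
  haveI := hXl; haveI := hXl'; haveI := hqf; haveI := hqs; haveI := hqf'; haveI := hqs'
  haveI : Flat (a.orbitMap o).left := hqf
  haveI : IsClosedImmersion (h' ≫ h).left := by rw [Over.comp_left]; infer_instance
  haveI : LocallyOfFiniteType G.hom := inferInstance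
  haveI := AntiAffLib.lfp_of_lft (a.orbitMap o)
  haveI := AntiAffLib.lfp_of_lft (a'.orbitMap o')
  haveI : IsSeparated X.hom := Groth.Agent.BorelLib.isSeparated_of_isQuotient sq
  haveI : IsSeparated X'.hom := Groth.Agent.BorelLib.isSeparated_of_isQuotient sq'
  haveI : CompactSpace G.left := QuasiCompact.compactSpace_of_compactSpace G.hom
  haveI : CompactSpace X.left := (a.orbitMap o).left.surjective.compactSpace (a.orbitMap o).left.continuous
  haveI : CompactSpace X'.left := (a'.orbitMap o').left.surjective.compactSpace (a'.orbitMap o').left.continuous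
  haveI : QuasiCompact X.hom := quasiCompact_of_compactSpace _
  haveI : QuasiCompact X'.hom := quasiCompact_of_compactSpace _
  haveI : LocallyOfFiniteType H.hom := by rw [← Over.w h]; infer_instance
  haveI : QuasiCompact H.hom := by rw [← Over.w h]; infer_instance
  haveI : LocallyOfFiniteType H'.hom := by rw [← Over.w h']; infer_instance
  -- points with the same image differ by a point of the subgroup
  have hsame : ∀ {T : Over (Spec (CommRingCat.of k))} (u v : T ⟶ G), u ≫ a.orbitMap o = v ≫ a.orbitMap o →
      ∃ x : T ⟶ H, u * (x ≫ h) = v := fun u v e => by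
    obtain ⟨l, hl1, hl2⟩ : ∃ l : _ ⟶ G ⊗ H, l ≫ fst G H = u ∧ l ≫ (G ◁ h) ≫ μ[G] = v :=
      ⟨sq.lift u v e, sq.lift_fst _ _ _, sq.lift_snd _ _ _⟩
    refine ⟨l ≫ snd G H, ?_⟩
    rw [show (G ◁ h) ≫ μ[G] = fst G H * (snd G H ≫ h) by
      rw [Hom.mul_def]; exact congrArg (· ≫ μ[G]) (CartesianMonoidalCategory.hom_ext _ _ (by simp) (by simp)),
      MonObj.comp_mul, hl1] at hl2
    rw [Category.assoc]; exact hl2
  have hmul : ∀ {T : Over (Spec (CommRingCat.of k))} (u : T ⟶ G) (x : T ⟶ H'),
      (u * (x ≫ h' ≫ h)) ≫ a'.orbitMap o' = u ≫ a'.orbitMap o' := fun u x => by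
    have h2 := congrArg (lift u x ≫ ·) sq'.w
    simp only [Category.assoc, lift_whiskerLeft_assoc, lift_fst_assoc] at h2
    rw [Hom.mul_def, Category.assoc]
    exact h2.symm
  -- the map of quotients
  obtain ⟨π, hπ⟩ := Groth.Agent.MonoQuot.exists_desc_over (a'.orbitMap o') (a.orbitMap o) fun T u v e => by
    have h1 := sq'.lift_snd u v e
    have h2 := congrArg (lift (sq'.lift u v e ≫ fst G H') (sq'.lift u v e ≫ snd G H' ≫ h') ≫ ·) sq.w
    simp only [lift_fst_assoc, lift_whiskerLeft_assoc] at h2
    rw [sq'.lift_fst] at h2
    conv_rhs => rw [← h1, show sq'.lift u v e = lift u (sq'.lift u v e ≫ snd G H') from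
      CartesianMonoidalCategory.hom_ext _ _ (by rw [lift_fst]; exact sq'.lift_fst u v e) (by rw [lift_snd])]
    simp only [lift_whiskerLeft_assoc, Category.assoc] at h2 ⊢
    exact h2
  haveI : Surjective π.left := by
    haveI : Surjective ((a'.orbitMap o').left ≫ π.left) := by rw [← Over.comp_left, hπ]; infer_instance
    exact Surjective.of_comp (a'.orbitMap o').left π.left
  haveI : LocallyOfFiniteType π.left := by
    haveI : LocallyOfFiniteType (π.left ≫ X.hom) := by rw [Over.w π]; infer_instance
    exact locallyOfFiniteType_of_comp π.left X.hom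
  haveI : QuasiCompact π.left := by
    haveI : QuasiCompact (π.left ≫ X.hom) := by rw [Over.w π]; infer_instance
    exact QuasiCompact.of_comp π.left X.hom
  haveI : IsSeparated π.left := by
    haveI : IsSeparated (π.left ≫ X.hom) := by rw [Over.w π]; infer_instance
    exact IsSeparated.of_comp π.left X.hom
  -- it is radicial
  haveI : UniversallyInjective π.left := by
    rw [UniversallyInjective.iff_diagonal]
    let D : Over (Spec (CommRingCat.of k)) := Over.mk (Limits.pullback.fst π.left π.left ≫ X'.hom)
    let d : X' ⟶ D := Over.homMk (Limits.pullback.diagonal π.left) (by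
      show Limits.pullback.diagonal π.left ≫ Limits.pullback.fst π.left π.left ≫ X'.hom = _
      rw [Limits.pullback.diagonal_fst_assoc])
    let p₁ : D ⟶ X' := Over.homMk (Limits.pullback.fst π.left π.left) rfl
    let p₂ : D ⟶ X' := Over.homMk (Limits.pullback.snd π.left π.left) (by
      show Limits.pullback.snd π.left π.left ≫ X'.hom = Limits.pullback.fst π.left π.left ≫ X'.hom
      rw [← Over.w π, Limits.pullback.condition_assoc])
    haveI : LocallyOfFiniteType D.hom := inferInstanceAs (LocallyOfFiniteType (Limits.pullback.fst π.left π.left ≫ X'.hom))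
    haveI : QuasiCompact D.hom := inferInstanceAs (QuasiCompact (Limits.pullback.fst π.left π.left ≫ X'.hom))
    haveI : IsSeparated D.hom := inferInstanceAs (IsSeparated (Limits.pullback.fst π.left π.left ≫ X'.hom))
    refine SemiAbLib.surjective_of_pts d fun b => ?_
    have hb : (b ≫ p₁) ≫ π = (b ≫ p₂) ≫ π := Over.OverMorphism.ext (by simp [p₁, p₂, Limits.pullback.condition])
    obtain ⟨g₁, hg₁⟩ : ∃ g, g ≫ a'.orbitMap o' = b ≫ p₁ := AVAmpleLib.exists_pt_lift (a'.orbitMap o') (b ≫ p₁)
    obtain ⟨g₂, hg₂⟩ : ∃ g, g ≫ a'.orbitMap o' = b ≫ p₂ := AVAmpleLib.exists_pt_lift (a'.orbitMap o') (b ≫ p₂)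
    obtain ⟨x, hx⟩ := hsame g₁ g₂ (by rw [← hπ, reassoc_of% hg₁, reassoc_of% hg₂, ← Category.assoc, hb, Category.assoc])
    haveI : IsSeparated H.hom := Groth.Agent.GrpField.isSeparated_grp (G := H)
    obtain ⟨x', hx'⟩ := AVAmpleLib.exists_pt_lift h' x
    have e : b ≫ p₁ = b ≫ p₂ := by
      rw [← hg₁, ← hg₂, ← hx, ← hx', Category.assoc, hmul]
    refine ⟨b ≫ p₁, Over.OverMorphism.ext (Limits.pullback.hom_ext ?_ ?_)⟩
    · simp [d, p₁]
    · have e' := congrArg CommaMorphism.left e
      simp only [Over.comp_left, p₁, p₂, Over.homMk_left] at e'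
      simp [d, p₁, e']
  -- and universally closed
  haveI : UniversallyClosed π.left := by
    refine ⟨fun P' T fst' i₂ snd' sqT => ?_⟩
    intro Z hZ
    haveI : UniversallyInjective snd' := MorphismProperty.of_isPullback sqT.flip ‹_›
    let r := Limits.pullback.snd (a'.orbitMap o').left fst'
    haveI : Surjective r := MorphismProperty.pullback_snd _ _ inferInstance
    have sqq : IsPullback (Limits.pullback.fst (a'.orbitMap o').left fst') (r ≫ snd') (a.orbitMap o).left i₂ := by
      have := (IsPullback.of_hasPullback (a'.orbitMap o').left fst').paste_vert sqT.flip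
      rw [← Over.comp_left, hπ] at this
      exact this
    haveI : Flat (r ≫ snd') := MorphismProperty.of_isPullback sqq inferInstance
    haveI : Surjective (r ≫ snd') := MorphismProperty.of_isPullback sqq inferInstance
    haveI : LocallyOfFinitePresentation (r ≫ snd') := MorphismProperty.of_isPullback sqq inferInstance
    haveI : UniversallyOpen (r ≫ snd') := inferInstance
    have hq : Topology.IsQuotientMap (r ≫ snd').base :=
      ((r ≫ snd').isOpenMap.isQuotientMap (r ≫ snd').continuous (r ≫ snd').surjective)
    have : (snd' '' Z) = (snd' '' Z) := rfl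
    rw [← hq.isClosed_preimage]
    have e : (r ≫ snd').base ⁻¹' (snd' '' Z) = r ⁻¹' Z := by
      ext z
      constructor
      · rintro ⟨w, hw, hwz⟩
        have : w = r z := snd'.injective (hwz.trans (Scheme.Hom.comp_apply r snd' z))
        show r z ∈ Z
        rwa [← this]
      · exact fun hz => ⟨r z, hz, (Scheme.Hom.comp_apply r snd' z).symm⟩
    rw [show (r ≫ snd').base ⁻¹' _ = _ from e]
    exact hZ.preimage r.continuous
  haveI : IsProper π.left := {}
  haveI : IsFinite π.left := IsFinite.of_isProper_of_locallyQuasiFinite π.left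
  constructor
  · intro hA
    haveI := hA
    exact isAffine_of_isAffineHom π.left
  · intro hA
    haveI := hA
    exact ChevLib.isAffine_of_surjective_universallyClosed π.left

end Groth.Agent.S12540
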