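import Groth.Statements.S12546
import Groth.Agent.FormStabLib.Coords

set_option autoImplicit false
universe u
open TensorProduct LaurentPolynomial
open GIT

namespace Groth.Agent.S12546

/-- Let k be an algebraically closed field of characteristic zero and let SL_2 act by substitution on
binary forms of degree d, a form being the point a = (a_0, …, a_d) with F = Σ_i (d choose i) a_i
x^(d−i) y^i. For a ≠ 0: a is stable (closed orbit, finite stabiliser) if and only if every non-zero
linear form ℓ and every m with ℓ^m dividing F satisfy 2m < d, i.e. F has no root on the projective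
line of multiplicity d/2 or more. -/
theorem result (k : Type u) [Field k] [IsAlgClosed k] [CharZero k]
    (d : ℕ) (a : Fin (d + 1) → k) (ha : a ≠ 0) :
    @GLin.IsStableVec k _ (CoordGrp.SLn 2 k) _ _ (CoordGrp.FormIdx 2 d) (GLin.comodAlong ((CoordGrp.SLn.mkHom 2 k).comp (CoordGrp.Mat.toGLn 2 k)) (CoordGrp.formsCoact k 2 d))
      (GLin.isCoactAlg_comodAlong ((CoordGrp.SLn.mkHom 2 k).comp (CoordGrp.Mat.toGLn 2 k)) (CoordGrp.formsCoact k 2 d)
        (CoordGrp.formsCoact_isCoactAlg k 2 d))
      (CoordGrp.binVec d a) ↔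
      ∀ ℓ : MvPolynomial (Fin 2) k, ℓ.IsHomogeneous 1 → ℓ ≠ 0 →
        ∀ m : ℕ, ℓ ^ m ∣ CoordGrp.formPoly (CoordGrp.binVec d a) → 2 * m < d := by
  classical
  set F := CoordGrp.formPoly (CoordGrp.binVec d a) with hFdef
  have hF : F.IsHomogeneous d := FormStabLib.formPoly_isHomogeneous _
  constructor
  · intro hst ℓ hℓ hℓ0 q hdvd
    by_contra hlt
    have hne : (fun j => MvPolynomial.coeff (Finsupp.single j 1) ℓ) ≠ 0 := fun h => hℓ0 (by
      rw [FormStabLib.eq_linForm hℓ, h]; simp [FormStabLib.linForm])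
    obtain ⟨M₀, hM₀, hcol⟩ := FormStabLib.exists_completion (N := 2)
      (fun _ : Fin 1 => fun j => MvPolynomial.coeff (Finsupp.single j 1) ℓ)
      (linearIndependent_unique_iff.2 hne) (by norm_num)
    have h0 : M₀.col 0 = fun j => MvPolynomial.coeff (Finsupp.single j 1) ℓ := hcol 0
    let M : Matrix (Fin 2) (Fin 2) k := M₀.adjugate.transpose
    have hM : M.det = 1 := by
      rw [Matrix.det_transpose, Matrix.det_adjugate, hM₀, one_pow]
    have hlin : FormStabLib.sub M ℓ = MvPolynomial.X 0 := by
      rw [FormStabLib.eq_linForm hℓ, FormStabLib.sub_linForm, Matrix.vecMul_transpose, ← h0,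
        ← Matrix.mulVec_single_one, Matrix.mulVec_mulVec, Matrix.adjugate_mul, hM₀, one_smul, Matrix.one_mulVec]
      simp [FormStabLib.linForm, Fin.sum_univ_two]
    refine FormStabLib.not_isStableVec_of_weights (k := k) FormStabLib.multinomial_ne_zero (CoordGrp.binVec d a) M hM
      ![-1, 1] (by simp [Fin.sum_univ_two]) (fun h => by simpa using congrFun h 0) (fun e he => ?_) hst
    have hd := FormStabLib.degree_of_mem_support hF M he
    rw [Fin.sum_univ_two] at hd
    have h1 : MvPolynomial.X 0 ^ q ∣ FormStabLib.sub M F := by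
      rw [← hlin, ← map_pow]; exact map_dvd _ hdvd
    obtain ⟨Q, hQ⟩ := h1
    have h2 : q ≤ e 0 := by
      by_contra hlt'
      refine MvPolynomial.mem_support_iff.1 he ?_
      rw [hQ, MvPolynomial.X_pow_eq_monomial, MvPolynomial.coeff_monomial_mul', if_neg]
      rw [Finsupp.single_le_iff]
      omega
    simp [Fin.sum_univ_two]
    omega
  · intro h
    refine FormStabLib.isStableVec_of_noDestab _ (FormStabLib.noDestab_of_sorted fun M hM Γ _ w hanti hprod hw => ?_)
    rw [Fin.prod_univ_two] at hprod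
    have hw0 : w 0 ≠ 0 := left_ne_zero_of_mul_eq_one hprod
    have hw1 : w 1 = (w 0)⁻¹ := eq_inv_of_mul_eq_one_right hprod
    by_cases h1 : w 0 = 1
    · intro i; fin_cases i <;> simp [h1, hw1]
    exfalso
    have hgt : 1 < w 0 := by
      refine lt_of_le_of_ne ?_ (Ne.symm h1)
      by_contra hlt
      rw [not_le] at hlt
      have h01 : w 1 ≤ w 0 := hanti (Fin.zero_le _)
      rw [hw1] at h01
      exact absurd h01 (not_le.2 (hlt.trans ((one_lt_inv₀ (zero_lt_iff.2 hw0)).2 hlt)))
    have hsupp : ∀ e ∈ (FormStabLib.sub M F).support, e 0 ≤ e 1 := by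
      intro e he
      have := hw e he
      rw [Fin.prod_univ_two, hw1, inv_pow, ← div_eq_mul_inv,
        div_le_one₀ (pow_pos (zero_lt_iff.2 hw0) _)] at this
      exact (pow_le_pow_iff_right₀ hgt).1 this
    obtain ⟨q, hq⟩ : ∃ q, q = (d + 1) / 2 := ⟨_, rfl⟩
    have hdvd : MvPolynomial.X 1 ^ q ∣ FormStabLib.sub M F := by
      rw [(FormStabLib.sub M F).as_sum]
      refine Finset.dvd_sum fun e he => ?_
      have hd := FormStabLib.degree_of_mem_support hF M he
      rw [Fin.sum_univ_two] at hd
      have := hsupp e he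
      rw [MvPolynomial.X_pow_eq_monomial, MvPolynomial.monomial_dvd_monomial]
      refine ⟨Or.inr ?_, one_dvd _⟩
      rw [Finsupp.single_le_iff]
      omega
    have h2 := map_dvd (FormStabLib.sub M.adjugate) hdvd
    rw [map_pow, FormStabLib.sub_adjugate hM] at h2
    have hℓ : FormStabLib.sub M.adjugate (MvPolynomial.X 1) = FormStabLib.linForm (M.adjugate 1) :=
      FormStabLib.sub_X _ _
    rw [hℓ] at h2
    have hhom : (FormStabLib.linForm (M.adjugate 1)).IsHomogeneous 1 :=
      MvPolynomial.IsHomogeneous.sum _ _ _ fun j _ => MvPolynomial.isHomogeneous_C_mul_X _ _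
    have hne : FormStabLib.linForm (M.adjugate 1) ≠ 0 := fun h0 => by
      have h3 := congrArg (FormStabLib.sub M) h0
      rw [map_zero, ← hℓ, ← FormStabLib.sub_mul, Matrix.adjugate_mul, hM, one_smul, FormStabLib.sub_one] at h3
      exact MvPolynomial.X_ne_zero 1 h3
    have := h _ hhom hne q h2
    omega

end Groth.Agent.S12546
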