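import Groth.Statements.S12549
import Mathlib.Algebra.BigOperators.Fin
import Mathlib.Data.Fin.Tuple.Basic
import Mathlib.Data.Real.Basic
import Mathlib.Tactic.LinearCombination
import Mathlib.Tactic.Linarith
import Mathlib.Algebra.Order.BigOperators.Group.Finset
import Mathlib.Algebra.BigOperators.Ring.Finset
import Mathlib.Algebra.BigOperators.Intervals
import Mathlib.Order.Fin.Basic
import Mathlib.Tactic.FieldSimp
import Mathlib.Tactic.Ring
import Mathlib.Data.Finset.Max
-- import your own Groth.Agent.* helpers here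

set_option autoImplicit false
universe u
open GIT

namespace Groth.Agent.S12549

/-- Let g ≥ 1 and n ≥ 2g, and let e_0, …, e_n be natural numbers with e_0 = 0, e_n = n + g, e_0 ≤ … ≤
e_n, e_i ≤ i for i ≤ n − g and e_i ≤ i + g for all i. Then for all real r_0 ≥ r_1 ≥ … ≥ r_n with Σ
r_i = 0, not all zero, some chain 0 = c_0 < c_1 < … < c_μ = n has Σ_j (e_(c_(j+1)) − e_(c_j)) ·
(r_(c_(j+1)) + r_(c_j)) < 0. -/
theorem result (n g : ℕ) (hg : 1 ≤ g) (hn : 2 * g ≤ n)
    (e : Fin (n + 1) → ℕ) (he0 : e 0 = 0) (hen : e (Fin.last n) = n + g) (hmono : Monotone e)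
    (hle : ∀ i : Fin (n + 1), (i : ℕ) ≤ n - g → e i ≤ (i : ℕ)) (hle' : ∀ i : Fin (n + 1), e i ≤ (i : ℕ) + g)
    (r : Fin (n + 1) → ℝ) (hanti : Antitone r) (hsum : ∑ i, r i = 0) (hr : r ≠ 0) :
    ∃ (μ : ℕ) (c : Fin (μ + 1) → Fin (n + 1)), StrictMono c ∧ c 0 = 0 ∧ c (Fin.last μ) = Fin.last n ∧
      ∑ j : Fin μ, ((e (c j.succ) : ℝ) - (e (c j.castSucc) : ℝ)) * (r (c j.succ) + r (c j.castSucc)) < 0 := by
  classical
  let E : Fin (n + 1) → ℝ := fun i => if (i : ℕ) ≤ n - g then (i : ℕ) else ((i : ℕ) + g : ℕ)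
  have hEmono : StrictMono E := fun i j hij => by
    have h' : (i : ℕ) < j := hij
    simp only [E]
    split_ifs <;> norm_cast <;> omega
  have hE0 : E 0 = 0 := by simp [E]
  have hEn : E (Fin.last n) = ((n + g : ℕ) : ℝ) := by
    simp only [E, Fin.val_last]
    rw [if_neg (by omega)]
  have heE : ∀ i, (e i : ℝ) ≤ E i := fun i => by
    simp only [E]
    split_ifs with h
    · exact_mod_cast hle i h
    · exact_mod_cast hle' i
  let L : ℝ := ((n + g : ℕ) : ℝ)
  -- greedy lower convex envelope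
  have env : ∀ c : Fin (n + 1), ∃ (μ : ℕ) (p : Fin (μ + 1) → Fin (n + 1)) (a : Fin (n + 1) → ℝ),
      StrictMono p ∧ p 0 = c ∧ p (Fin.last μ) = Fin.last n ∧ (∀ i, 0 ≤ a i) ∧ (∀ i, i ≤ c → a i = 0) ∧
      (∀ i, c ≤ i → r (Fin.last n) + ∑ t, a t * max (E t - E i) 0 ≤ r i) ∧
      r (Fin.last n) + ∑ t, a t * max (E t - E c) 0 = r c ∧
      ((∑ t, a t) = 0 ∨ ∃ k, c < k ∧ r k = r c - (∑ t, a t) * (E k - E c)) ∧
      (∑ j : Fin μ, (E (p j.succ) - E (p j.castSucc)) * (r (p j.succ) + r (p j.castSucc)) =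
        2 * (L - E c) * r (Fin.last n) + ∑ t, a t * max (E t - E c) 0 ^ 2) ∧
      (∑ j : Fin μ, ((e (p j.succ) : ℝ) - (e (p j.castSucc) : ℝ)) * (r (p j.succ) + r (p j.castSucc)) ≤
        (∑ j : Fin μ, (E (p j.succ) - E (p j.castSucc)) * (r (p j.succ) + r (p j.castSucc))) + 2 * (E c - e c) * r c) := by
    intro c
    induction c using WellFoundedGT.induction with
    | _ c ih => ?_
    by_cases hc : c = Fin.last n
    · subst hc
      refine ⟨0, fun _ => Fin.last n, 0, fun a b hab => absurd hab (by omega), rfl, rfl, fun i => le_rfl, fun i _ => rfl, ?_, ?_, Or.inl (by simp), ?_, ?_⟩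
      · intro i hi
        rw [le_antisymm (Fin.le_last i) hi]; simp
      · simp
      · simp [L, hEn]
      · simp [hEn, hen]
    have hc' : c < Fin.last n := lt_of_le_of_ne (Fin.le_last c) hc
    obtain ⟨j, hj, hjmax⟩ := Finset.exists_max_image (Finset.Ioi c) (fun k => (r c - r k) / (E k - E c))
      ⟨Fin.last n, Finset.mem_Ioi.mpr hc'⟩
    have hcj : c < j := Finset.mem_Ioi.mp hj
    set σ := (r c - r j) / (E j - E c) with hσ
    have hΔ : 0 < E j - E c := sub_pos.mpr (hEmono hcj)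
    have hσj : σ * (E j - E c) = r c - r j := div_mul_cancel₀ _ hΔ.ne'
    have hσk : ∀ k, c < k → r c - σ * (E k - E c) ≤ r k := fun k hk => by
      have h1 := hjmax k (Finset.mem_Ioi.mpr hk)
      rw [div_le_iff₀ (sub_pos.mpr (hEmono hk))] at h1
      linarith
    have hσ0 : 0 ≤ σ := div_nonneg (sub_nonneg.mpr (hanti hcj.le)) hΔ.le
    obtain ⟨μ, p, a, hp, hp0, hpl, ha0, haz, hbd, hj', hslope, hS, hle2⟩ := ih j hcj
    have hA : ∑ t, a t ≤ σ := by
      rcases hslope with h | ⟨k, hk, hrk⟩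
      · rw [h]; exact hσ0
      have h1 := hσk k (hcj.trans hk)
      have hkj : 0 < E k - E j := sub_pos.mpr (hEmono hk)
      rw [hrk] at h1
      by_contra hlt
      nlinarith [mul_pos (sub_pos.mpr (not_le.mp hlt)) hkj]
    let a' : Fin (n + 1) → ℝ := fun t => a t + if t = j then σ - ∑ t, a t else 0
    have hsum' : ∀ F : Fin (n + 1) → ℝ, ∑ t, a' t * F t = (∑ t, a t * F t) + (σ - ∑ t, a t) * F j := fun F => by
      simp [a', add_mul, Finset.sum_add_distrib, ite_mul]
    have hsupp : ∀ (x : ℝ) (t : Fin (n + 1)), x ≤ E j → a t * max (E t - x) 0 = a t * (max (E t - E j) 0 + (E j - x)) := fun x t hx => by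
      rcases le_or_gt t j with h | h
      · simp [haz t h]
      · have := hEmono h
        rw [max_eq_left (by linarith), max_eq_left (by linarith)]
        ring
    have hlow : ∀ x : ℝ, x ≤ E j → r (Fin.last n) + ∑ t, a' t * max (E t - x) 0 = r j + σ * (E j - x) := fun x hx => by
      rw [hsum', max_eq_left (sub_nonneg.mpr hx), Finset.sum_congr rfl fun t _ => hsupp x t hx, ← hj']
      simp only [mul_add, Finset.sum_add_distrib, ← Finset.sum_mul]
      ring
    have hsumσ : ∑ t, a' t = σ := by simpa using hsum' fun _ => 1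
    refine ⟨μ + 1, Fin.cons c p, a', ?_, by simp, by rw [← Fin.succ_last, Fin.cons_succ, hpl], fun i => ?_, fun i hi => ?_, fun i hi => ?_, ?_, Or.inr ⟨j, hcj, ?_⟩, ?_, ?_⟩
    · refine Fin.strictMono_iff_lt_succ.mpr fun i => ?_
      refine Fin.cases ?_ (fun i => ?_) i
      · simpa [hp0] using hcj
      · simpa [← Fin.succ_castSucc] using hp i.castSucc_lt_succ
    · simp only [a']
      split_ifs
      · linarith [ha0 i]
      · linarith [ha0 i]
    · simp [a', haz i (hi.trans hcj.le), (lt_of_le_of_lt hi hcj).ne]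
    · rcases le_or_gt j i with h | h
      · rw [hsum', max_eq_right (sub_nonpos.mpr (hEmono.monotone h)), mul_zero, add_zero]
        exact hbd i h
      · rw [hlow (E i) (hEmono.monotone h.le)]
        rcases eq_or_lt_of_le hi with rfl | hlt
        · linarith
        · linarith [hσk i hlt, mul_add σ (E j - E i) (E i - E c)]
    · rw [hlow (E c) (hEmono.monotone hcj.le)]
      linarith
    · rw [hsumσ]
      linarith
    · rw [Fin.sum_univ_succ]
      simp only [Fin.castSucc_zero, Fin.cons_zero, Fin.cons_succ, ← Fin.succ_castSucc, hp0]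
      rw [hS, hsum', max_eq_left hΔ.le]
      have e1 : ∑ t, a t * max (E t - E c) 0 ^ 2 =
          (∑ t, a t * max (E t - E j) 0 ^ 2) + 2 * (E j - E c) * (∑ t, a t * max (E t - E j) 0) + (E j - E c) ^ 2 * ∑ t, a t := by
        simp only [Finset.mul_sum, ← Finset.sum_add_distrib]
        refine Finset.sum_congr rfl fun t _ => ?_
        have := hsupp (E c) t (hEmono.monotone hcj.le)
        rcases le_or_gt t j with h | h
        · simp [haz t h]
        · have := hEmono h
          rw [max_eq_left (by linarith), max_eq_left (by linarith)]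
          ring
      linear_combination (-1 : ℝ) * e1 - 2 * (E j - E c) * hj' - (E j - E c) * hσj
    · simp only [Fin.sum_univ_succ, Fin.castSucc_zero, Fin.cons_zero, Fin.cons_succ, ← Fin.succ_castSucc, hp0]
      have h1 := mul_nonneg (add_nonneg (sub_nonneg.mpr (heE j)) (sub_nonneg.mpr (heE c))) (sub_nonneg.mpr (hanti hcj.le))
      linarith
  obtain ⟨μ, p, a, hp, hp0, hpl, ha0, haz, hbd, hr0, -, hS, hle3⟩ := env 0
  refine ⟨μ, p, hp, hp0, hpl, ?_⟩
  rw [hE0, sub_zero] at hS
  rw [hE0, he0, Nat.cast_zero, sub_zero, mul_zero, zero_mul, add_zero] at hle3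
  -- the key numerical inequality
  have key : ∀ t : Fin (n + 1), 0 < t → ((n : ℝ) + 1) * E t ^ 2 < 2 * L * ∑ i, max (E t - E i) 0 := fun t ht => by
    have ht' : 0 < (t : ℕ) := ht
    have hH : ∑ i ∈ Finset.range (t : ℕ), ((E t : ℝ) - (if i ≤ n - g then (i : ℝ) else ((i + g : ℕ) : ℝ))) ≤ ∑ i, max (E t - E i) 0 := by
      have h1 : ∑ i : Fin (n + 1), max (E t - E i) 0 = ∑ i ∈ Finset.range (n + 1), max (E t - (if i ≤ n - g then (i : ℝ) else ((i + g : ℕ) : ℝ))) 0 :=
        Fin.sum_univ_eq_sum_range (fun i => max (E t - (if i ≤ n - g then (i : ℝ) else ((i + g : ℕ) : ℝ))) 0) (n + 1)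
      rw [h1]
      refine (Finset.sum_le_sum fun i _ => le_max_left _ _).trans (Finset.sum_le_sum_of_subset_of_nonneg (Finset.range_mono t.2.le) fun i _ _ => le_max_right _ _)
    refine lt_of_lt_of_le ?_ (mul_le_mul_of_nonneg_left hH (by positivity))
    have hid : ∀ m : ℕ, ∑ i ∈ Finset.range m, (i : ℝ) = m * (m - 1) / 2 := fun m => by
      induction m with
      | zero => simp
      | succ m ih => rw [Finset.sum_range_succ, ih]; push_cast; ring
    have hgR : (1 : ℝ) ≤ g := by exact_mod_cast hg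
    have hnR : 2 * (g : ℝ) ≤ n := by exact_mod_cast hn
    simp only [L, E, Nat.cast_add]
    by_cases htq : (t : ℕ) ≤ n - g
    · rw [if_pos htq, Finset.sum_congr rfl (g := fun i : ℕ => ((t : ℕ) : ℝ) - (i : ℝ)) fun i hi => by
        rw [if_pos (by have := Finset.mem_range.mp hi; omega)]]
      rw [Finset.sum_sub_distrib, hid, Finset.sum_const, Finset.card_range, nsmul_eq_mul]
      have h1 : (1 : ℝ) ≤ (t : ℕ) := by exact_mod_cast ht'
      nlinarith [mul_nonneg (sq_nonneg ((t : ℕ) : ℝ)) (by linarith : (0 : ℝ) ≤ (g : ℝ) - 1), mul_pos (lt_of_lt_of_le one_pos h1) (by linarith : (0 : ℝ) < (n : ℝ) + g)]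
    · rw [if_neg htq]
      have hsplit : ∑ i ∈ Finset.range (t : ℕ), (((t : ℕ) : ℝ) + g - (if i ≤ n - g then (i : ℝ) else (i : ℝ) + g)) =
          (∑ i ∈ Finset.range (t : ℕ), (((t : ℕ) : ℝ) - i)) + g * ((n - g + 1 : ℕ) : ℝ) := by
        rw [← Finset.sum_range_add_sum_Ico _ (show n - g + 1 ≤ (t : ℕ) by omega),
          ← Finset.sum_range_add_sum_Ico (fun i => ((t : ℕ) : ℝ) - i) (show n - g + 1 ≤ (t : ℕ) by omega)]
        rw [Finset.sum_congr rfl (g := fun i : ℕ => (((t : ℕ) : ℝ) - i) + g) fun i hi => by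
            rw [if_pos (by have := Finset.mem_range.mp hi; omega)]; ring,
          Finset.sum_congr (s₁ := Finset.Ico _ _) rfl (g := fun i : ℕ => ((t : ℕ) : ℝ) - i) fun i hi => by
            rw [if_neg (by have := Finset.mem_Ico.mp hi; omega)]; ring]
        rw [Finset.sum_add_distrib, Finset.sum_const, Finset.card_range, nsmul_eq_mul]
        ring
      rw [hsplit, Finset.sum_sub_distrib, hid, Finset.sum_const, Finset.card_range, nsmul_eq_mul]
      obtain ⟨w, hw⟩ : ∃ w, n = (t : ℕ) + w := ⟨n - t, by have := t.2; omega⟩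
      have hq : ((n - g + 1 : ℕ) : ℝ) = (n : ℝ) - g + 1 := by rw [Nat.cast_add, Nat.cast_sub (by omega)]; simp
      have htR : ((t : ℕ) : ℝ) = (n : ℝ) - w := by rw [eq_sub_iff_add_eq]; exact_mod_cast hw.symm
      rw [hq, htR]
      have hw0 : (0 : ℝ) ≤ w := Nat.cast_nonneg w
      nlinarith [mul_nonneg (mul_nonneg hw0 hw0) (by linarith : (0 : ℝ) ≤ (g : ℝ) - 1),
        mul_nonneg hw0 (by linarith : (0 : ℝ) ≤ (n : ℝ) + g),
        mul_pos (mul_pos (by linarith : (0 : ℝ) < (n : ℝ) + g) (by linarith : (0 : ℝ) < (g : ℝ))) (by linarith : (0 : ℝ) < (n : ℝ) - 2 * g + 1)]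
  -- some coefficient is positive
  obtain ⟨t₀, ht₀⟩ : ∃ t, a t ≠ 0 := by
    by_contra h
    push Not at h
    simp only [h, zero_mul, Finset.sum_const_zero, add_zero] at hr0
    refine hr (funext fun i => ?_)
    have heq : ∀ i, r i = r (Fin.last n) := fun i => le_antisymm (hr0 ▸ hanti (Fin.zero_le i)) (hanti (Fin.le_last i))
    rw [Finset.sum_congr rfl fun i _ => heq i, Finset.sum_const, Finset.card_univ, Fintype.card_fin, nsmul_eq_mul, mul_eq_zero] at hsum
    rw [heq i]
    exact hsum.resolve_left (by positivity)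
  have hpos : ∀ t, a t ≠ 0 → 0 < t := fun t ht => lt_of_not_ge fun h => ht (haz t h)
  have h1 : (∑ i : Fin (n + 1), (r (Fin.last n) + ∑ t, a t * max (E t - E i) 0)) ≤ 0 :=
    (Finset.sum_le_sum fun i _ => hbd i (Fin.zero_le i)).trans hsum.le
  rw [Finset.sum_add_distrib, Finset.sum_const, Finset.card_univ, Fintype.card_fin, nsmul_eq_mul, Finset.sum_comm] at h1
  simp only [← Finset.mul_sum] at h1
  have h2 : ((n : ℝ) + 1) * ∑ t, a t * E t ^ 2 < 2 * L * ∑ t, a t * ∑ i, max (E t - E i) 0 := by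
    simp only [Finset.mul_sum (s := (Finset.univ : Finset (Fin (n + 1)))) (f := fun t => a t * _)]
    refine Finset.sum_lt_sum (fun t _ => ?_) ⟨t₀, Finset.mem_univ _, ?_⟩
    · by_cases h : a t = 0
      · simp [h]
      · nlinarith [key t (hpos t h), ha0 t]
    · nlinarith [key t₀ (hpos t₀ ht₀), lt_of_le_of_ne (ha0 t₀) (Ne.symm ht₀)]
  have hE0' : ∀ t : Fin (n + 1), max (E t) 0 = E t := fun t => max_eq_left (hE0 ▸ hEmono.monotone (Fin.zero_le t))
  simp only [sub_zero, hE0'] at hS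
  have hL : 0 < L := by simp only [L]; exact_mod_cast (show 0 < n + g by omega)
  push_cast at h1
  have h3 := mul_le_mul_of_nonneg_left h1 (mul_nonneg zero_le_two hL.le)
  have : ((n : ℝ) + 1) * (2 * L * r (Fin.last n) + ∑ t, a t * E t ^ 2) < 0 := by nlinarith
  refine lt_of_le_of_lt hle3 ?_
  rw [hS]
  exact neg_of_mul_neg_right (by linarith) (by positivity : (0 : ℝ) ≤ (n : ℝ) + 1)

end Groth.Agent.S12549
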