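import Groth.Statements.S12550
import Mathlib


-- import your own Groth.Agent.* helpers here

set_option autoImplicit false
universe u
open GIT

namespace Groth.Agent.S12550

/-- Let V be a finite-dimensional vector space over a field K and x_0, …, x_m non-zero vectors, a
configuration of m + 1 points of the projective space P(V). If for every subspace L with 0 ≠ L ≠ V
the number of indices i with x_i ∈ L, multiplied by dim V, is less than dim L · (m + 1) (the
configuration is stable), then no two proper subspaces L', L'' with L' ∩ L'' = 0 contain between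
them all the x_i. -/
theorem result (K : Type u) [Field K]
    (V : Type u) [AddCommGroup V] [Module K V] [FiniteDimensional K V]
    (m : ℕ) (x : Fin (m + 1) → V) (hx : ∀ i, x i ≠ 0)
    (hst : ∀ L : Submodule K V, L ≠ ⊥ → L ≠ ⊤ →
      Set.ncard {i : Fin (m + 1) | x i ∈ L} * Module.finrank K V < Module.finrank K L * (m + 1)) :
    ¬ ∃ L' L'' : Submodule K V, L' ≠ ⊤ ∧ L'' ≠ ⊤ ∧ Disjoint L' L'' ∧ ∀ i, x i ∈ L' ∨ x i ∈ L'' := by
  classical
  rintro ⟨L', L'', h', h'', hd, hall⟩
  have hV : 0 < Module.finrank K V := by
    rw [Module.finrank_pos_iff_exists_ne_zero]; exact ⟨x 0, hx 0⟩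
  have single : ∀ L : Submodule K V, L ≠ ⊤ → ¬ ∀ i, x i ∈ L := by
    intro L hL hin
    have hb : L ≠ ⊥ := fun h => hx 0 (by simpa [h] using hin 0)
    have := hst L hb hL
    rw [show {i : Fin (m + 1) | x i ∈ L} = Set.univ from Set.eq_univ_of_forall hin, Set.ncard_univ, Nat.card_fin,
      mul_comm] at this
    exact absurd this (Nat.not_lt.mpr (Nat.mul_le_mul_right _ (Submodule.finrank_le L)))
  by_cases hb' : L' = ⊥
  · exact single L'' h'' fun i => (hall i).resolve_left fun h => hx i (by simpa [hb'] using h)
  by_cases hb'' : L'' = ⊥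
  · exact single L' h' fun i => (hall i).resolve_right fun h => hx i (by simpa [hb''] using h)
  have e1 := hst L' hb' h'
  have e2 := hst L'' hb'' h''
  have hsum : Module.finrank K L' + Module.finrank K L'' ≤ Module.finrank K V := by
    rw [← Submodule.finrank_sup_add_finrank_inf_eq, hd.eq_bot, finrank_bot, add_zero]
    exact Submodule.finrank_le _
  have hc : m + 1 ≤ Set.ncard {i : Fin (m + 1) | x i ∈ L'} + Set.ncard {i : Fin (m + 1) | x i ∈ L''} := by
    refine le_trans (le_of_eq ?_) (Set.ncard_union_le _ _)
    rw [show {i : Fin (m + 1) | x i ∈ L'} ∪ {i : Fin (m + 1) | x i ∈ L''} = Set.univ from Set.eq_univ_of_forall hall,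
      Set.ncard_univ, Nat.card_fin]
  nlinarith

end Groth.Agent.S12550
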