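import Groth.Statements.S12551
import Groth.Agent.FormStabLib.Coords

set_option autoImplicit false
universe u
open TensorProduct LaurentPolynomial
open GIT

namespace Groth.Agent.S12551

theorem weight_cases {Γ : Type*} [LinearOrderedCommGroupWithZero Γ] (w : Fin 3 → Γ) (hanti : Antitone w)
    (hprod : w 0 * w 1 * w 2 = 1) (hne : ¬ ∀ i, w i = 1) :
    1 < w 0 ∧ w 2 < 1 := by
  have h01 : w 1 ≤ w 0 := hanti (by decide)
  have h12 : w 2 ≤ w 1 := hanti (by decide)
  constructor
  · by_contra h
    rw [not_lt] at h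
    have h1 : w 1 ≤ 1 := h01.trans h
    have h2 : w 2 ≤ 1 := h12.trans h1
    have e0 : w 0 = 1 := le_antisymm h (by
      calc (1 : Γ) = w 0 * w 1 * w 2 := hprod.symm
        _ ≤ w 0 * 1 * 1 := mul_le_mul' (mul_le_mul' le_rfl h1) h2
        _ = w 0 := by rw [mul_one, mul_one])
    have e1 : w 1 = 1 := le_antisymm h1 (by
      calc (1 : Γ) = w 0 * w 1 * w 2 := hprod.symm
        _ ≤ 1 * w 1 * 1 := mul_le_mul' (mul_le_mul' h le_rfl) h2
        _ = w 1 := by rw [one_mul, mul_one])
    have e2 : w 2 = 1 := by rwa [e0, e1, one_mul, one_mul] at hprod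
    exact hne (fun i => by fin_cases i <;> assumption)
  · by_contra h
    rw [not_lt] at h
    have h1 : 1 ≤ w 1 := h.trans h12
    have h0 : 1 ≤ w 0 := h1.trans h01
    have e2 : w 2 = 1 := le_antisymm (by
      calc w 2 = 1 * 1 * w 2 := by rw [one_mul, one_mul]
        _ ≤ w 0 * w 1 * w 2 := mul_le_mul' (mul_le_mul' h0 h1) le_rfl
        _ = 1 := hprod) h
    have e1 : w 1 = 1 := le_antisymm (by
      calc w 1 = 1 * w 1 * 1 := by rw [one_mul, mul_one]
        _ ≤ w 0 * w 1 * w 2 := mul_le_mul' (mul_le_mul' h0 le_rfl) h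
        _ = 1 := hprod) h1
    have e0 : w 0 = 1 := by rwa [e1, e2, mul_one, mul_one] at hprod
    exact hne (fun i => by fin_cases i <;> assumption)

theorem idx_eq {k : Type u} [CommSemiring k] (G : MvPolynomial (Fin 3) k) (e : Fin 3 →₀ ℕ) (p q r : ℕ)
    (h : G.coeff (Finsupp.single 0 p + Finsupp.single 1 q + Finsupp.single 2 r) = 0)
    (h0 : e 0 = p) (h1 : e 1 = q) (h2 : e 2 = r) : G.coeff e = 0 := by
  convert h using 2
  ext l; fin_cases l <;> simp [h0, h1, h2]

/-- Let k be an algebraically closed field of characteristic zero and let SL_3 act by substitution on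
ternary quartic forms, the point a having the form F = Σ_e (4; e) a_e x^e. Then a fails to be stable
(closed orbit and finite stabiliser) if and only if there is a matrix M of determinant 1 such that
the form F'(x) = F(Mx) = Σ b_ij x_0^(4−i−j) x_1^i x_2^j has b_00 = b_10 = b_01 = b_20 = b_11 = 0 and
in addition b_02 = 0 or b_30 = 0: in suitable coordinates the quartic curve has a triple point at
(1:0:0), or a tacnode there with tangent line x_2 = 0. -/
theorem result (k : Type u) [Field k] [IsAlgClosed k] [CharZero k]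
    (a : CoordGrp.FormIdx 3 4 → k) :
    ¬ @GLin.IsStableVec k _ (CoordGrp.SLn 3 k) _ _ (CoordGrp.FormIdx 3 4) (GLin.comodAlong ((CoordGrp.SLn.mkHom 3 k).comp (CoordGrp.Mat.toGLn 3 k)) (CoordGrp.formsCoact k 3 4))
      (GLin.isCoactAlg_comodAlong ((CoordGrp.SLn.mkHom 3 k).comp (CoordGrp.Mat.toGLn 3 k)) (CoordGrp.formsCoact k 3 4)
        (CoordGrp.formsCoact_isCoactAlg k 3 4))
      a ↔
      ∃ M : Matrix (Fin 3) (Fin 3) k, M.det = 1 ∧
        ∃ F' : MvPolynomial (Fin 3) k,
          F' = MvPolynomial.aeval (fun i : Fin 3 => ∑ j : Fin 3, MvPolynomial.C (M i j) * MvPolynomial.X j)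
              (CoordGrp.formPoly a) ∧
          (∀ ij : ℕ × ℕ, ij ∈ ({(0, 0), (1, 0), (0, 1), (2, 0), (1, 1)} : Finset (ℕ × ℕ)) →
            F'.coeff (Finsupp.single 0 (4 - ij.1 - ij.2) + Finsupp.single 1 ij.1 + Finsupp.single 2 ij.2) = 0) ∧
          (F'.coeff (Finsupp.single 0 2 + Finsupp.single 2 2) = 0 ∨
            F'.coeff (Finsupp.single 0 1 + Finsupp.single 1 3) = 0) := by
  classical
  set F := CoordGrp.formPoly a with hFdef
  have hF : F.IsHomogeneous 4 := FormStabLib.formPoly_isHomogeneous _
  constructor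
  · intro hns
    by_contra hcon
    refine hns (FormStabLib.isStableVec_of_noDestab a (FormStabLib.noDestab_of_sorted fun M hM Γ _ w hanti hprod hw => ?_))
    by_contra hne
    rw [Fin.prod_univ_three] at hprod
    obtain ⟨hA, hC⟩ := weight_cases w hanti hprod hne
    have hA' : (1 : Γ) ≤ w 0 := hA.le
    have hz : ∀ i j l : ℕ, 1 < w 0 ^ i * w 1 ^ j * w 2 ^ l →
        (FormStabLib.sub M F).coeff (Finsupp.single 0 i + Finsupp.single 1 j + Finsupp.single 2 l) = 0 := by
      intro i j l hlt
      by_contra h0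
      have := hw _ (MvPolynomial.mem_support_iff.2 h0)
      rw [Fin.prod_univ_three] at this
      simp at this
      exact absurd this (not_le.2 hlt)
    have hone : 1 < w 0 ^ 2 * w 1 * w 2 := by
      rw [pow_two, mul_assoc, mul_assoc, ← mul_assoc (w 0) (w 1), hprod, mul_one]; exact hA
    have h01 : w 1 ≤ w 0 := hanti (by decide)
    have h12 : w 2 ≤ w 1 := hanti (by decide)
    refine hcon ⟨M, hM, _, rfl, ?_, ?_⟩
    · intro ij hij
      simp only [Finset.mem_insert, Finset.mem_singleton] at hij
      refine hz _ _ _ ?_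
      rcases hij with rfl | rfl | rfl | rfl | rfl
      · simpa using one_lt_pow₀ hA (by norm_num)
      · refine hone.trans_le ?_
        calc w 0 ^ 2 * w 1 * w 2 ≤ w 0 ^ 2 * w 1 * w 0 := mul_le_mul' le_rfl (h12.trans h01)
          _ = w 0 ^ (4 - 1 - 0) * w 1 ^ 1 * w 2 ^ 0 := by simp [pow_succ, mul_assoc, mul_comm, mul_left_comm]
      · refine hone.trans_le ?_
        calc w 0 ^ 2 * w 1 * w 2 ≤ w 0 ^ 2 * w 0 * w 2 := mul_le_mul' (mul_le_mul' le_rfl h01) le_rfl
          _ = w 0 ^ (4 - 0 - 1) * w 1 ^ 0 * w 2 ^ 1 := by simp [pow_succ, mul_assoc]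
      · -- `(w 0 * w 1)^2 = (w 2)⁻²`
        have h' : 1 < w 0 * w 1 := by
          by_contra h'
          rw [not_lt] at h'
          have := (mul_le_of_le_one_left' h' : w 0 * w 1 * w 2 ≤ w 2).trans_lt hC
          rw [hprod] at this
          exact lt_irrefl _ this
        have h2 := one_lt_pow₀ h' (n := 2) (by norm_num)
        rw [mul_pow] at h2
        simpa using h2
      · simpa using hone
    · rcases le_or_gt 1 (w 1) with h1 | h1
      · refine Or.inr ?_
        have := hz 1 3 0 (by
          simp only [pow_one, pow_zero, mul_one]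
          exact lt_of_lt_of_le hA (le_mul_of_one_le_right' (one_le_pow_of_one_le' h1 3)))
        simp only [Finsupp.single_zero, add_zero] at this
        exact this
      · refine Or.inl ?_
        have := hz 2 0 2 (by
          have h' : 1 < w 0 * w 2 := by
            by_contra h'
            rw [not_lt] at h'
            have h'' := (mul_le_of_le_one_left' h' : w 0 * w 2 * w 1 ≤ w 1).trans_lt h1
            rw [mul_right_comm, hprod] at h''
            exact lt_irrefl _ h''
          have h2 := one_lt_pow₀ h' (n := 2) (by norm_num)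
          rw [mul_pow] at h2
          simpa using h2)
        simp only [Finsupp.single_zero, add_zero] at this
        exact this
  · rintro ⟨M, hM, F', rfl, hfive, hsix⟩ hst
    have key : ∀ r : Fin 3 → ℤ, (∑ i, r i = 0) → r ≠ 0 →
        (∀ p q t : ℕ, p + q + t = 4 → (MvPolynomial.coeff (Finsupp.single 0 p + Finsupp.single 1 q + Finsupp.single 2 t)
          (FormStabLib.sub M F) ≠ 0) → (p : ℤ) * r 0 + q * r 1 + t * r 2 ≤ 0) → False := by
      intro r hr hr0 hwt
      refine FormStabLib.not_isStableVec_of_weights (k := k) FormStabLib.multinomial_ne_zero a M hM r hr hr0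
        (fun e he => ?_) hst
      have hd := FormStabLib.degree_of_mem_support hF M he
      rw [Fin.sum_univ_three] at hd ⊢
      exact hwt _ _ _ hd fun h0 => MvPolynomial.mem_support_iff.1 he (idx_eq _ e _ _ _ h0 rfl rfl rfl)
    have hz : ∀ p q t : ℕ, p + q + t = 4 → (q, t) ∈ ({(0, 0), (1, 0), (0, 1), (2, 0), (1, 1)} : Finset (ℕ × ℕ)) →
        MvPolynomial.coeff (Finsupp.single 0 p + Finsupp.single 1 q + Finsupp.single 2 t) (FormStabLib.sub M F) = 0 := by
      intro p q t hpqt hmem
      have := hfive (q, t) hmem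
      rwa [show 4 - q - t = p by omega] at this
    rcases hsix with h6 | h6
    · refine key ![2, -1, -1] (by simp [Fin.sum_univ_three]) (fun h => by simpa using congrFun h 0)
        fun p q t hpqt hne => ?_
      have h2 : ¬ (p = 2 ∧ q = 0 ∧ t = 2) := by
        rintro ⟨rfl, rfl, rfl⟩; exact hne (by simp only [Finsupp.single_zero, add_zero]; exact h6)
      simp
      by_contra hlt
      refine hne (hz p q t hpqt ?_)
      simp
      omega
    · refine key ![1, 0, -1] (by simp [Fin.sum_univ_three]) (fun h => by simpa using congrFun h 0)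
        fun p q t hpqt hne => ?_
      have h2 : ¬ (p = 1 ∧ q = 3 ∧ t = 0) := by
        rintro ⟨rfl, rfl, rfl⟩; exact hne (by simp only [Finsupp.single_zero, add_zero]; exact h6)
      simp
      by_contra hlt
      refine hne (hz p q t hpqt ?_)
      simp
      omega

end Groth.Agent.S12551
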