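import Groth.Statements.S12552
import Groth.Agent.BasePolyLib.Basic


-- import your own Groth.Agent.* helpers here

set_option autoImplicit false
universe u
open GIT

namespace Groth.Agent.S12552

/-- Let V be a finite-dimensional vector space over a field K and x_0, …, x_m non-zero vectors, a
configuration of m + 1 points of P(V); a set S of dim V indices with (x_j)_(j ∈ S) linearly
independent is a determinant section non-zero at the configuration. Then the configuration is stable
(for every subspace L with 0 ≠ L ≠ V, the number of i with x_i ∈ L times dim V is less than dim L ·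
(m + 1)) if and only if there are integers N ≥ N_0 > 0 such that for each index i some non-empty
finite multiset of such sets S contains every index j ≠ i exactly N times and the index i exactly N
− N_0 times (a monomial in the determinant sections, non-zero at the configuration, of multidegree
(N, …, N − N_0, …, N) with the N − N_0 in place i). -/
theorem result (K : Type u) [Field K]
    (V : Type u) [AddCommGroup V] [Module K V] [FiniteDimensional K V]
    (m : ℕ) (x : Fin (m + 1) → V) (hx : ∀ i, x i ≠ 0) :
    (∀ L : Submodule K V, L ≠ ⊥ → L ≠ ⊤ →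
        Set.ncard {i : Fin (m + 1) | x i ∈ L} * Module.finrank K V < Module.finrank K L * (m + 1)) ↔
      ∃ N N₀ : ℕ, 0 < N₀ ∧ N₀ ≤ N ∧
        ∀ i : Fin (m + 1), ∃ P : Multiset (Finset (Fin (m + 1))), P ≠ 0 ∧
          (∀ S ∈ P, S.card = Module.finrank K V ∧ LinearIndependent K (fun j : S => x j)) ∧
          ∀ j : Fin (m + 1),
            Multiset.card (P.filter (fun S => j ∈ S)) = if j = i then N - N₀ else N := by
  classical
  set n := Module.finrank K V with hn_def
  have hn : 0 < n := by
    by_contra h
    have : Subsingleton V := (Module.finrank_zero_iff (R := K)).1 (by omega)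
    exact hx 0 (Subsingleton.elim _ _)
  have hline : ∀ (i : Fin (m + 1)) (L : Submodule K V), x i ∈ L → 0 < Module.finrank K L := fun i L hi =>
    Module.finrank_pos_iff_exists_ne_zero.2 ⟨⟨x i, hi⟩, fun h => hx i (congrArg Subtype.val h)⟩
  constructor
  · intro hst
    let M := m + 1
    let N := n + 1
    have hspan : Submodule.span K (Set.range x) = ⊤ := by
      by_contra h
      have hb : Submodule.span K (Set.range x) ≠ ⊥ := fun h' =>
        hx 0 ((Submodule.mem_bot K).1 (h' ▸ Submodule.subset_span (Set.mem_range_self 0)))
      have h1 := hst _ hb h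
      have h2 : {i : Fin (m + 1) | x i ∈ Submodule.span K (Set.range x)} = Set.univ :=
        Set.eq_univ_of_forall fun i => Submodule.subset_span (Set.mem_range_self i)
      rw [h2, Set.ncard_univ, Nat.card_fin] at h1
      have h3 := Submodule.finrank_le (Submodule.span K (Set.range x))
      nlinarith
    have hT : 1 ≤ M * N := Nat.one_le_iff_ne_zero.2 (by positivity)
    have hexi : ∀ i : Fin (m + 1), ∃ D : ℕ, 0 < D ∧ ∀ q : ℕ, ∃ P : Multiset (Finset (Fin (m + 1))),
        (∀ S ∈ P, BasePolyLib.IsBase K x S) ∧
        ∀ j, (Multiset.card (P.filter (fun S => j ∈ S)) : ℚ) =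
          q * D * ((n : ℚ) * ((N : ℚ) - if j = i then 1 else 0) / ((M : ℚ) * N - 1)) := by
      intro i
      have hTq : (0 : ℝ) < (M : ℝ) * N - 1 := by
        have h1 : (1 : ℝ) ≤ M := by simp [M]
        have h2 : (2 : ℝ) ≤ N := by
          have : (1 : ℝ) ≤ (n : ℝ) := by exact_mod_cast hn
          simp only [N]; push_cast; linarith
        nlinarith
      refine BasePolyLib.exists_multiset x hn _ (BasePolyLib.mem_convexHull x hspan _ ?_ fun U => ?_)
      · push_cast [apply_ite (Rat.cast : ℚ → ℝ)]
        rw [← Finset.sum_div, ← Finset.mul_sum, Finset.sum_sub_distrib, Finset.sum_const, Finset.sum_ite_eq' _ i]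
        simp only [Finset.mem_univ, if_true, Finset.card_univ, Fintype.card_fin, nsmul_eq_mul]
        rw [← hn_def, div_eq_iff hTq.ne']
      · push_cast [apply_ite (Rat.cast : ℚ → ℝ)]
        rw [← Finset.sum_div, ← Finset.mul_sum, Finset.sum_sub_distrib, Finset.sum_const, Finset.sum_ite_eq' _ i, div_le_iff₀ hTq,
          nsmul_eq_mul]
        set L := Submodule.span K (x '' (U : Set (Fin (m + 1)))) with hL
        rcases U.eq_empty_or_nonempty with rfl | ⟨u, hu⟩
        · simp only [Finset.card_empty, Nat.cast_zero, zero_mul, Finset.notMem_empty, if_false, sub_zero, mul_zero]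
          positivity
        have hlpos := hline u L (Submodule.subset_span ⟨u, hu, rfl⟩)
        by_cases htop : L = ⊤
        · rw [htop, finrank_top, ← hn_def]
          have hUM : (U.card : ℝ) ≤ M := by
            have := Finset.card_le_univ U
            rw [Fintype.card_fin] at this
            exact_mod_cast this
          refine mul_le_mul_of_nonneg_left ?_ (Nat.cast_nonneg _)
          split_ifs with hi
          · nlinarith [(Nat.cast_nonneg N : (0:ℝ) ≤ N)]
          · have hlt : U.card + 1 ≤ M := by
              have := Finset.card_lt_univ_of_notMem hi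
              rw [Fintype.card_fin] at this
              omega
            have hlt' : (U.card : ℝ) + 1 ≤ M := by exact_mod_cast hlt
            have h2 : (1 : ℝ) ≤ N := by simp [N]
            nlinarith
        · have h1 := hst L (fun h => by rw [h, finrank_bot] at hlpos; omega) htop
          have h2 : U.card ≤ Set.ncard {i : Fin (m + 1) | x i ∈ L} := by
            rw [← Set.ncard_coe_finset]
            exact Set.ncard_le_ncard fun j hj => Submodule.subset_span ⟨j, hj, rfl⟩
          have h3 : U.card * n + 1 ≤ Module.finrank K L * M := by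
            have h2' : U.card * n ≤ Set.ncard {i : Fin (m + 1) | x i ∈ L} * n := Nat.mul_le_mul_right _ h2
            simp only [M]
            omega
          have h4 : Module.finrank K L ≤ N := by
            have := Submodule.finrank_le L
            omega
          have h3' : (U.card : ℝ) * n + 1 ≤ Module.finrank K L * M := by exact_mod_cast h3
          have h4' : (Module.finrank K L : ℝ) ≤ N := by exact_mod_cast h4
          have h5 : (0 : ℝ) ≤ (if i ∈ U then (1 : ℝ) else 0) := by split_ifs <;> norm_num
          have hN0 : (0 : ℝ) ≤ N := Nat.cast_nonneg _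
          nlinarith [mul_le_mul_of_nonneg_left h3' hN0, mul_nonneg (Nat.cast_nonneg n : (0:ℝ) ≤ n) h5]
    choose D hD P hP hcount using hexi
    let E := ∏ i, D i
    have hE : 0 < E := Finset.prod_pos fun i _ => hD i
    refine ⟨n * E * N, n * E, Nat.mul_pos hn hE, Nat.le_mul_of_pos_right _ (by omega), fun i => ?_⟩
    let q : ℕ := (M * N - 1) * ∏ i' ∈ Finset.univ.erase i, D i'
    refine ⟨P i q, ?_, fun S hS => hP i q S hS, fun j => ?_⟩
    · intro h0
      have := hcount i q i
      rw [h0] at this
      simp only [Multiset.filter_zero, Multiset.card_zero, Nat.cast_zero, if_pos] at this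
      have hN1 : (0 : ℚ) < (N : ℚ) - 1 := by simp [N, hn]
      have hM1 : 0 < M * N - 1 := by
        have : 2 ≤ M * N := le_trans (by omega : 2 ≤ N) (Nat.le_mul_of_pos_left _ (by omega))
        omega
      have hq : 0 < q := Nat.mul_pos hM1 (Finset.prod_pos fun i' _ => hD i')
      have hMq : (0 : ℚ) < (M : ℚ) * N - 1 := by
        have : ((M * N - 1 : ℕ) : ℚ) = (M : ℚ) * N - 1 := by rw [Nat.cast_sub hT]; push_cast; rfl
        rw [← this]; exact_mod_cast hM1
      have : (0 : ℚ) < q * D i * ((n : ℚ) * ((N : ℚ) - 1) / ((M : ℚ) * N - 1)) :=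
        mul_pos (mul_pos (by exact_mod_cast hq) (by exact_mod_cast hD i)) (div_pos (mul_pos (by exact_mod_cast hn) hN1) hMq)
      linarith
    · apply Nat.cast_injective (R := ℚ)
      rw [hcount i q j]
      have hME : (q : ℚ) * D i = ((M : ℚ) * N - 1) * E := by
        have hpr : D i * ∏ i' ∈ Finset.univ.erase i, D i' = E := Finset.mul_prod_erase _ _ (Finset.mem_univ i)
        rw [← hpr]
        simp only [q, Nat.cast_mul, Nat.cast_sub hT, Nat.cast_one]
        ring
      rw [hME]
      have hne : ((M : ℚ) * N - 1) ≠ 0 := by
        have h2 : (2 : ℚ) ≤ N := by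
          have : (1 : ℚ) ≤ (n : ℚ) := by exact_mod_cast hn
          simp only [N]; push_cast; linarith
        have h1 : (1 : ℚ) ≤ M := by simp [M]
        nlinarith
      field_simp
      split_ifs
      · rw [Nat.cast_sub (Nat.le_mul_of_pos_right _ (by omega))]; push_cast; ring
      · push_cast; ring
  · rintro ⟨N, N₀, h0, hle, hP⟩ L hbot htop
    set U := Finset.univ.filter (fun i : Fin (m + 1) => x i ∈ L) with hU
    have hncard : Set.ncard {i : Fin (m + 1) | x i ∈ L} = U.card := by
      rw [← Set.ncard_coe_finset]; congr 1; ext; simp [hU]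
    rw [hncard]
    have hl : 0 < Module.finrank K L := Nat.pos_of_ne_zero fun h => hbot (Submodule.finrank_eq_zero.1 h)
    have hll : Module.finrank K L < n := Submodule.finrank_lt htop
    have hgen : ∀ (S : Finset (Fin (m + 1))), LinearIndependent K (fun j : S => x j) →
        (U ∩ S).card ≤ Module.finrank K L := by
      intro S hS
      have h1 : LinearIndependent K (fun j : (U ∩ S : Finset _) => (⟨x j, (Finset.mem_filter.1 (Finset.mem_of_mem_inter_left j.2)).2⟩ : L)) := by
        refine LinearIndependent.of_comp L.subtype ?_
        exact hS.comp (fun j : (U ∩ S : Finset _) => (⟨j, Finset.mem_of_mem_inter_right j.2⟩ : S))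
          (fun a b h => Subtype.ext (by simpa using h))
      exact (Fintype.card_coe (U ∩ S)).symm.le.trans h1.fintype_card_le_finrank
    have hcount : ∀ (W : Finset (Fin (m + 1))) (P : Multiset (Finset (Fin (m + 1)))),
        ∑ j ∈ W, Multiset.card (P.filter (fun S => j ∈ S)) = (P.map fun S => (W ∩ S).card).sum := by
      intro W P
      induction P using Multiset.induction with
      | empty => simp
      | cons S P ih =>
        rw [Multiset.map_cons, Multiset.sum_cons, ← ih, ← Finset.filter_mem_eq_inter, Finset.card_filter,
          ← Finset.sum_add_distrib]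
        refine Finset.sum_congr rfl fun j _ => ?_
        rw [Multiset.filter_cons]
        split_ifs <;> simp [add_comm]
    rcases U.eq_empty_or_nonempty with hUe | hUne
    · rw [hUe]; simp only [Finset.card_empty, zero_mul]
      exact Nat.mul_pos hl (Nat.succ_pos m)
    have hex : ∃ i, i ∉ U := by
      by_contra h
      push Not at h
      obtain ⟨P, hP0, hPb, -⟩ := hP 0
      obtain ⟨S, hS⟩ := Multiset.exists_mem_of_ne_zero hP0
      have h1 := hgen S (hPb S hS).2
      rw [Finset.inter_eq_right.2 (fun j _ => h j), (hPb S hS).1] at h1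
      omega
    obtain ⟨i, hi⟩ := hex
    obtain ⟨P, hP0, hPb, hPc⟩ := hP i
    have hA : U.card * N ≤ Multiset.card P * Module.finrank K L := by
      have h1 : ∑ j ∈ U, Multiset.card (P.filter (fun S => j ∈ S)) = U.card * N := by
        rw [Finset.sum_congr rfl (g := fun _ => N) (fun j hj => by rw [hPc j, if_neg (fun h : j = i => hi (h ▸ hj))]), Finset.sum_const, smul_eq_mul]
      rw [← h1, hcount, ← smul_eq_mul, ← Multiset.card_map (fun S => (U ∩ S).card) P]
      exact Multiset.sum_le_card_nsmul _ _ (fun k hk => by
        obtain ⟨S, hS, rfl⟩ := Multiset.mem_map.1 hk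
        exact hgen S (hPb S hS).2)
    have hB : Multiset.card P * n + N₀ = (m + 1) * N := by
      have h1 : ∑ j, Multiset.card (P.filter (fun S => j ∈ S)) = Multiset.card P * n := by
        rw [hcount, Multiset.map_congr rfl (fun S hS => by rw [Finset.univ_inter, (hPb S hS).1]), Multiset.map_const',
          Multiset.sum_replicate, smul_eq_mul]
      rw [← h1, Finset.sum_congr rfl (fun j _ => hPc j), ← Finset.add_sum_erase _ _ (Finset.mem_univ i), if_pos rfl,
        Finset.sum_congr rfl (fun j hj => if_neg (Finset.ne_of_mem_erase hj)), Finset.sum_const, smul_eq_mul,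
        Finset.card_erase_of_mem (Finset.mem_univ i), Finset.card_univ, Fintype.card_fin, Nat.add_sub_cancel]
      rw [add_mul, one_mul]
      omega
    by_contra hcon
    push Not at hcon
    nlinarith [Nat.mul_le_mul_right n hA, Nat.mul_le_mul_left N hcon, Nat.mul_pos hl h0]

end Groth.Agent.S12552
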