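import Groth.Statements.S12553
import Mathlib


-- import your own Groth.Agent.* helpers here

set_option autoImplicit false
universe u
open TensorProduct LaurentPolynomial
open GIT

namespace Groth.Agent.S12553

/-- Let k be a field and T = Spec A a diagonalizable affine group (A a commutative Hopf algebra spanned
by its group-like elements, e.g. a torus) acting linearly on affine ι-space. Then there are finitely
many characters χ_1, …, χ_N of T (group-like elements of A) such that every vector v ≠ 0 has a
non-empty set I of indices for which, for every one-parameter subgroup λ of T with λ(χ_j) = t^(e_j),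
the numerical function μ(v, λ) (the m for which t^m · (v moved by λ(t)) tends to a non-zero vector)
equals the maximum of −e_j over j ∈ I: μ is the maximum of finitely many linear functionals on
one-parameter subgroups. (The published proposition concerns a maximal torus of a reductive group
acting on a proper scheme with an ample linearised invertible sheaf; this row is the case of
projective space with the hyperplane bundle, for any diagonalizable group acting linearly, stated on
the affine cone.) -/
theorem result (k : Type u) [Field k]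
    (A : Type u) [CommRing A] [HopfAlgebra k A] (hdiag : HopfRep.IsDiagonalizable k A)
    (ι : Type u) [Fintype ι] [HopfRep.Comod k A (MvPolynomial ι k)] [GLin.IsCoactAlg k A (MvPolynomial ι k)]
    (hlin : GLin.IsLinear k A ι) :
    ∃ (N : ℕ) (χ : Fin N → A), (∀ j, IsGroupLikeElem k (χ j)) ∧
      ∀ v : ι → k, v ≠ 0 → ∃ I : Finset (Fin N), I.Nonempty ∧
        ∀ (lam : A →ₐc[k] k[T;T⁻¹]) (e : Fin N → ℤ), (∀ j, lam (χ j) = LaurentPolynomial.T (e j)) →
          ∀ m : ℤ, GLin.IsMu k A lam v m ↔ ((∀ j ∈ I, -e j ≤ m) ∧ ∃ j ∈ I, m = -e j) := by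
  open scoped TensorProduct in
  open LaurentPolynomial in
  classical
  choose m hm using hlin
  have hspan : ∀ i j, ∃ T : Finset A, (T : Set A) ⊆ {a | IsGroupLikeElem k a} ∧ m i j ∈ Submodule.span k (T : Set A) := fun i j =>
    Submodule.mem_span_finite_of_mem_span (by rw [show Submodule.span k {a : A | IsGroupLikeElem k a} = ⊤ from hdiag]; trivial)
  choose U hTsub hTmem using hspan
  let S : Finset A := Finset.univ.biUnion fun i => Finset.univ.biUnion fun j => U i j
  have hSgl : ∀ a ∈ S, IsGroupLikeElem k a := fun a ha => by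
    simp only [S, Finset.mem_biUnion, Finset.mem_univ, true_and] at ha
    obtain ⟨i, j, ha⟩ := ha
    exact hTsub i j ha
  let χ : Fin S.card → A := fun a => (S.equivFin.symm a : A)
  have hχgl : ∀ a, IsGroupLikeElem k (χ a) := fun a => hSgl _ (S.equivFin.symm a).2
  have hli : LinearIndependent k χ :=
    (linearIndepOn_isGroupLikeElem (R := k) (A := A)).comp (fun a => (⟨χ a, hχgl a⟩ : {a : A | IsGroupLikeElem k a}))
      fun a b h => S.equivFin.symm.injective (Subtype.ext (congrArg Subtype.val h :))
  have hmem : ∀ i j, m i j ∈ Submodule.span k (Set.range χ) := fun i j => by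
    refine Submodule.span_mono ?_ (hTmem i j)
    intro a ha
    have haS : a ∈ S := by simp only [S, Finset.mem_biUnion, Finset.mem_univ, true_and]; exact ⟨i, j, ha⟩
    exact ⟨S.equivFin ⟨a, haS⟩, by simp [χ]⟩
  have hc' : ∀ i j, ∃ c : Fin S.card → k, ∑ a, c a • χ a = m i j := fun i j =>
    (Submodule.mem_span_range_iff_exists_fun k).1 (hmem i j)
  choose c hc using hc'
  obtain ⟨g, hg⟩ := LinearMap.exists_leftInverse_of_injective (Fintype.linearCombination k χ)
    (LinearMap.ker_eq_bot.2 hli.fintypeLinearCombination_injective)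
  have hgχ : ∀ a b, g (χ a) b = if a = b then 1 else 0 := fun a b => by
    have h := congrFun (LinearMap.congr_fun hg (Pi.single a 1)) b
    simpa [Fintype.linearCombination_apply, Pi.single_apply, eq_comm] using h
  let f : Fin S.card → A →ₗ[k] k := fun b => LinearMap.proj b ∘ₗ g
  have hf : ∀ a b, f b (χ a) = if a = b then 1 else 0 := hgχ
  have hfm : ∀ i j b, f b (m i j) = c i j b := fun i j b => by
    rw [← hc i j, map_sum]; simp [hf]
  -- counit
  have hcu : ∀ i j, ∑ a, c i j a = if j = i then 1 else 0 := by
    intro i j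
    have h := LinearMap.congr_fun (HopfRep.Comod.counit_comp (k := k) (A := A) (V := MvPolynomial ι k)) (MvPolynomial.X i)
    rw [LinearMap.comp_apply, hm i, map_sum] at h
    simp only [LinearMap.lTensor_tmul, LinearMap.flip_apply, TensorProduct.mk_apply] at h
    have h2 := congrArg (fun z => MvPolynomial.lcoeff k (Finsupp.single j 1) (TensorProduct.rid k (MvPolynomial ι k) z)) h
    simp only [map_sum, TensorProduct.rid_tmul, one_smul, map_smul, MvPolynomial.lcoeff_apply, MvPolynomial.coeff_X', smul_eq_mul,
      Finsupp.single_left_inj (one_ne_zero' ℕ), mul_ite, mul_one, mul_zero, Finset.sum_ite_eq', Finset.mem_univ, if_true] at h2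
    rw [show (if j = i then (1:k) else 0) = if i = j then 1 else 0 by simp [eq_comm], ← h2, ← hc i j, map_sum]
    exact Finset.sum_congr rfl fun a _ => by simp [(hχgl a).counit_eq_one]
  -- coassociativity
  have hca : ∀ i l a b, ∑ j, c j l a * c i j b = if a = b then c i l a else 0 := by
    intro i l a b
    have h := LinearMap.congr_fun (HopfRep.Comod.coassoc (k := k) (A := A) (V := MvPolynomial ι k)) (MvPolynomial.X i)
    rw [LinearMap.comp_apply, LinearMap.comp_apply, LinearMap.comp_apply, hm i] at h
    simp only [map_sum, LinearMap.rTensor_tmul, LinearMap.lTensor_tmul, LinearEquiv.coe_coe, hm, TensorProduct.sum_tmul,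
      TensorProduct.assoc_tmul] at h
    have h2 := congrArg (fun z => TensorProduct.lid k k (TensorProduct.map (MvPolynomial.lcoeff k (Finsupp.single l 1))
      ((TensorProduct.lid k k).toLinearMap ∘ₗ TensorProduct.map (f a) (f b)) z)) h
    have hdelta : ((TensorProduct.lid k k).toLinearMap ∘ₗ TensorProduct.map (f a) (f b)) (CoalgebraStruct.comul (m i l)) =
        if a = b then c i l a else 0 := by
      rw [← hc i l, map_sum, map_sum]
      rw [Finset.sum_eq_single a (fun x _ hx => by simp [(hχgl _).comul_eq_tmul_self, hf, hx]) (by simp)]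
      simp [(hχgl _).comul_eq_tmul_self, hf]
    simp only [map_sum, TensorProduct.map_tmul, TensorProduct.lid_tmul, MvPolynomial.lcoeff_apply, MvPolynomial.coeff_X', smul_eq_mul,
      Finsupp.single_left_inj (one_ne_zero' ℕ), ite_mul, one_mul, zero_mul, Finset.sum_ite_eq', Finset.mem_univ, if_true] at h2
    rw [hdelta] at h2
    rw [← h2]
    exact Finset.sum_congr rfl fun j _ => by simp [hfm]
  refine ⟨S.card, χ, hχgl, fun v hv => ?_⟩
  let w : Fin S.card → ι → k := fun a i => ∑ j, c i j a * v j
  have hsum : ∀ i, ∑ a, w a i = v i := fun i => by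
    simp only [w]; rw [Finset.sum_comm]
    simp [← Finset.sum_mul, hcu]
  have hproj : ∀ (s : Finset (Fin S.card)), (∀ i, ∑ a ∈ s, w a i = 0) → ∀ b ∈ s, ∀ i, w b i = 0 := by
    intro s hs b hb i
    have h0 : ∑ j, c i j b * ∑ a ∈ s, w a j = 0 := by simp [hs]
    rw [← h0]
    calc w b i = ∑ a ∈ s, ∑ l, (if a = b then c i l a else 0) * v l := by
          simp [w, ite_mul, Finset.sum_ite_eq', hb]
      _ = ∑ a ∈ s, ∑ l, (∑ j, c j l a * c i j b) * v l := by simp only [hca]
      _ = _ := by
          simp only [Finset.mul_sum, Finset.sum_mul, w]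
          rw [Finset.sum_comm (t := s)]
          refine Finset.sum_congr rfl fun a _ => ?_
          rw [Finset.sum_comm]
          exact Finset.sum_congr rfl fun _ _ => Finset.sum_congr rfl fun _ _ => by ring
  let I : Finset (Fin S.card) := Finset.univ.filter fun a => w a ≠ 0
  refine ⟨I, ?_, fun lam e he n => ?_⟩
  · by_contra hI
    rw [Finset.not_nonempty_iff_eq_empty, Finset.filter_eq_empty_iff] at hI
    exact hv (funext fun i => by rw [← hsum i]; simp [not_not.1 (hI (Finset.mem_univ _))])
  have horb : ∀ i, T n * GLin.lamOrbit k A lam (GLin.vecPt k ι v) (MvPolynomial.X i) =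
      ∑ a, w a i • T (n + e a) := by
    intro i
    have h1 : GLin.orbitHom k A (GLin.vecPt k ι v) (MvPolynomial.X i) = ∑ a, w a i • χ a := by
      simp only [GLin.orbitHom, AlgHom.comp_apply, GLin.coactAlgHom_apply, hm i, map_sum]
      simp [← hc, Finset.smul_sum, smul_smul, w, Finset.sum_smul, mul_comm]
      rw [Finset.sum_comm]
    show T n * (lam : A →ₐ[k] k[T;T⁻¹]) (GLin.orbitHom k A (GLin.vecPt k ι v) (MvPolynomial.X i)) = _
    rw [h1, map_sum, Finset.mul_sum]
    refine Finset.sum_congr rfl fun a _ => ?_
    rw [map_smul, mul_smul_comm, show (lam : A →ₐ[k] k[T;T⁻¹]) (χ a) = T (e a) from he a, ← T_add]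
  have hcoef : ∀ i (z : ℤ), (∑ a, w a i • T (n + e a) : k[T;T⁻¹]).coeff z = ∑ a with n + e a = z, w a i := by
    intro i z
    rw [AddMonoidAlgebra.coeff_sum, Finsupp.finsetSum_apply, Finset.sum_filter]
    exact Finset.sum_congr rfl fun a _ => by simp
  have hI : ∀ a, a ∈ I ↔ w a ≠ 0 := fun a => by simp [I]
  constructor
  · rintro ⟨h, hh, h0⟩
    have hi : ∀ i, Polynomial.toLaurent (h (MvPolynomial.X i)) = ∑ a, w a i • T (n + e a) := fun i => by
      rw [← horb]
      have := congrArg (fun φ : MvPolynomial ι k →ₐ[k] k[T;T⁻¹] => φ (MvPolynomial.X i)) hh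
      simpa [GLin.shiftedOrbit] using this
    have hge : ∀ a ∈ I, -e a ≤ n := by
      intro a ha
      by_contra hlt
      refine (hI a).1 ha (funext fun i => hproj (Finset.univ.filter fun b => n + e b = n + e a) (fun i => ?_) a (by simp) i)
      rw [← hcoef, ← hi, ← Finsupp.notMem_support_iff, support_coeff_toLaurent, Finset.mem_map]
      rintro ⟨p, -, hp⟩
      have : (p : ℤ) = n + e a := hp
      omega
    refine ⟨hge, ?_⟩
    by_contra hne
    push Not at hne
    refine h0 (MvPolynomial.algHom_ext fun i => ?_)
    rw [AlgHom.comp_apply, MvPolynomial.aeval_X, Polynomial.aeval_def, Polynomial.eval₂_at_zero]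
    have h2 : (Polynomial.toLaurent (h (MvPolynomial.X i))).coeff ((0 : ℕ) : ℤ) = (h (MvPolynomial.X i)).coeff 0 := by
      rw [coeff_toLaurent]
      exact Finsupp.mapDomain_apply Nat.cast_injective _ _
    rw [Algebra.algebraMap_self, RingHom.id_apply, ← h2, hi, hcoef]
    refine Finset.sum_eq_zero fun a ha => ?_
    by_contra hwa
    have haI : a ∈ I := (hI a).2 fun h => hwa (congrFun h i)
    have h3 := hne a haI
    simp at ha
    omega
  · rintro ⟨hge, j₀, hj₀, hnj⟩
    refine ⟨MvPolynomial.aeval fun i => ∑ a ∈ I, w a i • Polynomial.X ^ (n + e a).toNat, ?_, fun h0 => ?_⟩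
    · refine MvPolynomial.algHom_ext fun i => ?_
      rw [AlgHom.comp_apply, MvPolynomial.aeval_X, GLin.shiftedOrbit, MvPolynomial.aeval_X, horb, map_sum]
      rw [← Finset.sum_subset (Finset.subset_univ I) (fun a _ ha => by
        rw [show w a = 0 from not_not.1 fun h => ha ((hI a).2 h)]; simp)]
      refine Finset.sum_congr rfl fun a ha => ?_
      rw [map_smul, map_pow, Polynomial.toLaurentAlg_apply, Polynomial.toLaurent_X, T_pow, mul_one,
        Int.toNat_of_nonneg (by linarith [hge a ha])]
    · refine (hI j₀).1 hj₀ (funext fun i => hproj (I.filter fun a => (n + e a).toNat = 0) (fun i => ?_) j₀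
        (Finset.mem_filter.2 ⟨hj₀, by omega⟩) i)
      have h2 := congrArg (fun φ : MvPolynomial ι k →ₐ[k] k => φ (MvPolynomial.X i)) h0
      simpa [Finset.sum_filter, zero_pow_eq, Polynomial.eval_finsetSum] using h2

end Groth.Agent.S12553
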