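import Groth.Statements.S12555
import Groth.Agent.ComodLib.LinRed
-- import your own Groth.Agent.* helpers here

set_option autoImplicit false
universe u
open TensorProduct
open GIT

namespace Groth.Agent.S12555

/-- Let k be a field, G = Spec A a linearly reductive affine group (A a commutative Hopf algebra whose
finite-dimensional comodules are all semisimple) and V a representation of G of any dimension (an
A-comodule). Then there is exactly one linear map E : V → V commuting with the coaction, with E ∘ E
= E, and with E x = x exactly for the invariant vectors x. -/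
theorem result (k : Type u) [Field k] (A : Type u) [CommRing A] [HopfAlgebra k A]
    (hG : HopfRep.IsLinearlyReductive k A) (V : Type u) [AddCommGroup V] [Module k V] [HopfRep.Comod k A V] :
    ∃! E : V →ₗ[k] V, Hoch.IsComodHom A E ∧ E ∘ₗ E = E ∧ ∀ x : V, E x = x ↔ x ∈ HopfRep.fixedPts k A V := by
  obtain ⟨α, hα, h1⟩ := ComodLib.exists_invariant_of_isLinearlyReductive hG
  refine ⟨ComodLib.reynolds V α, ⟨?_, ?_, fun x => ⟨fun hx => hx ▸ ComodLib.reynolds_mem hα x,
    fun hx => ComodLib.reynolds_fixed h1 hx⟩⟩, ?_⟩
  · refine LinearMap.ext fun v => ?_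
    rw [LinearMap.comp_apply, LinearMap.comp_apply, ComodLib.reynolds_mem hα v]
    show _ = (ComodLib.reynolds V α).rTensor A (HopfRep.Comod.coact (k := k) (A := A) v)
    have key : ∀ z : TensorProduct k V A, (∀ f : A →ₗ[k] k, ComodLib.reynolds V α (ComodLib.slice f z) =
        f 1 • ComodLib.reynolds V α v) →
        (ComodLib.reynolds V α).rTensor A z = ComodLib.reynolds V α v ⊗ₜ[k] (1 : A) := by
      intro z hz
      refine ComodLib.ext_slice fun f => ?_
      rw [ComodLib.slice_rTensor, hz, ComodLib.slice_tmul]
    refine (key _ fun f => ?_).symm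
    simp only [ComodLib.reynolds, LinearMap.comp_apply]
    have h2 := ComodLib.slice_coact_mul (k := k) (A := A) (WithConv.toConv (α ∘ₗ HopfAlgebra.antipode k))
      (WithConv.toConv f) v
    simp only [WithConv.ofConv_toConv] at h2
    rw [h2, LinearMap.convMul_def]
    refine (LinearMap.congr_fun (congrArg ComodLib.slice (LinearMap.ext fun b => ?_ :
      _ = f 1 • (α ∘ₗ HopfAlgebra.antipode k))) _).trans (ComodLib.slice_smul _ _ _)
    simp only [LinearMap.comp_apply, LinearMap.smul_apply, smul_eq_mul]
    have hbi : α ∘ₗ HopfAlgebra.antipode k = α := by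
      refine LinearMap.ext fun x => ?_
      have e1 := congrArg (α ∘ₗ HopfAlgebra.antipode k) (hα x)
      have e2 := congrArg α (ComodLib.slice_comul_antipode hα x)
      rw [map_smul, LinearMap.comp_apply, LinearMap.comp_apply, HopfAlgebra.antipode_one, h1,
        smul_eq_mul, mul_one] at e1
      rw [map_smul, h1, smul_eq_mul, mul_one] at e2
      rw [LinearMap.comp_apply, ← e2, ← e1]
      generalize CoalgebraStruct.comul (R := k) x = t
      induction t with
      | zero => simp
      | tmul p q => simp [mul_comm]
      | add t t' ht ht' => simp only [map_add, ht, ht']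
    have h3 := congrArg f (hα b)
    rw [map_smul, smul_eq_mul, mul_comm] at h3
    rw [← LinearMap.comp_apply α, hbi, ← h3]
    generalize CoalgebraStruct.comul (R := k) b = t
    induction t with
    | zero => simp
    | tmul p q => simp
    | add t t' ht ht' => simp only [map_add, ht, ht']
  · exact LinearMap.ext fun v => ComodLib.reynolds_fixed h1 (ComodLib.reynolds_mem hα v)
  · rintro E ⟨h₁, h₂, h₃⟩
    refine LinearMap.ext fun v => ?_
    have e1 : E (ComodLib.reynolds V α v) = ComodLib.reynolds V α v :=
      (h₃ _).2 (ComodLib.reynolds_mem hα v)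
    rw [← e1, ComodLib.reynolds_natural α h₁ v]
    exact (ComodLib.reynolds_fixed h1 ((h₃ _).1 (LinearMap.congr_fun h₂ v))).symm

end Groth.Agent.S12555
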