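import Groth.Statements.S12557
import Mathlib
import Groth.Agent.GLinFinLib.Basic
-- import your own Groth.Agent.* helpers here

set_option autoImplicit false
universe u
open TensorProduct
open GIT

namespace Groth.Agent.S12557

/-- Let k be a field, G = Spec A a linearly reductive affine group (A a commutative Hopf algebra whose
finite-dimensional comodules are all semisimple) acting on the affine scheme Spec R, R_0 ⊆ R the
ring of invariants, and (𝔄_i) a family of ideals of R each stable under the coaction. Then the sum
of the 𝔄_i meets R_0 in the sum of the intersections 𝔄_i ∩ R_0. -/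
theorem result (k : Type u) [Field k] (A : Type u) [CommRing A] [HopfAlgebra k A]
    (hG : HopfRep.IsLinearlyReductive k A)
    (R : Type u) [CommRing R] [Algebra k R] [HopfRep.Comod k A R] [GLin.IsCoactAlg k A R]
    (ι : Type u) (𝔄 : ι → Ideal R) (h𝔄 : ∀ i, HopfRep.IsSubcomod (k := k) (A := A) ((𝔄 i).restrictScalars k)) :
    (⨆ i, (𝔄 i).restrictScalars k) ⊓ Subalgebra.toSubmodule (GLin.invariants k A R) =
      ⨆ i, ((𝔄 i).restrictScalars k ⊓ Subalgebra.toSubmodule (GLin.invariants k A R)) := by
  obtain ⟨β, hβ, h1⟩ := ComodLib.exists_invariant_of_isLinearlyReductive hG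
  refine le_antisymm (fun u hu => ?_) (iSup_le fun i => inf_le_inf_right _ (le_iSup (fun i => (𝔄 i).restrictScalars k) i))
  have h : ComodLib.reynolds R β u ∈ ⨆ i, ((𝔄 i).restrictScalars k ⊓ Subalgebra.toSubmodule (GLin.invariants k A R)) := by
    refine Submodule.iSup_induction _ (motive := fun v => ComodLib.reynolds R β v ∈
      ⨆ i, ((𝔄 i).restrictScalars k ⊓ Subalgebra.toSubmodule (GLin.invariants k A R))) hu.1 (fun i v hv => ?_)
      (by simp) (fun v w hv hw => by rw [map_add]; exact add_mem hv hw)
    exact Submodule.mem_iSup_of_mem i ⟨GLinFinLib.reynolds_mem_of_isSubcomod β (h𝔄 i) hv, ComodLib.reynolds_mem hβ v⟩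
  rwa [ComodLib.reynolds_fixed h1 hu.2] at h

end Groth.Agent.S12557
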