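import Groth.Statements.S5376
import Groth.Agent.HopfFFLib.Normal.Weights
import Groth.Agent.ComodLib.Slices

set_option autoImplicit false
universe u
open CategoryTheory CategoryTheory.Limits MonoidalCategory CartesianMonoidalCategory MonObj GrpObj AlgebraicGeometry
open SGA3

namespace Groth.Agent.S5376

open TensorProduct WithConv

section aux

variable {k A V : Type u} [Field k] [CommRing A] [HopfAlgebra k A] [AddCommGroup V] [Module k V]
  [HopfRep.Comod k A V]

theorem act_eq_slice (g : A →ₐ[k] k) (w : V) :
    HopfRep.Comod.act k A V g w =
      ComodLib.slice g.toLinearMap (HopfRep.Comod.coact (k := k) (A := A) w) := rfl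

theorem act_mul (g h : A →ₐ[k] k) (w : V) :
    HopfRep.Comod.act k A V g (HopfRep.Comod.act k A V h w) =
      HopfRep.Comod.act k A V (toConv g * toConv h).ofConv w := by
  let ρ : V →ₗ[k] V ⊗[k] A := HopfRep.Comod.coact
  have hl : ∀ z : V ⊗[k] A,
      ComodLib.slice g.toLinearMap (ρ (ComodLib.slice h.toLinearMap z)) =
        ComodLib.slice ((Algebra.TensorProduct.productMap g h).toLinearMap)
          (TensorProduct.assoc k V A A (LinearMap.rTensor A ρ z)) := by
    intro z
    induction z using TensorProduct.induction_on with
    | zero => simp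
    | add z w hz hw => simp only [map_add, hz, hw]
    | tmul x a =>
      simp only [ComodLib.slice_tmul, map_smul, LinearMap.rTensor_tmul]
      generalize ρ x = t
      induction t using TensorProduct.induction_on with
      | zero => simp
      | add p q hp hq => simp only [map_add, TensorProduct.add_tmul, smul_add, hp, hq]
      | tmul p q =>
        simp only [TensorProduct.assoc_tmul, ComodLib.slice_tmul, AlgHom.toLinearMap_apply,
          Algebra.TensorProduct.productMap_apply_tmul]
        rw [← mul_smul, mul_comm]
  show ComodLib.slice g.toLinearMap (ρ (ComodLib.slice h.toLinearMap (ρ w))) = _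
  rw [hl, show TensorProduct.assoc k V A A (LinearMap.rTensor A ρ (ρ w)) =
    LinearMap.lTensor V CoalgebraStruct.comul (ρ w) from
      LinearMap.congr_fun (HopfRep.Comod.coassoc (k := k) (A := A) (V := V)) w,
    ComodLib.slice_lTensor, act_eq_slice]
  congr 2
  apply LinearMap.ext
  intro a
  show _ = (toConv g * toConv h) a
  rw [AlgHom.convMul_apply, LinearMap.comp_apply]
  generalize CoalgebraStruct.comul (R := k) a = z
  induction z using TensorProduct.induction_on with
  | zero => simp
  | add p q hp hq => simp only [map_add, hp, hq]
  | tmul p q => simp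

theorem act_one (w : V) :
    HopfRep.Comod.act k A V (Bialgebra.counitAlgHom k A) w = w := by
  show (TensorProduct.rid k V) (LinearMap.lTensor V CoalgebraStruct.counit
    (HopfRep.Comod.coact (k := k) (A := A) w)) = w
  rw [← LinearMap.comp_apply, HopfRep.Comod.counit_comp]
  simp

variable [IsAlgClosed k] [Algebra.FiniteType k A] [IsReduced A]

theorem span_orbit (v : V) :
    HopfRep.IsSubcomod (k := k) (A := A)
      (Submodule.span k (Set.range fun g : A →ₐ[k] k => HopfRep.Comod.act k A V g v)) := by
  let E := Submodule.span k (Set.range fun g : A →ₐ[k] k => HopfRep.Comod.act k A V g v)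
  intro e he
  rw [ComodLib.mem_range_rTensor_iff]
  intro f
  by_contra hne
  have hne' : E.mkQ (ComodLib.slice f (HopfRep.Comod.coact (k := k) (A := A) e)) ≠ 0 := fun h =>
    hne ((Submodule.Quotient.mk_eq_zero E).1 h)
  obtain ⟨φ, hφ⟩ := ComodLib.exists_dual_ne (k := k) hne'
  let a := ComodLib.sliceL (φ ∘ₗ E.mkQ) (HopfRep.Comod.coact (k := k) (A := A) e)
  have hE : ∀ g : A →ₐ[k] k, HopfRep.Comod.act k A V g e ∈ E := by
    intro g
    have : E ≤ E.comap (HopfRep.Comod.act k A V g) := Submodule.span_le.2 (by
      rintro _ ⟨h, rfl⟩
      show HopfRep.Comod.act k A V g (HopfRep.Comod.act k A V h v) ∈ E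
      rw [act_mul]
      exact Submodule.subset_span ⟨_, rfl⟩)
    exact this he
  have ha : a = 0 := by
    refine (HopfFF.isNilpotent_of_forall_point (k := k) fun g => ?_).eq_zero
    show g.toLinearMap a = 0
    rw [← ComodLib.apply_slice, ← act_eq_slice, LinearMap.comp_apply,
      Submodule.mkQ_apply, (Submodule.Quotient.mk_eq_zero E).2 (hE g), map_zero]
  apply hφ
  rw [← LinearMap.comp_apply, ComodLib.apply_slice]
  show f a = 0
  rw [ha, map_zero]

end aux

/-- Let k be an algebraically closed field, A a finitely generated commutative Hopf algebra over k which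
is reduced (a reduced affine algebraic k-group G), V a finite-dimensional A-comodule and v a vector
of V. Let E be the k-subspace of V spanned by the vectors g·v for g running over the k-points of G
(algebra maps A → k). Then E is a subcomodule of V containing v, and it is the smallest one. -/
theorem result (k : Type u) [Field k] [IsAlgClosed k] (A : Type u) [CommRing A] [HopfAlgebra k A]
    [Algebra.FiniteType k A] [IsReduced A] (V : Type u) [AddCommGroup V] [Module k V] [HopfRep.Comod k A V]
    [Module.Finite k V] (v : V) :
    letI E : Submodule k V := Submodule.span k (Set.range fun g : A →ₐ[k] k => HopfRep.Comod.act k A V g v)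
    HopfRep.IsSubcomod (k := k) (A := A) E ∧ v ∈ E ∧
      ∀ W : Submodule k V, HopfRep.IsSubcomod (k := k) (A := A) W → v ∈ W → E ≤ W := by
  refine ⟨span_orbit v, ?_, fun W hW hv => Submodule.span_le.2 ?_⟩
  · have h := Submodule.subset_span (R := k)
      (s := Set.range fun g : A →ₐ[k] k => HopfRep.Comod.act k A V g v)
      ⟨Bialgebra.counitAlgHom k A, rfl⟩
    simp only [act_one] at h
    exact h
  · rintro _ ⟨g, rfl⟩
    exact ComodLib.slice_mem_of_mem_range W g.toLinearMap (hW v hv)

end Groth.Agent.S5376
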