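import Groth.Statements.S12583
import Groth.Agent.FFLib.HasseGen

set_option autoImplicit false
universe u v w
open FunFld

namespace Groth.Agent.S12583

/-- At a separable place `P` of a geometric function field of one variable `K/k` with local parameter
`t`, if `x ∈ O_P` has expansion `∑ a_m t^m` then the Hasse derivative `D_t^{(n)}(x)` expands as the
series with coefficients `C(m,n) a_m` in degree `m - n`; in particular `D_t^{(n)}(O_P) ⊆ O_P`. Here
`φ` is a Laurent expansion over `k` at `P` with `φ t = X` and `H` is the total Hasse derivative with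
respect to `t`. -/
theorem result (k : Type u) (K : Type v) [Field k] [Field K] [Algebra k K] (hK : FunFld.IsFunctionField k K) (hg : FunFld.IsGeometric k K)
    (P : FunFld.Place k K) (F : Type w) [Field F] [Algebra k F]
    (φ : K →ₐ[k] LaurentSeries F) (hφ : LocRes.IsExpansionAt P.1 φ)
    (t : K) (ht : φ t = HahnSeries.single 1 1)
    (H : K →ₐ[k] PowerSeries K) (hH : LocRes.IsHasseFamily t H)
    (x : K) (hx : P.1 x ≤ 1) (n : ℕ) :
    φ (LocRes.hasseD H n x) = LaurentSeries.hasseDeriv F n (φ x) := by
  have ht1 : P.1 t = WithZero.exp (-1 : ℤ) := by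
    rw [← hφ.1 t, ht, LaurentSeries.valuation_single_zpow]
  have htr : Transcendental k t := FFLib.transcendental_of_v_lt hK P (fun e => by rw [e, map_zero] at ht1; exact WithZero.exp_ne_zero ht1.symm)
    (by rw [ht1, ← WithZero.exp_zero, WithZero.exp_lt_exp]; norm_num)
  have := FFLib.finite_adjoin hK htr
  exact FFLib.map_hasseD_eq_gen φ ht hH x n

end Groth.Agent.S12583
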