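import Groth.Statements.S12587
import Groth.Agent.FFLib.ASDiff
-- import your own Groth.Agent.* helpers here

set_option autoImplicit false
universe u v w
open FunFld

namespace Groth.Agent.S12587

/-- For `k` perfect of characteristic `2` and `K = k(x, y)` with `y² + y = f(x)`, all poles of `f` of
odd order `2d_i - 1` at `p_i`, and `q = ∏ p_i^{d_i}` over the finite poles, the forms `x^i dx/q(x)`,
`0 ≤ i < g`, are a `k`-basis of the regular differential forms; regularity read through Laurent
expansions over `k` at every place; `q` is pinned up to a constant by its orders at the finite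
places. -/
theorem result (k : Type u) (K : Type v) [Field k] [Field K] [Algebra k K] [Algebra (RatFunc k) K] [IsScalarTower k (RatFunc k) K]
    (hK : FunFld.IsFunctionField k K) (hdeg : Module.finrank (RatFunc k) K = 2) [PerfectField k] (h2 : ringChar k = 2)
    [Algebra.IsSeparable (RatFunc k) K]
    (y : K) (hy : y ∉ Set.range (algebraMap (RatFunc k) K)) (f : RatFunc k)
    (heq : y ^ 2 + y = algebraMap (RatFunc k) K f)
    (hodd : ∀ p : FunFld.Place k (RatFunc k), 1 < p.1 f → Odd (p.ord f))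
    (q : Polynomial k) (hq0 : q ≠ 0)
    (hq : ∀ p : FunFld.Place k (RatFunc k), p.1 RatFunc.X ≤ 1 →
      p.ord (algebraMap (Polynomial k) (RatFunc k) q) = if 1 < p.1 f then (1 - p.ord f) / 2 else 0)
    (F : FunFld.Place k K → Type w) [∀ P, Field (F P)] [∀ P, Algebra k (F P)] [∀ P, FiniteDimensional k (F P)]
    (φ : ∀ P, K →ₐ[k] LaurentSeries (F P)) (hφ : ∀ P, LocRes.IsExpansionAt P.1 (φ P)) :
    (∀ i : ℕ, i < FunFld.genus k K → ∀ P,
      LocRes.vDiff (φ P) (algebraMap (RatFunc k) K (RatFunc.X ^ i / algebraMap (Polynomial k) (RatFunc k) q))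
        (algebraMap (RatFunc k) K RatFunc.X) ≤ 1) ∧
    ∀ z : K, (∀ P, LocRes.vDiff (φ P) z (algebraMap (RatFunc k) K RatFunc.X) ≤ 1) →
      ∃ a : Polynomial k, a.degree < (FunFld.genus k K : WithBot ℕ) ∧
        z = algebraMap (RatFunc k) K (algebraMap (Polynomial k) (RatFunc k) a / algebraMap (Polynomial k) (RatFunc k) q) := by
  open Groth.Agent.FFLib WithZero in
  classical
  have hodd' : ∀ p : FunFld.Place k (RatFunc k), p.ord f < 0 → Odd (p.ord f) :=
    fun p hp => hodd p ((one_lt_v_iff p f).2 hp)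
  have hR := fg1_ratFunc (k := k)
  obtain ⟨Pi, hPi⟩ := exists_infPlace (k := k)
  set qR := algebraMap (Polynomial k) (RatFunc k) q with hqR
  have hqR0 : qR ≠ 0 := iota_ne hq0
  have hqfin : ∀ P : FunFld.Place k (RatFunc k), 0 ≤ P.ord (RatFunc.X : RatFunc k) → P.ord qR = asShift f P := by
    intro P hP
    rw [hq P ((v_le_one_iff P _).2 hP), asShift]
    by_cases h : P.ord f < 0
    · rw [if_pos h, if_pos ((one_lt_v_iff P f).2 h)]
    · rw [if_neg h, if_neg (mt (one_lt_v_iff P f).1 h)]
  set D : FunFld.Divisor k (RatFunc k) :=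
    FunFld.div k qR + Finsupp.single Pi ((q.natDegree : ℤ) + asShift f Pi) with hD
  have hDP : ∀ P : FunFld.Place k (RatFunc k), D P = asShift f P := fun P => by
    rw [hD, Finsupp.add_apply, div_apply hR]
    rcases lt_or_ge (P.ord (RatFunc.X : RatFunc k)) 0 with hP | hP
    · rw [place_eq_inf hPi hP, Finsupp.single_eq_same, ord_poly_inf' Pi hPi hq0]
      ring
    · rw [Finsupp.single_eq_of_ne (fun e : P = Pi => by rw [e] at hP; omega), hqfin P hP, add_zero]
  have hg := genus_of_split hdeg hK hy (v := (1 : RatFunc k)) (g := f) (by rw [map_one, one_mul, heq]) D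
    fun P m a b => by
      rw [hDP P, asShift]
      exact split_as hdeg h2 hy heq P (hodd' P) m a b
  rw [hD, deg_add, deg_div hR, deg_single, (inf_ord_deg Pi hPi).2] at hg
  push_cast at hg
  have hbd : ∀ r : RatFunc k, (∀ P, P.1 r ≤ exp (asBound f P)) ↔
      ∀ P : FunFld.Place k (RatFunc k), P.1 (r * qR) ≤
        exp (if P.ord (RatFunc.X : RatFunc k) < 0 then (FunFld.genus k K : ℤ) - 1 else 0) := fun r => by
    refine forall_congr' fun P => ?_
    rw [map_mul, v_eq P hqR0, exp_neg, mul_inv_le_iff₀ exp_pos, ← exp_add, asBound]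
    rcases lt_or_ge (P.ord (RatFunc.X : RatFunc k)) 0 with hP | hP
    · rw [if_pos hP, if_pos hP, place_eq_inf hPi hP, hqR, ord_poly_inf' Pi hPi hq0,
        show (FunFld.genus k K : ℤ) - 1 + -(q.natDegree : ℤ) = asShift f Pi - 2 by omega]
    · rw [if_neg (not_lt.2 hP), if_neg (not_lt.2 hP), sub_zero, zero_add, hqfin P hP]
  refine ⟨fun i hi => (as_regular_iff hdeg h2 hy heq hodd' hR F φ hφ _).2 ⟨_, rfl, (hbd _).2 fun P => ?_⟩, fun z hz => ?_⟩
  · rw [div_mul_cancel₀ _ hqR0]
    rcases lt_or_ge (P.ord (RatFunc.X : RatFunc k)) 0 with hP | hP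
    · rw [if_pos hP, map_pow, v_eq P RatFunc.X_ne_zero, (inf_ord_deg P hP).1, ← exp_nsmul, nsmul_eq_mul, exp_le_exp]
      omega
    · rw [if_neg (not_lt.2 hP), exp_zero, map_pow]
      exact pow_le_one' ((v_le_one_iff P _).2 hP) i
  · obtain ⟨r, rfl, hr⟩ := (as_regular_iff hdeg h2 hy heq hodd' hR F φ hφ z).1 hz
    have key := (hbd r).1 hr
    obtain ⟨a, ha⟩ := mem_poly_of_fin (r := r * qR) fun P hP => by
      have := key P
      rwa [if_neg (not_lt.2 hP), exp_zero] at this
    refine ⟨a, ?_, by rw [ha, mul_div_cancel_right₀ _ hqR0]⟩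
    rcases eq_or_ne a 0 with rfl | hne
    · rw [Polynomial.degree_zero]; exact WithBot.bot_lt_coe _
    rw [← Polynomial.natDegree_lt_iff_degree_lt hne]
    have := key Pi
    rw [← ha, if_pos hPi, v_le_exp_iff Pi (iota_ne hne), ord_poly_inf' Pi hPi hne] at this
    omega

end Groth.Agent.S12587
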