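import Groth.Statements.S12591
import Groth.Agent.GeomFFLib.AlgExt
-- import your own Groth.Agent.* helpers here

set_option autoImplicit false
universe u v
open FunFld

namespace Groth.Agent.S12591

/-- Every place `P` of a geometric function field of one variable `K/k` has a splitting field of finite
degree over `k`: a finite extension `k'` such that every place of `k' ⊗_k K` above `P` has degree
one over `k'`. (The finiteness of the set of singular places and the existence of a purely
inseparable `k'` making `k' ⊗_k K` nonsingular are not stated here.) -/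
theorem result (k : Type u) (K : Type v) [Field k] [Field K] [Algebra k K]
    (hK : FunFld.IsFunctionField k K) (hg : FunFld.IsGeometric k K) (P : FunFld.Place k K) :
    ∃ (k' : Type u) (_ : Field k') (_ : Algebra k k'), FiniteDimensional k k' ∧
      ∀ (K' : Type v) [Field K'] [Algebra K K'] [Algebra k' K'] [Algebra k K']
        [IsScalarTower k k' K'] [IsScalarTower k K K'],
        Function.Bijective (Algebra.TensorProduct.productMap
          (IsScalarTower.toAlgHom k k' K') (IsScalarTower.toAlgHom k K K')) →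
        ∀ Q : FunFld.Place k' K', P.1.HasExtension Q.1 → Q.deg = 1 := by
  classical
  open Groth.Agent.GeomFFLib Groth.Agent.FFLib TensorProduct in
  let kbar := AlgebraicClosure k
  letI : Field (kbar ⊗[k] K) := (isField_tensor_of_algebraic hg kbar).toField
  letI : Algebra K (kbar ⊗[k] K) := Algebra.TensorProduct.rightAlgebra
  haveI : IsScalarTower k K (kbar ⊗[k] K) := IsScalarTower.of_algebraMap_eq fun c => by
    show _ = (1 : kbar) ⊗ₜ[k] algebraMap k K c
    rw [Algebra.TensorProduct.algebraMap_apply, Algebra.algebraMap_eq_smul_one, Algebra.algebraMap_eq_smul_one,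
      TensorProduct.smul_tmul]
  have hb : Function.Bijective (Algebra.TensorProduct.productMap
      (IsScalarTower.toAlgHom k kbar (kbar ⊗[k] K)) (IsScalarTower.toAlgHom k K (kbar ⊗[k] K))) := by
    have e : Algebra.TensorProduct.productMap (IsScalarTower.toAlgHom k kbar (kbar ⊗[k] K))
        (IsScalarTower.toAlgHom k K (kbar ⊗[k] K)) = AlgHom.id k (kbar ⊗[k] K) := by
      refine AlgHom.ext fun w => ?_
      induction w using TensorProduct.induction_on with
      | zero => rw [map_zero, map_zero]
      | tmul a c =>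
        show (a ⊗ₜ[k] (1 : K)) * ((1 : kbar) ⊗ₜ[k] c) = a ⊗ₜ[k] c
        rw [Algebra.TensorProduct.tmul_mul_tmul, mul_one, one_mul]
      | add a b ha hb => rw [map_add, map_add, ha, hb]
    rw [e]; exact Function.bijective_id
  have hKb : FG1 kbar (kbar ⊗[k] K) := fg1_algExt hb.2 hK.1
  obtain ⟨t, ht0, -, htv⟩ := exists_uniformizer P
  set tb := algebraMap K (kbar ⊗[k] K) t with htb
  set S := (finite_zeros hKb tb).toFinset
  have hS : ∀ R : Place kbar (kbar ⊗[k] K), R.1 tb < 1 → R ∈ S := fun R hR =>
    (Set.Finite.mem_toFinset _).2 ((v_lt_one_iff R ((_root_.map_ne_zero _).2 ht0)).1 hR)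
  choose f m hm htr hf hfR honly using fun R : Place kbar (kbar ⊗[k] K) => exists_pole_only hKb R
  choose z hz using fun R : Place kbar (kbar ⊗[k] K) => R.2.2 (WithZero.exp (-1))
  choose sf hsf using fun R => exists_finset_coeff hb.2 (f R)
  choose sz hsz using fun R => exists_finset_coeff hb.2 (z R)
  let E := IntermediateField.adjoin k ((S.biUnion fun R => sf R ∪ sz R : Finset kbar) : Set kbar)
  have hE : ∀ R ∈ S, ((sf R : Finset kbar) : Set kbar) ⊆ E ∧ ((sz R : Finset kbar) : Set kbar) ⊆ E := fun R hR =>
    ⟨fun a ha => IntermediateField.subset_adjoin k _ (Finset.mem_coe.2 (Finset.mem_biUnion.2 ⟨R, hR, Finset.mem_union_left _ ha⟩)),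
     fun a ha => IntermediateField.subset_adjoin k _ (Finset.mem_coe.2 (Finset.mem_biUnion.2 ⟨R, hR, Finset.mem_union_right _ ha⟩))⟩
  have hfin : FiniteDimensional k E :=
    IntermediateField.finiteDimensional_adjoin fun a _ => Algebra.IsIntegral.isIntegral a
  refine ⟨E, inferInstance, inferInstance, hfin, ?_⟩
  intro K' _ _ _ _ _ _ h Q hPQ
  haveI : Algebra.IsAlgebraic k E := Algebra.IsAlgebraic.of_finite k E
  haveI : Algebra.IsAlgebraic E kbar := Algebra.IsAlgebraic.tower_top (K := k) E
  obtain ⟨R, hR⟩ := exists_place_over_lift (kbar := kbar) (Kbar := kbar ⊗[k] K) h hKb Q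
  have htQ : ¬ Q.1 (algebraMap K K' t)⁻¹ ≤ 1 := by
    rw [← map_inv₀ (algebraMap K K'), Valuation.HasExtension.val_map_le_one_iff P.1 Q.1, map_inv₀, htv,
      ← WithZero.exp_neg, neg_neg, ← WithZero.exp_zero, WithZero.exp_le_exp]
    omega
  have hRS : R ∈ S := hS R (by
    by_contra hge
    refine htQ ((hR _).1 ?_)
    rw [map_inv₀, map_inv₀, liftHom_base]
    exact inv_le_one_of_one_le₀ (not_lt.1 hge))
  obtain ⟨wf, hwf⟩ := ((hsf R) E (hE R hRS).1).2
  obtain ⟨wz, hwz⟩ := ((hsz R) E (hE R hRS).2).2
  have ef : liftHom kbar (kbar ⊗[k] K) h (Algebra.TensorProduct.productMap (IsScalarTower.toAlgHom k E K')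
      (IsScalarTower.toAlgHom k K K') wf) = f R := (liftHom_productMap h wf).trans hwf
  have ez : liftHom kbar (kbar ⊗[k] K) h (Algebra.TensorProduct.productMap (IsScalarTower.toAlgHom k E K')
      (IsScalarTower.toAlgHom k K K') wz) = z R := (liftHom_productMap h wz).trans hwz
  exact deg_eq_one_of_lift h hb hK.1 hKb Q R hR (hm R) (ez.symm ▸ hz R) (ef.symm ▸ hf R) (ef.symm ▸ htr R)
    (ef.symm ▸ honly R)

end Groth.Agent.S12591
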