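import Groth.Statements.S12593
import Groth.Agent.GeomFFLib.AlgExt
-- import your own Groth.Agent.* helpers here

set_option autoImplicit false
universe u v
open FunFld

namespace Groth.Agent.S12593

/-- Every divisor of `K̄ = k̄ ⊗_k K`, for a geometric function field of one variable `K/k`, is defined
over a finite extension `k'` of `k`; stated for a single place `Q` of `K̄/k̄`: for some finite `k' ⊆
k̄`, the field `K' = k'K ⊆ K̄` contains a local parameter at `Q` and `Q` is the only place of `K̄`
above its restriction to `K'` (so `Q` is the conorm of the point `Q ∩ K'`). -/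
theorem result (k kbar : Type u) (K Kbar : Type v) [Field k] [Field kbar] [Field K] [Field Kbar]
    [Algebra k kbar] [IsAlgClosure k kbar] [Algebra k K] [Algebra K Kbar] [Algebra kbar Kbar] [Algebra k Kbar]
    [IsScalarTower k kbar Kbar] [IsScalarTower k K Kbar]
    (h : Function.Bijective (Algebra.TensorProduct.productMap
      (IsScalarTower.toAlgHom k kbar Kbar) (IsScalarTower.toAlgHom k K Kbar)))
    (hK : FunFld.IsFunctionField k K) (hg : FunFld.IsGeometric k K) (Q : FunFld.Place kbar Kbar) :
    ∃ k' : IntermediateField k kbar, FiniteDimensional k k' ∧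
      (∃ z ∈ Algebra.adjoin K (Set.range fun c : k' => algebraMap kbar Kbar c), Q.1 z = WithZero.exp (-1)) ∧
      ∀ Q' : FunFld.Place kbar Kbar,
        (∃ e : ℕ, ∀ z ∈ Algebra.adjoin K (Set.range fun c : k' => algebraMap kbar Kbar c), Q'.1 z = Q.1 z ^ e) → Q' = Q := by
  classical
  open Groth.Agent.GeomFFLib Groth.Agent.FFLib in
  haveI : Algebra.IsAlgebraic k kbar := IsAlgClosure.isAlgebraic
  have hKb : Groth.Agent.FFLib.FG1 kbar Kbar := Groth.Agent.GeomFFLib.fg1_algExt h.2 hK.1
  obtain ⟨f, m, -, -, -, hfQ, honly⟩ := Groth.Agent.GeomFFLib.exists_pole_only hKb Q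
  obtain ⟨z, hz⟩ := Q.2.2 (WithZero.exp (-1))
  obtain ⟨s, hs⟩ := Groth.Agent.GeomFFLib.exists_finset_coeff h.2 f
  obtain ⟨t, ht⟩ := Groth.Agent.GeomFFLib.exists_finset_coeff h.2 z
  let E := IntermediateField.adjoin k ((s ∪ t : Finset kbar) : Set kbar)
  have hE : ((s ∪ t : Finset kbar) : Set kbar) ⊆ E := IntermediateField.subset_adjoin k _
  rw [Finset.coe_union, Set.union_subset_iff] at hE
  refine ⟨E, IntermediateField.finiteDimensional_adjoin fun a _ => Algebra.IsIntegral.isIntegral a,
    ⟨z, (ht E hE.2).1, hz⟩, fun Q' ⟨e, he⟩ => honly Q' ?_⟩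
  rw [he f (hs E hE.1).1]
  refine one_lt_pow₀ hfQ ?_
  rintro rfl
  simpa using he 0 (zero_mem _)

end Groth.Agent.S12593
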