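import Groth.Statements.S12594
import Groth.Agent.GeomFFLib.Insep
import Groth.Agent.S11006
-- import your own Groth.Agent.* helpers here

set_option autoImplicit false
universe u v
open FunFld

namespace Groth.Agent.S12594

/-- For a geometric function field of one variable `K/k` there is a finite purely inseparable extension
`k'/k` such that `k' ⊗_k K` is nonsingular: every place of it is nonsingular with respect to every
finite extension `k''/k'` (the integral closure of its valuation ring in `k'' ⊗_{k'} (k' ⊗_k K)` is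
generated by `k''`). -/
theorem result (k : Type u) (K : Type v) [Field k] [Field K] [Algebra k K]
    (hK : FunFld.IsFunctionField k K) (hg : FunFld.IsGeometric k K) :
    ∃ (k' : Type u) (_ : Field k') (_ : Algebra k k'), FiniteDimensional k k' ∧ IsPurelyInseparable k k' ∧
      ∀ (K' : Type v) [Field K'] [Algebra K K'] [Algebra k' K'] [Algebra k K']
        [IsScalarTower k k' K'] [IsScalarTower k K K'],
        Function.Bijective (Algebra.TensorProduct.productMap
          (IsScalarTower.toAlgHom k k' K') (IsScalarTower.toAlgHom k K K')) →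
        ∀ (Q : FunFld.Place k' K') (k'' : Type u) [Field k''] [Algebra k' k''] [FiniteDimensional k' k'']
          (K'' : Type v) [Field K''] [Algebra K' K''] [Algebra k'' K''] [Algebra k' K'']
          [IsScalarTower k' k'' K''] [IsScalarTower k' K' K''],
          Function.Bijective (Algebra.TensorProduct.productMap
            (IsScalarTower.toAlgHom k' k'' K'') (IsScalarTower.toAlgHom k' K' K'')) →
          integralClosure (Q.O.toSubring.map (algebraMap K' K'')) K'' =
            Algebra.adjoin (Q.O.toSubring.map (algebraMap K' K'')) (Set.range (algebraMap k'' K'')) := by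
  classical
  open Groth.Agent.GeomFFLib Groth.Agent.FFLib TensorProduct in
  obtain ⟨x, hx, n, b, hb, hδne, -⟩ := Groth.Agent.GeomFFLib.exists_good_data' hK hg
  let kp := perfectClosure k (AlgebraicClosure k)
  letI : Field (kp ⊗[k] K) := (Groth.Agent.GeomFFLib.isField_tensor_of_algebraic hg kp).toField
  letI : Algebra K (kp ⊗[k] K) := Algebra.TensorProduct.rightAlgebra
  haveI : IsScalarTower k K (kp ⊗[k] K) := Algebra.TensorProduct.right_isScalarTower
  have hbij : Function.Bijective (Algebra.TensorProduct.productMap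
      (IsScalarTower.toAlgHom k kp (kp ⊗[k] K)) (IsScalarTower.toAlgHom k K (kp ⊗[k] K))) := by
    have e : Algebra.TensorProduct.productMap (IsScalarTower.toAlgHom k kp (kp ⊗[k] K))
        (IsScalarTower.toAlgHom k K (kp ⊗[k] K)) = AlgHom.id k (kp ⊗[k] K) := by
      refine AlgHom.ext fun w => ?_
      induction w using TensorProduct.induction_on with
      | zero => rw [map_zero, map_zero]
      | tmul a c =>
        show (a ⊗ₜ[k] (1 : K)) * ((1 : kp) ⊗ₜ[k] c) = a ⊗ₜ[k] c
        rw [Algebra.TensorProduct.tmul_mul_tmul, mul_one, one_mul]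
      | add a b ha hb => rw [map_add, map_add, ha, hb]
    rw [e]; exact Function.bijective_id
  have hKb : FG1 kp (kp ⊗[k] K) := fg1_algExt hbij.2 hK.1
  set δ : K := ((Matrix.det (Algebra.traceMatrix (IntermediateField.adjoin k ({x} : Set K)) b) :
      IntermediateField.adjoin k ({x} : Set K)) : K) with hδ
  set xb := algebraMap K (kp ⊗[k] K) x with hxb
  set δb := algebraMap K (kp ⊗[k] K) δ with hδb
  let S := ((finite_support_ord hKb xb).union (finite_support_ord hKb δb)).toFinset
  choose f m hm htr hf hfR honly using fun R : Place kp (kp ⊗[k] K) => exists_pole_only hKb R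
  choose z hz using fun R : Place kp (kp ⊗[k] K) => R.2.2 (WithZero.exp (-1))
  choose A hAc hA1 hA using fun R : Place kp (kp ⊗[k] K) => exists_residue_lifts hKb R
  choose sc hsc using exists_finset_coeff hbij.2
  let G : Place kp (kp ⊗[k] K) → Finset kp := fun R => sc (f R) ∪ sc (z R) ∪ (A R).biUnion sc
  let E := IntermediateField.adjoin k ((S.biUnion G : Finset kp) : Set kp)
  have hE : ∀ R ∈ S, ((G R : Finset kp) : Set kp) ⊆ E := fun R hR a ha =>
    IntermediateField.subset_adjoin k _ (Finset.mem_coe.2 (Finset.mem_biUnion.2 ⟨R, hR, ha⟩))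
  haveI hfin : FiniteDimensional k E :=
    IntermediateField.finiteDimensional_adjoin fun a _ => Algebra.IsIntegral.isIntegral a
  refine ⟨E, inferInstance, inferInstance, hfin, IsPurelyInseparable.tower_bot k E kp, ?_⟩
  intro K' _ _ _ _ _ _ h Q k'' _ _ _ K'' _ _ _ _ _ _ h2
  haveI : Algebra.IsAlgebraic k E := Algebra.IsAlgebraic.of_finite k E
  haveI : Algebra.IsAlgebraic E kp := Algebra.IsAlgebraic.tower_top (K := k) E
  have hK' := (Groth.Agent.S11006.result k E K K' h hK hg).1
  have hx' : Transcendental E (algebraMap K K' x) := transcendental_algExt hx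
  obtain ⟨B, hB⟩ := exists_basisExt h hx b
  have hB' : ∀ i, IntX (k := E) (algebraMap K K' x) (B i) := fun i => by rw [hB]; exact intX_map (hb i)
  by_cases hgood : Good B Q
  · exact nonsingular_of_good h2 hx' B hK' hB' Q hgood
  obtain ⟨R, hR⟩ := exists_place_over_lift (kbar := kp) (Kbar := kp ⊗[k] K) h hKb Q
  have hRS : R ∈ S := by
    by_contra hRS
    refine hgood ?_
    rw [Set.Finite.mem_toFinset, Set.mem_union, Function.mem_support, Function.mem_support, not_or, not_not, not_not] at hRS
    have hx0 : xb ≠ 0 := (_root_.map_ne_zero _).2 (by rintro rfl; exact hx isAlgebraic_zero)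
    have h1 : Q.1 (algebraMap K K' x) ≤ 1 := (hR _).1 (by
      rw [liftHom_base, v_eq R hx0, hRS.1, neg_zero, WithZero.exp_zero])
    refine ⟨h1, ?_⟩
    rw [det_base_change b hB]
    show Q.1 (algebraMap K K' δ) = 1
    have hδ0 : δ ≠ 0 := hδne
    have hb0 : δb ≠ 0 := (_root_.map_ne_zero _).2 hδ0
    have e1 : R.1 δb = 1 := by rw [v_eq R hb0, hRS.2, neg_zero, WithZero.exp_zero]
    refine le_antisymm ((hR _).1 (by rw [liftHom_base]; exact e1.le)) ?_
    have h3 := (hR (algebraMap K K' δ)⁻¹).1 (by rw [map_inv₀, map_inv₀, liftHom_base, ← hδb, e1, inv_one])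
    rw [map_inv₀] at h3
    exact (inv_le_one₀ (zero_lt_iff.2 ((Valuation.ne_zero_iff _).2 ((_root_.map_ne_zero _).2 hδ0)))).1 h3
  have hGE := hE R hRS
  simp only [G, Finset.coe_union, Set.union_subset_iff] at hGE
  let ψ := liftHom kp (kp ⊗[k] K) h
  have lift : ∀ y : kp ⊗[k] K, ((sc y : Finset kp) : Set kp) ⊆ E → ∃ y' : K', ψ y' = y := fun y hy => by
    obtain ⟨w, hw⟩ := (hsc y E hy).2
    exact ⟨_, (liftHom_productMap h w).trans hw⟩
  obtain ⟨f', hf'⟩ := lift (f R) hGE.1.1
  obtain ⟨z', hz'⟩ := lift (z R) hGE.1.2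
  have hlA : ∀ a ∈ A R, ∃ a' : K', ψ a' = a := fun a ha => lift a
    (fun c hc => hGE.2 (Finset.mem_coe.2 (Finset.mem_biUnion.2 ⟨a, ha, hc⟩)))
  choose! lA hlA' using hlA
  have hinj : Set.InjOn lA (A R : Set (kp ⊗[k] K)) := fun a ha c hc e => by
    rw [← hlA' a ha, ← hlA' c hc, e]
  haveI : Algebra.IsSeparable E (IsLocalRing.ResidueField Q.O) := by
    refine isSeparable_residue_of_lift h hbij hK.1 hKb Q R hR (hm R) (hz'.symm ▸ hz R) (hf'.symm ▸ hf R)
      (hf'.symm ▸ htr R) (hf'.symm ▸ honly R) ((A R).image lA) (fun c hc => ?_) (fun a ha => ?_)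
    · obtain ⟨l, hl⟩ := hA R c hc
      refine ⟨fun a' => l (ψ a'), ?_⟩
      rw [Finset.sum_image hinj, Finset.sum_congr rfl fun a ha => show l (ψ (lA a)) • ψ (lA a) = l a • a by
        rw [show ψ (lA a) = a from hlA' a ha]]
      exact hl
    · obtain ⟨a0, ha0, rfl⟩ := Finset.mem_image.1 ha
      rw [show ψ (lA a0) = a0 from hlA' a0 ha0]
      exact hA1 R a0 ha0
  exact nonsingular_of_separable h2 Q hK'.1

end Groth.Agent.S12594
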