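import Groth.Statements.S12599
import Groth.Agent.FFLib.Wronsk

set_option autoImplicit false
open FunFld

namespace Groth.Agent.S12599

/-- Over an algebraically closed constant field, for a place `P` with local parameter `t`, and a
linearly independent tuple `φ = (φ₀, …, φₙ)` of functions integral at `P`, the matrix of values at
`P` of the Hasse derivatives `D_t^(j)(φᵢ)`, `j = 0, 1, …`, has rank `n + 1`: its rows are linearly
independent over the residue field. -/
theorem result
    (k K : Type*) [Field k] [IsAlgClosed k] [Field K] [Algebra k K]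
    (hK : FunFld.IsFunctionField k K) {n : ℕ} (φ : Fin (n + 1) → K) (hφ : LinearIndependent k φ)
    (P : FunFld.Place k K) (hint : ∀ i, P.1 (φ i) ≤ 1) (t : K) (ht : P.1 t = WithZero.exp (-1))
    (Ht : K →ₐ[k] PowerSeries K) (hHt : LocRes.IsHasseFamily t Ht) :
    LinearIndependent (IsLocalRing.ResidueField P.O)
      (fun i : Fin (n + 1) => fun j : ℕ => FunFld.evalP P (LocRes.hasseD Ht j (φ i))) := by
  have hP := Groth.Agent.FFLib.deg_eq_one hK P
  have hto : P.ord t = 1 := by rw [FunFld.Place.ord, ht, WithZero.log_exp]; norm_num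
  have hsep := Groth.Agent.FFLib.isSeparable_adjoin_uniformizer hK hto
  obtain ⟨Φ, hΦ, hΦt⟩ := Groth.Agent.FFLib.exists_expansion hP ht
  have hsurj : Function.Surjective (algebraMap k (IsLocalRing.ResidueField P.O)) := fun z => by
    obtain ⟨⟨y, hy⟩, rfl⟩ := IsLocalRing.residue_surjective z
    obtain ⟨c, hc⟩ := Groth.Agent.FFLib.exists_const_sub_lt hP (y := y) hy
    refine ⟨c, ?_⟩
    show IsLocalRing.residue P.O (algebraMap k P.O c) = _
    rw [eq_comm, ← sub_eq_zero, ← map_sub, Groth.Agent.FFLib.residue_eq_zero_iff_lt]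
    exact hc
  rw [Fintype.linearIndependent_iff]
  intro g hg i
  choose a ha using fun i => hsurj (g i)
  have hz := Groth.Agent.FFLib.coeff_independent hsep hΦ hΦt hHt hφ hint (a := a) fun j => by
    refine (algebraMap k (IsLocalRing.ResidueField P.O)).injective ?_
    rw [map_sum, map_zero]
    refine Eq.trans (Finset.sum_congr rfl fun i _ => ?_) ((Finset.sum_apply j Finset.univ
      (fun i => g i • fun j : ℕ => FunFld.evalP P (LocRes.hasseD Ht j (φ i)))).symm.trans (congrFun hg j))
    rw [map_mul, ha, ← Groth.Agent.FFLib.evalP_hasseD hsep hΦ hΦt hHt (hint i)]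
    rfl
  rw [← ha i, congrFun hz i, Pi.zero_apply, map_zero]

end Groth.Agent.S12599
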