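import Groth.Statements.S12607
import Groth.Agent.FFLib.WrFixed

set_option autoImplicit false
open FunFld

namespace Groth.Agent.S12607

/-- Over an algebraically closed constant field, let `φ = (φ₀, …, φₙ)` be an effective projective map
normalized at the place `P`, `t` a local parameter at `P` and `j'₁ < ⋯ < j'ₙ` the orders of `φ` at
`P`, `j'₀ = 0`. Then the span of `φ` has a basis `φ'₀, …, φ'ₙ` with `φ'ₗ = t^(j'ₗ) · (1 + higher
order terms)` at `P`; in particular `j` is one of the `j'ₗ` exactly when some function in the span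
of `φ` has order `j` at `P`. -/
theorem result
    (k K : Type*) [Field k] [IsAlgClosed k] [Field K] [Algebra k K]
    (hK : FunFld.IsFunctionField k K) (P : FunFld.Place k K) {n : ℕ} (φ : Fin (n + 1) → K) (hφ : LinearIndependent k φ)
    (heff : (1 : K) ∈ Submodule.span k (Set.range φ)) (hnorm : ∀ i, P.1 (φ i) ≤ 1)
    (t : K) (ht : P.1 t = WithZero.exp (-1))
    (Ht : K →ₐ[k] PowerSeries K) (hHt : LocRes.IsHasseFamily t Ht)
    (J' : Fin n → ℕ) (hJ' : FunFld.IsOrders (IsLocalRing.ResidueField P.O) (FunFld.hcolAt P Ht φ) J') :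
    (∃ φ' : Fin (n + 1) → K,
      Submodule.span k (Set.range φ') = Submodule.span k (Set.range φ) ∧
      P.1 (φ' 0) = 1 ∧ FunFld.evalP P (φ' 0) = 1 ∧
      ∀ l : Fin n, P.1 (φ' l.succ) = WithZero.exp (-(J' l : ℤ)) ∧
        FunFld.evalP P (φ' l.succ / t ^ J' l) = 1) ∧
    ∀ j : ℕ, (j = 0 ∨ j ∈ Set.range J') ↔
      ∃ f ∈ Submodule.span k (Set.range φ), P.1 f = WithZero.exp (-(j : ℤ)) := by
  classical
  have hdeg := FFLib.deg_eq_one hK P
  have hsep := (FFLib.hasse_separating hK hHt).2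
  obtain ⟨Φ, hΦ, hΦt⟩ := FFLib.exists_expansion hdeg ht
  obtain ⟨hpos, φ', h0, hlead, hspan, -, -, -, -⟩ :=
    FFLib.exists_adapted_tuple hsep hΦ hΦt hHt hnorm hdeg hφ heff hJ'
  have hv : ∀ l : Fin n, P.1 (φ' l.succ) = WithZero.exp (-(J' l : ℤ)) := fun l =>
    (FFLib.v_eq_exp_iff_coeff hΦ _).2 ⟨(hlead l).1, by rw [(hlead l).2]; exact one_ne_zero⟩
  refine ⟨⟨φ', hspan, by rw [h0, map_one], ?_, fun l => ⟨hv l, ?_⟩⟩, fun j => ?_⟩
  · rw [h0, FFLib.evalP_eq_coeff hΦ (by rw [map_one]), map_one]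
    simp [HahnSeries.coeff_one]
  · have hone : P.1 (φ' l.succ / t ^ J' l) = 1 := by
      rw [map_div₀, map_pow, hv, ht, ← WithZero.exp_nsmul, ← WithZero.exp_sub, ← WithZero.exp_zero]
      congr 1
      simp
    rw [FFLib.evalP_eq_coeff hΦ hone.le, map_div₀, map_pow, hΦt, HahnSeries.single_pow, one_pow,
      div_eq_mul_inv, HahnSeries.inv_single, mul_comm, HahnSeries.coeff_single_mul]
    simp [(hlead l).2]
  · constructor
    · rintro (rfl | ⟨l, rfl⟩)
      · exact ⟨1, heff, by simp⟩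
      · exact ((FFLib.isJump_hcolAt_iff hsep hΦ hΦt hHt hnorm hdeg (J' l)).1 ((hJ'.2 _).1 ⟨l, rfl⟩)).2
    · rintro ⟨f, hf, hfv⟩
      rcases Nat.eq_zero_or_pos j with rfl | hj
      · exact .inl rfl
      · exact .inr ((hJ'.2 j).2 ((FFLib.isJump_hcolAt_iff hsep hΦ hΦt hHt hnorm hdeg j).2 ⟨hj, f, hf, hfv⟩))

end Groth.Agent.S12607
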