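import Groth.Statements.S12608
import Groth.Agent.FFLib.WrDiv

set_option autoImplicit false
open FunFld

namespace Groth.Agent.S12608

/-- Over an algebraically closed constant field, let `φ = (φ₀, …, φₙ)` be an effective projective map
normalized at the place `P`, `t` a local parameter at `P`, `j₁, …, jₙ` the orders of `φ` and `j'₁,
…, j'ₙ` the orders of `φ` at `P`. Then `jₗ ≤ j'ₗ` for all `l`, and the following are equivalent: all
`j'ₗ = jₗ`; the Wronskian `w_t(φ)` does not vanish at `P`; the Weierstrass divisor `W(φ)` has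
coefficient `0` at `P` (the divisor of `dt` in it read through a family of Laurent expansions). -/
theorem result
    (k K : Type*) [Field k] [IsAlgClosed k] [Field K] [Algebra k K]
    (hK : FunFld.IsFunctionField k K) (P : FunFld.Place k K) {n : ℕ} (φ : Fin (n + 1) → K) (hφ : LinearIndependent k φ)
    (heff : (1 : K) ∈ Submodule.span k (Set.range φ)) (hnorm : ∀ i, P.1 (φ i) ≤ 1)
    (t : K) (ht : P.1 t = WithZero.exp (-1))
    (Ht : K →ₐ[k] PowerSeries K) (hHt : LocRes.IsHasseFamily t Ht)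
    (J : Fin n → ℕ) (hJ : FunFld.IsOrders K (FunFld.hcol (AlgHom.id k K) Ht φ) J)
    (J' : Fin n → ℕ) (hJ' : FunFld.IsOrders (IsLocalRing.ResidueField P.O) (FunFld.hcolAt P Ht φ) J')
    (Φ : FunFld.Place k K → (K →ₐ[k] LaurentSeries k))
    (hΦ : ∀ P : FunFld.Place k K, LocRes.IsExpansionAt P.1 (Φ P)) :
    (∀ l, J l ≤ J' l) ∧
    ((∀ l, J' l = J l) ↔ FunFld.evalP P (FunFld.wrMat (AlgHom.id k K) Ht φ J).det ≠ 0) ∧
    ((∀ l, J' l = J l) ↔ FunFld.wDiv (AlgHom.id k K) Ht Φ t φ J P = 0) := by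
  classical
  have hfix : IsFixedPt (AlgHom.id k K) P := fun z hz => hz
  obtain ⟨hpos, hb, hle⟩ := FFLib.orders_le_at_fixed hK _ hfix ht hHt hφ heff hnorm hJ hJ'
  obtain ⟨he, h1, h2⟩ := FFLib.wDiv_fixed hK hΦ _ hfix ht hHt hφ heff hnorm hJ hJ'
  have hJpos : ∀ l, 0 < J l := fun l => Nat.pos_of_ne_zero fun h0 => by
    refine ((hJ.2 0).1 ⟨l, h0⟩) (Submodule.subset_span ⟨0, Nat.zero_lt_one, ?_⟩)
    funext i
    simp [FFLib.hcol_zero, FFLib.hcol_succ, hHt.2]
  have hiff : (∀ l, J' l = J l) ↔ wDiv (AlgHom.id k K) Ht Φ t φ J P = 0 := by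
    constructor
    · intro h
      have hJJ : J' = J := funext h
      rw [(h2 (.inl hJpos)).2 (by rw [← hJJ, hb]; exact one_ne_zero)]
      simp [h]
    · intro h l
      rw [h] at h1
      have h3 : ∀ m, (0 : ℤ) ≤ (J' m : ℤ) - J m := fun m => by have := hle m; omega
      have := (Finset.sum_eq_zero_iff_of_nonneg fun m _ => h3 m).1
        (le_antisymm h1 (Finset.sum_nonneg fun m _ => h3 m)) l (Finset.mem_univ _)
      omega
  refine ⟨hle, hiff.trans ?_, hiff⟩
  have hd := FFLib.det_wrMat_ne_zero (AlgHom.id k K) hK hφ hHt hJ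
  have hint : P.1 (wrMat (AlgHom.id k K) Ht φ J).det ≤ 1 := by
    rw [FFLib.v_le_one_iff]
    have hsum : (0 : ℤ) ≤ ∑ l, ((J' l : ℤ) - J l) :=
      Finset.sum_nonneg fun m _ => by have := hle m; omega
    omega
  rw [evalP, dif_pos hint, ne_eq, FFLib.residue_eq_zero_iff_lt, FFLib.v_lt_one_iff P hd, he]
  have := (FFLib.v_le_one_iff P _).1 hint
  omega

end Groth.Agent.S12608
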