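import Groth.Statements.S12609
import Groth.Agent.FFLib.CanonWeight

set_option autoImplicit false
open FunFld

namespace Groth.Agent.S12609

/-- Over an algebraically closed constant field, let `φ` be the canonical map (a basis of `L(C)`, `C`
canonical), normalized at the place `P` after multiplication by `y ≠ 0`, and `t` a local parameter
at `P`. For `j ≥ 1`: the canonical orders at `P` include `j` exactly when `j + 1` is a gap number at
`P`, i.e. `L((j+1)P) = L(jP)`. -/
theorem result
    (k K : Type*) [Field k] [IsAlgClosed k] [Field K] [Algebra k K]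
    (hK : FunFld.IsFunctionField k K) (C : FunFld.Divisor k K) (hC : FunFld.IsCanonical k K C)
    {n : ℕ} (φ : Fin (n + 1) → K) (hφ : LinearIndependent k φ)
    (hspan : Submodule.span k (Set.range φ) = FunFld.L C)
    (P : FunFld.Place k K) (y : K) (hy : y ≠ 0)
    (heff : (1 : K) ∈ Submodule.span k (Set.range (y • φ))) (hnorm : ∀ i, P.1 (y * φ i) ≤ 1)
    (t : K) (ht : P.1 t = WithZero.exp (-1))
    (Ht : K →ₐ[k] PowerSeries K) (hHt : LocRes.IsHasseFamily t Ht) (j : ℕ) (hj : 1 ≤ j) :
    FunFld.IsJump (IsLocalRing.ResidueField P.O) (FunFld.hcolAt P Ht (y • φ)) (j + 1) ↔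
      FunFld.L (Finsupp.single P ((j : ℤ) + 1)) = FunFld.L (Finsupp.single P (j : ℤ)) := by
  classical
  have hsep := (FFLib.hasse_separating hK hHt).2
  obtain ⟨Φ, hΦ, hΦt⟩ := FFLib.exists_expansion (FFLib.deg_eq_one hK P) ht
  have hψ : LinearIndependent k (y • φ) := hφ.map' (LinearMap.mulLeft k y)
    (LinearMap.ker_eq_bot.2 (mul_right_injective₀ hy))
  have hCP : mapDiv k φ P = C P := by
    refine le_antisymm (FFLib.mapDiv_le_of_v_le hK hφ.ne_zero fun i =>
      (hspan ▸ Submodule.subset_span ⟨i, rfl⟩ : φ i ∈ L C) P) ?_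
    rcases Nat.eq_zero_or_pos (genus k K) with hg | hg
    · have := finrank_span_eq_card hφ
      rw [hspan, Fintype.card_fin] at this
      have h1 := (FFLib.canonical_ell_deg hK hC).1
      rw [ell, hg] at h1
      omega
    · obtain ⟨f, hf, hf0, hfo⟩ := (FFLib.canonical_gap hK hC P 0).2 (FFLib.not_gap_one hK hg P)
      have h3 := FFLib.mapDiv_mono_span hK (ψ := fun _ : Fin 1 => f) (φ := φ) (fun _ => hf0) (fun _ => by
        rw [hspan]; exact hf) P
      have h4 := FFLib.neg_mapDiv_le_ord hK (fun _ : Fin 1 => f) P 0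
      push_cast at hfo
      omega
  have hyord : P.ord y = C P := by
    have h1 := FFLib.mapDiv_smul_apply hK hφ.ne_zero hy P
    rw [FFLib.mapDiv_eq_zero_of_normalized hK heff hψ.ne_zero hnorm, hCP] at h1
    omega
  rw [FFLib.isJump_hcolAt_iff (φ := y • φ) hsep hΦ hΦt hHt hnorm (FFLib.deg_eq_one hK P)]
  have hgap : FunFld.L (Finsupp.single P ((j : ℤ) + 1)) = FunFld.L (Finsupp.single P (j : ℤ)) ↔ FFLib.IsGap P (j + 1) := by
    show _ ↔ FunFld.L _ = FunFld.L _
    push_cast
    rw [add_sub_cancel_right]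
  rw [hgap, ← FFLib.canonical_gap hK hC P j]
  constructor
  · rintro ⟨-, w, hw, hwv⟩
    have hw' : w ∈ (Submodule.span k (Set.range φ)).map (LinearMap.mulLeft k y) := by
      rw [Submodule.map_span, ← Set.range_comp]; exact hw
    obtain ⟨f, hf, rfl⟩ := hw'
    have hf0 : f ≠ 0 := fun e => WithZero.exp_ne_zero (hwv.symm.trans (by simp [e]))
    rw [LinearMap.mulLeft_apply, FFLib.v_eq_exp_iff P (mul_ne_zero hy hf0), FFLib.ord_mul P hy hf0, hyord, neg_neg] at hwv
    exact ⟨f, hspan ▸ hf, hf0, by omega⟩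
  · rintro ⟨f, hf, hf0, hfo⟩
    refine ⟨hj, y * f, ?_, ?_⟩
    · have : y * f ∈ (Submodule.span k (Set.range φ)).map (LinearMap.mulLeft k y) :=
        ⟨f, by rw [hspan]; exact hf, rfl⟩
      rw [Submodule.map_span, ← Set.range_comp] at this
      exact this
    · rw [FFLib.v_eq_exp_iff P (mul_ne_zero hy hf0), FFLib.ord_mul P hy hf0, hyord]; omega

end Groth.Agent.S12609
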