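import Groth.Statements.S12610
import Groth.Agent.FFLib.WrDiv

set_option autoImplicit false
open FunFld

namespace Groth.Agent.S12610

/-- Over an algebraically closed constant field, for a birational projective map `φ`, a `k`-endomorphism
`τ ≠ 1` and a place `P` fixed by `τ`, the place `P` is a Weierstrass point of `φ` with respect to
`τ`: the Weierstrass divisor `W(φ, τ) = [w_s(φ, τ)] + [τ(φ)] + n[φ] + j(φ, τ)[ds]` has positive
coefficient at `P` (the divisor of `ds` read through a family of Laurent expansions). -/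
theorem result
    (k K : Type*) [Field k] [IsAlgClosed k] [Field K] [Algebra k K]
    (hK : FunFld.IsFunctionField k K) {n : ℕ} (φ : Fin (n + 1) → K) (hφ : LinearIndependent k φ)
    (h0 : φ 0 ≠ 0) (hbir : IntermediateField.adjoin k (Set.range fun i => φ i / φ 0) = ⊤)
    (τ : K →ₐ[k] K) (hτ : τ ≠ AlgHom.id k K) (P : FunFld.Place k K) (hP : FunFld.IsFixedPt τ P)
    (s : K) (H : K →ₐ[k] PowerSeries K) (hH : LocRes.IsHasseFamily s H)
    (J : Fin n → ℕ) (hJ : FunFld.IsOrders K (FunFld.hcol τ H φ) J)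
    (Φ : FunFld.Place k K → (K →ₐ[k] LaurentSeries k))
    (hΦ : ∀ P : FunFld.Place k K, LocRes.IsExpansionAt P.1 (Φ P)) :
    0 < FunFld.wDiv τ H Φ s φ J P := by
  classical
  have hn : 0 < n := by
    rcases Nat.eq_zero_or_pos n with rfl | h
    · obtain ⟨x, hx⟩ := FFLib.exists_transcendental hK
      have : IntermediateField.adjoin k (Set.range fun i => φ i / φ 0) ≤ ⊥ :=
        IntermediateField.adjoin_le_iff.2 (by
          rintro _ ⟨i, rfl⟩
          rw [Fin.eq_zero i]
          simp [h0])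
      rw [hbir, top_le_iff] at this
      have hx1 : x ∈ (⊥ : IntermediateField k K) := this ▸ trivial
      obtain ⟨c, rfl⟩ := IntermediateField.mem_bot.1 hx1
      exact absurd (isAlgebraic_algebraMap c) hx
    · exact h
  obtain ⟨y, hy, hψ, heff, hint⟩ := FFLib.exists_normalized hK hφ P
  obtain ⟨t, Ht, -, -, ht, -, -, hHt⟩ := FFLib.exists_param hK P
  have hJψ : IsOrders K (hcol τ H (y • φ)) J := ((FFLib.orders_smul τ hH hy φ).1 J).2 hJ
  have hJt : IsOrders K (hcol τ Ht (y • φ)) J := ((FFLib.orders_change τ hK hH hHt (y • φ)).1 J).2 hJψ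
  obtain ⟨J', hJ'⟩ := FFLib.exists_orders_at hK hψ heff hint ht hHt
  obtain ⟨hpos, -, hle⟩ := FFLib.orders_le_at_fixed hK τ hP ht hHt hψ heff hint hJt hJ'
  rw [← FFLib.wDiv_smul hK hΦ τ hH hφ hy hJ, ← FFLib.wDiv_change hK hΦ τ hH hHt hψ hJψ]
  refine lt_of_lt_of_le ?_ (FFLib.wDiv_fixed hK hΦ τ hP ht hHt hψ heff hint hJt hJ').2.1
  have h00 : J ⟨0, hn⟩ = 0 := by
    have hj : IsJump K (hcol τ Ht (y • φ)) 1 := by
      rw [FFLib.isJump_iff, FFLib.pre]
      intro hmem
      have hset : hcol τ Ht (y • φ) '' Set.Iio 1 = {hcol τ Ht (y • φ) 0} := by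
        ext v
        simp
      rw [hset, Submodule.mem_span_singleton] at hmem
      obtain ⟨a, ha⟩ := hmem
      have hfun : ∀ i, a * τ (y * φ i) = y * φ i := fun i => by
        have h := congrFun ha i
        simpa [FFLib.hcol_zero, FFLib.hcol_succ, hHt.2] using h
      refine hτ ?_
      have hrat : ∀ i, τ (φ i / φ 0) = φ i / φ 0 := fun i => by
        have hy0 : y * φ 0 ≠ 0 := mul_ne_zero hy h0
        rw [show φ i / φ 0 = (y * φ i) / (y * φ 0) from (mul_div_mul_left _ _ hy).symm, map_div₀]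
        have ha0 : a ≠ 0 := fun e => hy0 (by rw [← hfun 0, e, zero_mul])
        conv_rhs => rw [← hfun i, ← hfun 0, mul_div_mul_left _ _ ha0]
      refine AlgHom.ext fun x => ?_
      have hx : x ∈ IntermediateField.adjoin k (Set.range fun i => φ i / φ 0) := by rw [hbir]; trivial
      induction hx using IntermediateField.adjoin_induction with
      | mem z hz => obtain ⟨i, rfl⟩ := hz; exact hrat i
      | algebraMap c => simp
      | add a b _ _ h1 h2 => simp [h1, h2]
      | inv a _ h1 => simp [h1]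
      | mul a b _ _ h1 h2 => simp [h1, h2]
    obtain ⟨l, hl⟩ := (hJt.2 0).2 hj
    have := hJt.1.monotone (show (⟨0, hn⟩ : Fin n) ≤ l from Fin.mk_le_of_le_val (Nat.zero_le _))
    omega
  refine Finset.sum_pos' (fun l _ => by have := hle l; omega) ⟨⟨0, hn⟩, Finset.mem_univ _, ?_⟩
  have := hpos ⟨0, hn⟩
  omega

end Groth.Agent.S12610
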