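import Groth.Statements.S12611
import Groth.Agent.FFLib.Birational

set_option autoImplicit false
open FunFld

namespace Groth.Agent.S12611

/-- Over an algebraically closed constant field of characteristic `0` or greater than `deg φ`, a
birational projective map `φ = (φ₀, …, φₙ)` is classical: its orders are `(1, 2, …, n)`, and for a
`k`-endomorphism `τ ≠ 1` its `τ`-orders are `(0, 1, …, n-1)`. (The published statement has no
fixed-point hypothesis for `τ ≠ 1` and is false without one: on a smooth plane cubic in
characteristic `0`, pulling back along multiplication by `-2` gives `τ`-orders `(0, 2)`. This row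
assumes `τ` has a strong fixed point — a place whose maximal ideal `τ` maps into its square — which
is what the proof uses, through the equality criterion for Wronskian orders at such a point.) -/
theorem result
    (k K : Type*) [Field k] [IsAlgClosed k] [Field K] [Algebra k K]
    (hK : FunFld.IsFunctionField k K) {n : ℕ} (φ : Fin (n + 1) → K) (hφ : LinearIndependent k φ)
    (h0 : φ 0 ≠ 0) (hbir : IntermediateField.adjoin k (Set.range fun i => φ i / φ 0) = ⊤)
    (hchar : ringChar k = 0 ∨ (FunFld.mapDiv k φ).deg < ringChar k)
    (τ : K →ₐ[k] K) (s : K) (H : K →ₐ[k] PowerSeries K) (hH : LocRes.IsHasseFamily s H) :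
    (τ = AlgHom.id k K → FunFld.IsOrders K (FunFld.hcol τ H φ) (fun l : Fin n => (l : ℕ) + 1)) ∧
    (τ ≠ AlgHom.id k K → (∃ P : FunFld.Place k K, FunFld.IsStrongFixedPt τ P) →
      FunFld.IsOrders K (FunFld.hcol τ H φ) (fun l : Fin n => (l : ℕ))) := by
  refine ⟨fun h => ?_, fun h ⟨P, hP⟩ => ?_⟩
  · obtain ⟨x, hx⟩ := FFLib.exists_transcendental hK
    obtain ⟨P, -⟩ := FFLib.exists_pole hK (x := x) fun ⟨a, ha⟩ => hx (ha ▸ isAlgebraic_algebraMap a)
    exact (FFLib.orders_classical hK hφ h0 hbir hchar τ hH (P := P) (by subst h; exact fun z hz => hz)).1 h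
  · exact (FFLib.orders_classical hK hφ h0 hbir hchar τ hH
      (P := P) fun z hz => (hP z hz).trans_lt (by rw [← WithZero.exp_zero, WithZero.exp_lt_exp]; norm_num)).2 h hP

end Groth.Agent.S12611
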