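import Groth.Statements.S12613
import Groth.Agent.FFLib.AdjointPlane

set_option autoImplicit false
open FunFld

namespace Groth.Agent.S12613

/-- Over an algebraically closed constant field, for a birational plane map `φ = (1 : x : y)` of degree
`e` with irreducible relation `f̂(x, y) = 0`, the adjoint divisor `Δ(φ) = (e - 3)[φ] - [dx/f̂_y]`
has nonnegative coefficient at every place `Q`, and the coefficient is `0` exactly when `φ` is
nonsingular at `Q`. The order of `dx/f̂_y` at `Q` is read through a Laurent expansion at `Q`,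
through which that differential is assumed nonzero. -/
theorem result
    (k K : Type*) [Field k] [IsAlgClosed k] [Field K] [Algebra k K]
    (hK : FunFld.IsFunctionField k K) (x y : K) (hxy : IntermediateField.adjoin k ({x, y} : Set K) = ⊤)
    (f : MvPolynomial (Fin 2) k) (hf : Irreducible f) (hfxy : MvPolynomial.aeval ![x, y] f = 0)
    (Q : FunFld.Place k K) (ΦQ : K →ₐ[k] LaurentSeries k) (hΦQ : LocRes.IsExpansionAt Q.1 ΦQ)
    (hne : LocRes.vDiff ΦQ (MvPolynomial.aeval ![x, y] (MvPolynomial.pderiv 1 f))⁻¹ x ≠ 0) :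
    0 ≤ ((FunFld.mapDiv k ![(1 : K), x, y]).deg - 3) * FunFld.mapDiv k ![(1 : K), x, y] Q -
        LocRes.ordDiff ΦQ (MvPolynomial.aeval ![x, y] (MvPolynomial.pderiv 1 f))⁻¹ x ∧
    (((FunFld.mapDiv k ![(1 : K), x, y]).deg - 3) * FunFld.mapDiv k ![(1 : K), x, y] Q -
        LocRes.ordDiff ΦQ (MvPolynomial.aeval ![x, y] (MvPolynomial.pderiv 1 f))⁻¹ x = 0 ↔
      FunFld.IsNonsingularAt ![(1 : K), x, y] Q) := by
  classical
  obtain ⟨t, H, ht, hH, hd⟩ := Groth.Agent.FFLib.dOrd_spec hK Q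
  rw [Groth.Agent.FFLib.vDiff_eq hK hΦQ ht hH] at hne
  rw [Groth.Agent.FFLib.ordDiff_eq hK hΦQ ht hH]
  set fx := MvPolynomial.aeval ![x, y] (MvPolynomial.pderiv 0 f) with hfx
  set fy := MvPolynomial.aeval ![x, y] (MvPolynomial.pderiv 1 f) with hfy
  obtain ⟨h1, h2⟩ := mul_ne_zero_iff.1 (fun e => hne (by rw [e, map_zero]) :
    fy⁻¹ * LocRes.hasseD H 1 x ≠ 0)
  have hfy0 : fy ≠ 0 := fun e => h1 (by rw [e, inv_zero])
  let δ := Groth.Agent.FFLib.hasseDer H hH
  have hδx : δ x = LocRes.hasseD H 1 x := rfl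
  obtain ⟨M, hsep, hδh⟩ := Groth.Agent.FFLib.exists_model_sep (x := x) (y := y) hK hxy δ (.inl h2)
  obtain ⟨P, hP, hPd, hrel, hdeg⟩ := M.exists_eqn hK hxy
  obtain ⟨c, hc, hpsi⟩ := M.exists_const_eqn hK hxy hP hPd hrel hf hfxy
  set P1 := Groth.Agent.FFLib.ev2 M.h y (Polynomial.derivative P) with hP1
  have hder : algebraMap k K c * P1 = fy + algebraMap k K (-(M.a⁻¹ * M.b)) * fx := by
    have h := congrArg (fun p => Groth.Agent.FFLib.ev2 M.h y (Polynomial.derivative p)) hpsi
    simp only [M.derivative_psi, Polynomial.derivative_C_mul, map_add, map_mul,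
      Groth.Agent.FFLib.ev2_C, Polynomial.aeval_C, M.ev2_psi] at h
    exact h.symm
  have hchain : fx * δ x + fy * δ y = 0 := by
    rw [← Groth.Agent.FFLib.derivation_aeval_two, hfxy, map_zero]
  have hh : δ M.h = algebraMap k K M.a * δ x + algebraMap k K M.b * δ y := by
    rw [M.eq, map_add, Derivation.map_smul, Derivation.map_smul, Algebra.smul_def, Algebra.smul_def]
  have hab : algebraMap k K M.a * algebraMap k K (-(M.a⁻¹ * M.b)) = -algebraMap k K M.b := by
    rw [← map_mul, mul_neg, ← mul_assoc, mul_inv_cancel₀ M.a_ne, one_mul, map_neg]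
  have hkey : fy * δ M.h = algebraMap k K (M.a * c) * P1 * δ x := by
    rw [map_mul, mul_assoc (algebraMap k K M.a), hder, hh]
    linear_combination algebraMap k K M.b * hchain - fx * δ x * hab
  have hne0 : P1 ≠ 0 := fun e => by
    rw [e, mul_zero, zero_mul] at hkey
    exact mul_ne_zero hfy0 hδh hkey
  have := hsep
  obtain ⟨h3, h4⟩ := M.adjoint hK hxy hP hPd hrel hdeg hne0 Q
  have hdh : Groth.Agent.FFLib.dOrd hK M.h Q = Q.ord (δ M.h) := hd _
  have hac : algebraMap k K (M.a * c) ≠ 0 := by simp [M.a_ne, hc]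
  have hord := congrArg Q.ord hkey
  rw [hδx, Groth.Agent.FFLib.ord_mul Q hfy0 hδh, Groth.Agent.FFLib.ord_mul Q (mul_ne_zero hac hne0) h2,
    Groth.Agent.FFLib.ord_mul Q hac hne0, Groth.Agent.FFLib.ord_const] at hord
  rw [Groth.Agent.FFLib.ord_mul Q h1 h2, Groth.Agent.FFLib.ord_inv, M.deg_eq hK hxy]
  rw [hdh, ← hP1] at h3 h4
  refine ⟨by omega, Iff.trans ?_ h4⟩
  constructor <;> intro h <;> omega

end Groth.Agent.S12613
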