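import Groth.Statements.S12614
import Groth.Agent.FFLib.WrDiv

set_option autoImplicit false
open FunFld

namespace Groth.Agent.S12614

/-- Over an algebraically closed constant field, the Weierstrass divisor `W_s(φ, τ) = [w_s(φ, τ)] +
[τ(φ)] + n[φ] + j(φ, τ)[ds]` does not depend on the separating variable `s` and does not change when
`φ` is replaced by an equivalent map `y · Aφ` (`A` invertible over `k`, `y ≠ 0`). Divisors of
differentials are read through a fixed family of Laurent expansions. -/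
theorem result
    (k K : Type*) [Field k] [IsAlgClosed k] [Field K] [Algebra k K]
    (hK : FunFld.IsFunctionField k K) {n : ℕ} (φ : Fin (n + 1) → K) (hφ : LinearIndependent k φ)
    (τ : K →ₐ[k] K) (s : K) (Hs : K →ₐ[k] PowerSeries K) (hHs : LocRes.IsHasseFamily s Hs)
    (t : K) (Ht : K →ₐ[k] PowerSeries K) (hHt : LocRes.IsHasseFamily t Ht)
    (J : Fin n → ℕ) (hJ : FunFld.IsOrders K (FunFld.hcol τ Hs φ) J)
    (A : Matrix (Fin (n + 1)) (Fin (n + 1)) k) (hA : A.det ≠ 0) (y : K) (hy : y ≠ 0)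
    (φ' : Fin (n + 1) → K) (hφ' : ∀ i, φ' i = y * ∑ j, A i j • φ j)
    (Φ : FunFld.Place k K → (K →ₐ[k] LaurentSeries k))
    (hΦ : ∀ P : FunFld.Place k K, LocRes.IsExpansionAt P.1 (Φ P)) :
    FunFld.wDiv τ Ht Φ t φ' J = FunFld.wDiv τ Hs Φ s φ J := by
  classical
  set ψ : Fin (n + 1) → K := fun i => ∑ j, A i j • φ j with hψ
  obtain rfl : φ' = y • ψ := funext hφ'
  have hψli : LinearIndependent k ψ := by
    rw [Fintype.linearIndependent_iff]
    intro g hg
    simp only [hψ, Finset.smul_sum, smul_smul] at hg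
    rw [Finset.sum_comm] at hg
    simp only [← Finset.sum_smul] at hg
    have h := Fintype.linearIndependent_iff.1 hφ _ hg
    have hv : Matrix.vecMul g A = 0 := funext h
    by_contra hne
    push Not at hne
    exact hA (Matrix.exists_vecMul_eq_zero_iff.1 ⟨g, fun e => by simp [e] at hne, hv⟩)
  have hJψ := ((FFLib.orders_linear τ Hs A hA φ ψ fun i => rfl).1 J).2 hJ
  have hJt := ((FFLib.orders_change τ hK hHs hHt ψ).1 J).2 hJψ
  rw [FFLib.wDiv_smul hK hΦ τ hHt hψli hy hJt, FFLib.wDiv_change hK hΦ τ hHs hHt hψli hJψ,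
    FFLib.wDiv_linear hK hΦ τ hHs hφ hψli A hA (fun i => rfl) hJ]

end Groth.Agent.S12614
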