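import Groth.Statements.S1262
import Mathlib
import Groth.Agent.FlatInjLib.AssFlat
-- import your own Groth.Agent.* helpers here

set_option autoImplicit false
universe u
open FlatMor

namespace Groth.Agent.S1262

/-- Ring form, X = Spec S affine: let S be a finite type R-algebra, N a finite S-module and p a prime of
R. Then the set of points x of the fibre Spec(κ(p) ⊗ S) such that N is flat over R at the prime of S
under x is open in the fibre. -/
theorem result {R S : Type u} [CommRing R] [CommRing S] [Algebra R S] [Algebra.FiniteType R S]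
    (N : Type u) [AddCommGroup N] [Module S N] [Module R N] [IsScalarTower R S N] [Module.Finite S N]
    (p : Ideal R) [p.IsPrime] :
    IsOpen {x : PrimeSpectrum (p.Fiber S) |
      FlatCA.FlatAt R (x.asIdeal.comap (Algebra.TensorProduct.includeRight (R := R) (A := p.ResidueField) (B := S)).toRingHom) N} := by
  haveI : IsNoetherianRing (p.Fiber S) := Algebra.FiniteType.isNoetherianRing p.ResidueField _
  haveI : Module.Finite (p.Fiber S) (FlatCA.fiberMod p S N) := by
    letI : Algebra S (p.Fiber S) := Algebra.TensorProduct.rightAlgebra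
    exact Module.Finite.base_change S (p.Fiber S) N
  let bad : Set (Ideal (p.Fiber S)) := {Q ∈ associatedPrimes (p.Fiber S) (FlatCA.fiberMod p S N) |
    ∀ h : Q.IsPrime, ¬ FlatCA.FlatAt R (Q.comap (FibAssLib.incl S p)) N}
  have hfin : bad.Finite := (associatedPrimes.finite (p.Fiber S) (FlatCA.fiberMod p S N)).subset fun Q hQ => hQ.1
  have hc : IsClosed (⋃ Q ∈ bad, PrimeSpectrum.zeroLocus (Q : Set (p.Fiber S))) :=
    hfin.isClosed_biUnion fun Q _ => PrimeSpectrum.isClosed_zeroLocus _
  convert hc.isOpen_compl using 1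
  ext x
  simp only [Set.mem_setOf_eq, Set.mem_compl_iff, Set.mem_iUnion, PrimeSpectrum.mem_zeroLocus, SetLike.coe_subset_coe,
    exists_prop, not_exists, not_and]
  refine ⟨fun hflat Q hQ hle => ?_, fun hno => ?_⟩
  · haveI : Q.IsPrime := IsAssociatedPrime.isPrime hQ.1
    exact hQ.2 inferInstance (FlatInjLib.flatAt_of_le (Ideal.comap_mono hle) hflat)
  · haveI : (x.asIdeal.comap (FibAssLib.incl S p)).LiesOver p := FlatInjLib.comap_incl_liesOver p x.asIdeal
    refine FlatInjLib.flatAt_of_ass p (x.asIdeal.comap (FibAssLib.incl S p)) fun Q hQ _ hle => ?_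
    by_contra h
    refine hno Q ⟨hQ, fun _ => h⟩ ?_
    rw [← FlatInjLib.fiberIdeal_comap p Q, ← FlatInjLib.fiberIdeal_comap p x.asIdeal]
    exact Ideal.map_mono hle

end Groth.Agent.S1262
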