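import Groth.Statements.S1556
import Groth.Agent.GeomRedFieldLib.Locus
import Groth.Agent.CohenLib.SmoothPoint
import Mathlib.RingTheory.Etale.Field
import Mathlib.RingTheory.DiscreteValuationRing.TFAE
import Mathlib.Topology.KrullDimension
-- import your own Groth.Agent.* helpers here

set_option autoImplicit false
universe u
open CategoryTheory CategoryTheory.Limits AlgebraicGeometry
attribute [local instance] Curv2.resAlgebra
open Variety

namespace Groth.Agent.S1556

/-- Let X be a curve over k (integral, separated, of finite type, of dimension one) and x a closed point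
whose residue field is separable over k. Then the local ring at x is a discrete valuation ring if
and only if x lies in the smooth locus of X → Spec k. -/
theorem result (k : Type u) [Field k] (X : Scheme.{u}) [X.Over (Spec (CommRingCat.of k))] [IsIntegral X]
    [IsSeparated (X ↘ (Spec (CommRingCat.of k)))] [LocallyOfFinitePresentation (X ↘ (Spec (CommRingCat.of k)))] [QuasiCompact (X ↘ (Spec (CommRingCat.of k)))]
    (hdim : topologicalKrullDim X = 1) (x : X) (hx : IsClosed ({x} : Set X))
    [Algebra.IsSeparable k (X.residueField x)] :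
    IsDiscreteValuationRing (X.presheaf.stalk x) ↔ x ∈ (X ↘ (Spec (CommRingCat.of k))).smoothLocus := by
  let f := X ↘ Spec (CommRingCat.of k)
  haveI : IsLocallyNoetherian X := LocallyOfFiniteType.isLocallyNoetherian f
  obtain ⟨_, ⟨U : X.Opens, hU, rfl⟩, hxU, -⟩ :=
    X.isBasis_affineOpens.exists_subset_of_mem_open (Set.mem_univ x) isOpen_univ
  obtain ⟨T, _, _, j, hjo, hr, hj⟩ := GeomRedFieldLib.exists_algebra f hU
  haveI := hjo
  haveI := GeomRedFieldLib.finiteType_of_chart f j hj
  obtain ⟨q₀, rfl⟩ : x ∈ Set.range j := by rw [hr]; exact hxU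
  let q : PrimeSpectrum T := q₀
  haveI : Nonempty ↥(Spec (CommRingCat.of T)) := ⟨q₀⟩
  haveI : IsIntegral (Spec (CommRingCat.of T)) := isIntegral_of_isOpenImmersion j
  haveI : IsDomain T := (affine_isIntegral_iff (CommRingCat.of T)).mp this
  let R := X.presheaf.stalk (j q)
  let eL : R ≃+* Localization.AtPrime q.asIdeal :=
    (asIso (j.stalkMap q)).commRingCatIsoToRingEquiv.trans (Spec.stalkIso (CommRingCat.of T) q).commRingCatIsoToRingEquiv
  show IsDiscreteValuationRing R ↔ j q ∈ f.smoothLocus
  letI := Curv2.stalkAlgebra k X (j q)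
  obtain ⟨eA⟩ := GeomRedFieldLib.nonempty_algEquiv_stalk f j hj q (GeomRedFieldLib.fromSpecStalk_comp_over X (j q))
  haveI : Algebra.IsSeparable k (X.residueField (j q)) := ‹_›
  let ψ : q.asIdeal.ResidueField →ₐ[k] X.residueField (j q) :=
    { (IsLocalRing.ResidueField.mapEquiv eA.symm.toRingEquiv).toRingHom with
      commutes' := fun c ↦ by
        show IsLocalRing.ResidueField.mapEquiv eA.symm.toRingEquiv
          (IsLocalRing.residue _ (algebraMap k (Localization.AtPrime q.asIdeal) c)) = _
        rw [← eA.commutes c]
        show IsLocalRing.residue R (eA.symm (eA (algebraMap k R c))) = _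
        rw [AlgEquiv.symm_apply_apply]
        rfl }
  haveI : Algebra.IsSeparable k q.asIdeal.ResidueField := Algebra.IsSeparable.of_algHom k (X.residueField (j q)) ψ
  haveI : Algebra.FormallyEtale k q.asIdeal.ResidueField := Algebra.FormallyEtale.of_isSeparable k _
  haveI : Algebra.IsGeometricallyReduced k q.asIdeal.ResidueField := CohenLib.isGeometricallyReduced_of_formallySmooth
  rw [GeomRedFieldLib.mem_smoothLocus_chart f j hj q, CohenLib.isSmoothAt_iff_isRegularLocalRing k T]
  haveI : IsNoetherianRing T := Algebra.FiniteType.isNoetherianRing k T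
  haveI : IsDomain R := eL.injective.isDomain eL.toRingHom
  have hd : ringKrullDim R ≤ 1 := by
    rw [ringKrullDim_eq_of_ringEquiv eL, IsLocalization.AtPrime.ringKrullDim_eq_height q.asIdeal]
    refine (Ideal.height_le_ringKrullDim_of_ne_top q.2.ne_top).trans ?_
    rw [← PrimeSpectrum.topologicalKrullDim_eq_ringKrullDim, ← hdim]
    exact j.isOpenEmbedding.isEmbedding.isInducing.topologicalKrullDim_le
  have hnf : ¬ IsField R := fun hF ↦ by
    have hbot : q.asIdeal = ⊥ := by
      have h1 := Localization.AtPrime.map_eq_maximalIdeal (I := q.asIdeal)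
      rw [IsLocalRing.isField_iff_maximalIdeal_eq.mp (MulEquiv.isField hF eL.symm.toMulEquiv)] at h1
      exact (Ideal.map_eq_bot_iff_of_injective
        (IsLocalization.injective _ (Ideal.primeCompl_le_nonZeroDivisors q.asIdeal))).mp h1
    have hgen : j q = genericPoint X := by
      rw [← genericPoint_eq_of_isOpenImmersion j, genericPoint_eq_bot_of_affine]
      exact congrArg j (show q = (⊥ : PrimeSpectrum T) from PrimeSpectrum.ext hbot)
    haveI : Subsingleton X := ⟨fun a b ↦ by
      have ha : a = j q := (genericPoint_specializes a).mem_closed hx hgen.symm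
      have hb : b = j q := (genericPoint_specializes b).mem_closed hx hgen.symm
      rw [ha, hb]⟩
    haveI : DiscreteTopology X := discreteTopology_iff_singleton_mem_nhds.mpr fun a ↦ by
      rw [show ({a} : Set X) = Set.univ from Set.eq_univ_of_forall fun b ↦ Subsingleton.elim b a]
      exact Filter.univ_mem
    have h0 := topologicalKrullDim_zero_of_discreteTopology (X := X)
    rw [hdim] at h0
    exact absurd h0 (by norm_num)
  constructor
  · intro h
    haveI := h
    exact IsRegularLocalRing.of_ringEquiv eL
  · intro h
    haveI : IsRegularLocalRing R := IsRegularLocalRing.of_ringEquiv eL.symm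
    refine ((IsDiscreteValuationRing.TFAE R hnf).out 0 4).mpr ?_
    have h1 : ((IsLocalRing.maximalIdeal R).spanFinrank : WithBot ℕ∞) = ringKrullDim R :=
      IsRegularLocalRing.spanFinrank_maximalIdeal
    have h2 : (IsLocalRing.maximalIdeal R).spanFinrank ≤ 1 := by
      rw [← h1] at hd
      exact_mod_cast hd
    rcases Nat.le_one_iff_eq_zero_or_eq_one.mp h2 with h3 | h3
    · exact absurd (IsLocalRing.isField_iff_maximalIdeal_eq.mpr
        ((Submodule.spanFinrank_eq_zero_iff_eq_bot (IsNoetherian.noetherian _)).mp h3)) hnf
    · exact ((Submodule.spanFinrank_eq_one_iff _).mp h3).1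

end Groth.Agent.S1556
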