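import Groth.Statements.S12627
import Groth.Agent.GrpSchLib.Cartier
import Groth.Agent.AVAmpleLib.KerShear
import Groth.Agent.SubDescLib.Main
import Groth.Agent.AntiAffLib.Image
import Groth.Agent.SemiAbLib.FinIsog
import Groth.Agent.S1556

set_option autoImplicit false
set_option backward.isDefEq.respectTransparency false
set_option backward.defeqAttrib.useBackward true
universe u
open CategoryTheory CategoryTheory.Limits MonoidalCategory CartesianMonoidalCategory MonObj GrpObj AlgebraicGeometry
open AbVar

namespace Groth.Agent.S12627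

attribute [-instance] CategoryTheory.Hom.commGroup

open Groth.Agent.GrpSchLib IsLocalRing

section
variable {K : Type u} [Field K]

/-- Points with values in the dual numbers that reduce to the unit are trivial. -/
def TanTriv (G : Over (Spec (CommRingCat.of K))) [GrpObj G] : Prop :=
  ∀ T : overSpec (dnInl (CommRingCat.of K)) ⟶ G, testMap (dnFst _) (dnInl_fst _) ≫ T = 1 → T = 1

variable {G : Over (Spec (CommRingCat.of K))} [GrpObj G]

lemma exists_tan (T : overSpec (dnInl (CommRingCat.of K)) ⟶ G) (hT : testMap (dnFst _) (dnInl_fst _) ≫ T = 1) :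
    ∃ φ hφ, φ ≫ dnFst _ = evE G ∧ ptHom (dnInl _) φ hφ = T := by
  have hpt : T.left (closedPoint (dn (CommRingCat.of K))) = ptE G := by
    have hloc : IsLocalHom (dnFst (CommRingCat.of K)).hom :=
      ⟨fun z hz => TrivSqZeroExt.isUnit_iff_isUnit_fst.2 hz⟩
    rw [← ptHom_unit] at hT
    have e : Spec.map (dnFst (CommRingCat.of K)) ≫ T.left = η[G].left := by
      have := congrArg CommaMorphism.left hT
      simpa [testMap, ptHom, map_evE] using this
    rw [← Spec_closedPoint (f := dnFst (CommRingCat.of K))]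
    exact congr($e (closedPoint K))
  obtain ⟨φ, hφ, hφT⟩ := exists_eq_ptHom _ T hpt
  refine ⟨φ, hφ, ?_, hφT⟩
  rw [← hφT, testMap_ptHom, ← ptHom_unit] at hT
  exact (ptHom_injective _ _ hT).trans (Category.comp_id _)

lemma tan_reduces (φ : Rloc G ⟶ dn (CommRingCat.of K)) (h : str G ≫ φ = dnInl _)
    (h' : φ ≫ dnFst _ = evE G) : testMap (dnFst _) (dnInl_fst _) ≫ ptHom (dnInl _) φ h = 1 := by
  rw [testMap_ptHom, ← ptHom_unit]
  exact ptHom_congr (h'.trans (Category.comp_id _).symm) _

lemma evE_surjective : Function.Surjective (evE G).hom := fun c => ⟨str G c, congr($(str_evE (G := G)) c)⟩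

lemma ker_evE : RingHom.ker (evE G).hom = maximalIdeal (Rloc G) :=
  IsLocalRing.eq_maximalIdeal (RingHom.ker_isMaximal_of_surjective _ evE_surjective)

lemma sub_mem_maximal (f : Rloc G) : f - str G (evE G f) ∈ maximalIdeal (Rloc G) := by
  rw [← ker_evE, RingHom.mem_ker, map_sub, sub_eq_zero]
  exact congr($(str_evE (G := G)) (evE G f)).symm

/-- Scaling of the infinitesimal. -/
def scaleHom (c : K) : DualNumber K →+* DualNumber K where
  toFun z := TrivSqZeroExt.inl z.fst + TrivSqZeroExt.inr (c * z.snd)
  map_one' := by ext <;> simp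
  map_zero' := by ext <;> simp
  map_add' a b := by ext <;> simp [mul_add]
  map_mul' a b := by ext <;> simp <;> ring

/-- Scaling of the infinitesimal. -/
def scale (c : K) : dn (CommRingCat.of K) ⟶ dn (CommRingCat.of K) := CommRingCat.ofHom (scaleHom c)

lemma dnInl_scale (c : K) : dnInl (CommRingCat.of K) ≫ scale c = dnInl _ := by
  refine CommRingCat.hom_ext (RingHom.ext fun x => ?_)
  ext <;> simp [dnInl, scale, scaleHom]

lemma mul_eq_inr (a b : DualNumber K) (hb : b.fst = 0) :
    a * b = TrivSqZeroExt.inr (b.snd * a.fst) := by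
  ext <;> simp [hb, mul_comm]

/-- A one-dimensional tangent space: every tangent is a multiple of a nontrivial one. -/
theorem exists_scale_eq (hP : (maximalIdeal (Rloc G)).IsPrincipal)
    {v w : overSpec (dnInl (CommRingCat.of K)) ⟶ G}
    (hv : testMap (dnFst _) (dnInl_fst _) ≫ v = 1) (hw : testMap (dnFst _) (dnInl_fst _) ≫ w = 1)
    (hne : v ≠ 1) : ∃ c : K, testMap (scale c) (dnInl_scale c) ≫ v = w := by
  obtain ⟨α, hα, hα', rfl⟩ := exists_tan v hv
  obtain ⟨β, hβ, hβ', rfl⟩ := exists_tan w hw
  obtain ⟨t, ht⟩ := hP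
  have htm : t ∈ maximalIdeal (Rloc G) := by rw [ht]; exact Submodule.mem_span_singleton_self t
  have hev : evE G t = 0 := by rwa [← ker_evE, RingHom.mem_ker] at htm
  have key : ∀ f, ∃ g, ∀ (gm : Rloc G ⟶ dn (CommRingCat.of K)), str G ≫ gm = dnInl _ → gm ≫ dnFst _ = evE G →
      gm f = TrivSqZeroExt.inl (evE G f) + TrivSqZeroExt.inr ((gm t).snd * evE G g) := by
    intro f
    have ht' : maximalIdeal (Rloc G) = Ideal.span {t} := ht
    have hmem := sub_mem_maximal (G := G) f
    rw [ht'] at hmem
    obtain ⟨g, hg⟩ := Ideal.mem_span_singleton'.1 hmem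
    refine ⟨g, fun gm hgm hgm' => ?_⟩
    have h1 : gm (str G (evE G f)) = TrivSqZeroExt.inl (evE G f) := congr($hgm (evE G f))
    have h2 : ∀ z, (gm z).fst = evE G z := fun z => congr($hgm' z)
    have h3 : gm f = gm (str G (evE G f)) + gm g * gm t := by
      rw [← map_mul, ← map_add, hg]; congr 1; ring
    rw [h3, h1, mul_eq_inr (gm g) (gm t) ((h2 t).trans hev), h2 g]
  have hb : (α t).snd ≠ 0 := by
    intro h0
    refine hne ?_
    rw [← ptHom_unit]
    refine ptHom_congr ?_ _
    refine CommRingCat.hom_ext (RingHom.ext fun f => ?_)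
    obtain ⟨g, hg⟩ := key f
    refine (hg α hα hα').trans ?_
    ext <;> simp [h0, dnInl]
  refine ⟨(β t).snd / (α t).snd, ?_⟩
  rw [testMap_ptHom]
  refine ptHom_congr ?_ _
  refine CommRingCat.hom_ext (RingHom.ext fun f => ?_)
  obtain ⟨g, hg⟩ := key f
  show scaleHom _ (α f) = β f
  rw [hg α hα hα', hg β hβ hβ']
  ext <;> simp [scaleHom]
  field_simp

variable (G) in
/-- No tangent vectors at the unit: reduced. -/
theorem isReduced_of_tanTriv [IsAlgClosed K] [LocallyOfFiniteType G.hom] (h : TanTriv G) :
    AlgebraicGeometry.IsReduced G.left := by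
  haveI : IsLocallyNoetherian G.left := LocallyOfFiniteType.isLocallyNoetherian G.hom
  refine isReduced_of_stalk_unit G ?_
  letI : Algebra K (Rloc G) := (str G).hom.toAlgebra
  let ev : Rloc G →ₐ[K] K :=
    { (evE G).hom with
      commutes' := fun c => congr($(str_evE (G := G)) c) }
  have hev : ∀ z ∈ maximalIdeal (Rloc G), ev z = 0 := by
    intro z hz
    rwa [← ker_evE, RingHom.mem_ker] at hz
  have hle : maximalIdeal (Rloc G) ≤ maximalIdeal (Rloc G) • maximalIdeal (Rloc G) := by
    intro x hx
    rw [smul_eq_mul, ← pow_two]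
    by_contra hx2
    have hxW : x ∉ (K ∙ (1 : Rloc G)) ⊔ ((maximalIdeal (Rloc G)) ^ 2).restrictScalars K := by
      intro hxW
      obtain ⟨a, ha, y, hy, hay⟩ := Submodule.mem_sup.1 hxW
      obtain ⟨c, rfl⟩ := Submodule.mem_span_singleton.1 ha
      have hy0 : ev y = 0 := hev y (Ideal.pow_le_self two_ne_zero hy)
      have hc : c = 0 := by
        have := congrArg ev hay
        rw [map_add, map_smul, map_one, hy0, hev x hx, add_zero, smul_eq_mul, _root_.mul_one] at this
        exact this
      rw [hc, zero_smul, zero_add] at hay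
      exact hx2 (hay ▸ hy)
    obtain ⟨v, hvx, hvW⟩ := Submodule.exists_dual_map_eq_bot_of_notMem hxW inferInstance
    have hv0 : ∀ z ∈ (K ∙ (1 : Rloc G)) ⊔ ((maximalIdeal (Rloc G)) ^ 2).restrictScalars K, v z = 0 :=
      fun z hz => (Submodule.mem_bot K).1 (hvW ▸ Submodule.mem_map_of_mem hz)
    have hv1 : v 1 = 0 := hv0 _ (Submodule.mem_sup_left (Submodule.mem_span_singleton_self _))
    have hmem : ∀ f, f - algebraMap K (Rloc G) (ev f) ∈ maximalIdeal (Rloc G) := fun f => sub_mem_maximal f
    have hvmul : ∀ f g, v (f * g) = ev f * v g + ev g * v f := by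
      intro f g
      have h := hv0 ((f - algebraMap K (Rloc G) (ev f)) * (g - algebraMap K (Rloc G) (ev g)))
        (Submodule.mem_sup_right (by
          rw [Submodule.restrictScalars_mem, pow_two]; exact Ideal.mul_mem_mul (hmem f) (hmem g)))
      rw [show (f - algebraMap K (Rloc G) (ev f)) * (g - algebraMap K (Rloc G) (ev g)) =
        f * g - ev f • g - ev g • f + (ev f * ev g) • (1 : Rloc G) by
          simp [Algebra.smul_def]; ring] at h
      simp only [map_add, map_sub, map_smul, hv1, smul_eq_mul] at h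
      linear_combination h
    let gm : Rloc G ⟶ dn (CommRingCat.of K) := CommRingCat.ofHom (tangentHom (k := K) (R := Rloc G) ev v hv1 hvmul : (Rloc G) →+* DualNumber K)
    have hgm : str G ≫ gm = dnInl _ := by
      refine CommRingCat.hom_ext (RingHom.ext fun c => ?_)
      show TrivSqZeroExt.inl (ev (algebraMap K (Rloc G) c)) + TrivSqZeroExt.inr (v (algebraMap K (Rloc G) c)) =
        TrivSqZeroExt.inl c
      rw [ev.commutes, Algebra.algebraMap_eq_smul_one c (A := Rloc G), map_smul, hv1]
      simp
    have hgm' : gm ≫ dnFst _ = evE G := by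
      refine CommRingCat.hom_ext (RingHom.ext fun f => ?_)
      show TrivSqZeroExt.fst (TrivSqZeroExt.inl (ev f) + TrivSqZeroExt.inr (v f)) = _
      simp
      rfl
    have h1 := h (ptHom _ gm hgm) (tan_reduces gm hgm hgm')
    rw [← ptHom_unit] at h1
    have h2 := congrArg TrivSqZeroExt.snd (congr($(ptHom_injective _ _ h1) x))
    apply hvx
    simpa [gm, tangentHom, dnInl] using h2
  have hm : maximalIdeal (Rloc G) = ⊥ := Submodule.eq_bot_of_le_smul_of_le_jacobson_bot _ _
    (IsNoetherian.noetherian _) hle (IsLocalRing.maximalIdeal_le_jacobson _)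
  letI := (IsLocalRing.isField_iff_maximalIdeal_eq.2 hm).toField
  infer_instance

end

section
variable {K : Type u} [Field K] [IsAlgClosed K]

/-- A finite reduced scheme over an algebraically closed field is étale. -/
theorem etale_of_finite_reduced {N : Scheme.{u}} (g : N ⟶ Spec (CommRingCat.of K)) [IsFinite g]
    [AlgebraicGeometry.IsReduced N] : Etale g := by
  classical
  haveI : IsAffine N := isAffine_of_isAffineHom g
  let φ := Spec.preimage (N.isoSpec.inv ≫ g)
  have hg : g = N.isoSpec.hom ≫ Spec.map φ := by simp [φ]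
  have hfin : φ.hom.Finite := by
    rw [← IsFinite.SpecMap_iff]
    simp only [φ, Spec.map_preimage]
    infer_instance
  rw [hg, MorphismProperty.cancel_left_of_respectsIso @Etale, HasRingHomProperty.Spec_iff (P := @Etale)]
  letI : Algebra K Γ(N, ⊤) := φ.hom.toAlgebra
  haveI : Module.Finite K Γ(N, ⊤) := hfin
  haveI : _root_.IsReduced Γ(N, ⊤) := inferInstance
  haveI : IsArtinianRing Γ(N, ⊤) := .of_finite K _
  have h : Algebra.FormallyEtale K Γ(N, ⊤) := by
    refine (Algebra.FormallyEtale.iff_exists_algEquiv_prod K Γ(N, ⊤)).2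
      ⟨MaximalSpectrum Γ(N, ⊤), inferInstance, fun m => Γ(N, ⊤) ⧸ m.asIdeal,
        fun m => Ideal.Quotient.field m.asIdeal, inferInstance,
        (IsArtinianRing.equivPi _).restrictScalars K, fun m => ?_⟩
    letI := Ideal.Quotient.field m.asIdeal
    haveI : Module.Finite K (Γ(N, ⊤) ⧸ m.asIdeal) := inferInstance
    infer_instance
  have : Algebra.Etale K Γ(N, ⊤) := ⟨h, Algebra.FinitePresentation.of_finiteType.mp inferInstance⟩
  exact RingHom.etale_algebraMap.2 this

variable {E : Over (Spec (CommRingCat.of K))} [GrpObj E] [IsProper E.hom] [Smooth E.hom] [IsIntegral E.left]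

/-- The maximal ideal at the unit of a smooth curve is principal. -/
theorem isPrincipal_unit (hE : topologicalKrullDim E.left = 1) : (maximalIdeal (Rloc E)).IsPrincipal := by
  letI : E.left.Over (Spec (CommRingCat.of K)) := ⟨E.hom⟩
  haveI : IsSeparated (E.left ↘ Spec (CommRingCat.of K)) := inferInstanceAs (IsSeparated E.hom)
  haveI : LocallyOfFinitePresentation (E.left ↘ Spec (CommRingCat.of K)) :=
    inferInstanceAs (LocallyOfFinitePresentation E.hom)
  haveI : QuasiCompact (E.left ↘ Spec (CommRingCat.of K)) := inferInstanceAs (QuasiCompact E.hom)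
  letI := Curv2.resAlgebra K E.left (ptE E)
  have hx : IsClosed ({ptE E} : Set E.left) := by
    have h := (η[E].left).isClosedEmbedding.isClosed_range
    have e : Set.range η[E].left = {ptE E} := by
      ext z
      refine ⟨?_, fun hz => ⟨closedPoint K, (Set.mem_singleton_iff.1 hz).symm⟩⟩
      rintro ⟨s, rfl⟩
      exact congrArg η[E].left (Subsingleton.elim (α := PrimeSpectrum K) s (closedPoint K))
    exact e ▸ h
  have hst : (str E).hom = Curv2.stalkMap K E.left (ptE E) := by
    letI := Curv2.stalkAlgebra K E.left (ptE E)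
    refine congrArg CommRingCat.Hom.hom (Spec.map_injective (a₁ := str E)
      (a₂ := CommRingCat.ofHom (Curv2.stalkMap K E.left (ptE E))) ?_)
    rw [map_str]
    exact GeomRedFieldLib.fromSpecStalk_comp_over (k := K) E.left (ptE E)
  haveI : Algebra.IsSeparable K (E.left.residueField (ptE E)) := ⟨fun z => by
    obtain ⟨f, rfl⟩ := IsLocalRing.residue_surjective z
    have h : IsLocalRing.residue (Rloc E) f = algebraMap K (E.left.residueField (ptE E)) (evE E f) := by
      show _ = IsLocalRing.residue (Rloc E) (Curv2.stalkMap K E.left (ptE E) (evE E f))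
      rw [← hst, ← sub_eq_zero, ← map_sub, IsLocalRing.residue_eq_zero_iff]
      exact sub_mem_maximal f
    rw [h]
    exact isSeparable_algebraMap _⟩
  have := (S1556.result K E.left hE (ptE E) hx).2 (by
    show ptE E ∈ E.hom.smoothLocus
    rw [Scheme.Hom.smoothLocus_eq_top_iff.2 ‹_›]; trivial)
  exact IsPrincipalIdealRing.principal _

end

section
variable {K : Type u} [Field K] {X Y : Over (Spec (CommRingCat.of K))} [GrpObj X] [GrpObj Y]

/-- An unramified homomorphism kills no tangent vector. -/
theorem eq_one_of_unramified (f : X ⟶ Y) [IsMonHom f] [FormallyUnramified f.left] [LocallyOfFiniteType f.left]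
    (T : overSpec (dnInl (CommRingCat.of K)) ⟶ X) (hT : testMap (dnFst _) (dnInl_fst _) ≫ T = 1)
    (h : T ≫ f = 1) : T = 1 := by
  have e : T.left ≫ f.left = (1 : overSpec (dnInl (CommRingCat.of K)) ⟶ X).left ≫ f.left := by
    rw [← Over.comp_left, ← Over.comp_left, h, MonObj.one_comp]
  let D := pullback.lift T.left (1 : overSpec (dnInl (CommRingCat.of K)) ⟶ X).left e
  have hs : Function.Surjective (Spec.map (dnFst (CommRingCat.of K))) := fun p =>
    ⟨closedPoint K, PrimeSpectrum.ext (by
      refine le_antisymm ?_ ?_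
      · intro z hz
        have hz' : z.fst = (0 : K) := by
          have : (dnFst (CommRingCat.of K)) z ∈ maximalIdeal K := hz
          rwa [IsLocalRing.mem_maximalIdeal, mem_nonunits_iff, isUnit_iff_ne_zero, not_not] at this
        have h2 : z ^ 2 = 0 := by
          rw [pow_two]; ext <;> simp [hz']
        exact p.isPrime.mem_of_pow_mem 2 (h2 ▸ p.asIdeal.zero_mem)
      · intro z hz
        show (dnFst (CommRingCat.of K)) z ∈ maximalIdeal K
        rw [IsLocalRing.mem_maximalIdeal, mem_nonunits_iff]
        intro hu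
        exact p.isPrime.ne_top (Ideal.eq_top_of_isUnit_mem _ hz
          (TrivSqZeroExt.isUnit_iff_isUnit_fst.2 hu)))⟩
  have hD : Set.range D ⊆ Set.range (pullback.diagonal f.left) := by
    rintro _ ⟨p, rfl⟩
    obtain ⟨s, rfl⟩ := hs p
    refine ⟨(Spec.map (dnFst (CommRingCat.of K)) ≫ T.left) s, ?_⟩
    show ((Spec.map (dnFst (CommRingCat.of K)) ≫ T.left) ≫ pullback.diagonal f.left) s =
      (Spec.map (dnFst (CommRingCat.of K)) ≫ D) s
    refine congrArg (fun m : Spec (CommRingCat.of K) ⟶ pullback f.left f.left => m s) ?_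
    apply pullback.hom_ext
    · simp [D]
    · simp only [D, Category.assoc, pullback.diagonal_snd, pullback.lift_snd, Category.comp_id]
      have h0 : testMap (dnFst _) (dnInl_fst _) ≫ (1 : overSpec (dnInl (CommRingCat.of K)) ⟶ X) = 1 :=
        MonObj.comp_one _
      exact congrArg CommaMorphism.left (hT.trans h0.symm)
  ext1
  have h1 := IsOpenImmersion.lift_fac (pullback.diagonal f.left) D hD
  have a1 := congrArg (· ≫ pullback.fst f.left f.left) h1
  have a2 := congrArg (· ≫ pullback.snd f.left f.left) h1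
  simp only [D, Category.assoc, pullback.diagonal_fst, pullback.diagonal_snd, Category.comp_id,
    pullback.lift_fst, pullback.lift_snd] at a1 a2
  exact a1.symm.trans a2

/-- Kernels of homomorphisms exist as group objects. -/
theorem exists_kernel (f : X ⟶ Y) [IsMonHom f] :
    ∃ (N : Over (Spec (CommRingCat.of K))) (_ : GrpObj N) (i : N ⟶ X) (_ : IsMonHom i) (_ : Mono i),
      AlgGrp.IsKernel i f := by
  have hp := IsPullback.of_hasPullback f η[Y]
  let N := pullback f η[Y]
  let i : N ⟶ X := pullback.fst f η[Y]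
  have hs : pullback.snd f η[Y] = toUnit N := toUnit_unique _ _
  haveI : Mono η[Y] := ⟨fun a b _ => toUnit_unique _ _⟩
  haveI : Mono i := inferInstanceAs (Mono (pullback.fst f η[Y]))
  have hi : i ≫ f = 1 := by rw [Hom.one_def, ← hs]; exact hp.w
  obtain ⟨I, hI⟩ := SubDesc.exists_grpObj_of_mono i
    ⟨hp.lift ((fst N N ≫ i) * (snd N N ≫ i)) (toUnit _) (by
      rw [MonObj.mul_comp, Category.assoc, Category.assoc, hi, MonObj.comp_one, MonObj.comp_one, _root_.mul_one,
        Hom.one_def]), hp.lift_fst _ _ _⟩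
    ⟨hp.lift 1 (toUnit _) (by rw [MonObj.one_comp, Hom.one_def]), hp.lift_fst _ _ _⟩
    ⟨hp.lift i⁻¹ (toUnit _) (by rw [GrpObj.inv_comp, hi, _root_.inv_one, Hom.one_def]), hp.lift_fst _ _ _⟩
  refine ⟨N, I, i, hI, inferInstance, ?_⟩
  unfold AlgGrp.IsKernel
  rw [← hs]
  exact hp

end

section
variable {K : Type u} [Field K] [IsAlgClosed K]
  {E₁ E₂ : Over (Spec (CommRingCat.of K))}
  [GrpObj E₁] [IsProper E₁.hom] [Smooth E₁.hom] [IsIntegral E₁.left]
  [GrpObj E₂] [IsProper E₂.hom] [Smooth E₂.hom] [IsIntegral E₂.left]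

/-- A nonconstant homomorphism of elliptic curves is surjective. -/
theorem surjective_of_ne_one (hE₂ : topologicalKrullDim E₂.left = 1) (f : E₁ ⟶ E₂) [IsMonHom f]
    (hf : f ≠ 1) : Surjective f.left := by
  haveI : IsProper (f.left ≫ E₂.hom) := by rw [Over.w f]; infer_instance
  haveI : IsProper f.left := IsProper.of_comp f.left E₂.hom
  haveI : LocallyOfFiniteType (f.left ≫ E₂.hom) := inferInstance
  refine ⟨Set.range_eq_univ.1 ?_⟩
  by_contra hne
  have hZ : IsClosed (Set.range f.left) := f.left.isClosedMap.isClosed_range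
  have hZi : IsIrreducible (Set.range f.left) := by
    rw [← Set.image_univ]
    exact (IrreducibleSpace.isIrreducible_univ E₁.left).image _ f.left.continuous.continuousOn
  have he : η[E₂].left (closedPoint K) ∈ Set.range f.left :=
    ⟨η[E₁].left (closedPoint K), by
      rw [← Scheme.Hom.comp_apply, ← Over.comp_left, IsMonHom.one_hom (f := f)]⟩
  have hec : IsClosed ({η[E₂].left (closedPoint K)} : Set E₂.left) := by
    have h := (η[E₂].left).isClosedEmbedding.isClosed_range
    have e : Set.range η[E₂].left = {η[E₂].left (closedPoint K)} := by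
      ext z
      refine ⟨?_, fun hz => ⟨closedPoint K, (Set.mem_singleton_iff.1 hz).symm⟩⟩
      rintro ⟨s, rfl⟩
      exact congrArg η[E₂].left (Subsingleton.elim (α := PrimeSpectrum K) s (closedPoint K))
    exact e ▸ h
  have hsingle : Set.range f.left = {η[E₂].left (closedPoint K)} := by
    by_contra hns
    let A : TopologicalSpace.IrreducibleCloseds E₂.left := ⟨_, isIrreducible_singleton, hec⟩
    let B : TopologicalSpace.IrreducibleCloseds E₂.left := ⟨_, hZi, hZ⟩
    let C : TopologicalSpace.IrreducibleCloseds E₂.left :=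
      ⟨Set.univ, IrreducibleSpace.isIrreducible_univ _, isClosed_univ⟩
    have h1 : A < B := lt_of_le_of_ne (show A.carrier ⊆ B.carrier from Set.singleton_subset_iff.2 he)
      fun h => hns (congrArg (fun S : TopologicalSpace.IrreducibleCloseds E₂.left => S.carrier) h).symm
    have h2 : B < C := lt_of_le_of_ne (show B.carrier ⊆ C.carrier from Set.subset_univ _)
      fun h => hne (congrArg (fun S : TopologicalSpace.IrreducibleCloseds E₂.left => S.carrier) h)
    let p : LTSeries (TopologicalSpace.IrreducibleCloseds E₂.left) :=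
      ((RelSeries.singleton _ A).snoc B (by simpa using h1)).snoc C (by simpa using h2)
    have hp : ((p.length : ℕ) : WithBot ℕ∞) ≤ topologicalKrullDim E₂.left := Order.LTSeries.length_le_krullDim p
    rw [hE₂] at hp
    have : p.length = 2 := rfl
    rw [this] at hp
    exact absurd (WithBot.coe_le_coe.1 hp) (by decide)
  refine hf ?_
  ext1
  refine ext_of_apply_eq E₂.hom Set.univ isClosed_univ.isLocallyClosed dense_univ (fun x _ _ => ?_) ?_
  · have h1 : f.left x ∈ Set.range f.left := ⟨x, rfl⟩
    rw [hsingle] at h1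
    rw [h1, Hom.one_def, Over.comp_left, Scheme.Hom.comp_apply]
    exact congrArg η[E₂].left (Subsingleton.elim (α := PrimeSpectrum K) _ _)
  · rw [Over.w f, Over.w (1 : E₁ ⟶ E₂)]

/-- A nontrivial homomorphism of elliptic curves is an isogeny. -/
theorem isogeny_of_ne_one (hE₁ : topologicalKrullDim E₁.left = 1) (hE₂ : topologicalKrullDim E₂.left = 1)
    (f : E₁ ⟶ E₂) [IsMonHom f] (hf : f ≠ 1) : IsFinite f.left ∧ Surjective f.left ∧ Flat f.left := by
  haveI := surjective_of_ne_one hE₂ f hf
  exact ⟨SemiAbLib.isFinite_of_surjective_of_dim f (hE₁.trans hE₂.symm), inferInstance,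
    AntiAffLib.flat_of_surjective f⟩

/-- A product of homomorphisms into a commutative group is a homomorphism. -/
theorem isMonHom_mul {C : Type*} [Category C] [CartesianMonoidalCategory C] [BraidedCategory C] {X Y : C}
    [GrpObj X] [GrpObj Y] [IsCommMonObj Y] (f g : X ⟶ Y) [IsMonHom f] [IsMonHom g] : IsMonHom (f * g) := by
  refine ⟨?_, ?_⟩
  · rw [MonObj.comp_mul, IsMonHom.one_hom (f := f), IsMonHom.one_hom (f := g), MonObj.one_eq_one,
      _root_.mul_one]
  · rw [MonObj.comp_mul, IsMonHom.mul_hom (f := f), IsMonHom.mul_hom (f := g)]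
    have key : ∀ h : X ⟶ Y, (h ⊗ₘ h) ≫ MonObj.mul = (fst X X ≫ h) * (snd X X ≫ h) := fun h => by
      rw [Hom.mul_def]
      congr 1
      exact hom_ext _ _ (by rw [tensorHom_fst, lift_fst]) (by rw [tensorHom_snd, lift_snd])
    rw [key, key, key, MonObj.comp_mul, MonObj.comp_mul]
    letI := Hom.commMonoid (M := Y) (X := X ⊗ X)
    exact mul_mul_mul_comm _ _ _ _

/-- The kernel criterion for being étale. -/
theorem etale_iff_kernel (f : E₁ ⟶ E₂) [IsMonHom f] [IsFinite f.left] [Surjective f.left] [Flat f.left]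
    {N : Over (Spec (CommRingCat.of K))} (i : N ⟶ E₁) (hN : AlgGrp.IsKernel i f) :
    Etale f.left ↔ Etale N.hom :=
  AVAmpleLib.prop_iff_kernel f i @Etale (fun sq h =>
    MorphismProperty.of_isPullback_of_descendsAlong (P := @Etale)
      (Q := (@Surjective ⊓ @Flat ⊓ @QuasiCompact : MorphismProperty Scheme.{u})) sq
      ⟨⟨inferInstanceAs (Surjective f.left), inferInstanceAs (Flat f.left)⟩,
        inferInstanceAs (QuasiCompact f.left)⟩ h) hN

/-- A finite kernel: étale once it has no tangent vectors. -/
theorem etale_kernel (f : E₁ ⟶ E₂) [IsFinite f.left] {N : Over (Spec (CommRingCat.of K))} [GrpObj N]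
    (i : N ⟶ E₁) (hN : AlgGrp.IsKernel i f) (hT : TanTriv N) : Etale N.hom := by
  have h1 : IsPullback i.left N.hom f.left (η[E₂] : 𝟙_ (Over (Spec (CommRingCat.of K))) ⟶ E₂).left :=
    hN.map (Over.forget _)
  haveI : IsFinite N.hom := MorphismProperty.of_isPullback h1 ‹IsFinite f.left›
  haveI := isReduced_of_tanTriv N hT
  exact etale_of_finite_reduced N.hom

end


/-- Let `k` be an algebraically closed field and `E₁`, `E₂` elliptic curves over `k`, i.e. group schemes
over `Spec k` whose underlying schemes are proper, smooth, integral and one-dimensional. If `φ, φ' :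
E₁ → E₂` are homomorphisms with `φ` finite, surjective and étale (a separable isogeny) and `φ'` not
étale (the zero homomorphism or an inseparable isogeny), then their sum under the group law of `E₂`
— the composite of `(φ, φ')` with the multiplication of `E₂` — is finite, surjective and étale, i.e.
again a separable isogeny. (The published statement is for arbitrary morphisms `φ, φ'` and takes
`φ'` inseparable; this row takes homomorphisms, the case its proof treats — a morphism of elliptic
curves is a homomorphism followed by a translation, which changes neither the hypotheses nor the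
conclusion — and allows `φ'` to be the zero map, that case being immediate.) -/
theorem result (k : Type u) [Field k] [IsAlgClosed k]
    (E₁ E₂ : Over (Spec (CommRingCat.of k)))
    [GrpObj E₁] [IsProper E₁.hom] [Smooth E₁.hom] [IsIntegral E₁.left] (hE₁ : topologicalKrullDim E₁.left = 1)
    [GrpObj E₂] [IsProper E₂.hom] [Smooth E₂.hom] [IsIntegral E₂.left] (hE₂ : topologicalKrullDim E₂.left = 1)
    (φ φ' : E₁ ⟶ E₂) [IsMonHom φ] [IsMonHom φ'] [IsFinite φ.left] [Surjective φ.left] [Etale φ.left]
    (hφ' : ¬ Etale φ'.left) :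
    IsFinite (φ * φ').left ∧ Surjective (φ * φ').left ∧ Etale (φ * φ').left := by
  by_cases h1 : φ' = 1
  · subst h1
    rw [show φ * (1 : E₁ ⟶ E₂) = φ from _root_.mul_one φ]
    exact ⟨inferInstance, inferInstance, inferInstance⟩
  haveI : GeometricallyIntegral E₂.hom := AlbLib.geometricallyIntegral_grp E₂
  haveI : IsCommMonObj E₂ := isCommMonObj_of_isProper_of_geometricallyIntegral E₂
  obtain ⟨hfin', hsurj', hflat'⟩ := isogeny_of_ne_one hE₁ hE₂ φ' h1
  obtain ⟨N', _, i', _, hmono', hN'⟩ := exists_kernel φ'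
  have hT' : ¬ TanTriv N' := fun h => hφ' ((etale_iff_kernel φ' i' hN').2 (etale_kernel φ' i' hN' h))
  simp only [TanTriv, not_forall] at hT'
  obtain ⟨T', hT'1, hT'ne⟩ := hT'
  have hw' : i' ≫ φ' = 1 := by rw [Hom.one_def]; exact hN'.w
  let v := T' ≫ i'
  have hv : testMap (dnFst _) (dnInl_fst _) ≫ v = 1 := by
    rw [← Category.assoc, hT'1, MonObj.one_comp]
  have hvne : v ≠ 1 := fun h => hT'ne ((cancel_mono i').1 (by rw [MonObj.one_comp]; exact h))
  have hvφ' : v ≫ φ' = 1 := by rw [Category.assoc, hw', MonObj.comp_one]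
  haveI : IsMonHom (φ * φ') := isMonHom_mul φ φ'
  have hψ : ∀ w : overSpec (dnInl (CommRingCat.of k)) ⟶ E₁, testMap (dnFst _) (dnInl_fst _) ≫ w = 1 →
      w ≫ (φ * φ') = 1 → w = 1 := by
    intro w hw h
    obtain ⟨c, hc⟩ := exists_scale_eq (isPrincipal_unit hE₁) hv hw hvne
    have hwφ' : w ≫ φ' = 1 := by rw [← hc, Category.assoc, hvφ', MonObj.comp_one]
    refine eq_one_of_unramified φ w hw ?_
    rw [MonObj.comp_mul, hwφ', _root_.mul_one] at h
    exact h
  have hne : φ * φ' ≠ 1 := fun h => hvne (hψ v hv (by rw [h, MonObj.comp_one]))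
  obtain ⟨hfin, hsurj, hflat⟩ := isogeny_of_ne_one hE₁ hE₂ (φ * φ') hne
  obtain ⟨N, _, i, _, _, hN⟩ := exists_kernel (φ * φ')
  have hw : i ≫ (φ * φ') = 1 := by rw [Hom.one_def]; exact hN.w
  refine ⟨hfin, hsurj, (etale_iff_kernel _ i hN).2 (etale_kernel _ i hN fun T hT => ?_)⟩
  have := hψ (T ≫ i) (by rw [← Category.assoc, hT, MonObj.one_comp])
    (by rw [Category.assoc, hw, MonObj.comp_one])
  exact (cancel_mono i).1 (this.trans (MonObj.one_comp _).symm)

end Groth.Agent.S12627
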