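import Groth.Statements.S12631
import Groth.Agent.TraceResLib.Weil
-- import your own Groth.Agent.* helpers here

set_option autoImplicit false
universe u v w
open FunFld

namespace Groth.Agent.S12631

/-- Let `K/k` be a geometric function field of one variable of genus one all of whose places carry a
Laurent expansion over `k` in a local parameter (so every place is separable), and `v ∈ K` with `dv
≠ 0`. Then there is a nonzero `u ∈ K` whose differential `u dv` has divisor zero — the order of
`φ_P(u) · (φ_P v)′` is `0` at every place `P` — and such a `u` is unique up to a factor from `k`.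
(The published statement concerns elliptic curves over algebraically closed fields; this row is the
form for any constant field under the stated separability of all places.) -/
theorem result (k : Type u) (K : Type v) [Field k] [Field K] [Algebra k K]
    (hK : FunFld.IsFunctionField k K) (hg : FunFld.IsGeometric k K) (h1 : FunFld.genus k K = 1)
    (F : FunFld.Place k K → Type w) [∀ P, Field (F P)] [∀ P, Algebra k (F P)] [∀ P, FiniteDimensional k (F P)]
    (φ : ∀ P, K →ₐ[k] LaurentSeries (F P)) (hφ : ∀ P, LocRes.IsExpansionAt P.1 (φ P))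
    (v : K) (hv : KaehlerDifferential.D k K v ≠ 0) :
    (∃ u : K, u ≠ 0 ∧ ∀ P, LocRes.vDiff (φ P) u v = 1) ∧
      ∀ u u' : K, u ≠ 0 → (∀ P, LocRes.vDiff (φ P) u v = 1) → (∀ P, LocRes.vDiff (φ P) u' v = 1) →
        ∃ c : k, u' = c • u := by
  open Groth.Agent.TraceResLib Groth.Agent.FFLib in
  obtain ⟨C, hC, hCd⟩ := exists_divisor hK hg F φ hφ hv
  obtain ⟨hell, hdeg⟩ := canonical_ell_deg hK ⟨_, resForm_ne_zero hK hg F φ hφ hv, hCd⟩
  rw [h1] at hell hdeg
  refine ⟨?_, fun u u' hu hu1 hu'1 => ?_⟩
  · obtain ⟨x, hx0, hxC⟩ := exists_eq_div_of_ell_pos hK (D := C) (by omega) (by omega)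
    refine ⟨x⁻¹, inv_ne_zero hx0, fun P => ?_⟩
    rw [vDiff_mul (hφ P), v_eq P (inv_ne_zero hx0), ord_inv,
      ← WithZero.exp_log (vDiff_ne_zero hK hg (hφ P) hv), ← WithZero.exp_add, ← WithZero.exp_zero]
    congr 1
    have := hC P
    rw [hxC, div_apply hK.1, LocRes.ordDiff] at this
    omega
  · have hmem : ∀ w, (∀ P, LocRes.vDiff (φ P) w v = 1) → w ∈ FunFld.L C := fun w hw => by
      rw [← sub_zero C, ← vDiff_le_iff hK hg F φ hφ hv hC w 0]
      intro P
      rw [hw P]
      simp
    obtain ⟨c, hc⟩ := exists_smul_eq_of_finrank_eq_one (show Module.finrank k (FunFld.L C) = 1 from hell)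
      (x := ⟨u, hmem u hu1⟩) (fun e => hu (congrArg Subtype.val e)) ⟨u', hmem u' hu'1⟩
    exact ⟨c, (congrArg Subtype.val hc).symm⟩

end Groth.Agent.S12631
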