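import Groth.Statements.S14508
import Mathlib
import Groth.Agent.DetRootLib.Pull
import Groth.Agent.DetRootLib.Filt
import Groth.Agent.CohCmpLib.OmegaRank
-- import your own Groth.Agent.* helpers here

set_option autoImplicit false
universe u
open CategoryTheory CategoryTheory.Limits AlgebraicGeometry
open IntTh

namespace Groth.Agent.S14508

/-- Let X be a locally Noetherian scheme whose local rings are universally catenary, δ a dimension
function on X, E a finite locally free O_X-module of rank r + 1, (p : P → X, O_P(1), q) its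
projective bundle given by the universal property, p proper, δP the induced dimension function on P,
α a k-cycle on X and γ a tuple representing (c_0(E) ∩ α, …, c_{r+1}(E) ∩ α) through the
projective-bundle relation. Let L be an (r+1)-st exterior power of E (det E) and s a choice of
nonzero rational sections of L at all points. Then γ_1 ∼_rat c_1(L) ∩ α as (k − 1)-cycles, the right
side being the cycle of the divisors of the sections s along the components of α. (The published
statement is for vector bundles of any rank on separated schemes of finite type over a field; this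
row takes E of rank r + 1 ≥ 1 on a locally Noetherian scheme with universally catenary local rings
and a dimension function δ; in rank 0 both sides vanish.) -/
theorem result (X : Scheme.{u}) (δ : X → ℤ) (hX : Cyc.IsSetup X δ)
    (E : X.Modules) (r : ℕ) (hE : FlatMod.IsFinLocFreeOfRank (r + 1) E)
    (P : Scheme.{u}) (p : P ⟶ X) (O1 : P.Modules) (q : (Scheme.Modules.pullback p).obj E ⟶ O1)
    (hP : KRR.IsProjBundle p E O1 q) [IsProper p] (δP : P → ℤ) (hPs : Cyc.IsSetup P δP)
    (hδ : Cyc.DeltaCompat p δP δ) (k : ℤ) (α : AlgebraicCycle X ℤ) (hα : α ∈ Cyc.Zk X δ k)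
    (γ : Fin (r + 2) → AlgebraicCycle X ℤ) (hγ : Cyc.IsChernCap p δ δP O1 (r + 1) k α γ)
    (L : X.Modules) (hL : ExtPow.IsExtPow (r + 1) E L)
    (s : (ξ : X) → Cyc.secFibre L ξ) (hs : ∀ ξ, s ξ ≠ 0)
    (β : AlgebraicCycle X ℤ) (hβ : ⇑β = Cyc.c1CapFun δ L ⇑α s) :
    Cyc.RatEquiv δ (k - 1) (γ 1) β := by
  classical
  haveI := hX.1
  have hLi : PicF.IsInvertible L := CohCmpLib.isInvertible_of_isExtPow hE hL
  obtain ⟨Q, π, δQ, d, hQ, hfl, hlft, hr, hδπ, hinj, hroots⟩ :=
    ChernOpLib.exists_splitting hX 1 (fun _ => E) (fun _ => r + 1) (fun _ => hE)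
  obtain ⟨S, hcard, hS⟩ := hroots 0
  obtain ⟨r', M, L', a, b, h0, e, hL', hex, hSL⟩ := hS.exists_filt
  obtain rfl : r' = r + 1 := by
    rw [hSL, Multiset.card_map] at hcard
    simpa using hcard
  have hop : ChernOpLib.op hQ (AmpleDevLib.isInvertible_pb π hLi) = S.esymm 1 := by
    rw [DetRootLib.op_eq_sum hex hL' h0 hQ e (AmpleDevLib.isInvertible_pb π hLi) (DetRootLib.isDetFam_pb π hE hL),
      hSL, Finset.esymm_map_val, Finset.powersetCard_one, Finset.sum_map]
    exact Finset.sum_congr rfl fun j _ => (Finset.prod_singleton (fun i => ChernOpLib.op hQ (hL' i)) j).symm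
  have hγ1 : γ 1 ∈ Cyc.Zk X δ (k - ((1 : ℕ) : ℤ)) := by
    have := hγ.2.1 1
    simpa using this
  have hleft := ChernOpLib.chern_esymm hX hQ hr hδπ hE hP hPs hδ hcard hS hα hγ 1 (hγ.2.1 1)
  have hβm : β ∈ Cyc.Zk X δ (k - 1) := by
    have h1 : CycC1Lib.capCyc hX hLi α hs ∈ Cyc.Zk X δ (k - 1) :=
      CycCommLib.capCyc_mem_Zk hX hLi (by rw [sub_add_cancel]; exact hα) hs
    rwa [show CycC1Lib.capCyc hX hLi α hs = β from DFunLike.coe_injective hβ.symm] at h1
  have h1v : ((1 : Fin (r + 2)) : ℕ) = 1 := by simp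
  refine (ChernOpLib.tcl_eq_iff hX (by simpa using hγ.2.1 1) hβm).1 (hinj ?_)
  rw [← ChernOpLib.c1T_tcl hX hLi hα hs hβ hβm, ChernOpLib.pullT_c1T_apply]
  rw [ChernOpLib.tcl_congr (show k - (((1 : Fin (r + 2)) : ℕ) : ℤ) = k - 1 by rw [h1v]; simp) (hγ.2.1 1)] at hleft
  rw [hleft, h1v, ← hop]
  rfl

end Groth.Agent.S14508
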