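import Groth.Statements.S12672
import Mathlib
import Groth.Agent.S14508
import Groth.Agent.ExtTopLib.Top
import Groth.Agent.DetDegLib.Main
import Groth.Agent.CycC1Lib.Degree
import Groth.Agent.CycPushLib.Proper
import Groth.Agent.HilbPolyLib.Snapper
import Groth.Agent.CohCmpLib.OmegaRank
import Groth.Agent.ProjBunLib.Filt
-- import your own Groth.Agent.* helpers here

set_option autoImplicit false
universe u
open CategoryTheory CategoryTheory.Limits AlgebraicGeometry
open Cyc

namespace Groth.Agent.S12672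

/-- Let X be proper over a field K with dim X ≤ 1 and E a finite locally free O_X-module of constant
rank r. Then deg(E) = deg(c_1(E) ∩ [X]_1), where deg(E) = χ(X, E) - r·χ(X, O_X) (Curv2.deg) and the
right side is the degree (ChowOps.deg, pushforward to the point) of a representative of c_1(E) ∩
[X]_1, [X]_1 being the 1-cycle of X (Cyc.subschemeFun); for r = 0 both sides are 0. Dimension
function: transcendence degree over K. (This is the general constant-rank case; the invertible case
is a separate result stated with c_1(L) ∩ - of an invertible module.) Setting: (X, δ) with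
Cyc.IsSetup stands for a scheme locally of finite type over the base (S, δ) (X locally Noetherian
with universally catenary local rings, δ a dimension function); (p : P → X, O_P(1), q) is the
projective bundle of E given by its universal property (KRR.IsProjBundle), p is proper and δP is the
induced dimension function (Cyc.DeltaCompat); a tuple γ with Cyc.IsChernCap represents (c_0(E) ∩ α,
…, c_r(E) ∩ α) through the defining relation Σ_i (-1)^i c_1(O_P(1))^i ∩ p^*(γ_{r-i}) ∼_rat 0 on P,
and classes are compared up to rational equivalence of representing cycles. -/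
theorem result (K : Type u) [Field K] (X : Scheme.{u}) [X.Over (Spec (CommRingCat.of K))] [IsProper (X ↘ Spec (CommRingCat.of K))] (hdim : topologicalKrullDim X ≤ 1) (δ : X → ℤ) (hX : Cyc.IsSetup X δ) (hK : Cyc.DeltaCompat (X ↘ Spec (CommRingCat.of K)) δ (fun _ => 0)) (r : ℕ) (E : X.Modules) (hPE : FlatMod.IsFinLocFreeOfRank r E) (P : Scheme.{u}) (p : P ⟶ X) (O1 : P.Modules) (q : (Scheme.Modules.pullback p).obj E ⟶ O1) (hP : KRR.IsProjBundle p E O1 q) [IsProper p] (δP : P → ℤ) (hPs : Cyc.IsSetup P δP) (hδ : Cyc.DeltaCompat p δP δ) (α : AlgebraicCycle X ℤ) (hα : ⇑α = Cyc.subschemeFun δ 1 (𝟙 X)) (γ : Fin (r + 1) → AlgebraicCycle X ℤ) (hγ : Cyc.IsChernCap p δ δP O1 r 1 α γ) : Curv2.deg K X E r = (if h : 1 ≤ r then ChowOps.deg (X ↘ Spec (CommRingCat.of K)) δ (γ ⟨1, Nat.lt_succ_of_le h⟩) else 0) := by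
  classical
  haveI := CurvLib.isNoetherian K (X := X)
  rcases r with - | n
  · rw [dif_neg (Nat.not_succ_le_zero 0), Curv2.deg, HilbPolyLib.euler_zero (ProjBunLib.isZero_of_rank_zero hPE)]
    simp
  · rw [dif_pos (Nat.succ_le_succ (Nat.zero_le n))]
    let pK := X ↘ Spec (CommRingCat.of K)
    obtain ⟨L, hL⟩ := ExtTopLib.exists_isExtPow hPE
    have hLi : PicF.IsInvertible L := CohCmpLib.isInvertible_of_isExtPow hPE hL
    obtain ⟨s, hs⟩ := CycBivLib.exists_sections hLi
    let β := CycC1Lib.capCyc hX hLi α hs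
    have hα1 : α ∈ Cyc.Zk X δ 1 := fun x hx => by
      rw [congrFun hα x, Cyc.subschemeFun, if_neg hx]
    have hβ : β ∈ Cyc.Zk X δ (1 - 1) :=
      CycCommLib.capCyc_mem_Zk hX hLi (by rw [sub_add_cancel]; exact hα1) hs
    have hrat : Cyc.RatEquiv δ (1 - 1) (γ 1) β :=
      Groth.Agent.S14508.result X δ hX E n hPE P p O1 q hP δP hPs hδ 1 α hα1 γ hγ L hL s hs β rfl
    have hmap := CycPushLib.ratEquiv_map hX CycC1Lib.isSetup_field pK hK hrat
    have heq : AlgebraicCycle.map pK δ (fun _ => (0 : ℤ)) (γ 1) (IsLocalRing.closedPoint K) =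
        AlgebraicCycle.map pK δ (fun _ => (0 : ℤ)) β (IsLocalRing.closedPoint K) := by
      obtain ⟨ι, ξ, f, hξ, -, -, hsum⟩ := hmap
      haveI : IsEmpty ι := ⟨fun i => absurd (hξ i) (by norm_num)⟩
      have := hsum (IsLocalRing.closedPoint K)
      rw [finsum_of_isEmpty] at this
      exact sub_eq_zero.1 this
    rw [DetDegLib.deg_eq_deg_extPow hPE hdim hL, CycC1Lib.deg_eq_finsum_c1Cap hdim hK hLi s hs,
      show (⟨1, Nat.lt_succ_of_le (Nat.succ_le_succ (Nat.zero_le n))⟩ : Fin (n + 1 + 1)) = 1 from rfl, ChowOps.deg]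
    refine Eq.trans ?_ heq.symm
    show _ = ∑ᶠ x ∈ pK ⁻¹' {IsLocalRing.closedPoint K}, β x * ((AlgebraicCycle.mapCoeff pK δ (fun _ => (0 : ℤ)) x : ℕ) : ℤ)
    haveI : Subsingleton ↥(Spec (CommRingCat.of K)) := inferInstanceAs (Subsingleton (PrimeSpectrum K))
    rw [show pK ⁻¹' {IsLocalRing.closedPoint K} = Set.univ from Set.eq_univ_of_forall fun x => Subsingleton.elim (pK x) _,
      finsum_mem_univ]
    refine finsum_congr fun x => ?_
    have hb : β x = Cyc.c1CapFun δ L (Cyc.subschemeFun δ 1 (𝟙 X)) s x := by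
      show Cyc.c1CapFun δ L ⇑α s x = _
      rw [hα]
    rw [← hb, mul_comm]
    by_cases h0 : δ x = 0
    · rw [AlgebraicCycle.mapCoeff, if_pos h0]
    · rw [show β x = 0 from hβ x (by simpa using h0), zero_mul, zero_mul]

end Groth.Agent.S12672
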