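import Groth.Statements.S12662
import Mathlib
import Groth.Agent.CycPBLib.Comm
import Groth.Agent.CycAffLib.Fibre
import Groth.Agent.S12658
-- import your own Groth.Agent.* helpers here

set_option autoImplicit false
universe u
open CategoryTheory CategoryTheory.Limits AlgebraicGeometry
open Cyc

namespace Groth.Agent.S12662

/-- For E, F finite locally free of ranks r, s on X and α ∈ CH_k(X), c_i(E) ∩ c_j(F) ∩ α = c_j(F) ∩
c_i(E) ∩ α in CH_{k-i-j}(X). Both bundles enter through their projective bundles (P, O_P(1)), (Q,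
O_Q(1)); the iterated caps are represented by nested tuples (a tuple for F over the i-th component
of a tuple for E over α, and symmetrically). (The published statement also asserts that c_j(E) is
central in the bivariant ring A^*(X) and commutes with every bivariant class of a morphism X' → X;
only the displayed consequence for two Chern classes is stated here.) Setting: (X, δ) with
Cyc.IsSetup stands for a scheme locally of finite type over the base (S, δ) (X locally Noetherian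
with universally catenary local rings, δ a dimension function); (p : P → X, O_P(1), q) is the
projective bundle of E given by its universal property (KRR.IsProjBundle), p is proper and δP is the
induced dimension function (Cyc.DeltaCompat); a tuple γ with Cyc.IsChernCap represents (c_0(E) ∩ α,
…, c_r(E) ∩ α) through the defining relation Σ_i (-1)^i c_1(O_P(1))^i ∩ p^*(γ_{r-i}) ∼_rat 0 on P,
and classes are compared up to rational equivalence of representing cycles. -/
theorem result (X : Scheme.{u}) (δ : X → ℤ) (hX : Cyc.IsSetup X δ) (r s : ℕ) (E : X.Modules) (hPE : FlatMod.IsFinLocFreeOfRank r E) (P : Scheme.{u}) (p : P ⟶ X) (O1 : P.Modules) (q : (Scheme.Modules.pullback p).obj E ⟶ O1) (hP : KRR.IsProjBundle p E O1 q) [IsProper p] (δP : P → ℤ) (hPs : Cyc.IsSetup P δP) (hδ : Cyc.DeltaCompat p δP δ) (F : X.Modules) (hQE : FlatMod.IsFinLocFreeOfRank s F) (Q : Scheme.{u}) (p' : Q ⟶ X) (O1' : Q.Modules) (q' : (Scheme.Modules.pullback p').obj F ⟶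 O1') (hQ : KRR.IsProjBundle p' F O1' q') [IsProper p'] (δQ : Q → ℤ) (hQs : Cyc.IsSetup Q δQ) (hδ' : Cyc.DeltaCompat p' δQ δ) (k : ℤ) (α : AlgebraicCycle X ℤ) (hα : α ∈ Cyc.Zk X δ k) (i : Fin (r + 1)) (j : Fin (s + 1)) (γ : Fin (r + 1) → AlgebraicCycle X ℤ) (hγ : Cyc.IsChernCap p δ δP O1 r k α γ) (ε : Fin (s + 1) → AlgebraicCycle X ℤ) (hε : Cyc.IsChernCap p' δ δQ O1' s (k - ((i : ℕ) : ℤ)) (γ i) ε) (φ : Fin (s + 1) → AlgebraicCycle X ℤ) (hφ : Cyc.IsChernCap p' δ δQ O1' s k α φ) (ψ : Fin (r + 1) → AlgebraicCycle X ℤ) (hψ : Cyc.IsChernCap p δ δP O1 r (k - ((j : ℕ) : ℤ)) (φ j) ψ) : Cyc.RatEquiv δ (k - ((i : ℕ) : ℤ) - ((j : ℕ) : ℤ)) (ε j) (ψ i) := by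
  rcases Nat.eq_zero_or_pos r with rfl | hr
  · obtain rfl := Fin.fin_one_eq_zero i
    rw [hψ.1, hγ.1] at *
    simp only [Fin.val_zero, Nat.cast_zero, sub_zero] at hε ⊢
    exact Groth.Agent.S12658.result X δ hX s F hQE Q p' O1' q' hQ δQ hQs hδ' k α α hα hα
      (CycCommLib.ratEquiv_refl α) ε φ hε hφ j
  rcases Nat.eq_zero_or_pos s with rfl | hs
  · obtain rfl := Fin.fin_one_eq_zero j
    rw [hε.1]
    have h0 : φ 0 = α := hφ.1
    rw [h0] at hψ
    simp only [Fin.val_zero, Nat.cast_zero, sub_zero] at hψ ⊢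
    exact Groth.Agent.S12658.result X δ hX r E hPE P p O1 q hP δP hPs hδ k α α hα hα
      (CycCommLib.ratEquiv_refl α) γ ψ hγ hψ i
  obtain ⟨n, rfl⟩ := Nat.exists_eq_add_of_le' hr
  obtain ⟨m, rfl⟩ := Nat.exists_eq_add_of_le' hs
  haveI := hX.1
  obtain ⟨BE, rfl, rfl⟩ := CycPBLib.exists_bun' hPE hP hX hPs hδ
  obtain ⟨BF, hBF, rfl⟩ := CycPBLib.exists_bun' hQE hQ hX hQs hδ'
  obtain ⟨δR, hδR⟩ := CycAffLib.exists_deltaCompat (pullback.snd p' p) BE.δP
  obtain ⟨BR, hBR, rfl⟩ := CycPBLib.exists_bun' (SeesawLib.isFinLocFreeOfRank_pullback p hQE)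
    (CycPBLib.isProjBundle_bc q' hQ (IsPullback.of_hasPullback p' p)) BE.hP
    (CycBivLib.isSetup_of_lft (pullback.snd p' p) BE.hP hδR) hδR
  choose Ψ hΨ using fun a : Fin (n + 2) =>
    BF.exists_chern (k := k - ((a : ℕ) : ℤ)) (α := γ a) (hBF.symm ▸ hγ.2.1 a)
  have hcomm := CycPBLib.isChernCap_comm (IsPullback.of_hasPullback p' p) BE BF BR hBF.symm hBR hγ Ψ hΨ j
  rw [← hBF] at hφ hε ⊢
  have hΨ0 : Cyc.IsChernCap p' BF.δX BF.δP O1' (m + 1) k α (Ψ 0) := by
    have := hΨ 0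
    rwa [hγ.1, Fin.val_zero, Nat.cast_zero, sub_zero] at this
  have h1 := BF.chern_unique (CycCommLib.ratEquiv_refl (γ i)) hε (hΨ i) j
  have h2 := BF.chern_unique (CycCommLib.ratEquiv_refl α) hφ hΨ0 j
  rw [hBF] at h1 h2 ⊢
  have h3 := BE.chern_unique h2 hψ hcomm i
  rw [show k - ((i : ℕ) : ℤ) - ((j : ℕ) : ℤ) = k - ((j : ℕ) : ℤ) - ((i : ℕ) : ℤ) by ring] at h1 ⊢
  exact CycCommLib.ratEquiv_trans BE.hX h1 (CycCommLib.ratEquiv_symm BE.hX h3)

end Groth.Agent.S12662
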