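import Groth.Statements.S12663
import Mathlib
import Groth.Agent.CycPBLib.WhitLine
-- import your own Groth.Agent.* helpers here

set_option autoImplicit false
universe u
open CategoryTheory CategoryTheory.Limits AlgebraicGeometry
open Cyc

namespace Groth.Agent.S12663

/-- If E, F are finite locally free of ranks m + 1, m on X sitting in a short exact sequence 0 → O_X → E
→ F → 0, then c_{m+1}(E) = 0 and c_j(E) = c_j(F) for j = 0, …, m, as cap operations: for every
k-cycle α, c_{m+1}(E) ∩ α ∼_rat 0 and c_j(E) ∩ α ∼_rat c_j(F) ∩ α. Setting: (X, δ) with Cyc.IsSetup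
stands for a scheme locally of finite type over the base (S, δ) (X locally Noetherian with
universally catenary local rings, δ a dimension function); (p : P → X, O_P(1), q) is the projective
bundle of E given by its universal property (KRR.IsProjBundle), p is proper and δP is the induced
dimension function (Cyc.DeltaCompat); a tuple γ with Cyc.IsChernCap represents (c_0(E) ∩ α, …,
c_r(E) ∩ α) through the defining relation Σ_i (-1)^i c_1(O_P(1))^i ∩ p^*(γ_{r-i}) ∼_rat 0 on P, and
classes are compared up to rational equivalence of representing cycles. -/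
theorem result (X : Scheme.{u}) (δ : X → ℤ) (hX : Cyc.IsSetup X δ) (m : ℕ) (E : X.Modules) (hPE : FlatMod.IsFinLocFreeOfRank (m + 1) E) (P : Scheme.{u}) (p : P ⟶ X) (O1 : P.Modules) (q : (Scheme.Modules.pullback p).obj E ⟶ O1) (hP : KRR.IsProjBundle p E O1 q) [IsProper p] (δP : P → ℤ) (hPs : Cyc.IsSetup P δP) (hδ : Cyc.DeltaCompat p δP δ) (F : X.Modules) (hQE : FlatMod.IsFinLocFreeOfRank m F) (Q : Scheme.{u}) (p' : Q ⟶ X) (O1' : Q.Modules) (q' : (Scheme.Modules.pullback p').obj F ⟶ O1') (hQ : KRR.IsProjBundle p' F O1' q') [IsProper p'] (δQ : Q → ℤ) (hQs : Cyc.IsSetup Q δQ) (hδ' : Cyc.DeltaCompat p' δQ δ) (a : Coh.structureModule X ⟶ E) (b : E ⟶ F) (hab : a ≫ b = 0) (hex : (ShortComplex.mk a b hab).ShortExact) (k : ℤ) (α : AlgebraicCycle X ℤ) (hα : α ∈ Cyc.Zk X δ k) (γ : Fin (m + 2) → AlgebraicCycle X ℤ) (hγ : Cyc.IsChernCap p δ δP O1 (m + 1) k α γ) (γ' : Fin (m + 1) → AlgebraicCycle X ℤ) (hγ' : Cyc.IsChernCap p' δ δQ O1' m k α γ') : Cyc.RatEquivZero δ (k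 - ((m : ℤ) + 1)) (γ (Fin.last (m + 1))) ∧ ∀ j : Fin (m + 1), Cyc.RatEquiv δ (k - ((j : ℕ) : ℤ)) (γ (Fin.castSucc j)) (γ' j) := by
  let t : (ξ : X) → Cyc.secFibre (Coh.structureModule X) ξ := fun ξ =>
    CycC1Lib.fib (Coh.structureModule X) ((Coh.structureModule X).presheaf.germ ⊤ ξ trivial (1 : Γ(X, ⊤)))
  have ht : ∀ ξ, t ξ ≠ 0 := CycC1Lib.fib_one_ne_zero
  have hL : PicF.IsInvertible (Coh.structureModule X) :=
    (CohCmpLib.invertible_iff_rank_one _).2 (CohCmpLib.rank_one_structureModule X)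
  have key := fun j => CycPBLib.ratEquiv_sub_line hX hPs hQs hδ hδ' hPE hP hQE hQ hL a b hab hex hγ hγ' ht j
  have hzero : ∀ c : Fin (m + 1), Cyc.RatEquivZero δ (k - ((c : ℕ) : ℤ) - 1) (CycC1Lib.capCyc hX hL (γ' c) ht) := fun c =>
    CycC1Lib.c1Cap_structureModule hX (γ' c) (by rw [sub_add_cancel]; exact hγ'.2.1 c) t ht _ rfl
  refine ⟨?_, fun j => ?_⟩
  · have h := key (Fin.last (m + 1))
    simp only [Fin.val_last] at h
    rw [dif_neg (lt_irrefl _), if_pos (Nat.le_add_left 1 _), zero_add] at h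
    have h0 := hzero (Fin.last m)
    rw [Fin.val_last] at h0
    rw [show k - ((m + 1 : ℕ) : ℤ) = k - ((m : ℤ) + 1) by push_cast; ring] at h
    rw [show k - (m : ℤ) - 1 = k - ((m : ℤ) + 1) by ring] at h0
    exact CycCommLib.ratEquivZero_add hX h h0 fun z => (sub_add_cancel _ _).symm
  · have h := key (Fin.castSucc j)
    simp only [Fin.val_castSucc] at h
    rw [dif_pos j.2] at h
    refine CycCommLib.ratEquiv_trans hX h ?_
    show Cyc.RatEquivZero _ _ (_ + _ - _)
    rw [add_sub_cancel_left]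
    split_ifs with hj
    · have h0 := hzero ⟨(j : ℕ) - 1, by omega⟩
      rwa [show k - (((⟨(j : ℕ) - 1, by omega⟩ : Fin (m + 1)) : ℕ) : ℤ) - 1 = k - ((j : ℕ) : ℤ) by simp only; omega] at h0
    · exact CycCommLib.ratEquivZero_of_forall_eq_zero fun _ => rfl

end Groth.Agent.S12663
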