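import Groth.Statements.S12666
import Mathlib
import Groth.Agent.ChernOpLib.Splitting
-- import your own Groth.Agent.* helpers here

set_option autoImplicit false
universe u
open CategoryTheory CategoryTheory.Limits AlgebraicGeometry
open Cyc

namespace Groth.Agent.S12666

/-- For E finite locally free of rank r and L invertible on X, c_i(E ⊗ L) = Σ_{j=0}^{i} C(r-i+j, j)
c_{i-j}(E) c_1(L)^j for i ≤ r, as cap operations on every k-cycle α: c_i(E ⊗ L) ∩ α ∼_rat Σ_j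
C(r-i+j, j) c_1(L)^j ∩ (c_{i-j}(E) ∩ α), where c_1(L)^j ∩ - is the j-fold iterated cap on
coefficient functions with any nonzero rational sections (Cyc.c1PowFun) and E ⊗ L is the tensor
product of O_X-modules (CohB1.tensorMod). Setting: (X, δ) with Cyc.IsSetup stands for a scheme
locally of finite type over the base (S, δ) (X locally Noetherian with universally catenary local
rings, δ a dimension function); (p : P → X, O_P(1), q) is the projective bundle of E given by its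
universal property (KRR.IsProjBundle), p is proper and δP is the induced dimension function
(Cyc.DeltaCompat); a tuple γ with Cyc.IsChernCap represents (c_0(E) ∩ α, …, c_r(E) ∩ α) through the
defining relation Σ_i (-1)^i c_1(O_P(1))^i ∩ p^*(γ_{r-i}) ∼_rat 0 on P, and classes are compared up
to rational equivalence of representing cycles. -/
theorem result (X : Scheme.{u}) (δ : X → ℤ) (hX : Cyc.IsSetup X δ) (r : ℕ) (E : X.Modules) (hPE : FlatMod.IsFinLocFreeOfRank r E) (P : Scheme.{u}) (p : P ⟶ X) (O1 : P.Modules) (q : (Scheme.Modules.pullback p).obj E ⟶ O1) (hP : KRR.IsProjBundle p E O1 q) [IsProper p] (δP : P → ℤ) (hPs : Cyc.IsSetup P δP) (hδ : Cyc.DeltaCompat p δP δ) (L : X.Modules) (hL : PicF.IsInvertible L) (hP'E : FlatMod.IsFinLocFreeOfRank r (CohB1.tensorMod E L)) (P' : Scheme.{u}) (p' : P' ⟶ X) (O1' : P'.Modules) (q' : (Scheme.Modules.pullback p').obj (CohB1.tensorMod E L) ⟶ O1') (hP' : KRR.IsProjBundle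 p' (CohB1.tensorMod E L) O1' q') [IsProper p'] (δP' : P' → ℤ) (hPs' : Cyc.IsSetup P' δP') (hδ' : Cyc.DeltaCompat p' δP' δ) (k : ℤ) (α : AlgebraicCycle X ℤ) (hα : α ∈ Cyc.Zk X δ k) (γ : Fin (r + 1) → AlgebraicCycle X ℤ) (hγ : Cyc.IsChernCap p δ δP O1 r k α γ) (γ' : Fin (r + 1) → AlgebraicCycle X ℤ) (hγ' : Cyc.IsChernCap p' δ δP' O1' r k α γ') (t : ℕ → (ξ : X) → Cyc.secFibre L ξ) (ht : ∀ m ξ, t m ξ ≠ 0) (i : Fin (r + 1)) (ζ : Fin (r + 1) → AlgebraicCycle X ℤ) (hζ : ∀ j : Fin (r + 1), (j : ℕ) ≤ (i : ℕ) → ⇑(ζ j) = Cyc.c1PowFun δ L t j ⇑(γ ⟨(i : ℕ) - (j : ℕ), Nat.lt_of_le_of_lt (Nat.sub_le _ _) i.isLt⟩)) : Cyc.RatEquiv δ (k - ((i : ℕ) : ℤ)) (γ' i) (∑ j : Fin (r + 1), if (j : ℕ) ≤ (i : ℕ) then ((Nat.choose (r - i + j) j : ℕ) : ℤ) • ζ j else 0) := by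
  classical
  obtain ⟨Q, π, δQ, d, hQ, hfl, hlft, hr, hδπ, hinj, hroots⟩ :=
    ChernOpLib.exists_splitting hX 1 (fun _ => E) (fun _ => r) (fun _ => hPE)
  obtain ⟨S, hcard, hS⟩ := hroots 0
  have hLQ : PicF.IsInvertible ((Scheme.Modules.pullback π).obj L) := AmpleDevLib.isInvertible_pb π hL
  have hS' : ChernOpLib.Roots hQ ((Scheme.Modules.pullback π).obj (CohB1.tensorMod E L))
      (S.map fun a => ChernOpLib.op hQ hLQ + a) := by
    obtain ⟨e⟩ := ChernOpLib.nonempty_pb_tensor π E L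
    exact ((hS.tens_line hLQ).of_iso (AmpleDevLib.tensComm _ _)).of_iso e
  have hleft := ChernOpLib.chern_esymm hX hQ hr hδπ hP'E hP' hPs' hδ'
    (by rw [Multiset.card_map, hcard]) hS' hα hγ' i (hγ'.2.1 i)
  let f : Fin (r + 1) → AlgebraicCycle X ℤ := fun j =>
    if (j : ℕ) ≤ (i : ℕ) then ((Nat.choose (r - i + j) j : ℕ) : ℤ) • ζ j else 0
  have hz : ∀ j : Fin (r + 1), (j : ℕ) ≤ (i : ℕ) → ∃ h : ζ j ∈ Cyc.Zk X δ (k - ((i : ℕ) : ℤ)),
      ChernOpLib.pullT hX hQ hr hδπ (ChernOpLib.tcl (ζ j) h) =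
        (ChernOpLib.op hQ hLQ ^ (j : ℕ) * S.esymm ((i : ℕ) - (j : ℕ))).1
          (ChernOpLib.pullT hX hQ hr hδπ (ChernOpLib.tcl α hα)) := by
    intro j hj
    obtain ⟨β, h, hβ, e⟩ := ChernOpLib.exists_tcl_pow hX hL ht
      (hγ.2.1 ⟨(i : ℕ) - (j : ℕ), Nat.lt_of_le_of_lt (Nat.sub_le _ _) i.isLt⟩) j
    obtain rfl : β = ζ j := DFunLike.coe_injective (hβ.trans (hζ j hj).symm)
    have hk : k - (((i : ℕ) - (j : ℕ) : ℕ) : ℤ) - ((j : ℕ) : ℤ) = k - ((i : ℕ) : ℤ) := by omega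
    refine ⟨hk ▸ h, ?_⟩
    rw [← ChernOpLib.tcl_congr hk h, e, ChernOpLib.pullT_pow hX hQ hr hδπ hL,
      ChernOpLib.chern_esymm hX hQ hr hδπ hPE hP hPs hδ hcard hS hα hγ]
    rfl
  have hf : ∀ j, f j ∈ Cyc.Zk X δ (k - ((i : ℕ) : ℤ)) := fun j => by
    by_cases hj : (j : ℕ) ≤ (i : ℕ)
    · simp only [f, if_pos hj]
      exact (ChowOps.zk X δ _).zsmul_mem (hz j hj).1 _
    · simp only [f, if_neg hj]
      exact (ChowOps.zk X δ _).zero_mem
  let F : ℕ → ChernOpLib.OpRing hQ := fun j =>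
    ((Nat.choose (r - i + j) j : ℕ) : ChernOpLib.OpRing hQ) * ChernOpLib.op hQ hLQ ^ j * S.esymm ((i : ℕ) - j)
  show Cyc.RatEquiv δ _ (γ' i) (∑ j, f j)
  refine (ChernOpLib.tcl_eq_iff hX (hγ'.2.1 i) ((ChowOps.zk X δ _).sum_mem fun j _ => hf j)).1 (hinj ?_)
  rw [hleft, ChernOpLib.tcl_sum _ f hf, map_sum, ChernOpLib.esymm_map_add _ S _ (by omega), hcard,
    show ∑ j ∈ Finset.range ((i : ℕ) + 1), F j = ∑ j : Fin (r + 1), if (j : ℕ) ≤ (i : ℕ) then F (j : ℕ) else 0 from by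
      rw [Fin.sum_univ_eq_sum_range (fun j => if j ≤ (i : ℕ) then F j else 0) (r + 1),
        Finset.sum_ite, Finset.sum_const_zero, add_zero]
      refine Finset.sum_congr (Finset.ext fun j => ?_) fun _ _ => rfl
      simp only [Finset.mem_range, Finset.mem_filter]
      omega]
  show (Subring.closure (ChernOpLib.c1Set hQ)).subtype _ _ = _
  rw [map_sum]
  refine (AddMonoidHom.finsetSum_apply _ _ _).trans (Finset.sum_congr rfl fun j _ => ?_)
  by_cases hj : (j : ℕ) ≤ (i : ℕ)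
  · rw [if_pos hj]
    obtain ⟨h, e⟩ := hz j hj
    have hfj : f j = ((Nat.choose (r - i + j) j : ℕ) : ℤ) • ζ j := if_pos hj
    rw [ChernOpLib.tcl_ext hfj, ChernOpLib.tcl_smul _ h, map_zsmul, e, natCast_zsmul]
    show (F (j : ℕ)).1 _ = _
    simp only [F, mul_assoc, ← nsmul_eq_mul]
    rfl
  · rw [if_neg hj]
    have hfj : f j = 0 := if_neg hj
    rw [ChernOpLib.tcl_ext hfj, ChernOpLib.tcl_zero, map_zero, map_zero]
    rfl

end Groth.Agent.S12666
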