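import Groth.Statements.S12668
import Mathlib
import Groth.Agent.ChernOpLib.Splitting
-- import your own Groth.Agent.* helpers here

set_option autoImplicit false
universe u
open CategoryTheory CategoryTheory.Limits AlgebraicGeometry
open Cyc

namespace Groth.Agent.S12668

/-- For E, F finite locally free of ranks r, s on X, c_1(E ⊗ F) = r c_1(F) + s c_1(E), as cap operations
on every k-cycle α; E ⊗ F is the tensor product of O_X-modules (CohB1.tensorMod), of rank rs, and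
enters through its own projective bundle. Stated for r, s ≥ 1. Setting: (X, δ) with Cyc.IsSetup
stands for a scheme locally of finite type over the base (S, δ) (X locally Noetherian with
universally catenary local rings, δ a dimension function); (p : P → X, O_P(1), q) is the projective
bundle of E given by its universal property (KRR.IsProjBundle), p is proper and δP is the induced
dimension function (Cyc.DeltaCompat); a tuple γ with Cyc.IsChernCap represents (c_0(E) ∩ α, …,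
c_r(E) ∩ α) through the defining relation Σ_i (-1)^i c_1(O_P(1))^i ∩ p^*(γ_{r-i}) ∼_rat 0 on P, and
classes are compared up to rational equivalence of representing cycles. -/
theorem result (X : Scheme.{u}) (δ : X → ℤ) (hX : Cyc.IsSetup X δ) (r s : ℕ) (hr : 1 ≤ r) (hs : 1 ≤ s) (E : X.Modules) (hPE : FlatMod.IsFinLocFreeOfRank r E) (P : Scheme.{u}) (p : P ⟶ X) (O1 : P.Modules) (q : (Scheme.Modules.pullback p).obj E ⟶ O1) (hP : KRR.IsProjBundle p E O1 q) [IsProper p] (δP : P → ℤ) (hPs : Cyc.IsSetup P δP) (hδ : Cyc.DeltaCompat p δP δ) (F : X.Modules) (hQE : FlatMod.IsFinLocFreeOfRank s F) (Q : Scheme.{u}) (p' : Q ⟶ X) (O1' : Q.Modules) (q' : (Scheme.Modules.pullback p').obj F ⟶ O1') (hQ : KRR.IsProjBundle p' F O1' q') [IsProper p'] (δQ : Q → ℤ) (hQs : Cyc.IsSetup Q δQ) (hδ' : Cyc.DeltaCompat p' δQ δ) (hTE : FlatMod.IsFinLocFreeOfRank (r * s) (CohB1.tensorMod E F)) (T : Scheme.{u}) (p'' : T ⟶ X) (O1'' :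 T.Modules) (q'' : (Scheme.Modules.pullback p'').obj (CohB1.tensorMod E F) ⟶ O1'') (hT : KRR.IsProjBundle p'' (CohB1.tensorMod E F) O1'' q'') [IsProper p''] (δT : T → ℤ) (hTs : Cyc.IsSetup T δT) (hδ'' : Cyc.DeltaCompat p'' δT δ) (k : ℤ) (α : AlgebraicCycle X ℤ) (hα : α ∈ Cyc.Zk X δ k) (ε : Fin (r + 1) → AlgebraicCycle X ℤ) (hε : Cyc.IsChernCap p δ δP O1 r k α ε) (φ : Fin (s + 1) → AlgebraicCycle X ℤ) (hφ : Cyc.IsChernCap p' δ δQ O1' s k α φ) (τ : Fin (r * s + 1) → AlgebraicCycle X ℤ) (hτ : Cyc.IsChernCap p'' δ δT O1'' (r * s) k α τ) : Cyc.RatEquiv δ (k - 1) (τ ⟨1, Nat.lt_succ_of_le (Nat.mul_pos hr hs)⟩) (((r : ℕ) : ℤ) • φ ⟨1, Nat.lt_succ_of_le hs⟩ + ((s : ℕ) : ℤ) • ε ⟨1, Nat.lt_succ_of_le hr⟩) := by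
  classical
  obtain ⟨Q₀, π, δQ₀, d, hQ₀, hfl, hlft, hr₀, hδπ, hinj, hroots⟩ :=
    ChernOpLib.exists_splitting hX 2 (fun i => if i = 0 then E else F) (fun i => if i = 0 then r else s)
      (fun i => by by_cases h : i = 0 <;> simp [h, hPE, hQE])
  obtain ⟨S, hcardS, hS⟩ := hroots 0
  obtain ⟨U, hcardU, hU⟩ := hroots 1
  simp only [if_true] at hcardS hS
  simp only [Fin.one_eq_zero_iff, OfNat.ofNat_ne_one, if_false] at hcardU hU
  have hfree : FlatMod.IsFinLocFree ((Scheme.Modules.pullback π).obj E) :=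
    CurveVBLib.isFinLocFree_of_rank (SeesawLib.isFinLocFreeOfRank_pullback π hPE)
  have hST : ChernOpLib.Roots hQ₀ ((Scheme.Modules.pullback π).obj (CohB1.tensorMod E F))
      ((S ×ˢ U).map fun p => p.1 + p.2) := by
    obtain ⟨e⟩ := ChernOpLib.nonempty_pb_tensor π E F
    exact (hS.tensor hfree hU).of_iso e
  have hcardT : Multiset.card ((S ×ˢ U).map fun p => p.1 + p.2) = r * s := by
    rw [Multiset.card_map, Multiset.card_product, hcardS, hcardU]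
  let a := ChernOpLib.pullT hX hQ₀ hr₀ hδπ (ChernOpLib.tcl α hα)
  have h1 : ∀ (n : ℕ) (h : 1 < n + 1), k - (((⟨1, h⟩ : Fin (n + 1)) : ℕ) : ℤ) = k - 1 := fun n h => by simp
  have hτ1 : τ ⟨1, Nat.lt_succ_of_le (Nat.mul_pos hr hs)⟩ ∈ Cyc.Zk X δ (k - 1) := by simpa using hτ.2.1 ⟨1, Nat.lt_succ_of_le (Nat.mul_pos hr hs)⟩
  have hφ1 : φ ⟨1, Nat.lt_succ_of_le hs⟩ ∈ Cyc.Zk X δ (k - 1) := by simpa using hφ.2.1 ⟨1, Nat.lt_succ_of_le hs⟩
  have hε1 : ε ⟨1, Nat.lt_succ_of_le hr⟩ ∈ Cyc.Zk X δ (k - 1) := by simpa using hε.2.1 ⟨1, Nat.lt_succ_of_le hr⟩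
  refine (ChernOpLib.tcl_eq_iff hX hτ1
    ((ChowOps.zk X δ _).add_mem ((ChowOps.zk X δ _).zsmul_mem hφ1 _) ((ChowOps.zk X δ _).zsmul_mem hε1 _))).1 (hinj ?_)
  have eτ := ChernOpLib.chern_esymm hX hQ₀ hr₀ hδπ hTE hT hTs hδ'' hcardT hST hα hτ ⟨1, Nat.lt_succ_of_le (Nat.mul_pos hr hs)⟩ (by simpa using hτ1)
  have eφ := ChernOpLib.chern_esymm hX hQ₀ hr₀ hδπ hQE hQ hQs hδ' hcardU hU hα hφ ⟨1, Nat.lt_succ_of_le hs⟩ (by simpa using hφ1)
  have eε := ChernOpLib.chern_esymm hX hQ₀ hr₀ hδπ hPE hP hPs hδ hcardS hS hα hε ⟨1, Nat.lt_succ_of_le hr⟩ (by simpa using hε1)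
  simp only [ChernOpLib.esymm_one', ChernOpLib.sum_product_add, hcardS, hcardU] at eτ eφ eε
  rw [ChernOpLib.tcl_add ((ChowOps.zk X δ _).zsmul_mem hφ1 _) ((ChowOps.zk X δ _).zsmul_mem hε1 _),
    ChernOpLib.tcl_smul _ hφ1, ChernOpLib.tcl_smul _ hε1, map_add, map_zsmul, map_zsmul, eφ, eε, eτ,
    natCast_zsmul, natCast_zsmul, add_comm (r • _), ← nsmul_eq_mul, ← nsmul_eq_mul]
  rfl

end Groth.Agent.S12668
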