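import Groth.Statements.S12669
import Mathlib
import Groth.Agent.ChernOpLib.Splitting
-- import your own Groth.Agent.* helpers here

set_option autoImplicit false
universe u
open CategoryTheory CategoryTheory.Limits AlgebraicGeometry
open Cyc

namespace Groth.Agent.S12669

/-- For E, F finite locally free of ranks r, s on X, c_2(E ⊗ F) = r c_2(F) + s c_2(E) + C(r,2) c_1(F)^2
+ (rs - 1) c_1(F) c_1(E) + C(s,2) c_1(E)^2, as cap operations on every k-cycle α; products of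
classes are iterated caps represented by nested tuples (a tuple for F, resp. E, over the first
component of a tuple for F; a tuple for E over the first component of a tuple for E), c_2 of a
module of rank < 2 is 0, and E ⊗ F (CohB1.tensorMod, rank rs) enters through its own projective
bundle. Stated for r, s ≥ 1. Setting: (X, δ) with Cyc.IsSetup stands for a scheme locally of finite
type over the base (S, δ) (X locally Noetherian with universally catenary local rings, δ a dimension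
function); (p : P → X, O_P(1), q) is the projective bundle of E given by its universal property
(KRR.IsProjBundle), p is proper and δP is the induced dimension function (Cyc.DeltaCompat); a tuple
γ with Cyc.IsChernCap represents (c_0(E) ∩ α, …, c_r(E) ∩ α) through the defining relation Σ_i
(-1)^i c_1(O_P(1))^i ∩ p^*(γ_{r-i}) ∼_rat 0 on P, and classes are compared up to rational
equivalence of representing cycles. -/
theorem result (X : Scheme.{u}) (δ : X → ℤ) (hX : Cyc.IsSetup X δ) (r s : ℕ) (hr : 1 ≤ r) (hs : 1 ≤ s) (E : X.Modules) (hPE : FlatMod.IsFinLocFreeOfRank r E) (P : Scheme.{u}) (p : P ⟶ X) (O1 : P.Modules) (q : (Scheme.Modules.pullback p).obj E ⟶ O1) (hP : KRR.IsProjBundle p E O1 q) [IsProper p] (δP : P → ℤ) (hPs : Cyc.IsSetup P δP) (hδ : Cyc.DeltaCompat p δP δ) (F : X.Modules) (hQE : FlatMod.IsFinLocFreeOfRank s F) (Q : Scheme.{u})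 (p' : Q ⟶ X) (O1' : Q.Modules) (q' : (Scheme.Modules.pullback p').obj F ⟶ O1') (hQ : KRR.IsProjBundle p' F O1' q') [IsProper p'] (δQ : Q → ℤ) (hQs : Cyc.IsSetup Q δQ) (hδ' : Cyc.DeltaCompat p' δQ δ) (hTE : FlatMod.IsFinLocFreeOfRank (r * s) (CohB1.tensorMod E F)) (T : Scheme.{u}) (p'' : T ⟶ X) (O1'' : T.Modules) (q'' : (Scheme.Modules.pullback p'').obj (CohB1.tensorMod E F) ⟶ O1'') (hT : KRR.IsProjBundle p'' (CohB1.tensorMod E F) O1'' q'') [IsProper p''] (δT : T → ℤ) (hTs : Cyc.IsSetup T δT) (hδ'' : Cyc.DeltaCompat p'' δT δ) (k : ℤ) (α : AlgebraicCycle X ℤ) (hα : α ∈ Cyc.Zk X δ k) (ε : Fin (r + 1) → AlgebraicCycle X ℤ) (hε : Cyc.IsChernCap p δ δP O1 r k α ε) (φ : Fin (s + 1) → AlgebraicCycle X ℤ) (hφ : Cyc.IsChernCap p' δ δQ O1' s k α φ) (τ : Fin (r * s + 1) → AlgebraicCycle X ℤ) (hτ : Cyc.IsChernCap p'' δ δT O1'' (r * s) k α τ) (φφ :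 Fin (s + 1) → AlgebraicCycle X ℤ) (hφφ : Cyc.IsChernCap p' δ δQ O1' s (k - 1) (φ ⟨1, Nat.lt_succ_of_le hs⟩) φφ) (εφ : Fin (r + 1) → AlgebraicCycle X ℤ) (hεφ : Cyc.IsChernCap p δ δP O1 r (k - 1) (φ ⟨1, Nat.lt_succ_of_le hs⟩) εφ) (εε : Fin (r + 1) → AlgebraicCycle X ℤ) (hεε : Cyc.IsChernCap p δ δP O1 r (k - 1) (ε ⟨1, Nat.lt_succ_of_le hr⟩) εε) : Cyc.RatEquiv δ (k - 2) (if h2 : 2 ≤ r * s then τ ⟨2, Nat.lt_succ_of_le h2⟩ else 0) (((r : ℕ) : ℤ) • (if h2 : 2 ≤ s then φ ⟨2, Nat.lt_succ_of_le h2⟩ else 0) + ((s : ℕ) : ℤ) • (if h2 : 2 ≤ r then ε ⟨2, Nat.lt_succ_of_le h2⟩ else 0) + ((Nat.choose r 2 : ℕ) : ℤ) • φφ ⟨1, Nat.lt_succ_of_le hs⟩ + (((r * s : ℕ) : ℤ) - 1) • εφ ⟨1, Nat.lt_succ_of_le hr⟩ + ((Nat.choose s 2 : ℕ) : ℤ) • εε ⟨1, Nat.lt_succ_of_le hr⟩) := by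
  classical
  obtain ⟨Q₀, π, δQ₀, d, hQ₀, hfl, hlft, hr₀, hδπ, hinj, hroots⟩ :=
    ChernOpLib.exists_splitting hX 2 (fun i => if i = 0 then E else F) (fun i => if i = 0 then r else s)
      (fun i => by by_cases h : i = 0 <;> simp [h, hPE, hQE])
  obtain ⟨S, hcardS, hS⟩ := hroots 0
  obtain ⟨U, hcardU, hU⟩ := hroots 1
  simp only [if_true] at hcardS hS
  simp only [Fin.one_eq_zero_iff, OfNat.ofNat_ne_one, if_false] at hcardU hU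
  have hfree : FlatMod.IsFinLocFree ((Scheme.Modules.pullback π).obj E) :=
    CurveVBLib.isFinLocFree_of_rank (SeesawLib.isFinLocFreeOfRank_pullback π hPE)
  have hST : ChernOpLib.Roots hQ₀ ((Scheme.Modules.pullback π).obj (CohB1.tensorMod E F))
      ((S ×ˢ U).map fun p => p.1 + p.2) := by
    obtain ⟨e⟩ := ChernOpLib.nonempty_pb_tensor π E F
    exact (hS.tensor hfree hU).of_iso e
  have hcardT : Multiset.card ((S ×ˢ U).map fun p => p.1 + p.2) = r * s := by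
    rw [Multiset.card_map, Multiset.card_product, hcardS, hcardU]
  let a := ChernOpLib.pullT hX hQ₀ hr₀ hδπ (ChernOpLib.tcl α hα)
  have m1 : ∀ {n : ℕ} {b : AlgebraicCycle X ℤ} {m : ℤ} {c : Fin (n + 1) → AlgebraicCycle X ℤ}
      (hc : ∀ j : Fin (n + 1), c j ∈ Cyc.Zk X δ (m - ((j : ℕ) : ℤ))) (i : ℕ) (h : i < n + 1),
      c ⟨i, h⟩ ∈ Cyc.Zk X δ (m - (i : ℤ)) := fun hc i h => hc ⟨i, h⟩
  have hk2 : k - 1 - ((1 : ℕ) : ℤ) = k - 2 := by push_cast; ring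
  have hk1 : k - ((1 : ℕ) : ℤ) = k - 1 := by simp
  have hk2' : k - ((2 : ℕ) : ℤ) = k - 2 := by simp
  -- a tuple of `F` or `E` at index `≤ 2`
  have g2 : ∀ {n : ℕ} {E₀ : X.Modules} (hE₀ : FlatMod.IsFinLocFreeOfRank n E₀) {P₀ : Scheme.{u}} {p₀ : P₀ ⟶ X}
      {O₀ : P₀.Modules} {q₀ : (Scheme.Modules.pullback p₀).obj E₀ ⟶ O₀} (hP₀ : KRR.IsProjBundle p₀ E₀ O₀ q₀)
      {δ₀ : P₀ → ℤ} (hs₀ : Cyc.IsSetup P₀ δ₀) (hδ₀ : Cyc.DeltaCompat p₀ δ₀ δ) {S₀ : Multiset (ChernOpLib.OpRing hQ₀)}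
      (hc₀ : Multiset.card S₀ = n) (hR₀ : ChernOpLib.Roots hQ₀ ((Scheme.Modules.pullback π).obj E₀) S₀)
      {c : Fin (n + 1) → AlgebraicCycle X ℤ} (hc : Cyc.IsChernCap p₀ δ δ₀ O₀ n k α c),
      ∃ h : (if h2 : 2 ≤ n then c ⟨2, Nat.lt_succ_of_le h2⟩ else 0) ∈ Cyc.Zk X δ (k - 2),
        ChernOpLib.pullT hX hQ₀ hr₀ hδπ (ChernOpLib.tcl _ h) = (S₀.esymm 2).1 a := by
    intro n E₀ hE₀ P₀ p₀ O₀ q₀ hP₀ δ₀ hs₀ hδ₀ S₀ hc₀ hR₀ c hc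
    by_cases h2 : 2 ≤ n
    · have hm := hc.2.1 ⟨2, Nat.lt_succ_of_le h2⟩
      refine ⟨by rw [dif_pos h2]; simpa using hm, ?_⟩
      rw [ChernOpLib.tcl_ext (dif_pos h2), ← ChernOpLib.tcl_congr hk2' hm]
      exact ChernOpLib.chern_esymm hX hQ₀ hr₀ hδπ hE₀ hP₀ hs₀ hδ₀ hc₀ hR₀ hα hc _ hm
    · refine ⟨by rw [dif_neg h2]; exact (ChowOps.zk X δ _).zero_mem, ?_⟩
      rw [ChernOpLib.tcl_ext (dif_neg h2), ChernOpLib.tcl_zero, map_zero,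
        show S₀.esymm 2 = 0 by
          rw [Multiset.esymm, Multiset.powersetCard_eq_empty _ (by omega), Multiset.map_zero, Multiset.sum_zero]]
      rfl
  have g1 : ∀ {n : ℕ} {E₀ : X.Modules} (hE₀ : FlatMod.IsFinLocFreeOfRank n E₀) {P₀ : Scheme.{u}} {p₀ : P₀ ⟶ X}
      {O₀ : P₀.Modules} {q₀ : (Scheme.Modules.pullback p₀).obj E₀ ⟶ O₀} (hP₀ : KRR.IsProjBundle p₀ E₀ O₀ q₀)
      {δ₀ : P₀ → ℤ} (hs₀ : Cyc.IsSetup P₀ δ₀) (hδ₀ : Cyc.DeltaCompat p₀ δ₀ δ) {S₀ : Multiset (ChernOpLib.OpRing hQ₀)}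
      (hc₀ : Multiset.card S₀ = n) (hR₀ : ChernOpLib.Roots hQ₀ ((Scheme.Modules.pullback π).obj E₀) S₀)
      {b : AlgebraicCycle X ℤ} (hb : b ∈ Cyc.Zk X δ (k - 1)) (h1 : 1 < n + 1)
      {c : Fin (n + 1) → AlgebraicCycle X ℤ} (hc : Cyc.IsChernCap p₀ δ δ₀ O₀ n (k - 1) b c),
      ∃ h : c ⟨1, h1⟩ ∈ Cyc.Zk X δ (k - 2),
        ChernOpLib.pullT hX hQ₀ hr₀ hδπ (ChernOpLib.tcl _ h) =
          S₀.sum.1 (ChernOpLib.pullT hX hQ₀ hr₀ hδπ (ChernOpLib.tcl b hb)) := by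
    intro n E₀ hE₀ P₀ p₀ O₀ q₀ hP₀ δ₀ hs₀ hδ₀ S₀ hc₀ hR₀ b hb h1 c hc
    have hm := hc.2.1 ⟨1, h1⟩
    refine ⟨hk2 ▸ hm, ?_⟩
    rw [← ChernOpLib.tcl_congr hk2 hm, ← ChernOpLib.esymm_one']
    exact ChernOpLib.chern_esymm hX hQ₀ hr₀ hδπ hE₀ hP₀ hs₀ hδ₀ hc₀ hR₀ hb hc _ hm
  have hφ1 : φ ⟨1, Nat.lt_succ_of_le hs⟩ ∈ Cyc.Zk X δ (k - 1) := by simpa using hφ.2.1 ⟨1, Nat.lt_succ_of_le hs⟩
  have hε1 : ε ⟨1, Nat.lt_succ_of_le hr⟩ ∈ Cyc.Zk X δ (k - 1) := by simpa using hε.2.1 ⟨1, Nat.lt_succ_of_le hr⟩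
  have eφ : ChernOpLib.pullT hX hQ₀ hr₀ hδπ (ChernOpLib.tcl _ hφ1) = U.sum.1 a := by
    rw [← ChernOpLib.tcl_congr hk1 (hφ.2.1 ⟨1, Nat.lt_succ_of_le hs⟩), ← ChernOpLib.esymm_one']
    exact ChernOpLib.chern_esymm hX hQ₀ hr₀ hδπ hQE hQ hQs hδ' hcardU hU hα hφ _ _
  have eε : ChernOpLib.pullT hX hQ₀ hr₀ hδπ (ChernOpLib.tcl _ hε1) = S.sum.1 a := by
    rw [← ChernOpLib.tcl_congr hk1 (hε.2.1 ⟨1, Nat.lt_succ_of_le hr⟩), ← ChernOpLib.esymm_one']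
    exact ChernOpLib.chern_esymm hX hQ₀ hr₀ hδπ hPE hP hPs hδ hcardS hS hα hε _ _
  obtain ⟨mτ, eτ⟩ := g2 hTE hT hTs hδ'' hcardT hST hτ
  obtain ⟨mφ, eφ2⟩ := g2 hQE hQ hQs hδ' hcardU hU hφ
  obtain ⟨mε, eε2⟩ := g2 hPE hP hPs hδ hcardS hS hε
  obtain ⟨mφφ, eφφ⟩ := g1 hQE hQ hQs hδ' hcardU hU hφ1 (Nat.lt_succ_of_le hs) hφφ
  obtain ⟨mεφ, eεφ⟩ := g1 hPE hP hPs hδ hcardS hS hφ1 (Nat.lt_succ_of_le hr) hεφ
  obtain ⟨mεε, eεε⟩ := g1 hPE hP hPs hδ hcardS hS hε1 (Nat.lt_succ_of_le hr) hεε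
  have s1 := (ChowOps.zk X δ (k - 2)).zsmul_mem mφ ((r : ℕ) : ℤ)
  have s2 := (ChowOps.zk X δ (k - 2)).zsmul_mem mε ((s : ℕ) : ℤ)
  have s3 := (ChowOps.zk X δ (k - 2)).zsmul_mem mφφ ((Nat.choose r 2 : ℕ) : ℤ)
  have s4 := (ChowOps.zk X δ (k - 2)).zsmul_mem mεφ (((r * s : ℕ) : ℤ) - 1)
  have s5 := (ChowOps.zk X δ (k - 2)).zsmul_mem mεε ((Nat.choose s 2 : ℕ) : ℤ)
  refine (ChernOpLib.tcl_eq_iff hX mτ ((ChowOps.zk X δ _).add_mem ((ChowOps.zk X δ _).add_mem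
    ((ChowOps.zk X δ _).add_mem ((ChowOps.zk X δ _).add_mem s1 s2) s3) s4) s5)).1 (hinj ?_)
  rw [eτ, ChernOpLib.esymm_two_product, hcardS, hcardU,
    ChernOpLib.tcl_add ((ChowOps.zk X δ _).add_mem ((ChowOps.zk X δ _).add_mem ((ChowOps.zk X δ _).add_mem s1 s2) s3) s4) s5,
    ChernOpLib.tcl_add ((ChowOps.zk X δ _).add_mem ((ChowOps.zk X δ _).add_mem s1 s2) s3) s4,
    ChernOpLib.tcl_add ((ChowOps.zk X δ _).add_mem s1 s2) s3, ChernOpLib.tcl_add s1 s2,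
    ChernOpLib.tcl_smul _ mφ, ChernOpLib.tcl_smul _ mε, ChernOpLib.tcl_smul _ mφφ, ChernOpLib.tcl_smul _ mεφ,
    ChernOpLib.tcl_smul _ mεε]
  simp only [map_add, map_zsmul, eφ2, eε2, eφφ, eεφ, eεε, eφ, eε]
  rw [mul_comm U.sum S.sum,
    show (r : ChernOpLib.OpRing hQ₀) * (s : ChernOpLib.OpRing hQ₀) - 1 =
      (((((r * s : ℕ) : ℤ) - 1 : ℤ)) : ChernOpLib.OpRing hQ₀) by push_cast; ring]
  simp only [← Int.cast_natCast (R := ChernOpLib.OpRing hQ₀), ← zsmul_eq_mul]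
  rfl

end Groth.Agent.S12669
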