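import Groth.Statements.S1267
import Mathlib
import Groth.Agent.NilFlatLib.Basic
-- import your own Groth.Agent.* helpers here

set_option autoImplicit false
universe u
open FlatMor
open scoped TensorProduct

namespace Groth.Agent.S1267

/-- Let A be a local ring, I an ideal, U a quasi-compact open subset of Spec A and M an A-module such
that M/IM is flat over A/I and M_p is flat over A for all p in U. Let I₂ be the kernel of I → Γ(U,
I/I²), that is the set of x ∈ I such that for every p ∈ U some s outside p has s·x ∈ I². Then M/I₂M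
is flat over A/I₂. -/
theorem result {A : Type u} [CommRing A] [IsLocalRing A] (I : Ideal A)
    (U : Set (PrimeSpectrum A)) (hU : IsOpen U) (hUc : IsCompact U)
    (M : Type u) [AddCommGroup M] [Module A M]
    [Module.Flat (A ⧸ I) (M ⧸ (I • ⊤ : Submodule A M))]
    (hflat : ∀ p ∈ U, Module.Flat A (LocalizedModule p.asIdeal.primeCompl M))
    (I₂ : Ideal A) (hI₂ : ∀ x : A, x ∈ I₂ ↔ x ∈ I ∧ ∀ p ∈ U, ∃ s : A, s ∉ p.asIdeal ∧ s * x ∈ I ^ 2) :
    Module.Flat (A ⧸ I₂) (M ⧸ (I₂ • ⊤ : Submodule A M)) := by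
  classical
  have hsq : I ^ 2 ≤ I₂ := fun x hx => (hI₂ x).2
    ⟨Ideal.pow_le_self two_ne_zero hx, fun p _ => ⟨1, p.asIdeal.primeCompl.one_mem, by rwa [one_mul]⟩⟩
  have hle : I₂ ≤ I := fun x hx => ((hI₂ x).1 hx).1
  let J : Ideal (A ⧸ I₂) := I.map (Ideal.Quotient.mk I₂)
  let Q := (A ⧸ I₂) ⊗[A] M
  have hJ : IsNilpotent J := ⟨2, by
    rw [← Ideal.map_pow, Ideal.zero_eq_bot, Ideal.map_eq_bot_iff_le_ker, Ideal.mk_ker]
    exact hsq⟩
  haveI : Module.Flat (A ⧸ I) ((A ⧸ I) ⊗[A] M) :=
    Module.Flat.of_linearEquiv ((TensorProduct.quotTensorEquivQuotSMul M I).extendScalarsOfSurjective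
      Ideal.Quotient.mk_surjective)
  haveI : Module.Flat ((A ⧸ I₂) ⧸ J) (((A ⧸ I₂) ⧸ J) ⊗[A ⧸ I₂] Q) := by
    let φ : A ⧸ I →+* (A ⧸ I₂) ⧸ J := Ideal.Quotient.lift I ((Ideal.Quotient.mk J).comp (Ideal.Quotient.mk I₂))
      (fun a ha => Ideal.Quotient.eq_zero_iff_mem.2 (Ideal.mem_map_of_mem _ ha))
    letI := φ.toAlgebra
    haveI : IsScalarTower A (A ⧸ I) ((A ⧸ I₂) ⧸ J) := IsScalarTower.of_algebraMap_eq fun a => rfl
    exact Module.Flat.of_linearEquiv
      ((TensorProduct.AlgebraTensorModule.cancelBaseChange A (A ⧸ I₂) ((A ⧸ I₂) ⧸ J) ((A ⧸ I₂) ⧸ J) M).trans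
        (TensorProduct.AlgebraTensorModule.cancelBaseChange A (A ⧸ I) ((A ⧸ I₂) ⧸ J) ((A ⧸ I₂) ⧸ J) M).symm)
  -- the key injectivity
  let f : J →ₗ[A] A ⧸ I₂ := J.subtype.restrictScalars A
  have key : Function.Injective (f.rTensor M) := by
    rw [injective_iff_map_eq_zero]
    intro z hz
    have hann : ∀ p ∈ U, ∃ s : A, s ∉ p.asIdeal ∧ s • z = 0 := by
      intro p hp
      haveI := hflat p hp
      let g := LocalizedModule.mkLinearMap p.asIdeal.primeCompl M
      have h1 : f.lTensor M (TensorProduct.comm A J M z) = 0 := by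
        rw [LinearMap.lTensor_def]
        rw [show TensorProduct.map LinearMap.id f (TensorProduct.comm A J M z) =
          TensorProduct.comm A (A ⧸ I₂) M (f.rTensor M z) from TensorProduct.map_comm _ _ _, hz, map_zero]
      have h2 : f.lTensor (LocalizedModule p.asIdeal.primeCompl M)
          (TensorProduct.AlgebraTensorModule.rTensor A J g (TensorProduct.comm A J M z)) = 0 := by
        rw [show (TensorProduct.AlgebraTensorModule.rTensor A J g (TensorProduct.comm A J M z)) =
          g.rTensor J (TensorProduct.comm A J M z) from rfl]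
        rw [← LinearMap.comp_apply, LinearMap.lTensor_comp_rTensor, ← LinearMap.rTensor_comp_lTensor,
          LinearMap.comp_apply, h1, map_zero]
      have h3 : TensorProduct.AlgebraTensorModule.rTensor A J g (TensorProduct.comm A J M z) = 0 :=
        Module.Flat.lTensor_preserves_injective_linearMap f Subtype.val_injective (h2.trans (map_zero _).symm)
      obtain ⟨s, hs⟩ := (IsLocalizedModule.eq_zero_iff p.asIdeal.primeCompl
        (TensorProduct.AlgebraTensorModule.rTensor A J g)).1 h3
      refine ⟨s, s.2, (TensorProduct.comm A J M).injective ?_⟩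
      rw [map_smul, map_zero]
      exact hs
    choose s hsp hsz using hann
    obtain ⟨t, ht⟩ := hUc.elim_finite_subcover (fun p : U => (PrimeSpectrum.basicOpen (s p.1 p.2) : Set (PrimeSpectrum A)))
      (fun p => (PrimeSpectrum.basicOpen _).isOpen) (fun p hp => Set.mem_iUnion.2 ⟨⟨p, hp⟩, hsp p hp⟩)
    have htor : Module.IsTorsionBySet A J (I : Set A) := by
      rintro ⟨x, hx⟩ ⟨a, ha⟩
      obtain ⟨b, hb, rfl⟩ := (Ideal.mem_map_iff_of_surjective _ Ideal.Quotient.mk_surjective).1 hx
      refine Subtype.ext ?_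
      show a • Ideal.Quotient.mk I₂ b = 0
      rw [Algebra.smul_def, Ideal.Quotient.algebraMap_eq, ← map_mul, Ideal.Quotient.eq_zero_iff_mem]
      exact hsq (pow_two I ▸ Ideal.mul_mem_mul ha hb)
    letI := htor.module
    haveI : IsScalarTower A (A ⧸ I) J := ⟨fun a b x => by
      obtain ⟨b, rfl⟩ := Ideal.Quotient.mk_surjective b
      exact mul_smul a b x⟩
    let h₀ : J →ₗ[A] (t → J) := LinearMap.pi fun p => s p.1.1 p.1.2 • (LinearMap.id : J →ₗ[A] J)
    let h : J →ₗ[A ⧸ I] (t → J) := h₀.extendScalarsOfSurjective Ideal.Quotient.mk_surjective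
    have hinj : Function.Injective h := by
      rw [injective_iff_map_eq_zero]
      rintro ⟨x, hx⟩ h0
      obtain ⟨b, hb, rfl⟩ := (Ideal.mem_map_iff_of_surjective _ Ideal.Quotient.mk_surjective).1 hx
      refine Subtype.ext (Ideal.Quotient.eq_zero_iff_mem.2 ((hI₂ b).2 ⟨hb, fun p hp => ?_⟩))
      obtain ⟨q, hqt, hq⟩ := Set.mem_iUnion₂.1 (ht hp)
      have h1 : s q.1 q.2 • Ideal.Quotient.mk I₂ b = 0 := congrArg Subtype.val (congrFun h0 ⟨q, hqt⟩)
      rw [Algebra.smul_def, Ideal.Quotient.algebraMap_eq, ← map_mul, Ideal.Quotient.eq_zero_iff_mem] at h1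
      obtain ⟨s', hs', hs''⟩ := ((hI₂ _).1 h1).2 p hp
      exact ⟨s' * s q.1 q.2, p.asIdeal.primeCompl.mul_mem hs' hq, by rw [mul_assoc]; exact hs''⟩
    refine NilFlatLib.rTensor_quotient_injective (A := A) (I := I) (M := M) h hinj ?_
    rw [map_zero]
    have : h₀ = ∑ p : t, (LinearMap.single A (fun _ : t => J) p) ∘ₗ (s p.1.1 p.1.2 • LinearMap.id) := by
      ext x q
      simp [h₀, LinearMap.sum_apply, Finset.sum_apply, Pi.single_apply, LinearMap.pi_apply]
    show h₀.rTensor M z = 0
    rw [this, ← LinearMap.coe_rTensorHom, map_sum, LinearMap.sum_apply]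
    refine Finset.sum_eq_zero fun p _ => ?_
    rw [LinearMap.coe_rTensorHom, LinearMap.rTensor_comp_apply, LinearMap.rTensor_smul, LinearMap.rTensor_id,
      LinearMap.smul_apply, LinearMap.id_apply, hsz, map_zero]
  have hT : Function.Injective (LinearMap.rTensor Q (Submodule.subtype J)) := by
    let eJ := TensorProduct.AlgebraTensorModule.cancelBaseChange A (A ⧸ I₂) (A ⧸ I₂) J M
    let eR := TensorProduct.AlgebraTensorModule.cancelBaseChange A (A ⧸ I₂) (A ⧸ I₂) (A ⧸ I₂) M
    have hc : ∀ z, f.rTensor M (eJ z) = eR (LinearMap.rTensor Q (Submodule.subtype J) z) := by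
      intro z
      induction z using TensorProduct.induction_on with
      | zero => simp
      | add a b ha hb => simp only [map_add, ha, hb]
      | tmul j q =>
        induction q using TensorProduct.induction_on with
        | zero => simp
        | add a b ha hb => simp only [TensorProduct.tmul_add, map_add, ha, hb]
        | tmul r m =>
          simp [eJ, eR, f]
          exact (TensorProduct.AlgebraTensorModule.cancelBaseChange_tmul A (A ⧸ I₂) (A ⧸ I₂) (j : A ⧸ I₂) m r).symm
    intro z z' hzz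
    apply eJ.injective
    apply key
    rw [hc, hc, hzz]
  haveI := NilFlatLib.flat_of_isNilpotent hJ hT
  exact Module.Flat.of_linearEquiv ((TensorProduct.quotTensorEquivQuotSMul M I₂).extendScalarsOfSurjective
    Ideal.Quotient.mk_surjective).symm

end Groth.Agent.S1267
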