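import Groth.Statements.S12670
import Mathlib
import Groth.Agent.ChernOpLib.Splitting
import Groth.Agent.ChernOpLib.Dual
-- import your own Groth.Agent.* helpers here

set_option autoImplicit false
universe u
open CategoryTheory CategoryTheory.Limits AlgebraicGeometry
attribute [local instance] HasDerivedCategory.standard
open Cyc

namespace Groth.Agent.S12670

/-- For E finite locally free of rank r on X with dual E^∨, c_j(E^∨) = (-1)^j c_j(E), as cap operations
on every k-cycle α. The dual is Hom_{O_X}(E, O_X), the value at O_X of the right adjoint of - ⊗ E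
(DCoh.sheafHom, its existence carried as a hypothesis), finite locally free of rank r, and enters
through its own projective bundle. Setting: (X, δ) with Cyc.IsSetup stands for a scheme locally of
finite type over the base (S, δ) (X locally Noetherian with universally catenary local rings, δ a
dimension function); (p : P → X, O_P(1), q) is the projective bundle of E given by its universal
property (KRR.IsProjBundle), p is proper and δP is the induced dimension function (Cyc.DeltaCompat);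
a tuple γ with Cyc.IsChernCap represents (c_0(E) ∩ α, …, c_r(E) ∩ α) through the defining relation
Σ_i (-1)^i c_1(O_P(1))^i ∩ p^*(γ_{r-i}) ∼_rat 0 on P, and classes are compared up to rational
equivalence of representing cycles. -/
theorem result (X : Scheme.{u}) (δ : X → ℤ) (hX : Cyc.IsSetup X δ) (r : ℕ) (E : X.Modules) (hPE : FlatMod.IsFinLocFreeOfRank r E) (P : Scheme.{u}) (p : P ⟶ X) (O1 : P.Modules) (q : (Scheme.Modules.pullback p).obj E ⟶ O1) (hP : KRR.IsProjBundle p E O1 q) [IsProper p] (δP : P → ℤ) (hPs : Cyc.IsSetup P δP) (hδ : Cyc.DeltaCompat p δP δ) [DCoh.HasSheafHom E] (hP'E : FlatMod.IsFinLocFreeOfRank r ((DCoh.sheafHom E).obj (Coh.structureModule X))) (P' : Scheme.{u}) (p' : P' ⟶ X) (O1' : P'.Modules) (q' : (Scheme.Modules.pullback p').obj ((DCoh.sheafHom E).obj (Coh.structureModule X)) ⟶ O1') (hP' : KRR.IsProjBundle p' ((DCoh.sheafHom E).obj (Coh.structureModule X)) O1' q') [IsProper p'] (δP' : P' → ℤ) (hPs' : Cyc.IsSetup P' δP') (hδ' : Cyc.DeltaCompat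 p' δP' δ) (k : ℤ) (α : AlgebraicCycle X ℤ) (hα : α ∈ Cyc.Zk X δ k) (γ : Fin (r + 1) → AlgebraicCycle X ℤ) (hγ : Cyc.IsChernCap p δ δP O1 r k α γ) (γ' : Fin (r + 1) → AlgebraicCycle X ℤ) (hγ' : Cyc.IsChernCap p' δ δP' O1' r k α γ') (j : Fin (r + 1)) : Cyc.RatEquiv δ (k - ((j : ℕ) : ℤ)) (γ' j) ((-1 : ℤ) ^ (j : ℕ) • γ j) := by
  classical
  obtain ⟨Q, π, δQ, d, hQ, hfl, hlft, hr, hδπ, hinj, hroots⟩ :=
    ChernOpLib.exists_splitting hX 1 (fun _ => E) (fun _ => r) (fun _ => hPE)
  obtain ⟨S, hcard, hS⟩ := hroots 0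
  haveI := hQ.1
  obtain ⟨e⟩ := ChernOpLib.nonempty_pb_dual π (CurveVBLib.isFinLocFree_of_rank hPE) (KFlatLib.pullUnitIso π)
  have hS' : ChernOpLib.Roots hQ ((Scheme.Modules.pullback π).obj ((DCoh.sheafHom E).obj (Coh.structureModule X)))
      (S.map fun a => -a) :=
    (hS.dual (SeesawLib.isFinLocFreeOfRank_pullback π hPE) hcard).of_iso e
  have hleft := ChernOpLib.chern_esymm hX hQ hr hδπ hP'E hP' hPs' hδ' (by rw [Multiset.card_map, hcard]) hS' hα hγ' j
    (hγ'.2.1 j)
  have hright := ChernOpLib.chern_esymm hX hQ hr hδπ hPE hP hPs hδ hcard hS hα hγ j (hγ.2.1 j)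
  refine (ChernOpLib.tcl_eq_iff hX (hγ'.2.1 j) ((ChowOps.zk X δ _).zsmul_mem (hγ.2.1 j) _)).1 (hinj ?_)
  rw [ChernOpLib.tcl_smul _ (hγ.2.1 j), map_zsmul, hright, hleft, Multiset.esymm_neg]
  generalize ChernOpLib.pullT hX hQ hr hδπ (ChernOpLib.tcl α hα) = z
  have key : ((-1 : ChernOpLib.OpRing hQ) ^ (j : ℕ) * S.esymm (j : ℕ)) = ((-1 : ℤ) ^ (j : ℕ)) • S.esymm (j : ℕ) := by
    rw [zsmul_eq_mul]
    push_cast
    rfl
  rw [key]
  rfl

end Groth.Agent.S12670
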