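import Groth.Statements.S12674
import Mathlib
import Groth.Agent.CycTopLib.Main
import Groth.Agent.CycTopLib.Rank
-- import your own Groth.Agent.* helpers here

set_option autoImplicit false
universe u
open CategoryTheory CategoryTheory.Limits AlgebraicGeometry
attribute [local instance] HasDerivedCategory.standard
open Cyc

namespace Groth.Agent.S12674

/-- For a short exact sequence 0 → N' → N → E → 0 of finite locally free O_X-modules of constant ranks
r', r' + e and e, write π : V = Spec Sym(N^∨) → X and π' : V' = Spec Sym((N')^∨) → X for the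
associated vector bundles and i : V' → V for the closed immersion induced by the dual map N^∨ →
(N')^∨. Then i_*((π')^*α) = π^*(c_e(E) ∩ α) in CH_{k+r'}(V) for every k-cycle α on X (c_e = c_top
for constant rank e). The duals are Hom_{O_X}(-, O_X) (DCoh.sheafHom, existence carried as
hypotheses), the vector bundles are the relative spectra of their symmetric algebras
(RelSpec.IsSymAlg, RelSpec.QCAlg.spec), i is RelSpec.QCAlg.specMap of the algebra map extending the
dual N^∨ → (N')^∨ of N' → N (the mate of N' ⊗ - → N ⊗ - under the tensor-Hom adjunctions), its being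
a closed immersion is carried as a hypothesis, and flat pullbacks are coefficientwise with the
induced dimension functions. (The published statement allows nonconstant ranks through c_top;
constant ranks are stated here.) Setting: (X, δ) with Cyc.IsSetup stands for a scheme locally of
finite type over the base (S, δ) (X locally Noetherian with universally catenary local rings, δ a
dimension function); (p : P → X, O_P(1), q) is the projective bundle of E given by its universal
property (KRR.IsProjBundle), p is proper and δP is the induced dimension function (Cyc.DeltaCompat);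
a tuple γ with Cyc.IsChernCap represents (c_0(E) ∩ α, …, c_r(E) ∩ α) through the defining relation
Σ_i (-1)^i c_1(O_P(1))^i ∩ p^*(γ_{r-i}) ∼_rat 0 on P, and classes are compared up to rational
equivalence of representing cycles. -/
theorem result (X : Scheme.{u}) (δ : X → ℤ) (hX : Cyc.IsSetup X δ) (r' e : ℕ) (N' N E : X.Modules) (hN' : FlatMod.IsFinLocFreeOfRank r' N') (hN : FlatMod.IsFinLocFreeOfRank (r' + e) N) (hPE : FlatMod.IsFinLocFreeOfRank e E) (P : Scheme.{u}) (p : P ⟶ X) (O1 : P.Modules) (q : (Scheme.Modules.pullback p).obj E ⟶ O1) (hP : KRR.IsProjBundle p E O1 q) [IsProper p] (δP : P → ℤ) (hPs : Cyc.IsSetup P δP) (hδ : Cyc.DeltaCompat p δP δ) (a : N' ⟶ N) (b : N ⟶ E) (hab : a ≫ b = 0) (hex : (ShortComplex.mk a b hab).ShortExact) [DCoh.HasSheafHom N] [DCoh.HasSheafHom N'] (hqN : Coh.IsQCoh ((DCoh.sheafHom N).obj (Coh.structureModule X))) (hqN' : Coh.IsQCoh ((DCoh.sheafHom N').obj (Coh.structureModule X))) (A : RelSpec.QCAlg X) (j : ((DCoh.sheafHom N).obj (Coh.structureModule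 X)) ⟶ A.toModule) (hA : RelSpec.IsSymAlg ((DCoh.sheafHom N).obj (Coh.structureModule X)) A j) (A' : RelSpec.QCAlg X) (j' : ((DCoh.sheafHom N').obj (Coh.structureModule X)) ⟶ A'.toModule) (hA' : RelSpec.IsSymAlg ((DCoh.sheafHom N').obj (Coh.structureModule X)) A' j') (φ : A ⟶ A') (hφ : j ≫ RelSpec.QCAlg.Hom.toModuleMap φ = ((CategoryTheory.conjugateEquiv (DCoh.sheafHomAdj N) (DCoh.sheafHomAdj N')) ((DCoh.tensorBi (X := X)).map a)).app (Coh.structureModule X) ≫ j') [IsClosedImmersion (RelSpec.QCAlg.specMap φ)] (δV : ↥A.spec → ℤ) (hV : Cyc.IsSetup A.spec δV) (hpδ : Cyc.DeltaCompat A.π δV δ) (δV' : ↥A'.spec → ℤ) (hV' : Cyc.IsSetup A'.spec δV') (hp'δ : Cyc.DeltaCompat A'.π δV' δ) (k : ℤ) (α : AlgebraicCycle X ℤ) (hα : α ∈ Cyc.Zk X δ k) (γ : Fin (e + 1) → AlgebraicCycle X ℤ) (hγ : Cyc.IsChernCap p δ δP O1 e k α γ) (β' : AlgebraicCycle A'.spec ℤ) (hβ' : ⇑β' = Cyc.pullFun A'.π δV' δ (r' : ℤ) ⇑α) (β : AlgebraicCycle A.spec ℤ) (hβ : ⇑β = Cyc.pullFun A.π δV δ ((r' : ℤ) + e) ⇑(γ (Fin.last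 e))) : Cyc.RatEquiv δV (k + r') (AlgebraicCycle.map (RelSpec.QCAlg.specMap φ) δV' δV β') β := by
  classical
  haveI := hX.1
  have hle := CurveVBLib.isFinLocFree_of_rank hPE
  have hlN := CurveVBLib.isFinLocFree_of_rank hN
  have hlN' := CurveVBLib.isFinLocFree_of_rank hN'
  haveI := CycTopLib.isIso_toDu N hlN
  haveI := CycTopLib.isIso_toDu N' hlN'
  obtain ⟨w', hse⟩ := ChernOpLib.shortExact_du hex (r := e) hPE hlN' hlN hle
  let g := ((CategoryTheory.conjugateEquiv (DCoh.sheafHomAdj N) (DCoh.sheafHomAdj N'))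
    ((DCoh.tensorBi (X := X)).map a)).app (Coh.structureModule X)
  have hnat : g ≫ CycTopLib.toDu N' = CycTopLib.toDu N ≫ ChernOpLib.duMap a := CycTopLib.toDu_natural a
  let ι : ChernOpLib.du E ⟶ (DCoh.sheafHom N).obj (Coh.structureModule X) :=
    ChernOpLib.duMap b ≫ inv (CycTopLib.toDu N)
  have w : ι ≫ g = 0 := by
    rw [← cancel_mono (CycTopLib.toDu N'), zero_comp, Category.assoc, hnat, Category.assoc, IsIso.inv_hom_id_assoc]
    exact w'
  let hi : ShortComplex.mk (ChernOpLib.duMap b) (ChernOpLib.duMap a) w' ≅ ShortComplex.mk ι g w :=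
    ShortComplex.isoMk (Iso.refl _) (asIso (CycTopLib.toDu N)).symm (asIso (CycTopLib.toDu N')).symm
      (by simp [ι]) (by
        show inv (CycTopLib.toDu N) ≫ g = ChernOpLib.duMap a ≫ inv (CycTopLib.toDu N')
        rw [IsIso.eq_comp_inv, Category.assoc, hnat, IsIso.inv_hom_id_assoc])
  have hse' : (ShortComplex.mk ι g w).ShortExact := ShortComplex.shortExact_of_iso hi hse
  have hK := CycTopLib.rank_du hPE
  have hF := SeesawLib.isFinLocFreeOfRank_of_iso (CycTopLib.rank_du hN) (asIso (CycTopLib.toDu N))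
  have hF' := SeesawLib.isFinLocFreeOfRank_of_iso (CycTopLib.rank_du hN') (asIso (CycTopLib.toDu N'))
  obtain ⟨PK, pK, OK, qK, δK, hPK, hprop, hKs, hδK⟩ : ∃ (PK : Scheme.{u}) (pK : PK ⟶ X) (OK : PK.Modules)
      (qK : (Scheme.Modules.pullback pK).obj (ChernOpLib.du E) ⟶ OK) (δK : PK → ℤ),
      KRR.IsProjBundle pK (ChernOpLib.du E) OK qK ∧ IsProper pK ∧ Cyc.IsSetup PK δK ∧
        Cyc.DeltaCompat pK δK δ := by
    cases e with
    | zero =>
      let θ : ChernOpLib.du E ≅ E :=
        (ProjBunLib.isZero_of_rank_zero hK).iso (ProjBunLib.isZero_of_rank_zero hPE)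
      haveI := hP.epi
      refine ⟨P, p, O1, (Scheme.Modules.pullback p).map θ.hom ≫ q, δP,
        ⟨hP.invertible, inferInstance, fun T g L hL s hs => ?_⟩, inferInstance, hPs, hδ⟩
      obtain ⟨h, ⟨hg, i, hi⟩, huniq⟩ := hP.univ T g L hL ((Scheme.Modules.pullback g).map θ.inv ≫ s) inferInstance
      have key : ∀ (h : T ⟶ P) (hg : h ≫ p = g) (i : (Scheme.Modules.pullback h).obj O1 ⟶ L),
          (Scheme.Modules.pullbackCongr hg).inv.app (ChernOpLib.du E) ≫
            (Scheme.Modules.pullbackComp h p).inv.app (ChernOpLib.du E) ≫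
              (Scheme.Modules.pullback h).map ((Scheme.Modules.pullback p).map θ.hom ≫ q) ≫ i =
          (Scheme.Modules.pullback g).map θ.hom ≫ (Scheme.Modules.pullbackCongr hg).inv.app E ≫
            (Scheme.Modules.pullbackComp h p).inv.app E ≫ (Scheme.Modules.pullback h).map q ≫ i := fun h hg i => by
        rw [Functor.map_comp, Category.assoc, NatTrans.naturality_assoc]
        erw [(Scheme.Modules.pullbackComp h p).inv.naturality_assoc θ.hom]
        rfl
      refine ⟨h, ⟨hg, i, ?_⟩, fun h' ⟨hg', i', hi'⟩ => huniq h' ⟨hg', i', ?_⟩⟩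
      · rw [key, hi, ← Functor.map_comp_assoc, Iso.hom_inv_id, CategoryTheory.Functor.map_id, Category.id_comp]
      · rw [← hi', key, ← Functor.map_comp_assoc, Iso.inv_hom_id, CategoryTheory.Functor.map_id, Category.id_comp]
    | succ n =>
      obtain ⟨PK, pK, OK, qK, δK, hPK, hKs, hδK, -⟩ := ProjBunLib.exists_good_bundle hX hK
      exact ⟨PK, pK, OK, qK, δK, hPK, ProjBunLib.isProper hPK hK, hKs, hδK⟩
  haveI := hprop
  obtain ⟨ε, hε⟩ := CycTopLib.exists_chern_any hX hK hPK hKs hδK hα
  have hd := CycTopLib.chern_du hX hPE hP hPs hδ hK hPK hKs hδK hα hγ hε (Fin.last e)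
  simp only [Fin.val_last] at hd
  have hu : ((-1 : ℤ) ^ e) * (-1 : ℤ) ^ e = 1 := by rw [← mul_pow]; simp
  have hcε := CycPBLib.ratEquiv_smul hX ((-1 : ℤ) ^ e) hd
  rw [smul_smul, hu, one_smul] at hcε
  have hc : γ (Fin.last e) ∈ Cyc.Zk X δ (k - e) := by
    have := hγ.2.1 (Fin.last e)
    rwa [Fin.val_last] at this
  exact CycTopLib.map_pull_ratEquiv hX hK hF hF' ι g w hse' hPK hKs hδK hA hA' φ hφ hpδ hp'δ hα hε hc hcε hβ' hβ

end Groth.Agent.S12674
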