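import Groth.Statements.S12676
import Groth.Agent.GraphPullLib.Basic
import Groth.Agent.CycBivLib.Birational
import Groth.Agent.CycSeqLib.Family
import Groth.Agent.CycSeqLib.Envelope
import Groth.Agent.ChernOpLib.Tot
import Groth.Agent.CycPushLib.Proper
import Groth.Agent.FibVALib.Core

set_option autoImplicit false
set_option backward.isDefEq.respectTransparency false
set_option backward.isDefEq.respectTransparency.types false
universe u
open CategoryTheory CategoryTheory.Limits AlgebraicGeometry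
attribute [local instance] HasDerivedCategory.standard
open IntMult

namespace Groth.Agent.S12676

/-- Let f : X → Y be a morphism of nonsingular projective varieties over an algebraically closed field
and define f^*α = pr_{X,*}(Γ_f · pr_Y^*α) on Chow groups, with Γ_f ⊂ X × Y the graph and · the
intersection product of the nonsingular projective variety X × Y. If f is flat, f^*α agrees with the
flat pullback of α (relative dimension dim X - dim Y). Here X, Y and X × Y are nonsingular varieties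
over the algebraically closed field K (smooth, separated, quasi-compact, integral) embedded as
closed subschemes of projective spaces over K, with dimension functions the transcendence degree
(Cyc.IsSetup, Cyc.DeltaCompat to Spec K with value 0) and dimensions pinned at the generic points;
the product on CH_*(X × Y) is any mul with ChowOps.IsChowMul (it agrees with the Tor-formula product
IntMult.interProd on properly meeting cycles, which determines it); [Γ_f] is the prime cycle of the
image of the generic point of X under the graph morphism, pr_Y^* and f^* are coefficientwise flat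
pullbacks (Cyc.pullFun), pr_{X,*} is the proper pushforward of a representing cycle, and the two
sides are compared up to rational equivalence on X. (Parts (1)–(3) of the published statement — f^*
is a ring map, functoriality, projection formula — are not stated here.) -/
theorem result (K : Type u) [Field K] [IsAlgClosed K] (X : Scheme.{u}) (fX : X ⟶ Spec (CommRingCat.of K)) [Smooth fX] [IsSeparated fX] [QuasiCompact fX] [IsIntegral X] (δX : X → ℤ) (hX : Cyc.IsSetup X δX) (hδX : Cyc.DeltaCompat fX δX (fun _ => 0)) (dX : ℕ) (hdX : δX (genericPoint X) = dX) (NX : ℕ) (ιX : X ⟶ CohB1.ProjSpace NX K) [IsClosedImmersion ιX] (hιX : ιX ≫ CohB1.ProjSpace.toSpec NX K = fX) (Y : Scheme.{u}) (fY : Y ⟶ Spec (CommRingCat.of K)) [Smooth fY] [IsSeparated fY] [QuasiCompact fY] [IsIntegral Y] (δY : Y → ℤ) (hY : Cyc.IsSetup Y δY) (hδY : Cyc.DeltaCompat fY δY (fun _ => 0)) (dY : ℕ) (hdY : δY (genericPoint Y) = dY) (NY : ℕ) (ιY : Y ⟶ CohB1.ProjSpace NY K) [IsClosedImmersion ιY] (hιY : ιY ≫ CohB1.ProjSpace.toSpec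 NY K = fY) (f : X ⟶ Y) (hf : f ≫ fY = fX) [Flat f] [IsIntegral (pullback fX fY)] (δW : ↥(pullback fX fY) → ℤ) (hW : Cyc.IsSetup (pullback fX fY) δW) (hδW : Cyc.DeltaCompat (pullback.fst fX fY ≫ fX) δW (fun _ => 0)) (hdW : δW (genericPoint ↥(pullback fX fY)) = (dX : ℤ) + (dY : ℤ)) (NW : ℕ) (ιW : (pullback fX fY) ⟶ CohB1.ProjSpace NW K) [IsClosedImmersion ιW] (hιW : ιW ≫ CohB1.ProjSpace.toSpec NW K = pullback.fst fX fY ≫ fX) (mul : (r s : ℤ) → ChowOps.CH (pullback fX fY) δW r → ChowOps.CH (pullback fX fY) δW s → ChowOps.CH (pullback fX fY) δW (r + s - ((dX : ℤ) + (dY : ℤ)))) (hmul : ChowOps.IsChowMul (pullback fX fY) δW ((dX : ℤ) + (dY : ℤ)) mul) (γ : AlgebraicCycle (pullback fX fY) ℤ) (hγ : ⇑γ = Set.indicator {(pullback.lift (𝟙 X) f (Eq.trans (Category.id_comp fX) hf.symm)) (genericPoint X)} 1) (hγk : γ ∈ Cyc.Zk (pullback fX fY) δW (dX : ℤ)) (k : ℤ) (α : AlgebraicCycle Y ℤ) (hα : α ∈ Cyc.Zk Y δY k) (αW : AlgebraicCycle (pullback fX fY) ℤ) (hαW : ⇑αW = Cyc.pullFun (pullback.snd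 fX fY) δW δY (dX : ℤ) ⇑α) (hαWk : αW ∈ Cyc.Zk (pullback fX fY) δW (k + dX)) (ζ : AlgebraicCycle (pullback fX fY) ℤ) (hζk : ζ ∈ Cyc.Zk (pullback fX fY) δW ((dX : ℤ) + (k + dX) - ((dX : ℤ) + (dY : ℤ)))) (hζ : ChowOps.cl ζ hζk = mul (dX : ℤ) (k + dX) (ChowOps.cl γ hγk) (ChowOps.cl αW hαWk)) (αX : AlgebraicCycle X ℤ) (hαX : ⇑αX = Cyc.pullFun f δX δY ((dX : ℤ) - (dY : ℤ)) ⇑α) : Cyc.RatEquiv δX (k + dX - dY) (AlgebraicCycle.map (pullback.fst fX fY) δW δX ζ) αX := by
  classical
  haveI : IsProper (CohB1.ProjSpace.toSpec NY K) := FibVALib.isProper_toSpec NY K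
  haveI : IsProper fY := hιY ▸ inferInstance
  let p := pullback.fst fX fY
  let q := pullback.snd fX fY
  let Γ : X ⟶ pullback fX fY := pullback.lift (𝟙 X) f (Eq.trans (Category.id_comp fX) hf.symm)
  have hΓp : Γ ≫ p = 𝟙 X := pullback.lift_fst _ _ _
  have hΓq : Γ ≫ q = f := pullback.lift_snd _ _ _
  haveI : IsClosedImmersion Γ := by
    haveI : IsClosedImmersion (Γ ≫ p) := by rw [hΓp]; infer_instance
    exact IsClosedImmersion.of_comp Γ p
  haveI : LocallyOfFiniteType f := by
    haveI : LocallyOfFiniteType (f ≫ fY) := hf.symm ▸ inferInstance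
    exact locallyOfFiniteType_of_comp f fY
  haveI : Flat (Γ ≫ q) := hΓq.symm ▸ inferInstance
  haveI : LocallyOfFiniteType (Γ ≫ q) := hΓq.symm ▸ inferInstance
  have hdimX : topologicalKrullDim X = dX := by
    obtain ⟨a, ha1, ha2⟩ := CycExtProdLib.dim_closure fX hδX (genericPoint X)
    rw [(genericPoint_spec X).def, IsHomeomorph.topologicalKrullDim_eq _ (Homeomorph.Set.univ X).isHomeomorph] at ha2
    rw [ha2, show a = dX by omega]
  have hdimY : topologicalKrullDim Y = dY := by
    obtain ⟨a, ha1, ha2⟩ := CycExtProdLib.dim_closure fY hδY (genericPoint Y)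
    rw [(genericPoint_spec Y).def, IsHomeomorph.topologicalKrullDim_eq _ (Homeomorph.Set.univ Y).isHomeomorph] at ha2
    rw [ha2, show a = dY by omega]
  haveI : Smooth (p ≫ fX) := inferInstance
  have hrelq : Cyc.HasRelDim q dX := FibDimLib.hasRelDim_baseChange (IsPullback.of_hasPullback fX fY)
    (CycExtProdLib.hasRelDim_of_irreducible fX dX hdimX)
  have hcq : Cyc.DeltaCompat q δW δY := CycBivLib.deltaCompat_cancel q fY pullback.condition.symm hδY hδW
  have hcp : Cyc.DeltaCompat p δW δX := CycBivLib.deltaCompat_cancel p fX rfl hδX hδW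
  have hδΓ : δX = fun x => δW (Γ x) := CycBivLib.deltaCompat_immersion_eq Γ
    (CycBivLib.deltaCompat_cancel Γ (p ≫ fX) (by rw [← Category.assoc, hΓp, Category.id_comp]) hδW hδX)
  obtain ⟨e, he, hrelf⟩ := GraphPullLib.hasRelDim_of_flat fX fY f hf dX dY hdimX hdimY
  have hcf : Cyc.DeltaCompat f δX δY := CycBivLib.deltaCompat_cancel f fY hf hδY hδX
  obtain ⟨hprop, hval⟩ := GraphPullLib.interProd_graph (p ≫ fX) δW hδW hW ((dX : ℤ) + dY) hdW δY hY q dX hrelq hcq Γ δX
    (fun x => (congrFun hδΓ x).symm) e (hΓq.symm ▸ hrelf) (hΓq.symm ▸ hcf) (by rw [hdX]; omega) k α hα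
  have hprop' : IntMult.IntersectProperly δW ((dX : ℤ) + dY) ⇑γ ⇑αW := by
    rw [hγ, hαW]
    exact hprop
  rw [← he] at hαX
  -- the product cycle
  let ζ' : AlgebraicCycle (pullback fX fY) ℤ := AlgebraicCycle.map Γ (fun x => δW (Γ x)) δW αX
  have hζ' : ⇑ζ' = IntMult.interProd δW ((dX : ℤ) + dY) ⇑γ ⇑αW := by
    funext z
    rw [hγ, hαW]
    refine Eq.trans ?_ (hval z).symm
    by_cases hz : z ∈ Set.range Γ
    · obtain ⟨x, rfl⟩ := hz
      rw [CycSeqLib.map_closed_apply, show {x' : X | Γ x' = Γ x} = {x} from Set.ext fun x' =>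
        ⟨fun h => Γ.isClosedEmbedding.injective h, fun h => congrArg _ h⟩, finsum_mem_singleton, hαX, hΓq]
    · rw [CycSeqLib.map_closed_apply_zero _ _ hz,
        show {x : X | Γ x = z} = ∅ from Set.eq_empty_of_forall_notMem fun x hx => hz ⟨x, hx⟩, finsum_mem_empty]
  have hζ'k : ζ' ∈ Cyc.Zk (pullback fX fY) δW ((dX : ℤ) + (k + dX) - ((dX : ℤ) + (dY : ℤ))) := by
    intro z hz
    by_cases hz' : z ∈ Set.range Γ
    · obtain ⟨x, rfl⟩ := hz'
      rw [CycSeqLib.map_closed_apply, hαX]
      simp only [Cyc.pullFun]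
      split_ifs with h
      · rw [hα (f x) fun hk => hz (by rw [← congrFun hδΓ x, h, hk]; omega), zero_mul]
      · rfl
    · rw [CycSeqLib.map_closed_apply_zero _ _ hz']
  have hcl : ChowOps.cl ζ hζk = ChowOps.cl ζ' hζ'k := hζ.trans (hmul _ _ γ αW hγk hαWk hprop' ζ' hζ'k hζ')
  have h1 := CycBivLib.ratEquiv_of_cl_eq hW hζk hζ'k hcl
  have h2 := CycPushLib.ratEquiv_map hW hX p hcp h1
  rw [show (dX : ℤ) + (k + dX) - ((dX : ℤ) + (dY : ℤ)) = k + dX - dY by ring] at h2
  have h3 : AlgebraicCycle.map p δW δX ζ' = αX := by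
    refine DFunLike.ext _ _ fun x => ?_
    have hpx : p (Γ x) = x := by rw [← Scheme.Hom.comp_apply, hΓp]; rfl
    have hdeg : p.residueDegree (Γ x) = 1 := by
      refine CycSeqLib.residueDegree_eq_one_of_residue_surjective p (Γ x) fun z => ?_
      haveI : IsPreimmersion (Γ ≫ p) := by rw [hΓp]; infer_instance
      obtain ⟨y, hy⟩ := (CycPushLib.residueFieldMap_bijective (Γ ≫ p) x).2 ((Γ.residueFieldMap x).hom z)
      refine ⟨y, (CycPushLib.residueFieldMap_bijective Γ x).1 ?_⟩
      rw [← hy, Scheme.residueFieldMap_comp]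
      rfl
    have h := CycBivLib.map_apply_of_unique p δW δX ζ' (Γ x) (by rw [hpx]; exact (congrFun hδΓ x).symm) hdeg fun t ht hne => by
      by_cases ht' : t ∈ Set.range Γ
      · obtain ⟨x', rfl⟩ := ht'
        have e1 : p (Γ x') = x' := by rw [← Scheme.Hom.comp_apply, hΓp]; rfl
        rw [← e1, ht, hpx]
      · exact absurd (CycSeqLib.map_closed_apply_zero _ _ ht') hne
    rw [hpx] at h
    rw [h]
    exact CycSeqLib.map_closed_apply Γ αX x
  rw [h3] at h2
  exact h2
end Groth.Agent.S12676
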