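import Groth.Statements.S12680
import Mathlib
import Groth.Agent.EGA2SymLib.RLAmpleMain
-- import your own Groth.Agent.* helpers here

set_option autoImplicit false
universe u
open CategoryTheory CategoryTheory.Limits AlgebraicGeometry TopologicalSpace Opposite
open scoped HomogeneousIdeal
noncomputable section
open EGA2

namespace Groth.Agent.S12680

/-- Let f : X → Y be a quasi-compact and separated morphism, L an invertible O_X-module with graded
symmetric algebra 𝒮L = ⊕_{n≥0} L^{⊗n} (whose relative Proj PL, given with its charts, is identified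
with X by its structure morphism), 𝒜 a quasi-coherent graded O_Y-algebra given with a graded
f-morphism u : 𝒜 → f_*𝒮L which is bijective on sections over every affine open of Y — so that 𝒜 is
the graded algebra ⊕_{n≥0} f_*(L^{⊗n}) and u is adjoint to the canonical σ : f^*𝒜 → ⊕ L^{⊗n} — P =
Proj(𝒜) → Y its relative homogeneous spectrum with its charts, and r = r_{L,σ} : G(σ) → P the
induced morphism on its open of definition G(σ) ⊆ PL. If r is everywhere defined (G(σ) is all of PL)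
and the underlying continuous map of r is a homeomorphism onto a subspace of P, then L is ample
relative to f. -/
theorem result {X Y P PL : Scheme.{u}} (f : X ⟶ Y) [QuasiCompact f] [IsSeparated f]
    (L : X.Modules) (hL : PicF.IsInvertible L) (hLq : Coh.IsQCoh L)
    (𝒮L : RelProj.QCGrAlg X) (jL : L ⟶ 𝒮L.toModule) (hjL : RelProj.IsGrSymAlg L 𝒮L jL)
    (pL : PL ⟶ X) (chartL : ∀ (U : X.Opens) (hU : IsAffineOpen U), (((pL ⁻¹ᵁ U : PL.Opens) : Scheme.{u}) ≅ Proj (𝒮L.deg U hU)))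
    (hPL : RelProj.IsRelProj 𝒮L pL chartL)
    (𝒜 : RelProj.QCGrAlg Y) (u : RelProj.QGrHom f 𝒜 𝒮L)
    (p : P ⟶ Y) (chart : ∀ (U : Y.Opens) (hU : IsAffineOpen U), (((p ⁻¹ᵁ U : P.Opens) : Scheme.{u}) ≅ Proj (𝒜.deg U hU)))
    (hP : RelProj.IsRelProj 𝒜 p chart)
    (r : ((RelProj.domQ u pL chartL : PL.Opens) : Scheme.{u}) ⟶ P)
    (hr : RelProj.IsProjQMapOn u p chart pL chartL (RelProj.domQ u pL chartL) r)
    (hu : ∀ (U : Y.Opens), IsAffineOpen U → Function.Bijective (u.app U).hom)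
    (htop : RelProj.domQ u pL chartL = ⊤) (hemb : Topology.IsEmbedding r.base) :
    RelAmple.IsRelAmple f L := by
  haveI := hLq
  haveI : IsIso pL := Groth.Agent.S12143.result L hL hLq 𝒮L jL hjL pL chartL hPL
  refine ⟨inferInstance, fun U => EGA2SymLib.isAmple_restrict_of_loci hL (f.isCompact_preimage U.2.isCompact) fun x hx => ?_⟩
  let y : (RelProj.domQ u pL chartL : Scheme.{u}) := ⟨inv pL x, htop ▸ trivial⟩
  have hy : pL ((RelProj.domQ u pL chartL).ι y) = x := congr($(IsIso.inv_hom_id pL) x)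
  obtain ⟨T₀, e, hxT₀, he⟩ := TwistLib.exists_genOn hL x
  obtain ⟨T, hT, hxT, hTle⟩ := exists_isAffineOpen_mem_and_subset (X := X) (x := x) (U := T₀ ⊓ f ⁻¹ᵁ U.1) ⟨hxT₀, hx⟩
  let T' : (RelProj.domQ u pL chartL : Scheme.{u}).Opens := (RelProj.domQ u pL chartL).ι ⁻¹ᵁ (pL ⁻¹ᵁ T)
  obtain ⟨Q, hQ, hQT⟩ := hemb.isInducing.isOpen_iff.mp T'.2
  have hyQ : r y ∈ (⟨Q, hQ⟩ : P.Opens) := by
    show y ∈ r.base ⁻¹' Q
    rw [hQT]
    exact show pL ((RelProj.domQ u pL chartL).ι y) ∈ T from hy.symm ▸ hxT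
  obtain ⟨d, g, σ, W, hd, hW, hyW, hg, hle, hpre⟩ :=
    EGA2SymLib.exists_locus_of_nhds hL hjL hP hPL hr y U.2 (hy.symm ▸ hx) hyQ
  refine ⟨d, σ, W, hd, hW, hy ▸ hyW, ?_⟩
  have hWT : W ≤ T := by
    intro w hw
    have h1 : inv pL w ∈ pL ⁻¹ᵁ W := show pL (inv pL w) ∈ W from (congr($(IsIso.inv_hom_id pL) w)).symm ▸ hw
    rw [← hpre] at h1
    obtain ⟨y', hy', he'⟩ := h1
    have h2 : y' ∈ r.base ⁻¹' Q := hle hy'
    rw [hQT] at h2
    have h3 : pL ((RelProj.domQ u pL chartL).ι y') ∈ T := h2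
    rwa [show (RelProj.domQ u pL chartL).ι y' = inv pL w from he',
      show pL (inv pL w) = w from congr($(IsIso.inv_hom_id pL) w)] at h3
  have hTU : T ≤ f ⁻¹ᵁ U.1 := fun z hz => (hTle hz).2
  have hTT : T ≤ T₀ := fun z hz => (hTle hz).1
  have hV := AmpleThLib.pS_genOn (he.res hTT) d
  obtain ⟨c, hc⟩ := (hV T le_rfl).2 (AmpleLib.res _ hTU σ)
  simp only [AmpleLib.res_refl] at hc
  have key : W = X.basicOpen c := by
    ext z
    constructor
    · intro hz
      have h := (AmpleLib.genAt_res hTU σ (hWT hz)).mpr ((hW.2 z (hW.1 hz)).mp hz)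
      rwa [← hc, AmpleLib.genAt_smul_iff _ _ (hWT hz) (hV.genAt (hWT hz))] at h
    · intro hz
      have hzT := X.basicOpen_le _ hz
      refine (hW.2 z (hTU hzT)).mpr ((AmpleLib.genAt_res hTU σ hzT).mp ?_)
      rw [← hc, AmpleLib.genAt_smul_iff _ _ hzT (hV.genAt hzT)]
      exact hz
  rw [key]
  exact hT.basicOpen c

end Groth.Agent.S12680
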