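import Groth.Statements.S12682
import Mathlib
import Groth.Agent.EGA2SymLib.RLAmpleMain
-- import your own Groth.Agent.* helpers here

set_option autoImplicit false
universe u
open CategoryTheory CategoryTheory.Limits AlgebraicGeometry TopologicalSpace Opposite
open scoped HomogeneousIdeal
noncomputable section
open Mor

namespace Groth.Agent.S12682

/-- Let f : X → Y be a quasi-compact morphism, L an invertible O_X-module with graded symmetric algebra
𝒮L = ⊕_{n≥0} L^{⊗n} (whose relative Proj PL, given with its charts, is identified with X by its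
structure morphism), 𝒜 any quasi-coherent graded O_Y-algebra, u : 𝒜 → f_*𝒮L a graded f-morphism (the
adjoint of a homomorphism of graded O_X-algebras ψ : f^*𝒜 → ⊕ L^{⊗d}), P = Proj(𝒜) → Y with its
charts, and r = r_{L,ψ} : U(ψ) → P the induced morphism on its open of definition U(ψ) ⊆ PL. If U(ψ)
is all of PL and r is an immersion, then L is ample relative to f. -/
theorem result {X Y P PL : Scheme.{u}} (f : X ⟶ Y) [QuasiCompact f]
    (L : X.Modules) (hL : PicF.IsInvertible L) (hLq : Coh.IsQCoh L)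
    (𝒮L : RelProj.QCGrAlg X) (jL : L ⟶ 𝒮L.toModule) (hjL : RelProj.IsGrSymAlg L 𝒮L jL)
    (pL : PL ⟶ X) (chartL : ∀ (U : X.Opens) (hU : IsAffineOpen U), (((pL ⁻¹ᵁ U : PL.Opens) : Scheme.{u}) ≅ Proj (𝒮L.deg U hU)))
    (hPL : RelProj.IsRelProj 𝒮L pL chartL)
    (𝒜 : RelProj.QCGrAlg Y) (u : RelProj.QGrHom f 𝒜 𝒮L)
    (p : P ⟶ Y) (chart : ∀ (U : Y.Opens) (hU : IsAffineOpen U), (((p ⁻¹ᵁ U : P.Opens) : Scheme.{u}) ≅ Proj (𝒜.deg U hU)))
    (hP : RelProj.IsRelProj 𝒜 p chart)
    (r : ((RelProj.domQ u pL chartL : PL.Opens) : Scheme.{u}) ⟶ P)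
    (hr : RelProj.IsProjQMapOn u p chart pL chartL (RelProj.domQ u pL chartL) r)
    (htop : RelProj.domQ u pL chartL = ⊤) (himm : IsImmersion r) :
    RelAmple.IsRelAmple f L := by
  haveI := hLq
  haveI : IsIso pL := Groth.Agent.S12143.result L hL hLq 𝒮L jL hjL pL chartL hPL
  haveI := himm
  refine ⟨inferInstance, fun U => EGA2SymLib.isAmple_restrict_of_loci hL (f.isCompact_preimage U.2.isCompact) fun x hx => ?_⟩
  let y : (RelProj.domQ u pL chartL : Scheme.{u}) := ⟨inv pL x, htop ▸ trivial⟩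
  have hy : pL ((RelProj.domQ u pL chartL).ι y) = x := congr($(IsIso.inv_hom_id pL) x)
  have hyQ : r y ∈ r.coborderRange := by
    rw [← congr($(r.liftCoborder_ι) y)]
    exact (r.liftCoborder y).2
  obtain ⟨d, g, σ, W, hd, hW, hyW, hg, hle, hpre⟩ :=
    EGA2SymLib.exists_locus_of_nhds hL hjL hP hPL hr y U.2 (hy.symm ▸ hx) hyQ
  refine ⟨d, σ, W, hd, hW, hy ▸ hyW, ?_⟩
  have h1 := ((EGA2SymLib.isAffineOpen_gOpen (p := p) (chart := chart) U.2 hd hg).preimage_of_isOpenImmersion
    r.coborderRange.ι (by rw [Scheme.Opens.opensRange_ι]; exact hle)).preimage r.liftCoborder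
  rw [← Scheme.Hom.comp_preimage, r.liftCoborder_ι] at h1
  have h2 := (h1.image_of_isOpenImmersion (RelProj.domQ u pL chartL).ι).image_of_isOpenImmersion pL
  rwa [hpre, Scheme.Hom.image_preimage_eq_opensRange_inf, Scheme.Hom.opensRange_of_isIso, top_inf_eq] at h2

end Groth.Agent.S12682
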