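import Groth.Statements.S12683
import Mathlib
import Mathlib
import Groth.Agent.EGA2SymLib.RLAmpleMain
import Groth.Agent.AmpleThLib.FiniteSet
-- import your own Groth.Agent.* helpers here

set_option autoImplicit false
universe u
open CategoryTheory CategoryTheory.Limits AlgebraicGeometry TopologicalSpace Opposite
open scoped HomogeneousIdeal
noncomputable section
open Variety

namespace Groth.Agent.S12683

/-- Let X be a quasi-compact scheme, L an ample invertible O_X-module with graded symmetric algebra 𝒮L =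
⊕_{d≥0} L^{⊗d} (whose relative Proj PL, given with its charts, is identified with X by its structure
morphism), f : X → Y a quasi-compact morphism to an AFFINE scheme Y, 𝒜 a quasi-coherent graded
O_Y-algebra given with a graded f-morphism u : 𝒜 → f_*𝒮L which is bijective on global sections — so
that Γ(Y, 𝒜) is the graded ring Γ(X, 𝒮L) = ⊕_d Γ(X, L^{⊗d}) and P = Proj(𝒜) (given with its charts)
is its homogeneous spectrum — and r : G(σ) → P the canonical morphism on its open of definition G(σ)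
⊆ PL. Then r is everywhere defined (G(σ) is all of PL) and is a quasi-compact, scheme-theoretically
dominant open immersion. (The published statement forms the homogeneous spectrum of the graded ring
⊕_d Γ(X, L^{⊗d}) itself, over the spectrum of Γ(X, O_X); any affine Y under X gives the same graded
ring, the same homogeneous spectrum and the same morphism. It also assumes X quasi-separated, which
already follows from ampleness, since the opens X_s are affine with affine pairwise intersections;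
only quasi-compactness is assumed here.) -/
theorem result {X Y P PL : Scheme.{u}} [CompactSpace X]
    (f : X ⟶ Y) [QuasiCompact f] (hY : IsAffineOpen (⊤ : Y.Opens))
    (L : X.Modules) (hL : PicF.IsInvertible L) (hLq : Coh.IsQCoh L)
    (𝒮L : RelProj.QCGrAlg X) (jL : L ⟶ 𝒮L.toModule) (hjL : RelProj.IsGrSymAlg L 𝒮L jL)
    (pL : PL ⟶ X) (chartL : ∀ (U : X.Opens) (hU : IsAffineOpen U), (((pL ⁻¹ᵁ U : PL.Opens) : Scheme.{u}) ≅ Proj (𝒮L.deg U hU)))
    (hPL : RelProj.IsRelProj 𝒮L pL chartL)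
    (hLa : CohB1.IsAmple L)
    (𝒜 : RelProj.QCGrAlg Y) (u : RelProj.QGrHom f 𝒜 𝒮L)
    (p : P ⟶ Y) (chart : ∀ (U : Y.Opens) (hU : IsAffineOpen U), (((p ⁻¹ᵁ U : P.Opens) : Scheme.{u}) ≅ Proj (𝒜.deg U hU)))
    (hP : RelProj.IsRelProj 𝒜 p chart)
    (r : ((RelProj.domQ u pL chartL : PL.Opens) : Scheme.{u}) ⟶ P)
    (hr : RelProj.IsProjQMapOn u p chart pL chartL (RelProj.domQ u pL chartL) r)
    (hu : Function.Bijective (u.app ⊤).hom) :
    RelProj.domQ u pL chartL = ⊤ ∧ IsOpenImmersion r ∧ QuasiCompact r ∧ IsSchemeTheoreticallyDominant r := by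
  haveI := hLq
  haveI : IsIso pL := Groth.Agent.S12143.result L hL hLq 𝒮L jL hjL pL chartL hPL
  haveI := AmpleThLib.quasiSeparatedSpace_of_isAmple hLa
  haveI : QuasiSeparated (f ≫ terminal.from Y) :=
    Limits.terminal.hom_ext (terminal.from X) (f ≫ terminal.from Y) ▸ inferInstance
  haveI : QuasiSeparated f := QuasiSeparated.of_comp f (terminal.from Y)
  have hloc : ∀ x : X, ∃ (n : ℕ) (σ : Γ(CohB1.tensorPow L n, f ⁻¹ᵁ ⊤)) (W : X.Opens),
      0 < n ∧ EGA2SymLib.IsLocusOn σ W ∧ x ∈ W ∧ IsAffineOpen W := fun x => by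
    obtain ⟨n, V, hn, ⟨τ, rfl⟩, hxV, hV⟩ := ((AmpleThLib.isAmple_iff (hL := hL)).mp hLa).2 x
    exact ⟨n, τ, _, hn, ⟨le_top, fun _ _ => Iff.rfl⟩, hxV, hV⟩
  choose n σ W hn hW hxW hWa using hloc
  obtain ⟨h1, h2⟩ := EGA2SymLib.isOpenImmersion_of_loci hL hjL hP hPL hr (fun _ : X => ⊤) (fun _ => hY)
    (fun _ => hu) n hn σ W hW hWa fun x => ⟨x, hxW x⟩
  have hcov : ∀ y : P, ∃ (d : ℕ) (g : 𝒜.presheaf.obj (op ⊤)), 0 < d ∧ g ∈ 𝒜.deg ⊤ hY d ∧
      y ∈ EGA2SymLib.gOpen p chart ⊤ hY g := fun y => by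
    obtain ⟨t, ht⟩ := RelConeLib.exists_emb_eq (chart := chart) hY y trivial
    obtain ⟨d, g, hd, hg, htg, -⟩ := EGA2SymLib.exists_homogeneous_basicOpen t (O := ⊤) trivial
    exact ⟨d, g, hd, hg, t, htg, ht⟩
  choose d g hd hg hyg using hcov
  have hsup : ⨆ y, EGA2SymLib.gOpen p chart ⊤ hY (g y) = ⊤ :=
    top_le_iff.mp fun y _ => Opens.mem_iSup.mpr ⟨y, hyg y⟩
  choose σ' hσ' using fun y => EGA2SymLib.exists_sec hL hjL (u := u) hY (hg y)
  choose W' hW' using fun y => EGA2SymLib.exists_isLocusOn hL (σ' y)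
  have hc : IsCompact ((f ⁻¹ᵁ ⊤ : X.Opens) : Set X) := isCompact_univ
  have hWc : ∀ y, IsCompact (W' y : Set X) := fun y =>
    EGA2SymLib.isCompact_genLocus (AmpleThLib.tensorPow_isInvertible hL _) hc (σ' y) (hW' y).1 (hW' y).2
  have hpre := fun y => EGA2SymLib.preimage_gOpen_eq hL hjL hP hPL hr hY (hd y) (hg y) (hσ' y) (hW' y)
  haveI hqc : QuasiCompact r := by
    refine (HasAffineProperty.iff_of_iSup_eq_top (P := @QuasiCompact)
      (fun y => ⟨_, EGA2SymLib.isAffineOpen_gOpen (p := p) (chart := chart) hY (hd y) (hg y)⟩) hsup).mpr fun y => ?_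
    refine isCompact_iff_compactSpace.mp ((RelProj.domQ u pL chartL).ι.isOpenEmbedding.isInducing.isCompact_iff.mpr ?_)
    show IsCompact (((RelProj.domQ u pL chartL).ι ''ᵁ (r ⁻¹ᵁ EGA2SymLib.gOpen p chart ⊤ hY (g y)) : PL.Opens) : Set PL)
    rw [hpre y]
    exact pL.isCompact_preimage (hWc y)
  refine ⟨h1, h2, hqc, ⟨Scheme.IdealSheafData.ext_of_iSup_eq_top
    (fun y => ⟨_, EGA2SymLib.isAffineOpen_gOpen (p := p) (chart := chart) hY (hd y) (hg y)⟩) hsup fun y => ?_⟩⟩
  rw [Scheme.Hom.ker_apply]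
  refine eq_bot_iff.mpr fun z hz => ?_
  rw [RingHom.mem_ker] at hz
  show z = 0
  let e := EGA2SymLib.gEmb p chart hY (hd y) (hg y)
  have he : e ''ᵁ ⊤ = EGA2SymLib.gOpen p chart ⊤ hY (g y) := by
    rw [Scheme.Hom.image_top_eq_opensRange, EGA2SymLib.gEmb_opensRange]
  suffices key : ∀ O : P.Opens, e ''ᵁ ⊤ = O → ∀ z : Γ(P, O), (r.app O).hom z = 0 → z = 0 from key _ he z hz
  clear z hz he
  rintro _ rfl z hz
  suffices h : (Scheme.ΓSpecIso _).hom ((e.appIso ⊤).hom z) = 0 from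
    (ConcreteCategory.bijective_of_isIso (e.appIso ⊤).hom).1
      (((ConcreteCategory.bijective_of_isIso (Scheme.ΓSpecIso _).hom).1 (h.trans (map_zero _).symm)).trans
        (map_zero _).symm)
  obtain ⟨m, a, ha, hw⟩ := HomogeneousLocalization.Away.mk_surjective (𝒜.deg ⊤ hY) (hg y)
    ((Scheme.ΓSpecIso _).hom ((e.appIso ⊤).hom z))
  rw [← hw]
  have hV : ∀ (x : X), x ∈ W' y → ∃ (V : X.Opens) (hle : V ≤ W' y) (l : ℕ), x ∈ V ∧
      (u.appLE ⊤ V (hle.trans (hW' y).1)).hom (g y ^ l * a) = 0 := by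
    intro x hx
    obtain ⟨V, hV, hxV, hle⟩ := exists_isAffineOpen_mem_and_subset (X := X) (x := x) (U := W' y) hx
    refine ⟨V, hle, ?_⟩
    let Wp : RelConeLib.Pair f := ⟨⊤, hY, V, hV, (show V ≤ W' y from hle).trans (hW' y).1⟩
    let i : ConeRetrLib.Idx (𝒜.deg ⊤ hY) := ⟨d y, g y, hd y, hg y⟩
    let jX := RelConeLib.dChart (Wp.hom u) i ≫ RelConeLib.qEmb u (chart' := chartL) Wp
    let φ := CommRingCat.ofHom (HomogeneousLocalization.Away.map (Wp.hom u) (g y))
    have hj3 : jX ≫ r = Spec.map φ ≫ e := by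
      rw [Category.assoc, (RelConeLib.isProjQMapOn_iff u r).mp hr Wp, RelConeLib.qTarget,
        reassoc_of% (RelConeLib.dChart_dMap (Wp.hom u) i), RelConeLib.dTarget, Category.assoc]
    have hle' : (⊤ : Scheme.Opens _) ≤ (jX ≫ r) ⁻¹ᵁ (e ''ᵁ ⊤) := by
      rw [hj3, Scheme.Hom.comp_preimage, e.preimage_image_eq]
      exact le_rfl
    have h0 : (jX ≫ r).appLE (e ''ᵁ ⊤) ⊤ hle' z = 0 := by
      rw [Scheme.Hom.appLE, CommRingCat.comp_apply, Scheme.Hom.comp_app]
      have h0' : (jX.app (r ⁻¹ᵁ (e ''ᵁ ⊤))).hom ((r.app (e ''ᵁ ⊤)).hom z) = 0 := by rw [hz, map_zero]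
      exact (congrArg _ h0').trans (map_zero _)
    simp only [hj3] at h0
    rw [← Scheme.Hom.appLE_comp_appLE (Spec.map φ) e (e ''ᵁ ⊤) ⊤ ⊤ (e.preimage_image_eq ⊤).ge le_top,
      ← Scheme.Hom.appIso_hom', CommRingCat.comp_apply] at h0
    have h3 : φ ((Scheme.ΓSpecIso _).hom ((e.appIso ⊤).hom z)) = 0 := by
      refine (congr($(Scheme.ΓSpecIso_naturality φ) ((e.appIso ⊤).hom z))).symm.trans ?_
      rw [CommRingCat.comp_apply]
      refine (congrArg _ ?_).trans (map_zero _)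
      rw [Scheme.Hom.appTop, Scheme.Hom.app_eq_appLE]
      exact h0
    rw [← hw] at h3
    have h4 : HomogeneousLocalization.Away.map (u.gradedAt ⊤ hY V hV ((show V ≤ W' y from hle).trans (hW' y).1)) (g y)
        (HomogeneousLocalization.Away.mk (𝒜.deg ⊤ hY) (hg y) m a ha) = _ :=
      h3.trans (map_zero ((HomogeneousLocalization.fromZeroRingHom (𝒮L.deg V hV) _).comp (𝒮L.strZero V hV).hom)).symm
    obtain ⟨l, hl⟩ := (EGA2SymLib.gmap_eq_base_iff hY (hg y) hV _ m a ha 0).mp h4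
    rw [map_zero, mul_zero, mul_zero] at hl
    refine ⟨l, hxV, ?_⟩
    rw [map_mul, map_pow]
    exact hl
  choose V hle l hxV hl using hV
  obtain ⟨t, ht⟩ := (hWc y).elim_finite_subcover (fun x : W' y => (V x.1 x.2 : Set X)) (fun x => (V x.1 x.2).2)
    fun x hx => Set.mem_iUnion.mpr ⟨⟨x, hx⟩, hxV x hx⟩
  let N := t.sup fun x => l x.1 x.2
  obtain ⟨k, hk⟩ := EGA2SymLib.exists_pow_mul_eq_zero hL hjL hu.1 hc (hσ' y) (hW' y) (a := g y ^ N * a) (by
    refine EGA2SymLib.sV_ext fun x hx => ?_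
    obtain ⟨x', hx', hxx'⟩ := Set.mem_iUnion₂.mp (ht hx)
    refine ⟨V x'.1 x'.2, hle _ _, hxx', ?_⟩
    rw [map_zero]
    refine (congr($(𝒮L.presheaf.map_comp _ _) ((u.app ⊤).hom (g y ^ N * a)))).symm.trans ?_
    show (u.appLE ⊤ (V x'.1 x'.2) ((hle _ _).trans (hW' y).1)).hom (g y ^ N * a) = 0
    rw [show N = N - l x'.1 x'.2 + l x'.1 x'.2 from (Nat.sub_add_cancel (Finset.le_sup (f := fun x : W' y => l x.1 x.2) hx')).symm,
      pow_add, mul_assoc, map_mul]
    exact mul_eq_zero_of_right _ (hl _ _))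
  refine HomogeneousLocalization.val_injective _ ?_
  rw [HomogeneousLocalization.Away.val_mk, HomogeneousLocalization.val_zero,
    ← Localization.mk_zero (1 : Submonoid.powers (g y)), Localization.mk_eq_mk_iff, Localization.r_iff_exists]
  exact ⟨⟨g y ^ (k + N), k + N, rfl⟩, by
    simp only [OneMemClass.coe_one, one_mul, mul_zero]
    rw [pow_add, mul_assoc, hk]⟩

end Groth.Agent.S12683
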