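import Groth.Statements.S12686
import Mathlib
import Groth.Agent.EGA2SymLib.RLSigma
-- import your own Groth.Agent.* helpers here

set_option autoImplicit false
universe u
open CategoryTheory CategoryTheory.Limits AlgebraicGeometry TopologicalSpace Opposite
open scoped HomogeneousIdeal
noncomputable section
open EGA2

namespace Groth.Agent.S12686

/-- Let q : X → Y be a quasi-compact morphism, L an invertible O_X-module with graded symmetric algebra
𝒮L = ⊕_{n≥0} L^{⊗n} (whose relative Proj PL, given with its charts, is identified with X by its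
structure morphism), and suppose the direct image E = q_*L is quasi-coherent, with graded symmetric
algebra 𝒜 = Sym(E) (structure map jE : E → 𝒜) and projective bundle P = P(E) = Proj(𝒜) → Y given
with its charts. Let u : 𝒜 → q_*𝒮L be the graded q-morphism which on E ⊆ 𝒜 is the inclusion of q_*L
= (q_*𝒮L)_1, i.e. the adjoint of Sym(σ) for the canonical σ : q^*q_*L → L, and r = r_{L,σ} : G(σ) →
P the induced morphism on its open of definition G(σ) ⊆ PL. If L is very ample relative to q, then r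
is everywhere defined (G(σ) is all of PL) and r is an immersion. (The published statement also
asserts that q_*L is quasi-coherent and that the canonical q^*q_*L → L is surjective; this row
presupposes the former through the datum E = q_*L, and its first conclusion, that G(σ) is
everything, expresses the latter.) -/
theorem result {X Y P PL : Scheme.{u}} (q : X ⟶ Y) [QuasiCompact q]
    (L : X.Modules) (hL : PicF.IsInvertible L) (hLq : Coh.IsQCoh L)
    (𝒮L : RelProj.QCGrAlg X) (jL : L ⟶ 𝒮L.toModule) (hjL : RelProj.IsGrSymAlg L 𝒮L jL)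
    (pL : PL ⟶ X) (chartL : ∀ (U : X.Opens) (hU : IsAffineOpen U), (((pL ⁻¹ᵁ U : PL.Opens) : Scheme.{u}) ≅ Proj (𝒮L.deg U hU)))
    (hPL : RelProj.IsRelProj 𝒮L pL chartL)
    (hEq : Coh.IsQCoh ((Scheme.Modules.pushforward q).obj L))
    (𝒜 : RelProj.QCGrAlg Y) (jE : (Scheme.Modules.pushforward q).obj L ⟶ 𝒜.toModule)
    (h𝒜 : RelProj.IsGrSymAlg ((Scheme.Modules.pushforward q).obj L) 𝒜 jE)
    (u : RelProj.QGrHom q 𝒜 𝒮L)
    (hu : ∀ (U : Y.Opens) (x : Γ((Scheme.Modules.pushforward q).obj L, U)),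
      (u.app U).hom ((jE.app U) x) = (jL.app (q ⁻¹ᵁ U)) x)
    (p : P ⟶ Y) (chart : ∀ (U : Y.Opens) (hU : IsAffineOpen U), (((p ⁻¹ᵁ U : P.Opens) : Scheme.{u}) ≅ Proj (𝒜.deg U hU)))
    (hP : RelProj.IsRelProj 𝒜 p chart)
    (r : ((RelProj.domQ u pL chartL : PL.Opens) : Scheme.{u}) ⟶ P)
    (hr : RelProj.IsProjQMapOn u p chart pL chartL (RelProj.domQ u pL chartL) r)
    (h : RelProj.IsRelVeryAmple q L) :
    RelProj.domQ u pL chartL = ⊤ ∧ IsImmersion r := by
  haveI := hEq
  haveI := hLq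
  haveI := Groth.Agent.S12143.result L hL hLq 𝒮L jL hjL pL chartL hPL
  have hsec : ∀ x : X, ∃ (U : Y.Opens) (_ : IsAffineOpen U), EGA2SymLib.SecAt L (q ⁻¹ᵁ U) x := fun x => by
    obtain ⟨U, hU, hxU, -⟩ := exists_isAffineOpen_mem_and_subset (X := Y) (x := q x) (U := ⊤) trivial
    exact ⟨U, hU, EGA2SymLib.secAt_of_isRelVeryAmple h hU hxU⟩
  haveI : Epi (EGA2SymLib.canQ q L) := EGA2SymLib.epi_of_genAt _ fun x => by
    obtain ⟨U, -, e, hx, hgx, -⟩ := hsec x
    exact ⟨q ⁻¹ᵁ U, hx, KFlatLib.puSec q (show Γ((Scheme.Modules.pushforward q).obj L, U) from e),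
      EGA2SymLib.genAt_congr (EGA2SymLib.qVal_canQ q L U e).symm hgx⟩
  have hu' : ∀ (U : Y.Opens) (hU : IsAffineOpen U) (U' : X.Opens) (hU' : IsAffineOpen U') (hle : U' ≤ q ⁻¹ᵁ U)
      (m : Γ((Scheme.Modules.pushforward q).obj L, U)),
      u.gradedAt U hU U' hU' hle (EGA2SymLib.jS jE U m) =
        EGA2SymLib.jS jL U' (L.presheaf.map (homOfLE hle).op (EGA2SymLib.qVal (EGA2SymLib.canQ q L) U m)) := by
    intro U hU U' hU' hle m
    rw [EGA2SymLib.qVal_canQ]
    show (𝒮L.presheaf.map (homOfLE hle).op).hom ((u.app U).hom ((jE.app U) m)) = _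
    rw [hu]
    exact (QCohLib.app_map jL (homOfLE hle) m).symm
  have hirr := EGA2SymLib.irrelevant_le_of_epi (EGA2SymLib.canQ q L) h𝒜 hjL hu'
  obtain ⟨h', hh, hover⟩ := EGA2SymLib.exists_isProjQMap u hirr hP hPL
  obtain ⟨O1, lam, hO1⟩ := GrModLib6.exists_isRelTwist hP 1
  obtain ⟨φ, hφ⟩ := EGA2SymLib.exists_canonicalMap_one hP hO1 jE h𝒜.2
  obtain ⟨hr0, hI⟩ := EGA2SymLib.induces_of_isProjQMap (EGA2SymLib.canQ q L) h𝒜 hjL hu' hP hL hO1 hφ hPL hh hover
  have himm : IsImmersion (inv pL ≫ h') := by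
    refine EGA2SymLib.isImmersion_of_local hO1 h𝒜 hφ hI fun x => ?_
    obtain ⟨U, hU, e, hx, hgx, hrest⟩ := hsec x
    refine ⟨U, hU, e, hx, EGA2SymLib.genAt_congr (EGA2SymLib.qVal_canQ q L U e).symm hgx, fun W hW hWe => ?_⟩
    simp only [EGA2SymLib.ratios, EGA2SymLib.qVal_canQ] at hWe ⊢
    exact hrest W hW hWe
  refine ⟨hh.1, ?_⟩
  have hon : RelProj.IsProjQMapOn u p chart pL chartL (RelProj.domQ u pL chartL)
      ((RelProj.domQ u pL chartL).ι ≫ h') := fun U hU U' hU' hle d hd f hf hW => by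
    rw [← Category.assoc, IsOpenImmersion.lift_fac]
    exact hh.2 U hU U' hU' hle d hd f hf
  obtain ⟨w, -, huniq⟩ := RelConeLib.existsUnique_isProjQMapOn u hP hPL (chart := chart)
  rw [(huniq r hr).trans (huniq _ hon).symm, ← IsIso.hom_inv_id_assoc pL h']
  infer_instance

end Groth.Agent.S12686
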