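import Groth.Statements.S12689
import Mathlib
import Groth.Agent.EGA2SymLib.RLCrit
-- import your own Groth.Agent.* helpers here

set_option autoImplicit false
universe u
open CategoryTheory CategoryTheory.Limits AlgebraicGeometry TopologicalSpace Opposite
open scoped HomogeneousIdeal
noncomputable section
open EGA2

namespace Groth.Agent.S12689

/-- Let Y be a scheme which is either quasi-compact and separated or has Noetherian underlying space, q
: X → Y a morphism of finite type, L an invertible O_X-module with graded symmetric algebra 𝒮L =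
⊕_{n≥0} L^{⊗n} (whose relative Proj PL, given with its charts, is identified with X by its structure
morphism), F a quasi-coherent O_Y-module with graded symmetric algebra 𝒯 = Sym(F) (structure map jF)
and projective bundle P = P(F) = Proj(𝒯) → Y given with its charts, u : 𝒯 → q_*𝒮L a graded
q-morphism — adjoint to Sym(φ) for the homomorphism φ : q^*F → L it determines in degree one — with
φ surjective (every point of X has an affine neighbourhood V over which the image of a single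
section of F generates L), and r = r_{L,φ} : G(φ) → P the induced morphism on its open of definition
G(φ) ⊆ PL (which is all of PL, φ being surjective). Then r is an immersion if and only if there are
a quasi-coherent O_Y-module E of finite type with an injective map ι : E → F, its graded symmetric
algebra 𝒯' = Sym(E) (structure map jE) and the graded q-morphism u' : 𝒯' → q_*𝒮L obtained from u
through Sym(ι), such that the corresponding φ' : q^*E → L is surjective (in the same stalkwise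
sense) and, for the projective bundle P(E) = Proj(𝒯') → Y (with its charts) and the induced r' =
r_{L,φ'} : G(φ') → P(E), r' is everywhere defined and an immersion. -/
theorem result {X Y P PL : Scheme.{u}}
    (hYs : (CompactSpace Y ∧ Y.IsSeparated) ∨ NoetherianSpace Y) (q : X ⟶ Y) [QuasiCompact q] [LocallyOfFiniteType q]
    (L : X.Modules) (hL : PicF.IsInvertible L) (hLq : Coh.IsQCoh L)
    (𝒮L : RelProj.QCGrAlg X) (jL : L ⟶ 𝒮L.toModule) (hjL : RelProj.IsGrSymAlg L 𝒮L jL)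
    (pL : PL ⟶ X) (chartL : ∀ (U : X.Opens) (hU : IsAffineOpen U), (((pL ⁻¹ᵁ U : PL.Opens) : Scheme.{u}) ≅ Proj (𝒮L.deg U hU)))
    (hPL : RelProj.IsRelProj 𝒮L pL chartL)
    (F : Y.Modules) (hFq : Coh.IsQCoh F) (𝒯 : RelProj.QCGrAlg Y) (jF : F ⟶ 𝒯.toModule) (h𝒯 : RelProj.IsGrSymAlg F 𝒯 jF)
    (u : RelProj.QGrHom q 𝒯 𝒮L)
    (hsurj : ∀ x : X, ∃ (U : Y.Opens) (hU : IsAffineOpen U) (e : Γ(F, U)) (V : X.Opens) (hV : IsAffineOpen V)
        (hVU : V ≤ q ⁻¹ᵁ U), x ∈ V ∧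
          ((𝒮L.deg V hV 1 : AddSubgroup (𝒮L.presheaf.obj (op V))) : Set (𝒮L.presheaf.obj (op V))) ⊆
              (Ideal.span {(u.appLE U V hVU).hom ((jF.app U) e)} : Set (𝒮L.presheaf.obj (op V))))
    (p : P ⟶ Y) (chart : ∀ (U : Y.Opens) (hU : IsAffineOpen U), (((p ⁻¹ᵁ U : P.Opens) : Scheme.{u}) ≅ Proj (𝒯.deg U hU)))
    (hP : RelProj.IsRelProj 𝒯 p chart)
    (r : ((RelProj.domQ u pL chartL : PL.Opens) : Scheme.{u}) ⟶ P)
    (hr : RelProj.IsProjQMapOn u p chart pL chartL (RelProj.domQ u pL chartL) r) :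
    IsImmersion r ↔
      ∃ (E : Y.Modules) (_ : Coh.IsQCoh E) (_ : CohB1.IsFT E) (ι : E ⟶ F) (_ : ∀ U : Y.Opens, Function.Injective (ι.app U))
        (𝒯' : RelProj.QCGrAlg Y) (jE : E ⟶ 𝒯'.toModule) (_ : RelProj.IsGrSymAlg E 𝒯' jE)
        (u' : RelProj.QGrHom q 𝒯' 𝒮L)
        (_ : ∀ (U : Y.Opens) (x : Γ(E, U)), (u'.app U).hom ((jE.app U) x) = (u.app U).hom ((jF.app U) ((ι.app U) x))),
        (∀ x : X, ∃ (U : Y.Opens) (hU : IsAffineOpen U) (e : Γ(E, U)) (V : X.Opens) (hV : IsAffineOpen V)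
            (hVU : V ≤ q ⁻¹ᵁ U), x ∈ V ∧
              ((𝒮L.deg V hV 1 : AddSubgroup (𝒮L.presheaf.obj (op V))) : Set (𝒮L.presheaf.obj (op V))) ⊆
              (Ideal.span {(u'.appLE U V hVU).hom ((jE.app U) e)} : Set (𝒮L.presheaf.obj (op V)))) ∧
        ∀ (P' : Scheme.{u}) (p' : P' ⟶ Y)
            (chart' : ∀ (U : Y.Opens) (hU : IsAffineOpen U), (((p' ⁻¹ᵁ U : P'.Opens) : Scheme.{u}) ≅ Proj (𝒯'.deg U hU)))
            (_ : RelProj.IsRelProj 𝒯' p' chart')
            (r' : ((RelProj.domQ u' pL chartL : PL.Opens) : Scheme.{u}) ⟶ P')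
            (_ : RelProj.IsProjQMapOn u' p' chart' pL chartL (RelProj.domQ u' pL chartL) r'),
          RelProj.domQ u' pL chartL = ⊤ ∧ IsImmersion r' := by
  haveI := hLq
  haveI := hFq
  obtain ⟨σ, hσ⟩ := EGA2SymLib.exists_sigma hjL h𝒯 u
  have hgen : ∀ x : X, ∃ (U : Y.Opens) (e : Γ(F, U)) (hx : x ∈ q ⁻¹ᵁ U),
      AmpleLib.GenAt L (show Γ(L, q ⁻¹ᵁ U) from σ.app U e) hx := fun x => by
    obtain ⟨U, hU, e, V, hV, hVU, hxV, hs⟩ := hsurj x
    exact ⟨U, e, hVU hxV, EGA2SymLib.genAt_of_span hL hjL hσ e hV hVU hxV hs⟩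
  obtain ⟨-, h1, h2⟩ := EGA2SymLib.domQ_eq_top_and_isImmersion_iff hL hjL hPL h𝒯 hσ hgen hP r hr
  constructor
  · intro himm
    have hsec : ∀ x : X, ∃ (U : Y.Opens) (_ : IsAffineOpen U), EGA2SymLib.SecAtS σ U x := fun x => by
      obtain ⟨U, hU, hxU, -⟩ := exists_isAffineOpen_mem_and_subset (X := Y) (x := q x) (U := ⊤) trivial
      exact ⟨U, hU, h1 himm U hU x hxU⟩
    obtain ⟨E, ι, hE, hft, hι, hd⟩ := EGA2SymLib.exists_ft_sub_secAtS hYs hL hsec
    haveI := hE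
    obtain ⟨𝒯', jE, h𝒯'⟩ := EGA2SymLib.exists_isGrSymAlg E
    obtain ⟨u', hu'⟩ := EGA2SymLib.exists_qgrhom_of_sigma hjL h𝒯' (ι ≫ σ)
    refine ⟨E, hE, hft, ι, hι, 𝒯', jE, h𝒯', u', fun U x => (hu' U x).trans (hσ U (ι.app U x)).symm,
      fun x => ?_, fun P' p' chart' hP' r' hr' => ?_⟩
    · obtain ⟨U, hU, e, hx, hg, -⟩ := hd x
      obtain ⟨V, hV, hVU, hxV, hs⟩ := EGA2SymLib.exists_span_of_genAt hL hjL hu' e hx hg
      exact ⟨U, hU, e, V, hV, hVU, hxV, hs⟩
    · obtain ⟨h3, -, h4⟩ := EGA2SymLib.domQ_eq_top_and_isImmersion_iff hL hjL hPL h𝒯' hu' (fun x => by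
        obtain ⟨U, hU, e, hx, hg, -⟩ := hd x
        exact ⟨U, e, hx, hg⟩) hP' r' hr'
      exact ⟨h3, h4 hd⟩
  · rintro ⟨E, hE, hft, ι, hι, 𝒯', jE, h𝒯', u', hu', hsurj', himm'⟩
    haveI := hE
    have hσ' : ∀ (U : Y.Opens) (x : Γ(E, U)),
        (u'.app U).hom ((jE.app U) x) = (jL.app (q ⁻¹ᵁ U)) ((ι ≫ σ).app U x) :=
      fun U x => (hu' U x).trans (hσ U (ι.app U x))
    have hgen' : ∀ x : X, ∃ (U : Y.Opens) (e : Γ(E, U)) (hx : x ∈ q ⁻¹ᵁ U),
        AmpleLib.GenAt L (show Γ(L, q ⁻¹ᵁ U) from (ι ≫ σ).app U e) hx := fun x => by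
      obtain ⟨U, hU, e, V, hV, hVU, hxV, hs⟩ := hsurj' x
      exact ⟨U, e, hVU hxV, EGA2SymLib.genAt_of_span hL hjL hσ' e hV hVU hxV hs⟩
    obtain ⟨P', p', chart', hP'⟩ := MiscFlat6.exists_relProj 𝒯'
    obtain ⟨r', hr', -⟩ := RelConeLib.existsUnique_isProjQMapOn u' hP' hPL (chart := chart')
    obtain ⟨-, h3, -⟩ := EGA2SymLib.domQ_eq_top_and_isImmersion_iff hL hjL hPL h𝒯' hσ' hgen' hP' r' hr'
    refine h2 fun x => ?_
    obtain ⟨U, hU, hxU, -⟩ := exists_isAffineOpen_mem_and_subset (X := Y) (x := q x) (U := ⊤) trivial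
    obtain ⟨e, hx, hg, hrest⟩ := h3 (himm' P' p' chart' hP' r' hr').2 U hU x hxU
    refine ⟨U, hU, ι.app U e, hx, hg, fun W hW hWe => ?_⟩
    obtain ⟨A, hA, f, hf, hfa⟩ := hrest W hW hWe
    exact ⟨A, hA, f, hf, fun a => Subring.closure_mono
      (fun c hc => hc.elim fun m hm => ⟨ι.app U m, hm⟩) (hfa a)⟩

end Groth.Agent.S12689
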