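import Groth.Statements.S1269
import Groth.Agent.DevissExLib.LocalOpenFree

set_option autoImplicit false
universe u
open FlatMor

namespace Groth.Agent.S1269

open AlgebraicGeometry CategoryTheory TensorProduct in
/-- Ring form, X = Spec S and S = Spec R affine: let S be a finite type R-algebra, N a finite S-module
and q a prime of S over p with N_q flat over R. Then there is an étale R-algebra R' with a prime p'
over p having the same residue field such that, writing A for the local ring of R' at p' and S_A,
N_A for the base changes (any models), there is an S_A-algebra C with Spec C → Spec S_A an open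
immersion (an affine open U'), containing a point lying over q and over the maximal ideal of A, such
that C ⊗_{S_A} N_A is a free A-module. -/
theorem result {R S : Type u} [CommRing R] [CommRing S] [Algebra R S] [Algebra.FiniteType R S]
    (N : Type u) [AddCommGroup N] [Module S N] [Module R N] [IsScalarTower R S N] [Module.Finite S N]
    (p : Ideal R) [p.IsPrime] (q : Ideal S) [q.IsPrime] [q.LiesOver p] (hflat : FlatCA.FlatAt R q N) :
    ∃ (R' : Type u) (_ : CommRing R') (_ : Algebra R R') (p' : Ideal R') (_ : p'.IsPrime), FlatCA.IsEtaleNhd R R' p p' ∧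
      ∀ (SA NA : Type u) [CommRing SA] [Algebra R SA] [Algebra S SA] [Algebra (Localization.AtPrime p') SA]
        [IsScalarTower R S SA] [IsScalarTower R (Localization.AtPrime p') SA]
        [Algebra.IsPushout R S (Localization.AtPrime p') SA]
        [AddCommGroup NA] [Module SA NA] [Module S NA] [IsScalarTower S SA NA]
        (f : N →ₗ[S] NA), IsBaseChange SA f →
        ∃ (C : Type u) (_ : CommRing C) (_ : Algebra SA C) (_ : Algebra (Localization.AtPrime p') C)
          (_ : IsScalarTower (Localization.AtPrime p') SA C) (x' : Ideal C) (_ : x'.IsPrime),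
          IsOpenImmersion (Spec.map (CommRingCat.ofHom (algebraMap SA C))) ∧
          (x'.comap (algebraMap SA C)).LiesOver q ∧
          (x'.comap (algebraMap SA C)).LiesOver (IsLocalRing.maximalIdeal (Localization.AtPrime p')) ∧
          Module.Free (Localization.AtPrime p') (RestrictScalars (Localization.AtPrime p') C (C ⊗[SA] NA)) := by
  obtain ⟨R', _, _, p', _, ⟨hetR, hp'p, hbR⟩, hmain⟩ := DevissExLib.exists_local_open_free_finiteType N p q hflat
  haveI := hetR
  haveI := hp'p
  refine ⟨R', inferInstance, inferInstance, p', inferInstance, ⟨hetR, hp'p, hbR⟩, ?_⟩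
  intro SA NA _ _ _ _ _ _ _ _ _ _ _ f hf
  let A := Localization.AtPrime p'
  let m := IsLocalRing.maximalIdeal A
  letI : Module A NA := Module.compHom NA (algebraMap A SA)
  haveI : IsScalarTower A SA NA := IsScalarTower.of_algebraMap_smul fun _ _ => rfl
  obtain ⟨g, hg, hfree⟩ := hmain SA NA f hf
  haveI hm : m.LiesOver p' := ⟨(IsLocalization.AtPrime.comap_maximalIdeal A p').symm⟩
  haveI : m.LiesOver p := Ideal.LiesOver.trans m p' p
  have hresA : Function.Surjective (Ideal.ResidueField.mapₐ p m (Algebra.ofId R A) (Ideal.over_def m p)) :=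
    DevissExLib.surjective_residue_comp p p' m hbR.2
      ((RingHom.surjectiveOnStalks_of_isLocalization p'.primeCompl A).residueFieldMap_bijective _ _ _).2
  haveI : Algebra.IsPushout R A S SA := Algebra.IsPushout.symm inferInstance
  obtain ⟨Q', hQ'I, hQ'm, hQ'q, -⟩ := DevissExLib.exists_prime_tensor p m q hresA
  let ε := Algebra.IsPushout.equiv R A S SA
  let Q := Q'.comap ε.symm.toRingEquiv.toRingHom
  have hQq : Q.LiesOver q := ⟨by
    show q = (Q'.comap ε.symm.toRingEquiv.toRingHom).comap (algebraMap S SA)
    rw [Ideal.comap_comap, show ε.symm.toRingEquiv.toRingHom.comp (algebraMap S SA) =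
        (Algebra.TensorProduct.includeRight : S →ₐ[R] A ⊗[R] S).toRingHom from
      RingHom.ext fun a => ε.symm_apply_eq.2 (by simp [ε, Algebra.IsPushout.equiv_tmul])]
    exact hQ'q⟩
  have hQm : Q.LiesOver m := ⟨by
    show m = (Q'.comap ε.symm.toRingEquiv.toRingHom).comap (algebraMap A SA)
    rw [Ideal.comap_comap, show ε.symm.toRingEquiv.toRingHom.comp (algebraMap A SA) = algebraMap A (A ⊗[R] S) from
      RingHom.ext fun a => ε.symm.commutes a]
    exact hQ'm.over⟩
  have hgQ : g ∉ Q := hg Q hQq hQm
  let C := Localization.Away g
  have hd : Disjoint (Submonoid.powers g : Set SA) (Q : Set SA) :=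
    (Ideal.disjoint_powers_iff_notMem_of_isPrime _).2 hgQ
  let x' := Q.map (algebraMap SA C)
  haveI : x'.IsPrime := IsLocalization.isPrime_of_isPrime_disjoint _ C _ inferInstance hd
  have hx' : x'.comap (algebraMap SA C) = Q := IsLocalization.comap_map_of_isPrime_disjoint _ C inferInstance hd
  haveI : IsScalarTower A C (C ⊗[SA] NA) := TensorProduct.isScalarTower_left
  let e := ((IsLocalizedModule.isBaseChange (Submonoid.powers g) C
    (LocalizedModule.mkLinearMap (Submonoid.powers g) NA)).equiv).restrictScalars A
  let E : RestrictScalars A C (C ⊗[SA] NA) ≃ₗ[A] C ⊗[SA] NA :=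
    { RestrictScalars.addEquiv A C (C ⊗[SA] NA) with
      map_smul' := fun c z => by
        show RestrictScalars.addEquiv A C _ (c • z) = c • RestrictScalars.addEquiv A C _ z
        rw [RestrictScalars.addEquiv_map_smul, algebraMap_smul] }
  haveI := hfree
  exact ⟨C, inferInstance, inferInstance, inferInstance, inferInstance, x', inferInstance,
    IsOpenImmersion.of_isLocalization g, by rw [hx']; exact hQq, by rw [hx']; exact hQm,
    Module.Free.of_equiv (E.trans e).symm⟩

end Groth.Agent.S1269
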