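import Groth.Statements.S12691
import Mathlib
import Groth.Agent.EGA2SymLib.RLCrit
import Groth.Agent.EGA2SymLib.DegPart
import Groth.Agent.EGA2SymLib.PosSurj
import Groth.Agent.EGA2SymLib.TN
import Groth.Agent.EGA2SymLib.Factor
-- import your own Groth.Agent.* helpers here

set_option autoImplicit false
universe u
open CategoryTheory CategoryTheory.Limits AlgebraicGeometry TopologicalSpace Opposite
open scoped HomogeneousIdeal
noncomputable section
open Mor

namespace Groth.Agent.S12691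

/-- Let f : X → Y be a quasi-compact morphism, L an invertible O_X-module with graded symmetric algebra
𝒮L = ⊕_{n≥0} L^{⊗n} (whose relative Proj PL, given with its charts, is identified with X by its
structure morphism), 𝒜 a quasi-coherent graded O_Y-algebra generated in degree one over O_Y (its
degree-zero part is the image of O_Y and degrees zero and one generate it), u : 𝒜 → f_*𝒮L a graded
f-morphism (adjoint to a homomorphism of graded algebras ψ : f^*𝒜 → ⊕ L^{⊗n}) whose degree-one part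
f^*𝒜_1 → L is surjective — every point of X has an affine neighbourhood V over which the image of a
single degree-one section of 𝒜 generates L — P = Proj(𝒜) → Y with its charts, and r = r_{L,ψ} : U(ψ)
→ P the induced morphism on its open of definition U(ψ) ⊆ PL. If r is an immersion, then L is very
ample relative to f (isomorphic to the inverse image of O(1) along a Y-immersion into the projective
bundle of a quasi-coherent O_Y-module). -/
theorem result {X Y P PL : Scheme.{u}} (f : X ⟶ Y) [QuasiCompact f]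
    (L : X.Modules) (hL : PicF.IsInvertible L) (hLq : Coh.IsQCoh L)
    (𝒮L : RelProj.QCGrAlg X) (jL : L ⟶ 𝒮L.toModule) (hjL : RelProj.IsGrSymAlg L 𝒮L jL)
    (pL : PL ⟶ X) (chartL : ∀ (U : X.Opens) (hU : IsAffineOpen U), (((pL ⁻¹ᵁ U : PL.Opens) : Scheme.{u}) ≅ Proj (𝒮L.deg U hU)))
    (hPL : RelProj.IsRelProj 𝒮L pL chartL)
    (𝒜 : RelProj.QCGrAlg Y) (h1 : 𝒜.IsGenDegOne)
    (h0 : ∀ (U : Y.Opens) (hU : IsAffineOpen U),
      ((𝒜.deg U hU 0 : AddSubgroup (𝒜.presheaf.obj (op U))) : Set (𝒜.presheaf.obj (op U))) = Set.range (𝒜.str.app (op U)).hom)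
    (u : RelProj.QGrHom f 𝒜 𝒮L)
    (hsurj : ∀ x : X, ∃ (U : Y.Opens) (hU : IsAffineOpen U) (e : 𝒜.presheaf.obj (op U)) (_ : e ∈ 𝒜.deg U hU 1)
        (V : X.Opens) (hV : IsAffineOpen V) (hVU : V ≤ f ⁻¹ᵁ U), x ∈ V ∧
          ((𝒮L.deg V hV 1 : AddSubgroup (𝒮L.presheaf.obj (op V))) : Set (𝒮L.presheaf.obj (op V))) ⊆
            (Ideal.span {(u.appLE U V hVU).hom e} : Set (𝒮L.presheaf.obj (op V))))
    (p : P ⟶ Y) (chart : ∀ (U : Y.Opens) (hU : IsAffineOpen U), (((p ⁻¹ᵁ U : P.Opens) : Scheme.{u}) ≅ Proj (𝒜.deg U hU)))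
    (hP : RelProj.IsRelProj 𝒜 p chart)
    (r : ((RelProj.domQ u pL chartL : PL.Opens) : Scheme.{u}) ⟶ P)
    (hr : RelProj.IsProjQMapOn u p chart pL chartL (RelProj.domQ u pL chartL) r)
    (himm : IsImmersion r) :
    RelProj.IsRelVeryAmple f L := by
  haveI := hLq
  let E := EGA2SymLib.degPart 𝒜 1
  haveI hE : Coh.IsQCoh E := EGA2SymLib.isQCoh_degPart 𝒜 1
  obtain ⟨𝒯, k, hk⟩ := EGA2SymLib.exists_isGrSymAlg E
  obtain ⟨π, hπ, -⟩ := hk.1 𝒜.toQCAlg (EGA2SymLib.degIncl 𝒜 1)
  have hπj : ∀ (U : Y.Opens) (x : Γ(E, U)), (π.hom.app (op U)).hom (EGA2SymLib.jS k U x) = (EGA2SymLib.degIncl 𝒜 1).app U x :=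
    fun U x => congr($(hπ).app U x)
  have hπg : RelProj.IsGradedHom π := by
    intro U hU d x hx
    refine EGA2SymLib.map_mem_of_gen (π.hom.app (op U)).hom (SymGenLib.isGenDegOne hk U hU) (fun y hy => ?_) (fun y hy => ?_) hx
    · obtain ⟨r, rfl⟩ := EGA2SymLib.exists_of_mem_zero hk hU hy
      rw [show (π.hom.app (op U)).hom ((𝒯.str.app (op U)).hom r) = (𝒜.str.app (op U)).hom r from
        congr($(NatTrans.congr_app π.comm (op U)) r)]
      exact 𝒜.str_mem U hU r
    · obtain ⟨x, rfl⟩ := EGA2SymLib.exists_of_mem_one hk U hU hy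
      rw [hπj]
      exact EGA2SymLib.degIncl_mem 𝒜 1 hU x
  let w := RelProj.QGrHom.ofHom π hπg
  have hpos : ∀ (U : Y.Opens) (hU : IsAffineOpen U),
      EGA2SymLib.PosSurj (w.gradedAt U hU U hU (le_refl U)) := fun U hU =>
    EGA2SymLib.posSurj_of_gen _ (h1 U hU) fun b hb => by
      obtain ⟨x, rfl⟩ := EGA2SymLib.exists_degIncl_eq 𝒜 1 hU hb
      exact ⟨_, hk.2 U hU x, (EGA2SymLib.gradedAt_ofHom hπg U hU _).trans (hπj U x)⟩
  let u' : RelProj.QGrHom f 𝒯 𝒮L :=
    { app := fun U => π.hom.app (op U) ≫ u.app U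
      naturality := fun {U V} i => by
        rw [Category.assoc, u.naturality, ← Category.assoc, ← Category.assoc, π.hom.naturality]
      str_app := fun U => by
        rw [← Category.assoc, ← NatTrans.comp_app, π.comm, u.str_app]
      map_mem := fun U hU U' hU' hle {d x} hx => u.map_mem U hU U' hU' hle (hπg U hU d x hx) }
  have hu' : ∀ U : Y.Opens, u'.app U = π.hom.app (op U) ≫ u.app U := fun U => rfl
  obtain ⟨Q, pQ, chartQ, hQ⟩ := MiscFlat6.exists_relProj 𝒯
  obtain ⟨r', hr', -⟩ := RelConeLib.existsUnique_isProjQMapOn u' hQ hPL (chart := chartQ)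
  obtain ⟨σ, hσ⟩ := EGA2SymLib.exists_sigma hjL hk u'
  have hgen : ∀ x : X, ∃ (U : Y.Opens) (e : Γ(E, U)) (hx : x ∈ f ⁻¹ᵁ U),
      AmpleLib.GenAt L (show Γ(L, f ⁻¹ᵁ U) from σ.app U e) hx := fun x => by
    obtain ⟨U, hU, a, ha, V, hV, hVU, hxV, hs⟩ := hsurj x
    obtain ⟨e, rfl⟩ := EGA2SymLib.exists_degIncl_eq 𝒜 1 hU ha
    refine ⟨U, e, hVU hxV, EGA2SymLib.genAt_of_span hL hjL hσ e hV hVU hxV ?_⟩
    have he : (u'.appLE U V hVU).hom ((k.app U) e) = (u.appLE U V hVU).hom ((EGA2SymLib.degIncl 𝒜 1).app U e) :=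
      congrArg (u.appLE U V hVU).hom (hπj U e)
    rw [he]
    exact hs
  obtain ⟨htop', hsec, -⟩ := EGA2SymLib.domQ_eq_top_and_isImmersion_iff hL hjL hPL hk hσ hgen hQ r' hr'
  obtain ⟨l, ρ, Φ, hl, hΦ, hρ, e⟩ := EGA2SymLib.exists_factor hπg hu' hP hQ hPL hr hr'
  obtain ⟨htopw, hclosed⟩ := EGA2SymLib.projQMap_of_local hπg @IsClosedImmersion hQ hP
    (fun U hU => EGA2SymLib.tn_domOpen_eq_top _ 1 fun k hk b hb =>
      let ⟨a, ha, hab⟩ := hpos U hU k hk b hb; ⟨a, ha, hab⟩)
    (fun U hU => EGA2SymLib.dMap_squares _ _ fun i => IsClosedImmersion.spec_of_surjective _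
      (EGA2SymLib.tn_awayMap_surjective _ 1 (fun k hk b hb =>
        let ⟨a, ha, hab⟩ := hpos U hU k hk b hb; ⟨a, ha, hab⟩) i))
  haveI hι : IsIso (RelProj.domQ w p chart).ι := by
    rw [htopw]
    exact (Scheme.topIso P).isIso_hom
  haveI : IsClosedImmersion Φ := by
    have hh := hclosed (inv (RelProj.domQ w p chart).ι ≫ Φ) ⟨htopw, fun U hU U' hU' hle d hd g hg => by
      refine Eq.trans ?_ (hΦ U hU U' hU' hle d hd g hg
        (RelProj.range_awayEmb_subset_domQ w p chart U hU U' hU' hle hd g hg))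
      rw [← Category.assoc]
      refine congrArg (· ≫ Φ) ?_
      rw [IsIso.comp_inv_eq, IsOpenImmersion.lift_fac]⟩
    rw [← IsIso.hom_inv_id_assoc (RelProj.domQ w p chart).ι Φ]
    infer_instance
  haveI : IsIso l := by
    haveI : IsOpenImmersion (l ≫ (RelProj.domQ u pL chartL).ι) := by rw [hl]; infer_instance
    haveI : IsOpenImmersion l := IsOpenImmersion.of_comp l (RelProj.domQ u pL chartL).ι
    haveI : Epi l.base := by
      rw [TopCat.epi_iff_surjective]
      intro x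
      refine ⟨⟨x.1, htop' ▸ trivial⟩, (RelProj.domQ u pL chartL).ι.isOpenEmbedding.injective ?_⟩
      rw [← Scheme.Hom.comp_apply, hl]
      rfl
    exact IsOpenImmersion.isIso l
  haveI := himm
  haveI : IsImmersion (l ≫ r) := inferInstance
  haveI : IsImmersion (ρ ≫ (RelProj.domQ w p chart).ι) := hρ ▸ inferInstance
  haveI : IsImmersion ρ := IsImmersion.of_comp ρ (RelProj.domQ w p chart).ι
  haveI himm' : IsImmersion r' := by rw [e]; infer_instance
  refine EGA2SymLib.isRelVeryAmple_of_secAtS (σ := σ) hL fun x => ?_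
  obtain ⟨U, hU, hxU, -⟩ := exists_isAffineOpen_mem_and_subset (X := Y) (x := f x) (U := ⊤) trivial
  exact ⟨U, hU, hsec himm' U hU x hxU⟩

end Groth.Agent.S12691
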