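import Groth.Statements.S12708
import Groth.Agent.ArtLib.SmallExt

set_option autoImplicit false
universe u v
open CategoryTheory
open ArtFun

namespace Groth.Agent.S12708

/-- For Λ Noetherian with a finite map to a field k, A a local Λ-algebra whose residue field is k
(through a surjective Λ-algebra map A → k) and M an A-module, the length of M over Λ equals the
degree of k over the image of Λ times the length of M over A. The degree is written as the length of
k as a Λ-module, which is the same number; lengths are in ℕ∞. -/
theorem result {Λ : Type u} {k : Type u} [CommRing Λ] [Field k] [Algebra Λ k]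
    [IsNoetherianRing Λ] [Module.Finite Λ k]
    (A : Type u) [CommRing A] [Algebra Λ A] [IsLocalRing A] [Algebra A k] [IsScalarTower Λ A k]
    (hres : Function.Surjective (algebraMap A k))
    (M : Type v) [AddCommGroup M] [Module A M] [Module Λ M] [IsScalarTower Λ A M] :
    Module.length Λ k * Module.length A M = Module.length Λ M := by
  have hker : RingHom.ker (algebraMap A k) = IsLocalRing.maximalIdeal A :=
    IsLocalRing.eq_maximalIdeal (RingHom.ker_isMaximal_of_surjective _ hres)
  have hk : Module.length Λ k = Module.length Λ (A ⧸ IsLocalRing.maximalIdeal A) := by
    rw [← hker]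
    exact (Ideal.quotientKerAlgEquivOfSurjective (f := IsScalarTower.toAlgHom Λ A k) hres).toLinearEquiv.length_eq.symm
  have hfin : ∀ {M : Type v} [AddCommGroup M] [Module A M], IsFiniteLength A M →
      ∀ [Module Λ M] [IsScalarTower Λ A M],
        Module.length Λ k * Module.length A M = Module.length Λ M := by
    intro M _ _ h
    induction h with
    | of_subsingleton => intros; simp [Module.length_eq_zero]
    | @of_simple_quotient M _ _ N _ _ ih =>
      intros
      obtain ⟨I, hI, ⟨e⟩⟩ := (isSimpleModule_iff_quot_maximal (R := A) (M := M ⧸ N)).1 inferInstance
      obtain rfl := IsLocalRing.eq_maximalIdeal hI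
      rw [Module.length_eq_add_of_exact (R := A) N.subtype N.mkQ N.subtype_injective
          N.mkQ_surjective (LinearMap.exact_subtype_mkQ N), Module.length_eq_one A (M ⧸ N),
        mul_add, mul_one, ih,
        Module.length_eq_add_of_exact (R := Λ) (N.subtype.restrictScalars Λ) (N.mkQ.restrictScalars Λ)
          N.subtype_injective N.mkQ_surjective (LinearMap.exact_subtype_mkQ N),
        hk, (e.restrictScalars Λ).length_eq]
  by_cases h : IsFiniteLength A M
  · exact hfin h
  · rw [← Module.length_ne_top_iff, ne_eq, not_not] at h
    have h' : Module.length A M ≤ Module.length Λ M := by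
      rw [← Module.length_top (R := A) (M := M), ← Module.length_top (R := Λ) (M := M)]
      exact Submodule.length_le_length_restrictScalars Λ ⊤
    rw [h, top_le_iff] at h'
    rw [h, h', ENat.mul_top]
    exact (Module.length_pos (R := Λ) (M := k)).ne'

end Groth.Agent.S12708
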