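import Groth.Statements.S1271
import Mathlib
import Groth.Agent.FittSplitLib.Basic
-- import your own Groth.Agent.* helpers here

set_option autoImplicit false
universe u
open FlatMor

namespace Groth.Agent.S1271

/-- Let A → B be an étale ring map, a ∈ A a nonzerodivisor and J a finitely generated ideal of B with
V(J) ⊆ V(aB), i.e. a lies in the radical of J. Then for every prime q of B there exist a finitely
generated ideal I of A with V(I) ⊆ V(a), an element g of B outside q, and a finitely generated ideal
J' of the localization B_g such that the extension of I to B_g equals the product of the extension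
of J with J'. -/
theorem result {A B : Type u} [CommRing A] [CommRing B] [Algebra A B] [Algebra.Etale A B]
    (a : A) (ha : a ∈ nonZeroDivisors A) (J : Ideal B) (hJ : J.FG) (hJa : algebraMap A B a ∈ J.radical)
    (q : Ideal B) [q.IsPrime] :
    ∃ (I : Ideal A) (g : B) (J' : Ideal (Localization.Away g)), I.FG ∧ a ∈ I.radical ∧ g ∉ q ∧ J'.FG ∧
      I.map (algebraMap A (Localization.Away g)) = J.map (algebraMap B (Localization.Away g)) * J' := by
  classical
  haveI : Algebra.IsEtaleAt A q := Algebra.FormallyEtale.comp A B (Localization.AtPrime q)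
  obtain ⟨g, hg, hst⟩ := Algebra.IsEtaleAt.exists_isStandardEtale (R := A) q
  haveI := hst
  obtain ⟨P⟩ := Algebra.IsStandardEtale.nonempty_standardEtalePresentation (R := A) (S := Localization.Away g)
  let S := Localization.Away g
  let C := AdjoinRoot P.P.f
  let h : C := AdjoinRoot.mk P.P.f P.P.g
  let e : S ≃ₐ[A] Localization.Away h := P.equivRing.trans P.P.equivAwayAdjoinRoot
  letI algCS : Algebra C S :=
    ((e.symm.toAlgHom).comp (IsScalarTower.toAlgHom A C (Localization.Away h))).toRingHom.toAlgebra
  haveI : IsScalarTower A C S := IsScalarTower.of_algebraMap_eq fun a =>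
    ((((e.symm.toAlgHom).comp (IsScalarTower.toAlgHom A C (Localization.Away h)))).commutes a).symm
  let e' : Localization.Away h ≃ₐ[C] S := AlgEquiv.ofRingEquiv (f := e.symm.toRingEquiv) (fun c => rfl)
  haveI : IsLocalization.Away h S := IsLocalization.isLocalization_of_algEquiv (Submonoid.powers h) e'
  haveI : Module.Finite A C := P.P.monic_f.finite_adjoinRoot
  haveI : Module.Free A C := P.P.monic_f.free_adjoinRoot
  obtain ⟨T, hT⟩ := hJ
  obtain ⟨n, hn⟩ := hJa
  have hsurj : ∀ t : B, ∃ (c : C) (k : ℕ), algebraMap C S c = algebraMap B S t * algebraMap C S h ^ k := by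
    intro t
    obtain ⟨⟨c, _, k, rfl⟩, hc⟩ := IsLocalization.surj (Submonoid.powers h) (algebraMap B S t)
    exact ⟨c, k, by rw [← map_pow]; exact hc.symm⟩
  choose num k hnum using hsurj
  let J0 : Ideal C := Ideal.span (insert (algebraMap A C (a ^ n)) (num '' (T : Set B)))
  have hJ0 : J0.FG := ⟨insert (algebraMap A C (a ^ n)) (T.image num), by simp [J0]⟩
  have hu : IsUnit (algebraMap C S h) := IsLocalization.Away.algebraMap_isUnit h
  have hmap : J0.map (algebraMap C S) = J.map (algebraMap B S) := by
    apply le_antisymm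
    · rw [Ideal.map_span, Ideal.span_le]
      rintro _ ⟨c, hc, rfl⟩
      rcases hc with rfl | ⟨t, ht, rfl⟩
      · rw [← IsScalarTower.algebraMap_apply, IsScalarTower.algebraMap_apply A B S, map_pow]
        exact Ideal.mem_map_of_mem _ hn
      · rw [hnum]
        exact Ideal.mul_mem_right _ _ (Ideal.mem_map_of_mem _ (hT ▸ Submodule.subset_span ht))
    · rw [← hT, Ideal.map_span, Ideal.span_le]
      rintro _ ⟨t, ht, rfl⟩
      have : algebraMap C S (num t) ∈ J0.map (algebraMap C S) :=
        Ideal.mem_map_of_mem _ (Ideal.subset_span (Or.inr ⟨t, ht, rfl⟩))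
      rw [hnum] at this
      exact (Ideal.mul_unit_mem_iff_mem _ (hu.pow _)).mp this
  obtain ⟨J', hJ', hfg⟩ := FittSplitLib.fitting_split (A := A) (C := C) (B := S) h J0
  refine ⟨FlatCA.fittingZero A (C ⧸ J0), g, J', (hfg hJ0).1, ?_, hg, (hfg hJ0).2, by rw [hJ', hmap]⟩
  let b := Module.Free.chooseBasis A C
  let ix := (Fintype.equivFin (Module.Free.ChooseBasisIndex A C)).symm
  let d := Fintype.card (Module.Free.ChooseBasisIndex A C)
  refine ⟨n * d, Ideal.subset_span ⟨d, fun i => Ideal.Quotient.mk J0 (b (ix i)),
    Matrix.diagonal (fun _ => a ^ n), ?_, ?_, ?_⟩⟩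
  · have : Set.range (fun i => Ideal.Quotient.mk J0 (b (ix i))) =
        (Ideal.Quotient.mkₐ A J0).toLinearMap '' Set.range b := by
      rw [← Set.range_comp, ← ix.surjective.range_comp]
      rfl
    rw [this, Submodule.span_image, b.span_eq, Submodule.map_top, LinearMap.range_eq_top]
    exact Ideal.Quotient.mk_surjective
  · intro i
    simp only [Matrix.diagonal_apply, ite_smul, zero_smul, Finset.sum_ite_eq, Finset.mem_univ, if_true]
    rw [← Ideal.Quotient.mkₐ_eq_mk A, ← map_smul, Ideal.Quotient.mkₐ_eq_mk, Ideal.Quotient.eq_zero_iff_mem,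
      Algebra.smul_def]
    exact Ideal.mul_mem_right _ _ (Ideal.subset_span (Or.inl rfl))
  · rw [Matrix.det_diagonal, Finset.prod_const, Finset.card_univ, Fintype.card_fin, pow_mul]

end Groth.Agent.S1271
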