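import Groth.Statements.S12711
import Groth.Agent.ArtLib.SmallExt

set_option autoImplicit false
universe u v
open CategoryTheory
open ArtFun ArtFun.Art

namespace Groth.Agent.S12711

/-- If B together with p₁ : B → A₁ and p₂ : B → A₂ is the fibre product A₁ ×_A A₂ in the category of
Artinian local Λ-algebras with residue field k, and f₂ : A₂ → A is a small extension, then the
projection p₁ : B → A₁ is a small extension. -/
theorem result {Λ : Type u} {k : Type u} [CommRing Λ] [Field k] [Algebra Λ k]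
    [IsNoetherianRing Λ] [Module.Finite Λ k]
    {B A A₁ A₂ : ArtFun.Art Λ k} {p₁ : B ⟶ A₁} {p₂ : B ⟶ A₂} {f₁ : A₁ ⟶ A} {f₂ : A₂ ⟶ A}
    (h : ArtFun.Art.IsFibreProd p₁ p₂ f₁ f₂) (hf₂ : ArtFun.Art.IsSmallExt f₂) :
    ArtFun.Art.IsSmallExt p₁ := by
  obtain ⟨hsurj, hne, ⟨⟨t, ht⟩⟩, hm⟩ := hf₂
  have htker : t ∈ RingHom.ker f₂.toAlgHom := ht ▸ Ideal.mem_span_singleton_self t
  have ht0 : f₂ t = 0 := htker
  obtain ⟨b, hb₁, hb₂⟩ := h.surj 0 t (by rw [map_zero, ht0])
  have hker : RingHom.ker p₁.toAlgHom = Ideal.span {b} := by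
    refine le_antisymm (fun x hx => ?_) ((Ideal.span_singleton_le_iff_mem _).2 hb₁)
    have hx0 : p₁ x = 0 := hx
    have : p₂ x ∈ RingHom.ker f₂.toAlgHom := by
      change f₂ (p₂ x) = 0
      rw [← h.w_apply, hx0, map_zero]
    obtain ⟨c, hc⟩ := Ideal.mem_span_singleton.1 (ht ▸ this)
    obtain ⟨e, he⟩ : ∃ e : B, A₂.res c = B.res e := by
      obtain ⟨e, he⟩ := B.res_surjective (A₂.res c)
      exact ⟨e, he.symm⟩
    refine Ideal.mem_span_singleton.2 ⟨e, h.inj _ _ ?_ ?_⟩
    · rw [hx0, map_mul, hb₁, zero_mul]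
    · have hmem : p₂ e - c ∈ IsLocalRing.maximalIdeal A₂ := by
        rw [Art.mem_maximalIdeal_iff, map_sub, Art.res_app, he, sub_self]
      have h0 : (p₂ e - c) * t = 0 := by
        have := Ideal.mul_mem_mul hmem htker
        rw [hm] at this
        exact this
      rw [map_mul, hb₂, hc]
      linear_combination -h0
  refine ⟨ArtLib.fp_fst_surjective h hsurj, ?_, ⟨⟨b, hker⟩⟩, ?_⟩
  · rw [hker]
    intro hb0
    have hb : b = 0 := Ideal.span_singleton_eq_bot.1 hb0
    refine hne (ht.trans (Ideal.span_singleton_eq_bot.2 ?_))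
    rw [← hb₂, hb, map_zero]
  · rw [hker, eq_bot_iff, Ideal.mul_le]
    intro x hx y hy
    obtain ⟨c, rfl⟩ := Ideal.mem_span_singleton.1 hy
    rw [Ideal.mem_bot]
    refine h.inj _ _ (by rw [map_mul, map_mul, hb₁, zero_mul, mul_zero, map_zero]) ?_
    have hxm : p₂ x ∈ IsLocalRing.maximalIdeal A₂ := by
      rw [Art.mem_maximalIdeal_iff, Art.res_app]
      exact (Art.mem_maximalIdeal_iff _ _).1 hx
    have h0 : p₂ x * t = 0 := by
      have := Ideal.mul_mem_mul hxm htker
      rw [hm] at this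
      exact this
    rw [map_mul, map_mul, hb₂, map_zero, ← mul_assoc, h0, zero_mul]

end Groth.Agent.S12711
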