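import Groth.Statements.S12712
import Groth.Agent.ArtLib.SmallExt

set_option autoImplicit false
universe u v
open CategoryTheory
open ArtFun ArtFun.Art

namespace Groth.Agent.S12712

/-- If k is separable over the image of Λ → k, then for any two morphisms f₁ : A₁ → A and f₂ : A₂ → A in
the category of Artinian local Λ-algebras with residue field k the set-theoretic fibre product A₁
×_A A₂ is again an object of the category. -/
theorem result {Λ : Type u} {k : Type u} [CommRing Λ] [Field k] [Algebra Λ k]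
    [IsNoetherianRing Λ] [Module.Finite Λ k]
    [Algebra.IsSeparable (↥(algebraMap Λ k).range) k]
    {A A₁ A₂ : ArtFun.Art Λ k} (f₁ : A₁ ⟶ A) (f₂ : A₂ ⟶ A) :
    ∃ (B : ArtFun.Art Λ k) (p₁ : B ⟶ A₁) (p₂ : B ⟶ A₂), ArtFun.Art.IsFibreProd p₁ p₂ f₁ f₂ := by
  refine ArtLib.exists_fp_of_res f₁ f₂ fun α => ?_
  obtain ⟨q, hq⟩ := Polynomial.map_surjective (algebraMap Λ k).rangeRestrict
    (RingHom.rangeRestrict_surjective _) (minpoly (↥(algebraMap Λ k).range) α)
  have hev : ∀ p : Polynomial Λ, Polynomial.aeval α (p.map (algebraMap Λ k).rangeRestrict) =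
      Polynomial.aeval α p := fun p => by
    simp only [Polynomial.aeval_def, Polynomial.eval₂_map]
    rfl
  have hq0 : Polynomial.aeval α q = 0 := by rw [← hev, hq, minpoly.aeval]
  have hq1 : Polynomial.aeval α q.derivative ≠ 0 := by
    rw [← hev, ← Polynomial.derivative_map, hq]
    intro h0
    obtain ⟨a, b, hab⟩ := Algebra.IsSeparable.isSeparable (↥(algebraMap Λ k).range) α
    have := congrArg (Polynomial.aeval α) hab
    rw [map_add, map_mul, map_mul, minpoly.aeval, h0, mul_zero, mul_zero, add_zero, map_one] at this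
    exact zero_ne_one this
  have key : ∀ (C : ArtFun.Art Λ k) (a : C), C.res a = α →
      ∃! r, IsNilpotent (a - r) ∧ Polynomial.aeval r q = 0 := fun C a ha =>
    Polynomial.existsUnique_nilpotent_sub_and_aeval_eq_zero
      (ArtLib.isNilpotent_of_res_eq_zero C
        (by rw [← Polynomial.aeval_algHom_apply, ha, hq0]))
      ((ArtLib.isUnit_iff_res_ne_zero C _).2 (by rw [← Polynomial.aeval_algHom_apply, ha]; exact hq1))
  have root : ∀ (C : ArtFun.Art Λ k), ∃ r : C, C.res r = α ∧ Polynomial.aeval r q = 0 := fun C => by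
    obtain ⟨a, ha⟩ := C.res_surjective α
    obtain ⟨r, ⟨hr₁, hr₂⟩, -⟩ := key C a ha
    refine ⟨r, ?_, hr₂⟩
    have := (hr₁.map C.res).eq_zero
    rw [map_sub, ha, sub_eq_zero] at this
    exact this.symm
  obtain ⟨r₁, hr₁, hr₁'⟩ := root A₁
  obtain ⟨r₂, hr₂, hr₂'⟩ := root A₂
  refine ⟨r₁, r₂, ?_, hr₁⟩
  have hA : A.res (f₁ r₁) = α := by rw [Art.res_app, hr₁]
  obtain ⟨r, -, huniq⟩ := key A (f₁ r₁) hA
  rw [huniq (f₁ r₁) ⟨by rw [sub_self]; exact IsNilpotent.zero,
      by rw [Polynomial.aeval_algHom_apply, hr₁', map_zero]⟩,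
    huniq (f₂ r₂) ⟨ArtLib.isNilpotent_of_res_eq_zero A
      (by rw [map_sub, hA, Art.res_app, hr₂, sub_self]),
      by rw [Polynomial.aeval_algHom_apply, hr₂', map_zero]⟩]

end Groth.Agent.S12712
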