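import Groth.Statements.S12715
import Groth.Agent.ArtLib.CRingHom

set_option autoImplicit false
universe u v
open CategoryTheory
open ArtFun

namespace Groth.Agent.S12715

/-- For Λ Noetherian with a finite map to the field k and S a complete local Noetherian Λ-algebra with
residue field k (through a surjective map S → k over Λ), the space of Λ-derivations S → k is
finite-dimensional over k. -/
theorem result {Λ : Type u} {k : Type u} [CommRing Λ] [Field k] [Algebra Λ k]
    [IsNoetherianRing Λ] [Module.Finite Λ k]
    (S : Type u) [CommRing S] [Algebra Λ S] [IsLocalRing S] [IsNoetherianRing S]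
    [IsAdicComplete (IsLocalRing.maximalIdeal S) S] [Algebra S k] [IsScalarTower Λ S k]
    (hres : Function.Surjective (algebraMap S k)) :
    Module.Finite k (Derivation Λ S k) := by
  classical
  let T : ArtFun.CRing Λ k :=
    { carrier := S, res := IsScalarTower.toAlgHom Λ S k, res_surjective := hres
      isAdicComplete := inferInstance }
  have hs : ArtLib.IsSub T.res (RingHom.ker (T.res : T.carrier →+* k) ^ 2) :=
    ArtLib.isSub_pow two_ne_zero
  have := ArtLib.finite_carrier (ArtLib.pq T.res_surjective hs)
  obtain ⟨N, g, hg⟩ := Module.Finite.exists_fin (R := Λ) (M := ArtLib.pq T.res_surjective hs)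
  choose r hr using fun i => ArtLib.pqMk_surjective T.res_surjective hs (g i)
  let Φ : Derivation Λ S k →ₗ[k] (Fin N → k) :=
    { toFun := fun D i => D (r i), map_add' := fun _ _ => rfl, map_smul' := fun _ _ => rfl }
  refine Module.Finite.of_injective Φ ((injective_iff_map_eq_zero Φ).2 fun D hD => ?_)
  have hkill : ∀ a ∈ RingHom.ker (T.res : T.carrier →+* k) ^ 2, D a = 0 := fun a ha => by
    rw [sq] at ha
    induction ha using Submodule.mul_induction_on' with
    | mem_mul_mem x hx y hy =>
      have hx' : algebraMap S k x = 0 := hx
      have hy' : algebraMap S k y = 0 := hy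
      rw [Derivation.leibniz, ← algebraMap_smul k x, ← algebraMap_smul k y, hx', hy', zero_smul,
        zero_smul, add_zero]
    | add x _ y _ hx hy => rw [map_add, hx, hy, add_zero]
  refine Derivation.ext fun s => ?_
  have hs' : (ArtLib.pqMk T.res_surjective hs).1 s ∈ Submodule.span Λ (Set.range g) :=
    hg ▸ Submodule.mem_top
  obtain ⟨c, hc⟩ := (Submodule.mem_span_range_iff_exists_fun Λ).1 hs'
  have hd : (ArtLib.pqMk T.res_surjective hs).1 (s - ∑ i, c i • r i) = 0 := by
    rw [map_sub, map_sum, ← hc]
    simp_rw [map_smul, hr]
    exact sub_self _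
  have h0 := hkill _ ((ArtLib.pqMk_eq_zero T.res_surjective hs).1 hd)
  rw [map_sub, map_sum, sub_eq_zero] at h0
  rw [h0, Derivation.zero_apply]
  refine Finset.sum_eq_zero fun i _ => ?_
  exact (D.map_smul (c i) (r i)).trans (by rw [show D (r i) = 0 from congrFun hD i]; exact smul_zero _)

end Groth.Agent.S12715
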