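import Groth.Statements.S12716
import Groth.Agent.ArtLib.CRingHom

set_option autoImplicit false
universe u v
open CategoryTheory
open ArtFun

namespace Groth.Agent.S12716

/-- Let f : R → S be a morphism of complete local Noetherian Λ-algebras with residue field k (Λ
Noetherian, Λ → k finite). If the restriction map Der_Λ(S, k) → Der_Λ(R, k) is injective — two
Λ-derivations S → k that agree after composing with f are equal — then f is surjective. -/
theorem result {Λ : Type u} {k : Type u} [CommRing Λ] [Field k] [Algebra Λ k]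
    [IsNoetherianRing Λ] [Module.Finite Λ k]
    (R : ArtFun.CRing Λ k)
    (S : Type u) [CommRing S] [Algebra Λ S] [IsLocalRing S] [IsNoetherianRing S]
    [IsAdicComplete (IsLocalRing.maximalIdeal S) S] [Algebra S k] [IsScalarTower Λ S k]
    (hres : Function.Surjective (algebraMap S k))
    (f : R.carrier →ₐ[Λ] S) (hf : (IsScalarTower.toAlgHom Λ S k).comp f = R.res)
    (hinj : ∀ D₁ D₂ : Derivation Λ S k, (∀ r : R.carrier, D₁ (f r) = D₂ (f r)) → D₁ = D₂) :
    Function.Surjective f := by
  let T : ArtFun.CRing Λ k :=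
    { carrier := S, res := IsScalarTower.toAlgHom Λ S k, res_surjective := hres
      isAdicComplete := inferInstance }
  refine ArtLib.cring_surjective_of_dual (R := R) (S := T) f hf fun ψ ψ' h => ?_
  have hfst : ∀ (χ : ArtFun.HomSet T.carrier T.res (ArtFun.Art.dual Λ k)) (s : S),
      TrivSqZeroExt.fst (χ.1 s) = algebraMap S k s := fun χ s => ArtLib.homSet_res χ s
  have mkD : ∀ χ : ArtFun.HomSet T.carrier T.res (ArtFun.Art.dual Λ k),
      ∃ D : Derivation Λ S k, ∀ s, D s = TrivSqZeroExt.snd (χ.1 s) := fun χ =>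
    ⟨Derivation.mk'
      { toFun := fun s => TrivSqZeroExt.snd (χ.1 s)
        map_add' := fun a b => congrArg TrivSqZeroExt.snd (map_add χ.1 a b)
        map_smul' := fun r a => congrArg TrivSqZeroExt.snd (map_smul χ.1 r a) }
      fun a b => by
        change TrivSqZeroExt.snd (χ.1 (a * b)) =
          a • TrivSqZeroExt.snd (χ.1 b) + b • TrivSqZeroExt.snd (χ.1 a)
        refine (congrArg TrivSqZeroExt.snd (map_mul χ.1 a b)).trans ?_
        change (χ.1 a).fst • (χ.1 b).snd + MulOpposite.op (χ.1 b).fst • (χ.1 a).snd = _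
        rw [op_smul_eq_smul, hfst, hfst, algebraMap_smul, algebraMap_smul], fun _ => rfl⟩
  obtain ⟨D, hD⟩ := mkD ψ
  obtain ⟨D', hD'⟩ := mkD ψ'
  have he : D = D' := hinj D D' fun r => by rw [hD, hD', h r]
  exact ArtLib.homSet_ext fun s => TrivSqZeroExt.ext ((hfst ψ s).trans (hfst ψ' s).symm)
    (by rw [← hD, ← hD', he])

end Groth.Agent.S12716
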