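import Groth.Statements.S12718
import Groth.Agent.ArtLib.Relative

set_option autoImplicit false
universe u v
open CategoryTheory
open ArtFun

namespace Groth.Agent.S12718

/-- Let R → S be a morphism of complete local Noetherian Λ-algebras with residue field k. The induced
morphism h_S → h_R of functors on Artinian local Λ-algebras with residue field k (composition with R
→ S) is smooth if and only if S is isomorphic as an R-algebra to a power series ring R[[X₁, …, Xₙ]]
for some n. Smoothness of h_S → h_R is written as versality of the corresponding family of h_R over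
S. -/
theorem result {Λ : Type u} {k : Type u} [CommRing Λ] [Field k] [Algebra Λ k]
    [IsNoetherianRing Λ] [Module.Finite Λ k]
    (R S : ArtFun.CRing Λ k) [Algebra R.carrier S.carrier] [IsScalarTower Λ R.carrier S.carrier]
    (hRS : S.res.comp (IsScalarTower.toAlgHom Λ R.carrier S.carrier) = R.res) :
    ArtFun.IsVersal ((ArtFun.Family.self R.carrier R.res).along
        (IsScalarTower.toAlgHom Λ R.carrier S.carrier) hRS) ↔
      ∃ n : ℕ, Nonempty (S.carrier ≃ₐ[R.carrier] MvPowerSeries (Fin n) R.carrier) := by
  letI : Algebra R.carrier k := R.res.toRingHom.toAlgebra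
  haveI : IsScalarTower Λ R.carrier k := IsScalarTower.of_algebraMap_eq fun l => (R.res.commutes l).symm
  haveI := R.isAdicComplete
  obtain ⟨S', hc⟩ : ∃ S' : S.carrier →ₐ[R.carrier] k, ∀ s, S' s = S.res s :=
    ⟨{ S.res.toRingHom with commutes' := fun r => AlgHom.congr_fun hRS r }, fun _ => rfl⟩
  have key := ArtLib.smooth_iff_versal (R := R.carrier) S.carrier S.res S' hc hRS
  refine key.trans ?_
  exact ArtLib.smooth_iff_powerSeries (Λ := R.carrier) R.res_surjective
    { carrier := S.carrier, res := S', res_surjective := fun c => by
        obtain ⟨s, hs⟩ := S.res_surjective c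
        exact ⟨s, (hc s).trans hs⟩
      isAdicComplete := S.isAdicComplete }

end Groth.Agent.S12718
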