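import Groth.Statements.S12720
import Groth.Agent.ArtLib.CRingHom

set_option autoImplicit false
universe u v
open CategoryTheory
open ArtFun

namespace Groth.Agent.S12720

/-- For functors, let F be a functor on Artinian local Λ-algebras with residue field k with F(k) a
point, and ξ a versal family of F over a complete local Noetherian R with residue field k. Then
every formal element η of F over a complete local Noetherian S with residue field k is induced from
ξ: there is a morphism g : R → S (over Λ, compatible with the augmentations) such that the family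
obtained from ξ by composing with g has formal element η. -/
theorem result {Λ : Type u} {k : Type u} [CommRing Λ] [Field k] [Algebra Λ k]
    [IsNoetherianRing Λ] [Module.Finite Λ k]
    {F : ArtFun.Art Λ k ⥤ Type v} (h0 : ArtFun.H0 F)
    (R : ArtFun.CRing Λ k) (ξ : ArtFun.Family R.carrier R.res F) (hξ : ArtFun.IsVersal ξ)
    (S : ArtFun.CRing Λ k) (η : ArtFun.FormalElt F S) :
    ∃ (g : R.carrier →ₐ[Λ] S.carrier) (hg : S.res.comp g = R.res), (ξ.along g hg).toFormalElt = η := by
  obtain ⟨u, hu⟩ : ∃ u : ∀ n, { ψ : ArtFun.HomSet R.carrier R.res (S.trunc n) //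
      ξ.app _ ψ = η.elt n }, ∀ n, ArtFun.HomSet.map (S.truncMap n) (u (n + 1)).1 = (u n).1 := by
    have step : ∀ (n : ℕ) (ψ : { ψ : ArtFun.HomSet R.carrier R.res (S.trunc n) // ξ.app _ ψ = η.elt n }),
        ∃ ψ' : { ψ : ArtFun.HomSet R.carrier R.res (S.trunc (n + 1)) // ξ.app _ ψ = η.elt (n + 1) },
          ArtFun.HomSet.map (S.truncMap n) ψ'.1 = ψ.1 := fun n ψ => by
      have hsurj' : Function.Surjective (S.truncMap n) := fun x => by
        obtain ⟨r, rfl⟩ := ArtLib.truncHom_surjective S n x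
        exact ⟨(S.truncHom (n + 1)).1 r, rfl⟩
      obtain ⟨ψ', h₁, h₂⟩ := hξ (S.truncMap n) hsurj' ψ.1 (η.elt (n + 1)) (by rw [η.compat, ψ.2])
      exact ⟨⟨ψ', h₂⟩, h₁⟩
    choose nx hnx using step
    have := h0.2
    obtain ⟨ψ₀, -, hψ₀⟩ := hξ (B := S.trunc 0) (A := ArtFun.Art.base Λ k) (ArtFun.Art.toBase _)
      (ArtLib.toBase_surjective _) ⟨R.res, AlgHom.id_comp _⟩ (η.elt 0) (Subsingleton.elim _ _)
    exact ⟨fun n => Nat.rec (motive := fun n => { ψ : ArtFun.HomSet R.carrier R.res (S.trunc n) //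
      ξ.app _ ψ = η.elt n }) ⟨ψ₀, hψ₀⟩ (fun n ψ => nx n ψ) n, fun n => hnx n _⟩
  obtain ⟨g, hg, hgφ⟩ := ArtLib.exists_hom_of_compatible S (fun n => (u n).1) hu
  refine ⟨g, hg, ArtFun.FormalElt.ext' fun n => ?_⟩
  rw [← (u n).2]
  exact congrArg (ξ.app _) (ArtLib.homSet_ext fun s => hgφ n s)

end Groth.Agent.S12720
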