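import Groth.Statements.S12725
import Groth.Agent.ArtLib.Tangent

set_option autoImplicit false
universe u v
open CategoryTheory
open ArtFun

namespace Groth.Agent.S12725

/-- For functors, if F satisfies (S2) (bijectivity of F(A ×_k k[ε]) → F(A) ×_{F(k)} F(k[ε])), then for
every object E which is a square-zero extension k ⊕ V of k by a finite-dimensional vector space —
equivalently, m_E² = 0 and the augmentation E → k has a section in the category — and every fibre
product square B = A ×_k E, the map F(B) → F(A) ×_{F(k)} F(E) is bijective. -/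
theorem result {Λ : Type u} {k : Type u} [CommRing Λ] [Field k] [Algebra Λ k]
    [IsNoetherianRing Λ] [Module.Finite Λ k]
    {F : ArtFun.Art Λ k ⥤ Type v} (hF : ArtFun.Heps F)
    {E : ArtFun.Art Λ k} (hσ : Nonempty (ArtFun.Art.base Λ k ⟶ E))
    (hE : IsLocalRing.maximalIdeal E ^ 2 = ⊥)
    ⦃B A : ArtFun.Art Λ k⦄ (p' : B ⟶ A) (p'' : B ⟶ E)
    (h : ArtFun.Art.IsFibreProd p' p'' (ArtFun.Art.toBase A) (ArtFun.Art.toBase E)) :
    Function.Bijective (ArtFun.cmp F h) := by
  obtain ⟨σ⟩ := hσ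
  obtain ⟨n, e, he, -⟩ := ArtLib.exists_tz_iso σ hE
  haveI := (ArtLib.isIso_iff_bijective e).2 he
  have h' : ArtFun.Art.IsFibreProd p' (p'' ≫ inv e) (ArtFun.Art.toBase A)
      (ArtFun.Art.toBase (ArtLib.tz Λ k n)) :=
    { w := by rw [Art.eq_toBase (p' ≫ _), Art.eq_toBase ((p'' ≫ inv e) ≫ _)]
      inj := fun b₁ b₂ h₁ h₂ => h.inj b₁ b₂ h₁
        (((ArtLib.isIso_iff_bijective (inv e)).1 inferInstance).1 h₂)
      surj := fun a x hax => by
        obtain ⟨b, hb₁, hb₂⟩ := h.surj a (e x) (hax.trans (Art.res_app e x).symm)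
        refine ⟨b, hb₁, ?_⟩
        rw [Art.comp_apply, hb₂]
        exact ArtLib.hom_congr (IsIso.hom_inv_id e) x }
  have hb := ArtLib.cmp_tz_bijective hF n p' (p'' ≫ inv e) h'
  have hFe := ArtLib.map_bijective_of_isIso F (inv e)
  refine ⟨(ArtLib.cmp_injective_iff F h).2 fun z z' h₁ h₂ => ?_,
    (ArtLib.cmp_surjective_iff F h).2 fun x y hxy => ?_⟩
  · exact (ArtLib.cmp_injective_iff F h').1 hb.1 z z' h₁
      (by rw [ArtLib.map_comp_apply, ArtLib.map_comp_apply, h₂])
  · obtain ⟨z, hz₁, hz₂⟩ := (ArtLib.cmp_surjective_iff F h').1 hb.2 x (F.map (inv e) y)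
      (by rw [hxy, ← ArtLib.map_comp_apply, Art.eq_toBase (inv e ≫ _)])
    exact ⟨z, hz₁, hFe.1 (by rw [← ArtLib.map_comp_apply, hz₂])⟩

end Groth.Agent.S12725
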