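import Groth.Statements.S12729
import Groth.Agent.ArtLib.Hull
-- import your own Groth.Agent.* helpers here

set_option autoImplicit false
universe u v
open CategoryTheory
open ArtFun

namespace Groth.Agent.S12729

/-- For functors, let F satisfy (S1), let p : B → A be a surjection in the category of Artinian local
Λ-algebras with residue field k whose kernel I is annihilated by m_B, and let x ∈ F(A). Then the set
of ideals J ⊆ I for which x lifts to F(B/J) along B/J → A has a least element. -/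
theorem result {Λ : Type u} {k : Type u} [CommRing Λ] [Field k] [Algebra Λ k]
    [IsNoetherianRing Λ] [Module.Finite Λ k]
    {F : ArtFun.Art Λ k ⥤ Type v} (h1 : ArtFun.S1 F)
    {B A : ArtFun.Art Λ k} (p : B ⟶ A) (hp : ArtFun.Art.IsSemismallExt p) (x : F.obj A) :
    ∃ (J₀ : Ideal B) (hJ₀ : J₀ ≤ RingHom.ker p.toAlgHom) (hJ₀' : J₀ ≤ IsLocalRing.maximalIdeal B),
      (∃ y : F.obj (ArtFun.Art.quot B J₀ hJ₀'), F.map (ArtFun.Art.quotFactor hJ₀' p hJ₀) y = x) ∧
      ∀ (J : Ideal B) (hJ : J ≤ RingHom.ker p.toAlgHom) (hJ' : J ≤ IsLocalRing.maximalIdeal B),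
        (∃ y : F.obj (ArtFun.Art.quot B J hJ'), F.map (ArtFun.Art.quotFactor hJ' p hJ) y = x) → J₀ ≤ J := by
  have hM : RingHom.ker (B.res : B →+* k) = IsLocalRing.maximalIdeal B :=
    (ArtLib.maximalIdeal_eq_ker B).symm
  have hsub : ∀ J : Ideal B, J ≤ IsLocalRing.maximalIdeal B → ArtLib.IsSub B.res J := fun J hJ => by
    obtain ⟨n, hn⟩ := ArtLib.isNilpotent_maximalIdeal B
    exact ⟨ArtLib.res_liftable B hJ, n, by rw [hM, hn]; exact bot_le⟩
  let I : Ideal B := RingHom.ker p.toAlgHom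
  have hIm : I ≤ IsLocalRing.maximalIdeal B := ArtLib.ker_le_maximalIdeal p
  have hI := hsub I hIm
  let qb : ArtLib.pq B.res_surjective hI ⟶ A := ArtFun.Art.quotFactor hIm p le_rfl
  have hbij : Function.Bijective qb := ⟨(injective_iff_map_eq_zero qb.toAlgHom).2 fun y hy => by
      obtain ⟨a, rfl⟩ := Ideal.Quotient.mk_surjective y
      exact Ideal.Quotient.eq_zero_iff_mem.2 hy,
    fun a => by
      obtain ⟨b, hb⟩ := hp.1 a
      exact ⟨Ideal.Quotient.mk I b, hb⟩⟩
  obtain ⟨x', hx'⟩ := (ArtLib.map_bijective F qb hbij).2 x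
  have hiff : ∀ (J : Ideal B) (hJ : J ≤ RingHom.ker p.toAlgHom) (hJ' : J ≤ IsLocalRing.maximalIdeal B),
      (∃ y : F.obj (ArtFun.Art.quot B J hJ'), F.map (ArtFun.Art.quotFactor hJ' p hJ) y = x) ↔
        ArtLib.Liftable B.res_surjective hI x' J := by
    intro J hJ hJ'
    have hcomp : ArtLib.pqMap B.res_surjective hI (hsub J hJ') hJ ≫ qb = ArtFun.Art.quotFactor hJ' p hJ :=
      ArtLib.hom_ext' fun y => by
        obtain ⟨a, rfl⟩ := Ideal.Quotient.mk_surjective y
        rfl
    constructor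
    · rintro ⟨y, hy⟩
      refine ⟨hJ, hsub J hJ', y, (ArtLib.map_bijective F qb hbij).1 ?_⟩
      exact ((ArtLib.map_comp_apply F _ qb y).symm.trans
        ((congrArg (fun h => F.map h y) hcomp).trans hy)).trans hx'.symm
    · rintro ⟨hle, hs, y, hy⟩
      refine ⟨y, ?_⟩
      exact (congrArg (fun h => F.map h y) hcomp).symm.trans
        (((ArtLib.map_comp_apply F _ qb y).trans (congrArg (F.map qb) hy)).trans hx')
  have hbot : RingHom.ker (B.res : B →+* k) * I = ⊥ := by rw [hM]; exact hp.2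
  obtain ⟨J₀, -, hl, hmin⟩ := ArtLib.exists_min_liftable B.res_surjective h1 hI x'
  have hle : J₀ ≤ I := hl.1
  refine ⟨J₀, hle, hle.trans hIm, (hiff J₀ hle _).2 hl, fun J hJ hJ' hy => ?_⟩
  exact hmin J (hbot.le.trans bot_le) ((hiff J hJ hJ').1 hy)

end Groth.Agent.S12729
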