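import Groth.Statements.S12735
import Groth.Agent.ArtLib.CRingHom

set_option autoImplicit false
universe u v
open CategoryTheory
open ArtFun

namespace Groth.Agent.S12735

/-- Let U be a prorepresentable functor on Artinian local Λ-algebras with residue field k and φ : U → U
an endomorphism of functors which is bijective on the tangent space U(k[ε]). Then φ is an
isomorphism: every component is bijective. -/
theorem result {Λ : Type u} {k : Type u} [CommRing Λ] [Field k] [Algebra Λ k]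
    [IsNoetherianRing Λ] [Module.Finite Λ k]
    {U : ArtFun.Art Λ k ⥤ Type v} (hU : ArtFun.IsProrepresentable U)
    (φ : U ⟶ U) (hd : Function.Bijective (ArtFun.TangentSpace.map φ)) (A : ArtFun.Art Λ k) :
    Function.Bijective (φ.app A) := by
  obtain ⟨⟨R, ξ, hξ⟩⟩ := hU
  obtain ⟨η, hη⟩ : ∃ η : ArtFun.Family R.carrier R.res (ArtFun.hR R.carrier R.res),
      ∀ A ψ, ξ.app A (η.app A ψ) = φ.app A (ξ.app A ψ) := by
    choose v hv using fun (A : ArtFun.Art Λ k) (ψ : ArtFun.HomSet R.carrier R.res A) =>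
      (hξ A).2 (φ.app A (ξ.app A ψ))
    exact ⟨⟨v, fun f ψ => (hξ _).1 ((hv _ _).trans ((congrArg (φ.app _) (ξ.natural f ψ)).trans
      ((ArtLib.nat_app φ f _).trans ((congrArg (U.map f) (hv _ ψ).symm).trans
        (ξ.natural f (v _ ψ)).symm))))⟩, hv⟩
  obtain ⟨g, hg, hgA⟩ := ArtLib.exists_hom_of_family R η
  have hsurj : Function.Surjective g := ArtLib.cring_surjective_of_dual g hg fun ψ ψ' h => by
    refine (hξ _).1 (hd.1 ?_)
    change φ.app _ (ξ.app _ ψ) = φ.app _ (ξ.app _ ψ')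
    rw [← hη, ← hη, Subtype.ext ((hgA _ ψ).trans ((AlgHom.ext h).trans (hgA _ ψ').symm))]
  let e : R.carrier ≃ₐ[Λ] R.carrier :=
    AlgEquiv.ofBijective g (ArtLib.bijective_of_surjective_endo (g : R.carrier →+* R.carrier) hsurj)
  refine ⟨fun x y h => ?_, fun y => ?_⟩
  · obtain ⟨ψ, rfl⟩ := (hξ A).2 x
    obtain ⟨ψ', rfl⟩ := (hξ A).2 y
    rw [← hη, ← hη] at h
    have h' := congrArg Subtype.val ((hξ A).1 h)
    rw [hgA, hgA] at h'
    refine congrArg (ξ.app A) (ArtLib.homSet_ext fun r => ?_)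
    obtain ⟨r, rfl⟩ := hsurj r
    exact AlgHom.congr_fun h' r
  · obtain ⟨ψ, rfl⟩ := (hξ A).2 y
    have hres : R.res.comp e.symm.toAlgHom = R.res := AlgHom.ext fun r => by
      obtain ⟨r, rfl⟩ := hsurj r
      change R.res (e.symm (e r)) = R.res (g r)
      rw [AlgEquiv.symm_apply_apply]
      exact (AlgHom.congr_fun hg r).symm
    refine ⟨ξ.app A ⟨ψ.1.comp e.symm.toAlgHom, by rw [← AlgHom.comp_assoc, ψ.2, hres]⟩, ?_⟩
    refine (hη _ _).symm.trans ?_
    refine congrArg (ξ.app A) (Subtype.ext ((hgA _ _).trans (AlgHom.ext fun r => ?_)))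
    change ψ.1 (e.symm (e r)) = ψ.1 r
    rw [AlgEquiv.symm_apply_apply]

end Groth.Agent.S12735
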