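import Groth.Statements.S12737
import Groth.Agent.ArtLib.Pairs

set_option autoImplicit false
universe u v
open CategoryTheory
open ArtFun

namespace Groth.Agent.S12737

/-- For Λ Noetherian with a finite map to the field k there is a complete local Noetherian Λ-algebra R
with residue field k whose functor h_R on Artinian local Λ-algebras with residue field k is smooth.
(The published lemma moreover pins the cotangent data of R — the first homology of the naive
cotangent complex of k over Λ equals m_R/m_R² and Ω_{R/Λ} ⊗ k = Ω_{k/Λ}; only the existence of a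
smooth R is stated here.) -/
theorem result {Λ : Type u} {k : Type u} [CommRing Λ] [Field k] [Algebra Λ k]
    [IsNoetherianRing Λ] [Module.Finite Λ k] :
    ∃ R : ArtFun.CRing Λ k, ArtFun.IsSmoothFunctor (ArtFun.hR R.carrier R.res) := by
  classical
  obtain ⟨N, g, hg⟩ := Module.Finite.exists_fin (R := Λ) (M := k)
  obtain ⟨resP, hresP⟩ : ∃ resP : MvPolynomial (ULift.{u} (Fin N)) Λ →ₐ[Λ] k,
      resP = MvPolynomial.aeval fun i => g i.down := ⟨_, rfl⟩
  have hres : Function.Surjective resP := fun a => by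
    have : a ∈ Submodule.span Λ (Set.range g) := hg ▸ Submodule.mem_top
    induction this using Submodule.span_induction with
    | mem y hy =>
      obtain ⟨i, rfl⟩ := hy
      exact ⟨MvPolynomial.X ⟨i⟩, by rw [hresP, MvPolynomial.aeval_X]⟩
    | zero => exact ⟨0, map_zero _⟩
    | add y z _ _ ihy ihz =>
      obtain ⟨a, rfl⟩ := ihy
      obtain ⟨b, rfl⟩ := ihz
      exact ⟨a + b, map_add _ _ _⟩
    | smul r y _ ihy =>
      obtain ⟨a, rfl⟩ := ihy
      exact ⟨r • a, map_smul _ _ _⟩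
  obtain ⟨R, π, hπc, hπs, hlim, hker, -⟩ := ArtLib.exists_limit_ring hres
    (fun q => RingHom.ker (resP : MvPolynomial (ULift.{u} (Fin N)) Λ →+* k) ^ (q + 1))
    (fun q => ArtLib.isSub_pow (Nat.succ_ne_zero q)) (fun q => Ideal.pow_le_pow_right (by omega))
  refine ⟨R, fun B A μ hμ φ => ?_⟩
  obtain ⟨n, hn⟩ := ArtLib.homSet_pow φ
  obtain ⟨q, hq⟩ := hker n
  obtain ⟨f, hf, -⟩ := ArtLib.exists_factor R φ (π q) (hπs q) fun r hr =>
    hn r (by rw [ArtLib.ker_res_eq]; exact hq hr)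
  obtain ⟨ψ, hψ⟩ := ArtLib.hasLift_mvPolynomial resP μ hμ
    (ArtFun.HomSet.map f (ArtLib.pqMk hres (ArtLib.isSub_pow (Nat.succ_ne_zero q))))
  obtain ⟨m, hm⟩ := ArtLib.homSet_pow ψ
  obtain ⟨w, hw⟩ : ∃ w, w = max q m := ⟨_, rfl⟩
  have hle : RingHom.ker (resP : MvPolynomial (ULift.{u} (Fin N)) Λ →+* k) ^ (w + 1) ≤ RingHom.ker (resP : MvPolynomial (ULift.{u} (Fin N)) Λ →+* k) ^ (q + 1) :=
    Ideal.pow_le_pow_right (show q + 1 ≤ w + 1 by omega)
  obtain ⟨g', hg'⟩ : ∃ g' : ArtLib.pq hres (ArtLib.isSub_pow (resP := resP) (Nat.succ_ne_zero w)) ⟶ B,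
      ∀ a, g' ((ArtLib.pqMk hres (ArtLib.isSub_pow (Nat.succ_ne_zero w))).1 a) = ψ.1 a :=
    ⟨ArtLib.pqLift hres (ArtLib.isSub_pow (Nat.succ_ne_zero w)) ψ
      fun p hp => hm p (Ideal.pow_le_pow_right (show m ≤ w + 1 by omega) hp), fun _ => rfl⟩
  refine ⟨ArtFun.HomSet.map g' (π w), ?_⟩
  have hcw : ∀ b, q ≤ b → ∀ (h : RingHom.ker (resP : MvPolynomial (ULift.{u} (Fin N)) Λ →+* k) ^ (b + 1) ≤
      RingHom.ker (resP : MvPolynomial (ULift.{u} (Fin N)) Λ →+* k) ^ (q + 1)), ArtFun.HomSet.map (ArtLib.pqMap hres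
        (ArtLib.isSub_pow (Nat.succ_ne_zero q)) (ArtLib.isSub_pow (Nat.succ_ne_zero b)) h) (π b) = π q := by
    intro b hb
    induction b, hb using Nat.le_induction with
    | base => intro h; rw [ArtLib.pqMap_self]; exact ArtLib.homSet_ext fun _ => rfl
    | succ b hb ih =>
      intro h
      rw [← ArtLib.pqMap_comp hres (ArtLib.isSub_pow (Nat.succ_ne_zero q))
        (ArtLib.isSub_pow (Nat.succ_ne_zero b)) (ArtLib.isSub_pow (Nat.succ_ne_zero (b + 1)))
        (Ideal.pow_le_pow_right (by omega)) (Ideal.pow_le_pow_right (by omega))]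
      rw [← ih (Ideal.pow_le_pow_right (by omega)), ← hπc b]
      rfl
  change ArtFun.HomSet.map μ (ArtFun.HomSet.map g' (π w)) = φ
  rw [← hf, ← hcw w (by omega) hle]
  refine ArtLib.homSet_ext fun r => ?_
  obtain ⟨a, ha⟩ := ArtLib.pqMk_surjective hres (ArtLib.isSub_pow (Nat.succ_ne_zero w)) ((π w).1 r)
  change μ (g' ((π w).1 r)) = f (ArtLib.pqMap hres _ _ hle ((π w).1 r))
  rw [← ha, hg']
  exact AlgHom.congr_fun (congrArg Subtype.val hψ) a

end Groth.Agent.S12737
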