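import Groth.Statements.S12744
import Mathlib


-- import your own Groth.Agent.* helpers here

set_option autoImplicit false
universe u v
open CategoryTheory
open ArtFun

namespace Groth.Agent.S12744

/-- For functors, if η : F → G is a smooth morphism of functors on Artinian local Λ-algebras with
residue field k and F(k) → G(k) is surjective, then for every complete local Noetherian R with
residue field k the induced map on formal elements over R (compatible systems of elements over the
truncations R/m^(n+1)) is surjective. -/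
theorem result {Λ : Type u} {k : Type u} [CommRing Λ] [Field k] [Algebra Λ k]
    [IsNoetherianRing Λ] [Module.Finite Λ k]
    {F G : ArtFun.Art Λ k ⥤ Type v} (η : F ⟶ G) (hη : ArtFun.IsSmooth η)
    (h0 : Function.Surjective (η.app (ArtFun.Art.base Λ k))) (R : ArtFun.CRing Λ k) :
    Function.Surjective (fun u : ArtFun.FormalElt F R => u.map η) := by
  classical
  have hsurj : ∀ A : ArtFun.Art Λ k, Function.Surjective (η.app A) := by
    intro A g
    obtain ⟨a, ha⟩ := h0 (G.map (ArtFun.Art.toBase A) g)
    obtain ⟨z, hz⟩ := hη (ArtFun.Art.toBase A) A.res_surjective ⟨(a, g), ha⟩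
    exact ⟨z, (congrArg (fun w => w.1.2) hz :)⟩
  intro v
  have hstep : ∀ n (z : F.obj (R.trunc n)), η.app _ z = v.elt n →
      ∃ z' : F.obj (R.trunc (n + 1)), F.map (R.truncMap n) z' = z ∧ η.app _ z' = v.elt (n + 1) := by
    intro n z hz
    have hs : Function.Surjective (R.truncMap n) := fun q => by
      obtain ⟨a, rfl⟩ := Ideal.Quotient.mk_surjective q
      exact ⟨Ideal.Quotient.mk _ a, rfl⟩
    obtain ⟨z', hz'⟩ := hη (R.truncMap n) hs ⟨(z, v.elt (n + 1)), hz.trans (v.compat n).symm⟩
    exact ⟨z', (congrArg (fun w => w.1.1) hz' :), (congrArg (fun w => w.1.2) hz' :)⟩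
  choose step hs1 hs2 using hstep
  let u : ∀ n, {z : F.obj (R.trunc n) // η.app _ z = v.elt n} := fun n => Nat.rec ⟨(hsurj _ (v.elt 0)).choose, (hsurj _ (v.elt 0)).choose_spec⟩ (fun n z => ⟨step n z.1 z.2, hs2 n z.1 z.2⟩) n
  refine ⟨⟨fun n => (u n).1, fun n => hs1 n (u n).1 (u n).2⟩, ?_⟩
  exact ArtFun.FormalElt.ext' fun n => (u n).2

end Groth.Agent.S12744
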