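import Groth.Statements.S12746
import Groth.Agent.ArtLib.Easy

set_option autoImplicit false
universe u v
open CategoryTheory
open ArtFun

namespace Groth.Agent.S12746

/-- For functors, if F, G, H are functors on Artinian local Λ-algebras with residue field k satisfying
(RS) and f : H → F, g : G → F are morphisms, then the fibre product functor H ×_F G satisfies (RS). -/
theorem result {Λ : Type u} {k : Type u} [CommRing Λ] [Field k] [Algebra Λ k]
    [IsNoetherianRing Λ] [Module.Finite Λ k]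
    {F G H : ArtFun.Art Λ k ⥤ Type v} (f : H ⟶ F) (g : G ⟶ F)
    (hF : (∀ ⦃B A A' A'' : ArtFun.Art Λ k⦄ (p' : B ⟶ A') (p'' : B ⟶ A'') (f' : A' ⟶ A) (f'' : A'' ⟶ A)
        (h : ArtFun.Art.IsFibreProd p' p'' f' f''), Function.Surjective f'' → Function.Bijective (ArtFun.cmp F h))) (hG : (∀ ⦃B A A' A'' : ArtFun.Art Λ k⦄ (p' : B ⟶ A') (p'' : B ⟶ A'') (f' : A' ⟶ A) (f'' : A'' ⟶ A)
        (h : ArtFun.Art.IsFibreProd p' p'' f' f''), Function.Surjective f'' → Function.Bijective (ArtFun.cmp G h))) (hH : (∀ ⦃B A A' A'' : ArtFun.Art Λ k⦄ (p' : B ⟶ A') (p'' : B ⟶ A'') (f' : A' ⟶ A) (f'' : A'' ⟶ A)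
        (h : ArtFun.Art.IsFibreProd p' p'' f' f''), Function.Surjective f'' → Function.Bijective (ArtFun.cmp H h))) :
    (∀ ⦃B A A' A'' : ArtFun.Art Λ k⦄ (p' : B ⟶ A') (p'' : B ⟶ A'') (f' : A' ⟶ A) (f'' : A'' ⟶ A)
        (h : ArtFun.Art.IsFibreProd p' p'' f' f''), Function.Surjective f'' → Function.Bijective (ArtFun.cmp (CategoryTheory.Limits.pullback f g) h)) := by
  open CategoryTheory CategoryTheory.Limits in
    intro B A A' A'' p' p'' f' f'' h hf
    refine ⟨(ArtLib.cmp_injective_iff _ h).2 fun z z' e₁ e₂ => ?_,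
      (ArtLib.cmp_surjective_iff _ h).2 fun x y e => ?_⟩
    · refine ArtLib.pullback_ext f g B ?_ ?_
      · exact (ArtLib.cmp_injective_iff H h).1 (hH _ _ _ _ h hf).1 _ _
          (by rw [← ArtLib.nat_app, ← ArtLib.nat_app, e₁]) (by rw [← ArtLib.nat_app, ← ArtLib.nat_app, e₂])
      · exact (ArtLib.cmp_injective_iff G h).1 (hG _ _ _ _ h hf).1 _ _
          (by rw [← ArtLib.nat_app, ← ArtLib.nat_app, e₁]) (by rw [← ArtLib.nat_app, ← ArtLib.nat_app, e₂])
    · obtain ⟨u, hu₁, hu₂⟩ := (ArtLib.cmp_surjective_iff H h).1 (hH _ _ _ _ h hf).2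
        ((pullback.fst f g).app A' x) ((pullback.fst f g).app A'' y)
        (by rw [← ArtLib.nat_app, ← ArtLib.nat_app, e])
      obtain ⟨v, hv₁, hv₂⟩ := (ArtLib.cmp_surjective_iff G h).1 (hG _ _ _ _ h hf).2
        ((pullback.snd f g).app A' x) ((pullback.snd f g).app A'' y)
        (by rw [← ArtLib.nat_app, ← ArtLib.nat_app, e])
      have huv : f.app B u = g.app B v := (ArtLib.cmp_injective_iff F h).1 (hF _ _ _ _ h hf).1 _ _
        (by rw [← ArtLib.nat_app, ← ArtLib.nat_app, hu₁, hv₁, ArtLib.pullback_w])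
        (by rw [← ArtLib.nat_app, ← ArtLib.nat_app, hu₂, hv₂, ArtLib.pullback_w])
      obtain ⟨w, hw₁, hw₂⟩ := ArtLib.pullback_exists f g B u v huv
      exact ⟨w, ArtLib.pullback_ext f g A' (by rw [ArtLib.nat_app, hw₁, hu₁]) (by rw [ArtLib.nat_app, hw₂, hv₁]),
        ArtLib.pullback_ext f g A'' (by rw [ArtLib.nat_app, hw₁, hu₂]) (by rw [ArtLib.nat_app, hw₂, hv₂])⟩


end Groth.Agent.S12746
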