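import Groth.Statements.S12747
import Groth.Agent.ArtLib.Easy

set_option autoImplicit false
universe u v
open CategoryTheory
open ArtFun

namespace Groth.Agent.S12747

/-- For functors, let H₁ → G, H₂ → G and q : G → F be morphisms of functors on Artinian local Λ-algebras
with residue field k where F and G are deformation functors (value at k a point, condition (RS)) and
q is injective on tangent spaces. Then the induced morphism H₁ ×_G H₂ → H₁ ×_F H₂ is smooth. (The
published statement also assumes that infinitesimal automorphisms of G map onto those of F; for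
functors that condition is empty.) -/
theorem result {Λ : Type u} {k : Type u} [CommRing Λ] [Field k] [Algebra Λ k]
    [IsNoetherianRing Λ] [Module.Finite Λ k]
    {F G H₁ H₂ : ArtFun.Art Λ k ⥤ Type v} (p₁ : H₁ ⟶ G) (p₂ : H₂ ⟶ G) (q : G ⟶ F)
    (hF0 : ArtFun.H0 F) (hF : (∀ ⦃B A A' A'' : ArtFun.Art Λ k⦄ (p' : B ⟶ A') (p'' : B ⟶ A'') (f' : A' ⟶ A) (f'' : A'' ⟶ A)
        (h : ArtFun.Art.IsFibreProd p' p'' f' f''), Function.Surjective f'' → Function.Bijective (ArtFun.cmp F h)))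
    (hG0 : ArtFun.H0 G) (hG : (∀ ⦃B A A' A'' : ArtFun.Art Λ k⦄ (p' : B ⟶ A') (p'' : B ⟶ A'') (f' : A' ⟶ A) (f'' : A'' ⟶ A)
        (h : ArtFun.Art.IsFibreProd p' p'' f' f''), Function.Surjective f'' → Function.Bijective (ArtFun.cmp G h)))
    (hq : Function.Injective (ArtFun.TangentSpace.map q)) :
    ArtFun.IsSmooth (CategoryTheory.Limits.pullback.map p₁ p₂ (p₁ ≫ q) (p₂ ≫ q) (𝟙 H₁) (𝟙 H₂) q
      (CategoryTheory.Category.id_comp _).symm (CategoryTheory.Category.id_comp _).symm) := by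
  open CategoryTheory CategoryTheory.Limits in
    refine ArtLib.isSmooth_of_smallExt _ fun B A μ hμ => (ArtLib.relCmp_surjective_iff _ μ).2 fun x y e => ?_
    generalize hm : CategoryTheory.Limits.pullback.map p₁ p₂ (p₁ ≫ q) (p₂ ≫ q) (𝟙 H₁) (𝟙 H₂) q
      (CategoryTheory.Category.id_comp _).symm (CategoryTheory.Category.id_comp _).symm = m at e ⊢
    have hm₁ : ∀ (C : ArtFun.Art Λ k) z, (pullback.fst (p₁ ≫ q) (p₂ ≫ q)).app C (m.app C z) =
        (pullback.fst p₁ p₂).app C z := fun C z => by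
      have h1 : m ≫ pullback.fst (p₁ ≫ q) (p₂ ≫ q) = pullback.fst p₁ p₂ := by
        rw [← hm, pullback.lift_fst, Category.comp_id]
      exact ConcreteCategory.congr_hom (NatTrans.congr_app h1 C) z
    have hm₂ : ∀ (C : ArtFun.Art Λ k) z, (pullback.snd (p₁ ≫ q) (p₂ ≫ q)).app C (m.app C z) =
        (pullback.snd p₁ p₂).app C z := fun C z => by
      have h1 : m ≫ pullback.snd (p₁ ≫ q) (p₂ ≫ q) = pullback.snd p₁ p₂ := by
        rw [← hm, pullback.lift_snd, Category.comp_id]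
      exact ConcreteCategory.congr_hom (NatTrans.congr_app h1 C) z
    have e₁ : (pullback.fst p₁ p₂).app A x = H₁.map μ ((pullback.fst (p₁ ≫ q) (p₂ ≫ q)).app B y) := by
      rw [← hm₁, e, ArtLib.nat_app]
    have e₂ : (pullback.snd p₁ p₂).app A x = H₂.map μ ((pullback.snd (p₁ ≫ q) (p₂ ≫ q)).app B y) := by
      rw [← hm₂, e, ArtLib.nat_app]
    have hw : p₁.app B ((pullback.fst (p₁ ≫ q) (p₂ ≫ q)).app B y) =
        p₂.app B ((pullback.snd (p₁ ≫ q) (p₂ ≫ q)).app B y) := by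
      refine ArtLib.inj_step (ArtLib.NatMap.ofNat q) (fun _ _ _ _ _ _ _ _ h hs => (hG _ _ _ _ h hs.1).2)
        (fun _ _ _ _ h => hG _ _ _ _ h (ArtLib.toBase_surjective _))
        (fun _ _ _ _ _ _ h hs => hF _ _ _ _ h hs.1) hq hμ ?_ ?_
      · rw [← ArtLib.nat_app p₁, ← ArtLib.nat_app p₂, ← e₁, ← e₂, ArtLib.pullback_w]
      · exact ArtLib.pullback_w (p₁ ≫ q) (p₂ ≫ q) B y
    obtain ⟨z, hz₁, hz₂⟩ := ArtLib.pullback_exists p₁ p₂ B _ _ hw
    exact ⟨z, ArtLib.pullback_ext p₁ p₂ A (by rw [ArtLib.nat_app, hz₁, e₁]) (by rw [ArtLib.nat_app, hz₂, e₂]),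
      ArtLib.pullback_ext (p₁ ≫ q) (p₂ ≫ q) B ((hm₁ B z).trans hz₁) ((hm₂ B z).trans hz₂)⟩


end Groth.Agent.S12747
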