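import Groth.Statements.S12748
import Groth.Agent.ArtLib.Power

set_option autoImplicit false
universe u v
open CategoryTheory
open ArtFun ArtFun.CRing

namespace Groth.Agent.S12748

/-- Let R' → R be a morphism of complete local Noetherian Λ-algebras with residue field k with an
R'-algebra retraction ρ : R → R', so that R = R' ⊕ I for the ideal I = ker ρ; let x₁, …, x_r ∈ I map
to a basis of I/m_R I and let φ : R'[[X₁, …, X_r]] → R be an R'-algebra map sending X_i to x_i. If
for all large n the induced map R'[[X]]/m^n → R/m_R^n has a left inverse — a Λ-algebra map g_n : R →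
R'[[X]]/m^n with g_n ∘ φ equal to the quotient map — then φ is an isomorphism. -/
theorem result {Λ : Type u} {k : Type u} [CommRing Λ] [Field k] [Algebra Λ k]
    [IsNoetherianRing Λ] [Module.Finite Λ k]
    (R' R : ArtFun.CRing Λ k) [Algebra R'.carrier R.carrier] [IsScalarTower Λ R'.carrier R.carrier]
    (hc : R.res.comp (IsScalarTower.toAlgHom Λ R'.carrier R.carrier) = R'.res)
    (ρ : R.carrier →ₐ[R'.carrier] R'.carrier)
    (r : ℕ) (x : Fin r → R.carrier) (hxI : ∀ i, ρ (x i) = 0)
    (hspan : Ideal.span (Set.range x) ⊔ IsLocalRing.maximalIdeal R.carrier * RingHom.ker ρ = RingHom.ker ρ)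
    (hli : ∀ c : Fin r → R.carrier, (∑ i, c i * x i) ∈ IsLocalRing.maximalIdeal R.carrier * RingHom.ker ρ →
      ∀ i, c i ∈ IsLocalRing.maximalIdeal R.carrier)
    (φ : MvPowerSeries (Fin r) R'.carrier →ₐ[R'.carrier] R.carrier) (hφ : ∀ i, φ (MvPowerSeries.X i) = x i)
    (hinv : ∃ N : ℕ, ∀ n, N ≤ n →
      ∃ g : R.carrier →ₐ[Λ] (MvPowerSeries (Fin r) R'.carrier ⧸
          IsLocalRing.maximalIdeal (MvPowerSeries (Fin r) R'.carrier) ^ n),
        ∀ s, g (φ s) = Ideal.Quotient.mk _ s) :
    Function.Bijective φ := by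
  have := R'.isAdicComplete
  have := R.isAdicComplete
  constructor
  · have : IsAdicComplete (IsLocalRing.maximalIdeal (MvPowerSeries (Fin r) R'.carrier))
        (MvPowerSeries (Fin r) R'.carrier) := ArtLib.isAdicComplete_ps r
    refine (injective_iff_map_eq_zero φ).2 fun s hs => ?_
    obtain ⟨N, hN⟩ := hinv
    refine (IsHausdorff.eq_iff_smodEq
      (I := IsLocalRing.maximalIdeal (MvPowerSeries (Fin r) R'.carrier))).2 fun n => ?_
    rw [SModEq.sub_mem, smul_eq_mul, Ideal.mul_top, sub_zero]
    obtain ⟨g, hg⟩ := hN (N + n) (Nat.le_add_right N n)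
    refine Ideal.pow_le_pow_right (Nat.le_add_left n N) (Ideal.Quotient.eq_zero_iff_mem.1 ?_)
    rw [← hg, hs, map_zero]
  · have hx : RingHom.ker ρ = Ideal.span (Set.range x) := by
      refine le_antisymm ?_ (Ideal.span_le.2 ?_)
      · refine Submodule.le_of_le_smul_of_le_jacobson_bot (IsNoetherian.noetherian _)
          (IsLocalRing.maximalIdeal_le_jacobson _) ?_
        rw [smul_eq_mul]
        exact hspan.ge
      · rintro _ ⟨i, rfl⟩
        exact hxI i
    have hm : Ideal.map (φ : MvPowerSeries (Fin r) R'.carrier →+* R.carrier)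
        (Ideal.span (Set.range MvPowerSeries.X)) = RingHom.ker ρ := by
      rw [hx, Ideal.map_span, ← Set.range_comp]
      exact congrArg Ideal.span (congrArg Set.range (funext hφ))
    have hle : RingHom.ker ρ ≤ IsLocalRing.maximalIdeal R.carrier :=
      IsLocalRing.le_maximalIdeal (fun h => by
        have h1 : (1 : R.carrier) ∈ RingHom.ker ρ := h ▸ trivial
        rw [RingHom.mem_ker, map_one] at h1
        exact one_ne_zero h1)
    refine surjective_of_mk_map_comp_surjective (I := Ideal.span (Set.range MvPowerSeries.X))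
      (φ : MvPowerSeries (Fin r) R'.carrier →+* R.carrier) (haus := ?_) fun y => ?_
    · rw [hm]
      refine ⟨fun s hs => (IsHausdorff.haus (I := IsLocalRing.maximalIdeal R.carrier)
        inferInstance s fun n => ?_)⟩
      exact (hs n).mono (Submodule.smul_mono_left (Ideal.pow_right_mono hle n))
    · obtain ⟨s, rfl⟩ := Ideal.Quotient.mk_surjective y
      refine ⟨algebraMap R'.carrier _ (ρ s), Ideal.Quotient.eq.2 ?_⟩
      rw [hm, RingHom.mem_ker, map_sub, sub_eq_zero]
      exact (congrArg ρ (φ.commutes (ρ s))).trans (ρ.commutes (ρ s))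

end Groth.Agent.S12748
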