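import Groth.Statements.S1275
import Groth.Agent.S1274
import Groth.Agent.RGFlatLib.ExtendGlobal
import Groth.Agent.BlowUpLib.Exists

set_option autoImplicit false
universe u
open FlatMor

namespace Groth.Agent.S1275

open AlgebraicGeometry CategoryTheory Limits in
/-- Let S be a quasi-compact quasi-separated scheme, U ⊆ W ⊆ S quasi-compact opens, f : X → W a proper
morphism and s : U → X a morphism with f ∘ s the inclusion of U in W. Then there are a U-admissible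
blow-up b : S' → S and a morphism s' : b⁻¹(W) → X with f ∘ s' equal to the restriction of b,
extending s in the sense that on b⁻¹(U) it agrees with s composed with the restriction of b. -/
theorem result {X S : Scheme.{u}} [CompactSpace S] [QuasiSeparatedSpace S]
    (U W : S.Opens) (hUW : U ≤ W) (hU : IsCompact (U : Set S)) (hW : IsCompact (W : Set S))
    (f : X ⟶ (W : Scheme.{u})) [IsProper f] (s : (U : Scheme.{u}) ⟶ X) (hs : s ≫ f = S.homOfLE hUW) :
    ∃ (𝓘 : S.IdealSheafData) (S' : Scheme.{u}) (b : S' ⟶ S), BlowUp.IsBlowUp b 𝓘 ∧ BlowUp.IsAdmissibleFor U 𝓘 ∧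
      ∃ s' : ((b ⁻¹ᵁ W : S'.Opens) : Scheme.{u}) ⟶ X, s' ≫ f = b ∣_ W ∧
        S'.homOfLE (show b ⁻¹ᵁ U ≤ b ⁻¹ᵁ W from fun _ hx => hUW hx) ≫ s' = (b ∣_ U) ≫ s := by
  haveI : CompactSpace (W : Scheme.{u}) := isCompact_iff_compactSpace.mp hW
  haveI : QuasiSeparatedSpace (W : Scheme.{u}) := quasiSeparatedSpace_of_quasiSeparated W.ι
  let U' : (W : Scheme.{u}).Opens := W.ι ⁻¹ᵁ U
  have hUr : U' = (S.homOfLE hUW).opensRange := by rw [Scheme.opensRange_homOfLE]
  have hU' : IsCompact (U' : Set (W : Scheme.{u})) := by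
    rw [W.ι.isOpenEmbedding.isCompact_iff]
    rw [show W.ι '' (U' : Set (W : Scheme.{u})) = (U : Set S) from
      Set.ext fun x => ⟨by rintro ⟨y, hy, rfl⟩; exact hy, fun hx => ⟨⟨x, hUW hx⟩, hx, rfl⟩⟩]
    exact hU
  haveI : QuasiCompact (S.homOfLE hUW) := by
    haveI : CompactSpace (U : Scheme.{u}) := isCompact_iff_compactSpace.mp hU
    infer_instance
  haveI : QuasiCompact (s ≫ f) := by rw [hs]; infer_instance
  haveI : QuasiCompact s := QuasiCompact.of_comp s f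
  let f₀ : s.image ⟶ (W : Scheme.{u}) := s.imageι ≫ f
  have hf₀ : s.toImage ≫ f₀ = S.homOfLE hUW := by rw [Scheme.Hom.toImage_imageι_assoc, hs]
  have hiso : IsIso (f₀ ∣_ U') := by
    have hmemU : ∀ w, s.toImage w ∈ f₀ ⁻¹ᵁ U' := fun w => by
      show (f₀ (s.toImage w)).1 ∈ U
      rw [← Scheme.Hom.comp_apply, hf₀]
      exact (congrArg (· ∈ U) (congr($(Scheme.homOfLE_ι S hUW) w))).mpr w.2
    let σ : (U' : Scheme.{u}) ⟶ U := IsOpenImmersion.lift U.ι (U'.ι ≫ W.ι) (by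
      rintro _ ⟨w, rfl⟩
      rw [Scheme.Opens.range_ι]
      exact w.2)
    have hσ : σ ≫ S.homOfLE hUW = U'.ι := by
      rw [← cancel_mono W.ι, Category.assoc, Scheme.homOfLE_ι, IsOpenImmersion.lift_fac]
    let inv : (U' : Scheme.{u}) ⟶ (f₀ ⁻¹ᵁ U' : s.image.Opens) := IsOpenImmersion.lift (f₀ ⁻¹ᵁ U').ι (σ ≫ s.toImage) (by
      rintro _ ⟨w, rfl⟩
      rw [Scheme.Opens.range_ι]
      exact hmemU _)
    have hinv : inv ≫ (f₀ ⁻¹ᵁ U').ι = σ ≫ s.toImage := IsOpenImmersion.lift_fac _ _ _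
    refine ⟨inv, ?_, ?_⟩
    · rw [← cancel_mono (f₀ ⁻¹ᵁ U').ι, ← cancel_mono s.imageι, Category.id_comp]
      simp only [Category.assoc, reassoc_of% hinv, Scheme.Hom.toImage_imageι]
      haveI : IsSchemeTheoreticallyDominant s.toImage := ModPairLib.isDominant_toImage
      haveI : IsSchemeTheoreticallyDominant (s.toImage ∣_ (f₀ ⁻¹ᵁ U')) :=
        IsSchemeTheoreticallyDominant.of_isPullback (isPullback_morphismRestrict s.toImage (f₀ ⁻¹ᵁ U')).flip
      refine ModPairLib.ext_of_dominant f (s.toImage ∣_ (f₀ ⁻¹ᵁ U')) ?_ ?_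
      · simp only [Category.assoc, hs, hσ]
        exact morphismRestrict_ι f₀ U'
      · have e : (s.toImage ∣_ (f₀ ⁻¹ᵁ U')) ≫ (f₀ ∣_ U') ≫ σ = (s.toImage ⁻¹ᵁ f₀ ⁻¹ᵁ U').ι := by
          rw [← cancel_mono (S.homOfLE hUW)]
          simp only [Category.assoc, hσ, morphismRestrict_ι, morphismRestrict_ι_assoc, hf₀]
        rw [morphismRestrict_ι_assoc, Scheme.Hom.toImage_imageι, reassoc_of% e]
    · rw [← cancel_mono U'.ι, Category.assoc, morphismRestrict_ι, reassoc_of% hinv, hf₀, hσ, Category.id_comp]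
  obtain ⟨𝓘W, W', bW, hbW, hadmW, h, hh⟩ := Groth.Agent.S1274.result f₀ U' hU'
  obtain ⟨𝓙, hadm, heq⟩ := RGFlatLib.exists_extend_ideal_global U hU W hW 𝓘W hadmW.1 hadmW.2
  obtain ⟨S', b, hb⟩ := BlowUpLib.exists_isBlowUp S 𝓙
  have hbr : BlowUp.IsBlowUp (b ∣_ W) 𝓘W := heq ▸ BlowUpLib.isBlowUp_of_isPullback (isPullback_morphismRestrict b W).flip hb
  obtain ⟨e, he, -⟩ := hbW.2 _ (b ∣_ W) hbr.1
  refine ⟨𝓙, S', b, hb, hadm, e ≫ h ≫ s.imageι, ?_, ?_⟩
  · rw [Category.assoc, Category.assoc, hh, he]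
  · have hle : b ⁻¹ᵁ U ≤ b ⁻¹ᵁ W := fun _ hx => hUW hx
    have key : S'.homOfLE hle ≫ (e ≫ h) = (b ∣_ U) ≫ s.toImage := by
      have hw : S'.homOfLE hle ≫ (b ∣_ W) = (b ∣_ U) ≫ S.homOfLE hUW := by
        rw [← cancel_mono W.ι]
        simp only [Category.assoc, morphismRestrict_ι, Scheme.homOfLE_ι, Scheme.homOfLE_ι_assoc]
      refine ModPairLib.eq_of_isIso_restrict (s := f₀) (V := U') ?_ fun w => ?_
      · rw [Category.assoc, Category.assoc, hh, he, hw, Category.assoc, hf₀]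
      · rw [← Scheme.Hom.comp_apply, Category.assoc, Category.assoc, hh, he, hw, Scheme.Hom.comp_apply]
        exact (congrArg (· ∈ U) (congr($(Scheme.homOfLE_ι S hUW) ((b ∣_ U) w)))).mpr ((b ∣_ U) w).2
    rw [← Category.assoc e, ← Category.assoc (S'.homOfLE _) (e ≫ h), key, Category.assoc, Scheme.Hom.toImage_imageι]

end Groth.Agent.S1275
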