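import Groth.Statements.S12753
import Groth.Agent.ArtLib.Essential

set_option autoImplicit false
universe u v
open CategoryTheory
open ArtFun ArtFun.Art

namespace Groth.Agent.S12753

/-- Suppose k is separable over the image of Λ → k. A morphism f : B → A in the category of Artinian
local Λ-algebras with residue field k is an essential surjection (surjective, and any morphism g
into B with g followed by f surjective is surjective) if and only if the map of cotangent spaces
relative to Λ, m_B/(m_Λ B + m_B²) → m_A/(m_Λ A + m_A²), is an isomorphism; surjectivity and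
injectivity are written out in terms of ideals, m_Λ being the kernel of Λ → k. -/
theorem result {Λ : Type u} {k : Type u} [CommRing Λ] [Field k] [Algebra Λ k]
    [IsNoetherianRing Λ] [Module.Finite Λ k]
    [Algebra.IsSeparable (↥(algebraMap Λ k).range) k]
    {A B : ArtFun.Art Λ k} (f : B ⟶ A) :
    (Function.Surjective f ∧ ∀ (C : ArtFun.Art Λ k) (g : C ⟶ B), Function.Surjective (g ≫ f) → Function.Surjective g) ↔
      (Ideal.map (algebraMap Λ A) (RingHom.ker (algebraMap Λ k)) ⊔ Ideal.map f.toAlgHom (IsLocalRing.maximalIdeal B) ⊔ IsLocalRing.maximalIdeal A ^ 2 =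
          IsLocalRing.maximalIdeal A ∧
        ∀ b ∈ IsLocalRing.maximalIdeal B, f b ∈ Ideal.map (algebraMap Λ A) (RingHom.ker (algebraMap Λ k)) ⊔ IsLocalRing.maximalIdeal A ^ 2 →
          b ∈ Ideal.map (algebraMap Λ B) (RingHom.ker (algebraMap Λ k)) ⊔ IsLocalRing.maximalIdeal B ^ 2) := by
  refine (ArtLib.ess_iff_relSq f).trans ⟨fun h => ⟨?_, ?_⟩, fun h => ?_⟩
  · obtain ⟨hs, -⟩ := h
    rw [ArtLib.map_maximalIdeal_of_surjective f hs, sup_right_comm]
    exact sup_eq_right.2 (ArtLib.relSq_le A)
  · intro b _ hb
    obtain ⟨hs, hk⟩ := h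
    have hb' : f b ∈ ArtLib.relSq A := hb
    rw [← ArtLib.relSq_map_of_surjective f hs] at hb'
    obtain ⟨c, hc, hcb⟩ := (Ideal.mem_map_iff_of_surjective _ hs).1 hb'
    have : b - c ∈ RingHom.ker f.toAlgHom := by
      rw [RingHom.mem_ker, map_sub, hcb, sub_self]
    have := add_mem (hk this) hc
    rwa [sub_add_cancel] at this
  · obtain ⟨h1, h2⟩ := h
    have hs : Function.Surjective f := ArtLib.surjective_of_relSq f (by
      refine h1.ge.trans (sup_le (sup_le ?_ le_sup_left) ?_)
      · exact le_sup_left.trans (le_sup_right (b := ArtLib.relSq A))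
      · exact le_sup_right.trans (le_sup_right (b := ArtLib.relSq A)))
    refine ⟨hs, fun b hb => h2 b (ArtLib.ker_le_maximalIdeal f hb) ?_⟩
    rw [RingHom.mem_ker] at hb
    exact (congrArg (· ∈ ArtLib.relSq A) hb).mpr (Submodule.zero_mem _)

end Groth.Agent.S12753
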