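import Groth.Statements.S12754
import Mathlib


-- import your own Groth.Agent.* helpers here

set_option autoImplicit false
universe u
open CategoryTheory
open ArtFun

namespace Groth.Agent.S12754

/-- A K-linear functor L from finite-dimensional K-vector spaces to K-vector spaces (K a field) is
isomorphic to the functor V ↦ L(K) ⊗_K V. (Existence of an isomorphism of functors, which is how the
published statement reads; the natural choice sends x ⊗ v to L(f_v)(x) with f_v : K → V, 1 ↦ v.) -/
theorem result (K : Type u) [Field K]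
    (L : FGModuleCat.{u} K ⥤ ModuleCat.{u} K) [L.Additive] [Functor.Linear K L] :
    Nonempty (L ≅ (ModuleCat.isFG.{u} K).ι ⋙ MonoidalCategory.tensorLeft (L.obj (FGModuleCat.of K K))) := by
  classical
  let k₀ := FGModuleCat.of K K
  let T := (ModuleCat.isFG.{u} K).ι ⋙ MonoidalCategory.tensorLeft (L.obj k₀)
  have hcomp : ∀ {X Y Z : FGModuleCat.{u} K} (f : X ⟶ Y) (g : Y ⟶ Z) (x : L.obj X), (L.map (f ≫ g)).hom x = (L.map g).hom ((L.map f).hom x) :=
    fun f g x => by rw [L.map_comp, ModuleCat.comp_apply]
  let bil : ∀ V : FGModuleCat.{u} K, L.obj k₀ →ₗ[K] V →ₗ[K] L.obj V := fun V =>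
    LinearMap.mk₂ K (fun x v => (L.map (FGModuleCat.ofHom (V := K) (W := V) (LinearMap.toSpanSingleton K V v))).hom x)
      (fun x y v => map_add _ x y) (fun c x v => map_smul _ c x)
      (fun x v w => by
        rw [show FGModuleCat.ofHom (V := K) (W := V) (LinearMap.toSpanSingleton K V (v + w)) = FGModuleCat.ofHom (V := K) (W := V) (LinearMap.toSpanSingleton K V v) + FGModuleCat.ofHom (V := K) (W := V) (LinearMap.toSpanSingleton K V w) by
          rw [LinearMap.toSpanSingleton_add]; rfl, L.map_add]; rfl)
      (fun c x v => by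
        rw [show FGModuleCat.ofHom (V := K) (W := V) (LinearMap.toSpanSingleton K V (c • v)) = c • FGModuleCat.ofHom (V := K) (W := V) (LinearMap.toSpanSingleton K V v) by
          rw [LinearMap.toSpanSingleton_smul]; rfl, L.map_smul]; rfl)
  let e : ∀ V : FGModuleCat.{u} K, TensorProduct K (L.obj k₀) V ≃ₗ[K] L.obj V := fun V =>
    LinearEquiv.ofLinear (TensorProduct.lift (bil V))
      (∑ i, ((TensorProduct.mk K (L.obj k₀) V).flip (Module.finBasis K V i)) ∘ₗ (L.map (FGModuleCat.ofHom (V := V) (W := K) ((Module.finBasis K V).coord i))).hom)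
      (by
        ext y
        simp only [LinearMap.coe_comp, Function.comp_apply, LinearMap.coe_sum, Finset.sum_apply, map_sum, LinearMap.flip_apply, TensorProduct.mk_apply, TensorProduct.lift.tmul, LinearMap.id_apply]
        simp only [bil, LinearMap.mk₂_apply, ← hcomp]
        rw [← LinearMap.sum_apply, ← ModuleCat.hom_sum, ← L.map_sum]
        have hs : (∑ a, FGModuleCat.ofHom (V := V) (W := K) ((Module.finBasis K V).coord a) ≫ FGModuleCat.ofHom (V := K) (W := V) (LinearMap.toSpanSingleton K V (Module.finBasis K V a))) = 𝟙 V := by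
          let F : ((V : Type u) →ₗ[K] (V : Type u)) →+ (V ⟶ V) := AddMonoidHom.mk' (fun f => FGModuleCat.ofHom (V := V) (W := V) f) (fun _ _ => rfl)
          refine (map_sum F (fun a => LinearMap.toSpanSingleton K V (Module.finBasis K V a) ∘ₗ (Module.finBasis K V).coord a) Finset.univ).symm.trans ?_
          rw [show (∑ a, LinearMap.toSpanSingleton K V (Module.finBasis K V a) ∘ₗ (Module.finBasis K V).coord a) = LinearMap.id from LinearMap.ext fun v => by simp [LinearMap.sum_apply, Module.Basis.sum_repr]]
          rfl
        erw [hs, L.map_id]; rfl)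
      (by
        refine TensorProduct.ext' fun x v => ?_
        simp only [LinearMap.coe_comp, Function.comp_apply, LinearMap.coe_sum, Finset.sum_apply, LinearMap.flip_apply, TensorProduct.mk_apply, TensorProduct.lift.tmul, LinearMap.id_apply]
        simp only [bil, LinearMap.mk₂_apply, ← hcomp]
        have hc : ∀ i, FGModuleCat.ofHom (V := K) (W := V) (LinearMap.toSpanSingleton K V v) ≫ FGModuleCat.ofHom (V := V) (W := K) ((Module.finBasis K V).coord i) =
            (Module.finBasis K V).repr v i • 𝟙 k₀ := fun i => by
              ext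
              show ((Module.finBasis K V).coord i) ((1 : K) • v) = (Module.finBasis K V).repr v i • (1 : K)
              simp
        simp only [hc, L.map_smul, L.map_id]
        erw [L.map_id]
        simp only [ModuleCat.hom_smul, ModuleCat.hom_id, LinearMap.smul_apply, LinearMap.id_apply, TensorProduct.smul_tmul, ← TensorProduct.tmul_sum, Module.Basis.sum_repr])
  refine ⟨(NatIso.ofComponents (fun V => (e V).toModuleIso) (fun {V W} f => ?_) : T ≅ L).symm⟩
  apply ModuleCat.hom_ext
  refine TensorProduct.ext' fun x v => ?_
  change (L.map (FGModuleCat.ofHom (V := K) (W := W) (LinearMap.toSpanSingleton K W (f.hom.hom v)))).hom x = (L.map f).hom ((L.map (FGModuleCat.ofHom (V := K) (W := V) (LinearMap.toSpanSingleton K V v))).hom x)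
  rw [← hcomp]
  congr 3
  ext
  show (1 : K) • (f.hom.hom v) = f.hom.hom ((1 : K) • v)
  simp

end Groth.Agent.S12754
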