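import Groth.Statements.S12759
import Groth.Agent.MinVersLib.Min

set_option autoImplicit false
universe u v
open CategoryTheory
open ArtFun

namespace Groth.Agent.S12759


section
variable {Λ : Type u} {k : Type u} [CommRing Λ] [Field k] [Algebra Λ k]

theorem trunc_one_mem {R : ArtFun.CRing Λ k} {a b : R.carrier}
    (h : (R.truncHom 1).1 a = (R.truncHom 1).1 b) : a - b ∈ IsLocalRing.maximalIdeal R.carrier ^ 2 :=
  (ArtLib.truncHom_eq_zero R 1 _).1 (by rw [map_sub, h, sub_self])

theorem surjective_of_forall_sq {R S : ArtFun.CRing Λ k} (f : R.carrier →ₐ[Λ] S.carrier)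
    (hf : S.res.comp f = R.res)
    (h : ∀ x ∈ IsLocalRing.maximalIdeal S.carrier, ∃ a, x - f a ∈ IsLocalRing.maximalIdeal S.carrier ^ 2) :
    Function.Surjective f := by
  refine ArtLib.cring_surjective_of_cotangent f hf fun x hx => ?_
  obtain ⟨a, ha⟩ := h x hx
  refine Submodule.mem_sup.2 ⟨f a, Ideal.mem_map_of_mem f ?_, x - f a, ha, add_sub_cancel _ _⟩
  rw [ArtFun.CRing.mem_maximalIdeal_iff] at hx ⊢
  have h5 := (ArtFun.CRing.mem_maximalIdeal_iff _ _).1 (Ideal.pow_le_self two_ne_zero ha)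
  rw [map_sub, hx, zero_sub, neg_eq_zero, ArtFun.CRing.res_comp_apply f hf] at h5
  exact h5

/-- A minimal system of generators of the kernel of a retraction modulo `m²`. -/
theorem exists_gens {R S : ArtFun.CRing Λ k} (p : R.carrier →ₐ[Λ] S.carrier) (g : S.carrier →ₐ[Λ] R.carrier)
    (hp : S.res.comp p = R.res) (hg : R.res.comp g = S.res) (hpg : ∀ s, p (g s) = s) :
    ∃ (n : ℕ) (x : Fin n → R.carrier), (∀ i, R.res (x i) = 0) ∧
      (∀ r, ∃ (c : Fin n → S.carrier), r - (g (p r) + ∑ i, g (c i) * x i) ∈ IsLocalRing.maximalIdeal R.carrier ^ 2) ∧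
      ∀ (s : S.carrier) (c : Fin n → S.carrier), g s + ∑ i, g (c i) * x i ∈ IsLocalRing.maximalIdeal R.carrier ^ 2 →
        s ∈ IsLocalRing.maximalIdeal S.carrier ^ 2 ∧ ∀ i, c i ∈ IsLocalRing.maximalIdeal S.carrier := by
  classical
  let m := IsLocalRing.maximalIdeal R.carrier
  let P : ℕ → Prop := fun n => ∃ x : Fin n → R.carrier, (∀ i, p (x i) = 0) ∧
    ∀ a, p a = 0 → a ∈ Ideal.span (Set.range x) ⊔ m ^ 2
  have hP : ∃ n, P n := by
    obtain ⟨s, hs⟩ := IsNoetherian.noetherian (RingHom.ker p)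
    refine ⟨s.card, fun i => (s.equivFin.symm i).1, fun i => ?_, fun a ha => Ideal.mem_sup_left ?_⟩
    · have : (s.equivFin.symm i).1 ∈ RingHom.ker p := hs ▸ Submodule.subset_span (s.equivFin.symm i).2
      exact this
    · have : a ∈ Submodule.span R.carrier (s : Set R.carrier) := hs.symm ▸ (ha : a ∈ RingHom.ker p)
      refine Submodule.span_mono (fun b hb => ?_) this
      exact ⟨s.equivFin ⟨b, hb⟩, by simp⟩
  obtain ⟨n, ⟨x, hx0, hxspan⟩, hmin⟩ : ∃ n, P n ∧ ∀ N < n, ¬ P N :=
    ⟨Nat.find hP, Nat.find_spec hP, fun N hN => Nat.find_min hP hN⟩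
  have hpm : ∀ a, p a = 0 → R.res a = 0 := fun a ha => by rw [← hp, AlgHom.comp_apply, ha, map_zero]
  refine ⟨_, x, fun i => hpm _ (hx0 i), fun r => ?_, fun s c h => ?_⟩
  · obtain ⟨y, hy, z, hz, hyz⟩ := Submodule.mem_sup.1
      (hxspan (r - g (p r)) (by rw [map_sub, hpg, sub_self]))
    obtain ⟨d, rfl⟩ := (Submodule.mem_span_range_iff_exists_fun _).1 hy
    refine ⟨fun i => p (d i), ?_⟩
    have e : r - (g (p r) + ∑ i, g (p (d i)) * x i) = z + ∑ i, (d i - g (p (d i))) * x i := by
      simp only [smul_eq_mul] at hyz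
      simp only [sub_mul, Finset.sum_sub_distrib]
      linear_combination -hyz
    rw [e]
    refine add_mem hz (sum_mem fun i _ => ?_)
    rw [pow_two]
    refine Ideal.mul_mem_mul ?_ ((ArtFun.CRing.mem_maximalIdeal_iff _ _).2 (hpm _ (hx0 i)))
    exact (ArtFun.CRing.mem_maximalIdeal_iff _ _).2 (hpm _ (by rw [map_sub, hpg, sub_self]))
  · have hs : s ∈ IsLocalRing.maximalIdeal S.carrier ^ 2 := by
      have h1 := Ideal.mem_map_of_mem p h
      rw [Ideal.map_pow, map_add, hpg, map_sum] at h1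
      simp only [map_mul, hx0, mul_zero, Finset.sum_const_zero, add_zero] at h1
      exact Ideal.pow_right_mono (ArtLib.map_le_of_res p hp) 2 h1
    refine ⟨hs, fun j => ?_⟩
    have hgs : g s ∈ m ^ 2 := Ideal.pow_right_mono (ArtLib.map_le_of_res g hg) 2
      ((Ideal.map_pow g (IsLocalRing.maximalIdeal S.carrier) 2) ▸ Ideal.mem_map_of_mem g hs)
    have hsum : ∑ i, g (c i) * x i ∈ m ^ 2 := (add_mem_cancel_left hgs).1 h
    by_contra hj
    have hu : IsUnit (c j) := by
      by_contra hu
      exact hj ((IsLocalRing.mem_maximalIdeal _).2 hu)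
    obtain ⟨u, hu⟩ := hu.map g
    obtain _ | N := n
    · exact j.elim0
    refine hmin N (Nat.lt_succ_self N) ⟨x ∘ j.succAbove, fun i => hx0 _, fun a ha => ?_⟩
    refine (sup_le (Ideal.span_le.2 ?_) le_sup_right :
      Ideal.span (Set.range x) ⊔ m ^ 2 ≤ Ideal.span (Set.range (x ∘ j.succAbove)) ⊔ m ^ 2) (hxspan a ha)
    rintro _ ⟨i, rfl⟩
    rcases Fin.eq_self_or_eq_succAbove j i with rfl | ⟨i', rfl⟩
    · have h2 : (u : R.carrier) * x i ∈ Ideal.span (Set.range (x ∘ i.succAbove)) ⊔ m ^ 2 := by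
        rw [Fin.sum_univ_succAbove _ i, ← hu] at hsum
        rw [← add_sub_cancel_right ((u : R.carrier) * x i) (∑ i' : Fin N, g (c (i.succAbove i')) * x (i.succAbove i'))]
        exact sub_mem (Ideal.mem_sup_right hsum)
          (Ideal.mem_sup_left (sum_mem fun i' _ => Ideal.mul_mem_left _ _ (Ideal.subset_span ⟨i', rfl⟩)))
      have h3 := Ideal.mul_mem_left _ (↑u⁻¹ : R.carrier) h2
      rwa [← mul_assoc, Units.inv_mul, one_mul] at h3
    · exact Ideal.mem_sup_left (Ideal.subset_span ⟨i', rfl⟩)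

end

/-- For functors, any versal family (R, ξ) of a functor F on Artinian local Λ-algebras with residue
field k with F(k) a point is the pushforward of a minimal versal family (R', ξ') along a power
series extension: there are g : R' → R compatible with the augmentations and an isomorphism R ≅
R'[[X₁, …, Xₙ]] over Λ carrying g to the constants, and the formal element of ξ is that of ξ' pushed
forward along g. -/
theorem result {Λ : Type u} {k : Type u} [CommRing Λ] [Field k] [Algebra Λ k]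
    [IsNoetherianRing Λ] [Module.Finite Λ k]
    {F : ArtFun.Art Λ k ⥤ Type v} (h0 : ArtFun.H0 F) (V : ArtFun.VersalPair F) :
    ∃ (R' : ArtFun.CRing Λ k) (ξ' : ArtFun.Family R'.carrier R'.res F), ξ'.IsMinimalVersal ∧
      ∃ (g : R'.carrier →ₐ[Λ] V.ring.carrier) (hg : V.ring.res.comp g = R'.res)
        (n : ℕ) (e : V.ring.carrier ≃ₐ[Λ] MvPowerSeries (Fin n) R'.carrier),
        (∀ a : R'.carrier, e (g a) = algebraMap R'.carrier (MvPowerSeries (Fin n) R'.carrier) a) ∧
        (ξ'.along g hg).toFormalElt = V.family.toFormalElt := by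
  classical
  obtain ⟨S, ξ', p, g, hg, hmin, hp, hpg, hback⟩ := MinVersLib.exists_minimal h0 V.family V.versal
  refine ⟨S, ξ', hmin, g, hg, ?_⟩
  obtain ⟨n, x, hx0, hgen, hind⟩ := exists_gens p g hp hg hpg
  refine ⟨n, ?_⟩
  suffices ∃ e : V.ring.carrier ≃ₐ[Λ] MvPowerSeries (Fin n) S.carrier,
      ∀ a, e (g a) = algebraMap S.carrier (MvPowerSeries (Fin n) S.carrier) a by
    obtain ⟨e, he⟩ := this
    exact ⟨e, he, congrArg ArtFun.Family.toFormalElt hback⟩
  let R := V.ring
  haveI := S.isAdicComplete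
  letI : Algebra S.carrier R.carrier := g.toRingHom.toAlgebra
  haveI : IsScalarTower Λ S.carrier R.carrier := IsScalarTower.of_algebraMap_eq fun l => (g.commutes l).symm
  letI : Algebra S.carrier k := S.res.toRingHom.toAlgebra
  haveI : IsScalarTower Λ S.carrier k := IsScalarTower.of_algebraMap_eq fun l => (S.res.commutes l).symm
  have hk : Function.Surjective (algebraMap S.carrier k) := S.res_surjective
  obtain ⟨resS, hresS⟩ : ∃ resS : R.carrier →ₐ[S.carrier] k, ∀ r, resS r = R.res r :=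
    ⟨{ R.res.toRingHom with commutes' := fun s => AlgHom.congr_fun hg s }, fun _ => rfl⟩
  let RS : ArtFun.CRing S.carrier k :=
    { carrier := R.carrier, res := resS
      res_surjective := fun c => by
        obtain ⟨r, hr⟩ := R.res_surjective c
        exact ⟨r, (hresS r).trans hr⟩
      isAdicComplete := R.isAdicComplete }
  let PS := ArtLib.psRing hk n
  obtain ⟨α', hα', hαX⟩ : ∃ (α : MvPowerSeries (Fin n) S.carrier →ₐ[S.carrier] R.carrier)
      (_ : resS.comp α = ArtLib.psRes k n), ∀ i, α (MvPowerSeries.X i) = x i := by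
    have hval : ∀ (N : ℕ) (i : Fin n), (RS.trunc N).res ((RS.truncHom N).1 (x i)) = 0 :=
      fun N i => (ArtLib.homSet_res _ _).trans ((hresS _).trans (hx0 i))
    choose φ hφ using fun N => ArtLib.exists_psHom (fun i => (RS.truncHom N).1 (x i)) (hval N)
    obtain ⟨α, hα, hαφ⟩ := ArtLib.exists_hom_of_compatible RS
      (fun N => (⟨φ N, ArtLib.psRes_comp _ fun i => by rw [hφ, hval]⟩ :
        ArtFun.HomSet (MvPowerSeries (Fin n) S.carrier) (ArtLib.psRes k n) (RS.trunc N)))
      (fun N => Subtype.ext <| ArtLib.psHom_ext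
        (fun i => (congrArg (RS.truncMap N) (hφ (N + 1) i)).trans
          ((AlgHom.congr_fun (congrArg Subtype.val (ArtFun.CRing.truncMap_truncHom RS N)) (x i)).trans (hφ N i).symm))
        (fun i => by
          have hh : ((RS.truncMap N).toAlgHom.comp (φ (N + 1))) (MvPowerSeries.X i) = RS.truncMap N ((RS.truncHom (N + 1)).1 (x i)) :=
            congrArg (RS.truncMap N) (hφ (N + 1) i)
          show (RS.trunc N).res (((RS.truncMap N).toAlgHom.comp (φ (N + 1))) (MvPowerSeries.X i)) = 0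
          rw [hh, ArtFun.Art.res_app, hval]))
    refine ⟨α, hα, fun i => ?_⟩
    haveI := R.isAdicComplete
    refine (IsHausdorff.eq_iff_smodEq (I := IsLocalRing.maximalIdeal R.carrier) («R» := R.carrier)).2 fun N => ?_
    rw [SModEq.sub_mem, smul_eq_mul, Ideal.mul_top]
    refine Ideal.pow_le_pow_right (Nat.le_succ N) ((ArtLib.truncHom_eq_zero RS N _).1 ?_)
    rw [map_sub, hαφ, hφ, sub_self]
  let T : ArtFun.CRing Λ k :=
    { carrier := MvPowerSeries (Fin n) S.carrier
      res := (ArtLib.psRes k n).restrictScalars Λ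
      res_surjective := PS.res_surjective
      isAdicComplete := PS.isAdicComplete }
  let C : S.carrier →ₐ[Λ] T.carrier := IsScalarTower.toAlgHom Λ S.carrier (MvPowerSeries (Fin n) S.carrier)
  have hC : T.res.comp C = S.res := AlgHom.ext fun s => (ArtLib.psRes k n).commutes s
  let α : T.carrier →ₐ[Λ] R.carrier := α'.restrictScalars Λ
  have hα : R.res.comp α = T.res := AlgHom.ext fun f => (hresS _).symm.trans (AlgHom.congr_fun hα' f)
  have hαC : α.comp C = g := AlgHom.ext fun s => α'.commutes s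
  have hαX' : ∀ i, α (MvPowerSeries.X i) = x i := hαX
  -- bijectivity modulo the square of the maximal ideal
  have hXm : ∀ i, (MvPowerSeries.X i : T.carrier) ∈ IsLocalRing.maximalIdeal T.carrier := fun i =>
    (ArtFun.CRing.mem_maximalIdeal_iff _ _).2 (ArtLib.psRes_X n i)
  have hdec : ∀ r, ∃ (c : Fin n → S.carrier),
      r - α (C (p r) + ∑ i, C (c i) * MvPowerSeries.X i) ∈ IsLocalRing.maximalIdeal R.carrier ^ 2 := fun r => by
    obtain ⟨c, hc⟩ := hgen r
    refine ⟨c, ?_⟩
    simp only [map_add, map_sum, map_mul, hαX']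
    simp only [show ∀ s, α (C s) = g s from AlgHom.congr_fun hαC]
    exact hc
  have hinj1 : ∀ f, α f ∈ IsLocalRing.maximalIdeal R.carrier ^ 2 → f ∈ IsLocalRing.maximalIdeal T.carrier ^ 2 := by
    intro f hf
    obtain ⟨h, hh⟩ := (Submodule.mem_span_range_iff_exists_fun _).1
      (ArtLib.sub_C_constantCoeff_mem (σ := Fin n) (Λ := S.carrier) f)
    have hsplit : f - (C (MvPowerSeries.constantCoeff f) +
        ∑ i, C (MvPowerSeries.constantCoeff (h i)) * MvPowerSeries.X i) ∈ IsLocalRing.maximalIdeal T.carrier ^ 2 := by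
      rw [← sub_sub, show C (MvPowerSeries.constantCoeff f) = MvPowerSeries.C (MvPowerSeries.constantCoeff f) from rfl,
        ← hh, ← Finset.sum_sub_distrib]
      refine sum_mem fun i _ => ?_
      rw [smul_eq_mul, ← sub_mul, pow_two]
      refine Ideal.mul_mem_mul ?_ (hXm i)
      refine (ArtFun.CRing.mem_maximalIdeal_iff _ _).2 ?_
      show algebraMap S.carrier k (MvPowerSeries.constantCoeff (h i - MvPowerSeries.C (MvPowerSeries.constantCoeff (h i)))) = 0
      rw [map_sub, MvPowerSeries.constantCoeff_C, sub_self, map_zero]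
    have h1 : α (C (MvPowerSeries.constantCoeff f) +
        ∑ i, C (MvPowerSeries.constantCoeff (h i)) * MvPowerSeries.X i) ∈ IsLocalRing.maximalIdeal R.carrier ^ 2 := by
      have h2 := Ideal.pow_right_mono (ArtLib.map_le_of_res α hα) 2
        ((Ideal.map_pow α _ 2) ▸ Ideal.mem_map_of_mem α hsplit)
      rw [map_sub] at h2
      have := sub_mem hf h2
      rwa [sub_sub_cancel] at this
    simp only [map_add, map_sum, map_mul, hαX', show ∀ s, α (C s) = g s from AlgHom.congr_fun hαC] at h1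
    obtain ⟨hs, hc⟩ := hind _ _ h1
    rw [← sub_add_cancel f (C (MvPowerSeries.constantCoeff f) +
        ∑ i, C (MvPowerSeries.constantCoeff (h i)) * MvPowerSeries.X i)]
    refine add_mem hsplit (add_mem ?_ (sum_mem fun i _ => ?_))
    · exact Ideal.pow_right_mono (ArtLib.map_le_of_res C hC) 2
        ((Ideal.map_pow C _ 2) ▸ Ideal.mem_map_of_mem C hs)
    · rw [pow_two]
      exact Ideal.mul_mem_mul (ArtLib.map_le_of_res C hC (Ideal.mem_map_of_mem C (hc i))) (hXm i)
  have hαsurj : Function.Surjective α := surjective_of_forall_sq α hα fun r _ => by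
    obtain ⟨c, hc⟩ := hdec r
    exact ⟨_, hc⟩
  let α₁ := ArtFun.CRing.truncMapOfHom α hα 1
  have hα₁ : Function.Bijective α₁ := by
    refine ⟨(injective_iff_map_eq_zero α₁.toAlgHom).2 fun y hy => ?_, fun y => ?_⟩
    · obtain ⟨f, rfl⟩ := ArtLib.truncHom_surjective T 1 y
      exact (ArtLib.truncHom_eq_zero T 1 f).2 (hinj1 f ((ArtLib.truncHom_eq_zero R 1 _).1 hy))
    · obtain ⟨r, rfl⟩ := ArtLib.truncHom_surjective R 1 y
      obtain ⟨f, rfl⟩ := hαsurj r
      exact ⟨(T.truncHom 1).1 f, rfl⟩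
  haveI := (ArtLib.isIso_iff_bijective α₁).2 hα₁
  have hinv : ∀ f, CategoryTheory.inv α₁ ((R.truncHom 1).1 (α f)) = (T.truncHom 1).1 f := fun f =>
    ArtLib.hom_congr (CategoryTheory.IsIso.hom_inv_id α₁) ((T.truncHom 1).1 f)
  -- the inverse up to an automorphism
  let uT := ξ'.toFormalElt.push C hC
  have huT : uT.push α hα = V.family.toFormalElt := by
    rw [MinVersLib.push_push _ C hC α hα (hαC ▸ hg)]
    simp only [hαC]
    rw [← MinVersLib.along_toFormalElt, hback]
  obtain ⟨β, hβ, hβ1, -⟩ := MinVersLib.exists_push_of_versal V.versal uT 1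
    (ArtFun.HomSet.map (CategoryTheory.inv α₁) (R.truncHom 1)) (by
      rw [V.family.natural, show V.family.app _ (R.truncHom 1) = F.map α₁ (uT.elt 1) from
        (congrFun (congrArg ArtFun.FormalElt.elt huT) 1).symm, ← ArtLib.map_comp_apply,
        CategoryTheory.IsIso.hom_inv_id, ArtLib.map_id_apply])
  have hβα : ∀ f, β (α f) - f ∈ IsLocalRing.maximalIdeal T.carrier ^ 2 := fun f =>
    trunc_one_mem ((hβ1 (α f)).trans (hinv f))
  have hβsurj : Function.Surjective β := surjective_of_forall_sq β hβ fun f _ =>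
    ⟨α f, by rw [← neg_sub]; exact neg_mem (hβα f)⟩
  have hαβ : Function.Bijective (α.comp β).toRingHom :=
    ArtLib.bijective_of_surjective_endo _ (hαsurj.comp hβsurj)
  have hαbij : Function.Bijective α := by
    refine ⟨fun a b h => ?_, hαsurj⟩
    obtain ⟨a, rfl⟩ := hβsurj a
    obtain ⟨b, rfl⟩ := hβsurj b
    exact congrArg β (hαβ.1 h)
  refine ⟨(AlgEquiv.ofBijective α hαbij).symm, fun a => ?_⟩
  rw [AlgEquiv.symm_apply_eq]
  exact (AlgHom.congr_fun hαC a).symm

end Groth.Agent.S12759
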