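import Groth.Statements.S1277
import Mathlib
import Groth.Agent.FlatInjLib.EtaleTransfer
-- import your own Groth.Agent.* helpers here

set_option autoImplicit false
universe u
open FlatMor

namespace Groth.Agent.S1277

open IsLocalRing in
/-- Let A be a local ring, A → B a local homomorphism of local rings, B → C a flat local homomorphism of
local rings, M a B-module and N = M ⊗_B C. For every local homomorphism of local rings A → A', with
base changes B' = B ⊗_A A', M', C' = C ⊗_A A', N' (any models): M' is flat over A' at every prime of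
B' containing 𝔪_{A'}B' + 𝔪_B B' if and only if N' is flat over A' at every prime of C' containing
𝔪_{A'}C' + 𝔪_C C'. -/
theorem result {A B C : Type u} [CommRing A] [IsLocalRing A] [CommRing B] [IsLocalRing B] [CommRing C] [IsLocalRing C]
    [Algebra A B] [IsLocalHom (algebraMap A B)] [Algebra B C] [IsLocalHom (algebraMap B C)] [Algebra A C] [IsScalarTower A B C] [Module.Flat B C]
    (M : Type u) [AddCommGroup M] [Module B M] (N : Type u) [AddCommGroup N] [Module C N] [Module B N] [IsScalarTower B C N]
    (g : M →ₗ[B] N) (hg : IsBaseChange C g)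
    (A' : Type u) [CommRing A'] [IsLocalRing A'] [Algebra A A'] [IsLocalHom (algebraMap A A')]
    (B' M' : Type u) [CommRing B'] [Algebra B B'] [Algebra A' B'] [Algebra A B'] [IsScalarTower A B B'] [IsScalarTower A A' B']
        [Algebra.IsPushout A B A' B']
        [AddCommGroup M'] [Module B' M'] [Module B M'] [IsScalarTower B B' M'] [Module A' M'] [IsScalarTower A' B' M']
        (fB : M →ₗ[B] M') (hfB : IsBaseChange B' fB)
    (C' N' : Type u) [CommRing C'] [Algebra C C'] [Algebra A' C'] [Algebra A C'] [IsScalarTower A C C'] [IsScalarTower A A' C']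
        [Algebra.IsPushout A C A' C']
        [AddCommGroup N'] [Module C' N'] [Module C N'] [IsScalarTower C C' N'] [Module A' N'] [IsScalarTower A' C' N']
        (fC : N →ₗ[C] N') (hfC : IsBaseChange C' fC) :
    FlatCA.FlatAboveClosedPoints B A' B' M' ↔ FlatCA.FlatAboveClosedPoints C A' C' N' := by
  classical
  letI : Algebra B C' := ((algebraMap C C').comp (algebraMap B C)).toAlgebra
  haveI : IsScalarTower B C C' := IsScalarTower.of_algebraMap_eq fun _ => rfl
  haveI : IsScalarTower A B C' := IsScalarTower.of_algebraMap_eq fun x => by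
    rw [IsScalarTower.algebraMap_apply B C C', ← IsScalarTower.algebraMap_apply A B C,
      ← IsScalarTower.algebraMap_apply A C C']
  let σ : B' →ₐ[A] C' := Algebra.pushoutDesc B' (IsScalarTower.toAlgHom A B C')
    (IsScalarTower.toAlgHom A A' C') fun _ _ => Commute.all _ _
  letI : Algebra B' C' := σ.toRingHom.toAlgebra
  haveI : IsScalarTower B B' C' := IsScalarTower.of_algebraMap_eq fun x =>
    (Algebra.pushoutDesc_left B' (IsScalarTower.toAlgHom A B C') (IsScalarTower.toAlgHom A A' C') _ x).symm
  haveI : IsScalarTower A' B' C' := IsScalarTower.of_algebraMap_eq fun x =>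
    (Algebra.pushoutDesc_right B' (IsScalarTower.toAlgHom A B C') (IsScalarTower.toAlgHom A A' C') _ x).symm
  haveI : IsScalarTower A B' C' := IsScalarTower.of_algebraMap_eq fun x => (σ.commutes x).symm
  haveI hP : Algebra.IsPushout B C B' C' := (Algebra.IsPushout.comp_iff A B A' B').1 inferInstance
  haveI : Algebra.IsPushout B B' C C' := hP.symm
  haveI : Module.Flat B' C' := Module.Flat.of_linearEquiv (Algebra.IsPushout.equiv B B' C C').symm.toLinearEquiv
  letI : Module B N' := Module.compHom N' (algebraMap B C')
  haveI : IsScalarTower B C' N' := IsScalarTower.of_compHom _ _ _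
  haveI : IsScalarTower B C N' := IsScalarTower.of_algebraMap_smul fun x y => by
    rw [← algebraMap_smul C' (algebraMap B C x) y, ← IsScalarTower.algebraMap_apply, algebraMap_smul]
  letI : Module B' N' := Module.compHom N' (algebraMap B' C')
  haveI : IsScalarTower B' C' N' := IsScalarTower.of_compHom _ _ _
  haveI : IsScalarTower B B' N' := IsScalarTower.of_algebraMap_smul fun x y => by
    show algebraMap B' C' (algebraMap B B' x) • y = x • y
    rw [← IsScalarTower.algebraMap_apply, algebraMap_smul]
  haveI : IsScalarTower A' B' N' := IsScalarTower.of_algebraMap_smul fun x y => by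
    show algebraMap B' C' (algebraMap A' B' x) • y = x • y
    rw [← IsScalarTower.algebraMap_apply, algebraMap_smul]
  have hc : IsBaseChange C' ((fC.restrictScalars B).comp g) := hg.comp hfC
  let k := hfB.lift ((fC.restrictScalars B).comp g)
  have hk : IsBaseChange C' k := IsBaseChange.of_comp hfB (by rw [hfB.lift_comp]; exact hc)
  refine ⟨fun h Q _ hQ => ?_, fun h q _ hq => ?_⟩
  · rw [sup_le_iff] at hQ
    haveI : Q.LiesOver (Q.comap (algebraMap B' C')) := ⟨rfl⟩
    refine (FlatInjLib.flatAt_iff_of_isBaseChange k hk (Q.comap (algebraMap B' C')) Q).2 (h _ ?_)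
    refine sup_le ?_ ?_
    · rw [Ideal.map_le_iff_le_comap, Ideal.comap_comap, ← IsScalarTower.algebraMap_eq,
        ← Ideal.map_le_iff_le_comap]
      exact hQ.1
    · rw [Ideal.map_le_iff_le_comap, Ideal.comap_comap, ← IsScalarTower.algebraMap_eq,
        IsScalarTower.algebraMap_eq B C C']
      intro b hb
      exact hQ.2 (Ideal.mem_map_of_mem _ (fun h' => hb (IsUnit.of_map (algebraMap B C) b h') : algebraMap B C b ∈ IsLocalRing.maximalIdeal C))
  rw [sup_le_iff] at hq
  letI : Algebra B q.ResidueField := ((algebraMap B' q.ResidueField).comp (algebraMap B B')).toAlgebra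
  let φ : IsLocalRing.ResidueField B →+* q.ResidueField :=
    Ideal.Quotient.lift (IsLocalRing.maximalIdeal B) (algebraMap B q.ResidueField) fun b hb =>
      Ideal.algebraMap_residueField_eq_zero.2 (hq.2 (Ideal.mem_map_of_mem _ hb))
  letI : Algebra (IsLocalRing.ResidueField B) q.ResidueField := φ.toAlgebra
  let X := TensorProduct (IsLocalRing.ResidueField B) (IsLocalRing.ResidueField C) q.ResidueField
  haveI : Nontrivial X := inferInstance
  obtain ⟨m, hm⟩ := Ideal.exists_maximal X
  let jC : C →+* X ⧸ m := (Ideal.Quotient.mk m).comp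
    (Algebra.TensorProduct.includeLeftRingHom.comp (IsLocalRing.residue C))
  let jB' : B' →+* X ⧸ m := (Ideal.Quotient.mk m).comp
    ((Algebra.TensorProduct.includeRight (R := IsLocalRing.ResidueField B) (A := IsLocalRing.ResidueField C)
      (B := q.ResidueField)).toRingHom.comp (algebraMap B' q.ResidueField))
  have hcompat : ∀ b : B, jC (algebraMap B C b) = jB' (algebraMap B B' b) := fun b => by
    refine congrArg (Ideal.Quotient.mk m) ?_
    show TensorProduct.tmul (IsLocalRing.ResidueField B) (IsLocalRing.residue C (algebraMap B C b)) (1 : q.ResidueField) =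
      TensorProduct.tmul (IsLocalRing.ResidueField B) (1 : IsLocalRing.ResidueField C) (φ (IsLocalRing.residue B b))
    rw [show φ (IsLocalRing.residue B b) = IsLocalRing.residue B b • (1 : q.ResidueField) by
      rw [Algebra.smul_def, mul_one]; rfl, ← TensorProduct.smul_tmul, Algebra.smul_def, mul_one]
    rfl
  letI : Algebra B (X ⧸ m) := (jC.comp (algebraMap B C)).toAlgebra
  let fCX : C →ₐ[B] X ⧸ m := { jC with commutes' := fun _ => rfl }
  let fBX : B' →ₐ[B] X ⧸ m := { jB' with commutes' := fun b => (hcompat b).symm }
  let ψ := Algebra.pushoutDesc C' fCX fBX fun _ _ => Commute.all _ _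
  have hψB : ∀ x, ψ (algebraMap B' C' x) = jB' x := fun x => Algebra.pushoutDesc_right C' fCX fBX _ x
  have hψC : ∀ x, ψ (algebraMap C C' x) = jC x := fun x => Algebra.pushoutDesc_left C' fCX fBX _ x
  haveI : IsDomain (X ⧸ m) := Ideal.Quotient.isDomain m
  let P : Ideal C' := RingHom.ker ψ
  haveI : P.IsPrime := RingHom.ker_isPrime ψ
  have hPq : P.comap (algebraMap B' C') = q := by
    ext x
    simp only [P, Ideal.mem_comap, RingHom.mem_ker, hψB]
    refine ⟨fun hx => ?_, fun hx => by simp [jB', Ideal.algebraMap_residueField_eq_zero.2 hx]⟩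
    refine Ideal.algebraMap_residueField_eq_zero.1 ?_
    letI := Ideal.Quotient.field m
    exact (map_eq_zero ((Ideal.Quotient.mk m).comp (Algebra.TensorProduct.includeRight
      (R := IsLocalRing.ResidueField B) (A := IsLocalRing.ResidueField C) (B := q.ResidueField)).toRingHom)).1 hx
  haveI : P.LiesOver q := ⟨hPq.symm⟩
  refine (FlatInjLib.flatAt_iff_of_isBaseChange k hk q P).1 (h P (sup_le ?_ ?_))
  · rw [IsScalarTower.algebraMap_eq A' B' C', ← Ideal.map_map]
    exact (Ideal.map_mono hq.1).trans (Ideal.map_le_iff_le_comap.2 hPq.ge)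
  · rw [Ideal.map_le_iff_le_comap]
    intro c hc
    show ψ (algebraMap C C' c) = 0
    rw [hψC]
    simp [jC, (IsLocalRing.residue_eq_zero_iff c).2 hc]

end Groth.Agent.S1277
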