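import Groth.Statements.S1278
import Mathlib
import Groth.Agent.FlatInjLib.SemiLocal
-- import your own Groth.Agent.* helpers here

set_option autoImplicit false
universe u
open FlatMor

namespace Groth.Agent.S1278

open IsLocalRing in
/-- Let A be a local ring and B → C a finite local homomorphism of local A-algebras (A → B local), and N
a C-module, viewed also as a B-module. For every local homomorphism of local rings A → A', with base
changes B', C' of B, C and base changes M' (of N over B') and N' (of N over C'): M' is flat over A'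
at every prime of B' containing 𝔪_{A'}B' + 𝔪_B B' if and only if N' is flat over A' at every prime
of C' containing 𝔪_{A'}C' + 𝔪_C C'. -/
theorem result {A B C : Type u} [CommRing A] [IsLocalRing A] [CommRing B] [IsLocalRing B] [CommRing C] [IsLocalRing C]
    [Algebra A B] [IsLocalHom (algebraMap A B)] [Algebra B C] [IsLocalHom (algebraMap B C)] [Algebra A C] [IsScalarTower A B C] [Module.Finite B C]
    (N : Type u) [AddCommGroup N] [Module C N] [Module B N] [IsScalarTower B C N]
    (A' : Type u) [CommRing A'] [IsLocalRing A'] [Algebra A A'] [IsLocalHom (algebraMap A A')]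
    (B' M' : Type u) [CommRing B'] [Algebra B B'] [Algebra A' B'] [Algebra A B'] [IsScalarTower A B B'] [IsScalarTower A A' B']
        [Algebra.IsPushout A B A' B']
        [AddCommGroup M'] [Module B' M'] [Module B M'] [IsScalarTower B B' M'] [Module A' M'] [IsScalarTower A' B' M']
        (fB : N →ₗ[B] M') (hfB : IsBaseChange B' fB)
    (C' N' : Type u) [CommRing C'] [Algebra C C'] [Algebra A' C'] [Algebra A C'] [IsScalarTower A C C'] [IsScalarTower A A' C']
        [Algebra.IsPushout A C A' C']
        [AddCommGroup N'] [Module C' N'] [Module C N'] [IsScalarTower C C' N'] [Module A' N'] [IsScalarTower A' C' N']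
        (fC : N →ₗ[C] N') (hfC : IsBaseChange C' fC) :
    FlatCA.FlatAboveClosedPoints B A' B' M' ↔ FlatCA.FlatAboveClosedPoints C A' C' N' := by
  classical
  letI : Algebra B C' := ((algebraMap C C').comp (algebraMap B C)).toAlgebra
  haveI : IsScalarTower B C C' := IsScalarTower.of_algebraMap_eq fun _ => rfl
  haveI : IsScalarTower A B C' := IsScalarTower.of_algebraMap_eq fun x => by
    rw [IsScalarTower.algebraMap_apply B C C', ← IsScalarTower.algebraMap_apply A B C,
      ← IsScalarTower.algebraMap_apply A C C']
  let σ : B' →ₐ[A] C' := Algebra.pushoutDesc B' (IsScalarTower.toAlgHom A B C')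
    (IsScalarTower.toAlgHom A A' C') fun _ _ => Commute.all _ _
  letI : Algebra B' C' := σ.toRingHom.toAlgebra
  haveI : IsScalarTower B B' C' := IsScalarTower.of_algebraMap_eq fun x =>
    (Algebra.pushoutDesc_left B' (IsScalarTower.toAlgHom A B C') (IsScalarTower.toAlgHom A A' C') _ x).symm
  haveI : IsScalarTower A' B' C' := IsScalarTower.of_algebraMap_eq fun x =>
    (Algebra.pushoutDesc_right B' (IsScalarTower.toAlgHom A B C') (IsScalarTower.toAlgHom A A' C') _ x).symm
  haveI : IsScalarTower A B' C' := IsScalarTower.of_algebraMap_eq fun x => (σ.commutes x).symm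
  haveI hP : Algebra.IsPushout B C B' C' := (Algebra.IsPushout.comp_iff A B A' B').1 inferInstance
  haveI : Algebra.IsPushout B B' C C' := hP.symm
  haveI : Module.Finite B' C' := Module.Finite.equiv (Algebra.IsPushout.equiv B B' C C').toLinearEquiv
  letI : Module B N' := Module.compHom N' (algebraMap B C')
  haveI : IsScalarTower B C' N' := IsScalarTower.of_compHom _ _ _
  haveI : IsScalarTower B C N' := IsScalarTower.of_algebraMap_smul fun x y => by
    rw [← algebraMap_smul C' (algebraMap B C x) y, ← IsScalarTower.algebraMap_apply, algebraMap_smul]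
  letI : Module B' N' := Module.compHom N' (algebraMap B' C')
  haveI : IsScalarTower B' C' N' := IsScalarTower.of_compHom _ _ _
  haveI : IsScalarTower B B' N' := IsScalarTower.of_algebraMap_smul fun x y => by
    show algebraMap B' C' (algebraMap B B' x) • y = x • y
    rw [← IsScalarTower.algebraMap_apply, algebraMap_smul]
  haveI : IsScalarTower A' B' N' := IsScalarTower.of_algebraMap_smul fun x y => by
    show algebraMap B' C' (algebraMap A' B' x) • y = x • y
    rw [← IsScalarTower.algebraMap_apply, algebraMap_smul]
  have hNB : IsBaseChange B' (fC.restrictScalars B) := by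
    refine IsBaseChange.of_equiv ((Algebra.IsPushout.cancelBaseChange B B' C C' N).symm ≪≫ₗ
      hfC.equiv.restrictScalars B') fun m ↦ ?_
    show hfC.equiv ((Algebra.IsPushout.cancelBaseChange B B' C C' N).symm (TensorProduct.tmul B (1 : B') m)) = fC m
    simp [IsBaseChange.equiv_tmul]
  let e : M' ≃ₗ[B'] N' := hfB.equiv.symm ≪≫ₗ hNB.equiv
  have he : ∀ (q : Ideal B') [q.IsPrime], FlatCA.FlatAt A' q M' ↔ FlatCA.FlatAt A' q N' := fun q _ =>
    FlatInjLib.flatAt_congr_of_surjective e.toLinearMap e.surjective q fun z hz =>
      ⟨1, fun h1 => Ideal.IsPrime.ne_top inferInstance ((Ideal.eq_top_iff_one q).2 h1),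
        by rw [one_smul]; exact (map_eq_zero_iff _ e.injective).1 hz⟩
  refine ⟨fun h Q _ hQ => ?_, fun h q _ hq => ?_⟩
  · rw [sup_le_iff] at hQ
    haveI : Q.LiesOver (Q.comap (algebraMap B' C')) := ⟨rfl⟩
    refine FlatInjLib.flatAt_over_of_flatAt (Q.comap (algebraMap B' C')) Q ((he _).1 (h _ (sup_le ?_ ?_)))
    · rw [Ideal.map_le_iff_le_comap, Ideal.comap_comap, ← IsScalarTower.algebraMap_eq,
        ← Ideal.map_le_iff_le_comap]
      exact hQ.1
    · rw [Ideal.map_le_iff_le_comap, Ideal.comap_comap, ← IsScalarTower.algebraMap_eq,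
        IsScalarTower.algebraMap_eq B C C']
      intro b hb
      exact hQ.2 (Ideal.mem_map_of_mem _ (fun h' => hb (IsUnit.of_map (algebraMap B C) b h') : algebraMap B C b ∈ IsLocalRing.maximalIdeal C))
  rw [sup_le_iff] at hq
  refine (he q).2 (FlatInjLib.flatAt_of_forall_over (C := C') q fun Q _ hQq => h Q (sup_le ?_ ?_))
  · rw [IsScalarTower.algebraMap_eq A' B' C', ← Ideal.map_map]
    exact (Ideal.map_mono hq.1).trans (Ideal.map_le_iff_le_comap.2 hQq.over.le)
  · rw [Ideal.map_le_iff_le_comap]
    haveI : Algebra.IsIntegral B C := inferInstance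
    haveI : (Q.comap (algebraMap C C')).IsPrime := Ideal.IsPrime.comap _
    have hmax : (Q.comap (algebraMap C C')).comap (algebraMap B C) = IsLocalRing.maximalIdeal B := by
      refine le_antisymm (IsLocalRing.le_maximalIdeal (Ideal.IsPrime.comap _).ne_top) fun b hb => ?_
      show algebraMap C C' (algebraMap B C b) ∈ Q
      rw [← IsScalarTower.algebraMap_apply, IsScalarTower.algebraMap_apply B B' C']
      exact hQq.over.le (hq.2 (Ideal.mem_map_of_mem _ hb))
    haveI : (Q.comap (algebraMap C C')).IsMaximal :=
      Ideal.isMaximal_of_isIntegral_of_isMaximal_comap _ (hmax ▸ IsLocalRing.maximalIdeal.isMaximal B)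
    rw [IsLocalRing.eq_maximalIdeal this]

end Groth.Agent.S1278
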