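import Groth.Statements.S12784
import Groth.Agent.FibLib.RepMor

set_option autoImplicit false
open CategoryTheory CategoryTheory.Limits
universe v u
open FibCat

namespace Groth.Agent.S12784

/-- Consider a 2-commutative square of functors over `C` with vertical arrows `f' : 𝒳' ⟶ 𝒴'`, `f : 𝒳 ⟶
𝒴` and horizontal arrows equivalences over `C`. Then `f` is a representable 1-morphism if and only
if `f'` is. (The published statement is for categories fibred in groupoids over schemes over a base;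
this row is stated for categories over any base category.) -/
theorem result {C : Type u} [Category.{v} C] {𝒳 𝒴 𝒳' 𝒴' : BasedCategory.{v, max u v} C}
    (f : 𝒳 ⥤ᵇ 𝒴) (f' : 𝒳' ⥤ᵇ 𝒴') (a : 𝒳' ⥤ᵇ 𝒳) (b : 𝒴' ⥤ᵇ 𝒴)
    (ha : FibCat.IsEquivOver a) (hb : FibCat.IsEquivOver b) (e : BasedFunctor.comp f' b ≅ BasedFunctor.comp a f) :
    FibCat.IsRepresentable1 f ↔ FibCat.IsRepresentable1 f' := by
  obtain ⟨⟨_, _⟩, -⟩ := (FibLib.isEquivOver_iff b).mp hb
  have key : ∀ (U : C) (G' : FibCat.overCat U ⥤ᵇ 𝒴'),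
      FibLib.EquivTo (FibCat.fp G' f') (FibCat.fp (BasedFunctor.comp G' b) f) := fun U G' =>
    ⟨FibLib.fpMap (a := BasedFunctor.id _) (b := a) (c := b) (Iso.refl _) e.symm,
      FibLib.isEquivOver_fpMap (a := BasedFunctor.id _) (b := a) (c := b) _ _
        (FibLib.isEquivOver_id _) ha⟩
  refine ⟨fun h U G' => FibLib.isRepresentable_of_equivTo (key U G') (h U _), fun h U G => ?_⟩
  obtain ⟨bi, -, ⟨η⟩⟩ := hb
  have i : BasedFunctor.comp (BasedFunctor.comp G bi) b ≅ G := FibLib.whiskerLeftIso' G η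
  exact FibLib.isRepresentable_of_equivTo
    ((FibLib.equivTo_fp_congr i (Iso.refl f)).trans (key U (BasedFunctor.comp G bi)).symm) (h U _)

end Groth.Agent.S12784
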