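import Groth.Statements.S12791
import Groth.Agent.AlgStSetoidLib.Basic

set_option autoImplicit false
set_option linter.all false
set_option backward.isDefEq.respectTransparency false
set_option backward.isDefEq.respectTransparency.types false
open CategoryTheory AlgebraicGeometry
universe u
open AlgSt

namespace Groth.Agent.S12791

/-- (2) ⇔ (3): for an algebraic stack `𝒳` over `S`, the canonical 1-morphism `I_𝒳 ⟶ 𝒳` from the inertia
is an equivalence over `(Sch/S)` if and only if `𝒳` is representable by an algebraic space. -/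
theorem result {S : Scheme.{u}} {𝒳 : AlgSt.Cat S}
    (h𝒳 : AlgSt.IsAlgStack Scheme.fppfPrecoverage 𝒳) :
    FibCat.IsEquivOver (FibCat.inertiaToBase (FibCat.toSelf 𝒳)) ↔ AlgSt.RepByAlgSp 𝒳 := by
  haveI := h𝒳.isStack.1
  haveI : FibCat.IsFibGrpd (FibCat.selfOver (Over S)).p :=
    AlgStBig.isFibGrpd_of_repByAlgSp AlgStBig.repByAlgSp_selfOver
  rw [← AlgStSetoidLib.isFibSetoid_iff h𝒳,
    ← AlgStSetoidLib.faithful_iff_isEquivOver_inertiaToBase (FibCat.toSelf 𝒳)]
  constructor
  · intro hf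
    refine ⟨inferInstance, fun U a b => ⟨fun φ ψ => ?_⟩⟩
    refine CategoryTheory.Functor.Fiber.hom_ext ?_
    haveI := φ.2
    haveI := ψ.2
    have h1 := IsHomLift.fac' 𝒳.p (𝟙 U) φ.1
    have h2 := IsHomLift.fac' 𝒳.p (𝟙 U) ψ.1
    exact hf.map_injective (h1.trans h2.symm)
  · intro hs
    refine ⟨fun {a b φ ψ} e => ?_⟩
    haveI : 𝒳.p.IsHomLift (𝒳.p.map φ) ψ := by
      have e' : 𝒳.p.map φ = 𝒳.p.map ψ := e
      rw [e']; infer_instance
    exact FibLib.hom_eq_of_thin hs.2 (𝒳.p.map φ) φ ψ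

end Groth.Agent.S12791
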