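import Groth.Statements.S12800
import Groth.Agent.FibLib.Fp

set_option autoImplicit false
open CategoryTheory
universe v u
open FibCat

namespace Groth.Agent.S12800

/-- For categories `𝒮`, `𝒯` fibred in groupoids over `C`, a category `ℛ` fibred in setoids over `C`, a
functor `f : 𝒯 ⟶ 𝒮` over `C` with faithful underlying functor and a functor `g : ℛ ⟶ 𝒮` over `C`,
the 2-fibre product `𝒯 ×_𝒮 ℛ` over `C` is fibred in setoids. (The published statement takes stacks
in groupoids over a site and concludes a stack in setoids; the stack property of the 2-fibre product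
is the separate result on 2-fibre products of stacks in groupoids, and the setoid property stated
here needs no topology.) -/
theorem result {C : Type u} [Category.{v} C] {𝒮 𝒯 ℛ : BasedCategory.{v, max u v} C}
    (h𝒮 : FibCat.IsFibGrpd 𝒮.p) (h𝒯 : FibCat.IsFibGrpd 𝒯.p) (hℛ : FibCat.IsFibSetoid ℛ.p) (f : 𝒯 ⥤ᵇ 𝒮) [f.toFunctor.Faithful] (g : ℛ ⥤ᵇ 𝒮) :
    FibCat.IsFibSetoid (FibCat.fp f g).p := by
  haveI := hℛ.1
  refine ⟨FibLib.isFibGrpd_fp, fun U a b => ⟨fun φ ψ => ?_⟩⟩
  haveI := φ.2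
  haveI := ψ.2
  haveI := FibLib.isHomLift_fst (𝟙 U) φ.1
  haveI h1 := FibLib.isHomLift_snd (𝟙 U) φ.1
  haveI h2 := FibLib.isHomLift_snd (𝟙 U) ψ.1
  haveI := hℛ.2 U
  have hs : φ.1.hom.snd = ψ.1.hom.snd := congrArg Subtype.val
    (Subsingleton.elim
      (⟨φ.1.hom.snd, h1⟩ : Functor.Fiber.mk ((FibLib.obj_snd_eq a.1).trans a.2) ⟶
        Functor.Fiber.mk ((FibLib.obj_snd_eq b.1).trans b.2))
      ⟨ψ.1.hom.snd, h2⟩)
  refine FibLib.fiber_hom_eq (f.toFunctor.map_injective ?_) hs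
  rw [← cancel_mono b.1.obj.iso.hom, φ.1.hom.w, ψ.1.hom.w, hs]

end Groth.Agent.S12800
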