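import Groth.Statements.S12804
import Groth.Agent.StkTopLib.Slice
-- import your own Groth.Agent.* helpers here

set_option autoImplicit false
open CategoryTheory
universe v u
open Stk

namespace Groth.Agent.S12804

/-- Let `𝒳`, `𝒴` be stacks in groupoids over `C` for the topology `J` and `F : 𝒳 ⟶ 𝒴` a functor over `C`
whose underlying functor makes `𝒳` fibred in groupoids over `𝒴`. Then `𝒳`, as a category over `𝒴`
through `F`, is a stack in groupoids for the topology on `𝒴` inherited from `J`. -/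
theorem result {C : Type u} [Category.{v} C] (J : GrothendieckTopology C) {𝒳 𝒴 : BasedCategory.{v, max u v} C}
    (h𝒳 : Stk.IsStack J 𝒳) (h𝒴 : Stk.IsStack J 𝒴) (F : 𝒳 ⥤ᵇ 𝒴) (hF : FibCat.IsFibGrpd F.toFunctor) :
    Stk.IsStack (𝒴.p.restrictedTopology J) (BasedCategory.ofFunctor F.toFunctor) := by
  haveI := h𝒳.1
  haveI := h𝒴.1
  refine ⟨hF, fun y R hR => ?_⟩
  have hR' := (StkTopLib.mem_restrictedTopology_iff 𝒴.p J R).1 hR
  haveI hY : (Stk.restr (StkTopLib.downMap 𝒴 (Stk.sieveIncl R)) 𝒴).IsEquivalence :=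
    (StkTopLib.restr_down_iff R).2 (h𝒴.2 _ hR')
  exact StkTopLib.restr_isEquivalence_over F (hF := hF) ((StkTopLib.restr_down_iff R).2 (h𝒳.2 _ hR'))
    hY.full hY.faithful

end Groth.Agent.S12804
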