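import Groth.Statements.S12805
import Groth.Agent.StkTopLib.Up
-- import your own Groth.Agent.* helpers here

set_option autoImplicit false
open CategoryTheory
universe v u
open Stk

namespace Groth.Agent.S12805

/-- Let `𝒳` be a stack in groupoids over `C` for the topology `J`, endowed with the topology inherited
from `J`, and let `𝒴` be a category over `𝒳` that is a stack in groupoids for that topology. Then
`𝒴`, with the composite structure functor `𝒴 ⟶ 𝒳 ⟶ C`, is a stack in groupoids over `C` for `J`.
(The published statement also has an assertion for stacks not necessarily in groupoids, which is not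
stated here.) -/
theorem result {C : Type u} [Category.{v} C] (J : GrothendieckTopology C) {𝒳 : BasedCategory.{v, max u v} C}
    (h𝒳 : Stk.IsStack J 𝒳) (𝒴 : BasedCategory.{v, max u v} 𝒳.obj) (h𝒴 : Stk.IsStack (𝒳.p.restrictedTopology J) 𝒴) :
    Stk.IsStack J (BasedCategory.ofFunctor (𝒴.p ⋙ 𝒳.p)) := by
  haveI := h𝒳.1
  haveI := h𝒴.1
  exact ⟨FibLib.isFibGrpd_comp 𝒴.p 𝒳.p, fun U R hR => StkTopLib.restr_isEquivalence_tot (Stk.sieveIncl R)
    (h𝒳.2 R hR) fun H => StkTopLib.restr_overIncl_isEquivalence H J h𝒴 hR⟩

end Groth.Agent.S12805
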