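import Groth.Statements.S12806
import Groth.Agent.FibLib.Fp

set_option autoImplicit false
open CategoryTheory
universe v u
open FibCat

namespace Groth.Agent.S12806

/-- Let `𝒮` be fibred in groupoids over `C`, `U` an object of `C` and `x, y : C/U ⟶ 𝒮` two functors over
`C` (objects over `U` in 2-Yoneda form), with `e` the 2-isomorphism identifying their composites
with the structure functor. Then the 2-fibre product over `C` of `(x, y) : C/U ⟶ 𝒮 ×_C 𝒮` with the
diagonal `𝒮 ⟶ 𝒮 ×_C 𝒮` is fibred in setoids over `C/U` through its first projection. (The published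
statement is for a fibred category with `x`, `y` the functors given by chosen pullbacks; this row is
the case of a category fibred in groupoids, where every functor over `C` out of `C/U` is of that
kind.) -/
theorem result {C : Type u} [Category.{v} C] {𝒮 : BasedCategory.{v, max u v} C} (h𝒮 : FibCat.IsFibGrpd 𝒮.p)
    (U : C) (x y : FibCat.overCat U ⥤ᵇ 𝒮)
    (e : BasedFunctor.comp x (FibCat.toSelf 𝒮) ≅ BasedFunctor.comp y (FibCat.toSelf 𝒮)) :
    FibCat.IsFibSetoid (FibCat.fpFst (FibCat.fpLift x y e) (FibCat.diag (FibCat.toSelf 𝒮))).toFunctor := by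
  let P := FibCat.fpFst (FibCat.fpLift x y e) (FibCat.diag (FibCat.toSelf 𝒮))
  haveI : FibCat.IsFibGrpd (FibCat.fp (FibCat.toSelf 𝒮) (FibCat.toSelf 𝒮)).p := FibLib.isFibGrpd_fp
  haveI : FibCat.IsFibGrpd (P.toFunctor ⋙ Over.forget U) :=
    FibLib.isFibGrpd_fp (F := FibCat.fpLift x y e) (G := FibCat.diag (FibCat.toSelf 𝒮))
  refine ⟨@FibLib.isFibGrpd_of_comp_forget _ _ _ _ _ P.toFunctor ‹FibCat.IsFibGrpd (P.toFunctor ⋙ Over.forget U)›, fun W a b => ⟨fun φ ψ => ?_⟩⟩
  have h1 : φ.1.hom.fst = ψ.1.hom.fst := by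
    have h₁ : P.toFunctor.map φ.1 = _ := @IsHomLift.fac' _ _ _ _ P.toFunctor _ _ _ _ (𝟙 W) φ.1 φ.2
    have h₂ : P.toFunctor.map ψ.1 = _ := @IsHomLift.fac' _ _ _ _ P.toFunctor _ _ _ _ (𝟙 W) ψ.1 ψ.2
    exact h₁.trans h₂.symm
  refine Subtype.ext (FibLib.fp_hom_ext h1 ?_)
  haveI := FibLib.diag_faithful (FibCat.toSelf 𝒮)
  apply (FibCat.diag (FibCat.toSelf 𝒮)).toFunctor.map_injective
  rw [← cancel_epi a.1.obj.iso.hom, ← φ.1.hom.w, ← ψ.1.hom.w, h1]

end Groth.Agent.S12806
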