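import Groth.Statements.S12807
-- import your own Groth.Agent.* helpers here

set_option autoImplicit false
set_option backward.isDefEq.respectTransparency false
set_option backward.isDefEq.respectTransparency.types false
set_option linter.style.haveILetI false
open CategoryTheory CategoryTheory.Limits
universe v₃ u₃ v₂ u₂ v u
open FibCat

namespace Groth.Agent.S12807

/-- Let `u : C ⥤ D` be a functor and `𝒮` a category over `D` whose structure functor is a fibred
category. Then the 2-fibre product `C ×_D 𝒮` of `u` and the structure functor (triples `(U, y, u U ≅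
p y)`), with its first projection, is a fibred category over `C`. (The published statement uses the
strict fibre product, pairs with `u U = p y`; for `𝒮` fibred over `D` it is equivalent over `C` to
the 2-fibre product used here.) -/
theorem result {C : Type u} [Category.{v} C] {D : Type u₂} [Category.{v₂} D] (u : C ⥤ D)
    (𝒮 : BasedCategory.{v₃, u₃} D) [𝒮.p.IsFibered] :
    (CategoricalPullback.π₁ u 𝒮.p).IsFibered := by
  refine Functor.IsFibered.of_exists_isStronglyCartesian fun x V f => ?_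
  obtain ⟨U, y, α⟩ := x
  let k : u.obj V ⟶ 𝒮.p.obj y := u.map f ≫ α.hom
  let ψ := Functor.IsPreFibered.pullbackMap (p := 𝒮.p) rfl k
  have hy := IsHomLift.domain_eq 𝒮.p k ψ
  let x' : CategoricalPullback u 𝒮.p := ⟨V, Functor.IsPreFibered.pullbackObj (p := 𝒮.p) rfl k, eqToIso hy.symm⟩
  have hk : 𝒮.p.map ψ = eqToHom hy ≫ k := by simpa using IsHomLift.fac' 𝒮.p k ψ
  let φ : x' ⟶ ⟨U, y, α⟩ := ⟨f, ψ, by simp [x', hk, k] <;> rfl⟩
  refine ⟨x', φ, @Functor.IsStronglyCartesian.mk _ _ _ _ (CategoricalPullback.π₁ u 𝒮.p) _ _ _ _ f φ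
    (IsHomLift.map (CategoricalPullback.π₁ u 𝒮.p) φ) ?_⟩
  intro z g m hm
  have hm' : g ≫ f = m.fst := IsHomLift.eq_of_isHomLift (p := CategoricalPullback.π₁ u 𝒮.p) (g ≫ f) m
  have hms : 𝒮.p.map m.snd = (z.iso.inv ≫ u.map g) ≫ k := by
    have h := z.iso.inv ≫= m.w
    rw [Iso.inv_hom_id_assoc] at h
    rw [← h]
    show z.iso.inv ≫ u.map m.fst ≫ α.hom = _
    rw [← hm']
    simp [k]
  haveI : 𝒮.p.IsHomLift (𝒮.p.map m.snd) m.snd := inferInstance
  let s := Functor.IsStronglyCartesian.map 𝒮.p k ψ hms m.snd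
  have hs : s ≫ ψ = m.snd := Functor.IsStronglyCartesian.fac 𝒮.p k ψ hms m.snd
  have hs' : 𝒮.p.map s = (z.iso.inv ≫ u.map g) ≫ eqToHom hy.symm := by
    simpa using IsHomLift.fac' 𝒮.p (z.iso.inv ≫ u.map g) s
  let χ : z ⟶ x' := ⟨g, s, by simp [x', hs']⟩
  refine ⟨χ, ⟨IsHomLift.map (CategoricalPullback.π₁ u 𝒮.p) χ, CategoricalPullback.hom_ext hm' hs⟩,
    fun χ' ⟨h₁, h₂⟩ => ?_⟩
  haveI := h₁
  have e₁ : χ'.fst = g := (@IsHomLift.eq_of_isHomLift _ _ _ _ (CategoricalPullback.π₁ u 𝒮.p) z x' g χ' h₁).symm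
  refine CategoricalPullback.hom_ext e₁ ?_
  have hw : 𝒮.p.map χ'.snd = (z.iso.inv ≫ u.map g) ≫ eqToHom hy.symm := by
    have := z.iso.inv ≫= χ'.w
    rw [e₁, Iso.inv_hom_id_assoc] at this
    rw [← this]
    simp [x']
  haveI : 𝒮.p.IsHomLift (z.iso.inv ≫ u.map g) χ'.snd := IsHomLift.of_fac' _ _ _ rfl hy (by simp [hw])
  exact Functor.IsStronglyCartesian.map_uniq 𝒮.p k ψ hms m.snd χ'.snd (congrArg (fun m => CategoricalPullback.Hom.snd m) h₂)

end Groth.Agent.S12807
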