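import Groth.Statements.S12833
import Groth.Agent.AlgPtLiftLib.Stack

set_option autoImplicit false
universe u
open CategoryTheory AlgebraicGeometry
open AlgSt
open FibCat FibLib

set_option backward.isDefEq.respectTransparency false
set_option backward.isDefEq.respectTransparency.types false

namespace Groth.Agent.S12833

/-- Let `f : 𝒳 ⟶ 𝒴` be a morphism of algebraic stacks over `S` whose diagonal is surjective on points
(for morphisms of algebraic stacks this is the same as universally injective; the published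
statement assumes the latter), `k` an algebraically closed field and `y : Spec k ⟶ 𝒴` whose point
lies in the image of `|𝒳| → |𝒴|`. Then `y` itself lifts: there is `x : Spec k ⟶ 𝒳` with `f ∘ x ≅ y`,
no field extension being needed. -/
theorem result {S : Scheme.{u}} {𝒳 𝒴 : AlgSt.Cat S}
    (h𝒳 : AlgSt.IsAlgStack Scheme.fppfPrecoverage 𝒳) (h𝒴 : AlgSt.IsAlgStack Scheme.fppfPrecoverage 𝒴) (f : 𝒳 ⥤ᵇ 𝒴) (hΔ : AlgSt.IsSurjective (FibCat.diag f))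
    (k : Type u) [Field k] [IsAlgClosed k] (s : Spec (CommRingCat.of k) ⟶ S) (y : 𝒴.obj)
    (hy : 𝒴.p.obj y = Over.mk s)
    (h : AlgSt.Points.mk ⟨k, s, y, hy⟩ ∈ Set.range (AlgSt.Points.map f)) :
    ∃ (x : 𝒳.obj) (φ : f.obj x ⟶ y), 𝒳.p.obj x = Over.mk s ∧ 𝒴.p.IsHomLift (𝟙 (Over.mk s)) φ := by
  haveI := h𝒳.isStack.1
  haveI := h𝒴.isStack.1
  let T : Over S := Over.mk s
  let fb : 𝒴.p.Fiber T := CategoryTheory.Functor.Fiber.mk (p := 𝒴.p) (a := y) hy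
  obtain ⟨κ⟩ := FibLib.nonempty_evalAtId_ofPoint_iso fb
  let u : FibCat.overCat T ⥤ᵇ 𝒴 := FibLib.ofPoint fb
  haveI hκ : 𝒴.p.IsHomLift (𝟙 T) κ.hom.1 := κ.hom.2
  obtain ⟨x', hx'⟩ := h
  let zp : AlgSt.FPt (FibCat.overCat T) := { K := k, str := s, obj := Over.mk (𝟙 T), lies := rfl }
  have hzp : AlgSt.Points.map u (AlgSt.Points.mk zp) = AlgSt.Points.map f x' := by
    rw [hx']
    exact AlgStBig.mk_eq_of_hom (p := zp.map u) (q := ⟨k, s, y, hy⟩) κ.hom.1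
  obtain ⟨w, -, -⟩ := AlgStBig.exists_point_fp _ _ hzp
  haveI : IsFibGrpd (FibCat.fp u f).p := FibLib.isFibGrpd_fp
  obtain ⟨V, x, hx, hxs⟩ :=
    (AlgStSetoidLib.isAlgStack_fp' (AlgStSetoidLib.isAlgStack_overCat T) h𝒳 h𝒴 u f).atlas
  obtain ⟨v, -⟩ := AlgStBig.surjective_of_repByAlgSpWith hxs w
  obtain ⟨pv, rfl⟩ := AlgSt.Points.mk_surjective v
  haveI : Nonempty V.left :=
    ⟨(eqToHom pv.lies.symm ≫ pv.obj.hom).left (IsLocalRing.closedPoint pv.K)⟩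
  obtain ⟨σ, hσ⟩ := AlgPtLiftLib.exists_rational_of_atlas f h𝒳 h𝒴 hΔ k s u x hx
  let z := x.obj (Over.mk σ)
  have hz : z.obj.fst.left = T := x.w_obj (Over.mk σ)
  let θ : z.obj.fst ⟶ Over.mk (𝟙 T) := Over.homMk (eqToHom hz) (by
    rw [AlgPtLiftLib.fst_hom f u x (Over.mk σ)]
    show eqToHom hz ≫ 𝟙 T = eqToHom _ ≫ σ ≫ AlgPtLiftLib.atlasHom f u x
    rw [hσ])
  haveI hθ : (FibCat.overCat T).p.IsHomLift (𝟙 T) θ := IsHomLift.of_fac _ _ _ hz rfl (by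
    show 𝟙 T = eqToHom hz.symm ≫ eqToHom hz ≫ 𝟙 _
    simp)
  haveI h1 : 𝒴.p.IsHomLift (𝟙 T) z.obj.iso.hom := AlgStSetoidLib.isHomLift_id_congr hz z.property
  haveI h2 : 𝒴.p.IsHomLift (𝟙 T) z.obj.iso.inv := IsHomLift.lift_id_inv _ _ _
  haveI h3 : 𝒴.p.IsHomLift (𝟙 T) (u.map θ) := u.preserves_isHomLift _ _
  let κ₁ : u.obj (Over.mk (𝟙 T)) ⟶ y := κ.hom.1
  haveI : 𝒴.p.IsHomLift (𝟙 T) κ₁ := hκ
  exact ⟨z.obj.snd, z.obj.iso.inv ≫ u.map θ ≫ κ₁, ((FibCat.fpSnd u f).w_obj z).trans hz,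
    inferInstanceAs (𝒴.p.IsHomLift (𝟙 T) (z.obj.iso.inv ≫ u.map θ ≫ κ₁))⟩
end Groth.Agent.S12833
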