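import Groth.Statements.S12837
import Mathlib
import Groth.Agent.TorsFpqcLib.Basic
import Groth.Agent.AlgSpLib.Fpqc
-- import your own Groth.Agent.* helpers here

set_option autoImplicit false
set_option backward.isDefEq.respectTransparency false
universe u
open CategoryTheory AlgebraicGeometry
open NonAbH1

namespace Groth.Agent.S12837

/-- A locally trivial scheme surjects to the base. -/
theorem surjective_of_trivial {S : Scheme.{u}} {X : Over S}
    (h : NonAbH1.IsLocallyTrivialFor Scheme.fpqcPrecoverage X) : Surjective X.hom := by
  refine ⟨fun s => ?_⟩
  obtain ⟨U, hU, hsU, -⟩ := exists_isAffineOpen_mem_and_subset (X := S) (x := s) (U := ⊤) trivial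
  obtain ⟨W, c, -, hcs, -, ⟨p⟩⟩ := Groth.Agent.TorsFpqc.exists_local_section h hU
  obtain ⟨w, hw⟩ := hcs.surj ⟨s, hsU⟩
  refine ⟨p.left w, ?_⟩
  rw [← Scheme.Hom.comp_apply, Over.w p]
  show U.ι (c w) = s
  rw [hw]
  rfl

/-- Let `G` be a group scheme over `S` which is flat and locally of finite presentation over `S`, acting
on an `S`-scheme `X`. If `X` is a principal homogeneous space under `G` — a pseudo-torsor which
acquires sections on the members of some fpqc covering family of `S` — then `X` is a `G`-torsor for
the fppf topology: it acquires sections on the members of some fppf covering family of `S`. (The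
published statement is the equivalence of the stack of fppf torsors with the stack of principal
homogeneous spaces for a group algebraic space `G` flat and locally of finite presentation over an
algebraic space `B`, torsors being algebraic spaces; this row is its content for `B = S`, `G` a
scheme and a torsor that is a scheme, the other inclusion being the comparison of the two
topologies.) -/
theorem result {S : Scheme.{u}}
    (G X : Over S) [GrpObj G] [Flat G.hom] [LocallyOfFinitePresentation G.hom] (a : AlgGrp.Action G X)
    (h : NonAbH1.IsTorsorFor Scheme.fpqcPrecoverage a) :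
    NonAbH1.IsTorsorFor Scheme.fppfPrecoverage a := by
  haveI : Flat X.hom := Groth.Agent.TorsFpqc.property_of_torsor @Flat a h ‹_›
  haveI : LocallyOfFinitePresentation X.hom :=
    Groth.Agent.TorsFpqc.property_of_torsor @LocallyOfFinitePresentation a h ‹_›
  haveI := surjective_of_trivial h.2
  refine ⟨h.1, Presieve.singleton X.hom, X.hom.singleton_mem_fppfPrecoverage, ?_⟩
  rintro S' f ⟨⟩
  exact ⟨𝟙 _, Category.id_comp _⟩

end Groth.Agent.S12837
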