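import Groth.Statements.S1284
import Groth.Agent.RGFlatLib.Setup
import Groth.Agent.RGFlatLib.Finite

set_option autoImplicit false
universe u
open FlatMor

namespace Groth.Agent.S1284

open AlgebraicGeometry CategoryTheory Limits in
/-- Let φ : X → S be proper with S quasi-compact and quasi-separated, and U ⊆ S a quasi-compact open
over which φ is finite locally free. Then there is a U-admissible blow-up b : S' → S such that the
strict transform X'' of X (the closed subscheme of X ×_S S' cut out by the functions locally killed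
by a power of the pulled-back exceptional ideal) is finite locally free over S'. -/
theorem result {X S : Scheme.{u}} [CompactSpace S] [QuasiSeparatedSpace S]
    (φ : X ⟶ S) [IsProper φ] (U : S.Opens) (hU : IsCompact (U : Set S)) (hfl : Mor2.IsFinLocFree (φ ∣_ U)) :
    ∃ (𝓘 : S.IdealSheafData) (S' : Scheme.{u}) (b : S' ⟶ S), BlowUp.IsBlowUp b 𝓘 ∧ BlowUp.IsAdmissibleFor U 𝓘 ∧
      ∀ (X' : Scheme.{u}) (p₁ : X' ⟶ X) (p₂ : X' ⟶ S'), IsPullback p₁ p₂ φ b →
      ∀ (𝒥 : X'.IdealSheafData),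
        (∀ (W : X'.affineOpens) (a : Γ(X', W.1)), a ∈ 𝒥.ideal W ↔
          BlowUp.KilledByPowerNear ((𝓘.comap φ).comap p₁) (Coh.structureModule X') W a) →
        Mor2.IsFinLocFree (𝒥.subschemeι ≫ p₂) := by
  obtain ⟨hfin, hflat', hlfp⟩ := hfl
  haveI := hflat'
  haveI := hlfp
  obtain ⟨𝓚, S', b, hb, hadm, hprop, -, hint, hall⟩ := RGFlatLib.exists_flattening_blowUp φ U hU
  refine ⟨𝓚, S', b, hb, hadm, fun X' p₁ p₂ hpb 𝒥 h𝒥 => ?_⟩
  obtain ⟨hF, hP, -, hι, -⟩ := hall X' p₁ p₂ hpb 𝒥 h𝒥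
  haveI := hF
  haveI : IsProper p₂ := MorphismProperty.of_isPullback hpb ‹IsProper φ›
  haveI : IsFinite (p₂ ∣_ (b ⁻¹ᵁ U)) := RGFlatLib.restrict_of_isPullback (P := @IsFinite) hpb.flip hfin
  haveI := hι
  haveI : IsFinite ((𝒥.subschemeι ≫ p₂) ∣_ (b ⁻¹ᵁ U)) := by
    rw [morphismRestrict_comp]
    exact MorphismProperty.comp_mem (W := @IsFinite) _ _
      (IsZariskiLocalAtTarget.restrict (P := @IsFinite) (inferInstanceAs (IsFinite 𝒥.subschemeι)) _) ‹_›
  haveI : IsAffineHom (b ⁻¹ᵁ U).ι := hint ▸ ModPairLib.isAffineHom_interior hb.1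
  have hdense : Dense ((b ⁻¹ᵁ U : S'.Opens) : Set S') := by
    rw [← hint]
    haveI := ModPairLib.isAffineHom_interior hb.1
    haveI := ModPairLib.isDominant_interior hb.1
    have hd : IsDominant (ModPair.interior (𝓚.comap b)).ι := inferInstance
    have h2 : Dense (Set.range (ModPair.interior (𝓚.comap b)).ι) := hd.denseRange
    rwa [Scheme.Opens.range_ι] at h2
  exact ⟨RGFlatLib.isFinite_of_finite_over_dense _ (b ⁻¹ᵁ U) hdense, hF, hP⟩

end Groth.Agent.S1284
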