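import Groth.Statements.S1285
import Mathlib
import Groth.Agent.FlatInjLib.GenericFibre
-- import your own Groth.Agent.* helpers here

set_option autoImplicit false
universe u
open FlatMor

namespace Groth.Agent.S1285

/-- Let (C, D, G) be a one-step dévissage of N/S/R over the prime p (see FlatCA.IsOneStepDevissage), and
suppose pD is prime (the generic point of the fibre of Spec D). Then there are r > 0 and a D-linear
map α from D^r to G which becomes bijective after base change to the residue field of pD; moreover
for every such α the support of the fibre module over p of the cokernel of α has dimension strictly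
less than that of the fibre module of N. -/
theorem result {R S : Type u} [CommRing R] [CommRing S] [Algebra R S] [Algebra.FiniteType R S]
    (N : Type u) [AddCommGroup N] [Module S N] [Module R N] [IsScalarTower R S N] [Module.Finite S N] (p : Ideal R) [p.IsPrime]
    (C D G : Type u) [CommRing C] [CommRing D] [Algebra S C] [Algebra R C] [IsScalarTower R S C]
    [Algebra R D] [Algebra D C] [IsScalarTower R D C] [AddCommGroup G] [Module C G] [Module S G] [IsScalarTower S C G]
    [Module D G] [IsScalarTower D C G] [Module R G] [IsScalarTower R D G]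
    (n : ℕ) (h : FlatCA.IsOneStepDevissage R S N p C D G n) [(p.map (algebraMap R D)).IsPrime] :
    (∃ (r : ℕ) (α : (Fin r → D) →ₗ[D] G), 0 < r ∧ Function.Bijective (α.baseChange (p.map (algebraMap R D)).ResidueField)) ∧
    ∀ (r : ℕ) (α : (Fin r → D) →ₗ[D] G), Function.Bijective (α.baseChange (p.map (algebraMap R D)).ResidueField) →
      Module.supportDim (p.Fiber D) (FlatCA.fiberMod p D (G ⧸ LinearMap.range α)) < (n : WithBot ℕ∞) := by
  classical
  obtain ⟨⟨e⟩, hsurj, -, hDC, hCG, hsm, hirr, hdim⟩ := h
  haveI := hDC
  haveI := hCG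
  haveI : Module.Finite D G := Module.Finite.trans C G
  obtain ⟨hdom, hne⟩ := FlatInjLib.fibre_isDomain hirr p
  haveI := hdom
  let P := p.map (algebraMap R D)
  let F := p.Fiber D
  have hF := FlatInjLib.ringKrullDim_fibre_le hsm p
  have hkill : ∀ (M : Type u) [AddCommGroup M] [Module D M] [Module.Finite D M],
      Subsingleton (TensorProduct D P.ResidueField M) → ∃ d, d ∉ P ∧ ∀ m : M, d • m = 0 := by
    intro M _ _ _ hM
    have hnot : (⟨P, inferInstance⟩ : PrimeSpectrum D) ∉ Module.support D M := fun hmem => by
      have := Module.mem_support_iff_nontrivial_residueField_tensorProduct _ |>.1 hmem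
      exact not_nontrivial (TensorProduct D P.ResidueField M) this
    rw [Module.support_eq_zeroLocus, PrimeSpectrum.mem_zeroLocus, SetLike.coe_subset_coe,
      SetLike.not_le_iff_exists] at hnot
    obtain ⟨d, hd, hdP⟩ := hnot
    exact ⟨d, hdP, fun m => Module.mem_annihilator.1 hd m⟩
  refine ⟨?_, fun r α hα => ?_⟩
  swap
  · let Q := G ⧸ LinearMap.range α
    have hQ : Subsingleton (TensorProduct D P.ResidueField Q) := by
      refine subsingleton_of_forall_eq 0 fun z => ?_
      obtain ⟨w, rfl⟩ := LinearMap.lTensor_surjective P.ResidueField (g := (LinearMap.range α).mkQ)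
        (Submodule.mkQ_surjective _) z
      obtain ⟨v, rfl⟩ := hα.2 w
      show ((LinearMap.range α).mkQ.lTensor P.ResidueField ∘ₗ α.lTensor P.ResidueField) v = 0
      rw [← LinearMap.lTensor_comp, show (LinearMap.range α).mkQ ∘ₗ α = 0 from
        LinearMap.ext fun x => (Submodule.Quotient.mk_eq_zero _).2 (LinearMap.mem_range_self α x),
        LinearMap.lTensor_zero, LinearMap.zero_apply]
    obtain ⟨d, hdP, hd⟩ := hkill Q hQ
    haveI : Module.Finite F (FlatCA.fiberMod p D Q) := by
      letI : Algebra D F := Algebra.TensorProduct.rightAlgebra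
      exact Module.Finite.base_change D F Q
    rw [Module.supportDim_eq_ringKrullDim_quotient_annihilator]
    refine lt_of_le_of_lt ?_ (FlatInjLib.ringKrullDim_quotient_lt hF (hne d hdP))
    exact ringKrullDim_le_of_surjective (Ideal.Quotient.factor
      ((Ideal.span_singleton_le_iff_mem (I := Module.annihilator F (FlatCA.fiberMod p D Q))).2
        (Module.mem_annihilator.2 (FlatInjLib.incl_smul_eq_zero p d hd))))
      (Ideal.Quotient.factor_surjective _)
  -- the generic fibre of `G`
  let K := P.ResidueField
  let S₀ : Set (TensorProduct D K G) := Set.range fun x : G => TensorProduct.tmul D (1 : K) x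
  have hspan : Submodule.span K S₀ = ⊤ := by
    rw [eq_top_iff]
    intro z hz
    clear hz
    induction z using TensorProduct.induction_on with
    | zero => exact zero_mem _
    | add a b ha hb => exact add_mem ha hb
    | tmul k x =>
      rw [show TensorProduct.tmul D k x = k • TensorProduct.tmul D (1 : K) x by
        rw [TensorProduct.smul_tmul', smul_eq_mul, mul_one]]
      exact Submodule.smul_mem _ k (Submodule.subset_span ⟨x, rfl⟩)
  obtain ⟨b, hb1, hb2, hb3⟩ := exists_linearIndependent K S₀
  haveI : Finite b := hb3.finite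
  let bb : Module.Basis b K (TensorProduct D K G) := Module.Basis.mk hb3 (by
    rw [Subtype.range_coe, hb2, hspan])
  letI : Fintype b := Fintype.ofFinite b
  let ε := Fintype.equivFin b
  let B' := bb.reindex ε
  choose x hx using fun i : Fin (Fintype.card b) => (hb1 (ε.symm i).2)
  let α : (Fin (Fintype.card b) → D) →ₗ[D] G := Fintype.linearCombination D x
  let B0 := Algebra.TensorProduct.basis K (Pi.basisFun D (Fin (Fintype.card b)))
  have hbij : Function.Bijective (α.baseChange K) := by
    have he : (α.baseChange K) = (B0.equiv B' (Equiv.refl _)).toLinearMap := B0.ext fun i => by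
      rw [LinearEquiv.coe_coe, Module.Basis.equiv_apply, Equiv.refl_apply]
      simp [B0, B', bb, α, Pi.basisFun_apply, Fintype.linearCombination_apply_single, ← hx]
    rw [he]
    exact (B0.equiv B' (Equiv.refl _)).bijective
  refine ⟨Fintype.card b, α, ?_, hbij⟩
  by_contra hr
  have hsub : Subsingleton (TensorProduct D K G) := by
    haveI : IsEmpty (Fin (Fintype.card b)) := ⟨fun i => hr (Nat.lt_of_le_of_lt (Nat.zero_le _) i.2)⟩
    exact B'.repr.toEquiv.subsingleton
  obtain ⟨d, hdP, hd⟩ := hkill G hsub
  let c := algebraMap D C d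
  let C₁ := C ⧸ Ideal.span {c}
  let g : S →ₐ[R] C₁ := (Ideal.Quotient.mkₐ R (Ideal.span {c})).comp (IsScalarTower.toAlgHom R S C)
  have hg : Function.Surjective g := Ideal.Quotient.mk_surjective.comp hsurj
  have hkerN : ∀ s, g s = 0 → ∀ y : N, s • y = 0 := fun s hs y => by
    obtain ⟨c', hc'⟩ := Ideal.mem_span_singleton.1
      (Ideal.Quotient.eq_zero_iff_mem.1 (show Ideal.Quotient.mk (Ideal.span {c}) (algebraMap S C s) = 0 from hs))
    apply e.injective
    rw [map_smul, map_zero, ← algebraMap_smul C s (e y), hc', mul_comm, mul_smul, algebraMap_smul, hd, smul_zero]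
  let π := Algebra.TensorProduct.map (AlgHom.id R p.ResidueField) g
  have hπ : Function.Surjective π := TensorProduct.map_surjective Function.surjective_id hg
  have hkerπ : RingHom.ker π ≤ Module.annihilator (p.Fiber S) (FlatCA.fiberMod p S N) := by
    rw [show RingHom.ker π = _ from Algebra.TensorProduct.lTensor_ker g hg, Ideal.map_le_iff_le_comap]
    intro s hs
    exact Module.mem_annihilator.2 (FlatInjLib.incl_smul_eq_zero p s (hkerN s hs))
  haveI : Module.Finite (p.Fiber S) (FlatCA.fiberMod p S N) := by
    letI : Algebra S (p.Fiber S) := Algebra.TensorProduct.rightAlgebra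
    exact Module.Finite.base_change S (p.Fiber S) N
  have h1 : Module.supportDim (p.Fiber S) (FlatCA.fiberMod p S N) ≤ ringKrullDim (p.Fiber C₁) := by
    rw [Module.supportDim_eq_ringKrullDim_quotient_annihilator,
      ← ringKrullDim_eq_of_ringEquiv (RingHom.quotientKerEquivOfSurjective (f := π.toRingHom) hπ)]
    exact ringKrullDim_le_of_surjective (Ideal.Quotient.factor hkerπ) (Ideal.Quotient.factor_surjective _)
  let φ : F →+* p.Fiber C₁ :=
    (Algebra.TensorProduct.map (AlgHom.id R p.ResidueField) (IsScalarTower.toAlgHom R D C₁)).toRingHom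
  have hφd : Ideal.span {FibAssLib.incl D p d} ≤ RingHom.ker φ := by
    rw [Ideal.span_singleton_le_iff_mem, RingHom.mem_ker]
    show TensorProduct.tmul R (1 : p.ResidueField) (Ideal.Quotient.mk (Ideal.span {c}) c) = 0
    rw [Ideal.Quotient.eq_zero_iff_mem.2 (Ideal.mem_span_singleton_self c), TensorProduct.tmul_zero]
  haveI : Module.Finite D C₁ := Module.Finite.of_surjective
    ((Ideal.Quotient.mkₐ D (Ideal.span {c})).toLinearMap) Ideal.Quotient.mk_surjective
  have hφint : φ.IsIntegral := by
    intro z
    induction z using TensorProduct.induction_on with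
    | zero => exact RingHom.isIntegralElem_zero φ
    | add a b ha hb => exact RingHom.IsIntegralElem.add φ ha hb
    | tmul k c₁ =>
      have h2 : φ.IsIntegralElem (TensorProduct.tmul R (1 : p.ResidueField) c₁) := by
        obtain ⟨q, hq, hq0⟩ := Algebra.IsIntegral.isIntegral (R := D) c₁
        refine ⟨q.map (FibAssLib.incl D p), hq.map _, ?_⟩
        rw [Polynomial.eval₂_map]
        have := congrArg (FibAssLib.incl C₁ p) hq0
        rw [Polynomial.hom_eval₂, map_zero] at this
        exact this
      rw [show TensorProduct.tmul R k c₁ = φ (TensorProduct.tmul R k (1 : D)) * TensorProduct.tmul R (1 : p.ResidueField) c₁ by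
        show _ = TensorProduct.tmul R k (algebraMap D C₁ 1) * TensorProduct.tmul R (1 : p.ResidueField) c₁
        rw [map_one, Algebra.TensorProduct.tmul_mul_tmul, mul_one, one_mul]]
      exact RingHom.IsIntegralElem.mul φ (RingHom.isIntegralElem_map φ) h2
  let ψ : F ⧸ Ideal.span {FibAssLib.incl D p d} →+* p.Fiber C₁ :=
    Ideal.Quotient.lift _ φ fun y hy => hφd hy
  letI : Algebra (F ⧸ Ideal.span {FibAssLib.incl D p d}) (p.Fiber C₁) :=
    RingHom.toAlgebra (R := F ⧸ Ideal.span {FibAssLib.incl D p d}) (S := p.Fiber C₁) ψ
  haveI : Algebra.IsIntegral (F ⧸ Ideal.span {FibAssLib.incl D p d}) (p.Fiber C₁) :=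
    ⟨RingHom.IsIntegral.tower_top (Ideal.Quotient.mk _) ψ (by rw [Ideal.Quotient.lift_comp_mk]; exact hφint)⟩
  have h3 := (h1.trans (CohenLib.ringKrullDim_le_of_isIntegral (F ⧸ Ideal.span {FibAssLib.incl D p d}) (p.Fiber C₁))).trans_lt
    (FlatInjLib.ringKrullDim_quotient_lt hF (hne d hdP))
  exact absurd hdim h3.ne

end Groth.Agent.S1285
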