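import Groth.Statements.S12857
import Groth.Agent.AlgStLib.UnivInj

set_option autoImplicit false
open CategoryTheory AlgebraicGeometry
universe u
open AlgSt

namespace Groth.Agent.S12857

/-- (2) ⇔ (3): an algebraic stack `𝒳` over `S` admits a surjective smooth morphism from an affine scheme
if and only if it admits one from a quasi-compact scheme. -/
theorem result {S : Scheme.{u}} {𝒳 : AlgSt.Cat S}
    (h𝒳 : AlgSt.IsAlgStack Scheme.fppfPrecoverage 𝒳) :
    AlgSt.IsQuasiCompact 𝒳 ↔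
      ∃ (U : Over S) (x : FibCat.overCat U ⥤ᵇ 𝒳), CompactSpace ↥U.left ∧
        AlgSt.RepByAlgSpWith (AlgSp.LocP @Smooth) x ∧ AlgSt.RepByAlgSpWith AlgSp.IsSurjectiveMor x := by
  haveI := AlgStLib.isFibGrpd_of_isAlgStack h𝒳
  constructor
  · rintro ⟨U, x, hU, hx, hxs⟩
    haveI := hU
    exact ⟨U, x, inferInstance, hx, hxs⟩
  · rintro ⟨U, x, hU, -, hxs⟩
    haveI := hU
    exact AlgStLib.isQuasiCompact_of_compactSpace h𝒳.atlas
      ⟨(AlgStLib.surjective_ofChart hxs).range_eq ▸ isCompact_range (AlgStLib.continuous_ofChart h𝒳.atlas x)⟩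

end Groth.Agent.S12857
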