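import Groth.Statements.S1288
import Groth.Agent.RGFlatLib.Graph

set_option autoImplicit false
universe u
open FlatMor

namespace Groth.Agent.S1288

open AlgebraicGeometry CategoryTheory Limits in
/-- Let S be quasi-compact and quasi-separated, g : U → S separated and of finite type, V ⊆ U a
quasi-compact open, and j : V → Y a quasi-compact open immersion over S into a scheme Y proper over
S. Then there are a blow-up b : Y' → Y in a finite type ideal with support disjoint from j(V), an
open V' of Y' containing b⁻¹(j(V)), and a proper morphism h : V' → U which extends V → U: on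
b⁻¹(j(V)) it is the identification with V followed by the inclusion of V in U. -/
theorem result {U S Y : Scheme.{u}} [CompactSpace S] [QuasiSeparatedSpace S]
    (g : U ⟶ S) [IsSeparated g] [LocallyOfFiniteType g] [QuasiCompact g]
    (V : U.Opens) (hV : IsCompact (V : Set U)) (j : (V : Scheme.{u}) ⟶ Y) [IsOpenImmersion j] [QuasiCompact j]
    (πY : Y ⟶ S) [IsProper πY] (hj : j ≫ πY = V.ι ≫ g) :
    ∃ (𝓘 : Y.IdealSheafData) (Y' : Scheme.{u}) (b : Y' ⟶ Y), BlowUp.IsBlowUp b 𝓘 ∧ BlowUp.IsAdmissibleFor j.opensRange 𝓘 ∧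
      ∃ (V' : Y'.Opens) (hle : b ⁻¹ᵁ j.opensRange ≤ V') (h : (V' : Scheme.{u}) ⟶ U),
        IsProper h ∧
        ∃ k : ((b ⁻¹ᵁ j.opensRange : Y'.Opens) : Scheme.{u}) ⟶ V,
          k ≫ j = (b ∣_ j.opensRange) ≫ j.opensRange.ι ∧ Y'.homOfLE hle ≫ h = k ≫ V.ι := by
  haveI : CompactSpace Y := QuasiCompact.compactSpace_of_compactSpace πY
  haveI : QuasiSeparatedSpace Y := quasiSeparatedSpace_of_quasiSeparated πY
  let σ : (V : Scheme.{u}) ⟶ pullback πY g := pullback.lift j V.ι hj
  have hσ₁ : σ ≫ pullback.fst πY g = j := pullback.lift_fst _ _ _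
  haveI : QuasiCompact (σ ≫ pullback.fst πY g) := by rw [hσ₁]; infer_instance
  haveI : QuasiCompact σ := QuasiCompact.of_comp σ (pullback.fst πY g)
  let φ : σ.image ⟶ Y := σ.imageι ≫ pullback.fst πY g
  have hφ : IsIso (φ ∣_ j.opensRange) := RGFlatLib.isIso_image_of_section σ (pullback.fst πY g) j hσ₁
  have hO : IsCompact (j.opensRange : Set Y) := by
    haveI : CompactSpace (V : Scheme.{u}) := isCompact_iff_compactSpace.mp hV
    rw [Scheme.Hom.coe_opensRange]
    exact isCompact_range j.continuous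
  obtain ⟨𝓚, Y', b, hb, hadm, hprop, -, hint, hall⟩ := RGFlatLib.exists_flattening_blowUp φ j.opensRange hO
  have hpb := IsPullback.of_hasPullback φ b
  obtain ⟨𝒥, h𝒥⟩ := RGFlatLib.exists_strictIdeal hb.1 (pullback.snd φ b)
  obtain ⟨hF, hP, hQ, hι, -⟩ := hall _ _ _ hpb 𝒥 (by rw [RGFlatLib.exceptional_eq hpb]; exact h𝒥)
  let o := 𝒥.subschemeι ≫ pullback.snd φ b
  haveI hisoO : IsIso (o ∣_ (b ⁻¹ᵁ j.opensRange)) :=
    RGFlatLib.strict_restrict hpb (MorphismProperty.isomorphisms Scheme.{u}) hφ hι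
  haveI : IsOpenImmersion o := by
    haveI : IsIso (o ∣_ ModPair.interior (𝓚.comap b)) := by rw [hint]; exact hisoO
    haveI := RGFlatLib.mono_of_flat_of_interior o hb.1
    exact IsOpenImmersion.of_flat_of_mono _
  have hbl := RGFlatLib.isBlowUp_strict hb hpb h𝒥
  haveI : IsProper (𝒥.subschemeι ≫ pullback.fst φ b) :=
    BlowUpLib.isProper_of_isBlowUp hbl (RGFlatLib.admissible_comap hadm φ).1
  haveI : IsProper (σ.imageι ≫ pullback.snd πY g) := inferInstance
  have hle : b ⁻¹ᵁ j.opensRange ≤ o.opensRange := fun y hy => by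
    obtain ⟨z, hz⟩ := (o ∣_ (b ⁻¹ᵁ j.opensRange)).homeomorph.surjective ⟨y, hy⟩
    refine ⟨z.1, ?_⟩
    have h := congrArg Subtype.val hz
    rw [Scheme.Hom.homeomorph_apply, morphismRestrict_base_coe] at h
    exact h
  refine ⟨𝓚, Y', b, hb, hadm, o.opensRange, hle,
    o.isoOpensRange.inv ≫ (𝒥.subschemeι ≫ pullback.fst φ b) ≫ (σ.imageι ≫ pullback.snd πY g), inferInstance,
    (b ∣_ j.opensRange) ≫ j.isoOpensRange.inv, ?_, ?_⟩
  · rw [Category.assoc, Scheme.Hom.isoOpensRange_inv_comp]
  · have key : Y'.homOfLE hle ≫ o.isoOpensRange.inv ≫ 𝒥.subschemeι ≫ pullback.fst φ b =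
        (b ∣_ j.opensRange) ≫ j.isoOpensRange.inv ≫ σ.toImage := by
      haveI := hφ
      refine ModPairLib.eq_of_isIso_restrict (s := φ) (V := j.opensRange) ?_ fun w => ?_
      · simp only [Category.assoc]
        rw [show σ.toImage ≫ φ = j by rw [Scheme.Hom.toImage_imageι_assoc, hσ₁], Scheme.Hom.isoOpensRange_inv_comp,
          morphismRestrict_ι, pullback.condition, ← Category.assoc 𝒥.subschemeι]
        rw [Scheme.Hom.isoOpensRange_inv_comp_assoc, Scheme.homOfLE_ι_assoc]
      · rw [← Scheme.Hom.comp_apply]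
        simp only [Category.assoc]
        rw [pullback.condition, ← Category.assoc 𝒥.subschemeι, Scheme.Hom.isoOpensRange_inv_comp_assoc, Scheme.homOfLE_ι_assoc]
        exact w.2
    have h2 : σ.toImage ≫ σ.imageι ≫ pullback.snd πY g = V.ι := by
      rw [Scheme.Hom.toImage_imageι_assoc, pullback.lift_snd]
    simp only [Category.assoc] at key ⊢
    rw [reassoc_of% key, h2]

end Groth.Agent.S1288
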