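import Groth.Statements.S12884
import Groth.Agent.ExtZQCohLib.Cond
import Groth.Agent.S12880
import Groth.Agent.DevissLib.ClosedImm

open Groth.Agent.ExtZQCohLib

set_option autoImplicit false
set_option backward.isDefEq.respectTransparency false
set_option backward.isDefEq.respectTransparency.types false
universe u
open CategoryTheory CategoryTheory.Limits TopologicalSpace AlgebraicGeometry
open Coherent

namespace Groth.Agent.S12884

/-- Let X be a locally Noetherian scheme whose local rings are all regular, Y a closed subset with open
complement U, F a coherent O_X-module, P the set of points of Y lying in the closure of (Supp F) ∩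
U, and n a natural number which is not the dimension of O_{X,x} for any x in P. Then ℰxt^n_Y(F, O_X)
is coherent. (Internal Hom of F and injective resolutions of O_X-modules are the stated instance
hypotheses, both true.) -/
theorem result (X : Scheme.{u}) [IsLocallyNoetherian X]
    (hreg : ∀ x : X, IsRegularLocalRing (X.presheaf.stalk x)) (U : X.Opens)
    (F : X.Modules) (hF : Coh.IsCoh F) (n : ℕ)
    (hn : ∀ x ∈ closure (CohB1.support F ∩ (U : Set X)), x ∉ (U : Set X) →
      ringKrullDim (X.presheaf.stalk x) ≠ (n : WithBot ℕ∞))
    [ModSite.HasSheafHom (O := X.sheaf) F] [HasInjectiveResolutions (ModSite.Mod X.sheaf)] :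
    Coh.IsCoh ((ModSite.extZSh (O := X.sheaf) U F n).obj (Coh.structureModule X)) := by
  haveI : HasInjectiveResolutions X.Modules := ‹HasInjectiveResolutions (ModSite.Mod X.sheaf)›
  obtain ⟨S, hS, rfl, h₁, h₃, hs₁, hs₃⟩ := exists_split U F hF
  haveI := ModSiteLib.hasSheafHom X.sheaf S.X₁
  haveI := ModSiteLib.hasSheafHom X.sheaf S.X₃
  have hO : Coh.IsCoh (Coh.structureModule X) := DevissLib.isCoh_structureModule X
  refine isCoh_extZSh_of_shortExact U hS _ hF hO.1 n ?_ (Groth.Agent.S12880.result X U S.X₁ _ h₁ hO hs₁ n)
  exact isZero_extZSh U S.X₃ h₃ n _ hO.1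
    (cond_of_dim_ne U S.X₃ hreg n (fun x hx hxU => hn x (hs₃ hx) hxU))

end Groth.Agent.S12884
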