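import Groth.Statements.S12899
import Groth.Agent.TwoTermLib.AwayQuot
import Groth.Agent.DRingLib.TorBalance

set_option autoImplicit false
universe u
open CategoryTheory CategoryTheory.Limits
attribute [local instance] HasDerivedCategory.standard
open DRing

namespace Groth.Agent.S12899

/-- Let R be a commutative ring, f ∈ R and M an object of D(R) such that (1) H^i(M) = 0 for i &gt; 0,
(2) in D(R_f), M ⊗^L_R R_f is isomorphic to a flat R_f-module concentrated in degree 0, and (3) in
D(R/fR), M ⊗^L_R R/fR is isomorphic to a flat R/fR-module concentrated in degree 0. Then, in D(R), M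
itself is isomorphic to a flat R-module concentrated in degree 0. (The derived base change functors
along R → R_f and R → R/fR are the stated instance hypotheses, both true.) -/
theorem result {R : Type u} [CommRing R] (f : R) (M : Dual.D R)
    [DRing.HasLBaseChange (algebraMap R (Localization.Away f))]
    [DRing.HasLBaseChange (Ideal.Quotient.mk (Ideal.span ({f} : Set R)))]
    (h1 : ∀ i : ℤ, 0 < i → Subsingleton (Dual.HD R M i))
    (h2 : ∃ (N : Type u) (_ : AddCommGroup N) (_ : Module (Localization.Away f) N),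
      Module.Flat (Localization.Away f) N ∧
        Nonempty ((DRing.LBaseChange (algebraMap R (Localization.Away f))).obj M ≅ Dual.inD (Localization.Away f) N))
    (h3 : ∃ (N : Type u) (_ : AddCommGroup N) (_ : Module (R ⧸ Ideal.span ({f} : Set R)) N),
      Module.Flat (R ⧸ Ideal.span ({f} : Set R)) N ∧
        Nonempty ((DRing.LBaseChange (Ideal.Quotient.mk (Ideal.span ({f} : Set R)))).obj M ≅
          Dual.inD (R ⧸ Ideal.span ({f} : Set R)) N)) :
    ∃ (N : Type u) (_ : AddCommGroup N) (_ : Module R N), Module.Flat R N ∧ Nonempty (M ≅ Dual.inD R N) := by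
  obtain ⟨P, hPb, hPf, ⟨e⟩⟩ := DRingLib.exists_free_rep M 0 fun i hi =>
    @ModuleCat.isZero_of_subsingleton _ _ _ (h1 i hi)
  have hfl : ∀ i, Module.Flat R (P.X i) := fun i => by have := hPf i; infer_instance
  have hP : DRing.IsKFlat R P := DRingLib.isKFlat_of_free P 0 hPb hPf
  have key : ∀ {S : Type u} [CommRing S] (φ : R →+* S) [DRing.HasLBaseChange φ],
      (∃ (N : Type u) (_ : AddCommGroup N) (_ : Module S N), Module.Flat S N ∧
        Nonempty ((DRing.LBaseChange φ).obj M ≅ Dual.inD S N)) →
      ∀ (X : Type u) [AddCommGroup X] [Module R X] [Module S X],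
        (∀ (r : R) (x : X), φ r • x = r • x) → ∀ i : ℤ, i < 0 →
        Function.Exact ((P.d (i - 1) i).hom.rTensor X) ((P.d i (i + 1)).hom.rTensor X) := by
    intro S _ φ _ ⟨N, _, _, hN, ⟨eN⟩⟩ X _ _ _ hX i hi
    exact (TwoTermLib.Nil.isZero_tensorN_iff P X i).1
      ((TwoTermLib.Nil.isZero_extCx_tensorN_iff φ P X hX i).1
        (DRingLib.amp_of_hasTorAmplitudeIn ((DRingLib.hasTorAmplitudeIn_zero_iff_flat N).2 hN)
          (KFlatLib.isKFlat_extend φ hP)
          ((DRingLib.lBaseChangeObjIso φ P hP).symm ≪≫ (DRing.LBaseChange φ).mapIso e ≪≫ eN)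
          (ModuleCat.of S X) i (Or.inl hi)))
  have hA : DRing.HasTorAmplitudeIn R 0 0 M := by
    refine DRingLib.hasTorAmplitudeIn_of_amp hP e fun N i hi => ?_
    rcases hi with hi | hi
    · have hd : ∀ a b c : ℤ, (P.d b c).hom ∘ₗ (P.d a b).hom = 0 := fun a b c => by
        rw [← ModuleCat.hom_comp, P.d_comp_d, ModuleCat.hom_zero]
      haveI := hfl i
      haveI := hfl (i + 1)
      refine (TwoTermLib.Nil.isZero_tensorN_iff P N i).2
        (TwoTermLib.AwayQuot.exact_of_away_of_quot (hd (i - 1 - 1) (i - 1) i) (hd _ _ _) f N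
          (key (algebraMap R (Localization.Away f)) h2 _
            (fun r x => algebraMap_smul (Localization.Away f) r x) i hi)
          fun X _ _ hX => ?_)
      have hT : Module.IsTorsionBySet R X (Ideal.span ({f} : Set R)) :=
        (Module.isTorsionBySet_span_singleton_iff f).2 fun x => hX x
      letI := hT.module
      have h := key (Ideal.Quotient.mk (Ideal.span ({f} : Set R))) h3 X (fun r x => hT.mk_smul r x)
      refine ⟨?_, h i hi⟩
      have h' := h (i - 1) (by omega)
      rw [sub_add_cancel] at h'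
      exact h'
    · exact (HomologicalComplex.exactAt_iff_isZero_homology _ i).mp
        (ShortComplex.exact_of_isZero_X₂ _
          ((MonoidalCategory.tensorRight N).map_isZero (hPb i hi)))
  obtain ⟨E, hE, hf, ⟨eE⟩⟩ := hA
  haveI : E.IsStrictlyGE 0 :=
    (CochainComplex.isStrictlyGE_iff E 0).mpr fun i hi => hE i (Or.inl hi)
  haveI : E.IsStrictlyLE 0 :=
    (CochainComplex.isStrictlyLE_iff E 0).mpr fun i hi => hE i (Or.inr hi)
  obtain ⟨X, ⟨e'⟩⟩ := CochainComplex.exists_iso_single E 0
  let eX : M ≅ Dual.inD R X :=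
    eE.symm ≪≫ DerivedCategory.Q.mapIso e' ≪≫
      ((DerivedCategory.singleFunctorIsoCompQ (ModuleCat.{u} R) 0).app X).symm
  exact ⟨X, _, _, (DRingLib.hasTorAmplitudeIn_zero_iff_flat X).1 ⟨E, hE, hf, ⟨eE ≪≫ eX⟩⟩, ⟨eX⟩⟩

end Groth.Agent.S12899
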