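import Groth.Statements.S12901
import Groth.Agent.S0056
import Groth.Agent.PicH1Lib.Adic
import Groth.Agent.PicH1Lib.Lift
import Groth.Agent.AlgzLib.SysIso

set_option autoImplicit false
universe u
open CategoryTheory CategoryTheory.Limits AlgebraicGeometry
open FSch

namespace Groth.Agent.S12901

/-- Let A be a complete Noetherian local ring with maximal ideal m, and 𝔛 a formal scheme proper and
flat over A, presented as an adic system X_0 → X_1 → ⋯ over the thickenings Spec(A/m^{n+1}) (the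
structure morphism is adic with proper level 0, and every level X_n → Spec(A/m^{n+1}) is flat). If
X_0 is projective (it carries an ample invertible sheaf) and H^2(X_0, O_{X_0}) = 0, then 𝔛 is the
m-adic completion of a projective A-scheme: there are a proper A-scheme X carrying an ample
invertible sheaf and an isomorphism of systems, over the base, between 𝔛 and the completion of X
along the pulled-back ideal. -/
theorem result (A : Type u) [CommRing A] [IsLocalRing A]
    [IsNoetherianRing A] [IsAdicComplete (IsLocalRing.maximalIdeal A) A]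
    (𝔛 : FSch.Sys.{u}) (f : 𝔛 ⟶ FSch.completionAlong (Spec (CommRingCat.of A)) (FSch.idealSpec A (IsLocalRing.maximalIdeal A)))
    (hf : FSch.IsProperHom f) (hflat : ∀ n : ℕ, Flat ((f : FSch.Hom _ _).app n))
    (hproj : ∃ L₀ : (𝔛.X 0).Modules, CohB1.IsAmple L₀)
    (hH2 : Subsingleton (Coh.HH (𝔛.X 0) (Coh.structureModule (𝔛.X 0)) 2)) :
    ∃ (X : Scheme.{u}) (g : X ⟶ (Spec (CommRingCat.of A))) (L : X.Modules), IsProper g ∧ CohB1.IsAmple L ∧
      ∃ (h : FSch.PowCompat g ((FSch.idealSpec A (IsLocalRing.maximalIdeal A)).comap g) (FSch.idealSpec A (IsLocalRing.maximalIdeal A)))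
        (e : 𝔛 ≅ FSch.completionAlong X ((FSch.idealSpec A (IsLocalRing.maximalIdeal A)).comap g)),
        e.hom ≫ FSch.completionMap g ((FSch.idealSpec A (IsLocalRing.maximalIdeal A)).comap g) (FSch.idealSpec A (IsLocalRing.maximalIdeal A)) h = f := by
  obtain ⟨L₀, hL₀⟩ := hproj
  let m := IsLocalRing.maximalIdeal A
  let c := fun n => AlgzLib.specLevel m n
  let fs : ∀ n : ℕ, 𝔛.X n ⟶ Spec (CommRingCat.of (A ⧸ m ^ (n + 1))) :=
    fun n => (f : FSch.Hom _ _).app n ≫ (c n).hom
  have hcart : ∀ n, IsPullback (𝔛.ι n) (fs n) (fs (n + 1)) (CohB1.specQuotTrans m n) := fun n =>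
    (hf.1 n).paste_vert (IsPullback.of_vert_isIso ⟨AlgzLib.specLevel_trans m n⟩)
  have hflat' : ∀ n, Flat (fs n) := fun n => by
    haveI := hflat n
    exact inferInstanceAs (Flat ((f : FSch.Hom _ _).app n ≫ (c n).hom))
  haveI := hf.2
  have hproper : IsProper (fs 0) := inferInstanceAs (IsProper ((f : FSch.Hom _ _).app 0 ≫ (c 0).hom))
  have hlift : ∀ (n : ℕ) (N : {L : (𝔛.X n).Modules // PicF.IsInvertible L}),
      ∃ L : {L : (𝔛.X (n + 1)).Modules // PicF.IsInvertible L},
        Nonempty ((Scheme.Modules.pullback (𝔛.ι n)).obj L.1 ≅ N.1) := fun n N => by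
    haveI := (PicH1Lib.step hcart n).1
    obtain ⟨L, hL, hi⟩ := PicH1Lib.exists_pullback_iso (𝔛.ι n) (PicH1Lib.step hcart n).2
      (PicH1Lib.subsingleton_HH_step hcart hflat' n 2 hH2) N.2
    exact ⟨⟨L, hL⟩, hi⟩
  let Ls : ∀ n, {L : (𝔛.X n).Modules // PicF.IsInvertible L} :=
    fun n => Nat.rec ⟨L₀, hL₀.1⟩ (fun k L => (hlift k L).choose) n
  obtain ⟨Y, g, M, e, hg, -, hM, he, hi, -⟩ := Groth.Agent.S0056.result A m 𝔛.X fs 𝔛.ι hcart hproper
    (fun n => (Ls n).1) (fun n => (Ls n).2) (fun n => (hlift n (Ls n)).choose_spec) hL₀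
  obtain ⟨h, i, hiso⟩ := AlgzLib.exists_iso_completionAlong g (FSch.idealSpec A m) f e hi (fun n =>
    (he n).of_iso (Iso.refl _) (Iso.refl _) (c n).symm (Iso.refl _) (by simp) (by simp [fs])
      (by simp)
      (by rw [Iso.refl_hom, Category.comp_id]; exact ((Iso.inv_comp_eq _).mpr (AlgzLib.specLevel_hom_specQuot m n).symm).symm))
  exact ⟨Y, g, M, hg, hM, h, i, hiso⟩

end Groth.Agent.S12901
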