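import Groth.Statements.S12903
import Groth.Agent.InjModLib.GammaZ
import Groth.Agent.CohExtLib.Graph

set_option autoImplicit false
universe u
open CategoryTheory CategoryTheory.Limits AlgebraicGeometry Opposite
open Coherent

namespace Groth.Agent.S12903

/-- Let X be a scheme, j : U → X a quasi-compact open immersion with closed complement Z, F a
quasi-coherent O_X-module, V an affine open of X and I a finitely generated ideal of Γ(V, O_X)
cutting out Z ∩ V (a point of V lies outside U if and only if it lies in no basic open X_f with f ∈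
I). Then a section s of F over V belongs to the subsheaf Γ_Z(F) of sections supported in Z (the
kernel of F → j_*(F|_U)) if and only if I^n s = 0 for some n. -/
theorem result {U X : Scheme.{u}} (j : U ⟶ X) [IsOpenImmersion j] [QuasiCompact j]
    (F : X.Modules) (hF : Coh.IsQCoh F) (V : X.Opens) (hV : IsAffineOpen V)
    (I : Ideal (X.ringCatSheaf.obj.obj (op V))) (hI : I.FG)
    (hZ : ∀ x : X, x ∈ V → (x ∉ Set.range j.base ↔ ∀ f ∈ I, x ∉ X.basicOpen (f : Γ(X, V))))
    (s : F.val.obj (op V)) :
    s ∈ Set.range ((((CxOX.gammaZι j).app F).val.app (op V)).hom) ↔ ∃ n : ℕ, ∀ a ∈ I ^ n, a • s = 0 := by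
  haveI := hF
  let u := (Scheme.Modules.restrictAdjunction j).unit.app F
  let s' : Γ(F, V) := s
  have hker : s ∈ Set.range ((((CxOX.gammaZι j).app F).val.app (op V)).hom) ↔ u.app V s' = 0 := by
    constructor
    · rintro ⟨w, hw⟩
      exact (congrArg (u.app V) (show (kernel.ι u).app V w = s' from hw)).symm.trans
        (congrArg (fun θ : kernel u ⟶ _ => θ.app V w) (kernel.condition u))
    · intro h
      obtain ⟨w, hw⟩ := QCohLib.exists_of_app_eq_zero (S := ShortComplex.mk _ _ (kernel.condition u))
        (ShortComplex.exact_of_f_is_kernel _ (kernelIsKernel u)) equalizer.ι_mono s' h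
      exact ⟨w, hw⟩
  have hmem : ∀ f : Γ(X, V), f ∈ I → (X.basicOpen f : Set X) ⊆ Set.range j.base := by
    intro f hf y hy
    by_contra hn
    exact (hZ y (X.basicOpen_le f hy)).mp hn f hf hy
  rw [hker, InjModLib.unit_app_eq_zero_iff]
  constructor
  · intro h
    let I' : Ideal Γ(X, V) := I
    have hI' : I'.FG := hI
    let A : Ideal Γ(X, V) := (Submodule.span Γ(X, V) {s'}).annihilator
    have hrad : I' ≤ A.radical := by
      intro f hf
      have h0 : F.presheaf.map (homOfLE (X.basicOpen_le (show Γ(X, V) from f))).op s' = 0 := by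
        refine CohExtLib.eq_zero_of_gm _ fun y hy => ?_
        rw [DevissLib.gm_map F (X.basicOpen_le (show Γ(X, V) from f)) y hy]
        exact h y (hmem f hf hy) (X.basicOpen_le (show Γ(X, V) from f) hy)
      obtain ⟨N, hN⟩ := (QCohLib.localizingAt_of_isQCoh hV F (show Γ(X, V) from f)).eq_zero s' h0
      refine ⟨N, ?_⟩
      rw [Submodule.mem_annihilator_span_singleton]
      simp only [homOfLE_refl, op_id, CategoryTheory.Functor.map_id] at hN
      exact hN
    obtain ⟨n, hn⟩ := Ideal.exists_pow_le_of_le_radical_of_fg hrad hI'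
    exact ⟨n, fun a ha => (Submodule.mem_annihilator_span_singleton _ _).mp (hn ha)⟩
  · rintro ⟨n, hn⟩ y hyU hy
    have hyr : ¬ y ∉ Set.range j.base := not_not.mpr hyU
    rw [hZ y hy] at hyr
    push Not at hyr
    obtain ⟨f, hf, hyf⟩ := hyr
    have h1 : DevissLib.gm F y hy (((show Γ(X, V) from f) ^ n) • s') = 0 :=
      (congrArg (DevissLib.gm F y hy) (hn _ (Ideal.pow_mem_pow hf n))).trans (DevissLib.gm_zero F y hy)
    rw [DevissLib.gm_smul, map_pow] at h1
    exact (((X.mem_basicOpen (show Γ(X, V) from f) y hy).mp hyf).pow n).smul_eq_zero.mp h1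

end Groth.Agent.S12903
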