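import Groth.Statements.S12904
import Groth.Agent.GLPLib.Main

set_option autoImplicit false
set_option backward.isDefEq.respectTransparency false
set_option backward.isDefEq.respectTransparency.types false
set_option maxRecDepth 8000
set_option maxHeartbeats 1000000
universe u
open CategoryTheory CategoryTheory.Limits AlgebraicGeometry
open Curves

namespace Groth.Agent.S12904

/-- Let k be an algebraically closed field, r ≥ 3, and X a curve over k (integral, proper over k, of
dimension one, all local rings regular) with a closed immersion i : X → P^r_k over k whose image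
lies in no hyperplane: every nonzero global section of O(1) on P^r_k pulls back to a nonzero global
section of i^* O(1). Let d = deg i^* O(1) be the degree of X. Then the ideal sheaf of X in P^r_k, as
an O-module, is (d - r + 2)-regular: H^j(P^r_k, I_X(d - r + 2 - j)) = 0 for 1 ≤ j ≤ r; in words, the
regularity of X is at most deg X - codim X + 1. (The published statement puts no lower bound on r;
the printed argument treats r ≥ 3, the case stated here.) -/
theorem result (k : Type u) [Field k] [IsAlgClosed k] (r : ℕ) (hr : 3 ≤ r)
    (X : Scheme.{u}) [X.Over (Spec (CommRingCat.of k))] [IsIntegral X] [IsProper (X ↘ (Spec (CommRingCat.of k)))]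
    (hdim : topologicalKrullDim X = 1) (hreg : ∀ x : X, IsRegularLocalRing (X.presheaf.stalk x))
    (i : X ⟶ CohB1.ProjSpace r k) [IsClosedImmersion i]
    (hi : i ≫ CohB1.ProjSpace.toSpec r k = (X ↘ (Spec (CommRingCat.of k))))
    (hplane : ∀ s : LinSer.Sect (CohB1.ProjSpace r k) (Twist.twistProjSpace r k 1), s ≠ 0 →
      OmegaSh.pullSect i (Twist.twistProjSpace r k 1) ⊤ s ≠ 0) :
    Curv2.IsMRegular k r (ClSub.idealMod i.ker)
      (Curv2.deg k X ((Scheme.Modules.pullback i).obj (Twist.twistProjSpace r k 1)) 1 - (r : ℤ) + 2) := by
  haveI := CurveH0Lib.smooth_of_regular k (X ↘ Spec (CommRingCat.of k)) hreg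
  exact GLPLib.idealMod_isMRegular (by omega) hdim i hi hplane

end Groth.Agent.S12904
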