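import Groth.Statements.S12905
import Mathlib
import Groth.Agent.HodgeIdxLib.Bound
import Groth.Agent.MumfordLib.Induct
import Groth.Agent.CurvLib.SupportVanish
-- import your own Groth.Agent.* helpers here

set_option autoImplicit false
universe u
open CategoryTheory CategoryTheory.Limits AlgebraicGeometry
open Variety

namespace Groth.Agent.S12905

/-- Let k be a field and φ : F' → F a monomorphism of coherent modules on P^n_k whose cokernel has
support of Krull dimension at most zero (a finite set of closed points, possibly empty). If F' is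
m-regular then F is m-regular. (The published statement is the case of an ideal sheaf contained in
the ideal sheaf of a curve with quotient supported at finitely many points, phrased as an inequality
of regularities; the argument gives the form stated here.) -/
theorem result (k : Type u) [Field k] (n : ℕ)
    (F' F : (CohB1.ProjSpace n k).Modules) (hF' : Coh.IsCoh F') (hF : Coh.IsCoh F) (φ : F' ⟶ F) [Mono φ]
    (hsupp : topologicalKrullDim (CohB1.support (cokernel φ)) ≤ 0) (m : ℤ)
    (h : Curv2.IsMRegular k n F' m) : Curv2.IsMRegular k n F m := by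
  intro i hi hin
  let P := CohB1.ProjSpace n k
  let O' := Twist.twistProjSpace n k
  haveI : IsProper (P ↘ Spec (CommRingCat.of k)) := MumfordLib.isProper_projSpace (n := n) k
  haveI := CurvLib.isNoetherian k (X := P)
  let Q := cokernel φ
  have hQ : Coh.IsCoh Q := QCohLib.isCoh_cokernel φ hF'.1 hF
  have hO : PicF.IsInvertible (O' (m - i)) := PicPnLib.twist_inv n k _
  have hS : (ShortComplex.mk φ (cokernel.π φ) (cokernel.condition φ)).ShortExact :=
    ShortComplex.ShortExact.mk (ShortComplex.exact_cokernel φ)
  have hT := HilbPolyLib.shortExact_tensor hO hS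
  have hQc : Coh.IsCoh (CohB1.tensorMod (O' (m - i)) Q) := HilbPolyLib.isCoh_tensor hO hQ
  haveI : Subsingleton (Coh.HH P (CohB1.tensorMod (O' (m - i)) Q) i) :=
    CurvLib.subsingleton_HH_of_support_dim (CohB1.tensorMod (O' (m - i)) Q) hQc.2 (d := 0)
      (by rw [HilbPolyLib.support_tensor hO]; exact hsupp) i (by omega)
  haveI : Subsingleton (Coh.HH P (CohB1.tensorMod (O' (m - i)) F') i) :=
    SerreVanLib.subsingleton_HH_of_iso (HilbPolyLib.swapIso _ _) i (h i hi hin)
  have h1 := HodgeIdxLib.hh_mid_le (k := k) hT (HilbPolyLib.isCoh_tensor hO hF') (HilbPolyLib.isCoh_tensor hO hF) hQc i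
  haveI := CurvLib.finite_HH (k := k) (HilbPolyLib.isCoh_tensor hO hF) i
  have h2 : Module.finrank k (Coh.HH P (CohB1.tensorMod (O' (m - i)) F) i) = 0 := by
    have h3 : HodgeIdxLib.hh k (CohB1.tensorMod (O' (m - i)) F') i = 0 := Module.finrank_zero_of_subsingleton
    have h4 : HodgeIdxLib.hh k (CohB1.tensorMod (O' (m - i)) Q) i = 0 := Module.finrank_zero_of_subsingleton
    change HodgeIdxLib.hh k (CohB1.tensorMod (O' (m - i)) F) i ≤
      HodgeIdxLib.hh k (CohB1.tensorMod (O' (m - i)) F') i + HodgeIdxLib.hh k (CohB1.tensorMod (O' (m - i)) Q) i at h1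
    rw [h3, h4] at h1
    exact Nat.le_zero.1 h1
  haveI := (Module.finrank_zero_iff (R := k)).1 h2
  exact SerreVanLib.subsingleton_HH_of_iso (HilbPolyLib.swapIso _ _) i inferInstance

end Groth.Agent.S12905
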