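import Groth.Statements.S12907
import Groth.Agent.HBurchLib.Basic
-- import your own Groth.Agent.* helpers here

set_option autoImplicit false
universe u
open CAlgX

namespace Groth.Agent.S12907

/-- Let R be a Noetherian ring and I a nonzero ideal admitting a free resolution 0 → R^m → R^n → I → 0:
an injective matrix Ψ with n rows and m columns, and a linear map π : R^n → R with image I whose
kernel is the image of Ψ. Then n = m + 1; there is a non-zero-divisor a with I = a · I_m(Ψ), where
I_m(Ψ) is the ideal generated by the m × m minors of Ψ; and the I_m(Ψ)-depth of R is at least 2.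
(The published statement also asserts that this depth is exactly 2; only the lower bound is stated
here. The hypothesis that I is nonzero is implicit in the published statement.) -/
theorem result {R : Type u} [CommRing R] [IsNoetherianRing R] (m n : ℕ)
    (Ψ : Matrix (Fin n) (Fin m) R) (π : (Fin n → R) →ₗ[R] R)
    (hΨ : LinearMap.ker Ψ.mulVecLin = ⊥) (hex : LinearMap.ker π = LinearMap.range Ψ.mulVecLin)
    (hI : LinearMap.range π ≠ ⊥) :
    n = m + 1 ∧
      (∃ a : R, a ∈ nonZeroDivisors R ∧ LinearMap.range π = Ideal.span {a} * CAlgX.minorIdeal Ψ m) ∧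
      2 ≤ LocCoh.idealDepth (CAlgX.minorIdeal Ψ m) R := by
  classical
  have hinj : Function.Injective Ψ.mulVecLin := LinearMap.ker_eq_bot.1 hΨ
  have hann := HBurchLib.annihilator_of_injective Ψ hinj
  have hπΨ : ∀ u, π (Ψ.mulVecLin u) = 0 := fun u =>
    LinearMap.mem_ker.1 (hex.ge ⟨u, rfl⟩)
  have hker : ∀ v, π v = 0 → ∃ u, Ψ.mulVecLin u = v := fun v hv => hex.le (LinearMap.mem_ker.2 hv)
  haveI : Nontrivial R := by
    by_contra h
    haveI := not_nontrivial_iff_subsingleton.1 h
    exact hI (Subsingleton.elim _ _)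
  have hmn : m < n := by
    rcases lt_or_eq_of_le (le_of_fin_injective R Ψ.mulVecLin hinj) with h | rfl
    · exact h
    refine absurd ((Submodule.eq_bot_iff _).2 ?_) hI
    rintro _ ⟨v, rfl⟩
    refine (Submodule.mem_bot R).1 (hann ▸ Submodule.mem_annihilator.2 fun D hD => ?_)
    have hle : CAlgX.minorIdeal Ψ m ≤ LinearMap.ker (LinearMap.toSpanSingleton R R (π v)) := by
      refine HBurchLib.minorIdeal_le Ψ _ fun f hf => ?_
      let σ : Equiv.Perm (Fin m) := Equiv.ofBijective f (Finite.injective_iff_bijective.1 hf)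
      have h0 : Ψ.det • π v = 0 := by
        rw [← map_smul, show Ψ.det • v = Ψ.mulVecLin (Matrix.mulVec Ψ.adjugate v) by
          simp [Matrix.mulVec_mulVec, Matrix.mul_adjugate, Matrix.smul_mulVec], hπΨ]
      rw [LinearMap.mem_ker, LinearMap.toSpanSingleton_apply, show Ψ.submatrix f id = Ψ.submatrix σ id from rfl,
        Matrix.det_permute, mul_smul, h0, smul_zero]
    rw [smul_eq_mul, mul_comm]
    exact LinearMap.mem_ker.1 (hle hD)
  have hannI : (LinearMap.range π : Ideal R).annihilator = ⊥ := by
    refine (Submodule.eq_bot_iff _).2 fun x hx => (Submodule.mem_bot R).1 (hann ▸ ?_)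
    rw [Submodule.mem_annihilator]
    intro D hD
    have hle : CAlgX.minorIdeal Ψ m ≤ LinearMap.ker (LinearMap.toSpanSingleton R R x) := by
      refine HBurchLib.minorIdeal_le Ψ _ fun f hf => ?_
      obtain ⟨j, hj⟩ : ∃ j, j ∉ Set.range f := by
        by_contra! hs
        have := Fintype.card_le_of_surjective f hs
        simp at this
        omega
      obtain ⟨u, hu⟩ := hker (x • Pi.single j 1) (by
        rw [map_smul]
        exact Submodule.mem_annihilator.1 hx _ (LinearMap.mem_range_self π _))
      have hu' : (Ψ.submatrix f id).det • u = 0 := by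
        have e0 : Matrix.mulVec (Ψ.submatrix f id) u = 0 := by
          funext k
          have := congrFun hu (f k)
          simp only [Matrix.mulVecLin_apply, Pi.smul_apply, Pi.single_apply,
            if_neg (fun h : f k = j => hj ⟨k, h⟩), smul_zero] at this
          exact this
        have := congrArg (Matrix.mulVec (Ψ.submatrix f id).adjugate) e0
        simpa [Matrix.mulVec_mulVec, Matrix.adjugate_mul, Matrix.smul_mulVec] using this
      have := congrFun (congrArg Ψ.mulVecLin hu') j
      rw [map_smul, hu, map_zero] at this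
      simpa using this
    have := LinearMap.mem_ker.1 (hle hD)
    rw [LinearMap.toSpanSingleton_apply, smul_eq_mul] at this
    rw [smul_eq_mul, mul_comm, this]
  obtain ⟨d, ⟨w, rfl⟩, hd⟩ := HBurchLib.exists_regular_mem _ hannI
  have hnm : n = m + 1 := by
    refine le_antisymm ?_ hmn
    let e := LinearEquiv.ofInjective Ψ.mulVecLin hinj
    let H : (Fin n → R) →ₗ[R] (Fin n → R) := π w • LinearMap.id - π.smulRight w
    have hH : ∀ v, H v ∈ LinearMap.range Ψ.mulVecLin := fun v => hker _ (by
      simp only [H, LinearMap.sub_apply, LinearMap.smul_apply, LinearMap.id_coe, id_eq,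
        LinearMap.smulRight_apply, map_sub, map_smul, smul_eq_mul]
      ring)
    let G : (Fin n → R) →ₗ[R] (Fin m → R) × R :=
      LinearMap.prod (e.symm.toLinearMap.comp (H.codRestrict _ hH)) π
    have hG : Function.Injective G := by
      rw [injective_iff_map_eq_zero]
      intro v hv
      have h2 : π v = 0 := congrArg Prod.snd hv
      have h1 : H v = 0 := congrArg Subtype.val (e.symm.map_eq_zero_iff.1 (congrArg Prod.fst hv))
      funext i
      refine hd ?_
      simpa [H, h2] using congrFun h1 i
    simpa using LinearMap.finrank_le_finrank_of_injective hG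
  subst hnm
  obtain ⟨x, hx, hxr⟩ := HBurchLib.exists_regular_mem _ hann
  -- the matrix stays injective modulo `x`
  let Q := R ⧸ Ideal.span {x}
  let q : R →+* Q := Ideal.Quotient.mk _
  have hq : Function.Injective (Matrix.mulVecLin (Ψ.map q)) := by
    rw [injective_iff_map_eq_zero]
    intro ub hub
    choose u hu using fun l => Ideal.Quotient.mk_surjective (ub l)
    obtain rfl : q ∘ u = ub := funext hu
    have hdiv : ∀ k, ∃ c, c * x = Ψ.mulVecLin u k := fun k => Ideal.mem_span_singleton'.1
      (Ideal.Quotient.eq_zero_iff_mem.1 ((RingHom.map_mulVec q Ψ u k).trans (congrFun hub k)))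
    choose v hv using hdiv
    have hxv : x • v = Ψ.mulVecLin u := funext fun k => by simp [← hv k, mul_comm]
    obtain ⟨u', hu'⟩ := hker v (hxr (by
      change x • π v = x • (0 : R)
      rw [← map_smul, hxv, hπΨ, smul_zero]))
    have : u = x • u' := hinj (by rw [map_smul, hu', hxv])
    funext l
    refine Ideal.Quotient.eq_zero_iff_mem.2 ?_
    rw [this]
    exact Ideal.mem_span_singleton'.2 ⟨u' l, by simp [mul_comm]⟩
  obtain ⟨yb, hyb, hybr⟩ := HBurchLib.exists_regular_mem _ (HBurchLib.annihilator_of_injective _ hq)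
  have hmap : CAlgX.minorIdeal (Ψ.map q) m ≤ (CAlgX.minorIdeal Ψ m).map q := by
    refine HBurchLib.minorIdeal_le _ _ fun f _ => ?_
    rw [Matrix.submatrix_map, ← RingHom.mapMatrix_apply, ← RingHom.map_det]
    exact Ideal.mem_map_of_mem q (HBurchLib.det_mem_minorIdeal Ψ f)
  obtain ⟨y, hy, rfl⟩ := (Ideal.mem_map_iff_of_surjective q Ideal.Quotient.mk_surjective).1 (hmap hyb)
  have hyr : ∀ c : R, y * c ∈ Ideal.span {x} → c ∈ Ideal.span {x} := fun c hc => by
    rw [← Ideal.Quotient.eq_zero_iff_mem] at hc ⊢
    refine hybr ?_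
    change q y * q c = q y * 0
    rw [mul_zero, ← map_mul]
    exact hc
  refine ⟨rfl, ?_, (CommAlgDim.le_idealDepth_iff _ 2).2
    ((HBurchLib.hasSeqIn_two_iff _).2 ⟨x, hx, y, hy, hxr, hyr⟩)⟩
  let f : Fin (m + 1) → R := fun i => π (Pi.single i 1)
  have hπ : π = Fintype.linearCombination R f := by
    refine (Pi.basisFun R (Fin (m + 1))).ext fun i => ?_
    simp [f]
  have hf : ∀ l, ∑ i, f i * Ψ i l = 0 := fun l => by
    have h := hπΨ (Pi.single l 1)
    rw [hπ, Fintype.linearCombination_apply] at h
    simpa [mul_comm] using h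
  have hp : ∀ r ∈ CAlgX.minorIdeal Ψ m, ∃ p, ∀ j, HBurchLib.del Ψ j * p = r * f j := by
    intro r hr
    rw [HBurchLib.minorIdeal_eq_span] at hr
    obtain ⟨c, rfl⟩ := Ideal.mem_span_range_iff_exists_fun.1 hr
    refine ⟨∑ i, c i * f i, fun j => ?_⟩
    rw [Finset.mul_sum, Finset.sum_mul]
    refine Finset.sum_congr rfl fun i _ => ?_
    linear_combination c i * HBurchLib.mul_del_comm Ψ f hf i j
  obtain ⟨px, hpx⟩ := hp x hx
  obtain ⟨py, hpy⟩ := hp y hy
  have hc : y * px = x * py := by
    rw [← sub_eq_zero]
    refine (Submodule.mem_bot R).1 (hann ▸ Submodule.mem_annihilator.2 fun D hD => ?_)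
    rw [HBurchLib.minorIdeal_eq_span] at hD
    obtain ⟨c, rfl⟩ := Ideal.mem_span_range_iff_exists_fun.1 hD
    rw [smul_eq_mul, Finset.mul_sum]
    refine Finset.sum_eq_zero fun j _ => ?_
    linear_combination c j * y * hpx j - c j * x * hpy j
  obtain ⟨a, ha⟩ := Ideal.mem_span_singleton'.1
    (hyr px (Ideal.mem_span_singleton'.2 ⟨py, by rw [hc, mul_comm]⟩))
  have hfa : f = fun j => a * HBurchLib.del Ψ j := funext fun j => hxr (by
    change x * f j = x * (a * HBurchLib.del Ψ j)
    rw [← hpx j, ← ha]; ring)
  rw [hfa] at hπ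
  refine ⟨a, ?_, by rw [hπ, HBurchLib.range_linearCombination]⟩
  have hmem : π w ∈ Ideal.span {a} * CAlgX.minorIdeal Ψ m := by
    rw [← HBurchLib.range_linearCombination, ← hπ]
    exact LinearMap.mem_range_self π w
  obtain ⟨z, -, hz⟩ := Ideal.mem_span_singleton_mul.1 hmem
  have : π w ∈ nonZeroDivisors R := mem_nonZeroDivisors_iff_right.2 fun r hr => hd (by
    change π w * r = π w * 0
    rw [mul_zero, mul_comm, hr])
  rw [← hz] at this
  exact (mul_mem_nonZeroDivisors.1 this).1

end Groth.Agent.S12907
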