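import Groth.Statements.S12908
import Groth.Agent.HBurchLib.Basic
-- import your own Groth.Agent.* helpers here

set_option autoImplicit false
universe u
open CAlgX

namespace Groth.Agent.S12908

/-- Let R be a Noetherian ring, t a natural number, Ψ a (t+1) × t matrix over R such that the
I_t(Ψ)-depth of R is at least 2, where I_t(Ψ) is the ideal generated by the t × t minors of Ψ, and a
a non-zero-divisor of R. Put Δ_i = a · (-1)^i det Ψ_i, where Ψ_i is Ψ with row i deleted. Then 0 →
R^t → R^{t+1} → R, with first map Ψ and second map v ↦ Σ_i Δ_i v_i, is exact: Ψ is injective and the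
kernel of the second map equals the image of Ψ; moreover the image of the second map is the ideal a
· I_t(Ψ). (The published statement adds that this ideal has depth 2 exactly when a is a unit; that
clause is not stated here.) -/
theorem result {R : Type u} [CommRing R] [IsNoetherianRing R] (t : ℕ)
    (Ψ : Matrix (Fin (t + 1)) (Fin t) R) (hdepth : 2 ≤ LocCoh.idealDepth (CAlgX.minorIdeal Ψ t) R)
    (a : R) (ha : a ∈ nonZeroDivisors R) :
    LinearMap.ker Ψ.mulVecLin = ⊥ ∧
      LinearMap.ker (Fintype.linearCombination R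
          (fun i : Fin (t + 1) => a * ((-1 : R) ^ (i : ℕ) * (Ψ.submatrix i.succAbove id).det))) =
        LinearMap.range Ψ.mulVecLin ∧
      LinearMap.range (Fintype.linearCombination R
          (fun i : Fin (t + 1) => a * ((-1 : R) ^ (i : ℕ) * (Ψ.submatrix i.succAbove id).det))) =
        Ideal.span {a} * CAlgX.minorIdeal Ψ t := by
  obtain ⟨x, hx, y, hy, hxr, hyr⟩ :=
    (HBurchLib.hasSeqIn_two_iff _).1 ((CommAlgDim.le_idealDepth_iff _ 2).1 hdepth)
  have hinj : Function.Injective Ψ.mulVecLin := HBurchLib.injective_of_annihilator Ψ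
    ((Submodule.eq_bot_iff _).2 fun r hr => hxr (by
      simpa [mul_comm] using Submodule.mem_annihilator.1 hr x hx))
  refine ⟨LinearMap.ker_eq_bot.2 hinj, le_antisymm (fun v hv => ?_) ?_, HBurchLib.range_linearCombination Ψ a⟩
  · have hv' : ∑ i, HBurchLib.del Ψ i * v i = 0 := by
      refine ha.1 _ ?_
      rw [Finset.mul_sum]
      refine Eq.trans ?_ (LinearMap.mem_ker.1 hv)
      rw [Fintype.linearCombination_apply]
      exact Finset.sum_congr rfl fun i _ => by rw [HBurchLib.del, smul_eq_mul]; ring
    have hJ : ∀ r ∈ CAlgX.minorIdeal Ψ t, ∃ w, Ψ.mulVecLin w = r • v := by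
      intro r hr
      have hle : CAlgX.minorIdeal Ψ t ≤ (LinearMap.range Ψ.mulVecLin).comap
          (LinearMap.toSpanSingleton R (Fin (t + 1) → R) v) := by
        rw [HBurchLib.minorIdeal_eq_span, Ideal.span_le]
        rintro _ ⟨j, rfl⟩
        exact HBurchLib.del_smul_mem_range Ψ v hv' j
      exact hle hr
    obtain ⟨wx, hwx⟩ := hJ x hx
    obtain ⟨wy, hwy⟩ := hJ y hy
    have hc : y • wx = x • wy := hinj (by rw [map_smul, map_smul, hwx, hwy, smul_comm])
    have hdiv : ∀ l, ∃ c, c * x = wx l := fun l => Ideal.mem_span_singleton'.1 (hyr _ (by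
      rw [Ideal.mem_span_singleton']
      exact ⟨wy l, by simpa [mul_comm] using (congrFun hc l).symm⟩))
    choose w hw using hdiv
    refine ⟨w, funext fun k => hxr ?_⟩
    have he : x • w = wx := funext fun l => by simp [← hw l, mul_comm]
    have h := congrFun (congrArg Ψ.mulVecLin he) k
    rw [map_smul, hwx] at h
    exact h
  · rintro _ ⟨u, rfl⟩
    rw [LinearMap.mem_ker, Fintype.linearCombination_apply]
    simp only [Matrix.mulVecLin_apply, Matrix.mulVec, dotProduct, smul_eq_mul, Finset.sum_mul]
    rw [Finset.sum_comm]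
    refine Finset.sum_eq_zero fun l _ => ?_
    have h := HBurchLib.sum_del_mul_col Ψ l
    simp only [HBurchLib.del] at h
    rw [← mul_zero (a * u l), ← h, Finset.mul_sum]
    exact Finset.sum_congr rfl fun i _ => by ring

end Groth.Agent.S12908
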