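import Groth.Statements.S12909
import Mathlib

set_option autoImplicit false
universe u
open CAlgX

namespace Groth.Agent.S12909


open scoped TensorProduct

section Loc

variable {L : Type u} [CommRing L] [IsLocalRing L]

theorem exists_retraction (z : L) (hz : z ≠ 0) (hzm : ∀ a ∈ IsLocalRing.maximalIdeal L, a * z = 0)
    {K F : Type u} [AddCommGroup K] [Module L K] [Module.Free L K] [Module.Finite L K]
    [AddCommGroup F] [Module L F] [Module.Free L F] [Module.Finite L F]
    (i : K →ₗ[L] F) (hi : Function.Injective i) : ∃ r, r ∘ₗ i = LinearMap.id := by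
  rw [IsLocalRing.split_injective_iff_lTensor_residueField_injective]
  refine (injective_iff_map_eq_zero _).2 fun t ht => ?_
  obtain ⟨v, rfl⟩ := TensorProduct.mk_surjective L K (IsLocalRing.ResidueField L)
    IsLocalRing.residue_surjective t
  rw [TensorProduct.mk_apply, LinearMap.lTensor_tmul] at ht
  have hiv : i v ∈ IsLocalRing.maximalIdeal L • (⊤ : Submodule L F) := by
    rw [← Submodule.Quotient.mk_eq_zero]
    have h := congrArg (TensorProduct.quotTensorEquivQuotSMul F (IsLocalRing.maximalIdeal L)) ht
    replace h := h.trans (map_zero (TensorProduct.quotTensorEquivQuotSMul F (IsLocalRing.maximalIdeal L)).toLinearMap)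
    rw [← h]
    exact ((TensorProduct.quotTensorEquivQuotSMul_mk_tmul (IsLocalRing.maximalIdeal L) 1 (i v)).trans
      (by rw [one_smul])).symm
  have hzv : z • v = 0 := by
    apply hi
    rw [map_smul, map_zero]
    refine Submodule.smul_induction_on hiv (fun a ha x _ => ?_) (fun x y hx hy => ?_)
    · rw [smul_smul, mul_comm, hzm a ha, zero_smul]
    · rw [smul_add, hx, hy, add_zero]
  let b := Module.Free.chooseBasis L K
  have hc : ∀ j, b.repr v j ∈ IsLocalRing.maximalIdeal L := fun j => by
    by_contra hj
    have h := congrArg (fun w => b.repr w j) hzv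
    simp only [map_smul, map_zero, Finsupp.smul_apply, smul_eq_mul, Finsupp.zero_apply] at h
    exact hz ((IsUnit.mul_left_eq_zero (by simpa using hj)).1 h)
  rw [← b.sum_repr v, TensorProduct.mk_apply, TensorProduct.tmul_sum]
  refine Finset.sum_eq_zero fun j _ => ?_
  rw [TensorProduct.tmul_smul, TensorProduct.smul_tmul', Algebra.smul_def,
    IsLocalRing.ResidueField.algebraMap_eq, (IsLocalRing.residue_eq_zero_iff _).2 (hc j), zero_mul,
    TensorProduct.zero_tmul]

theorem range_free (z : L) (hz : z ≠ 0) (hzm : ∀ a ∈ IsLocalRing.maximalIdeal L, a * z = 0)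
    {a b : ℕ} (f : (Fin a → L) →ₗ[L] (Fin b → L))
    (hfree : Module.Free L (LinearMap.ker f)) (hfin : Module.Finite L (LinearMap.ker f)) :
    Module.Free L (LinearMap.range f) ∧ Module.Finite L (LinearMap.range f) ∧
      (Module.finrank L (LinearMap.range f) : ℤ) = a - Module.finrank L (LinearMap.ker f) := by
  obtain ⟨r, hr⟩ := exists_retraction z hz hzm (LinearMap.ker f).subtype Subtype.val_injective
  have hr' : ∀ k : LinearMap.ker f, r k.1 = k := fun k => LinearMap.congr_fun hr k
  have hbij : Function.Bijective (LinearMap.prod r f.rangeRestrict) := by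
    refine ⟨(injective_iff_map_eq_zero _).2 fun x hx => ?_, fun ⟨k, y⟩ => ?_⟩
    · have h2 : x ∈ LinearMap.ker f := congrArg Subtype.val (congrArg Prod.snd hx)
      have h1 : r x = 0 := congrArg Prod.fst hx
      have := hr' ⟨x, h2⟩
      rw [h1] at this
      exact (congrArg Subtype.val this).symm
    · obtain ⟨x, hx⟩ := y.2
      refine ⟨x - (r x).1 + k.1, Prod.ext ?_ (Subtype.ext ?_)⟩
      · show r (x - (r x).1 + k.1) = k
        rw [map_add, map_sub, hr', hr', sub_self, zero_add]
      · show f (x - (r x).1 + k.1) = y.1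
        rw [map_add, map_sub, show f (r x).1 = 0 from (r x).2, show f k.1 = 0 from k.2, sub_zero,
          add_zero, hx]
  let e := LinearEquiv.ofBijective _ hbij
  haveI : Module.Projective L (LinearMap.range f) :=
    Module.Projective.of_split (e.symm.toLinearMap ∘ₗ LinearMap.inr L _ _)
      (LinearMap.snd L _ _ ∘ₗ e.toLinearMap) (LinearMap.ext fun y => by simp)
  haveI : Module.Finite L (LinearMap.range f) := inferInstance
  haveI : Module.Free L (LinearMap.range f) := Module.free_of_flat_of_isLocalRing
  refine ⟨inferInstance, inferInstance, ?_⟩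
  have h := e.finrank_eq
  rw [Module.finrank_prod, Module.finrank_fin_fun] at h
  omega

/-- The alternating sums of the ranks. -/
def rk (e : ℕ) (n : ℕ → ℕ) : ℕ → ℤ
  | 0 => n e
  | j + 1 => n (e - 1 - j) - rk e n j

theorem range_free_mulVec (z : L) (hz : z ≠ 0) (hzm : ∀ a ∈ IsLocalRing.maximalIdeal L, a * z = 0)
    (e : ℕ) (n : ℕ → ℕ) (B : (i : ℕ) → Matrix (Fin (n i)) (Fin (n (i + 1))) L)
    (hB : ∀ i, i + 2 ≤ e → LinearMap.ker (B i).mulVecLin = LinearMap.range (B (i + 1)).mulVecLin)
    (hlast : LinearMap.ker (B (e - 1)).mulVecLin = ⊥) :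
    ∀ j, j < e → Module.Free L (LinearMap.range (B (e - 1 - j)).mulVecLin) ∧
      Module.Finite L (LinearMap.range (B (e - 1 - j)).mulVecLin) ∧
      (Module.finrank L (LinearMap.range (B (e - 1 - j)).mulVecLin) : ℤ) = rk e n j := by
  intro j
  induction j with
  | zero =>
    intro he
    haveI : Subsingleton (LinearMap.ker (B (e - 1)).mulVecLin) := by rw [hlast]; infer_instance
    obtain ⟨h1, h2, h3⟩ := range_free z hz hzm (B (e - 1)).mulVecLin inferInstance inferInstance
    refine ⟨h1, h2, ?_⟩
    rw [rk, show e - 1 - 0 = e - 1 from rfl, h3, Module.finrank_zero_of_subsingleton,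
      show e - 1 + 1 = e by omega]
    simp
  | succ j ih =>
    intro hj
    obtain ⟨i1, i2, i3⟩ := ih (by omega)
    have hk := hB (e - 1 - (j + 1)) (by omega)
    have hidx : e - 1 - (j + 1) + 1 = e - 1 - j := by omega
    have heq : Module.Free L (LinearMap.range (B (e - 1 - (j + 1) + 1)).mulVecLin) ∧
        Module.Finite L (LinearMap.range (B (e - 1 - (j + 1) + 1)).mulVecLin) ∧
        (Module.finrank L (LinearMap.range (B (e - 1 - (j + 1) + 1)).mulVecLin) : ℤ) = rk e n j := by
      rw [hidx]; exact ⟨i1, i2, i3⟩
    rw [← hk] at heq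
    obtain ⟨h1, h2, h3⟩ := range_free z hz hzm _ heq.1 heq.2.1
    refine ⟨h1, h2, ?_⟩
    rw [rk, h3, heq.2.2, hidx]

end Loc

theorem exact_map {R L : Type u} [CommRing R] [CommRing L] [Algebra R L] (M : Submonoid R)
    [IsLocalization M L] {a b c : ℕ} (B : Matrix (Fin a) (Fin b) R) (C : Matrix (Fin b) (Fin c) R)
    (h : LinearMap.ker B.mulVecLin = LinearMap.range C.mulVecLin) :
    LinearMap.ker (B.map (algebraMap R L)).mulVecLin =
      LinearMap.range (C.map (algebraMap R L)).mulVecLin := by
  have key : ∀ (p q : ℕ) (D : Matrix (Fin p) (Fin q) R) (v : Fin q → R),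
      (D.map (algebraMap R L)).mulVec (algebraMap R L ∘ v) = algebraMap R L ∘ (D.mulVec v) :=
    fun p q D v => funext fun i => ((algebraMap R L).map_mulVec D v i).symm
  refine le_antisymm (fun v hv => ?_) ?_
  · obtain ⟨s, hs⟩ := IsLocalization.exist_integer_multiples_of_finite M v
    choose w hw using hs
    have hw' : algebraMap R L ∘ w = algebraMap R L s • v := funext fun i => by
      rw [Function.comp_apply, hw, Pi.smul_apply, Algebra.smul_def, smul_eq_mul]
    have h0 : algebraMap R L ∘ (B.mulVec w) = 0 := by
      rw [← key, hw', Matrix.mulVec_smul]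
      rw [LinearMap.mem_ker, Matrix.mulVecLin_apply] at hv
      rw [hv, smul_zero]
    have h0' : ∀ i, ∃ t : M, (t : R) * B.mulVec w i = 0 := fun i =>
      (IsLocalization.map_eq_zero_iff M L _).1 (congrFun h0 i)
    choose t ht using h0'
    let T : M := ∏ i, t i
    have hker : (T : R) • w ∈ LinearMap.ker B.mulVecLin := by
      rw [LinearMap.mem_ker, Matrix.mulVecLin_apply, Matrix.mulVec_smul]
      ext i
      obtain ⟨d, hd⟩ := Finset.dvd_prod_of_mem t (Finset.mem_univ i)
      rw [Pi.smul_apply, smul_eq_mul, show (T : R) = t i * d by rw [show T = t i * d from hd]; rfl,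
        mul_right_comm, ht i, zero_mul, Pi.zero_apply]
    rw [h] at hker
    obtain ⟨u, hu⟩ := hker
    have hunit : IsUnit (algebraMap R L T * algebraMap R L s) :=
      (IsLocalization.map_units L T).mul (IsLocalization.map_units L s)
    refine ⟨(↑hunit.unit⁻¹ : L) • (algebraMap R L ∘ u), ?_⟩
    rw [map_smul, Matrix.mulVecLin_apply, key, ← Matrix.mulVecLin_apply, hu]
    ext i
    have := congrFun hw' i
    simp only [Function.comp_apply, Pi.smul_apply, smul_eq_mul] at this
    simp only [Pi.smul_apply, Function.comp_apply, smul_eq_mul, map_mul, this]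
    rw [← mul_assoc (algebraMap R L T), ← mul_assoc, IsUnit.val_inv_mul, one_mul]
  · rintro _ ⟨u, rfl⟩
    rw [LinearMap.mem_ker, Matrix.mulVecLin_apply, Matrix.mulVecLin_apply, Matrix.mulVec_mulVec,
      ← Matrix.map_mul]
    have hz : B * C = 0 := by
      refine Matrix.toLin'.injective (LinearMap.ext fun v => ?_)
      rw [Matrix.toLin'_apply, map_zero, LinearMap.zero_apply, ← Matrix.mulVec_mulVec]
      exact h.ge (LinearMap.mem_range_self C.mulVecLin v)
    rw [hz, Matrix.map_zero _ (map_zero _), Matrix.zero_mulVec]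


/-- Let R be a Noetherian ring and I a nonzero ideal with a finite free resolution 0 → R^{n_e} → … →
R^{n_1} → R^{n_0} → I → 0 with e ≥ 1: the map R^{n_{i+1}} → R^{n_i} is the matrix A_i, the map π :
R^{n_0} → R is linear with image I, the kernel of π is the image of A_0, the kernel of A_i is the
image of A_{i+1} for 0 ≤ i ≤ e - 2, and A_{e-1} is injective. Then I contains a non-zero-divisor of
R. (The hypothesis that I is nonzero is implicit in the published statement: the zero ideal of a
domain has a finite free resolution and contains no non-zero-divisor.) -/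
theorem result {R : Type u} [CommRing R] [IsNoetherianRing R]
    (e : ℕ) (he : 1 ≤ e) (n : ℕ → ℕ) (A : (i : ℕ) → Matrix (Fin (n i)) (Fin (n (i + 1))) R)
    (π : (Fin (n 0) → R) →ₗ[R] R) (hI : LinearMap.range π ≠ ⊥)
    (h0 : LinearMap.ker π = LinearMap.range (A 0).mulVecLin)
    (hA : ∀ i, i + 2 ≤ e → LinearMap.ker (A i).mulVecLin = LinearMap.range (A (i + 1)).mulVecLin)
    (hlast : LinearMap.ker (A (e - 1)).mulVecLin = ⊥) :
    ∃ x : R, x ∈ LinearMap.range π ∧ x ∈ nonZeroDivisors R := by
  classical
  by_contra hcon
  push Not at hcon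
  let P : Matrix (Fin 1) (Fin (n 0)) R := Matrix.of fun _ j => π (Pi.single j 1)
  have hP : ∀ v, P.mulVec v = fun _ => π v := fun v => funext fun i => by
    simp only [P, Matrix.mulVec, dotProduct, Matrix.of_apply]
    conv_rhs => rw [pi_eq_sum_univ' v, map_sum]
    exact Finset.sum_congr rfl fun j _ => by rw [map_smul, smul_eq_mul, mul_comm]
  have hPker : LinearMap.ker P.mulVecLin = LinearMap.ker π := by
    ext v
    rw [LinearMap.mem_ker, LinearMap.mem_ker, Matrix.mulVecLin_apply, hP]
    exact ⟨fun h => congrFun h 0, fun h => funext fun _ => h⟩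
  -- localisation at an associated prime
  have hloc : ∀ p : Ideal R, p ∈ associatedPrimes R R →
      (rk e n e = 0 ∨ rk e n e = 1) ∧ (LinearMap.range π ≤ p → rk e n e = 0) ∧
      (rk e n e = 0 → ∀ x ∈ LinearMap.range π, ∃ t ∉ p, t * x = 0) := by
    intro p hp
    haveI : p.IsPrime := hp.1
    obtain ⟨-, x, hx⟩ := isAssociatedPrime_iff.1 hp
    let L := Localization.AtPrime p
    have hxne : algebraMap R L x ≠ 0 := fun h => by
      obtain ⟨t, ht⟩ := (IsLocalization.map_eq_zero_iff p.primeCompl L x).1 h
      refine t.2 (hx.ge ?_)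
      rw [Submodule.mem_colon_singleton, Submodule.mem_bot]
      exact ht
    have hxm : ∀ a ∈ IsLocalRing.maximalIdeal L, a * algebraMap R L x = 0 := by
      intro a ha
      rw [← Localization.AtPrime.map_eq_maximalIdeal] at ha
      induction ha using Submodule.span_induction with
      | mem y hy =>
        obtain ⟨r, hr, rfl⟩ := hy
        rw [SetLike.mem_coe, hx, Submodule.mem_colon_singleton, Submodule.mem_bot, smul_eq_mul] at hr
        rw [← map_mul, hr, map_zero]
      | zero => rw [zero_mul]
      | add y w _ _ hy hw => rw [add_mul, hy, hw, add_zero]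
      | smul c y _ hy => rw [smul_eq_mul, mul_assoc, hy, mul_zero]
    have hlast' : LinearMap.ker ((A (e - 1)).map (algebraMap R L)).mulVecLin = ⊥ := by
      rw [exact_map p.primeCompl (A (e - 1)) (0 : Matrix _ (Fin 0) R) (by
        rw [hlast, Matrix.mulVecLin_zero, LinearMap.range_zero])]
      rw [Matrix.map_zero _ (map_zero _), Matrix.mulVecLin_zero, LinearMap.range_zero]
    obtain ⟨f1, f2, f3⟩ := range_free_mulVec (algebraMap R L x) hxne hxm e n
      (fun i => (A i).map (algebraMap R L)) (fun i hi => exact_map p.primeCompl _ _ (hA i hi))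
      hlast' (e - 1) (by omega)
    have hz : e - 1 - (e - 1) = 0 := by omega
    have hk := exact_map (L := L) p.primeCompl P (A 0) (hPker.trans h0)
    have hf : Module.Free L (LinearMap.ker (P.map (algebraMap R L)).mulVecLin) ∧
        Module.Finite L (LinearMap.ker (P.map (algebraMap R L)).mulVecLin) ∧
        (Module.finrank L (LinearMap.ker (P.map (algebraMap R L)).mulVecLin) : ℤ) = rk e n (e - 1) := by
      rw [hk]
      have : ∀ i, i = 0 → (Module.Free L (LinearMap.range ((A i).map (algebraMap R L)).mulVecLin) ∧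
        Module.Finite L (LinearMap.range ((A i).map (algebraMap R L)).mulVecLin) ∧
        (Module.finrank L (LinearMap.range ((A i).map (algebraMap R L)).mulVecLin) : ℤ) = rk e n (e - 1)) →
        (Module.Free L (LinearMap.range ((A 0).map (algebraMap R L)).mulVecLin) ∧
        Module.Finite L (LinearMap.range ((A 0).map (algebraMap R L)).mulVecLin) ∧
        (Module.finrank L (LinearMap.range ((A 0).map (algebraMap R L)).mulVecLin) : ℤ) = rk e n (e - 1)) := by
        rintro i rfl h; exact h
      exact this _ hz ⟨f1, f2, f3⟩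
    obtain ⟨g1, g2, g3⟩ := range_free _ hxne hxm (P.map (algebraMap R L)).mulVecLin hf.1 hf.2.1
    have hrk : (Module.finrank L (LinearMap.range (P.map (algebraMap R L)).mulVecLin) : ℤ) = rk e n e := by
      rw [g3, hf.2.2]
      conv_rhs => rw [show e = e - 1 + 1 by omega, rk]
      congr 1
      · congr 2; omega
      · congr 1; omega
    set N := LinearMap.range (P.map (algebraMap R L)).mulVecLin with hN
    have hle1 : Module.finrank L N ≤ 1 := by
      obtain ⟨r, hr⟩ := exists_retraction _ hxne hxm N.subtype Subtype.val_injective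
      have hsurj : Function.Surjective r := fun y => ⟨y, LinearMap.congr_fun hr y⟩
      have := LinearMap.finrank_range_le r
      rw [LinearMap.range_eq_top.2 hsurj, finrank_top, Module.finrank_fin_fun] at this
      exact this
    have hmem : ∀ v, (fun _ => algebraMap R L (π v)) ∈ N := fun v =>
      ⟨algebraMap R L ∘ v, funext fun i => by
        rw [Matrix.mulVecLin_apply, ← (algebraMap R L).map_mulVec, hP]⟩
    refine ⟨by omega, fun hle => ?_, fun h0' y hy => ?_⟩
    · by_contra hne
      haveI : Nontrivial N := Module.nontrivial_of_finrank_pos (R := L) (by omega)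
      let b := Module.Free.chooseBasis L N
      obtain ⟨j⟩ := b.index_nonempty
      have hzero : algebraMap R L x • b j = 0 := by
        apply Subtype.ext
        obtain ⟨w, hw⟩ := (b j).2
        funext i
        show algebraMap R L x * (b j).1 i = 0
        rw [← hw, mul_comm]
        refine hxm _ ?_
        rw [Matrix.mulVecLin_apply]
        simp only [Matrix.mulVec, dotProduct, Matrix.map_apply, P, Matrix.of_apply]
        refine Ideal.sum_mem _ fun k _ => Ideal.mul_mem_right _ _ ?_
        rw [← Localization.AtPrime.map_eq_maximalIdeal]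
        exact Ideal.mem_map_of_mem _ (hle ⟨_, rfl⟩)
      have h' := congrArg (fun q => b.repr q j) hzero
      simp only [map_smul, map_zero, b.repr_self, Finsupp.smul_apply, Finsupp.single_eq_same,
        smul_eq_mul, mul_one, Finsupp.zero_apply] at h'
      exact hxne h'
    · obtain ⟨v, rfl⟩ := hy
      haveI : Subsingleton N := by
        have : Module.finrank L N = 0 := by omega
        exact Module.subsingleton_of_rank_zero (R := L) (by rw [← Module.finrank_eq_rank, this, Nat.cast_zero])
      have := congrArg (fun q : N => q.1 (0 : Fin 1)) (Subsingleton.elim (⟨_, hmem v⟩ : N) 0)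
      obtain ⟨t, ht⟩ := (IsLocalization.map_eq_zero_iff p.primeCompl L _).1 this
      exact ⟨t, t.2, ht⟩
  rcases eq_or_ne (rk e n e) 0 with h | h
  · refine hI (eq_bot_iff.2 fun y hy => ?_)
    by_contra hy0
    obtain ⟨p, hp, hle⟩ := exists_le_isAssociatedPrime_of_isNoetherianRing R y hy0
    obtain ⟨t, ht, hty⟩ := (hloc p hp).2.2 h y hy
    exact ht (hle (by rw [Submodule.mem_colon_singleton, Submodule.mem_bot, smul_eq_mul]; exact hty))
  · have hsub : ((LinearMap.range π : Ideal R) : Set R) ⊆ ⋃ p ∈ associatedPrimes R R, p := by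
      rw [biUnion_associatedPrimes_eq_compl_nonZeroDivisors R]
      exact hcon
    obtain ⟨p, hp, hle⟩ := (Ideal.subset_union_prime_finite (associatedPrimes.finite R R) (f := id)
      0 0 (fun p hp _ _ => hp.1)).1 hsub
    exact h ((hloc p hp).2.1 hle)

end Groth.Agent.S12909
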