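import Groth.Statements.S12911
import Groth.Agent.ENComplexLib.Fitt

set_option autoImplicit false
set_option backward.isDefEq.respectTransparency false
set_option backward.isDefEq.respectTransparency.types false
set_option maxRecDepth 8000
set_option maxHeartbeats 1000000
universe u
open CategoryTheory CategoryTheory.Limits AlgebraicGeometry
open Variety

namespace Groth.Agent.S12911

/-- Let k be a field and φ : O(-1)^n → O^m a morphism of modules on P^r_k, that is an m × n matrix of
linear forms; let F be its cokernel and I = Fitt_0(F) the zeroth Fitting ideal sheaf of F, the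
quasi-coherent ideal sheaf generated locally by the m × m minors of φ. If the closed subset of P^r_k
cut out by I has Krull dimension at most 1, then I, viewed as an O-module, is m-regular: H^j(P^r_k,
I(m - j)) = 0 for 1 ≤ j ≤ r. -/
theorem result (k : Type u) [Field k] (r m n : ℕ)
    (φ : (∐ fun _ : Fin n => Twist.twistProjSpace r k (-1)) ⟶ FlatMod.freeMod (CohB1.ProjSpace r k) m)
    (hdim : topologicalKrullDim ((Fitt.sheafIdeal (cokernel φ) 0).support : Set (CohB1.ProjSpace r k)) ≤ 1) :
    Curv2.IsMRegular k r (ClSub.idealMod (Fitt.sheafIdeal (cokernel φ) 0)) m := by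
  let e : ENComplexLib.T r k (Fin n) 1 ≅ ∐ fun _ : Fin n => Twist.twistProjSpace r k (-1) :=
    biproduct.isoCoproduct fun _ : Fin n => Twist.twistProjSpace r k (-1)
  let φ' := e.hom ≫ φ
  let eC : cokernel φ' ≅ cokernel φ := cokernelEpiComp e.hom φ
  have h1 := ENComplexLib.isCoh_cokernel φ'
  haveI := h1.1
  have h2 : Coh.IsCoh (cokernel φ) := QCohLib.isCoh_of_iso eC h1
  haveI := h2.1
  have hI : Fitt.sheafIdeal (cokernel φ') 0 = Fitt.sheafIdeal (cokernel φ) 0 :=
    FittLib.sheafIdeal_congr eC h1.2 h2.2 0
  rw [← hI] at hdim ⊢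
  exact ENComplexLib.isMRegular_II φ' hdim

end Groth.Agent.S12911
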