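import Groth.Statements.S12913
import Groth.Agent.VBNegLib.Basic

set_option autoImplicit false
universe u
open CategoryTheory CategoryTheory.Limits AlgebraicGeometry
open Curves

namespace Groth.Agent.S12913

/-- Let k be an algebraically closed field, C a curve over k (integral, proper over k, of dimension one,
all local rings regular), and N a locally free O_C-module of rank r which admits a monomorphism into
O_C^m for some m and has no nonzero global section. Then there is a filtration N = N_0 ⊃ N_1 ⊃ ⋯ ⊃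
N_r = 0 whose successive quotients are invertible sheaves of strictly negative degree; it is given
here as modules M_0, …, M_r with M_0 ≅ N, M_r = 0 and monomorphisms M_{j+1} → M_j whose cokernels
are invertible of negative degree. -/
theorem result (k : Type u) [Field k] [IsAlgClosed k]
    (C : Scheme.{u}) [C.Over (Spec (CommRingCat.of k))] [IsIntegral C] [IsProper (C ↘ (Spec (CommRingCat.of k)))]
    (hdim : topologicalKrullDim C = 1) (hreg : ∀ x : C, IsRegularLocalRing (C.presheaf.stalk x))
    (N : C.Modules) (r : ℕ) (hN : FlatMod.IsFinLocFreeOfRank r N) (m : ℕ) (ι : N ⟶ FlatMod.freeMod C m) [Mono ι]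
    (h0 : ∀ s : LinSer.Sect C N, s = 0) :
    ∃ (M : Fin (r + 1) → C.Modules) (f : (j : Fin r) → (M j.succ ⟶ M j.castSucc)),
      Nonempty (M 0 ≅ N) ∧ IsZero (M (Fin.last r)) ∧
        ∀ j : Fin r, Mono (f j) ∧ PicF.IsInvertible (cokernel (f j)) ∧ Curv2.deg k C (cokernel (f j)) 1 < 0 := by
  classical
  haveI : Smooth (C ↘ Spec (CommRingCat.of k)) := CurveH0Lib.smooth_of_regular k _ hreg
  let e : FlatMod.freeMod C m ≅ ⨁ fun _ : Fin m => Coh.structureModule C := (biproduct.isoCoproduct _).symm
  let f : Fin m → (N ⟶ Coh.structureModule C) := fun i => ι ≫ e.hom ≫ biproduct.π _ i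
  have hf : ∀ (A : C.Modules) (g : A ⟶ N), (∀ i, g ≫ f i = 0) → g = 0 := fun A g hg => by
    rw [← cancel_mono ι, zero_comp, ← cancel_mono e.hom, zero_comp]
    refine biproduct.hom_ext _ _ fun i => ?_
    rw [zero_comp, Category.assoc, Category.assoc]
    exact hg i
  suffices H : ∀ (r : ℕ) (N : C.Modules), FlatMod.IsFinLocFreeOfRank r N → ∀ (f : Fin m → (N ⟶ Coh.structureModule C)),
      (∀ (A : C.Modules) (g : A ⟶ N), (∀ i, g ≫ f i = 0) → g = 0) → (∀ s : LinSer.Sect C N, s = 0) →
      ∃ (M : Fin (r + 1) → C.Modules) (g : (j : Fin r) → (M j.succ ⟶ M j.castSucc)),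
        M 0 = N ∧ IsZero (M (Fin.last r)) ∧
          ∀ j : Fin r, Mono (g j) ∧ PicF.IsInvertible (cokernel (g j)) ∧ Curv2.deg k C (cokernel (g j)) 1 < 0 by
    obtain ⟨M, g, hM, hz, hj⟩ := H r N hN f hf h0
    exact ⟨M, g, ⟨eqToIso hM⟩, hz, hj⟩
  intro r
  induction r with
  | zero =>
    intro N hN _ _ _
    exact ⟨fun _ => N, fun j => j.elim0, rfl, CurveVBLib.isZero_of_genRank_zero hN (𝟙 N) hN, fun j => j.elim0⟩
  | succ r ih =>
    intro N hN f hf h0
    obtain ⟨K, i, hi, hK, hinv, hdeg⟩ := VBNegLib.exists_neg_quotient (k := k) hdim hN f hf h0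
    haveI := hi
    obtain ⟨M, g, hM, hz, hj⟩ := ih K hK (fun l => i ≫ f l)
      (fun A g hg => by
        rw [← cancel_mono i, zero_comp]
        exact hf A _ fun l => by rw [Category.assoc]; exact hg l)
      (fun s => QCohLib.app_injective_of_mono i ⊤ ((h0 _).trans (map_zero _).symm))
    subst hM
    refine ⟨Fin.cons N M, Fin.cases (show M 0 ⟶ N from i) (fun j => g j), rfl, hz, fun j => ?_⟩
    induction j using Fin.cases with
    | zero => exact ⟨hi, hinv, hdeg⟩
    | succ j => exact hj j

end Groth.Agent.S12913
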