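import Groth.Statements.S12915
import Groth.Agent.ProjPtsLib.Basic
import Mathlib


-- import your own Groth.Agent.* helpers here

set_option autoImplicit false
universe u
open CAlgX

namespace Groth.Agent.S12915

/-- Let k be a field, S = k[x_0, …, x_r], and f a nonzero homogeneous polynomial of degree m. For every
t ≥ m the image in S/(f) of the homogeneous polynomials of degree t is a k-vector space of dimension
C(t + r, r) - C(t + r - m, r). (The published clause states that the hypersurface f = 0 in P^r has
degree m; its proof computes exactly this Hilbert function, whose polynomial has leading term m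
t^(r-1)/(r-1)!, and that computation is what is stated here.) -/
theorem result (k : Type u) [Field k] (r m : ℕ)
    (f : MvPolynomial (Fin (r + 1)) k) (hf : f.IsHomogeneous m) (hf0 : f ≠ 0) (t : ℕ) (ht : m ≤ t) :
    Module.finrank k
        (Submodule.map ((Ideal.Quotient.mkₐ k (Ideal.span {f})).toLinearMap)
          (MvPolynomial.homogeneousSubmodule (Fin (r + 1)) k t)) =
      Nat.choose (t + r) r - Nat.choose (t + r - m) r := by
  classical
  let S := MvPolynomial.homogeneousSubmodule (Fin (r + 1)) k
  let φ : S t →ₗ[k] (MvPolynomial (Fin (r + 1)) k ⧸ Ideal.span {f}) := (Ideal.Quotient.mkₐ k (Ideal.span {f})).toLinearMap ∘ₗ (S t).subtype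
  have hran : LinearMap.range φ = Submodule.map ((Ideal.Quotient.mkₐ k (Ideal.span {f})).toLinearMap) (S t) := by
    rw [LinearMap.range_comp, Submodule.range_subtype]
  haveI : FiniteDimensional k (S t) := Module.Finite.iff_fg.2 (MvPolynomial.homogeneousSubmodule_fg (Fin (r + 1)) k t)
  have hrn := LinearMap.finrank_range_add_finrank_ker φ
  rw [hran] at hrn
  have hmem : ∀ q : S (t - m), f * q.1 ∈ S t := fun q => by
    have := hf.mul q.2
    rwa [Nat.add_sub_cancel' ht] at this
  let μ : S (t - m) →ₗ[k] LinearMap.ker φ :=
    ((LinearMap.mulLeft k f ∘ₗ (S (t - m)).subtype).codRestrict (S t) hmem).codRestrict (LinearMap.ker φ) fun q => by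
      change Ideal.Quotient.mk _ (f * q.1) = 0
      exact Ideal.Quotient.eq_zero_iff_mem.2 (Ideal.mul_mem_right _ _ (Ideal.mem_span_singleton_self f))
  have hμ : Function.Bijective μ := by
    refine ⟨fun q q' h => Subtype.ext (mul_left_cancel₀ hf0 (congrArg (fun z => z.1.1) h)), fun z => ?_⟩
    obtain ⟨q, hq⟩ := Ideal.mem_span_singleton'.1 (Ideal.Quotient.eq_zero_iff_mem.1 (show Ideal.Quotient.mk _ z.1.1 = 0 from z.2))
    refine ⟨⟨MvPolynomial.homogeneousComponent (t - m) q, MvPolynomial.homogeneousComponent_mem _ _⟩, Subtype.ext (Subtype.ext ?_)⟩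
    change f * MvPolynomial.homogeneousComponent (t - m) q = z.1.1
    have h1 : MvPolynomial.homogeneousComponent t z.1.1 = z.1.1 := by
      rw [MvPolynomial.homogeneousComponent_of_mem z.1.2, if_pos rfl]
    rw [← h1, ← hq, mul_comm q f]
    conv_rhs => rw [← MvPolynomial.sum_homogeneousComponent q, Finset.mul_sum, map_sum]
    have h2 : ∀ i, MvPolynomial.homogeneousComponent t (f * MvPolynomial.homogeneousComponent i q) = if i = t - m then f * MvPolynomial.homogeneousComponent i q else 0 := fun i => by
      rw [MvPolynomial.homogeneousComponent_of_mem (hf.mul (MvPolynomial.homogeneousComponent_isHomogeneous i q))]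
      exact if_congr (by omega) rfl rfl
    rw [Finset.sum_congr rfl (fun i _ => h2 i), Finset.sum_ite_eq']
    split_ifs with h
    · rfl
    · rw [MvPolynomial.homogeneousComponent_eq_zero _ q (by simp only [Finset.mem_range, not_lt] at h; omega), mul_zero]
  rw [← (LinearEquiv.ofBijective μ hμ).finrank_eq, ProjPtsLib.finrank_homogeneous, ProjPtsLib.finrank_homogeneous] at hrn
  have e1 : (r + 1 + (t - m) - 1).choose (t - m) = (t + r - m).choose r := by
    rw [show r + 1 + (t - m) - 1 = r + (t - m) by omega, show t + r - m = r + (t - m) by omega, Nat.choose_symm_add]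
  have e2 : (r + 1 + t - 1).choose t = (t + r).choose r := by
    rw [show r + 1 + t - 1 = r + t by omega, Nat.add_comm t r, Nat.choose_symm_add]
  change Module.finrank k (Submodule.map _ (S t)) = _
  omega

end Groth.Agent.S12915
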