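import Groth.Statements.S12916
import Mathlib.RingTheory.Ideal.AssociatedPrime.Localization
import Mathlib.RingTheory.Ideal.AssociatedPrime.Finiteness
import Mathlib.RingTheory.FiniteLength
import Mathlib.RingTheory.MvPolynomial.Homogeneous
import Mathlib.RingTheory.Polynomial.Basic
import Mathlib.RingTheory.Artinian.Module
import Mathlib.RingTheory.Artinian.Ring
import Mathlib.RingTheory.HopkinsLevitzki
import Mathlib.RingTheory.KrullDimension.Zero
import Mathlib.Algebra.Polynomial.Roots
import Mathlib.Algebra.Module.Torsion.Basic
-- import your own Groth.Agent.* helpers here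

set_option autoImplicit false
universe u
open CAlgX

namespace Groth.Agent.S12916

/-- Let k be an infinite field, S = k[x_0, …, x_r], M a finitely generated S-module and d a natural
number. Then some nonzero homogeneous polynomial f of degree d is quasi-regular on M: the submodule
(0 :_M f) of elements of M annihilated by f has finite length. (The published statement assumes M
graded; this row assumes only that M is finitely generated.) -/
theorem result (k : Type u) [Field k] [Infinite k] (r d : ℕ)
    (M : Type u) [AddCommGroup M] [Module (MvPolynomial (Fin (r + 1)) k) M] [Module.Finite (MvPolynomial (Fin (r + 1)) k) M] :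
    ∃ f : MvPolynomial (Fin (r + 1)) k, f.IsHomogeneous d ∧ f ≠ 0 ∧
      IsFiniteLength (MvPolynomial (Fin (r + 1)) k) ↥(Submodule.torsionBy (MvPolynomial (Fin (r + 1)) k) M f) := by
  classical
  let S := MvPolynomial (Fin (r + 1)) k
  rcases Nat.eq_zero_or_pos d with rfl | hd
  · refine ⟨1, MvPolynomial.isHomogeneous_one _ _, one_ne_zero, ?_⟩
    haveI : Subsingleton ↥(Submodule.torsionBy S M (1 : S)) := ⟨fun a b => Subtype.ext <| by
      have ha := a.2; have hb := b.2
      rw [Submodule.mem_torsionBy_iff, one_smul] at ha hb
      rw [ha, hb]⟩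
    exact IsFiniteLength.of_subsingleton
  let irr : Ideal S := RingHom.ker (MvPolynomial.constantCoeff)
  haveI hirr : irr.IsMaximal := RingHom.ker_isMaximal_of_surjective _ fun x => ⟨MvPolynomial.C x, MvPolynomial.constantCoeff_C _ x⟩
  -- an element `t` avoiding all nonmaximal associated primes
  let ev : k → S := fun t => ∑ i : Fin (r + 1), MvPolynomial.C (t ^ (i : ℕ)) * MvPolynomial.X i ^ d
  have hfin : {t : k | ∃ P ∈ associatedPrimes S M, ¬ P.IsMaximal ∧ ev t ∈ P}.Finite := by
    refine Set.Finite.subset ((associatedPrimes.finite S M).biUnion fun P hP =>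
      (?_ : {t : k | ¬ P.IsMaximal ∧ ev t ∈ P}.Finite)) ?_
    · by_cases hmax : P.IsMaximal
      · simp [hmax]
      haveI : P.IsPrime := IsAssociatedPrime.isPrime hP
      let g : Polynomial (S ⧸ P) := ∑ i : Fin (r + 1), Polynomial.C (Ideal.Quotient.mk P (MvPolynomial.X i ^ d)) * Polynomial.X ^ (i : ℕ)
      have hg : g ≠ 0 := fun h => hmax <| by
        have hX : ∀ i, (MvPolynomial.X i : S) ∈ P := fun i => by
          refine ‹P.IsPrime›.mem_of_pow_mem d (Ideal.Quotient.eq_zero_iff_mem.mp ?_)
          have := congrArg (fun p => Polynomial.coeff p (i : ℕ)) h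
          simp only [g, Polynomial.finsetSum_coeff, Polynomial.coeff_C_mul_X_pow, Polynomial.coeff_zero] at this
          rw [Finset.sum_eq_single i (fun b _ hb => if_neg fun e => hb (Fin.ext e).symm) (by simp), if_pos rfl] at this
          exact this
        have hsub : ∀ x : S, x - MvPolynomial.C (MvPolynomial.constantCoeff x) ∈ P := fun x => by
          induction x using MvPolynomial.induction_on with
          | C a => simp
          | add p q hp hq => simpa [add_sub_add_comm] using P.add_mem hp hq
          | mul_X p i hp => simpa using P.mul_mem_left p (hX i)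
        have hle : irr ≤ P := fun x hx => by simpa [show MvPolynomial.constantCoeff x = 0 from hx] using hsub x
        exact (hirr.eq_of_le Ideal.IsPrime.ne_top' hle) ▸ hirr
      let ψ : k →+* S ⧸ P := (Ideal.Quotient.mk P).comp MvPolynomial.C
      refine Set.Finite.subset ((g.roots.toFinset.finite_toSet).preimage (f := ψ) ψ.injective.injOn) fun t ht => ?_
      rw [Set.mem_preimage, Finset.mem_coe, Multiset.mem_toFinset, Polynomial.mem_roots hg, Polynomial.IsRoot.def]
      rw [← Ideal.Quotient.eq_zero_iff_mem.mpr ht.2]
      simp [g, ev, ψ, Polynomial.eval_finsetSum, mul_comm]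
    · rintro t ⟨P, hP, h1, h2⟩
      exact Set.mem_biUnion hP ⟨h1, h2⟩
  obtain ⟨t, ht⟩ := hfin.exists_notMem
  refine ⟨ev t, ?_, ?_, ?_⟩
  · exact MvPolynomial.IsHomogeneous.sum _ _ d fun i _ => by simpa using (MvPolynomial.isHomogeneous_X_pow i d).C_mul (t ^ (i : ℕ))
  · intro h
    have := congrArg (MvPolynomial.eval fun i : Fin (r + 1) => if i = 0 then (1 : k) else 0) h
    simp [ev, ite_pow, zero_pow hd.ne'] at this
  · let T := Submodule.torsionBy S M (ev t)
    rw [isFiniteLength_iff_isNoetherian_isArtinian]
    refine ⟨inferInstance, ?_⟩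
    let I := Module.annihilator S T
    haveI : IsNoetherianRing S := MvPolynomial.isNoetherianRing
    haveI : IsNoetherian S T := inferInstance
    haveI : IsNoetherianRing (S ⧸ I) := isNoetherianRing_of_surjective S (S ⧸ I) (Ideal.Quotient.mk I) Ideal.Quotient.mk_surjective
    have hmaxp : ∀ Q : Ideal S, Q.IsPrime → I ≤ Q → Q.IsMaximal := fun Q hQ hIQ => by
      obtain ⟨P, hP, hPQ⟩ := Ideal.exists_minimalPrimes_le hIQ
      have hass := Module.associatedPrimes.minimalPrimes_annihilator_subset_associatedPrimes S T hP
      have hM : P ∈ associatedPrimes S M := associatedPrimes.subset_of_injective (Submodule.injective_subtype T) hass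
      have hfP : ev t ∈ P := hP.1.2 (Module.mem_annihilator.mpr fun m => Subtype.ext m.2)
      have hPmax : P.IsMaximal := by
        by_contra h
        exact ht ⟨P, hM, h, hfP⟩
      exact (hPmax.eq_of_le hQ.ne_top hPQ) ▸ hPmax
    haveI : Ring.KrullDimLE 0 (S ⧸ I) := Ring.krullDimLE_zero_iff.mpr fun Q hQ => by
      have hQ' := hmaxp (Q.comap (Ideal.Quotient.mk I)) inferInstance
        (fun x hx => by simp [Ideal.Quotient.eq_zero_iff_mem.mpr hx])
      rw [← Ideal.map_comap_of_surjective _ Ideal.Quotient.mk_surjective Q]
      exact Ideal.map_eq_top_or_isMaximal_of_surjective _ Ideal.Quotient.mk_surjective hQ' |>.resolve_left (by rw [Ideal.map_comap_of_surjective _ Ideal.Quotient.mk_surjective]; exact hQ.ne_top)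
    haveI : IsArtinianRing (S ⧸ I) := isArtinianRing_iff_krullDimLE_zero.mpr inferInstance
    have hts : Module.IsTorsionBySet S T (I : Set S) := fun m a => Module.mem_annihilator.mp a.2 m
    letI := hts.module
    haveI : IsScalarTower S (S ⧸ I) T := hts.isScalarTower
    haveI : Module.Finite (S ⧸ I) T := Module.Finite.of_restrictScalars_finite S _ _
    haveI : IsArtinian (S ⧸ I) T := inferInstance
    exact isArtinian_of_surjective_algebraMap (R := S ⧸ I) (M := T) Ideal.Quotient.mk_surjective

end Groth.Agent.S12916
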