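import Groth.Statements.S12917
import Mathlib
import Groth.Agent.GrSyzLib.LocalPD
import Groth.Agent.GrSyzLib.Exists
import Groth.Agent.DepthLib.AB
import Groth.Agent.TransLib.RelField
-- import your own Groth.Agent.* helpers here

set_option autoImplicit false
universe u
open CAlgX

namespace Groth.Agent.S12917

/-- Let k be a field, Z a finite set of nonzero vectors in k^3, regarded as points of the projective
plane, and I the homogeneous vanishing ideal of Z in S = k[x_0, x_1, x_2]: a polynomial belongs to I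
exactly when each of its homogeneous components vanishes at every vector of Z. Then I has a free
resolution of length one: for some t there are a (t+1) × t matrix Ψ over S, injective as a map S^t →
S^{t+1}, and an S-linear map π : S^{t+1} → S with ker π = im Ψ and im π = I. (The published
statement speaks of the minimal free resolution of I having length 1; stated here as the existence
of such a resolution.) -/
theorem result (k : Type u) [Field k]
    (Z : Finset (Fin 3 → k)) (hZ : ∀ p ∈ Z, p ≠ 0) (I : Ideal (MvPolynomial (Fin 3) k))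
    (hI : ∀ f : MvPolynomial (Fin 3) k, f ∈ I ↔
      ∀ p ∈ Z, ∀ j : ℕ, MvPolynomial.eval p (MvPolynomial.homogeneousComponent j f) = 0) :
    ∃ (t : ℕ) (Ψ : Matrix (Fin (t + 1)) (Fin t) (MvPolynomial (Fin 3) k)) (π : (Fin (t + 1) → MvPolynomial (Fin 3) k) →ₗ[MvPolynomial (Fin 3) k] MvPolynomial (Fin 3) k),
      LinearMap.ker Ψ.mulVecLin = ⊥ ∧ LinearMap.ker π = LinearMap.range Ψ.mulVecLin ∧ LinearMap.range π = I := by
  classical
  let S := MvPolynomial (Fin 3) k
  let pp : Ideal S := RingHom.ker (MvPolynomial.constantCoeff (R := k) (σ := Fin 3))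
  haveI hppmax : pp.IsMaximal := GrSyzLib.isMaximal_ker_constantCoeff
  have hcomp : ∀ f ∈ I, ∀ j : ℕ, MvPolynomial.homogeneousComponent j f ∈ I := by
    intro f hf j
    rw [hI]
    intro q hq l
    rw [MvPolynomial.homogeneousComponent_of_mem (MvPolynomial.homogeneousComponent_mem j f)]
    split_ifs
    · exact (hI f).1 hf q hq j
    · simp
  have hhom : ∀ (j : ℕ) (g : S), g.IsHomogeneous j → (∀ q ∈ Z, MvPolynomial.eval q g = 0) → g ∈ I := by
    intro j g hg hg0
    rw [hI]
    intro q hq l
    rw [MvPolynomial.homogeneousComponent_of_mem ((MvPolynomial.mem_homogeneousSubmodule j g).2 hg)]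
    split_ifs
    · exact hg0 q hq
    · simp
  have hne : ∃ f ∈ I, f ≠ 0 := by
    have hl : ∀ q : Z, ∃ l : S, l ≠ 0 ∧ l.IsHomogeneous 1 ∧ MvPolynomial.eval (q : Fin 3 → k) l = 0 := by
      rintro ⟨q, hq⟩
      obtain ⟨i, hi⟩ : ∃ i, q i ≠ 0 := Function.ne_iff.1 (hZ q hq)
      obtain ⟨j, hj⟩ : ∃ j : Fin 3, j ≠ i := exists_ne i
      refine ⟨MvPolynomial.C (q i) * MvPolynomial.X j - MvPolynomial.C (q j) * MvPolynomial.X i, fun h => hi ?_,
        (((MvPolynomial.isHomogeneous_C _ _).mul (MvPolynomial.isHomogeneous_X _ _)).sub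
          ((MvPolynomial.isHomogeneous_C _ _).mul (MvPolynomial.isHomogeneous_X _ _))), by simp; ring⟩
      have := congrArg (MvPolynomial.eval (Pi.single j (1 : k))) h
      simpa [hj.symm] using this
    choose l hl0 hl1 hl2 using hl
    refine ⟨∏ q, l q, hhom (∑ q : Z, 1) _ (MvPolynomial.IsHomogeneous.prod _ _ _ fun q _ => hl1 q) fun q hq => ?_,
      Finset.prod_ne_zero_iff.2 fun q _ => hl0 q⟩
    rw [map_prod]
    exact Finset.prod_eq_zero (Finset.mem_univ (⟨q, hq⟩ : {x // x ∈ Z})) (hl2 ⟨q, hq⟩)
  -- the grading of the ideal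
  let G : ℤ → Submodule k I := fun z => (GrSyz.stdGr k (Fin 3) z).comap (I.subtype.restrictScalars k)
  have hstd : ∀ (j : ℕ) (g : S), g.IsHomogeneous j → g ∈ GrSyz.stdGr k (Fin 3) (j : ℤ) := by
    intro j g hg
    rw [GrSyz.mem_stdGr_iff]
    intro d hd
    have h1 := hg hd
    rw [Finsupp.weight_apply] at h1 ⊢
    rw [← h1]
    simp [Finsupp.sum]
  have hint : DirectSum.IsInternal G := by
    rw [DirectSum.isInternal_submodule_iff_iSupIndep_and_iSup_eq_top]
    constructor
    · intro z
      rw [Submodule.disjoint_def]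
      intro x hx hx'
      have hind := (DirectSum.Decomposition.isInternal (GrSyz.stdGr k (Fin 3))).submodule_iSupIndep z
      rw [Submodule.disjoint_def] at hind
      refine Subtype.ext (hind (x : S) hx ?_)
      have h2 : (I.subtype.restrictScalars k) x ∈ Submodule.map (I.subtype.restrictScalars k) (⨆ (w) (_ : w ≠ z), G w) :=
        Submodule.mem_map_of_mem hx'
      rw [Submodule.map_iSup] at h2
      refine SetLike.le_def.1 (iSup_mono fun w => ?_) h2
      rw [Submodule.map_iSup]
      exact iSup_mono fun _ => Submodule.map_comap_le _ _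
    · rw [eq_top_iff]
      intro x _
      have hx : x = ∑ j ∈ Finset.range ((x : S).totalDegree + 1),
          (⟨MvPolynomial.homogeneousComponent j (x : S), hcomp _ x.2 j⟩ : I) :=
        Subtype.ext (by rw [Submodule.coe_sum]; exact (MvPolynomial.sum_homogeneousComponent (x : S)).symm)
      rw [hx]
      exact Submodule.sum_mem _ fun j _ => Submodule.mem_iSup_of_mem (j : ℤ)
        (hstd j _ (MvPolynomial.homogeneousComponent_isHomogeneous j _))
  letI : DirectSum.Decomposition G := hint.chooseDecomposition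
  haveI : SetLike.GradedSMul (GrSyz.stdGr k (Fin 3)) G := ⟨fun i j a b ha hb => by
    show a * (b : S) ∈ GrSyz.stdGr k (Fin 3) (i + j)
    exact SetLike.GradedMul.mul_mem ha hb⟩
  obtain ⟨F, hF⟩ := GrSyzLib.exists_minimal (k := k) (r := 2) (M := I) (ℳ := G)
  -- the localisation at the irrelevant ideal
  let L := Localization.AtPrime pp
  haveI : IsRegularLocalRing L := IsRegularRing.isRegularLocalRing_localization pp
  have hdim : ringKrullDim L = ((3 : ℕ) : WithBot ℕ∞) := by
    have h := TransLib.ringKrullDim_quotient_add_height_mvPolynomial k 3 pp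
    letI := Ideal.Quotient.field pp
    rw [ringKrullDim_eq_zero_of_field, zero_add] at h
    rw [IsLocalization.AtPrime.ringKrullDim_eq_height pp L]
    exact h
  obtain ⟨x, hx, hxreg⟩ := CommAlgDim.exists_isSMulRegular_mem (M := S ⧸ I) (I := pp) fun q hq hle => by
    haveI := hq.isPrime
    obtain rfl : pp = q := hppmax.eq_of_le hq.isPrime.ne_top hle
    obtain ⟨-, g, hg⟩ := isAssociatedPrime_iff.1 hq
    obtain ⟨g, rfl⟩ := Ideal.Quotient.mk_surjective g
    have hgI : g ∉ I := fun h => hppmax.ne_top (by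
      rw [hg, eq_top_iff]
      intro a _
      rw [Submodule.mem_colon_singleton, Submodule.mem_bot, Ideal.Quotient.eq_zero_iff_mem.2 h, smul_zero])
    have hXg : ∀ i, MvPolynomial.X i * g ∈ I := fun i => by
      have h1 : (MvPolynomial.X i : S) ∈ pp := MvPolynomial.constantCoeff_X (R := k) i
      rw [hg, Submodule.mem_colon_singleton, Submodule.mem_bot] at h1
      exact Ideal.Quotient.eq_zero_iff_mem.1 h1
    rw [hI] at hgI
    push_neg at hgI
    obtain ⟨q, hq, j, hj⟩ := hgI
    obtain ⟨i, hi⟩ : ∃ i, q i ≠ 0 := Function.ne_iff.1 (hZ q hq)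
    have h2 := (hI _).1 (hXg i) q hq (j + 1)
    have h3 : MvPolynomial.homogeneousComponent (j + 1) (MvPolynomial.X i * g)
        = MvPolynomial.X i * MvPolynomial.homogeneousComponent j g := by
      conv_lhs => rw [← MvPolynomial.sum_homogeneousComponent g, Finset.mul_sum, map_sum]
      have hm : ∀ l, MvPolynomial.homogeneousComponent (j + 1) (MvPolynomial.X i * MvPolynomial.homogeneousComponent l g)
          = if j = l then MvPolynomial.X i * MvPolynomial.homogeneousComponent l g else 0 := fun l => by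
        rw [MvPolynomial.homogeneousComponent_of_mem ((MvPolynomial.mem_homogeneousSubmodule (1 + l) _).2
          ((MvPolynomial.isHomogeneous_X k i).mul (MvPolynomial.homogeneousComponent_isHomogeneous l g)))]
        by_cases h : j = l
        · rw [if_pos h, if_pos (by omega)]
        · rw [if_neg h, if_neg (by omega)]
      simp only [hm, Finset.sum_ite_eq, Finset.mem_range]
      split_ifs with h
      · rfl
      · rw [MvPolynomial.homogeneousComponent_eq_zero j g (by omega), mul_zero]
    rw [h3, map_mul, MvPolynomial.eval_X] at h2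
    exact hj ((mul_eq_zero.1 h2).resolve_left hi)
  have hseq : CommAlgDim.HasSeqIn pp (S ⧸ I) 1 :=
    CommAlgDim.hasSeqIn_succ_of_cons hx hxreg (CommAlgDim.hasSeqIn_zero _)
  haveI : Module.Finite L (LocalizedModule pp.primeCompl (S ⧸ I)) :=
    Module.Finite.of_isLocalizedModule pp.primeCompl (LocalizedModule.mkLinearMap pp.primeCompl (S ⧸ I))
  have hpd : CommAlgDim.PDLT L (LocalizedModule pp.primeCompl (S ⧸ I)) (1 + 2) :=
    (DepthLib.le_depth_iff_pdlt L _ hdim (n := 1) (by omega)).1
      ((CommAlgDim.le_depth_iff 1).2 (hseq.localization le_rfl))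
  rw [GrSyzLib.pdlt_loc_ker_iff pp.primeCompl I.mkQ (Submodule.mkQ_surjective _) 1, Submodule.ker_mkQ] at hpd
  have hlen : F.HasLengthLE 1 := GrSyzLib.hasLengthLE_of_pdlt_loc F hF 1 hpd
  have hinj : LinearMap.ker (F.d 0).mulVecLin = ⊥ := by
    rw [F.exact_succ 0, eq_bot_iff]
    rintro _ ⟨v, rfl⟩
    haveI : IsEmpty (Fin (F.rk (0 + 1 + 1))) := by rw [hlen (0 + 1 + 1) (by omega)]; infer_instance
    rw [Subsingleton.elim v 0, map_zero]
    exact zero_mem _
  have hrk : F.rk 0 = F.rk (0 + 1) + 1 := by
    let g0 : (Fin (F.rk 0) → S) →ₗ[S] I := Fintype.linearCombination S F.aug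
    have h1 := Submodule.finrank_quotient_add_finrank (LinearMap.ker g0)
    rw [(LinearMap.quotKerEquivOfSurjective g0 F.aug_surjective).finrank_eq,
      show LinearMap.ker g0 = LinearMap.range (F.d 0).mulVecLin from F.exact_zero, Module.finrank_fin_fun,
      LinearMap.finrank_range_of_inj (LinearMap.ker_eq_bot.1 hinj), Module.finrank_fin_fun] at h1
    obtain ⟨f, hfI, hf0⟩ := hne
    have h2 : Module.finrank S I = 1 := by
      refine le_antisymm ((Submodule.finrank_le I).trans_eq (Module.finrank_self S)) ?_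
      have h3 : Function.Injective (LinearMap.toSpanSingleton S I ⟨f, hfI⟩) := fun a b h =>
        mul_right_cancel₀ hf0 (congrArg Subtype.val h)
      exact (Module.finrank_self S).symm.le.trans (LinearMap.finrank_le_finrank_of_injective h3)
    rw [h2] at h1
    omega
  have fin : ∀ (a b : ℕ) (_ : a = b + 1) (Ψ : Matrix (Fin a) (Fin b) S) (π : (Fin a → S) →ₗ[S] S),
      LinearMap.ker Ψ.mulVecLin = ⊥ → LinearMap.ker π = LinearMap.range Ψ.mulVecLin → LinearMap.range π = I →
      ∃ (t : ℕ) (Ψ : Matrix (Fin (t + 1)) (Fin t) S) (π : (Fin (t + 1) → S) →ₗ[S] S),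
        LinearMap.ker Ψ.mulVecLin = ⊥ ∧ LinearMap.ker π = LinearMap.range Ψ.mulVecLin ∧ LinearMap.range π = I := by
    rintro a b rfl Ψ π h1 h2 h3
    exact ⟨b, Ψ, π, h1, h2, h3⟩
  let aug : (Fin (F.rk 0) → S) →ₗ[S] I := Fintype.linearCombination S F.aug
  refine fin _ _ hrk (F.d 0) (I.subtype ∘ₗ aug) hinj ?_ ?_
  · rw [LinearMap.ker_comp, Submodule.ker_subtype, Submodule.comap_bot]
    exact F.exact_zero
  · rw [LinearMap.range_comp, (LinearMap.range_eq_top (f := aug)).2 F.aug_surjective, Submodule.map_top, Submodule.range_subtype]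

end Groth.Agent.S12917
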