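import Groth.Statements.S12918
import Groth.Agent.ComodLib.Reynolds
-- import your own Groth.Agent.* helpers here

set_option autoImplicit false
universe u v w
open HopfRep

namespace Groth.Agent.S12918

/-- Let `k` be a commutative ring, `A` a commutative Hopf algebra over `k`, flat as a `k`-module and `B`
a commutative `k`-algebra with a coaction `ρ : B → B ⊗ A` that is an algebra map (an action of the
affine group scheme `Spec A` on `Spec B`). Then the action admits a total integral — a comodule map
`α : A → B`, for the regular coaction on `A`, with `α 1 = 1` — if and only if `ρ` has a left inverse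
`B ⊗ A → B` which is a comodule map for the coaction `id ⊗ Δ` on `B ⊗ A`. -/
theorem result
    (k : Type u) [CommRing k] (A : Type v) [CommRing A] [HopfAlgebra k A] [Module.Flat k A]
    (B : Type w) [CommRing B] [Algebra k B] [HopfRep.Comod k A B] [GLin.IsCoactAlg k A B] :
    (∃ α : A →ₗ[k] B, Hoch.IsComodHom A α ∧ α 1 = 1) ↔
      ∃ lam : Hoch.Ind k A B →ₗ[k] B, Hoch.IsComodHom A lam ∧ lam ∘ₗ Hoch.toInd k A B = LinearMap.id := by
  constructor
  · rintro ⟨α, hα, h1⟩
    refine ⟨ComodLib.retr α, LinearMap.ext fun y => ?_, LinearMap.ext fun b => ComodLib.retr_coact h1 b⟩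
    exact ComodLib.coact_retr hα y
  · rintro ⟨lam, hlam, hinv⟩
    refine ⟨lam ∘ₗ (Hoch.Ind.equiv k A B).toLinearMap ∘ₗ TensorProduct.mk k B A 1, ?_, ?_⟩
    · refine LinearMap.ext fun a => ?_
      have h := LinearMap.congr_fun hlam (Hoch.Ind.equiv k A B ((1 : B) ⊗ₜ[k] a))
      simp only [LinearMap.comp_apply] at h
      simp only [LinearMap.comp_apply, LinearEquiv.coe_coe, TensorProduct.mk_apply]
      rw [h]
      show lam.rTensor A ((TensorProduct.assoc k B A A).symm
        ((1 : B) ⊗ₜ[k] CoalgebraStruct.comul (R := k) a)) =
        (lam ∘ₗ (Hoch.Ind.equiv k A B).toLinearMap ∘ₗ TensorProduct.mk k B A 1).rTensor A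
          (CoalgebraStruct.comul (R := k) a)
      generalize CoalgebraStruct.comul (R := k) a = t
      induction t with
      | zero =>
        simp only [TensorProduct.tmul_zero, map_zero]
        exact (lam.rTensor A).map_zero
      | tmul p q => simp; rfl
      | add t t' ht ht' =>
        simp only [TensorProduct.tmul_add, map_add]
        exact ((lam.rTensor A).map_add _ _).trans (congrArg₂ (· + ·) ht ht')
    · have h := LinearMap.congr_fun hinv (1 : B)
      simp only [LinearMap.comp_apply, Hoch.toInd, LinearEquiv.coe_coe,
        GLin.IsCoactAlg.coact_one (k := k) (A := A) (R := B), LinearMap.id_apply] at h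
      exact h

end Groth.Agent.S12918
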