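import Groth.Statements.S12923
import Mathlib
import Groth.Agent.GLinFinLib.Tame
-- import your own Groth.Agent.* helpers here

set_option autoImplicit false
universe u v w
open HopfRep

namespace Groth.Agent.S12923

/-- Let `k` be a commutative ring, `A` a commutative Hopf algebra over `k`, flat as a `k`-module, `B` a
commutative `k`-algebra with a coaction of `A` that is an algebra map and admits a total integral (a
comodule map `α : A → B` with `α 1 = 1`), `C = B^A`, and `b` an ideal of `B` which is a subcomodule
(a closed subscheme of `Spec B` stable under the action). Then the image of `V(b)` under `Spec B →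
Spec C` is the closed set `V(b ∩ C)`. (The published statement assumes only that taking invariants
is exact on `(B, A)`-modules; a total integral, assumed here, gives that exactness.) -/
theorem result
    (k : Type u) [CommRing k] (A : Type v) [CommRing A] [HopfAlgebra k A] [Module.Flat k A]
    (B : Type w) [CommRing B] [Algebra k B] [HopfRep.Comod k A B] [GLin.IsCoactAlg k A B]
    (htame : ∃ α : A →ₗ[k] B, Hoch.IsComodHom A α ∧ α 1 = 1)
    (b : Ideal B) (hb : HopfRep.IsSubcomod (k := k) (A := A) (b.restrictScalars k)) :
    PrimeSpectrum.comap (algebraMap (GLin.invariants k A B) B) '' PrimeSpectrum.zeroLocus (b : Set B) =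
      PrimeSpectrum.zeroLocus ((b.comap (algebraMap (GLin.invariants k A B) B) : Ideal (GLin.invariants k A B)) : Set (GLin.invariants k A B)) := by
  obtain ⟨α, hα, h1⟩ := htame
  refine Set.Subset.antisymm ?_ fun p hp => ?_
  · rintro _ ⟨Q, hQ, rfl⟩ u hu
    exact hQ hu
  let φ := algebraMap (GLin.invariants k A B) B
  have hdisj : Disjoint ((b ⊔ p.asIdeal.map φ : Ideal B) : Set B) (p.asIdeal.primeCompl.map φ : Set B) := by
    rw [Set.disjoint_left]
    rintro _ hmem ⟨u, hu, rfl⟩
    obtain ⟨x, hx, y, hy, hxy⟩ := Submodule.mem_sup.1 hmem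
    refine hu ?_
    have e : u = GLinFinLib.Tame.proj hα x + GLinFinLib.Tame.proj hα y := by
      rw [← GLinFinLib.Tame.proj_algebraMap hα h1 u]
      apply Subtype.ext
      show TameAct.reynolds k A B B α (φ u) = _
      rw [← hxy, map_add]
      rfl
    have hpx : GLinFinLib.Tame.proj hα x ∈ p.asIdeal :=
      hp (show ((GLinFinLib.Tame.proj hα x : GLin.invariants k A B) : B) ∈ b from
        GLinFinLib.Tame.reynolds_mem_of_isSubcomod α hb hx)
    rw [e]
    exact add_mem hpx (GLinFinLib.Tame.proj_mem_of_mem_map hα p.asIdeal hy)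
  obtain ⟨Q, hQp, hQ, hQd⟩ := Ideal.exists_le_prime_disjoint _ _ hdisj
  refine ⟨⟨Q, hQp⟩, fun x hx => hQ (Submodule.mem_sup_left hx), PrimeSpectrum.ext (le_antisymm (fun u hu => ?_) fun u hu => ?_)⟩
  · by_contra hu'
    exact Set.disjoint_left.1 hQd hu ⟨u, hu', rfl⟩
  · exact hQ (Submodule.mem_sup_right (Ideal.mem_map_of_mem φ hu))

end Groth.Agent.S12923
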