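import Groth.Statements.S12924
import Mathlib
import Groth.Agent.GLinFinLib.Tame
-- import your own Groth.Agent.* helpers here

set_option autoImplicit false
universe u
open CategoryTheory AlgebraicGeometry CategoryTheory.Limits
open HopfRep

namespace Groth.Agent.S12924

open TensorProduct

noncomputable section

theorem cancel {X Y Z : Scheme.{u}} (f : X ⟶ Y) [Surjective f] [IsSchemeTheoreticallyDominant f]
    [QuasiCompact f] {u v : Y ⟶ Z} (huv : f ≫ u = f ≫ v) : u = v := by
  have hb : u.base = v.base := by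
    ext p
    obtain ⟨q, rfl⟩ := f.surjective p
    exact congrArg (fun w : X ⟶ Z => w.base q) huv
  refine Scheme.Hom.ext hb fun U => ?_
  apply ConcreteCategory.hom_ext
  intro s
  apply Scheme.Hom.app_injective f
  have h := Scheme.Hom.congr_app huv U
  have h' := ConcreteCategory.congr_hom h s
  simp only [Scheme.Hom.comp_app, ConcreteCategory.comp_apply] at h'
  simp only [ConcreteCategory.comp_apply]
  rw [← ConcreteCategory.comp_apply, Scheme.Hom.naturality, ConcreteCategory.comp_apply]
  erw [h']
  simp only [ConcreteCategory.comp_apply]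
  erw [← ConcreteCategory.comp_apply, ← Functor.map_comp]
  erw [show ∀ {a : (TopologicalSpace.Opens X)ᵒᵖ} (φ : a ⟶ a) (y : X.presheaf.obj a),
    X.presheaf.map φ y = y from fun φ y => by rw [Subsingleton.elim φ (𝟙 _), X.presheaf.map_id]; rfl]
  rfl

theorem specMap_isSTDominant {R S : Type u} [CommRing R] [CommRing S] (φ : R →+* S)
    (hinj : Function.Injective φ) :
    IsSchemeTheoreticallyDominant (Spec.map (CommRingCat.ofHom φ)) := by
  set φ' := CommRingCat.ofHom φ
  have happ : Function.Injective ((Spec.map φ').appTop) := by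
    have := Scheme.ΓSpecIso_naturality φ'
    have e : (Spec.map φ').appTop = (Scheme.ΓSpecIso _).hom ≫ φ' ≫ (Scheme.ΓSpecIso _).inv := by
      rw [← Category.assoc, ← this, Category.assoc, Iso.hom_inv_id, Category.comp_id]
    rw [e]
    exact ((ConcreteCategory.bijective_of_isIso (Scheme.ΓSpecIso _).inv).1.comp hinj).comp
      (ConcreteCategory.bijective_of_isIso (Scheme.ΓSpecIso _).hom).1
  exact ⟨Scheme.IdealSheafData.ext_of_isAffine
    (by simpa [(Spec.map φ').ker_apply ⟨⊤, isAffineOpen_top _⟩, ← RingHom.injective_iff_ker_eq_bot])⟩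

theorem specMap_isOpenImmersion_away {R : Type u} [CommRing R] (r : R) (S : Type u) [CommRing S]
    [Algebra R S] [IsLocalization.Away r S] :
    IsOpenImmersion (Spec.map (CommRingCat.ofHom (algebraMap R S))) :=
  IsOpenImmersion.of_isLocalization r

theorem invariant_fraction {B T : Type u} [CommRing B] [CommRing T] (ρ inl : B →+* T) (s : B)
    (Bs : Type u) [CommRing Bs] [Algebra B Bs] [IsLocalization.Away s Bs]
    (L : Type u) [CommRing L] [Algebra T L] [IsLocalization.Away (inl s) L]
    (hs : ρ s = inl s) {R : CommRingCat.{u}} {Z : Scheme.{u}} (f : Spec R ⟶ Z) [Mono f]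
    (ψ : Spec (CommRingCat.of B) ⟶ Z)
    (hψ : Spec.map (CommRingCat.ofHom ρ) ≫ ψ = Spec.map (CommRingCat.ofHom inl) ≫ ψ)
    (φ : R ⟶ CommRingCat.of Bs)
    (hfac : Spec.map φ ≫ f =
      Spec.map (CommRingCat.ofHom (algebraMap B (Bs))) ≫ ψ) (u : R) :
    ∃ (m j : ℕ) (x : B), φ.hom u * algebraMap B (Bs) s ^ m =
      algebraMap B (Bs) x ∧ ρ (s ^ j * x) = inl (s ^ j * x) := by
  have u1 : IsUnit (((algebraMap T L).comp ρ) s) := by
    rw [RingHom.comp_apply, hs]
    exact IsLocalization.Away.algebraMap_isUnit _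
  have u0 : IsUnit (((algebraMap T L).comp inl) s) :=
    IsLocalization.Away.algebraMap_isUnit (inl s)
  let a1 : Bs →+* L := IsLocalization.Away.lift s u1
  let a0 : Bs →+* L := IsLocalization.Away.lift s u0
  have e1 : a1.comp (algebraMap B (Bs)) = (algebraMap T L).comp ρ :=
    RingHom.ext fun b => IsLocalization.Away.lift_eq s u1 b
  have e0 : a0.comp (algebraMap B (Bs)) = (algebraMap T L).comp inl :=
    RingHom.ext fun b => IsLocalization.Away.lift_eq s u0 b
  have hsch : φ ≫ CommRingCat.ofHom a1 = φ ≫ CommRingCat.ofHom a0 := by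
    apply Spec.map_injective
    rw [← cancel_mono f, Spec.map_comp, Spec.map_comp, Category.assoc, Category.assoc, hfac,
      ← Category.assoc, ← Category.assoc, ← Spec.map_comp, ← Spec.map_comp,
      ← CommRingCat.ofHom_comp, ← CommRingCat.ofHom_comp, e1, e0, CommRingCat.ofHom_comp,
      CommRingCat.ofHom_comp, Spec.map_comp, Spec.map_comp, Category.assoc, Category.assoc, hψ]
  have he : a1 (φ.hom u) = a0 (φ.hom u) :=
    congrArg (fun w : _ ⟶ CommRingCat.of L => w.hom u) hsch
  obtain ⟨m, x, hx⟩ : ∃ (m : ℕ) (x : B),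
      (φ.hom u : Bs) * algebraMap B Bs s ^ m = algebraMap B Bs x :=
    IsLocalization.Away.surj s (φ.hom u : Bs)
  have g1 : a1 (φ.hom u) * algebraMap T L (inl s) ^ m = algebraMap T L (ρ x) := by
    have h := congrArg a1 hx
    rw [map_mul, map_pow] at h
    erw [RingHom.congr_fun e1 s, RingHom.congr_fun e1 x] at h
    rw [RingHom.comp_apply, RingHom.comp_apply, hs] at h
    exact h
  have g0 : a0 (φ.hom u) * algebraMap T L (inl s) ^ m = algebraMap T L (inl x) := by
    have h := congrArg a0 hx
    rw [map_mul, map_pow] at h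
    erw [RingHom.congr_fun e0 s, RingHom.congr_fun e0 x] at h
    rw [RingHom.comp_apply, RingHom.comp_apply] at h
    exact h
  rw [he] at g1
  obtain ⟨⟨_, j, rfl⟩, hj⟩ :=
    (IsLocalization.eq_iff_exists (Submonoid.powers (inl s)) L).1 (g1.symm.trans g0)
  exact ⟨m, j, x, hx, by rw [map_mul, map_mul, map_pow, map_pow, hs]; exact hj⟩

section

variable {k : Type u} [CommRing k] {A : Type u} [CommRing A] [HopfAlgebra k A]
  {B : Type u} [CommRing B] [Algebra k B] [HopfRep.Comod k A B] [GLin.IsCoactAlg k A B]

/-- `x ↦ ρ x` modulo `I`. -/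
def modCoact (I : Ideal B) : B →ₐ[k] (B ⧸ I) ⊗[k] A :=
  (Algebra.TensorProduct.map (Ideal.Quotient.mkₐ k I) (AlgHom.id k A)).comp (GLin.coactAlgHom k A B)

theorem modCoact_apply (I : Ideal B) (x : B) :
    modCoact (A := A) I x = LinearMap.rTensor A (Ideal.Quotient.mkₐ k I).toLinearMap
      (Comod.coact (k := k) (A := A) x) := by
  show Algebra.TensorProduct.map (Ideal.Quotient.mkₐ k I) (AlgHom.id k A)
      (Comod.coact (k := k) (A := A) x) = _
  generalize Comod.coact (k := k) (A := A) x = y
  induction y with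
  | zero => simp
  | add a b ha hb => simp [map_add, ha, hb]
  | tmul a b => simp

theorem subcomod_ker_modCoact [Module.Flat k A] (I : Ideal B) :
    IsSubcomod (k := k) (A := A)
      ((RingHom.ker (modCoact (k := k) (A := A) I) : Submodule B B).restrictScalars k) := by
  intro w hw
  set Φ₀ : B →ₗ[k] (B ⧸ I) := (Ideal.Quotient.mkₐ k I).toLinearMap with hΦ₀
  set ρ : B →ₗ[k] B ⊗[k] A := Comod.coact (k := k) (A := A) with hρ
  set Φ : B →ₗ[k] (B ⧸ I) ⊗[k] A := LinearMap.rTensor A Φ₀ ∘ₗ ρ with hΦ
  have hker : ((RingHom.ker (modCoact (k := k) (A := A) I) : Submodule B B).restrictScalars k)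
      = LinearMap.ker Φ := by
    ext x
    show modCoact (k := k) (A := A) I x = 0 ↔ Φ x = 0
    rw [modCoact_apply]
    rfl
  rw [hker] at hw ⊢
  have hex : Function.Exact ((LinearMap.ker Φ).subtype.rTensor A) (Φ.rTensor A) :=
    Module.Flat.rTensor_exact A (LinearMap.exact_subtype_ker_map Φ)
  refine (hex (ρ w)).1 ?_
  have hco : (TensorProduct.assoc k B A A) (ρ.rTensor A (ρ w))
      = (CoalgebraStruct.comul (R := k) (A := A)).lTensor B (ρ w) :=
    LinearMap.congr_fun (Comod.coassoc (k := k) (A := A) (V := B)) w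
  have nat1 : ∀ z : B ⊗[k] A,
      (TensorProduct.assoc k (B ⧸ I) A A) ((Φ₀.rTensor A).rTensor A (ρ.rTensor A z))
        = Φ₀.rTensor (A ⊗[k] A) ((TensorProduct.assoc k B A A) (ρ.rTensor A z)) := by
    intro z
    generalize ρ.rTensor A z = y
    induction y with
    | zero => simp
    | add a b ha hb => simp [map_add, ha, hb]
    | tmul a b =>
      induction a with
      | zero => simp
      | add a a' ha ha' => simp only [TensorProduct.add_tmul, map_add, ha, ha']
      | tmul a c => simp
  have nat2 : ∀ z : B ⊗[k] A,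
      Φ₀.rTensor (A ⊗[k] A) ((CoalgebraStruct.comul (R := k) (A := A)).lTensor B z)
        = (CoalgebraStruct.comul (R := k) (A := A)).lTensor (B ⧸ I) (Φ₀.rTensor A z) := by
    intro z
    induction z with
    | zero => simp
    | add a b ha hb => simp [map_add, ha, hb]
    | tmul a b => simp
  apply (TensorProduct.assoc k (B ⧸ I) A A).injective
  rw [map_zero, hΦ, LinearMap.rTensor_comp, LinearMap.comp_apply, nat1, hco, nat2,
    show Φ₀.rTensor A (ρ w) = 0 from hw, map_zero]

theorem ker_modCoact_le (I : Ideal B) : RingHom.ker (modCoact (k := k) (A := A) I) ≤ I := by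
  intro x hx
  rw [← Ideal.Quotient.eq_zero_iff_mem]
  have h0 : LinearMap.rTensor A (Ideal.Quotient.mkₐ k I).toLinearMap
      (Comod.coact (k := k) (A := A) x) = 0 := by
    rw [← modCoact_apply]; exact hx
  have hc : (CoalgebraStruct.counit (R := k) (A := A)).lTensor B (Comod.coact (k := k) (A := A) x)
      = x ⊗ₜ[k] (1 : k) := LinearMap.congr_fun (Comod.counit_comp (k := k) (A := A) (V := B)) x
  have nat : ∀ z : B ⊗[k] A,
      (CoalgebraStruct.counit (R := k) (A := A)).lTensor (B ⧸ I)
        ((Ideal.Quotient.mkₐ k I).toLinearMap.rTensor A z)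
      = (Ideal.Quotient.mkₐ k I).toLinearMap.rTensor k
        ((CoalgebraStruct.counit (R := k) (A := A)).lTensor B z) := by
    intro z
    induction z with
    | zero => simp
    | add a b ha hb => simp [map_add, ha, hb]
    | tmul a b => simp
  have := nat (Comod.coact (k := k) (A := A) x)
  rw [h0, map_zero, hc, LinearMap.rTensor_tmul] at this
  have := congrArg (TensorProduct.rid k (B ⧸ I)) this
  simpa using this.symm

variable {Z : Scheme.{u}} {ψ : Spec (CommRingCat.of B) ⟶ Z}
  (hψ : Spec.map (CommRingCat.ofHom (GLin.coactAlgHom k A B).toRingHom) ≫ ψ =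
      Spec.map (CommRingCat.ofHom
        (Algebra.TensorProduct.includeLeftRingHom : B →+* TensorProduct k B A)) ≫ ψ)

include hψ in
theorem exists_pow_mem_ker (U : Z.Opens) {x : B}
    (hx : x ∈ PrimeSpectrum.vanishingIdeal ({p : PrimeSpectrum B | ψ.base p ∈ U}ᶜ)) :
    ∃ n : ℕ, x ^ n ∈ RingHom.ker (modCoact (k := k) (A := A)
      (PrimeSpectrum.vanishingIdeal ({p : PrimeSpectrum B | ψ.base p ∈ U}ᶜ))) := by
  set Y : Set (PrimeSpectrum B) := {p : PrimeSpectrum B | ψ.base p ∈ U}ᶜ with hY
  set I := PrimeSpectrum.vanishingIdeal Y with hI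
  have hclosed : IsClosed Y := (U.isOpen.preimage ψ.continuous).isClosed_compl
  have hzl : PrimeSpectrum.zeroLocus (I : Set B) = Y := by
    rw [hI, PrimeSpectrum.zeroLocus_vanishingIdeal_eq_closure, hclosed.closure_eq]
  have hnil : IsNilpotent (modCoact (k := k) (A := A) I x) := by
    rw [nilpotent_iff_mem_prime]
    intro P hP
    let m : B ⊗[k] A →ₐ[k] (B ⧸ I) ⊗[k] A :=
      Algebra.TensorProduct.map (Ideal.Quotient.mkₐ k I) (AlgHom.id k A)
    let Q : PrimeSpectrum (B ⊗[k] A) := PrimeSpectrum.comap m.toRingHom ⟨P, hP⟩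
    let p0 := PrimeSpectrum.comap
      (Algebra.TensorProduct.includeLeftRingHom : B →+* TensorProduct k B A) Q
    let p1 := PrimeSpectrum.comap (GLin.coactAlgHom k A B).toRingHom Q
    have e : ψ.base p1 = ψ.base p0 :=
      congrArg (fun w : Spec (CommRingCat.of (B ⊗[k] A)) ⟶ Z => w.base Q) hψ
    have h0 : p0 ∈ Y := by
      rw [← hzl, PrimeSpectrum.mem_zeroLocus]
      intro y hy
      show m (y ⊗ₜ[k] (1 : A)) ∈ P
      have : m (y ⊗ₜ[k] (1 : A)) = 0 := by
        simp [m, Ideal.Quotient.eq_zero_iff_mem.2 hy]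
      rw [this]; exact zero_mem _
    have h1 : p1 ∈ Y := fun h => h0 (show ψ.base p0 ∈ U from e ▸ h)
    exact (PrimeSpectrum.mem_vanishingIdeal Y x).1 hx p1 h1
  obtain ⟨n, hn⟩ := hnil
  exact ⟨n, by rw [RingHom.mem_ker, map_pow, hn]⟩

variable [Module.Flat k A]

include hψ in
theorem exists_elements {α : A →ₗ[k] B} (hα : Hoch.IsComodHom A α) (h1 : α 1 = 1) :
    Ideal.span {c : GLin.invariants k A B | ∃ i : Z.affineOpenCover.I₀, ∀ p : PrimeSpectrum B,
      (c : B) ∉ p.asIdeal → ψ.base p ∈ (Z.affineOpenCover.f i).opensRange} = ⊤ := by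
  set T := {c : GLin.invariants k A B | ∃ i : Z.affineOpenCover.I₀, ∀ p : PrimeSpectrum B,
      (c : B) ∉ p.asIdeal → ψ.base p ∈ (Z.affineOpenCover.f i).opensRange} with hT
  let Y : Z.affineOpenCover.I₀ → Set (PrimeSpectrum B) := fun i =>
    {p : PrimeSpectrum B | ψ.base p ∈ (Z.affineOpenCover.f i).opensRange}ᶜ
  let b : Z.affineOpenCover.I₀ → Submodule B B := fun i =>
    RingHom.ker (modCoact (k := k) (A := A) (PrimeSpectrum.vanishingIdeal (Y i)))
  have htop : (⨆ i, b i) = ⊤ := by
    by_contra hne
    obtain ⟨m, hm, hle⟩ := Ideal.exists_le_maximal (⨆ i, b i : Ideal B) hne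
    let p : PrimeSpectrum B := ⟨m, hm.isPrime⟩
    obtain ⟨i, y, hy⟩ : ∃ i, ψ.base p ∈ Set.range (Z.affineOpenCover.f i).base :=
      ⟨_, Z.affineOpenCover.covers (ψ.base p)⟩
    have hp : p ∉ Y i := fun h => h ⟨y, hy⟩
    have hcl : IsClosed (Y i) :=
      ((Z.affineOpenCover.f i).opensRange.isOpen.preimage ψ.continuous).isClosed_compl
    rw [← hcl.closure_eq, ← PrimeSpectrum.zeroLocus_vanishingIdeal_eq_closure,
      PrimeSpectrum.mem_zeroLocus, Set.not_subset] at hp
    obtain ⟨x, hx, hxm⟩ := hp
    obtain ⟨n, hn⟩ := exists_pow_mem_ker hψ _ hx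
    exact hxm (hm.isPrime.mem_of_pow_mem n (hle (le_iSup b i hn)))
  have key : ∀ x ∈ (⨆ i, b i), GLinFinLib.Tame.proj hα x ∈ Ideal.span T := by
    intro x hx
    induction hx using Submodule.iSup_induction' with
    | mem i y hy =>
      refine Ideal.subset_span ⟨i, fun p hp => ?_⟩
      by_contra hpY
      refine hp ((PrimeSpectrum.mem_vanishingIdeal _ _).1 ?_ p (show p ∈ Y i from hpY))
      exact ker_modCoact_le _ (GLinFinLib.Tame.reynolds_mem_of_isSubcomod α
        (subcomod_ker_modCoact _) hy)
    | zero =>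
      convert (Ideal.span T).zero_mem
      exact Subtype.ext (map_zero _)
    | add y z _ _ hy hz =>
      convert (Ideal.span T).add_mem hy hz
      exact Subtype.ext (map_add _ _ _)
  rw [Ideal.eq_top_iff_one]
  have := key 1 (htop ▸ Submodule.mem_top)
  rwa [show GLinFinLib.Tame.proj hα (1 : B) = 1 from
    GLinFinLib.Tame.proj_algebraMap hα h1 1] at this

omit [Module.Flat k A] in
include hψ in
theorem exists_local (c : GLin.invariants k A B) {R : CommRingCat.{u}} (f : Spec R ⟶ Z)
    [IsOpenImmersion f]
    (hc : ∀ p : PrimeSpectrum B, (c : B) ∉ p.asIdeal → ψ.base p ∈ f.opensRange) :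
    ∃ χ : Spec (CommRingCat.of (Localization.Away c)) ⟶ Z,
      Spec.map (CommRingCat.ofHom (IsLocalization.Away.map (Localization.Away c)
          (Localization.Away (algebraMap (GLin.invariants k A B) B c))
          (algebraMap (GLin.invariants k A B) B) c)) ≫ χ =
        Spec.map (CommRingCat.ofHom
          (algebraMap B (Localization.Away (algebraMap (GLin.invariants k A B) B c)))) ≫ ψ := by
  set s : B := algebraMap (GLin.invariants k A B) B c with hs
  set θ := IsLocalization.Away.map (Localization.Away c) (Localization.Away s)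
    (algebraMap (GLin.invariants k A B) B) c with hθ
  have hθinj : Function.Injective θ := by
    haveI : IsLocalization ((Submonoid.powers c).map (algebraMap (GLin.invariants k A B) B))
        (Localization.Away s) := by
      rw [Submonoid.map_powers]
      exact inferInstanceAs (IsLocalization.Away s (Localization.Away s))
    exact IsLocalization.map_injective_of_injective _ _ _ Subtype.val_injective
  let g : Spec (CommRingCat.of (Localization.Away s)) ⟶ Spec (CommRingCat.of B) :=
    Spec.map (CommRingCat.ofHom (algebraMap B (Localization.Away s)))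
  have hrange : Set.range (g ≫ ψ).base ⊆ Set.range f.base := by
    rintro _ ⟨q, rfl⟩
    refine hc (g.base q) ?_
    have : g.base q ∈ Set.range (PrimeSpectrum.comap (algebraMap B (Localization.Away s))) :=
      ⟨q, rfl⟩
    rw [PrimeSpectrum.localization_away_comap_range (Localization.Away s) s] at this
    exact this
  let ψs := IsOpenImmersion.lift f (g ≫ ψ) hrange
  obtain ⟨φ, hφ⟩ : ∃ φ, Spec.map φ = ψs := Spec.map_surjective ψs
  have hfac : Spec.map φ ≫ f = g ≫ ψ := by
    rw [hφ]; exact IsOpenImmersion.lift_fac _ _ _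
  have hin : ∀ u, φ.hom u ∈ θ.range := by
    intro u
    obtain ⟨m, j, x, hx, hj⟩ := invariant_fraction (GLin.coactAlgHom k A B).toRingHom
      (Algebra.TensorProduct.includeLeftRingHom : B →+* TensorProduct k B A) s (Localization.Away s)
      (Localization.Away ((Algebra.TensorProduct.includeLeftRingHom : B →+* TensorProduct k B A) s))
      c.2 f ψ hψ φ hfac u
    have hmem : s ^ j * x ∈ GLin.invariants k A B := hj
    refine ⟨IsLocalization.mk' (Localization.Away c) (⟨s ^ j * x, hmem⟩ : GLin.invariants k A B)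
      (⟨c ^ (j + m), j + m, rfl⟩ : Submonoid.powers c), ?_⟩
    rw [hθ, IsLocalization.Away.map, IsLocalization.map_mk', IsLocalization.mk'_eq_iff_eq_mul]
    show algebraMap B (Localization.Away s) (s ^ j * x) =
      φ.hom u * algebraMap B (Localization.Away s) ((algebraMap (GLin.invariants k A B) B) (c ^ (j + m)))
    rw [map_pow (algebraMap (GLin.invariants k A B) B), ← hs, pow_add, map_mul, map_mul, ← hx,
      map_pow, map_pow]
    ring
  let e : Localization.Away c ≃+* θ.range :=
    RingEquiv.ofBijective θ.rangeRestrict ⟨fun a b h => hθinj (congrArg Subtype.val h),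
      θ.rangeRestrict_surjective⟩
  let φ' := e.symm.toRingHom.comp (φ.hom.codRestrict θ.range hin)
  refine ⟨Spec.map (CommRingCat.ofHom φ') ≫ f, ?_⟩
  have hcomp : CommRingCat.ofHom φ' ≫ CommRingCat.ofHom θ = φ := by
    ext u
    show θ (e.symm ⟨φ.hom u, hin u⟩) = φ.hom u
    exact congrArg Subtype.val (e.apply_symm_apply ⟨φ.hom u, hin u⟩)
  rw [← Category.assoc, ← Spec.map_comp, hcomp]
  exact hfac

omit [Module.Flat k A] in
theorem local_compat (c : GLin.invariants k A B)
    (χ : Spec (CommRingCat.of (Localization.Away c)) ⟶ Z)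
    (hχ : Spec.map (CommRingCat.ofHom (IsLocalization.Away.map (Localization.Away c)
          (Localization.Away (algebraMap (GLin.invariants k A B) B c))
          (algebraMap (GLin.invariants k A B) B) c)) ≫ χ =
        Spec.map (CommRingCat.ofHom
          (algebraMap B (Localization.Away (algebraMap (GLin.invariants k A B) B c)))) ≫ ψ)
    {T : Scheme.{u}} (q : T ⟶ Spec (CommRingCat.of (Localization.Away c)))
    (b : T ⟶ Spec (CommRingCat.of B))
    (hqb : q ≫ Spec.map (CommRingCat.ofHom (algebraMap (GLin.invariants k A B) (Localization.Away c)))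
      = b ≫ Spec.map (CommRingCat.ofHom (algebraMap (GLin.invariants k A B) B))) :
    q ≫ χ = b ≫ ψ := by
  set s : B := algebraMap (GLin.invariants k A B) B c with hs
  haveI := specMap_isOpenImmersion_away s (Localization.Away s)
  haveI := specMap_isOpenImmersion_away c (Localization.Away c)
  have hb : Set.range b.base ⊆
      Set.range (Spec.map (CommRingCat.ofHom (algebraMap B (Localization.Away s)))).base := by
    rintro _ ⟨t, rfl⟩
    show b.base t ∈ Set.range (PrimeSpectrum.comap (algebraMap B (Localization.Away s)))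
    rw [PrimeSpectrum.localization_away_comap_range (Localization.Away s) s]
    have e := congrArg (fun w : T ⟶ Spec (CommRingCat.of (GLin.invariants k A B)) => w.base t) hqb
    have hq : PrimeSpectrum.comap (algebraMap (GLin.invariants k A B) (Localization.Away c))
        (q.base t) ∈ (PrimeSpectrum.basicOpen c : Set _) := by
      rw [← PrimeSpectrum.localization_away_comap_range (Localization.Away c) c]
      exact ⟨_, rfl⟩
    intro hmem
    apply hq
    have e' : PrimeSpectrum.comap (algebraMap (GLin.invariants k A B) (Localization.Away c))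
        (q.base t) = PrimeSpectrum.comap (algebraMap (GLin.invariants k A B) B) (b.base t) := e
    rw [e']
    exact hmem
  set b' := IsOpenImmersion.lift
    (Spec.map (CommRingCat.ofHom (algebraMap B (Localization.Away s)))) b hb with hb'
  have hfac : b' ≫ Spec.map (CommRingCat.ofHom (algebraMap B (Localization.Away s))) = b :=
    IsOpenImmersion.lift_fac _ _ _
  have hq' : b' ≫ Spec.map (CommRingCat.ofHom (IsLocalization.Away.map (Localization.Away c)
      (Localization.Away s) (algebraMap (GLin.invariants k A B) B) c)) = q := by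
    rw [← cancel_mono (Spec.map (CommRingCat.ofHom
      (algebraMap (GLin.invariants k A B) (Localization.Away c)))), hqb, ← hfac, Category.assoc,
      Category.assoc, ← Spec.map_comp, ← Spec.map_comp, ← CommRingCat.ofHom_comp,
      ← CommRingCat.ofHom_comp, IsLocalization.Away.map, IsLocalization.map_comp]
  rw [← hq', Category.assoc, hχ, ← Category.assoc, hfac]

end

/-- Let `k` be a commutative ring, `A` a commutative Hopf algebra over `k`, flat as a `k`-module, `B` a
commutative `k`-algebra with a coaction `ρ : B → B ⊗ A` that is an algebra map and admits a total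
integral (a comodule map `α : A → B` with `α 1 = 1`), and `C = B^A`. Then `Spec B → Spec C` is a
categorical quotient of the action in the category of schemes: for every scheme `Z` and every
morphism `ψ : Spec B → Z` which is invariant, i.e. has the same composite with `Spec (B ⊗ A) → Spec
B` induced by `ρ` and by `b ↦ b ⊗ 1`, there is exactly one morphism `Spec C → Z` through which `ψ`
factors. (The published statement assumes only that taking invariants is exact on `(B, A)`-modules;
a total integral, assumed here, gives that exactness.) -/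
theorem result
    (k : Type u) [CommRing k] (A : Type u) [CommRing A] [HopfAlgebra k A] [Module.Flat k A]
    (B : Type u) [CommRing B] [Algebra k B] [HopfRep.Comod k A B] [GLin.IsCoactAlg k A B]
    (htame : ∃ α : A →ₗ[k] B, Hoch.IsComodHom A α ∧ α 1 = 1)
    (Z : Scheme.{u}) (ψ : Spec (CommRingCat.of B) ⟶ Z)
    (hψ : Spec.map (CommRingCat.ofHom (GLin.coactAlgHom k A B).toRingHom) ≫ ψ =
      Spec.map (CommRingCat.ofHom
        (Algebra.TensorProduct.includeLeftRingHom : B →+* TensorProduct k B A)) ≫ ψ) :
    ∃! χ : Spec (CommRingCat.of (GLin.invariants k A B)) ⟶ Z,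
      Spec.map (CommRingCat.ofHom (algebraMap (GLin.invariants k A B) B)) ≫ χ = ψ := by
  obtain ⟨α, hα, h1⟩ := htame
  let π : Spec (CommRingCat.of B) ⟶ Spec (CommRingCat.of (GLin.invariants k A B)) :=
    Spec.map (CommRingCat.ofHom (algebraMap (GLin.invariants k A B) B))
  haveI : IsSchemeTheoreticallyDominant π := specMap_isSTDominant _ Subtype.val_injective
  haveI : Surjective π := ⟨fun p => (PrimeSpectrum.mem_range_comap_iff
    (algebraMap (GLin.invariants k A B) B)).2 (GLinFinLib.Tame.comap_map_eq hα h1 p.asIdeal)⟩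
  let T := {c : GLin.invariants k A B | ∃ i : Z.affineOpenCover.I₀, ∀ p : PrimeSpectrum B,
      (c : B) ∉ p.asIdeal → ψ.base p ∈ (Z.affineOpenCover.f i).opensRange}
  have hloc : ∀ c : T, ∃ χ : Spec (CommRingCat.of (Localization.Away (c : GLin.invariants k A B))) ⟶ Z,
      _ := fun c => exists_local hψ c.1 (Z.affineOpenCover.f c.2.choose) c.2.choose_spec
  choose χ hχ using hloc
  let 𝒰 := (Scheme.affineOpenCoverOfSpanRangeEqTop
    (R := CommRingCat.of (GLin.invariants k A B)) (fun c : T => (c : GLin.invariants k A B))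
    (by rw [Subtype.range_coe]; exact exists_elements hψ hα h1)).openCover
  have hcomp : ∀ x y : T, pullback.fst (𝒰.f x) (𝒰.f y) ≫ χ x = pullback.snd (𝒰.f x) (𝒰.f y) ≫ χ y := by
    intro x y
    let j := pullback.fst (𝒰.f x) (𝒰.f y) ≫ 𝒰.f x
    haveI : Flat j := inferInstance
    apply cancel (pullback.fst j π)
    refine ((Category.assoc _ _ _).symm.trans
      ((local_compat x.1 (χ x) (hχ x) (pullback.fst j π ≫ pullback.fst (𝒰.f x) (𝒰.f y))
        (pullback.snd j π) ((Category.assoc _ _ _).trans pullback.condition)).trans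
      (local_compat y.1 (χ y) (hχ y) (pullback.fst j π ≫ pullback.snd (𝒰.f x) (𝒰.f y))
        (pullback.snd j π) ?_).symm)).trans (Category.assoc _ _ _)
    exact ((Category.assoc _ _ _).trans
      (congrArg (pullback.fst j π ≫ ·) pullback.condition.symm)).trans pullback.condition
  refine ⟨Scheme.Cover.glueMorphisms 𝒰 χ hcomp, ?_, fun χ' hχ' => ?_⟩
  · apply Scheme.Cover.hom_ext (𝒰.pullback₁ π)
    intro x
    show pullback.fst π (𝒰.f x) ≫ π ≫ _ = pullback.fst π (𝒰.f x) ≫ ψ
    rw [← Category.assoc, pullback.condition, Category.assoc, Scheme.Cover.ι_glueMorphisms]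
    exact local_compat x.1 (χ x) (hχ x) _ _ pullback.condition.symm
  · apply cancel π
    rw [hχ']
    symm
    apply Scheme.Cover.hom_ext (𝒰.pullback₁ π)
    intro x
    show pullback.fst π (𝒰.f x) ≫ π ≫ _ = pullback.fst π (𝒰.f x) ≫ ψ
    rw [← Category.assoc, pullback.condition, Category.assoc, Scheme.Cover.ι_glueMorphisms]
    exact local_compat x.1 (χ x) (hχ x) _ _ pullback.condition.symm

end

end Groth.Agent.S12924
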