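import Groth.Statements.S12925
import Mathlib
-- import your own Groth.Agent.* helpers here

set_option autoImplicit false
universe u w
open HopfRep

namespace Groth.Agent.S12925

/-- Let `k` be a commutative ring, `M` a commutative group and `B` a commutative `k`-algebra with a
coaction of the group algebra `k[M]` that is an algebra map (an action of the diagonalizable group
scheme `D(M) = Spec k[M]` on `Spec B`). Then the action is tame: there is a comodule map `α : k[M] →
B`, for the regular coaction on `k[M]`, with `α 1 = 1`. -/
theorem result
    (k : Type u) [CommRing k] (M : Type u) [CommGroup M]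
    (B : Type w) [CommRing B] [Algebra k B] [HopfRep.Comod k (MonoidAlgebra k M) B]
    [GLin.IsCoactAlg k (MonoidAlgebra k M) B] :
    ∃ α : MonoidAlgebra k M →ₗ[k] B, Hoch.IsComodHom (MonoidAlgebra k M) α ∧ α 1 = 1 := by
  classical
  let b := MonoidAlgebra.basis M k
  refine ⟨b.constr k fun m => if m = 1 then (1 : B) else 0, b.ext fun m => ?_, ?_⟩
  · have hc : CoalgebraStruct.comul (R := k) (b m) = b m ⊗ₜ[k] b m := by
      simp [b]
    have hρ : HopfRep.Comod.coact (k := k) (A := MonoidAlgebra k M) (b m) = b m ⊗ₜ[k] b m := hc
    simp only [LinearMap.comp_apply]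
    rw [hρ, LinearMap.rTensor_tmul, Module.Basis.constr_basis]
    split_ifs with h
    · subst h
      rw [GLin.IsCoactAlg.coact_one (k := k), Algebra.TensorProduct.one_def]
      simp [b, MonoidAlgebra.one_def]
    · simp
  · have : (1 : MonoidAlgebra k M) = b 1 := by simp [b, MonoidAlgebra.one_def]
    rw [this, Module.Basis.constr_basis, if_pos rfl]

end Groth.Agent.S12925
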