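import Groth.Statements.S12926
import Groth.Agent.ComodLib.Reynolds
-- import your own Groth.Agent.* helpers here

set_option autoImplicit false
universe u v
open HopfRep

namespace Groth.Agent.S12926

/-- Let `k` be a commutative ring and `A` a commutative bialgebra over `k`, flat as a `k`-module. If the
submodule `k · 1` of the regular comodule `A` has a complement `H` which is a subcomodule — the case
used when `A` is cosemisimple, i.e. every subcomodule of every comodule is a direct summand as a
comodule — then the trivial action of `Spec A` on `Spec k` is tame: there is a comodule map `α : A →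
k`, for the regular coaction on `A` and the trivial coaction `r ↦ r ⊗ 1` on `k`, with `α 1 = 1`. -/
theorem result
    (k : Type u) [CommRing k] (A : Type v) [CommRing A] [Bialgebra k A] [Module.Flat k A]
    (H : Submodule k A) (hH : HopfRep.IsSubcomod (k := k) (A := A) H)
    (hc : IsCompl (Submodule.span k {(1 : A)}) H) :
    ∃ α : A →ₗ[k] k, @Hoch.IsComodHom k _ A _ _ _ A _ _ _ k _ _ (HopfRep.Comod.trivial k A k) α ∧ α 1 = 1 := by
  let P : A →ₗ[k] A := (Submodule.span k {(1 : A)}).subtype ∘ₗ
    Submodule.projectionOnto (Submodule.span k {(1 : A)}) H hc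
  let α : A →ₗ[k] k := CoalgebraStruct.counit (R := k) (A := A) ∘ₗ P
  have h1mem : (1 : A) ∈ Submodule.span k {(1 : A)} := Submodule.mem_span_singleton_self 1
  have hP1 : P 1 = 1 := congrArg Subtype.val (Submodule.projectionOnto_apply_left hc ⟨1, h1mem⟩)
  have hα1 : α 1 = 1 := by simp [α, hP1, Bialgebra.counit_one]
  have hαH : ∀ h ∈ H, α h = 0 := by
    intro h hh
    have : P h = 0 := congrArg Subtype.val ((Submodule.projectionOnto_apply_eq_zero_iff hc).2 hh)
    simp [α, this]
  refine ⟨α, LinearMap.ext fun x => ?_, hα1⟩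
  show α x ⊗ₜ[k] (1 : A) = α.rTensor A (CoalgebraStruct.comul (R := k) x)
  obtain ⟨y, hy, z, hz, rfl⟩ := Submodule.mem_sup.1 (hc.sup_eq_top ▸ Submodule.mem_top : x ∈ _ ⊔ H)
  obtain ⟨c, rfl⟩ := Submodule.mem_span_singleton.1 hy
  obtain ⟨t, ht⟩ := hH z hz
  have hz0 : α.rTensor A (CoalgebraStruct.comul (R := k) z) = 0 := by
    rw [show CoalgebraStruct.comul (R := k) z = H.subtype.rTensor A t from ht.symm,
      ← LinearMap.rTensor_comp_apply,
      show α ∘ₗ H.subtype = 0 from LinearMap.ext fun h => hαH h h.2]
    simp
  rw [map_add, map_add, map_add, hz0, hαH z hz, map_smul, map_smul, map_smul, Bialgebra.comul_one,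
    Algebra.TensorProduct.one_def, LinearMap.rTensor_tmul, hα1, add_zero, add_zero,
    TensorProduct.smul_tmul']

end Groth.Agent.S12926
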