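import Groth.Statements.S12928
import Groth.Agent.ComodLib.HomComod
open TensorProduct

set_option autoImplicit false
universe u
open HopfRep

namespace Groth.Agent.S12928

/-- Let `k` be a commutative ring, `A` a commutative Hopf algebra over `k` which is finite locally free
(finite projective, in particular flat) as a `k`-module, `B` a commutative `k`-algebra with a
coaction of `A` that is an algebra map, and `C = B^A` the ring of invariants; assume `C` Noetherian
and `B` finite and flat over `C`. If taking invariants is exact on `(B, A)`-modules — for
`B`-modules `M`, `N` with compatible `A`-coactions (in the universe of `k`, `A`, `B`) every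
surjective `B`-linear comodule map `M → N` maps `M^A` onto `N^A` — then the action is tame: there is
a comodule map `α : A → B` with `α 1 = 1`. Together with the converse (a total integral makes
invariants exact) this says that tameness of the action is the exactness of invariants. (The
published statement does not assume `B` finite over `C`; its proof uses that finiteness, which is
assumed here.) -/
theorem result
    (k : Type u) [CommRing k] (A : Type u) [CommRing A] [HopfAlgebra k A] [Module.Flat k A]
    [Module.Finite k A] [Module.Projective k A]
    (B : Type u) [CommRing B] [Algebra k B] [HopfRep.Comod k A B] [GLin.IsCoactAlg k A B]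
    [IsNoetherianRing (GLin.invariants k A B)] [Module.Finite (GLin.invariants k A B) B] [Module.Flat (GLin.invariants k A B) B]
    (hexact : ∀ (M N : Type u) [AddCommGroup M] [Module k M] [Module B M] [IsScalarTower k B M]
      [HopfRep.Comod k A M] [TameAct.IsHopfMod k A B M]
      [AddCommGroup N] [Module k N] [Module B N] [IsScalarTower k B N]
      [HopfRep.Comod k A N] [TameAct.IsHopfMod k A B N] (f : M →ₗ[B] N),
      Hoch.IsComodHom A (f.restrictScalars k) → Function.Surjective f →
      ∀ n ∈ HopfRep.fixedPts k A N, ∃ m ∈ HopfRep.fixedPts k A M, f m = n) :
    ∃ α : A →ₗ[k] B, Hoch.IsComodHom A α ∧ α 1 = 1 := by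
  let _ := ComodLib.homComod k A B
  have := ComodLib.homComod_isHopfMod k A B
  have : TameAct.IsHopfMod k A B B := by
    refine ⟨fun b m => ?_⟩
    rw [smul_eq_mul, GLin.IsCoactAlg.coact_mul (k := k) (A := A)]
    generalize HopfRep.Comod.coact (k := k) (A := A) b = y
    generalize HopfRep.Comod.coact (k := k) (A := A) m = z
    induction y with
    | zero => simp
    | tmul c a =>
      induction z with
      | zero => simp
      | tmul d e => simp [Algebra.TensorProduct.tmul_mul_tmul]
      | add z z' hz hz' => simp only [mul_add, map_add, hz, hz']
    | add y y' hy hy' => simp only [add_mul, map_add, LinearMap.add_apply, hy, hy']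
  let ev : (A →ₗ[k] B) →ₗ[B] B :=
    { toFun := fun h => h 1
      map_add' := fun _ _ => rfl
      map_smul' := fun _ _ => rfl }
  have hev : Hoch.IsComodHom A (ev.restrictScalars k) := by
    refine LinearMap.ext fun h => ?_
    show HopfRep.Comod.coact (k := k) (A := A) (h 1) = _
    have e : ∀ x, (ev.restrictScalars k).rTensor A x = ComodLib.homE k A B A x 1 := by
      intro x
      induction x with
      | zero => simp
      | tmul g a => rw [LinearMap.rTensor_tmul, ComodLib.homE_tmul]; rfl
      | add x y hx hy => simp only [map_add, LinearMap.add_apply, hx, hy]
    show _ = (ev.restrictScalars k).rTensor A (ComodLib.homCoact k A B h)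
    rw [e, ComodLib.homE_homCoact, ComodLib.homTw_apply, Bialgebra.comul_one,
      Algebra.TensorProduct.one_def, TensorProduct.map_tmul, HopfAlgebra.antipode_one,
      ComodLib.mulR_tmul_one]
    rfl
  have hsurj : Function.Surjective ev := fun b =>
    ⟨(CoalgebraStruct.counit (R := k) (A := A)).smulRight b, by
      show CoalgebraStruct.counit (R := k) (1 : A) • b = b
      rw [Bialgebra.counit_one, one_smul]⟩
  have h1 : (1 : B) ∈ HopfRep.fixedPts k A B := GLin.IsCoactAlg.coact_one
  obtain ⟨α, hα, hα1⟩ := hexact (A →ₗ[k] B) B ev hev hsurj 1 h1
  exact ⟨α, ComodLib.mem_fixedPts_homComod k A B α hα, hα1⟩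

end Groth.Agent.S12928
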