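import Groth.Statements.S12929


set_option autoImplicit false
universe u v w w'
open HopfRep

namespace Groth.Agent.S12929
open scoped TensorProduct

/-- Let `k` be a commutative ring, `A` a commutative Hopf algebra over `k`, `M` a right `A`-comodule and
`N` a `k`-module; give `N ⊗ A` the coaction `id ⊗ Δ`. Then for every `k`-linear map `h : M → N` the
composite `(h ⊗ id_A) ∘ ρ_M : M → N ⊗ A` is a comodule map, and every comodule map `f : M → N ⊗ A`
is of this form for exactly one `h` (which is `(id_N ⊗ ε) ∘ f`): comodule maps `M → N ⊗ A`
correspond bijectively to linear maps `M → N`. -/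
theorem result
    (k : Type u) [CommRing k] (A : Type v) [CommRing A] [HopfAlgebra k A]
    (M : Type w) [AddCommGroup M] [Module k M] [HopfRep.Comod k A M]
    (N : Type w') [AddCommGroup N] [Module k N] :
    (∀ h : M →ₗ[k] N, Hoch.IsComodHom A
        ((Hoch.Ind.equiv k A N).toLinearMap ∘ₗ h.rTensor A ∘ₗ HopfRep.Comod.coact (k := k) (A := A))) ∧
      ∀ f : M →ₗ[k] Hoch.Ind k A N, Hoch.IsComodHom A f →
        ∃! h : M →ₗ[k] N,
          f = (Hoch.Ind.equiv k A N).toLinearMap ∘ₗ h.rTensor A ∘ₗ HopfRep.Comod.coact (k := k) (A := A) := by
  let ρ : M →ₗ[k] M ⊗[k] A := HopfRep.Comod.coact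
  let E : N ⊗[k] A →ₗ[k] N := (TensorProduct.rid k N).toLinearMap ∘ₗ
    (CoalgebraStruct.counit (R := k) (A := A)).lTensor N
  have hcoassoc := fun m => LinearMap.congr_fun (HopfRep.Comod.coassoc (k := k) (A := A) (V := M)) m
  have hcounit := fun m => LinearMap.congr_fun (HopfRep.Comod.counit_comp (k := k) (A := A) (V := M)) m
  refine ⟨fun h => ?_, fun f hf => ⟨E ∘ₗ f, ?_, ?_⟩⟩
  · refine LinearMap.ext fun m => ?_
    show Hoch.Ind.coactAux k A N (h.rTensor A (ρ m)) = (h.rTensor A ∘ₗ ρ).rTensor A (ρ m)
    have e1 : ∀ x : M ⊗[k] A, Hoch.Ind.coactAux k A N (h.rTensor A x) =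
        (TensorProduct.assoc k N A A).symm (h.rTensor (A ⊗[k] A)
          ((CoalgebraStruct.comul (R := k) (A := A)).lTensor M x)) := by
      intro x
      induction x using TensorProduct.induction_on with
      | zero => simp
      | add x y hx hy => simp only [map_add, hx, hy]
      | tmul y a => simp [Hoch.Ind.coactAux_tmul]
    have e2 : ∀ x : (M ⊗[k] A) ⊗[k] A, (TensorProduct.assoc k N A A).symm (h.rTensor (A ⊗[k] A)
        (TensorProduct.assoc k M A A x)) = (h.rTensor A).rTensor A x := by
      intro x
      induction x using TensorProduct.induction_on with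
      | zero => simp
      | add x y hx hy => simp only [map_add, hx, hy]
      | tmul y a =>
        induction y using TensorProduct.induction_on with
        | zero => simp
        | add x y hx hy => simp only [map_add, TensorProduct.add_tmul, hx, hy]
        | tmul y b => simp
    rw [e1, LinearMap.rTensor_comp, LinearMap.comp_apply, ← e2]
    have := hcoassoc m
    simp only [LinearMap.comp_apply, LinearEquiv.coe_coe] at this
    exact congrArg (fun z => (TensorProduct.assoc k N A A).symm (h.rTensor (A ⊗[k] A) z)) this.symm
  · refine LinearMap.ext fun m => ?_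
    have e : ∀ x : N ⊗[k] A, E.rTensor A (Hoch.Ind.coactAux k A N x) = x := by
      intro x
      induction x using TensorProduct.induction_on with
      | zero => simp
      | add x y hx hy => simp only [map_add, hx, hy]
      | tmul n a =>
        have h2 : ∀ z : A ⊗[k] A, E.rTensor A ((TensorProduct.assoc k N A A).symm (n ⊗ₜ z)) =
            n ⊗ₜ TensorProduct.lid k A ((CoalgebraStruct.counit (R := k) (A := A)).rTensor A z) := by
          intro z
          induction z using TensorProduct.induction_on with
          | zero => simp
          | add x y hx hy => simp only [map_add, TensorProduct.tmul_add, hx, hy]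
          | tmul p q => simp [E, TensorProduct.smul_tmul, TensorProduct.tmul_smul]
        rw [Hoch.Ind.coactAux_tmul, h2]
        simp
    have h1 := congrArg (E.rTensor A) (LinearMap.congr_fun hf m)
    show f m = (E ∘ₗ f).rTensor A (ρ m)
    rw [LinearMap.rTensor_comp]
    exact (e (f m)).symm.trans h1
  · intro h hh
    refine LinearMap.ext fun m => ?_
    show h m = E (f m)
    rw [hh]
    show h m = E (h.rTensor A (ρ m))
    have e : ∀ x : M ⊗[k] A, E (h.rTensor A x) = h (TensorProduct.rid k M
        ((CoalgebraStruct.counit (R := k) (A := A)).lTensor M x)) := by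
      intro x
      induction x using TensorProduct.induction_on with
      | zero => simp
      | add x y hx hy => simp only [map_add, hx, hy]
      | tmul y a => simp [E]
    rw [e]
    have := hcounit m
    simp only [LinearMap.comp_apply] at this
    simp [ρ, this]

end Groth.Agent.S12929
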