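import Groth.Statements.S1293
import Mathlib
import Groth.Agent.FlatInjLib.ProjFlat
-- import your own Groth.Agent.* helpers here

set_option autoImplicit false
universe u
open FlatMor

namespace Groth.Agent.S1293

open TensorProduct in
/-- Let B be a finitely presented A-algebra, T ⊆ B a multiplicative subset and N a finitely presented
T⁻¹B-module which admits a pure spreadout (FlatCA.HasPureSpreadout). Then (1) every x ∈ N has a
content ideal, i.e. a smallest ideal I of A with x ∈ IN; and (2) every A-linear map u from N to a
flat A-module M such that u ⊗ A/𝔪 is injective for every maximal ideal 𝔪 of A is universally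
injective over A. -/
theorem result {A B : Type u} [CommRing A] [CommRing B] [Algebra A B] [Algebra.FinitePresentation A B]
    (T : Submonoid B) (N : Type u) [AddCommGroup N] [Module (Localization T) N] [Module A N] [IsScalarTower A (Localization T) N]
    [Module.FinitePresentation (Localization T) N] (h : FlatCA.HasPureSpreadout A B T N) :
    (∀ x : N, ∃ I : Ideal A, x ∈ I • (⊤ : Submodule A N) ∧ ∀ J : Ideal A, x ∈ J • (⊤ : Submodule A N) → I ≤ J) ∧
    ∀ (M : Type u) [AddCommGroup M] [Module A M] [Module.Flat A M] (u : N →ₗ[A] M),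
      (∀ (m : Ideal A) [m.IsMaximal], Function.Injective (u.lTensor (A ⧸ m))) → FlatCA.UnivInj A u := by
  classical
  obtain ⟨C, _, _, _, _, _, _, _, _, _, _, N', _, _, _, _, g, -, -, hg, _, hgu⟩ := h
  let gA : N' →ₗ[A] N := g.restrictScalars A
  let mul : Localization T → (N →ₗ[A] N) := fun r => (LinearMap.lsmul (Localization T) N r).restrictScalars A
  have hmul : ∀ (r : Localization T) (I : Ideal A) (x : N), x ∈ I • (⊤ : Submodule A N) → r • x ∈ I • (⊤ : Submodule A N) :=
    fun r I x hx => Submodule.smul_mono le_rfl le_top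
      ((Submodule.map_smul'' I ⊤ (mul r)).le (Submodule.mem_map_of_mem hx))
  have hex : ∀ x : N, ∃ t ∈ T, ∃ y : N', algebraMap B (Localization T) t • x = g y := fun x => by
    induction x using hg.inductionOn with
    | zero => exact ⟨1, T.one_mem, 0, by simp⟩
    | tmul y => exact ⟨1, T.one_mem, y, by simp⟩
    | smul r x hx =>
      obtain ⟨t, ht, y, hy⟩ := hx
      obtain ⟨⟨b, s⟩, hbs⟩ := IsLocalization.surj T r
      refine ⟨s * t, mul_mem s.2 ht, algebraMap B C b • y, ?_⟩
      rw [map_smul, ← algebraMap_smul (Localization T) (algebraMap B C b) (g y),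
        ← IsScalarTower.algebraMap_apply, ← hy, map_mul, smul_smul, smul_smul, ← hbs]
      congr 1
      ring
    | add x x' hx hx' =>
      obtain ⟨t, ht, y, hy⟩ := hx
      obtain ⟨t', ht', y', hy'⟩ := hx'
      refine ⟨t * t', mul_mem ht ht', algebraMap B C t' • y + algebraMap B C t • y', ?_⟩
      rw [map_add, map_smul, map_smul, ← algebraMap_smul (Localization T) (algebraMap B C t') (g y),
        ← algebraMap_smul (Localization T) (algebraMap B C t) (g y'), ← IsScalarTower.algebraMap_apply,
        ← IsScalarTower.algebraMap_apply, ← hy, ← hy', map_mul, smul_add, smul_smul, smul_smul,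
        mul_comm (algebraMap B (Localization T) t')]
  have hinv : ∀ t ∈ T, ∃ r : Localization T, r * algebraMap B (Localization T) t = 1 := fun t ht =>
    (IsLocalization.map_units (Localization T) (⟨t, ht⟩ : T)).exists_left_inv
  have hpull : ∀ (I : Ideal A) (x : N) (t : B) (y : N'), algebraMap B (Localization T) t • x = g y →
      x ∈ I • (⊤ : Submodule A N) → y ∈ I • (⊤ : Submodule A N') := fun I x t y hy hx =>
    FlatInjLib.mem_smul_top_of_univInj gA hgu I y (by
      show g y ∈ _
      rw [← hy]
      exact hmul _ I x hx)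
  refine ⟨fun x => ?_, fun M _ _ _ u hu => ?_⟩
  · obtain ⟨t, ht, y, hy⟩ := hex x
    obtain ⟨I, hI, hmin⟩ := FlatInjLib.exists_content_of_projective (A := A) y
    refine ⟨I, ?_, fun J hJ => hmin J (hpull J x t y hy hJ)⟩
    obtain ⟨r, hr⟩ := hinv t ht
    have h1 : g y ∈ I • (⊤ : Submodule A N) :=
      Submodule.smul_mono le_rfl le_top ((Submodule.map_smul'' I ⊤ gA).le (Submodule.mem_map_of_mem hI))
    have h2 := hmul r I _ h1
    rwa [← hy, smul_smul, hr, one_smul] at h2
  intro Q _ _
  refine (injective_iff_map_eq_zero _).2 fun z hz => ?_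
  have hz' : ∃ t ∈ T, ∃ w : Q ⊗[A] N',
      (mul (algebraMap B (Localization T) t)).lTensor Q z = gA.lTensor Q w := by
    clear hz
    induction z using TensorProduct.induction_on with
    | zero => exact ⟨1, T.one_mem, 0, by simp⟩
    | tmul q x =>
      obtain ⟨t, ht, y, hy⟩ := hex x
      exact ⟨t, ht, q ⊗ₜ y, by simp [mul, gA, hy]⟩
    | add a a' ha ha' =>
      obtain ⟨t, ht, w, hw⟩ := ha
      obtain ⟨t', ht', w', hw'⟩ := ha'
      let mC : B → (N' →ₗ[A] N') := fun b => (LinearMap.lsmul C N' (algebraMap B C b)).restrictScalars A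
      have hc : ∀ b, gA ∘ₗ mC b = mul (algebraMap B (Localization T) b) ∘ₗ gA := fun b => by
        ext y
        simp [gA, mC, mul, IsScalarTower.algebraMap_apply B C (Localization T)]
      refine ⟨t * t', mul_mem ht ht', (mC t').lTensor Q w + (mC t).lTensor Q w', ?_⟩
      have hm : mul (algebraMap B (Localization T) (t * t')) =
          mul (algebraMap B (Localization T) t') ∘ₗ mul (algebraMap B (Localization T) t) := by
        ext x
        simp [mul, smul_smul]
      have hm' : mul (algebraMap B (Localization T) (t * t')) =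
          mul (algebraMap B (Localization T) t) ∘ₗ mul (algebraMap B (Localization T) t') := by
        ext x
        simp [mul, smul_smul]
        rw [mul_comm]
      have e1 : (mul (algebraMap B (Localization T) (t * t'))).lTensor Q a =
          gA.lTensor Q ((mC t').lTensor Q w) := by
        rw [hm, LinearMap.lTensor_comp, LinearMap.comp_apply, hw, ← LinearMap.comp_apply,
          ← LinearMap.lTensor_comp, ← hc, LinearMap.lTensor_comp, LinearMap.comp_apply]
      have e2 : (mul (algebraMap B (Localization T) (t * t'))).lTensor Q a' =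
          gA.lTensor Q ((mC t).lTensor Q w') := by
        rw [hm', LinearMap.lTensor_comp, LinearMap.comp_apply, hw', ← LinearMap.comp_apply,
          ← LinearMap.lTensor_comp, ← hc, LinearMap.lTensor_comp, LinearMap.comp_apply]
      rw [map_add, map_add, e1, e2]
  obtain ⟨t, ht, w, hw⟩ := hz'
  obtain ⟨r, hr⟩ := hinv t ht
  have hback : mul r ∘ₗ mul (algebraMap B (Localization T) t) = LinearMap.id := by
    ext x
    simp [mul, smul_smul]
    rw [mul_comm, hr, one_smul]
  have hinj := FlatInjLib.univInj_of_projective_of_flat (u ∘ₗ mul r ∘ₗ gA) (fun m hm y hy => ?_) Q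
  · have h3 : (u ∘ₗ mul r ∘ₗ gA).lTensor Q w = 0 := by
      rw [LinearMap.lTensor_comp, LinearMap.lTensor_comp, LinearMap.comp_apply, LinearMap.comp_apply,
        ← hw, ← LinearMap.comp_apply ((mul r).lTensor Q), ← LinearMap.lTensor_comp, hback,
        LinearMap.lTensor_id, LinearMap.id_apply, hz]
    rw [(map_eq_zero_iff _ hinj).1 h3, map_zero] at hw
    have h4 := congrArg ((mul r).lTensor Q) hw
    rwa [← LinearMap.comp_apply, ← LinearMap.lTensor_comp, hback, LinearMap.lTensor_id,
      LinearMap.id_apply, map_zero] at h4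
  haveI := hm
  have h5 : mul r (gA y) ∈ m • (⊤ : Submodule A N) := by
    refine (LinearMap.ker_tensorProductMk (R := A) (Q := N) (I := m)).le (LinearMap.mem_ker.2 ?_)
    refine hu m ?_
    rw [map_zero]
    exact (LinearMap.lTensor_tmul _ _ _ _).trans
      (LinearMap.mem_ker.1 ((LinearMap.ker_tensorProductMk (R := A) (Q := M) (I := m)).ge hy))
  have h6 := hmul (algebraMap B (Localization T) t) m _ h5
  rw [show algebraMap B (Localization T) t • mul r (gA y) = gA y from LinearMap.congr_fun
    (show mul (algebraMap B (Localization T) t) ∘ₗ mul r = LinearMap.id by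
      ext x; simp [mul, smul_smul]; rw [hr, one_smul]) (gA y)] at h6
  exact FlatInjLib.mem_smul_top_of_univInj gA hgu m y h6

end Groth.Agent.S1293
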