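import Groth.Statements.S12931
import Mathlib.RingTheory.Idempotents
import Mathlib.Tactic

set_option autoImplicit false
universe u v w
open HopfRep

namespace Groth.Agent.S12931

/-- Let `R` be a commutative ring, `Γ` a finite set and `T` a commutative `R`-algebra which is
connected: nonzero, with no idempotents other than `0` and `1`. Then `γ ↦ (evaluation at γ : (Γ → R)
→ R → T)` is a bijection from `Γ` onto the `R`-algebra maps `(Γ → R) → T`: every such map sends
exactly one of the indicator functions to `1` and the others to `0`. (Only the bijection of sets is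
stated; when `Γ` is a group, the compatibility with the group structures on both sides is not.) -/
theorem result
    (R : Type u) [CommRing R] (Γ : Type v) [Finite Γ]
    (T : Type w) [CommRing T] [Algebra R T] [Nontrivial T]
    (hT : ∀ e : T, IsIdempotentElem e → e = 0 ∨ e = 1) :
    Function.Bijective (fun γ : Γ => (Algebra.ofId R T).comp (Pi.evalAlgHom R (fun _ : Γ => R) γ)) := by
  classical
  cases nonempty_fintype Γ
  refine ⟨fun γ γ' h => ?_, fun f => ?_⟩
  · by_contra hne
    have := DFunLike.congr_fun h (Pi.single γ 1)
    simp [Pi.single_eq_of_ne (Ne.symm hne)] at this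
  · have hid : ∀ γ : Γ, IsIdempotentElem (f (Pi.single γ 1)) := fun γ => by
      rw [IsIdempotentElem, ← map_mul, ← Pi.single_mul, one_mul]
    obtain ⟨γ, hγ⟩ : ∃ γ, f (Pi.single γ 1) = 1 := by
      by_contra hne
      have h0 : ∀ γ, f (Pi.single γ 1) = 0 := fun γ =>
        (hT _ (hid γ)).resolve_right (fun h => hne ⟨γ, h⟩)
      have h1 : f (∑ γ : Γ, Pi.single γ (1 : R)) = 1 := by
        rw [show (∑ γ : Γ, Pi.single γ (1 : R)) = 1 from Finset.univ_sum_single (1 : Γ → R), map_one]
      simp [h0] at h1
    refine ⟨γ, AlgHom.ext fun x => ?_⟩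
    have hx : x * Pi.single γ 1 = algebraMap R (Γ → R) (x γ) * Pi.single γ 1 := by
      ext δ
      by_cases hδ : δ = γ
      · subst hδ; simp
      · simp [Pi.single_eq_of_ne hδ]
    calc _ = algebraMap R T (x γ) := rfl
      _ = f (algebraMap R (Γ → R) (x γ) * Pi.single γ 1) := by rw [map_mul, hγ, mul_one, AlgHom.commutes]
      _ = f x := by rw [← hx, map_mul, hγ, mul_one]

end Groth.Agent.S12931
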