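import Groth.Statements.S12933
import Mathlib


-- import your own Groth.Agent.* helpers here

set_option autoImplicit false
universe u v w w'
open TensorProduct
open InvTh

namespace Groth.Agent.S12933

/-- Let `R` be a commutative ring, `B` a commutative `R`-algebra with an action of a finite group `Γ` by
`R`-algebra automorphisms, and `R'` a flat commutative `R`-algebra; let `Γ` act on `R' ⊗_R B`
through the factor `B`. Then an element of `R' ⊗_R B` is fixed by every element of `Γ` if and only
if it lies in the `R'`-submodule spanned by the tensors `1 ⊗ b` with `b ∈ B^Γ`: taking invariants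
commutes with flat base change (the map `R' ⊗_R B^Γ → R' ⊗_R B` being moreover injective by
flatness). -/
theorem result
    (R : Type u) [CommRing R] (B : Type v) [CommRing B] [Algebra R B]
    (Γ : Type w) [Group Γ] [Finite Γ] [MulSemiringAction Γ B] [SMulCommClass Γ R B]
    (R' : Type w') [CommRing R'] [Algebra R R'] [Module.Flat R R']
    (x : R' ⊗[R] B) :
    (∀ γ : Γ, Algebra.TensorProduct.map (AlgHom.id R R') (MulSemiringAction.toAlgHom R B γ) x = x) ↔
      x ∈ Submodule.span R' ((fun b : B => (1 : R') ⊗ₜ[R] b) '' {b : B | ∀ γ : Γ, γ • b = b}) := by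
  classical
  haveI := Fintype.ofFinite Γ
  let φ : B →ₗ[R] (Γ → B) := LinearMap.pi fun γ =>
    (MulSemiringAction.toAlgHom R B γ).toLinearMap - LinearMap.id
  let K := LinearMap.ker φ
  have hK : ∀ b : B, b ∈ K ↔ ∀ γ : Γ, γ • b = b := by
    intro b
    simp [K, φ, LinearMap.mem_ker, funext_iff, sub_eq_zero]
  constructor
  · intro hx
    have h0 : φ.lTensor R' x = 0 := by
      apply (TensorProduct.piRight R R R' fun _ : Γ => B).injective
      rw [map_zero]
      funext γ
      have h : ∀ y : R' ⊗[R] B, TensorProduct.piRight R R R' (fun _ : Γ => B) (φ.lTensor R' y) γ =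
          Algebra.TensorProduct.map (AlgHom.id R R') (MulSemiringAction.toAlgHom R B γ) y - y := by
        intro y
        induction y using TensorProduct.induction_on with
        | zero => simp
        | tmul u v => simp [φ, TensorProduct.tmul_sub]
        | add u v hu hv =>
          simp only [map_add, Pi.add_apply, hu, hv]
          abel
      rw [h, hx γ, sub_self]
      rfl
    obtain ⟨z, rfl⟩ := ((Module.Flat.lTensor_exact R' φ.exact_subtype_ker_map) x).1 h0
    clear h0 hx
    induction z using TensorProduct.induction_on with
    | zero => simp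
    | tmul u v =>
      rw [LinearMap.lTensor_tmul, show u ⊗ₜ[R] (K.subtype v) = u • ((1 : R') ⊗ₜ[R] (v : B)) by
        rw [TensorProduct.smul_tmul', smul_eq_mul, mul_one]; rfl]
      exact Submodule.smul_mem _ _ (Submodule.subset_span ⟨v, (hK v).1 v.2, rfl⟩)
    | add u v hu hv => rw [map_add]; exact add_mem hu hv
  · intro hx γ
    induction hx using Submodule.span_induction with
    | mem y hy =>
      obtain ⟨b, hb, rfl⟩ := hy
      simp [hb γ]
    | zero => simp
    | add u v _ _ hu hv => rw [map_add, hu, hv]
    | smul r y _ hy =>
      rw [Algebra.smul_def, map_mul, hy]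
      simp

end Groth.Agent.S12933
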