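import Groth.Statements.S12934
import Groth.Agent.StableIdealLib.Basic

set_option autoImplicit false
universe u v
open InvTh

namespace Groth.Agent.S12934

/-- Let `B` be a local commutative ring with maximal ideal `m` and residue field `k`, and `Γ` a finite
group acting faithfully on `B` by ring automorphisms, such that every element of `Γ` acts trivially
modulo `m` (the whole group is inertia) and maps each principal ideal of `B` into itself (every
ideal is stable). Let `S ⊆ Γ` be the set of `γ` with `γ b ∈ b + b m` for all `b`. Then: if `k` has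
characteristic `0`, `S = {1}`; if `k` has characteristic `p > 0`, `S` is (the underlying set of) a
Sylow `p`-subgroup; every commutator of `Γ` lies in `S`, so `Γ/S` is abelian; and whenever the class
of `γ` in `Γ/S` has order `n` (`γ^n ∈ S`, no smaller positive power in `S`), `k` contains a
primitive `n`-th root of unity. (The published statement also bounds the number of generators of
`Γ/S` by the number of generators of the monoid of principal ideals; that clause is not included.) -/
theorem result
    (B : Type u) [CommRing B] [IsLocalRing B]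
    (Γ : Type v) [Group Γ] [Finite Γ] [MulSemiringAction Γ B] [FaithfulSMul Γ B]
    (hin : ∀ (γ : Γ) (b : B), γ • b - b ∈ IsLocalRing.maximalIdeal B)
    (hst : ∀ (γ : Γ) (b : B), ∃ u : B, γ • b = b * u)
    (S : Set Γ)
    (hS : ∀ γ : Γ, γ ∈ S ↔ ∀ b : B, ∃ x ∈ IsLocalRing.maximalIdeal B, γ • b = b + b * x) :
    (ringChar (IsLocalRing.ResidueField B) = 0 → S = {1}) ∧
      (∀ (p : ℕ) [Fact p.Prime], ringChar (IsLocalRing.ResidueField B) = p →
        ∃ Q : Sylow p Γ, (Q : Set Γ) = S) ∧
      (∀ γ δ : Γ, γ * δ * γ⁻¹ * δ⁻¹ ∈ S) ∧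
      (∀ (γ : Γ) (n : ℕ), 0 < n → γ ^ n ∈ S → (∀ i : ℕ, 0 < i → i < n → γ ^ i ∉ S) →
        ∃ ζ : IsLocalRing.ResidueField B, IsPrimitiveRoot ζ n) := by
  have hSK : S = (StableIdealLib.ker hin hst : Set Γ) := Set.ext fun γ => by
    rw [hS, SetLike.mem_coe, StableIdealLib.mem_ker_iff]
  subst hSK
  refine ⟨fun h0 => ?_, fun p _ hp => ?_, fun γ δ => ?_, fun γ n hn hmem hmin => ?_⟩
  · have : CharZero (IsLocalRing.ResidueField B) := by
      have : CharP (IsLocalRing.ResidueField B) 0 := ringChar.eq_iff.1 h0
      exact CharP.charP_to_charZero _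
    refine Set.eq_singleton_iff_unique_mem.2 ⟨one_mem _, fun γ hγ => ?_⟩
    exact StableIdealLib.eq_one_of_mem_ker hin hst hγ (pow_orderOf_eq_one γ)
      (StableIdealLib.natCast_isUnit (Nat.cast_ne_zero.2 (orderOf_pos γ).ne'))
  · have := ringChar.eq_iff.1 hp
    have hP : IsPGroup p (StableIdealLib.ker hin hst) := by
      intro g
      obtain ⟨e, m, hm, hem⟩ := Nat.exists_eq_pow_mul_and_not_dvd (orderOf_pos g.1).ne' p
        (Fact.out : p.Prime).ne_one
      refine ⟨e, Subtype.ext ?_⟩
      refine StableIdealLib.eq_one_of_mem_ker hin hst (g ^ p ^ e).2 (n := m) ?_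
        (StableIdealLib.natCast_isUnit fun h => hm ((CharP.cast_eq_zero_iff _ p m).1 h))
      rw [SubgroupClass.coe_pow, ← pow_mul, ← hem, pow_orderOf_eq_one]
    have : (StableIdealLib.ker hin hst).Normal := by
      unfold StableIdealLib.ker
      exact Subgroup.normal_iInf_normal fun _ => MonoidHom.normal_ker _
    refine ⟨hP.toSylow (fun hdvd => ?_), rfl⟩
    rw [Subgroup.index] at hdvd
    obtain ⟨q, hq⟩ := exists_prime_orderOf_dvd_card' p hdvd
    obtain ⟨γ, rfl⟩ := QuotientGroup.mk_surjective q
    have h1 : γ ^ p ∈ StableIdealLib.ker hin hst := (QuotientGroup.eq_one_iff _).1 (by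
      rw [QuotientGroup.mk_pow, ← hq, pow_orderOf_eq_one])
    rw [(QuotientGroup.eq_one_iff γ).2 (StableIdealLib.eq_one_of_pow_mem_ker hin hst h1), orderOf_one] at hq
    exact (Fact.out : p.Prime).one_lt.ne hq
  · show _ ∈ StableIdealLib.ker hin hst
    rw [StableIdealLib.ker, Subgroup.mem_iInf]
    intro x
    exact MonoidHom.mem_ker.2 (by simp only [map_mul, map_inv]; rw [mul_inv_cancel_comm, mul_inv_cancel])
  · exact StableIdealLib.exists_primitiveRoot hin hst hn hmem hmin

end Groth.Agent.S12934
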