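import Groth.Statements.S12935
import Mathlib

-- import your own Groth.Agent.* helpers here

set_option autoImplicit false
universe u v
open InvTh

namespace Groth.Agent.S12935

/-- Let `B` be a commutative ring with an action of a finite group `Γ` by ring automorphisms, `Ω` a
normal subgroup of `Γ`, `B^Ω` the subring of `Ω`-invariants (stable under `Γ`, with the induced
action of `Γ/Ω`), and `P` a prime ideal of `B`. Then (decomposition groups) an element `γ` maps `P ∩
B^Ω` onto itself if and only if `γω` maps `P` onto itself for some `ω ∈ Ω`; and (inertia groups) `γ`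
fixes `B^Ω` modulo `P ∩ B^Ω` if and only if `γω` fixes `B` modulo `P` for some `ω ∈ Ω`. In other
words the decomposition and inertia groups of `P ∩ B^Ω` under `Γ/Ω` are the images of those of `P`.
(The published statement also asserts the same for the ramification groups, the Sylow subgroups of
the inertia groups at the residue characteristic; that clause is not included here.) -/
theorem result
    (B : Type u) [CommRing B] (Γ : Type v) [Group Γ] [Finite Γ] [MulSemiringAction Γ B]
    (Ω : Subgroup Γ) [Ω.Normal] (P : Ideal B) [P.IsPrime] (γ : Γ) :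
    ((∀ x : B, (∀ ω ∈ Ω, ω • x = x) → (x ∈ P ↔ γ • x ∈ P)) ↔
        ∃ ω ∈ Ω, ∀ x : B, x ∈ P ↔ (γ * ω) • x ∈ P) ∧
      ((∀ x : B, (∀ ω ∈ Ω, ω • x = x) → γ • x - x ∈ P) ↔
        ∃ ω ∈ Ω, ∀ x : B, (γ * ω) • x - x ∈ P) := by
  classical
  open scoped Pointwise in
  focus
    let A : Subring B := FixedPoints.subring B Ω
    haveI : SMulCommClass Ω A B := ⟨fun g a b => by
      change (g : Γ) • ((a : B) * b) = (a : B) * ((g : Γ) • b)
      rw [smul_mul']
      congr 1
      exact a.2 g⟩
    haveI : Algebra.IsInvariant A B Ω := ⟨fun b hb => ⟨⟨b, hb⟩, rfl⟩⟩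
    haveI : Finite Ω := Subtype.finite
    have step : (∀ x : B, (∀ ω ∈ Ω, ω • x = x) → (x ∈ P ↔ γ • x ∈ P)) → ∃ ω ∈ Ω, ∀ x : B, x ∈ P ↔ (γ * ω) • x ∈ P := by
      intro h
      let Q : Ideal B := P.comap (MulSemiringAction.toRingHom Γ B γ)
      haveI : Q.IsPrime := Ideal.IsPrime.comap _
      have hPQ : P.under A = Q.under A := by
        ext a
        exact h (a : B) fun ω hω => a.2 ⟨ω, hω⟩
      obtain ⟨g, hg⟩ := Algebra.IsInvariant.exists_smul_of_under_eq A B Ω P Q hPQ
      refine ⟨g, g.2, fun x => ?_⟩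
      rw [mul_smul]
      change x ∈ P ↔ (g : Γ) • x ∈ Q
      rw [hg]
      exact Ideal.smul_mem_pointwise_smul_iff.symm
    refine ⟨⟨step, ?_⟩, ⟨?_, ?_⟩⟩
    · rintro ⟨ω, hω, h⟩ x hx
      rw [h x, mul_smul, hx ω hω]
    · intro h
      obtain ⟨ω₁, hω₁, hst⟩ := step fun x hx => by
        constructor
        · intro hp; simpa using P.add_mem (h x hx) hp
        · intro hp; simpa using P.sub_mem hp (h x hx)
      let e : B ≃+* B := MulSemiringAction.toRingEquiv Γ B (γ * ω₁)
      have hPe : P = P.map (e : B →+* B) := by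
        ext x
        change x ∈ P ↔ x ∈ P.map e
        rw [← Ideal.comap_symm, Ideal.mem_comap]
        rw [hst (e.symm x)]
        change x ∈ P ↔ e (e.symm x) ∈ P
        rw [e.apply_symm_apply]
      let F : (B ⧸ P) ≃ₐ[A ⧸ P.under A] (B ⧸ P) :=
        AlgEquiv.ofRingEquiv (f := Ideal.quotientEquiv P P e hPe) (by
          intro q
          obtain ⟨a, rfl⟩ := Ideal.Quotient.mk_surjective q
          refine Ideal.Quotient.eq.2 ?_
          change (γ * ω₁) • (a : B) - (a : B) ∈ P
          rw [mul_smul, show ω₁ • (a : B) = a from a.2 ⟨ω₁, hω₁⟩]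
          exact h _ fun ω hω => a.2 ⟨ω, hω⟩)
      obtain ⟨⟨g, hgs⟩, hg⟩ := Ideal.Quotient.stabilizerHom_surjective Ω (P.under A) P F
      refine ⟨ω₁ * (g : Γ)⁻¹, Ω.mul_mem hω₁ (Ω.inv_mem g.2), fun x => ?_⟩
      have := congrArg (fun F' => F' (Ideal.Quotient.mk P ((g : Γ)⁻¹ • x))) hg
      change Ideal.Quotient.mk P ((g : Γ) • (g : Γ)⁻¹ • x) = Ideal.Quotient.mk P ((γ * ω₁) • (g : Γ)⁻¹ • x) at this
      rw [smul_inv_smul] at this
      rw [← mul_assoc, mul_smul]
      exact Ideal.Quotient.eq.1 this.symm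
    · rintro ⟨ω, hω, h⟩ x hx
      have := h x
      rwa [mul_smul, hx ω hω] at this

end Groth.Agent.S12935
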