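import Groth.Statements.S12936
import Mathlib


-- import your own Groth.Agent.* helpers here

set_option autoImplicit false
universe u v
open InvTh

namespace Groth.Agent.S12936

/-- Let `B` be a commutative ring with an action of a finite group `Γ` by ring automorphisms and `P` a
maximal ideal of `B`, with decomposition group `D_P = {γ | γP = P}` and decomposition ring `D =
B^{D_P}`. Then `D = B^Γ + (P ∩ D)`: every element of `B` fixed by `D_P` is congruent modulo `P` to a
`Γ`-invariant element. Hence the residue field of `D` at `P ∩ D` is that of `B^Γ` at `P ∩ B^Γ`; for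
an arbitrary prime `P` the same equality of residue fields follows by localising at `P ∩ B^Γ`. (The
published statement prints this residue field as `k(P)`; the proof establishes the equality with the
residue field of `B^Γ` stated here.) -/
theorem result
    (B : Type u) [CommRing B] (Γ : Type v) [Group Γ] [Finite Γ] [MulSemiringAction Γ B]
    (P : Ideal B) [P.IsMaximal] (x : B)
    (hx : ∀ γ : Γ, (∀ y : B, y ∈ P ↔ γ • y ∈ P) → γ • x = x) :
    ∃ c : B, (∀ γ : Γ, γ • c = c) ∧ x - c ∈ P := by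
  classical
  haveI := Fintype.ofFinite Γ
  let D : Subgroup Γ :=
    { carrier := {γ | ∀ y : B, y ∈ P ↔ γ • y ∈ P}
      one_mem' := fun y => by rw [one_smul]
      mul_mem' := fun {a b} ha hb y => by rw [mul_smul]; exact (hb y).trans (ha _)
      inv_mem' := fun {a} ha y => by rw [ha (a⁻¹ • y), smul_inv_smul] }
  let Q : Γ → Ideal B := fun γ => P.comap (MulSemiringAction.toRingHom Γ B γ)
  have hQmem : ∀ γ y, y ∈ Q γ ↔ γ • y ∈ P := fun γ y => Iff.rfl
  have hQmax : ∀ γ, (Q γ).IsMaximal := fun γ =>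
    Ideal.comap_isMaximal_of_surjective _ (MulAction.surjective γ)
  have hne : ∀ γ : Γ, γ ∉ D → ∃ z, z ∈ Q γ ∧ z ∉ P := by
    intro γ hγ
    by_contra hc
    push Not at hc
    have heq : Q γ = P := (hQmax γ).eq_of_le (Ideal.IsPrime.ne_top inferInstance) hc
    exact hγ fun y => by rw [← hQmem, heq]
  choose z hzQ hzP using hne
  let S : Finset {γ : Γ // γ ∉ D} := Finset.univ
  let e0 : B := ∏ γ ∈ S, z γ.1 γ.2
  have he0Q : ∀ γ (hγ : γ ∉ D), γ • e0 ∈ P := fun γ hγ =>
    (hQmem γ e0).1 (Ideal.mem_of_dvd _ (Finset.dvd_prod_of_mem (fun γ : {γ : Γ // γ ∉ D} => z γ.1 γ.2) (Finset.mem_univ (⟨γ, hγ⟩ : {γ : Γ // γ ∉ D}))) (hzQ γ hγ))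
  have he0P : e0 ∉ P := fun hmem => by
    obtain ⟨γ, -, hγ⟩ := Ideal.IsPrime.prod_mem_iff.1 hmem
    exact hzP γ.1 γ.2 hγ
  obtain ⟨u, hu⟩ : ∃ u, 1 - u * e0 ∈ P := by
    obtain ⟨u, i, hi, hsum⟩ := Ideal.IsMaximal.exists_inv inferInstance he0P
    exact ⟨u, by rw [← hsum, add_sub_cancel_left]; exact hi⟩
  set e1 := u * e0 with he1
  let e : B := ∏ d : D, (d : Γ) • e1
  have heP : 1 - e ∈ P := by
    rw [← Ideal.Quotient.eq, map_one, map_prod, Finset.prod_eq_one]
    intro d _
    rw [eq_comm, ← map_one (Ideal.Quotient.mk P), Ideal.Quotient.eq]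
    have := (d.2 (1 - e1)).1 hu
    rwa [smul_sub, smul_one] at this
  have heQ : ∀ γ : Γ, γ ∉ D → γ • e ∈ P := by
    intro γ hγ
    refine Ideal.mem_of_dvd _ ?_ (show γ • e1 ∈ P by rw [he1, smul_mul']; exact P.mul_mem_left _ (he0Q γ hγ))
    have : e1 ∣ e := by
      have := Finset.dvd_prod_of_mem (fun d : D => (d : Γ) • e1) (Finset.mem_univ (1 : D))
      simpa using this
    obtain ⟨w, hw⟩ := this
    exact ⟨γ • w, by rw [hw, smul_mul']⟩
  have hefix : ∀ d ∈ D, d • e = e := by
    intro d hd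
    rw [Finset.smul_prod']
    refine Fintype.prod_equiv (Equiv.mulLeft (⟨d, hd⟩ : D)) _ _ fun d' => ?_
    rw [← mul_smul]; rfl
  set y := e * x with hy
  have hyfix : ∀ d ∈ D, d • y = y := fun d hd => by rw [hy, smul_mul', hefix d hd, hx d hd]
  let F : Γ ⧸ D → B := Quotient.lift (fun γ => γ • y) (by
    intro a b hab
    replace hab : a⁻¹ * b ∈ D := QuotientGroup.leftRel_apply.1 hab
    calc a • y = a • ((a⁻¹ * b) • y) := by rw [hyfix _ hab]
      _ = b • y := by rw [← mul_smul, mul_inv_cancel_left])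
  refine ⟨∑ q, F q, fun γ => ?_, ?_⟩
  · rw [Finset.smul_sum]
    refine Fintype.sum_equiv (MulAction.toPerm γ) _ _ fun q => ?_
    induction q using Quotient.inductionOn with
    | _ a => exact (mul_smul γ a y).symm
  · rw [← Finset.add_sum_erase _ F (Finset.mem_univ ((1 : Γ) : Γ ⧸ D)), sub_add_eq_sub_sub]
    refine P.sub_mem ?_ (sum_mem fun q hq => ?_)
    · change x - (1 : Γ) • y ∈ P
      rw [one_smul, hy, show x - e * x = (1 - e) * x by ring]
      exact P.mul_mem_right _ heP
    · obtain ⟨a, rfl⟩ := Quotient.mk_surjective q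
      have ha : a ∉ D := fun ha => (Finset.mem_erase.1 hq).1 (QuotientGroup.eq.2 (by simpa using inv_mem ha))
      change a • y ∈ P
      rw [hy, smul_mul']
      exact P.mul_mem_right _ (heQ a ha)

end Groth.Agent.S12936
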