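import Groth.Statements.S1294
import Groth.Agent.PureFlatLib.Spreadout

set_option autoImplicit false
set_option backward.isDefEq.respectTransparency false
set_option backward.isDefEq.respectTransparency.types false
set_option maxHeartbeats 1000000
universe u
open FlatMor

namespace Groth.Agent.S1294
open scoped TensorProduct
attribute [local instance] Algebra.TensorProduct.rightAlgebra


theorem aux_stage {A B : Type u} [CommRing A] [CommRing B] [Algebra A B] [Algebra.FinitePresentation A B]
    (T : Submonoid B) {M₀ : Type u} [AddCommGroup M₀] [Module B M₀] [Module.FinitePresentation B M₀]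
    (Lc : Type u) [CommRing Lc] [IsLocalRing Lc] [Algebra A Lc] :
    ∃ t ∈ T, ∃ I : Ideal Lc, I.FG ∧ I ≤ IsLocalRing.maximalIdeal Lc ∧
      (∀ w : ((Lc ⧸ IsLocalRing.maximalIdeal Lc) ⊗[A] B) ⊗[B] M₀,
        (∃ s ∈ T, algebraMap B ((Lc ⧸ IsLocalRing.maximalIdeal Lc) ⊗[A] B) s • w = 0) →
          algebraMap B ((Lc ⧸ IsLocalRing.maximalIdeal Lc) ⊗[A] B) t • w = 0) ∧
      ∀ (C N' : Type u) [CommRing C] [Algebra (Lc ⧸ I) C] [Algebra (Localization.Away t) C] [Algebra A C]
        [IsScalarTower A (Localization.Away t) C] [IsScalarTower A (Lc ⧸ I) C]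
        [Algebra.IsPushout A (Localization.Away t) (Lc ⧸ I) C] [AddCommGroup N'] [Module C N']
        [Module (Lc ⧸ I) N'] [IsScalarTower (Lc ⧸ I) C N'] [Module (Localization.Away t) N']
        [IsScalarTower (Localization.Away t) C N']
        (h : (Localization.Away t ⊗[B] M₀) →ₗ[Localization.Away t] N'), IsBaseChange C h →
        Module.Projective (Lc ⧸ I) N' := by
  letI : Field (Lc ⧸ IsLocalRing.maximalIdeal Lc) := Ideal.Quotient.field _
  obtain ⟨t, ht, hW⟩ := PureFlatLib.exists_torsion_bound (A := A) T M₀ (Lc ⧸ IsLocalRing.maximalIdeal Lc)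
  haveI : Algebra.FinitePresentation B (Localization.Away t) := IsLocalization.Away.finitePresentation t
  haveI : Algebra.FinitePresentation A (Localization.Away t) := Algebra.FinitePresentation.trans A B _
  haveI : Module.FinitePresentation (Localization.Away t) (Localization.Away t ⊗[B] M₀) :=
    FinitePresentation.of_isBaseChange (TensorProduct.mk B (Localization.Away t) M₀ 1) (TensorProduct.isBaseChange _ _ _)
  haveI : IsScalarTower A (Localization.Away t) (Localization.Away t ⊗[B] M₀) := inferInstance
  obtain ⟨I, hI, hIm, hproj⟩ :=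
    PureFlatLib.exists_projective_stage (A := A) Lc (Bt := Localization.Away t) (Localization.Away t ⊗[B] M₀)
  exact ⟨t, ht, I, hI, hIm, hW, hproj⟩

open IsLocalRing in
/-- Let B be a finitely presented A-algebra, T ⊆ B a multiplicative subset and N a finitely presented
T⁻¹B-module. Then for every prime p of A there is a finitely generated ideal I of A_p contained in
its maximal ideal such that, writing A₁ = A_p/I, B₁ = B ⊗_A A₁, T₁ for the image of T in B₁ and N₁
for the base change of N (a T₁⁻¹B₁-module; any models), the base-changed data admits a pure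
spreadout over A₁. -/
theorem result {A B : Type u} [CommRing A] [CommRing B] [Algebra A B] [Algebra.FinitePresentation A B]
    (T : Submonoid B) (N : Type u) [AddCommGroup N] [Module (Localization T) N] [Module B N] [Module A N]
    [IsScalarTower B (Localization T) N] [IsScalarTower A (Localization T) N] [IsScalarTower A B N]
    [Module.FinitePresentation (Localization T) N] (p : Ideal A) [p.IsPrime] :
    ∃ I : Ideal (Localization.AtPrime p), I.FG ∧ I ≤ maximalIdeal (Localization.AtPrime p) ∧
      ∀ (B₁ N₁ : Type u) [CommRing B₁] [Algebra B B₁] [Algebra (Localization.AtPrime p ⧸ I) B₁] [Algebra A B₁]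
        [IsScalarTower A B B₁] [IsScalarTower A (Localization.AtPrime p ⧸ I) B₁]
        [Algebra.IsPushout A B (Localization.AtPrime p ⧸ I) B₁]
        [AddCommGroup N₁] [Module (Localization (T.map (algebraMap B B₁))) N₁] [Module (Localization.AtPrime p ⧸ I) N₁]
        [IsScalarTower (Localization.AtPrime p ⧸ I) (Localization (T.map (algebraMap B B₁))) N₁]
        [Module B N₁] [IsScalarTower B (Localization (T.map (algebraMap B B₁))) N₁]
        [Module A N₁] [IsScalarTower A (Localization.AtPrime p ⧸ I) N₁] [IsScalarTower A B N₁]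
        (h : N →ₗ[B] N₁), IsBaseChange (Localization.AtPrime p ⧸ I) (h.restrictScalars A) →
        FlatCA.HasPureSpreadout (Localization.AtPrime p ⧸ I) B₁ (T.map (algebraMap B B₁)) N₁ := by
  obtain ⟨M₀, _, _, g₀, hM₀, hg₀⟩ := FlatLib.exists_model_of_isLocalization (C := B) (L := Localization T) (M := N) T
  haveI := hM₀
  haveI := hg₀
  obtain ⟨t, ht, I, hI, hIm, hW, hproj⟩ := aux_stage (A := A) T (M₀ := M₀) (Localization.AtPrime p)
  refine ⟨I, hI, hIm, fun B₁ N₁ => ?_⟩
  intro _ _ _ _ _ _ _ _ _ _ _ _ _ _ _ _ h hh
  haveI : Nontrivial (Localization.AtPrime p ⧸ I) := Ideal.Quotient.nontrivial_iff.2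
    (fun he => (IsLocalRing.maximalIdeal.isMaximal _).ne_top (top_le_iff.1 (he.ge.trans hIm)))
  haveI : IsLocalRing (Localization.AtPrime p ⧸ I) := .of_surjective' (Ideal.Quotient.mk I) Ideal.Quotient.mk_surjective
  letI : Algebra (Localization.AtPrime p ⧸ I) (Localization.AtPrime p ⧸ maximalIdeal (Localization.AtPrime p)) :=
    (Ideal.Quotient.factor hIm).toAlgebra
  haveI : IsScalarTower A (Localization.AtPrime p ⧸ I) (Localization.AtPrime p ⧸ maximalIdeal (Localization.AtPrime p)) :=
    IsScalarTower.of_algebraMap_eq fun a => rfl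
  have hK : Function.Surjective (algebraMap (Localization.AtPrime p ⧸ I)
      (Localization.AtPrime p ⧸ maximalIdeal (Localization.AtPrime p))) := Ideal.Quotient.factor_surjective hIm
  haveI : IsLocalization.Away (algebraMap B B₁ t) (Localization.Away (algebraMap B B₁ t)) := Localization.isLocalization
  letI : Field (Localization.AtPrime p ⧸ maximalIdeal (Localization.AtPrime p)) := Ideal.Quotient.field _
  exact PureFlatLib.hasPureSpreadout_of_projective (A := A) (B := B) (A' := Localization.AtPrime p ⧸ I) (B₁ := B₁)
    (K := Localization.AtPrime p ⧸ maximalIdeal (Localization.AtPrime p)) hK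
    (IsLocalRing.eq_maximalIdeal (RingHom.ker_isMaximal_of_surjective _ hK)) T t ht hW hproj
    (C := Localization.Away (algebraMap B B₁ t)) g₀ h hh

end Groth.Agent.S1294
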