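import Groth.Statements.S12979
import Groth.Agent.AlgStLib.Rows3
import Groth.Agent.AlgSpLib.UnivClosedQc

set_option autoImplicit false
universe u
open CategoryTheory AlgebraicGeometry
open AlgSt

namespace Groth.Agent.S12979

/-- If the first and second diagonals of a morphism f of algebraic stacks are both universally closed
(as morphisms representable by algebraic spaces), then f is separated. (The published statement is
an equivalence; this row states the implication from the two diagonals to separatedness.) -/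
theorem result
    (S : Scheme.{u}) (𝒳 : AlgSt.Cat S) (𝒴 : AlgSt.Cat S)
    (h𝒳 : AlgSt.IsAlgStack Scheme.fppfPrecoverage 𝒳)
    (h𝒴 : AlgSt.IsAlgStack Scheme.fppfPrecoverage 𝒴)
    (f : 𝒳 ⥤ᵇ 𝒴) :
    AlgSt.RepByAlgSpWith AlgSp.IsUnivClosedMor (FibCat.diag f) →
      AlgSt.RepByAlgSpWith AlgSp.IsUnivClosedMor (FibCat.diag (FibCat.diag f)) → AlgSt.IsSeparatedMor f := by
  intro h1 h2
  haveI := AlgStLib.isFibGrpd_of_isAlgStack h𝒳
  haveI := AlgStLib.isFibGrpd_of_isAlgStack h𝒴
  have hs := ((AlgStLib.tfae_separated (AlgStLib.repByAlgSp1_of_with h1)).out 3 0).1 h2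
  have hl := AlgStLib.repByAlgSpWith_lft_diag h𝒳 h𝒴 f
  exact AlgStLib.repByAlgSpWith_mono (fun _ _ a hH hU h =>
      ⟨h.1.1, ⟨h.1.2, AlgSpLib.isQuasiCompactMor_of_univClosed hH hU h.2⟩, h.2⟩)
    (AlgStLib.repByAlgSpWith_inf (fun _ _ _ i g hH' hG hg => AlgSpLib.univSp_of_isPullback
        (IsPullback.of_horiz_isIso ⟨(Category.comp_id (i.hom ≫ g)).symm⟩) hg)
      (AlgStLib.repByAlgSpWith_inf AlgStLib.good_lft.bc.precomp_iso hs hl) h1)

end Groth.Agent.S12979
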