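import Groth.Statements.S12997
import Groth.Agent.AlgStLib.LocQ4

set_option autoImplicit false
universe u
open CategoryTheory AlgebraicGeometry
open AlgSt

namespace Groth.Agent.S12997

/-- An open immersion of algebraic stacks is locally of finite presentation. -/
theorem result
    (S : Scheme.{u}) (𝒳 : AlgSt.Cat S) (𝒴 : AlgSt.Cat S)
    (h𝒳 : AlgSt.IsAlgStack Scheme.fppfPrecoverage 𝒳)
    (h𝒴 : AlgSt.IsAlgStack Scheme.fppfPrecoverage 𝒴)
    (f : 𝒳 ⥤ᵇ 𝒴) :
    AlgSt.IsOpenImm f → AlgSt.LocQ (AlgSp.LocP @LocallyOfFinitePresentation) f := by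
  intro h
  exact AlgStLib.locQ_of_repByAlgSpWith AlgStLib.isSmoothLocalST_lfp (AlgStLib.good_locP _) h𝒳 h𝒴 f
    (AlgStLib.repByAlgSpWith_mono (fun _ _ _ _ _ ha => AlgSpLib.locP_of_repWith
      (AlgSpLib.repWith_mono (fun _ _ g (_ : AlgebraicGeometry.IsOpenImmersion g) =>
        (inferInstance : AlgebraicGeometry.LocallyOfFinitePresentation g)) ha)) h)

end Groth.Agent.S12997
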