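import Groth.Statements.S13006
import Groth.Agent.AlgStLib.LocQ5
-- import your own Groth.Agent.* helpers here

set_option autoImplicit false
set_option linter.all false
set_option backward.isDefEq.respectTransparency false
set_option backward.isDefEq.respectTransparency.types false
universe u
open CategoryTheory AlgebraicGeometry
open AlgSt

namespace Groth.Agent.S13006

/-- If a morphism f of algebraic stacks is locally of finite type then its diagonal is locally of finite
presentation. (The second assertion adds the quasi-compactness clauses on both sides.) -/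
theorem result
    (S : Scheme.{u}) (𝒳 : AlgSt.Cat S) (𝒴 : AlgSt.Cat S)
    (h𝒳 : AlgSt.IsAlgStack Scheme.fppfPrecoverage 𝒳)
    (h𝒴 : AlgSt.IsAlgStack Scheme.fppfPrecoverage 𝒴)
    (f : 𝒳 ⥤ᵇ 𝒴) :
    AlgSt.LocQ (AlgSp.LocP @LocallyOfFiniteType) f → AlgSt.LocQ (AlgSp.LocP @LocallyOfFinitePresentation) (FibCat.diag f) := by
  intro hf
  haveI := AlgStLib.isFibGrpd_of_isAlgStack h𝒳
  haveI := AlgStLib.isFibGrpd_of_isAlgStack h𝒴
  have hW := AlgStLib.isAlgStack_fp' h𝒳 h𝒳 h𝒴 f f
  have h₂ := AlgStLib.locQ_fpFst AlgStLib.isSmoothLocalST_lft AlgStLib.good_lft.bc h𝒳 h𝒴 h𝒳 f f hf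
  obtain ⟨U, x, hx, hxs⟩ := h𝒳.atlas
  have hid : AlgSt.overMap (𝟙 U) = BasedFunctor.id (FibCat.overCat U) := by
    have e := Over.mapId_eq U
    revert e
    unfold AlgSt.overMap BasedFunctor.id
    intro e
    congr 1
  refine AlgStLib.locQ_lfp_of_comp h𝒳 hW h𝒳 (FibCat.diag f) (FibCat.fpFst f f)
    ⟨U, U, x, x, 𝟙 U, eqToIso (by rw [hid]; rfl), hx, hxs, hx, ?_⟩ h₂
  exact (AlgSpLib.locP_yon_map_iff (P := @LocallyOfFinitePresentation) (𝟙 U)).2
    (inferInstanceAs (LocallyOfFinitePresentation (𝟙 U.left)))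

end Groth.Agent.S13006
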