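import Groth.Statements.S13007
import Groth.Agent.AlgStLib.LocQ5
import Groth.Agent.S0114
-- import your own Groth.Agent.* helpers here

set_option autoImplicit false
set_option linter.all false
set_option backward.isDefEq.respectTransparency false
set_option backward.isDefEq.respectTransparency.types false
universe u
open CategoryTheory AlgebraicGeometry
open AlgSt AlgSpLib AlgSp

namespace Groth.Agent.S13007

/-- Let 𝒳 → 𝒴 → 𝒵 be morphisms of algebraic stacks with 𝒳 → 𝒵 locally of finite presentation and 𝒳 → 𝒴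
flat, surjective and locally of finite presentation. In that case 𝒴 → 𝒵 is locally of finite
presentation as well. -/
theorem result
    (S : Scheme.{u}) (𝒳 : AlgSt.Cat S) (𝒴 : AlgSt.Cat S) (𝒵 : AlgSt.Cat S)
    (h𝒳 : AlgSt.IsAlgStack Scheme.fppfPrecoverage 𝒳)
    (h𝒴 : AlgSt.IsAlgStack Scheme.fppfPrecoverage 𝒴)
    (h𝒵 : AlgSt.IsAlgStack Scheme.fppfPrecoverage 𝒵)
    (f : 𝒳 ⥤ᵇ 𝒴) (g : 𝒴 ⥤ᵇ 𝒵)
    (hf₁ : AlgSt.LocQ (AlgSp.LocP @Flat) f) (hf₂ : AlgSt.LocQ (AlgSp.LocP @LocallyOfFinitePresentation) f) (hf₃ : AlgSt.IsSurjective f) :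
    AlgSt.LocQ (AlgSp.LocP @LocallyOfFinitePresentation) (BasedFunctor.comp f g) → AlgSt.LocQ (AlgSp.LocP @LocallyOfFinitePresentation) g := by
  intro hfg
  have hf₁' := hf₁
  have hf₂' := hf₂
  have hf₃' := hf₃
  haveI := AlgStLib.isFibGrpd_of_isAlgStack h𝒳
  haveI := AlgStLib.isFibGrpd_of_isAlgStack h𝒴
  obtain ⟨W, z, hz, hzs⟩ := h𝒵.atlas
  obtain ⟨V, c, k, ⟨γ⟩, hc, -, hy, hys⟩ := AlgStLib.exists_chartOver h𝒴 h𝒵 g z hz
  obtain ⟨U, d, h, ⟨β⟩, hd, hds, -, -⟩ := AlgStLib.exists_chartOver h𝒳 h𝒴 f _ hy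
  refine ⟨V, W, _, z, k, AlgStLib.fpSq c γ, hy, hys hzs, hz, (AlgSpLib.locP_yon_map_iff k).2 ?_⟩
  haveI : Flat h.left := locP_yon_map (AlgStLib.prop_chartOver AlgStLib.isSmoothLocalST_flat h𝒳 h𝒴 hf₁' hy β hd)
  haveI : LocallyOfFinitePresentation h.left :=
    locP_yon_map (AlgStLib.prop_chartOver AlgStLib.isSmoothLocalST_lfp h𝒳 h𝒴 hf₂' hy β hd)
  haveI := AlgStLib.surjective_chartOver hf₃' β hds
  have := locP_yon_map (AlgStLib.prop_comp_chart AlgStLib.isSmoothLocalST_lfp h𝒳 h𝒴 h𝒵 hfg hz γ hc β hd)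
  rw [Over.comp_left] at this
  haveI : LocallyOfFinitePresentation (h.left ≫ k.left) := this
  exact Groth.Agent.S0114.result h.left k.left

end Groth.Agent.S13007
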