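import Groth.Statements.S13035
import Groth.Agent.AlgStLib.LocQ5
import Groth.Agent.AlgStLib.PointsQc
-- import your own Groth.Agent.* helpers here

set_option autoImplicit false
set_option linter.all false
set_option backward.isDefEq.respectTransparency false
set_option backward.isDefEq.respectTransparency.types false
universe u
open CategoryTheory AlgebraicGeometry
open AlgSt AlgSp AlgSpLib

namespace Groth.Agent.S13035

section
open IsLocalRing PrimeSpectrum

lemma exists_valuation_lift (A : Type u) [CommRing A] [IsDomain A] [ValuationRing A] {U : Scheme.{u}}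
    (k : U ⟶ Spec (CommRingCat.of A)) [Flat k] (z : U) (hz : k z = closedPoint A) :
    ∃ (A' : Type u) (_ : CommRing A') (_ : IsDomain A') (_ : ValuationRing A') (φ : A →+* A'),
      Function.Injective φ ∧ IsLocalHom φ ∧ ∃ l : Spec (CommRingCat.of A') ⟶ U, l ≫ k = Spec.map (CommRingCat.ofHom φ) := by
  let bot : Spec (CommRingCat.of A) := (⟨⊥, Ideal.isPrime_bot⟩ : PrimeSpectrum A)
  have hsp : bot ⤳ k z := by
    rw [hz]
    exact (PrimeSpectrum.le_iff_specializes (⟨⊥, Ideal.isPrime_bot⟩ : PrimeSpectrum A) (closedPoint A)).1 bot_le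
  obtain ⟨z', hz', hkz'⟩ := (Flat.generalizingMap k) hsp
  let r : U.presheaf.stalk z ⟶ U.residueField z' := U.presheaf.stalkSpecializes hz' ≫ U.residue z'
  obtain ⟨B, hB, hBl⟩ := exists_factor_valuationRing r.hom
  let g : U.presheaf.stalk z ⟶ CommRingCat.of B := CommRingCat.ofHom (r.hom.codRestrict B.toSubring hB)
  let l : Spec (CommRingCat.of B) ⟶ U := Spec.map g ≫ U.fromSpecStalk z
  refine ⟨B, inferInstance, inferInstance, inferInstance, (Spec.preimage (l ≫ k)).hom, ?_⟩
  have hl : Spec.map (CommRingCat.ofHom (Spec.preimage (l ≫ k)).hom) = l ≫ k := Spec.map_preimage _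
  generalize (Spec.preimage (l ≫ k)).hom = φ at hl ⊢
  have hc : l (closedPoint B) = z := by
    show U.fromSpecStalk z (Spec.map g (closedPoint B)) = z
    have e : Spec.map g (closedPoint B) = closedPoint (U.presheaf.stalk z) :=
      @IsLocalRing.comap_closedPoint _ _ _ _ _ _ g.hom hBl
    rw [e]
    exact Scheme.fromSpecStalk_closedPoint
  have he : Spec.map (CommRingCat.ofHom (algebraMap B (U.residueField z'))) ≫ l = U.fromSpecResidueField z' := by
    rw [Scheme.fromSpecResidueField, ← Scheme.SpecMap_stalkSpecializes_fromSpecStalk hz', ← Category.assoc,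
      ← Category.assoc, ← Spec.map_comp, ← Spec.map_comp]
    rfl
  have hg : l ((⟨⊥, Ideal.isPrime_bot⟩ : PrimeSpectrum B) : Spec (CommRingCat.of B)) = z' := by
    have e : Spec.map (CommRingCat.ofHom (algebraMap B (U.residueField z'))) (closedPoint (U.residueField z')) =
        (⟨⊥, Ideal.isPrime_bot⟩ : PrimeSpectrum B) := by
      refine PrimeSpectrum.ext ?_
      show Ideal.comap (algebraMap B (U.residueField z')) (maximalIdeal (U.residueField z')) = ⊥
      rw [IsLocalRing.maximalIdeal_eq_bot, ← RingHom.ker_eq_comap_bot]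
      exact (RingHom.injective_iff_ker_eq_bot _).1 Subtype.val_injective
    rw [← e, ← Scheme.Hom.comp_apply, he]
    exact U.fromSpecResidueField_apply z' _
  have h1 : Ideal.comap φ ⊥ = ⊥ := by
    have := congrArg PrimeSpectrum.asIdeal
      ((congrArg k hg).trans hkz' : k (l ((⟨⊥, Ideal.isPrime_bot⟩ : PrimeSpectrum B) : Spec (CommRingCat.of B))) = bot)
    rw [← Scheme.Hom.comp_apply, ← hl] at this
    exact this
  have h2 : Ideal.comap φ (maximalIdeal B) = maximalIdeal A := by
    have := congrArg PrimeSpectrum.asIdeal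
      ((congrArg k hc).trans hz : k (l (closedPoint B)) = closedPoint A)
    rw [← Scheme.Hom.comp_apply, ← hl] at this
    exact this
  refine ⟨(RingHom.injective_iff_ker_eq_bot φ).2 h1, ⟨fun a ha => ?_⟩, l, hl.symm⟩
  by_contra hn
  have hm : a ∈ Ideal.comap φ (maximalIdeal B) := by rw [h2]; exact (mem_maximalIdeal a).2 hn
  exact (mem_maximalIdeal _).1 hm ha

end

/-- Let f : 𝒳 → 𝒴 be a flat morphism of algebraic stacks and Spec A → 𝒴 a morphism with A a valuation
ring whose closed point maps into the image of |𝒳| → |𝒴|. Then there are an extension of valuation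
rings A → A' (an injective local homomorphism of valuation rings) and a morphism Spec A' → 𝒳 making
the square with Spec A' → Spec A → 𝒴 2-commute. -/
theorem result
    (S : Scheme.{u}) (𝒳 : AlgSt.Cat S) (𝒴 : AlgSt.Cat S)
    (h𝒳 : AlgSt.IsAlgStack Scheme.fppfPrecoverage 𝒳)
    (h𝒴 : AlgSt.IsAlgStack Scheme.fppfPrecoverage 𝒴)
    (f : 𝒳 ⥤ᵇ 𝒴)
    (hf : AlgSt.LocQ (AlgSp.LocP @Flat) f)
    (A : Type u) [CommRing A] [IsDomain A] [ValuationRing A] (sA : Spec (CommRingCat.of A) ⟶ S)
    (a : FibCat.overCat (Over.mk sA) ⥤ᵇ 𝒴)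
    (ha : AlgSt.Points.ofChart a (IsLocalRing.closedPoint A) ∈ Set.range (AlgSt.Points.map f)) :
    ∃ (A' : Type u) (_ : CommRing A') (_ : IsDomain A') (_ : ValuationRing A') (φ : A →+* A'),
      Function.Injective φ ∧ IsLocalHom φ ∧
      ∃ x : FibCat.overCat (Over.mk (Spec.map (CommRingCat.ofHom φ) ≫ sA)) ⥤ᵇ 𝒳,
        Nonempty (BasedFunctor.comp x f ≅
          BasedFunctor.comp (AlgSt.overMap (Over.homMk (Spec.map (CommRingCat.ofHom φ)) rfl :
            Over.mk (Spec.map (CommRingCat.ofHom φ) ≫ sA) ⟶ Over.mk sA)) a) := by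
  haveI := AlgStLib.isFibGrpd_of_isAlgStack h𝒳
  haveI := AlgStLib.isFibGrpd_of_isAlgStack h𝒴
  let T : Over S := Over.mk sA
  haveI := AlgStLib.isFibGrpd_overCat T
  haveI : FibCat.IsFibGrpd (FibCat.fp a f).p := FibLib.isFibGrpd_fp
  have hinj : Function.Injective (AlgSt.Points.ofChart (BasedFunctor.id (FibCat.overCat T))) := by
    rw [AlgStLib.ofChart_eq]
    exact ((AlgStLib.map_bijective_of_isEquivOver (AlgStLib.isEquivOver_toOverCat T)).1.comp
      (AlgStLib.ptsEquiv _).symm.injective).comp (AlgSp.Points.schemeHomeo T).injective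
  obtain ⟨q, hq⟩ := ha
  have hq' : AlgSt.Points.map a (AlgSt.Points.ofChart (BasedFunctor.id (FibCat.overCat T)) (IsLocalRing.closedPoint A)) =
      AlgSt.Points.map f q := by
    rw [hq]
    exact (congrFun (AlgStLib.ofChart_comp (BasedFunctor.id (FibCat.overCat T)) a) _).symm
  obtain ⟨w, hw, -⟩ := AlgStLib.exists_point_fp (g := a) (f := f) _ _ hq'
  have hT := AlgStLib.isAlgStack_overCat (S := S) T
  have hW := AlgStLib.isAlgStack_fp' hT h𝒳 h𝒴 a f
  let F := FibCat.fpFst a f
  have hF : AlgSt.LocQ (AlgSp.LocP @Flat) F :=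
    AlgStLib.locQ_fpFst AlgStLib.isSmoothLocalST_flat AlgStLib.good_flat.bc h𝒳 h𝒴 hT f a hf
  have hid : AlgSt.RepByAlgSpWith (AlgSp.LocP @Smooth) (BasedFunctor.id (FibCat.overCat T)) := by
    have e : AlgSt.overMap (𝟙 T) = BasedFunctor.id (FibCat.overCat T) := by
      have e := Over.mapId_eq T
      revert e
      unfold AlgSt.overMap BasedFunctor.id
      intro e
      congr 1
    rw [← e]
    exact AlgStLib.repByAlgSpWith_overMap AlgStLib.good_smooth.bc _
      ((AlgSpLib.locP_yon_map_iff (P := @Smooth) (𝟙 T)).2 (inferInstanceAs (Smooth (𝟙 T.left))))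
  obtain ⟨U, d, k, ⟨β⟩, hd, hds, -, -⟩ := AlgStLib.exists_chartOver hW hT F _ hid
  haveI : Flat k.left := locP_yon_map (AlgStLib.prop_chartOver AlgStLib.isSmoothLocalST_flat hW hT hF hid β hd)
  haveI : FibCat.IsFibGrpd (FibCat.fp F (BasedFunctor.id (FibCat.overCat T))).p := FibLib.isFibGrpd_fp
  obtain ⟨w', -, hw'⟩ := AlgStLib.exists_point_fp (g := F) (f := BasedFunctor.id (FibCat.overCat T)) w
    (AlgSt.Points.ofChart (BasedFunctor.id (FibCat.overCat T)) (IsLocalRing.closedPoint A))
    (hw.trans (AlgStLib.map_id _).symm)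
  obtain ⟨t, rfl⟩ := AlgStLib.surjective_ofChart hds w'
  have hkt : k.left t = IsLocalRing.closedPoint A := by
    apply hinj
    rw [← hw']
    refine Eq.trans ?_ (congrFun (AlgStLib.ofChart_comp d _) t)
    rw [AlgStLib.ofChart_congr β]
    exact (congrFun (AlgStLib.ofChart_overMap k (BasedFunctor.id (FibCat.overCat T))) t).symm
  obtain ⟨A', i₁, i₂, i₃, φ, hφ₁, hφ₂, l, hl⟩ := exists_valuation_lift A k.left t hkt
  refine ⟨A', i₁, i₂, i₃, φ, hφ₁, hφ₂, ?_⟩
  let T' : Over S := Over.mk (Spec.map (CommRingCat.ofHom φ) ≫ sA)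
  let m : T' ⟶ U := Over.homMk l (by
    show l ≫ U.hom = Spec.map (CommRingCat.ofHom φ) ≫ sA
    rw [← hl, Category.assoc]
    exact congrArg (l ≫ ·) (Over.w k).symm)
  let c := BasedFunctor.comp (AlgSt.overMap m) (BasedFunctor.comp d (FibCat.fpFst F (BasedFunctor.id (FibCat.overCat T))))
  refine ⟨BasedFunctor.comp c (FibCat.fpSnd a f), ⟨?_⟩⟩
  have e : m ≫ k = (Over.homMk (Spec.map (CommRingCat.ofHom φ)) rfl : T' ⟶ T) := Over.OverMorphism.ext hl
  refine (FibLib.whiskerLeftIso' c (FibCat.fpIso a f)).symm ≪≫ ?_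
  refine FibLib.whiskerRightIso' (FibLib.whiskerLeftIso' (BasedFunctor.comp (AlgSt.overMap m) d)
      (FibCat.fpIso F (BasedFunctor.id (FibCat.overCat T))) ≪≫ FibLib.whiskerLeftIso' (AlgSt.overMap m) β ≪≫
      eqToIso (((AlgStLib.overMap_comp m k).symm).trans (congrArg AlgSt.overMap e))) a

end Groth.Agent.S13035
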