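import Groth.Statements.S13036
import Groth.Agent.AlgStLib.LocQ5
import Groth.Agent.AlgStLib.PointsQc
-- import your own Groth.Agent.* helpers here

set_option autoImplicit false
set_option linter.all false
set_option backward.isDefEq.respectTransparency false
set_option backward.isDefEq.respectTransparency.types false
universe u
open CategoryTheory AlgebraicGeometry
open AlgSt AlgSp AlgSpLib

namespace Groth.Agent.S13036

section
open IsLocalRing PrimeSpectrum

lemma exists_specializes_of_mem_closure {U V : Scheme.{u}} [IsAffine U] [IsAffine V] (k : U ⟶ V) (v : V)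
    (hv : v ∈ closure (Set.range k)) : ∃ z : U, k z ⤳ v := by
  have hmain : ∀ {R T : CommRingCat.{u}} (φ : R ⟶ T) (p : Spec R),
      p ∈ closure (Set.range (Spec.map φ)) → ∃ q, Spec.map φ q ⤳ p := by
    intro R T φ p hp
    have hp' : (p : PrimeSpectrum R) ∈ PrimeSpectrum.zeroLocus (RingHom.ker φ.hom : Set R) := by
      rw [← PrimeSpectrum.closure_range_comap φ.hom]; exact hp
    have hk : (⊥ : Ideal T).comap φ.hom ≤ p.asIdeal := by
      rw [← RingHom.ker_eq_comap_bot]
      exact (PrimeSpectrum.mem_zeroLocus _ _).1 hp'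
    obtain ⟨q₀, hq₀, hq₀p⟩ := Ideal.exists_minimalPrimes_le hk
    obtain ⟨p', hp'1, -, rfl⟩ := Ideal.exists_comap_eq_of_mem_minimalPrimes φ.hom (I := ⊥) q₀ hq₀
    exact ⟨(⟨p', hp'1⟩ : PrimeSpectrum T), (PrimeSpectrum.le_iff_specializes _ _).1 hq₀p⟩
  have e : U.isoSpec.hom ≫ Spec.map k.appTop = k ≫ V.isoSpec.hom := Scheme.isoSpec_hom_naturality k
  obtain ⟨q, hq⟩ := hmain k.appTop (V.isoSpec.hom v) (by
    refine closure_mono ?_ (image_closure_subset_closure_image V.isoSpec.hom.continuous ⟨v, hv, rfl⟩)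
    rintro _ ⟨_, ⟨z, rfl⟩, rfl⟩
    exact ⟨U.isoSpec.hom z, by rw [← Scheme.Hom.comp_apply, e, Scheme.Hom.comp_apply]⟩)
  refine ⟨U.isoSpec.inv q, ?_⟩
  have h2 := hq.map V.isoSpec.inv.continuous
  rw [← Scheme.Hom.comp_apply, ← Scheme.Hom.comp_apply, Iso.hom_inv_id] at h2
  have e2 : Spec.map k.appTop ≫ V.isoSpec.inv = U.isoSpec.inv ≫ k := by
    rw [Iso.comp_inv_eq, Category.assoc, ← e, Iso.inv_hom_id_assoc]
  rw [e2, Scheme.Hom.comp_apply] at h2
  exact h2

lemma exists_valuation_spec {U V : Scheme.{u}} (k : U ⟶ V) (z : U) (v : V) (hz : k z ⤳ v) :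
    ∃ (A : Type u) (_ : CommRing A) (_ : IsDomain A) (_ : ValuationRing A) (l : Spec (CommRingCat.of A) ⟶ V)
      (m : Spec (CommRingCat.of (FractionRing A)) ⟶ U),
      m ≫ k = Spec.map (CommRingCat.ofHom (algebraMap A (FractionRing A))) ≫ l ∧ l (closedPoint A) = v := by
  let r : V.presheaf.stalk v ⟶ U.residueField z := V.presheaf.stalkSpecializes hz ≫ k.stalkMap z ≫ U.residue z
  obtain ⟨B, hB, hBl⟩ := exists_factor_valuationRing r.hom
  let g : V.presheaf.stalk v ⟶ CommRingCat.of B := CommRingCat.ofHom (r.hom.codRestrict B.toSubring hB)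
  let e : FractionRing B ≃ₐ[B] U.residueField z := FractionRing.algEquiv B (U.residueField z)
  let ψ : U.residueField z ⟶ CommRingCat.of (FractionRing B) := CommRingCat.ofHom e.symm.toRingEquiv.toRingHom
  refine ⟨B, inferInstance, inferInstance, inferInstance, Spec.map g ≫ V.fromSpecStalk v,
    Spec.map ψ ≫ U.fromSpecResidueField z, ?_, ?_⟩
  · have h1 : U.fromSpecResidueField z ≫ k =
        Spec.map (CommRingCat.ofHom (algebraMap B (U.residueField z))) ≫ Spec.map g ≫ V.fromSpecStalk v := by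
      rw [Scheme.fromSpecResidueField, Category.assoc, ← Scheme.SpecMap_stalkMap_fromSpecStalk,
        ← Scheme.SpecMap_stalkSpecializes_fromSpecStalk hz]
      simp_rw [← Spec.map_comp_assoc]
      rfl
    have h2 : CommRingCat.ofHom (algebraMap B (U.residueField z)) ≫ ψ =
        CommRingCat.ofHom (algebraMap B (FractionRing B)) := by
      refine CommRingCat.hom_ext (RingHom.ext fun b => ?_)
      exact e.symm.commutes b
    rw [Category.assoc, h1, ← Category.assoc, ← Spec.map_comp, h2]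
  · show V.fromSpecStalk v (Spec.map g (closedPoint B)) = v
    have e : Spec.map g (closedPoint B) = closedPoint (V.presheaf.stalk v) :=
      @IsLocalRing.comap_closedPoint _ _ _ _ _ _ g.hom hBl
    rw [e]
    exact Scheme.fromSpecStalk_closedPoint

end

/-- Let f : 𝒳 → 𝒴 be a quasi-compact morphism of algebraic stacks and y a point of |𝒴| in the closure of
the image of |f|. Then there are a valuation ring A with fraction field K and a 2-commutative square
Spec K → 𝒳, Spec A → 𝒴 (over Spec K → Spec A and f) such that the closed point of Spec A maps to y. -/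
theorem result
    (S : Scheme.{u}) (𝒳 : AlgSt.Cat S) (𝒴 : AlgSt.Cat S)
    (h𝒳 : AlgSt.IsAlgStack Scheme.fppfPrecoverage 𝒳)
    (h𝒴 : AlgSt.IsAlgStack Scheme.fppfPrecoverage 𝒴)
    (f : 𝒳 ⥤ᵇ 𝒴)
    (hf : AlgSt.IsQuasiCompactMor Scheme.fppfPrecoverage f)
    (y : AlgSt.Points 𝒴) (hy : y ∈ closure (Set.range (AlgSt.Points.map f))) :
    ∃ (A : Type u) (_ : CommRing A) (_ : IsDomain A) (_ : ValuationRing A) (sA : Spec (CommRingCat.of A) ⟶ S)
      (a : FibCat.overCat (Over.mk sA) ⥤ᵇ 𝒴)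
      (x : FibCat.overCat (Over.mk (Spec.map (CommRingCat.ofHom (algebraMap A (FractionRing A))) ≫ sA)) ⥤ᵇ 𝒳),
      Nonempty (BasedFunctor.comp x f ≅
        BasedFunctor.comp (AlgSt.overMap (Over.homMk (Spec.map (CommRingCat.ofHom (algebraMap A (FractionRing A)))) rfl :
          Over.mk (Spec.map (CommRingCat.ofHom (algebraMap A (FractionRing A))) ≫ sA) ⟶ Over.mk sA)) a) ∧
      AlgSt.Points.ofChart a (IsLocalRing.closedPoint A) = y := by
  haveI := AlgStLib.isFibGrpd_of_isAlgStack h𝒳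
  haveI := AlgStLib.isFibGrpd_of_isAlgStack h𝒴
  obtain ⟨V, y₀, hy₀, hy₀s⟩ := h𝒴.atlas
  obtain ⟨v, rfl⟩ := AlgStLib.surjective_ofChart hy₀s y
  obtain ⟨O, hO, hvO, -⟩ := exists_isAffineOpen_mem_and_subset (U := ⊤) (x := v) trivial
  haveI : IsAffine O.toScheme := hO
  let V₀ : Over S := Over.mk (O.ι ≫ V.hom)
  let j : V₀ ⟶ V := Over.homMk O.ι rfl
  haveI := AlgStLib.isFibGrpd_overCat V
  haveI := AlgStLib.isFibGrpd_overCat V₀
  have hj : AlgSp.LocP @Smooth ((AlgSp.yon S).map j) :=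
    (AlgSpLib.locP_yon_map_iff j).2 (inferInstanceAs (Smooth O.ι))
  let y₁ := BasedFunctor.comp (AlgSt.overMap j) y₀
  have hy₁ := AlgStLib.repByAlgSpWith_comp' AlgStLib.good_smooth
    (AlgStLib.repByAlgSpWith_overMap AlgStLib.good_smooth.bc j hj) hy₀
  have hV₀ := AlgStLib.isAlgStack_overCat (S := S) V₀
  have hqc : AlgSt.IsQuasiCompact (FibCat.overCat V₀) := by
    have e : AlgSt.overMap (𝟙 V₀) = BasedFunctor.id (FibCat.overCat V₀) := by
      have e := Over.mapId_eq V₀
      revert e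
      unfold AlgSt.overMap BasedFunctor.id
      intro e
      congr 1
    have hid : AlgSt.RepByAlgSpWith (AlgSp.LocP @Smooth) (BasedFunctor.id (FibCat.overCat V₀)) := by
      rw [← e]
      exact AlgStLib.repByAlgSpWith_overMap AlgStLib.good_smooth.bc _
        ((AlgSpLib.locP_yon_map_iff (P := @Smooth) (𝟙 V₀)).2 (inferInstanceAs (Smooth (𝟙 V₀.left))))
    exact ⟨V₀, BasedFunctor.id _, hO, hid,
      (AlgStLib.surjective_iff_repByAlgSpWith (AlgStLib.repByAlgSp1_of_with hid)).1 fun z => ⟨z, AlgStLib.map_id z⟩⟩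
  obtain ⟨U, d, hU, hd, hds⟩ := hf _ hV₀ hqc y₁
  haveI := hU
  haveI : FibCat.IsFibGrpd (FibCat.fp y₁ f).p := FibLib.isFibGrpd_fp
  obtain ⟨k, ⟨β⟩⟩ := FibLib.exists_iso_overMap (BasedFunctor.comp d (FibCat.fpFst y₁ f))
  have hinj : Function.Injective (AlgSt.Points.ofChart (BasedFunctor.id (FibCat.overCat V₀))) := by
    rw [AlgStLib.ofChart_eq]
    exact ((AlgStLib.map_bijective_of_isEquivOver (AlgStLib.isEquivOver_toOverCat V₀)).1.comp
      (AlgStLib.ptsEquiv _).symm.injective).comp (AlgSp.Points.schemeHomeo V₀).injective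
  have hsub : AlgSt.Points.ofChart y₁ ⁻¹' Set.range (AlgSt.Points.map f) ⊆ Set.range k.left := fun t ht => by
    obtain ⟨q, hq⟩ := ht
    obtain ⟨w, hw, -⟩ := AlgStLib.exists_point_fp (g := y₁) (f := f)
      (AlgSt.Points.ofChart (BasedFunctor.id (FibCat.overCat V₀)) t) q
      ((congrFun (AlgStLib.ofChart_comp (BasedFunctor.id (FibCat.overCat V₀)) y₁) t).symm.trans hq.symm)
    obtain ⟨u, rfl⟩ := AlgStLib.surjective_ofChart hds w
    refine ⟨u, hinj ?_⟩
    rw [← hw]
    refine Eq.trans ?_ (congrFun (AlgStLib.ofChart_comp d _) u)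
    rw [AlgStLib.ofChart_congr β]
    exact (congrFun (AlgStLib.ofChart_overMap k (BasedFunctor.id (FibCat.overCat V₀))) u).symm
  let v₁ : V₀.left := ⟨v, hvO⟩
  have hv₁ : AlgSt.Points.ofChart y₁ v₁ = AlgSt.Points.ofChart y₀ v := congrFun (AlgStLib.ofChart_overMap j y₀) v₁
  have hcl : v₁ ∈ closure (Set.range k.left) := by
    refine closure_mono hsub ((AlgStLib.isOpenMap_ofChart_smooth y₁ hy₁).preimage_closure_subset_closure_preimage ?_)
    rw [Set.mem_preimage, hv₁]
    exact hy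
  haveI : IsAffine V₀.left := hO
  obtain ⟨z, hz⟩ := exists_specializes_of_mem_closure k.left v₁ hcl
  obtain ⟨A, i₁, i₂, i₃, l, m, hlm, hlc⟩ := exists_valuation_spec k.left z v₁ hz
  let T : Over S := Over.mk (l ≫ V₀.hom)
  let g : T ⟶ V₀ := Over.homMk l rfl
  let TK : Over S := Over.mk (Spec.map (CommRingCat.ofHom (algebraMap A (FractionRing A))) ≫ l ≫ V₀.hom)
  let n : TK ⟶ U := Over.homMk m (by
    show m ≫ U.hom = Spec.map (CommRingCat.ofHom (algebraMap A (FractionRing A))) ≫ l ≫ V₀.hom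
    rw [← reassoc_of% hlm]
    exact congrArg (m ≫ ·) (Over.w k).symm)
  let c := BasedFunctor.comp (AlgSt.overMap n) d
  refine ⟨A, i₁, i₂, i₃, l ≫ V₀.hom, BasedFunctor.comp (AlgSt.overMap g) y₁,
    BasedFunctor.comp c (FibCat.fpSnd y₁ f), ⟨?_⟩, ?_⟩
  · let h₀ : TK ⟶ T := Over.homMk (Spec.map (CommRingCat.ofHom (algebraMap A (FractionRing A)))) rfl
    have e : n ≫ k = h₀ ≫ g := Over.OverMorphism.ext hlm
    refine (FibLib.whiskerLeftIso' c (FibCat.fpIso y₁ f)).symm ≪≫ ?_
    exact FibLib.whiskerRightIso' (FibLib.whiskerLeftIso' (AlgSt.overMap n) β ≪≫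
      eqToIso (((AlgStLib.overMap_comp n k).symm).trans ((congrArg AlgSt.overMap e).trans (AlgStLib.overMap_comp h₀ g)))) y₁
  · rw [AlgStLib.ofChart_overMap]
    show AlgSt.Points.ofChart y₁ (l (IsLocalRing.closedPoint A)) = _
    rw [hlc, hv₁]

end Groth.Agent.S13036
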