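import Groth.Statements.S13041
import Mathlib
import Mathlib
-- import your own Groth.Agent.* helpers here

set_option autoImplicit false
universe u
open MaxMod

namespace Groth.Agent.S13041

/-- Let R be a domain with fraction field K, let A → B be a homomorphism of commutative R-algebras that
are flat over R, with B module-finite over A, such that the induced map K ⊗_R A → K ⊗_R B is
bijective. If the A-linear map Hom_A(B, A) → A evaluating at 1 is surjective, then A → B is
bijective. (The published statement concerns a finite morphism of flat schemes over a discrete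
valuation ring, with locally free relative dualizing sheaves, that is an isomorphism over a
schematically dense open and whose trace map on dualizing sheaves is surjective; this row is the
statement about rings to which the printed proof reduces it and which that proof establishes, and
the argument uses only that R is a domain.) -/
theorem result
    (R K A B : Type u) [CommRing R] [IsDomain R] [Field K] [Algebra R K] [IsFractionRing R K]
    [CommRing A] [CommRing B] [Algebra R A] [Algebra R B] [Algebra A B] [IsScalarTower R A B]
    [Module.Flat R A] [Module.Flat R B] [Module.Finite A B]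
    (hK : Function.Bijective
      (Algebra.TensorProduct.map (AlgHom.id R K) (IsScalarTower.toAlgHom R A B)))
    (htr : Function.Surjective (fun u : B →ₗ[A] A => u 1)) :
    Function.Bijective (algebraMap A B) := by
  classical
  obtain ⟨u, hu⟩ := htr 1
  change u 1 = 1 at hu
  have hu' : ∀ a : A, u (algebraMap A B a) = a := fun a => by
    rw [Algebra.algebraMap_eq_smul_one, map_smul, hu, smul_eq_mul, mul_one]
  have hinj : Function.Injective (algebraMap A B) := fun a b h => by rw [← hu' a, ← hu' b, h]
  refine ⟨hinj, fun b => ⟨u b, ?_⟩⟩
  have hden : ∀ z : TensorProduct R K A, ∃ r : R, r ≠ 0 ∧ ∃ a : A, r • z = (1 : K) ⊗ₜ[R] a := by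
    intro z
    induction z using TensorProduct.induction_on with
    | zero => exact ⟨1, one_ne_zero, 0, by simp⟩
    | tmul x a =>
      obtain ⟨n, d, hd, rfl⟩ := IsFractionRing.div_surjective (A := R) x
      refine ⟨d, nonZeroDivisors.ne_zero hd, n • a, ?_⟩
      have hd0 : algebraMap R K d ≠ 0 := IsFractionRing.to_map_ne_zero_of_mem_nonZeroDivisors hd
      rw [TensorProduct.smul_tmul', Algebra.smul_def, mul_div_cancel₀ _ hd0, Algebra.algebraMap_eq_smul_one, TensorProduct.smul_tmul]
    | add y z hy hz =>
      obtain ⟨r, hr, a, ha⟩ := hy
      obtain ⟨s, hs, a', ha'⟩ := hz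
      refine ⟨r * s, mul_ne_zero hr hs, s • a + r • a', ?_⟩
      rw [smul_add, TensorProduct.tmul_add, TensorProduct.tmul_smul, TensorProduct.tmul_smul, ← ha, ← ha', smul_smul, smul_smul, mul_comm s r]
  obtain ⟨z, hz⟩ := hK.2 ((1 : K) ⊗ₜ[R] b)
  obtain ⟨r, hr, a, ha⟩ := hden z
  have h1 : (1 : K) ⊗ₜ[R] (r • b) = (1 : K) ⊗ₜ[R] (algebraMap A B a) := by
    rw [TensorProduct.tmul_smul, ← hz, ← map_smul, ha]
    simp
  have hinjK : Function.Injective (fun y : B => (1 : K) ⊗ₜ[R] y) := Algebra.TensorProduct.includeRight_injective (IsFractionRing.injective R K)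
  have h2 : r • b = algebraMap A B a := hinjK h1
  have h3 : r • u b = a := by rw [← LinearMap.map_smul_of_tower, h2, hu']
  haveI : Module.IsTorsionFree R B := inferInstance
  have h4 : r • (algebraMap A B (u b) - b) = 0 := by
    rw [smul_sub, h2, ← h3]
    simp [Algebra.smul_def, IsScalarTower.algebraMap_apply R A B]
  exact sub_eq_zero.1 ((smul_eq_zero.1 h4).resolve_left hr)

end Groth.Agent.S13041
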