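import Groth.Statements.S13042
import Mathlib


-- import your own Groth.Agent.* helpers here

set_option autoImplicit false
universe u
open MaxMod

namespace Groth.Agent.S13042

open MvPolynomial in
/-- Let p be a prime, R a local ring of characteristic p, λ an element of the maximal ideal of R and f ∈
R. Then there is an isomorphism of R-algebras R[W₁, W₂]/(W₁^p − f, W₂^p − f) ≅ R[x, W]/(x^p, W^p −
f) with W₁ ↦ x + W + λ·x·W and W₂ ↦ W; that is, Spec R[W]/(W^p − f) with the action w ↦ x + w + λxw
is a torsor under the group scheme Spec R[x]/(x^p) with law x₁ ∘ x₂ = x₁ + x₂ + λx₁x₂. (The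
published statement is over a complete discrete valuation ring of characteristic p with λ a nonzero
nonunit, and also asserts that for f in the fraction field with negative valuation v(f) > −p·v(λ)
the torsor W^p = f extends to a torsor over R, using the coordinate 1/W; that second case fails: for
p = 2, λ = π a uniformizer and f = 1/π, every model is Spec R[π^a t] with t² = π, and none of these
is a torsor since the coaction sends t to t − π(1 + t)x. Only the case f ∈ R is stated, and the
argument there uses only that R is local of characteristic p.) -/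
theorem result
    (p : ℕ) [Fact p.Prime] (R : Type u) [CommRing R] [IsLocalRing R] [CharP R p]
    (lam f : R) (hlam : lam ∈ IsLocalRing.maximalIdeal R) :
    ∃ e : (MvPolynomial (Fin 2) R ⧸ Ideal.span {(X 0 ^ p - C f : MvPolynomial (Fin 2) R), X 1 ^ p - C f}) ≃ₐ[R]
        (MvPolynomial (Fin 2) R ⧸ Ideal.span {(X 0 ^ p : MvPolynomial (Fin 2) R), X 1 ^ p - C f}),
      e (Ideal.Quotient.mk _ (X 0)) = Ideal.Quotient.mk _ (X 0 + X 1 + C lam * X 0 * X 1) ∧
      e (Ideal.Quotient.mk _ (X 1)) = Ideal.Quotient.mk _ (X 1) := by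
  classical
  open MvPolynomial in
  focus
    have hp : p ≠ 0 := (Fact.out : p.Prime).ne_zero
    let I : Ideal (MvPolynomial (Fin 2) R) := Ideal.span {(X 0 ^ p - C f : MvPolynomial (Fin 2) R), X 1 ^ p - C f}
    let J : Ideal (MvPolynomial (Fin 2) R) := Ideal.span {(X 0 ^ p : MvPolynomial (Fin 2) R), X 1 ^ p - C f}
    have hu : IsUnit (1 + lam ^ p * f) := by
      refine IsLocalRing.notMem_maximalIdeal.1 fun h => (IsLocalRing.maximalIdeal.isMaximal R).ne_top ((Ideal.eq_top_iff_one _).2 ?_)
      have hm : lam ^ p * f ∈ IsLocalRing.maximalIdeal R := Ideal.mul_mem_right _ _ (Ideal.pow_mem_of_mem _ hlam p (Nat.pos_of_ne_zero hp))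
      simpa using sub_mem h hm
    obtain ⟨v, hv⟩ := hu.exists_left_inv
    haveI : CharP (MvPolynomial (Fin 2) R) p := inferInstance
    let u : MvPolynomial (Fin 2) R := C v * (1 + C lam * X 1) ^ (p - 1)
    have hI0 : (X 0 ^ p - C f : MvPolynomial (Fin 2) R) ∈ I := Ideal.subset_span (by simp)
    have hI1 : (X 1 ^ p - C f : MvPolynomial (Fin 2) R) ∈ I := Ideal.subset_span (by simp)
    have hJ0 : (X 0 ^ p : MvPolynomial (Fin 2) R) ∈ J := Ideal.subset_span (by simp)
    have hJ1 : (X 1 ^ p - C f : MvPolynomial (Fin 2) R) ∈ J := Ideal.subset_span (by simp)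
    have hinv : ∀ K : Ideal (MvPolynomial (Fin 2) R), (X 1 ^ p - C f : MvPolynomial (Fin 2) R) ∈ K → (1 + C lam * X 1) * u - 1 ∈ K := fun K hK => by
      have e : (1 + C lam * X 1) * u - 1 = C v * C lam ^ p * (X 1 ^ p - C f) := by
        have e1 : (1 + C lam * X 1) * (1 + C lam * X 1 : MvPolynomial (Fin 2) R) ^ (p - 1) = 1 + C lam ^ p * X 1 ^ p := by
          rw [← pow_succ', Nat.sub_add_cancel (Nat.pos_of_ne_zero hp), add_pow_char, one_pow, mul_pow]
        have e2 : C v * (1 + C lam ^ p * C f : MvPolynomial (Fin 2) R) = 1 := by rw [← map_pow, ← map_mul, ← map_one C, ← map_add, ← map_mul, hv]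
        linear_combination C v * e1 + e2
      rw [e]; exact K.mul_mem_left _ hK
    let F : MvPolynomial (Fin 2) R →ₐ[R] MvPolynomial (Fin 2) R := aeval ![X 0 + X 1 + C lam * X 0 * X 1, X 1]
    let G : MvPolynomial (Fin 2) R →ₐ[R] MvPolynomial (Fin 2) R := aeval ![(X 0 - X 1) * u, X 1]
    have hF : I ≤ J.comap F := Ideal.span_le.2 (by
      rintro g (rfl | rfl)
      · rw [SetLike.mem_coe, Ideal.mem_comap]
        simp [F, add_pow_char, mul_pow]
        have := J.add_mem (J.mul_mem_left (1 + C lam ^ p * X 1 ^ p) hJ0) hJ1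
        convert this using 1; ring
      · rw [SetLike.mem_coe, Ideal.mem_comap]; simpa [F] using hJ1)
    have hG : J ≤ I.comap G := Ideal.span_le.2 (by
      rintro g (rfl | rfl)
      · rw [SetLike.mem_coe, Ideal.mem_comap]
        simp [G, mul_pow, sub_pow_char]
        exact I.mul_mem_right _ (by convert I.sub_mem hI0 hI1 using 1; ring)
      · rw [SetLike.mem_coe, Ideal.mem_comap]; simpa [G] using hI1)
    let F' := Ideal.quotientMapₐ J F hF
    let G' := Ideal.quotientMapₐ I G hG
    refine ⟨AlgEquiv.ofAlgHom F' G' ?_ ?_, ?_, ?_⟩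
    · refine Ideal.Quotient.algHom_ext _ (MvPolynomial.algHom_ext fun i => ?_)
      change Ideal.Quotient.mk J (F (G (X i))) = Ideal.Quotient.mk J (X i)
      rw [Ideal.Quotient.eq]
      fin_cases i
      · simp [F, G, u]
        convert J.mul_mem_left (X 0) (hinv J hJ1) using 1
        ring
      · simp [F, G]
    · refine Ideal.Quotient.algHom_ext _ (MvPolynomial.algHom_ext fun i => ?_)
      change Ideal.Quotient.mk I (G (F (X i))) = Ideal.Quotient.mk I (X i)
      rw [Ideal.Quotient.eq]
      fin_cases i
      · simp [F, G, u]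
        convert I.mul_mem_left (X 0 - X 1) (hinv I hI1) using 1
        ring
      · simp [F, G]
    · change Ideal.Quotient.mk J (F (X 0)) = _; simp [F]; rfl
    · change Ideal.Quotient.mk J (F (X 1)) = _; simp [F]; rfl

end Groth.Agent.S13042
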