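import Groth.Statements.S13043
import Groth.Agent.AffCodimLib.Apply


set_option autoImplicit false
set_option linter.all false
universe u
open CoPerf

namespace Groth.Agent.S13043

open AlgebraicGeometry TopologicalSpace CategoryTheory

theorem eq_of_dim {S : Scheme.{u}} [IsNoetherian S] (U : S.Opens) (hU : Dense (U : Set S))
    {z ξ : S} (hz : z ∉ U) (h : z ⤳ ξ) (hξ : ringKrullDim (S.presheaf.stalk ξ) ≤ 1) : z = ξ := by
  by_contra hne
  obtain ⟨W, hW, hξW, -⟩ := exists_isAffineOpen_mem_and_subset (x := ξ) (U := ⊤) trivial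
  haveI : IsNoetherianRing Γ(S, W) := IsLocallyNoetherian.component_noetherian ⟨W, hW⟩
  obtain ⟨q, hq⟩ := hW.range_fromSpec.ge hξW
  obtain ⟨p, hp⟩ := hW.range_fromSpec.ge (h.mem_open W.2 hξW)
  have hpq : p.asIdeal ≤ q.asIdeal := by
    rw [PrimeSpectrum.asIdeal_le_asIdeal, PrimeSpectrum.le_iff_specializes]
    exact hW.fromSpec.isOpenEmbedding.isInducing.specializes_iff.1 (hp.symm ▸ hq.symm ▸ h)
  have hlt : p.asIdeal < q.asIdeal := by
    refine lt_of_le_of_ne hpq fun e => hne ?_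
    rw [← hp, ← hq, PrimeSpectrum.ext e]
  have h1 := Ideal.height_strict_mono_of_isPrime_of_isPrime hlt
  have h2 : q.asIdeal.height ≤ 1 := by
    have : (q.asIdeal.height : WithBot ℕ∞) ≤ 1 := by
      rw [AffCodimLib.height_eq_stalk hW q, hq]; exact hξ
    exact_mod_cast this
  have h3 : p.asIdeal.height = 0 := by
    rcases eq_or_ne p.asIdeal.height 0 with h0 | h0
    · exact h0
    · exact absurd (h1.trans_le h2) (not_lt.2 (ENat.one_le_iff_ne_zero.2 h0))
  apply AffCodimLib.dim_ne_zero_of_dense U hU z hz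
  rw [← hp, ← AffCodimLib.height_eq_stalk hW p, h3]
  rfl

theorem exists_max_not_mem {S : Scheme.{u}} [IsNoetherian S] (V : S.Opens) (y : S) (hy : y ∉ V) :
    ∃ ξ, ξ ∉ V ∧ ξ ⤳ y ∧ ∀ z, z ∉ V → z ⤳ ξ → z = ξ := by
  obtain ⟨C, hC, hyC⟩ : ∃ C ∈ irreducibleComponents ((V : Set S)ᶜ : Set S), (⟨y, hy⟩ : ((V : Set S)ᶜ : Set S)) ∈ C :=
    ⟨_, irreducibleComponent_mem_irreducibleComponents _, mem_irreducibleComponent⟩
  have hcl : IsClosed ((V : Set S)ᶜ) := V.2.isClosed_compl
  have hirr : IsIrreducible (Subtype.val '' C : Set S) := hC.1.image _ continuous_subtype_val.continuousOn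
  have hCc : IsClosed (Subtype.val '' C : Set S) :=
    hcl.isClosedEmbedding_subtypeVal.isClosedMap _ (isClosed_of_mem_irreducibleComponents C hC)
  obtain ⟨ξ, hξ⟩ := QuasiSober.sober hirr hCc
  have hξV : ξ ∉ V := by
    obtain ⟨w, -, hw⟩ := hξ.mem
    exact hw ▸ w.2
  refine ⟨ξ, hξV, hξ.specializes ⟨_, hyC, rfl⟩, fun z hz hzξ => ?_⟩
  have hle : C ⊆ (Subtype.val ⁻¹' closure {z} : Set ((V : Set S)ᶜ : Set S)) := fun w hw =>
    specializes_iff_mem_closure.1 (hzξ.trans (hξ.specializes ⟨_, hw, rfl⟩))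
  have hzirr : IsIrreducible (closure {(⟨z, hz⟩ : ((V : Set S)ᶜ : Set S))}) := isIrreducible_singleton.closure
  have hsub : C ⊆ closure {(⟨z, hz⟩ : ((V : Set S)ᶜ : Set S))} := by
    rw [Topology.IsInducing.subtypeVal.closure_eq_preimage_closure_image, Set.image_singleton]
    exact hle
  have heq : closure {(⟨z, hz⟩ : ((V : Set S)ᶜ : Set S))} ⊆ C := hC.2 hzirr hsub
  exact Specializes.antisymm hzξ
    (hξ.specializes ⟨_, heq (subset_closure rfl), rfl⟩) |>.eq

theorem affine_inter {S : Scheme.{u}} (V : S.Opens) [IsAffineHom V.ι] {A : S.Opens}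
    (hA : IsAffineOpen A) : IsAffineOpen (V ⊓ A) := by
  have := hA.preimage V.ι
  rwa [← V.ι.isAffineOpen_iff_of_isOpenImmersion, V.ι.image_preimage_eq_opensRange_inf,
    Scheme.Opens.opensRange_ι] at this

theorem isAffineHom_inf {S : Scheme.{u}} [S.IsSeparated] (V W : S.Opens) [IsAffineHom V.ι]
    [IsAffineHom W.ι] : IsAffineHom (V ⊓ W).ι := by
  refine ⟨fun A hA => ?_⟩
  rw [← (V ⊓ W).ι.isAffineOpen_iff_of_isOpenImmersion, (V ⊓ W).ι.image_preimage_eq_opensRange_inf,
    Scheme.Opens.opensRange_ι, inf_inf_distrib_right]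
  exact (affine_inter V hA).inf (affine_inter W hA)


open AlgebraicGeometry in
/-- For a Noetherian scheme S that is separated, and a dense open subset U ⊆ S that is not empty, only
finitely many open subsets V ⊇ U have an affine inclusion morphism V → S, and among them there is
one contained in all the others (a least element for inclusion). -/
theorem result
    (S : Scheme.{u}) [IsNoetherian S] [S.IsSeparated] (U : S.Opens)
    (hne : (U : Set S).Nonempty) (hU : Dense (U : Set S)) :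
    Set.Finite {V : S.Opens | U ≤ V ∧ IsAffineHom V.ι} ∧
      ∃ V₀ : S.Opens, (U ≤ V₀ ∧ IsAffineHom V₀.ι) ∧
        ∀ V : S.Opens, U ≤ V → IsAffineHom V.ι → V₀ ≤ V := by
  classical
  let K : Closeds S := ⟨(U : Set S)ᶜ, U.2.isClosed_compl⟩
  obtain ⟨C, hCf, hCi, hCs⟩ := NoetherianSpace.exists_finite_set_closeds_irreducible K
  have hK : ∀ x : S, x ∉ U → ∃ T ∈ C, x ∈ T := by
    intro x hx
    have hx' : x ∈ (K : Set S) := hx
    rw [hCs] at hx'
    have : sSup C = hCf.toFinset.sup id := by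
      rw [Finset.sup_id_eq_sSup, hCf.coe_toFinset]
    rw [this, Closeds.coe_finset_sup] at hx'
    simpa using hx'
  have hg : ∀ T : C, ∃ g : S, IsGenericPoint g (T.1 : Set S) := fun T =>
    QuasiSober.sober (hCi T.1 T.2) T.1.isClosed
  choose g hg using hg
  haveI := hCf.to_subtype
  let G : Set S := Set.range g
  have hGf : G.Finite := Set.finite_range g
  have key : ∀ V : S.Opens, U ≤ V → IsAffineHom V.ι →
      ∀ y : S, y ∉ V → ∃ ξ ∈ G, ξ ∉ V ∧ ξ ⤳ y := by
    intro V hUV hV y hy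
    obtain ⟨ξ, hξV, hξy, hmax⟩ := exists_max_not_mem V y hy
    have hd := AffCodimLib.dim_le_one_of_affine V ξ hξV hmax
    obtain ⟨T, hT, hξT⟩ := hK ξ fun h => hξV (hUV h)
    have hgU : g ⟨T, hT⟩ ∉ U := by
      have h1 : T ≤ K := hCs ▸ le_sSup hT
      exact h1 (hg ⟨T, hT⟩).mem
    have := eq_of_dim U hU hgU ((hg ⟨T, hT⟩).specializes hξT) hd
    exact ⟨ξ, ⟨_, this⟩, hξV, hξy⟩
  have hfin : Set.Finite {V : S.Opens | U ≤ V ∧ IsAffineHom V.ι} := by
    refine Set.Finite.of_finite_image (f := fun V : S.Opens => G \ (V : Set S))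
      (hGf.finite_subsets.subset ?_) ?_
    · rintro _ ⟨V, -, rfl⟩; exact Set.diff_subset
    · rintro V ⟨hUV, hV⟩ W ⟨hUW, hW⟩ h
      have h' : ∀ ξ ∈ G, (ξ ∈ V ↔ ξ ∈ W) := fun ξ hξ => by
        have := congrArg (fun s : Set S => ξ ∈ s) h
        simpa [hξ, not_iff_not] using this
      ext y
      constructor
      · intro hy
        by_contra hy'
        obtain ⟨ξ, hξ, hξW, hξy⟩ := key W hUW hW y hy'
        exact hξW ((h' ξ hξ).1 (hξy.mem_open V.2 hy))
      · intro hy
        by_contra hy'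
        obtain ⟨ξ, hξ, hξV, hξy⟩ := key V hUV hV y hy'
        exact hξV ((h' ξ hξ).2 (hξy.mem_open W.2 hy))
  have htop : U ≤ ⊤ ∧ IsAffineHom (⊤ : S.Opens).ι :=
    ⟨le_top, by rw [← Scheme.topIso_hom]; infer_instance⟩
  refine ⟨hfin, hfin.toFinset.inf id, ⟨Finset.le_inf fun V hV => ((hfin.mem_toFinset).1 hV).1, ?_⟩,
    fun V h1 h2 => Finset.inf_le (f := id) (hfin.mem_toFinset.2 ⟨h1, h2⟩)⟩
  refine Finset.inf_induction (p := fun V : S.Opens => IsAffineHom V.ι) htop.2 ?_
    fun V hV => ((hfin.mem_toFinset).1 hV).2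
  intro V hV W hW
  exact isAffineHom_inf V W

end Groth.Agent.S13043
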