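import Groth.Statements.S13044
import Groth.Agent.S4667
import Mathlib

set_option autoImplicit false
universe u
open MaxMod

namespace Groth.Agent.S13044
open CategoryTheory CategoryTheory.Limits AlgebraicGeometry

theorem ker_fracMap (R K : Type u) [CommRing R] [IsDomain R] [Field K] [Algebra R K] [IsFractionRing R K] :
    (Spec.map (CommRingCat.ofHom (algebraMap R K))).ker = ⊥ := by
  refine Scheme.IdealSheafData.ext_of_isAffine ?_
  rw [Scheme.Hom.ker_apply, Scheme.IdealSheafData.ideal_bot, Pi.bot_apply, ← RingHom.injective_iff_ker_eq_bot]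
  have h := Scheme.ΓSpecIso_naturality (CommRingCat.ofHom (algebraMap R K))
  rw [← Iso.eq_comp_inv] at h
  show Function.Injective (Spec.map (CommRingCat.ofHom (algebraMap R K))).appTop.hom
  rw [h]
  intro x y hxy
  exact (Scheme.ΓSpecIso (CommRingCat.of R)).commRingCatIsoToRingEquiv.injective
    (IsFractionRing.injective R K ((Scheme.ΓSpecIso (CommRingCat.of K)).symm.commRingCatIsoToRingEquiv.injective hxy))

/-- Factorisation through a closed subscheme may be tested on the generic fibre of a flat scheme. -/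
theorem exists_factor {R K : Type u} [CommRing R] [IsDomain R] [Field K] [Algebra R K] [IsFractionRing R K]
    {W Z Γ : Scheme.{u}} (w : W ⟶ Spec (CommRingCat.of R)) [Flat w] (a : W ⟶ Z) (i : Γ ⟶ Z) [IsClosedImmersion i]
    (h : ∃ c, c ≫ i = pullback.snd (Spec.map (CommRingCat.ofHom (algebraMap R K))) w ≫ a) :
    ∃ c, c ≫ i = a := by
  obtain ⟨c, hc⟩ := h
  let j := pullback.snd (Spec.map (CommRingCat.ofHom (algebraMap R K))) w
  have hj : j.ker = ⊥ := by
    rw [Groth.Agent.S4667.result, ker_fracMap]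
    exact le_bot_iff.1 (Scheme.IdealSheafData.le_map_iff_comap_le.1 bot_le)
  let i' := pullback.snd i a
  have hfac : pullback.lift c j hc ≫ i' = j := pullback.lift_snd _ _ _
  haveI : IsIso i' := IsClosedImmersion.isIso_iff_ker_eq_bot.mpr
    (le_bot_iff.1 (hj ▸ hfac ▸ Scheme.Hom.le_ker_comp _ _))
  exact ⟨inv i' ≫ pullback.fst i a, by rw [Category.assoc, pullback.condition, IsIso.inv_hom_id_assoc]⟩

theorem exists_of_generic {R K : Type u} [CommRing R] [IsDomain R] [Field K] [Algebra R K] [IsFractionRing R K]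
    {Y Γ : Scheme.{u}} {f : Y ⟶ Spec (CommRingCat.of R)} {p₁ p₂ : Γ ⟶ Y} (h : p₁ ≫ f = p₂ ≫ f)
    (hΓ : IsClosedImmersion (pullback.lift p₁ p₂ h))
    {W : Scheme.{u}} (a b : W ⟶ Y) (hab : a ≫ f = b ≫ f) [Flat (a ≫ f)]
    (hg : ∀ {W' : Scheme.{u}} (j : W' ⟶ W) (s : W' ⟶ Spec (CommRingCat.of K)),
      j ≫ a ≫ f = s ≫ Spec.map (CommRingCat.ofHom (algebraMap R K)) →
      ∃ c : W' ⟶ Γ, c ≫ p₁ = j ≫ a ∧ c ≫ p₂ = j ≫ b) :
    ∃ c : W ⟶ Γ, c ≫ p₁ = a ∧ c ≫ p₂ = b := by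
  let x := Spec.map (CommRingCat.ofHom (algebraMap R K))
  obtain ⟨c, h1, h2⟩ := hg (pullback.snd x (a ≫ f)) (pullback.fst x (a ≫ f)) pullback.condition.symm
  obtain ⟨c', hc'⟩ := exists_factor (a ≫ f) (pullback.lift a b hab) (pullback.lift p₁ p₂ h)
    ⟨c, by apply pullback.hom_ext <;> simp only [Category.assoc, pullback.lift_fst, pullback.lift_snd, h1, h2, x]⟩
  refine ⟨c', ?_, ?_⟩
  · have := congrArg (· ≫ pullback.fst f f) hc'
    simp only [Category.assoc] at this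
    rwa [pullback.lift_fst, pullback.lift_fst] at this
  · have := congrArg (· ≫ pullback.snd f f) hc'
    simp only [Category.assoc] at this
    rwa [pullback.lift_snd, pullback.lift_snd] at this

open CategoryTheory Limits AlgebraicGeometry in
/-- Let R be a discrete valuation ring with fraction field K, let Y be a flat separated R-scheme and let
Γ → Y ×_R Y be a closed subscheme, with projections p₁, p₂ : Γ → Y, such that Γ is flat over R
(equivalently, Γ is the schematic closure of its generic fibre) and p₁, p₂ are flat. If for every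
scheme T over Spec K the relation on the T-valued points of Y defined by the T-valued points of Γ is
an equivalence relation, then for every scheme T over Spec R that relation is an equivalence
relation: Γ is a flat equivalence relation on Y. -/
theorem result
    (R K : Type u) [CommRing R] [IsDomain R] [IsDiscreteValuationRing R]
    [Field K] [Algebra R K] [IsFractionRing R K]
    (Y Γ : Scheme.{u}) (f : Y ⟶ Spec (CommRingCat.of R)) [IsSeparated f] [Flat f]
    (p₁ p₂ : Γ ⟶ Y) (h : p₁ ≫ f = p₂ ≫ f)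
    (hΓ : IsClosedImmersion (pullback.lift p₁ p₂ h))
    [Flat (p₁ ≫ f)] [Flat p₁] [Flat p₂]
    (hK : ∀ (T : Scheme.{u}) (t : T ⟶ Spec (CommRingCat.of R)),
      (∃ s : T ⟶ Spec (CommRingCat.of K), t = s ≫ Spec.map (CommRingCat.ofHom (algebraMap R K))) →
      _root_.Equivalence fun a b : {a : T ⟶ Y // a ≫ f = t} =>
        ∃ c : T ⟶ Γ, c ≫ p₁ = a.1 ∧ c ≫ p₂ = b.1) :
    ∀ (T : Scheme.{u}) (t : T ⟶ Spec (CommRingCat.of R)),
      _root_.Equivalence fun a b : {a : T ⟶ Y // a ≫ f = t} =>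
        ∃ c : T ⟶ Γ, c ≫ p₁ = a.1 ∧ c ≫ p₂ = b.1 := by
  have hrefl : ∃ c : Y ⟶ Γ, c ≫ p₁ = 𝟙 Y ∧ c ≫ p₂ = 𝟙 Y := by
    haveI : Flat (𝟙 Y ≫ f) := by rw [Category.id_comp]; infer_instance
    refine exists_of_generic (K := K) h hΓ (𝟙 Y) (𝟙 Y) rfl fun {W'} j s hs => ?_
    simp only [Category.id_comp] at hs
    obtain ⟨c, h1, h2⟩ := (hK W' (j ≫ f) ⟨s, hs⟩).refl ⟨j, rfl⟩
    exact ⟨c, by simpa using h1, by simpa using h2⟩
  have hsymm : ∃ c : Γ ⟶ Γ, c ≫ p₁ = p₂ ∧ c ≫ p₂ = p₁ := by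
    haveI : Flat (p₂ ≫ f) := h ▸ inferInstance
    refine exists_of_generic (K := K) h hΓ p₂ p₁ h.symm fun {W'} j s hs => ?_
    exact (hK W' (j ≫ p₂ ≫ f) ⟨s, hs⟩).symm (x := ⟨j ≫ p₁, by rw [Category.assoc, h]⟩)
      (y := ⟨j ≫ p₂, by rw [Category.assoc]⟩) ⟨j, rfl, rfl⟩
  have htrans : ∃ c : pullback p₂ p₁ ⟶ Γ, c ≫ p₁ = pullback.fst p₂ p₁ ≫ p₁ ∧ c ≫ p₂ = pullback.snd p₂ p₁ ≫ p₂ := by
    have e : (pullback.fst p₂ p₁ ≫ p₁) ≫ f = (pullback.snd p₂ p₁ ≫ p₂) ≫ f := by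
      rw [Category.assoc, Category.assoc, h, ← Category.assoc, pullback.condition, Category.assoc, h]
    haveI : Flat ((pullback.fst p₂ p₁ ≫ p₁) ≫ f) := by rw [Category.assoc]; infer_instance
    refine exists_of_generic (K := K) h hΓ _ _ e fun {W'} j s hs => ?_
    refine (hK W' _ ⟨s, hs⟩).trans (x := ⟨j ≫ pullback.fst p₂ p₁ ≫ p₁, by simp only [Category.assoc]⟩)
      (y := ⟨j ≫ pullback.fst p₂ p₁ ≫ p₂, by simp only [Category.assoc, h]⟩)
      (z := ⟨j ≫ pullback.snd p₂ p₁ ≫ p₂, by simp only [Category.assoc]; rw [Category.assoc, Category.assoc] at e; rw [e]⟩)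
      ⟨j ≫ pullback.fst p₂ p₁, by simp, by simp⟩ ⟨j ≫ pullback.snd p₂ p₁, ?_, by simp⟩
    show (j ≫ pullback.snd p₂ p₁) ≫ p₁ = j ≫ pullback.fst p₂ p₁ ≫ p₂
    rw [Category.assoc, pullback.condition]
  intro T t
  obtain ⟨c₀, r1, r2⟩ := hrefl
  obtain ⟨c₁, s1, s2⟩ := hsymm
  obtain ⟨c₂, t1, t2⟩ := htrans
  refine ⟨fun a => ⟨a.1 ≫ c₀, by simp [r1], by simp [r2]⟩, ?_, ?_⟩
  · rintro a b ⟨c, h1, h2⟩
    exact ⟨c ≫ c₁, by rw [Category.assoc, s1, h2], by rw [Category.assoc, s2, h1]⟩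
  · rintro a b d ⟨c, h1, h2⟩ ⟨c', h1', h2'⟩
    refine ⟨pullback.lift c c' (h2.trans h1'.symm) ≫ c₂, ?_, ?_⟩
    · rw [Category.assoc, t1, pullback.lift_fst_assoc, h1]
    · rw [Category.assoc, t2, pullback.lift_snd_assoc, h2']

end Groth.Agent.S13044
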