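import Groth.Statements.S13045
import Mathlib

set_option autoImplicit false
universe u
open FrobAlg

namespace Groth.Agent.S13045

open scoped TensorProduct

theorem injective_pi {R : Type u} [CommRing R] {M P : Type u} [AddCommGroup M] [Module R M]
    [Module.Projective R M] [AddCommGroup P] [Module R P] {κ : Type} (T : κ → Type u)
    [∀ k, AddCommGroup (T k)] [∀ k, Module R (T k)] (j : ∀ k, P →ₗ[R] T k)
    (hj : ∀ p, (∀ k, j k p = 0) → p = 0) (z : M ⊗[R] P)
    (hz : ∀ k, LinearMap.lTensor M (j k) z = 0) : z = 0 := by
  classical
  obtain ⟨s, hs⟩ := Module.projective_def.1 ‹Module.Projective R M›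
  have hinj : Function.Injective (LinearMap.rTensor P s) := fun x y hxy => by
    have := congrArg (LinearMap.rTensor P (Finsupp.linearCombination R id)) hxy
    rwa [← LinearMap.rTensor_comp_apply, ← LinearMap.rTensor_comp_apply,
      show (Finsupp.linearCombination R id) ∘ₗ s = LinearMap.id from LinearMap.ext hs,
      LinearMap.rTensor_id, LinearMap.id_apply, LinearMap.id_apply] at this
  apply hinj
  rw [map_zero]
  apply (TensorProduct.finsuppScalarLeft R P M).injective
  rw [map_zero]
  ext i
  refine hj _ fun k => ?_
  have nat : ∀ y : (M →₀ R) ⊗[R] P, j k (TensorProduct.finsuppScalarLeft R P M y i) =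
      TensorProduct.finsuppScalarLeft R (T k) M (LinearMap.lTensor (M →₀ R) (j k) y) i := by
    intro y
    induction y using TensorProduct.induction_on with
    | zero => simp
    | tmul f p => simp [TensorProduct.finsuppScalarLeft_apply_tmul_apply]
    | add x y hx hy => simp [map_add, hx, hy]
  rw [nat]
  have h1 : LinearMap.lTensor (M →₀ R) (j k) (LinearMap.rTensor P s z) =
      LinearMap.rTensor (T k) s (LinearMap.lTensor M (j k) z) := by
    rw [← LinearMap.comp_apply, LinearMap.lTensor_comp_rTensor, ← LinearMap.rTensor_comp_lTensor,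
      LinearMap.comp_apply]
  rw [h1, hz, map_zero, map_zero]
  rfl


open TensorProduct in
/-- Let p be a prime, R a commutative ring of characteristic p and A a commutative R-algebra of
characteristic p, with Frobenius twists A^{p^i/R} = R ⊗_{F^i,R} A, relative Frobenius maps F_i :
A^{p^{i+1}/R} → A^{p^i/R} and preperfection A^{p^∞/R} = lim_i A^{p^i/R} ⊆ Π_i A^{p^i/R}. For every
projective R-module M the natural map M ⊗_R A^{p^∞/R} → Π_i (M ⊗_R A^{p^i/R}), m ⊗ x ↦ (m ⊗ x_i)_i,
is injective; in particular the base change map M ⊗_R lim_i A^{p^i/R} → lim_i (M ⊗_R A^{p^i/R}) is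
injective. (The published statement is phrased for a projective R-algebra R′ in place of M; the
printed argument is the module statement given here.) -/
theorem result
    (p : ℕ) [Fact p.Prime] (R : Type u) [CommRing R] [CharP R p]
    (A : Type u) [CommRing A] [Algebra R A] [CharP A p]
    (M : Type u) [AddCommGroup M] [Module R M] [Module.Projective R M] :
    Function.Injective
      (LinearMap.pi fun i : ℕ =>
        LinearMap.lTensor M
          (((Pi.evalAlgHom R (fun k => W4c1imperftorsors.Twist p R A k) i).comp
            (W4c1imperftorsors.prePerf p R A).val).toLinearMap) :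
        M ⊗[R] ↥(W4c1imperftorsors.prePerf p R A) →ₗ[R] (Π i : ℕ, M ⊗[R] W4c1imperftorsors.Twist p R A i)) := by
  refine (injective_iff_map_eq_zero _).2 fun z hz =>
    injective_pi (fun i => W4c1imperftorsors.Twist p R A i) _ (fun x hx => ?_) z fun k => congrFun hz k
  exact Subtype.ext (funext hx)

end Groth.Agent.S13045
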