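import Groth.Statements.S13046
import Mathlib

set_option autoImplicit false
universe u
open FrobAlg

namespace Groth.Agent.S13046

open TensorProduct in
/-- Let p be a prime, R a commutative ring of characteristic p and A a commutative R-algebra of
characteristic p, with Frobenius twists A^{p^i/R} = R ⊗_{F^i,R} A, relative Frobenius maps F_i :
A^{p^{i+1}/R} → A^{p^i/R} and preperfection A^{p^∞/R} = lim_i A^{p^i/R} ⊆ Π_i A^{p^i/R}. For every
finitely generated projective R-module M, a sequence y ∈ Π_i (M ⊗_R A^{p^i/R}) lies in the image of
the natural map M ⊗_R A^{p^∞/R} → Π_i (M ⊗_R A^{p^i/R}), m ⊗ x ↦ (m ⊗ x_i)_i, if and only if (M ⊗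
F_i)(y_{i+1}) = y_i for all i: the image is exactly the module of compatible sequences. Together
with the injectivity of that map, which holds for every projective M, this says that the base change
map M ⊗_R lim_i A^{p^i/R} → lim_i (M ⊗_R A^{p^i/R}) is an isomorphism. (The published statement is
phrased for a finite locally free R-algebra R′ in place of M and identifies the target with the
preperfection of A ⊗_R R′ over R′; the printed argument is the module statement given here, and that
identification is not part of this row; the injectivity half is stated separately for all projective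
M.) -/
theorem result
    (p : ℕ) [Fact p.Prime] (R : Type u) [CommRing R] [CharP R p]
    (A : Type u) [CommRing A] [Algebra R A] [CharP A p]
    (M : Type u) [AddCommGroup M] [Module R M] [Module.Finite R M] [Module.Projective R M]
    (y : Π i : ℕ, M ⊗[R] W4c1imperftorsors.Twist p R A i) :
    y ∈ LinearMap.range
        (LinearMap.pi fun i : ℕ =>
        LinearMap.lTensor M
          (((Pi.evalAlgHom R (fun k => W4c1imperftorsors.Twist p R A k) i).comp
            (W4c1imperftorsors.prePerf p R A).val).toLinearMap) :
        M ⊗[R] ↥(W4c1imperftorsors.prePerf p R A) →ₗ[R] (Π i : ℕ, M ⊗[R] W4c1imperftorsors.Twist p R A i)) ↔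
      ∀ i : ℕ, LinearMap.lTensor M (W4c1imperftorsors.relFrob p R A i).toLinearMap (y (i + 1)) = y i := by
  classical
  let T : ℕ → Type u := fun i => W4c1imperftorsors.Twist p R A i
  let P := ↥(W4c1imperftorsors.prePerf p R A)
  let j : ∀ i, P →ₗ[R] T i := fun i => ((Pi.evalAlgHom R T i).comp
    (W4c1imperftorsors.prePerf p R A).val).toLinearMap
  let F : ∀ i, T (i + 1) →ₗ[R] T i := fun i => (W4c1imperftorsors.relFrob p R A i).toLinearMap
  have hmem : ∀ x : (Π i, T i), x ∈ W4c1imperftorsors.prePerf p R A ↔ ∀ i, F i (x (i + 1)) = x i :=
    fun x => Algebra.mem_iInf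
  constructor
  · rintro ⟨z, rfl⟩ i
    show LinearMap.lTensor M (F i) (LinearMap.lTensor M (j (i + 1)) z) = LinearMap.lTensor M (j i) z
    rw [← LinearMap.lTensor_comp_apply]
    congr 2
    ext x
    exact (hmem x.1).1 x.2 i
  · intro hy
    obtain ⟨n, f, g, hfg⟩ : ∃ (n : ℕ) (f : (Fin n → R) →ₗ[R] M) (g : M →ₗ[R] Fin n → R),
        f ∘ₗ g = LinearMap.id := by
      obtain ⟨n, f, hf⟩ := Module.Finite.exists_fin' R M
      obtain ⟨g, hg⟩ := Module.projective_lifting_property f LinearMap.id hf
      exact ⟨n, f, g, hg⟩
    let b : Fin n → (M →ₗ[R] R) := fun k => LinearMap.proj k ∘ₗ g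
    let c : Fin n → Π i, T i := fun k i => TensorProduct.lid R (T i) (LinearMap.rTensor (T i) (b k) (y i))
    have hc : ∀ k, c k ∈ W4c1imperftorsors.prePerf p R A := fun k => (hmem _).2 fun i => by
      have nat : ∀ z : M ⊗[R] T (i + 1), F i (TensorProduct.lid R _ (LinearMap.rTensor _ (b k) z)) =
          TensorProduct.lid R _ (LinearMap.rTensor _ (b k) (LinearMap.lTensor M (F i) z)) := by
        intro z
        induction z using TensorProduct.induction_on with
        | zero => simp
        | tmul m t => simp
        | add x y hx hy => simp [map_add, hx, hy]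
      show F i (c k (i + 1)) = c k i
      simp only [c]
      rw [nat]
      exact congrArg (fun w => TensorProduct.lid R _ (LinearMap.rTensor _ (b k) w)) (hy i)
    refine ⟨∑ k, f (Pi.single k 1) ⊗ₜ[R] (⟨c k, hc k⟩ : P), funext fun i => ?_⟩
    show LinearMap.lTensor M (j i) _ = y i
    rw [map_sum]
    have h0 : ∀ m : M, ∑ k, b k m • f (Pi.single k 1) = m := fun m => by
      have : g m = ∑ k, g m k • (Pi.single k (1 : R) : Fin n → R) := by
        ext l; simp [Finset.sum_apply, Pi.single_apply]
      calc ∑ k, b k m • f (Pi.single k 1) = f (g m) := by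
            conv_rhs => rw [this, map_sum]
            exact Finset.sum_congr rfl fun k _ => (map_smul f _ _).symm
        _ = m := LinearMap.congr_fun hfg m
    simp only [LinearMap.lTensor_tmul]
    show ∑ k, f (Pi.single k 1) ⊗ₜ[R] c k i = y i
    simp only [c]
    induction y i using TensorProduct.induction_on with
    | zero => simp
    | tmul m t =>
      simp only [LinearMap.rTensor_tmul, TensorProduct.lid_tmul, ← TensorProduct.smul_tmul,
        ← TensorProduct.sum_tmul, h0]
    | add x y hx hy => simp only [map_add, TensorProduct.tmul_add, Finset.sum_add_distrib, hx, hy]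

end Groth.Agent.S13046
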