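import Groth.Statements.S13047
import Mathlib

set_option autoImplicit false
universe u
open FrobAlg

namespace Groth.Agent.S13047

open Polynomial TensorProduct in
theorem core (p : ℕ) [Fact p.Prime] (hp : p ≠ 2) (R : Type u) [CommRing R] [CharP R p]
    (u v : R) (huv : u * v = 0)
    (hsep : ∀ N : ℕ, 1 ≤ N → ∀ g : R,
      (∀ n : ℕ, g ∈ Ideal.span {v ^ n} ⊔ Ideal.span {u ^ N}) → g ∈ Ideal.span {u ^ N})
    (B : Type u) [CommRing B] [Algebra R B] [CharP B p] (π : R[X] →ₐ[R] B)
    (hπ : Function.Surjective π)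
    (hker : RingHom.ker π = Ideal.span {(C u * X : R[X]), X ^ 2 - C (v ^ 2)}) :
    Function.Bijective (algebraMap R ↥(W4c1imperftorsors.prePerf p R B)) := by
  have hP : p.Prime := Fact.out
  obtain ⟨e, he⟩ := hP.odd_of_ne_two hp
  set α : B := π X with hα
  have hu0 : algebraMap R B u * α = 0 := by
    have : π (C u * X) = 0 := (RingHom.mem_ker).1 (hker ▸ Ideal.subset_span (Set.mem_insert _ _))
    rwa [map_mul, ← Polynomial.algebraMap_eq, AlgHom.commutes] at this
  have hsq : α ^ 2 = algebraMap R B (v ^ 2) := by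
    have : π (X ^ 2 - C (v ^ 2)) = 0 :=
      (RingHom.mem_ker).1 (hker ▸ Ideal.subset_span (Set.mem_insert_of_mem _ rfl))
    rwa [map_sub, map_pow, ← Polynomial.algebraMap_eq, AlgHom.commutes, sub_eq_zero] at this
  have hbasis : ∀ b : B, ∃ r s : R, b = algebraMap R B r + algebraMap R B s * α := by
    intro b
    obtain ⟨q, rfl⟩ := hπ b
    induction q using Polynomial.induction_on' with
    | add f g hf hg =>
      obtain ⟨r, s, hf⟩ := hf
      obtain ⟨r', s', hg⟩ := hg
      exact ⟨r + r', s + s', by rw [map_add, hf, hg, map_add, map_add]; ring⟩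
    | monomial n a =>
      rw [← Polynomial.C_mul_X_pow_eq_monomial, map_mul, map_pow, ← Polynomial.algebraMap_eq,
        AlgHom.commutes, ← hα]
      rcases Nat.even_or_odd' n with ⟨m, rfl | rfl⟩
      · exact ⟨a * (v ^ 2) ^ m, 0, by rw [pow_mul, hsq, map_mul, map_pow]; simp⟩
      · exact ⟨0, a * (v ^ 2) ^ m, by rw [pow_succ, pow_mul, hsq, map_mul, map_pow]; simp [mul_assoc]⟩
  -- the basis element of the `i`-th twist
  let E : ∀ i, W4c1imperftorsors.Twist p R B i := fun i =>
    (1 : R) ⊗ₜ[W4c1imperftorsors.Src p R i] ((W4c1imperftorsors.aEquiv p R B i).symm α)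
  have hpull : ∀ (i : ℕ) (t : R) (b : B),
      ((1 : R) ⊗ₜ[W4c1imperftorsors.Src p R i] (W4c1imperftorsors.aEquiv p R B i).symm (algebraMap R B t * b) :
        W4c1imperftorsors.Twist p R B i) =
      (t ^ p ^ i) • (1 : R) ⊗ₜ[W4c1imperftorsors.Src p R i] ((W4c1imperftorsors.aEquiv p R B i).symm b) := by
    intro i t b
    rw [map_mul]
    have h1 : (W4c1imperftorsors.aEquiv p R B i).symm (algebraMap R B t) =
        algebraMap (W4c1imperftorsors.Src p R i) (W4c1imperftorsors.ASrc p R B i)
          ((W4c1imperftorsors.srcEquiv p R i).symm t) := by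
      rw [W4c1imperftorsors.algebraMap_aSrc, RingEquiv.apply_symm_apply]
    rw [h1, ← Algebra.smul_def, ← TensorProduct.smul_tmul, Algebra.smul_def,
      W4c1imperftorsors.algebraMap_src, RingEquiv.apply_symm_apply, mul_one, TensorProduct.smul_tmul',
      smul_eq_mul, mul_one]
  have hspan : ∀ (i : ℕ) (z : W4c1imperftorsors.Twist p R B i),
      ∃ r s : R, z = r • 1 + s • E i := by
    intro i z
    induction z using TensorProduct.induction_on with
    | zero => exact ⟨0, 0, by simp⟩
    | add f g hf hg =>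
      obtain ⟨r, s, hf⟩ := hf
      obtain ⟨r', s', hg⟩ := hg
      exact ⟨r + r', s + s', by rw [hf, hg, add_smul, add_smul]; abel⟩
    | tmul c b =>
      obtain ⟨r, s, hrs⟩ := hbasis (W4c1imperftorsors.aEquiv p R B i b)
      refine ⟨c * r ^ p ^ i, c * s ^ p ^ i, ?_⟩
      have hb : b = (W4c1imperftorsors.aEquiv p R B i).symm (algebraMap R B r * 1) +
          (W4c1imperftorsors.aEquiv p R B i).symm (algebraMap R B s * α) := by
        rw [← map_add, mul_one, ← hrs, RingEquiv.symm_apply_apply]
      have hc : ∀ x : W4c1imperftorsors.ASrc p R B i,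
          (c ⊗ₜ[W4c1imperftorsors.Src p R i] x : W4c1imperftorsors.Twist p R B i) =
            c • ((1 : R) ⊗ₜ[W4c1imperftorsors.Src p R i] x) := fun x => by
        rw [TensorProduct.smul_tmul', smul_eq_mul, mul_one]
      rw [mul_smul, mul_smul, ← smul_add, hc, hb, TensorProduct.tmul_add, hpull, hpull, map_one,
        ← Algebra.TensorProduct.one_def]
  have hEzero : ∀ i, (u ^ p ^ i) • E i = 0 := fun i => by
    rw [← hpull, hu0, map_zero, TensorProduct.tmul_zero]
  -- the separating algebra
  have hsepi : ∀ (i : ℕ) (r s : R), r • (1 : W4c1imperftorsors.Twist p R B i) + s • E i = 0 →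
      r = 0 ∧ s ∈ Ideal.span {u ^ p ^ i} := by
    intro i r s h
    set q := p ^ i with hq
    have hq1 : 1 ≤ q := Nat.one_le_pow _ _ hP.pos
    let 𝔠 : Ideal R[X] := Ideal.span {(C (u ^ q) * X : R[X]), X ^ 2 - C (v ^ (2 * q))}
    let g₀ : R[X] →+* R[X] ⧸ 𝔠 :=
      eval₂RingHom ((algebraMap R (R[X] ⧸ 𝔠)).comp (iterateFrobenius R p i)) (Ideal.Quotient.mk 𝔠 X)
    have hg₀ : RingHom.ker π.toRingHom ≤ RingHom.ker g₀ := by
      show RingHom.ker π ≤ _
      rw [hker, Ideal.span_le]
      rintro z (rfl | rfl) <;>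
        simp only [SetLike.mem_coe, RingHom.mem_ker, g₀, coe_eval₂RingHom, eval₂_mul, eval₂_sub,
          eval₂_pow, eval₂_C, eval₂_X, RingHom.comp_apply, iterateFrobenius_def]
      · rw [IsScalarTower.algebraMap_apply R R[X] (R[X] ⧸ 𝔠), Ideal.Quotient.algebraMap_eq, ← map_mul,
          Ideal.Quotient.eq_zero_iff_mem]
        exact Ideal.subset_span (Set.mem_insert _ _)
      · rw [IsScalarTower.algebraMap_apply R R[X] (R[X] ⧸ 𝔠), Ideal.Quotient.algebraMap_eq, ← map_pow,
          ← map_sub, Ideal.Quotient.eq_zero_iff_mem, ← pow_mul]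
        exact Ideal.subset_span (Set.mem_insert_of_mem _ rfl)
    let g : B →+* R[X] ⧸ 𝔠 := RingHom.liftOfSurjective π.toRingHom hπ ⟨g₀, hg₀⟩
    have hg : ∀ z, g (π z) = g₀ z := fun z => RingHom.liftOfSurjective_comp_apply π.toRingHom hπ _ z
    letI algC : Algebra (W4c1imperftorsors.Src p R i) (R[X] ⧸ 𝔠) :=
      ((algebraMap R (R[X] ⧸ 𝔠)).comp (algebraMap (W4c1imperftorsors.Src p R i) R)).toAlgebra
    let left : R →ₐ[W4c1imperftorsors.Src p R i] R[X] ⧸ 𝔠 :=
      { algebraMap R (R[X] ⧸ 𝔠) with commutes' := fun _ => rfl }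
    let right : W4c1imperftorsors.ASrc p R B i →ₐ[W4c1imperftorsors.Src p R i] R[X] ⧸ 𝔠 :=
      { g.comp (W4c1imperftorsors.aEquiv p R B i : W4c1imperftorsors.ASrc p R B i →+* B) with
        commutes' := fun t => by
          show g (W4c1imperftorsors.aEquiv p R B i (algebraMap (W4c1imperftorsors.Src p R i) _ t)) =
            algebraMap R (R[X] ⧸ 𝔠) (algebraMap (W4c1imperftorsors.Src p R i) R t)
          rw [W4c1imperftorsors.algebraMap_aSrc, RingEquiv.apply_symm_apply, ← π.commutes, hg,
            W4c1imperftorsors.algebraMap_src, Polynomial.algebraMap_eq]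
          simp [g₀, iterateFrobenius_def] }
    let ψ := Algebra.TensorProduct.productMap left right
    have h1 := congrArg ψ h
    rw [Algebra.TensorProduct.one_def, map_add, map_zero, TensorProduct.smul_tmul', TensorProduct.smul_tmul'] at h1
    simp only [ψ, Algebra.TensorProduct.productMap_apply_tmul] at h1
    rw [smul_eq_mul, mul_one,
      smul_eq_mul, mul_one, map_one, mul_one] at h1
    have h2 : right ((W4c1imperftorsors.aEquiv p R B i).symm α) = Ideal.Quotient.mk 𝔠 X := by
      show g (W4c1imperftorsors.aEquiv p R B i ((W4c1imperftorsors.aEquiv p R B i).symm α)) = _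
      rw [RingEquiv.apply_symm_apply, hα, hg]
      simp [g₀]
    have hl : ∀ t, left t = Ideal.Quotient.mk 𝔠 (C t) := fun t => rfl
    rw [h2, hl, hl, ← map_mul, ← map_add, Ideal.Quotient.eq_zero_iff_mem, Ideal.mem_span_pair] at h1
    obtain ⟨a, b, hab⟩ := h1
    set w := v ^ (2 * q)
    have hm : (X ^ 2 - C w : R[X]).Monic := monic_X_pow_sub_C w two_ne_zero
    rcases subsingleton_or_nontrivial R with hR | hR
    · exact ⟨Subsingleton.elim _ _, by rw [Subsingleton.elim s 0]; exact zero_mem _⟩
    have hdeg : (X ^ 2 - C w : R[X]).degree = 2 := degree_X_pow_sub_C two_pos w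
    have hrem := degree_modByMonic_lt a hm
    rw [hdeg] at hrem
    set a₀ := a %ₘ (X ^ 2 - C w) with ha₀
    have hlin : a₀ = C (a₀.coeff 1) * X + C (a₀.coeff 0) := by
      refine eq_X_add_C_of_degree_le_one ?_
      rcases h' : a₀.degree with _ | d
      · exact bot_le
      · rw [h'] at hrem
        have : d < 2 := WithBot.coe_lt_coe.1 hrem
        exact WithBot.coe_le_coe.2 (show d ≤ 1 by omega)
    have huw : u ^ q * w = 0 := by
      obtain ⟨q', hq'⟩ := Nat.exists_eq_add_of_le hq1
      show u ^ q * v ^ (2 * q) = 0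
      rw [hq', show 2 * (1 + q') = 1 + (1 + 2 * q') by ring, pow_add, pow_add v 1]
      linear_combination u ^ q' * v ^ (1 + 2 * q') * huv
    have hdiv : (X ^ 2 - C w) ∣ (C r + C s * X - C (u ^ q * a₀.coeff 0) * X) := by
      refine ⟨b + C (u ^ q) * X * (a /ₘ (X ^ 2 - C w)) + C (u ^ q * a₀.coeff 1), ?_⟩
      have hdm := modByMonic_add_div a (X ^ 2 - C w)
      rw [← ha₀, hlin] at hdm
      have hz : C (u ^ q * a₀.coeff 1) * C w = (0 : R[X]) := by
        rw [← map_mul, mul_right_comm, huw, zero_mul, map_zero]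
      have hab' : a * (C (u ^ q) * X) + b * (X ^ 2 - C w) = C r + C s * X := hab
      rw [← hdm] at hab'
      simp only [map_mul] at hz ⊢
      linear_combination (-1 : R[X]) * hab' + hz
    have h0 : C r + C s * X - C (u ^ q * a₀.coeff 0) * X = (0 : R[X]) := by
      rw [show C r + C s * X - C (u ^ q * a₀.coeff 0) * X = C (s - u ^ q * a₀.coeff 0) * X + C r by
        rw [map_sub]; ring] at hdiv ⊢
      by_contra hne
      refine hm.not_dvd_of_degree_lt hne ?_ hdiv
      rw [hdeg]
      exact lt_of_le_of_lt degree_linear_le (by norm_num)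
    constructor
    · have := congrArg (fun z => coeff z 0) h0
      simpa using this
    · have := congrArg (fun z => coeff z 1) h0
      simp only [coeff_sub, coeff_add, coeff_C_ne_zero one_ne_zero, coeff_C_mul, coeff_X_one,
        mul_one, zero_add, coeff_zero] at this
      rw [sub_eq_zero.1 this]
      exact Ideal.mul_mem_right _ _ (Ideal.mem_span_singleton_self _)
  -- Frobenius on the basis
  have hF : ∀ i, W4c1imperftorsors.relFrob p R B i (E (i + 1)) = (v ^ (p ^ i * (2 * e))) • E i := by
    intro i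
    show W4c1imperftorsors.relFrobAux p R B i (E (i + 1)) = _
    simp only [E, W4c1imperftorsors.relFrobAux, Algebra.TensorProduct.lift_tmul, map_one, one_mul]
    show (1 : R) ⊗ₜ[W4c1imperftorsors.Src p R i] (W4c1imperftorsors.aEquiv p R B i).symm
      (frobenius B p (W4c1imperftorsors.aEquiv p R B (i + 1)
        ((W4c1imperftorsors.aEquiv p R B (i + 1)).symm α))) = _
    rw [RingEquiv.apply_symm_apply, frobenius_def]
    have : α ^ p = algebraMap R B (v ^ (2 * e)) * α := by
      rw [he, pow_succ, pow_mul, hsq, ← map_pow, ← pow_mul]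
    rw [this, hpull, ← pow_mul, mul_comm (2 * e)]
  refine ⟨(injective_iff_map_eq_zero _).2 fun r hr => ?_, fun x => ?_⟩
  · have h0 := congrFun (congrArg Subtype.val hr) 0
    have h1 : r • (1 : W4c1imperftorsors.Twist p R B 0) + (0 : R) • E 0 = 0 := by
      rw [zero_smul, add_zero, ← Algebra.algebraMap_eq_smul_one]
      exact h0
    exact (hsepi 0 r 0 h1).1
  · have hmem : ∀ i, W4c1imperftorsors.relFrob p R B i (x.1 (i + 1)) = x.1 i := by
      exact fun i => (Algebra.mem_iInf).1 x.2 i
    choose r s hrs using fun i => hspan i (x.1 i)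
    have hstep : ∀ i, r (i + 1) = r i ∧
        s (i + 1) * v ^ (p ^ i * (2 * e)) - s i ∈ Ideal.span {u ^ p ^ i} := by
      intro i
      have h := hmem i
      rw [hrs, hrs, map_add, map_smul, map_smul, map_one, hF, smul_smul] at h
      have h' : (r (i + 1) - r i) • (1 : W4c1imperftorsors.Twist p R B i) +
          (s (i + 1) * v ^ (p ^ i * (2 * e)) - s i) • E i = 0 := by
        rw [sub_smul, sub_smul, sub_add_sub_comm, h, sub_self]
      obtain ⟨h1, h2⟩ := hsepi i _ _ h'
      exact ⟨sub_eq_zero.1 h1, h2⟩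
    have hr : ∀ i, r i = r 0 := fun i => by
      induction i with
      | zero => rfl
      | succ i ih => rw [(hstep i).1, ih]
    have he1 : 1 ≤ e := by
      have := hP.two_le
      omega
    have hall : ∀ n i, s i ∈ Ideal.span {v ^ n} ⊔ Ideal.span {u ^ p ^ i} := by
      intro n
      induction n with
      | zero => intro i; simp
      | succ n ih =>
        intro i
        obtain ⟨a, ha, b, hb, hab⟩ := Submodule.mem_sup.1 (ih (i + 1))
        obtain ⟨a', rfl⟩ := Ideal.mem_span_singleton.1 ha
        obtain ⟨b', rfl⟩ := Ideal.mem_span_singleton.1 hb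
        obtain ⟨c, hc⟩ := Ideal.mem_span_singleton.1 (hstep i).2
        obtain ⟨k, hk⟩ := Nat.exists_eq_add_of_le
          (show 1 ≤ p ^ i * (2 * e) from Nat.mul_pos (pow_pos hP.pos i) (by omega))
        obtain ⟨l, hl⟩ := Nat.exists_eq_add_of_le
          (Nat.pow_le_pow_right hP.pos (Nat.le_succ i))
        refine Submodule.mem_sup.2 ⟨v ^ (n + 1) * (a' * v ^ k), Ideal.mem_span_singleton.2 ⟨_, rfl⟩,
          u ^ p ^ i * (u ^ l * b' * v ^ (1 + k) - c), Ideal.mem_span_singleton.2 ⟨_, rfl⟩, ?_⟩
        rw [← hab, hk] at hc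
        rw [show p ^ (i + 1) = p ^ i + l from hl, pow_add u (p ^ i) l] at hc
        linear_combination (exp := 1) hc
    have hs0 : ∀ i, s i • E i = 0 := fun i => by
      obtain ⟨c, hc⟩ := Ideal.mem_span_singleton.1
        (hsep (p ^ i) (Nat.one_le_pow _ _ hP.pos) (s i) fun n => hall n i)
      rw [hc, mul_comm, mul_smul, hEzero, smul_zero]
    refine ⟨r 0, Subtype.ext (funext fun i => ?_)⟩
    rw [hrs i, hs0, add_zero, hr i]
    exact Algebra.algebraMap_eq_smul_one (A := W4c1imperftorsors.Twist p R B i) (r 0)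

open Polynomial in
/-- Let p be an odd prime, R a commutative ring of characteristic p and u, v ∈ R with uv = 0, such that
for every N ≥ 1 an element of R lying in (v^n) + (u^N) for all n lies in (u^N) (v-adic separatedness
of R/(u^N)). Let B = R[α]/(uα, α² − v²), an R-algebra of characteristic p, with Frobenius twists
B^{p^i/R} = R ⊗_{F^i,R} B and preperfection B^{p^∞/R} = lim_i B^{p^i/R} along the relative Frobenius
maps. Then the structure map R → B^{p^∞/R} is bijective: the preperfection of B is R. (The published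
statement is for R = F_p[[u, v]]/(uv), where B arises as the preperfection of R[x, y, 1/(x − y)]/(xy
− u), so that the second preperfection of that algebra is R although the first is not perfect; the
printed computation uses only the hypotheses listed here, which that R satisfies.) -/
theorem result
    (p : ℕ) [Fact p.Prime] (hp : p ≠ 2) (R : Type u) [CommRing R] [CharP R p]
    (u v : R) (huv : u * v = 0)
    (hsep : ∀ N : ℕ, 1 ≤ N → ∀ g : R,
      (∀ n : ℕ, g ∈ Ideal.span {v ^ n} ⊔ Ideal.span {u ^ N}) → g ∈ Ideal.span {u ^ N})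
    [CharP (R[X] ⧸ Ideal.span {(C u * X : R[X]), X ^ 2 - C (v ^ 2)}) p] :
    Function.Bijective
      (algebraMap R ↥(W4c1imperftorsors.prePerf p R
        (R[X] ⧸ Ideal.span {(C u * X : R[X]), X ^ 2 - C (v ^ 2)}))) := by
  exact core p hp R u v huv hsep _ (Ideal.Quotient.mkₐ R _) Ideal.Quotient.mk_surjective
    Ideal.mk_ker

end Groth.Agent.S13047
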