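import Groth.Statements.S13048
import Mathlib.RingTheory.Filtration
import Mathlib.Algebra.CharP.Algebra
import Mathlib.Algebra.CharP.Lemmas
import Mathlib.RingTheory.Spectrum.Prime.Topology
import Mathlib.RingTheory.Nullstellensatz
import Mathlib.FieldTheory.IsAlgClosed.Basic
-- import your own Groth.Agent.* helpers here

set_option autoImplicit false
universe u
open FrobAlg

namespace Groth.Agent.S13048

/-- Let k be an algebraically closed field of characteristic p > 0 and let A be a reduced finitely
generated commutative k-algebra with connected spectrum (A ≠ 0 and 0, 1 are its only idempotents).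
If x ∈ A is a p^n-th power in A for every n ≥ 0, then x lies in the image of k; that is, ⋂_n A^{p^n}
= k. (The published statement is: for an artinian local ring R of characteristic p and a flat
R-algebra A of finite type, the maps A^ét → O(π₀(A)) → A^{p^∞/R} from the largest étale subalgebra
to the preperfection are isomorphisms. This row is the case R = k algebraically closed and A reduced
with connected spectrum, where A^ét = k and the preperfection is ⋂_n A^{p^n}; the printed proof
reduces to this case and its last step proves it.) -/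
theorem result
    (p : ℕ) [Fact p.Prime] (k : Type u) [Field k] [IsAlgClosed k] [CharP k p]
    (A : Type u) [CommRing A] [Algebra k A] [Algebra.FiniteType k A] [IsReduced A] [Nontrivial A]
    (hconn : ∀ e : A, IsIdempotentElem e → e = 0 ∨ e = 1)
    (x : A) (hx : ∀ n : ℕ, ∃ a : A, a ^ p ^ n = x) :
    x ∈ (algebraMap k A).range := by
  classical
  haveI : IsNoetherianRing A := Algebra.FiniteType.isNoetherianRing k A
  let ann : k → Ideal A := fun c => Submodule.annihilator (Ideal.span {x - algebraMap k A c})
  have hann : ∀ c r, r ∈ ann c ↔ r * (x - algebraMap k A c) = 0 := fun c r => by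
    simp [ann, Submodule.mem_annihilator_span_singleton]
  have hval : ∀ m : Ideal A, m.IsMaximal → ∃ c : k, x - algebraMap k A c ∈ m := by
    intro m hm
    letI := Ideal.Quotient.field m
    haveI : Module.Finite k (A ⧸ m) := finite_of_finite_type_of_isJacobsonRing k (A ⧸ m)
    obtain ⟨c, hc⟩ := (IsAlgClosed.algebraMap_bijective_of_isIntegral (k := k) (K := A ⧸ m)).2 (Ideal.Quotient.mk m x)
    refine ⟨c, Ideal.Quotient.eq.mp ?_⟩
    rw [← hc]; rfl
  have hnot : ∀ (m : Ideal A), m.IsMaximal → ∀ c : k, x - algebraMap k A c ∈ m → ¬ ann c ≤ m := by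
    intro m hm c hc hle
    have hpow : x - algebraMap k A c ∈ ⨅ i : ℕ, m ^ i • (⊤ : Submodule A A) := by
      rw [Submodule.mem_iInf]
      intro n
      rw [Ideal.smul_eq_mul, Ideal.mul_top]
      obtain ⟨a, ha⟩ := hx n
      obtain ⟨c', hc'⟩ := IsAlgClosed.exists_pow_nat_eq c (pow_pos (Fact.out (p := p.Prime)).pos n)
      haveI : CharP A p := charP_of_injective_algebraMap (algebraMap k A).injective p
      have he : (a - algebraMap k A c') ^ p ^ n = x - algebraMap k A c := by
        rw [sub_pow_char_pow, ha, ← map_pow, hc']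
      have hmem : a - algebraMap k A c' ∈ m := hm.isPrime.mem_of_pow_mem _ (he ▸ hc)
      rw [← he]
      exact Ideal.pow_le_pow_right (Nat.lt_pow_self (Fact.out (p := p.Prime)).one_lt).le (Ideal.pow_mem_pow hmem _)
    obtain ⟨⟨r, hr⟩, hrx⟩ := (Ideal.mem_iInf_smul_pow_eq_bot_iff m _).mp hpow
    have h1 : (1 - r) ∈ ann c := (hann c _).mpr (by rw [sub_mul, one_mul, sub_eq_zero]; exact hrx.symm)
    exact hm.ne_top ((Ideal.eq_top_iff_one _).mpr (by simpa using add_mem (hle h1) hr))
  obtain ⟨m₀, hm₀⟩ := Ideal.exists_maximal A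
  obtain ⟨c, hc⟩ := hval m₀ hm₀
  have heq : PrimeSpectrum.zeroLocus {x - algebraMap k A c} = (PrimeSpectrum.zeroLocus (ann c : Set A))ᶜ := by
    ext q
    constructor
    · intro hq hq'
      obtain ⟨m, hm, hqm⟩ := q.asIdeal.exists_le_maximal q.2.ne_top
      exact hnot m hm c (hqm (Set.singleton_subset_iff.mp hq)) ((SetLike.coe_subset_coe.mp hq').trans hqm)
    · intro hq
      obtain ⟨r, hr, hrq⟩ := Set.not_subset.mp hq
      refine Set.singleton_subset_iff.mpr ((q.2.mem_or_mem ?_).resolve_left hrq)
      rw [(hann c r).mp hr]; exact q.asIdeal.zero_mem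
  have hclopen : IsClopen (PrimeSpectrum.zeroLocus {x - algebraMap k A c}) :=
    ⟨PrimeSpectrum.isClosed_zeroLocus _, by rw [heq]; exact (PrimeSpectrum.isClosed_zeroLocus _).isOpen_compl⟩
  obtain ⟨e, he, hee⟩ := PrimeSpectrum.isClopen_iff.mp hclopen
  have hm₀mem : (⟨m₀, hm₀.isPrime⟩ : PrimeSpectrum A) ∈ PrimeSpectrum.zeroLocus {x - algebraMap k A c} :=
    Set.singleton_subset_iff.mpr hc
  rcases hconn e he with rfl | rfl
  · rw [hee] at hm₀mem; exact absurd (zero_mem _) hm₀mem
  have htop : ann c = ⊤ := by
    by_contra hne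
    obtain ⟨m, hm, hle⟩ := Ideal.exists_le_maximal _ hne
    have : (⟨m, hm.isPrime⟩ : PrimeSpectrum A) ∈ PrimeSpectrum.zeroLocus {x - algebraMap k A c} := by
      rw [hee]; exact fun h => hm.ne_top ((Ideal.eq_top_iff_one _).mpr h)
    exact hnot m hm c (Set.singleton_subset_iff.mp this) hle
  refine ⟨c, ?_⟩
  have := (hann c 1).mp (htop ▸ Submodule.mem_top)
  rw [one_mul, sub_eq_zero] at this
  exact this.symm

end Groth.Agent.S13048
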