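import Groth.Statements.S13049
import Mathlib


-- import your own Groth.Agent.* helpers here

set_option autoImplicit false
universe u
open FrobAlg

namespace Groth.Agent.S13049

/-- Let p be a prime and A a commutative ring of characteristic p whose nilradical N satisfies x^(p^e) =
0 for all x ∈ N and some fixed e (for instance A Noetherian). Then the map between the inverse-limit
perfections along the absolute Frobenius, lim (⋯ → A → A) → lim (⋯ → A/N → A/N), induced by the
projection A → A/N, is bijective. (The published argument takes A of finite type over a field, where
the nilradical is finitely generated; this row assumes only that the nilradical is killed by one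
fixed iterate of Frobenius, which is all that argument uses.) -/
theorem result
    (p : ℕ) [Fact p.Prime] (A : Type u) [CommRing A] [CharP A p]
    [CharP (A ⧸ nilradical A) p] (e : ℕ) (he : ∀ x ∈ nilradical A, x ^ p ^ e = 0) :
    Function.Bijective (Perfection.map p (Ideal.Quotient.mk (nilradical A))) := by
  have hq : ∀ a b : A, Ideal.Quotient.mk (nilradical A) a = Ideal.Quotient.mk (nilradical A) b → a ^ p ^ e = b ^ p ^ e := by
    intro a b h
    have := he _ (Ideal.Quotient.eq.1 h)
    rwa [sub_pow_char_pow, sub_eq_zero] at this
  have hit : ∀ (R : Type u) [CommRing R] [CharP R p] (z : Perfection R p) (n m : ℕ),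
      Perfection.coeff R p (n + m) z ^ p ^ m = Perfection.coeff R p n z := by
    intro R _ _ z n m
    induction m with
    | zero => simp
    | succ m ih => rw [pow_succ', pow_mul, ← Nat.add_assoc, Perfection.coeff_pow_p', ih]
  constructor
  · intro x y hxy
    refine Perfection.ext fun n => ?_
    rw [← hit A x n e, ← hit A y n e]
    refine hq _ _ ?_
    exact congrArg (Perfection.coeff (A ⧸ nilradical A) p (n + e)) hxy
  · intro x
    choose a ha using fun n => Ideal.Quotient.mk_surjective (I := nilradical A) (Perfection.coeff (A ⧸ nilradical A) p n x)
    refine ⟨⟨fun n => a (n + e) ^ p ^ e, fun n => ?_⟩, ?_⟩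
    · rw [← pow_mul, mul_comm, pow_mul, Nat.add_right_comm]
      refine hq _ _ ?_
      rw [map_pow, ha, ha, Perfection.coeff_pow_p']
    · refine Perfection.ext fun n => ?_
      change Ideal.Quotient.mk (nilradical A) (a (n + e) ^ p ^ e) = _
      rw [map_pow, ha, hit]

end Groth.Agent.S13049
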