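import Groth.Statements.S13052
import Groth.Agent.ZetaPtsLib.Part
import Groth.Agent.ZetaFormalLib.Basic

set_option autoImplicit false
set_option backward.isDefEq.respectTransparency false
set_option backward.isDefEq.respectTransparency.types false
universe u
open CategoryTheory AlgebraicGeometry
open Zeta

namespace Groth.Agent.S13052

/-- If X is a scheme of finite type over a finite field k, Y ↪ X a closed subscheme and U = X ∖ Y its
open complement, then Z(X, t) = Z(Y, t) · Z(U, t). Here Y is any scheme with a closed immersion into
X whose image is the complement of U (its scheme structure plays no role), and Y, U are k-schemes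
through X. -/
theorem result {k : Type u} [Field k] [Finite k]
    {X Y : Scheme.{u}} (f : X ⟶ Spec (CommRingCat.of k)) [LocallyOfFiniteType f] [QuasiCompact f]
    (U : X.Opens) (i : Y ⟶ X) [IsClosedImmersion i] (hY : Set.range i.base = (U : Set X)ᶜ) :
    Zeta.zetaFun f = Zeta.zetaFun (i ≫ f) * Zeta.zetaFun (U.ι ≫ f) := by
  let Z : Bool → Scheme.{u} := fun b => bif b then Y else (U : Scheme.{u})
  let g : ∀ b, Z b ⟶ X := fun b => match b with
    | true => i
    | false => U.ι
  haveI : ∀ b, IsImmersion (g b) := fun b => by cases b <;> simp only [g] <;> infer_instance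
  have hpart : ∀ x : X, IsClosed ({x} : Set X) → ∃! b, x ∈ Set.range (g b).base := by
    intro x _
    by_cases hx : x ∈ (U : Set X)
    · refine ⟨false, ?_, fun b hb => ?_⟩
      · show x ∈ Set.range U.ι.base
        exact U.range_ι.ge hx
      · cases b
        · rfl
        · exact absurd hx (hY.le hb)
    · refine ⟨true, hY.ge hx, fun b hb => ?_⟩
      cases b
      · exact absurd (U.range_ι.le hb) hx
      · rfl
  rw [ZetaFormalLib.zetaFun_eq_prod f (Finset.univ : Finset Bool) (fun b => g b ≫ f)
    (fun m _ => ZetaPtsLib.nPts_partition f g hpart m), Fintype.prod_bool]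

end Groth.Agent.S13052
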