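import Groth.Statements.S13053
import Groth.Agent.ZetaPtsLib.Pn
import Groth.Agent.ZetaFormalLib.Basic

set_option autoImplicit false
set_option backward.isDefEq.respectTransparency false
set_option backward.isDefEq.respectTransparency.types false
universe u
open CategoryTheory AlgebraicGeometry
open Zeta

namespace Groth.Agent.S13053

/-- For a finite field k with q elements, Z(P^n_k, t) = 1 / ((1 − t)(1 − qt) ⋯ (1 − q^n t)); stated as
Z(P^n_k, t) · ∏_{i = 0}^{n} (1 − q^i t) = 1 in ℚ⟦t⟧. -/
theorem result (k : Type u) [Field k] [Finite k] (n : ℕ) :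
    Zeta.zetaFun (CohB1.ProjSpace.toSpec n k) *
        ∏ i ∈ Finset.range (n + 1), (1 - PowerSeries.C ((Nat.card k : ℚ) ^ i) * PowerSeries.X) = 1 := by
  have h := ZetaFormalLib.zetaFun_of_count (CohB1.ProjSpace.toSpec n k) (Finset.range (n + 1))
    (fun i => (Nat.card k : ℚ) ^ i) (fun _ => 1) (fun _ => 0) (fun m hm => by
      rw [ZetaPtsLib.nPts_projSpace n k hm]
      push_cast
      refine Finset.sum_congr rfl fun i _ => ?_
      rw [pow_mul]
      ring)
  simpa using h

end Groth.Agent.S13053
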