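import Groth.Statements.S13054
import Groth.Agent.ZetaPtsLib.Basic
import Groth.Agent.ZetaPtsLib.Ext
import Groth.Agent.ZetaFormalLib.RootsUnity

set_option autoImplicit false
set_option backward.isDefEq.respectTransparency false
set_option backward.isDefEq.respectTransparency.types false
universe u
open CategoryTheory AlgebraicGeometry Limits
open Zeta

namespace Groth.Agent.S13054

/-- Let X be a scheme of finite type over a finite field k, k'/k a finite extension of degree r and X' =
X ×_{Spec k} Spec k', a k'-scheme. Then Z(X', t^r) = ∏_{i = 1}^{r} Z(X, ξ^i t) for ξ a primitive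
r-th root of unity; stated in ℂ⟦t⟧ with the product over the exponents 0, …, r − 1. (Reducedness of
X plays no role.) -/
theorem result {k : Type u} [Field k] [Finite k]
    {X : Scheme.{u}} (f : X ⟶ Spec (CommRingCat.of k)) [LocallyOfFiniteType f] [QuasiCompact f]
    (k' : Type u) [Field k'] [Algebra k k'] [Finite k'] (ξ : ℂ)
    (hξ : IsPrimitiveRoot ξ (Module.finrank k k')) :
    PowerSeries.subst ((PowerSeries.X : PowerSeries ℂ) ^ Module.finrank k k')
        (PowerSeries.map (algebraMap ℚ ℂ) (Zeta.zetaFun
          (pullback.snd f (Spec.map (CommRingCat.ofHom (algebraMap k k')))))) =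
      ∏ i ∈ Finset.range (Module.finrank k k'),
        PowerSeries.rescale (ξ ^ i) (PowerSeries.map (algebraMap ℚ ℂ) (Zeta.zetaFun f)) := by
  haveI : Module.Finite k k' := Module.Finite.of_finite
  refine ZetaFormalLib.zetaFun_expand f _ Module.finrank_pos.ne' (fun m hm => ?_) ξ hξ
  obtain ⟨K, _, _, _, hK⟩ := ZetaPtsLib.exists_ext k' hm
  letI : Algebra k K := ((algebraMap k' K).comp (algebraMap k k')).toAlgebra
  haveI : IsScalarTower k k' K := IsScalarTower.of_algebraMap_eq fun _ => rfl
  rw [← hK, Module.finrank_mul_finrank k k' K, ← ZetaPtsLib.pointCount_eq, ← ZetaPtsLib.pointCount_eq,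
    SgaExt.pointCount, SgaExt.pointCount]
  have hw : Spec.map (CommRingCat.ofHom (algebraMap k' K)) ≫ Spec.map (CommRingCat.ofHom (algebraMap k k')) =
      Spec.map (CommRingCat.ofHom (algebraMap k K)) := by
    rw [← Spec.map_comp, ← CommRingCat.ofHom_comp]
    rfl
  exact Nat.card_congr
    { toFun := fun g => ⟨g.1 ≫ pullback.fst _ _, by rw [Category.assoc, pullback.condition, ← Category.assoc, g.2, hw]⟩
      invFun := fun h => ⟨pullback.lift h.1 (Spec.map (CommRingCat.ofHom (algebraMap k' K))) (h.2.trans hw.symm),
        pullback.lift_snd _ _ _⟩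
      left_inv := fun g => Subtype.ext (pullback.hom_ext (pullback.lift_fst _ _ _)
        ((pullback.lift_snd _ _ _).trans g.2.symm))
      right_inv := fun h => Subtype.ext (pullback.lift_fst _ _ _) }

end Groth.Agent.S13054
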