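import Groth.Statements.S13055
import Groth.Agent.ZetaFormalLib.Basic
import Mathlib.Algebra.Polynomial.Eval.Degree

set_option autoImplicit false
set_option backward.isDefEq.respectTransparency false
set_option backward.isDefEq.respectTransparency.types false
universe u
open CategoryTheory AlgebraicGeometry
open Zeta

namespace Groth.Agent.S13055

/-- Let X be a scheme of finite type over a finite field k with q elements and P = a_d y^d + ⋯ + a_0 ∈
ℤ[y] with N_m = P(q^m) for every m ≥ 1 (X is of polynomial count). Then Z(X, t) = ∏_{i = 0}^{d} (1 −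
q^i t)^{−a_i}; stated cleared of denominators, with the factors of positive exponent moved to the
left. -/
theorem result {k : Type u} [Field k] [Finite k] {X : Scheme.{u}}
    (f : X ⟶ Spec (CommRingCat.of k)) [LocallyOfFiniteType f] [QuasiCompact f] (P : Polynomial ℤ)
    (hP : ∀ m : ℕ, 1 ≤ m → (Zeta.nPts f m : ℤ) = P.eval ((Nat.card k : ℤ) ^ m)) :
    Zeta.zetaFun f * ∏ i ∈ Finset.range (P.natDegree + 1),
        (1 - PowerSeries.C ((Nat.card k : ℚ) ^ i) * PowerSeries.X) ^ (P.coeff i).toNat =
      ∏ i ∈ Finset.range (P.natDegree + 1),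
        (1 - PowerSeries.C ((Nat.card k : ℚ) ^ i) * PowerSeries.X) ^ (-P.coeff i).toNat := by
  refine ZetaFormalLib.zetaFun_of_count f _ (fun i => (Nat.card k : ℚ) ^ i) _ _ fun m hm => ?_
  have h := congrArg (fun z : ℤ => (z : ℚ)) (hP m (Nat.pos_of_ne_zero hm))
  simp only [Int.cast_natCast] at h
  rw [h, Polynomial.eval_eq_sum_range]
  push_cast
  refine Finset.sum_congr rfl fun i _ => ?_
  have h2 : (((P.coeff i).toNat : ℕ) : ℤ) - ((-P.coeff i).toNat : ℕ) = P.coeff i := by omega
  rw [show ((P.coeff i : ℤ) : ℚ) = (((P.coeff i).toNat : ℕ) : ℚ) - ((-P.coeff i).toNat : ℕ) by exact_mod_cast h2.symm,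
    ← pow_mul, ← pow_mul, mul_comm m i]

end Groth.Agent.S13055
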