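import Groth.Statements.S18154
import Mathlib.RingTheory.Derivation.Lie
import Mathlib.LinearAlgebra.Matrix.Determinant.Basic
import Mathlib.RingTheory.Kaehler.Basic
import Mathlib.Data.Nat.Choose.Sum
import Mathlib.Data.Nat.Choose.Dvd

set_option autoImplicit false
universe u v
open FrobAlg

namespace Groth.Agent.S18154

open Matrix

set_option maxHeartbeats 400000

variable {k A : Type*} [CommRing k] [CommRing A] [Algebra k A]

theorem derivation_prod {ι : Type*} [DecidableEq ι] (D : Derivation k A A) (s : Finset ι) (f : ι → A) :
    D (∏ i ∈ s, f i) = ∑ i ∈ s, (∏ j ∈ s.erase i, f j) * D (f i) := by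
  induction s using Finset.induction_on with
  | empty => simp
  | insert a s ha ih =>
    rw [Finset.prod_insert ha, Derivation.leibniz, ih, Finset.sum_insert ha, Finset.erase_insert ha,
      smul_eq_mul, smul_eq_mul, Finset.mul_sum, add_comm]
    refine congrArg₂ (· + ·) rfl (Finset.sum_congr rfl fun i hi => ?_)
    rw [Finset.erase_insert_of_ne (fun h : a = i => ha (h ▸ hi)),
      Finset.prod_insert (fun h => ha (Finset.mem_of_mem_erase h)), mul_assoc]

theorem derivation_det {m : Type*} [Fintype m] [DecidableEq m] (D : Derivation k A A) (M : Matrix m m A) :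
    D M.det = ∑ r, (M.updateRow r fun l => D (M r l)).det := by
  simp only [Matrix.det_apply, Units.smul_def, map_sum, Derivation.map_smul_of_tower, map_zsmul]
  rw [Finset.sum_comm]
  refine Finset.sum_congr rfl fun σ _ => ?_
  rw [← Finset.smul_sum, derivation_prod]
  refine congrArg (((Equiv.Perm.sign σ : ℤˣ) : ℤ) • ·) ((Fintype.sum_equiv σ _ _ fun i => ?_))
  rw [← Finset.mul_prod_erase Finset.univ _ (Finset.mem_univ i), updateRow_self, mul_comm]
  refine congrArg (D (M (σ i) i) * ·) (Finset.prod_congr rfl fun j hj => ?_)
  rw [updateRow_ne (fun h => Finset.ne_of_mem_erase hj (σ.injective h))]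

theorem det_updateRow_sum_single {m : Type*} [Fintype m] [DecidableEq m] (M : Matrix m m A) (i : m) (v : m → A) :
    (M.updateRow i v).det = ∑ j, v j * (M.updateRow i (Pi.single j 1)).det := by
  conv_lhs => rw [show v = ∑ j, v j • (Pi.single j (1 : A) : m → A) by ext l; simp [Pi.single_apply]]
  exact ((detRowAlternating (R := A) (n := m)).toMultilinearMap.map_update_sum _ i _ M).trans
    (Finset.sum_congr rfl fun j _ => ((detRowAlternating (R := A) (n := m)).toMultilinearMap.map_update_smul M i _ _).trans rfl)

/-- The cofactor rows of a matrix with closed rows are divergence free. -/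
theorem sum_cofactor_eq_zero {m : Type*} [Fintype m] [DecidableEq m] [LinearOrder m] (δ : m → Derivation k A A)
    (M : Matrix m m A) (i : m) (hM : ∀ r j l, r ≠ i → δ j (M r l) = δ l (M r j)) :
    ∑ j, δ j (M.updateRow i (Pi.single j 1)).det = 0 := by
  simp only [derivation_det]
  rw [Finset.sum_comm]
  refine Finset.sum_eq_zero fun r _ => ?_
  by_cases hr : r = i
  · subst hr
    refine Finset.sum_eq_zero fun j _ => det_eq_zero_of_row_eq_zero r fun l => ?_
    rw [updateRow_self, updateRow_self, Pi.single_apply]
    split_ifs <;> simp
  · let d : m → m → A := fun j l => ((M.updateRow i (Pi.single j 1)).updateRow r (Pi.single l 1)).det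
    have hexp : ∀ j, ((M.updateRow i (Pi.single j 1)).updateRow r fun l => δ j (M.updateRow i (Pi.single j 1) r l)).det =
        ∑ l, δ j (M r l) * d j l := fun j => by
      rw [det_updateRow_sum_single]
      exact Finset.sum_congr rfl fun l _ => by rw [updateRow_ne hr]
    simp only [hexp]
    rw [← Fintype.sum_prod_type']
    have hd : ∀ j l, d l j = - d j l := fun j l => by
      have hne : i ≠ r := fun h => hr h.symm
      have h := det_permute (Equiv.swap i r) ((M.updateRow i (Pi.single j 1)).updateRow r (Pi.single l 1))
      rw [Equiv.Perm.sign_swap hne] at h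
      simp only [Units.val_neg, Units.val_one, Int.cast_neg, Int.cast_one, neg_mul, one_mul] at h
      rw [← h]
      refine congrArg det ?_
      ext a c
      rw [submatrix_apply, id_eq]
      rcases eq_or_ne a i with rfl | hai
      · rw [Equiv.swap_apply_left]; simp [updateRow_apply, hne, hr]
      rcases eq_or_ne a r with rfl | har
      · rw [Equiv.swap_apply_right]; simp [updateRow_apply, hne, hr]
      rw [Equiv.swap_apply_of_ne_of_ne hai har]; simp [updateRow_apply, hai, har]
    refine Finset.sum_involution (fun x _ => (x.2, x.1)) ?_ ?_ (fun _ _ => Finset.mem_univ _) (fun _ _ => rfl)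
    · rintro ⟨j, l⟩ _
      rw [hd j l, hM r l j hr]
      ring
    · rintro ⟨j, l⟩ _ hne h
      have : l = j := congrArg Prod.fst h
      subst this
      refine hne (mul_eq_zero_of_right _ (det_zero_of_row_eq hr ?_))
      ext c
      simp [updateRow_apply, Ne.symm hr]

theorem iterate_leibniz (D : Derivation k A A) (a b : A) : ∀ m : ℕ,
    D^[m] (a * b) = ∑ i ∈ Finset.range (m + 1), (m.choose i : A) * (D^[i] a * D^[m - i] b) := by
  intro m
  induction m with
  | zero => simp
  | succ m ih =>
    have h := Finset.sum_choose_succ_mul (R := A) (fun i j => D^[i] a * D^[j] b) m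
    rw [h, Function.iterate_succ_apply', ih, map_sum, ← Finset.sum_add_distrib]
    refine Finset.sum_congr rfl fun i hi => ?_
    have hi : i ≤ m := Nat.lt_succ_iff.mp (Finset.mem_range.mp hi)
    simp only [Derivation.leibniz, Derivation.map_natCast, smul_eq_mul, mul_zero, add_zero, Nat.succ_sub hi,
      Function.iterate_succ_apply']
    ring

theorem iterate_zero_apply' (D : Derivation k A A) : ∀ m : ℕ, D^[m] 0 = 0 := fun m =>
  Function.iterate_fixed (map_zero D) m

section basis

variable {n : ℕ} (t : Fin n → A) (b : Module.Basis (Fin n) A (KaehlerDifferential k A))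

/-- The dual derivations. -/
noncomputable def pd (j : Fin n) : Derivation k A A := (b.coord j).compDer (KaehlerDifferential.D k A)

variable (hb : ∀ i, b i = KaehlerDifferential.D k A (t i))
include hb

theorem pd_t (i j : Fin n) : pd b j (t i) = if i = j then 1 else 0 := by
  change b.coord j (KaehlerDifferential.D k A (t i)) = _
  rw [← hb, Module.Basis.coord_apply, Module.Basis.repr_self, Finsupp.single_apply]

theorem derivation_ext (D : Derivation k A A) (h : ∀ i, D (t i) = 0) (a : A) : D a = 0 := by
  have : D.liftKaehlerDifferential = 0 := b.ext fun i => by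
    rw [hb, Derivation.liftKaehlerDifferential_comp_D, h]; rfl
  rw [← D.liftKaehlerDifferential_comp_D a, this]; rfl

theorem pd_comm (i j : Fin n) (a : A) : pd b i (pd b j a) = pd b j (pd b i a) := by
  have h := derivation_ext t b hb ⁅pd b i, pd b j⁆ (fun l => by
    rw [Derivation.commutator_apply, pd_t t b hb, pd_t t b hb]
    split_ifs <;> simp) a
  rwa [Derivation.commutator_apply, sub_eq_zero] at h

theorem pd_iterate_p (p : ℕ) [Fact p.Prime] [CharP A p] (j : Fin n) (a : A) : (pd b j)^[p] a = 0 := by
  let E : Derivation k A A := Derivation.mk' ((pd b j : A →ₗ[k] A) ^ p) (fun x y => by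
    rw [Module.End.pow_apply, Module.End.pow_apply, Module.End.pow_apply]
    change (pd b j)^[p] (x * y) = x • (pd b j)^[p] y + y • (pd b j)^[p] x
    rw [iterate_leibniz, Finset.sum_range_succ, Finset.sum_eq_single_of_mem 0 (by simp [(Fact.out : p.Prime).pos])
      (fun i hi h0 => by
        rw [(CharP.cast_eq_zero_iff A p _).mpr ((Fact.out : p.Prime).dvd_choose_self h0 (Finset.mem_range.mp hi)), zero_mul])]
    simp [mul_comm])
  have hE : ∀ z, E z = (pd b j)^[p] z := fun z => Module.End.pow_apply _ _ _
  rw [← hE]
  refine derivation_ext t b hb E (fun l => ?_) a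
  obtain ⟨q, hq⟩ : ∃ q, p = q + 2 := ⟨p - 2, by have := (Fact.out : p.Prime).two_le; omega⟩
  rw [hE, hq, Function.iterate_add_apply]
  refine (congrArg _ ?_).trans (iterate_zero_apply' _ q)
  change pd b j (pd b j (t l)) = 0
  rw [pd_t t b hb]
  split_ifs <;> simp

omit hb in
/-- The product of the (p-1)-st powers of the dual derivations. -/
noncomputable def top (p : ℕ) : List (Fin n) → A →+ A
  | [] => AddMonoidHom.id A
  | j :: l => AddMonoidHom.mk' (fun a => (pd b j)^[p - 1] (top p l a)) fun x y => by
      rw [map_add, iterate_map_add]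

theorem pd_top (p : ℕ) (j : Fin n) : ∀ (l : List (Fin n)) (a : A), pd b j (top b p l a) = top b p l (pd b j a)
  | [], _ => rfl
  | i :: l, a => by
    change pd b j ((pd b i)^[p - 1] (top b p l a)) = (pd b i)^[p - 1] (top b p l (pd b j a))
    rw [← pd_top p j l a]
    exact (Function.Commute.iterate_left (fun x => pd_comm t b hb i j x) (p - 1) _).symm

theorem top_pd (p : ℕ) [Fact p.Prime] [CharP A p] (j : Fin n) :
    ∀ (l : List (Fin n)), j ∈ l → ∀ a : A, top b p l (pd b j a) = 0
  | [], h, _ => absurd h (List.not_mem_nil)
  | i :: l, h, a => by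
    change (pd b i)^[p - 1] (top b p l (pd b j a)) = 0
    by_cases hij : j = i
    · subst hij
      rw [← pd_top t b hb p j l a, ← Function.iterate_succ_apply, Nat.succ_eq_add_one,
        Nat.sub_add_cancel (Fact.out : p.Prime).one_le, pd_iterate_p t b hb p]
    · rw [top_pd p j l ((List.mem_cons.mp h).resolve_left hij) a, iterate_zero_apply']

theorem iterate_pow (j : Fin n) (c : A) (hc : pd b j c = 0) (q : ℕ) : ∀ m : ℕ,
    (pd b j)^[m] (c * t j ^ q) = (q.descFactorial m : A) * (c * t j ^ (q - m))
  | 0 => by simp
  | m + 1 => by
    rw [Function.iterate_succ_apply', iterate_pow j c hc q m]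
    simp only [Derivation.leibniz, Derivation.leibniz_pow, Derivation.map_natCast, hc, pd_t t b hb, smul_eq_mul,
      nsmul_eq_mul, Nat.descFactorial_succ, if_pos, Nat.cast_mul, mul_zero, add_zero, Nat.sub_sub]
    ring

theorem top_prod (p : ℕ) : ∀ (l : List (Fin n)), l.Nodup → ∀ c : A, (∀ i ∈ l, pd b i c = 0) →
    top b p l (c * (l.map fun i => t i ^ (p - 1)).prod) = ((p - 1).factorial : A) ^ l.length * c
  | [], _, c, _ => by
    change c * (List.map _ []).prod = _
    simp
  | j :: l, hl, c, hc => by
    change (pd b j)^[p - 1] (top b p l (c * ((t j ^ (p - 1)) * (l.map fun i => t i ^ (p - 1)).prod))) = _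
    rw [← mul_assoc, top_prod p l hl.of_cons (c * t j ^ (p - 1)) (fun i hi => ?_), ← mul_assoc,
      iterate_pow t b hb j _ ?_, Nat.descFactorial_self, Nat.sub_self, pow_zero, mul_one, List.length_cons, pow_succ]
    · ring
    · simp [Derivation.leibniz, Derivation.leibniz_pow, hc j List.mem_cons_self]
    · rw [Derivation.leibniz, Derivation.leibniz_pow, pd_t t b hb, hc i (List.mem_cons_of_mem _ hi),
        if_neg (fun h => (List.nodup_cons.mp hl).1 (by rw [h]; exact hi))]
      simp

theorem det_ne_zero (p : ℕ) [Fact p.Prime] [CharP A p] [IsDomain A] (f : Fin n → A) :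
    (Matrix.of fun i j : Fin n => (if i = j then t i ^ (p - 1) else 0) + pd b j (f i)).det ≠ 0 := by
  let l := (Finset.univ : Finset (Fin n)).toList
  let M : Finset (Fin n) → Matrix (Fin n) (Fin n) A := fun S => Matrix.of fun i j =>
    (if i = j then t i ^ (p - 1) else 0) + if i ∈ S then pd b j (f i) else 0
  have hval : ∀ S, top b p l (M S).det = top b p l (M ∅).det := fun S => by
    induction S using Finset.induction_on with
    | empty => rfl
    | insert a S ha ih =>
      rw [← ih]
      have hMa : M (insert a S) = (M S).updateRow a ((M S a) + fun j => pd b j (f a)) := by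
        ext i j
        rcases eq_or_ne i a with rfl | hia
        · simp [M, ha]
        · simp [M, hia]
      have hzero : top b p l ((M S).updateRow a fun j => pd b j (f a)).det = 0 := by
        rw [det_updateRow_sum_single]
        have hP := sum_cofactor_eq_zero (fun j => pd b j) (M S) a (fun r j c _ => by
          simp only [M, of_apply, map_add]
          refine congrArg₂ (· + ·) ?_ ?_
          · by_cases hrc : r = c <;> by_cases hrj : r = j
            · subst hrc; subst hrj; rfl
            all_goals simp_all [Derivation.leibniz_pow, pd_t t b hb]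
          · by_cases hr : r ∈ S
            · simp only [hr, if_true]; exact pd_comm t b hb j c (f r)
            · simp [hr])
        have : ∑ j, pd b j (f a) * ((M S).updateRow a (Pi.single j 1)).det =
            ∑ j, pd b j (f a * ((M S).updateRow a (Pi.single j 1)).det) := by
          simp only [Derivation.leibniz, smul_eq_mul, Finset.sum_add_distrib, ← Finset.mul_sum, hP, mul_zero, zero_add]
          exact Finset.sum_congr rfl fun j _ => mul_comm _ _
        rw [this, map_sum]
        exact Finset.sum_eq_zero fun j _ => top_pd t b hb p j l (Finset.mem_toList.mpr (Finset.mem_univ j)) _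
      rw [hMa, det_updateRow_add, updateRow_eq_self, map_add, hzero, add_zero]
  intro h
  have h1 := hval Finset.univ
  rw [show M Finset.univ = Matrix.of fun i j : Fin n => (if i = j then t i ^ (p - 1) else 0) + pd b j (f i) by
      ext i j; simp [M], h, map_zero, show (M ∅) = Matrix.diagonal fun i => t i ^ (p - 1) by
      ext i j; simp [M, diagonal_apply], det_diagonal, ← Finset.prod_map_toList, ← one_mul (List.prod _),
    top_prod t b hb p l (Finset.nodup_toList _) 1 (fun i _ => Derivation.map_one_eq_zero _), mul_one] at h1
  refine pow_ne_zero _ (fun hf => ?_) h1.symm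
  have := ((Fact.out : p.Prime).dvd_factorial).mp ((CharP.cast_eq_zero_iff A p _).mp hf)
  have := (Fact.out : p.Prime).pos
  omega

end basis

/-- Let k be an algebraically closed field of characteristic p, A a smooth k-algebra that is an integral
domain, and t_1, …, t_n ∈ A such that dt_1, …, dt_n is a basis of the module of Kähler differentials
Ω_{A/k}. Let (B, ι, π, Φ) be a flat lifting of A over W_2(k) together with a lift Φ of Frobenius,
T_i ∈ B lifts of the t_i, and F_i ∈ B with Φ(T_i) = T_i^p + p·F_i; put f_i = π(F_i) ∈ A. Then the n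
× n matrix over A with entries δ_{ij} t_i^{p-1} + ∂f_i/∂t_j, the partial derivatives being the
coordinates of df_i in the basis dt_j, has nonzero determinant. This is the matrix of the A-linear
map F_A^*Ω_{A/k} → Ω_{A/k} obtained from dΦ after dividing by p, which is therefore generically
bijective. (The source states generic bijectivity for a smooth variety and reduces it to this
determinant on an affine open with étale coordinates.) -/
theorem result
    (p : ℕ) [Fact p.Prime] (k : Type u) [Field k] [IsAlgClosed k] [CharP k p]
    (A : Type v) [CommRing A] [IsDomain A] [Algebra k A] [Algebra.Smooth k A]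
    {n : ℕ} (t : Fin n → A) (b : Module.Basis (Fin n) A (KaehlerDifferential k A))
    (hb : ∀ i, b i = KaehlerDifferential.D k A (t i))
    (B : Type v) [CommRing B] (ι : FrobAlg.W2 p k →+* B) (π : B →+* A) (Φ : B →+* B)
    (hΦ : FrobAlg.IsFrobLift p k A B ι π Φ)
    (T F : Fin n → B) (hT : ∀ i, π (T i) = t i) (hF : ∀ i, Φ (T i) = T i ^ p + (p : B) * F i) :
    (Matrix.of fun i j : Fin n =>
        (if i = j then t i ^ (p - 1) else 0) +
          b.coord j (KaehlerDifferential.D k A (π (F i)))).det ≠ 0 := by
  haveI : CharP A p := charP_of_injective_algebraMap (algebraMap k A).injective p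
  exact det_ne_zero t b hb p fun i => π (F i)

end Groth.Agent.S18154
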