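import Groth.Statements.S13056
import Groth.Agent.S18154
import Mathlib


-- import your own Groth.Agent.* helpers here

set_option autoImplicit false
universe u v
open Zeta

namespace Groth.Agent.S13056

/-- For an endomorphism φ of a finite-dimensional vector space over a field K, det(Id − tφ) = exp(−∑_{m
≥ 1} tr(φ^m) t^m / m) as power series in t. Stated for a square matrix M, with det(1 − tM) Mathlib's
reversed characteristic polynomial, and over a field of characteristic zero (the exponential series
needs ℚ ⊆ K; this is the case in which the identity is used). -/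
theorem result {K : Type u} [Field K] [CharZero K]
    {n : Type v} [Fintype n] [DecidableEq n] (M : Matrix n n K) :
    ((M.charpolyRev : Polynomial K) : PowerSeries K) =
      PowerSeries.subst (PowerSeries.mk fun m : ℕ => -(Matrix.trace (M ^ m)) / (m : K))
        (PowerSeries.exp K) := by
  classical
  set g : PowerSeries K := PowerSeries.mk fun m : ℕ => -(Matrix.trace (M ^ m)) / (m : K) with hgdef
  set σ : PowerSeries K := PowerSeries.mk fun m : ℕ => -(Matrix.trace (M ^ (m + 1))) with hσ
  have hg0 : PowerSeries.constantCoeff g = 0 := by
    rw [← PowerSeries.coeff_zero_eq_constantCoeff_apply, hgdef]; simp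
  have hgs : PowerSeries.HasSubst g := PowerSeries.HasSubst.of_constantCoeff_zero' hg0
  set E : PowerSeries K := PowerSeries.subst g (PowerSeries.exp K) with hE
  have hdg : PowerSeries.derivative K g = σ := by
    ext m
    rw [PowerSeries.coeff_derivative, hgdef, hσ, PowerSeries.coeff_mk, PowerSeries.coeff_mk]
    have : ((m + 1 : ℕ) : K) ≠ 0 := by exact_mod_cast Nat.succ_ne_zero m
    push_cast at this ⊢
    field_simp
  have hdE : PowerSeries.derivative K E = σ * E := by
    rw [hE, PowerSeries.derivative_subst hgs, PowerSeries.derivative_exp, hdg, mul_comm]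
  have hE0 : PowerSeries.constantCoeff E = 1 := by
    rw [hE]
    refine (PowerSeries.constantCoeff_subst hgs _).trans ?_
    rw [finsum_eq_single _ 0]
    · simp
    · intro d hd
      simp [show MvPowerSeries.constantCoeff g = 0 from hg0, zero_pow hd]
  set Mc : Matrix n n (PowerSeries K) := M.map PowerSeries.C with hMc
  set A : Matrix n n (PowerSeries K) := 1 - (PowerSeries.X : PowerSeries K) • Mc with hA
  have hdet : ((M.charpolyRev : Polynomial K) : PowerSeries K) = A.det := by
    rw [Matrix.charpolyRev]
    refine (RingHom.map_det (Polynomial.coeToPowerSeries.ringHom (R := K)) _).trans ?_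
    congr 1
    ext i j
    by_cases h : i = j <;> simp [hA, hMc, h, Matrix.one_apply]
    all_goals rw [PowerSeries.X]; ring
  set S : Matrix n n (PowerSeries K) := Matrix.of fun i j => PowerSeries.mk fun m => (M ^ m) i j with hS
  have hAS : A * S = 1 := by
    rw [hA, sub_mul, one_mul, Matrix.smul_mul]
    refine Matrix.ext fun i j => PowerSeries.ext fun m => ?_
    cases m with
    | zero =>
      by_cases h : i = j <;>
        simp [hS, h, Matrix.one_apply]
    | succ m =>
      by_cases h : i = j <;>
        simp [hS, hMc, h, Matrix.one_apply, Matrix.mul_apply, PowerSeries.coeff_succ_X_mul, pow_succ']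
  have htr : -(Mc * S).trace = σ := by
    refine PowerSeries.ext fun m => ?_
    simp [hσ, hS, hMc, Matrix.trace, Matrix.mul_apply, pow_succ', map_sum]
  have hadj : A.adjugate = A.det • S := by
    calc A.adjugate = A.adjugate * (A * S) := by rw [hAS, mul_one]
      _ = A.det • S := by rw [← mul_assoc, Matrix.adjugate_mul, Matrix.smul_mul, one_mul]
  have hdA : PowerSeries.derivative K A.det = σ * A.det := by
    have h1 : ∀ r l, PowerSeries.derivative K (A r l) = -(Mc r l) := by
      intro r l
      by_cases h : r = l <;> simp [hA, hMc, h, Matrix.one_apply]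
    rw [Groth.Agent.S18154.derivation_det]
    rw [Finset.sum_congr rfl fun r _ =>
      Groth.Agent.S18154.det_updateRow_sum_single A r fun l => PowerSeries.derivative K (A r l)]
    simp only [h1, ← Matrix.adjugate_apply, hadj, Matrix.smul_apply, smul_eq_mul]
    rw [← htr]
    simp only [Matrix.trace, Matrix.diag_apply, Matrix.mul_apply, neg_mul, Finset.sum_neg_distrib,
      Finset.sum_mul]
    exact congrArg Neg.neg (Finset.sum_congr rfl fun r _ => Finset.sum_congr rfl fun l _ => by ring)
  have hA0 : PowerSeries.constantCoeff A.det = 1 := by
    rw [RingHom.map_det]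
    have : (PowerSeries.constantCoeff).mapMatrix A = 1 := by
      ext i j
      by_cases h : i = j <;> simp [hA, h, Matrix.one_apply]
    rw [this, Matrix.det_one]
  rw [hdet, ← sub_eq_zero]
  refine PowerSeries.ext fun m => ?_
  rw [map_zero]
  induction m using Nat.strong_induction_on with
  | _ m ih =>
    cases m with
    | zero =>
      rw [PowerSeries.coeff_zero_eq_constantCoeff_apply, map_sub, hA0, hE0, sub_self]
    | succ m =>
      have h := congrArg (PowerSeries.coeff m)
        (show PowerSeries.derivative K (A.det - E) = σ * (A.det - E) by rw [map_sub, hdA, hdE, mul_sub])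
      rw [PowerSeries.coeff_derivative, PowerSeries.coeff_mul, Finset.sum_eq_zero] at h
      · exact (mul_eq_zero.mp h).resolve_right (by exact_mod_cast Nat.succ_ne_zero m)
      · intro x hx
        rw [ih x.2 (by have := Finset.HasAntidiagonal.mem_antidiagonal.mp hx; omega), mul_zero]

end Groth.Agent.S13056
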