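import Groth.Statements.S13057
import Mathlib


-- import your own Groth.Agent.* helpers here

set_option autoImplicit false
universe u
open Zeta

namespace Groth.Agent.S13057

/-- A power series f = ∑_{m ≥ 0} a_m t^m over a field L lies in L(t), i.e. f · Q = P for some
polynomials P, Q with Q ≠ 0, if and only if there are natural numbers M, N such that the vectors
(a_i, a_{i+1}, …, a_{i+N}) ∈ L^{N+1}, i ≥ M, span a proper subspace. -/
theorem result {L : Type u} [Field L]
    (f : PowerSeries L) :
    (∃ P Q : Polynomial L, Q ≠ 0 ∧ f * (Q : PowerSeries L) = (P : PowerSeries L)) ↔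
      ∃ M N : ℕ, Submodule.span L
          {v : Fin (N + 1) → L | ∃ i : ℕ, M ≤ i ∧ v = fun j : Fin (N + 1) => PowerSeries.coeff (i + (j : ℕ)) f} ≠ ⊤ := by
  classical
  constructor
  · rintro ⟨P, Q, hQ, h⟩
    set N := Q.natDegree with hN
    refine ⟨P.natDegree + 1, N, fun htop => ?_⟩
    let ℓ : (Fin (N + 1) → L) →ₗ[L] L := ∑ j : Fin (N + 1), Q.coeff (N - (j : ℕ)) • LinearMap.proj j
    have hker : Submodule.span L {v : Fin (N + 1) → L | ∃ i : ℕ, P.natDegree + 1 ≤ i ∧ v = fun j : Fin (N + 1) => PowerSeries.coeff (i + (j : ℕ)) f} ≤ LinearMap.ker ℓ := by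
      rw [Submodule.span_le]
      rintro _ ⟨i, hi, rfl⟩
      have h1 := congrArg (PowerSeries.coeff (i + N)) h
      rw [Polynomial.coeff_coe, Polynomial.coeff_eq_zero_of_natDegree_lt (by omega), PowerSeries.coeff_mul,
        Finset.Nat.sum_antidiagonal_eq_sum_range_succ_mk] at h1
      simp only [SetLike.mem_coe, LinearMap.mem_ker, ℓ, LinearMap.sum_apply, LinearMap.smul_apply, LinearMap.proj_apply, smul_eq_mul]
      rw [Fin.sum_univ_eq_sum_range (fun j => Q.coeff (N - j) * PowerSeries.coeff (i + j) f)]
      rw [← h1, show (i + N).succ = i + (N + 1) by omega]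
      conv_rhs => rw [Finset.sum_range_add]
      rw [Finset.sum_eq_zero (s := Finset.range i) fun k hk => by
          rw [Polynomial.coeff_coe, Polynomial.coeff_eq_zero_of_natDegree_lt (by simp at hk; omega), mul_zero],
        zero_add]
      refine Finset.sum_congr rfl fun j _ => ?_
      rw [Polynomial.coeff_coe, mul_comm, show i + N - (i + j) = N - j by omega]
    rw [htop, top_le_iff, LinearMap.ker_eq_top] at hker
    have h2 := LinearMap.congr_fun hker (Pi.single 0 1)
    simp only [ℓ, LinearMap.sum_apply, LinearMap.smul_apply, LinearMap.proj_apply, LinearMap.zero_apply, smul_eq_mul] at h2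
    rw [Fintype.sum_eq_single 0 (fun j hj => by simp [hj]), Pi.single_eq_same, mul_one, Fin.val_zero, Nat.sub_zero] at h2
    exact hQ (Polynomial.leadingCoeff_eq_zero.1 h2)
  · rintro ⟨M, N, h⟩
    obtain ⟨ℓ, hℓ, hker⟩ := Submodule.exists_le_ker_of_lt_top _ h.lt_top
    let Q : Polynomial L := ∑ j : Fin (N + 1), Polynomial.monomial (N - (j : ℕ)) (ℓ (Pi.single j 1))
    have hQ : ∀ j : Fin (N + 1), Q.coeff (N - (j : ℕ)) = ℓ (Pi.single j 1) := fun j => by
      simp only [Q, Polynomial.finsetSum_coeff, Polynomial.coeff_monomial]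
      rw [Fintype.sum_eq_single j (fun i hi => if_neg fun he => hi (Fin.ext (by omega))), if_pos rfl]
    have hsum : ∀ v : Fin (N + 1) → L, ℓ v = ∑ j, v j * ℓ (Pi.single j 1) := fun v => by
      rw [LinearMap.pi_apply_eq_sum_univ ℓ v]
      exact Finset.sum_congr rfl fun j _ => by
        rw [smul_eq_mul]; congr 2; funext k; simp [Pi.single_apply, eq_comm]
    have hQ0 : Q ≠ 0 := fun h0 => hℓ (LinearMap.ext fun v => by
      rw [hsum, LinearMap.zero_apply]
      exact Finset.sum_eq_zero fun j _ => by rw [← hQ, h0, Polynomial.coeff_zero, mul_zero])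
    refine ⟨PowerSeries.trunc (M + N) (f * Q), Q, hQ0, ?_⟩
    ext k
    rw [Polynomial.coeff_coe, PowerSeries.coeff_trunc]
    split_ifs with hk
    · rfl
    · push Not at hk
      set i := k - N
      have h1 := hker (Submodule.subset_span ⟨i, by omega, rfl⟩)
      rw [LinearMap.mem_ker, hsum] at h1
      simp only [← hQ] at h1
      rw [Fin.sum_univ_eq_sum_range (fun j => PowerSeries.coeff (i + j) f * Q.coeff (N - j))] at h1
      rw [PowerSeries.coeff_mul, Finset.Nat.sum_antidiagonal_eq_sum_range_succ_mk, show k.succ = i + (N + 1) by omega,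
        Finset.sum_range_add, Finset.sum_eq_zero (s := Finset.range i) fun l hl => by
          rw [Polynomial.coeff_coe, Polynomial.coeff_eq_zero_of_natDegree_lt, mul_zero]
          refine lt_of_le_of_lt ?_ (show N < k - l by simp at hl; omega)
          exact Polynomial.natDegree_sum_le_of_forall_le _ _ fun j _ => (Polynomial.natDegree_monomial_le _).trans (by omega),
        zero_add, ← h1]
      refine Finset.sum_congr rfl fun j _ => ?_
      rw [Polynomial.coeff_coe, show k - (i + j) = N - j by omega]

end Groth.Agent.S13057
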