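import Groth.Statements.S13058
import Mathlib


-- import your own Groth.Agent.* helpers here

set_option autoImplicit false
universe u v
open Zeta

namespace Groth.Agent.S13058

/-- If L'/L is a field extension, a power series f ∈ L⟦t⟧ belongs to L(t) exactly when it belongs to
L'(t); here membership in L(t) means f · Q = P for polynomials P, Q over the field in question with
Q ≠ 0. -/
theorem result {L : Type u} {L' : Type v} [Field L] [Field L']
    [Algebra L L'] (f : PowerSeries L) :
    (∃ P Q : Polynomial L', Q ≠ 0 ∧
        PowerSeries.map (algebraMap L L') f * (Q : PowerSeries L') = (P : PowerSeries L')) ↔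
      ∃ P Q : Polynomial L, Q ≠ 0 ∧ f * (Q : PowerSeries L) = (P : PowerSeries L) := by
  classical
  constructor
  · rintro ⟨P, Q, hQ, h⟩
    obtain ⟨i, hi⟩ : ∃ i, Q.coeff i ≠ 0 := by
      by_contra hc
      push Not at hc
      exact hQ (Polynomial.ext fun i => by simpa using hc i)
    obtain ⟨φ, hφ⟩ := Module.Projective.exists_dual_ne_zero L hi
    let ap : Polynomial L' → Polynomial L := fun R => ∑ j ∈ R.support, Polynomial.monomial j (φ (R.coeff j))
    have hap : ∀ R j, (ap R).coeff j = φ (R.coeff j) := fun R j => by
      simp only [ap, Polynomial.finsetSum_coeff, Polynomial.coeff_monomial, Finset.sum_ite_eq', Polynomial.mem_support_iff]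
      split_ifs with h' <;> simp_all
    refine ⟨ap P, ap Q, fun h0 => hφ ?_, ?_⟩
    · have := hap Q i
      rw [h0, Polynomial.coeff_zero] at this
      exact this.symm
    · ext j
      have hj := congrArg (fun s => φ (PowerSeries.coeff j s)) h
      simp only [PowerSeries.coeff_mul, map_sum, Polynomial.coeff_coe, PowerSeries.coeff_map] at hj
      rw [Polynomial.coeff_coe, hap, ← hj, PowerSeries.coeff_mul]
      refine Finset.sum_congr rfl fun x _ => ?_
      rw [Polynomial.coeff_coe, hap, ← Algebra.smul_def, map_smul, smul_eq_mul]
  · rintro ⟨P, Q, hQ, h⟩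
    refine ⟨P.map (algebraMap L L'), Q.map (algebraMap L L'), (Polynomial.map_ne_zero_iff (algebraMap L L').injective).2 hQ, ?_⟩
    rw [Polynomial.polynomial_map_coe, Polynomial.polynomial_map_coe, ← map_mul, h]

end Groth.Agent.S13058
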