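import Groth.Statements.S13059
import Mathlib
import Mathlib
-- import your own Groth.Agent.* helpers here

set_option autoImplicit false
universe u
open Zeta

namespace Groth.Agent.S13059

/-- Let B : V × W → K be a perfect pairing of finite-dimensional vector spaces over a field K, c ∈ K
nonzero, and f, g endomorphisms of V, W with B(f v, g w) = c · B(v, w) for all v, w. Then det(Id − t
g) = (−1)^r c^r t^r det(f)^{−1} det(Id − c^{−1} t^{−1} f) with r the common dimension; stated
cleared of denominators as det(f) · det(Id − t g) = (−1)^r c^r · det(t Id − c^{−1} f) in K[t],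
det(Id − t g) being the reverse of the characteristic polynomial of g. -/
theorem result (K : Type u) [Field K] (V W : Type u)
    [AddCommGroup V] [Module K V] [FiniteDimensional K V] [AddCommGroup W] [Module K W]
    [FiniteDimensional K W] (B : V →ₗ[K] W →ₗ[K] K) [B.IsPerfPair] (f : V →ₗ[K] V) (g : W →ₗ[K] W)
    (c : K) (hc : c ≠ 0) (hfg : ∀ (v : V) (w : W), B (f v) (g w) = c * B v w) :
    LinearMap.det f • (LinearMap.charpoly g).reverse =
      ((-1) ^ Module.finrank K W * c ^ Module.finrank K W) • (c⁻¹ • f).charpoly := by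
  classical
  let b := Module.finBasis K V
  let eW : W ≃ₗ[K] Module.Dual K V := B.flip.toPerfPair
  let g' : Module.Dual K V →ₗ[K] Module.Dual K V := eW.conj g
  have hcomp : f.dualMap ∘ₗ g' = c • LinearMap.id := by
    refine LinearMap.ext fun φ => ?_
    obtain ⟨w, rfl⟩ := eW.surjective φ
    refine LinearMap.ext fun v => ?_
    simp [g', eW, LinearEquiv.conj_apply, hfg]
  set n := Module.finrank K V
  set F := LinearMap.toMatrix b b f with hF
  set G := LinearMap.toMatrix b.dualBasis b.dualBasis g' with hG
  have hFG : F.transpose * G = c • 1 := by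
    rw [hF, hG, ← LinearMap.toMatrix_transpose (B₁ := b) (B₂ := b), ← LinearMap.toMatrix_comp]
    rw [show Module.Dual.transpose f = f.dualMap from rfl, hcomp, map_smul, LinearMap.toMatrix_id]
  have hgc : g.charpoly = G.charpoly := by
    rw [hG, LinearMap.charpoly_toMatrix, LinearEquiv.charpoly_conj]
  have hdim : Module.finrank K W = n := by rw [eW.finrank_eq, Subspace.dual_finrank_eq]
  have hfc : (c⁻¹ • f).charpoly = (c⁻¹ • F).charpoly := by
    rw [hF, ← map_smul, LinearMap.charpoly_toMatrix]
  rw [hgc, Matrix.reverse_charpoly, hdim, hfc, ← LinearMap.det_toMatrix b f, ← hF]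
  rw [Polynomial.smul_eq_C_mul, Polynomial.smul_eq_C_mul, RingHom.map_det, ← Matrix.det_transpose, Matrix.charpolyRev, ← Matrix.det_mul]
  have hR : Polynomial.C ((-1) ^ n * c ^ n) * (c⁻¹ • F).charpoly =
      Matrix.det ((Polynomial.C (-c)) • (c⁻¹ • F).charmatrix) := by
    rw [Matrix.det_smul, Fintype.card_fin, Matrix.charpoly, ← Polynomial.C_pow, neg_pow c n]
  rw [hR, ← Matrix.det_transpose (Polynomial.C (-c) • _)]
  refine congrArg _ ?_
  have h1 : (Polynomial.C.mapMatrix F).transpose * (1 - (Polynomial.X : Polynomial K) • G.map Polynomial.C) =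
      (F.transpose).map Polynomial.C - (Polynomial.X : Polynomial K) • ((c • 1 : Matrix (Fin n) (Fin n) K).map Polynomial.C) := by
    rw [mul_sub, mul_one, Matrix.mul_smul, ← hFG, Matrix.map_mul]
    rfl
  rw [h1]
  refine Matrix.ext fun i j => ?_
  have h2 : Polynomial.C c * Polynomial.C c⁻¹ = (1 : Polynomial K) := by rw [← Polynomial.C_mul, mul_inv_cancel₀ hc, Polynomial.C_1]
  rcases eq_or_ne i j with rfl | hij
  · simp only [Matrix.sub_apply, Matrix.map_apply, Matrix.transpose_apply, Matrix.smul_apply, Matrix.one_apply_eq, smul_eq_mul,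
      Matrix.charmatrix_apply_eq, mul_one, map_mul, map_neg]
    linear_combination -Polynomial.C (F i i) * h2
  · simp only [Matrix.sub_apply, Matrix.map_apply, Matrix.transpose_apply, Matrix.smul_apply, Matrix.one_apply_ne hij, smul_eq_mul,
      Matrix.charmatrix_apply_ne _ _ _ hij.symm, mul_zero, map_mul, map_neg, map_zero, sub_zero]
    linear_combination -Polynomial.C (F j i) * h2

end Groth.Agent.S13059
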