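import Groth.Statements.S13060
import Mathlib


-- import your own Groth.Agent.* helpers here

set_option autoImplicit false
universe u v w x
open TensorProduct
open Zeta

namespace Groth.Agent.S13060

/-- Let k be a field, V and W vector spaces over k and G a group acting on V by k-linear automorphisms;
for the induced action on V ⊗_k W (trivial on W) one has (V ⊗_k W)^G = V^G ⊗_k W, i.e. the
invariants of V ⊗ W are the image of V^G ⊗ W → V ⊗ W. -/
theorem result {k : Type u} [Field k] {G : Type v} [Group G]
    {V : Type w} {W : Type x} [AddCommGroup V] [Module k V] [AddCommGroup W] [Module k W]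
    (ρ : Representation k G V) :
    (ρ.tprod (Representation.trivial k G W)).invariants =
      LinearMap.range (TensorProduct.map ρ.invariants.subtype (LinearMap.id : W →ₗ[k] W)) := by
  classical
  refine le_antisymm (fun x hx => ?_) ?_
  · let b := Module.Free.chooseBasis k W
    let e := TensorProduct.equivFinsuppOfBasisRight (M := V) b
    have hcomm : ∀ (g : G) (y : TensorProduct k V W) (i), e ((ρ.tprod (Representation.trivial k G W)) g y) i = ρ g (e y i) := by
      intro g y i
      induction y using TensorProduct.induction_on with
      | zero => simp
      | tmul v w => simp [e, Representation.tprod_apply]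
      | add a c ha hc => rw [map_add, map_add, map_add, Finsupp.add_apply, Finsupp.add_apply, map_add, ha, hc]
    rw [show x = e.symm (e x) from (e.symm_apply_apply x).symm]
    rw [← Finsupp.sum_single (e x), map_finsuppSum]
    refine Submodule.sum_mem _ fun i _ => ?_
    have hi : e x i ∈ ρ.invariants := fun g => by rw [← hcomm, hx g]
    exact ⟨TensorProduct.tmul k (⟨_, hi⟩ : ρ.invariants) (b i), by simp [e]⟩
  · rintro _ ⟨t, rfl⟩ g
    induction t using TensorProduct.induction_on with
    | zero => simp
    | tmul v w => simp [Representation.tprod_apply, v.2 g]
    | add a c ha hc => rw [map_add, map_add, ha, hc]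

end Groth.Agent.S13060
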