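import Groth.Statements.S13061
import Mathlib

-- import your own Groth.Agent.* helpers here

set_option autoImplicit false
universe u v w
open Zeta

namespace Groth.Agent.S13061

/-- Let A be a commutative algebra over a field k, G a finite group acting on A by k-algebra
automorphisms and I ⊆ A an ideal preserved by G. If p^n is the largest power of p = char(k) dividing
|G| (with p^n = 1 when char(k) = 0), then for every G-invariant b ∈ A/I the power b^{p^n} lies in
the image of A^G → (A/I)^G. (The published statement takes A finitely generated over k, which the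
proof does not use.) -/
theorem result {k : Type u} [Field k]
    {A : Type v} [CommRing A] [Algebra k A] {G : Type w} [Group G] [Finite G]
    [MulSemiringAction G A] [SMulCommClass G k A] (I : Ideal A)
    (hI : ∀ (g : G) (a : A), a ∈ I → g • a ∈ I) (u : A) (hu : ∀ g : G, g • u - u ∈ I) :
    ∃ a : A, (∀ g : G, g • a = a) ∧
      Ideal.Quotient.mk I a =
        Ideal.Quotient.mk I u ^ (ringChar k ^ (Nat.card G).factorization (ringChar k)) := by
  classical
  haveI : Fintype G := Fintype.ofFinite G
  obtain ⟨P, hcard, hidx⟩ : ∃ P : Subgroup G,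
      Nat.card P = ringChar k ^ (Nat.card G).factorization (ringChar k) ∧ (P.index : k) ≠ 0 := by
    rcases CharP.char_is_prime_or_zero k (ringChar k) with hp | hp
    · haveI : Fact (ringChar k).Prime := ⟨hp⟩
      let S : Sylow (ringChar k) G := default
      refine ⟨(S : Subgroup G), S.card_eq_multiplicity, fun h => ?_⟩
      exact S.not_dvd_index ((CharP.cast_eq_zero_iff k (ringChar k) _).1 h)
    · haveI : CharP k 0 := hp ▸ ringChar.charP k
      haveI : CharZero k := CharP.charP_to_charZero k
      refine ⟨⊥, by simp [hp], ?_⟩
      rw [Subgroup.index_bot, Nat.cast_ne_zero]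
      exact Nat.card_pos.ne'
  haveI : Fintype P := Fintype.ofFinite P
  have hmk : ∀ g : G, Ideal.Quotient.mk I (g • u) = Ideal.Quotient.mk I u := fun g =>
    Ideal.Quotient.mk_eq_mk_iff_sub_mem _ _ |>.2 (hu g)
  let N : A := ∏ h : P, (h : G) • u
  have hNP : ∀ h : P, (h : G) • N = N := by
    intro h
    simp only [N, Finset.smul_prod', smul_smul]
    exact Fintype.prod_equiv (Equiv.mulLeft h) _ _ (fun x => by simp)
  have hNmk : ∀ g : G, Ideal.Quotient.mk I (g • N) = Ideal.Quotient.mk I u ^ Nat.card P := by
    intro g
    simp only [N, Finset.smul_prod', smul_smul, map_prod, hmk, Finset.prod_const, Finset.card_univ,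
      Nat.card_eq_fintype_card]
  let F : G ⧸ P → A := fun q => Quotient.liftOn' q (fun g => g • N) (fun a b hab => by
    rw [QuotientGroup.leftRel_apply] at hab
    have := hNP ⟨_, hab⟩
    calc a • N = a • (a⁻¹ * b) • N := by rw [this]
      _ = b • N := by rw [smul_smul, mul_inv_cancel_left])
  have hF : ∀ (g : G) (q : G ⧸ P), g • F q = F (g • q) := by
    intro g q
    induction q using QuotientGroup.induction_on with
    | H x => exact smul_smul g x N
  haveI : Fintype (G ⧸ P) := Fintype.ofFinite _
  have hFmk : ∀ q : G ⧸ P, Ideal.Quotient.mk I (F q) = Ideal.Quotient.mk I u ^ Nat.card P := by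
    intro q
    induction q using QuotientGroup.induction_on with
    | H x => exact hNmk x
  refine ⟨(P.index : k)⁻¹ • ∑ q : G ⧸ P, F q, fun g => ?_, ?_⟩
  · rw [smul_comm, Finset.smul_sum]
    congr 1
    exact Fintype.sum_equiv (MulAction.toPerm g) _ _ (fun q => hF g q)
  · rw [← hcard, Algebra.smul_def, map_mul, map_sum]
    simp only [hFmk, Finset.sum_const, Finset.card_univ]
    rw [← Nat.card_eq_fintype_card, ← Subgroup.index_eq_card, nsmul_eq_mul, ← mul_assoc,
      ← map_natCast (Ideal.Quotient.mk I), ← map_mul, ← map_natCast (algebraMap k A), ← map_mul,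
      inv_mul_cancel₀ hidx, map_one, map_one, one_mul]

end Groth.Agent.S13061
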