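import Groth.Statements.S13063
import Groth.Agent.LWQualLib.LangWeil
-- import your own Groth.Agent.* helpers here

set_option autoImplicit false
set_option maxHeartbeats 1000000
set_option backward.isDefEq.respectTransparency false
universe u
open CategoryTheory AlgebraicGeometry Limits
open Zeta

namespace Groth.Agent.S13063

/-- Let X be a scheme of finite type over a finite field k with q elements, of dimension r. For each
irreducible component Z of X of dimension r let m_Z be the number of irreducible components of its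
preimage in X ×_k k̄, k̄ an algebraic closure of k, and put a_e = ∑_{Z : m_Z ∣ e} m_Z. Then there
are constants α, α' > 0 such that for every e ≥ 1: if a_e > 0 then |N_e − a_e q^{er}| ≤ α q^{e(r −
1/2)}, and if a_e = 0 then N_e ≤ α' q^{e(r − 1)}, where N_e = ∑_{d ∣ e} d · #{closed points of
residue degree d} is the number of points of X in the degree-e extension of k. (Stated for schemes
of finite type; reducedness plays no role.) -/
theorem result {k : Type u} [Field k] [Finite k] {X : Scheme.{u}}
    (f : X ⟶ Spec (CommRingCat.of k)) [LocallyOfFiniteType f] [QuasiCompact f] (r : ℕ)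
    (hr : topologicalKrullDim X = r) :
    ∃ α α' : ℝ, 0 < α ∧ 0 < α' ∧ ∀ e : ℕ, 1 ≤ e →
      (0 < (∑ᶠ (Z : Set X) (_ : Z ∈ irreducibleComponents X ∧ topologicalKrullDim Z = r ∧
            Nat.card (irreducibleComponents ((pullback.fst f (Spec.map (CommRingCat.ofHom
              (algebraMap k (AlgebraicClosure k))))).base ⁻¹' Z)) ∣ e),
          Nat.card (irreducibleComponents ((pullback.fst f (Spec.map (CommRingCat.ofHom
              (algebraMap k (AlgebraicClosure k))))).base ⁻¹' Z))) →
        |(Zeta.nPts f e : ℝ) -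
            (∑ᶠ (Z : Set X) (_ : Z ∈ irreducibleComponents X ∧ topologicalKrullDim Z = r ∧
              Nat.card (irreducibleComponents ((pullback.fst f (Spec.map (CommRingCat.ofHom
                (algebraMap k (AlgebraicClosure k))))).base ⁻¹' Z)) ∣ e),
            Nat.card (irreducibleComponents ((pullback.fst f (Spec.map (CommRingCat.ofHom
                (algebraMap k (AlgebraicClosure k))))).base ⁻¹' Z)) : ℕ) *
              (Nat.card k : ℝ) ^ (e * r)| ≤
          α * (Nat.card k : ℝ) ^ ((e : ℝ) * ((r : ℝ) - 1 / 2))) ∧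
      ((∑ᶠ (Z : Set X) (_ : Z ∈ irreducibleComponents X ∧ topologicalKrullDim Z = r ∧
            Nat.card (irreducibleComponents ((pullback.fst f (Spec.map (CommRingCat.ofHom
              (algebraMap k (AlgebraicClosure k))))).base ⁻¹' Z)) ∣ e),
          Nat.card (irreducibleComponents ((pullback.fst f (Spec.map (CommRingCat.ofHom
              (algebraMap k (AlgebraicClosure k))))).base ⁻¹' Z))) = 0 →
        (Zeta.nPts f e : ℝ) ≤ α' * (Nat.card k : ℝ) ^ ((e : ℝ) * ((r : ℝ) - 1))) := by
  classical
  obtain ⟨T, hT, hpos, -, α, hα, hbound⟩ := LWQual.lang_weil_components f r hr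
  let mult : Set X → ℕ := fun Z => Nat.card (irreducibleComponents ((pullback.fst f (Spec.map (CommRingCat.ofHom
      (algebraMap k (AlgebraicClosure k))))).base ⁻¹' Z))
  refine ⟨α, α, hα, hα, fun e he => ?_⟩
  obtain ⟨h1, h2⟩ := hbound e he (T.filter fun Z => mult Z ∣ e) (fun Z => by simp [mult])
  have hfs : (∑ᶠ (Z : Set X) (_ : Z ∈ irreducibleComponents X ∧ topologicalKrullDim Z = r ∧ mult Z ∣ e), mult Z) =
      ∑ Z ∈ T.filter (fun Z => mult Z ∣ e), mult Z :=
    finsum_cond_eq_sum_of_cond_iff _ fun {Z} _ => by simp [hT, and_assoc]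
  have hq : (0 : ℝ) < (Nat.card k : ℝ) := by exact_mod_cast Nat.card_pos
  set Q : ℝ := (Nat.card k : ℝ) ^ e with hQ
  have hQ0 : 0 < Q := pow_pos hq e
  have hexp : ∀ c : ℝ, (Nat.card k : ℝ) ^ ((e : ℝ) * c) = Q ^ c := fun c => by
    rw [Real.rpow_mul hq.le, Real.rpow_natCast]
  constructor
  · intro _
    change |(Zeta.nPts f e : ℝ) - ((∑ᶠ (Z : Set X) (_ : Z ∈ irreducibleComponents X ∧ topologicalKrullDim Z = r ∧ mult Z ∣ e), mult Z) : ℕ) * _| ≤ _
    rw [hfs, pow_mul, hexp, Real.rpow_sub hQ0, Real.rpow_natCast, ← Real.sqrt_eq_rpow, ← mul_div_assoc,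
      le_div_iff₀ (Real.sqrt_pos.2 hQ0)]
    exact h1
  · intro h0
    change (∑ᶠ (Z : Set X) (_ : Z ∈ irreducibleComponents X ∧ topologicalKrullDim Z = r ∧ mult Z ∣ e), mult Z) = 0 at h0
    rw [hfs] at h0
    rw [hexp, Real.rpow_sub hQ0, Real.rpow_natCast, Real.rpow_one, ← mul_div_assoc, le_div_iff₀ hQ0]
    refine h2 (Finset.eq_empty_of_forall_notMem fun Z hZ => ?_)
    have := Finset.sum_eq_zero_iff.1 h0 Z hZ
    exact absurd this (hpos Z (Finset.mem_filter.1 hZ).1).ne'

end Groth.Agent.S13063
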