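import Groth.Statements.S13065
import Mathlib


-- import your own Groth.Agent.* helpers here

set_option autoImplicit false
universe u
open Zeta

namespace Groth.Agent.S13065

/-- Let k be a finite field with q elements and characteristic p, n ≥ 2, and f ∈ k[x_0, …, x_n]
homogeneous of degree n + 1, defining the hypersurface Z ⊂ P^n_k. Then #Z(F_q) ≢ 1 (mod p) if and
only if the coefficient of (x_0 ⋯ x_n)^{q−1} in f^{q−1} is nonzero. Stated through the affine count:
#Z(F_q) ≡ 1 (mod p) exactly when p divides the number of zeros of f in k^{n+1} (as (q − 1) #Z(F_q) +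
1 is that number). -/
theorem result {k : Type u} [Field k] [Finite k] (p : ℕ)
    [CharP k p] (n : ℕ) (hn : 2 ≤ n) (f : MvPolynomial (Fin (n + 1)) k)
    (hf : f.IsHomogeneous (n + 1)) :
    p ∣ Nat.card {a : Fin (n + 1) → k // MvPolynomial.eval a f = 0} ↔
      MvPolynomial.coeff (Finsupp.equivFunOnFinite.symm fun _ : Fin (n + 1) => Nat.card k - 1)
        (f ^ (Nat.card k - 1)) = 0 := by
  classical
  have : Fintype k := Fintype.ofFinite k
  let q := Fintype.card k
  have hq : 1 < q := Fintype.one_lt_card
  have hqk : (q : k) = 0 := FiniteField.cast_card_eq_zero k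
  have hn' : 0 < n + 1 := Nat.succ_pos n
  have hS : ∑ x : k, x ^ (q - 1) = -1 := by
    have : ∀ x : k, x ^ (q - 1) = if x = 0 then 0 else 1 := fun x => by
      split_ifs with h
      · rw [h, zero_pow (by omega)]
      · exact FiniteField.pow_card_sub_one_eq_one x h
    rw [Finset.sum_congr rfl fun x _ => this x, Finset.sum_ite, Finset.sum_const_zero, zero_add,
      Finset.sum_const, Finset.filter_ne', Finset.card_erase_of_mem (Finset.mem_univ _), Finset.card_univ,
      nsmul_one, Nat.cast_sub (by omega : 1 ≤ q), hqk, Nat.cast_one, zero_sub]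
  let m₀ : Fin (n + 1) →₀ ℕ := Finsupp.equivFunOnFinite.symm fun _ => Nat.card k - 1
  have hm₀ : ∀ i, m₀ i = q - 1 := fun i => by simp [m₀, q, Nat.card_eq_fintype_card]
  have hg : (f ^ (q - 1)).IsHomogeneous ((n + 1) * (q - 1)) := hf.pow _
  have key : ∑ a : Fin (n + 1) → k, MvPolynomial.eval a (f ^ (q - 1)) =
      MvPolynomial.coeff m₀ (f ^ (q - 1)) * (-1) ^ (n + 1) := by
    simp only [MvPolynomial.eval_eq']
    rw [Finset.sum_comm]
    simp only [← Finset.mul_sum]
    have hprod : ∀ m : Fin (n + 1) →₀ ℕ, ∑ a : Fin (n + 1) → k, ∏ i, a i ^ m i = ∏ i, ∑ x : k, x ^ m i :=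
      fun m => (Fintype.prod_sum fun i (x : k) => x ^ m i).symm
    simp only [hprod]
    rw [Finset.sum_eq_single m₀]
    · simp [hm₀, hS]
    · intro m hm hne
      suffices ∃ i, m i < q - 1 by
        obtain ⟨i, hi⟩ := this
        rw [Finset.prod_eq_zero (Finset.mem_univ i) (FiniteField.sum_pow_lt_card_sub_one k _ hi), mul_zero]
      by_contra hc
      push_neg at hc
      apply hne
      have hdeg : ∑ i, m i = (n + 1) * (q - 1) := by
        rw [← hg (MvPolynomial.mem_support_iff.1 hm), Finsupp.weight_apply, Finsupp.sum_fintype _ _ (by simp)]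
        simp
      ext i
      rw [hm₀]
      by_contra hi
      have : ∑ _i : Fin (n + 1), (q - 1) < ∑ i, m i :=
        Finset.sum_lt_sum (fun j _ => hc j) ⟨i, Finset.mem_univ i, lt_of_le_of_ne (hc i) (Ne.symm hi)⟩
      simp [hdeg] at this
    · intro hm
      simp [MvPolynomial.notMem_support_iff.1 hm]
  have hcount : (Nat.card {a : Fin (n + 1) → k // MvPolynomial.eval a f = 0} : k) =
      - (MvPolynomial.coeff m₀ (f ^ (q - 1)) * (-1) ^ (n + 1)) := by
    have h1 : ∀ a : Fin (n + 1) → k, (if MvPolynomial.eval a f = 0 then (1 : k) else 0) =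
        1 - MvPolynomial.eval a (f ^ (q - 1)) := fun a => by
      rw [map_pow]
      split_ifs with h
      · rw [h, zero_pow (by omega), sub_zero]
      · rw [FiniteField.pow_card_sub_one_eq_one _ h, sub_self]
    rw [Nat.card_eq_fintype_card, Fintype.card_subtype, Finset.natCast_card_filter,
      Finset.sum_congr rfl fun a _ => h1 a, Finset.sum_sub_distrib, key, Finset.sum_const,
      Finset.card_univ, Fintype.card_fun, Fintype.card_fin, nsmul_one, Nat.cast_pow, hqk,
      zero_pow (by omega), zero_sub]
  have hpow : f ^ (Nat.card k - 1) = f ^ (q - 1) := by rw [Nat.card_eq_fintype_card]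
  rw [← CharP.cast_eq_zero_iff k p, hcount, hpow, neg_eq_zero, mul_eq_zero,
    or_iff_left (pow_ne_zero _ (neg_ne_zero.2 one_ne_zero))]

end Groth.Agent.S13065
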