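import Groth.Statements.S13066
import Mathlib


-- import your own Groth.Agent.* helpers here

set_option autoImplicit false
universe u
open Zeta

namespace Groth.Agent.S13066

/-- Let k be a finite field with q elements and characteristic p, n ≥ 2, and f ∈ k[x_0, …, x_n]
homogeneous of degree n + 1. Then the coefficient of (x_0 ⋯ x_n)^{q−1} in f^{q−1} is nonzero if and
only if the coefficient of (x_0 ⋯ x_n)^{p−1} in f^{p−1} is nonzero. -/
theorem result {k : Type u} [Field k] [Finite k]
    (p : ℕ) [CharP k p] (n : ℕ) (hn : 2 ≤ n) (f : MvPolynomial (Fin (n + 1)) k)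
    (hf : f.IsHomogeneous (n + 1)) :
    MvPolynomial.coeff (Finsupp.equivFunOnFinite.symm fun _ : Fin (n + 1) => Nat.card k - 1)
        (f ^ (Nat.card k - 1)) ≠ 0 ↔
      MvPolynomial.coeff (Finsupp.equivFunOnFinite.symm fun _ : Fin (n + 1) => p - 1)
        (f ^ (p - 1)) ≠ 0 := by
  classical
  have : Fintype k := Fintype.ofFinite k
  have : Fact p.Prime := ⟨CharP.char_is_prime k p⟩
  have hp : 2 ≤ p := this.out.two_le
  obtain ⟨e, -, hq⟩ := FiniteField.card k p
  let D : ℕ → Fin (n + 1) →₀ ℕ := fun N => Finsupp.equivFunOnFinite.symm fun _ => N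
  have hD : ∀ N i, D N i = N := fun N i => by simp [D]
  change MvPolynomial.coeff (D (Nat.card k - 1)) _ ≠ 0 ↔ MvPolynomial.coeff (D (p - 1)) _ ≠ 0
  rw [Nat.card_eq_fintype_card, hq]
  let c : ℕ → k := fun j => MvPolynomial.coeff (D (p ^ j - 1)) (f ^ (p ^ j - 1))
  let a : k := MvPolynomial.coeff (D (p - 1)) (f ^ (p - 1))
  have hrec : ∀ j, c (j + 1) = a * c j ^ p := by
    intro j
    have hpj : 1 ≤ p ^ j := Nat.one_le_pow _ _ (by omega)
    have hexp : p ^ (j + 1) - 1 = (p - 1) + (p ^ j - 1) * p := by
      obtain ⟨u, hu⟩ := Nat.exists_eq_add_of_le hpj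
      obtain ⟨v, hv⟩ := Nat.exists_eq_add_of_le (show 1 ≤ p by omega)
      rw [pow_succ, hu, hv]
      simp only [Nat.add_sub_cancel_left]
      have : (1 + u) * (1 + v) = 1 + (v + u * (1 + v)) := by ring
      omega
    let h : MvPolynomial (Fin (n + 1)) k :=
      MvPolynomial.map (frobenius k p) (f ^ (p ^ j - 1))
    have hpw : (f ^ (p ^ j - 1)) ^ p = MvPolynomial.expand p h := by rw [← MvPolynomial.map_frobenius_expand, MvPolynomial.map_expand]
    change MvPolynomial.coeff (D (p ^ (j + 1) - 1)) (f ^ (p ^ (j + 1) - 1)) = _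
    rw [hexp, pow_add, pow_mul, hpw, MvPolynomial.coeff_mul, Finset.sum_eq_single (D (p - 1), p • D (p ^ j - 1))]
    · rw [MvPolynomial.coeff_expand_smul _ (by omega) _, MvPolynomial.coeff_map]
      rfl
    · rintro ⟨α, β⟩ hmem hne
      rw [Finset.HasAntidiagonal.mem_antidiagonal] at hmem
      by_contra hz
      obtain ⟨hα, hβ⟩ := mul_ne_zero_iff.1 hz
      have hdα : ∑ i, α i = (n + 1) * (p - 1) := by
        rw [← hf.pow (p - 1) hα, Finsupp.weight_apply, Finsupp.sum_fintype _ _ (by simp)]
        simp
      have hdiv : ∀ i, p ∣ β i := by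
        intro i
        by_contra hni
        exact hβ (MvPolynomial.coeff_expand_of_not_dvd _ hni)
      have hsum : ∀ i, α i + β i = (p - 1) + (p ^ j - 1) * p := fun i => by
        have := DFunLike.congr_fun hmem i
        simpa [hD] using this
      have hge : ∀ i, p - 1 ≤ α i := by
        intro i
        obtain ⟨t, ht⟩ := hdiv i
        have hmod : (α i) % p = p - 1 := by
          have := congrArg (· % p) (hsum i)
          simpa [ht, Nat.add_mul_mod_self_right, Nat.mod_eq_of_lt (show p - 1 < p by omega)] using this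
        have := Nat.mod_le (α i) p
        omega
      have hαeq : α = D (p - 1) := by
        ext i
        rw [hD]
        by_contra hi
        have : ∑ _i : Fin (n + 1), (p - 1) < ∑ i, α i :=
          Finset.sum_lt_sum (fun j _ => hge j) ⟨i, Finset.mem_univ i, lt_of_le_of_ne (hge i) (Ne.symm hi)⟩
        simp [hdα] at this
      apply hne
      rw [Prod.mk.injEq]
      refine ⟨hαeq, ?_⟩
      ext i
      have := hsum i
      rw [hαeq, hD] at this
      simp [hD]
      rw [mul_comm p]
      omega
    · intro hnm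
      exfalso
      apply hnm
      rw [Finset.HasAntidiagonal.mem_antidiagonal]
      ext i
      simp [hD, mul_comm p]
  have hiff : ∀ j, c (j + 1) ≠ 0 ↔ a ≠ 0 := by
    intro j
    induction j with
    | zero => simp [c, a]
    | succ j ih =>
      rw [hrec, mul_ne_zero_iff, pow_ne_zero_iff (by omega), ih, and_self]
  obtain ⟨j, hj⟩ := Nat.exists_eq_succ_of_ne_zero e.ne_zero
  rw [hj]
  exact hiff j

end Groth.Agent.S13066
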