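import Groth.Statements.S14550
import Groth.Agent.WeilLib.Frob
import Mathlib.AlgebraicGeometry.AlgClosed.Basic
import Mathlib.AlgebraicGeometry.Morphisms.Immersion
import Mathlib.Topology.NoetherianSpace
import Mathlib.RingTheory.Nakayama

set_option autoImplicit false
set_option backward.isDefEq.respectTransparency false
set_option backward.isDefEq.respectTransparency.types false
universe u
open CategoryTheory AlgebraicGeometry Limits
open Zeta

namespace Groth.Agent.S14550

open WeilLib

/-- The stalk at a fixed closed point of the fixed scheme is a field. -/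
lemma maximalIdeal_stalk_eq_bot {k K : Type u} [Field k] [Finite k] [Field K] [Algebra k K]
    [IsAlgClosed K] {X Xb P : Scheme.{u}} {π : Xb ⟶ X} {str : Xb ⟶ Spec (CommRingCat.of K)}
    {FX : X ⟶ X} {F : Xb ⟶ Xb} (hFb : FX.base = 𝟙 _) (hle : ∀ U : X.Opens, U ≤ FX ⁻¹ᵁ U)
    (hFapp : ∀ (U : X.Opens) (s : Γ(X, U)), (FX.appLE U U (hle U)).hom s = s ^ Nat.card k)
    (hext : ∀ {T : Scheme.{u}} (a b : T ⟶ Xb), a ≫ π = b ≫ π → a ≫ str = b ≫ str → a = b)
    (hF1 : F ≫ π = π ≫ FX) (i : P ⟶ Xb) [Mono i] (hiF : i ≫ F = i)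
    [LocallyOfFiniteType (i ≫ str)] [IsLocallyNoetherian P] (p : P)
    (hp : IsClosed ({p} : Set P)) :
    IsLocalRing.maximalIdeal (P.presheaf.stalk p) = ⊥ := by
  let strP := i ≫ str
  let gP := pointOfClosedPoint strP p hp
  have hgp : gP (IsLocalRing.closedPoint K) = p := pointOfClosedPoint_apply _ _ _ _
  have hgs : gP ≫ strP = 𝟙 _ := pointOfClosedPoint_comp _ _ _
  let O := P.presheaf.stalk p
  let c : O ⟶ CommRingCat.of K :=
    P.presheaf.stalkSpecializes (specializes_of_eq hgp) ≫ Scheme.stalkClosedPointTo gP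
  have hc : Spec.map c ≫ P.fromSpecStalk p = gP := by
    rw [Spec.map_comp, Category.assoc, Scheme.SpecMap_stalkSpecializes_fromSpecStalk,
      Scheme.Spec_stalkClosedPointTo_fromSpecStalk]
  let σO : CommRingCat.of K ⟶ O := Spec.preimage (P.fromSpecStalk p ≫ strP)
  have hσO : Spec.map σO = P.fromSpecStalk p ≫ strP := Spec.map_preimage _
  have hcσ : σO ≫ c = 𝟙 _ := Spec.map_injective (by
    rw [Spec.map_comp, hσO, ← Category.assoc, hc, hgs, Spec.map_id])
  have hcm : ∀ b : O, b ∈ IsLocalRing.maximalIdeal O → c b = 0 := fun b hb => by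
    by_contra h
    haveI : IsLocalHom c.hom := by
      change IsLocalHom
        (P.presheaf.stalkSpecializes (specializes_of_eq hgp) ≫ Scheme.stalkClosedPointTo gP).hom
      clear_value gP
      subst hgp
      simpa using (inferInstance : IsLocalHom (Scheme.stalkClosedPointTo gP).hom)
    exact hb (isUnit_of_map_unit c.hom b (IsUnit.mk0 _ h))
  let m2 : Ideal O := IsLocalRing.maximalIdeal O ^ 2
  let R : CommRingCat.{u} := CommRingCat.of (O ⧸ m2)
  let mk : O ⟶ R := CommRingCat.ofHom (Ideal.Quotient.mk m2)
  let σR : CommRingCat.of K ⟶ R := σO ≫ mk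
  have hm2 : m2 ≤ RingHom.ker c.hom := fun b hb =>
    RingHom.mem_ker.2 (hcm b (Ideal.pow_le_self two_ne_zero hb))
  set Q := Nat.card k ^ 1 with hQ
  have hQ0 : (Q : R) = 0 := by
    rw [← map_natCast σR.hom]
    exact (congrArg σR.hom (natCard_pow_cast_eq_zero K one_ne_zero)).trans (map_zero _)
  obtain ⟨Q', hQ'⟩ : ∃ Q', Q = Q' + 1 :=
    ⟨Q - 1, by have := one_lt_natCard_pow (k₀ := k) one_ne_zero; omega⟩
  have hpowR : ∀ b : O, (mk b) ^ Q = σR (powK (k₀ := k) K 1 (c b)) := fun b => by
    have hmem : b - σO (c b) ∈ IsLocalRing.maximalIdeal O := by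
      rw [IsLocalRing.mem_maximalIdeal]
      intro h
      have h0 : c (b - σO (c b)) = 0 := by
        rw [map_sub, show c (σO (c b)) = c b from ConcreteCategory.congr_hom hcσ (c b), sub_self]
      exact (h.map c.hom).ne_zero h0
    have hsq : (mk b - σR (c b)) * (mk b - σR (c b)) = 0 := by
      show (mk b - mk (σO (c b))) * (mk b - mk (σO (c b))) = 0
      rw [← map_sub, ← map_mul]
      refine Ideal.Quotient.eq_zero_iff_mem.2 ?_
      rw [show m2 = IsLocalRing.maximalIdeal O * IsLocalRing.maximalIdeal O from pow_two _]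
      exact Ideal.mul_mem_mul hmem hmem
    calc (mk b) ^ Q = (σR (c b) + (mk b - σR (c b))) ^ (Q' + 1) := by
          rw [add_sub_cancel, hQ']
      _ = σR (c b) ^ (Q' + 1) + (Q' + 1 : R) * σR (c b) ^ Q' * (mk b - σR (c b)) :=
          add_pow_of_sq_zero _ _ hsq _
      _ = σR (powK (k₀ := k) K 1 (c b)) := by
          rw [show ((Q' : R) + 1) = 0 by rw [← hQ0, hQ', Nat.cast_succ], zero_mul, zero_mul,
            add_zero, powK_apply, ← map_pow, ← hQ']
  let cR : R ⟶ CommRingCat.of K :=
    CommRingCat.ofHom (Ideal.Quotient.lift m2 c.hom fun b hb => RingHom.mem_ker.1 (hm2 hb))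
  let φR : R ⟶ R := cR ≫ CommRingCat.ofHom (powK (k₀ := k) K 1) ≫ σR
  have hφR : ∀ r, φR r = r ^ Q := fun r => by
    obtain ⟨b, rfl⟩ := Ideal.Quotient.mk_surjective r
    exact (hpowR b).symm
  have hσc : σR ≫ cR = 𝟙 _ := by
    ext a
    exact ConcreteCategory.congr_hom hcσ a
  let t : Spec R ⟶ P := Spec.map mk ≫ P.fromSpecStalk p
  have hcRt : Spec.map cR ≫ t = gP := by
    rw [← hc]
    simp only [t, ← Category.assoc, ← Spec.map_comp]
    rfl
  have ht : t ≫ strP = Spec.map σR := by
    simp only [t, σR, Spec.map_comp, hσO, Category.assoc]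
  let w : Spec R ⟶ X := t ≫ i ≫ π
  have hb : ∀ z : X, endIter FX 1 z = z := endIter_apply hFb 1
  have hst := stk_endIter (q := Nat.card k) hFb hle hFapp 1
  have hwF : w ≫ endIter FX 1 = Spec.map φR ≫ w := by
    have hπst := stk_spec (i ≫ π) p ((i ≫ π) p) rfl
    have e : w = Spec.map (stk (i ≫ π) p ((i ≫ π) p) rfl ≫ mk) ≫
        X.fromSpecStalk ((i ≫ π) p) := by
      simp only [w, t, Spec.map_comp, Category.assoc, hπst]
    rw [e, comp_powEnd hb hst _ φR hφR, Spec.map_comp, Category.assoc]
  have hwfix : w ≫ endIter FX 1 = w := by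
    simp only [endIter, Category.id_comp, w, Category.assoc, ← hF1]
    rw [reassoc_of% hiF]
  let v : Spec (CommRingCat.of K) ⟶ X :=
    Spec.map (CommRingCat.ofHom (powK (k₀ := k) K 1)) ≫ Spec.map cR ≫ w
  have hwv : w = Spec.map σR ≫ v := by
    conv_lhs => rw [← hwfix, hwF]
    simp only [φR, v, Spec.map_comp, Category.assoc]
  have hv : gP ≫ i ≫ π = v := by
    calc gP ≫ i ≫ π = Spec.map cR ≫ w := by rw [← hcRt, Category.assoc]
      _ = Spec.map cR ≫ Spec.map σR ≫ v := by rw [← hwv]
      _ = v := by rw [← Category.assoc, ← Spec.map_comp, hσc, Spec.map_id, Category.id_comp]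
  have hti : t = Spec.map σR ≫ gP := by
    rw [← cancel_mono i]
    apply hext
    · refine (Category.assoc t i π).trans (hwv.trans ?_)
      rw [← hv]
      simp only [Category.assoc]
    · refine (Category.assoc t i str).trans (ht.trans ?_)
      simp only [Category.assoc]
      show Spec.map σR = Spec.map σR ≫ gP ≫ strP
      rw [hgs, Category.comp_id]
  have key : mk = c ≫ σR := by
    refine stalk_hom_ext ?_
    rw [Spec.map_comp, Category.assoc, hc]
    exact hti
  refine Submodule.eq_bot_of_le_smul_of_le_jacobson_bot (IsLocalRing.maximalIdeal O) _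
    (IsNoetherian.noetherian _) (fun a ha => ?_) (IsLocalRing.maximalIdeal_le_jacobson _)
  rw [smul_eq_mul, ← pow_two]
  refine Ideal.Quotient.eq_zero_iff_mem.1 ?_
  show mk a = 0
  rw [key, CommRingCat.comp_apply, hcm a ha, map_zero]

lemma eq_of_specializes_of_field {P : Scheme.{u}} {p y : P} (h : y ⤳ p)
    (hp : IsLocalRing.maximalIdeal (P.presheaf.stalk p) = ⊥) : y = p := by
  have hf : IsField (P.presheaf.stalk p) := IsLocalRing.isField_iff_maximalIdeal_eq.2 hp
  letI := hf.toField
  obtain ⟨q, hq⟩ : y ∈ Set.range (P.fromSpecStalk p) := by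
    rw [Scheme.range_fromSpecStalk]; exact h
  have : q = IsLocalRing.closedPoint (P.presheaf.stalk p) :=
    Subsingleton.elim (α := PrimeSpectrum (P.presheaf.stalk p)) _ _
  rw [← hq, this]
  exact P.fromSpecStalk_closedPoint

lemma finite_of_t1_noetherian {α : Type*} [TopologicalSpace α] [TopologicalSpace.NoetherianSpace α]
    [QuasiSober α] (h : ∀ x : α, IsClosed ({x} : Set α)) : Finite α := by
  haveI := (TopologicalSpace.NoetherianSpace.finite_irreducibleComponents (α := α)).to_subtype
  refine Finite.of_injective (β := ↥(irreducibleComponents α))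
    (fun x => ⟨irreducibleComponent x, irreducibleComponent_mem_irreducibleComponents x⟩) ?_
  have key : ∀ x : α, irreducibleComponent x = {x} := fun x => by
    obtain ⟨η, hη⟩ := QuasiSober.sober (isIrreducible_irreducibleComponent (x := x))
      isClosed_irreducibleComponent
    have hη' : irreducibleComponent x = {η} := by
      rw [← hη.def, (h η).closure_eq]
    rw [hη']
    have hx := mem_irreducibleComponent (x := x)
    rw [hη', Set.mem_singleton_iff] at hx
    rw [hx]
  intro x y hxy
  have := congrArg Subtype.val hxy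
  simp only [key, Set.singleton_eq_singleton_iff] at this
  exact this

/-- Let X be a scheme of finite type over a finite field k with q elements (no smoothness assumption),
k̄ an algebraic closure of k, and F = Frob_{X,q} × id the k̄-endomorphism of X̄ = X ×_k k̄ induced
by the q-Frobenius of X. Then the intersection Γ_F ∩ Δ of the graph of F with the diagonal in X̄
×_{k̄} X̄ is a reduced scheme with finitely many points. (The published statement adds that,
consequently, the intersection number of the graph of F with the diagonal equals the number of these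
points; this row omits that consequence.) The q-Frobenius F_X is pinned as the endomorphism that is
the identity on points and raises sections to the q-th power, and F by F ≫ pr_1 = pr_1 ≫ F_X and F ≫
pr_2 = pr_2. -/
theorem result {k : Type u} [Field k] [Finite k]
    {X : Scheme.{u}} (f : X ⟶ Spec (CommRingCat.of k)) [LocallyOfFiniteType f] [QuasiCompact f]
    (FX : X ⟶ X) (hFb : FX.base = 𝟙 _) (hle : ∀ U : X.Opens, U ≤ FX ⁻¹ᵁ U)
    (hFapp : ∀ (U : X.Opens) (s : Γ(X, U)), (FX.appLE U U (hle U)).hom s = s ^ Nat.card k)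
    (F : FinFr.ext (AlgebraicClosure k) f ⟶ FinFr.ext (AlgebraicClosure k) f)
    (hF1 : F ≫ FinFr.extπ (AlgebraicClosure k) f = FinFr.extπ (AlgebraicClosure k) f ≫ FX)
    (hF2 : F ≫ FinFr.extStr (AlgebraicClosure k) f = FinFr.extStr (AlgebraicClosure k) f) :
    IsReduced (FinFr.fixScheme (FinFr.extStr (AlgebraicClosure k) f) F hF2) ∧
      Finite ↥(FinFr.fixScheme (FinFr.extStr (AlgebraicClosure k) f) F hF2) := by
  set str := FinFr.extStr (AlgebraicClosure k) f with hstrdef
  set π := FinFr.extπ (AlgebraicClosure k) f with hπdef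
  haveI : LocallyOfFiniteType str := inferInstanceAs (LocallyOfFiniteType (pullback.snd _ _))
  haveI : QuasiCompact str := inferInstanceAs (QuasiCompact (pullback.snd _ _))
  haveI := LocallyOfFiniteType.isLocallyNoetherian str
  haveI : CompactSpace ↥(FinFr.ext (AlgebraicClosure k) f) :=
    QuasiCompact.compactSpace_of_compactSpace str
  haveI : IsNoetherian (FinFr.ext (AlgebraicClosure k) f) := {}
  unfold FinFr.fixScheme
  haveI : IsImmersion (pullback.lift (𝟙 _) (𝟙 _) rfl :
      FinFr.ext (AlgebraicClosure k) f ⟶ pullback str str) :=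
    inferInstanceAs (IsImmersion (pullback.diagonal str))
  set lF : FinFr.ext (AlgebraicClosure k) f ⟶ pullback str str :=
    pullback.lift (𝟙 _) F (by rw [hF2, Category.id_comp]) with hlF
  set lD : FinFr.ext (AlgebraicClosure k) f ⟶ pullback str str :=
    pullback.lift (𝟙 _) (𝟙 _) rfl with hlD
  set P := pullback lF lD with hP
  let i : P ⟶ FinFr.ext (AlgebraicClosure k) f := pullback.fst lF lD
  haveI : IsImmersion i := inferInstanceAs (IsImmersion (pullback.fst _ _))
  have hiF : i ≫ F = i := by
    have e := pullback.condition (f := lF) (g := lD)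
    have e1 := congrArg (· ≫ pullback.fst str str) e
    have e2 := congrArg (· ≫ pullback.snd str str) e
    simp only [hlF, hlD, Category.assoc, pullback.lift_fst, pullback.lift_snd,
      Category.comp_id] at e1 e2
    exact e2.trans e1.symm
  haveI : LocallyOfFiniteType (i ≫ str) := inferInstance
  haveI : IsLocallyNoetherian P := LocallyOfFiniteType.isLocallyNoetherian (i ≫ str)
  haveI : JacobsonSpace ↥P := LocallyOfFiniteType.jacobsonSpace (i ≫ str)
  haveI : TopologicalSpace.NoetherianSpace ↥P := i.isEmbedding.isInducing.noetherianSpace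
  have hbot : ∀ p : P, IsClosed ({p} : Set P) →
      IsLocalRing.maximalIdeal (P.presheaf.stalk p) = ⊥ := fun p hp =>
    maximalIdeal_stalk_eq_bot (str := str) hFb hle hFapp
      (fun a b h1 h2 => pullback.hom_ext h1 h2) hF1 i hiF p hp
  have hcl : ∀ y : P, IsClosed ({y} : Set P) := fun y => by
    obtain ⟨p, hpy, hp⟩ := nonempty_inter_closedPoints (Z := closure ({y} : Set P))
      ⟨y, subset_closure rfl⟩ isClosed_closure.isLocallyClosed
    have := eq_of_specializes_of_field (specializes_iff_mem_closure.2 hpy) (hbot p hp)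
    rw [this]
    exact hp
  refine ⟨?_, finite_of_t1_noetherian hcl⟩
  haveI : ∀ y : P, _root_.IsReduced (P.presheaf.stalk y) := fun y => by
    have hf : IsField (P.presheaf.stalk y) :=
      IsLocalRing.isField_iff_maximalIdeal_eq.2 (hbot y (hcl y))
    letI := hf.toField
    infer_instance
  exact isReduced_of_isReduced_stalk P

end Groth.Agent.S14550
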