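import Groth.Statements.S13067
import Groth.Agent.S14550
-- import your own Groth.Agent.* helpers here

set_option autoImplicit false
set_option backward.isDefEq.respectTransparency false
set_option backward.isDefEq.respectTransparency.types false
universe u
open CategoryTheory AlgebraicGeometry Limits
open Zeta

namespace Groth.Agent.S13067

/-- Let X be smooth over a finite field k = F_q, k̄ an algebraic closure, and F = Frob_{X,q} × id the
k̄-endomorphism of X̄ = X ×_k k̄ induced by the q-Frobenius of X. Then the intersection Γ_F ∩ Δ of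
the graph of F with the diagonal in X̄ ×_{k̄} X̄ is a reduced (finite) scheme. The published
statement is for the graph of F^r, r ≥ 1; that case is this one applied to X ×_k F_{q^r}, whose
q^r-Frobenius induces F^r on X̄. The q-Frobenius F_X is pinned as the endomorphism that is the
identity on points and raises sections to the q-th power, and F by F ≫ pr_1 = pr_1 ≫ F_X and F ≫
pr_2 = pr_2. -/
theorem result {k : Type u} [Field k] [Finite k]
    {X : Scheme.{u}} (f : X ⟶ Spec (CommRingCat.of k)) [Smooth f] (FX : X ⟶ X)
    (hFb : FX.base = 𝟙 _) (hle : ∀ U : X.Opens, U ≤ FX ⁻¹ᵁ U)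
    (hFapp : ∀ (U : X.Opens) (s : Γ(X, U)), (FX.appLE U U (hle U)).hom s = s ^ Nat.card k)
    (F : FinFr.ext (AlgebraicClosure k) f ⟶ FinFr.ext (AlgebraicClosure k) f)
    (hF1 : F ≫ FinFr.extπ (AlgebraicClosure k) f = FinFr.extπ (AlgebraicClosure k) f ≫ FX)
    (hF2 : F ≫ FinFr.extStr (AlgebraicClosure k) f = FinFr.extStr (AlgebraicClosure k) f) :
    IsReduced (FinFr.fixScheme (FinFr.extStr (AlgebraicClosure k) f) F hF2) := by
  haveI : LocallyOfFiniteType f := inferInstance
  set str := FinFr.extStr (AlgebraicClosure k) f with hstrdef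
  set π := FinFr.extπ (AlgebraicClosure k) f with hπdef
  haveI : LocallyOfFiniteType str := inferInstanceAs (LocallyOfFiniteType (pullback.snd _ _))
  haveI := LocallyOfFiniteType.isLocallyNoetherian str
  unfold FinFr.fixScheme
  haveI : IsImmersion (pullback.lift (𝟙 _) (𝟙 _) rfl :
      FinFr.ext (AlgebraicClosure k) f ⟶ pullback str str) :=
    inferInstanceAs (IsImmersion (pullback.diagonal str))
  set lF : FinFr.ext (AlgebraicClosure k) f ⟶ pullback str str :=
    pullback.lift (𝟙 _) F (by rw [hF2, Category.id_comp]) with hlF
  set lD : FinFr.ext (AlgebraicClosure k) f ⟶ pullback str str :=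
    pullback.lift (𝟙 _) (𝟙 _) rfl with hlD
  set P := pullback lF lD with hP
  let i : P ⟶ FinFr.ext (AlgebraicClosure k) f := pullback.fst lF lD
  haveI : IsImmersion i := inferInstanceAs (IsImmersion (pullback.fst _ _))
  have hiF : i ≫ F = i := by
    have e := pullback.condition (f := lF) (g := lD)
    have e1 := congrArg (· ≫ pullback.fst str str) e
    have e2 := congrArg (· ≫ pullback.snd str str) e
    simp only [hlF, hlD, Category.assoc, pullback.lift_fst, pullback.lift_snd,
      Category.comp_id] at e1 e2
    exact e2.trans e1.symm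
  haveI : LocallyOfFiniteType (i ≫ str) := inferInstance
  haveI : IsLocallyNoetherian P := LocallyOfFiniteType.isLocallyNoetherian (i ≫ str)
  haveI : JacobsonSpace ↥P := LocallyOfFiniteType.jacobsonSpace (i ≫ str)
  have hbot : ∀ p : P, IsClosed ({p} : Set P) →
      IsLocalRing.maximalIdeal (P.presheaf.stalk p) = ⊥ := fun p hp =>
    Groth.Agent.S14550.maximalIdeal_stalk_eq_bot (str := str) hFb hle hFapp
      (fun a b h1 h2 => pullback.hom_ext h1 h2) hF1 i hiF p hp
  have hcl : ∀ y : P, IsClosed ({y} : Set P) := fun y => by
    obtain ⟨p, hpy, hp⟩ := nonempty_inter_closedPoints (Z := closure ({y} : Set P))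
      ⟨y, subset_closure rfl⟩ isClosed_closure.isLocallyClosed
    have := Groth.Agent.S14550.eq_of_specializes_of_field (specializes_iff_mem_closure.2 hpy) (hbot p hp)
    rw [this]
    exact hp
  haveI : ∀ y : P, _root_.IsReduced (P.presheaf.stalk y) := fun y => by
    have hf : IsField (P.presheaf.stalk y) :=
      IsLocalRing.isField_iff_maximalIdeal_eq.2 (hbot y (hcl y))
    letI := hf.toField
    infer_instance
  exact isReduced_of_isReduced_stalk P


end Groth.Agent.S13067
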