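import Groth.Statements.S13069
import Groth.Agent.ZetaCurveLib.Main
import Groth.Agent.ZetaCurveLib.Pic
import Groth.Agent.S11035
import Groth.Agent.S11037

set_option autoImplicit false
universe u
open CategoryTheory AlgebraicGeometry
open Zeta

namespace Groth.Agent.S13069

/-- If X is a smooth, geometrically connected, projective curve over F_q (here: smooth proper
geometrically irreducible of dimension one over a finite field k), then all the sets Pic^m(X) of
isomorphism classes of line bundles of degree m, m ∈ ℤ, have the same finite nonzero number of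
elements. -/
theorem result (k : Type u) [Field k] [Finite k]
    (X : Scheme.{u}) [X.Over (Spec (CommRingCat.of k))]
    (hX : Curve.IsSmoothProperCurve k X (X ↘ Spec (CommRingCat.of k)))
    [GeometricallyIrreducible (X ↘ Spec (CommRingCat.of k))] (m : ℤ) :
    Finite {c : PicF.Cl X // ∃ L : X.Modules, PicF.cl L = c ∧ PicF.IsInvertible L ∧
        Curv2.deg k X L 1 = m} ∧
      Nonempty {c : PicF.Cl X // ∃ L : X.Modules, PicF.cl L = c ∧ PicF.IsInvertible L ∧
        Curv2.deg k X L 1 = m} ∧
      Nat.card {c : PicF.Cl X // ∃ L : X.Modules, PicF.cl L = c ∧ PicF.IsInvertible L ∧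
          Curv2.deg k X L 1 = m} =
        Nat.card {c : PicF.Cl X // ∃ L : X.Modules, PicF.cl L = c ∧ PicF.IsInvertible L ∧
          Curv2.deg k X L 1 = 0} := by
  obtain ⟨hp, hs, hi, hdim⟩ := hX
  haveI := hp
  haveI := hs
  haveI := hi
  letI := CurveDualLib.algFF k X
  have h0 := ZetaCurveLib.h0_eq_one (k := k) hdim
  obtain ⟨hK, -⟩ := ZetaCurveLib.functionField (k := k) hdim
  obtain ⟨D, hD⟩ := Groth.Agent.S11035.result k X.functionField hK m
  obtain ⟨e⟩ := ZetaCurveLib.nonempty_picDeg_equiv hdim h0 D hD
  obtain ⟨e₀⟩ := ZetaCurveLib.nonempty_picDeg_equiv hdim h0 (m := 0) (0 : FunFld.Divisor k X.functionField)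
    Groth.Agent.FFLib.deg_zero
  haveI := (Groth.Agent.S11037.result k X.functionField hK).1
  exact ⟨Finite.of_equiv _ e, ⟨e (QuotientAddGroup.mk 0)⟩, Nat.card_congr (e.symm.trans e₀)⟩

end Groth.Agent.S13069
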