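import Groth.Statements.S13070
import Groth.Agent.PointCount.Ring
import Mathlib.Analysis.SpecialFunctions.Pow.Real

set_option autoImplicit false
universe u
open CategoryTheory AlgebraicGeometry
open Zeta

namespace Groth.Agent.S13070

/-- For an arithmetic scheme X (of finite type over ℤ) of dimension r there are c_X > 0 and p₀ such that
#X(F_{p^m}) ≤ c_X p^{m(r−1)} for all primes p ≥ p₀ and m ≥ 1, and #X(F_{p^m}) ≤ c_X p^{mr} for p <
p₀ and m ≥ 1. Here #X(F) is the number of morphisms Spec F → X, and the dimension is only assumed ≤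
r. -/
theorem result {X : Scheme.{u}}
    (f : X ⟶ Spec (CommRingCat.of (ULift.{u} ℤ))) [LocallyOfFiniteType f] [QuasiCompact f] (r : ℕ)
    (hr : topologicalKrullDim X ≤ r) :
    ∃ (c : ℝ) (p₀ : ℕ), 0 < c ∧ ∀ (p m : ℕ), p.Prime → 1 ≤ m →
      ∀ (F : Type u) [Field F], Nat.card F = p ^ m →
        (p₀ ≤ p → (Nat.card (Spec (CommRingCat.of F) ⟶ X) : ℝ) ≤
            c * (p : ℝ) ^ ((m : ℝ) * ((r : ℝ) - 1))) ∧
        (p < p₀ → (Nat.card (Spec (CommRingCat.of F) ⟶ X) : ℝ) ≤ c * (p : ℝ) ^ ((m : ℝ) * r)) := by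
  classical
  have hfin : ∀ x : X.affineOpens, Algebra.FiniteType ℤ Γ(X, x.1) := fun x => by
    have h := f.finiteType_appLE (U := ⊤) (isAffineOpen_top _) x.2 (by simp)
    have e : RingHom.FiniteType
        ((Scheme.ΓSpecIso (CommRingCat.of (ULift.{u} ℤ))).inv.hom.comp (ULift.ringEquiv.symm.toRingHom)) :=
      RingHom.FiniteType.of_surjective _ ((Scheme.ΓSpecIso (CommRingCat.of (ULift.{u} ℤ))).symm.commRingCatIsoToRingEquiv.surjective.comp
        ULift.ringEquiv.symm.surjective)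
    have h2 := h.comp e
    rwa [RingHom.finiteType_algebraMap.symm, Subsingleton.elim (algebraMap ℤ Γ(X, x.1)) _]
  haveI : CompactSpace X := QuasiCompact.compactSpace_of_compactSpace f
  let 𝒰 := X.affineCover.finiteSubcover
  let U : 𝒰.I₀ → X.affineOpens := fun i => ⟨(𝒰.f i).opensRange, isAffineOpen_opensRange (𝒰.f i)⟩
  haveI hoi : ∀ i, IsOpenImmersion (U i).2.fromSpec := fun i => (U i).2.isOpenImmersion_fromSpec
  have hdim : ∀ i, ringKrullDim Γ(X, (U i).1) ≤ r := fun i => by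
    rw [← PrimeSpectrum.topologicalKrullDim_eq_ringKrullDim]
    refine le_trans ?_ hr
    exact ((U i).2.fromSpec.isOpenEmbedding.isInducing).topologicalKrullDim_le
  haveI := fun i => hfin (U i)
  choose D p₀ hD using fun i => PointCount.algebra_bound Γ(X, (U i).1) r (hdim i)
  refine ⟨(∑ i, D i : ℕ) + 1, (∑ i, p₀ i) + 1, by positivity, fun p m hp hm F _ hF => ?_⟩
  haveI : Finite F := Nat.finite_of_card_ne_zero (by rw [hF]; exact pow_ne_zero _ hp.ne_zero)
  haveI : CharP F p := by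
    haveI := Fintype.ofFinite F
    obtain ⟨n, hq, hn⟩ := FiniteField.card F (ringChar F)
    rw [Nat.card_eq_fintype_card, hn] at hF
    have := (Nat.prime_dvd_prime_iff_eq hq hp).mp (hq.dvd_of_dvd_pow (hF ▸ dvd_pow_self _ n.pos.ne'))
    exact this ▸ ringChar.charP F
  have hcov : ∀ g : Spec (CommRingCat.of F) ⟶ X, ∃ (i : 𝒰.I₀) (ψ : Γ(X, (U i).1) →+* F),
      Spec.map (CommRingCat.ofHom ψ) ≫ (U i).2.fromSpec = g := fun g => by
    obtain ⟨i, hi⟩ : ∃ i, g.base (IsLocalRing.closedPoint F) ∈ (U i).1 := ⟨_, 𝒰.covers _⟩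
    have hr' : Set.range g.base ⊆ Set.range (U i).2.fromSpec.base := by
      rintro _ ⟨z, rfl⟩
      rw [(U i).2.range_fromSpec, Subsingleton.elim z (IsLocalRing.closedPoint F)]
      exact hi
    refine ⟨i, (Spec.preimage (IsOpenImmersion.lift (U i).2.fromSpec g hr')).hom, ?_⟩
    rw [CommRingCat.ofHom_hom, Spec.map_preimage, IsOpenImmersion.lift_fac]
  choose idx ψ hψ using hcov
  let e : (Spec (CommRingCat.of F) ⟶ X) → Σ i, (Γ(X, (U i).1) →+* F) := fun g => ⟨idx g, ψ g⟩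
  let G : (Σ i, (Γ(X, (U i).1) →+* F)) → (Spec (CommRingCat.of F) ⟶ X) := fun z =>
    Spec.map (CommRingCat.ofHom z.2) ≫ (U z.1).2.fromSpec
  have he : Function.Injective e := Function.LeftInverse.injective (g := G) fun g => hψ g
  haveI : ∀ i, Finite (Γ(X, (U i).1) →+* F) := fun i => (hD i F p).1
  have hcard : Nat.card (Spec (CommRingCat.of F) ⟶ X) ≤ ∑ i, Nat.card (Γ(X, (U i).1) →+* F) :=
    (Nat.card_le_card_of_injective e he).trans_eq Nat.card_sigma
  have hp' : (0 : ℝ) < p := by exact_mod_cast hp.pos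
  have hpow : ((Nat.card F ^ r : ℕ) : ℝ) = (p : ℝ) ^ ((m : ℝ) * r) := by
    rw [hF, ← pow_mul, Nat.cast_pow, ← Real.rpow_natCast, Nat.cast_mul]
  constructor
  · intro hp0
    have h1 : Nat.card (Spec (CommRingCat.of F) ⟶ X) * Nat.card F ≤ (∑ i, D i) * Nat.card F ^ r := by
      refine (Nat.mul_le_mul_right _ hcard).trans ?_
      rw [Finset.sum_mul, Finset.sum_mul]
      exact Finset.sum_le_sum fun i _ => (hD i F p).2.1 (le_trans
        (Finset.single_le_sum (fun _ _ => Nat.zero_le _) (Finset.mem_univ i)) (le_trans (Nat.le_add_right _ 1) hp0))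
    have h2 : (Nat.card (Spec (CommRingCat.of F) ⟶ X) : ℝ) * (Nat.card F : ℝ) ≤
        ((∑ i, D i : ℕ) : ℝ) * ((Nat.card F ^ r : ℕ) : ℝ) := by exact_mod_cast h1
    rw [hpow, hF, Nat.cast_pow, ← Real.rpow_natCast, ← le_div_iff₀ (Real.rpow_pos_of_pos hp' _), mul_div_assoc,
      ← Real.rpow_sub hp', ← mul_sub_one] at h2
    exact h2.trans (mul_le_mul_of_nonneg_right (le_add_of_nonneg_right (zero_le_one' ℝ)) (Real.rpow_nonneg hp'.le _))
  · intro _
    have h1 : Nat.card (Spec (CommRingCat.of F) ⟶ X) ≤ (∑ i, D i) * Nat.card F ^ r := by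
      refine hcard.trans ?_
      rw [Finset.sum_mul]
      exact Finset.sum_le_sum fun i _ => (hD i F p).2.2
    have h2 : (Nat.card (Spec (CommRingCat.of F) ⟶ X) : ℝ) ≤
        ((∑ i, D i : ℕ) : ℝ) * ((Nat.card F ^ r : ℕ) : ℝ) := by exact_mod_cast h1
    rw [hpow] at h2
    exact h2.trans (mul_le_mul_of_nonneg_right (le_add_of_nonneg_right (zero_le_one' ℝ)) (Real.rpow_nonneg hp'.le _))

end Groth.Agent.S13070
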