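import Groth.Statements.S13071
import Mathlib.AlgebraicGeometry.PullbackCarrier
import Mathlib.FieldTheory.Normal.Basic


set_option autoImplicit false
set_option backward.isDefEq.respectTransparency false
set_option backward.isDefEq.respectTransparency.types false
universe u
open CategoryTheory AlgebraicGeometry Limits
open Zeta

namespace Groth.Agent.S13071

/-- For a variety X over a perfect field k with algebraic closure k̄, the fibres of the projection π :
X_{k̄} → X are exactly the orbits of G(k̄/k) acting on X_{k̄} (σ acting as id × Spec σ). Stated for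
any scheme of finite type over k; each τ_σ is pinned by τ_σ ≫ pr_1 = pr_1 and τ_σ ≫ pr_2 = pr_2 ≫
Spec σ. -/
theorem result {k : Type u} [Field k] [PerfectField k]
    {X : Scheme.{u}} (f : X ⟶ Spec (CommRingCat.of k)) [LocallyOfFiniteType f] [QuasiCompact f]
    (τ : (AlgebraicClosure k ≃ₐ[k] AlgebraicClosure k) →
      (pullback f (Spec.map (CommRingCat.ofHom (algebraMap k (AlgebraicClosure k)))) ⟶
        pullback f (Spec.map (CommRingCat.ofHom (algebraMap k (AlgebraicClosure k))))))
    (hτ1 : ∀ σ, τ σ ≫ pullback.fst f _ = pullback.fst f _)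
    (hτ2 : ∀ σ, τ σ ≫ pullback.snd f (Spec.map (CommRingCat.ofHom (algebraMap k (AlgebraicClosure k)))) =
        pullback.snd f _ ≫ Spec.map (CommRingCat.ofHom (σ : AlgebraicClosure k →+* AlgebraicClosure k)))
    (x y : ↑(pullback f (Spec.map (CommRingCat.ofHom (algebraMap k (AlgebraicClosure k)))))) :
    (pullback.fst f (Spec.map (CommRingCat.ofHom (algebraMap k (AlgebraicClosure k))))).base x =
        (pullback.fst f (Spec.map (CommRingCat.ofHom (algebraMap k (AlgebraicClosure k))))).base y ↔
      ∃ σ, (τ σ).base x = y := by
  constructor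
  · intro h
    obtain ⟨t, htx, hty⟩ := Scheme.Pullback.exists_preimage_pullback x y h
    obtain ⟨gx, hgx⟩ : ∃ e, e = (pullback (pullback.fst f (Spec.map (CommRingCat.ofHom (algebraMap k (AlgebraicClosure k))))) (pullback.fst f (Spec.map (CommRingCat.ofHom (algebraMap k (AlgebraicClosure k)))))).fromSpecResidueField t ≫ pullback.fst (pullback.fst f (Spec.map (CommRingCat.ofHom (algebraMap k (AlgebraicClosure k))))) (pullback.fst f (Spec.map (CommRingCat.ofHom (algebraMap k (AlgebraicClosure k))))) := ⟨_, rfl⟩
    obtain ⟨gy, hgy⟩ : ∃ e, e = (pullback (pullback.fst f (Spec.map (CommRingCat.ofHom (algebraMap k (AlgebraicClosure k))))) (pullback.fst f (Spec.map (CommRingCat.ofHom (algebraMap k (AlgebraicClosure k)))))).fromSpecResidueField t ≫ pullback.snd (pullback.fst f (Spec.map (CommRingCat.ofHom (algebraMap k (AlgebraicClosure k))))) (pullback.fst f (Spec.map (CommRingCat.ofHom (algebraMap k (AlgebraicClosure k))))) := ⟨_, rfl⟩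
    have hπ : gx ≫ pullback.fst f (Spec.map (CommRingCat.ofHom (algebraMap k (AlgebraicClosure k)))) = gy ≫ pullback.fst f (Spec.map (CommRingCat.ofHom (algebraMap k (AlgebraicClosure k)))) := by
      simp only [hgx, hgy, Category.assoc, pullback.condition]
    obtain ⟨ax, hax⟩ := Spec.map_surjective (gx ≫ pullback.snd f (Spec.map (CommRingCat.ofHom (algebraMap k (AlgebraicClosure k)))))
    obtain ⟨ay, hay⟩ := Spec.map_surjective (gy ≫ pullback.snd f (Spec.map (CommRingCat.ofHom (algebraMap k (AlgebraicClosure k)))))
    have hk : CommRingCat.ofHom (algebraMap k (AlgebraicClosure k)) ≫ ax =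
        CommRingCat.ofHom (algebraMap k (AlgebraicClosure k)) ≫ ay := by
      apply Spec.map_injective
      rw [Spec.map_comp, Spec.map_comp, hax, hay, Category.assoc, Category.assoc,
        ← pullback.condition, reassoc_of% hπ]
    letI : Algebra (AlgebraicClosure k) ((pullback (pullback.fst f (Spec.map (CommRingCat.ofHom (algebraMap k (AlgebraicClosure k))))) (pullback.fst f (Spec.map (CommRingCat.ofHom (algebraMap k (AlgebraicClosure k)))))).residueField t) := ax.hom.toAlgebra
    letI : Algebra k ((pullback (pullback.fst f (Spec.map (CommRingCat.ofHom (algebraMap k (AlgebraicClosure k))))) (pullback.fst f (Spec.map (CommRingCat.ofHom (algebraMap k (AlgebraicClosure k)))))).residueField t) :=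
      (ax.hom.comp (algebraMap k (AlgebraicClosure k))).toAlgebra
    haveI : IsScalarTower k (AlgebraicClosure k) ((pullback (pullback.fst f (Spec.map (CommRingCat.ofHom (algebraMap k (AlgebraicClosure k))))) (pullback.fst f (Spec.map (CommRingCat.ofHom (algebraMap k (AlgebraicClosure k)))))).residueField t) :=
      IsScalarTower.of_algebraMap_eq' rfl
    let ψ : AlgebraicClosure k →ₐ[k] (pullback (pullback.fst f (Spec.map (CommRingCat.ofHom (algebraMap k (AlgebraicClosure k))))) (pullback.fst f (Spec.map (CommRingCat.ofHom (algebraMap k (AlgebraicClosure k)))))).residueField t :=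
      { ay.hom with
        commutes' := fun r => by
          have h1 := congrArg (fun (e : CommRingCat.of k ⟶ (pullback (pullback.fst f (Spec.map (CommRingCat.ofHom (algebraMap k (AlgebraicClosure k))))) (pullback.fst f (Spec.map (CommRingCat.ofHom (algebraMap k (AlgebraicClosure k)))))).residueField t) => e.hom r) hk
          exact h1.symm }
    let σ : AlgebraicClosure k ≃ₐ[k] AlgebraicClosure k :=
      ψ.restrictNormal' (AlgebraicClosure k)
    have hσ : CommRingCat.ofHom (σ : AlgebraicClosure k →+* AlgebraicClosure k) ≫ ax = ay := by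
      ext z
      exact AlgHom.restrictNormal_commutes ψ (AlgebraicClosure k) z
    have key : gx ≫ τ σ = gy := by
      apply pullback.hom_ext
      · rw [Category.assoc, hτ1, hπ]
      · rw [Category.assoc, hτ2, ← reassoc_of% hax, ← Spec.map_comp, hσ, hay]
    refine ⟨σ, ?_⟩
    let s : Spec ((pullback (pullback.fst f (Spec.map (CommRingCat.ofHom (algebraMap k (AlgebraicClosure k))))) (pullback.fst f (Spec.map (CommRingCat.ofHom (algebraMap k (AlgebraicClosure k)))))).residueField t) :=
      IsLocalRing.closedPoint ((pullback (pullback.fst f (Spec.map (CommRingCat.ofHom (algebraMap k (AlgebraicClosure k))))) (pullback.fst f (Spec.map (CommRingCat.ofHom (algebraMap k (AlgebraicClosure k)))))).residueField t)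
    have hx : gx.base s = x := by
      rw [hgx]
      show pullback.fst (pullback.fst f _) (pullback.fst f _) (Scheme.fromSpecResidueField _ t s) = x
      rw [Scheme.fromSpecResidueField_apply]
      exact htx
    have hy : gy.base s = y := by
      rw [hgy]
      show pullback.snd (pullback.fst f _) (pullback.fst f _) (Scheme.fromSpecResidueField _ t s) = y
      rw [Scheme.fromSpecResidueField_apply]
      exact hty
    rw [← hx, ← hy, ← key]
    rfl
  · rintro ⟨σ, rfl⟩
    conv_lhs => rw [← hτ1 σ]
    rfl

end Groth.Agent.S13071
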