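import Groth.Statements.S13072
import Groth.Agent.WeilLib.Frob
import Mathlib.AlgebraicGeometry.AlgClosed.Basic
import Mathlib.AlgebraicGeometry.Morphisms.Integral
import Mathlib.FieldTheory.Finite.Basic

set_option autoImplicit false
set_option backward.isDefEq.respectTransparency false
set_option backward.isDefEq.respectTransparency.types false
universe u
open CategoryTheory AlgebraicGeometry Limits
open Zeta

namespace Groth.Agent.S13072

open WeilLib

lemma endIter_comp {k : Type u} [Field k] {Xb X : Scheme.{u}} {F : Xb ⟶ Xb} {π : Xb ⟶ X}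
    {FX : X ⟶ X} (h : F ≫ π = π ≫ FX) (j : ℕ) : endIter F j ≫ π = π ≫ endIter FX j := by
  induction j with
  | zero => simp [endIter]
  | succ j ih => simp only [endIter, Category.assoc, h]; rw [← Category.assoc, ih, Category.assoc]

lemma endIter_str {Xb S : Scheme.{u}} {F : Xb ⟶ Xb} {s : Xb ⟶ S} (h : F ≫ s = s) (j : ℕ) :
    endIter F j ≫ s = s := by
  induction j with
  | zero => simp [endIter]
  | succ j ih => simp only [endIter, Category.assoc, h, ih]

lemma endIter_mem {Xb : Scheme.{u}} {F : Xb ⟶ Xb} {W : Set Xb} (h : F.base '' W ⊆ W) (j : ℕ)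
    {x : Xb} (hx : x ∈ W) : endIter F j x ∈ W := by
  induction j with
  | zero => exact hx
  | succ j ih => exact h ⟨_, ih, rfl⟩

lemma exists_residue_hom {K : Type u} [Field K] {X : Scheme.{u}} (h : Spec (CommRingCat.of K) ⟶ X)
    {z : X} (hz : h (IsLocalRing.closedPoint K) = z) :
    ∃ ι : X.residueField z ⟶ CommRingCat.of K, h = Spec.map ι ≫ X.fromSpecResidueField z := by
  subst hz
  exact ⟨_, ((Scheme.SpecToEquivOfField K X).left_inv h).symm⟩

/-- Two embeddings of a finite extension of a finite field differ by a Frobenius power. -/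
lemma exists_pow_eq {k L K : Type*} [Field k] [Finite k] [Field L] [Algebra k L]
    [Module.Finite k L] [Field K] [Algebra k K] [IsAlgClosed K] (a b : L →ₐ[k] K) :
    ∃ j : ℕ, ∀ l, b l = a l ^ Nat.card k ^ j := by
  classical
  letI := Fintype.ofFinite k
  haveI : Finite L := Module.finite_of_finite k
  let e : Fin (Module.finrank k L) → (L →ₐ[k] K) :=
    fun n => a.comp (FiniteField.frobeniusAlgHom k L ^ n.1)
  have hinj : Function.Injective e := fun m n h =>
    (FiniteField.bijective_frobeniusAlgHom_pow k L).1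
      (AlgHom.ext fun l => a.injective (DFunLike.congr_fun h l))
  have hbij : Function.Bijective e := (Fintype.bijective_iff_injective_and_card e).2
    ⟨hinj, by rw [Fintype.card_fin, AlgHom.card]⟩
  obtain ⟨n, hn⟩ := hbij.2 b
  refine ⟨n.1, fun l => ?_⟩
  rw [← hn]
  show a ((FiniteField.frobeniusAlgHom k L ^ n.1) l) = _
  rw [AlgHom.coe_pow, FiniteField.coe_frobeniusAlgHom, pow_iterate, map_pow,
    Nat.card_eq_fintype_card]

/-- Case r = 1, to which the general case reduces by passing to X ×_k F_{q^r}. Let X be a variety over k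
= F_q, k̄ an algebraic closure and F = Frob_{X,q} × id the induced endomorphism of X_{k̄}. A closed
subset W ⊆ X_{k̄} is of the form Y_{k̄} for a closed Y ⊆ X (i.e. W = π⁻¹(Y), π the projection) if
and only if F(W) ⊆ W. Stated for schemes of finite type over k; F_X is pinned as the endomorphism
that is the identity on points and the q-th power on sections, F by F ≫ pr_1 = pr_1 ≫ F_X and F ≫
pr_2 = pr_2. -/
theorem result {k : Type u} [Field k] [Finite k]
    {X : Scheme.{u}} (f : X ⟶ Spec (CommRingCat.of k)) [LocallyOfFiniteType f] [QuasiCompact f]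
    (FX : X ⟶ X) (hFb : FX.base = 𝟙 _) (hle : ∀ U : X.Opens, U ≤ FX ⁻¹ᵁ U)
    (hFapp : ∀ (U : X.Opens) (s : Γ(X, U)), (FX.appLE U U (hle U)).hom s = s ^ Nat.card k)
    (F : FinFr.ext (AlgebraicClosure k) f ⟶ FinFr.ext (AlgebraicClosure k) f)
    (hF1 : F ≫ FinFr.extπ (AlgebraicClosure k) f = FinFr.extπ (AlgebraicClosure k) f ≫ FX)
    (hF2 : F ≫ FinFr.extStr (AlgebraicClosure k) f = FinFr.extStr (AlgebraicClosure k) f)
    (W : Set ↑(FinFr.ext (AlgebraicClosure k) f)) (hW : IsClosed W) :
    (∃ Y : Set X, IsClosed Y ∧ (FinFr.extπ (AlgebraicClosure k) f).base ⁻¹' Y = W) ↔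
      F.base '' W ⊆ W := by
  set π := FinFr.extπ (AlgebraicClosure k) f with hπdef
  set str := FinFr.extStr (AlgebraicClosure k) f with hstrdef
  have hFXpt : ∀ z : X, FX z = z := fun z => by
    show FX.base z = z
    rw [hFb]; rfl
  constructor
  · rintro ⟨Y, -, rfl⟩ _ ⟨x, hx, rfl⟩
    show π (F x) ∈ Y
    rw [← Scheme.Hom.comp_apply, hF1, Scheme.Hom.comp_apply, hFXpt]
    exact hx
  · intro hFW
    haveI : IsIntegralHom (FinFr.specι k (AlgebraicClosure k)) :=
      IsIntegralHom.SpecMap_iff.2
        (algebraMap_isIntegral_iff.2 (inferInstance : Algebra.IsIntegral k (AlgebraicClosure k)))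
    haveI : IsIntegralHom π := inferInstanceAs (IsIntegralHom (pullback.fst _ _))
    haveI : LocallyOfFiniteType str := inferInstanceAs (LocallyOfFiniteType (pullback.snd _ _))
    haveI : JacobsonSpace ↥(FinFr.ext (AlgebraicClosure k) f) :=
      LocallyOfFiniteType.jacobsonSpace str
    have hπW : IsClosed (π '' W) := π.isClosedMap _ hW
    refine ⟨π '' W, hπW, subset_antisymm ?_ (Set.subset_preimage_image _ _)⟩
    have hS : IsClosed (π ⁻¹' (π '' W)) := hπW.preimage π.continuous
    show π ⁻¹' (π '' W) ⊆ W
    rw [← closure_inter_closedPoints hS]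
    refine closure_minimal ?_ hW
    rintro y ⟨⟨x₀, hx₀W, hx₀⟩, hyc⟩
    have hz : IsClosed ({π y} : Set X) := by
      rw [← Set.image_singleton]
      exact π.isClosedMap _ hyc
    -- a closed point of `W` over `π y`
    obtain ⟨x, ⟨hxW, hxπ⟩, hxc⟩ := nonempty_inter_closedPoints
      (Z := W ∩ π ⁻¹' {π y}) ⟨x₀, hx₀W, hx₀⟩
      ((hW.inter (hz.preimage π.continuous)).isLocallyClosed)
    let gx := pointOfClosedPoint str x hxc
    let gy := pointOfClosedPoint str y hyc
    obtain ⟨ιx, hιx⟩ := exists_residue_hom (gx ≫ π) (z := π y) (by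
      rw [Scheme.Hom.comp_apply, pointOfClosedPoint_apply]; exact hxπ)
    obtain ⟨ιy, hιy⟩ := exists_residue_hom (gy ≫ π) (z := π y) (by
      rw [Scheme.Hom.comp_apply, pointOfClosedPoint_apply])
    have hover : ∀ (g : Spec (CommRingCat.of (AlgebraicClosure k)) ⟶ _) ι, g ≫ str = 𝟙 _ →
        g ≫ π = Spec.map ι ≫ X.fromSpecResidueField (π y) →
        resMap f (π y) ≫ ι = CommRingCat.ofHom (algebraMap k (AlgebraicClosure k)) := by
      intro g ι hg hgι
      apply Spec.map_injective
      rw [Spec.map_comp, SpecMap_resMap, ← Category.assoc, ← hgι, Category.assoc, hπdef,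
        FinFr.extπ, pullback.condition, reassoc_of% hg]
    have hxover := hover gx ιx (pointOfClosedPoint_comp _ _ _) hιx
    have hyover := hover gy ιy (pointOfClosedPoint_comp _ _ _) hιy
    letI := (resMap f (π y)).hom.toAlgebra
    haveI : Module.Finite k (X.residueField (π y)) := by
      haveI : JacobsonSpace ↥X := LocallyOfFiniteType.jacobsonSpace f
      have := isClosed_singleton_iff_isClosedImmersion.1 hz
      have : IsFinite (X.fromSpecResidueField (π y) ≫ f) :=
        isFinite_iff_locallyOfFiniteType_of_jacobsonSpace.2 inferInstance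
      rw [← SpecMap_resMap, IsFinite.SpecMap_iff] at this
      exact this
    let ax : X.residueField (π y) →ₐ[k] AlgebraicClosure k :=
      { ιx.hom with commutes' := fun r => ConcreteCategory.congr_hom hxover r }
    let ay : X.residueField (π y) →ₐ[k] AlgebraicClosure k :=
      { ιy.hom with commutes' := fun r => ConcreteCategory.congr_hom hyover r }
    obtain ⟨j, hj⟩ := exists_pow_eq ax ay
    let φ : CommRingCat.of (AlgebraicClosure k) ⟶ CommRingCat.of (AlgebraicClosure k) :=
      CommRingCat.ofHom (powK (k₀ := k) (AlgebraicClosure k) j)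
    have hιxy : ιy = ιx ≫ φ := by
      ext l
      exact (hj l).trans (powK_apply _ j _).symm
    have hpi : (gx ≫ endIter F j) ≫ π = gy ≫ π := by
      rw [Category.assoc, endIter_comp (k := k) hF1, ← Category.assoc, hιx, hιy, hιxy]
      simp only [Scheme.fromSpecResidueField]
      rw [← Category.assoc, ← Spec.map_comp,
        comp_powEnd (endIter_apply hFb j) (stk_endIter hFb hle hFapp j) _ φ (powK_apply _ j),
        ← Category.assoc, ← Spec.map_comp, Category.assoc]
    have hgy : gx ≫ endIter F j = gy := by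
      refine pullback.hom_ext hpi ?_
      show (gx ≫ endIter F j) ≫ str = gy ≫ str
      rw [Category.assoc, endIter_str hF2, pointOfClosedPoint_comp, pointOfClosedPoint_comp]
    have key := congrArg (fun g : Spec (CommRingCat.of (AlgebraicClosure k)) ⟶ _ =>
      g (IsLocalRing.closedPoint (AlgebraicClosure k))) hgy
    simp only [Scheme.Hom.comp_apply, gx, gy, pointOfClosedPoint_apply] at key
    rw [← key]
    exact endIter_mem hFW j hxW

end Groth.Agent.S13072
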