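import Groth.Statements.S13075
import Mathlib


-- import your own Groth.Agent.* helpers here

set_option autoImplicit false
open Zeta

namespace Groth.Agent.S13075

/-- For the formal power series exp(t) = ∑_{m ≥ 0} t^m / m! and log(1 + t) = ∑_{m ≥ 1} (−1)^{m+1} t^m /
m over ℚ, log(exp(u)) = u and exp(log(1 + u)) = 1 + u for every u ∈ tℚ⟦t⟧; stated for u = t (the
general case is obtained by substitution): substituting exp(t) − 1 into log(1 + ·) gives t, and
substituting log(1 + t) into exp gives 1 + t. -/
theorem result :
    PowerSeries.subst (PowerSeries.exp ℚ - 1)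
        (PowerSeries.mk fun m : ℕ => if m = 0 then (0 : ℚ) else (-1) ^ (m + 1) / (m : ℚ)) =
      PowerSeries.X ∧
    PowerSeries.subst (PowerSeries.mk fun m : ℕ => if m = 0 then (0 : ℚ) else (-1) ^ (m + 1) / (m : ℚ))
        (PowerSeries.exp ℚ) = 1 + PowerSeries.X := by
  set L : PowerSeries ℚ := PowerSeries.mk fun m : ℕ => if m = 0 then (0 : ℚ) else (-1) ^ (m + 1) / (m : ℚ) with hL
  have hL0 : PowerSeries.constantCoeff L = 0 := by simp [L]
  have hL' : PowerSeries.derivative ℚ L * (1 + PowerSeries.X) = 1 := by
    ext m
    rw [mul_add, mul_one, map_add, PowerSeries.coeff_one]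
    rcases m with _ | m
    · rw [PowerSeries.coeff_zero_eq_constantCoeff_apply (φ := _ * PowerSeries.X)]
      simp [L, PowerSeries.coeff_derivative]
    · rw [PowerSeries.coeff_succ_mul_X]
      simp only [L, PowerSeries.coeff_derivative, PowerSeries.coeff_mk]
      have h1 : ((m : ℚ) + 1) ≠ 0 := by positivity
      have h2 : ((m : ℚ) + 1 + 1) ≠ 0 := by positivity
      simp
      field_simp
      ring
  have hE : PowerSeries.constantCoeff (PowerSeries.exp ℚ - 1) = 0 := by simp
  have hsE := PowerSeries.HasSubst.of_constantCoeff_zero' hE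
  have hsL := PowerSeries.HasSubst.of_constantCoeff_zero' hL0
  refine ⟨PowerSeries.derivative.ext ?_ ?_, ?_⟩
  · rw [PowerSeries.derivative_subst hsE]
    have h := congrArg (PowerSeries.substAlgHom hsE) hL'
    rw [map_mul, map_add, map_one, PowerSeries.coe_substAlgHom, PowerSeries.subst_X hsE, add_sub_cancel] at h
    rw [map_sub, PowerSeries.derivative_exp, Derivation.map_one_eq_zero, sub_zero, h, PowerSeries.derivative_X]
  · rw [PowerSeries.constantCoeff_X]; exact PowerSeries.constantCoeff_subst_eq_zero hE _ hL0
  · set F := PowerSeries.subst L (PowerSeries.exp ℚ) with hF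
    have hF0 : PowerSeries.constantCoeff F = 1 := by
      rw [hF, ← PowerSeries.coe_substAlgHom hsL, show PowerSeries.exp ℚ = (PowerSeries.exp ℚ - 1) + 1 by ring,
        map_add, map_one, map_add, map_one, PowerSeries.coe_substAlgHom, add_eq_right]
      exact PowerSeries.constantCoeff_subst_eq_zero hL0 _ hE
    have hF' : PowerSeries.derivative ℚ F = F * PowerSeries.derivative ℚ L := by
      rw [hF, PowerSeries.derivative_subst hsL, PowerSeries.derivative_exp]
    have hne : (1 + PowerSeries.X : PowerSeries ℚ) ≠ 0 := fun h => by
      simpa using congrArg PowerSeries.constantCoeff h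
    have hL'' : PowerSeries.derivative ℚ (PowerSeries.derivative ℚ L) = -(PowerSeries.derivative ℚ L * PowerSeries.derivative ℚ L) := by
      have h := congrArg (PowerSeries.derivative ℚ) hL'
      rw [Derivation.leibniz, map_add, PowerSeries.derivative_X, Derivation.map_one_eq_zero, zero_add,
        smul_eq_mul, smul_eq_mul, mul_one] at h
      apply mul_left_cancel₀ hne
      linear_combination h + (PowerSeries.derivative ℚ L) * hL'
    have hone : F * PowerSeries.derivative ℚ L = 1 := by
      refine PowerSeries.derivative.ext ?_ ?_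
      · rw [Derivation.leibniz, Derivation.map_one_eq_zero, hF', hL'', smul_eq_mul, smul_eq_mul]; ring
      · rw [map_mul, map_one, hF0, one_mul]
        simp [L, ← PowerSeries.coeff_zero_eq_constantCoeff_apply, PowerSeries.coeff_derivative]
    calc F = F * (PowerSeries.derivative ℚ L * (1 + PowerSeries.X)) := by rw [hL', mul_one]
      _ = 1 + PowerSeries.X := by rw [← mul_assoc, hone, one_mul]

end Groth.Agent.S13075
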