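import Groth.Statements.S13079
import Groth.Agent.QuotTameLib.Desc
import Groth.Agent.QuotTameLib.Comp
import Groth.Agent.QuotLib.BaseChange

set_option autoImplicit false
set_option backward.isDefEq.respectTransparency false
set_option backward.isDefEq.respectTransparency.types false
universe u
open CategoryTheory AlgebraicGeometry Limits
open Zeta

namespace Groth.Agent.S13079

/-- Suppose the finite groups G and H act by algebraic k-automorphisms on schemes X and Y of finite type
over k, both admitting quotients X → X/G and Y → Y/H (equivalently, covered by invariant affine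
opens). Then X × Y has the same property for the product action of G × H and (X × Y)/(G × H) ≅ X/G ×
Y/H: the morphism X ×_k Y → X/G ×_k Y/H with components the two quotient maps is a quotient for the
product action. The product action θ and that morphism π are pinned by their composites with the
projections. -/
theorem result {k : Type u} [Field k] {G H : Type u} [Group G] [Finite G] [Group H]
    [Finite H] {X Y XG YH : Scheme.{u}} (fX : X ⟶ Spec (CommRingCat.of k))
    (fY : Y ⟶ Spec (CommRingCat.of k)) [LocallyOfFiniteType fX] [QuasiCompact fX]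
    [LocallyOfFiniteType fY] [QuasiCompact fY] (gX : XG ⟶ Spec (CommRingCat.of k))
    (gY : YH ⟶ Spec (CommRingCat.of k)) (ρ : G →* Aut X) (σ : H →* Aut Y)
    (hρ : ∀ g, (ρ g).hom ≫ fX = fX) (hσ : ∀ h, (σ h).hom ≫ fY = fY)
    (p : X ⟶ XG) (hp : p ≫ gX = fX) (q : Y ⟶ YH) (hq : q ≫ gY = fY)
    (hP : SGA1.IsQuot ρ p) (hQ : SGA1.IsQuot σ q)
    (θ : G × H →* Aut (pullback fX fY))
    (hθ1 : ∀ gh : G × H, (θ gh).hom ≫ pullback.fst fX fY = pullback.fst fX fY ≫ (ρ gh.1).hom)
    (hθ2 : ∀ gh : G × H, (θ gh).hom ≫ pullback.snd fX fY = pullback.snd fX fY ≫ (σ gh.2).hom)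
    (π : pullback fX fY ⟶ pullback gX gY) (hπ1 : π ≫ pullback.fst gX gY = pullback.fst fX fY ≫ p)
    (hπ2 : π ≫ pullback.snd gX gY = pullback.snd fX fY ≫ q) :
    SGA1.IsQuot θ π := by
  subst hp hq
  let p₁ : pullback (p ≫ gX) (q ≫ gY) ⟶ pullback (p ≫ gX) gY :=
    pullback.map _ _ _ _ (𝟙 X) q (𝟙 _) (by simp) (by simp)
  let p₂ : pullback (p ≫ gX) gY ⟶ pullback gX gY :=
    pullback.map _ _ _ _ p (𝟙 YH) (𝟙 _) (by simp) (by simp)
  let act (g : G) : pullback (p ≫ gX) gY ⟶ pullback (p ≫ gX) gY :=
    pullback.map _ _ _ _ (ρ g).hom (𝟙 YH) (𝟙 _) (by rw [Category.comp_id, hρ]) (by simp)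
  have act_one : act 1 = 𝟙 _ := by apply pullback.hom_ext <;> simp [act, map_one]; rfl
  have act_mul : ∀ g g', act (g * g') = act g' ≫ act g := fun g g' => by
    apply pullback.hom_ext <;> simp [act, Aut.Aut_mul_def]
  let ρ₂ : G →* Aut (pullback (p ≫ gX) gY) :=
    { toFun := fun g =>
        { hom := act g
          inv := act g⁻¹
          hom_inv_id := by rw [← act_mul, inv_mul_cancel, act_one]
          inv_hom_id := by rw [← act_mul, mul_inv_cancel, act_one] }
      map_one' := Iso.ext act_one
      map_mul' := fun g g' => Iso.ext (act_mul g g') }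
  have sq₁ : IsPullback (pullback.snd (p ≫ gX) (q ≫ gY)) p₁ q (pullback.snd (p ≫ gX) gY) := by
    refine IsPullback.of_bot ?_ (by simp [p₁]) (IsPullback.of_hasPullback (p ≫ gX) gY).flip
    simpa [p₁] using (IsPullback.of_hasPullback (p ≫ gX) (q ≫ gY)).flip
  have sq₂ : IsPullback (pullback.fst (p ≫ gX) gY) p₂ p (pullback.fst gX gY) := by
    refine IsPullback.of_bot ?_ (by simp [p₂]) (IsPullback.of_hasPullback gX gY)
    simpa [p₂] using IsPullback.of_hasPullback (p ≫ gX) gY
  haveI : Flat gY := inferInstance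
  haveI : Flat (p ≫ gX) := inferInstance
  have h1 : SGA1.IsQuot (θ.comp (MonoidHom.inr G H)) p₁ :=
    QuotLib.isQuot_baseChange hQ sq₁ (fun h => hθ2 (1, h)) fun h => by
      apply pullback.hom_ext
      · simp only [p₁, pullback.map, MonoidHom.comp_apply, Category.assoc, pullback.lift_fst, Category.comp_id]
        exact (hθ1 (1, h)).trans (by simp [map_one]; exact Category.comp_id _)
      · simp only [p₁, pullback.map, MonoidHom.comp_apply, Category.assoc, pullback.lift_snd]
        rw [reassoc_of% (hθ2 (MonoidHom.inr G H h))]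
        exact congrArg (pullback.snd _ _ ≫ ·) (hQ.inv h)
  have h2 : SGA1.IsQuot ρ₂ p₂ :=
    QuotLib.isQuot_baseChange hP sq₂ (fun g => by simp [ρ₂, act]) fun g => by
      apply pullback.hom_ext <;> simp [ρ₂, act, p₂, hP.inv]
  have hM : π = p₁ ≫ p₂ := by
    apply pullback.hom_ext <;> simp [p₁, p₂, hπ1, hπ2]
  rw [hM]
  refine QuotTame.isQuot_comp (MonoidHom.inl G H) (MonoidHom.inr G H)
    (fun x => ⟨x.1, x.2, by simp⟩) h1 h2 fun g => ?_
  apply pullback.hom_ext
  · simp only [p₁, pullback.map, ρ₂, act, MonoidHom.coe_mk, OneHom.coe_mk, Category.assoc, pullback.lift_fst,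
      pullback.lift_fst_assoc, Category.comp_id]
    exact hθ1 (MonoidHom.inl G H g)
  · simp only [p₁, pullback.map, ρ₂, act, MonoidHom.coe_mk, OneHom.coe_mk, Category.assoc, pullback.lift_snd,
      pullback.lift_snd_assoc, Category.comp_id]
    rw [reassoc_of% (hθ2 (MonoidHom.inl G H g))]
    simp [map_one]
    exact congrArg (pullback.snd _ _ ≫ ·) (Category.id_comp _)

end Groth.Agent.S13079
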