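import Groth.Statements.S1308
import Groth.Agent.Thickening.Basic

set_option autoImplicit false
universe u
open FlatMor

namespace Groth.Agent.S1308

open AlgebraicGeometry CategoryTheory Limits in
/-- For a morphism of thickenings, that is a commutative square whose horizontal maps are thickenings
(closed immersions that are surjective on points), the morphism between the thin schemes is
universally open if and only if the morphism between the thick ones is. -/
theorem result {X X' S S' : Scheme.{u}} (iX : X ⟶ X') (iS : S ⟶ S') (f : X ⟶ S) (f' : X' ⟶ S')
    (hX : MoreMor.IsThickening iX) (hS : MoreMor.IsThickening iS) (w : iX ≫ f' = f ≫ iS) :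
    UniversallyOpen f ↔ UniversallyOpen f' := by
  obtain ⟨_, _⟩ := hX
  obtain ⟨_, _⟩ := hS
  have := ThickeningLib.universallyOpen_of_isClosedImmersion_surjective iX
  have := ThickeningLib.universallyOpen_of_isClosedImmersion_surjective iS
  constructor
  · intro h
    have : UniversallyOpen (iX ≫ f') := by rw [w]; infer_instance
    exact ThickeningLib.universallyOpen_of_comp_surjective iX f' this
  · intro h
    have : UniversallyOpen (f ≫ iS) := by rw [← w]; infer_instance
    exact ThickeningLib.universallyOpen_of_comp_mono f iS this

end Groth.Agent.S1308
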