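import Groth.Statements.S13080
import Groth.Agent.QuotLib.Exists

set_option autoImplicit false
set_option backward.isDefEq.respectTransparency false
set_option backward.isDefEq.respectTransparency.types false
universe u
open CategoryTheory AlgebraicGeometry Limits
open Zeta

namespace Groth.Agent.S13080

/-- Let G be a finite group acting by algebraic automorphisms over k on a scheme X of finite type over k
admitting a quotient p : X → X/G, H ⊆ G a subgroup and Y ⊆ X an open subset preserved by H such that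
X is the disjoint union of the translates Y g over the cosets of G mod H. Then the natural morphism
Y/H → X/G is an isomorphism: Y → X/G is a quotient of Y by H. The action of H on Y is pinned by
compatibility with the inclusion Y → X; the coset condition is stated as: the translates of Y cover
X, and g(Y) is disjoint from Y for g ∉ H. -/
theorem result {k : Type u} [Field k] {G : Type u} [Group G]
    [Finite G] {X XG : Scheme.{u}} (fX : X ⟶ Spec (CommRingCat.of k)) [LocallyOfFiniteType fX]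
    [QuasiCompact fX] (ρ : G →* Aut X) (hρ : ∀ g, (ρ g).hom ≫ fX = fX) (p : X ⟶ XG)
    (hP : SGA1.IsQuot ρ p) (H : Subgroup G) (Y : X.Opens)
    (hcov : ∀ x : X, ∃ g : G, x ∈ (ρ g).hom.base '' (Y : Set X))
    (hdisj : ∀ g : G, g ∉ H → Disjoint ((ρ g).hom.base '' (Y : Set X)) (Y : Set X))
    (ρY : H →* Aut (Y : Scheme.{u})) (hρY : ∀ h : H, (ρY h).hom ≫ Y.ι = Y.ι ≫ (ρ (h : G)).hom) :
    SGA1.IsQuot ρY (Y.ι ≫ p) := by
  haveI := hP.affine
  have hmem : ∀ (h : H) (y : X), y ∈ Y → (ρ (h : G)).hom y ∈ Y := fun h y hy => by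
    have := congr($(hρY h) (⟨y, hy⟩ : Y.toScheme))
    rw [Scheme.Hom.comp_apply, Scheme.Hom.comp_apply] at this
    exact this ▸ ((ρY h).hom _).2
  have hact : ∀ (g g' : G) (x : X), (ρ g).hom ((ρ g').hom x) = (ρ (g * g')).hom x := fun g g' x => by
    rw [QuotLib.act_mul, Scheme.Hom.comp_apply]
  have hone : ∀ x : X, (ρ 1).hom x = x := fun x => by rw [QuotLib.act_one]; rfl
  have hd : ∀ (g : G) (x : X), x ∈ Y → (ρ g).hom x ∈ Y → g ∈ H := fun g x hx hgx => by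
    by_contra hg
    exact Set.disjoint_left.1 (hdisj g hg) ⟨x, hx, rfl⟩ hgx
  have hclosed : IsClosed (Y : Set X) := by
    rw [← isOpen_compl_iff]
    have e : (Y : Set X)ᶜ = ⋃ g : {g : G // g ∉ H}, (ρ g.1).hom ⁻¹' (Y : Set X) := by
      ext x
      simp only [Set.mem_compl_iff, Set.mem_iUnion, Set.mem_preimage]
      constructor
      · intro hx
        obtain ⟨g, y, hy, rfl⟩ := hcov x
        refine ⟨⟨g⁻¹, fun hg => hx (hmem ⟨g, by simpa using H.inv_mem hg⟩ y hy)⟩, ?_⟩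
        change (ρ g⁻¹).hom ((ρ g).hom y) ∈ Y
        rwa [hact, inv_mul_cancel, hone]
      · rintro ⟨g, hg⟩ hx
        exact g.2 (hd g.1 x hx hg)
    rw [e]
    exact isOpen_iUnion fun g => Y.isOpen.preimage (ρ g.1).hom.continuous
  haveI : IsClosedImmersion Y.ι := by
    refine IsClosedImmersion.of_isPreimmersion _ ?_
    rw [Scheme.Opens.range_ι]
    exact hclosed
  have hinv : ∀ h : H, (ρY h).hom ≫ Y.ι ≫ p = Y.ι ≫ p := fun h => by
    rw [reassoc_of% (hρY h), hP.inv]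
  refine ⟨inferInstance, hinv, fun U => ?_, fun U s => ⟨?_, fun hs => ?_⟩⟩
  · intro a b hab
    apply hP.injective U
    change (Y.ι.app (p ⁻¹ᵁ U)).hom ((p.app U).hom a) = (Y.ι.app (p ⁻¹ᵁ U)).hom ((p.app U).hom b) at hab
    simp only [Scheme.Opens.ι_app] at hab
    have hWV : Y.ι ''ᵁ (Y.ι ⁻¹ᵁ (p ⁻¹ᵁ U)) ≤ p ⁻¹ᵁ U := fun x ⟨y, hy, e⟩ => e ▸ hy
    refine TopCat.Sheaf.eq_of_locally_eq' X.sheaf
      (fun g : G => (p ⁻¹ᵁ U) ⊓ (ρ g).hom ⁻¹ᵁ (Y.ι ''ᵁ (Y.ι ⁻¹ᵁ (p ⁻¹ᵁ U)))) (p ⁻¹ᵁ U) (fun g => homOfLE inf_le_left)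
      (fun x hx => ?_) _ _ fun g => ?_
    · obtain ⟨g, y, hy, rfl⟩ := hcov x
      refine TopologicalSpace.Opens.mem_iSup.2 ⟨g⁻¹, hx, ?_⟩
      change (ρ g⁻¹).hom ((ρ g).hom y) ∈ Y.ι ''ᵁ (Y.ι ⁻¹ᵁ (p ⁻¹ᵁ U))
      rw [hact, inv_mul_cancel, hone]
      refine ⟨⟨y, hy⟩, ?_, rfl⟩
      change p y ∈ U
      rw [← hP.inv g, Scheme.Hom.comp_apply]
      exact hx
    · have key : ∀ t, (X.presheaf.map (homOfLE (inf_le_left : (p ⁻¹ᵁ U) ⊓ (ρ g).hom ⁻¹ᵁ
          (Y.ι ''ᵁ (Y.ι ⁻¹ᵁ (p ⁻¹ᵁ U))) ≤ p ⁻¹ᵁ U)).op).hom ((p.app U).hom t) =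
          ((ρ g).hom.appLE _ _ inf_le_right).hom ((X.presheaf.map (homOfLE hWV).op).hom ((p.app U).hom t)) := fun t => by
        change (p.app U ≫ X.presheaf.map _).hom t = (p.app U ≫ X.presheaf.map _ ≫ (ρ g).hom.appLE _ _ _).hom t
        rw [Scheme.Hom.map_appLE, Scheme.Hom.app_eq_appLE, Scheme.Hom.appLE_map, Scheme.Hom.appLE_comp_appLE]
        simp only [hP.inv]
      exact (key a).trans ((congrArg _ hab).trans (key b).symm)
  · rintro ⟨t, rfl⟩ h
    change ((Y.ι ≫ p).app U ≫ (ρY h).hom.appLE _ _ _).hom t = _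
    rw [Scheme.Hom.app_eq_appLE, Scheme.Hom.appLE_comp_appLE]
    simp only [hinv]
  · set W := Y.ι ''ᵁ (Y.ι ⁻¹ᵁ (p ⁻¹ᵁ U)) with hW
    have hWV : W ≤ p ⁻¹ᵁ U := fun x ⟨y, hy, e⟩ => e ▸ hy
    have hWY : W ≤ Y := fun x ⟨y, _, hy⟩ => hy ▸ y.2
    have hst : ∀ h : H, W ≤ (ρ (h : G)).hom ⁻¹ᵁ W := fun h x hx => by
      refine ⟨⟨(ρ (h : G)).hom x, hmem h x (hWY hx)⟩, ?_, rfl⟩
      change p ((ρ (h : G)).hom x) ∈ U
      rw [← Scheme.Hom.comp_apply, hP.inv]
      exact hWV hx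
    have hs' : ∀ h : H, ((ρ (h : G)).hom.appLE W W (hst h)).hom s = s := fun h => by
      exact (congrArg (fun φ => φ.hom s) (QuotLib.appLE_of_lift (ρ (h : G)).hom (ρY h).hom (hρY h)
        (Y.ι ⁻¹ᵁ (p ⁻¹ᵁ U)) (SGA1.preimage_le_of_inv ρY (Y.ι ≫ p) hinv h U) (hst h))).symm.trans (hs h)
    let O : G → X.Opens := fun g => p ⁻¹ᵁ U ⊓ (ρ g).hom ⁻¹ᵁ W
    let sf : ∀ g, Γ(X, O g) := fun g => ((ρ g).hom.appLE W (O g) inf_le_right).hom s
    have hcompat : TopCat.Presheaf.IsCompatible X.sheaf.1 O sf := fun g g' => by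
      by_cases hh : g' * g⁻¹ ∈ H
      · change ((ρ g).hom.appLE W (O g) inf_le_right ≫ X.presheaf.map _).hom s =
          ((ρ g').hom.appLE W (O g') inf_le_right ≫ X.presheaf.map _).hom s
        rw [Scheme.Hom.appLE_map, Scheme.Hom.appLE_map]
        conv_lhs => rw [← hs' ⟨_, hh⟩]
        rw [← CommRingCat.comp_apply, Scheme.Hom.appLE_comp_appLE]
        simp only [← QuotLib.act_mul, inv_mul_cancel_right]
      · haveI : Subsingleton Γ(X, O g ⊓ O g') := by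
          have : O g ⊓ O g' = ⊥ := eq_bot_iff.2 fun x hx => by
            obtain ⟨h1, h2⟩ := hx
            exact (hh (hd (g' * g⁻¹) _ (hWY h1.2) (by
              rw [hact, inv_mul_cancel_right]
              exact hWY h2.2))).elim
          rw [this]
          exact CommRingCat.subsingleton_of_isTerminal X.sheaf.isTerminalOfEmpty
        exact Subsingleton.elim (α := Γ(X, O g ⊓ O g')) _ _
    have hcovU : p ⁻¹ᵁ U ≤ iSup O := fun x hx => by
      obtain ⟨g, y, hy, rfl⟩ := hcov x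
      refine TopologicalSpace.Opens.mem_iSup.2 ⟨g⁻¹, hx, ?_⟩
      change (ρ g⁻¹).hom ((ρ g).hom y) ∈ W
      rw [hact, inv_mul_cancel, hone]
      refine ⟨⟨y, hy⟩, ?_, rfl⟩
      change p y ∈ U
      rw [← hP.inv g, Scheme.Hom.comp_apply]
      exact hx
    obtain ⟨t₀, ht₀, huniq⟩ := X.sheaf.existsUnique_gluing' O (p ⁻¹ᵁ U) (fun g => homOfLE inf_le_left) hcovU sf hcompat
    obtain ⟨u, rfl⟩ := (hP.range_iff U t₀).2 fun a => huniq _ fun g => by
      have hle : O g ≤ (ρ a).hom ⁻¹ᵁ O (g * a⁻¹) := fun x hx => by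
        refine ⟨?_, ?_⟩
        · change p ((ρ a).hom x) ∈ U
          rw [← Scheme.Hom.comp_apply, hP.inv]
          exact hx.1
        · change (ρ (g * a⁻¹)).hom ((ρ a).hom x) ∈ W
          rw [hact, inv_mul_cancel_right]
          exact hx.2
      have e := congrArg ((ρ a).hom.appLE (O (g * a⁻¹)) (O g) hle).hom (ht₀ (g * a⁻¹))
      change (X.presheaf.map _ ≫ (ρ a).hom.appLE _ _ _).hom _ = ((ρ (g * a⁻¹)).hom.appLE W _ _ ≫ (ρ a).hom.appLE _ _ _).hom s at e
      rw [Scheme.Hom.map_appLE, Scheme.Hom.appLE_comp_appLE] at e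
      simp only [← QuotLib.act_mul, inv_mul_cancel_right] at e
      change ((ρ a).hom.appLE _ _ _ ≫ X.presheaf.map _).hom _ = _
      rw [Scheme.Hom.appLE_map]
      exact e
    refine ⟨u, ?_⟩
    change (Y.ι.app (p ⁻¹ᵁ U)).hom ((p.app U).hom u) = s
    have h1 := ht₀ 1
    change (X.presheaf.map _).hom ((p.app U).hom u) = ((ρ 1).hom.appLE W (O 1) inf_le_right).hom s at h1
    have hW1 : W ≤ O 1 := fun x hx => ⟨hWV hx, by change (ρ 1).hom x ∈ W; rwa [hone]⟩
    have h2 := congrArg (X.presheaf.map (homOfLE hW1).op).hom h1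
    have hl : ∀ v : Γ(X, p ⁻¹ᵁ U), (X.presheaf.map (homOfLE hW1).op).hom
        ((X.presheaf.map (homOfLE (inf_le_left : O 1 ≤ p ⁻¹ᵁ U)).op).hom v) = (X.presheaf.map (homOfLE hWV).op).hom v := fun v => by
      rw [← CommRingCat.comp_apply, ← Functor.map_comp]
      rfl
    have hr1 : (X.presheaf.map (homOfLE hW1).op).hom (((ρ 1).hom.appLE W (O 1) inf_le_right).hom s) = s := by
      rw [← CommRingCat.comp_apply, Scheme.Hom.appLE_map]
      exact hs' (1 : H)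
    rw [Scheme.Opens.ι_app]
    exact (hl _).symm.trans (h2.trans hr1)

end Groth.Agent.S13080
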