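import Groth.Statements.S13081
import Groth.Agent.S2909
import Groth.Agent.QuotLib.Props

set_option autoImplicit false
universe u
open CategoryTheory AlgebraicGeometry Limits
open Zeta

namespace Groth.Agent.S13081

set_option backward.isDefEq.respectTransparency false
set_option backward.isDefEq.respectTransparency.types false

/-- Let G be a finite group acting by algebraic automorphisms over k on a scheme X of finite type over k
admitting a quotient X → X/G, and H a normal subgroup of G. Then X/H carries an induced action of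
G/H and its quotient by this action is X/G: the induced morphism r : X/H → X/G is a quotient of X/H
by G/H. The induced action ρ̄ is pinned by p_H ≫ ρ̄(ḡ) = ρ(g) ≫ p_H and r by p_H ≫ r = p. -/
theorem result {k : Type u} [Field k] {G : Type u} [Group G]
    [Finite G] {X XG XH : Scheme.{u}} (fX : X ⟶ Spec (CommRingCat.of k)) [LocallyOfFiniteType fX]
    [QuasiCompact fX] (ρ : G →* Aut X) (hρ : ∀ g, (ρ g).hom ≫ fX = fX) (p : X ⟶ XG)
    (hP : SGA1.IsQuot ρ p) (H : Subgroup G) [H.Normal] (pH : X ⟶ XH)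
    (hPH : SGA1.IsQuot (ρ.comp H.subtype) pH) (ρbar : G ⧸ H →* Aut XH)
    (hρbar : ∀ g : G, pH ≫ (ρbar (QuotientGroup.mk g)).hom = (ρ g).hom ≫ pH)
    (r : XH ⟶ XG) (hr : pH ≫ r = p) :
    SGA1.IsQuot ρbar r := by
  subst hr
  have hinvr : ∀ q : G ⧸ H, (ρbar q).hom ≫ r = r := fun q => by
    obtain ⟨g, rfl⟩ := QuotientGroup.mk_surjective q
    refine QuotLib.hom_ext hPH ?_
    rw [← Category.assoc, hρbar, Category.assoc, hP.inv]
  have haff : IsAffineHom r :=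
    ((Groth.Agent.S2909.result (ρ.comp H.subtype) pH hPH (pH ≫ r) r rfl fun h => hP.inv h.1).1).1 hP.affine
  refine ⟨haff, hinvr, fun U a b hab => ?_, fun U s => ?_⟩
  · refine hP.injective U ?_
    rw [Scheme.Hom.comp_app]
    exact congrArg (pH.app (r ⁻¹ᵁ U)) hab
  · have key : ∀ g : G, ((ρ g).hom.appLE _ _ (SGA1.preimage_le_of_inv ρ (pH ≫ r) hP.inv g U)).hom
        ((pH.app (r ⁻¹ᵁ U)).hom s) = (pH.app (r ⁻¹ᵁ U)).hom
          (((ρbar (QuotientGroup.mk g)).hom.appLE _ _ (SGA1.preimage_le_of_inv ρbar r hinvr _ U)).hom s) := by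
      intro g
      have h1 := Scheme.Hom.appLE_comp_appLE (ρ g).hom pH (r ⁻¹ᵁ U) (pH ⁻¹ᵁ r ⁻¹ᵁ U) (pH ⁻¹ᵁ r ⁻¹ᵁ U) le_rfl
        (SGA1.preimage_le_of_inv ρ (pH ≫ r) hP.inv g U)
      have h2 := Scheme.Hom.appLE_comp_appLE pH (ρbar (QuotientGroup.mk g)).hom (r ⁻¹ᵁ U) (r ⁻¹ᵁ U)
        (pH ⁻¹ᵁ r ⁻¹ᵁ U) (SGA1.preimage_le_of_inv ρbar r hinvr _ U) le_rfl
      rw [pH.appLE_eq_app] at h1 h2
      have h3 : ∀ {a b : X ⟶ XH} (_ : a = b) (ha : pH ⁻¹ᵁ r ⁻¹ᵁ U ≤ a ⁻¹ᵁ r ⁻¹ᵁ U) (hb : pH ⁻¹ᵁ r ⁻¹ᵁ U ≤ b ⁻¹ᵁ r ⁻¹ᵁ U),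
          a.appLE (r ⁻¹ᵁ U) _ ha = b.appLE (r ⁻¹ᵁ U) _ hb := by
        rintro a b rfl _ _; rfl
      exact congr($(h1.trans ((h3 (hρbar g).symm _ _).trans h2.symm)).hom s)
    constructor
    · rintro ⟨t, rfl⟩ q
      obtain ⟨g, rfl⟩ := QuotientGroup.mk_surjective q
      refine hPH.injective _ ((key g).symm.trans ?_)
      have := (hP.range_iff U ((pH.app (r ⁻¹ᵁ U)).hom ((r.app U).hom t))).1 ⟨t, by rw [Scheme.Hom.comp_app]; rfl⟩ g
      exact this
    · intro hs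
      obtain ⟨t, ht⟩ := (hP.range_iff U ((pH.app (r ⁻¹ᵁ U)).hom s)).2 fun g => (key g).trans (congrArg _ (hs _))
      rw [Scheme.Hom.comp_app] at ht
      exact ⟨t, hPH.injective _ ht⟩

end Groth.Agent.S13081
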