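import Groth.Statements.S13082
import Groth.Agent.QuotLib.GeomOrbit

set_option autoImplicit false
set_option backward.isDefEq.respectTransparency false
set_option backward.isDefEq.respectTransparency.types false
universe u
open CategoryTheory AlgebraicGeometry Limits
open Zeta

namespace Groth.Agent.S13082

/-- Let X be a scheme of finite type over k with an action of a finite group G by algebraic
automorphisms over k admitting a quotient π : X → X/G, and W a locally closed subscheme of X on
which G induces an action. Then the canonical morphism W/G → π(W) is radicial and surjective: the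
induced morphism φ : W/G → X/G is universally injective with set-theoretic image π(W). The action on
W is pinned along the immersion j : W → X, φ by p_W ≫ φ = j ≫ π for a quotient p_W : W → W/G. -/
theorem result {k : Type u} [Field k] {G : Type u}
    [Group G] [Finite G] {X XG W WG : Scheme.{u}} (fX : X ⟶ Spec (CommRingCat.of k))
    [LocallyOfFiniteType fX] [QuasiCompact fX] (ρ : G →* Aut X) (hρ : ∀ g, (ρ g).hom ≫ fX = fX)
    (p : X ⟶ XG) (hP : SGA1.IsQuot ρ p) (j : W ⟶ X) [IsImmersion j] (ρW : G →* Aut W)
    (hρW : ∀ g, (ρW g).hom ≫ j = j ≫ (ρ g).hom) (pW : W ⟶ WG) (hPW : SGA1.IsQuot ρW pW)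
    (φ : WG ⟶ XG) (hφ : pW ≫ φ = j ≫ p) :
    UniversallyInjective φ ∧ Set.range φ.base = p.base '' Set.range j.base := by
  haveI : Surjective pW := ⟨QuotLib.surjective hPW⟩
  refine ⟨QuotLib.universallyInjective_of_cover pW φ fun L _ x x' hxx => ?_, ?_⟩
  · rw [hφ] at hxx
    obtain ⟨g, hg⟩ := QuotLib.geomOrbit hP (x := x ≫ j) (x' := x' ≫ j) (by simpa using hxx)
    have e : x' = x ≫ (ρW g).hom := by
      rw [← cancel_mono j, Category.assoc, hρW, hg, Category.assoc]
    rw [e, Category.assoc, hPW.inv]
  · ext y
    constructor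
    · rintro ⟨w, rfl⟩
      obtain ⟨x, rfl⟩ := QuotLib.surjective hPW w
      exact ⟨j x, ⟨x, rfl⟩, by rw [← Scheme.Hom.comp_apply, ← hφ, Scheme.Hom.comp_apply]⟩
    · rintro ⟨_, ⟨x, rfl⟩, rfl⟩
      exact ⟨pW x, by rw [← Scheme.Hom.comp_apply, hφ, Scheme.Hom.comp_apply]⟩

end Groth.Agent.S13082
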