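import Groth.Statements.S13083
import Groth.Agent.GeoPtLib.Basic
import Groth.Agent.S13071

set_option autoImplicit false
set_option backward.isDefEq.respectTransparency false
set_option backward.isDefEq.respectTransparency.types false
universe u
open CategoryTheory AlgebraicGeometry Limits
open Zeta

namespace Groth.Agent.S13083

/-- Let X be a variety over a perfect field k, k̄ an algebraic closure and π : X_{k̄} → X the
projection. Sending a closed point x to the sum of the points of π⁻¹(x) induces a bijection between
effective 0-cycles of degree n on X and effective 0-cycles of degree n on X_{k̄} fixed by G(k̄/k).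
Stated for schemes of finite type over k, with 0-cycles as finitely supported ℕ-valued functions on
closed points, the degree on X weighted by the residue degrees [κ(x) : k], the map being c ↦ c ∘ π,
and the Galois automorphisms τ_σ = id × Spec σ pinned by their projections. -/
theorem result {k : Type u} [Field k]
    [PerfectField k] {X : Scheme.{u}} (f : X ⟶ Spec (CommRingCat.of k)) [LocallyOfFiniteType f]
    [QuasiCompact f]
    (τ : (AlgebraicClosure k ≃ₐ[k] AlgebraicClosure k) →
      (pullback f (Spec.map (CommRingCat.ofHom (algebraMap k (AlgebraicClosure k)))) ⟶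
        pullback f (Spec.map (CommRingCat.ofHom (algebraMap k (AlgebraicClosure k))))))
    (hτ1 : ∀ σ, τ σ ≫ pullback.fst f _ = pullback.fst f _)
    (hτ2 : ∀ σ, τ σ ≫ pullback.snd f (Spec.map (CommRingCat.ofHom (algebraMap k (AlgebraicClosure k)))) =
        pullback.snd f _ ≫ Spec.map (CommRingCat.ofHom (σ : AlgebraicClosure k →+* AlgebraicClosure k)))
    (n : ℕ) :
    Set.BijOn
      (fun c : X → ℕ => c ∘ (pullback.fst f (Spec.map (CommRingCat.ofHom
        (algebraMap k (AlgebraicClosure k))))).base)
      {c : X → ℕ | (Function.support c).Finite ∧ (∀ x, c x ≠ 0 → IsClosed ({x} : Set X)) ∧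
        ∑ᶠ x, c x * EGA4loc.residueDegree f x = n}
      {d : ↑(pullback f (Spec.map (CommRingCat.ofHom (algebraMap k (AlgebraicClosure k))))) → ℕ |
        (Function.support d).Finite ∧ (∀ y, d y ≠ 0 → IsClosed ({y} : Set _)) ∧
        ∑ᶠ y, d y = n ∧ ∀ σ y, d ((τ σ).base y) = d y} := by
  have horb := fun x y => S13071.result f τ hτ1 hτ2 x y
  have hπc := GeoPtLib.isClosedMap_fst (K := AlgebraicClosure k) f
  haveI := GeoPtLib.locallyOfFiniteType_snd (K := AlgebraicClosure k) f
  -- every point over a closed point is closed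
  have hall : ∀ x : X, IsClosed ({x} : Set X) →
      ∀ y, pullback.fst f (Spec.map (CommRingCat.ofHom (algebraMap k (AlgebraicClosure k)))) y = x →
        IsClosed ({y} : Set ↥(pullback f (Spec.map (CommRingCat.ofHom
          (algebraMap k (AlgebraicClosure k)))))) := by
    intro x hx y hy
    obtain ⟨p, hp, hpx⟩ := GeoPtLib.exists_point (K := AlgebraicClosure k) f hx
    let s := pullback.lift (g := Spec.map (CommRingCat.ofHom (algebraMap k (AlgebraicClosure k))))
      p (𝟙 _) (by rw [Category.id_comp, hp])
    obtain ⟨σ, hσ⟩ := (horb (s (IsLocalRing.closedPoint (AlgebraicClosure k))) y).1 (by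
      show pullback.fst f _ (s _) = pullback.fst f _ y
      rw [← Scheme.Hom.comp_apply, pullback.lift_fst, hpx, hy])
    let u := CommRingCat.ofHom (σ.symm : AlgebraicClosure k →+* AlgebraicClosure k)
    have hs' : (Spec.map u ≫ s ≫ τ σ) ≫ pullback.snd f _ = 𝟙 _ := by
      simp only [Category.assoc, hτ2]
      rw [pullback.lift_snd_assoc, Category.id_comp, ← Spec.map_comp, ← Spec.map_id]
      congr 1
      ext a
      exact σ.symm_apply_apply a
    have := ((pointEquivClosedPoint (pullback.snd f _)) ⟨_, hs'⟩).2
    have he : (Spec.map u ≫ s ≫ τ σ) (IsLocalRing.closedPoint (AlgebraicClosure k)) = y := by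
      rw [← hσ, Scheme.Hom.comp_apply, Scheme.Hom.comp_apply]
      congr 2
      exact Subsingleton.elim (α := PrimeSpectrum (AlgebraicClosure k)) _ _
    rw [← he]
    exact this
  have hsum : ∀ c : X → ℕ, (Function.support c).Finite → (∀ x, c x ≠ 0 → IsClosed ({x} : Set X)) →
      (Function.support (c ∘ pullback.fst f (Spec.map (CommRingCat.ofHom
        (algebraMap k (AlgebraicClosure k)))))).Finite ∧
      ∑ᶠ y, c (pullback.fst f (Spec.map (CommRingCat.ofHom
        (algebraMap k (AlgebraicClosure k)))) y) = ∑ᶠ x, c x * EGA4loc.residueDegree f x :=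
    fun c hc hcl => GeoPtLib.finsum_comp_eq _ c _ hc fun x hx => by
      obtain ⟨h1, h2⟩ := GeoPtLib.sections_bijOn (K := AlgebraicClosure k) f (hcl x hx)
        (hall x (hcl x hx))
      exact ⟨h1, h2.trans (GeoPtLib.natCard_embeddings f (hcl x hx))⟩
  refine ⟨?_, ?_, ?_⟩
  · rintro c ⟨hc, hcl, hn⟩
    obtain ⟨h1, h2⟩ := hsum c hc hcl
    refine ⟨h1, fun y hy => hall _ (hcl _ hy) y rfl, h2.trans hn, fun σ y => ?_⟩
    show c _ = c _
    congr 1
    exact ((horb y _).2 ⟨σ, rfl⟩).symm
  · intro c _ c' _ h
    exact (GeoPtLib.surjective_fst f).injective_comp_right h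
  · rintro d ⟨hd, hdc, hdn, hinv⟩
    let c : X → ℕ := fun x => d (Function.surjInv (GeoPtLib.surjective_fst (K := AlgebraicClosure k) f) x)
    have hcd : ∀ y, c (pullback.fst f _ y) = d y := fun y => by
      obtain ⟨σ, hσ⟩ := (horb y (Function.surjInv
        (GeoPtLib.surjective_fst (K := AlgebraicClosure k) f) (pullback.fst f _ y))).1
        (Function.surjInv_eq (GeoPtLib.surjective_fst (K := AlgebraicClosure k) f) _).symm
      show d _ = d y
      rw [← hσ]
      exact hinv σ y
    have hc : (Function.support c).Finite := by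
      refine (hd.image (pullback.fst f _)).subset fun x hx => ?_
      exact ⟨_, hx, Function.surjInv_eq (GeoPtLib.surjective_fst (K := AlgebraicClosure k) f) x⟩
    have hcl : ∀ x, c x ≠ 0 → IsClosed ({x} : Set X) := fun x hx => by
      have := hπc _ (hdc _ hx)
      rwa [Set.image_singleton, Function.surjInv_eq (GeoPtLib.surjective_fst f)] at this
    refine ⟨c, ⟨hc, hcl, ?_⟩, funext hcd⟩
    rw [← (hsum c hc hcl).2, ← hdn]
    exact finsum_congr hcd

end Groth.Agent.S13083
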