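import Groth.Statements.S13086
import Groth.Agent.ZetaAbs.Count
-- import your own Groth.Agent.* helpers here

set_option autoImplicit false
universe u
open CategoryTheory AlgebraicGeometry
open Zeta

namespace Groth.Agent.S13086

/-- If X is an arithmetic scheme (of finite type over ℤ) of dimension r, the Dirichlet series with
nonnegative coefficients L_X(s) = Σ_{n ≥ 1} a_n n^{−s}, a_n the number of effective 0-cycles on X of
norm n, converges in the half-plane Re(s) > r and has no zeros there. The dimension is only assumed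
≤ r. -/
theorem result {X : Scheme.{u}}
    (f : X ⟶ Spec (CommRingCat.of (ULift.{u} ℤ))) [LocallyOfFiniteType f] [QuasiCompact f] (r : ℕ)
    (hr : topologicalKrullDim X ≤ r) :
    LSeries.abscissaOfAbsConv (Zeta.arithCoeff X) ≤ (r : ℝ) ∧
      ∀ s : ℂ, (r : ℝ) < s.re → LSeries (Zeta.arithCoeff X) s ≠ 0 := by
  classical
  have key : ∀ s : ℂ, (r : ℝ) < s.re →
      LSeriesSummable (Zeta.arithCoeff X) s ∧ LSeries (Zeta.arithCoeff X) s ≠ 0 := by
    intro s hs
    have hs0 : s ≠ 0 := fun h => by rw [h, Complex.zero_re] at hs; linarith [(Nat.cast_nonneg r : (0:ℝ) ≤ r)]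
    let w : ZetaAbs.Pt X → ℂ := fun x => (ZetaAbs.N x.1 : ℂ) ^ (-s)
    have hnorm : ∀ x : ZetaAbs.Pt X, ‖w x‖ = (ZetaAbs.N x.1 : ℝ) ^ (-s.re) := fun x => by
      rw [Complex.norm_natCast_cpow_of_pos (lt_of_lt_of_le (by norm_num) x.2.2), Complex.neg_re]
    have hr0 : 0 < s.re := lt_of_le_of_lt (Nat.cast_nonneg r) hs
    have hq : (2 : ℝ) ^ (-s.re) < 1 := Real.rpow_lt_one_of_one_lt_of_neg (by norm_num) (by linarith)
    have hw : ∀ x, ‖w x‖ ≤ (2 : ℝ) ^ (-s.re) := fun x => by
      rw [hnorm]
      exact Real.rpow_le_rpow_of_nonpos (by norm_num) (by exact_mod_cast x.2.2) (by linarith)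
    have hsum : Summable fun x => ‖w x‖ := by
      simp only [hnorm]
      exact ZetaAbs.summable_N f r hr hs
    have hmon := ZetaAbs.summable_norm_mon hq hw hsum
    have hne := ZetaAbs.tsum_mon_ne_zero hq hw hsum
    let φ : ℕ →* ℂ :=
      { toFun := fun n => (n : ℂ) ^ (-s)
        map_one' := by simp
        map_mul' := fun a b => by rw [Nat.cast_mul]; exact Complex.natCast_mul_natCast_cpow a b (-s) }
    let Nm : (ZetaAbs.Pt X →₀ ℕ) → ℕ := fun α => α.prod fun x m => ZetaAbs.N x.1 ^ m
    have hN : ∀ α, ZetaAbs.mon w α = (Nm α : ℂ) ^ (-s) := fun α => by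
      have h := map_finsuppProd φ α fun x m => ZetaAbs.N x.1 ^ m
      simp only [map_pow] at h
      exact h.symm
    have hNm0 : ∀ α, Nm α ≠ 0 := fun α => Finset.prod_ne_zero_iff.mpr fun x _ =>
      pow_ne_zero _ (by have := x.2.2; omega)
    have hL : LSeriesHasSum (Zeta.arithCoeff X) s (∑' α, ZetaAbs.mon w α) := by
      have h := hmon.of_norm.hasSum.tsum_fiberwise Nm
      refine h.congr_fun fun n => ?_
      rcases eq_or_ne n 0 with rfl | hn
      · haveI : IsEmpty (Nm ⁻¹' {0}) := ⟨fun α => hNm0 α.1 α.2⟩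
        simp [LSeries.term]
      have hfib : ∀ α : (Nm ⁻¹' {n}), ZetaAbs.mon w α.1 = (n : ℂ) ^ (-s) := fun α => by
        rw [hN, show Nm α.1 = n from α.2]
      rw [tsum_congr hfib, tsum_const, LSeries.term_of_ne_zero hn, nsmul_eq_mul, Complex.cpow_neg, ← div_eq_mul_inv]
      congr 1
      show (Zeta.cycleNormCount X n : ℂ) = _
      norm_cast
      symm
      refine Nat.card_congr (Equiv.ofBijective (fun α => ⟨α.1.mapDomain Subtype.val, fun x hx => ?_, ?_⟩) ⟨?_, ?_⟩)
      · obtain ⟨y, -, rfl⟩ := Finset.mem_image.mp (Finsupp.mapDomain_support hx)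
        exact y.2.1
      · rw [Finsupp.prod_mapDomain_index_inj Subtype.val_injective]
        exact α.2
      · intro α β h
        exact Subtype.ext (Finsupp.mapDomain_injective Subtype.val_injective (congrArg Subtype.val h))
      · rintro ⟨β, hcl, hβ⟩
        have hsupp : (↑β.support : Set X) ⊆ Set.range (Subtype.val : ZetaAbs.Pt X → X) := fun x hx => by
          refine ⟨⟨x, hcl x hx, ?_⟩, rfl⟩
          have h0 : Nat.card (X.residueField x) ^ β x ≠ 0 := fun h0 => hn (by
            rw [← hβ]; exact Finset.prod_eq_zero hx h0)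
          have h0' : Nat.card (X.residueField x) ≠ 0 := fun h1 => h0 (by
            rw [h1, zero_pow (Finsupp.mem_support_iff.mp hx)])
          have h1 := ZetaAbs.N_ne_one x
          simp only [ZetaAbs.N] at h1 ⊢
          omega
        have hγ := Finsupp.mapDomain_comapDomain (Subtype.val : ZetaAbs.Pt X → X) Subtype.val_injective β hsupp
        refine ⟨⟨β.comapDomain Subtype.val Subtype.val_injective.injOn, ?_⟩, Subtype.ext hγ⟩
        show Nm _ = n
        conv_rhs => rw [← hβ, ← hγ, Finsupp.prod_mapDomain_index_inj Subtype.val_injective]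
        rfl
    exact ⟨hL.LSeriesSummable, hL.LSeries_eq ▸ hne⟩
  exact ⟨LSeries.abscissaOfAbsConv_le_of_forall_lt_LSeriesSummable fun y hy => (key y (by simpa using hy)).1,
    fun s hs => (key s hs).2⟩

end Groth.Agent.S13086
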