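import Groth.Statements.S13087
import Mathlib
import Groth.Agent.Lie3ModL.Colon
import Groth.Agent.PurePowReg.Basic
-- import your own Groth.Agent.* helpers here

set_option autoImplicit false
set_option maxHeartbeats 1000000
universe u
open Lie3Mod

namespace Groth.Agent.S13087

/-- Let A be a nontrivial commutative ring and D = A[a,b,c,d,e,f,g,h,i] the polynomial ring in nine
variables. Then the linear forms a − i, b + f, d + h form a regular sequence on D, and so do the
three Jacobi polynomials Q1 = ah + di − fg − bg, Q2 = ie + bd − fh − ae, Q3 = hc + dc − af − bi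
(each term is a non-zero-divisor on the quotient of D by the preceding terms, and the quotient by
all three is non-zero). (The published statement is made with a regular base ring in force; the
printed argument does not use that hypothesis, and the statement is given here over every nontrivial
commutative base ring.) -/
theorem result (A : Type u) [CommRing A] [Nontrivial A] :
    RingTheory.Sequence.IsRegular (Lie3Mod.D A) [Lie3Mod.L1 A, Lie3Mod.L2 A, Lie3Mod.L3 A] ∧
      RingTheory.Sequence.IsRegular (Lie3Mod.D A) [Lie3Mod.Q1 A, Lie3Mod.Q2 A, Lie3Mod.Q3 A] := by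
  classical
  have reg : ∀ (φ : Lie3Mod.D A ≃ₐ[A] Lie3Mod.D A) (q : Fin 3 → Lie3Mod.D A) (f : Fin 3 → MvPolynomial (Fin 9) A)
      (_ : ∀ i, φ (q i) = f i) (w : Fin 9 → ℕ) (v : Fin 3 → Fin 9) (e : Fin 3 → ℕ) (u : Fin 3 → Aˣ),
      Function.Injective v → Groth.Agent.PurePowReg.HasTop w f v e u →
      (∀ i, MvPolynomial.eval (fun _ => (0 : A)) (q i) = 0) →
      RingTheory.Sequence.IsRegular (Lie3Mod.D A) [q 0, q 1, q 2] := by
    intro φ q f hq w v e u hv hf h0
    refine ⟨(φ.toRingEquiv.toAddEquiv.isWeaklyRegular_congr (as := [q 0, q 1, q 2]) (bs := List.ofFn f) ?_).mpr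
      (Groth.Agent.PurePowReg.isWeaklyRegular f v e u hv hf), ?_⟩
    · simp [List.ofFn_succ, ← hq]
    · intro h
      have h1 : (1 : Lie3Mod.D A) ∈ Ideal.ofList [q 0, q 1, q 2] := by
        have h2 : (1 : Lie3Mod.D A) ∈ (⊤ : Submodule (Lie3Mod.D A) (Lie3Mod.D A)) := trivial
        rw [h] at h2
        simpa [Ideal.smul_top_eq_map] using h2
      have h3 := (Ideal.span_le.mpr (show {x | x ∈ [q 0, q 1, q 2]} ⊆
        (RingHom.ker (MvPolynomial.eval fun _ : Fin 9 => (0 : A)) : Set (Lie3Mod.D A)) by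
          rintro x hx
          simp at hx
          rcases hx with rfl | rfl | rfl <;> exact RingHom.mem_ker.mpr (h0 _)) :
        Ideal.ofList [q 0, q 1, q 2] ≤ _) h1
      simp [RingHom.mem_ker] at h3
  let σ : MvPolynomial (Fin 9) A ≃ₐ[A] MvPolynomial (Fin 9) A := AlgEquiv.ofAlgHom
    (MvPolynomial.aeval ![MvPolynomial.X 0, MvPolynomial.X 1 + MvPolynomial.X 6, MvPolynomial.X 2 + MvPolynomial.X 3,
      MvPolynomial.X 3, MvPolynomial.X 4 + MvPolynomial.X 0, MvPolynomial.X 5, MvPolynomial.X 6, MvPolynomial.X 7, MvPolynomial.X 8])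
    (MvPolynomial.aeval ![MvPolynomial.X 0, MvPolynomial.X 1 - MvPolynomial.X 6, MvPolynomial.X 2 - MvPolynomial.X 3,
      MvPolynomial.X 3, MvPolynomial.X 4 - MvPolynomial.X 0, MvPolynomial.X 5, MvPolynomial.X 6, MvPolynomial.X 7, MvPolynomial.X 8])
    (by ext j : 1; fin_cases j <;> simp) (by ext j : 1; fin_cases j <;> simp)
  constructor
  · refine reg (Lie3ModLib.coord A) ![Lie3Mod.L1 A, Lie3Mod.L2 A, Lie3Mod.L3 A]
      ![MvPolynomial.X 0, MvPolynomial.X 1, MvPolynomial.X 3] ?_ 1 ![0, 1, 3] 1 1 (by decide) ?_ ?_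
    · intro i
      fin_cases i <;> simp [(Lie3ModLib.coord_L A).1, (Lie3ModLib.coord_L A).2.1, (Lie3ModLib.coord_L A).2.2]
    · intro i
      fin_cases i <;> simp [MvPolynomial.X] <;> exact Groth.Agent.PurePowReg.lt_zero
    · intro i
      fin_cases i <;> simp [Lie3Mod.L1, Lie3Mod.L2, Lie3Mod.L3]
  · refine reg ((Lie3ModLib.coord A).trans σ) ![Lie3Mod.Q1 A, Lie3Mod.Q2 A, Lie3Mod.Q3 A]
      (σ ∘ ![Lie3ModLib.R₁ A, Lie3ModLib.R₂ A, Lie3ModLib.R₃ A]) ?_ ![3, 0, 0, 2, 0, 0, 2, 0, 0] ![6, 0, 3]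
      ![2, 2, 2] ![-1, -1, 1] (by decide) ?_ ?_
    · intro i
      fin_cases i <;> simp [Lie3ModLib.coord_Q1, Lie3ModLib.coord_Q2, Lie3ModLib.coord_Q3]
    · have hX : ∀ (n : ℕ) (j : Fin 9), (![3, 0, 0, 2, 0, 0, 2, 0, 0] : Fin 9 → ℕ) j < n →
          Groth.Agent.PurePowReg.Lt ![3, 0, 0, 2, 0, 0, 2, 0, 0] n (MvPolynomial.X j : MvPolynomial (Fin 9) A) :=
        fun n j h => Groth.Agent.PurePowReg.lt_monomial _ (by rwa [Groth.Agent.PurePowReg.weight_single_eq, one_mul])
      have hm : ∀ (n : ℕ) (i j : Fin 9), (![3, 0, 0, 2, 0, 0, 2, 0, 0] : Fin 9 → ℕ) i + ![3, 0, 0, 2, 0, 0, 2, 0, 0] j < n →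
          Groth.Agent.PurePowReg.Lt ![3, 0, 0, 2, 0, 0, 2, 0, 0] n (MvPolynomial.X i * MvPolynomial.X j : MvPolynomial (Fin 9) A) :=
        fun n i j h => Groth.Agent.PurePowReg.lt_mul (hX _ i (Nat.lt_succ_self _)) (hX _ j (Nat.lt_succ_self _)) (by omega)
      have hmon : ∀ (j : Fin 9) (c : A), MvPolynomial.monomial (Finsupp.single j 2) c =
          MvPolynomial.C c * MvPolynomial.X j ^ 2 := fun j c => (MvPolynomial.C_mul_X_pow_eq_monomial ..).symm
      intro i
      fin_cases i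
      · refine Eq.mpr (congrArg _ (?_ : _ = (MvPolynomial.X 7 * MvPolynomial.X 0 - MvPolynomial.X 6 * MvPolynomial.X 1
            + MvPolynomial.X 8 * MvPolynomial.X 3 : MvPolynomial (Fin 9) A))) ?_
        · simp [σ, hmon]; ring
        · exact ((hm _ _ _ (by decide)).sub (hm _ _ _ (by decide))).add (hm _ _ _ (by decide))
      · refine Eq.mpr (congrArg _ (?_ : _ = (-(MvPolynomial.X 4 * MvPolynomial.X 0) - MvPolynomial.X 7 * MvPolynomial.X 1
            - MvPolynomial.X 7 * MvPolynomial.X 6 + MvPolynomial.X 1 * MvPolynomial.X 3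
            + MvPolynomial.X 6 * MvPolynomial.X 3 - MvPolynomial.X 5 * MvPolynomial.X 3 : MvPolynomial (Fin 9) A))) ?_
        · simp [σ, hmon]; ring
        · exact (((((hm _ _ _ (by decide)).neg.sub (hm _ _ _ (by decide))).sub (hm _ _ _ (by decide))).add
            (hm _ _ _ (by decide))).add (hm _ _ _ (by decide))).sub (hm _ _ _ (by decide))
      · refine Eq.mpr (congrArg _ (?_ : _ = (-(MvPolynomial.X 5 * MvPolynomial.X 0) - MvPolynomial.X 8 * MvPolynomial.X 1
            - MvPolynomial.X 8 * MvPolynomial.X 6 + MvPolynomial.X 2 * MvPolynomial.X 3 : MvPolynomial (Fin 9) A))) ?_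
        · simp [σ, hmon]; ring
        · exact (((hm _ _ _ (by decide)).neg.sub (hm _ _ _ (by decide))).sub (hm _ _ _ (by decide))).add
            (hm _ _ _ (by decide))
    · intro i
      fin_cases i <;> simp [Lie3Mod.Q1, Lie3Mod.Q2, Lie3Mod.Q3]

end Groth.Agent.S13087
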