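import Groth.Statements.S13088
import Groth.Agent.Lie3ModL.Colon

set_option autoImplicit false
universe u
open Lie3Mod

namespace Groth.Agent.S13088

/-- Let A be a commutative domain and D = A[a,b,c,d,e,f,g,h,i]. Then the ideal L = (a − i, b + f, d + h)
of D is minimal among the prime ideals of D containing the Jacobi ideal I = (Q1, Q2, Q3), where Q1 =
ah + di − fg − bg, Q2 = ie + bd − fh − ae, Q3 = hc + dc − af − bi. (The published statement is made
with a regular base ring in force, used there as a domain; the printed argument uses only that the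
base ring is a domain, which is the hypothesis taken here.) -/
theorem result (A : Type u) [CommRing A] [IsDomain A] :
    Lie3Mod.idL A ∈ (Lie3Mod.idI A).minimalPrimes := by
  open Lie3ModLib MvPolynomial in
  rw [Ideal.minimalPrimes, Set.mem_setOf_eq]
  refine ⟨⟨Lie3ModLib.idL_eq_ker A ▸ RingHom.ker_isPrime _, by rw [Lie3ModLib.idI_eq_inf A]; exact inf_le_right⟩,
    fun q hq hle y hy => ?_⟩
  refine (hq.1.mem_or_mem (hq.2 (Lie3ModLib.mul_detM_mem A hy))).resolve_right fun hd => ?_
  have h0 := hle hd
  rw [Lie3ModLib.idL_eq_ker, RingHom.mem_ker] at h0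
  have := congrArg (MvPolynomial.eval ![(0 : A), 0, -1, 0, 0, 0, 0, 1, 0]) h0
  simp [Lie3ModLib.killL, Lie3ModLib.coord_detM, Lie3ModLib.kill] at this

end Groth.Agent.S13088
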