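import Groth.Statements.S13095
import Groth.Agent.Lie3ModL.Main

set_option autoImplicit false
open Lie3Mod

namespace Groth.Agent.S13095

/-- The moduli scheme of based three-dimensional Lie algebras is flat over the integers and reduced:
with I = (Q1, Q2, Q3) the Jacobi ideal of Z[a,b,c,d,e,f,g,h,i] (Q1 = ah + di − fg − bg, Q2 = ie + bd
− fh − ae, Q3 = hc + dc − af − bi), the ring Z[a,b,c,d,e,f,g,h,i]/I is a flat Z-module and I is a
radical ideal. -/
theorem result :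
    Module.Flat ℤ (Lie3Mod.D ℤ ⧸ Lie3Mod.idI ℤ) ∧ (Lie3Mod.idI ℤ).IsRadical := by
  refine ⟨?_, Lie3ModLib.idI_isRadical ℤ⟩
  rw [IsDedekindDomain.flat_iff_torsion_eq_bot, eq_bot_iff]
  intro x hx
  obtain ⟨y, rfl⟩ := Ideal.Quotient.mk_surjective x
  obtain ⟨⟨n, hn⟩, h⟩ := (Submodule.mem_torsion_iff _).mp hx
  rw [Submodule.mem_bot, Ideal.Quotient.eq_zero_iff_mem]
  refine Lie3ModLib.intCast_mem_idI ℤ (nonZeroDivisors.ne_zero hn) (n := n) ?_
  rw [← Ideal.Quotient.eq_zero_iff_mem, ← MvPolynomial.smul_eq_C_mul]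
  exact h

end Groth.Agent.S13095
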