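import Groth.Statements.S13096
import Mathlib.RingTheory.FinitePresentation
import Mathlib.RingTheory.Finiteness.Basic
import Mathlib.RingTheory.Noetherian.Orzech
import Mathlib.RingTheory.FiniteType
-- import your own Groth.Agent.* helpers here

set_option autoImplicit false
universe u v
open CAlg

namespace Groth.Agent.S13096

/-- Let R be a commutative ring and R' a commutative R-algebra of finite presentation. Then every
surjective R-algebra endomorphism α : R' → R' is bijective (an automorphism). -/
theorem result (R : Type u) [CommRing R]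
    (R' : Type v) [CommRing R'] [Algebra R R'] [Algebra.FinitePresentation R R']
    (α : R' →ₐ[R] R') (hα : Function.Surjective α) : Function.Bijective α := by
  classical
  refine ⟨(injective_iff_map_eq_zero α).mpr fun y hy => ?_, hα⟩
  haveI : Algebra.FiniteType R R' := inferInstance
  obtain ⟨G, hG⟩ : (⊤ : Subalgebra R R').FG := Algebra.FiniteType.out
  -- finitely many coefficients describe `α`, a section on the generators, and `y`
  have expand : ∀ z : R', ∃ C : Finset R, z ∈ Algebra.adjoin ℤ (((algebraMap R R') '' C) ∪ (G : Set R')) := by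
    intro z
    have hz : z ∈ Algebra.adjoin R (G : Set R') := hG ▸ Algebra.mem_top
    induction hz using Algebra.adjoin_induction with
    | mem w hw => exact ⟨∅, Algebra.subset_adjoin (Or.inr hw)⟩
    | algebraMap r => exact ⟨{r}, Algebra.subset_adjoin (Or.inl ⟨r, Finset.mem_singleton_self r, rfl⟩)⟩
    | add a b _ _ ha hb =>
      obtain ⟨C, hC⟩ := ha
      obtain ⟨D, hD⟩ := hb
      exact ⟨C ∪ D, add_mem (Algebra.adjoin_mono (Set.union_subset_union_left _ (Set.image_mono (Finset.coe_subset.mpr Finset.subset_union_left))) hC)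
        (Algebra.adjoin_mono (Set.union_subset_union_left _ (Set.image_mono (Finset.coe_subset.mpr Finset.subset_union_right))) hD)⟩
    | mul a b _ _ ha hb =>
      obtain ⟨C, hC⟩ := ha
      obtain ⟨D, hD⟩ := hb
      exact ⟨C ∪ D, mul_mem (Algebra.adjoin_mono (Set.union_subset_union_left _ (Set.image_mono (Finset.coe_subset.mpr Finset.subset_union_left))) hC)
        (Algebra.adjoin_mono (Set.union_subset_union_left _ (Set.image_mono (Finset.coe_subset.mpr Finset.subset_union_right))) hD)⟩
  choose C hC using expand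
  choose s hs using hα
  let C0 : Finset R := C y ∪ (G.biUnion fun t => C (α t) ∪ C (s t))
  let T : Subalgebra ℤ R' := Algebra.adjoin ℤ (((algebraMap R R') '' C0) ∪ (G : Set R'))
  have up : ∀ z, C z ⊆ C0 → z ∈ T := fun z hz =>
    Algebra.adjoin_mono (Set.union_subset_union_left _ (Set.image_mono (Finset.coe_subset.mpr hz))) (hC z)
  have hyT : y ∈ T := up y Finset.subset_union_left
  have hsub : ∀ t ∈ G, C (α t) ⊆ C0 ∧ C (s t) ⊆ C0 := fun t ht => by
    constructor <;> intro c hc <;> refine Finset.mem_union_right _ (Finset.mem_biUnion.mpr ⟨t, ht, ?_⟩)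
    · exact Finset.mem_union_left _ hc
    · exact Finset.mem_union_right _ hc
  let αℤ : R' →ₐ[ℤ] R' := α.toRingHom.toIntAlgHom
  have hαT : T ≤ T.comap αℤ := Algebra.adjoin_le (by
    rintro w (⟨c, hc, rfl⟩ | hw)
    · show α (algebraMap R R' c) ∈ T
      rw [α.commutes]
      exact Algebra.subset_adjoin (Or.inl ⟨c, hc, rfl⟩)
    · exact up _ (hsub w hw).1)
  let β : T →+* T := ((αℤ.comp T.val).codRestrict T fun w => hαT w.2).toRingHom
  have hTle : T ≤ T.map αℤ := Algebra.adjoin_le (by
    rintro w (⟨c, hc, rfl⟩ | hw)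
    · exact ⟨algebraMap R R' c, Algebra.subset_adjoin (Or.inl ⟨c, hc, rfl⟩), α.commutes c⟩
    · exact ⟨s w, up _ (hsub w hw).2, hs w⟩)
  have hβ : Function.Surjective β := fun w => by
    obtain ⟨v, hv, hvw⟩ := hTle w.2
    exact ⟨⟨v, hv⟩, Subtype.ext hvw⟩
  haveI : Algebra.FiniteType ℤ T := (Subalgebra.fg_iff_finiteType T).mp
    (Subalgebra.fg_adjoin_finset (R := ℤ) (C0.image (algebraMap R R') ∪ G) |> fun h => by simpa [T] using h)
  haveI : IsNoetherianRing T := Algebra.FiniteType.isNoetherianRing ℤ T
  -- the kernels of the iterates stabilise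
  obtain ⟨n, hn⟩ := monotone_stabilizes_iff_noetherian.mpr (inferInstance : IsNoetherian T T)
    ⟨fun i => RingHom.ker (β ^ i : T →+* T), monotone_nat_of_le_succ fun i z hz => by
      rw [RingHom.mem_ker] at hz ⊢
      rw [pow_succ', RingHom.mul_def, RingHom.comp_apply, hz, map_zero]⟩
  obtain ⟨z, hz⟩ : ∃ z, (β ^ n) z = ⟨y, hyT⟩ := by
    rw [RingHom.coe_pow]
    exact hβ.iterate n _
  have : z ∈ RingHom.ker (β ^ (n + 1) : T →+* T) := by
    rw [RingHom.mem_ker, pow_succ', RingHom.mul_def, RingHom.comp_apply, hz]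
    exact Subtype.ext hy
  rw [show RingHom.ker (β ^ (n + 1) : T →+* T) = RingHom.ker (β ^ n : T →+* T) from (hn (n + 1) (Nat.le_succ n)).symm, RingHom.mem_ker, hz] at this
  exact congrArg Subtype.val this

end Groth.Agent.S13096
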