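import Groth.Statements.S13097
import Groth.Agent.S0415
import Groth.Agent.S0416
import Mathlib.AlgebraicGeometry.Morphisms.Integral
import Mathlib.AlgebraicGeometry.Morphisms.UniversallyInjective

set_option autoImplicit false
universe u
open FlatMor

namespace Groth.Agent.S13097

open CategoryTheory AlgebraicGeometry in
/-- Let f : X → S be a quasi-compact, separated morphism of schemes with a section e : S → X (e followed
by f is the identity of S), and U ⊆ S an open subscheme such that f⁻¹(U) is schematically dense in X
(for every open V of X, restriction of functions from V to V ∩ f⁻¹(U) is injective) and such that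
the restriction f⁻¹(U) → U of f is a homeomorphism of underlying spaces. Then f is universally a
homeomorphism (every base change of f is a homeomorphism), and f is finite as soon as it is locally
of finite type. (The published statement also lists surjectivity of f, which a section forces, and
offers as an alternative to the section the hypothesis that f be flat, still with f⁻¹(U) → U only a
homeomorphism; that flat alternative fails: the spectrum of a separable quadratic field extension
over the spectrum of the ground field, with U the whole base, is flat, surjective, quasi-compact,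
separated and a homeomorphism over U, yet not universally injective. Only the case of a section,
whose published proof is complete, is stated here.) -/
theorem result {X S : Scheme.{u}} (f : X ⟶ S)
    [QuasiCompact f] [IsSeparated f] (U : S.Opens)
    (hdense : CInt.IsSchematicallyDense (f ⁻¹ᵁ U)) (hU : IsHomeomorph (f ∣_ U).base)
    (e : S ⟶ X) (he : e ≫ f = 𝟙 S) :
    FlatMor.IsUnivHomeo f ∧ (LocallyOfFiniteType f → IsFinite f) := by
  haveI : IsClosedImmersion e := by
    haveI : IsClosedImmersion (e ≫ f) := by rw [he]; infer_instance
    exact IsClosedImmersion.of_comp e f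
  have hD : Dense ((f ⁻¹ᵁ U : X.Opens) : Set X) := by
    refine dense_iff_inter_open.2 fun V hV ⟨x, hx⟩ => ?_
    by_contra hne
    let V' : X.Opens := ⟨V, hV⟩
    have hbot : V' ⊓ f ⁻¹ᵁ U = ⊥ := TopologicalSpace.Opens.ext (Set.not_nonempty_iff_eq_empty.1 hne)
    haveI : Subsingleton Γ(X, V' ⊓ f ⁻¹ᵁ U) := by rw [hbot]; infer_instance
    haveI : Subsingleton Γ(X, V') := (hdense V').subsingleton
    haveI : Subsingleton (X.presheaf.stalk x) := by
      refine subsingleton_of_zero_eq_one ?_
      rw [← map_zero (X.presheaf.germ V' x hx).hom, ← map_one (X.presheaf.germ V' x hx).hom,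
        Subsingleton.elim (0 : Γ(X, V')) 1]
    exact false_of_nontrivial_of_subsingleton (X.presheaf.stalk x)
  haveI : Surjective e := by
    refine ⟨fun x => ?_⟩
    have hsub : ((f ⁻¹ᵁ U : X.Opens) : Set X) ⊆ Set.range e.base := fun z hz => by
      have h1 : e.base (f.base z) ∈ f ⁻¹ᵁ U := by
        show (e ≫ f).base (f.base z) ∈ U
        rw [he]
        exact hz
      have := hU.injective (a₁ := (⟨_, h1⟩ : (f ⁻¹ᵁ U : X.Opens))) (a₂ := ⟨z, hz⟩) (Subtype.ext (by
        simp only [morphismRestrict_base]
        show (e ≫ f).base (f.base z) = f.base z
        rw [he]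
        rfl))
      exact ⟨_, congrArg Subtype.val this⟩
    have := (e.isClosedEmbedding.isClosed_range.closure_subset_iff.2 hsub) (hD x)
    exact this
  have he' : FlatMor.IsUnivHomeo e := (Groth.Agent.S0415.result e).2 ⟨inferInstance, inferInstance, ‹_›⟩
  have hid : FlatMor.IsUnivHomeo (e ≫ f) := by
    rw [he]
    exact (Groth.Agent.S0415.result _).2 ⟨inferInstance, inferInstance, inferInstance⟩
  have hf := (Groth.Agent.S0416.result e f).1 hid he'
  refine ⟨hf, fun _ => ?_⟩
  haveI := ((Groth.Agent.S0415.result f).1 hf).1
  exact (IsFinite.iff_isIntegralHom_and_locallyOfFiniteType f).2 ⟨‹_›, ‹_›⟩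

end Groth.Agent.S13097
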