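import Groth.Statements.S13098
import Mathlib

-- import your own Groth.Agent.* helpers here

set_option autoImplicit false
universe u v
open Lie3Mod

namespace Groth.Agent.S13098

/-- Let R be a commutative ring, M an R-module with a basis x = bs 0, y = bs 1, z = bs 2 indexed by Fin
3, and B an R-bilinear alternating map on M (B m m = 0) with B x y = a x + b y + c z, B x z = d x +
e y + f z and B y z = g x + h y + i z. Then B satisfies the Jacobi identity for all triples if and
only if the three Jacobi polynomials vanish: ah + di − fg − bg = 0, ie + bd − fh − ae = 0 and hc +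
dc − af − bi = 0. (This is the statement that Lie brackets on a based free module of rank 3 are the
points of the closed subscheme of affine 9-space defined by these three equations.) -/
theorem result (R : Type u) [CommRing R] (M : Type v) [AddCommGroup M] [Module R M]
    (bs : Module.Basis (Fin 3) R M) (B : M →ₗ[R] M →ₗ[R] M) (halt : ∀ m : M, B m m = 0)
    (a b c d e f g h i : R)
    (hxy : B (bs 0) (bs 1) = a • bs 0 + b • bs 1 + c • bs 2)
    (hxz : B (bs 0) (bs 2) = d • bs 0 + e • bs 1 + f • bs 2)
    (hyz : B (bs 1) (bs 2) = g • bs 0 + h • bs 1 + i • bs 2) :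
    (∀ u v w : M, B u (B v w) + B v (B w u) + B w (B u v) = 0) ↔
      (a * h + d * i - f * g - b * g = 0 ∧ i * e + b * d - f * h - a * e = 0 ∧
        h * c + d * c - a * f - b * i = 0) := by
  have anti : ∀ u v, B u v = -B v u := fun u v => by
    have := halt (u + v)
    simp only [map_add, LinearMap.add_apply, halt, zero_add, add_zero] at this
    exact eq_neg_of_add_eq_zero_right this
  have hyx := anti (bs 1) (bs 0); have hzx := anti (bs 2) (bs 0); have hzy := anti (bs 2) (bs 1)
  rw [hxy] at hyx; rw [hxz] at hzx; rw [hyz] at hzy
  have hJ : B (bs 0) (B (bs 1) (bs 2)) + B (bs 1) (B (bs 2) (bs 0)) + B (bs 2) (B (bs 0) (bs 1)) =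
      (-(g * b) + a * h + d * i - g * f) • bs 0 + (-(a * e) + b * d + i * e - h * f) • bs 1
        + (-(a * f) + h * c + d * c - b * i) • bs 2 := by
    simp only [hyz, hzx, hxy, map_add, map_smul, map_neg, hxz, hyx, hzy, halt, smul_zero, add_zero, zero_add, neg_zero]
    module
  constructor
  · intro H
    have h0 := H (bs 0) (bs 1) (bs 2)
    rw [hJ] at h0
    have hc := Fintype.linearIndependent_iff.mp bs.linearIndependent
      ![-(g * b) + a * h + d * i - g * f, -(a * e) + b * d + i * e - h * f, -(a * f) + h * c + d * c - b * i]
      (by simpa [Fin.sum_univ_three] using h0)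
    refine ⟨?_, ?_, ?_⟩
    · have := hc 0; simp at this; linear_combination this
    · have := hc 1; simp at this; linear_combination this
    · have := hc 2; simp at this; linear_combination this
  · rintro ⟨h1, h2, h3⟩ u v w
    have q1 : -(g * b) + a * h + d * i - g * f = 0 := by linear_combination h1
    have q2 : -(a * e) + b * d + i * e - h * f = 0 := by linear_combination h2
    have q3 : -(a * f) + h * c + d * c - b * i = 0 := by linear_combination h3
    rw [q1, q2, q3] at hJ
    simp only [zero_smul, add_zero] at hJ
    rw [← bs.sum_repr u, ← bs.sum_repr v, ← bs.sum_repr w]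
    set U := bs.repr u; set V := bs.repr v; set W := bs.repr w
    simp only [Fin.sum_univ_three]
    simp only [map_add, map_smul, LinearMap.add_apply, LinearMap.smul_apply, anti (bs 1) (bs 0), anti (bs 2) (bs 0),
      anti (bs 2) (bs 1), halt, smul_zero, add_zero, zero_add, map_neg]
    have hJ' : B (bs 0) (B (bs 1) (bs 2)) - B (bs 1) (B (bs 0) (bs 2)) + B (bs 2) (B (bs 0) (bs 1)) = 0 := by
      rw [← hJ, anti (bs 2) (bs 0), map_neg, sub_eq_add_neg]
    linear_combination (norm := module) (U 0 * (V 1 * W 2 - V 2 * W 1) - U 1 * (V 0 * W 2 - V 2 * W 0) + U 2 * (V 0 * W 1 - V 1 * W 0)) • hJ'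

end Groth.Agent.S13098
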