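import Groth.Statements.S13099
import Mathlib.RingTheory.MvPolynomial.Ideal
import Mathlib.RingTheory.MvPolynomial.Basic
import Mathlib.Algebra.Polynomial.Taylor
import Mathlib.Algebra.Polynomial.HasseDeriv
import Mathlib.Data.ZMod.Basic
import Mathlib.Data.Nat.Choose.Lucas
import Mathlib.Algebra.CharP.Basic
import Mathlib.Algebra.CharP.Lemmas
import Mathlib.Tactic.LinearCombination
-- import your own Groth.Agent.* helpers here

set_option autoImplicit false
universe u
open GrpSch

open Polynomial

namespace Groth.Agent.S13099

open Polynomial in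
/-- Let p be a prime and A a commutative ring of characteristic p, and consider the infinitesimal group
scheme Spec A[X]/(X^{p²}) with the additive group law. In coordinates: (1) a polynomial q ∈ A[X] of
degree less than p² satisfies q(Y + Z) − q(Y) − q(Z) ∈ (Y^{p²}, Z^{p²}) in A[Y, Z] (that is, X ↦ q
respects the comultiplication) if and only if q = a₁ X + a_p X^p for some a₁, a_p ∈ A; (2) an
A-algebra endomorphism of A[X]/(X^{p²}) that sends the class of X to the class of a₁ X + a_p X^p is
bijective if and only if a₁ is a unit of A. (The printed statement is that the automorphism group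
scheme of this group scheme is the semidirect product of the additive group by the multiplicative
group, v acting on u by v^{p−1}u; this row records the two computations it consists of, in
coordinates.) -/
theorem result (p : ℕ) [Fact p.Prime] (A : Type u) [CommRing A] [CharP A p] :
    (∀ q : A[X], q.natDegree < p ^ 2 →
      (Polynomial.aeval (MvPolynomial.X 0 + MvPolynomial.X 1 : MvPolynomial (Fin 2) A) q -
            Polynomial.aeval (MvPolynomial.X 0 : MvPolynomial (Fin 2) A) q -
            Polynomial.aeval (MvPolynomial.X 1 : MvPolynomial (Fin 2) A) q ∈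
          Ideal.span ({MvPolynomial.X 0 ^ p ^ 2, MvPolynomial.X 1 ^ p ^ 2} : Set (MvPolynomial (Fin 2) A)) ↔
        ∃ a₁ ap : A, q = Polynomial.C a₁ * X + Polynomial.C ap * X ^ p)) ∧
    (∀ (a₁ ap : A) (φ : (A[X] ⧸ Ideal.span ({X ^ p ^ 2} : Set A[X])) →ₐ[A] (A[X] ⧸ Ideal.span ({X ^ p ^ 2} : Set A[X]))),
      φ (Ideal.Quotient.mk (Ideal.span ({X ^ p ^ 2} : Set A[X])) X) =
          Ideal.Quotient.mk (Ideal.span ({X ^ p ^ 2} : Set A[X])) (Polynomial.C a₁ * X + Polynomial.C ap * X ^ p) →
        (Function.Bijective φ ↔ IsUnit a₁)) := by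
  
  have hp : p.Prime := Fact.out
  refine ⟨fun q hq => ⟨fun hmem => ?_, ?_⟩, ?_⟩
  · -- the difference vanishes
    have hdeg : ∀ v : MvPolynomial (Fin 2) A, v.totalDegree ≤ 1 →
        (Polynomial.aeval v q).totalDegree ≤ q.natDegree := by
      intro v hv
      rw [Polynomial.aeval_eq_sum_range]
      refine MvPolynomial.totalDegree_finsetSum_le fun i hi => ?_
      refine (MvPolynomial.totalDegree_smul_le _ _).trans ((MvPolynomial.totalDegree_pow _ _).trans ?_)
      have : i ≤ q.natDegree := by simpa [Nat.lt_succ_iff] using hi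
      exact (Nat.mul_le_mul_left i hv).trans (by omega)
    set D := Polynomial.aeval (MvPolynomial.X 0 + MvPolynomial.X 1 : MvPolynomial (Fin 2) A) q -
            Polynomial.aeval (MvPolynomial.X 0 : MvPolynomial (Fin 2) A) q -
            Polynomial.aeval (MvPolynomial.X 1 : MvPolynomial (Fin 2) A) q with hD
    have hX : ∀ i : Fin 2, (MvPolynomial.X i : MvPolynomial (Fin 2) A).totalDegree ≤ 1 := by
      intro i
      rcases subsingleton_or_nontrivial A with h | h
      · rw [Subsingleton.elim (MvPolynomial.X i : MvPolynomial (Fin 2) A) 0, MvPolynomial.totalDegree_zero]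
        exact Nat.zero_le _
      · rw [MvPolynomial.totalDegree_X]
    have hDdeg : D.totalDegree < p ^ 2 := by
      refine lt_of_le_of_lt ?_ hq
      refine (MvPolynomial.totalDegree_sub _ _).trans (max_le ((MvPolynomial.totalDegree_sub _ _).trans (max_le ?_ ?_)) ?_)
      · exact hdeg _ ((MvPolynomial.totalDegree_add _ _).trans (max_le (hX 0) (hX 1)))
      · exact hdeg _ (hX 0)
      · exact hdeg _ (hX 1)
    have hD0 : D = 0 := by
      have hset : ({MvPolynomial.X 0 ^ p ^ 2, MvPolynomial.X 1 ^ p ^ 2} : Set (MvPolynomial (Fin 2) A)) =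
          (fun s => MvPolynomial.monomial s (1 : A)) '' {Finsupp.single 0 (p ^ 2), Finsupp.single 1 (p ^ 2)} := by
        simp [Set.image_pair, MvPolynomial.X_pow_eq_monomial]
      rw [hset, MvPolynomial.mem_ideal_span_monomial_image] at hmem
      rw [← MvPolynomial.support_eq_empty, Finset.eq_empty_iff_forall_notMem]
      intro d hd
      obtain ⟨s, hs, hsd⟩ := hmem d hd
      have h1 := MvPolynomial.le_totalDegree hd
      have h2 : p ^ 2 ≤ d.sum fun _ e => e := by
        rcases hs with rfl | rfl
        · have h3 : p ^ 2 ≤ d 0 := by simpa using hsd 0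
          rw [Finsupp.sum_fintype _ _ (fun _ => rfl), Fin.sum_univ_two]; omega
        · have h3 : p ^ 2 ≤ d 1 := by simpa using hsd 1
          rw [Finsupp.sum_fintype _ _ (fun _ => rfl), Fin.sum_univ_two]; omega
      omega
    -- pass to A[X][X]
    let θ : MvPolynomial (Fin 2) A →ₐ[A] Polynomial (Polynomial A) :=
      MvPolynomial.aeval ![Polynomial.C Polynomial.X, Polynomial.X]
    have hθ : ∀ w, θ (Polynomial.aeval w q) = (q.map (Polynomial.C : A →+* Polynomial A)).comp (θ w) := by
      intro w
      rw [← Polynomial.aeval_algHom_apply, Polynomial.comp, Polynomial.eval₂_map, Polynomial.aeval_def]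
      rfl
    have hT : Polynomial.taylor (Polynomial.X : Polynomial A) (q.map Polynomial.C) =
        Polynomial.C q + q.map Polynomial.C := by
      have h := congrArg θ hD0
      rw [hD, map_sub, map_sub, map_zero, hθ, hθ, hθ, sub_sub, sub_eq_zero] at h
      simp only [θ, map_add, MvPolynomial.aeval_X, Matrix.cons_val_zero, Matrix.cons_val_one,
        Polynomial.comp_X] at h
      rw [Polynomial.taylor_apply, add_comm (Polynomial.X : Polynomial (Polynomial A)), h]
      congr 1
      rw [Polynomial.comp, Polynomial.eval₂_map]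
      have : ((Polynomial.C).comp (Polynomial.C : A →+* Polynomial A)) =
          (Polynomial.C : Polynomial A →+* Polynomial (Polynomial A)).comp Polynomial.C := rfl
      rw [← Polynomial.hom_eval₂, Polynomial.eval₂_C_X]
    have hkey : ∀ i n : ℕ, 1 ≤ i → 1 ≤ n → ((n + i).choose i : A) * q.coeff (n + i) = 0 := by
      intro i n hi hn
      have hh : Polynomial.hasseDeriv i (q.map (Polynomial.C : A →+* Polynomial A)) =
          (Polynomial.hasseDeriv i q).map Polynomial.C := by
        ext m : 1
        simp [Polynomial.hasseDeriv_coeff]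
      have h := congrArg (fun f => Polynomial.coeff f i) hT
      simp only [Polynomial.taylor_coeff, hh, Polynomial.eval_map, Polynomial.eval₂_C_X,
        Polynomial.coeff_add, Polynomial.coeff_map] at h
      rw [Polynomial.coeff_C, if_neg (by omega), zero_add] at h
      have h' := congrArg (fun f => Polynomial.coeff f n) h
      simpa [Polynomial.hasseDeriv_coeff, Polynomial.coeff_C, show n ≠ 0 by omega] using h'
    have h0 : q.coeff 0 = 0 := by
      have h := congrArg (fun f => Polynomial.coeff (Polynomial.coeff f 0) 0) hT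
      simp [Polynomial.taylor_coeff_zero, Polynomial.eval_map] at h
      simpa using h
    refine ⟨q.coeff 1, q.coeff p, ?_⟩
    ext n
    rcases eq_or_ne n 1 with rfl | hn1
    · simp [Polynomial.coeff_X_pow, hp.ne_one.symm]
    rcases eq_or_ne n p with rfl | hnp
    · simp [Polynomial.coeff_X, hp.ne_one.symm, hn1]
    have hz : q.coeff n = 0 := by
      rcases Nat.eq_zero_or_pos n with rfl | hn0
      · exact h0
      rcases le_or_gt (p ^ 2) n with hbig | hsmall
      · exact Polynomial.coeff_eq_zero_of_natDegree_lt (by omega)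
      have hu : ∀ m : ℕ, ¬ p ∣ m → IsUnit (m : A) := by
        intro m hm
        exact (ZMod.unitOfCoprime m ((Nat.coprime_comm.1 (hp.coprime_iff_not_dvd.2 hm)))).map
          (ZMod.castHom dvd_rfl A).toMonoidHom |>.isUnit |> fun h => by simpa using h
      by_cases hd : p ∣ n
      · obtain ⟨m, rfl⟩ := hd
        have hm0 : 0 < m := Nat.pos_of_ne_zero fun h => by simp [h] at hn0
        have hm1 : m ≠ 1 := fun h => hnp (by simp [h])
        have hmp : m < p := by
          rw [pow_two] at hsmall
          exact Nat.lt_of_mul_lt_mul_left hsmall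
        have hC : (p * m).choose p ≡ m [MOD p] := by
          have h := Choose.choose_modEq_choose_mod_mul_choose_div_nat (p := p) (n := p * m) (k := p)
          simpa [Nat.mul_mod_right, Nat.mul_div_cancel_left _ hp.pos, Nat.div_self hp.pos] using h
        have hlt : p < p * m := lt_mul_of_one_lt_right hp.pos (by omega)
        have h := hkey p (p * m - p) hp.one_le (by omega)
        rw [show p * m - p + p = p * m by omega, (CharP.natCast_eq_natCast A p).2 hC] at h
        exact (hu m (fun h' => absurd (Nat.le_of_dvd hm0 h') (by omega))).mul_right_eq_zero.1 h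
      · have h := hkey 1 (n - 1) le_rfl (by omega)
        rw [show n - 1 + 1 = n by omega, Nat.choose_one_right] at h
        exact (hu n hd).mul_right_eq_zero.1 h
    simp [Polynomial.coeff_X, Polynomial.coeff_X_pow, hz, hnp, Ne.symm hn1]
  · rintro ⟨a₁, ap, rfl⟩
    convert Ideal.zero_mem _
    haveI : CharP (MvPolynomial (Fin 2) A) p := inferInstance
    simp only [map_add, map_mul, map_pow, Polynomial.aeval_X, Polynomial.aeval_C, add_pow_char]
    ring
  · intro a₁ ap
    set I := Ideal.span ({Polynomial.X ^ p ^ 2} : Set (Polynomial A)) with hI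
    intro φ hφ
    have hx : (Ideal.Quotient.mk I Polynomial.X) ^ p ^ 2 = 0 := by
      rw [← map_pow, Ideal.Quotient.eq_zero_iff_mem]
      exact Ideal.subset_span rfl
    have hCm : ∀ a : A, Ideal.Quotient.mk I (Polynomial.C a) = algebraMap A (Polynomial A ⧸ I) a := fun a => rfl
    have h2 : 2 ≤ p ^ 2 := le_trans hp.two_le (Nat.le_self_pow two_ne_zero p)
    refine ⟨fun hbij => ?_, fun ha => ?_⟩
    · obtain ⟨y, hy⟩ := hbij.2 (Ideal.Quotient.mk I Polynomial.X)
      obtain ⟨r, rfl⟩ := Ideal.Quotient.mk_surjective y
      have h : φ (Ideal.Quotient.mk I r) = Ideal.Quotient.mk I (r.comp (Polynomial.C a₁ * Polynomial.X + Polynomial.C ap * Polynomial.X ^ p)) := by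
        have e : φ.comp (Ideal.Quotient.mkₐ A I) = (Ideal.Quotient.mkₐ A I).comp
            (Polynomial.aeval (Polynomial.C a₁ * Polynomial.X + Polynomial.C ap * Polynomial.X ^ p)) := by
          refine Polynomial.algHom_ext ?_
          simpa using hφ
        have := DFunLike.congr_fun e r
        simpa [Polynomial.comp, Polynomial.aeval_def] using this
      rw [h, Ideal.Quotient.eq, hI, Ideal.mem_span_singleton] at hy
      rw [Polynomial.X_pow_dvd_iff] at hy
      have h1 := hy 1 (by omega)
      rw [Polynomial.coeff_sub, sub_eq_zero, Polynomial.coeff_X_one] at h1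
      -- linear coefficient of the composite
      have key : ∀ f : Polynomial A, f.coeff 0 = 0 → ∀ n, (f ^ n).coeff 1 = if n = 1 then f.coeff 1 else 0 := by
        intro f hf n
        obtain ⟨g, rfl⟩ := Polynomial.X_dvd_iff.2 hf
        rw [mul_pow, Polynomial.coeff_X_pow_mul']
        rcases n with _ | _ | n <;> simp [Polynomial.coeff_X_mul, Polynomial.coeff_one]
      have h0 : (Polynomial.C a₁ * Polynomial.X + Polynomial.C ap * Polynomial.X ^ p).coeff 0 = 0 := by
        simp [hp.ne_zero.symm, Polynomial.coeff_X_pow]
      have hc1 : (Polynomial.C a₁ * Polynomial.X + Polynomial.C ap * Polynomial.X ^ p).coeff 1 = a₁ := by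
        simp [hp.ne_one.symm, Polynomial.coeff_X_pow]
      rw [Polynomial.comp, Polynomial.eval₂_eq_sum, Polynomial.coeff_sum] at h1
      simp only [Polynomial.coeff_C_mul, key _ h0, mul_ite, mul_zero, hc1] at h1
      refine IsUnit.of_mul_eq_one (r.coeff 1) ?_
      rw [mul_comm]
      rw [← h1, Polynomial.sum_def]
      simp only [Finset.sum_ite_eq', Polynomial.mem_support_iff, ne_eq]
      by_cases hr : r.coeff 1 = 0 <;> simp [hr]
    · obtain ⟨u, rfl⟩ := ha
      set b : A := ↑u⁻¹ with hb
      set c : A := -(ap * b ^ p * b) with hc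
      set x := Ideal.Quotient.mk I Polynomial.X with hxdef
      have hpp : (x ^ p) ^ p = 0 := by rw [← pow_mul, ← pow_two, hx]
      have hkill : (algebraMap A _ b * x + algebraMap A _ c * x ^ p) ^ p ^ 2 = 0 := by
        have : algebraMap A (Polynomial A ⧸ I) b * x + algebraMap A _ c * x ^ p =
            x * (algebraMap A _ b + algebraMap A _ c * x ^ (p - 1)) := by
          rw [mul_add, mul_left_comm, ← pow_succ', Nat.sub_add_cancel hp.one_le, mul_comm x]
        rw [this, mul_pow, hx, zero_mul]
      let ψ : (Polynomial A ⧸ I) →ₐ[A] (Polynomial A ⧸ I) :=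
        Ideal.Quotient.liftₐ I (Polynomial.aeval (algebraMap A _ b * x + algebraMap A _ c * x ^ p)) (by
          intro f hf
          rw [hI, Ideal.mem_span_singleton] at hf
          obtain ⟨g, rfl⟩ := hf
          rw [map_mul, map_pow, Polynomial.aeval_X, hkill, zero_mul])
      have hψ : ψ x = algebraMap A _ b * x + algebraMap A _ c * x ^ p := by
        show Ideal.Quotient.liftₐ I _ _ (Ideal.Quotient.mk I Polynomial.X) = _
        simp
      have hφx : φ x = algebraMap A _ (u : A) * x + algebraMap A _ ap * x ^ p := by
        rw [hxdef, hφ, map_add, map_mul, map_mul, map_pow, hCm, hCm]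
      have hext : ∀ χ : (Polynomial A ⧸ I) →ₐ[A] (Polynomial A ⧸ I), χ x = x → ∀ z, χ z = z := by
        intro χ hχ z
        obtain ⟨r, rfl⟩ := Ideal.Quotient.mk_surjective z
        have e : χ.comp (Ideal.Quotient.mkₐ A I) = Ideal.Quotient.mkₐ A I :=
          Polynomial.algHom_ext (by simpa using hχ)
        exact DFunLike.congr_fun e r
      have hpow : ∀ s t : Polynomial A ⧸ I, (s + t) ^ p = s ^ p + t ^ p := by
        intro s t
        obtain ⟨s, rfl⟩ := Ideal.Quotient.mk_surjective s
        obtain ⟨t, rfl⟩ := Ideal.Quotient.mk_surjective t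
        rw [← map_add, ← map_pow, add_pow_char, map_add, map_pow, map_pow]
      have hub : algebraMap A (Polynomial A ⧸ I) (u : A) * algebraMap A _ b = 1 := by
        rw [← map_mul, hb, Units.mul_inv, map_one]
      have hcd : algebraMap A (Polynomial A ⧸ I) c =
          -(algebraMap A _ ap * algebraMap A _ b ^ p * algebraMap A _ b) := by
        rw [hc, map_neg, map_mul, map_mul, map_pow]
      refine Function.bijective_iff_has_inverse.2 ⟨ψ, fun z => hext (ψ.comp φ) ?_ z, fun z => hext (φ.comp ψ) ?_ z⟩
      · simp only [AlgHom.comp_apply, hφx, map_add, map_mul, map_pow, AlgHom.commutes, hψ, hpow, mul_pow, hpp, hcd]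
        linear_combination (x - algebraMap A _ ap * algebraMap A _ b ^ p * x ^ p) * hub
      · simp only [AlgHom.comp_apply, hφx, map_add, map_mul, map_pow, AlgHom.commutes, hψ, hpow, mul_pow, hpp, hcd, map_neg]
        have hubp : algebraMap A (Polynomial A ⧸ I) (u : A) ^ p * algebraMap A _ b ^ p = 1 := by
          rw [← mul_pow, hub, one_pow]
        linear_combination x * hub - algebraMap A _ ap * algebraMap A _ b * x ^ p * hubp


end Groth.Agent.S13099
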