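import Mathlib

set_option autoImplicit false
universe u

namespace Groth.Agent.SqrtPSLib

/-- coefficients of a square root of a power series with constant term `s ^ 2` -/
noncomputable def coef {k : Type u} [Field k] (g : ℕ → k) (s : k) : ℕ → k
  | 0 => s
  | n + 1 => (g (n + 1) - ∑ i : Fin n, coef g s (i + 1) * coef g s (n - i)) / (2 * s)
  decreasing_by
    all_goals omega

theorem exists_sq (k : Type u) [Field k] [IsAlgClosed k] (h2 : (2 : k) ≠ 0) (g : PowerSeries k)
    (hg : PowerSeries.coeff 0 g ≠ 0) : ∃ G : PowerSeries k, G * G = g := by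
  obtain ⟨s, hs⟩ := IsAlgClosed.exists_eq_mul_self (PowerSeries.coeff 0 g)
  have hs0 : s ≠ 0 := fun h => hg (by rw [hs, h, mul_zero])
  set c := coef (fun n => PowerSeries.coeff n g) s with hc
  refine ⟨PowerSeries.mk c, PowerSeries.ext fun n => ?_⟩
  rw [PowerSeries.coeff_mul, Finset.Nat.sum_antidiagonal_eq_sum_range_succ
    (fun i j => PowerSeries.coeff i (PowerSeries.mk c) * PowerSeries.coeff j (PowerSeries.mk c))]
  simp only [PowerSeries.coeff_mk]
  rcases n with _ | n
  · simp only [zero_add, Finset.range_one, Finset.sum_singleton, Nat.sub_zero, hc, coef]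
    exact hs.symm
  · rw [Finset.sum_range_succ, Finset.sum_range_succ', Nat.sub_zero, Nat.sub_self]
    have h0 : c 0 = s := by rw [hc, coef]
    have h1 : c (n + 1) = (PowerSeries.coeff (n + 1) g
        - ∑ i ∈ Finset.range n, c (i + 1) * c (n - i)) / (2 * s) := by
      conv_lhs => rw [hc, coef]
      rw [← Fin.sum_univ_eq_sum_range (fun i => c (i + 1) * c (n - i))]
    simp only [Nat.succ_eq_add_one, Nat.add_sub_add_right]
    rw [h0, h1]
    field_simp
    ring

end Groth.Agent.SqrtPSLib
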