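import Groth.Statements.S13100
import Groth.Agent.SqrtPSLib
import Mathlib


-- import your own Groth.Agent.* helpers here

set_option autoImplicit false
universe u
open GrpSch

namespace Groth.Agent.S13100

/-- Let k be an algebraically closed field of characteristic different from 2 and K = k((t)) the field
of Laurent series over k. Then a non-zero Laurent series f is a square in K if and only if its order
in t is even; consequently the group Kˣ/Kˣ² of non-zero elements modulo squares has exactly two
elements, represented by 1 and t. -/
theorem result (k : Type u) [Field k] [IsAlgClosed k] (h2 : (2 : k) ≠ 0)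
    (f : LaurentSeries k) (hf : f ≠ 0) : IsSquare f ↔ Even f.order := by
  constructor
  · rintro ⟨g, rfl⟩
    have hg : g ≠ 0 := fun h => hf (by simp [h])
    rw [HahnSeries.order_mul hg hg]
    exact ⟨_, rfl⟩
  · rintro ⟨m, hm⟩
    set g := f.powerSeriesPart with hg
    have hg0 : PowerSeries.coeff 0 g ≠ 0 := by
      rw [hg, LaurentSeries.powerSeriesPart_coeff, Nat.cast_zero, add_zero]
      exact HahnSeries.coeff_order_eq_zero.not.2 hf
    obtain ⟨G, hG⟩ := Groth.Agent.SqrtPSLib.exists_sq k h2 g hg0
    refine ⟨HahnSeries.single m 1 * HahnSeries.ofPowerSeries ℤ k G, ?_⟩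
    conv_lhs => rw [← LaurentSeries.single_order_mul_powerSeriesPart f, ← hg, ← hG, map_mul, hm]
    rw [mul_mul_mul_comm, HahnSeries.single_mul_single, one_mul]

end Groth.Agent.S13100
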