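import Groth.Statements.S13101
import Mathlib
import Mathlib
-- import your own Groth.Agent.* helpers here

set_option autoImplicit false
universe u v
open GrpSch

namespace Groth.Agent.S13101

/-- Let A be a commutative ring in which 2 is a unit, and L a Lie algebra over A, free as a module with
basis x = bs 0, y = bs 1, z = bs 2 and brackets [x,y] = y, [x,z] = y + z, [y,z] = 0. Then for every
Lie algebra automorphism φ of L over A there are b, c, h ∈ A and a unit i of A with φ(x) = x + b y +
c z, φ(y) = i y and φ(z) = h y + i z. Only the form of an automorphism is stated, not that every map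
of this form is one. (The published statement identifies the automorphism group scheme with a
semidirect product of two additive groups by the product of the multiplicative and additive group,
for algebras over a field of Laurent series of characteristic not 2, and deduces the vanishing of
its first cohomology; this row records the determination of the automorphisms, over any base ring
with 2 invertible; the cohomological consequence is not restated.) -/
theorem result (A : Type u) [CommRing A] (h2 : IsUnit (2 : A))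
    (L : Type v) [LieRing L] [LieAlgebra A L] (bs : Module.Basis (Fin 3) A L)
    (hxy : ⁅bs 0, bs 1⁆ = bs 1) (hxz : ⁅bs 0, bs 2⁆ = bs 1 + bs 2) (hyz : ⁅bs 1, bs 2⁆ = 0)
    (φ : L ≃ₗ⁅A⁆ L) :
    ∃ b c h i : A, IsUnit i ∧ φ (bs 0) = bs 0 + b • bs 1 + c • bs 2 ∧ φ (bs 1) = i • bs 1 ∧
      φ (bs 2) = h • bs 1 + i • bs 2 := by
  classical
  set e₀ := bs 0
  set y := bs 1
  set z := bs 2
  have hxy' : ⁅y, e₀⁆ = -y := by rw [← lie_skew, hxy]
  have hxz' : ⁅z, e₀⁆ = -(y + z) := by rw [← lie_skew, hxz]
  have hyz' : ⁅z, y⁆ = 0 := by rw [← lie_skew, hyz, neg_zero]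
  have hrep : ∀ w : L, w = bs.repr w 0 • e₀ + bs.repr w 1 • y + bs.repr w 2 • z := fun w => by
    conv_lhs => rw [← bs.sum_repr w, Fin.sum_univ_three]
  have hbr : ∀ a b c a' b' c' : A, ⁅a • e₀ + b • y + c • z, a' • e₀ + b' • y + c' • z⁆ =
      (a * b' - b * a' + (a * c' - c * a')) • y + (a * c' - c * a') • z := by
    intro a b c a' b' c'
    simp only [add_lie, lie_add, smul_lie, lie_smul, lie_self, hxy, hxz, hyz, hxy', hxz', hyz']
    module
  have hco : ∀ u v w u' v' w' : A, u • e₀ + v • y + w • z = u' • e₀ + v' • y + w' • z → u = u' ∧ v = v' ∧ w = w' := by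
    intro u v w u' v' w' h
    have hk := congrArg bs.repr h
    have h0 := DFunLike.congr_fun hk 0
    have h1 := DFunLike.congr_fun hk 1
    have h2 := DFunLike.congr_fun hk 2
    simp [e₀, y, z] at h0 h1 h2
    exact ⟨h0, h1, h2⟩
  have hder : ∀ ψ : L ≃ₗ⁅A⁆ L, ∃ e f h i : A, ψ y = e • y + f • z ∧ ψ z = h • y + i • z := by
    intro ψ
    have h1 : ∃ e f : A, ψ y = e • y + f • z := by
      suffices H : ∃ e f : A, ⁅ψ e₀, ψ y⁆ = e • y + f • z by rwa [← LieEquiv.map_lie, hxy] at H
      rw [hrep (ψ e₀), hrep (ψ y), hbr]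
      exact ⟨_, _, rfl⟩
    have h2 : ∃ e f : A, ψ (y + z) = e • y + f • z := by
      suffices H : ∃ e f : A, ⁅ψ e₀, ψ z⁆ = e • y + f • z by rwa [← LieEquiv.map_lie, hxz] at H
      rw [hrep (ψ e₀), hrep (ψ z), hbr]
      exact ⟨_, _, rfl⟩
    obtain ⟨e, f, he⟩ := h1
    obtain ⟨u, v, hu⟩ := h2
    refine ⟨e, f, u - e, v - f, he, ?_⟩
    rw [show ψ z = ψ (y + z) - ψ y by rw [map_add]; abel, hu, he]
    module
  obtain ⟨e, f, h, i, hy1, hz1⟩ := hder φ
  obtain ⟨e', f', h', i', hy2, hz2⟩ := hder φ.symm
  have k1 := congrArg φ hy2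
  have k2 := congrArg φ hz2
  rw [LieEquiv.apply_symm_apply, map_add, map_smul, map_smul, hy1, hz1] at k1 k2
  obtain ⟨-, p1, p2⟩ := hco 0 1 0 0 (e' * e + f' * h) (e' * f + f' * i) (by linear_combination (norm := module) k1)
  obtain ⟨-, p3, p4⟩ := hco 0 0 1 0 (h' * e + i' * h) (h' * f + i' * i) (by linear_combination (norm := module) k2)
  have hu : IsUnit (e * i - f * h) := by
    refine IsUnit.of_mul_eq_one (e' * i' - f' * h') ?_
    linear_combination (-1 : A) * (h' * f + i' * i) * p1 + (h' * e + i' * h) * p2 - p4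
  obtain ⟨a, ha, hax⟩ : ∃ a, a = bs.repr (φ e₀) 0 ∧ φ e₀ = a • e₀ + bs.repr (φ e₀) 1 • y + bs.repr (φ e₀) 2 • z :=
    ⟨_, rfl, hrep _⟩
  have m1 := congrArg φ hxy
  have m2 := congrArg φ hxz
  rw [LieEquiv.map_lie, hax, show φ y = (0 : A) • e₀ + e • y + f • z by rw [hy1]; module, hbr] at m1
  rw [LieEquiv.map_lie, map_add, hax, show φ z = (0 : A) • e₀ + h • y + i • z by rw [hz1]; module, hbr, hy1] at m2
  obtain ⟨-, q1, q2⟩ := hco 0 (a * (e + f)) (a * f) 0 e f (by linear_combination (norm := module) m1)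
  obtain ⟨-, q3, q4⟩ := hco 0 (a * (h + i)) (a * i) 0 (e + h) (f + i) (by linear_combination (norm := module) m2)
  have s1 : (a - 1) * f = 0 := by linear_combination q2
  have s2 : (a - 1) * (a - 1) * i = 0 := by linear_combination (a - 1) * q4 + s1
  have s3 : (a - 1) * (a - 1) * e = 0 := by linear_combination (a - 1) * q1 - a * s1
  have s4 : (a - 1) * (a - 1) = 0 := by
    rw [← hu.mul_left_eq_zero]
    linear_combination i * s3 - (a - 1) * h * s1
  have hf : f = 0 := by
    have : (2 : A) * f = 0 := by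
      linear_combination (a - 1) * q3 - h * s4 - a * q4 + q1 - 2 * s1
    exact h2.mul_right_eq_zero.1 this
  subst hf
  have t2 : (a - 1) * i = 0 := by linear_combination q4
  have t3 : (a - 1) * e = 0 := by linear_combination q1
  have ha1 : a = 1 := by
    have : (a - 1) * (e * i - 0 * h) = 0 := by linear_combination i * t3
    exact sub_eq_zero.1 (hu.mul_left_eq_zero.1 this)
  subst ha1
  have hei : e = i := by linear_combination (-1 : A) * q3
  subst hei
  refine ⟨bs.repr (φ e₀) 1, bs.repr (φ e₀) 2, h, e, isUnit_of_mul_isUnit_left (show IsUnit (e * e) by simpa using hu), ?_, ?_, hz1⟩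
  · exact hax.trans (by rw [one_smul])
  · rw [hy1, zero_smul, add_zero]

end Groth.Agent.S13101
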