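import Groth.Statements.S13102
import Mathlib
import Mathlib
-- import your own Groth.Agent.* helpers here

set_option autoImplicit false
universe u v w
open GrpSch

namespace Groth.Agent.S13102

/-- Let K be a field, α ∈ K, A a commutative K-algebra and L a Lie algebra over A which is free as an
A-module with basis x = bs 0, y = bs 1, z = bs 2 and brackets [x,y] = y, [x,z] = α z, [y,z] = 0. If
α² ≠ 1 then every Lie algebra automorphism φ of L over A satisfies φ(x) = x + b y + c z, φ(y) = e y,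
φ(z) = i z for some b, c ∈ A and units e, i of A. If α = 1 then every such φ satisfies φ(x) = x + b
y + c z, φ(y) = e y + f z, φ(z) = h y + i z with e i − f h a unit of A. (The printed statement
identifies the automorphism group schemes with the corresponding semidirect products, treats also α
= −1 in characteristic not 2, and computes first cohomology over a field of Laurent series; those
clauses are not restated here.) -/
theorem result (K : Type u) [Field K] (α : K) (A : Type v) [CommRing A] [Algebra K A]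
    (L : Type w) [LieRing L] [LieAlgebra A L] (bs : Module.Basis (Fin 3) A L)
    (hxy : ⁅bs 0, bs 1⁆ = bs 1) (hxz : ⁅bs 0, bs 2⁆ = algebraMap K A α • bs 2) (hyz : ⁅bs 1, bs 2⁆ = 0)
    (φ : L ≃ₗ⁅A⁆ L) :
    (α ^ 2 ≠ 1 → ∃ b c e i : A, IsUnit e ∧ IsUnit i ∧ φ (bs 0) = bs 0 + b • bs 1 + c • bs 2 ∧
        φ (bs 1) = e • bs 1 ∧ φ (bs 2) = i • bs 2) ∧
    (α = 1 → ∃ b c e f h i : A, IsUnit (e * i - f * h) ∧ φ (bs 0) = bs 0 + b • bs 1 + c • bs 2 ∧
        φ (bs 1) = e • bs 1 + f • bs 2 ∧ φ (bs 2) = h • bs 1 + i • bs 2) := by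
  classical
  set e₀ := bs 0
  set y := bs 1
  set z := bs 2
  set t := algebraMap K A α with ht
  have hxy' : ⁅y, e₀⁆ = -y := by rw [← lie_skew, hxy]
  have hxz' : ⁅z, e₀⁆ = -(t • z) := by rw [← lie_skew, hxz]
  have hyz' : ⁅z, y⁆ = 0 := by rw [← lie_skew, hyz, neg_zero]
  have hrep : ∀ w : L, w = bs.repr w 0 • e₀ + bs.repr w 1 • y + bs.repr w 2 • z := fun w => by
    conv_lhs => rw [← bs.sum_repr w, Fin.sum_univ_three]
  have hbr : ∀ a b c a' b' c' : A, ⁅a • e₀ + b • y + c • z, a' • e₀ + b' • y + c' • z⁆ =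
      (0 : A) • e₀ + (a * b' - b * a') • y + (t * (a * c' - c * a')) • z := by
    intro a b c a' b' c'
    simp only [add_lie, lie_add, smul_lie, lie_smul, lie_self, hxy, hxz, hyz, hxy', hxz', hyz']
    module
  have hco : ∀ u v w u' v' w' : A, u • e₀ + v • y + w • z = u' • e₀ + v' • y + w' • z → u = u' ∧ v = v' ∧ w = w' := by
    intro u v w u' v' w' h
    have hk := congrArg bs.repr h
    have h0 := DFunLike.congr_fun hk 0
    have h1 := DFunLike.congr_fun hk 1
    have h2 := DFunLike.congr_fun hk 2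
    simp [e₀, y, z] at h0 h1 h2
    exact ⟨h0, h1, h2⟩
  obtain ⟨a, b, c, hx1⟩ : ∃ a b c, φ e₀ = a • e₀ + b • y + c • z := ⟨_, _, _, hrep _⟩
  obtain ⟨d, e, f, hy1⟩ : ∃ a b c, φ y = a • e₀ + b • y + c • z := ⟨_, _, _, hrep _⟩
  obtain ⟨g, h, i, hz1⟩ : ∃ a b c, φ z = a • e₀ + b • y + c • z := ⟨_, _, _, hrep _⟩
  have hdet : IsUnit (LinearMap.toMatrix bs bs (φ : L →ₗ[A] L)).det := by
    have hu : IsUnit ((φ : L ≃ₗ⁅A⁆ L).toLinearEquiv : L →ₗ[A] L).det :=
      (φ.toLinearEquiv).isUnit_det'
    rw [← LinearMap.det_toMatrix bs] at hu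
    exact hu
  rw [Matrix.det_fin_three] at hdet
  have hM : ∀ k l, LinearMap.toMatrix bs bs (φ : L →ₗ[A] L) k l = bs.repr (φ (bs l)) k := fun k l => LinearMap.toMatrix_apply _ _ _ _ _
  simp only [hM] at hdet
  rw [show φ (bs 0) = _ from hx1, show φ (bs 1) = _ from hy1, show φ (bs 2) = _ from hz1] at hdet
  simp [e₀, y, z] at hdet
  have m1 := congrArg φ hxy
  have m2 := congrArg φ hxz
  have m3 := congrArg φ hyz
  rw [LieEquiv.map_lie, hx1, hy1, hbr] at m1
  rw [LieEquiv.map_lie, map_smul, hx1, hz1, hbr] at m2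
  rw [LieEquiv.map_lie, map_zero, hy1, hz1, hbr] at m3
  obtain ⟨p0, p1, p2⟩ := hco _ _ _ _ _ _ m1
  subst p0
  obtain ⟨q0, q1, q2⟩ := hco 0 (a * h - b * g) (t * (a * i - c * g)) (t * g) (t * h) (t * i) (by linear_combination (norm := module) m2)
  obtain ⟨-, r1, r2⟩ := hco 0 (0 * h - e * g) (t * (0 * i - f * g)) 0 0 0 (by linear_combination (norm := module) m3)
  have hge : g * e = 0 := by linear_combination -r1
  have hgt : t * g = 0 := q0.symm
  have hgf : g * f = 0 := by linear_combination -g * p2 + (a * f) * hgt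
  have hg : g = 0 := hdet.mul_left_eq_zero.1 (by linear_combination (a * i - c * g) * hge + (b * g - a * h) * hgf)
  subst hg
  have hD : IsUnit (a * (e * i - f * h)) := by convert hdet using 1; ring
  obtain ⟨hau, hD'⟩ := IsUnit.mul_iff.1 hD
  refine ⟨fun hα => ?_, fun hα => ?_⟩
  · have hfh : f * h = 0 := by
      have h1 : IsUnit (t * t - 1) := by
        rw [ht, ← map_mul, ← map_one (algebraMap K A), ← map_sub]
        exact (isUnit_iff_ne_zero.2 (sub_ne_zero.2 (by rwa [← sq]))).map _
      refine h1.mul_right_eq_zero.1 ?_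
      linear_combination (h : A) * p2 - (t * f) * q1
    rw [hfh, sub_zero] at hD'
    obtain ⟨he, hi⟩ := IsUnit.mul_iff.1 hD'
    have ha : a = 1 := sub_eq_zero.1 (he.mul_left_eq_zero.1 (by linear_combination p1))
    subst ha
    have h1 : IsUnit (t - 1) := by
      rw [ht, ← map_one (algebraMap K A), ← map_sub]
      exact (isUnit_iff_ne_zero.2 (sub_ne_zero.2 fun hh => hα (by rw [hh]; ring))).map _
    have hf : f = 0 := h1.mul_right_eq_zero.1 (by linear_combination p2)
    have hh : h = 0 := h1.mul_right_eq_zero.1 (by linear_combination -q1)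
    exact ⟨b, c, e, i, he, hi, by rw [hx1, one_smul], by rw [hy1, hf]; module, by rw [hz1, hh]; module⟩
  · have ht1 : t = 1 := by rw [ht, hα, map_one]
    rw [ht1] at p2 q1 q2
    have ha : a = 1 := sub_eq_zero.1 (hD'.mul_left_eq_zero.1 (by linear_combination i * p1 - h * p2))
    subst ha
    exact ⟨b, c, e, f, h, i, hD', by rw [hx1, one_smul], by rw [hy1]; module, by rw [hz1]; module⟩

end Groth.Agent.S13102
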