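import Groth.Statements.S13104
import Mathlib.AlgebraicGeometry.Morphisms.SchemeTheoreticallyDominant
-- import your own Groth.Agent.* helpers here

set_option autoImplicit false
universe u
open GrpSch

namespace Groth.Agent.S13104

open CategoryTheory AlgebraicGeometry TrivSqZeroExt in
lemma formula (B : Type u) [CommRing B]
    (ψ : DualNumber B →+* DualNumber (DualNumber B))
    (hψB : ∀ b : B, ψ (algebraMap B (DualNumber B) b) = algebraMap B (DualNumber (DualNumber B)) b)
    (hψ : ψ DualNumber.eps = algebraMap (DualNumber B) (DualNumber (DualNumber B)) DualNumber.eps * DualNumber.eps)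
    (x : DualNumber B) : (ψ x).fst.fst = x.fst ∧ (ψ x).snd.snd = x.snd := by
  have hx : x = algebraMap B (DualNumber B) x.fst + algebraMap B (DualNumber B) x.snd * DualNumber.eps := by
    ext <;> simp [TrivSqZeroExt.algebraMap_eq_inl]
  have h2 : ψ x = algebraMap B (DualNumber (DualNumber B)) x.fst
      + algebraMap B (DualNumber (DualNumber B)) x.snd *
        (algebraMap (DualNumber B) (DualNumber (DualNumber B)) DualNumber.eps * DualNumber.eps) := by
    conv_lhs => rw [hx]
    rw [map_add, map_mul, hψB, hψB, hψ]
  have ha : ∀ b : B, algebraMap B (DualNumber (DualNumber B)) b = inl (inl b) := fun b => rfl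
  rw [h2]
  simp [ha, TrivSqZeroExt.algebraMap_eq_inl]

open CategoryTheory AlgebraicGeometry TrivSqZeroExt in
lemma surj (B : Type u) [CommRing B]
    (ψ : DualNumber B →+* DualNumber (DualNumber B))
    (hf : ∀ x, (ψ x).fst.fst = x.fst) (p : PrimeSpectrum (DualNumber B)) :
    ∃ q : PrimeSpectrum (DualNumber (DualNumber B)), PrimeSpectrum.comap ψ q = p := by
  let π : DualNumber (DualNumber B) →+* B :=
    (fstHom B B B).toRingHom.comp (fstHom (DualNumber B) (DualNumber B) (DualNumber B)).toRingHom
  refine ⟨PrimeSpectrum.comap π (PrimeSpectrum.comap (algebraMap B (DualNumber B)) p), ?_⟩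
  ext x
  show algebraMap B (DualNumber B) ((ψ x).fst.fst) ∈ p.asIdeal ↔ x ∈ p.asIdeal
  rw [hf]
  have hn : inr x.snd ∈ p.asIdeal := by
    refine p.isPrime.mem_of_pow_mem 2 ?_
    rw [pow_two, inr_mul_inr]
    exact p.asIdeal.zero_mem
  conv_rhs => rw [← inl_fst_add_inr_snd_eq x, p.asIdeal.add_mem_iff_left hn]
  rfl

open CategoryTheory AlgebraicGeometry in
/-- Let B be a commutative ring, B[ε] the ring of dual numbers (ε² = 0) and B[α, β]/(α², β²) the double
dual numbers, realised as dual numbers over the dual numbers with α the inner and β the outer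
generator, and let ψ : B[ε] → B[α, β]/(α², β²) be the B-algebra homomorphism with ψ(ε) = αβ. Then
for every scheme G the map u ↦ Spec(ψ) ≫ u from morphisms Spec B[ε] → G to morphisms Spec
B[α,β]/(α²,β²) → G is injective. (The printed statement is its consequence for a group scheme G: the
map Lie(G)(B) → G(B[α,β]/(α²,β²)), x ↦ exp(αβ x), is injective; the injectivity on all B[ε]-points
stated here is what the printed argument establishes.) -/
theorem result (B : Type u) [CommRing B]
    (ψ : DualNumber B →+* DualNumber (DualNumber B))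
    (hψB : ∀ b : B, ψ (algebraMap B (DualNumber B) b) = algebraMap B (DualNumber (DualNumber B)) b)
    (hψ : ψ DualNumber.eps = algebraMap (DualNumber B) (DualNumber (DualNumber B)) DualNumber.eps * DualNumber.eps)
    (G : Scheme.{u}) :
    Function.Injective (fun u : Spec (CommRingCat.of (DualNumber B)) ⟶ G =>
      Spec.map (CommRingCat.ofHom (R := DualNumber B) (S := DualNumber (DualNumber B)) ψ) ≫ u) := by
  have hf := formula B ψ hψB hψ
  have hinj : Function.Injective ψ := by
    intro x y h
    ext
    · rw [← (hf x).1, ← (hf y).1, h]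
    · rw [← (hf x).2, ← (hf y).2, h]
  set φ : CommRingCat.of (DualNumber B) ⟶ CommRingCat.of (DualNumber (DualNumber B)) :=
    CommRingCat.ofHom (R := DualNumber B) (S := DualNumber (DualNumber B)) ψ with hφ
  have happ : Function.Injective ((Spec.map φ).appTop) := by
    have := Scheme.ΓSpecIso_naturality φ
    have e : (Spec.map φ).appTop = (Scheme.ΓSpecIso _).hom ≫ φ ≫ (Scheme.ΓSpecIso _).inv := by
      rw [← Category.assoc, ← this, Category.assoc, Iso.hom_inv_id, Category.comp_id]
    rw [e]
    exact ((ConcreteCategory.bijective_of_isIso (Scheme.ΓSpecIso _).inv).1.comp hinj).comp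
      (ConcreteCategory.bijective_of_isIso (Scheme.ΓSpecIso _).hom).1
  have hker : (Spec.map φ).ker = ⊥ := Scheme.IdealSheafData.ext_of_isAffine
    (by simpa [(Spec.map φ).ker_apply ⟨⊤, isAffineOpen_top _⟩, ← RingHom.injective_iff_ker_eq_bot])
  haveI : IsSchemeTheoreticallyDominant (Spec.map φ) := ⟨hker⟩
  have hs : Function.Surjective (Spec.map φ).base := fun p => surj B ψ (fun x => (hf x).1) p
  intro u v huv
  have hb : u.base = v.base := by
    ext p
    obtain ⟨q, rfl⟩ := hs p
    exact congrArg (fun w : Spec _ ⟶ G => w.base q) huv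
  refine Scheme.Hom.ext hb fun U => ?_
  apply ConcreteCategory.hom_ext
  intro s
  apply Scheme.Hom.app_injective (Spec.map φ)
  have h := Scheme.Hom.congr_app huv U
  have h' := ConcreteCategory.congr_hom h s
  simp only [Scheme.Hom.comp_app, ConcreteCategory.comp_apply] at h'
  simp only [ConcreteCategory.comp_apply]
  rw [← ConcreteCategory.comp_apply, Scheme.Hom.naturality, ConcreteCategory.comp_apply]
  erw [h']
  simp only [ConcreteCategory.comp_apply]
  erw [← ConcreteCategory.comp_apply, ← Functor.map_comp]

end Groth.Agent.S13104
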