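import Groth.Statements.S13105
import Mathlib
import Groth.Agent.Lie3PointLib.Basic
-- import your own Groth.Agent.* helpers here

set_option autoImplicit false
universe u
open Lie3Mod

namespace Groth.Agent.S13105

open MvPolynomial in
/-- Let k be a field, t ∈ k, D = k[a,b,c,d,e,f,g,h,i] and J = (Q1, Q2, Q3, det M) with Q1 = ah + di − fg
− bg, Q2 = ie + bd − fh − ae, Q3 = hc + dc − af − bi, det M = −ch² + gbf + ei² − gec + hbi − ihf.
The maximal ideal (a, b − 1, c, d, e, f − t, g, h, i) of D contains J (it is the point given by the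
Lie algebra with [x,y] = y, [x,z] = t z, [y,z] = 0), and the localization of D/J at the
corresponding prime is a regular local ring of Krull dimension 6: the scheme Spec(D/J) has a smooth
k-rational point. -/
theorem result (k : Type u) [Field k] (t : k)
    (P : Ideal (Lie3Mod.D k ⧸ Lie3Mod.idJ k)) [P.IsPrime]
    (hP : P = Ideal.map (Ideal.Quotient.mk (Lie3Mod.idJ k))
      (Ideal.span ({X 0, X 1 - 1, X 2, X 3, X 4, X 5 - C t, X 6, X 7, X 8} : Set (Lie3Mod.D k)))) :
    IsRegularLocalRing (Localization.AtPrime P) ∧ ringKrullDim (Localization.AtPrime P) = 6 := by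
  set v := Lie3PointLib.pt k t with hv
  let P₀ : Ideal (Lie3Mod.D k) := RingHom.ker (eval v)
  haveI : P₀.IsPrime := RingHom.ker_isPrime _
  have hle : Lie3Mod.idJ k ≤ P₀ := by
    rw [Lie3Mod.idJ, Ideal.span_le]
    intro z hz
    simp only [Set.mem_insert_iff, Set.mem_singleton_iff] at hz
    rcases hz with rfl | rfl | rfl | rfl <;>
      simp [P₀, hv, RingHom.mem_ker, Lie3PointLib.pt, Lie3Mod.Q1, Lie3Mod.Q2, Lie3Mod.Q3, Lie3Mod.detM]
  have hP' : P = P₀.map (Ideal.Quotient.mk (Lie3Mod.idJ k)) := by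
    rw [hP, Lie3PointLib.span_pt_eq_ker]
  have hcomap : P.comap (Ideal.Quotient.mk (Lie3Mod.idJ k)) = P₀ := by
    rw [hP', Ideal.comap_map_of_surjective' _ Ideal.Quotient.mk_surjective, Ideal.mk_ker, sup_eq_left]
    exact hle
  obtain ⟨e⟩ := Lie3PointLib.quotient_atPrime_equiv (Lie3Mod.idJ k) P₀ P hcomap
  obtain ⟨hreg, hdim⟩ := Lie3PointLib.regular_at k t P₀ rfl (L := Localization.AtPrime P₀)
  haveI := hreg
  exact ⟨IsRegularLocalRing.of_ringEquiv e, by rw [← ringKrullDim_eq_of_ringEquiv e, hdim]⟩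

end Groth.Agent.S13105
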