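import Groth.Statements.S13107
import Mathlib
import Groth.Agent.Lie3BasisLib.Basic
-- import your own Groth.Agent.* helpers here

set_option autoImplicit false
universe u v w
open GrpSch

namespace Groth.Agent.S13107

/-- Let k be a field, K = k((t)) the field of Laurent series over k, F a Lie algebra over K with a basis
x' = bF 0, y' = bF 1, z' = bF 2 and brackets [x',y'] = z', [x',z'] = t y', [y',z'] = 0, and L a Lie
algebra over K with a basis x = bL 0, y = bL 1, z = bL 2 and brackets [x,y] = y, [x,z] = −z, [y,z] =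
0. Then there is no K-linear isomorphism of Lie algebras between L and F: F is a non-trivial form of
L over K. (The published result is the classification of three-dimensional Lie algebras over k((t))
for k algebraically closed of characteristic not 2, with F its only non-split entry; this row states
the non-isomorphism of F and L over k((t)) for every field k.) -/
theorem result (k : Type u) [Field k]
    (F : Type v) [LieRing F] [LieAlgebra (LaurentSeries k) F] (bF : Module.Basis (Fin 3) (LaurentSeries k) F)
    (hF01 : ⁅bF 0, bF 1⁆ = bF 2) (hF02 : ⁅bF 0, bF 2⁆ = (HahnSeries.single 1 (1 : k) : LaurentSeries k) • bF 1)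
    (hF12 : ⁅bF 1, bF 2⁆ = 0)
    (L : Type w) [LieRing L] [LieAlgebra (LaurentSeries k) L] (bL : Module.Basis (Fin 3) (LaurentSeries k) L)
    (hL01 : ⁅bL 0, bL 1⁆ = bL 1) (hL02 : ⁅bL 0, bL 2⁆ = -bL 2) (hL12 : ⁅bL 1, bL 2⁆ = 0) :
    IsEmpty (L ≃ₗ⁅LaurentSeries k⁆ F) := by
  refine ⟨fun ψ => ?_⟩
  have key : ⁅ψ (bL 0), ψ (bL 1)⁆ = ψ (bL 1) := by
    rw [← ψ.map_lie, hL01]
  rw [Lie3BasisLib.bracket_eq bF hF12, hF01, hF02] at key
  set a := bF.repr (ψ (bL 0)) 0 with ha
  set b := bF.repr (ψ (bL 0)) 1 with hb
  set c := bF.repr (ψ (bL 0)) 2 with hc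
  set p := bF.repr (ψ (bL 1)) 0 with hp
  set q := bF.repr (ψ (bL 1)) 1 with hq
  set r := bF.repr (ψ (bL 1)) 2 with hr
  have k0 := congrArg (fun v => bF.repr v 0) key
  have k1 := congrArg (fun v => bF.repr v 1) key
  have k2 := congrArg (fun v => bF.repr v 2) key
  simp [← hp, ← hq, ← hr] at k0 k1 k2
  have hp0 : p = 0 := k0.symm
  rw [hp0] at k1 k2
  simp only [mul_zero, sub_zero] at k1 k2
  have hne : q ≠ 0 ∨ r ≠ 0 := by
    by_contra h
    push Not at h
    have : ψ (bL 1) = 0 := by
      rw [← bF.sum_repr (ψ (bL 1)), Fin.sum_univ_three, ← hp, ← hq, ← hr, hp0, h.1, h.2]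
      simp
    exact bL.ne_zero 1 (ψ.injective (this.trans (map_zero ψ.toLinearEquiv).symm))
  have hsq : (HahnSeries.single 1 (1 : k) : LaurentSeries k) * a * a = 1 := by
    rcases hne with h | h
    · apply mul_right_cancel₀ h
      rw [one_mul]
      linear_combination (HahnSeries.single 1 (1 : k) : LaurentSeries k) * a * k2 + k1
    · apply mul_right_cancel₀ h
      rw [one_mul]
      linear_combination a * k1 + k2
  have ha0 : a ≠ 0 := fun h => by simp [h] at hsq
  have ho := congrArg HahnSeries.order hsq
  rw [HahnSeries.order_mul (mul_ne_zero (by simp) ha0) ha0, HahnSeries.order_mul (by simp) ha0,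
    HahnSeries.order_single one_ne_zero, HahnSeries.order_one] at ho
  omega

end Groth.Agent.S13107
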