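import Groth.Statements.S13108
import Mathlib
import Groth.Agent.Lie3BasisLib.Basic
-- import your own Groth.Agent.* helpers here

set_option autoImplicit false
universe u v w
open GrpSch

namespace Groth.Agent.S13108

/-- Let k be a field and t, t' ∈ k both non-zero; let L be a Lie algebra over k with a basis x = b 0, y
= b 1, z = b 2 and brackets [x,y] = y, [x,z] = t z, [y,z] = 0, and L' a Lie algebra over k with a
basis x' = b' 0, y' = b' 1, z' = b' 2 and brackets [x',y'] = y', [x',z'] = t' z', [y',z'] = 0. Then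
L and L' are isomorphic Lie algebras over k if and only if t' = t or t' = t⁻¹. -/
theorem result (k : Type u) [Field k] (t t' : k) (ht : t ≠ 0) (ht' : t' ≠ 0)
    (L : Type v) [LieRing L] [LieAlgebra k L] (b : Module.Basis (Fin 3) k L)
    (h01 : ⁅b 0, b 1⁆ = b 1) (h02 : ⁅b 0, b 2⁆ = t • b 2) (h12 : ⁅b 1, b 2⁆ = 0)
    (L' : Type w) [LieRing L'] [LieAlgebra k L'] (b' : Module.Basis (Fin 3) k L')
    (h01' : ⁅b' 0, b' 1⁆ = b' 1) (h02' : ⁅b' 0, b' 2⁆ = t' • b' 2) (h12' : ⁅b' 1, b' 2⁆ = 0) :
    Nonempty (L ≃ₗ⁅k⁆ L') ↔ (t' = t ∨ t' = t⁻¹) := by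
  constructor
  · rintro ⟨ψ⟩
    let φ := ψ.symm
    have k1 : ⁅φ (b' 0), φ (b' 1)⁆ = φ (b' 1) := by rw [← φ.map_lie, h01']
    have k2 : ⁅φ (b' 0), φ (b' 2)⁆ = t' • φ (b' 2) := by
      rw [← φ.map_lie, h02']; exact map_smul φ.toLinearEquiv t' (b' 2)
    rw [Lie3BasisLib.bracket_eq b h12, h01, h02] at k1 k2
    set a := b.repr (φ (b' 0)) 0 with ha
    set p₁ := b.repr (φ (b' 1)) 0 with hp₁
    set q₁ := b.repr (φ (b' 1)) 1 with hq₁
    set r₁ := b.repr (φ (b' 1)) 2 with hr₁
    set p₂ := b.repr (φ (b' 2)) 0 with hp₂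
    set q₂ := b.repr (φ (b' 2)) 1 with hq₂
    set r₂ := b.repr (φ (b' 2)) 2 with hr₂
    have e10 := congrArg (fun v => b.repr v 0) k1
    have e11 := congrArg (fun v => b.repr v 1) k1
    have e12 := congrArg (fun v => b.repr v 2) k1
    have e20 := congrArg (fun v => b.repr v 0) k2
    have e21 := congrArg (fun v => b.repr v 1) k2
    have e22 := congrArg (fun v => b.repr v 2) k2
    simp [← hp₁, ← hq₁, ← hr₁, ← hp₂, ← hq₂, ← hr₂] at e10 e11 e12 e20 e21 e22
    have hp₁0 : p₁ = 0 := e10.symm
    have hp₂0 : p₂ = 0 := e20.resolve_left ht'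
    simp only [hp₁0, hp₂0, mul_zero, sub_zero] at e11 e12 e21 e22
    have hind : ∀ x y : k, x * q₁ + y * q₂ = 0 → x * r₁ + y * r₂ = 0 → x = 0 ∧ y = 0 := by
      intro x y hxq hxr
      have h0 : x • φ (b' 1) + y • φ (b' 2) = 0 := by
        apply b.repr.injective
        ext i
        fin_cases i <;> simp [← hp₁, ← hp₂, ← hq₁, ← hq₂, ← hr₁, ← hr₂, hp₁0, hp₂0, hxq, hxr]
      have h1 : φ.toLinearEquiv (x • b' 1 + y • b' 2) = 0 := by
        rw [map_add, map_smul, map_smul]; exact h0
      rw [LinearEquiv.map_eq_zero_iff] at h1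
      have c1 := congrArg (fun v => b'.repr v 1) h1
      have c2 := congrArg (fun v => b'.repr v 2) h1
      simp at c1 c2
      exact ⟨c1, c2⟩
    rcases eq_or_ne q₁ 0 with hq | hq
    · have hr : r₁ ≠ 0 := fun h => one_ne_zero (hind 1 0 (by simp [hq]) (by simp [h])).1
      have hq2 : q₂ ≠ 0 := fun h => hr (by
        have := (hind r₂ (-r₁) (by simp [hq, h]) (by ring)).2
        simpa using this)
      have h1 : a * t = 1 := mul_right_cancel₀ hr (by linear_combination e12)
      have h2 : a = t' := mul_right_cancel₀ hq2 (by linear_combination e21)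
      right
      rw [← h2]
      exact eq_inv_of_mul_eq_one_left h1
    · have h1 : a = 1 := mul_right_cancel₀ hq (by linear_combination e11)
      left
      rcases eq_or_ne q₂ 0 with hq2 | hq2
      · have hr2 : r₂ ≠ 0 := fun h => one_ne_zero (hind 0 1 (by simp [hq2]) (by simp [h])).2
        have : t = t' := mul_right_cancel₀ hr2 (by rw [h1] at e22; linear_combination e22)
        exact this.symm
      · have h2 : t' = 1 := mul_right_cancel₀ hq2 (by rw [h1] at e21; linear_combination -e21)
        rcases eq_or_ne r₁ 0 with hr | hr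
        · have hr2 : r₂ ≠ 0 := fun h => hq2 (by
            have := (hind q₂ (-q₁) (by ring) (by simp [hr, h])).1
            exact this)
          have : t = t' := mul_right_cancel₀ hr2 (by rw [h1] at e22; linear_combination e22)
          exact this.symm
        · have : t = 1 := mul_right_cancel₀ hr (by rw [h1] at e12; linear_combination e12)
          rw [this, h2]
  · rintro (rfl | rfl)
    · exact Lie3BasisLib.nonempty_lieEquiv (b.equiv b' (Equiv.refl _)) b
        (by simp [h01, h01']) (by simp [h02, h02', map_smul]) (by simp [h12, h12'])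
    · let v : Module.Basis (Fin 3) k L' :=
        (b'.unitsSMul ![Units.mk0 t ht, 1, 1]).reindex (Equiv.swap 1 2)
      have v0 : v 0 = t • b' 0 := by
        simp [v, Module.Basis.unitsSMul_apply, Units.smul_def, Equiv.swap_apply_of_ne_of_ne]
      have v1 : v 1 = b' 2 := by simp [v, Module.Basis.unitsSMul_apply]
      have v2 : v 2 = b' 1 := by simp [v, Module.Basis.unitsSMul_apply]
      refine Lie3BasisLib.nonempty_lieEquiv (b.equiv v (Equiv.refl _)) b ?_ ?_ ?_
      · simp [h01, v0, v1, h02', smul_smul, ht]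
      · simp [h02, v0, v2, h01']
      · rw [h12, map_zero]
        simp [v1, v2]
        rw [← lie_skew, h12', neg_zero]

end Groth.Agent.S13108
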