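import Groth.Statements.S13109
import Groth.Agent.PtFunDvrLib.Basic
import Groth.Agent.AWNLib.SNTensor
import Groth.Agent.AWNLib.Char
import Groth.Agent.DvrProperLib.Completion

set_option linter.style.haveILetI false
set_option backward.isDefEq.respectTransparency false
set_option backward.isDefEq.respectTransparency.types false
set_option maxHeartbeats 1000000

set_option autoImplicit false
universe u
open HTop

namespace Groth.Agent.S13109

open W4c1hilbchowinc Groth.Agent.PtFunDvrLib AlgebraicGeometry CategoryTheory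

variable {A B : Type u} [CommRing A] [CommRing B]

/-- The residue field map on values of ring elements. -/
theorem res_ev (φ : A →+* B) (y : Spec (CommRingCat.of B)) (c : A) :
    (Spec.map (CommRingCat.ofHom φ)).residueFieldMap y (ev A ((Spec.map (CommRingCat.ofHom φ)) y) c) =
      ev B y (φ c) := by
  change (Spec.map (CommRingCat.ofHom φ)).residueFieldMap y
    ((Spec (CommRingCat.of A)).Γevaluation _ ((Scheme.ΓSpecIso (CommRingCat.of A)).inv c)) = _
  rw [Scheme.Γevaluation_naturality_apply]
  refine congrArg ((Spec (CommRingCat.of B)).Γevaluation y) ?_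
  exact (congrArg (fun q => q.hom c) (Scheme.ΓSpecIso_inv_naturality (CommRingCat.ofHom φ))).symm

theorem ev_inv (s : Γ(Spec (CommRingCat.of B), ⊤)) (y : Spec (CommRingCat.of B)) :
    ev B y ((Scheme.ΓSpecIso (CommRingCat.of B)).hom s) = PtFun.ofSection (Spec (CommRingCat.of B)) s y :=
  congrArg ((Spec (CommRingCat.of B)).Γevaluation y)
    (congrArg (fun q => q.hom s) (Scheme.ΓSpecIso (CommRingCat.of B)).hom_inv_id)

/-- A value is pinned by a fraction. -/
theorem mem_of_value (φ : A →+* B) (f : PtFun (Spec (CommRingCat.of A))) (y : Spec (CommRingCat.of B)) (r : B)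
    (hr : ev B y r = f.pullback (Spec.map (CommRingCat.ofHom φ)) y) (a b : A)
    (hab : f ((Spec.map (CommRingCat.ofHom φ)) y) * ev A ((Spec.map (CommRingCat.ofHom φ)) y) b =
      ev A ((Spec.map (CommRingCat.ofHom φ)) y) a) : r * φ b - φ a ∈ y.asIdeal := by
  rw [← ev_eq_zero, map_sub, map_mul, hr, ← res_ev, ← res_ev, ← hab, map_mul]
  exact sub_self _

theorem pullback_comp {X Y Z : Scheme.{u}} (h : Z ⟶ Y) (g : Y ⟶ X) (f : PtFun X) :
    (f.pullback g).pullback h = f.pullback (h ≫ g) := by
  funext z
  exact (congrArg (fun t => t.hom (f (g (h z)))) (Scheme.residueFieldMap_comp h g z)).symm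

/-- Variation along complete discrete valuation rings gives variation along all of them. -/
theorem variesAlongDVR (f : PtFun (Spec (CommRingCat.of A))) (hf : f.VariesAlongCompleteDVR) :
    f.VariesAlongDVR := by
  intro R _ _ _ g
  obtain ⟨φ₀, rfl⟩ := Spec.map_surjective g
  obtain ⟨φ, rfl⟩ : ∃ φ : A →+* R, φ₀ = CommRingCat.ofHom φ := ⟨φ₀.hom, rfl⟩
  obtain ⟨T, _, _, _, _, ι, hι, hloc⟩ := DvrProperLib.exists_completion R
  let gι := Spec.map (CommRingCat.ofHom ι)
  let F := f.pullback (Spec.map (CommRingCat.ofHom φ))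
  obtain ⟨s, hs⟩ := hf T (gι ≫ Spec.map (CommRingCat.ofHom φ))
  let t : T := (Scheme.ΓSpecIso (CommRingCat.of T)).hom s
  have ht : ∀ y, ev T y t = F.pullback gι y := fun y => by
    rw [ev_inv, hs, pullback_comp]
  let η : Spec (CommRingCat.of R) := ⟨⊥, Ideal.isPrime_bot⟩
  obtain ⟨a, b, hb, hab⟩ := exists_frac η (F η)
  have hb0 : b ≠ 0 := fun h => hb (by rw [h, map_zero])
  have hη : gι ⟨⊥, Ideal.isPrime_bot⟩ = η := by
    refine PrimeSpectrum.ext ?_
    show Ideal.comap ι ⊥ = ⊥
    exact Ideal.comap_bot_of_injective ι hι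
  have key : t * ι b = ι a := by
    refine sub_eq_zero.1 (Ideal.mem_bot.1 (mem_of_value ι F ⟨⊥, Ideal.isPrime_bot⟩ t (ht _) a b ?_))
    generalize gι ⟨⊥, Ideal.isPrime_bot⟩ = w at hη
    subst hη
    exact hab
  obtain ⟨r, hr⟩ : ∃ r, b * r = a := by
    rcases ValuationRing.dvd_total b a with h | ⟨c, hc⟩
    · exact ⟨h.choose, h.choose_spec.symm⟩
    · rcases em (IsUnit c) with hu | hu
      · obtain ⟨u, rfl⟩ := hu
        exact ⟨(↑u⁻¹ : R) * 1, by rw [hc, mul_one, mul_assoc, Units.mul_inv, mul_one]⟩
      · have ha0 : a ≠ 0 := fun h => hb0 (by rw [hc, h, zero_mul])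
        have h1 : ι a * (t * ι c - 1) = 0 := by
          rw [hc, map_mul] at key
          linear_combination key
        have h2 : t * ι c = 1 := sub_eq_zero.1 ((mul_eq_zero.1 h1).resolve_left ((map_ne_zero_iff ι hι).2 ha0))
        exact absurd (isUnit_of_map_unit ι c (isUnit_iff_exists_inv'.2 ⟨t, h2⟩)) hu
  have hrt : ι r = t := by
    refine mul_right_cancel₀ ((map_ne_zero_iff ι hι).2 hb0) ?_
    rw [key, ← map_mul, mul_comm r b, hr]
  refine ⟨(Scheme.ΓSpecIso (CommRingCat.of R)).inv r, funext fun y => ?_⟩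
  obtain ⟨y', rfl⟩ : ∃ y', gι y' = y := by
    by_cases hy : y.asIdeal = ⊥
    · exact ⟨⟨⊥, Ideal.isPrime_bot⟩, PrimeSpectrum.ext ((Ideal.comap_bot_of_injective ι hι).trans hy.symm)⟩
    · refine ⟨IsLocalRing.closedPoint T, PrimeSpectrum.ext ?_⟩
      have h : (IsLocalRing.maximalIdeal T).comap ι = IsLocalRing.maximalIdeal R := ((IsLocalRing.local_hom_TFAE ι).out 0 4).1 hloc
      exact h.trans
        (IsLocalRing.eq_maximalIdeal (Ideal.IsPrime.isMaximal y.2 hy)).symm
  refine (gι.residueFieldMap y').hom.injective ?_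
  show gι.residueFieldMap y' (ev R (gι y') r) = F.pullback gι y'
  rw [res_ev, hrt, ht]

/-- Glueing along a birational finite extension generated by one function. -/
theorem glue {A B C : Type u} [CommRing A] [CommRing B] [CommRing C] [_root_.IsReduced C]
    (hA : HTop.IsSeminormalRing A) (φ : A →+* B) (gC : A →+* C) (j : C →+* B) (hcomp : j.comp gC = φ)
    (hjinj : Function.Injective j) (hinj : Function.Injective gC) (hφ : φ.IsIntegral) (β' : C)
    (f : PtFun (Spec (CommRingCat.of A)))
    (hβ : ∀ y, ev B y (j β') = f.pullback (Spec.map (CommRingCat.ofHom φ)) y)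
    (hgen : ∀ (L : Type u) [Field L] (g₁ g₂ : C →+* L), g₁.comp gC = g₂.comp gC → g₁ β' = g₂ β' → g₁ = g₂) :
    ∃ α : A, gC α = β' := by
  subst hcomp
  have hCB : j.IsIntegral := fun z => by
    obtain ⟨p, hp, h⟩ := hφ z
    exact ⟨p.map gC, hp.map _, by rw [Polynomial.eval₂_map]; exact h⟩
  have hint : gC.IsIntegral := fun c => by
    obtain ⟨p, hp, h⟩ := hφ (j c)
    refine ⟨p, hp, hjinj ?_⟩
    rw [map_zero, Polynomial.hom_eval₂]
    exact h
  have hval : ∀ (Q : PrimeSpectrum C) (a b : A),
      f (PrimeSpectrum.comap gC Q) * ev A (PrimeSpectrum.comap gC Q) b = ev A (PrimeSpectrum.comap gC Q) a →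
      gC b * β' - gC a ∈ Q.asIdeal := by
    intro Q a b hab
    obtain ⟨Q', rfl⟩ := hCB.comap_surjective hjinj Q
    show j (gC b * β' - gC a) ∈ Q'.asIdeal
    rw [map_sub, map_mul, mul_comm]
    exact mem_of_value (j.comp gC) f Q' (j β') (hβ Q') a b hab
  have hg : FlatMor.IsUnivHomeo (Spec.map (CommRingCat.ofHom gC)) := by
    refine (AWNLib.univHomeo_iff gC).2 ⟨hint, hint.comap_surjective hinj, fun L _ g₁ g₂ h => ?_⟩
    let Q₁ : PrimeSpectrum C := ⟨RingHom.ker g₁, RingHom.ker_isPrime g₁⟩
    let Q₂ : PrimeSpectrum C := ⟨RingHom.ker g₂, RingHom.ker_isPrime g₂⟩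
    have hP : PrimeSpectrum.comap gC Q₂ = PrimeSpectrum.comap gC Q₁ :=
      PrimeSpectrum.ext (Ideal.ext fun c => Iff.of_eq (congrArg (· = 0) (DFunLike.congr_fun h c).symm))
    obtain ⟨a, b, hb, hab⟩ := exists_frac _ (f (PrimeSpectrum.comap gC Q₁))
    have e₁ : g₁ (gC b * β' - gC a) = 0 := hval Q₁ a b hab
    have e₂ : g₂ (gC b * β' - gC a) = 0 := hval Q₂ a b (by rw [hP]; exact hab)
    have hb' : g₁ (gC b) ≠ 0 := fun h0 => hb ((ev_eq_zero _ b).2 h0)
    have hβ12 : g₁ β' = g₂ β' := by
      rw [map_sub, map_mul, sub_eq_zero] at e₁ e₂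
      refine mul_left_cancel₀ hb' (e₁.trans ?_)
      rw [show g₁ (gC a) = g₂ (gC a) from DFunLike.congr_fun h a,
        show g₁ (gC b) = g₂ (gC b) from DFunLike.congr_fun h b, e₂]
    exact hgen L g₁ g₂ h hβ12
  exact AWNLib.mem_range_of_RF gC hA hg β' fun Q => by
    obtain ⟨a, b, hb, hab⟩ := exists_frac _ (f (PrimeSpectrum.comap gC Q))
    exact ⟨a, b, fun h0 => hb ((ev_eq_zero _ b).2 h0), hval Q a b hab⟩

/-- Pointwise functions on a seminormal ring with finite normalisation. -/
theorem exists_global {A : Type u} [CommRing A] [IsNoetherianRing A] (hA : HTop.IsSeminormalRing A)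
    (hfin : Module.Finite A (integralClosure A (FractionRing A)))
    (f : PtFun (Spec (CommRingCat.of A))) (hf : f.VariesAlongDVR) : ∃ a : A, ∀ x, ev A x a = f x := by
  classical
  let K := FractionRing A
  let B := integralClosure A K
  haveI : _root_.IsReduced A := AWNLib.isReduced_of_isSeminormalRing hA
  haveI : _root_.IsReduced K := isReduced_localizationPreserves (nonZeroDivisors A) K inferInstance
  haveI : _root_.IsReduced B := isReduced_of_injective B.val Subtype.val_injective
  haveI : Module.Finite A B := hfin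
  haveI : IsNoetherianRing B := isNoetherian_of_tower A inferInstance
  have hinj : Function.Injective (algebraMap A B) := fun x y h =>
    IsFractionRing.injective A K (congrArg Subtype.val h)
  haveI : IsFractionRing B K :=
    { map_units := fun b => by
        obtain ⟨⟨a, s⟩, has⟩ := IsLocalization.surj (nonZeroDivisors A) ((b : B) : K)
        have hsu : IsUnit (algebraMap A K s) := IsLocalization.map_units K s
        suffices ha : a ∈ nonZeroDivisors A by
          exact isUnit_of_mul_isUnit_left (has ▸ IsLocalization.map_units K ⟨a, ha⟩ : IsUnit (((b : B) : K) * _))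
        rw [mem_nonZeroDivisors_iff_right]
        intro c hc
        refine hinj ((mem_nonZeroDivisors_iff_right.1 b.2 _ (Subtype.ext ?_)).trans (map_zero _).symm)
        refine hsu.mul_left_eq_zero.1 ?_
        show algebraMap A K c * ((b : B) : K) * algebraMap A K s = 0
        rw [mul_assoc, has, ← map_mul, hc, map_zero]
      surj := fun z => by
        obtain ⟨⟨a, s⟩, has⟩ := IsLocalization.surj (nonZeroDivisors A) z
        refine ⟨⟨algebraMap A B a, ⟨algebraMap A B s, mem_nonZeroDivisors_iff_right.2 fun x hx => Subtype.ext ?_⟩⟩, has⟩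
        exact (IsLocalization.map_units K s).mul_left_eq_zero.1 (congrArg Subtype.val hx)
      exists_of_eq := fun {x y} h => ⟨1, by rw [Subtype.ext h]⟩ }
  haveI : IsIntegrallyClosed B := (isIntegrallyClosed_iff K).2 fun {x} hx =>
    ⟨⟨x, isIntegral_trans x hx⟩, rfl⟩
  let φ : A →+* B := algebraMap A B
  let g := Spec.map (CommRingCat.ofHom φ)
  have hfB : (f.pullback g).VariesAlongDVR := fun R _ _ _ g' => by
    rw [pullback_comp]
    exact hf R _
  obtain ⟨β, hβ⟩ := PtFunDvrLib.main (f.pullback g) hfB
  let C : Subalgebra A B := Algebra.adjoin A {β}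
  haveI : _root_.IsReduced C := isReduced_of_injective C.val Subtype.val_injective
  obtain ⟨α, hα⟩ := glue (C := C) hA φ (algebraMap A C) C.val.toRingHom rfl Subtype.val_injective
    (fun x y h => hinj (congrArg Subtype.val h)) (fun z => Algebra.IsIntegral.isIntegral (R := A) z)
    ⟨β, Algebra.subset_adjoin rfl⟩ f hβ (by
      intro L _ g₁ g₂ h hb
      refine RingHom.ext fun c => ?_
      obtain ⟨c, hc⟩ := c
      induction hc using Algebra.adjoin_induction with
      | mem x hx => cases hx; exact hb
      | algebraMap r => exact DFunLike.congr_fun h r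
      | add x y hx hy ihx ihy =>
        exact ((map_add g₁ ⟨x, hx⟩ ⟨y, hy⟩).trans (congrArg₂ (· + ·) ihx ihy)).trans (map_add g₂ ⟨x, hx⟩ ⟨y, hy⟩).symm
      | mul x y hx hy ihx ihy =>
        exact ((map_mul g₁ ⟨x, hx⟩ ⟨y, hy⟩).trans (congrArg₂ (· * ·) ihx ihy)).trans (map_mul g₂ ⟨x, hx⟩ ⟨y, hy⟩).symm)
  refine ⟨α, fun x => ?_⟩
  obtain ⟨y, rfl⟩ : ∃ y, g y = x :=
    (RingHom.IsIntegral.comap_surjective (f := φ) (fun z => Algebra.IsIntegral.isIntegral z) hinj) x
  refine (g.residueFieldMap y).hom.injective ?_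
  show g.residueFieldMap y (ev A (g y) α) = f.pullback g y
  rw [res_ev, ← hβ, show φ α = β from congrArg Subtype.val hα]

open AlgebraicGeometry W4c1hilbchowinc in
/-- Let A be a Noetherian seminormal ring whose integral closure in its total ring of fractions is a
finite A-module. Then a pointwise function on Spec A — one element of the residue field κ(y) for
every point y — which varies algebraically along complete discrete valuation rings (for every
complete discrete valuation ring R and every morphism Spec R → Spec A there is an element of R whose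
values at the two points of Spec R are the images of the chosen values) is the family of values of
exactly one global section. Seminormal is meant in the sense that x^3 = y^2 forces x = a^2 and y =
a^3 for a unique a, which for reduced Noetherian rings is equivalent to the criterion on elements of
the total ring of fractions; test rings range over the universe of A. -/
theorem result
    (A : Type u) [CommRing A] [IsNoetherianRing A] (hA : HTop.IsSeminormalRing A)
    (hfin : Module.Finite A (integralClosure A (FractionRing A)))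
    (f : PtFun (Spec (CommRingCat.of A))) (hf : f.VariesAlongCompleteDVR) :
    ∃! a : Γ(Spec (CommRingCat.of A), ⊤), PtFun.ofSection (Spec (CommRingCat.of A)) a = f := by
  obtain ⟨a, ha⟩ := exists_global hA hfin f (variesAlongDVR f hf)
  haveI : _root_.IsReduced A := AWNLib.isReduced_of_isSeminormalRing hA
  refine ⟨(Scheme.ΓSpecIso (CommRingCat.of A)).inv a, funext ha, fun s hs => ?_⟩
  have h0 : (Scheme.ΓSpecIso (CommRingCat.of A)).hom s = a := by
    refine sub_eq_zero.1 ((Ideal.mem_bot.1 ?_))
    rw [show (⊥ : Ideal A) = nilradical A from (nilradical_eq_zero A).symm, nilradical_eq_sInf, Ideal.mem_sInf]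
    intro I hI
    refine (ev_eq_zero ⟨I, hI⟩ _).1 ?_
    rw [map_sub, ev_inv, ha, show PtFun.ofSection _ s = f from hs, sub_self]
  rw [← h0]
  exact (congrArg (fun q => q.hom s) (Scheme.ΓSpecIso (CommRingCat.of A)).hom_inv_id).symm

end Groth.Agent.S13109
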