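import Groth.Statements.S13110
import Mathlib
import Groth.Agent.PtFunDvrLib.Basic
-- import your own Groth.Agent.* helpers here

set_option autoImplicit false
universe u
open HTop

namespace Groth.Agent.S13110

open AlgebraicGeometry W4c1hilbchowinc in
/-- Let A be a reduced Noetherian ring, integrally closed inside its total ring of fractions
(equivalently, a finite product of integrally closed Noetherian domains). Then a pointwise function
on Spec A — one element of the residue field κ(y) for every point y — which varies algebraically
along discrete valuation rings (for every discrete valuation ring R and every morphism Spec R → Spec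
A there is an element of R whose values at the two points of Spec R are the images of the chosen
values) is the family of values of exactly one global section. Reducedness is part of the meaning of
integrally closed here; test rings range over the universe of A. -/
theorem result
    (A : Type u) [CommRing A] [IsReduced A] [IsNoetherianRing A] [IsIntegrallyClosed A]
    (f : PtFun (Spec (CommRingCat.of A))) (hf : f.VariesAlongDVR) :
    ∃! a : Γ(Spec (CommRingCat.of A), ⊤), PtFun.ofSection (Spec (CommRingCat.of A)) a = f := by
  obtain ⟨a, ha⟩ := PtFunDvrLib.main f hf
  refine ⟨(Scheme.ΓSpecIso (CommRingCat.of A)).inv a, funext fun x => ha x, fun a' ha' => ?_⟩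
  have h0 : ∀ x : Spec (CommRingCat.of A),
      (Scheme.ΓSpecIso (CommRingCat.of A)).hom a' - a ∈ x.asIdeal := by
    intro x
    rw [← PtFunDvrLib.ev_eq_zero, map_sub, ha x, sub_eq_zero]
    refine Eq.trans ?_ (congrFun ha' x)
    exact congrArg ((Spec (CommRingCat.of A)).Γevaluation x)
      (congrArg (fun q => q.hom a') (Scheme.ΓSpecIso (CommRingCat.of A)).hom_inv_id)
  have h1 : (Scheme.ΓSpecIso (CommRingCat.of A)).hom a' - a = 0 := by
    refine IsReduced.eq_zero _ ?_
    exact nilpotent_iff_mem_prime.mpr fun J hJ => h0 ⟨J, hJ⟩
  rw [← sub_eq_zero.mp h1]
  exact (congrArg (fun q => q.hom a') (Scheme.ΓSpecIso (CommRingCat.of A)).hom_inv_id).symm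

end Groth.Agent.S13110
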