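import Groth.Statements.S13112
import Groth.Agent.SeminormResLib.Main
import Mathlib.AlgebraicGeometry.ZariskisMainTheorem

set_option autoImplicit false
set_option backward.isDefEq.respectTransparency false
set_option backward.isDefEq.respectTransparency.types false
universe u
open HTop

namespace Groth.Agent.S13112

open CategoryTheory AlgebraicGeometry in
/-- Let k be a field, T a seminormal scheme of finite type over k, and f : X → Y a proper universally
injective k-morphism of schemes locally of finite type over k. If a morphism of schemes g : T → Y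
lifts through f at every point of T, i.e. for every t the composite Spec κ(t) → T → Y factors
through f, then g itself factors through f. -/
theorem result
    {k : Type u} [Field k] {T X Y : Scheme.{u}}
    (sT : T ⟶ Spec (CommRingCat.of k)) (sX : X ⟶ Spec (CommRingCat.of k)) (sY : Y ⟶ Spec (CommRingCat.of k))
    [LocallyOfFiniteType sT] [QuasiCompact sT] [LocallyOfFiniteType sX] [LocallyOfFiniteType sY]
    (hT : HTop.IsSeminormal T)
    (f : X ⟶ Y) (hf : f ≫ sY = sX) [IsProper f] [UniversallyInjective f]
    (g : T ⟶ Y)
    (hlift : ∀ t : T, ∃ l : Spec (T.residueField t) ⟶ X, l ≫ f = T.fromSpecResidueField t ≫ g) :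
    ∃ h : T ⟶ X, h ≫ f = g := by
  let p := Limits.pullback.fst g f
  have hpr : IsProper p := inferInstance
  have hui : UniversallyInjective p := MorphismProperty.pullback_fst _ _ ‹_›
  have hl : LocallyQuasiFinite p := LocallyQuasiFinite.of_injective p.injective
  have hfin : IsFinite p := .of_isProper_of_locallyQuasiFinite p
  have hs : Surjective p := ⟨fun t => by
    obtain ⟨l, hl⟩ := hlift t
    refine ⟨Limits.pullback.lift (T.fromSpecResidueField t) l hl.symm (IsLocalRing.closedPoint _), ?_⟩
    show p _ = t
    rw [← Scheme.Hom.comp_apply, Limits.pullback.lift_fst, Scheme.fromSpecResidueField_apply]⟩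
  have hu : FlatMor.IsUnivHomeo p := (Groth.Agent.S0415.result p).2 ⟨inferInstance, hui, hs⟩
  have hr : HTop.ResidueFieldsIso p := fun w => by
    obtain ⟨l, hl⟩ := hlift (p w)
    let P := Limits.pullback.lift (T.fromSpecResidueField (p w)) l hl.symm
    let z : Spec (T.residueField (p w)) := IsLocalRing.closedPoint _
    have hP : P ≫ p = T.fromSpecResidueField (p w) := Limits.pullback.lift_fst _ _ _
    have hw : P z = w := p.injective (by
      rw [← Scheme.Hom.comp_apply, hP, Scheme.fromSpecResidueField_apply])
    have h : ∀ z, Function.Surjective ((T.fromSpecResidueField (p w)).residueFieldMap z) := fun z =>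
      fun y => by
      obtain ⟨x, rfl⟩ := (Spec (T.residueField (p w))).residue_surjective z y
      obtain ⟨a, rfl⟩ := (T.fromSpecResidueField (p w)).stalkMap_surjective z x
      exact ⟨T.residue _ a, ConcreteCategory.congr_hom (Scheme.residue_residueFieldMap (T.fromSpecResidueField (p w)) z) a⟩
    rw [← hP] at h
    have hz := h z
    rw [Scheme.residueFieldMap_comp] at hz
    have hb : Function.Bijective (P.residueFieldMap z).hom := ⟨(P.residueFieldMap z).hom.injective, fun y => by
      obtain ⟨v, hv⟩ := hz y
      exact ⟨_, hv⟩⟩
    suffices ∀ w', w' = w → IsIso (p.residueFieldMap w') → IsIso (p.residueFieldMap w) from this _ hw (by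
      refine (ConcreteCategory.isIso_iff_bijective _).2 ⟨(p.residueFieldMap (P z)).hom.injective, fun y => ?_⟩
      obtain ⟨v, hv⟩ := hz ((P.residueFieldMap z).hom y)
      exact ⟨v, hb.1 hv⟩)
    rintro _ rfl h
    exact h
  obtain ⟨s, hs'⟩ := SeminormResLib.exists_lift (𝟙 T) hT p hu hr
  exact ⟨s ≫ Limits.pullback.snd g f, by
    rw [Category.assoc, ← Limits.pullback.condition, ← Category.assoc, hs', Category.id_comp]⟩

end Groth.Agent.S13112
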