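import Groth.Statements.S13114
import Mathlib.LinearAlgebra.Eigenspace.Zero
import Mathlib.LinearAlgebra.Charpoly.ToMatrix
import Mathlib.RingTheory.Artinian.Ring
import Mathlib.FieldTheory.IsAlgClosed.Basic
import Mathlib.RingTheory.Norm.Defs
-- import your own Groth.Agent.* helpers here

set_option autoImplicit false
universe u
open HilbChow

namespace Groth.Agent.S13114

/-- Let k be an algebraically closed field, A a commutative local k-algebra of finite dimension n over k
and u a unit of A. Then the determinant of multiplication by u on the k-vector space A, mapped to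
the residue field of A, equals the n-th power of the residue class of u. -/
theorem result
    (k A : Type u) [Field k] [IsAlgClosed k] [CommRing A] [Algebra k A] [IsLocalRing A]
    [Module.Finite k A] (u : Aˣ) :
    algebraMap k (IsLocalRing.ResidueField A) (Algebra.norm k (u : A)) =
      IsLocalRing.residue A (u : A) ^ Module.finrank k A := by
  haveI : IsArtinianRing A := IsArtinianRing.of_finite k A
  haveI : Algebra.IsIntegral k A := inferInstance
  haveI : Algebra.IsIntegral k (IsLocalRing.ResidueField A) :=
    Algebra.IsIntegral.of_surjective (IsScalarTower.toAlgHom k A (IsLocalRing.ResidueField A)) IsLocalRing.residue_surjective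
  obtain ⟨c, hc⟩ := (IsAlgClosed.algebraMap_bijective_of_isIntegral (k := k) (K := IsLocalRing.ResidueField A)).2
    (IsLocalRing.residue A (u : A))
  rw [← hc, ← map_pow]
  congr 1
  have hres : IsLocalRing.residue A ((u : A) - algebraMap k A c) = 0 := by
    rw [map_sub, ← hc, sub_eq_zero]
    exact IsScalarTower.algebraMap_apply k A (IsLocalRing.ResidueField A) c
  have hnil : IsNilpotent ((u : A) - algebraMap k A c) := by
    obtain ⟨N, hN⟩ := IsArtinianRing.isNilpotent_jacobson_bot (R := A)
    rw [IsLocalRing.jacobson_eq_maximalIdeal ⊥ bot_ne_top] at hN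
    exact ⟨N, by simpa [hN] using Ideal.pow_mem_pow (IsLocalRing.residue_eq_zero_iff _ |>.mp hres) N⟩
  have hnil' : IsNilpotent (Algebra.lmul k A (u : A) - c • 1) := by
    have := hnil.map (Algebra.lmul k A)
    rwa [map_sub, AlgHom.commutes, Algebra.algebraMap_eq_smul_one] at this
  have h2 := congrArg (fun p : Polynomial k => p.comp (Polynomial.X - Polynomial.C c))
    ((LinearMap.charpoly_sub_smul (Algebra.lmul k A (u : A)) c).symm.trans hnil'.charpoly_eq_X_pow_finrank)
  simp only [Polynomial.comp_assoc, Polynomial.add_comp, Polynomial.X_comp, Polynomial.C_comp, sub_add_cancel, Polynomial.comp_X, Polynomial.pow_comp] at h2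
  rw [Algebra.norm_apply, ← LinearMap.det_toMatrix (Module.finBasis k A), Matrix.det_eq_sign_charpoly_coeff,
    LinearMap.charpoly_toMatrix, Fintype.card_fin]
  change _ * (Algebra.lmul k A (u : A)).charpoly.coeff 0 = _
  rw [h2, Polynomial.coeff_zero_eq_eval_zero]
  simp [← mul_pow]

end Groth.Agent.S13114
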