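import Groth.Statements.S13115
import Mathlib
import Mathlib
-- import your own Groth.Agent.* helpers here

set_option autoImplicit false
universe u
open scoped TensorProduct
open HilbChow

namespace Groth.Agent.S13115

/-- Let k be an infinite field, V a k-vector space and m a natural number. Then every symmetric tensor
in the m-fold tensor power of V — one fixed by every permutation of the factors — is a k-linear
combination of pure powers v ⊗ ⋯ ⊗ v with v in V. (The published statement concerns the ring of
functions of an affine scheme over an infinite field, where it gives the uniqueness of the algebra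
map defining the Hilbert-to-Chow morphism for zero-cycles; this row states it for any vector space.) -/
theorem result
    (k V : Type u) [Field k] [Infinite k] [AddCommGroup V] [Module k V] (m : ℕ)
    (x : ⨂[k] _ : Fin m, V)
    (hx : ∀ σ : Equiv.Perm (Fin m), PiTensorProduct.reindex k (fun _ : Fin m => V) σ x = x) :
    x ∈ Submodule.span k (Set.range fun v : V => PiTensorProduct.tprod k (fun _ : Fin m => v)) := by
  classical
  let b := Module.Basis.ofVectorSpace k V
  let B := Basis.piTensorProduct (R := k) fun _ : Fin m => b
  have hperm : ∀ (σ : Equiv.Perm (Fin m)) (y : ⨂[k] _ : Fin m, V) f,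
      B.repr (PiTensorProduct.reindex k (fun _ : Fin m => V) σ y) f = B.repr y (fun i => f (σ i)) := by
    intro σ y f
    induction y using PiTensorProduct.induction_on with
    | smul_tprod r v =>
      have hB : ∀ (v : Fin m → V) (f : Fin m → _), B.repr (PiTensorProduct.tprod k v) f = ∏ i, b.repr (v i) (f i) :=
        fun v f => Basis.piTensorProduct_repr_tprod_apply (fun _ : Fin m => b) v f
      have hr : PiTensorProduct.reindex k (fun _ : Fin m => V) σ (PiTensorProduct.tprod k v) =
          PiTensorProduct.tprod k (fun i => v (σ.symm i)) := PiTensorProduct.reindex_tprod σ v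
      simp only [map_smul, Finsupp.smul_apply]
      rw [hr, hB, hB, ← Equiv.prod_comp σ]
      exact congrArg (r • ·) (Finset.prod_congr rfl fun i _ => by simp)
    | add y z hy hz => simp [map_add, hy, hz]
  have hc : ∀ (f g : Fin m → _), (∑ i, Finsupp.single (f i) 1 : _ →₀ ℕ) = ∑ i, Finsupp.single (g i) 1 →
      B.repr x f = B.repr x g := by
    intro f g hfg
    have hcard : ∀ a, Fintype.card {i // f i = a} = Fintype.card {i // g i = a} := fun a => by
      have h := DFunLike.congr_fun hfg a
      simp only [Finsupp.coe_finsetSum, Finset.sum_apply, Finsupp.single_apply, Finset.sum_boole, Nat.cast_id] at h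
      rw [Fintype.card_subtype, Fintype.card_subtype]
      exact h
    let σ : Equiv.Perm (Fin m) := Equiv.ofFiberEquiv fun a => Fintype.equivOfCardEq (hcard a)
    have hσ : ∀ i, g (σ i) = f i := fun i => Equiv.ofFiberEquiv_map _ i
    conv_rhs => rw [← hx σ, hperm]
    rw [show (fun i => g (σ i)) = f from funext hσ]
  by_contra hne
  obtain ⟨φ, hφx, hφ⟩ := Submodule.exists_dual_map_eq_bot_of_notMem hne inferInstance
  refine hφx ?_
  have hpure : ∀ v : V, φ (PiTensorProduct.tprod k fun _ : Fin m => v) = 0 := fun v => by
    have hv : (PiTensorProduct.tprod k fun _ : Fin m => v) ∈ Submodule.span k (Set.range fun v : V => PiTensorProduct.tprod k (fun _ : Fin m => v)) := Submodule.subset_span ⟨v, rfl⟩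
    have := Submodule.mem_map_of_mem (f := φ) hv
    rwa [hφ, Submodule.mem_bot] at this
  set T := (B.repr x).support
  let S := T.biUnion fun f => Finset.univ.image f
  let F := Fintype.piFinset fun _ : Fin m => S
  have hP : (∑ f ∈ F, MvPolynomial.monomial (∑ i, Finsupp.single (f i) 1) (φ (B f))) = 0 := by
    refine MvPolynomial.funext fun lam => ?_
    rw [map_zero, map_sum, ← hpure (∑ s ∈ S, lam s • b s), MultilinearMap.map_sum_finset, map_sum]
    refine Finset.sum_congr rfl fun f _ => ?_
    rw [MvPolynomial.monomial_sum_index, map_mul, MvPolynomial.eval_C, map_prod, MultilinearMap.map_smul_univ, map_smul,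
      smul_eq_mul, mul_comm, Basis.piTensorProduct_apply]
    congr 1
    refine Finset.prod_congr rfl fun i _ => ?_
    rw [MvPolynomial.eval_monomial, one_mul]
    refine (Finsupp.prod_single_index ?_).trans (pow_one _)
    exact pow_zero _
  have hx' : x = ∑ f ∈ F, B.repr x f • B f := by
    conv_lhs => rw [← B.linearCombination_repr x, Finsupp.linearCombination_apply, Finsupp.sum]
    refine Finset.sum_subset (fun f hf => Fintype.mem_piFinset.2 fun i => Finset.mem_biUnion.2 ⟨f, hf, Finset.mem_image_of_mem _ (Finset.mem_univ i)⟩) fun f _ hf => ?_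
    rw [Finsupp.notMem_support_iff.1 hf, zero_smul]
  rw [hx', map_sum, ← Finset.sum_fiberwise_of_maps_to (g := fun f : Fin m → _ => (∑ i, Finsupp.single (f i) 1 : _ →₀ ℕ))
    (t := F.image fun f : Fin m → _ => (∑ i, Finsupp.single (f i) 1 : _ →₀ ℕ)) fun f hf => Finset.mem_image_of_mem _ hf]
  refine Finset.sum_eq_zero fun α hα => ?_
  obtain ⟨f₀, hf₀, rfl⟩ := Finset.mem_image.1 hα
  rw [Finset.sum_congr rfl fun f hf => by rw [map_smul, hc f f₀ (Finset.mem_filter.1 hf).2], ← Finset.smul_sum]
  have h := congrArg (MvPolynomial.coeff (∑ i, Finsupp.single (f₀ i) 1)) hP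
  rw [MvPolynomial.coeff_sum, MvPolynomial.coeff_zero] at h
  simp only [MvPolynomial.coeff_monomial, ← Finset.sum_filter] at h
  rw [h, smul_zero]

end Groth.Agent.S13115
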