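import Groth.Statements.S13117
import Mathlib

-- import your own Groth.Agent.* helpers here

set_option autoImplicit false
universe u
open HilbChow

namespace Groth.Agent.S13117


theorem det_blockDiagonal_aux {ι : Type*} [Fintype ι] [DecidableEq ι] {m : ι → Type*} [∀ i, Fintype (m i)]
    [∀ i, DecidableEq (m i)] {R : Type*} [CommRing R] (d : ∀ i, Matrix (m i) (m i) R) :
    (Matrix.blockDiagonal' d).det = ∏ i, (d i).det := by
  let o : LinearOrder ι := LinearOrder.lift' (Fintype.equivFin ι) (Fintype.equivFin ι).injective
  rw [Matrix.BlockTriangular.det_fintype (Matrix.blockTriangular_blockDiagonal' d)]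
  refine Finset.prod_congr rfl fun i _ => ?_
  let e : m i ≃ {x : Σ j, m j // x.1 = i} :=
    { toFun := fun a => ⟨⟨i, a⟩, rfl⟩
      invFun := fun x => x.2 ▸ x.1.2
      left_inv := fun a => rfl
      right_inv := fun ⟨⟨j, a⟩, h⟩ => by cases h; rfl }
  rw [← Matrix.det_submatrix_equiv_self e]
  congr 1
  ext a b
  simp [Matrix.toSquareBlock_def, e]

/-- Let k be an algebraically closed field, A a finite-dimensional commutative k-algebra (the coordinate
ring of a zero-dimensional subscheme Z of length dim_k A) and f ∈ A. Then the determinant of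
multiplication by f on A is the product over the points x of Z — the k-algebra homomorphisms A → k —
of the value f(x) raised to the length of the local ring of Z at x, that length being the
k-dimension of the localisation of A at the corresponding maximal ideal. This is the formula by
which the Hilbert-to-Chow morphism for zero-cycles sends Z to its fundamental cycle Σ ℓ(O_{Z,x})[x]. -/
theorem result
    (k A : Type u) [Field k] [IsAlgClosed k] [CommRing A] [Algebra k A] [Module.Finite k A] (f : A) :
    Algebra.norm k f =
      ∏ᶠ φ : A →ₐ[k] k, φ f ^ Module.finrank k (Localization.AtPrime (Ideal.comap φ ⊥)) := by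
  have : DecidableEq (PrimeSpectrum A) := Classical.decEq _
  have : IsArtinianRing A := IsArtinianRing.of_finite k A
  have := Fintype.ofFinite (PrimeSpectrum A)
  let L : PrimeSpectrum A → Type u := fun p => Localization.AtPrime p.asIdeal
  let e : A ≃ₐ[k] (∀ p : PrimeSpectrum A, Localization.AtPrime p.asIdeal) :=
    AlgEquiv.ofBijective
      ((Pi.algHom k _ fun p => IsScalarTower.toAlgHom k A (Localization.AtPrime p.asIdeal)))
      PrimeSpectrum.toPiLocalization_bijective
  have hfin : ∀ p : PrimeSpectrum A, Module.Finite k (Localization.AtPrime p.asIdeal) := fun p =>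
    Module.Finite.of_surjective (IsScalarTower.toAlgHom k A (Localization.AtPrime p.asIdeal)).toLinearMap
      (IsArtinianRing.localization_surjective p.asIdeal.primeCompl _)
  have hN : Algebra.norm k f = ∏ p : PrimeSpectrum A, Algebra.norm k (algebraMap A (Localization.AtPrime p.asIdeal) f) := by
    have : ∀ p, DecidableEq (Module.Free.ChooseBasisIndex k (Localization.AtPrime (PrimeSpectrum.asIdeal p : Ideal A))) :=
      fun _ => Classical.decEq _
    rw [← Algebra.norm_eq_of_algEquiv e f]
    let b := fun p : PrimeSpectrum A => Module.Free.chooseBasis k (Localization.AtPrime p.asIdeal)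
    rw [Algebra.norm_eq_matrix_det (Pi.basis b)]
    rw [Finset.prod_congr rfl fun p _ => Algebra.norm_eq_matrix_det (b p) _]
    rw [← det_blockDiagonal_aux (fun p => Algebra.leftMulMatrix (b p) (algebraMap A _ f))]
    congr 1
    ext ⟨i, a⟩ ⟨j, c⟩
    rw [Algebra.leftMulMatrix_eq_repr_mul, Pi.basis_repr, Pi.basis_apply]
    by_cases h : i = j
    · subst h
      simp [Matrix.blockDiagonal'_apply, Algebra.leftMulMatrix_eq_repr_mul, e]
    · simp [Matrix.blockDiagonal'_apply, h]
  have hbij : Function.Bijective (fun φ : A →ₐ[k] k =>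
      (⟨Ideal.comap φ (⊥ : Ideal k), Ideal.IsPrime.comap φ⟩ : PrimeSpectrum A)) := by
    constructor
    · intro φ ψ h
      ext x
      have h1 : x - algebraMap k A (φ x) ∈ Ideal.comap φ (⊥ : Ideal k) := by simp
      rw [show Ideal.comap φ (⊥ : Ideal k) = Ideal.comap ψ (⊥ : Ideal k) from congrArg PrimeSpectrum.asIdeal h] at h1
      simp [sub_eq_zero] at h1
      exact h1.symm
    · intro p
      have : p.asIdeal.IsMaximal := IsArtinianRing.isMaximal_of_isPrime p.asIdeal
      letI := Ideal.Quotient.field p.asIdeal
      let ek : k ≃ₐ[k] A ⧸ p.asIdeal := AlgEquiv.ofBijective (Algebra.ofId k _)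
        (IsAlgClosed.algebraMap_bijective_of_isIntegral)
      refine ⟨ek.symm.toAlgHom.comp (Ideal.Quotient.mkₐ k p.asIdeal), PrimeSpectrum.ext ?_⟩
      ext x
      simp [Ideal.Quotient.eq_zero_iff_mem]
  have := Fintype.ofFinite (A →ₐ[k] k)
  rw [hN, finprod_eq_prod_of_fintype]
  refine (Fintype.prod_bijective _ hbij _ _ fun φ => ?_).symm
  have hp : (Ideal.comap φ (⊥ : Ideal k)).IsPrime := Ideal.IsPrime.comap φ
  have := hfin ⟨Ideal.comap φ (⊥ : Ideal k), hp⟩
  set P := Localization.AtPrime (Ideal.comap φ (⊥ : Ideal k))
  have hn : IsNilpotent (algebraMap A P f - algebraMap k P (φ f)) := by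
    have h2 : Ring.KrullDimLE 0 P := by
      have : IsArtinianRing P := IsArtinianRing.of_finite k P
      infer_instance
    rw [← mem_nilradical, Ring.KrullDimLE.nilradical_eq_maximalIdeal, IsScalarTower.algebraMap_apply k A P,
      ← map_sub, IsLocalization.AtPrime.to_map_mem_maximal_iff P (Ideal.comap φ (⊥ : Ideal k))]
    simp
  change φ f ^ Module.finrank k P = Algebra.norm k (algebraMap A P f)
  have h3 := IsNilpotent.charpoly_eq_X_pow_finrank
    ((hn.neg).map (Algebra.lmul k P))
  have h4 := congrArg (Polynomial.eval (φ f)) h3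
  rw [Polynomial.eval_pow, Polynomial.eval_X, LinearMap.eval_charpoly] at h4
  rw [← h4, Algebra.norm_apply]
  congr 1
  ext x
  simp [Algebra.smul_def]

end Groth.Agent.S13117
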