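import Groth.Statements.S13124
import Mathlib


-- import your own Groth.Agent.* helpers here

set_option autoImplicit false
universe u v w
open KumFam

namespace Groth.Agent.S13124

/-- Let k be a commutative ring, A a commutative k-bialgebra that is flat over k, and R a commutative
k-algebra which is an integrally closed domain, with a coaction R → R ⊗ A that is an algebra
homomorphism. Then the ring of invariants (the elements f with coaction f ⊗ 1) is an integrally
closed domain. (The published statement is for a finite group scheme acting on a normal scheme whose
quotient is, locally, the spectrum of the ring of invariants; this row is the affine integral case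
and allows any commutative bialgebra flat over k, flatness being automatic over a field.) -/
theorem result (k : Type u) [CommRing k]
    (A : Type v) [CommRing A] [Bialgebra k A] [Module.Flat k A]
    (R : Type w) [CommRing R] [Algebra k R] [IsDomain R] [IsIntegrallyClosed R]
    [HopfRep.Comod k A R] [GLin.IsCoactAlg k A R] :
    IsIntegrallyClosed (GLin.invariants k A R) := by
  classical
  rw [isIntegrallyClosed_iff (FractionRing (GLin.invariants k A R))]
  intro x hx
  obtain ⟨a, b, hb, rfl⟩ := IsFractionRing.div_surjective (A := GLin.invariants k A R) x
  let S := GLin.invariants k A R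
  have hinj : Function.Injective ((algebraMap R (FractionRing R)).comp S.val.toRingHom) :=
    (IsFractionRing.injective R (FractionRing R)).comp Subtype.val_injective
  let F : FractionRing S →+* FractionRing R := IsFractionRing.lift hinj
  have hF : IsIntegral R (F (algebraMap S _ a / algebraMap S _ b)) := by
    obtain ⟨p, hp, hp0⟩ := hx
    refine ⟨p.map S.val.toRingHom, hp.map _, ?_⟩
    rw [Polynomial.eval₂_map]
    have h := congrArg F hp0
    rw [Polynomial.hom_eval₂, map_zero] at h
    have hcomp : F.comp (algebraMap S (FractionRing S)) = (algebraMap R (FractionRing R)).comp S.val.toRingHom :=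
      RingHom.ext fun z => IsFractionRing.lift_algebraMap (K := FractionRing S) hinj z
    rw [hcomp] at h
    exact h
  obtain ⟨r, hr⟩ := IsIntegrallyClosed.isIntegral_iff.mp hF
  have hb0 : (b : R) ≠ 0 := fun h => nonZeroDivisors.ne_zero hb (Subtype.ext h)
  have hab : r * (b : R) = (a : R) := by
    apply IsFractionRing.injective R (FractionRing R)
    rw [map_mul, hr, map_div₀, IsFractionRing.lift_algebraMap (K := FractionRing S) hinj, IsFractionRing.lift_algebraMap (K := FractionRing S) hinj]
    exact div_mul_cancel₀ _ (fun h => hb0 (IsFractionRing.injective R (FractionRing R) (h.trans (map_zero _).symm)))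
  have hrS : r ∈ S := by
    rw [GLin.mem_invariants_iff]
    have h1 : HopfRep.Comod.coact (k := k) (A := A) r * ((b : R) ⊗ₜ (1 : A)) =
        (r ⊗ₜ (1 : A)) * ((b : R) ⊗ₜ (1 : A)) := by
      rw [← (GLin.mem_invariants_iff k A R (b : R)).mp b.2, ← GLin.IsCoactAlg.coact_mul, hab,
        (GLin.mem_invariants_iff k A R (a : R)).mp a.2, (GLin.mem_invariants_iff k A R (b : R)).mp b.2,
        Algebra.TensorProduct.tmul_mul_tmul, one_mul, hab]
    have hm : Function.Injective ((LinearMap.mulRight k (b : R)).rTensor A) :=
      Module.Flat.rTensor_preserves_injective_linearMap _ (mul_left_injective₀ hb0)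
    have hmul : ∀ t : TensorProduct k R A, t * ((b : R) ⊗ₜ (1 : A)) = (LinearMap.mulRight k (b : R)).rTensor A t := by
      intro t
      induction t using TensorProduct.induction_on with
      | zero => simp
      | tmul u v => simp
      | add u v hu hv => simp [add_mul, hu, hv]
    rw [hmul, hmul] at h1
    exact hm h1
  refine ⟨⟨r, hrS⟩, ?_⟩
  rw [eq_div_iff (fun h => nonZeroDivisors.ne_zero hb (IsFractionRing.injective S (FractionRing S) (h.trans (map_zero _).symm))),
    ← map_mul]
  exact congrArg _ (Subtype.ext hab)

end Groth.Agent.S13124
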