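import Groth.Statements.S13126
import Mathlib


-- import your own Groth.Agent.* helpers here

set_option autoImplicit false
universe u
open KumFam

namespace Groth.Agent.S13126

open Polynomial in
/-- Let R be a commutative ring, n a natural number which is a unit in R, and ζ ∈ R with ζ^n = 1 and 1 −
ζ^i a unit for 0 < i < n (a primitive n-th root of unity in the fibrewise sense: the powers ζ^0, …,
ζ^(n−1) are roots of X^n − 1 with pairwise unit differences; over an integral domain in which n is a
unit this is the same as ζ having multiplicative order n). Then the R-algebra homomorphism R[X] →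
(Fin n → R) sending a polynomial to its values at ζ^0, …, ζ^(n−1) is surjective and its kernel is
the ideal generated by X^n − 1; hence R[X]/(X^n − 1) ≅ R^n as R-algebras, i.e. the scheme of n-th
roots of unity over Spec R is the disjoint union of n copies of Spec R. (The published statement
asks that R contain a primitive n-th root of unity without defining the term; its Chinese-remainder
argument uses that the ideals (X − ζ^i), i < n, are pairwise comaximal, which is the unit-difference
condition taken as the hypothesis here, whereas under the reading 'ζ has multiplicative order n'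
alone the surjectivity fails over a product of two fields. The published statement also asserts that
the isomorphism respects the group-scheme structures of the n-th roots of unity and of the constant
group ℤ/n; this row does not state that.) -/
theorem result (R : Type u) [CommRing R]
    (n : ℕ) (hn : IsUnit (n : R)) (ζ : R) (hζ : ζ ^ n = 1)
    (hprim : ∀ i : ℕ, 0 < i → i < n → IsUnit (1 - ζ ^ i)) :
    Function.Surjective (AlgHom.pi (fun i : Fin n => Polynomial.aeval (R := R) (ζ ^ (i : ℕ)))) ∧
      RingHom.ker (AlgHom.pi (fun i : Fin n => Polynomial.aeval (R := R) (ζ ^ (i : ℕ)))) =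
        Ideal.span {(X ^ n - 1 : R[X])} := by
  classical
  rcases subsingleton_or_nontrivial R with hR | hR
  · exact ⟨fun v => ⟨0, Subsingleton.elim _ _⟩, Subsingleton.elim _ _⟩
  have hn0 : n ≠ 0 := by rintro rfl; simp at hn
  have hu : IsUnit ζ := IsUnit.of_pow_eq_one hζ hn0
  have hdiff : ∀ i j : Fin n, i ≠ j → IsUnit (ζ ^ (i : ℕ) - ζ ^ (j : ℕ)) := by
    have key : ∀ i j : ℕ, i < j → j < n → IsUnit (ζ ^ i - ζ ^ j) := fun i j hij hj => by
      rw [show ζ ^ i - ζ ^ j = ζ ^ i * (1 - ζ ^ (j - i)) by rw [mul_sub, ← pow_add, mul_one, Nat.add_sub_cancel' hij.le]]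
      exact (hu.pow i).mul (hprim _ (by omega) (by omega))
    intro i j hij
    rcases lt_or_gt_of_ne (fun h => hij (Fin.ext h)) with h | h
    · exact key _ _ h j.2
    · rw [← neg_sub]; exact (key _ _ h i.2).neg
  let L : Fin n → R[X] := fun i => X - C (ζ ^ (i : ℕ))
  have hco : ∀ i j, i ≠ j → IsCoprime (L i) (L j) := fun i j h => by
    obtain ⟨w, hw⟩ := (hdiff i j h).exists_left_inv
    refine ⟨-C w, C w, ?_⟩
    have : C w * (C (ζ ^ (i : ℕ)) - C (ζ ^ (j : ℕ))) = 1 := by rw [← map_sub, ← map_mul, hw, map_one]
    simp only [L]
    linear_combination this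
  have hker : ∀ (P : R[X]) (i : Fin n), aeval (ζ ^ (i : ℕ)) P = 0 ↔ P ∈ Ideal.span {L i} := fun P i => by
    rw [Ideal.mem_span_singleton, dvd_iff_isRoot, IsRoot.def, coe_aeval_eq_eval]
  constructor
  · intro v
    have hI : Pairwise (Function.onFun IsCoprime (fun i => Ideal.span {L i})) := fun i j h => (Ideal.isCoprime_span_singleton_iff _ _).2 (hco i j h)
    obtain ⟨P, hP⟩ := Ideal.exists_forall_sub_mem_ideal hI (fun i => C (v i))
    refine ⟨P, funext fun i => ?_⟩
    have := (hker _ i).2 (hP i)
    rwa [map_sub, aeval_C, sub_eq_zero] at this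
  · have hprod : ∏ i, L i = X ^ n - 1 := by
      have hdvd : (∏ i, L i) ∣ X ^ n - 1 := Finset.prod_dvd_of_coprime (fun i _ j _ h => hco i j h) fun i _ => by
        rw [← Ideal.mem_span_singleton, ← hker, map_sub, map_pow, aeval_X, map_one, ← pow_mul, mul_comm, pow_mul, hζ, one_pow, sub_self]
      have hm : (∏ i, L i).Monic := monic_prod_of_monic _ _ fun i _ => monic_X_sub_C _
      refine (eq_of_monic_of_dvd_of_natDegree_le hm (monic_X_pow_sub (by simpa using Nat.pos_of_ne_zero hn0)) hdvd ?_).symm
      rw [natDegree_prod_of_monic _ _ fun i _ => monic_X_sub_C _]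
      simp only [L, natDegree_X_sub_C, Finset.sum_const, Finset.card_univ, Fintype.card_fin, smul_eq_mul, mul_one]
      exact (natDegree_sub_le _ _).trans (by simp)
    rw [← hprod, ← Ideal.iInf_span_singleton hco]
    ext P
    rw [RingHom.mem_ker, Submodule.mem_iInf, funext_iff]
    exact forall_congr' fun i => hker P i

end Groth.Agent.S13126
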