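import Groth.Statements.S13127
import Groth.Agent.KumFamPS.Forms

set_option autoImplicit false
universe u
open KumFam

namespace Groth.Agent.S13127

open MvPowerSeries in
/-- Let R be a commutative ring of characteristic 2 and l0, l2, l4, s0, s2, s4, τ, lam, sig ∈ R with l4,
s4, lam, sig units, and let κ₁, κ₂ ∈ R satisfy s4² κ₁³ = sig² and l4² κ₂³ = lam² (cube roots of
sig²/s4² and lam²/l4²). In the power series ring R[[a, b, c]] (a = X 0, b = X 1, c = X 2) put F = c²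
+ s0² a³ b⁴ + s2² a³ b² + s4² a³ + l0² a⁴ b³ + l2² a² b³ + l4² b³ + τ² a³ b³ and F₀ = c² + sig² a³ +
lam² b³. Then some R-algebra automorphism of R[[a, b, c]] maps F to F₀; consequently R[[a, b,
c]]/(F) ≅ R[[a, b, c]]/(F₀). (In the published statement lam, sig are the representatives in the
ground field of the residues of l4, s4 at a rational point, so that F₀ is the equation of the
special fibre made constant; this row takes them to be arbitrary units.) -/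
theorem result (R : Type u) [CommRing R] [CharP R 2]
    (l0 l2 l4 s0 s2 s4 τ lam sig κ₁ κ₂ : R) (hl4 : IsUnit l4) (hs4 : IsUnit s4) (hlam : IsUnit lam)
    (hsig : IsUnit sig) (h₁ : s4 ^ 2 * κ₁ ^ 3 = sig ^ 2) (h₂ : l4 ^ 2 * κ₂ ^ 3 = lam ^ 2) :
    ∃ φ : MvPowerSeries (Fin 3) R ≃ₐ[R] MvPowerSeries (Fin 3) R,
      φ ((X 2 ^ 2 + C (s0 ^ 2) * X 0 ^ 3 * X 1 ^ 4 + C (s2 ^ 2) * X 0 ^ 3 * X 1 ^ 2 +
          C (s4 ^ 2) * X 0 ^ 3 + C (l0 ^ 2) * X 0 ^ 4 * X 1 ^ 3 + C (l2 ^ 2) * X 0 ^ 2 * X 1 ^ 3 +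
          C (l4 ^ 2) * X 1 ^ 3 + C (τ ^ 2) * X 0 ^ 3 * X 1 ^ 3 : MvPowerSeries (Fin 3) R)) =
        (X 2 ^ 2 + C (sig ^ 2) * X 0 ^ 3 + C (lam ^ 2) * X 1 ^ 3 : MvPowerSeries (Fin 3) R) := by
  obtain ⟨u, hu⟩ := (hs4.pow 2)
  obtain ⟨v, hv⟩ := (hl4.pow 2)
  let U : MvPowerSeries (Fin 3) R := C (s0 ^ 2) * X 1 ^ 4 + C (s2 ^ 2) * X 1 ^ 2 + C (s4 ^ 2)
    + C (τ ^ 2) * X 1 ^ 3
  let V : MvPowerSeries (Fin 3) R := C (l0 ^ 2) * X 0 ^ 4 + C (l2 ^ 2) * X 0 ^ 2 + C (l4 ^ 2)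
  obtain ⟨w₁, hw₁, hw₁c⟩ := KumFamPSLib.exists_pow_three_eq (C ((u⁻¹ : Rˣ) : R) * U)
    (by simp [U, ← hu])
  obtain ⟨w₂, hw₂, hw₂c⟩ := KumFamPSLib.exists_pow_three_eq (C ((v⁻¹ : Rˣ) : R) * V)
    (by simp [V, ← hv])
  have hk₁ : IsUnit κ₁ := (isUnit_pow_iff three_ne_zero).mp
    (isUnit_of_mul_isUnit_right (h₁ ▸ hsig.pow 2))
  have hk₂ : IsUnit κ₂ := (isUnit_pow_iff three_ne_zero).mp
    (isUnit_of_mul_isUnit_right (h₂ ▸ hlam.pow 2))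
  obtain ⟨k₁, rfl⟩ := hk₁
  obtain ⟨k₂, rfl⟩ := hk₂
  obtain ⟨ψ, hψ⟩ := KumFamPSLib.exists_algEquiv_X_mul
    ![C ((k₁⁻¹ : Rˣ) : R) * w₁, C ((k₂⁻¹ : Rˣ) : R) * w₂, 1] (fun i => by
      fin_cases i <;> simp [hw₁c, hw₂c])
  have hC : ∀ c : R, ψ (C c) = C c := fun c => by simpa [algebraMap_apply] using ψ.commutes c
  refine ⟨ψ.symm, ?_⟩
  rw [AlgEquiv.symm_apply_eq]
  simp only [map_add, map_mul, map_pow, hψ, hC]
  simp only [Matrix.cons_val_zero, Matrix.cons_val_one, Matrix.cons_val, mul_one, mul_pow, hw₁, hw₂]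
  have e₁ : C (σ := Fin 3) sig ^ 2 * C ((k₁⁻¹ : Rˣ) : R) ^ 3 * C ((u⁻¹ : Rˣ) : R) = 1 := by
    rw [← map_pow, ← map_pow, ← map_mul, ← map_mul, ← h₁, mul_assoc (s4 ^ 2), ← mul_pow, Units.mul_inv,
      one_pow, mul_one, ← hu, Units.mul_inv, map_one]
  have e₂ : C (σ := Fin 3) lam ^ 2 * C ((k₂⁻¹ : Rˣ) : R) ^ 3 * C ((v⁻¹ : Rˣ) : R) = 1 := by
    rw [← map_pow, ← map_pow, ← map_mul, ← map_mul, ← h₂, mul_assoc (l4 ^ 2), ← mul_pow, Units.mul_inv,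
      one_pow, mul_one, ← hv, Units.mul_inv, map_one]
  simp only [map_add, map_mul, map_pow, U, V] at *
  linear_combination -(X 0 ^ 3 * (C s0 ^ 2 * X 1 ^ 4 + C s2 ^ 2 * X 1 ^ 2 + C s4 ^ 2
    + C τ ^ 2 * X 1 ^ 3)) * e₁
    - X 1 ^ 3 * (C l0 ^ 2 * X 0 ^ 4 + C l2 ^ 2 * X 0 ^ 2 + C l4 ^ 2) * e₂

end Groth.Agent.S13127
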