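import Groth.Statements.S13128
import Groth.Agent.KumFamPS.Forms
import Mathlib.Algebra.CharP.Algebra

set_option autoImplicit false
universe u
open KumFam

namespace Groth.Agent.S13128

open MvPowerSeries in
/-- Let R be a commutative ring of characteristic 2, l0, l2, l4, s0, s2, s4, τ ∈ R with τ a unit, and α,
β ∈ R with l4² α⁴ + l2² α² + τ² α + l0² = 0 and s4² β⁴ + s2² β² + τ² β + s0² = 0. In characteristic
2 these relations give τ² α = (l4 α² + l2 α + l0)² and τ² β = (s4 β² + s2 β + s0)², so α = α′² and β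
= β′² with α′ = (l4 α² + l2 α + l0)/τ and β′ = (s4 β² + s2 β + s0)/τ. In R[[a, b, c]] (a = X 0, b =
X 1, c = X 2) put h = c² + τ² a b + (s4² b⁴ + s2² b²) a + (l4² a⁴ + l2² a²) b + l4² β a⁴ + l2² β a²
+ s4² α b⁴ + s2² α b²; this is the chart equation c² + τ² a b + (s4² b⁴ + s2² b² + s0²) a + (l4² a⁴
+ l2² a² + l0²) b after the substitution a ↦ a + α, b ↦ b + β, c ↦ c + τ α′ β′, which moves the
point (α, β, τ α′ β′) of that surface, where all partial derivatives vanish, to the origin. Then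
some R-algebra automorphism of R[[a, b, c]] maps h to c² + a b; consequently R[[a, b, c]]/(h) ≅
R[[a, b, c]]/(c² + a b), the completed local ring of an ordinary double point, constant over R. (The
published statement translates only a and b, so that its h carries the additional constant term τ² α
β; with that term h is a unit of R[[a, b, c]] whenever τ α β is a unit, for instance c² + a b + 1
over the field with two elements with l0 = s0 = τ = α = β = 1 and l2 = l4 = s2 = s4 = 0, and no ring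
automorphism carries a unit to c² + a b. The published proof begins by shifting c by a polynomial in
a, b whose constant term is τ α′ β′, a substitution of the polynomial ring which removes the term τ²
α β, and the rest of its argument takes place in R[[a, b, c]]; this row states the result for the
fully translated equation, which is what that argument proves.) -/
theorem result (R : Type u) [CommRing R] [CharP R 2]
    (l0 l2 l4 s0 s2 s4 τ α β : R) (hτ : IsUnit τ)
    (hα : l4 ^ 2 * α ^ 4 + l2 ^ 2 * α ^ 2 + τ ^ 2 * α + l0 ^ 2 = 0)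
    (hβ : s4 ^ 2 * β ^ 4 + s2 ^ 2 * β ^ 2 + τ ^ 2 * β + s0 ^ 2 = 0) :
    ∃ φ : MvPowerSeries (Fin 3) R ≃ₐ[R] MvPowerSeries (Fin 3) R,
      φ ((X 2 ^ 2 + C (τ ^ 2) * X 0 * X 1 + (C (s4 ^ 2) * X 1 ^ 4 + C (s2 ^ 2) * X 1 ^ 2) * X 0 +
          (C (l4 ^ 2) * X 0 ^ 4 + C (l2 ^ 2) * X 0 ^ 2) * X 1 + C (l4 ^ 2 * β) * X 0 ^ 4 +
          C (l2 ^ 2 * β) * X 0 ^ 2 + C (s4 ^ 2 * α) * X 1 ^ 4 + C (s2 ^ 2 * α) * X 1 ^ 2 :
          MvPowerSeries (Fin 3) R)) =
        (X 2 ^ 2 + X 0 * X 1 : MvPowerSeries (Fin 3) R) := by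
  haveI : CharP (MvPowerSeries (Fin 3) R) 2 :=
    charP_of_injective_algebraMap (R := R) MvPowerSeries.C_injective 2
  obtain ⟨t, rfl⟩ := hτ
  set α' : R := ((t⁻¹ : Rˣ) : R) * (l4 * α ^ 2 + l2 * α + l0) with hα'
  set β' : R := ((t⁻¹ : Rˣ) : R) * (s4 * β ^ 2 + s2 * β + s0) with hβ'
  have h2R : (2 : R) = 0 := CharTwo.two_eq_zero
  have htt : ((t⁻¹ : Rˣ) : R) * (t : R) = 1 := Units.inv_mul t
  have hα2 : α' ^ 2 = α := by
    rw [hα']
    linear_combination ((t⁻¹ : Rˣ) : R) ^ 2 * hα + (-α) * (((t⁻¹ : Rˣ) : R) * (t : R) + 1) * htt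
      + ((((t⁻¹ : Rˣ) : R) ^ 2) * (l4 * α ^ 2 * (l2 * α) + l4 * α ^ 2 * l0 + l2 * α * l0) - α) * h2R
  have hβ2 : β' ^ 2 = β := by
    rw [hβ']
    linear_combination ((t⁻¹ : Rˣ) : R) ^ 2 * hβ + (-β) * (((t⁻¹ : Rˣ) : R) * (t : R) + 1) * htt
      + ((((t⁻¹ : Rˣ) : R) ^ 2) * (s4 * β ^ 2 * (s2 * β) + s4 * β ^ 2 * s0 + s2 * β * s0) - β) * h2R
  let U₀ : MvPowerSeries (Fin 3) R := C ((t : R) ^ 2) + C (s4 ^ 2) * X 1 ^ 3 + C (s2 ^ 2) * X 1
    + C (l4 ^ 2) * X 0 ^ 3 + C (l2 ^ 2) * X 0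
  obtain ⟨ψ, hψ⟩ := KumFamPSLib.exists_algEquiv_X_mul ![U₀, 1, 1] (fun i => by
    fin_cases i <;> simp [U₀])
  let r : MvPowerSeries (Fin 3) R := C β' * (C l4 * X 0 ^ 2 + C l2 * X 0)
    + C α' * (C s4 * X 1 ^ 2 + C s2 * X 1)
  have hs : HasSubst (![X 0, X 1, X 2 + r] : Fin 3 → MvPowerSeries (Fin 3) R) :=
    hasSubst_of_constantCoeff_zero (fun i => by fin_cases i <;> simp [r])
  let χ := substAlgHom (R := R) hs
  have hC : ∀ c : R, χ (C c) = C c := fun c => by simpa [algebraMap_apply] using χ.commutes c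
  have hX : ∀ i, χ (X i) = (![X 0, X 1, X 2 + r] : Fin 3 → MvPowerSeries (Fin 3) R) i :=
    fun i => substAlgHom_X hs i
  have hr : χ r = r := by simp [r, hC, hX]
  have hinv : χ.comp χ = AlgHom.id R _ := by
    ext f : 1
    simp only [AlgHom.comp_apply, AlgHom.id_apply, χ, coe_substAlgHom]
    rw [subst_comp_subst_apply hs hs]
    refine (congrFun (congrArg subst ?_) f).trans (congrFun (subst_self (σ := Fin 3) (R := R)) f)
    funext i
    rw [← coe_substAlgHom hs]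
    change χ _ = _
    fin_cases i
    · simp [hX]
    · simp [hX]
    · simp [hX, hr, add_assoc, CharTwo.add_self_eq_zero]
  let χe := AlgEquiv.ofAlgHom χ χ hinv hinv
  refine ⟨(ψ.trans χe).symm, ?_⟩
  rw [AlgEquiv.symm_apply_eq, AlgEquiv.trans_apply, map_add ψ, map_pow ψ, map_mul ψ, hψ, hψ, hψ]
  simp only [Matrix.cons_val_zero, Matrix.cons_val_one, Matrix.cons_val, mul_one]
  show _ = χ _
  simp only [U₀, map_add, map_mul, map_pow, hX, hC, Matrix.cons_val_zero, Matrix.cons_val_one,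
    Matrix.cons_val, r]
  rw [show C α = C (σ := Fin 3) α' ^ 2 by rw [← map_pow, hα2],
    show C β = C (σ := Fin 3) β' ^ 2 by rw [← map_pow, hβ2]]
  have h2 : (2 : MvPowerSeries (Fin 3) R) = 0 := CharTwo.two_eq_zero
  linear_combination (-(X 2 * C β' * C l4 * X 0 ^ 2 + X 2 * C β' * C l2 * X 0
    + X 2 * C α' * C s4 * X 1 ^ 2 + X 2 * C α' * C s2 * X 1
    + C β' ^ 2 * C l4 * C l2 * X 0 ^ 3 + C α' ^ 2 * C s4 * C s2 * X 1 ^ 3
    + C β' * C α' * (C l4 * X 0 ^ 2 + C l2 * X 0) * (C s4 * X 1 ^ 2 + C s2 * X 1))) * h2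

end Groth.Agent.S13128
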