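import Groth.Statements.S13129
import Mathlib
import Groth.Agent.EulerRpushLib.Exceptional
import Groth.Agent.AlgSpLib.ReducedSmooth
import Groth.Agent.IntFunLib.Kleiman
import Groth.Agent.S2422
-- import your own Groth.Agent.* helpers here

set_option autoImplicit false
universe u
open CategoryTheory CategoryTheory.Limits AlgebraicGeometry
open KumFam

namespace Groth.Agent.S13129

/-- Let k be an algebraically closed field, Y a proper normal surface over k (irreducible of dimension 2
with integrally closed local domains), X a proper smooth surface over k, and π : X → Y a k-morphism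
which restricts to an isomorphism over Y minus a closed point y and whose fibre over y is
one-dimensional (a resolution of the singularity (Y, y)). Then R¹π_* O_X = 0 (first higher direct
image of the underlying abelian sheaf) if and only if χ(X, O_X) = χ(Y, O_Y). -/
theorem result (k : Type u) [Field k] [IsAlgClosed k]
    (X Y : Scheme.{u}) [X.Over (Spec (CommRingCat.of k))] [Y.Over (Spec (CommRingCat.of k))]
    [IsProper (X ↘ Spec (CommRingCat.of k))] [IsProper (Y ↘ Spec (CommRingCat.of k))]
    [IrreducibleSpace X] [IrreducibleSpace Y] (hdX : topologicalKrullDim X = 2)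
    (hdY : topologicalKrullDim Y = 2) [Smooth (X ↘ Spec (CommRingCat.of k))]
    (hYn : Pi1.IsNormalScheme Y) (π : X ⟶ Y) [π.IsOver (Spec (CommRingCat.of k))]
    (y : Y) (hy : IsClosed ({y} : Set Y))
    (hiso : IsIso (π ∣_ (⟨({y} : Set Y)ᶜ, hy.isOpen_compl⟩ : Y.Opens)))
    (hfib : topologicalKrullDim ((fun x : X => π.base x) ⁻¹' ({y} : Set Y)) = 1) :
    IsZero ((Coh.RpushAb π 1).obj (Coh.toAb (Coh.structureModule X))) ↔
      Curv2.euler k X (Coh.structureModule X) = Curv2.euler k Y (Coh.structureModule Y) := by
  have hπ : π ≫ (Y ↘ Spec (CommRingCat.of k)) = X ↘ Spec (CommRingCat.of k) := comp_over π (Spec (CommRingCat.of k))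
  haveI := CurvLib.isNoetherian k (X := X)
  haveI := CurvLib.isNoetherian k (X := Y)
  haveI : IsProper π := IntFunLib.isProper_g hπ
  haveI : IsReduced X := AlgSpLib.isReduced_of_smooth (X ↘ Spec (CommRingCat.of k))
  haveI : IsIntegral X := isIntegral_of_irreducibleSpace_of_isReduced X
  haveI : ∀ z : Y, _root_.IsReduced (Y.presheaf.stalk z) := fun z => by
    haveI := (hYn z).1
    infer_instance
  haveI : IsReduced Y := isReduced_of_isReduced_stalk Y
  haveI : IsIntegral Y := isIntegral_of_irreducibleSpace_of_isReduced Y
  let U : Y.Opens := ⟨({y} : Set Y)ᶜ, hy.isOpen_compl⟩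
  haveI : IsIso (π ∣_ U) := hiso
  have hgen : genericPoint Y ∈ U := fun h => by
    have h0 : topologicalKrullDim (closure ({genericPoint Y} : Set Y)) = topologicalKrullDim Y :=
      IntFunLib.dim_closure_generic
    rw [Set.mem_singleton_iff.mp h, hy.closure_eq, hdY] at h0
    have := (topologicalKrullDim_zero_of_discreteTopology _).trans' h0.ge
    exact absurd this (by decide)
  obtain ⟨a, ha⟩ := EulerRpushLib.exists_over π U hgen
  have hS : π (genericPoint X) ∈ U :=
    ((genericPoint_spec X).mem_open_set_iff (π ⁻¹ᵁ U).2).mpr ⟨a, trivial, show π a ∈ U from ha ▸ hgen⟩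
  have hdom : π.base (genericPoint X) ⤳ genericPoint Y := by
    rw [← ha]
    exact ((genericPoint_spec X).specializes trivial).map π.continuous
  have hη : π (genericPoint X) = genericPoint Y :=
    (hdom.antisymm ((genericPoint_spec Y).specializes trivial)).eq
  have hsur : Function.Surjective (CohIII.stalkToFunctionField π (genericPoint Y) hdom) := by
    haveI := EulerRpushLib.isIso_stalkMap_of_restrict π U (show genericPoint X ∈ π ⁻¹ᵁ U from hS)
    refine (ConcreteCategory.bijective_of_isIso (π.stalkMap (genericPoint X))).2.comp ?_
    haveI : IsIso (Y.presheaf.stalkSpecializes hdom) := by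
      have aux : ∀ (p : Y) (e : π (genericPoint X) = p) (h : π.base (genericPoint X) ⤳ p),
          IsIso (Y.presheaf.stalkSpecializes h) := by
        rintro p rfl h
        rw [TopCat.Presheaf.stalkSpecializes_refl]
        infer_instance
      exact aux _ hη hdom
    exact (ConcreteCategory.bijective_of_isIso (Y.presheaf.stalkSpecializes hdom)).2
  have happ := Groth.Agent.S2422.result hYn π hdom (fun x _ => hsur x)
  haveI : IsIso (ClSub.unitToPush π) :=
    Scheme.Modules.Hom.isIso_iff_isIso_app.mpr fun V => (ConcreteCategory.isIso_iff_bijective _).mpr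
      (by
        haveI := happ V
        exact (ConcreteCategory.bijective_of_isIso (π.app V) :))
  rw [EulerRpushLib.isZero_rpushAb_one_iff (k := k) hdX π hπ U hS
      (fun x hx => (EulerRpushLib.subsingleton_fibre π U hx).finite),
    CurvLib.euler_congr (k := k) (asIso (ClSub.unitToPush π)).symm]

end Groth.Agent.S13129
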