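import Groth.Statements.S13130
import Mathlib


-- import your own Groth.Agent.* helpers here

set_option autoImplicit false
universe u v
open KumFam

namespace Groth.Agent.S13130

/-- Let R be a nontrivial commutative ring and M a commutative group, with group algebra R[M], the
coordinate ring of the diagonalizable group scheme D(M) over Spec R. Then D(M) is integral over Spec
R, i.e. R[M] is an integral R-algebra, if and only if M is a torsion group. (The published statement
is over an arbitrary base scheme; the question is local and this row is the affine form, with R
nontrivial so that the elements of M are R-linearly independent.) -/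
theorem result (R : Type u) [CommRing R] [Nontrivial R]
    (M : Type v) [CommGroup M] :
    Algebra.IsIntegral R (MonoidAlgebra R M) ↔ IsMulTorsion M := by
  constructor
  · intro hI g
    classical
    obtain ⟨q, hq, hq0⟩ := hI.isIntegral (MonoidAlgebra.of R M g)
    rw [← Polynomial.aeval_def] at hq0
    by_contra hg
    have hinj : Function.Injective fun i : ℕ => g ^ i := injective_pow_iff_not_isOfFinOrder.2 hg
    have h := congrArg (fun z : MonoidAlgebra R M => z.coeff (g ^ q.natDegree)) hq0
    simp only [Polynomial.aeval_eq_sum_range, MonoidAlgebra.coeff_sum, Finsupp.finsetSum_apply,
      ← map_pow, MonoidAlgebra.coeff_zero, Finsupp.zero_apply] at h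
    rw [Finset.sum_eq_single q.natDegree] at h
    · simp [MonoidAlgebra.of_apply, hq.coeff_natDegree] at h
    · intro i _ hi
      simp [MonoidAlgebra.of_apply, hinj.ne hi]
    · intro hi; simp at hi
  · intro h
    refine ⟨fun x => ?_⟩
    induction x using MonoidAlgebra.induction_linear with
    | zero => exact isIntegral_zero
    | add f g hf hg => exact hf.add hg
    | single g r =>
      have : MonoidAlgebra.single g r = r • MonoidAlgebra.of R M g := by simp [MonoidAlgebra.of_apply]
      rw [this]
      refine IsIntegral.smul r (IsIntegral.of_pow (h g).orderOf_pos ?_)
      rw [← map_pow, pow_orderOf_eq_one, map_one]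
      exact isIntegral_one

end Groth.Agent.S13130
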