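import Groth.Statements.S13132
import Groth.Agent.SemiRankLib.ArtMod
import Mathlib.RingTheory.Flat.Basic
import Mathlib.RingTheory.Ideal.Operations
-- import your own Groth.Agent.* helpers here

set_option autoImplicit false
universe u v
open CAlg

namespace Groth.Agent.S13132

/-- Let A' be an Artinian local ring, I a proper ideal of A' and S' a flat A'-algebra. An element f' of
S' is a non-zero-divisor exactly when its image in S'/IS' is one; and when f' is a non-zero-divisor,
the quotient S'/(f') is flat over A'. (The published statement is for local Artinian algebras with a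
fixed residue field over a ring of Witt vectors and a surjection between two of them; the argument
uses only that A' is Artinian local and I is a proper ideal, which is the form taken here.) -/
theorem result
    {A' : Type u} [CommRing A'] [IsArtinianRing A'] [IsLocalRing A'] (I : Ideal A') (hI : I ≠ ⊤)
    {S' : Type v} [CommRing S'] [Algebra A' S'] [Module.Flat A' S'] (f' : S') :
    (f' ∈ nonZeroDivisors S' ↔
      Ideal.Quotient.mk (I.map (algebraMap A' S')) f' ∈ nonZeroDivisors (S' ⧸ I.map (algebraMap A' S'))) ∧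
    (f' ∈ nonZeroDivisors S' → Module.Flat A' (S' ⧸ Ideal.span {f'})) := by
  classical
  have hnil := SemiRankLib.isNilpotent_maximalIdeal (C := A')
  let m := IsLocalRing.maximalIdeal A'
  haveI := DefLib.free_of_flat_of_nilpotent (M := S') hnil
  let b := Module.Free.chooseBasis A' S'
  have hIm : I ≤ m := IsLocalRing.le_maximalIdeal hI
  have hmem : ∀ (J : Ideal A') (x : S'), x ∈ J • (⊤ : Submodule A' S') ↔ ∀ i, b.repr x i ∈ J := fun J x => by
    constructor
    · intro hx i
      refine Submodule.smul_induction_on hx (fun r hr z _ => ?_) (fun u v hu hv => by rw [map_add, Finsupp.add_apply]; exact add_mem hu hv)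
      rw [map_smul, Finsupp.smul_apply, smul_eq_mul]
      exact J.mul_mem_right _ hr
    · intro h
      rw [← b.linearCombination_repr x, Finsupp.linearCombination_apply]
      exact Submodule.sum_mem _ fun i _ => Submodule.smul_mem_smul (h i) trivial
  let μ : S' →ₗ[A'] S' := LinearMap.mulLeft A' f'
  have key : ∀ J : Ideal A', J ≠ ⊤ → (∀ y, f' * y ∈ J • (⊤ : Submodule A' S') → y ∈ J • (⊤ : Submodule A' S')) →
      ∀ x, μ x ∈ m • (⊤ : Submodule A' S') → x ∈ m • (⊤ : Submodule A' S') := by
    intro J hJ hJf x hx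
    by_contra hne
    rw [hmem] at hne
    push Not at hne
    obtain ⟨i, hi⟩ := hne
    obtain ⟨N, hN⟩ := hnil
    have hex : ∃ j, m ^ j ≤ J := ⟨N, by rw [hN]; exact bot_le⟩
    have hj0 : Nat.find hex ≠ 0 := fun h => hJ (by
      have := Nat.find_spec hex
      rwa [h, pow_zero, Ideal.one_eq_top, top_le_iff] at this)
    obtain ⟨j, hj⟩ := Nat.exists_eq_succ_of_ne_zero hj0
    have hnot : ¬ m ^ j ≤ J := Nat.find_min hex (by omega)
    obtain ⟨a, ha, haJ⟩ := SetLike.not_le_iff_exists.mp hnot
    have hstep : ∀ r ∈ m, a * r ∈ J := fun r hr => Nat.find_spec hex (by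
      rw [hj, pow_succ]
      exact Ideal.mul_mem_mul ha hr)
    have h1 : f' * (a • x) ∈ J • (⊤ : Submodule A' S') := by
      rw [hmem]
      intro k
      rw [mul_smul_comm, map_smul, Finsupp.smul_apply, smul_eq_mul]
      exact hstep _ ((hmem m _).mp hx k)
    have h2 := (hmem J _).mp (hJf _ h1) i
    rw [map_smul, Finsupp.smul_apply, smul_eq_mul] at h2
    have hu : IsUnit (b.repr x i) := of_not_not hi
    exact haJ ((Ideal.mul_unit_mem_iff_mem J hu).mp h2)
  have hI' : ∀ y : S', y ∈ I.map (algebraMap A' S') ↔ y ∈ I • (⊤ : Submodule A' S') := fun y => by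
    rw [Ideal.smul_top_eq_map]; rfl
  have hflat : (∀ x, μ x ∈ m • (⊤ : Submodule A' S') → x ∈ m • (⊤ : Submodule A' S')) →
      Function.Injective μ ∧ Module.Flat A' (S' ⧸ Ideal.span {f'}) := fun h => by
    obtain ⟨h1, h2⟩ := DefLib.splitInjective_of_injective_mod hnil μ h
    haveI := h2
    have e : LinearMap.range μ = (Ideal.span {f'}).restrictScalars A' := by
      ext y
      rw [Submodule.restrictScalars_mem, Ideal.mem_span_singleton']
      exact ⟨fun ⟨z, hz⟩ => ⟨z, by rw [mul_comm]; exact hz⟩, fun ⟨z, hz⟩ => ⟨z, by rw [← hz, mul_comm]; rfl⟩⟩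
    exact ⟨h1, Module.Flat.of_linearEquiv ((Submodule.quotEquivOfEq _ _ e).trans (Submodule.Quotient.restrictScalarsEquiv A' (Ideal.span {f'}))).symm⟩
  have hz : f' ∈ nonZeroDivisors S' → Module.Flat A' (S' ⧸ Ideal.span {f'}) ∧
      (∀ y, f' * y ∈ I • (⊤ : Submodule A' S') → y ∈ I • (⊤ : Submodule A' S')) := by
    intro hf
    have hinj : Function.Injective μ := fun x y hxy => (mul_cancel_left_mem_nonZeroDivisors hf).mp hxy
    obtain ⟨-, hF⟩ := hflat (key ⊥ bot_ne_top (fun y hy => by
      rw [Submodule.bot_smul, Submodule.mem_bot] at hy ⊢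
      exact hinj (by rw [map_zero]; exact hy)))
    refine ⟨hF, fun y hy => ?_⟩
    haveI := hF
    let π : S' →ₗ[A'] S' ⧸ Ideal.span {f'} := (Ideal.Quotient.mkₐ A' _).toLinearMap
    have h3 := DefLib.ker_inf_smul_le π Ideal.Quotient.mk_surjective I
      ⟨Ideal.Quotient.eq_zero_iff_mem.mpr (Ideal.mul_mem_right _ _ (Ideal.mem_span_singleton_self f')), hy⟩
    have h4 : LinearMap.ker π ≤ LinearMap.range μ := fun z hz => by
      obtain ⟨c, rfl⟩ := Ideal.mem_span_singleton'.mp (Ideal.Quotient.eq_zero_iff_mem.mp hz)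
      exact ⟨c, mul_comm _ _⟩
    have h5 := Submodule.smul_mono le_rfl h4 h3
    rw [LinearMap.range_eq_map, ← Submodule.map_smul''] at h5
    obtain ⟨w, hw, hwy⟩ := h5
    rwa [hinj hwy] at hw
  refine ⟨⟨fun hf => ?_, fun hf => ?_⟩, fun hf => (hz hf).1⟩
  · rw [mem_nonZeroDivisors_iff_right]
    intro z hz0
    obtain ⟨y, rfl⟩ := Ideal.Quotient.mk_surjective z
    rw [← map_mul, Ideal.Quotient.eq_zero_iff_mem, hI', mul_comm] at hz0
    rw [Ideal.Quotient.eq_zero_iff_mem, hI']
    exact (hz hf).2 y hz0
  · obtain ⟨hinj, -⟩ := hflat (key I hI (fun y hy => by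
      rw [← hI'] at hy ⊢
      rw [← Ideal.Quotient.eq_zero_iff_mem] at hy ⊢
      rw [map_mul, mul_comm] at hy
      exact (mem_nonZeroDivisors_iff_right.mp hf) _ hy))
    rw [mem_nonZeroDivisors_iff_right]
    intro y hy
    exact hinj (show f' * y = f' * 0 by rw [mul_zero, mul_comm, hy])

end Groth.Agent.S13132
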