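import Groth.Statements.S13134
import Mathlib.RingTheory.Flat.Equalizer
import Mathlib.LinearAlgebra.TensorProduct.Quotient
import Mathlib.RingTheory.Artinian.Ring
import Mathlib.RingTheory.MvPolynomial.Basic
import Mathlib.RingTheory.Ideal.Quotient.Operations
import Mathlib.RingTheory.HopkinsLevitzki
-- import your own Groth.Agent.* helpers here

set_option autoImplicit false
universe u v
open CAlg
open scoped TensorProduct

namespace Groth.Agent.S13134

/-- Let A' be an Artinian local ring, I a proper ideal, A = A'/I and f_1, …, f_m ∈ A[x_1, …, x_n]. Every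
flat A'-algebra B' equipped with a surjection π onto A[x]/(f_1, …, f_m) with kernel I·B', compatible
with A' → A, is a quotient of A'[x_1, …, x_n] by the ideal generated by some lifts f'_1, …, f'_m of
the f_i, compatibly with π and with reduction of polynomials modulo I. (The published statement is
for a surjection of local Artinian algebras with a fixed residue field over a ring of Witt vectors;
only the Artinian local base and the proper ideal are used, which is the form taken here.) -/
theorem result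
    {A' : Type u} [CommRing A'] [IsArtinianRing A'] [IsLocalRing A'] (I : Ideal A') (hI : I ≠ ⊤)
    {n m : ℕ} (f : Fin m → MvPolynomial (Fin n) (A' ⧸ I))
    {B' : Type v} [CommRing B'] [Algebra A' B'] [Module.Flat A' B']
    (π : B' →+* MvPolynomial (Fin n) (A' ⧸ I) ⧸ Ideal.span (Set.range f))
    (hπ : Function.Surjective π) (hker : RingHom.ker π = I.map (algebraMap A' B'))
    (hcomp : π.comp (algebraMap A' B') =
      ((Ideal.Quotient.mk (Ideal.span (Set.range f))).comp MvPolynomial.C).comp (Ideal.Quotient.mk I)) :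
    ∃ (f' : Fin m → MvPolynomial (Fin n) A') (ψ : MvPolynomial (Fin n) A' →ₐ[A'] B'),
      (∀ i, MvPolynomial.map (Ideal.Quotient.mk I) (f' i) = f i) ∧
      Function.Surjective ψ ∧ RingHom.ker ψ.toRingHom = Ideal.span (Set.range f') ∧
      ∀ q, π (ψ q) = Ideal.Quotient.mk (Ideal.span (Set.range f)) (MvPolynomial.map (Ideal.Quotient.mk I) q) := by
  classical
  obtain ⟨N, hN⟩ : ∃ N, I ^ N = ⊥ := by
    obtain ⟨N, hN⟩ := IsArtinianRing.isNilpotent_jacobson_bot (R := A')
    rw [IsLocalRing.jacobson_eq_maximalIdeal ⊥ bot_ne_top] at hN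
    exact ⟨N, le_bot_iff.1 ((Ideal.pow_right_mono (IsLocalRing.le_maximalIdeal hI) N).trans hN.le)⟩
  let P := MvPolynomial (Fin n) A'
  let J₀ := Ideal.span (Set.range f)
  let red : P →+* MvPolynomial (Fin n) (A' ⧸ I) := MvPolynomial.map (Ideal.Quotient.mk I)
  choose b hb using fun i => hπ (Ideal.Quotient.mk J₀ (MvPolynomial.X i))
  let ψ : P →ₐ[A'] B' := MvPolynomial.aeval b
  have hψπ : ∀ q, π (ψ q) = Ideal.Quotient.mk J₀ (red q) := by
    suffices π.comp ψ.toRingHom = (Ideal.Quotient.mk J₀).comp red from fun q => RingHom.congr_fun this q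
    refine MvPolynomial.ringHom_ext (fun a => ?_) (fun i => ?_)
    · have := RingHom.congr_fun hcomp a
      simp only [RingHom.comp_apply] at this ⊢
      rw [show ψ.toRingHom (MvPolynomial.C a) = algebraMap A' B' a from ψ.commutes a, this]
      simp [red, J₀]
    · show π (MvPolynomial.aeval b (MvPolynomial.X i)) = Ideal.Quotient.mk J₀ (MvPolynomial.map (Ideal.Quotient.mk I) (MvPolynomial.X i))
      rw [MvPolynomial.aeval_X, hb, MvPolynomial.map_X]
  have hred : Function.Surjective red := MvPolynomial.map_surjective _ Ideal.Quotient.mk_surjective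
  have h1 : ∀ y : B', ∃ q, y - ψ q ∈ I.map (algebraMap A' B') := fun y => by
    obtain ⟨z, hz⟩ := Ideal.Quotient.mk_surjective (π y)
    obtain ⟨q, rfl⟩ := hred z
    exact ⟨q, by rw [← hker, RingHom.mem_ker, map_sub, hψπ, hz, sub_self]⟩
  have hn : ∀ k : ℕ, ∀ y : B', ∃ q, y - ψ q ∈ I.map (algebraMap A' B') ^ k := by
    intro k
    induction k with
    | zero => exact fun y => ⟨0, by simp⟩
    | succ k ih =>
      intro y
      obtain ⟨q, hq⟩ := ih y
      have hq' : y - ψ q ∈ (I ^ k • ⊤ : Submodule A' B') := by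
        rw [Ideal.smul_top_eq_map, Ideal.map_pow]; exact hq
      suffices ∀ z ∈ (I ^ k • ⊤ : Submodule A' B'), ∃ t, z - ψ t ∈ I.map (algebraMap A' B') ^ (k + 1) by
        obtain ⟨t, ht⟩ := this _ hq'
        exact ⟨q + t, by rw [map_add, ← sub_sub]; exact ht⟩
      intro z hz
      refine Submodule.smul_induction_on hz (fun a ha w _ => ?_) (fun u v ⟨s, hs⟩ ⟨t, ht⟩ => ⟨s + t, by
        rw [map_add, add_sub_add_comm]; exact add_mem hs ht⟩)
      obtain ⟨t, ht⟩ := h1 w
      refine ⟨a • t, ?_⟩
      rw [map_smul, ← smul_sub, pow_succ, Algebra.smul_def]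
      exact Ideal.mul_mem_mul (by rw [← Ideal.map_pow]; exact Ideal.mem_map_of_mem _ ha) ht
  have hsurj : Function.Surjective ψ := fun y => by
    obtain ⟨q, hq⟩ := hn N y
    rw [← Ideal.map_pow, hN, Ideal.map_bot, Submodule.mem_bot] at hq
    exact ⟨q, (sub_eq_zero.1 hq).symm⟩
  choose g hg using fun i => hred (f i)
  have hcorr : ∀ i, ∃ c : P, c ∈ RingHom.ker red ∧ ψ c = ψ (g i) := by
    intro i
    have : ψ (g i) ∈ (I.map (algebraMap A' P)).map ψ.toRingHom := by
      rw [Ideal.map_map, show ψ.toRingHom.comp (algebraMap A' P) = algebraMap A' B' from ψ.comp_algebraMap, ← hker,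
        RingHom.mem_ker, hψπ, hg]
      exact Ideal.Quotient.eq_zero_iff_mem.2 (Ideal.subset_span ⟨i, rfl⟩)
    obtain ⟨c, hc, hce⟩ := (Ideal.mem_map_iff_of_surjective ψ.toRingHom hsurj).1 this
    exact ⟨c, (by rw [MvPolynomial.ker_map, Ideal.mk_ker]; exact hc), hce⟩
  choose c hc hce using hcorr
  let f' : Fin m → P := fun i => g i - c i
  have hf' : ∀ i, red (f' i) = f i := fun i => by
    rw [map_sub, hg, show red (c i) = 0 from hc i, sub_zero]
  refine ⟨f', ψ, hf', hsurj, ?_, hψπ⟩
  let K := RingHom.ker ψ.toRingHom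
  let J := Ideal.span (Set.range f')
  have hJK : J ≤ K := Ideal.span_le.2 (by
    rintro _ ⟨i, rfl⟩
    show ψ (g i - c i) = 0
    rw [map_sub, hce, sub_self])
  let KR : Submodule A' P := K.restrictScalars A'
  have hflat : ∀ x ∈ K, x ∈ I.map (algebraMap A' P) → x ∈ I.map (algebraMap A' P) * K := by
    intro x hx hxI
    have hinj := LinearMap.lTensor_injective_of_exact_of_flat ψ.toLinearMap hsurj KR.subtype Subtype.val_injective
      (fun a => ⟨fun ha => ⟨⟨a, ha⟩, rfl⟩, by rintro ⟨w, rfl⟩; exact w.2⟩) (A' ⧸ I)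
    have h0 : (1 : A' ⧸ I) ⊗ₜ[A'] (⟨x, hx⟩ : KR) = 0 := by
      apply hinj
      rw [LinearMap.lTensor_tmul, map_zero]
      refine (TensorProduct.quotTensorEquivQuotSMul P I).injective ?_
      rw [map_zero]
      show TensorProduct.quotTensorEquivQuotSMul P I (Ideal.Quotient.mk I 1 ⊗ₜ[A'] x) = 0
      rw [TensorProduct.quotTensorEquivQuotSMul_mk_tmul, Submodule.Quotient.mk_eq_zero, one_smul, Ideal.smul_top_eq_map]
      exact hxI
    have h2 := congrArg (TensorProduct.quotTensorEquivQuotSMul KR I) h0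
    rw [map_zero, show (1 : A' ⧸ I) = Ideal.Quotient.mk I 1 from rfl, TensorProduct.quotTensorEquivQuotSMul_mk_tmul,
      Submodule.Quotient.mk_eq_zero, one_smul] at h2
    have h3 : x ∈ Submodule.map KR.subtype (I • ⊤) := ⟨_, h2, rfl⟩
    rw [Submodule.map_smul'', Submodule.map_top, Submodule.range_subtype] at h3
    refine Submodule.smul_induction_on h3 (fun a ha w hw => ?_) (fun u v => add_mem)
    rw [Algebra.smul_def]
    exact Ideal.mul_mem_mul (Ideal.mem_map_of_mem _ ha) hw
  have hK1 : K ≤ J ⊔ I.map (algebraMap A' P) * K := by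
    intro q hq
    have h0 : red q ∈ J.map red := by
      rw [Ideal.map_span, ← Set.range_comp, show red ∘ f' = f from funext hf']
      exact Ideal.Quotient.eq_zero_iff_mem.1 (by rw [← hψπ, show ψ q = 0 from hq, map_zero])
    obtain ⟨j, hj, hje⟩ := (Ideal.mem_map_iff_of_surjective red hred).1 h0
    have hker2 : q - j ∈ RingHom.ker red := by rw [RingHom.mem_ker, map_sub, hje, sub_self]
    rw [MvPolynomial.ker_map, Ideal.mk_ker] at hker2
    rw [← add_sub_cancel j q]
    exact Submodule.add_mem_sup hj (hflat _ (sub_mem hq (hJK hj)) hker2)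
  have hKn : ∀ k, K ≤ J ⊔ I.map (algebraMap A' P) ^ k * K := by
    intro k
    induction k with
    | zero => simp
    | succ k ih =>
      refine ih.trans (sup_le le_sup_left ((Ideal.mul_mono_right hK1).trans ?_))
      rw [Ideal.mul_sup, pow_succ, mul_assoc]
      exact sup_le_sup_right Ideal.mul_le_right _
  have := hKn N
  rw [← Ideal.map_pow, hN, Ideal.map_bot, Ideal.bot_mul, sup_bot_eq] at this
  exact le_antisymm this hJK

end Groth.Agent.S13134
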