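import Groth.Statements.S13135
import Groth.Agent.TransLib.Artin

set_option autoImplicit false
universe u
open CAlg

namespace Groth.Agent.S13135

/-- Let A' be an Artinian local ring, I a proper ideal, A = A'/I and f_1, …, f_m a regular sequence in
A[x_1, …, x_n]. For every choice of lifts f'_1, …, f'_m in A'[x_1, …, x_n] the quotient A'[x]/(f'_1,
…, f'_m) is flat over A' (so it is a flat lifting of A[x]/(f_1, …, f_m)). (The published statement
is for a surjection of local Artinian algebras with a fixed residue field over a ring of Witt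
vectors; only the Artinian local base and the proper ideal are used, which is the form taken here.) -/
theorem result
    {A' : Type u} [CommRing A'] [IsArtinianRing A'] [IsLocalRing A'] (I : Ideal A') (hI : I ≠ ⊤)
    {n m : ℕ} (f : Fin m → MvPolynomial (Fin n) (A' ⧸ I))
    (hreg : RingTheory.Sequence.IsRegular (MvPolynomial (Fin n) (A' ⧸ I)) (List.ofFn f))
    (f' : Fin m → MvPolynomial (Fin n) A') (hf' : ∀ i, MvPolynomial.map (Ideal.Quotient.mk I) (f' i) = f i) :
    Module.Flat A' (MvPolynomial (Fin n) A' ⧸ Ideal.span (Set.range f')) := by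
  let P := MvPolynomial (Fin n) A'
  let J := I.map (algebraMap A' P)
  have hker : RingHom.ker (MvPolynomial.map (σ := Fin n) (Ideal.Quotient.mk I)) = J := by
    rw [MvPolynomial.ker_map, Ideal.mk_ker]
    rfl
  let φ : (P ⧸ J) ≃+* MvPolynomial (Fin n) (A' ⧸ I) :=
    (Ideal.quotEquivOfEq hker.symm).trans
      (RingHom.quotientKerEquivOfSurjective (MvPolynomial.map_surjective _ Ideal.Quotient.mk_surjective))
  have h1 : RingTheory.Sequence.IsRegular (P ⧸ J) ((List.ofFn f').map (Ideal.Quotient.mk J)) := by
    refine (AddEquiv.isRegular_congr (e := φ.toAddEquiv) (bs := List.ofFn f) ?_).2 hreg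
    rw [List.map_ofFn, List.forall₂_iff_get]
    refine ⟨by simp, fun i h1 h2 => ?_⟩
    intro x
    simp only [List.get_eq_getElem, List.getElem_ofFn, Function.comp_apply, smul_eq_mul]
    show φ _ = _
    rw [map_mul]
    congr 1
    rw [← hf']
    rfl
  have h2 := (TransLib.regular_iff_mod I hI (List.ofFn f')).2 h1
  have h3 := (TransLib.weaklyRegular_iff_mod I hI (List.ofFn f') P).2 h2.toIsWeaklyRegular
  have heq : Ideal.span (Set.range f') = Ideal.ofList (List.ofFn f') • (⊤ : Submodule P P) := ?_
  exact Module.Flat.of_linearEquiv ((Submodule.quotEquivOfEq _ _ heq).restrictScalars A')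
  rw [smul_eq_mul, Ideal.mul_top]
  congr 1
  ext x
  simp [List.mem_ofFn]

end Groth.Agent.S13135
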