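import Groth.Statements.S13137
import Groth.Agent.W2LiftL.Basic

set_option autoImplicit false
universe u v
open FrobAlg

namespace Groth.Agent.S13137

/-- For a perfect field k of characteristic p, a flat W₂(k)-algebra B and an ideal J of B, the quotient
B/J is flat over W₂(k) if and only if (p) ∩ J = pJ in B. (With B a flat lifting of A = B/pB this
says: B/J is a flat lifting of A modulo the image of J exactly when (p) ∩ J = pJ.) -/
theorem result
    (p : ℕ) [Fact p.Prime] (k : Type u) [Field k] [CharP k p] [PerfectRing k p]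
    (B : Type v) [CommRing B] [Algebra (FrobAlg.W2 p k) B] [Module.Flat (FrobAlg.W2 p k) B]
    (J : Ideal B) :
    Module.Flat (FrobAlg.W2 p k) (B ⧸ J) ↔
      Ideal.span {(p : B)} ⊓ J = Ideal.span {(p : B)} * J := by
  rw [W2LiftLib.flat_iff]
  have hsmul : ∀ b : B, (p : FrobAlg.W2 p k) • b = (p : B) * b := fun b => by
    rw [Algebra.smul_def, map_natCast]
  have hq : ∀ b : B, (p : FrobAlg.W2 p k) • Ideal.Quotient.mk J b = Ideal.Quotient.mk J ((p : B) * b) := fun b => by
    rw [Algebra.smul_def, map_natCast, map_mul, map_natCast]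
  have hsq : (p : B) * (p : B) = 0 := by
    rw [← map_natCast (algebraMap (FrobAlg.W2 p k) B), ← map_mul, W2LiftLib.natCast_sq, map_zero]
  constructor
  · intro h
    refine le_antisymm (fun x hx => ?_) Ideal.mul_le_inf
    obtain ⟨b, rfl⟩ := Ideal.mem_span_singleton'.mp hx.1
    obtain ⟨q, hq'⟩ := h (Ideal.Quotient.mk J b) (by
      rw [hq, Ideal.Quotient.eq_zero_iff_mem, mul_comm]; exact hx.2)
    obtain ⟨c, rfl⟩ := Ideal.Quotient.mk_surjective q
    rw [hq, Ideal.Quotient.eq] at hq'
    rw [show b * (p : B) = (p : B) * (b - p * c) by linear_combination c * hsq]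
    exact Ideal.mul_mem_mul (Ideal.mem_span_singleton_self _) hq'
  · intro h q hq0
    obtain ⟨b, rfl⟩ := Ideal.Quotient.mk_surjective q
    rw [hq, Ideal.Quotient.eq_zero_iff_mem] at hq0
    have hm : (p : B) * b ∈ Ideal.span {(p : B)} * J :=
      h ▸ ⟨Ideal.mul_mem_right _ _ (Ideal.mem_span_singleton_self _), hq0⟩
    obtain ⟨j, hj, hpj⟩ := Ideal.mem_span_singleton_mul.mp hm
    obtain ⟨c, hc⟩ := (W2LiftLib.flat_iff B).mp inferInstance (b - j) (by rw [hsmul, mul_sub, hpj, sub_self])
    refine ⟨Ideal.Quotient.mk J c, ?_⟩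
    rw [hq, Ideal.Quotient.eq, ← hsmul, ← hc, sub_sub_cancel]
    exact hj

end Groth.Agent.S13137
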