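import Groth.Statements.S13139
import Groth.Agent.FLiftPolyLib.Basic
import Mathlib.RingTheory.Regular.RegularSequence

set_option autoImplicit false
universe u
open scoped BigOperators
open FrobAlg

namespace Groth.Agent.S13139

open MvPolynomial FLiftPolyLib

variable {p : ℕ} [Fact p.Prime] {k : Type u} [Field k] [CharP k p] [PerfectRing k p] {n : ℕ}

theorem res_surjective : Function.Surjective (FrobAlg.res p k) := fun a =>
  ⟨WittVector.truncate 2 (WittVector.teichmuller p a), by
    rw [FrobAlg.res_truncate, WittVector.teichmuller_coeff_zero]⟩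

theorem map_res_surjective : Function.Surjective (MvPolynomial.map (σ := Fin n) (FrobAlg.res p k)) :=
  MvPolynomial.map_surjective _ res_surjective

theorem map_span_range {m : ℕ} (f' : Fin m → MvPolynomial (Fin n) (FrobAlg.W2 p k)) (f : Fin m → MvPolynomial (Fin n) k)
    (hf : ∀ i, MvPolynomial.map (FrobAlg.res p k) (f' i) = f i) :
    (Ideal.span (Set.range f')).map (MvPolynomial.map (FrobAlg.res p k)) = Ideal.span (Set.range f) := by
  rw [Ideal.map_span, ← Set.range_comp, show (⇑(MvPolynomial.map (FrobAlg.res p k)) ∘ f') = f from funext hf]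

/-- Lifts of a regular sequence cut out a flat algebra over `W₂(k)`. -/
theorem tors_of_regular {m : ℕ} (f' : Fin m → MvPolynomial (Fin n) (FrobAlg.W2 p k))
    (hreg : RingTheory.Sequence.IsWeaklyRegular (MvPolynomial (Fin n) k)
      (List.ofFn fun i => MvPolynomial.map (FrobAlg.res p k) (f' i))) :
    ∀ r, (p : MvPolynomial (Fin n) (FrobAlg.W2 p k)) * r ∈ Ideal.span (Set.range f') →
      ∃ c, r - (p : MvPolynomial (Fin n) (FrobAlg.W2 p k)) * c ∈ Ideal.span (Set.range f') := by
  induction m with
  | zero =>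
    intro r hr
    have h0 : Ideal.span (Set.range f') = ⊥ := by
      rw [Set.range_eq_empty, Ideal.span_empty]
    rw [h0, Ideal.mem_bot] at hr
    obtain ⟨c, hc⟩ := (map_res_eq_zero_iff r).1 (by
      by_contra hne
      obtain ⟨e, he⟩ := MvPolynomial.ne_zero_iff.1 hne
      rw [MvPolynomial.coeff_map] at he
      have h1 : (p : FrobAlg.W2 p k) * MvPolynomial.coeff e r = 0 := by
        have := congrArg (MvPolynomial.coeff e) hr
        rwa [← map_natCast (MvPolynomial.C : FrobAlg.W2 p k →+* _), MvPolynomial.coeff_C_mul,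
          MvPolynomial.coeff_zero] at this
      rcases W2LiftLib.dichotomy (MvPolynomial.coeff e r) with hu | ⟨y, hy⟩
      · exact W2LiftLib.natCast_ne_zero (hu.mul_left_eq_zero.1 h1)
      · rw [hy, map_mul, map_natCast, CharP.cast_eq_zero, mul_zero] at he
        exact he rfl)
    exact ⟨c, by rw [hc, sub_self]; exact zero_mem _⟩
  | succ m ih =>
    intro r hr
    let g : Fin m → MvPolynomial (Fin n) (FrobAlg.W2 p k) := fun i => f' i.castSucc
    have hlist : List.ofFn (fun i => MvPolynomial.map (FrobAlg.res p k) (f' i)) =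
        List.ofFn (fun i => MvPolynomial.map (FrobAlg.res p k) (g i)) ++
          [MvPolynomial.map (FrobAlg.res p k) (f' (Fin.last m))] := by
      rw [List.ofFn_succ', List.concat_eq_append]
    rw [hlist, RingTheory.Sequence.isWeaklyRegular_append_iff,
      RingTheory.Sequence.isWeaklyRegular_singleton_iff] at hreg
    obtain ⟨hg, hlast⟩ := hreg
    have hK : Ideal.span (Set.range f') = Ideal.span (Set.range g) ⊔ Ideal.span {f' (Fin.last m)} := by
      rw [← Ideal.span_union]
      congr 1
      ext x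
      constructor
      · rintro ⟨i, rfl⟩
        induction i using Fin.lastCases with
        | last => exact Or.inr rfl
        | cast i => exact Or.inl ⟨i, rfl⟩
      · rintro (⟨i, rfl⟩ | rfl) <;> exact ⟨_, rfl⟩
    rw [hK] at hr ⊢
    obtain ⟨j, hj, z, hz, hjz⟩ := Submodule.mem_sup.1 hr
    obtain ⟨a, rfl⟩ := Ideal.mem_span_singleton'.1 hz
    have h1 : MvPolynomial.map (FrobAlg.res p k) (a * f' (Fin.last m)) ∈
        Ideal.ofList (List.ofFn fun i => MvPolynomial.map (FrobAlg.res p k) (g i)) := by
      rw [eq_sub_of_add_eq' hjz, map_sub, map_mul, map_natCast, CharP.cast_eq_zero, zero_mul, zero_sub]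
      refine neg_mem ?_
      rw [Ideal.ofList, show {x | x ∈ List.ofFn fun i => MvPolynomial.map (FrobAlg.res p k) (g i)} =
        Set.range fun i => MvPolynomial.map (FrobAlg.res p k) (g i) from Set.ext fun x => by simp [List.mem_ofFn],
        ← map_span_range g _ fun i => rfl]
      exact Ideal.mem_map_of_mem _ hj
    have h2 : MvPolynomial.map (FrobAlg.res p k) a ∈
        Ideal.ofList (List.ofFn fun i => MvPolynomial.map (FrobAlg.res p k) (g i)) := by
      have h3 := (isSMulRegular_iff_right_eq_zero_of_smul.1 hlast)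
        (Submodule.Quotient.mk (MvPolynomial.map (FrobAlg.res p k) a))
      simp only [smul_eq_mul, Ideal.mul_top, ← Submodule.Quotient.mk_smul, Submodule.Quotient.mk_eq_zero] at h3
      exact h3 (by rw [mul_comm, ← map_mul]; exact h1)
    rw [Ideal.ofList, show {x | x ∈ List.ofFn fun i => MvPolynomial.map (FrobAlg.res p k) (g i)} =
        Set.range fun i => MvPolynomial.map (FrobAlg.res p k) (g i) from Set.ext fun x => by simp [List.mem_ofFn],
        ← map_span_range g _ fun i => rfl, Ideal.mem_map_iff_of_surjective _ map_res_surjective] at h2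
    obtain ⟨a', ha', haa⟩ := h2
    obtain ⟨b, hb⟩ := (map_res_eq_zero_iff (a - a')).1 (by rw [map_sub, haa, sub_self])
    obtain ⟨c, hc⟩ := ih g hg (r - b * f' (Fin.last m)) (by
      rw [show (p : MvPolynomial (Fin n) (FrobAlg.W2 p k)) * (r - b * f' (Fin.last m)) =
          j + a' * f' (Fin.last m) by linear_combination -hjz + f' (Fin.last m) * hb]
      exact add_mem hj (Ideal.mul_mem_right _ _ ha'))
    refine ⟨c, ?_⟩
    rw [show r - (p : MvPolynomial (Fin n) (FrobAlg.W2 p k)) * c =
      (r - b * f' (Fin.last m) - (p : MvPolynomial (Fin n) (FrobAlg.W2 p k)) * c) + b * f' (Fin.last m) by ring]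
    exact add_mem (Ideal.mem_sup_left hc) (Ideal.mem_sup_right (Ideal.mul_mem_left _ _ (Ideal.mem_span_singleton_self _)))

theorem flat_of_regular {m : ℕ} (f' : Fin m → MvPolynomial (Fin n) (FrobAlg.W2 p k))
    (f : Fin m → MvPolynomial (Fin n) k) (hf : ∀ i, MvPolynomial.map (FrobAlg.res p k) (f' i) = f i)
    (hreg : RingTheory.Sequence.IsRegular (MvPolynomial (Fin n) k) (List.ofFn f)) :
    ((Ideal.Quotient.mk (Ideal.span (Set.range f'))).comp
      (MvPolynomial.C : FrobAlg.W2 p k →+* MvPolynomial (Fin n) (FrobAlg.W2 p k))).Flat := by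
  refine (W2LiftLib.ringHom_flat_iff _).2 fun q hq => ?_
  obtain ⟨r, rfl⟩ := Ideal.Quotient.mk_surjective q
  rw [← map_natCast (Ideal.Quotient.mk (Ideal.span (Set.range f'))), ← map_mul, Ideal.Quotient.eq_zero_iff_mem] at hq
  obtain ⟨c, hc⟩ := tors_of_regular f' (by rw [show (fun i => MvPolynomial.map (FrobAlg.res p k) (f' i)) = f from funext hf]
                                           exact hreg.toIsWeaklyRegular) r hq
  refine ⟨Ideal.Quotient.mk _ c, ?_⟩
  rw [← map_natCast (Ideal.Quotient.mk (Ideal.span (Set.range f'))), ← map_mul, Ideal.Quotient.eq]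
  exact hc

/-- Let k be a perfect field of characteristic p and f_1, …, f_m a regular sequence in R = k[x_1, …,
x_n]. The complete intersection A = R/(f_1, …, f_m) lifts to W₂(k) compatibly with Frobenius if and
only if for some lifts f'_1, …, f'_m ∈ R' = W₂(k)[x_1, …, x_n] of the f_i and some h_1, …, h_n ∈ R'
one has F'(f'_i) − f'_i^p − p·Σ_j (∂f'_i/∂x_j)^p h_j ∈ p·(f'_1, …, f'_m) for every i, F' being the
standard Frobenius lift of R'. In terms of Frobenius residues P(f') = (F'(f') − f'^p)/p ∈ R, which
change by g^p when f' changes by pg, this is the congruence P_{f_i} + g_i^p ≡ Σ_j (∂f_i/∂x_j)^p h_j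
modulo (f_1, …, f_m) for some g_i, h_j. -/
theorem result
    (p : ℕ) [Fact p.Prime] (k : Type u) [Field k] [CharP k p] [PerfectRing k p]
    {n m : ℕ} (f : Fin m → MvPolynomial (Fin n) k)
    (hreg : RingTheory.Sequence.IsRegular (MvPolynomial (Fin n) k) (List.ofFn f)) :
    FrobAlg.IsFLiftable p k (MvPolynomial (Fin n) k ⧸ Ideal.span (Set.range f)) ↔
    ∃ (f' : Fin m → MvPolynomial (Fin n) (FrobAlg.W2 p k)) (h : Fin n → MvPolynomial (Fin n) (FrobAlg.W2 p k)),
      (∀ i, MvPolynomial.map (FrobAlg.res p k) (f' i) = f i) ∧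
      ∀ i, FrobAlg.polyFrob p k (Fin n) (f' i) - f' i ^ p
        - (p : MvPolynomial (Fin n) (FrobAlg.W2 p k)) * ∑ j, MvPolynomial.pderiv j (f' i) ^ p * h j
        ∈ Ideal.span {(p : MvPolynomial (Fin n) (FrobAlg.W2 p k))} * Ideal.span (Set.range f') := by
  constructor
  · rintro ⟨B, instB, ι, π, Φ, h⟩
    have hker : ∀ b, π b = 0 → ∃ c, b = (p : B) * c := by
      intro b hb
      have hb' : b ∈ RingHom.ker π := hb
      rw [h.ker_eq, W2LiftLib.ker_res, Ideal.map_span, Set.image_singleton, map_natCast,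
        Ideal.mem_span_singleton] at hb'
      exact hb'
    have hpp : (p : B) * p = 0 := by simpa using congrArg ι (W2LiftLib.natCast_sq (p := p) (k := k))
    have hπp : π (p : B) = 0 := by
      rw [map_natCast, ← map_natCast (algebraMap k (MvPolynomial (Fin n) k ⧸ Ideal.span (Set.range f))),
        CharP.cast_eq_zero, map_zero]
    choose y hy using fun j : Fin n => h.surj (Ideal.Quotient.mk _ (MvPolynomial.X j))
    let ev : MvPolynomial (Fin n) (FrobAlg.W2 p k) →+* B := MvPolynomial.eval₂Hom ι y
    have hev : ∀ g, π (ev g) = Ideal.Quotient.mk _ (MvPolynomial.map (FrobAlg.res p k) g) := fun g => by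
      refine RingHom.congr_fun (f := π.comp ev) (g := (Ideal.Quotient.mk _).comp (MvPolynomial.map (FrobAlg.res p k)))
        (MvPolynomial.ringHom_ext (fun a => ?_) fun i => by simp [ev, hy]) g
      simp only [RingHom.comp_apply, ev, MvPolynomial.eval₂Hom_C, MvPolynomial.map_C]
      exact RingHom.congr_fun h.comm a
    have hsurj : Function.Surjective ev := by
      have h0 : ∀ b, ∃ g c, b = ev g + (p : B) * c := fun b => by
        obtain ⟨P0, hP0⟩ := Ideal.Quotient.mk_surjective (π b)
        obtain ⟨g, rfl⟩ := map_res_surjective (p := p) P0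
        obtain ⟨c, hc⟩ := hker (b - ev g) (by rw [map_sub, hev, hP0, sub_self])
        exact ⟨g, c, by rw [← hc, add_sub_cancel]⟩
      intro b
      obtain ⟨g, c, rfl⟩ := h0 b
      obtain ⟨g', c', rfl⟩ := h0 c
      exact ⟨g + (p : MvPolynomial (Fin n) (FrobAlg.W2 p k)) * g', by
        rw [map_add, map_mul, map_natCast]; linear_combination -c' * hpp⟩
    have hlift : ∀ i, ∃ g, MvPolynomial.map (FrobAlg.res p k) g = f i ∧ ev g = 0 := fun i => by
      obtain ⟨g, hg⟩ := map_res_surjective (p := p) (f i)
      obtain ⟨c, hc⟩ := hker (ev g) (by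
        rw [hev, hg, Ideal.Quotient.eq_zero_iff_mem]; exact Ideal.subset_span ⟨i, rfl⟩)
      obtain ⟨e, rfl⟩ := hsurj c
      exact ⟨g - (p : MvPolynomial (Fin n) (FrobAlg.W2 p k)) * e, by simp [hg, CharP.cast_eq_zero],
        by rw [map_sub, map_mul, map_natCast, hc, sub_self]⟩
    choose f' hf' hf'0 using hlift
    have hJ : ∀ g, ev g = 0 → ∃ j ∈ Ideal.span (Set.range f'), ∃ r,
        g = j + (p : MvPolynomial (Fin n) (FrobAlg.W2 p k)) * r := fun g hg => by
      have h1 : MvPolynomial.map (FrobAlg.res p k) g ∈ Ideal.span (Set.range f) := by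
        rw [← Ideal.Quotient.eq_zero_iff_mem, ← hev, hg, map_zero]
      rw [← map_span_range f' f hf', Ideal.mem_map_iff_of_surjective _ map_res_surjective] at h1
      obtain ⟨j, hj, hjg⟩ := h1
      obtain ⟨r, hr⟩ := (map_res_eq_zero_iff (g - j)).1 (by rw [map_sub, hjg, sub_self])
      exact ⟨j, hj, r, by rw [← hr, add_sub_cancel]⟩
    have hle : Ideal.span (Set.range f') ≤ RingHom.ker ev := Ideal.span_le.2 (by rintro _ ⟨i, rfl⟩; exact hf'0 i)
    have hge : ∀ g, ev g = 0 → g ∈ Ideal.span (Set.range f') := fun g hg => by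
      obtain ⟨j, hj, r, rfl⟩ := hJ g hg
      have hj0 : ev j = 0 := hle hj
      rw [map_add, hj0, zero_add, map_mul, map_natCast] at hg
      obtain ⟨c, hc⟩ := (W2LiftLib.ringHom_flat_iff ι).1 h.flat (ev r) hg
      obtain ⟨e, rfl⟩ := hsurj c
      obtain ⟨j', hj', r', hr'⟩ := hJ (r - (p : MvPolynomial (Fin n) (FrobAlg.W2 p k)) * e) (by
        rw [map_sub, map_mul, map_natCast, hc, sub_self])
      rw [show j + (p : MvPolynomial (Fin n) (FrobAlg.W2 p k)) * r = j + (p : MvPolynomial (Fin n) (FrobAlg.W2 p k)) * j' by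
        linear_combination (p : MvPolynomial (Fin n) (FrobAlg.W2 p k)) * hr' +
          (e + r') * natCast_sq_poly (p := p) (k := k) (n := n)]
      exact add_mem hj (Ideal.mul_mem_left _ _ hj')
    have hh : ∀ j, ∃ e, ev (MvPolynomial.X j ^ p + (p : MvPolynomial (Fin n) (FrobAlg.W2 p k)) * e) = Φ (y j) := fun j => by
      obtain ⟨c, hc⟩ := hker (Φ (y j) - y j ^ p) (by rw [map_sub, h.red, map_pow, sub_self])
      obtain ⟨e, rfl⟩ := hsurj c
      refine ⟨e, ?_⟩
      rw [map_add, map_mul, map_natCast, ← hc, map_pow]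
      simp [ev]
    choose e he using hh
    have hcomp : ∀ g, ev (frobLift e g) = Φ (ev g) := fun g => by
      refine RingHom.congr_fun (f := ev.comp (frobLift e)) (g := Φ.comp ev)
        (MvPolynomial.ringHom_ext (fun a => ?_) fun i => ?_) g
      · simp only [RingHom.comp_apply, frobLift_C, ev, MvPolynomial.eval₂Hom_C]
        exact (RingHom.congr_fun h.semi a).symm
      · rw [RingHom.comp_apply, RingHom.comp_apply, show ev (MvPolynomial.X i) = y i by simp [ev], ← he i]
        simp [frobLift]
    have hker' : Ideal.span (Set.range f') ≤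
        RingHom.ker ((Ideal.Quotient.mk (Ideal.span (Set.range f'))).comp (frobLift e)) := fun g hg => by
      rw [RingHom.mem_ker, RingHom.comp_apply, Ideal.Quotient.eq_zero_iff_mem]
      exact hge _ (by rw [hcomp, show ev g = 0 from hle hg, map_zero])
    obtain ⟨hh', hcrit⟩ := (exists_lift_iff f' (flat_of_regular f' f hf' hreg)).1
      ⟨Ideal.Quotient.lift _ _ hker', RingHom.ext fun a => by
        simp only [RingHom.comp_apply, Ideal.Quotient.lift_mk, frobLift_C], fun b => by
        obtain ⟨g, rfl⟩ := Ideal.Quotient.mk_surjective b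
        rw [Ideal.Quotient.lift_mk, RingHom.comp_apply, Ideal.quotientMap_mk, Ideal.quotientMap_mk, map_res_frobLift,
          map_pow]⟩
    exact ⟨f', hh', hf', hcrit⟩
  · rintro ⟨f', h, hf', hh⟩
    have hflat := flat_of_regular f' f hf' hreg
    obtain ⟨Φ, hsemi, hred⟩ := (exists_lift_iff f' hflat).2 ⟨h, hh⟩
    let π := Ideal.quotientMap (Ideal.span (Set.range f)) (MvPolynomial.map (FrobAlg.res p k))
      (I := Ideal.span (Set.range f')) (Ideal.map_le_iff_le_comap.1 (map_span_range f' f hf').le)
    refine ⟨_, inferInstance, _, π, Φ,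
      { flat := hflat
        surj := fun a => ?_
        ker_eq := ?_
        comm := ?_
        semi := hsemi
        red := fun b => ?_ }⟩
    · obtain ⟨g, rfl⟩ := Ideal.Quotient.mk_surjective a
      obtain ⟨g, rfl⟩ := map_res_surjective (p := p) g
      exact ⟨Ideal.Quotient.mk _ g, Ideal.quotientMap_mk⟩
    · rw [W2LiftLib.ker_res, Ideal.map_span, Set.image_singleton, map_natCast]
      refine le_antisymm (fun b hb => ?_) ?_
      · obtain ⟨g, rfl⟩ := Ideal.Quotient.mk_surjective b
        rw [RingHom.mem_ker, Ideal.quotientMap_mk, Ideal.Quotient.eq_zero_iff_mem, ← map_span_range f' f hf',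
          Ideal.mem_map_iff_of_surjective _ map_res_surjective] at hb
        obtain ⟨j, hj, hjg⟩ := hb
        obtain ⟨r, hr⟩ := (map_res_eq_zero_iff (g - j)).1 (by rw [map_sub, hjg, sub_self])
        refine Ideal.mem_span_singleton'.2 ⟨Ideal.Quotient.mk _ r, ?_⟩
        rw [← map_natCast (Ideal.Quotient.mk (Ideal.span (Set.range f'))), ← map_mul, Ideal.Quotient.eq,
          show r * (p : MvPolynomial (Fin n) (FrobAlg.W2 p k)) - g = -j by linear_combination -hr]
        exact neg_mem hj
      · rw [Ideal.span_singleton_le_iff_mem, RingHom.mem_ker, map_natCast,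
          ← map_natCast (algebraMap k (MvPolynomial (Fin n) k ⧸ Ideal.span (Set.range f))), CharP.cast_eq_zero, map_zero]
    · refine RingHom.ext fun a => ?_
      simp only [RingHom.comp_apply, π, Ideal.quotientMap_mk, MvPolynomial.map_C]
      rfl
    · obtain ⟨g, rfl⟩ := Ideal.Quotient.mk_surjective b
      obtain ⟨g', hg'⟩ := Ideal.Quotient.mk_surjective (Φ (Ideal.Quotient.mk _ g))
      have h1 := hred (Ideal.Quotient.mk _ g)
      rw [← hg', Ideal.quotientMap_mk, Ideal.quotientMap_mk, ← map_pow, Ideal.Quotient.eq, map_span_range f' f hf'] at h1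
      rw [← hg', Ideal.quotientMap_mk, Ideal.quotientMap_mk, ← map_pow, Ideal.Quotient.eq]
      exact h1

end Groth.Agent.S13139
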