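import Groth.Statements.S13140
import Mathlib


-- import your own Groth.Agent.* helpers here

set_option autoImplicit false
universe u v w
open GrpAlg

namespace Groth.Agent.S13140

/-- Let G be a finite group, R a commutative ring in which |G| is a unit, and M a module over the group
algebra R[G] whose underlying R-module is projective. Then M is a projective R[G]-module. -/
theorem result
    (R : Type u) [CommRing R] (G : Type v) [Group G] [Finite G] (hG : IsUnit ((Nat.card G : ℕ) : R))
    (M : Type w) [AddCommGroup M] [Module R M] [Module (MonoidAlgebra R G) M]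
    [IsScalarTower R (MonoidAlgebra R G) M] [Module.Projective R M] :
    Module.Projective (MonoidAlgebra R G) M := by
  haveI := Fintype.ofFinite G
  let A := MonoidAlgebra R G
  let p : (M →₀ A) →ₗ[A] M := Finsupp.linearCombination A id
  have hp : Function.Surjective p := fun x => ⟨Finsupp.single x 1, by simp [p]⟩
  obtain ⟨s₀, hs₀⟩ := Module.projective_lifting_property (p.restrictScalars R) LinearMap.id hp
  obtain ⟨c, hc⟩ := hG.exists_left_inv
  let S := s₀.sumOfConjugatesEquivariant G
  let s : M →ₗ[A] (M →₀ A) := c • S
  refine Module.Projective.of_split s p (LinearMap.ext fun m => ?_)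
  have hs : ∀ g : G, p (s₀.conjugate g m) = m := fun g => by
    rw [LinearMap.conjugate_apply, map_smul, show p (s₀ (MonoidAlgebra.single g (1 : R) • m)) = MonoidAlgebra.single g (1 : R) • m from LinearMap.congr_fun hs₀ _,
      smul_smul, MonoidAlgebra.single_mul_single, inv_mul_cancel, mul_one, ← MonoidAlgebra.one_def, one_smul]
  change p (c • S m) = m
  rw [LinearMap.map_smul_of_tower, LinearMap.sumOfConjugatesEquivariant_apply, map_sum, Finset.sum_congr rfl (fun g _ => hs g), Finset.sum_const, Finset.card_univ, ← Nat.cast_smul_eq_nsmul R, smul_smul, ← Nat.card_eq_fintype_card, hc, one_smul]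

end Groth.Agent.S13140
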