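import Groth.Statements.S13141
import Mathlib
-- import your own Groth.Agent.* helpers here

set_option autoImplicit false
universe u v w w'
open scoped TensorProduct
open GrpAlg

namespace Groth.Agent.S13141

/-- Let G be a finite group, R a commutative ring with |G| invertible in R, M a projective R-module with
an R-linear G-action and S an R-algebra. The natural map M^G ⊗_R S → M ⊗_R S is injective and its
image is the submodule of G-invariants of M ⊗_R S (G acting on the first factor); that is, M^G ⊗_R S
→ (M ⊗_R S)^G is bijective. -/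
theorem result
    (R : Type u) [CommRing R] (G : Type v) [Group G] [Finite G] (hG : IsUnit ((Nat.card G : ℕ) : R))
    (M : Type w) [AddCommGroup M] [Module R M] [Module.Projective R M] (ρ : Representation R G M)
    (S : Type w') [CommRing S] [Algebra R S] :
    Function.Injective (TensorProduct.map ρ.invariants.subtype (LinearMap.id : S →ₗ[R] S)) ∧
    LinearMap.range (TensorProduct.map ρ.invariants.subtype (LinearMap.id : S →ₗ[R] S)) =
      ⨅ g : G, LinearMap.eqLocus (LinearMap.rTensor S (ρ g)) LinearMap.id := by
  classical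
  haveI : Fintype G := Fintype.ofFinite G
  obtain ⟨u, hu⟩ := hG
  let T : M →ₗ[R] M := (↑u⁻¹ : R) • ∑ g : G, ρ g
  have hT : ∀ m, T m ∈ ρ.invariants := fun m g => by
    simp only [T, LinearMap.smul_apply, LinearMap.coe_sum, Finset.sum_apply, map_smul, map_sum]
    congr 1
    exact Fintype.sum_equiv (Equiv.mulLeft g) _ _ fun h => by simp
  let P : M →ₗ[R] ρ.invariants := T.codRestrict _ hT
  have hP : P ∘ₗ ρ.invariants.subtype = LinearMap.id := LinearMap.ext fun m => Subtype.ext (by
    show (↑u⁻¹ : R) • (∑ g : G, ρ g) (m : M) = m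
    rw [LinearMap.coe_sum, Finset.sum_apply, Finset.sum_congr rfl fun g _ => m.2 g, Finset.sum_const,
      Finset.card_univ, ← Nat.cast_smul_eq_nsmul R, smul_smul, ← Nat.card_eq_fintype_card, ← hu, Units.inv_mul, one_smul])
  show Function.Injective (ρ.invariants.subtype.rTensor S) ∧ _
  refine ⟨Function.LeftInverse.injective (g := P.rTensor S) fun z => ?_, le_antisymm ?_ ?_⟩
  · rw [← LinearMap.rTensor_comp_apply, hP, LinearMap.rTensor_id, LinearMap.id_apply]
  · refine le_iInf fun g => ?_
    rintro _ ⟨z, rfl⟩
    show (ρ g).rTensor S (ρ.invariants.subtype.rTensor S z) = ρ.invariants.subtype.rTensor S z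
    rw [← LinearMap.rTensor_comp_apply, show ρ g ∘ₗ ρ.invariants.subtype = ρ.invariants.subtype from
      LinearMap.ext fun m => m.2 g]
  · intro x hx
    refine ⟨P.rTensor S x, ?_⟩
    show ρ.invariants.subtype.rTensor S (P.rTensor S x) = x
    rw [← LinearMap.rTensor_comp_apply, show ρ.invariants.subtype ∘ₗ P = T from LinearMap.ext fun m => rfl]
    show (((↑u⁻¹ : R) • ∑ g : G, ρ g).rTensor S) x = x
    rw [LinearMap.rTensor_smul, LinearMap.smul_apply, ← LinearMap.coe_rTensorHom, map_sum, LinearMap.coe_sum, Finset.sum_apply]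
    have hx' : ∀ g : G, (ρ g).rTensor S x = x := fun g => (Submodule.mem_iInf _).1 hx g
    simp only [LinearMap.coe_rTensorHom, hx']
    rw [Finset.sum_const, Finset.card_univ, ← Nat.cast_smul_eq_nsmul R, smul_smul, ← Nat.card_eq_fintype_card,
      ← hu, Units.inv_mul, one_smul]

end Groth.Agent.S13141
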