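import Groth.Statements.S13142
import Mathlib


-- import your own Groth.Agent.* helpers here

set_option autoImplicit false
universe u v
open GrpAlg

namespace Groth.Agent.S13142

/-- Let G be a finite group and R a commutative ring with |G| invertible in R, acting on R[x_1, …, x_n]
by R-algebra automorphisms. The invariant subring R[x_1, …, x_n]^G is a flat R-module (so the
quotient of affine n-space over R by G is flat over R). -/
theorem result
    (R : Type u) [CommRing R] (G : Type v) [Group G] [Finite G] (hG : IsUnit ((Nat.card G : ℕ) : R))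
    (n : ℕ) (ρ : G →* (MvPolynomial (Fin n) R ≃ₐ[R] MvPolynomial (Fin n) R)) :
    Module.Flat R ↥(⨅ g : G, LinearMap.eqLocus (ρ g).toLinearMap (LinearMap.id : MvPolynomial (Fin n) R →ₗ[R] MvPolynomial (Fin n) R)) := by
  haveI := Fintype.ofFinite G
  obtain ⟨c, hc⟩ := hG.exists_left_inv
  set I : Submodule R (MvPolynomial (Fin n) R) := ⨅ g : G, LinearMap.eqLocus (ρ g).toLinearMap (LinearMap.id : MvPolynomial (Fin n) R →ₗ[R] MvPolynomial (Fin n) R)
  let P : MvPolynomial (Fin n) R →ₗ[R] MvPolynomial (Fin n) R := c • ∑ g : G, (ρ g).toLinearMap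
  have hI : ∀ x, x ∈ I ↔ ∀ g : G, ρ g x = x := fun x => by
    simp only [I, Submodule.mem_iInf, LinearMap.mem_eqLocus]
    rfl
  have hP : ∀ x, P x ∈ I := fun x => by
    refine (hI _).2 fun g => ?_
    simp only [P, LinearMap.smul_apply, LinearMap.sum_apply, map_smul, map_sum]
    congr 1
    exact Fintype.sum_bijective (g * ·) (Group.mulLeft_bijective g) _ _ fun h => (by rw [map_mul]; rfl)
  refine Module.Flat.of_retract I.subtype (P.codRestrict I hP) (LinearMap.ext fun x => Subtype.ext ?_)
  change c • ((∑ g : G, (ρ g).toLinearMap) : MvPolynomial (Fin n) R →ₗ[R] _) x.1 = x.1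
  rw [LinearMap.sum_apply, Finset.sum_congr rfl (fun g _ => show (ρ g).toLinearMap x.1 = x.1 from (hI _).1 x.2 g), Finset.sum_const, Finset.card_univ, ← Nat.cast_smul_eq_nsmul R, smul_smul, ← Nat.card_eq_fintype_card, hc, one_smul]

end Groth.Agent.S13142
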