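import Groth.Statements.S13144
import Groth.Agent.W2LiftL.Descend

set_option autoImplicit false
universe u
open FrobAlg

namespace Groth.Agent.S13144

/-- Let k be a perfect field of characteristic p, A → B a homomorphism of Noetherian k-algebras with an
A-linear retraction B → A, and A' → B' a homomorphism over W₂(k) between flat liftings of A and B
which reduces to A → B. If the Frobenius of B lifts to B' (a σ₂-semilinear ring endomorphism
reducing to the p-th power map), then the Frobenius of A lifts to A'. (The published statement is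
for an affine morphism whose map on structure sheaves splits linearly; the affine case with an
A-linear splitting is taken here.) -/
theorem result
    (p : ℕ) [Fact p.Prime] (k : Type u) [Field k] [CharP k p] [PerfectRing k p]
    (A B : Type u) [CommRing A] [CommRing B] [Algebra k A] [Algebra k B]
    [IsNoetherianRing A] [IsNoetherianRing B] [Algebra A B] [IsScalarTower k A B]
    (r : B →ₗ[A] A) (hr : ∀ a : A, r (algebraMap A B a) = a)
    (A' B' : Type u) [CommRing A'] [CommRing B']
    (ιA : FrobAlg.W2 p k →+* A') (πA : A' →+* A) (hA : FrobAlg.IsLift p k A A' ιA πA)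
    (ιB : FrobAlg.W2 p k →+* B') (πB : B' →+* B) (hB : FrobAlg.IsLift p k B B' ιB πB)
    (φ' : A' →+* B') (hφι : φ'.comp ιA = ιB) (hφπ : πB.comp φ' = (algebraMap A B).comp πA)
    (ΦB : B' →+* B') (hΦB : FrobAlg.IsFrobLift p k B B' ιB πB ΦB) :
    ∃ ΦA : A' →+* A', FrobAlg.IsFrobLift p k A A' ιA πA ΦA := by
  have halg : ∀ a b : A, algebraMap A B a = algebraMap A B b → a = b := fun a b h => by
    rw [← hr a, h, hr]
  have hred : ∀ x, πB (φ' x) = algebraMap A B (πA x) := fun x => RingHom.congr_fun hφπ x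
  have hinj : ∀ x, φ' x = 0 → x = 0 := fun x hx => by
    obtain ⟨y, rfl⟩ := (W2LiftLib.lift_ker hA x).mp (halg _ 0 (by rw [← hred, hx, map_zero, map_zero]))
    rw [map_mul, map_natCast] at hx
    have : πA y = 0 := halg _ 0 (by
      rw [← hred, W2LiftLib.lift_div hB (show (p : B') * φ' y = p * 0 by rw [hx, mul_zero]), map_zero, map_zero])
    obtain ⟨z, rfl⟩ := (W2LiftLib.lift_ker hA y).mp this
    rw [← mul_assoc, W2LiftLib.lift_sq ιA, zero_mul]
  let R : A' → A' → Prop := fun a x =>
    πA x = πA a ^ p ∧ ∀ b', ΦB (φ' a) - φ' x = (p : B') * b' → r (πB b') = 0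
  have hdiv : ∀ a x, πA x = πA a ^ p → ∃ b', ΦB (φ' a) - φ' x = (p : B') * b' := fun a x h =>
    (W2LiftLib.lift_ker hB _).mp (by rw [map_sub, hΦB.red, hred, hred, h, map_pow, sub_self])
  have hex : ∀ a, ∃ x, R a x := by
    intro a
    obtain ⟨c, hc⟩ := hA.surj (πA a ^ p)
    obtain ⟨b, hb⟩ := hdiv a c hc
    obtain ⟨l, hl⟩ := hA.surj (r (πB b))
    refine ⟨c + p * l, by rw [map_add, map_mul, W2LiftLib.lift_natCast hA, zero_mul, add_zero, hc], fun b' hb' => ?_⟩
    rw [W2LiftLib.lift_div hB (show (p : B') * b' = p * (b - φ' l) by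
      rw [← hb', mul_sub, ← hb, map_add, map_mul, map_natCast]; ring), map_sub, map_sub, hred, hr, hl, sub_self]
  have huniq : ∀ a x x', R a x → R a x' → x = x' := by
    intro a x x' hx hx'
    obtain ⟨y, hy⟩ := (W2LiftLib.lift_ker hA (x - x')).mp (by rw [map_sub, hx.1, hx'.1, sub_self])
    obtain ⟨b, hb⟩ := hdiv a x hx.1
    have hy' : φ' x - φ' x' = (p : B') * φ' y := by rw [← map_sub, hy, map_mul, map_natCast]
    have h2 := hx'.2 (b + φ' y) (by rw [mul_add, ← hb, ← hy']; ring)
    rw [map_add, map_add, hx.2 b hb, zero_add, hred, hr] at h2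
    obtain ⟨z, rfl⟩ := (W2LiftLib.lift_ker hA y).mp h2
    rwa [← mul_assoc, W2LiftLib.lift_sq ιA, zero_mul, sub_eq_zero] at hy
  have hadd : ∀ a b x y, R a x → R b y → R (a + b) (x + y) := by
    intro a b x y hx hy
    haveI : CharP A p ∨ Subsingleton A := by
      rcases subsingleton_or_nontrivial A with h | h
      · exact Or.inr h
      · exact Or.inl (charP_of_injective_algebraMap (algebraMap k A).injective p)
    refine ⟨?_, fun b' hb' => ?_⟩
    · rcases this with h | h
      · rw [map_add, map_add, hx.1, hy.1, add_pow_char]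
      · exact Subsingleton.elim _ _
    · obtain ⟨b1, h1⟩ := hdiv a x hx.1
      obtain ⟨b2, h2⟩ := hdiv b y hy.1
      rw [W2LiftLib.lift_div hB (show (p : B') * b' = p * (b1 + b2) by
        rw [← hb', mul_add, ← h1, ← h2, map_add, map_add, map_add]; ring), map_add, map_add, hx.2 b1 h1, hy.2 b2 h2,
        add_zero]
  have hmul : ∀ a b x y, R a x → R b y → R (a * b) (x * y) := by
    intro a b x y hx hy
    refine ⟨by rw [map_mul, map_mul, hx.1, hy.1, mul_pow], fun b' hb' => ?_⟩
    obtain ⟨b1, h1⟩ := hdiv a x hx.1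
    obtain ⟨b2, h2⟩ := hdiv b y hy.1
    rw [W2LiftLib.lift_div hB (show (p : B') * b' = p * (φ' x * b2 + φ' y * b1) by
      rw [← hb', map_mul, map_mul, map_mul]
      linear_combination φ' y * h1 + φ' x * h2 + (ΦB (φ' b) - φ' y) * h1 + (p : B') * b1 * h2
        + b1 * b2 * W2LiftLib.lift_sq ιB), map_add, map_mul, map_mul, hred, hred, ← Algebra.smul_def,
      ← Algebra.smul_def, map_add, map_smul, map_smul, hx.2 b1 h1, hy.2 b2 h2, smul_zero, smul_zero, add_zero]
  have hsemi : ∀ w, R (ιA w) (ιA (FrobAlg.sigma p k w)) := by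
    intro w
    have hc : ∀ v, πA (ιA v) = algebraMap k A (FrobAlg.res p k v) := fun v => RingHom.congr_fun hA.comm v
    have hi : ∀ v, φ' (ιA v) = ιB v := fun v => RingHom.congr_fun hφι v
    refine ⟨by rw [hc, hc, ← map_pow, res_apply, res_apply, FrobAlg.sigma, WittGrp.coeff_frob], fun b' hb' => ?_⟩
    rw [hi, hi, show ΦB (ιB w) = ιB (FrobAlg.sigma p k w) from RingHom.congr_fun hΦB.semi w, sub_self] at hb'
    rw [W2LiftLib.lift_div hB (show (p : B') * b' = p * 0 by rw [← hb', mul_zero]), map_zero, map_zero]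
  choose Φ hΦ using hex
  refine ⟨{ toFun := Φ, map_one' := ?_, map_mul' := ?_, map_zero' := ?_, map_add' := ?_ }, hA, ?_, fun a => (hΦ a).1⟩
  · exact huniq 1 _ _ (hΦ 1) (by simpa using hsemi 1)
  · exact fun a b => huniq _ _ _ (hΦ _) (hmul _ _ _ _ (hΦ a) (hΦ b))
  · exact huniq 0 _ _ (hΦ 0) (by simpa using hsemi 0)
  · exact fun a b => huniq _ _ _ (hΦ _) (hadd _ _ _ _ (hΦ a) (hΦ b))
  · exact RingHom.ext fun w => huniq _ _ _ (hΦ _) (hsemi w)

end Groth.Agent.S13144
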