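import Groth.Statements.S13147
import Groth.Agent.W2LiftL.Basic

set_option autoImplicit false
universe u
open FrobAlg

namespace Groth.Agent.S13147

/-- Let k be a perfect field of characteristic p and (A, φ) a k-algebra with a Frobenius splitting (φ
additive, φ(a^p b) = a φ(b), φ(1) = 1). The quotient of W₂(A) by the ideal generated by the Witt
vectors (0, a) with φ(a) = 0 — the ring of twisted Witt vectors of (A, φ) — is a flat lifting of A
over W₂(k): flat over W₂(k), with reduction map onto A induced by (a₀, a₁) ↦ a₀ whose kernel is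
generated by the maximal ideal of W₂(k). (The published statement also asserts that a morphism of
algebras with Frobenius splittings compatible with the splittings induces a ring map between these
quotients; that part is not stated here.) -/
theorem result
    (p : ℕ) [Fact p.Prime] (k : Type u) [Field k] [CharP k p] [PerfectRing k p]
    (A : Type u) [CommRing A] [Algebra k A] (φ : A →+ A)
    (hφ : ∀ a b : A, φ (a ^ p * b) = a * φ b) (hφ1 : φ 1 = 1) :
    FrobAlg.IsLift p k A (FrobAlg.W2 p A ⧸ FrobAlg.splitIdeal p A φ)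
      ((Ideal.Quotient.mk (FrobAlg.splitIdeal p A φ)).comp (WittGrp.truncMap p 2 (algebraMap k A)))
      (FrobAlg.splitRes p A φ) := by
  have hres : ∀ w, (splitRes p A φ).comp ((Ideal.Quotient.mk (splitIdeal p A φ)).comp
      (WittGrp.truncMap p 2 (algebraMap k A))) w = ((algebraMap k A).comp (res p k)) w := fun w => by
    simp [splitRes, WittGrp.coeff_truncMap]
  rcases subsingleton_or_nontrivial A with hA | hA
  · haveI : Subsingleton (FrobAlg.W2 p A) := ⟨fun x y => TruncatedWittVector.ext fun i => Subsingleton.elim _ _⟩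
    haveI : Subsingleton (FrobAlg.W2 p A ⧸ splitIdeal p A φ) := Ideal.Quotient.mk_surjective.subsingleton
    exact
      { flat := (W2LiftLib.ringHom_flat_iff _).mpr fun b _ => ⟨0, Subsingleton.elim _ _⟩
        surj := fun a => ⟨0, Subsingleton.elim _ _⟩
        ker_eq := Subsingleton.elim _ _
        comm := RingHom.ext hres }
  haveI : CharP A p := charP_of_injective_algebraMap (algebraMap k A).injective p
  have hmem : ∀ x, x ∈ splitIdeal p A φ → x.coeff 0 = 0 ∧ φ (x.coeff 1) = 0 := by
    intro x hx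
    induction hx using Submodule.span_induction with
    | mem y hy => exact ⟨by simpa using hy.1, hy.2⟩
    | zero => exact ⟨by simp, by simp⟩
    | add y z _ _ hy hz =>
      rw [W2LiftLib.eq_vs hy.1, W2LiftLib.eq_vs hz.1, W2LiftLib.vs_add]
      exact ⟨W2LiftLib.vs_zero _, by rw [W2LiftLib.vs_one, map_add, hy.2, hz.2, add_zero]⟩
    | smul a y _ hy =>
      rw [smul_eq_mul, W2LiftLib.eq_vs hy.1, W2LiftLib.mul_vs]
      exact ⟨W2LiftLib.vs_zero _, by rw [W2LiftLib.vs_one, hφ, hy.2, mul_zero]⟩
  have hp : ∀ z : FrobAlg.W2 p A, (p : FrobAlg.W2 p A) * z = W2LiftLib.vs (z.coeff 0 ^ p) := fun z => by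
    rw [W2LiftLib.natCast_eq_vs, mul_comm, W2LiftLib.mul_vs, mul_one]
  have hkey : ∀ x : FrobAlg.W2 p A, x.coeff 0 = 0 → ∃ c : FrobAlg.W2 p A ⧸ splitIdeal p A φ,
      Ideal.Quotient.mk (splitIdeal p A φ) x = (p : FrobAlg.W2 p A ⧸ splitIdeal p A φ) * c := by
    intro x hx
    refine ⟨Ideal.Quotient.mk _ (WittVector.truncate 2 (WittVector.teichmuller p (φ (x.coeff 1)))), ?_⟩
    rw [← map_natCast (Ideal.Quotient.mk (splitIdeal p A φ)), ← map_mul, Ideal.Quotient.eq, hp,
      WittVector.coeff_truncate, Fin.val_zero, WittVector.teichmuller_coeff_zero, W2LiftLib.eq_vs hx]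
    refine Ideal.subset_span ?_
    simp only [W2LiftLib.vs_one]
    rw [show (W2LiftLib.vs (x.coeff 1) - W2LiftLib.vs (φ (x.coeff 1) ^ p) : FrobAlg.W2 p A) =
        W2LiftLib.vs (x.coeff 1 - φ (x.coeff 1) ^ p) by rw [sub_eq_iff_eq_add, W2LiftLib.vs_add, sub_add_cancel]]
    refine ⟨by rw [res_apply, W2LiftLib.vs_zero], ?_⟩
    rw [W2LiftLib.vs_one, map_sub, ← mul_one (φ (x.coeff 1) ^ p), hφ, hφ1, mul_one, sub_self]
  refine
    { flat := (W2LiftLib.ringHom_flat_iff _).mpr fun q hq => ?_
      surj := fun a => ⟨Ideal.Quotient.mk _ (WittVector.truncate 2 (WittVector.teichmuller p a)), by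
        simp [splitRes, WittVector.coeff_truncate]⟩
      ker_eq := ?_
      comm := RingHom.ext hres }
  · obtain ⟨x, rfl⟩ := Ideal.Quotient.mk_surjective q
    rw [← map_natCast (Ideal.Quotient.mk (splitIdeal p A φ)), ← map_mul, Ideal.Quotient.eq_zero_iff_mem, hp] at hq
    refine hkey x ?_
    have h := (hmem _ hq).2
    rwa [W2LiftLib.vs_one, ← mul_one (x.coeff 0 ^ p), hφ, hφ1, mul_one] at h
  · rw [W2LiftLib.ker_res, Ideal.map_span, Set.image_singleton, map_natCast]
    apply le_antisymm
    · intro q hq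
      obtain ⟨x, rfl⟩ := Ideal.Quotient.mk_surjective q
      obtain ⟨c, hc⟩ := hkey x (by simpa [splitRes] using hq)
      exact Ideal.mem_span_singleton'.mpr ⟨c, by rw [hc, mul_comm]⟩
    · rw [Ideal.span_singleton_le_iff_mem, RingHom.mem_ker, map_natCast, CharP.cast_eq_zero]

end Groth.Agent.S13147
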