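import Groth.Statements.S13148
import Groth.Agent.TransLib.LiftSmooth
import Groth.Agent.W2LiftL.Basic
import Mathlib.RingTheory.Smooth.Flat

set_option autoImplicit false
universe u
open FrobAlg

namespace Groth.Agent.S13148

/-- The p-th power map when p = 0. -/
def frobeniusOfCast (p : ℕ) [Fact p.Prime] (A : Type u) [CommRing A] (h : (p : A) = 0) : A →+* A where
  toFun a := a ^ p
  map_one' := one_pow _
  map_mul' a b := mul_pow _ _ _
  map_zero' := zero_pow (Fact.out : p.Prime).pos.ne'
  map_add' a b := by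
    rcases subsingleton_or_nontrivial A with hA | hA
    · exact Subsingleton.elim _ _
    haveI : CharP A p := (CharP.charP_iff_prime_eq_zero Fact.out).mpr h
    exact add_pow_char a b p

theorem frobeniusOfCast_apply (p : ℕ) [Fact p.Prime] (A : Type u) [CommRing A] (h : (p : A) = 0) (a : A) :
    frobeniusOfCast p A h a = a ^ p := rfl

theorem exists_semilinear_lift {R B C : Type u} [CommRing R] [CommRing B] [CommRing C] [Algebra R B]
    [Algebra.FormallySmooth R B] (j : R →+* C) (K : Ideal C) (hK : IsNilpotent K) (φ : B →+* C ⧸ K)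
    (h : φ.comp (algebraMap R B) = (Ideal.Quotient.mk K).comp j) :
    ∃ Φ : B →+* C, Φ.comp (algebraMap R B) = j ∧ (Ideal.Quotient.mk K).comp Φ = φ := by
  letI := j.toAlgebra
  let φa : B →ₐ[R] C ⧸ K := { φ with commutes' := fun r => RingHom.congr_fun h r }
  exact ⟨(Algebra.FormallySmooth.lift K hK φa).toRingHom,
    RingHom.ext fun r => (Algebra.FormallySmooth.lift K hK φa).commutes r,
    RingHom.ext fun b => AlgHom.congr_fun (Algebra.FormallySmooth.comp_lift K hK φa) b⟩

/-- Over a perfect field k of characteristic p, every smooth affine scheme Spec A admits a flat lifting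
over W₂(k) together with a lifting of Frobenius (not necessarily unique). -/
theorem result
    (p : ℕ) [Fact p.Prime] (k : Type u) [Field k] [CharP k p] [PerfectRing k p]
    (A : Type u) [CommRing A] [Algebra k A] [Algebra.Smooth k A] :
    FrobAlg.IsFLiftable p k A := by
  let W := FrobAlg.W2 p k
  let I : Ideal W := RingHom.ker (FrobAlg.res p k)
  have hres : Function.Surjective (FrobAlg.res p k) := fun a =>
    ⟨WittVector.truncate 2 (WittVector.teichmuller p a), by rw [FrobAlg.res_truncate, WittVector.teichmuller_coeff_zero]⟩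
  let e₀ : (W ⧸ I) ≃+* k := RingHom.quotientKerEquivOfSurjective hres
  letI algI : Algebra (W ⧸ I) A := ((algebraMap k A).comp e₀.toRingHom).toAlgebra
  letI algIk : Algebra (W ⧸ I) k := e₀.toRingHom.toAlgebra
  haveI : IsScalarTower (W ⧸ I) k A := IsScalarTower.of_algebraMap_eq fun _ => rfl
  haveI : Algebra.Smooth (W ⧸ I) k :=
    Algebra.Smooth.of_equiv (AlgEquiv.ofRingEquiv (f := e₀) fun _ => rfl)
  haveI : Algebra.Smooth (W ⧸ I) A := Algebra.Smooth.comp (W ⧸ I) k A
  obtain ⟨B, _, _, hB, ⟨e⟩⟩ := TransLib.exists_smooth_lift (A₀ := A) I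
  haveI := hB
  let ι : W →+* B := algebraMap W B
  let K : Ideal B := I.map ι
  let π : B →+* A := e.toAlgHom.toRingHom.comp (Ideal.Quotient.mk K)
  have hker : RingHom.ker π = K := Ideal.ext fun b =>
    ⟨fun hb => Ideal.Quotient.eq_zero_iff_mem.mp (e.injective (hb.trans (map_zero e).symm)),
      fun hb => (congrArg e (Ideal.Quotient.eq_zero_iff_mem.mpr hb)).trans (map_zero e)⟩
  have hcomm : π.comp ι = (algebraMap k A).comp (FrobAlg.res p k) :=
    RingHom.ext fun w => e.commutes (Ideal.Quotient.mk I w)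
  have hIK : IsNilpotent K := by
    refine ⟨2, ?_⟩
    change (I.map ι) ^ 2 = ⊥
    rw [← Ideal.map_pow, show I ^ 2 = ⊥ from ?_, Ideal.map_bot]
    rw [show I = Ideal.span {(p : W)} from W2LiftLib.ker_res, Ideal.span_singleton_pow, pow_two, W2LiftLib.natCast_sq]
    exact Ideal.span_singleton_eq_bot.mpr rfl
  let φ : A →+* A := frobeniusOfCast p A (by rw [← map_natCast (algebraMap k A) p, CharP.cast_eq_zero, map_zero])
  let eA : B ⧸ K ≃+* A := e.toRingEquiv
  obtain ⟨Φ, hΦι, hΦ⟩ := exists_semilinear_lift (R := W) (B := B) (ι.comp (FrobAlg.sigma p k)) K hIK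
    (eA.symm.toRingHom.comp (φ.comp π)) (RingHom.ext fun w => eA.injective (by
      change eA (eA.symm (φ (π (ι w)))) = π (ι (FrobAlg.sigma p k w))
      rw [eA.apply_symm_apply, ← RingHom.comp_apply π ι, ← RingHom.comp_apply π ι, hcomm, RingHom.comp_apply,
        RingHom.comp_apply, show φ (algebraMap k A (FrobAlg.res p k w)) = algebraMap k A (FrobAlg.res p k w ^ p) from (frobeniusOfCast_apply p A _ _).trans (map_pow _ _ _).symm]
      refine congrArg (algebraMap k A) ?_
      obtain ⟨x, rfl⟩ := WittVector.truncate_surjective p 2 k w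
      simp [FrobAlg.res_apply, FrobAlg.sigma, WittGrp.frob, WittGrp.frobFun]
      exact ((FrobAlg.res_apply p k (TruncatedWittVector.mk p fun i : Fin 2 => x.coeff ↑i ^ p)).trans (TruncatedWittVector.coeff_mk _ _)).symm))
  exact ⟨B, inferInstance, ι, π, Φ,
    ⟨⟨RingHom.flat_algebraMap_iff.mpr inferInstance, e.surjective.comp Ideal.Quotient.mk_surjective, hker, hcomm⟩,
      hΦι, fun b => by
        change eA (Ideal.Quotient.mk K (Φ b)) = _
        rw [← RingHom.comp_apply (Ideal.Quotient.mk K) Φ, hΦ]
        exact (eA.apply_symm_apply _).trans rfl⟩⟩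

end Groth.Agent.S13148
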