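import Groth.Statements.S13149
import Mathlib.LinearAlgebra.Matrix.NonsingularInverse
import Mathlib.RingTheory.LocalRing.Basic
import Mathlib.RingTheory.LocalRing.MaximalIdeal.Basic
import Mathlib.Data.ZMod.Basic
import Mathlib.Tactic.LinearCombination
import Mathlib.LinearAlgebra.Matrix.Adjugate
-- import your own Groth.Agent.* helpers here

set_option autoImplicit false
universe u
open CAlg

namespace Groth.Agent.S13149

/-- Let A be a local ring and ρ a map from the points of the projective plane over F_p to the points of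
the projective plane over A (vectors with a unit coordinate, up to units) taking collinear triples
to collinear triples (three points are collinear when a vector with a unit coordinate is orthogonal
to all three). If ρ sends the standard frame (1:0:0), (0:1:0), (0:0:1), (1:1:1) to four points in
general position, then p = 0 in A. (The published statement asks only that ρ preserve collinearity;
a constant map does so over any ring, and the published argument begins by moving the images of the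
standard frame to the standard frame, which needs them in general position — that condition is made
a hypothesis here.) -/
theorem result
    (p : ℕ) [Fact p.Prime] (A : Type u) [CommRing A] [IsLocalRing A]
    (ρ : (Fin 3 → ZMod p) → (Fin 3 → A))
    (hpt : ∀ v : Fin 3 → ZMod p, v ≠ 0 → ∃ i, IsUnit (ρ v i))
    (hcol : ∀ u v w : Fin 3 → ZMod p, u ≠ 0 → v ≠ 0 → w ≠ 0 →
      Matrix.det (Matrix.of ![u, v, w]) = 0 →
      ∃ n : Fin 3 → A, (∃ i, IsUnit (n i)) ∧
        dotProduct (ρ u) n = 0 ∧ dotProduct (ρ v) n = 0 ∧ dotProduct (ρ w) n = 0)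
    (hgen : IsUnit (Matrix.det (Matrix.of ![ρ (Pi.single 0 1), ρ (Pi.single 1 1), ρ (Pi.single 2 1)])) ∧
      IsUnit (Matrix.det (Matrix.of ![ρ (Pi.single 0 1), ρ (Pi.single 1 1), ρ (fun _ => 1)])) ∧
      IsUnit (Matrix.det (Matrix.of ![ρ (Pi.single 0 1), ρ (Pi.single 2 1), ρ (fun _ => 1)])) ∧
      IsUnit (Matrix.det (Matrix.of ![ρ (Pi.single 1 1), ρ (Pi.single 2 1), ρ (fun _ => 1)]))) :
    (p : A) = 0 := by
  classical
  obtain ⟨g0, g1, g2, g3⟩ := hgen
  have hof : ∀ (f : Fin 3 → Fin 3 → A) (i : Fin 3), Matrix.of f i = f i := fun _ _ => rfl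
  have three : ∀ r : Fin 3, r = 0 ∨ r = 1 ∨ r = 2 := by decide
  set B : Matrix (Fin 3) (Fin 3) A := Matrix.of ![ρ (Pi.single 0 1), ρ (Pi.single 1 1), ρ (Pi.single 2 1)] with hB
  set Ev : Fin 3 → A := ρ (fun _ => 1) with hEv
  obtain ⟨Bu, hBu⟩ := (Matrix.isUnit_iff_isUnit_det B).mpr g0
  set u : Fin 3 → A := Matrix.vecMul Ev (↑Bu⁻¹ : Matrix (Fin 3) (Fin 3) A) with hu
  have hEvu : Matrix.vecMul u B = Ev := by
    rw [hu, Matrix.vecMul_vecMul, ← hBu, Units.inv_mul, Matrix.vecMul_one]
  have hdetrow : ∀ M : Matrix (Fin 3) (Fin 3) A, (M * B).det = M.det * B.det := fun M => Matrix.det_mul M B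
  have hrow : ∀ (w : Fin 3 → A) (i : Fin 3), Matrix.vecMul (Pi.single i 1) B = B i := fun w i => Matrix.single_one_vecMul i B
  have huu : ∀ i, IsUnit (u i) := by
    intro i
    have key : ∀ a b : Fin 3, (Matrix.of ![B a, B b, Ev]).det = (Matrix.of ![(Pi.single a 1 : Fin 3 → A), Pi.single b 1, u]).det * B.det := by
      intro a b
      rw [← hdetrow]
      congr 1
      ext r c
      rw [Matrix.mul_apply_eq_vecMul]
      rcases three r with rfl | rfl | rfl <;> simp [Matrix.single_one_vecMul, hEvu, hof]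
    have k01 : (Matrix.of ![ρ (Pi.single 0 1), ρ (Pi.single 1 1), Ev]).det = _ := key 0 1
    have k02 : (Matrix.of ![ρ (Pi.single 0 1), ρ (Pi.single 2 1), Ev]).det = _ := key 0 2
    have k12 : (Matrix.of ![ρ (Pi.single 1 1), ρ (Pi.single 2 1), Ev]).det = _ := key 1 2
    rw [k01, IsUnit.mul_iff] at g1
    rw [k02, IsUnit.mul_iff] at g2
    rw [k12, IsUnit.mul_iff] at g3
    fin_cases i
    · have := g3.1; simpa [Matrix.det_fin_three] using this
    · have := g2.1; simpa [Matrix.det_fin_three] using this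
    · have := g1.1; simpa [Matrix.det_fin_three] using this
  set D : Matrix (Fin 3) (Fin 3) A := Matrix.diagonal u * B with hD
  have hDdet : IsUnit D.det := by
    rw [hD, Matrix.det_mul, Matrix.det_diagonal]
    exact (IsUnit.prod_iff.mpr fun i _ => huu i).mul g0
  obtain ⟨Du, hDu⟩ := (Matrix.isUnit_iff_isUnit_det D).mpr hDdet
  let T : (Fin 3 → ZMod p) → (Fin 3 → A) := fun v => Matrix.vecMul (ρ v) (↑Du⁻¹ : Matrix (Fin 3) (Fin 3) A)
  have hT : ∀ v, Matrix.vecMul (T v) D = ρ v := fun v => by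
    simp only [T]; rw [Matrix.vecMul_vecMul, ← hDu, Units.inv_mul, Matrix.vecMul_one]
  have hTuniq : ∀ v w, Matrix.vecMul w D = ρ v → T v = w := fun v w h => by
    simp only [T]; rw [← h, Matrix.vecMul_vecMul, ← hDu, Units.mul_inv, Matrix.vecMul_one]
  have hTunit : ∀ v, v ≠ 0 → ∃ i, IsUnit (T v i) := by
    intro v hv
    by_contra hne
    push Not at hne
    obtain ⟨i, hi⟩ := hpt v hv
    have : ρ v i ∈ IsLocalRing.maximalIdeal A := by
      rw [← hT v]
      rw [Matrix.vecMul, dotProduct]; exact sum_mem fun j _ => Ideal.mul_mem_right _ _ (show T v j ∈ IsLocalRing.maximalIdeal A from hne j)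
    exact this hi
  have hTcol : ∀ a b c : Fin 3 → ZMod p, a ≠ 0 → b ≠ 0 → c ≠ 0 → Matrix.det (Matrix.of ![a, b, c]) = 0 →
      Matrix.det (Matrix.of ![T a, T b, T c]) = 0 := by
    intro a b c ha hb hc h
    obtain ⟨n, ⟨i, hi⟩, h1, h2, h3⟩ := hcol a b c ha hb hc h
    have h0 : Matrix.mulVec (Matrix.of ![ρ a, ρ b, ρ c]) n = 0 := by
      funext r; fin_cases r
      · exact h1
      · exact h2
      · exact h3
    have h4 : (Matrix.of ![ρ a, ρ b, ρ c]).det • n = 0 := by
      have := congrArg (Matrix.mulVec (Matrix.of ![ρ a, ρ b, ρ c]).adjugate) h0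
      rwa [Matrix.mulVec_mulVec, Matrix.adjugate_mul, Matrix.smul_mulVec, Matrix.one_mulVec, Matrix.mulVec_zero] at this
    have h5 : (Matrix.of ![ρ a, ρ b, ρ c]).det = 0 := by
      have := congrFun h4 i
      rw [Pi.smul_apply, smul_eq_mul, Pi.zero_apply] at this
      exact hi.mul_left_eq_zero.mp this
    have h6 : (Matrix.of ![ρ a, ρ b, ρ c]) = Matrix.of ![T a, T b, T c] * D := by
      ext r s
      rw [Matrix.mul_apply_eq_vecMul]
      rcases three r with rfl | rfl | rfl <;> simp [hT, hof]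
    rw [h6, Matrix.det_mul] at h5
    exact hDdet.mul_left_eq_zero.mp h5
  have hTe : ∀ i : Fin 3, ∃ s : A, IsUnit s ∧ T (Pi.single i 1) = Pi.single i s := by
    intro i
    obtain ⟨w, hw⟩ := (huu i).exists_left_inv
    refine ⟨w, IsUnit.of_mul_eq_one (u i) hw, hTuniq _ _ ?_⟩
    funext j
    rw [Matrix.vecMul, dotProduct, Finset.sum_eq_single i]
    · rw [Pi.single_eq_same, hD, Matrix.diagonal_mul, ← mul_assoc, hw, one_mul, hB]
      fin_cases i <;> rfl
    · intro r _ hr; rw [Pi.single_eq_of_ne hr, zero_mul]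
    · simp
  have hTE : T (fun _ => 1) = fun _ => 1 := by
    refine hTuniq _ _ ?_
    rw [hD, ← Matrix.vecMul_vecMul, ← hEv, ← hEvu]
    congr 1
    funext j
    rw [Matrix.vecMul_diagonal, one_mul]
  obtain ⟨a0, ha0, hT0⟩ := hTe 0
  obtain ⟨a1, ha1, hT1⟩ := hTe 1
  obtain ⟨a2, ha2, hT2⟩ := hTe 2
  have ne : ∀ (v : Fin 3 → ZMod p) (i : Fin 3), v i = 1 → v ≠ 0 := fun v i hi e => by simp [e] at hi
  have e0n : (Pi.single 0 1 : Fin 3 → ZMod p) ≠ 0 := ne _ 0 (by simp)
  have e1n : (Pi.single 1 1 : Fin 3 → ZMod p) ≠ 0 := ne _ 1 (by simp)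
  have e2n : (Pi.single 2 1 : Fin 3 → ZMod p) ≠ 0 := ne _ 2 (by simp)
  have eEn : (fun _ => 1 : Fin 3 → ZMod p) ≠ 0 := ne _ 0 rfl
  -- S = (1,1,0)
  obtain ⟨s, hs, hS⟩ : ∃ s : A, IsUnit s ∧ T ![1, 1, 0] = ![s, s, 0] := by
    have hn : (![1, 1, 0] : Fin 3 → ZMod p) ≠ 0 := ne _ 0 rfl
    have c1 := hTcol _ _ _ e0n e1n hn (by simp [Matrix.det_fin_three])
    have c2 := hTcol _ _ _ e2n eEn hn (by simp [Matrix.det_fin_three])
    rw [hT0, hT1] at c1
    rw [hT2, hTE] at c2
    simp [Matrix.det_fin_three] at c1 c2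
    have z : T ![1, 1, 0] 2 = 0 := by
      exact (ha0.mul ha1).mul_right_eq_zero.mp (by linear_combination c1)
    have eq : T ![1, 1, 0] 1 = T ![1, 1, 0] 0 := by
      have := c2
      exact sub_eq_zero.mp (ha2.mul_right_eq_zero.mp (by linear_combination this))
    refine ⟨T ![1, 1, 0] 0, ?_, funext fun i => by fin_cases i <;> simp [z, eq]⟩
    obtain ⟨i, hi⟩ := hTunit _ hn
    fin_cases i
    · exact hi
    · exact eq ▸ hi
    · exact absurd (z ▸ hi) not_isUnit_zero
  obtain ⟨w, hw, hW⟩ : ∃ w : A, IsUnit w ∧ T ![0, 1, 1] = ![0, w, w] := by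
    have hn : (![0, 1, 1] : Fin 3 → ZMod p) ≠ 0 := ne _ 1 rfl
    have c1 := hTcol _ _ _ e1n e2n hn (by simp [Matrix.det_fin_three])
    have c2 := hTcol _ _ _ e0n eEn hn (by simp [Matrix.det_fin_three])
    rw [hT1, hT2] at c1
    rw [hT0, hTE] at c2
    simp [Matrix.det_fin_three] at c1 c2
    have z : T ![0, 1, 1] 0 = 0 := by
      exact (ha1.mul ha2).mul_right_eq_zero.mp (by linear_combination c1)
    have eq : T ![0, 1, 1] 2 = T ![0, 1, 1] 1 := by
      exact sub_eq_zero.mp (ha0.mul_right_eq_zero.mp (by linear_combination c2))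
    refine ⟨T ![0, 1, 1] 1, ?_, funext fun i => by fin_cases i <;> simp [z, eq]⟩
    obtain ⟨i, hi⟩ := hTunit _ hn
    fin_cases i
    · exact absurd (z ▸ hi) not_isUnit_zero
    · exact hi
    · exact eq ▸ hi
  have main : ∀ n : ℕ, ∃ t : A, IsUnit t ∧ T ![(n : ZMod p), 0, 1] = ![t * n, 0, t] := by
    intro n
    induction n with
    | zero =>
      refine ⟨a2, ha2, ?_⟩
      rw [show (![((0 : ℕ) : ZMod p), 0, 1] : Fin 3 → ZMod p) = Pi.single 2 1 by funext i; fin_cases i <;> simp, hT2]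
      funext i; fin_cases i <;> simp
    | succ n ih =>
      obtain ⟨t, ht, hP⟩ := ih
      have hPn : (![(n : ZMod p), 0, 1] : Fin 3 → ZMod p) ≠ 0 := ne _ 2 rfl
      have hSn : (![1, 1, 0] : Fin 3 → ZMod p) ≠ 0 := ne _ 0 rfl
      have hWn : (![0, 1, 1] : Fin 3 → ZMod p) ≠ 0 := ne _ 1 rfl
      have hQn : (![(n : ZMod p) + 1, 1, 1] : Fin 3 → ZMod p) ≠ 0 := ne _ 1 rfl
      have hNn : (![((n + 1 : ℕ) : ZMod p), 0, 1] : Fin 3 → ZMod p) ≠ 0 := ne _ 2 rfl
      set q := T ![(n : ZMod p) + 1, 1, 1] with hq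
      have c1 := hTcol _ _ _ e0n hWn hQn (by simp [Matrix.det_fin_three])
      have c2 := hTcol _ _ _ hPn hSn hQn (by simp [Matrix.det_fin_three])
      rw [hT0, hW, ← hq] at c1
      rw [hP, hS, ← hq] at c2
      simp [Matrix.det_fin_three] at c1 c2
      have eq12 : q 2 = q 1 := sub_eq_zero.mp ((ha0.mul hw).mul_right_eq_zero.mp (by linear_combination c1))
      have eq0 : q 0 = (n + 1) * q 1 := by
        refine (sub_eq_zero.mp ((ht.mul hs).mul_right_eq_zero.mp ?_)).symm
        linear_combination c2 - t * s * n * eq12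
      have hq1 : IsUnit (q 1) := by
        obtain ⟨i, hi⟩ := hTunit _ hQn
        rcases three i with rfl | rfl | rfl
        · exact isUnit_of_mul_isUnit_right (show IsUnit (((n : A) + 1) * q 1) by rw [← eq0]; exact hi)
        · exact hi
        · exact eq12 ▸ (show IsUnit (q 2) from hi)
      set P' := T ![((n + 1 : ℕ) : ZMod p), 0, 1] with hP'
      have d1 := hTcol _ _ _ e0n e2n hNn (by simp [Matrix.det_fin_three])
      have d2 := hTcol _ _ _ e1n hQn hNn (by simp [Matrix.det_fin_three])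
      rw [hT0, hT2, ← hP'] at d1
      rw [hT1, ← hq, ← hP'] at d2
      simp [Matrix.det_fin_three] at d1 d2
      have z1 : P' 1 = 0 := by
        exact (ha0.mul ha2).mul_right_eq_zero.mp (by linear_combination d1)
      have z0 : P' 0 = P' 2 * ((n : A) + 1) := by
        refine sub_eq_zero.mp ((ha1.mul hq1).mul_right_eq_zero.mp ?_)
        rw [eq0, eq12] at d2
        linear_combination d2
      refine ⟨P' 2, ?_, funext fun i => by fin_cases i <;> simp [z1, z0]⟩
      obtain ⟨i, hi⟩ := hTunit _ hNn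
      rcases three i with rfl | rfl | rfl
      · exact isUnit_of_mul_isUnit_left (show IsUnit (P' 2 * ((n : A) + 1)) by rw [← z0]; exact hi)
      · exact absurd (show IsUnit (0 : A) by rw [← z1]; exact hi) not_isUnit_zero
      · exact hi
  obtain ⟨t, ht, hp⟩ := main p
  rw [show (![((p : ℕ) : ZMod p), 0, 1] : Fin 3 → ZMod p) = Pi.single 2 1 by funext i; fin_cases i <;> simp, hT2] at hp
  have := congrFun hp 0
  simp at this
  exact ht.mul_right_eq_zero.mp this.symm

end Groth.Agent.S13149
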