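import Groth.Statements.S13150
import Groth.Agent.W2LiftL.Descend
import Mathlib


-- import your own Groth.Agent.* helpers here

set_option autoImplicit false
universe u
open FrobAlg

namespace Groth.Agent.S13150

/-- Let k be a perfect field of characteristic p and (B, ι, π) a flat lifting over W₂(k) of a Noetherian
k-algebra A. The Frobenius of A lifts to B (a σ₂-semilinear ring endomorphism of B reducing to the
p-th power map) if and only if there is a ring homomorphism θ : B → W₂(A) over A (the zeroth Witt
component of θ(b) is π(b)) with θ ∘ ι equal to the map W₂(k) → W₂(A) induced by k → A. (The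
published statement is for a flat W₂(k)-extension of the structure sheaf of a scheme and says: the
push-out of that extension along the Frobenius O_X → F_*O_X is isomorphic, as an extension by F_*O_X
over W₂(k), to W₂(O_X); by the universal property of the push-out this is the existence of a
morphism of extensions to W₂(O_X), which in the affine case taken here is the map θ.) -/
theorem result
    (p : ℕ) [Fact p.Prime] (k : Type u) [Field k] [CharP k p] [PerfectRing k p]
    (A B : Type u) [CommRing A] [Algebra k A] [IsNoetherianRing A] [CommRing B]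
    (ι : FrobAlg.W2 p k →+* B) (π : B →+* A) (hB : FrobAlg.IsLift p k A B ι π) :
    (∃ Φ : B →+* B, FrobAlg.IsFrobLift p k A B ι π Φ) ↔
      ∃ θ : B →+* FrobAlg.W2 p A,
        (FrobAlg.res p A).comp θ = π ∧ θ.comp ι = WittGrp.truncMap p 2 (algebraMap k A) := by
  classical
  have hp2 : 2 ≤ p := (Fact.out : p.Prime).two_le
  have hsq : (p : B) * (p : B) = 0 := W2LiftLib.lift_sq ι
  have hppow : ∀ y : B, ((p : B) * y) ^ p = 0 := by
    intro y
    obtain ⟨j, hj⟩ := Nat.exists_eq_add_of_le hp2
    generalize hP : (p : B) = P at hsq ⊢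
    rw [hj, pow_add, pow_two, show P * y * (P * y) = P * P * (y * y) by ring, hsq, zero_mul, zero_mul]
  have hghost : ∀ X : WittVector p B, WittVector.ghostComponent 1 X = (p : B) * X.coeff 1 + X.coeff 0 ^ p := by
    intro X
    simp [WittVector.ghostComponent_apply, wittPolynomial_one]
  let s : WittVector p B →+* FrobAlg.W2 p A := (WittVector.truncate 2).comp (WittVector.map π)
  have hs : ∀ (X : WittVector p B) (i : Fin 2), (s X).coeff i = π (X.coeff i) := fun X i => by
    rw [RingHom.comp_apply, WittVector.coeff_truncate, WittVector.map_coeff]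
  have hssurj : Function.Surjective s :=
    (WittVector.truncate_surjective p 2 A).comp (WittVector.map_surjective π hB.surj)
  let ψ : FrobAlg.W2 p A →+* B := RingHom.liftOfSurjective s hssurj ⟨WittVector.ghostComponent 1, fun X hX => by
    rw [RingHom.mem_ker] at hX ⊢
    have h0 : π (X.coeff 0) = 0 := by
      have := hs X 0; rw [hX, TruncatedWittVector.coeff_zero] at this; exact this.symm
    have h1 : π (X.coeff 1) = 0 := by
      have := hs X 1; rw [hX, TruncatedWittVector.coeff_zero] at this; exact this.symm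
    obtain ⟨y0, hy0⟩ := (W2LiftLib.lift_ker hB _).mp h0
    obtain ⟨y1, hy1⟩ := (W2LiftLib.lift_ker hB _).mp h1
    rw [hghost, hy0, hy1, hppow, ← mul_assoc, hsq, zero_mul, add_zero]⟩
  have hψ : ∀ (w : FrobAlg.W2 p A) (c0 c1 : B), π c0 = w.coeff 0 → π c1 = w.coeff 1 →
      ψ w = (p : B) * c1 + c0 ^ p := by
    intro w c0 c1 h0 h1
    let X : WittVector p B := ⟨fun i => if i = 0 then c0 else c1⟩
    have hw : s X = w := TruncatedWittVector.ext fun i => by
      rw [hs]
      fin_cases i <;> simp [X, h0, h1]
    rw [← hw]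
    exact (RingHom.liftOfRightInverse_comp_apply _ _ _ _ X).trans (hghost X)
  have hπψ : ∀ w, π (ψ w) = w.coeff 0 ^ p := by
    intro w
    obtain ⟨c0, h0⟩ := hB.surj (w.coeff 0)
    obtain ⟨c1, h1⟩ := hB.surj (w.coeff 1)
    rw [hψ w c0 c1 h0 h1, map_add, map_mul, map_pow, W2LiftLib.lift_natCast hB, zero_mul, zero_add, h0]
  have hinj : ∀ w w' : FrobAlg.W2 p A, FrobAlg.res p A w = FrobAlg.res p A w' → ψ w = ψ w' → w = w' := by
    intro w w' h1 h2
    rw [← sub_eq_zero]
    set d := w - w' with hd
    have hd0 : d.coeff 0 = 0 := by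
      rw [← FrobAlg.res_apply, hd, map_sub, h1, sub_self]
    obtain ⟨c1, hc1⟩ := hB.surj (d.coeff 1)
    have h3 : ψ d = (p : B) * c1 := by
      rw [hψ d 0 c1 (by rw [map_zero, hd0]) hc1, zero_pow (by omega), add_zero]
    rw [show ψ d = 0 by rw [hd, map_sub, h2, sub_self]] at h3
    have h4 := W2LiftLib.lift_div hB (show (p : B) * c1 = (p : B) * 0 by rw [mul_zero, ← h3])
    rw [hc1, map_zero] at h4
    exact TruncatedWittVector.ext fun i => by fin_cases i <;> simp [hd0, h4, TruncatedWittVector.coeff_zero]
  have hres : ∀ v, π (ι v) = algebraMap k A (FrobAlg.res p k v) := fun v => RingHom.congr_fun hB.comm v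
  have hσ : ∀ v : FrobAlg.W2 p k, ψ (WittGrp.truncMap p 2 (algebraMap k A) v) = ι (FrobAlg.sigma p k v) := by
    intro v
    let t : k → FrobAlg.W2 p k := fun c => WittVector.truncate 2 (WittVector.teichmuller p c)
    have ht : ∀ c, (t c).coeff 0 = c := fun c => by
      rw [WittVector.coeff_truncate]; exact WittVector.teichmuller_coeff_zero p c
    rw [hψ _ (ι (t (v.coeff 0))) (ι (t (v.coeff 1))) (by rw [hres, FrobAlg.res_apply, ht, WittGrp.coeff_truncMap])
      (by rw [hres, FrobAlg.res_apply, ht, WittGrp.coeff_truncMap]),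
      ← map_natCast ι, ← map_pow, ← map_mul, ← map_add]
    congr 1
    have hmul : (p : FrobAlg.W2 p k) * t (v.coeff 1) = W2LiftLib.vs (v.coeff 1 ^ p) := by
      rw [W2LiftLib.natCast_eq_vs, mul_comm, W2LiftLib.mul_vs, mul_one, ht]
    rw [hmul]
    have htp : t (v.coeff 0) ^ p = WittVector.truncate 2 (WittVector.teichmuller p (v.coeff 0 ^ p)) := by
      rw [map_pow, map_pow]
    rw [htp, W2LiftLib.vs, ← map_add]
    refine TruncatedWittVector.ext fun i => ?_
    rw [WittVector.coeff_truncate, WittVector.coeff_add_of_disjoint, FrobAlg.sigma, WittGrp.coeff_frob]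
    · fin_cases i
      · simp [WittVector.verschiebung_coeff_zero, WittVector.teichmuller_coeff_zero, -map_pow]
      · simp [WittVector.verschiebung_coeff_succ, WittVector.teichmuller_coeff_zero,
          WittVector.teichmuller_coeff_pos, -map_pow]
    · intro m
      cases m with
      | zero => left; exact WittVector.verschiebung_coeff_zero _
      | succ m => right; exact WittVector.teichmuller_coeff_pos _ _ _ (Nat.succ_pos m)
  constructor
  · rintro ⟨Φ, hΦ⟩
    have hex : ∀ b, ∃ w, FrobAlg.res p A w = π b ∧ ψ w = Φ b := by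
      intro b
      obtain ⟨c, hc⟩ := (W2LiftLib.lift_ker hB (Φ b - b ^ p)).mp (by rw [map_sub, hΦ.red, map_pow, sub_self])
      refine ⟨TruncatedWittVector.mk p ![π b, π c], by simp, ?_⟩
      rw [hψ _ b c (by simp) (by simp), ← hc, sub_add_cancel]
    choose θ hθ using hex
    refine ⟨{ toFun := θ, map_one' := ?_, map_mul' := ?_, map_zero' := ?_, map_add' := ?_ },
      RingHom.ext fun b => (hθ b).1, RingHom.ext fun v => ?_⟩
    · exact hinj _ _ (by rw [(hθ 1).1, map_one, map_one]) (by rw [(hθ 1).2, map_one, map_one])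
    · exact fun a b => hinj _ _ (by rw [(hθ _).1, map_mul, map_mul, (hθ a).1, (hθ b).1])
        (by rw [(hθ _).2, map_mul, map_mul, (hθ a).2, (hθ b).2])
    · exact hinj _ _ (by rw [(hθ 0).1, map_zero, map_zero]) (by rw [(hθ 0).2, map_zero, map_zero])
    · exact fun a b => hinj _ _ (by rw [(hθ _).1, map_add, map_add, (hθ a).1, (hθ b).1])
        (by rw [(hθ _).2, map_add, map_add, (hθ a).2, (hθ b).2])
    · refine hinj _ _ ?_ ?_
      · show FrobAlg.res p A (θ (ι v)) = _
        rw [(hθ _).1, hres, FrobAlg.res_apply, FrobAlg.res_apply, WittGrp.coeff_truncMap]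
      · show ψ (θ (ι v)) = _
        rw [(hθ _).2, hσ]
        exact RingHom.congr_fun hΦ.semi v
  · rintro ⟨θ, hθ1, hθ2⟩
    refine ⟨ψ.comp θ, hB, RingHom.ext fun v => ?_, fun b => ?_⟩
    · show ψ (θ (ι v)) = ι (FrobAlg.sigma p k v)
      rw [show θ (ι v) = _ from RingHom.congr_fun hθ2 v, hσ]
    · show π (ψ (θ b)) = _
      rw [hπψ, ← FrobAlg.res_apply, show FrobAlg.res p A (θ b) = π b from RingHom.congr_fun hθ1 b]

end Groth.Agent.S13150
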