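import Groth.Statements.S13151
import Mathlib.RingTheory.IntegralClosure.IntegrallyClosed
import Mathlib.RingTheory.Localization.FractionRing
-- import your own Groth.Agent.* helpers here

set_option autoImplicit false
universe u
open CAlg

namespace Groth.Agent.S13151

/-- Let A → B be an injective ring homomorphism of integral domains which is integral, with A integrally
closed, and let π be an element of A. Then the contraction to A of the ideal πB is πA, i.e. an
element of A which is a multiple of π in B is already a multiple of π in A; in particular if B/πB is
an integral domain then A/πA is an integral domain. (The published statement is for an integral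
dominant morphism of integral schemes flat over a discrete valuation ring, with normal target and π
a uniformizer; flatness and the valuation ring play no role, so π is an arbitrary element here.) -/
theorem result {A B : Type u} [CommRing A] [CommRing B]
    [IsDomain A] [IsDomain B] [IsIntegrallyClosed A] [Algebra A B] [Algebra.IsIntegral A B]
    (hinj : Function.Injective (algebraMap A B)) (π : A) :
    (Ideal.span {algebraMap A B π}).comap (algebraMap A B) = Ideal.span {π} ∧
      (IsDomain (B ⧸ Ideal.span {algebraMap A B π}) → IsDomain (A ⧸ Ideal.span {π})) := by
  have key : (Ideal.span {algebraMap A B π}).comap (algebraMap A B) = Ideal.span {π} := by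
    refine le_antisymm (fun a ha => ?_) (Ideal.span_le.mpr (by simp [Ideal.mem_span_singleton_self]))
    obtain ⟨b, hb⟩ := Ideal.mem_span_singleton.mp ha
    rcases eq_or_ne π 0 with rfl | hπ
    · rw [map_zero, zero_mul] at hb
      rw [hinj (hb.trans (map_zero _).symm)]; exact zero_mem _
    haveI : FaithfulSMul A B := (faithfulSMul_iff_algebraMap_injective A B).mpr hinj
    let K := FractionRing A
    let L := FractionRing B
    let φ : K →+* L := IsFractionRing.map (A := A) (K := K) (L := L) hinj
    have hφ : ∀ c : A, φ (algebraMap A K c) = algebraMap B L (algebraMap A B c) := fun c =>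
      IsLocalization.map_eq _ c
    let k : K := algebraMap A K a / algebraMap A K π
    have hk : φ k = algebraMap B L b := by
      rw [map_div₀, hφ, hφ, hb, map_mul, mul_div_cancel_left₀]
      exact fun h => hπ (hinj ((IsFractionRing.injective B L (h.trans (map_zero _).symm)).trans (map_zero _).symm))
    have hkint : IsIntegral A k := by
      obtain ⟨p, hp, hpb⟩ := Algebra.IsIntegral.isIntegral (R := A) b
      refine ⟨p, hp, φ.injective ?_⟩
      rw [Polynomial.hom_eval₂, hk, map_zero, show φ.comp (algebraMap A K) = (algebraMap B L).comp (algebraMap A B) from
        RingHom.ext hφ, ← Polynomial.hom_eval₂, hpb, map_zero]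
    obtain ⟨c, hc⟩ := IsIntegrallyClosed.isIntegral_iff.mp hkint
    refine Ideal.mem_span_singleton.mpr ⟨c, IsFractionRing.injective A K ?_⟩
    rw [map_mul, hc, mul_div_cancel₀]
    exact fun h => hπ (IsFractionRing.injective A K (h.trans (map_zero _).symm))
  refine ⟨key, fun h => ?_⟩
  haveI : (Ideal.span {algebraMap A B π}).IsPrime := Ideal.Quotient.isDomain_iff_prime _ |>.mp h
  exact (Ideal.Quotient.isDomain_iff_prime _).mpr (key ▸ Ideal.comap_isPrime _ _)

end Groth.Agent.S13151
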