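import Groth.Statements.S13153
import Groth.Agent.PerfectFieldLib.FormallySmooth
import Mathlib.RingTheory.Kaehler.JacobiZariski
import Mathlib.RingTheory.Kaehler.Polynomial
import Mathlib.RingTheory.Flat.FaithfullyFlat.Algebra
import Mathlib.RingTheory.Smooth.Basic
import Mathlib.RingTheory.Algebraic.Basic
import Mathlib.FieldTheory.Perfect
import Mathlib.RingTheory.Localization.FractionRing

set_option autoImplicit false
universe u
open CAlg

namespace Groth.Agent.S13153
open Polynomial in
theorem isAlgebraic_of_D_eq_zero (K : Type u) [Field K] [CharZero K] (L : Type u) [Field L] [Algebra K L]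
    (f : L) (hf : KaehlerDifferential.D K L f = 0) : IsAlgebraic K f := by
  by_contra h
  have hinj : Function.Injective (Polynomial.aeval (R := K) f) := transcendental_iff_injective.1 h
  letI : Algebra K[X] L := (Polynomial.aeval (R := K) f).toRingHom.toAlgebra
  haveI : IsScalarTower K K[X] L := IsScalarTower.of_algebraMap_eq fun r => (Polynomial.aeval_C f r).symm
  have hL : Function.Injective (algebraMap K[X] L) := hinj
  letI : Algebra (FractionRing K[X]) L := (IsFractionRing.lift hL).toAlgebra
  haveI : IsScalarTower K[X] (FractionRing K[X]) L :=
    IsScalarTower.of_algebraMap_eq fun r => (IsFractionRing.lift_algebraMap hL r).symm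
  haveI : CharZero (FractionRing K[X]) :=
    charZero_of_injective_algebraMap (algebraMap K (FractionRing K[X])).injective
  haveI : Algebra.FormallySmooth (FractionRing K[X]) L :=
    Groth.Agent.PerfectFieldLib.formallySmooth_of_perfectField _ _
  haveI : Algebra.FormallySmooth K[X] (FractionRing K[X]) :=
    Algebra.FormallySmooth.of_isLocalization (nonZeroDivisors _)
  haveI : Algebra.FormallySmooth K[X] L := Algebra.FormallySmooth.comp _ (FractionRing K[X]) _
  have hi : Function.Injective (KaehlerDifferential.mapBaseChange K K[X] L) := by
    rw [injective_iff_map_eq_zero]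
    intro z hz
    obtain ⟨w, rfl⟩ := (Algebra.H1Cotangent.exact_δ_mapBaseChange K K[X] L z).1 hz
    rw [Subsingleton.elim w 0, map_zero]
  have h0 : (1 : L) ⊗ₜ[K[X]] KaehlerDifferential.D K K[X] X = 0 := by
    apply hi
    rw [KaehlerDifferential.mapBaseChange_tmul, one_smul, KaehlerDifferential.map_D, map_zero]
    have : algebraMap K[X] L X = f := Polynomial.aeval_X f
    rw [this]
    exact hf
  have h1 := congrArg ((TensorProduct.rid K[X] L).toLinearMap ∘ₗ
    (KaehlerDifferential.polynomialEquiv K).toLinearMap.lTensor L) h0
  rw [map_zero, LinearMap.comp_apply, LinearMap.lTensor_tmul] at h1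
  simp [KaehlerDifferential.polynomialEquiv_D] at h1

/-- Let R be a discrete valuation ring whose fraction field K has characteristic zero, A an integral
domain which is a faithfully flat R-algebra, with fraction field L, such that K is algebraically
closed in L (every element of L algebraic over K is in the image of K). If f ∈ A has vanishing
differential, df = 0 in Ω_{A/R}, then f is the image of an element of R. (The published statement is
the sheaf form: for a faithfully flat morphism X → Spec R with geometrically integral generic fibre,
the kernel of d : O_X → Ω¹_{X/R} is the inverse image of O_{Spec R}; for integral X, geometric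
integrality of the generic fibre in characteristic zero amounts to K being algebraically closed in
the function field, which is the form used here, and this row is the case of global sections over an
affine X = Spec A.) -/
theorem result (R : Type u) [CommRing R] [IsDomain R]
    [IsDiscreteValuationRing R] [CharZero R] (K : Type u) [Field K] [Algebra R K] [IsFractionRing R K]
    (A : Type u) [CommRing A] [IsDomain A] [Algebra R A] [Module.FaithfullyFlat R A]
    (L : Type u) [Field L] [Algebra A L] [IsFractionRing A L] [Algebra R L] [Algebra K L]
    [IsScalarTower R A L] [IsScalarTower R K L]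
    (hac : ∀ x : L, IsAlgebraic K x → x ∈ (algebraMap K L).range)
    (f : A) (hf : KaehlerDifferential.D R A f = 0) : f ∈ (algebraMap R A).range := by
  haveI : CharZero K := charZero_of_injective_algebraMap (IsFractionRing.injective R K)
  have hdf : KaehlerDifferential.D K L (algebraMap A L f) = 0 := by
    have h := congrArg (KaehlerDifferential.map R K A L) hf
    rwa [KaehlerDifferential.map_D, map_zero] at h
  obtain ⟨k, hk⟩ := hac _ (isAlgebraic_of_D_eq_zero K L _ hdf)
  obtain ⟨r, s, hs, rfl⟩ := IsFractionRing.div_surjective R k
  have hinj : Function.Injective (algebraMap R A) := FaithfulSMul.algebraMap_injective R A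
  have hsK : algebraMap R K s ≠ 0 := IsFractionRing.to_map_ne_zero_of_mem_nonZeroDivisors hs
  have e : algebraMap R A r = algebraMap R A s * f := by
    refine IsFractionRing.injective A L ?_
    rw [map_mul, ← hk, ← IsScalarTower.algebraMap_apply, ← IsScalarTower.algebraMap_apply,
      IsScalarTower.algebraMap_apply R K L, IsScalarTower.algebraMap_apply R K L, ← map_mul,
      mul_div_cancel₀ _ hsK]
  have hr : r ∈ Ideal.span ({s} : Set R) := by
    rw [← Ideal.comap_map_eq_self_of_faithfullyFlat (B := A) (Ideal.span {s}), Ideal.mem_comap, e, Ideal.map_span,
      Set.image_singleton]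
    exact Ideal.mul_mem_right _ _ (Ideal.mem_span_singleton_self _)
  obtain ⟨t, rfl⟩ := Ideal.mem_span_singleton'.1 hr
  refine ⟨t, mul_left_cancel₀ (fun h => nonZeroDivisors.ne_zero hs (hinj (h.trans (map_zero _).symm))) ?_⟩
  rw [← e, map_mul, mul_comm]

end Groth.Agent.S13153
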