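import Groth.Statements.S13154
import Mathlib
-- import your own Groth.Agent.* helpers here

set_option autoImplicit false
universe u
open scoped TensorProduct
open CAlg

namespace Groth.Agent.S13154

set_option maxHeartbeats 400000

open TensorProduct in
/-- An element of `K ⊗ B` and one of `A ⊗ B` agreeing in `(K ⊗ A) ⊗ B` come from `B`. -/
theorem exists_descend (R K A B : Type u) [CommRing R] [IsDomain R] [Field K] [Algebra R K]
    [IsFractionRing R K] [CommRing A] [Algebra R A] [Module.FaithfullyFlat R A] [CommRing B]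
    [Algebra R B] [Module.Flat R B] (y : K ⊗[R] B) (z : A ⊗[R] B)
    (h : Algebra.TensorProduct.map (Algebra.TensorProduct.includeLeft : K →ₐ[R] K ⊗[R] A) (AlgHom.id R B) y =
      Algebra.TensorProduct.map (Algebra.TensorProduct.includeRight : A →ₐ[R] K ⊗[R] A) (AlgHom.id R B) z) :
    ∃ b : B, (1 : K) ⊗ₜ[R] b = y ∧ (1 : A) ⊗ₜ[R] b = z := by
  let iK := (Algebra.TensorProduct.includeLeft : K →ₐ[R] K ⊗[R] A).toLinearMap
  let iA := (Algebra.TensorProduct.includeRight : A →ₐ[R] K ⊗[R] A).toLinearMap
  let p : R →ₗ[R] K × A := (Algebra.linearMap R K).prod (Algebra.linearMap R A)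
  let q : K × A →ₗ[R] K ⊗[R] A := iK.coprod (-iA)
  have hA : Function.Injective iA :=
    Algebra.TensorProduct.includeRight_injective (IsFractionRing.injective R K)
  have hpq : Function.Exact p q := fun ⟨x, a⟩ => by
    constructor
    · intro hx
      have hx' : x ⊗ₜ[R] (1 : A) = (1 : K) ⊗ₜ[R] a := by
        simpa [q, iK, iA, add_neg_eq_zero] using hx
      obtain ⟨r, s, hs, rfl⟩ := IsFractionRing.div_surjective R x
      have hs0 : algebraMap R K s ≠ 0 :=
        fun e => nonZeroDivisors.ne_zero hs (IsFractionRing.injective R K (e.trans (map_zero _).symm))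
      have h1 : algebraMap R A r = algebraMap R A s * a := hA (by
        change (1 : K) ⊗ₜ[R] algebraMap R A r = (1 : K) ⊗ₜ[R] (algebraMap R A s * a)
        have h2 := congrArg (fun t => s • t) hx'
        simp only [TensorProduct.smul_tmul', TensorProduct.smul_tmul] at h2
        rw [Algebra.algebraMap_eq_smul_one, ← TensorProduct.smul_tmul, Algebra.smul_def, mul_one,
          ← Algebra.smul_def s a, ← h2, ← TensorProduct.smul_tmul, Algebra.smul_def]
        congr 1
        field_simp)
      have hmem : r ∈ ((Ideal.span {s}).map (algebraMap R A)).comap (algebraMap R A) := by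
        rw [Ideal.mem_comap, h1]
        exact Ideal.mul_mem_right _ _ (Ideal.mem_map_of_mem _ (Ideal.mem_span_singleton_self s))
      rw [Ideal.comap_map_eq_self_of_faithfullyFlat] at hmem
      obtain ⟨t, rfl⟩ := Ideal.mem_span_singleton'.1 hmem
      refine ⟨t, Prod.ext ?_ ?_⟩
      · change algebraMap R K t = _
        rw [map_mul, mul_div_assoc, div_self hs0, mul_one]
      · change algebraMap R A t = a
        apply hA
        change (1 : K) ⊗ₜ[R] algebraMap R A t = (1 : K) ⊗ₜ[R] a
        rw [← hx', map_mul, mul_div_assoc, div_self hs0, mul_one, Algebra.algebraMap_eq_smul_one,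
          ← TensorProduct.smul_tmul, Algebra.smul_def, mul_one]
    · rintro ⟨r, hr⟩
      rw [← hr]
      simp [p, q, iK, iA, Algebra.algebraMap_eq_smul_one, TensorProduct.smul_tmul]
  let e := TensorProduct.prodLeft R R K A B
  have he : ∀ b, e (p.rTensor B ((1 : R) ⊗ₜ[R] b)) = ((1 : K) ⊗ₜ b, (1 : A) ⊗ₜ b) := fun b => by
    simp [e, p]
  have hq : ∀ w, q.rTensor B w = iK.rTensor B (e w).1 - iA.rTensor B (e w).2 := by
    intro w
    induction w using TensorProduct.induction_on with
    | zero => simp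
    | add a b ha hb =>
      rw [map_add, ha, hb, map_add, Prod.fst_add, Prod.snd_add, map_add, map_add, add_sub_add_comm]
    | tmul c l =>
      obtain ⟨x, a⟩ := c
      simp [e, q, TensorProduct.add_tmul, TensorProduct.neg_tmul, sub_eq_add_neg]
  have hm : ∀ (C D : Type u) [CommRing C] [Algebra R C] [CommRing D] [Algebra R D] (i : C →ₐ[R] D)
      (t : C ⊗[R] B), Algebra.TensorProduct.map i (AlgHom.id R B) t = i.toLinearMap.rTensor B t := by
    intro C D _ _ _ _ i t
    induction t using TensorProduct.induction_on with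
    | zero => simp
    | add a b ha hb => rw [map_add, map_add, ha, hb]
    | tmul a b => simp
  have h0 : q.rTensor B (e.symm (y, z)) = 0 := by
    rw [hq, e.apply_symm_apply, sub_eq_zero, ← hm, ← hm]
    exact h
  obtain ⟨w, hw⟩ := (Module.Flat.rTensor_exact B hpq _).1 h0
  refine ⟨TensorProduct.lid R B w, ?_⟩
  have h2 := he (TensorProduct.lid R B w)
  rw [show (1 : R) ⊗ₜ[R] TensorProduct.lid R B w = w by
    rw [← TensorProduct.lid_symm_apply, LinearEquiv.symm_apply_apply], hw, e.apply_symm_apply] at h2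
  exact ⟨(congrArg Prod.fst h2).symm, (congrArg Prod.snd h2).symm⟩

/-- Let R be a discrete valuation ring with fraction field K, A a faithfully flat R-algebra (an affine
faithfully flat base change S' → S = Spec R) and B₁, B₂ flat R-algebras (two affine S-schemes X₁ =
Spec B₁, X₂ = Spec B₂, flat over S). Suppose given a K-algebra homomorphism φ_K : K ⊗ B₂ → K ⊗ B₁ (a
morphism of the generic fibres X₁,K → X₂,K) and an A-algebra homomorphism φ_A : A ⊗ B₂ → A ⊗ B₁ (a
morphism X₁ ×_S S' → X₂ ×_S S' over S') which coincide after base change to K ⊗ A, in the sense that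
for every b ∈ B₂ the images of φ_K(1 ⊗ b) and φ_A(1 ⊗ b) in (K ⊗ A) ⊗ B₁ agree. Then there is
exactly one R-algebra homomorphism φ : B₂ → B₁ (a morphism X₁ → X₂) whose base changes to K and to A
are φ_K and φ_A. (The published statement assumes only X₂ flat over S; flatness of X₁ is also
needed: with B₂ = R[t], B₁ = R[e]/(e², πe) for a uniformizer π and A = R[x], the maps t ↦ 0 over K
and t ↦ e x over A agree over K ⊗ A = K[x] but come from no map over R.) -/
theorem result (R : Type u) [CommRing R] [IsDomain R]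
    [IsDiscreteValuationRing R] (K : Type u) [Field K] [Algebra R K] [IsFractionRing R K]
    (A : Type u) [CommRing A] [Algebra R A] [Module.FaithfullyFlat R A]
    (B₁ B₂ : Type u) [CommRing B₁] [CommRing B₂] [Algebra R B₁] [Algebra R B₂]
    [Module.Flat R B₁] [Module.Flat R B₂]
    (φK : K ⊗[R] B₂ →ₐ[K] K ⊗[R] B₁) (φA : A ⊗[R] B₂ →ₐ[A] A ⊗[R] B₁)
    (hcomp : ∀ b : B₂,
      Algebra.TensorProduct.map (Algebra.TensorProduct.includeLeft : K →ₐ[R] K ⊗[R] A) (AlgHom.id R B₁)
          (φK (1 ⊗ₜ b)) =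
        Algebra.TensorProduct.map (Algebra.TensorProduct.includeRight : A →ₐ[R] K ⊗[R] A) (AlgHom.id R B₁)
          (φA (1 ⊗ₜ b))) :
    ∃! φ : B₂ →ₐ[R] B₁, (∀ b : B₂, φK (1 ⊗ₜ b) = 1 ⊗ₜ φ b) ∧ (∀ b : B₂, φA (1 ⊗ₜ b) = 1 ⊗ₜ φ b) := by
  choose g hgK hgA using fun b : B₂ => exists_descend R K A B₁ (φK (1 ⊗ₜ b)) (φA (1 ⊗ₜ b)) (hcomp b)
  let i : B₁ →ₐ[R] K ⊗[R] B₁ := Algebra.TensorProduct.includeRight
  have hi : Function.Injective i :=
    Algebra.TensorProduct.includeRight_injective (IsFractionRing.injective R K)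
  let ψ : B₂ →ₐ[R] i.range :=
    ((φK.restrictScalars R).comp Algebra.TensorProduct.includeRight).codRestrict i.range
      fun b => ⟨g b, hgK b⟩
  let φ : B₂ →ₐ[R] B₁ := (AlgEquiv.ofInjective i hi).symm.toAlgHom.comp ψ
  have hφ : ∀ b, i (φ b) = φK (1 ⊗ₜ b) := fun b =>
    congrArg Subtype.val ((AlgEquiv.ofInjective i hi).apply_symm_apply (ψ b))
  have hφg : ∀ b, φ b = g b := fun b => hi ((hφ b).trans (hgK b).symm)
  refine ⟨φ, ⟨fun b => (hφ b).symm, fun b => by rw [hφg, hgA]⟩, fun φ' h => ?_⟩
  exact AlgHom.ext fun b => hi ((h.1 b).symm.trans (hφ b).symm)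

end Groth.Agent.S13154
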