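import Groth.Statements.S13155
import Groth.Agent.KummerLib.Basic
import Mathlib


-- import your own Groth.Agent.* helpers here

set_option autoImplicit false
universe u
open CAlg

namespace Groth.Agent.S13155

/-- Let R be a discrete valuation ring of characteristic zero with uniformizer π, and A a Noetherian
integrally closed domain which is an R-algebra with injective structure map and in which πA is a
prime ideal (X = Spec A is normal, flat over R, with integral special fibre). Let m ≥ 1 and let f ∈
A be invertible in A[1/π] (so Z^m = f defines a μ_m-torsor over the generic fibre), such that S =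
A[1/π][Z]/(Z^m − f) is an integral domain and, writing B for the integral closure of A in S (the
normalization of X in that cover), πB is a prime ideal of B (the normalization has integral special
fibre). Then f is, up to a unit of A, an m-th power of a power of π: f = π^{mq}·u with q ≥ 0 and u ∈
A^×, so that the cover extends to the μ_m-torsor Z^m = u over all of X. (The published statement is
the existence and uniqueness of the extending μ_m-torsor over a normal faithfully flat R-scheme with
integral fibres, R containing a primitive m-th root of unity; this row is the affine computation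
that carries the proof.) -/
theorem result (R : Type u) [CommRing R]
    [IsDomain R] [IsDiscreteValuationRing R] [CharZero R] (ϖ : R) (hϖ : Irreducible ϖ)
    (A : Type u) [CommRing A] [IsDomain A] [IsNoetherianRing A] [IsIntegrallyClosed A] [Algebra R A]
    (hinj : Function.Injective (algebraMap R A)) (hprime : (Ideal.span {algebraMap R A ϖ}).IsPrime)
    (m : ℕ) (hm : 0 < m) (f : A) (hf : IsUnit (algebraMap A (Localization.Away (algebraMap R A ϖ)) f))
    [IsDomain (AdjoinRoot (Polynomial.X ^ m - Polynomial.C (algebraMap A (Localization.Away (algebraMap R A ϖ)) f)))]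
    (hsp : (Ideal.span {algebraMap A (integralClosure A
        (AdjoinRoot (Polynomial.X ^ m - Polynomial.C (algebraMap A (Localization.Away (algebraMap R A ϖ)) f))))
          (algebraMap R A ϖ)}).IsPrime) :
    ∃ (q : ℕ) (u : Aˣ), f = algebraMap R A ϖ ^ (m * q) * (u : A) := by
  set L := Localization.Away (algebraMap R A ϖ)
  set S := AdjoinRoot (Polynomial.X ^ m - Polynomial.C (algebraMap A L f))
  set π : A := algebraMap R A ϖ with hπdef
  have hπ0 : π ≠ 0 := by
    rw [hπdef, ne_eq, ← map_zero (algebraMap R A), hinj.eq_iff]
    exact hϖ.ne_zero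
  have hπ : Prime π := (Ideal.span_singleton_prime hπ0).mp hprime
  haveI : IsLocalization.Away π L := Localization.isLocalization
  -- f = π ^ k * u
  obtain ⟨g, hg⟩ := isUnit_iff_exists_inv.mp hf
  obtain ⟨N, g0, hg0⟩ := IsLocalization.Away.surj π g
  have hfg : ∃ (N : ℕ) (g : A), f * g = π ^ N := by
    refine ⟨N, g0, IsLocalization.injective L (Submonoid.powers_le.mpr (mem_nonZeroDivisors_of_ne_zero hπ0)) ?_⟩
    rw [map_mul, map_pow, ← hg0, ← mul_assoc, hg, one_mul]
  have hdec : ∃ (k : ℕ) (u : Aˣ), f = π ^ k * u := by
    obtain ⟨N, g, h⟩ := hfg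
    obtain ⟨k, -, hk⟩ := (dvd_prime_pow hπ N).mp ⟨g, h.symm⟩
    obtain ⟨u, hu⟩ := hk.symm
    exact ⟨k, u, hu.symm⟩
  obtain ⟨k, u, hk⟩ := hdec
  have hπS : IsUnit (algebraMap A S π) := by
    rw [IsScalarTower.algebraMap_apply A L S]
    exact (IsLocalization.Away.algebraMap_isUnit π).map _
  set Z : S := AdjoinRoot.root _ with hZdef
  have hZ : Z ^ m = algebraMap A S f := by
    have h := AdjoinRoot.eval₂_root (Polynomial.X ^ m - Polynomial.C (algebraMap A L f))
    rw [Polynomial.eval₂_sub, Polynomial.eval₂_X_pow, Polynomial.eval₂_C, sub_eq_zero] at h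
    rw [hZdef, h, IsScalarTower.algebraMap_apply A L S]
    rfl
  -- an element whose m-th power is π ^ r * u with r < m forces r = 0
  refine ⟨k / m, u, ?_⟩
  have h0 := KummerLib.aux (S := S) π m hm k u Z hπS (hZ.trans (congrArg (algebraMap A S) hk)) hsp
  rw [hk, Nat.mul_div_cancel' (Nat.dvd_of_mod_eq_zero h0)]

end Groth.Agent.S13155
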