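import Groth.Statements.S13156
import Mathlib.Algebra.Polynomial.Derivative
import Mathlib.Algebra.Polynomial.AlgebraMap
import Mathlib.RingTheory.MvPolynomial.Basic
import Mathlib.Algebra.Polynomial.Degree.Lemmas
import Mathlib.Data.Nat.Prime.Factorial
import Mathlib.Tactic.LinearCombination
import Mathlib.Tactic.Ring
-- import your own Groth.Agent.* helpers here

set_option autoImplicit false
universe u
open scoped Polynomial
open CAlg

namespace Groth.Agent.S13156

/-- Let p be a prime number, A a commutative ring in which (p−1)! is invertible, μ an element of A, and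
F ∈ A[X] a polynomial of degree at most p − 1 with coefficients a_0, a_1, …. Then the identity
F(S)·F(T) − a_0² = F(S + T + μST) − a_0 holds in the polynomial ring A[S, T] if and only if a_1·F(S)
= F′(S)·(1 + μS) holds in A[S], F′ the formal derivative. (The published statement is over the
quotient of a discrete valuation ring of residue characteristic p by a nonzero element of its
maximal ideal; only the invertibility of 1, …, p − 1 is used, so an arbitrary such ring A is allowed
here.) -/
theorem result (A : Type u) [CommRing A] (p : ℕ) [Fact p.Prime]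
    (hu : IsUnit ((Nat.factorial (p - 1) : ℕ) : A)) (μ : A) (F : A[X]) (hF : F.natDegree < p) :
    (Polynomial.aeval (MvPolynomial.X 0 : MvPolynomial (Fin 2) A) F *
          Polynomial.aeval (MvPolynomial.X 1 : MvPolynomial (Fin 2) A) F - MvPolynomial.C (F.coeff 0 ^ 2) =
        Polynomial.aeval (MvPolynomial.X 0 + MvPolynomial.X 1 +
            MvPolynomial.C μ * MvPolynomial.X 0 * MvPolynomial.X 1 : MvPolynomial (Fin 2) A) F -
          MvPolynomial.C (F.coeff 0)) ↔
      F * Polynomial.C (F.coeff 1) = Polynomial.derivative F * (1 + Polynomial.C μ * Polynomial.X) := by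
  have hsmall : ∀ k : ℕ, 0 < k → k < p → IsUnit ((k : ℕ) : A) := fun k hk hkp =>
    isUnit_of_dvd_unit (map_dvd (Nat.castRingHom A) (Nat.dvd_factorial hk (by omega))) hu
  -- uniqueness of solutions of the differential equation
  have huniq : ∀ (B : Type u) [CommRing B] [Algebra A B] (m c : B) (G : Polynomial B), G.natDegree < p → G.coeff 0 = 0 →
      Polynomial.derivative G * (1 + Polynomial.C m * Polynomial.X) = Polynomial.C c * G → G = 0 := by
    intro B _ _ m c G hG h0 hD
    ext k
    rw [Polynomial.coeff_zero]
    induction k with
    | zero => exact h0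
    | succ k ih =>
      rcases le_or_gt p (k + 1) with hle | hlt
      · exact Polynomial.coeff_eq_zero_of_natDegree_lt (by omega)
      have h1 := congrArg (fun P => Polynomial.coeff P k) hD
      rw [mul_add, mul_one] at h1
      simp only [Polynomial.coeff_add, Polynomial.coeff_derivative, Polynomial.coeff_C_mul, ih, mul_zero] at h1
      have h2 : (Polynomial.derivative G * (Polynomial.C m * Polynomial.X)).coeff k = 0 := by
        rw [← mul_assoc]
        rcases k with _ | j
        · simp
        · rw [Polynomial.coeff_mul_X, Polynomial.coeff_mul_C, Polynomial.coeff_derivative, ih, zero_mul, zero_mul]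
      rw [h2, add_zero] at h1
      have hu' : IsUnit ((k : B) + 1) := by
        have := (hsmall (k + 1) (by omega) hlt).map (algebraMap A B)
        simpa using this
      exact hu'.mul_left_eq_zero.1 h1
  let e : MvPolynomial (Fin 2) A →ₐ[A] Polynomial (Polynomial A) := MvPolynomial.aeval ![Polynomial.C Polynomial.X, Polynomial.X]
  have he : Function.Injective e := by
    let inv : Polynomial (Polynomial A) →+* MvPolynomial (Fin 2) A :=
      Polynomial.eval₂RingHom (Polynomial.aeval (MvPolynomial.X 0 : MvPolynomial (Fin 2) A)).toRingHom (MvPolynomial.X 1)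
    have h : ∀ x, inv (e x) = x := by
      intro x
      induction x using MvPolynomial.induction_on with
      | C a => simp [inv, e, Polynomial.algebraMap_apply]
      | add a b ha hb => rw [map_add, map_add, ha, hb]
      | mul_X a i ha =>
        rw [map_mul, map_mul, ha]
        fin_cases i <;> simp [inv, e]
    exact Function.LeftInverse.injective h
  let S : Polynomial (Polynomial A) := Polynomial.C Polynomial.X
  let U : Polynomial (Polynomial A) := S + Polynomial.X + Polynomial.C (Polynomial.C μ) * S * Polynomial.X
  let a0 := F.coeff 0
  let a1 := F.coeff 1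
  let FS : Polynomial (Polynomial A) := Polynomial.C F
  let FT : Polynomial (Polynomial A) := F.map Polynomial.C
  have eS : e (Polynomial.aeval (MvPolynomial.X 0 : MvPolynomial (Fin 2) A) F) = FS := by
    rw [← Polynomial.aeval_algHom_apply, show e (MvPolynomial.X 0) = S by simp [e, S]]
    show Polynomial.aeval (Polynomial.C Polynomial.X) F = Polynomial.C F
    conv_rhs => rw [← Polynomial.aeval_X_left_apply F]
    exact Polynomial.aeval_algHom_apply (IsScalarTower.toAlgHom A (Polynomial A) (Polynomial (Polynomial A))) Polynomial.X F
  have eT : e (Polynomial.aeval (MvPolynomial.X 1 : MvPolynomial (Fin 2) A) F) = FT := by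
    rw [← Polynomial.aeval_algHom_apply, show e (MvPolynomial.X 1) = Polynomial.X by simp [e]]
    rw [Polynomial.aeval_def]
    rfl
  have eU : e (Polynomial.aeval (MvPolynomial.X 0 + MvPolynomial.X 1 + MvPolynomial.C μ * MvPolynomial.X 0 * MvPolynomial.X 1 : MvPolynomial (Fin 2) A) F) =
      Polynomial.aeval U F := by
    rw [← Polynomial.aeval_algHom_apply]
    congr 2
    simp [e, U, S, Polynomial.algebraMap_apply]
  have eC : ∀ a, e (MvPolynomial.C a) = Polynomial.C (Polynomial.C a) := fun a => by simp [e, Polynomial.algebraMap_apply]
  have hU0 : U.eval 0 = Polynomial.X := by simp [U, S]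
  have hev : (Polynomial.aeval U F).eval 0 = F := by
    conv_rhs => rw [← Polynomial.aeval_X_left_apply F]
    rw [← hU0]
    exact (Polynomial.aeval_algHom_apply ((Polynomial.aeval (0 : Polynomial A)).restrictScalars A) U F).symm
  have hdU : Polynomial.derivative (Polynomial.aeval U F) = Polynomial.aeval U (Polynomial.derivative F) * (1 + Polynomial.C (Polynomial.C μ) * S) := by
    have e1 : Polynomial.aeval U F = (F.map Polynomial.C).comp U := by
      rw [Polynomial.comp, Polynomial.eval₂_map]; rfl
    have e2 : Polynomial.aeval U (Polynomial.derivative F) = ((Polynomial.derivative F).map Polynomial.C).comp U := by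
      rw [Polynomial.comp, Polynomial.eval₂_map]; rfl
    rw [e1, e2, Polynomial.derivative_comp, Polynomial.derivative_map, mul_comm]
    simp [U, S]
  have hFT0 : FT.eval 0 = Polynomial.C a0 := by
    simp [FT, a0, ← Polynomial.coeff_zero_eq_eval_zero]
  have hrw : (Polynomial.aeval (MvPolynomial.X 0 : MvPolynomial (Fin 2) A) F *
          Polynomial.aeval (MvPolynomial.X 1 : MvPolynomial (Fin 2) A) F - MvPolynomial.C (F.coeff 0 ^ 2) =
        Polynomial.aeval (MvPolynomial.X 0 + MvPolynomial.X 1 +
            MvPolynomial.C μ * MvPolynomial.X 0 * MvPolynomial.X 1 : MvPolynomial (Fin 2) A) F -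
          MvPolynomial.C (F.coeff 0)) ↔
      FS * FT - Polynomial.C (Polynomial.C (a0 ^ 2)) = Polynomial.aeval U F - Polynomial.C (Polynomial.C a0) := by
    rw [← he.eq_iff, map_sub, map_sub, map_mul, eS, eT, eU, eC, eC]
  rw [hrw]
  constructor
  · intro h
    have h' := congrArg (fun Q : Polynomial (Polynomial A) => (Polynomial.derivative Q).eval 0) h
    simp only [Polynomial.derivative_sub, Polynomial.derivative_C, sub_zero, FS, Polynomial.derivative_C_mul,
      Polynomial.eval_mul, Polynomial.eval_C, hdU] at h'
    have hFT1 : (Polynomial.derivative FT).eval 0 = Polynomial.C a1 := by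
      rw [← Polynomial.coeff_zero_eq_eval_zero, Polynomial.coeff_derivative]
      simp [FT, a1]
    have hev' : (Polynomial.aeval U (Polynomial.derivative F)).eval 0 = Polynomial.derivative F := by
      conv_rhs => rw [← Polynomial.aeval_X_left_apply (Polynomial.derivative F)]
      rw [← hU0]
      exact (Polynomial.aeval_algHom_apply ((Polynomial.aeval (0 : Polynomial A)).restrictScalars A) U (Polynomial.derivative F)).symm
    rw [hFT1, hev'] at h'
    rw [h']
    simp [S]
  · intro h
    have hc0 : a1 * (a0 - 1) = 0 := by
      have h1 := congrArg (fun Q => Polynomial.coeff Q 0) h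
      simp only [Polynomial.coeff_mul_C, Polynomial.mul_coeff_zero, Polynomial.coeff_derivative, Polynomial.coeff_add,
        Polynomial.coeff_one, Polynomial.coeff_C, Polynomial.coeff_X_zero, if_pos, mul_zero, add_zero, zero_add, Nat.cast_zero, mul_one] at h1
      rw [mul_sub, mul_one, mul_comm]
      exact sub_eq_zero.2 h1
    have hkill : ∀ k, 0 < k → (a0 - 1) * F.coeff k = 0 := by
      have hz : (Polynomial.C (a0 - 1) * (F - Polynomial.C a0)) = 0 := by
        refine huniq A μ a1 _ ?_ (by simp [a0]) ?_
        · exact ((Polynomial.natDegree_C_mul_le _ _).trans ((Polynomial.natDegree_sub_le _ _).trans (max_le le_rfl (by simp)))).trans_lt hF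
        · rw [Polynomial.derivative_C_mul, Polynomial.derivative_sub, Polynomial.derivative_C, sub_zero, mul_assoc, ← h]
          have : Polynomial.C a1 * Polynomial.C (a0 - 1) = 0 := by rw [← Polynomial.C_mul, hc0, Polynomial.C_0]
          linear_combination Polynomial.C a0 * this
      intro k hk
      have := congrArg (fun Q => Polynomial.coeff Q k) hz
      simp only [Polynomial.coeff_C_mul, Polynomial.coeff_sub, Polynomial.coeff_C, if_neg hk.ne', sub_zero, Polynomial.coeff_zero] at this
      exact this
    let κ : Polynomial A := Polynomial.C (a0 ^ 2 - a0)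
    let E : Polynomial (Polynomial A) := FS * FT - Polynomial.aeval U F - Polynomial.C κ
    suffices hE : E = 0 by
      have : E = (FS * FT - Polynomial.C (Polynomial.C (a0 ^ 2))) - (Polynomial.aeval U F - Polynomial.C (Polynomial.C a0)) := by
        simp only [E, κ, map_sub]; ring
      exact sub_eq_zero.1 (this ▸ hE)
    refine huniq (Polynomial A) (Polynomial.C μ) (Polynomial.C a1) E ?_ ?_ ?_
    · have hUd : U.natDegree ≤ 1 := by
        refine Polynomial.natDegree_add_le_of_degree_le (Polynomial.natDegree_add_le_of_degree_le (by simp [S]) Polynomial.natDegree_X_le) ?_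
        exact (Polynomial.natDegree_mul_le).trans ((Nat.add_le_add ((Polynomial.natDegree_mul_le).trans (by simp [S])) Polynomial.natDegree_X_le).trans (zero_add 1).le)
      have hd1 : (Polynomial.aeval U F).natDegree ≤ F.natDegree := by
        have e1 : Polynomial.aeval U F = (F.map Polynomial.C).comp U := by
          rw [Polynomial.comp, Polynomial.eval₂_map]; rfl
        rw [e1]
        exact Polynomial.natDegree_comp_le.trans ((Nat.mul_le_mul Polynomial.natDegree_map_le hUd).trans (by simp))
      have hd2 : (FS * FT).natDegree ≤ F.natDegree := (Polynomial.natDegree_C_mul_le _ _).trans Polynomial.natDegree_map_le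
      refine ((Polynomial.natDegree_sub_le _ _).trans (max_le ((Polynomial.natDegree_sub_le _ _).trans (max_le hd2 hd1)) (by simp))).trans_lt hF
    · rw [Polynomial.coeff_zero_eq_eval_zero]
      simp only [E, Polynomial.eval_sub, Polynomial.eval_mul, FS, Polynomial.eval_C, hFT0, hev, κ]
      ext k
      rcases Nat.eq_zero_or_pos k with rfl | hk
      · simp [Polynomial.coeff_mul_C, a0, Polynomial.mul_coeff_zero, pow_two]
      · rw [Polynomial.coeff_sub, Polynomial.coeff_sub, Polynomial.coeff_mul_C, Polynomial.coeff_C, if_neg hk.ne', Polynomial.coeff_zero]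
        linear_combination hkill k hk
    · have hFT' : Polynomial.derivative FT * (1 + Polynomial.C (Polynomial.C μ) * Polynomial.X) = FT * Polynomial.C (Polynomial.C a1) := by
        have := congrArg (Polynomial.map (Polynomial.C : A →+* Polynomial A)) h
        simp only [Polynomial.map_mul, Polynomial.map_C, Polynomial.map_add, Polynomial.map_one, Polynomial.map_X] at this
        rw [← Polynomial.derivative_map] at this
        exact this.symm
      have hU' : Polynomial.aeval U (Polynomial.derivative F) * (1 + Polynomial.C (Polynomial.C μ) * U) = Polynomial.aeval U F * Polynomial.C (Polynomial.C a1) := by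
        have := congrArg (Polynomial.aeval U) h
        simp only [map_mul, map_add, map_one, Polynomial.aeval_C, Polynomial.aeval_X, Polynomial.algebraMap_apply] at this
        simpa using this.symm
      have hk0 : Polynomial.C (Polynomial.C a1) * Polynomial.C κ = (0 : Polynomial (Polynomial A)) := by
        rw [← Polynomial.C_mul, show Polynomial.C a1 * κ = Polynomial.C (a0 * (a1 * (a0 - 1))) by rw [← Polynomial.C_mul]; congr 1; ring, hc0]
        simp
      simp only [E, Polynomial.derivative_sub, Polynomial.derivative_C, sub_zero, FS, Polynomial.derivative_C_mul, hdU]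
      have e3 : (1 + Polynomial.C (Polynomial.C μ) * S) * (1 + Polynomial.C (Polynomial.C μ) * Polynomial.X) = 1 + Polynomial.C (Polynomial.C μ) * U := by
        simp only [U]; ring
      linear_combination Polynomial.C F * hFT' - hU' - Polynomial.aeval U (Polynomial.derivative F) * e3 + hk0

end Groth.Agent.S13156
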