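import Groth.Statements.S13157
import Mathlib.Algebra.Polynomial.Derivative
import Mathlib.Algebra.BigOperators.Intervals
import Mathlib.Data.Nat.Factorial.Basic
import Mathlib.Tactic.LinearCombination
-- import your own Groth.Agent.* helpers here

set_option autoImplicit false
universe u
open scoped Polynomial
open CAlg

namespace Groth.Agent.S13157

/-- (i) ⇔ (ii): let p be a prime number, A a commutative ring in which (p−1)! is invertible, μ ∈ A, and
F ∈ A[X] a polynomial of degree at most p − 1 with constant term a_0 = 1 and coefficients a_1, a_2,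
…. Then the relations a_{r−1}·a_1 = (r − 1)μ·a_{r−1} + r·a_r for 1 ≤ r ≤ p (with a_p = 0), written
here as the single identity a_1·F = F′·(1 + μX), hold if and only if r!·a_r = ∏_{k=0}^{r−1} (a_1 −
kμ) for every 1 ≤ r ≤ p − 1 and ∏_{k=0}^{p−1} (a_1 − kμ) = 0. (The published statement lists the
relations only for 1 ≤ r ≤ p − 1, while its proof uses and derives the relation for r = p as well,
which is needed for the vanishing of the last product; it is included here. The published setting is
the quotient of a discrete valuation ring of residue characteristic p by a nonzero non-unit; only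
the invertibility of 1, …, p − 1 is used.) -/
theorem result (A : Type u) [CommRing A] (p : ℕ) [Fact p.Prime]
    (hu : IsUnit ((Nat.factorial (p - 1) : ℕ) : A)) (μ : A) (F : A[X]) (hF : F.natDegree < p)
    (h0 : F.coeff 0 = 1) :
    F * Polynomial.C (F.coeff 1) = Polynomial.derivative F * (1 + Polynomial.C μ * Polynomial.X) ↔
      ((∀ r : ℕ, 1 ≤ r → r < p →
          (r.factorial : A) * F.coeff r = ∏ k ∈ Finset.range r, (F.coeff 1 - (k : A) * μ)) ∧
        ∏ k ∈ Finset.range p, (F.coeff 1 - (k : A) * μ) = 0) := by
  set a := F.coeff 1
  have hp : 0 < p := (Fact.out : p.Prime).pos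
  have hcoef : ∀ j : ℕ, (Polynomial.derivative F * (1 + Polynomial.C μ * Polynomial.X)).coeff j =
      F.coeff (j + 1) * ((j : A) + 1) + F.coeff j * (j : A) * μ := by
    intro j
    rw [mul_add, mul_one, Polynomial.coeff_add, Polynomial.coeff_derivative, mul_left_comm, Polynomial.coeff_C_mul]
    congr 1
    cases j with
    | zero => simp
    | succ i => rw [Polynomial.coeff_mul_X, Polynomial.coeff_derivative]; push_cast; ring
  have big : ∀ j, p ≤ j → F.coeff j = 0 := fun j hj => Polynomial.coeff_eq_zero_of_natDegree_lt (by omega)
  have hfac : ∀ r, r < p → IsUnit ((r.factorial : ℕ) : A) := fun r hr => by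
    obtain ⟨c, hc⟩ := Nat.factorial_dvd_factorial (show r ≤ p - 1 by omega)
    rw [hc, Nat.cast_mul] at hu
    exact isUnit_of_mul_isUnit_left hu
  constructor
  · intro h
    have rel : ∀ j : ℕ, F.coeff (j + 1) * ((j : A) + 1) = F.coeff j * (a - (j : A) * μ) := fun j => by
      have := congrArg (fun P : A[X] => P.coeff j) h
      simp only [Polynomial.coeff_mul_C, hcoef] at this
      linear_combination -this
    have main : ∀ r : ℕ, (r.factorial : A) * F.coeff r = ∏ k ∈ Finset.range r, (a - (k : A) * μ) := by
      intro r
      induction r with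
      | zero => simp [h0]
      | succ r ih =>
        rw [Finset.prod_range_succ, ← ih, Nat.factorial_succ, Nat.cast_mul, Nat.cast_succ]
        linear_combination (r.factorial : A) * rel r
    exact ⟨fun r _ _ => main r, by rw [← main p, big p le_rfl, mul_zero]⟩
  · rintro ⟨h1, h2⟩
    have h1' : ∀ r, r < p → (r.factorial : A) * F.coeff r = ∏ k ∈ Finset.range r, (a - (k : A) * μ) := fun r hr => by
      rcases Nat.eq_zero_or_pos r with rfl | h0r
      · simp [h0]
      · exact h1 r h0r hr
    refine Polynomial.ext fun j => ?_
    rw [Polynomial.coeff_mul_C, hcoef]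
    rcases lt_trichotomy (j + 1) p with hj | hj | hj
    · apply (hfac j (by omega)).mul_left_cancel
      have e1 := h1' (j + 1) hj
      rw [Finset.prod_range_succ, ← h1' j (by omega), Nat.factorial_succ, Nat.cast_mul, Nat.cast_succ] at e1
      linear_combination -e1
    · rw [big (j + 1) hj.ge]
      apply (hfac j (by omega)).mul_left_cancel
      rw [← hj, Finset.prod_range_succ, ← h1' j (by omega)] at h2
      linear_combination h2
    · rw [big j (by omega), big (j + 1) (by omega)]
      ring

end Groth.Agent.S13157
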