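import Groth.Statements.S13158
import Mathlib.RingTheory.IntegralClosure.IntegrallyClosed
import Mathlib.RingTheory.Flat.FaithfullyFlat.Algebra
import Mathlib.Data.Nat.Choose.Dvd
import Mathlib.Data.Nat.Choose.Sum
import Mathlib.RingTheory.Localization.FractionRing
import Mathlib.Algebra.Polynomial.Monic
-- import your own Groth.Agent.* helpers here

set_option autoImplicit false
universe u
open CAlg

namespace Groth.Agent.S13158

/-- Let R be a discrete valuation ring of characteristic zero whose maximal ideal contains the prime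
number p, let n ≥ 1, and let λ be a nonzero element of R such that λ^(p^(n−1)(p−1)) divides p (the
condition v(p) ≥ p^(n−1)(p−1)·v(λ) under which the polynomial ((1 + λT)^(p^n) − 1)/λ^(p^n) has
coefficients in R). Let A be an integrally closed integral domain which is a faithfully flat
R-algebra. Then for every unit x of A, λ^(p^n) divides x^(p^n) − 1 in A if and only if λ divides x −
1 in A. -/
theorem result (R : Type u) [CommRing R]
    [IsDomain R] [IsDiscreteValuationRing R] [CharZero R] (p n : ℕ) [Fact p.Prime] (hn : 1 ≤ n)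
    (hp : (p : R) ∈ IsLocalRing.maximalIdeal R) (lam : R) (hlam : lam ≠ 0)
    (hstar : lam ^ (p ^ (n - 1) * (p - 1)) ∣ (p : R))
    (A : Type u) [CommRing A] [IsDomain A] [IsIntegrallyClosed A] [Algebra R A] [Module.FaithfullyFlat R A]
    (x : Aˣ) :
    (algebraMap R A lam ^ p ^ n ∣ (x : A) ^ p ^ n - 1) ↔ (algebraMap R A lam ∣ (x : A) - 1) := by
  have hl0 : algebraMap R A lam ≠ 0 := fun h => hlam (FaithfulSMul.algebraMap_injective R A (h.trans (map_zero _).symm))
  have hexp : ∀ (B : Type u) [CommRing B] (l d y : B), l ^ (p - 1) * d = (p : B) → (1 + l * y) ^ p - 1 =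
      l ^ p * (y ^ p + ∑ k ∈ Finset.Ico 1 p, (d * ((p.choose k / p : ℕ) : B) * l ^ (k - 1)) * y ^ k) := by
    intro B _ l d y hd
    have hp1 : 1 ≤ p := (Fact.out : p.Prime).one_le
    rw [add_comm 1, add_pow, Finset.sum_range_succ, Finset.range_eq_Ico, Finset.sum_eq_sum_Ico_succ_bot hp1, mul_add,
      Finset.mul_sum, ← mul_pow]
    simp only [pow_zero, one_pow, mul_one, Nat.choose_zero_right, Nat.choose_self, Nat.cast_one, zero_add]
    rw [add_assoc, add_sub_cancel_left, add_comm]
    congr 1
    refine Finset.sum_congr rfl fun k hk => ?_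
    obtain ⟨hk1, hk2⟩ := Finset.mem_Ico.1 hk
    have hdvd : p * (p.choose k / p) = p.choose k :=
      Nat.mul_div_cancel' ((Fact.out : p.Prime).dvd_choose_self (by omega) hk2)
    rw [← hdvd, Nat.cast_mul, ← hd, mul_pow]
    obtain ⟨j, rfl⟩ : ∃ j, k = j + 1 := ⟨k - 1, by omega⟩
    have hlp : (l ^ p : B) = l ^ (p - 1) * l := by rw [← pow_succ, Nat.sub_add_cancel hp1]
    rw [hlp, Nat.add_sub_cancel]
    have hdd : (((p.choose (j + 1)) / p : ℕ) : B) = (((p * (p.choose (j + 1) / p)) / p : ℕ) : B) := by rw [hdvd]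
    rw [← hdd]
    ring
  have step : ∀ (l d : A) (z : A), l ≠ 0 → l ^ (p - 1) * d = (p : A) → (l ^ p ∣ z ^ p - 1 ↔ l ∣ z - 1) := by
    intro l d z hl hd
    constructor
    · rintro ⟨c, hc⟩
      let K := FractionRing A
      have hlK : algebraMap A K l ≠ 0 := fun h => hl (IsFractionRing.injective A K (h.trans (map_zero _).symm))
      let y : K := (algebraMap A K z - 1) / algebraMap A K l
      have hy : 1 + algebraMap A K l * y = algebraMap A K z := by
        simp only [y]; rw [mul_div_cancel₀ _ hlK]; ring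
      have h1 := hexp K (algebraMap A K l) (algebraMap A K d) y (by rw [← map_pow, ← map_mul, hd, map_natCast])
      rw [hy, ← map_pow, ← map_one (algebraMap A K), ← map_sub, hc, map_mul, map_pow] at h1
      have h2 := mul_left_cancel₀ (pow_ne_zero p hlK) h1
      let P : Polynomial A := Polynomial.X ^ p + (∑ k ∈ Finset.Ico 1 p, Polynomial.C (d * ((p.choose k / p : ℕ) : A) * l ^ (k - 1)) * Polynomial.X ^ k - Polynomial.C c)
      have hP : P.Monic := by
        refine Polynomial.monic_X_pow_add ((Polynomial.degree_sub_le _ _).trans_lt (max_lt ?_ ?_))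
        · refine (Polynomial.degree_sum_le _ _).trans_lt ((Finset.sup_lt_iff (WithBot.bot_lt_coe p)).2 fun k hk => ?_)
          exact (Polynomial.degree_C_mul_X_pow_le k _).trans_lt (WithBot.coe_lt_coe.2 (Finset.mem_Ico.1 hk).2)
        · exact Polynomial.degree_C_le.trans_lt (WithBot.coe_lt_coe.2 (Fact.out : p.Prime).pos)
      have hint : IsIntegral A y := by
        refine ⟨P, hP, ?_⟩
        rw [← Polynomial.aeval_def]
        simp only [P, map_add, map_sub, map_sum, map_mul, map_pow, Polynomial.aeval_X, Polynomial.aeval_C, map_natCast]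
        rw [h2]
        abel
      obtain ⟨t, ht⟩ := IsIntegrallyClosed.isIntegral_iff.1 hint
      refine ⟨t, IsFractionRing.injective A K ?_⟩
      rw [map_mul, ht, map_sub, map_one, ← hy]
      ring
    · rintro ⟨t, ht⟩
      have h1 := hexp A l d t hd
      rw [show (1 : A) + l * t = z by rw [← ht]; ring] at h1
      exact ⟨_, h1⟩
  suffices H : ∀ m, m ≤ n → ((algebraMap R A lam) ^ p ^ m ∣ (x : A) ^ p ^ m - 1 ↔ algebraMap R A lam ∣ (x : A) - 1) from H n le_rfl
  intro m
  induction m with
  | zero => intro; simp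
  | succ m ih =>
    intro hm
    rw [← ih (by omega), pow_succ, pow_mul, pow_mul]
    obtain ⟨d, hd⟩ : (algebraMap R A lam ^ p ^ m) ^ (p - 1) ∣ (p : A) := by
      rw [← pow_mul, ← map_natCast (algebraMap R A), ← map_pow]
      refine map_dvd _ (dvd_trans (pow_dvd_pow _ ?_) hstar)
      exact Nat.mul_le_mul_right _ (Nat.pow_le_pow_right (Fact.out : p.Prime).pos (by omega))
    exact step _ d _ (pow_ne_zero _ hl0) hd.symm

end Groth.Agent.S13158
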