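import Groth.Statements.S13160
import Mathlib


-- import your own Groth.Agent.* helpers here

set_option autoImplicit false
universe u
open CAlg

namespace Groth.Agent.S13160

/-- Let R be a discrete valuation ring, p a prime number and λ an element of R dividing p (so that R/λR
is an 𝔽_p-algebra), and let a and b be p-typical Witt vectors with coefficients in R/λR which are
killed by the Frobenius endomorphism. Then the Witt sum a + b has components a_n + b_n for every n.
(The published statement allows an arbitrary λ ∈ R and is stated for Witt vectors with finitely many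
nonzero components; this row assumes that λ divides p, so that p = 0 in R/λR, and allows all Witt
vectors.) -/
theorem result (R : Type u) [CommRing R] [IsDomain R]
    [IsDiscreteValuationRing R] (p : ℕ) [Fact p.Prime] (lam : R) (hlam : lam ∣ (p : R))
    (a b : WittVector p (R ⧸ Ideal.span {lam})) (ha : WittVector.frobenius a = 0)
    (hb : WittVector.frobenius b = 0) (n : ℕ) : (a + b).coeff n = a.coeff n + b.coeff n := by
  classical
  have hsub : (Subsingleton (R ⧸ Ideal.span {lam})) ∨ Nontrivial (R ⧸ Ideal.span {lam}) :=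
    subsingleton_or_nontrivial _
  rcases hsub with h | h
  · exact Subsingleton.elim _ _
  have hp0 : (p : R ⧸ Ideal.span {lam}) = 0 := by
    rw [← map_natCast (Ideal.Quotient.mk (Ideal.span {lam})), Ideal.Quotient.eq_zero_iff_mem,
      Ideal.mem_span_singleton]
    exact hlam
  haveI : CharP (R ⧸ Ideal.span {lam}) p :=
    (CharP.charP_iff_prime_eq_zero (Fact.out : p.Prime)).mpr hp0
  have hv : ∀ (i : Fin 2 × ℕ), (Function.uncurry ![a.coeff, b.coeff] i) ^ p = 0 := by
    intro ⟨i, k⟩
    have h1 := congrArg (fun w => WittVector.coeff w k) ha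
    have h2 := congrArg (fun w => WittVector.coeff w k) hb
    simp only [WittVector.coeff_frobenius_charP, WittVector.zero_coeff] at h1 h2
    fin_cases i
    · simpa using h1
    · simpa using h2
  have htot : ∀ x y : R ⧸ Ideal.span {lam}, x ∣ y ∨ y ∣ x := by
    intro x y
    obtain ⟨x, rfl⟩ := Ideal.Quotient.mk_surjective x
    obtain ⟨y, rfl⟩ := Ideal.Quotient.mk_surjective y
    exact (ValuationRing.dvd_total x y).imp (map_dvd _) (map_dvd _)
  have hmin : ∀ s : Finset (Fin 2 × ℕ), s.Nonempty → ∃ k ∈ s, ∀ i ∈ s,
      Function.uncurry ![a.coeff, b.coeff] k ∣ Function.uncurry ![a.coeff, b.coeff] i := by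
    intro s hs
    induction hs using Finset.Nonempty.cons_induction with
    | singleton x => exact ⟨x, by simp, by simp⟩
    | cons x s hx hs ih =>
      obtain ⟨k, hk, hk'⟩ := ih
      rcases htot (Function.uncurry ![a.coeff, b.coeff] x) (Function.uncurry ![a.coeff, b.coeff] k) with h | h
      · refine ⟨x, by simp, fun i hi => ?_⟩
        rcases Finset.mem_cons.mp hi with rfl | hi
        · rfl
        · exact h.trans (hk' i hi)
      · refine ⟨k, by simp [hk], fun i hi => ?_⟩
        rcases Finset.mem_cons.mp hi with rfl | hi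
        · exact h
        · exact hk' i hi
  have hpoly : ∀ n, WittVector.wittAdd p n - (MvPolynomial.X (0, n) + MvPolynomial.X (1, n)) ∈
      (MvPolynomial.idealOfVars (Fin 2 × ℕ) ℤ) ^ p := by
    intro n
    have hprop := wittStructureInt_prop p (MvPolynomial.X (0 : Fin 2) + MvPolynomial.X 1) n
    rw [map_add, MvPolynomial.bind₁_X_right, MvPolynomial.bind₁_X_right,
      wittPolynomial_eq_sum_C_mul_X_pow, map_sum, map_sum, map_sum] at hprop
    simp only [map_mul, map_pow, MvPolynomial.bind₁_X_right, MvPolynomial.bind₁_C_right,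
      MvPolynomial.rename_C, MvPolynomial.rename_X] at hprop
    rw [Finset.sum_range_succ, Finset.sum_range_succ, Finset.sum_range_succ, Nat.sub_self,
      pow_zero, pow_one, pow_one, pow_one] at hprop
    change _ + _ * WittVector.wittAdd p n = _ at hprop
    have hlow : ∀ (f : ℕ → MvPolynomial (Fin 2 × ℕ) ℤ), (∀ i, f i ∈ MvPolynomial.idealOfVars _ ℤ) →
        ∑ i ∈ Finset.range n, (MvPolynomial.C (p : ℤ)) ^ i * f i ^ p ^ (n - i) ∈
          (MvPolynomial.idealOfVars (Fin 2 × ℕ) ℤ) ^ p := by
      intro f hf
      refine Ideal.sum_mem _ fun i hi => Ideal.mul_mem_left _ _ ?_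
      refine Ideal.pow_le_pow_right ?_ (Ideal.pow_mem_pow (hf i) _)
      exact Nat.le_self_pow (by have := Finset.mem_range.mp hi; omega) p
    have hX : ∀ j : Fin 2 × ℕ, (MvPolynomial.X j : MvPolynomial (Fin 2 × ℕ) ℤ) ∈
        MvPolynomial.idealOfVars _ ℤ := fun j => Ideal.subset_span ⟨j, rfl⟩
    have hS : ∀ i, wittStructureInt p (MvPolynomial.X (0 : Fin 2) + MvPolynomial.X 1) i ∈
        MvPolynomial.idealOfVars _ ℤ := by
      intro i
      rw [← pow_one (MvPolynomial.idealOfVars _ ℤ), MvPolynomial.mem_pow_idealOfVars_iff]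
      intro x hx
      by_contra hd
      have hx0 : x = 0 := (Finsupp.degree_eq_zero_iff x).mp (by omega)
      rw [hx0, MvPolynomial.mem_support_iff, ← MvPolynomial.constantCoeff_eq] at hx
      exact hx (WittVector.constantCoeff_wittAdd p i)
    have hmem : (MvPolynomial.C (p : ℤ)) ^ n * (WittVector.wittAdd p n - (MvPolynomial.X (0, n) + MvPolynomial.X (1, n))) ∈
        (MvPolynomial.idealOfVars (Fin 2 × ℕ) ℤ) ^ p := by
      have h1 := hlow _ hS
      have h2 := hlow _ (fun i => hX (0, i))
      have h3 := hlow _ (fun i => hX (1, i))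
      have e := Ideal.sub_mem _ (Ideal.add_mem _ h2 h3) h1
      convert e using 1
      linear_combination hprop
    rw [MvPolynomial.mem_pow_idealOfVars_iff] at hmem ⊢
    intro x hx
    refine hmem x ?_
    rw [MvPolynomial.mem_support_iff] at hx ⊢
    rw [← map_pow, MvPolynomial.coeff_C_mul]
    exact mul_ne_zero (pow_ne_zero _ (by exact_mod_cast (Fact.out : p.Prime).ne_zero)) hx
  have key : MvPolynomial.aeval (Function.uncurry ![a.coeff, b.coeff])
      (WittVector.wittAdd p n - (MvPolynomial.X (0, n) + MvPolynomial.X (1, n))) = 0 := by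
    rw [MvPolynomial.aeval_def, MvPolynomial.eval₂_eq]
    refine Finset.sum_eq_zero fun x hx => ?_
    have hd : p ≤ ∑ i ∈ x.support, x i :=
      (MvPolynomial.mem_pow_idealOfVars_iff p _).mp (hpoly n) x hx
    have hne : x.support.Nonempty := by
      by_contra hne
      rw [Finset.not_nonempty_iff_eq_empty.mp hne] at hd
      have := (Fact.out : p.Prime).pos
      simp at hd; omega
    obtain ⟨k, -, hk⟩ := hmin _ hne
    have hdvd : Function.uncurry ![a.coeff, b.coeff] k ^ p ∣
        ∏ i ∈ x.support, Function.uncurry ![a.coeff, b.coeff] i ^ x i := by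
      refine (pow_dvd_pow _ hd).trans ?_
      rw [← Finset.prod_pow_eq_pow_sum]
      exact Finset.prod_dvd_prod_of_dvd _ _ fun i hi => pow_dvd_pow_of_dvd (hk i hi) _
    rw [hv k, zero_dvd_iff] at hdvd
    rw [hdvd, mul_zero]
  rw [WittVector.add_coeff]
  simp only [WittVector.peval, map_sub, map_add, MvPolynomial.aeval_X, sub_eq_zero] at key ⊢
  refine Eq.trans ?_ (by simpa using key)
  rfl

end Groth.Agent.S13160
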