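import Groth.Statements.S13161
import Mathlib.RingTheory.TensorProduct.Maps
import Mathlib.RingTheory.Localization.FractionRing
import Mathlib.RingTheory.Finiteness.Basic
-- import your own Groth.Agent.* helpers here

set_option autoImplicit false
universe u
open scoped TensorProduct
open CAlg

namespace Groth.Agent.S13161

/-- Let R be a discrete valuation ring with fraction field K, A an R-algebra which is semireflexive as
an R-module (the map to its double dual is injective: every nonzero a ∈ A has an R-linear form f : A
→ R with f(a) ≠ 0), and B an A-algebra which is finitely generated as an A-module and flat over R.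
Suppose B ⊗ K is semireflexive as a module over A ⊗ K, which for such B amounts to: every nonzero b
∈ B has an A-linear map g : B → A ⊗_R K with g(b) ≠ 0. Then B is semireflexive as an R-module: every
nonzero b ∈ B has an R-linear form h : B → R with h(b) ≠ 0. (The published statement phrases the
hypothesis on B_K as an A_K-module; for B flat over R and finite over A this is the elementwise
condition used here.) -/
theorem result (R : Type u) [CommRing R] [IsDomain R]
    [IsDiscreteValuationRing R] (K : Type u) [Field K] [Algebra R K] [IsFractionRing R K]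
    (A B : Type u) [CommRing A] [CommRing B] [Algebra R A] [Algebra R B] [Algebra A B] [IsScalarTower R A B]
    [Module.Finite A B] [Module.Flat R B]
    (hA : ∀ a : A, a ≠ 0 → ∃ f : A →ₗ[R] R, f a ≠ 0)
    (hBK : ∀ b : B, b ≠ 0 → ∃ g : B →ₗ[A] A ⊗[R] K, g b ≠ 0) :
    ∀ b : B, b ≠ 0 → ∃ h : B →ₗ[R] R, h b ≠ 0 := by
  classical
  intro b hb
  obtain ⟨g, hg⟩ := hBK b hb
  let ι : A →ₗ[A] A ⊗[R] K := (Algebra.TensorProduct.includeLeft (R := R) (S := A) (A := A) (B := K)).toLinearMap
  have hι : Function.Injective ι := by
    refine (injective_iff_map_eq_zero _).mpr fun a ha => ?_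
    by_contra hne
    obtain ⟨f, hf⟩ := hA a hne
    apply hf
    have h1 := congrArg (fun z => TensorProduct.lid R K (LinearMap.rTensor K f z)) ha
    simp only [map_zero] at h1
    change f a • (1 : K) = 0 at h1
    rw [Algebra.smul_def, mul_one] at h1
    exact (IsFractionRing.injective R K) (h1.trans (map_zero _).symm)
  have hden : ∀ x : A ⊗[R] K, ∃ r : R, r ≠ 0 ∧ r • x ∈ LinearMap.range ι := by
    intro x
    induction x using TensorProduct.induction_on with
    | zero => exact ⟨1, one_ne_zero, by rw [smul_zero]; exact zero_mem _⟩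
    | add x y hx hy =>
      obtain ⟨r, hr, hrx⟩ := hx
      obtain ⟨s, hs, hsy⟩ := hy
      refine ⟨r * s, mul_ne_zero hr hs, ?_⟩
      rw [smul_add]
      refine add_mem ?_ ?_
      · rw [mul_comm, mul_smul, ← algebraMap_smul A s]
        exact Submodule.smul_mem _ _ hrx
      · rw [mul_smul, ← algebraMap_smul A r]
        exact Submodule.smul_mem _ _ hsy
    | tmul a k =>
      obtain ⟨p, q, hq, hk⟩ := IsFractionRing.div_surjective R k
      refine ⟨q, nonZeroDivisors.ne_zero hq, p • a, ?_⟩
      show (p • a) ⊗ₜ[R] (1 : K) = q • (a ⊗ₜ[R] k)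
      rw [TensorProduct.smul_tmul, ← TensorProduct.tmul_smul, Algebra.smul_def, Algebra.smul_def, mul_one, ← hk, mul_div_cancel₀]
      exact IsFractionRing.to_map_ne_zero_of_mem_nonZeroDivisors hq
  obtain ⟨s, hs⟩ := (Module.finite_def.mp (inferInstance : Module.Finite A B))
  choose r hr hrx using fun x : B => hden (g x)
  let c := ∏ x ∈ s, r x
  have hc : c ≠ 0 := Finset.prod_ne_zero_iff.mpr fun x _ => hr x
  have hall : ∀ x : B, (algebraMap R A c • g) x ∈ LinearMap.range ι := by
    intro x
    have hx : x ∈ Submodule.span A (s : Set B) := hs ▸ trivial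
    induction hx using Submodule.span_induction with
    | mem y hy =>
      have hy' : y ∈ s := hy
      rw [LinearMap.smul_apply, show c = (∏ z ∈ s.erase y, r z) * r y from (Finset.prod_erase_mul _ _ hy').symm, algebraMap_smul, mul_smul, ← algebraMap_smul A (∏ z ∈ s.erase y, r z)]
      exact Submodule.smul_mem _ _ (hrx y)
    | zero => rw [map_zero]; exact zero_mem _
    | add u v _ _ hu hv => rw [map_add]; exact add_mem hu hv
    | smul a u _ hu => rw [map_smul]; exact Submodule.smul_mem _ _ hu
  let g' : B →ₗ[A] A := (LinearEquiv.ofInjective ι hι).symm.toLinearMap ∘ₗ (algebraMap R A c • g).codRestrict _ hall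
  have hg' : g' b ≠ 0 := by
    intro h0
    have h1 : ι (g' b) = c • g b := by
      rw [show ι (g' b) = ((LinearEquiv.ofInjective ι hι) (g' b) : A ⊗[R] K) from rfl]
      simp [g', algebraMap_smul]
    rw [h0, map_zero] at h1
    apply hg
    have h2 := congrArg (fun z => ((1 : A) ⊗ₜ[R] (algebraMap R K c)⁻¹) * z) h1
    simp only [mul_zero] at h2
    rw [Algebra.smul_def, Algebra.TensorProduct.algebraMap_apply, ← mul_assoc] at h2
    have h3 : ((1 : A) ⊗ₜ[R] (algebraMap R K c)⁻¹) * (algebraMap R A c ⊗ₜ[R] (1 : K)) = 1 := by
      rw [Algebra.algebraMap_eq_smul_one (A := A), TensorProduct.smul_tmul, Algebra.TensorProduct.tmul_mul_tmul, one_mul,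
        ← Algebra.algebraMap_eq_smul_one, inv_mul_cancel₀ ((map_ne_zero_iff _ (IsFractionRing.injective R K)).mpr hc)]
      rfl
    rw [h3, one_mul] at h2
    exact h2.symm
  obtain ⟨f, hf⟩ := hA _ hg'
  exact ⟨f ∘ₗ g'.restrictScalars R, hf⟩

end Groth.Agent.S13161
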