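import Groth.Statements.S13162
import Groth.Agent.LangQLib.Field

set_option autoImplicit false
universe u v
open ZeroCyc

namespace Groth.Agent.S13162

/-- Let a finite group G act on a commutative ring A by ring automorphisms and let p be a prime such
that every integer prime to p is a unit in A. If I is an ideal of A and f ∈ A has G-invariant class
modulo I, then f^(p^k) is congruent modulo I to a G-invariant element of A, where p^k is the exact
power of p dividing the order of G. (The published statement assumes I stable under G, so that G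
acts on A/I and the claim reads: the p^k-th power of an invariant of A/I lies in the image of the
invariants of A; the form here asks only that the class of f be invariant.) -/
theorem result {A : Type u} [CommRing A] {G : Type v} [Group G] [Fintype G]
    [MulSemiringAction G A] (p : ℕ) [Fact p.Prime]
    (hA : ∀ m : ℕ, ¬ p ∣ m → IsUnit (m : A))
    (I : Ideal A) (f : A) (hf : ∀ g : G, g • f - f ∈ I) :
    ∃ a : A, (∀ g : G, g • a = a) ∧ a - f ^ (p ^ (Fintype.card G).factorization p) ∈ I := by
  classical
  set N := Fintype.card G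
  set v := N.factorization p
  set q := p ^ v
  have hp : p.Prime := Fact.out
  obtain ⟨m, hNm⟩ : q ∣ N := Nat.ordProj_dvd N p
  have hm : ¬ p ∣ m := by
    have h := Nat.not_dvd_ordCompl hp (n := N) Fintype.card_ne_zero
    rwa [show N / p ^ N.factorization p = m by
      show N / q = m
      rw [hNm, Nat.mul_div_cancel_left _ (pow_pos hp.pos v)]] at h
  have hchoose : ∀ w, Nat.choose (p ^ w * m) (p ^ w) ≡ m [MOD p] := by
    intro w
    induction w with
    | zero => simp [Nat.ModEq]
    | succ w ih =>
      refine Nat.ModEq.trans ?_ ih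
      have h := Choose.choose_modEq_choose_mod_mul_choose_div_nat (n := p ^ (w + 1) * m) (k := p ^ (w + 1)) (p := p)
      rw [show p ^ (w + 1) * m % p = 0 by rw [pow_succ', mul_assoc, Nat.mul_mod_right],
        show p ^ (w + 1) % p = 0 by rw [pow_succ', Nat.mul_mod_right],
        show p ^ (w + 1) * m / p = p ^ w * m by rw [pow_succ', mul_assoc, Nat.mul_div_cancel_left _ hp.pos],
        show p ^ (w + 1) / p = p ^ w by rw [pow_succ', Nat.mul_div_cancel_left _ hp.pos],
        Nat.choose_zero_right, one_mul] at h
      exact h
  have hunit : IsUnit ((Nat.choose N q : ℕ) : A) := by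
    refine hA _ fun hd => hm ?_
    rw [hNm] at hd
    exact Nat.modEq_zero_iff_dvd.1 ((hchoose v).symm.trans (Nat.modEq_zero_iff_dvd.2 hd))
  obtain ⟨u, hu⟩ := hunit
  set S := ∑ T ∈ Finset.powersetCard q (Finset.univ : Finset G), ∏ g ∈ T, g • f
  have hS : ∀ h : G, h • S = S := fun h => by
    show h • (∑ T ∈ _, _) = ∑ T ∈ _, _
    rw [Finset.smul_sum]
    conv_rhs => rw [← Finset.map_univ_equiv (Equiv.mulLeft h), Finset.powersetCard_map, Finset.sum_map]
    refine Finset.sum_congr rfl fun T _ => ?_
    rw [Finset.smul_prod']
    simp [Finset.prod_map, mul_smul]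
  have hSI : S - (Nat.choose N q : A) * f ^ q ∈ I := by
    rw [← Ideal.Quotient.eq, map_mul, map_natCast, map_pow, map_sum]
    rw [Finset.sum_congr rfl fun T hT => show Ideal.Quotient.mk I (∏ g ∈ T, g • f) = Ideal.Quotient.mk I f ^ q by
      rw [map_prod, Finset.prod_congr rfl fun g _ => (Ideal.Quotient.eq.2 (hf g) : Ideal.Quotient.mk I (g • f) = _),
        Finset.prod_const, (Finset.mem_powersetCard.1 hT).2]]
    rw [Finset.sum_const, Finset.card_powersetCard, Finset.card_univ, nsmul_eq_mul]
  refine ⟨(↑u⁻¹ : A) * S, fun h => ?_, ?_⟩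
  · rw [smul_mul', hS]
    congr 1
    have h1 : h • (u : A) = u := by rw [hu]; exact map_natCast (MulSemiringAction.toRingHom G A h) _
    have h2 := congrArg (fun z => h • z) u.inv_mul
    simp only [smul_mul', smul_one, h1] at h2
    calc h • (↑u⁻¹ : A) = h • (↑u⁻¹ : A) * ((u : A) * ↑u⁻¹) := by rw [Units.mul_inv, mul_one]
      _ = _ := by rw [← mul_assoc, h2, one_mul]
  · have := Ideal.mul_mem_left _ (↑u⁻¹ : A) hSI
    rw [mul_sub, ← mul_assoc, ← hu, Units.inv_mul, one_mul] at this
    exact this

end Groth.Agent.S13162
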