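import Groth.Statements.S13163
import Groth.Agent.LangQLib.Field

set_option autoImplicit false
universe u
open ZeroCyc

namespace Groth.Agent.S13163

open Polynomial in
/-- Let P_d(T) = ∏_{0 ≤ i < j ≤ d} (T^i − T^j) − 1 ∈ ℤ[T]. Every residue field of ℤ[T]/(P_d), i.e. every
field receiving a ring homomorphism from it, has at least d + 1 elements. -/
theorem result (d : ℕ) (k : Type u) [Field k]
    (φ : (ℤ[X] ⧸ Ideal.span {(∏ j ∈ Finset.range (d + 1), ∏ i ∈ Finset.range j,
        ((X : ℤ[X]) ^ i - X ^ j)) - 1}) →+* k) :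
    ((d + 1 : ℕ) : Cardinal) ≤ Cardinal.mk k := by
  classical
  set t := φ (Ideal.Quotient.mk _ X) with ht
  have h1 : ∏ j ∈ Finset.range (d + 1), ∏ i ∈ Finset.range j, (t ^ i - t ^ j) = 1 := by
    have h := Ideal.mem_span_singleton_self ((∏ j ∈ Finset.range (d + 1), ∏ i ∈ Finset.range j, ((X : ℤ[X]) ^ i - X ^ j)) - 1)
    rw [← Ideal.Quotient.eq_zero_iff_mem] at h
    have h' := congrArg φ h
    rw [map_sub, map_sub, map_one, map_one, map_zero, sub_eq_zero] at h'
    simpa only [map_prod, map_sub, map_pow, ← ht] using h'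
  have hinj : Function.Injective (fun i : Fin (d + 1) => t ^ (i : ℕ)) := by
    intro a b hab
    by_contra hne
    rcases lt_or_gt_of_ne hne with h | h
    all_goals
      refine one_ne_zero (α := k) ?_
      rw [← h1]
    · exact Finset.prod_eq_zero (Finset.mem_range.2 b.2) (Finset.prod_eq_zero (Finset.mem_range.2 h) (sub_eq_zero.2 hab))
    · exact Finset.prod_eq_zero (Finset.mem_range.2 a.2) (Finset.prod_eq_zero (Finset.mem_range.2 h) (sub_eq_zero.2 hab.symm))
  have h2 := Cardinal.mk_le_of_injective ((show Function.Injective (fun i : ULift.{u} (Fin (d + 1)) => t ^ ((ULift.down i : Fin (d + 1)) : ℕ)) from hinj.comp ULift.down_injective))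
  simpa using h2

end Groth.Agent.S13163
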