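import Groth.Statements.S13166
import Mathlib


-- import your own Groth.Agent.* helpers here

set_option autoImplicit false
universe u
open ZeroCyc

namespace Groth.Agent.S13166

/-- Let k be a field, B a k-algebra generated as an algebra by a k-subspace V, k'/k a field extension
and x_1, …, x_d pairwise distinct k'-points of B ⊗_k k' (equivalently, distinct k-algebra
homomorphisms B → k'). If k has at least d(d − 1)/2 elements, then there is b ∈ V whose values at
x_1, …, x_d are pairwise distinct. -/
theorem result {k : Type u} [Field k] {B : Type u} [CommRing B] [Algebra k B] (V : Submodule k B)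
    (hV : Algebra.adjoin k (V : Set B) = ⊤) {k' : Type u} [Field k'] [Algebra k k']
    {d : ℕ} (x : Fin d → (B →ₐ[k] k')) (hx : Function.Injective x)
    (hk : ((d.choose 2 : ℕ) : Cardinal) ≤ Cardinal.mk k) :
    ∃ b ∈ V, Function.Injective fun i => x i b := by
  classical
  have main : ∀ (ι : Finset (Fin d × Fin d)) (W : Fin d × Fin d → Submodule k V), (∀ t ∈ ι, W t ≠ ⊤) →
      (ι.card : Cardinal) ≤ Cardinal.mk k → ∃ v : V, ∀ t ∈ ι, v ∉ W t := by
    intro ι W
    induction ι using Finset.induction_on with
    | empty => exact fun _ _ => ⟨0, by simp⟩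
    | insert t₀ s ht₀ ih =>
      intro hW hcard
      rw [Finset.card_insert_of_notMem ht₀] at hcard
      obtain ⟨v, hv⟩ := ih (fun t ht => hW t (Finset.mem_insert_of_mem ht))
        (le_trans (by exact_mod_cast Nat.le_succ s.card) hcard)
      by_cases hv₀ : v ∈ W t₀
      · obtain ⟨w, -, hw⟩ := SetLike.exists_of_lt (lt_top_iff_ne_top.mpr (hW t₀ (Finset.mem_insert_self _ _)))
        by_contra hcon
        push Not at hcon
        choose g hg hgm using fun c : k => hcon (w + c • v)
        have hgs : ∀ c, g c ∈ s := fun c => (Finset.mem_insert.mp (hg c)).resolve_left fun h => hw (by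
          have := (W t₀).sub_mem (h ▸ hgm c) ((W t₀).smul_mem c hv₀)
          simpa using this)
        have hinj : Function.Injective (fun c => (⟨g c, hgs c⟩ : s)) := by
          intro c c' h
          have h' : g c = g c' := congrArg Subtype.val h
          by_contra hne
          refine hv _ (hgs c) ?_
          have h2 := (W (g c)).sub_mem (hgm c) (h' ▸ hgm c')
          rw [add_sub_add_left_eq_sub, show c • v - c' • v = (c - c') • v from (sub_smul c c' v).symm] at h2
          exact ((W (g c)).smul_mem_iff (sub_ne_zero.mpr hne)).mp h2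
        haveI : Finite k := Finite.of_injective _ hinj
        have hle := Nat.card_le_card_of_injective _ hinj
        rw [Nat.card_eq_finsetCard] at hle
        rw [← Cardinal.cast_toNat_of_lt_aleph0 (Cardinal.mk_lt_aleph0 (α := k)), Nat.cast_le] at hcard
        have : Nat.card k = Cardinal.toNat (Cardinal.mk k) := rfl
        omega
      · exact ⟨v, fun t ht => (Finset.mem_insert.mp ht).elim (fun h => h ▸ hv₀) (hv t)⟩
  let ι := (Finset.univ : Finset (Fin d × Fin d)).filter fun t => t.1 < t.2
  let φ : Fin d × Fin d → (V →ₗ[k] k') := fun t => ((x t.1).toLinearMap - (x t.2).toLinearMap) ∘ₗ V.subtype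
  have hW : ∀ t ∈ ι, LinearMap.ker (φ t) ≠ ⊤ := by
    intro t ht htop
    refine (Finset.mem_filter.mp ht).2.ne (hx (AlgHom.ext_of_adjoin_eq_top hV fun b hb => ?_))
    have : (⟨b, hb⟩ : V) ∈ LinearMap.ker (φ t) := htop ▸ Submodule.mem_top
    simpa [φ, sub_eq_zero] using this
  have hcard : ι.card ≤ d.choose 2 := by
    rw [show d.choose 2 = ((Finset.univ : Finset (Fin d)).powersetCard 2).card by simp]
    refine Finset.card_le_card_of_injOn (fun t => ({t.1, t.2} : Finset (Fin d))) (fun t ht => ?_) ?_
    · exact Finset.mem_powersetCard.mpr ⟨Finset.subset_univ _, Finset.card_pair (Finset.mem_filter.mp ht).2.ne⟩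
    · intro t ht t' ht' he
      have h1 : t.1 < t.2 := (Finset.mem_filter.mp ht).2
      have h2 : t'.1 < t'.2 := (Finset.mem_filter.mp ht').2
      have e : ∀ z, z ∈ ({t.1, t.2} : Finset (Fin d)) ↔ z ∈ ({t'.1, t'.2} : Finset (Fin d)) := fun z => by rw [show ({t.1, t.2} : Finset (Fin d)) = {t'.1, t'.2} from he]
      simp only [Finset.mem_insert, Finset.mem_singleton] at e
      have a1 := (e t.1).mp (Or.inl rfl)
      have a2 := (e t.2).mp (Or.inr rfl)
      refine Prod.ext ?_ ?_
      · rcases a1 with a | a
        · exact a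
        · rcases a2 with b | b
          · rw [a, b] at h1; exact absurd h1 h2.asymm
          · rw [a, b] at h1; exact absurd h1 (lt_irrefl _)
      · rcases a2 with b | b
        · rcases a1 with a | a
          · rw [a, b] at h1; exact absurd h1 (lt_irrefl _)
          · rw [a, b] at h1; exact absurd h1 h2.asymm
        · exact b
  obtain ⟨v, hv⟩ := main ι (fun t => LinearMap.ker (φ t)) hW (le_trans (by exact_mod_cast hcard) hk)
  refine ⟨v.1, v.2, fun i j hij => ?_⟩
  by_contra hne
  rcases lt_or_gt_of_ne hne with h | h
  · exact hv (i, j) (Finset.mem_filter.mpr ⟨Finset.mem_univ _, h⟩) (by simpa [φ, sub_eq_zero] using hij)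
  · exact hv (j, i) (Finset.mem_filter.mpr ⟨Finset.mem_univ _, h⟩) (by simpa [φ, sub_eq_zero] using hij.symm)

end Groth.Agent.S13166
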