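import Groth.Statements.S13167
import Mathlib
import Groth.Agent.GrDegLib.Basic
import Mathlib.RingTheory.LocalRing.ResidueField.Ideal
-- import your own Groth.Agent.* helpers here

set_option autoImplicit false
universe u
open AlgebraicGeometry
open ZeroCyc

namespace Groth.Agent.S13167

/-- Let B be a graded R-algebra generated by its degree-one part B_1, with B_1 a finitely generated
R-module, and let x_1, …, x_d be points of X = Proj B lying over one and the same prime p of R. If
the residue field of p has at least d elements, then some f ∈ B_1 ⊆ Γ(X, O_X(1)) has all the x_i in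
D_+(f). (Without the hypothesis on the residue field such an f exists in some B_n with n ≥ 1; that
first assertion is a known property of ample sheaves and is not restated here.) -/
theorem result {R A : Type u} [CommRing R] [CommRing A] [Algebra R A] (𝒜 : ℕ → Submodule R A) [GradedAlgebra 𝒜]
    (hgen : Algebra.adjoin R (𝒜 1 : Set A) = ⊤) (hfg : (𝒜 1).FG)
    (p : Ideal R) [p.IsPrime] {d : ℕ} (x : Fin d → Proj 𝒜)
    (hx : ∀ i, ((x i).asHomogeneousIdeal.toIdeal).comap (algebraMap R A) = p)
    (hcard : (d : Cardinal) ≤ Cardinal.mk p.ResidueField) :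
    ∃ g ∈ 𝒜 1, ∀ i, x i ∈ Proj.basicOpen 𝒜 g := by
  classical
  -- proper subspaces
  have hprop : ∀ i, ∃ y ∈ 𝒜 1, y ∉ (x i).asHomogeneousIdeal := by
    intro i
    by_contra hcon
    push Not at hcon
    refine (x i).not_irrelevant_le fun z hz => ?_
    have key : ∀ z : A, z - algebraMap (𝒜 0) A (DirectSum.decompose 𝒜 z 0) ∈ (x i).asHomogeneousIdeal.toIdeal := by
      intro z
      have hz : z ∈ Algebra.adjoin R (𝒜 1 : Set A) := by rw [hgen]; trivial
      have he : ∀ z : A, algebraMap (𝒜 0) A (DirectSum.decompose 𝒜 z 0) = GradedRing.projZeroRingHom 𝒜 z :=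
        fun z => rfl
      rw [he]
      induction hz using Algebra.adjoin_induction with
      | mem b hb =>
        rw [GradedRing.projZeroRingHom_apply, DirectSum.decompose_of_mem_ne 𝒜 hb one_ne_zero, sub_zero]
        exact hcon b hb
      | algebraMap r =>
        rw [GradedRing.projZeroRingHom_apply, DirectSum.decompose_of_mem_same 𝒜 (SetLike.algebraMap_mem_graded 𝒜 r), sub_self]
        exact zero_mem _
      | add b c _ _ h1 h2 => rw [map_add, add_sub_add_comm]; exact add_mem h1 h2
      | mul b c _ _ h1 h2 =>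
        rw [map_mul, show b * c - GradedRing.projZeroRingHom 𝒜 b * GradedRing.projZeroRingHom 𝒜 c =
          (b - GradedRing.projZeroRingHom 𝒜 b) * c +
            GradedRing.projZeroRingHom 𝒜 b * (c - GradedRing.projZeroRingHom 𝒜 c) by ring]
        exact add_mem (Ideal.mul_mem_right _ _ h1) (Ideal.mul_mem_left _ _ h2)
    have h0 : GradedAlgebra.proj 𝒜 0 z = 0 := (HomogeneousIdeal.mem_irrelevant_iff 𝒜 z).1 hz
    have h1 := key z
    rwa [show algebraMap (𝒜 0) A (DirectSum.decompose 𝒜 z 0) = 0 from h0, sub_zero] at h1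
  have hsmul : ∀ i (r : R) (v : A), r • v ∈ (x i).asHomogeneousIdeal → r ∈ p ∨ v ∈ (x i).asHomogeneousIdeal := by
    intro i r v h
    rw [Algebra.smul_def] at h
    refine ((x i).isPrime.mem_or_mem h).imp (fun h => ?_) id
    rw [← hx i]
    exact h
  -- `d` pairwise incongruent scalars
  obtain ⟨T, hT, hTd⟩ : ∃ T : Finset R, T.card = d ∧ ∀ a ∈ T, ∀ b ∈ T, a - b ∈ p → a = b := by
    have hcard' : (d : Cardinal) ≤ Cardinal.mk (R ⧸ p) := by
      rcases finite_or_infinite (R ⧸ p) with hfin | hinf
      · haveI := hfin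
        have hfield : IsField (R ⧸ p) := Finite.isField_of_domain (R ⧸ p)
        haveI : p.IsMaximal := Ideal.Quotient.maximal_of_isField p hfield
        exact hcard.trans_eq (Cardinal.mk_congr
          (Equiv.ofBijective _ p.bijective_algebraMap_quotient_residueField).symm)
      · exact (Cardinal.natCast_le_aleph0).trans (Cardinal.aleph0_le_mk _)
    obtain ⟨S, hS⟩ := Cardinal.exists_finset_le_card (R ⧸ p) d hcard'
    obtain ⟨S', hS'S, hS'⟩ := Finset.exists_subset_card_eq hS
    refine ⟨S'.image (fun q => Quotient.out q), ?_, ?_⟩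
    · rw [Finset.card_image_of_injective _ Quotient.out_injective, hS']
    · intro a ha b hb hab
      obtain ⟨a', -, rfl⟩ := Finset.mem_image.mp ha
      obtain ⟨b', -, rfl⟩ := Finset.mem_image.mp hb
      have : a' = b' := by
        rw [← Ideal.Quotient.mk_out a', ← Ideal.Quotient.mk_out b']
        exact (Ideal.Quotient.mk_eq_mk_iff_sub_mem _ _).mpr hab
      rw [this]
  suffices h : ∀ s : Finset (Fin d), ∃ g ∈ 𝒜 1, ∀ i ∈ s, g ∉ (x i).asHomogeneousIdeal by
    obtain ⟨g, hg, h⟩ := h Finset.univ
    exact ⟨g, hg, fun i => h i (Finset.mem_univ i)⟩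
  intro s
  induction s using Finset.induction_on with
  | empty => exact ⟨0, zero_mem _, fun i hi => absurd hi (Finset.notMem_empty i)⟩
  | insert a s has ih =>
    obtain ⟨v, hv, hvs⟩ := ih
    by_cases hva : v ∉ (x a).asHomogeneousIdeal
    · exact ⟨v, hv, fun i hi => (Finset.mem_insert.mp hi).elim (fun h => h ▸ hva) (hvs i)⟩
    push Not at hva
    obtain ⟨y, hy, hya⟩ := hprop a
    by_cases hys : ∀ i ∈ s, y ∉ (x i).asHomogeneousIdeal
    · exact ⟨y, hy, fun i hi => (Finset.mem_insert.mp hi).elim (fun h => h ▸ hya) (hys i)⟩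
    push Not at hys
    obtain ⟨k, hk, hyk⟩ := hys
    by_contra hcon
    push Not at hcon
    have hbad : ∀ t ∈ T, ∃ i ∈ insert a (s.erase k), v + t • y ∈ (x i).asHomogeneousIdeal := by
      intro t _
      obtain ⟨i, hi, hmem⟩ := hcon (v + t • y) (add_mem hv (Submodule.smul_mem _ t hy))
      refine ⟨i, ?_, hmem⟩
      rcases Finset.mem_insert.mp hi with rfl | hi
      · exact Finset.mem_insert_self _ _
      · refine Finset.mem_insert_of_mem (Finset.mem_erase.mpr ⟨fun hik => ?_, hi⟩)
        subst hik
        refine hvs i hi ?_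
        have h2 : t • y ∈ (x i).asHomogeneousIdeal := by
          rw [Algebra.smul_def]; exact Ideal.mul_mem_left _ _ hyk
        exact (Submodule.add_mem_iff_left _ h2).mp hmem
    haveI : Nonempty (Fin d) := ⟨a⟩
    choose! φ hφ hφmem using hbad
    have hlt : (insert a (s.erase k)).card < T.card := by
      have h1 : (insert a (s.erase k)).card ≤ (s.erase k).card + 1 := Finset.card_insert_le _ _
      have h2 : (s.erase k).card + 1 = s.card := Finset.card_erase_add_one hk
      have h3 : (insert a s).card = s.card + 1 := Finset.card_insert_of_notMem has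
      have h4 : (insert a s).card ≤ d := (Finset.card_le_univ _).trans_eq (Fintype.card_fin d)
      omega
    obtain ⟨t, ht, t', ht', hne, heq⟩ := Finset.exists_ne_map_eq_of_card_lt_of_maps_to hlt (fun t ht => hφ t ht)
    have h1 := hφmem t ht
    have h2 := hφmem t' ht'
    rw [← heq] at h2
    have h3 : (t - t') • y ∈ (x (φ t)).asHomogeneousIdeal := by
      have : (v + t • y) - (v + t' • y) ∈ (x (φ t)).asHomogeneousIdeal.toIdeal := sub_mem h1 h2
      rwa [add_sub_add_left_eq_sub, ← sub_smul] at this
    rcases hsmul _ _ _ h3 with h3 | h3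
    · exact hne (hTd t ht t' ht' h3)
    · rcases Finset.mem_insert.mp (hφ t ht) with h4 | h4
      · exact hya (h4 ▸ h3)
      · refine hvs _ (Finset.mem_of_mem_erase h4) ?_
        have h5 : t • y ∈ (x (φ t)).asHomogeneousIdeal := by
          rw [Algebra.smul_def]; exact Ideal.mul_mem_left _ _ h3
        exact (Submodule.add_mem_iff_left _ h5).mp h1

end Groth.Agent.S13167
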