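import Groth.Statements.S13171
import Mathlib
import Groth.Agent.ProjGenLib.Twist
-- import your own Groth.Agent.* helpers here

set_option autoImplicit false
universe u
open AlgebraicGeometry
open ZeroCyc

namespace Groth.Agent.S13171

/-- Let B be a graded R-algebra generated by homogeneous elements f_1, …, f_s of positive degrees d_1,
…, d_s, let l be the least common multiple of the d_i and X = Proj B. For n ≥ (s − 1)(l − 1), O_X(n)
is generated by its global sections b/1, b ∈ B_n. -/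
theorem result {R A : Type u} [CommRing R] [CommRing A] [Algebra R A] (𝒜 : ℕ → Submodule R A) [GradedAlgebra 𝒜]
    {s : ℕ} (f : Fin s → A) (deg : Fin s → ℕ) (hdeg : ∀ i, 0 < deg i) (hf : ∀ i, f i ∈ 𝒜 (deg i))
    (hgen : Algebra.adjoin R (Set.range f) = ⊤) (n : ℕ) (hn : (s - 1) * (Finset.univ.lcm deg - 1) ≤ n) :
    ProjUP.GeneratedBy (Twist.twist 𝒜 (n : ℤ))
      (fun b : 𝒜 n => (Twist.globalOf 𝒜 b : ProjUP.Γm (Twist.twist 𝒜 (n : ℤ)))) := by
  refine ProjGenLib.generatedBy 𝒜 fun x => ?_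
  obtain ⟨g, hg, hgx⟩ := ProjGenLib.exists_deg_lcm 𝒜 f deg hdeg hf hgen 1 x
  exact ⟨Finset.univ.lcm deg, g, Nat.pos_of_ne_zero (Finset.lcm_ne_zero_iff.2 fun i _ => (hdeg i).ne'),
    by simpa using hg, hgx, ProjGenLib.piece_lcm 𝒜 f deg hdeg hf hgen hn⟩

end Groth.Agent.S13171
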