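import Groth.Statements.S13172
import Mathlib
import Groth.Agent.ProjGenLib.Twist
-- import your own Groth.Agent.* helpers here

set_option autoImplicit false
universe u
open AlgebraicGeometry
open ZeroCyc

namespace Groth.Agent.S13172

/-- Let B be a graded R-algebra generated by elements of degree at most d (no finiteness assumed) such
that X = Proj B is covered by the opens D_+(g), g ∈ B_1. Then for every n ≥ 1, O_X(n) is generated
by its global sections b/1, b ∈ B_n. -/
theorem result {R A : Type u} [CommRing R] [CommRing A] [Algebra R A] (𝒜 : ℕ → Submodule R A) [GradedAlgebra 𝒜]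
    (d : ℕ) (hgen : Algebra.adjoin R (⋃ i ∈ Finset.range (d + 1), (𝒜 i : Set A)) = ⊤)
    (hcov : (⨆ g : 𝒜 1, Proj.basicOpen 𝒜 (g : A)) = ⊤) (n : ℕ) (hn : 0 < n) :
    ProjUP.GeneratedBy (Twist.twist 𝒜 (n : ℤ))
      (fun b : 𝒜 n => (Twist.globalOf 𝒜 b : ProjUP.Γm (Twist.twist 𝒜 (n : ℤ)))) := by
  refine ProjGenLib.generatedBy_of_genSec 𝒜 fun x => ?_
  obtain ⟨g, hg⟩ := TopologicalSpace.Opens.mem_iSup.mp
    (show x ∈ (⨆ g : 𝒜 1, Proj.basicOpen 𝒜 (g : A)) from hcov ▸ trivial)
  refine ⟨g.1 ^ n, ?_, fun h => hg (x.isPrime.mem_of_pow_mem _ h)⟩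
  simpa using SetLike.pow_mem_graded n g.2

end Groth.Agent.S13172
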