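import Groth.Statements.S13174
import Mathlib.RingTheory.PolynomialLaw.Basic
import Mathlib.LinearAlgebra.TensorProduct.RightExactness
import Mathlib.LinearAlgebra.TensorProduct.Finiteness
import Mathlib.Algebra.MvPolynomial.Rename
import Mathlib.Algebra.MvPolynomial.Variables
import Mathlib.RingTheory.MvPolynomial.Basic
-- import your own Groth.Agent.* helpers here

set_option autoImplicit false
universe u v w
open scoped TensorProduct
open ZeroCyc

namespace Groth.Agent.S13174

/-- Let M and N be A-modules. Polynomial laws M → N correspond one-to-one, by restriction, to families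
of maps T_n : M[t_1, …, t_n] → N[t_1, …, t_n], n ≥ 0, compatible with all A-algebra homomorphisms
A[t_1, …, t_n] → A[t_1, …, t_m]: in the definition of a polynomial law the category of A-algebras
may be replaced by the polynomial rings in finitely many variables. (Here a polynomial law is given
on all commutative A-algebra semirings of the universe of A.) -/
theorem result {A : Type u} [CommRing A] {M : Type v} [AddCommGroup M] [Module A M] {N : Type w} [AddCommGroup N] [Module A N] :
    Function.Bijective (fun F : M →ₚₗ[A] N =>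
      (⟨fun n => F.toFun' (MvPolynomial (Fin n) A), fun n m φ => F.isCompat' φ⟩ :
        {T : ∀ n : ℕ, MvPolynomial (Fin n) A ⊗[A] M → MvPolynomial (Fin n) A ⊗[A] N //
          ∀ (n m : ℕ) (φ : MvPolynomial (Fin n) A →ₐ[A] MvPolynomial (Fin m) A),
            φ.toLinearMap.rTensor N ∘ T n = T m ∘ φ.toLinearMap.rTensor M})) := by
  classical
  refine ⟨fun F G hFG => ?_, fun ⟨T, hT⟩ => ?_⟩
  · refine PolynomialLaw.ext ?_
    funext S _ _ z
    obtain ⟨n, ψ, p, rfl⟩ := PolynomialLaw.exists_lift z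
    have h : F.toFun' (MvPolynomial (Fin n) A) = G.toFun' (MvPolynomial (Fin n) A) := congrFun (congrArg Subtype.val hFG) n
    rw [← F.isCompat_apply', ← G.isCompat_apply', h]
  have nat : ∀ {n m : ℕ} (φ : MvPolynomial (Fin n) A →ₐ[A] MvPolynomial (Fin m) A) (p : MvPolynomial (Fin n) A ⊗[A] M),
      φ.toLinearMap.rTensor N (T n p) = T m (φ.toLinearMap.rTensor M p) := fun φ p => congrFun (hT _ _ φ) p
  have compM : ∀ {P Q U : Type u} [CommSemiring P] [CommSemiring Q] [CommSemiring U] [Algebra A P] [Algebra A Q] [Algebra A U]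
      (f : Q →ₐ[A] U) (g : P →ₐ[A] Q) (z : P ⊗[A] M), f.toLinearMap.rTensor M (g.toLinearMap.rTensor M z) = (f.comp g).toLinearMap.rTensor M z :=
    fun {P Q U} _ _ _ _ _ _ f g z => by rw [← LinearMap.rTensor_comp_apply]; rfl
  have compN : ∀ {P Q U : Type u} [CommSemiring P] [CommSemiring Q] [CommSemiring U] [Algebra A P] [Algebra A Q] [Algebra A U]
      (f : Q →ₐ[A] U) (g : P →ₐ[A] Q) (z : P ⊗[A] N), f.toLinearMap.rTensor N (g.toLinearMap.rTensor N z) = (f.comp g).toLinearMap.rTensor N z :=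
    fun {P Q U} _ _ _ _ _ _ f g z => by rw [← LinearMap.rTensor_comp_apply]; rfl
  have key₀ : ∀ (S : Type u) [CommSemiring S] [Algebra A S] (n : ℕ) (ψ : MvPolynomial (Fin n) A →ₐ[A] S) (p p' : MvPolynomial (Fin n) A ⊗[A] M),
      ψ.toLinearMap.rTensor M p = ψ.toLinearMap.rTensor M p' → ψ.toLinearMap.rTensor N (T n p) = ψ.toLinearMap.rTensor N (T n p') := by
    intro S _ _ n ψ p p' hpp
    letI : CommRing S := { Algebra.semiringToRing A, ‹CommSemiring S› with }
    let ev : MvPolynomial S A →ₐ[A] S := MvPolynomial.aeval id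
    let ι' : MvPolynomial (Fin n) A →ₐ[A] MvPolynomial S A := MvPolynomial.rename fun i => ψ (MvPolynomial.X i)
    have hevι : ev.comp ι' = ψ := MvPolynomial.algHom_ext fun i => by simp [ev, ι']
    have hsurj : Function.Surjective ev.toLinearMap := fun s => ⟨MvPolynomial.X s, by simp [ev]⟩
    obtain ⟨w, hw⟩ := (rTensor_exact M (LinearMap.exact_subtype_ker_map ev.toLinearMap) hsurj (ι'.toLinearMap.rTensor M (p - p'))).mp (by
      rw [compM, hevι, map_sub, hpp, sub_self])
    obtain ⟨J, hJ⟩ := TensorProduct.exists_finset w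
    let F : Finset S := (Finset.univ.image fun i => ψ (MvPolynomial.X i)) ∪ J.biUnion fun a => (a.1 : MvPolynomial S A).vars
    let eF := F.equivFin
    let ρ : MvPolynomial S A →ₐ[A] MvPolynomial (Fin F.card) A := MvPolynomial.aeval fun s => if h : s ∈ F then MvPolynomial.X (eF ⟨s, h⟩) else 0
    let χ : MvPolynomial (Fin F.card) A →ₐ[A] S := MvPolynomial.aeval fun c => ((eF.symm c : F) : S)
    let g := ρ.comp ι'
    have hg : χ.comp g = ψ := MvPolynomial.algHom_ext fun i => by
      have hi : ψ (MvPolynomial.X i) ∈ F := Finset.mem_union_left _ (Finset.mem_image_of_mem _ (Finset.mem_univ i))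
      simp [g, ρ, ι', χ, hi]
    have hρ : ∀ a ∈ J, χ (ρ (a.1 : MvPolynomial S A)) = 0 := fun a ha => by
      have h0 : ev (a.1 : MvPolynomial S A) = 0 := a.1.2
      rw [← h0, ← AlgHom.comp_apply]
      refine MvPolynomial.hom_congr_vars (f₁ := (χ.comp ρ).toRingHom) (f₂ := ev.toRingHom) (by ext; simp) (fun s hs _ => ?_) rfl
      have hs' : s ∈ F := Finset.mem_union_right _ (Finset.mem_biUnion.mpr ⟨a, ha, hs⟩)
      simp [χ, ρ, ev, hs']
    let eJ := J.equivFin
    let inF : MvPolynomial (Fin F.card) A →ₐ[A] MvPolynomial (Fin (F.card + J.card)) A := MvPolynomial.rename (Fin.castAdd J.card)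
    let φ₀ : MvPolynomial (Fin (F.card + J.card)) A →ₐ[A] MvPolynomial (Fin F.card) A := MvPolynomial.aeval (Fin.append MvPolynomial.X fun _ => 0)
    let φ₁ : MvPolynomial (Fin (F.card + J.card)) A →ₐ[A] MvPolynomial (Fin F.card) A := MvPolynomial.aeval (Fin.append MvPolynomial.X fun j => ρ ((eJ.symm j).1.1 : MvPolynomial S A))
    let w₁ : MvPolynomial (Fin (F.card + J.card)) A ⊗[A] M := inF.toLinearMap.rTensor M (g.toLinearMap.rTensor M p') +
      ∑ j : Fin J.card, MvPolynomial.X (Fin.natAdd F.card j) ⊗ₜ[A] (eJ.symm j).1.2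
    have h₀ : φ₀.toLinearMap.rTensor M w₁ = g.toLinearMap.rTensor M p' := by
      simp only [w₁, map_add, map_sum, LinearMap.rTensor_tmul, AlgHom.toLinearMap_apply]
      rw [compM φ₀ inF, show φ₀.comp inF = AlgHom.id A _ from MvPolynomial.algHom_ext fun c => by simp [φ₀, inF]]
      simp [φ₀]
    have h₁ : φ₁.toLinearMap.rTensor M w₁ = g.toLinearMap.rTensor M p := by
      simp only [w₁, map_add, map_sum, LinearMap.rTensor_tmul, AlgHom.toLinearMap_apply]
      rw [compM φ₁ inF, show φ₁.comp inF = AlgHom.id A _ from MvPolynomial.algHom_ext fun c => by simp [φ₁, inF]]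
      simp only [φ₁, MvPolynomial.aeval_X, Fin.append_right]
      have hd : g.toLinearMap.rTensor M (p - p') = ∑ a ∈ J, ρ (a.1 : MvPolynomial S A) ⊗ₜ[A] a.2 := by
        show (ρ.comp ι').toLinearMap.rTensor M (p - p') = _
        rw [← compM ρ ι', ← hw, hJ]
        simp [map_sum]
      rw [Equiv.sum_comp eJ.symm (fun a : J => ρ (a.1.1 : MvPolynomial S A) ⊗ₜ[A] a.1.2),
        Finset.sum_coe_sort J (fun a => ρ (a.1 : MvPolynomial S A) ⊗ₜ[A] a.2), ← hd, map_sub, AlgHom.toLinearMap_id, LinearMap.rTensor_id, LinearMap.id_apply, add_sub_cancel]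
    have hχ : χ.comp φ₀ = χ.comp φ₁ := MvPolynomial.algHom_ext fun c => by
      refine Fin.addCases (fun c => ?_) (fun c => ?_) c
      · simp [φ₀, φ₁]
      · simp [φ₀, φ₁, hρ _ (eJ.symm c).2]
    rw [← hg, ← compN χ g, ← compN χ g, nat, nat, ← h₀, ← h₁, ← nat, ← nat, compN, compN, hχ]
  have key : ∀ (S : Type u) [CommSemiring S] [Algebra A S] {n n' : ℕ} (ψ : MvPolynomial (Fin n) A →ₐ[A] S) (ψ' : MvPolynomial (Fin n') A →ₐ[A] S)
      (p : MvPolynomial (Fin n) A ⊗[A] M) (p' : MvPolynomial (Fin n') A ⊗[A] M), ψ.toLinearMap.rTensor M p = ψ'.toLinearMap.rTensor M p' →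
      ψ.toLinearMap.rTensor N (T n p) = ψ'.toLinearMap.rTensor N (T n' p') := by
    intro S _ _ n n' ψ ψ' p p' hpp
    let a : MvPolynomial (Fin n) A →ₐ[A] MvPolynomial (Fin (n + n')) A := MvPolynomial.rename (Fin.castAdd n')
    let b : MvPolynomial (Fin n') A →ₐ[A] MvPolynomial (Fin (n + n')) A := MvPolynomial.rename (Fin.natAdd n)
    let Φ : MvPolynomial (Fin (n + n')) A →ₐ[A] S := MvPolynomial.aeval (Fin.append (fun i => ψ (MvPolynomial.X i)) fun i => ψ' (MvPolynomial.X i))
    have ha : Φ.comp a = ψ := MvPolynomial.algHom_ext fun i => by simp [Φ, a]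
    have hb : Φ.comp b = ψ' := MvPolynomial.algHom_ext fun i => by simp [Φ, b]
    rw [← ha, ← hb, ← compN Φ a, ← compN Φ b, nat, nat]
    exact key₀ S _ Φ _ _ (by rw [compM, compM, ha, hb, hpp])
  let tf : ∀ (S : Type u) [CommSemiring S] [Algebra A S], S ⊗[A] M → S ⊗[A] N := fun S _ _ z =>
    (PolynomialLaw.exists_lift z).choose_spec.choose.toLinearMap.rTensor N (T _ (PolynomialLaw.exists_lift z).choose_spec.choose_spec.choose)
  have tf_eq : ∀ (S : Type u) [CommSemiring S] [Algebra A S] {n : ℕ} (ψ : MvPolynomial (Fin n) A →ₐ[A] S) (p : MvPolynomial (Fin n) A ⊗[A] M),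
      tf S (ψ.toLinearMap.rTensor M p) = ψ.toLinearMap.rTensor N (T n p) := fun S _ _ n ψ p =>
    key S _ ψ _ p (PolynomialLaw.exists_lift (ψ.toLinearMap.rTensor M p)).choose_spec.choose_spec.choose_spec
  refine ⟨{ toFun' := tf, isCompat' := fun {S} _ _ {S'} _ _ φ => funext fun z => ?_ }, Subtype.ext (funext fun n => funext fun p => ?_)⟩
  · obtain ⟨n, ψ, p, rfl⟩ := PolynomialLaw.exists_lift z
    show φ.toLinearMap.rTensor N (tf S _) = tf S' (φ.toLinearMap.rTensor M _)
    rw [tf_eq, compN, compM, tf_eq]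
  · have := tf_eq (MvPolynomial (Fin n) A) (AlgHom.id A _) p
    simpa using this

end Groth.Agent.S13174
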