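import Groth.Statements.S13175
import Mathlib
import Mathlib
-- import your own Groth.Agent.* helpers here

set_option autoImplicit false
universe u v w
open scoped TensorProduct
open ZeroCyc

namespace Groth.Agent.S13175

/-- Let B and C be A-algebras and F : B → C a polynomial law. If the maps F over the polynomial rings
A[t_1, …, t_n], n ≥ 0, are multiplicative (send 1 to 1 and products to products), then F is a
multiplicative law: F sends 1 to 1 and products to products over every A-algebra. -/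
theorem result {A : Type u} [CommRing A] {B : Type v} [CommRing B] [Algebra A B] {C : Type w} [CommRing C] [Algebra A C]
    (F : B →ₚₗ[A] C)
    (h1 : ∀ n : ℕ, F.toFun' (MvPolynomial (Fin n) A) 1 = 1)
    (hmul : ∀ (n : ℕ) (x y : MvPolynomial (Fin n) A ⊗[A] B),
      F.toFun' (MvPolynomial (Fin n) A) (x * y) = F.toFun' (MvPolynomial (Fin n) A) x * F.toFun' (MvPolynomial (Fin n) A) y) :
    ∀ (S : Type u) [CommRing S] [Algebra A S], F.toFun' S 1 = 1 ∧
      ∀ x y : S ⊗[A] B, F.toFun' S (x * y) = F.toFun' S x * F.toFun' S y := by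
  classical
  intro S _ _
  have hnat : ∀ {T : Type u} [CommRing T] [Algebra A T] (φ : T →ₐ[A] S) (t : T ⊗[A] B),
      F.toFun' S (φ.toLinearMap.rTensor B t) = φ.toLinearMap.rTensor C (F.toFun' T t) := fun φ t =>
    (congrFun (F.isCompat' φ) t).symm
  have hB : ∀ {T : Type u} [CommRing T] [Algebra A T] (φ : T →ₐ[A] S) (t : T ⊗[A] B),
      Algebra.TensorProduct.map φ (AlgHom.id A B) t = φ.toLinearMap.rTensor B t := fun φ t => rfl
  have hC : ∀ {T : Type u} [CommRing T] [Algebra A T] (φ : T →ₐ[A] S) (t : T ⊗[A] C),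
      Algebra.TensorProduct.map φ (AlgHom.id A C) t = φ.toLinearMap.rTensor C t := fun φ t => rfl
  constructor
  · let φ : MvPolynomial (Fin 0) A →ₐ[A] S := MvPolynomial.aeval Fin.elim0
    have h := hnat φ 1
    rw [← hB, map_one, h1 0, ← hC, map_one] at h
    exact h
  intro x y
  obtain ⟨s, hs⟩ := TensorProduct.exists_finset x
  obtain ⟨t, ht⟩ := TensorProduct.exists_finset y
  let U : Finset S := s.image Prod.fst ∪ t.image Prod.fst
  let g : Fin U.card → S := fun i => (U.equivFin.symm i : S)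
  let φ : MvPolynomial (Fin U.card) A →ₐ[A] S := MvPolynomial.aeval g
  have hlift : ∀ (v : Finset (S × B)), v.image Prod.fst ⊆ U → ∃ x' : MvPolynomial (Fin U.card) A ⊗[A] B,
      φ.toLinearMap.rTensor B x' = ∑ i ∈ v, i.1 ⊗ₜ[A] i.2 := by
    intro v hv
    refine ⟨∑ i ∈ v.attach, (MvPolynomial.X (U.equivFin ⟨i.1.1, hv (Finset.mem_image_of_mem _ i.2)⟩) : MvPolynomial (Fin U.card) A) ⊗ₜ[A] i.1.2, ?_⟩
    rw [map_sum, ← Finset.sum_attach v]
    exact Finset.sum_congr rfl fun i _ => by simp [φ, g]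
  obtain ⟨x', hx'⟩ := hlift s Finset.subset_union_left
  obtain ⟨y', hy'⟩ := hlift t Finset.subset_union_right
  rw [← hs] at hx'
  rw [← ht] at hy'
  rw [← hx', ← hy', ← hB, ← hB, ← map_mul, hB, hB, hB, hnat, hnat, hnat, hmul, ← hC, ← hC, ← hC, map_mul]

end Groth.Agent.S13175
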