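import Groth.Statements.S13176
import Groth.Agent.QuotLib.GeomOrbit
import Groth.Agent.S0415

set_option backward.isDefEq.respectTransparency false
set_option backward.isDefEq.respectTransparency.types false

set_option autoImplicit false
universe u
open CategoryTheory CategoryTheory.Limits AlgebraicGeometry
open ZeroCyc

namespace Groth.Agent.S13176

/-- Let a finite group G act on a scheme X over S through ρ, let q : X → Y be a quotient of X by G over
S (affine, G-invariant, O_Y = the G-invariant sections of O_X), let S' → S be any morphism and X' =
X ×_S S' with the induced action ρ', and let r : X' → Y' be a quotient of X' by G. Then the morphism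
Y' → Y ×_S S' through which the canonical map X' → Y ×_S S' factors via r is a universal
homeomorphism. (The published statement assumes every G-orbit lies in an affine open, which is what
makes the quotients exist; here the two quotients are hypotheses.) -/
theorem result {X Y S S' Y' : Scheme.{u}} {G : Type u} [Group G] [Finite G]
    (ρ : G →* Aut X) (f : X ⟶ S) (hρ : ∀ σ : G, (ρ σ).hom ≫ f = f)
    (q : X ⟶ Y) (h : Y ⟶ S) (hq : q ≫ h = f) (hquot : SGA1.IsQuot ρ q)
    (g : S' ⟶ S)
    (ρ' : G →* Aut (pullback f g))
    (hρ' : ∀ σ : G, (ρ' σ).hom ≫ pullback.fst f g = pullback.fst f g ≫ (ρ σ).hom ∧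
      (ρ' σ).hom ≫ pullback.snd f g = pullback.snd f g)
    (r : pullback f g ⟶ Y') (hr : SGA1.IsQuot ρ' r)
    (m : Y' ⟶ pullback h g)
    (hm : r ≫ m = pullback.map f g h g q (𝟙 S') (𝟙 S)
      ((Category.comp_id f).trans hq.symm) ((Category.comp_id g).trans (Category.id_comp g).symm)) :
    FlatMor.IsUnivHomeo m := by
  let M := pullback.map f g h g q (𝟙 S') (𝟙 S) ((Category.comp_id f).trans hq.symm)
    ((Category.comp_id g).trans (Category.id_comp g).symm)
  have sq : IsPullback (pullback.fst f g) M q (pullback.fst h g) := by
    refine IsPullback.of_bot ?_ (by simp [M]) (IsPullback.of_hasPullback h g)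
    rw [hq]
    simpa [M] using IsPullback.of_hasPullback f g
  haveI : IsIntegralHom q := QuotLib.isIntegralHom hquot
  haveI : IsIntegralHom M := MorphismProperty.of_isPullback sq inferInstance
  haveI : Surjective q := ⟨QuotLib.surjective hquot⟩
  haveI : Surjective M := MorphismProperty.of_isPullback (P := @Surjective) sq inferInstance
  haveI : Surjective r := ⟨QuotLib.surjective hr⟩
  haveI : UniversallyClosed (r ≫ m) := by rw [hm]; infer_instance
  haveI : Surjective (r ≫ m) := by rw [hm]; infer_instance
  haveI : UniversallyClosed m := UniversallyClosed.of_comp_surjective r m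
  haveI : Surjective m := Surjective.of_comp r m
  haveI : UniversallyInjective m := QuotLib.universallyInjective_of_cover r m fun L _ x x' hxx => by
    rw [hm] at hxx
    obtain ⟨σ, hσ⟩ := QuotLib.geomOrbit hquot (x := x ≫ pullback.fst f g) (x' := x' ≫ pullback.fst f g) (by
      have := congrArg (· ≫ pullback.fst h g) hxx
      simpa [M] using this)
    have e : x' = x ≫ (ρ' σ).hom := by
      refine pullback.hom_ext ?_ ?_
      · rw [hσ, Category.assoc, Category.assoc, (hρ' σ).1]
      · rw [Category.assoc, (hρ' σ).2]
        have := congrArg (· ≫ pullback.snd h g) hxx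
        simpa [M] using this.symm
    rw [e, Category.assoc, hr.inv]
  haveI : IsAffineHom m := isAffineHom_of_isInducing m
    (Topology.IsClosedEmbedding.of_continuous_injective_isClosedMap m.continuous m.injective m.isClosedMap).isInducing
    m.isClosedMap.isClosed_range
  exact (Groth.Agent.S0415.result m).2
    ⟨IsIntegralHom.iff_universallyClosed_and_isAffineHom.mpr ⟨inferInstance, inferInstance⟩, inferInstance, inferInstance⟩

end Groth.Agent.S13176
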