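import Groth.Statements.S13177
import Groth.Agent.QuotLib.GeomOrbit
import Groth.Agent.S0415
import Groth.Agent.ChowLib.SchDom

set_option backward.isDefEq.respectTransparency false
set_option backward.isDefEq.respectTransparency.types false

set_option autoImplicit false
universe u
open CategoryTheory CategoryTheory.Limits AlgebraicGeometry
open ZeroCyc

namespace Groth.Agent.S13177

/-- Let a finite group G act on a scheme X with quotient q : X → Y (affine, G-invariant, O_Y = the
invariant sections), let i : Z → X be a G-stable closed subscheme with the induced action and r : Z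
→ W a quotient of Z by G, and let q(Z) be the scheme-theoretic image of Z in Y. Then the morphism W
→ q(Z) through which Z → q(Z) factors via r is a schematically dominant universal homeomorphism.
(The published statement assumes the quotient of X exists; here both quotients are hypotheses.) -/
theorem result {X Y Z W : Scheme.{u}} {G : Type u} [Group G] [Finite G]
    (ρ : G →* Aut X) (q : X ⟶ Y) (hquot : SGA1.IsQuot ρ q)
    (i : Z ⟶ X) [IsClosedImmersion i] (ρZ : G →* Aut Z) (hρZ : ∀ σ : G, (ρZ σ).hom ≫ i = i ≫ (ρ σ).hom)
    (r : Z ⟶ W) (hr : SGA1.IsQuot ρZ r)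
    (m : W ⟶ (i ≫ q).ker.subscheme) (hm : r ≫ m ≫ (i ≫ q).ker.subschemeι = i ≫ q) :
    FlatMor.IsUnivHomeo m ∧ IsSchemeTheoreticallyDominant m := by
  haveI : IsIntegralHom q := QuotLib.isIntegralHom hquot
  haveI : Surjective r := ⟨QuotLib.surjective hr⟩
  have e : r ≫ m = (i ≫ q).toImage := by
    rw [← cancel_mono (i ≫ q).ker.subschemeι, Category.assoc, hm]
    exact (Scheme.Hom.toImage_imageι _).symm
  haveI : UniversallyClosed (i ≫ q) := inferInstance
  haveI : UniversallyClosed (r ≫ m) := by rw [e]; infer_instance
  haveI : UniversallyClosed m := UniversallyClosed.of_comp_surjective r m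
  haveI : Surjective (r ≫ m) := by
    refine ⟨fun y => ?_⟩
    have hy : (i ≫ q).ker.subschemeι y ∈ Set.range (i ≫ q) := by
      have : (i ≫ q).ker.subschemeι y ∈ ((i ≫ q).ker.support : Set Y) := by
        rw [← Scheme.IdealSheafData.range_subschemeι]; exact ⟨y, rfl⟩
      rw [Scheme.Hom.support_ker] at this
      change (i ≫ q).ker.subschemeι y ∈ closure (Set.range (i ≫ q)) at this
      rw [
        (i ≫ q).isClosedMap.isClosed_range.closure_eq] at this
      exact this
    obtain ⟨z, hz⟩ := hy
    refine ⟨z, (i ≫ q).ker.subschemeι.isClosedEmbedding.injective ?_⟩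
    rw [← Scheme.Hom.comp_apply, Category.assoc, hm, hz]
  haveI : Surjective m := Surjective.of_comp r m
  haveI : UniversallyInjective m := QuotLib.universallyInjective_of_cover r m fun L _ x x' hxx => by
    obtain ⟨σ, hσ⟩ := QuotLib.geomOrbit hquot (x := x ≫ i) (x' := x' ≫ i) (by
      have := congrArg (· ≫ (i ≫ q).ker.subschemeι) hxx
      simp only [Category.assoc, hm] at this ⊢
      exact this)
    have e' : x' = x ≫ (ρZ σ).hom := by
      rw [← cancel_mono i, hσ, Category.assoc, Category.assoc, hρZ]
    rw [e', Category.assoc, hr.inv]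
  haveI : IsAffineHom m := isAffineHom_of_isInducing m
    (Topology.IsClosedEmbedding.of_continuous_injective_isClosedMap m.continuous m.injective m.isClosedMap).isInducing
    m.isClosedMap.isClosed_range
  refine ⟨(Groth.Agent.S0415.result m).2
    ⟨IsIntegralHom.iff_universallyClosed_and_isAffineHom.mpr ⟨inferInstance, inferInstance⟩, inferInstance, inferInstance⟩, ⟨?_⟩⟩
  refine eq_bot_iff.2 ((Scheme.Hom.le_ker_comp r m).trans ?_)
  rw [e]
  exact (Scheme.Hom.ker_eq_bot (i ≫ q).toImage).le

end Groth.Agent.S13177
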