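import Groth.Statements.S13178
import Groth.Agent.FieldLawLib.Exist

set_option autoImplicit false
universe u
open scoped TensorProduct
open ZeroCyc

namespace Groth.Agent.S13178

/-- Let K/k be a finite field extension with separable degree d_s and exponent e (the least e ≥ 1 such
that x^e is separable over k for every x ∈ K), and let d ≥ 0. The k-points of Γ^d(Spec K / Spec k)
are the multiplicative polynomial laws K → k over k that are homogeneous of degree d; there is at
most one such law, and one exists if and only if the quasi-degree d_s·e divides d. (The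
identification of k-points of Γ^d with multiplicative homogeneous laws is the universal property of
the algebra of divided powers; the row is stated directly for laws.) -/
theorem result {k : Type u} [Field k] {K : Type u} [Field K] [Algebra k K]
    [FiniteDimensional k K] (d e : ℕ) (he : 0 < e) (hexp : ∀ x : K, x ^ e ∈ separableClosure k K)
    (hmin : ∀ n : ℕ, 0 < n → (∀ x : K, x ^ n ∈ separableClosure k K) → e ≤ n) :
    (∀ F F' : K →ₚₗ[k] k,
      ((∀ (S : Type u) [CommRing S] [Algebra k S], F.toFun' S 1 = 1 ∧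
        ∀ x y : S ⊗[k] K, F.toFun' S (x * y) = F.toFun' S x * F.toFun' S y) ∧
      ∀ (S : Type u) [CommRing S] [Algebra k S] (a : S) (z : S ⊗[k] K), F.toFun' S (a • z) = a ^ d • F.toFun' S z) →
      ((∀ (S : Type u) [CommRing S] [Algebra k S], F'.toFun' S 1 = 1 ∧
        ∀ x y : S ⊗[k] K, F'.toFun' S (x * y) = F'.toFun' S x * F'.toFun' S y) ∧
      ∀ (S : Type u) [CommRing S] [Algebra k S] (a : S) (z : S ⊗[k] K), F'.toFun' S (a • z) = a ^ d • F'.toFun' S z) → F = F') ∧
    ((∃ F : K →ₚₗ[k] k, ((∀ (S : Type u) [CommRing S] [Algebra k S], F.toFun' S 1 = 1 ∧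
        ∀ x y : S ⊗[k] K, F.toFun' S (x * y) = F.toFun' S x * F.toFun' S y) ∧
      ∀ (S : Type u) [CommRing S] [Algebra k S] (a : S) (z : S ⊗[k] K), F.toFun' S (a • z) = a ^ d • F.toFun' S z)) ↔ Field.finSepDegree k K * e ∣ d) := by
  classical
  haveI : Fintype (K →ₐ[k] AlgebraicClosure k) := Fintype.ofFinite _
  obtain ⟨q, hq⟩ := ExpChar.exists k
  haveI : ExpChar K q := expChar_of_injective_algebraMap (algebraMap k K).injective q
  -- the exponent is a power of the exponential characteristic
  obtain ⟨r, rfl, hr1⟩ : ∃ r, e = q ^ r ∧ (q = 1 → r = 0) := by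
    obtain ⟨N, hN⟩ : ∃ N, ∀ x : K, x ^ q ^ N ∈ separableClosure k K := by
      haveI : ExpChar (separableClosure k K) q := expChar_of_injective_algebraMap (algebraMap k (separableClosure k K)).injective q
      have hpow : ∀ x : K, ∃ n, x ^ q ^ n ∈ separableClosure k K := fun x => by
        obtain ⟨n, ⟨y, hy⟩⟩ := IsPurelyInseparable.pow_mem (separableClosure k K) q x
        exact ⟨n, hy ▸ y.2⟩
      choose n hn using hpow
      refine ⟨Finset.univ.sup fun i => n (Module.finBasis k K i), fun x => ?_⟩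
      rw [← (Module.finBasis k K).sum_repr x, sum_pow_char_pow]
      refine sum_mem fun i _ => ?_
      rw [smul_pow]
      refine (separableClosure k K).smul_mem ?_
      obtain ⟨d, hd⟩ := Nat.exists_eq_add_of_le (Finset.le_sup (f := fun i => n (Module.finBasis k K i)) (Finset.mem_univ i))
      rw [hd, pow_add, pow_mul]
      exact pow_mem (hn _) _
    have hdvd : e ∣ q ^ N := by
      by_contra hnd
      have h1 : ∀ x : K, x ^ (q ^ N % e) ∈ separableClosure k K := fun x => by
        rcases eq_or_ne x 0 with rfl | hx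
        · rcases Nat.eq_zero_or_pos (q ^ N % e) with h | h
          · rw [h, pow_zero]; exact one_mem _
          · rw [zero_pow h.ne']; exact zero_mem _
        · have h2 : x ^ (q ^ N % e) = x ^ q ^ N * ((x ^ e) ^ (q ^ N / e))⁻¹ := by
            rw [eq_mul_inv_iff_mul_eq₀ (pow_ne_zero _ (pow_ne_zero _ hx)), ← pow_mul, ← pow_add, Nat.mod_add_div]
          rw [h2]
          exact mul_mem (hN x) (inv_mem (pow_mem (hexp x) _))
      exact absurd (hmin _ (Nat.pos_of_ne_zero fun h => hnd (Nat.dvd_of_mod_eq_zero h)) h1)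
        (not_le.2 (Nat.mod_lt _ he))
    rcases hq with _ | ⟨hp⟩
    · exact ⟨0, by rw [one_pow] at hdvd; simpa using Nat.dvd_one.1 hdvd, fun _ => rfl⟩
    · obtain ⟨r, -, hr⟩ := (Nat.dvd_prime_pow hp).1 hdvd
      exact ⟨r, hr, fun h => absurd h hp.ne_one⟩
  have hmin' : ∀ v < r, ∃ b : K, b ^ q ^ v ∉ separableClosure k K := by
    intro v hv
    by_contra h
    push Not at h
    rcases hq with _ | ⟨hp⟩
    · exact absurd (hr1 rfl) (by omega)
    · exact absurd (hmin (q ^ v) (pow_pos hp.pos v) h) (not_le.2 (Nat.pow_lt_pow_right hp.one_lt hv))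
  have hcard : Fintype.card (K →ₐ[k] AlgebraicClosure k) = Field.finSepDegree k K := by
    rw [← Nat.card_eq_fintype_card, Field.finSepDegree_eq_of_isAlgClosed k K (AlgebraicClosure k)]
  have key : ∀ F : K →ₚₗ[k] k, FieldLawLib.IsML d F → ∃ a,
      MvPolynomial.map (algebraMap k (AlgebraicClosure k)) (FieldLawLib.val F _ (FieldLawLib.gen k K)) =
        ∏ τ, FieldLawLib.ell τ ^ a ∧ q ^ r ∣ a ∧ d = Field.finSepDegree k K * a := by
    intro F hF
    obtain ⟨a, ha⟩ := FieldLawLib.exists_exponents (K := K) hexp hF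
    obtain ⟨τ₀⟩ : Nonempty (K →ₐ[k] AlgebraicClosure k) := ⟨IsAlgClosed.lift⟩
    have ha' : MvPolynomial.map (algebraMap k (AlgebraicClosure k)) (FieldLawLib.val F _ (FieldLawLib.gen k K)) =
        ∏ τ, FieldLawLib.ell τ ^ a τ₀ :=
      ha.trans (Finset.prod_congr rfl fun τ _ => by rw [FieldLawLib.exponents_eq hexp ha τ₀ τ])
    exact ⟨a τ₀, ha', FieldLawLib.dvd_exponent hexp hmin' ha', hcard ▸ FieldLawLib.degree_eq hF ha'⟩
  refine ⟨fun F F' hF hF' => ?_, ⟨fun ⟨F, hF⟩ => ?_, fun hd => ?_⟩⟩
  · obtain ⟨a, ha, -, hda⟩ := key F hF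
    obtain ⟨a', ha', -, hda'⟩ := key F' hF'
    have haa : a = a' := Nat.eq_of_mul_eq_mul_left
      (hcard ▸ Fintype.card_pos_iff.2 ⟨IsAlgClosed.lift⟩) (hda.symm.trans hda')
    subst haa
    exact FieldLawLib.law_ext (MvPolynomial.map_injective _ (algebraMap k (AlgebraicClosure k)).injective
      (ha.trans ha'.symm))
  · obtain ⟨a, -, hqa, hda⟩ := key F hF
    exact hda ▸ mul_dvd_mul_left _ hqa
  · obtain ⟨j, hj⟩ := hd
    obtain ⟨F, hF⟩ := FieldLawLib.exists_law q r hexp j
    refine ⟨F, ?_⟩
    rw [hj, Field.finSepDegree_eq k K]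
    exact hF

end Groth.Agent.S13178
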