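import Groth.Statements.S13184
import Mathlib

set_option autoImplicit false
universe u
open ZeroCyc

namespace Groth.Agent.S13184

/-- Let k ⊆ K be a finite extension of fields of characteristic p > 0, viewed inside an algebraically
closed field Ω, and for e ≥ 0 let k^{p^{-e}} ⊆ Ω be the field of elements whose p^e-th power lies in
k. Then the compositum k^{p^{-e}}K is separable over k^{p^{-e}} if and only if x^{p^e} is separable
over k for every x ∈ K; hence the exponent of K/k (the least n ≥ 1 with K^n separable over k, a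
power of p) is the least p^e for which k^{p^{-e}} ⊆ k^{p^{-e}}K is separable. -/
theorem result {k : Type u} [Field k] (p : ℕ) [Fact p.Prime] [CharP k p]
    {K : Type u} [Field K] [Algebra k K] [FiniteDimensional k K]
    {Ω : Type u} [Field Ω] [Algebra k Ω] [Algebra K Ω] [IsScalarTower k K Ω] [IsAlgClosed Ω] (e : ℕ) :
    (∀ x : Ω, x ∈ IntermediateField.adjoin k {y : Ω | y ^ (p ^ e) ∈ Set.range (algebraMap k Ω)} ⊔
        IntermediateField.adjoin k (Set.range (algebraMap K Ω)) →
      IsSeparable (IntermediateField.adjoin k {y : Ω | y ^ (p ^ e) ∈ Set.range (algebraMap k Ω)}) x) ↔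
    ∀ x : K, x ^ (p ^ e) ∈ separableClosure k K := by
  classical
  haveI : Fact p.Prime := inferInstance
  haveI : CharP Ω p := charP_of_injective_algebraMap (algebraMap k Ω).injective p
  haveI : ExpChar Ω p := ExpChar.prime Fact.out
  generalize hq : p ^ e = q
  have hqpos : q ≠ 0 := hq ▸ (pow_pos (Fact.out : p.Prime).pos e).ne'
  have hfr : ∀ y : Ω, y ^ q = iterateFrobenius Ω p e y := fun y => by rw [iterateFrobenius_def, hq]
  set L := IntermediateField.adjoin k {y : Ω | y ^ q ∈ Set.range (algebraMap k Ω)} with hL
  have hmemL : ∀ y : Ω, y ∈ L → ∃ a : k, algebraMap k Ω a = iterateFrobenius Ω p e y := by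
    intro y hy
    induction hy using IntermediateField.adjoin_induction with
    | mem x hx => rw [← hfr]; exact hx
    | algebraMap x => exact ⟨x ^ q, by rw [← hfr, map_pow]⟩
    | add x y _ _ hx hy =>
      obtain ⟨a, ha⟩ := hx
      obtain ⟨b, hb⟩ := hy
      exact ⟨a + b, by rw [map_add, map_add, ha, hb]⟩
    | inv x _ hx =>
      obtain ⟨a, ha⟩ := hx
      exact ⟨a⁻¹, by rw [map_inv₀, map_inv₀, ha]⟩
    | mul x y _ _ hx hy =>
      obtain ⟨a, ha⟩ := hx
      obtain ⟨b, hb⟩ := hy
      exact ⟨a * b, by rw [map_mul, map_mul, ha, hb]⟩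
  choose ρ hρ using fun y : L => hmemL y.1 y.2
  let φ : L →+* k :=
    { toFun := ρ
      map_one' := (algebraMap k Ω).injective (by rw [hρ, map_one]; exact map_one _)
      map_mul' := fun x y => (algebraMap k Ω).injective (by rw [map_mul, hρ, hρ, hρ]; exact map_mul _ _ _)
      map_zero' := (algebraMap k Ω).injective (by rw [hρ, map_zero]; exact map_zero _)
      map_add' := fun x y => (algebraMap k Ω).injective (by rw [map_add, hρ, hρ, hρ]; exact map_add _ _ _) }
  have hcomp : (algebraMap k Ω).comp φ = (iterateFrobenius Ω p e).comp (algebraMap L Ω) :=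
    RingHom.ext fun y => hρ y
  have hφ : Function.Bijective φ := by
    refine ⟨φ.injective, fun a => ?_⟩
    obtain ⟨y, hy⟩ := IsAlgClosed.exists_pow_nat_eq (algebraMap k Ω a) (Nat.pos_of_ne_zero hqpos)
    refine ⟨⟨y, IntermediateField.subset_adjoin _ _ ⟨a, hy.symm⟩⟩, (algebraMap k Ω).injective ?_⟩
    exact (hρ _).trans ((hfr y).symm.trans hy)
  have key : ∀ z : K, IsSeparable L (algebraMap K Ω z) ↔ IsSeparable k (z ^ q) := by
    intro z
    have h0 : IsSeparable k (z ^ q) ↔ IsSeparable k (algebraMap K Ω z ^ q) := by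
      rw [← map_pow]
      refine ⟨fun h => ?_, fun h => h.tower_bot⟩
      show (minpoly k _).Separable
      rw [minpoly.algebraMap_eq (algebraMap K Ω).injective]
      exact h
    rw [h0]
    constructor
    · intro h
      refine Polynomial.Separable.of_dvd (Polynomial.Separable.map (f := φ) h) (minpoly.dvd k _ ?_)
      rw [Polynomial.aeval_def, Polynomial.eval₂_map, hcomp, hfr, ← Polynomial.hom_eval₂,
        ← Polynomial.aeval_def, minpoly.aeval, map_zero]
    · intro h
      let ψ := (RingEquiv.ofBijective φ hφ).symm.toRingHom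
      refine Polynomial.Separable.of_dvd (Polynomial.Separable.map (f := ψ) h) (minpoly.dvd L _ ?_)
      apply (iterateFrobenius Ω p e).injective
      rw [Polynomial.aeval_def, Polynomial.eval₂_map, Polynomial.hom_eval₂, ← RingHom.comp_assoc, ← hcomp,
        RingHom.comp_assoc, show φ.comp ψ = RingHom.id k from
          RingHom.ext fun a => (RingEquiv.ofBijective φ hφ).apply_symm_apply a,
        RingHom.comp_id, map_zero, ← hfr, ← Polynomial.aeval_def, minpoly.aeval]
  constructor
  · intro h z
    rw [mem_separableClosure_iff, ← key]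
    exact h _ ((le_sup_right : _ ≤ L ⊔ _) (IntermediateField.subset_adjoin _ _ ⟨z, rfl⟩))
  · intro h x hx
    have hle : L ⊔ IntermediateField.adjoin k (Set.range (algebraMap K Ω)) ≤
        (separableClosure L Ω).restrictScalars k := by
      refine sup_le (fun y hy => ?_) (IntermediateField.adjoin_le_iff.2 ?_)
      · exact mem_separableClosure_iff.2 (isSeparable_algebraMap (F := L) (⟨y, hy⟩ : L))
      · rintro _ ⟨z, rfl⟩
        exact mem_separableClosure_iff.2 ((key z).2 (mem_separableClosure_iff.1 (h z)))
    exact mem_separableClosure_iff.1 (hle hx)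

end Groth.Agent.S13184
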