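import Groth.Statements.S13186
import Groth.Agent.GalDescLib.Units

set_option autoImplicit false
universe u
open GalCoh

namespace Groth.Agent.S13186

/-- Let L/K be a finite Galois extension of fields, n a natural number, and B a map from the Galois
group of L over K to the invertible n × n matrices over L such that B(σ) · σ(B(τ)) = B(στ) for all
σ, τ (σ acting on matrices entrywise, στ applying τ first) and det B(σ) = 1 for every σ. Then there
is an invertible matrix A over L of determinant 1 with B(σ) = A⁻¹ · σ(A) for every σ; that is, every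
1-cocycle of the Galois group with values in SL_n(L) is the coboundary of an element of SL_n(L), so
H¹ of the Galois group with values in SL_n(L) is a point. (The published statement says that every
torsor under the special linear group over K is trivial; this row is the finite-Galois-level cocycle
form that its proof establishes.) -/
theorem result (K L : Type u) [Field K] [Field L]
    [Algebra K L] [FiniteDimensional K L] [IsGalois K L] (n : ℕ)
    (B : (L ≃ₐ[K] L) → GL (Fin n) L)
    (hB : ∀ σ τ : L ≃ₐ[K] L,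
      (B σ : Matrix (Fin n) (Fin n) L) * (B τ : Matrix (Fin n) (Fin n) L).map σ =
        (B (σ * τ) : Matrix (Fin n) (Fin n) L))
    (hdet : ∀ σ : L ≃ₐ[K] L, Matrix.det (B σ : Matrix (Fin n) (Fin n) L) = 1) :
    ∃ A : GL (Fin n) L, Matrix.det (A : Matrix (Fin n) (Fin n) L) = 1 ∧ ∀ σ : L ≃ₐ[K] L,
      (B σ : Matrix (Fin n) (Fin n) L) =
        ((A⁻¹ : GL (Fin n) L) : Matrix (Fin n) (Fin n) L) * (A : Matrix (Fin n) (Fin n) L).map σ := by
  letI := CSAGal.matrixAction (L ≃ₐ[K] L) L (Fin n)
  letI : MulDistribMulAction (L ≃ₐ[K] L) (GL (Fin n) L) := GpH1.unitsAction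
  have hmap : ∀ (σ : L ≃ₐ[K] L) (M : Matrix (Fin n) (Fin n) L), σ • M = M.map σ := fun _ _ => rfl
  obtain ⟨z, hz⟩ := GalDescLib.exists_GL_of_cocycle (k := K) B fun σ τ => Units.ext (hB σ τ).symm
  rcases Nat.eq_zero_or_pos n with rfl | hn
  · exact ⟨1, by simp, fun σ => Matrix.ext fun i => i.elim0⟩
  have hzσ : ∀ σ : L ≃ₐ[K] L, (z : Matrix (Fin n) (Fin n) L).map σ =
      (z : Matrix (Fin n) (Fin n) L) * (B σ : Matrix (Fin n) (Fin n) L) := fun σ => by
    rw [hz σ, Units.val_mul, Units.mul_inv_cancel_left]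
    rfl
  have hfix : ∀ σ : L ≃ₐ[K] L, σ (z : Matrix (Fin n) (Fin n) L).det = (z : Matrix (Fin n) (Fin n) L).det :=
    fun σ => by
      have h := congrArg Matrix.det (hzσ σ)
      rw [Matrix.det_mul, hdet, mul_one] at h
      exact (AlgEquiv.map_det σ _).trans h
  obtain ⟨d, hd⟩ := (IsGalois.mem_range_algebraMap_iff_fixed (F := K) _).2 hfix
  have hd0 : d ≠ 0 := fun h => by
    have := (Matrix.isUnit_iff_isUnit_det (z : Matrix (Fin n) (Fin n) L)).1 z.isUnit
    rw [← hd, h, map_zero] at this
    exact not_isUnit_zero this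
  let f : Fin n → L := Function.update 1 ⟨0, hn⟩ (algebraMap K L d⁻¹)
  let D : Matrix (Fin n) (Fin n) L := Matrix.diagonal f
  have hf : ∏ i, f i = algebraMap K L d⁻¹ := by
    rw [Finset.prod_update_of_mem (Finset.mem_univ _)]
    simp
  have hD : IsUnit D := by
    rw [Matrix.isUnit_iff_isUnit_det, Matrix.det_diagonal, hf]
    exact (isUnit_iff_ne_zero.2 (by simp [hd0]))
  refine ⟨hD.unit * z, ?_, fun σ => ?_⟩
  · rw [Units.val_mul, Matrix.det_mul, IsUnit.unit_spec, Matrix.det_diagonal, hf, ← hd, ← map_mul,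
      inv_mul_cancel₀ hd0, map_one]
  · have hDσ : D.map σ = D := by
      rw [Matrix.diagonal_map (map_zero σ)]
      congr 1
      ext i
      by_cases h : i = ⟨0, hn⟩
      · subst h; simp [f]
      · simp [f, h]
    have : ((hD.unit * z : GL (Fin n) L) : Matrix (Fin n) (Fin n) L).map σ = D * (z : Matrix (Fin n) (Fin n) L).map σ := by
      rw [Units.val_mul, IsUnit.unit_spec, Matrix.map_mul, hDσ]
    rw [this, hzσ, ← mul_assoc D]
    conv_rhs => rw [show D * (z : Matrix (Fin n) (Fin n) L) = ((hD.unit * z : GL (Fin n) L) : Matrix (Fin n) (Fin n) L) from rfl]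
    rw [Units.inv_mul_cancel_left]

end Groth.Agent.S13186
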