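import Groth.Statements.S13188
import Groth.Agent.GrpCohLib.Card

set_option autoImplicit false
universe u v w
open Brauer

namespace Groth.Agent.S13188

/-- Let K be a field with property C_2 for systems of forms and D a finite-dimensional central division
algebra over K with dim_K D = d². Let N : D → K be multiplicative, a reduced norm of D over K, and
given in the coordinates of a K-basis b of D by a homogeneous polynomial F of degree d, i.e. N(Σ x_i
b_i) = F(x) for every coordinate vector x (the reduced norm of a central simple algebra of dimension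
d² is such a polynomial map of degree d; these data record it). Then N : D → K is surjective. -/
theorem result (K : Type u) [Field K] (hK : Curves.IsCi K 2)
    (D : Type v) [DivisionRing D] [Algebra K D] [Algebra.IsCentral K D] [FiniteDimensional K D]
    (d : ℕ) (hd : Module.finrank K D = d ^ 2)
    (N : D →* K) (hN : CSAGal.IsRedNorm K D N)
    {ι : Type w} [Fintype ι] (b : Module.Basis ι K D)
    (F : MvPolynomial ι K) (hF : F.IsHomogeneous d)
    (hNF : ∀ x : ι → K, N (∑ i, x i • b i) = MvPolynomial.eval x F) :
    Function.Surjective N := by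
  classical
  intro a
  have hd0 : 0 < d := Nat.pos_of_ne_zero fun h => by
    rw [h] at hd
    exact (Module.finrank_pos (R := K) (M := D)).ne' (hd.trans (by simp))
  have hcard : Fintype.card ι = d ^ 2 := by rw [← Module.finrank_eq_card_basis b, hd]
  let e : Option ι ≃ Fin (d ^ 2 + 1) := Fintype.equivOfCardEq (by simp [hcard])
  let Gp : MvPolynomial (Fin (d ^ 2 + 1)) K :=
    MvPolynomial.rename (fun i => e (some i)) F - MvPolynomial.C a * MvPolynomial.X (e none) ^ d
  have hG : Gp.IsHomogeneous d :=
    hF.rename_isHomogeneous.sub ((MvPolynomial.isHomogeneous_X_pow (e none) d).C_mul a)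
  obtain ⟨z, hz0, hz⟩ := hK 1 (d ^ 2 + 1) (fun _ => Gp) (fun _ => d) (fun _ => hG) (fun _ => hd0) (by simp)
  have h := hz 0
  simp only [Gp, map_sub, map_mul, map_pow, MvPolynomial.eval_C, MvPolynomial.eval_X,
    MvPolynomial.eval_rename, sub_eq_zero] at h
  let x : ι → K := fun i => z (e (some i))
  have hx : MvPolynomial.eval x F = a * z (e none) ^ d := h
  have hsmul : ∀ r : K, MvPolynomial.eval (fun i => r * x i) F = r ^ d * MvPolynomial.eval x F := fun r => by
    rw [MvPolynomial.eval_eq, MvPolynomial.eval_eq, Finset.mul_sum]
    refine Finset.sum_congr rfl fun m hm => ?_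
    have hdeg : ∑ i ∈ m.support, m i = d := by
      have := hF (MvPolynomial.mem_support_iff.1 hm)
      simpa [Finsupp.weight_apply, Finsupp.sum] using this
    simp only [mul_pow, Finset.prod_mul_distrib, Finset.prod_pow_eq_pow_sum, hdeg]
    ring
  by_cases ht : z (e none) = 0
  · exfalso
    rw [ht, zero_pow hd0.ne', mul_zero, ← hNF] at hx
    have hy : ∑ i, x i • b i = 0 := by
      by_contra hne
      exact ((isUnit_iff_ne_zero.2 hne).map N).ne_zero hx
    have hx0 : ∀ i, x i = 0 := Fintype.linearIndependent_iff.1 b.linearIndependent x hy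
    apply hz0
    funext j
    obtain ⟨j, rfl⟩ := e.surjective j
    cases j with
    | none => exact ht
    | some i => exact hx0 i
  · refine ⟨∑ i, ((z (e none))⁻¹ * x i) • b i, ?_⟩
    rw [hNF, hsmul, hx, inv_pow, mul_comm a, inv_mul_cancel_left₀ (pow_ne_zero _ ht)]

end Groth.Agent.S13188
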