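import Groth.Statements.S13189
import Mathlib.Combinatorics.Nullstellensatz
import Mathlib.FieldTheory.Finite.Basic
import Mathlib.Algebra.Polynomial.Roots
-- import your own Groth.Agent.* helpers here

set_option autoImplicit false
universe u
open CAlg

namespace Groth.Agent.S13189

/-- For a finite field K of cardinality q and n ≥ 0, a polynomial p in n variables over K vanishes at
every point of K^n if and only if p belongs to the ideal generated by the X_i^q − X_i, i = 1, …, n;
in other words that ideal is the kernel of the evaluation homomorphism from K[X_1, …, X_n] to the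
ring of K-valued functions on K^n. -/
theorem result (K : Type u) [Field K] [Fintype K]
    (n : ℕ) (p : MvPolynomial (Fin n) K) :
    (∀ a : Fin n → K, MvPolynomial.eval a p = 0) ↔
      p ∈ Ideal.span (Set.range fun i : Fin n =>
        (MvPolynomial.X i ^ Fintype.card K - MvPolynomial.X i : MvPolynomial (Fin n) K)) := by
  classical
  have hprod : ∀ i : Fin n, ∏ r ∈ (Finset.univ : Finset K), (MvPolynomial.X i - MvPolynomial.C r) =
      (MvPolynomial.X i ^ Fintype.card K - MvPolynomial.X i : MvPolynomial (Fin n) K) := by
    intro i
    have h := Polynomial.prod_multiset_X_sub_C_of_monic_of_roots_card_eq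
      (p := (Polynomial.X ^ Fintype.card K - Polynomial.X : Polynomial K))
      (Polynomial.monic_X_pow_sub (by rw [Polynomial.degree_X]; exact_mod_cast Fintype.one_lt_card))
      (by rw [FiniteField.roots_X_pow_card_sub_X, FiniteField.X_pow_card_sub_X_natDegree_eq K Fintype.one_lt_card]; simp)
    rw [FiniteField.roots_X_pow_card_sub_X] at h
    have h2 := congr_arg (Polynomial.aeval (MvPolynomial.X i : MvPolynomial (Fin n) K)) h
    rw [← Finset.prod_eq_multiset_prod, map_prod] at h2
    simpa using h2
  constructor
  · intro h
    obtain ⟨c, -, hc⟩ := MvPolynomial.combinatorial_nullstellensatz_exists_linearCombination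
      (fun _ : Fin n => (Finset.univ : Finset K)) (fun _ => Finset.univ_nonempty) p (fun x _ => h x)
    rw [hc, Finsupp.linearCombination_apply]
    refine Submodule.finsuppSum_mem _ _ _ _ fun i _ => Submodule.smul_mem _ _ ?_
    exact Ideal.subset_span ⟨i, (hprod i).symm⟩
  · intro hp a
    suffices Ideal.span _ ≤ RingHom.ker (MvPolynomial.eval a) from this hp
    rw [Ideal.span_le]
    rintro _ ⟨i, rfl⟩
    simp [RingHom.mem_ker, FiniteField.pow_card]

end Groth.Agent.S13189
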