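import Groth.Statements.S13191
import Groth.Agent.GalDescLib.H1Seq

set_option autoImplicit false
universe u v w x
open GalCoh

namespace Groth.Agent.S13191

/-- Let a group G act by automorphisms on a group A, and let E and E' each be a G-equivariant right
A-torsor (a set with a simply transitive right action of A, written m ↦ m·a, and a left action of G
with g(m·a) = (gm)·(ga)). Let m ∈ E and m' ∈ E' be points with attached maps a, a' : G → A (g·m =
m·a(g) and g·m' = m'·a'(g) for all g). Then there is a bijection E ≃ E' commuting with the actions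
of G and of A if and only if a and a' are cohomologous. (The published statement is for a Galois
group acting on discrete modules; this row takes an arbitrary group acting on a group.) -/
theorem result {G : Type u} {A : Type v} {E : Type w} {E' : Type x}
    [Group G] [Group A] [MulDistribMulAction G A]
    [MulAction G E] [MulAction Aᵐᵒᵖ E]
    (hfree : ∀ m₁ m₂ : E, ∃! a : A, m₂ = MulOpposite.op a • m₁)
    (hcompat : ∀ (g : G) (a : A) (m : E), g • (MulOpposite.op a • m) = MulOpposite.op (g • a) • g • m)
    [MulAction G E'] [MulAction Aᵐᵒᵖ E']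
    (hfree' : ∀ m₁ m₂ : E', ∃! a : A, m₂ = MulOpposite.op a • m₁)
    (hcompat' : ∀ (g : G) (a : A) (m : E'), g • (MulOpposite.op a • m) = MulOpposite.op (g • a) • g • m)
    (m : E) (a : G → A) (ha : ∀ g : G, g • m = MulOpposite.op (a g) • m)
    (m' : E') (a' : G → A) (ha' : ∀ g : G, g • m' = MulOpposite.op (a' g) • m') :
    (∃ f : E ≃ E', (∀ (g : G) (e : E), f (g • e) = g • f e) ∧
        ∀ (b : A) (e : E), f (MulOpposite.op b • e) = MulOpposite.op b • f e) ↔
      GpH1.Cohomologous a a' := by
  constructor
  · rintro ⟨f, hf, hfb⟩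
    obtain ⟨c, hc, -⟩ := hfree' m' (f m)
    refine ⟨c, fun g => ?_⟩
    obtain ⟨-, -, huniq⟩ := hfree' m' (g • f m)
    have h1 : g • f m = MulOpposite.op (c * a g) • m' := by
      rw [← hf, ha, hfb, hc, smul_smul, ← MulOpposite.op_mul]
    have h2 : g • f m = MulOpposite.op (a' g * g • c) • m' := by
      rw [hc, hcompat', ha', smul_smul, ← MulOpposite.op_mul]
    obtain ⟨d, -, hd⟩ := hfree' m' (g • f m)
    have h3 : c * a g = a' g * g • c := (hd _ h1).trans (hd _ h2).symm
    rw [mul_assoc, ← h3, inv_mul_cancel_left]
  · rintro ⟨c, hc⟩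
    choose b hb hbu using fun e => hfree m e
    choose b' hb' hbu' using fun e => hfree' m' e
    let F : E → E' := fun e => MulOpposite.op (c * b e) • m'
    let F' : E' → E := fun e => MulOpposite.op (c⁻¹ * b' e) • m
    have hF : ∀ x, F (MulOpposite.op x • m) = MulOpposite.op (c * x) • m' := fun x => by
      change MulOpposite.op (c * b _) • m' = _
      rw [← hbu (MulOpposite.op x • m) x rfl]
    refine ⟨⟨F, F', fun e => ?_, fun e => ?_⟩, fun g e => ?_, fun x e => ?_⟩
    · change MulOpposite.op (c⁻¹ * b' (F e)) • m = e
      rw [← hbu' (F e) (c * b e) rfl, inv_mul_cancel_left, ← hb e]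
    · change F (F' e) = e
      rw [hF, mul_inv_cancel_left, ← hb' e]
    · change F (g • e) = g • F e
      conv_lhs => rw [hb e, hcompat, ha, smul_smul, ← MulOpposite.op_mul, hF, hc]
      change _ = g • (MulOpposite.op (c * b e) • m')
      rw [hcompat', ha', smul_smul, ← MulOpposite.op_mul, smul_mul']
      congr 2
      group
    · change F (MulOpposite.op x • e) = MulOpposite.op x • F e
      conv_lhs => rw [hb e, smul_smul, ← MulOpposite.op_mul, hF]
      change _ = MulOpposite.op x • (MulOpposite.op (c * b e) • m')
      rw [smul_smul, ← MulOpposite.op_mul, mul_assoc]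

end Groth.Agent.S13191
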