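import Groth.Statements.S13200
import Groth.Agent.S2811
import Groth.Agent.S4754
import Groth.Agent.S0600
import Groth.Agent.NorLocLib.Basic
import Groth.Agent.HensFormalLib.Apps
import Groth.Agent.GeomRedFibLib.CplQuot
-- import your own Groth.Agent.* helpers here

set_option autoImplicit false
set_option linter.style.haveILetI false
universe u
open Hensel

namespace Groth.Agent.S13200

/-- Let R be an excellent local ring which is strictly henselian (henselian with separably closed
residue field), and let R^ denote its completion at the maximal ideal. An element Δ of R is a prime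
element of R exactly when its image in R^ is a prime element of R^. -/
theorem result
    (R : Type u) [CommRing R] [HenselianLocalRing R] [IsSepClosed (IsLocalRing.ResidueField R)]
    (hR : EGA4.IsExcellent R) (Δ : R) :
    Prime Δ ↔ Prime (algebraMap R (AdicCompletion (IsLocalRing.maximalIdeal R) R) Δ) := by
  obtain ⟨hN, -, hG, -⟩ := hR
  haveI := hN
  open TensorProduct in
  have hgn : EGA4.HasGeomNormalFormalFibres R := by
    intro p _ k' _ _ hk
    haveI : IsRegularRing (k' ⊗[p.ResidueField] EGA4.formalFibre R p) :=
      ((Groth.Agent.S0600.result R hG (IsLocalRing.maximalIdeal R)).2 p).2 k' hk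
    exact NorLocLib.isNormalRing_of_isRegularRing _
  haveI : Module.FaithfullyFlat R (EGA4.Cpl R) := GeomRedFibLib.faithfullyFlat_hat R
  have hinj : Function.Injective (algebraMap R (EGA4.Cpl R)) := FaithfulSMul.algebraMap_injective R (EGA4.Cpl R)
  have hspan : (Ideal.span {Δ}).map (algebraMap R (EGA4.Cpl R)) = Ideal.span {algebraMap R (EGA4.Cpl R) Δ} := by
    rw [Ideal.map_span, Set.image_singleton]
  constructor
  · intro hp
    have hne := hp.ne_zero
    refine (Ideal.span_singleton_prime (fun h => hne (hinj (h.trans (map_zero _).symm)))).1 ?_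
    rw [← hspan]
    haveI := (Ideal.span_singleton_prime hne).2 hp
    haveI : IsDomain (R ⧸ Ideal.span {Δ}) := Ideal.Quotient.isDomain _
    haveI : Algebra.IsIntegral R (R ⧸ Ideal.span {Δ}) :=
      Algebra.isIntegral_of_surjective Ideal.Quotient.mk_surjective
    obtain ⟨_, _⟩ := HensFormalLib.henselian_of_integral_domain R (R ⧸ Ideal.span {Δ})
    haveI : IsDomain (EGA4.Cpl (R ⧸ Ideal.span {Δ})) :=
      Groth.Agent.S2811.result _ (Groth.Agent.S4754.result R hgn _)
    obtain ⟨e⟩ := GeomRedFibLib.exists_cplSurjEquiv R (R ⧸ Ideal.span {Δ}) Ideal.Quotient.mk_surjective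
    refine (Ideal.Quotient.isDomain_iff_prime _).1 ?_
    exact MulEquiv.isDomain _ ((Algebra.TensorProduct.quotIdealMapEquivTensorQuot (EGA4.Cpl R) (Ideal.span {Δ})).toRingEquiv.trans
      ((Algebra.TensorProduct.comm R (EGA4.Cpl R) _).toRingEquiv.trans e.toRingEquiv)).toMulEquiv
  · intro hp
    have hne : Δ ≠ 0 := fun h => hp.ne_zero (by rw [h, map_zero])
    refine (Ideal.span_singleton_prime hne).1 ?_
    have h1 := (Ideal.span_singleton_prime hp.ne_zero).2 hp
    rw [← hspan] at h1
    rw [← Ideal.comap_map_eq_self_of_faithfullyFlat (B := EGA4.Cpl R) (Ideal.span {Δ})]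
    exact h1.comap _

end Groth.Agent.S13200
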