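import Groth.Statements.S13201
import Groth.Agent.NodeUFDLib.Main
import Groth.Agent.NodeUFDLib.Equiv
import Groth.Agent.ArtLib.Power

set_option autoImplicit false
universe u
open CAlg

namespace Groth.Agent.S13201

open IsLocalRing

theorem prime_C_of_prime {R : Type u} [CommRing R] {Δ : R} (hΔ : Prime Δ) :
    Prime (PowerSeries.C Δ : PowerSeries R) := by
  haveI : (Ideal.span {Δ}).IsPrime := (Ideal.span_singleton_prime hΔ.ne_zero).2 hΔ
  have hdvd : ∀ f : PowerSeries R, PowerSeries.C Δ ∣ f ↔ PowerSeries.map (Ideal.Quotient.mk (Ideal.span {Δ})) f = 0 := by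
    intro f
    simp only [PowerSeries.ext_iff, PowerSeries.coeff_map, map_zero, Ideal.Quotient.eq_zero_iff_mem,
      Ideal.mem_span_singleton]
    constructor
    · rintro ⟨g, rfl⟩ i
      exact ⟨PowerSeries.coeff i g, PowerSeries.coeff_C_mul _ _ _⟩
    · intro h
      choose g hg using h
      exact ⟨PowerSeries.mk g, PowerSeries.ext fun i => by rw [PowerSeries.coeff_C_mul, PowerSeries.coeff_mk, ← hg i]⟩
  refine ⟨fun h => hΔ.ne_zero (by simpa using congrArg PowerSeries.constantCoeff h), fun h =>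
    hΔ.not_isUnit (by simpa using h.map PowerSeries.constantCoeff), fun a b hab => ?_⟩
  rw [hdvd, map_mul, mul_eq_zero] at hab
  rwa [hdvd, hdvd]

theorem node_iff (R : Type u) [CommRing R] [IsRegularLocalRing R] [IsAdicComplete (maximalIdeal R) R]
    (Δ : R) (hΔ : Δ ∈ maximalIdeal R) :
    (IsDomain (NodeUFDLib.N Δ) ∧ UniqueFactorizationMonoid (NodeUFDLib.N Δ)) ↔ Prime Δ := by
  haveI : IsDomain R := CommAlgDim.isDomain_of_isRegularLocalRing R
  have hnu : ¬ IsUnit Δ := hΔ
  constructor
  · rintro ⟨hd, hufd⟩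
    haveI := hd
    haveI := hufd
    have hu : Prime (NodeUFDLib.gu Δ) := (NodeUFDLib.gu_irreducible Δ hΔ).prime
    have hne : Δ ≠ 0 := by
      rintro rfl
      have h := NodeUFDLib.gu_mul_gv (0 : R)
      rw [map_zero, map_zero, mul_eq_zero, or_iff_right hu.ne_zero] at h
      have h2 := congrArg (NodeUFDLib.br0 (0 : R) hΔ) h
      rw [NodeUFDLib.br0_gv, map_zero] at h2
      exact PowerSeries.X_ne_zero h2
    refine ⟨hne, hnu, fun a b hab => ?_⟩
    have key : ∀ c : R, NodeUFDLib.gu Δ ∣ NodeUFDLib.ofD Δ (PowerSeries.C c) ↔ Δ ∣ c := by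
      intro c
      have h := NodeUFDLib.gu_dvd_rep Δ (PowerSeries.C c) 0
      rw [map_zero, zero_mul, add_zero] at h
      rw [h]
      exact ⟨fun hh => by simpa using map_dvd PowerSeries.constantCoeff hh, fun hh => map_dvd _ hh⟩
    rw [← key a, ← key b]
    refine hu.dvd_or_dvd ?_
    rw [← map_mul, ← map_mul, key]
    exact hab
  · intro hP
    have hC := prime_C_of_prime hP
    haveI : IsRegularRing R := CommAlgDim.isRegularRing_of_isRegularLocalRing R
    haveI := CommAlgDim.isRegularRing_powerSeries (R := R)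
    haveI : IsRegularLocalRing (PowerSeries R) := IsRegularLocalRing.of_isRegularRing_of_isLocalRing _
    haveI := RegUFDLib.uniqueFactorizationMonoid (PowerSeries R)
    haveI := NodeUFDLib.isDomain Δ hnu hC
    exact ⟨inferInstance, NodeUFDLib.ufd Δ hΔ hC⟩

open MvPowerSeries in
/-- Let R be a complete regular local ring and Δ an element of the maximal ideal of R. The quotient of
the power series ring R[[u,v]] in two variables by the ideal generated by uv − Δ is an integral
domain with unique factorization exactly when Δ is a prime element of R. -/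
theorem result
    (R : Type u) [CommRing R] [IsRegularLocalRing R] [IsAdicComplete (IsLocalRing.maximalIdeal R) R]
    (Δ : R) (hΔ : Δ ∈ IsLocalRing.maximalIdeal R) :
    (IsDomain (MvPowerSeries (Fin 2) R ⧸ Ideal.span {(X 0 * X 1 - C Δ : MvPowerSeries (Fin 2) R)}) ∧
      UniqueFactorizationMonoid (MvPowerSeries (Fin 2) R ⧸ Ideal.span {(X 0 * X 1 - C Δ : MvPowerSeries (Fin 2) R)}))
      ↔ Prime Δ := by
  let e₁ := (MvPowerSeries.renameEquiv R (Equiv.ofUnique (Fin 1) Unit)).toRingEquiv
  haveI := ArtLib.isAdicComplete_ps (Λ := R) 1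
  haveI : IsAdicComplete (IsLocalRing.maximalIdeal (PowerSeries R)) (PowerSeries R) := by
    have h := NodeUFDLib.isAdicComplete_of_equiv e₁ (IsLocalRing.maximalIdeal (MvPowerSeries (Fin 1) R))
    have hm : (IsLocalRing.maximalIdeal (MvPowerSeries (Fin 1) R)).map (e₁ : MvPowerSeries (Fin 1) R →+* PowerSeries R) =
        IsLocalRing.maximalIdeal (PowerSeries R) :=
      IsLocalRing.eq_maximalIdeal (Ideal.map_isMaximal_of_equiv e₁)
    exact hm ▸ h
  obtain ⟨e⟩ := NodeUFDLib.exists_equiv Δ hΔ
  rw [← node_iff R Δ hΔ]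
  constructor
  · rintro ⟨h1, h2⟩
    haveI : IsDomain (NodeUFDLib.N Δ) := e.toMulEquiv.isDomain_iff.1 h1
    exact ⟨inferInstance, e.toMulEquiv.uniqueFactorizationMonoid h2⟩
  · rintro ⟨h1, h2⟩
    haveI := e.toMulEquiv.isDomain_iff.2 h1
    exact ⟨inferInstance, e.symm.toMulEquiv.uniqueFactorizationMonoid h2⟩


end Groth.Agent.S13201
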