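import Groth.Statements.S17730
import Groth.Agent.HenselBranchLib.SHQuot
import Groth.Agent.S2750
import Groth.Agent.S0539
import Groth.Agent.HensFormalLib.Apps
-- import your own Groth.Agent.* helpers here

set_option autoImplicit false
set_option linter.style.haveILetI false
set_option maxHeartbeats 1000000
universe u
open Hensel

namespace Groth.Agent.S17730

open IsLocalRing in
/-- Let R be a Noetherian local ring which is strictly henselian (henselian with separably closed
residue field), Δ a prime element of R, R' a smooth R-algebra, q a prime ideal of R' containing the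
image of the maximal ideal of R, and T a strict henselization of the localization R'_q. Then the
image of Δ in T is a prime element of T. (This is the published statement, that a prime element of
the étale local ring of the base at a geometric point remains prime in the étale local ring of a
smooth scheme over it at a geometric point above, written for the base the spectrum of R; the
published hypothesis that the base be smooth-factorial, meaning that all its smooth schemes are
locally factorial, is not used by the argument and is omitted; R is taken Noetherian, which the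
published statement does not state and the argument requires.) -/
theorem result
    (R R' T : Type u) [CommRing R] [IsNoetherianRing R] [HenselianLocalRing R]
    [IsSepClosed (ResidueField R)]
    [CommRing R'] [Algebra R R'] [Algebra.Smooth R R']
    (q : Ideal R') [q.IsPrime] (hq : (maximalIdeal R).map (algebraMap R R') ≤ q)
    [CommRing T] [IsLocalRing T] [Algebra (Localization.AtPrime q) T]
    [IsLocalHom (algebraMap (Localization.AtPrime q) T)]
    [Hensel.IsStrictHenselization (Localization.AtPrime q) T]
    (Δ : R) (hΔ : Prime Δ) :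
    Prime (algebraMap (Localization.AtPrime q) T
      (algebraMap R' (Localization.AtPrime q) (algebraMap R R' Δ))) := by
  open IsLocalRing in
  let A := Localization.AtPrime q
  set J : Ideal R := Ideal.span {Δ} with hJ
  haveI hJp : J.IsPrime := (Ideal.span_singleton_prime hΔ.ne_zero).2 hΔ
  have hΔm : Δ ∈ IsLocalRing.maximalIdeal R := hΔ.not_unit
  have hJle : J ≤ IsLocalRing.maximalIdeal R := (Ideal.span_singleton_le_iff_mem _).2 hΔm
  haveI : IsDomain (R ⧸ J) := Ideal.Quotient.isDomain J
  haveI : Algebra.IsIntegral R (R ⧸ J) := Algebra.isIntegral_of_surjective Ideal.Quotient.mk_surjective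
  obtain ⟨_, _⟩ := HensFormalLib.henselian_of_integral_domain R (R ⧸ J)
  haveI : IsSepClosed (IsLocalRing.ResidueField (R ⧸ J)) := (HensFormalLib.sepClosed_residue R (R ⧸ J)).1
  let J' : Ideal R' := J.map (algebraMap R R')
  have hJ'q : J' ≤ q := (Ideal.map_mono hJle).trans hq
  haveI : Algebra.Smooth (R ⧸ J) (R' ⧸ J') :=
    Algebra.Smooth.of_equiv (Algebra.TensorProduct.quotIdealMapEquivQuotTensor R' J).symm
  let q'' : Ideal (R' ⧸ J') := q.map (Ideal.Quotient.mk J')
  haveI hq''p : q''.IsPrime := Ideal.map_isPrime_of_surjective Ideal.Quotient.mk_surjective (by rwa [Ideal.mk_ker])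
  have hqc : q''.comap (Ideal.Quotient.mk J') = q := by
    rw [Ideal.comap_map_of_surjective _ Ideal.Quotient.mk_surjective, ← RingHom.ker_eq_comap_bot, Ideal.mk_ker,
      sup_eq_left.2 hJ'q]
  have hq'' : (IsLocalRing.maximalIdeal (R ⧸ J)).map (algebraMap (R ⧸ J) (R' ⧸ J')) ≤ q'' := by
    refine Ideal.map_le_iff_le_comap.2 fun x hx => ?_
    obtain ⟨r, rfl⟩ := Ideal.Quotient.mk_surjective x
    have hr : r ∈ IsLocalRing.maximalIdeal R := fun hu => hx (hu.map _)
    exact Ideal.mem_map_of_mem _ (hq (Ideal.mem_map_of_mem _ hr))
  obtain ⟨hdom, hgu⟩ := HensFormalLib.geomUnibranch_of_smooth (R ⧸ J) (R' ⧸ J') q'' hq''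
  let JA : Ideal A := J'.map (algebraMap R' A)
  have hJA : JA ≤ IsLocalRing.maximalIdeal A := by
    refine (Ideal.map_mono hJ'q).trans (le_of_eq ?_)
    exact Localization.AtPrime.map_eq_maximalIdeal
  obtain ⟨hA', hT', hl', hSH⟩ := HenselBranchLib.isStrictHenselization_quot A T JA hJA
  haveI := hA'
  haveI := hT'
  haveI := hl'
  haveI := hSH
  have hM : Algebra.algebraMapSubmonoid (R' ⧸ J') q.primeCompl = q''.primeCompl := by
    ext y
    constructor
    · rintro ⟨x, hx, rfl⟩ hc
      exact hx (hqc.le (Ideal.mem_comap.2 hc))
    · intro hy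
      obtain ⟨x, rfl⟩ := Ideal.Quotient.mk_surjective y
      exact ⟨x, fun hx => hy (Ideal.mem_map_of_mem _ hx), rfl⟩
  haveI : IsLocalization q''.primeCompl (A ⧸ JA) := hM ▸ (inferInstance :
    IsLocalization (Algebra.algebraMapSubmonoid (R' ⧸ J') q.primeCompl) (A ⧸ J'.map (algebraMap R' A)))
  let e : Localization.AtPrime q'' ≃+* (A ⧸ JA) :=
    (IsLocalization.algEquiv q''.primeCompl (Localization.AtPrime q'') (A ⧸ JA)).toRingEquiv
  haveI : IsDomain (A ⧸ JA) := e.symm.toMulEquiv.isDomain _
  haveI hdT : IsDomain (T ⧸ JA.map (algebraMap A T)) :=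
    (Groth.Agent.S2750.result (A ⧸ JA) _).1
      ⟨inferInstance, HensFormalLib.isGeomUnibranch_of_ringEquiv _ _ e hgu⟩
  have hprime : (JA.map (algebraMap A T)).IsPrime := (Ideal.Quotient.isDomain_iff_prime _).1 hdT
  have hspan : JA.map (algebraMap A T) =
      Ideal.span {algebraMap A T (algebraMap R' A (algebraMap R R' Δ))} := by
    simp only [JA, J', hJ, Ideal.map_span, Set.image_singleton]
  haveI : Module.Flat R A := Module.Flat.trans R R' A
  haveI : IsLocalHom (algebraMap R A) := ((IsLocalRing.local_hom_TFAE _).out 0 2).2 (by
    refine Ideal.map_le_iff_le_comap.2 fun r hr => ?_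
    rw [Ideal.mem_comap, IsScalarTower.algebraMap_apply R R' A, IsLocalization.AtPrime.to_map_mem_maximal_iff A q]
    exact hq (Ideal.mem_map_of_mem _ hr))
  haveI : Module.FaithfullyFlat R A := Module.FaithfullyFlat.of_flat_of_isLocalHom
  haveI : Module.FaithfullyFlat A T := Groth.Agent.S0539.result A T
  have hne : algebraMap A T (algebraMap R' A (algebraMap R R' Δ)) ≠ 0 := by
    intro h
    rw [← IsScalarTower.algebraMap_apply R R' A] at h
    exact hΔ.ne_zero (FaithfulSMul.algebraMap_injective R A
      ((FaithfulSMul.algebraMap_injective A T (h.trans (map_zero _).symm)).trans (map_zero _).symm))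
  exact (Ideal.span_singleton_prime hne).1 (hspan ▸ hprime)

end Groth.Agent.S17730
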