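import Groth.Statements.S13202
import Groth.Agent.S0537
import Groth.Agent.S0540
import Groth.Agent.S9460
import Groth.Agent.S17730
import Mathlib

set_option autoImplicit false
set_option backward.isDefEq.respectTransparency false
set_option backward.isDefEq.respectTransparency.types false
set_option maxHeartbeats 1000000
universe u
open Hensel

namespace Groth.Agent.S13202

open IsLocalRing
open scoped TensorProduct
/-- Maps of strict henselizations exist. -/
theorem exists_sh_map {A T₀ B T : Type u} [CommRing A] [IsLocalRing A] [CommRing T₀] [IsLocalRing T₀] [Algebra A T₀]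
    [IsLocalHom (algebraMap A T₀)] [Hensel.IsStrictHenselization A T₀] [CommRing B] [IsLocalRing B] [CommRing T]
    [IsLocalRing T] [Algebra B T] [IsLocalHom (algebraMap B T)] [Hensel.IsStrictHenselization B T]
    (f : A →+* B) [IsLocalHom f] :
    ∃ g : T₀ →+* T, g.comp (algebraMap A T₀) = (algebraMap B T).comp f ∧ IsLocalHom g := by
  haveI : HenselianLocalRing T := Hensel.IsStrictHenselization.henselian B
  haveI : IsLocalHom ((algebraMap B T).comp f) := RingHom.isLocalHom_comp _ _
  haveI hs0 : IsSepClosure (ResidueField A) (ResidueField T₀) := Hensel.IsStrictHenselization.isSepClosure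
  haveI hs : IsSepClosure (ResidueField B) (ResidueField T) := Hensel.IsStrictHenselization.isSepClosure
  haveI : IsSepClosed (ResidueField T) := IsSepClosure.sep_closed (ResidueField B)
  haveI : Algebra.IsSeparable (ResidueField A) (ResidueField T₀) := IsSepClosure.separable
  letI : Algebra (ResidueField A) (ResidueField T) := (ResidueField.map ((algebraMap B T).comp f)).toAlgebra
  let τ : ResidueField T₀ →ₐ[ResidueField A] ResidueField T := IsSepClosed.lift
  obtain ⟨g, ⟨hg, hgr⟩, -⟩ := Hensel.IsStrictHenselization.universal (R := A) (S := T₀) T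
    ((algebraMap B T).comp f) τ.toRingHom τ.comp_algebraMap
  refine ⟨g, hg, ⟨fun x hx => ?_⟩⟩
  by_contra hne
  have h0 : residue T₀ x = 0 := (residue_eq_zero_iff x).mpr ((mem_maximalIdeal x).mpr hne)
  have h1 := hgr x
  rw [h0, map_zero, residue_eq_zero_iff] at h1
  exact (mem_maximalIdeal _).mp h1 hx

theorem forward (R : Type u) [CommRing R] [IsNoetherianRing R] (Δ : R)
    (h : ∀ (p : Ideal R) [p.IsPrime], Δ ∈ p →
        ∀ (T : Type u) [CommRing T] [IsLocalRing T] [Algebra (Localization.AtPrime p) T]
          [IsLocalHom (algebraMap (Localization.AtPrime p) T)]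
          [Hensel.IsStrictHenselization (Localization.AtPrime p) T],
          Prime (algebraMap (Localization.AtPrime p) T (algebraMap R (Localization.AtPrime p) Δ)))
    (R' : Type u) [CommRing R'] [Algebra R R'] [Algebra.Smooth R R'] (q : Ideal R') [q.IsPrime]
    (hΔ : algebraMap R R' Δ ∈ q)
    (T : Type u) [CommRing T] [IsLocalRing T] [Algebra (Localization.AtPrime q) T]
    [IsLocalHom (algebraMap (Localization.AtPrime q) T)]
    [Hensel.IsStrictHenselization (Localization.AtPrime q) T] :
    Prime (algebraMap (Localization.AtPrime q) T (algebraMap R' (Localization.AtPrime q) (algebraMap R R' Δ))) := by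
  let p := q.comap (algebraMap R R')
  haveI : q.LiesOver p := ⟨rfl⟩
  obtain ⟨T₀, _, _, _, _, _⟩ := Groth.Agent.S0537.result (Localization.AtPrime p)
  have hprime := h p hΔ T₀
  haveI : IsNoetherianRing T₀ := (Groth.Agent.S0540.result (Localization.AtPrime p) T₀).mp inferInstance
  haveI : HenselianLocalRing T₀ := Hensel.IsStrictHenselization.henselian (Localization.AtPrime p)
  haveI : IsSepClosure (ResidueField (Localization.AtPrime p)) (ResidueField T₀) := Hensel.IsStrictHenselization.isSepClosure
  haveI : IsSepClosed (ResidueField T₀) := IsSepClosure.sep_closed (ResidueField (Localization.AtPrime p))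
  let f := Localization.localRingHom p q (algebraMap R R') rfl
  haveI : IsLocalHom f := Localization.isLocalHom_localRingHom p q (algebraMap R R') rfl
  obtain ⟨g, hg, hgl⟩ := exists_sh_map (T₀ := T₀) (T := T) f
  letI : Algebra R T₀ := ((algebraMap (Localization.AtPrime p) T₀).comp (algebraMap R _)).toAlgebra
  haveI : IsScalarTower R (Localization.AtPrime p) T₀ := IsScalarTower.of_algebraMap_eq' rfl
  letI : Algebra R' T := ((algebraMap (Localization.AtPrime q) T).comp (algebraMap R' _)).toAlgebra
  haveI : IsScalarTower R' (Localization.AtPrime q) T := IsScalarTower.of_algebraMap_eq' rfl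
  letI : Algebra R T := ((algebraMap R' T).comp (algebraMap R R')).toAlgebra
  haveI : IsScalarTower R R' T := IsScalarTower.of_algebraMap_eq' rfl
  letI : Algebra T₀ T := g.toAlgebra
  haveI : IsScalarTower R T₀ T := IsScalarTower.of_algebraMap_eq fun r => by
    show algebraMap (Localization.AtPrime q) T (algebraMap R' _ (algebraMap R R' r)) =
      g (algebraMap (Localization.AtPrime p) T₀ (algebraMap R _ r))
    rw [← RingHom.comp_apply g, hg, RingHom.comp_apply, Localization.localRingHom_to_map]
  let L := Algebra.TensorProduct.lift (IsScalarTower.toAlgHom R T₀ T) (IsScalarTower.toAlgHom R R' T) (fun _ _ => Commute.all _ _)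
  let Q : Ideal (T₀ ⊗[R] R') := Ideal.comap L (maximalIdeal T)
  obtain ⟨E, _, _, _, _, _⟩ := Groth.Agent.S0537.result (Localization.AtPrime Q)
  obtain ⟨e, he⟩ := Groth.Agent.S9460.result R R' p q T₀ T E
  have hq : (maximalIdeal T₀).map (algebraMap T₀ (T₀ ⊗[R] R')) ≤ Q := by
    rw [Ideal.map_le_iff_le_comap]
    intro x hx
    show L (algebraMap T₀ (T₀ ⊗[R] R') x) ∈ maximalIdeal T
    rw [Algebra.TensorProduct.algebraMap_apply, Algebra.algebraMap_self, RingHom.id_apply, Algebra.TensorProduct.lift_tmul,
      map_one, mul_one]
    exact map_nonunit g x hx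
  haveI : Algebra.Smooth T₀ (T₀ ⊗[R] R') := inferInstance
  have hE := Groth.Agent.S17730.result T₀ (T₀ ⊗[R] R') E Q hq _ hprime
  rw [← MulEquiv.prime_iff e.toMulEquiv] at hE
  convert hE using 1
  show _ = e (algebraMap (Localization.AtPrime Q) E (algebraMap (T₀ ⊗[R] R') (Localization.AtPrime Q)
    (algebraMap T₀ (T₀ ⊗[R] R') (algebraMap (Localization.AtPrime p) T₀ (algebraMap R (Localization.AtPrime p) Δ)))))
  rw [he, Algebra.TensorProduct.algebraMap_apply, Algebra.algebraMap_self, RingHom.id_apply, Algebra.TensorProduct.lift_tmul,
    map_one, mul_one]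
  show _ = g (algebraMap (Localization.AtPrime p) T₀ _)
  rw [← RingHom.comp_apply g, hg, RingHom.comp_apply, Localization.localRingHom_to_map]

/-- Let R be a Noetherian regular ring (every localization at a prime ideal is a regular local ring) and
Δ ∈ R. The element Δ is étale-universally prime — meaning that for every prime ideal p of R
containing Δ and every strict henselization T of R_p, the image of Δ in T is a prime element —
exactly when for every smooth R-algebra R', every prime ideal q of R' and every strict henselization
T of R'_q, the image of Δ in T is either invertible or a prime element. (Smooth R-algebras and their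
strict henselizations are taken in the universe of R.) -/
theorem result
    (R : Type u) [CommRing R] [IsNoetherianRing R]
    (hreg : ∀ (p : Ideal R) [p.IsPrime], IsRegularLocalRing (Localization.AtPrime p)) (Δ : R) :
    (∀ (p : Ideal R) [p.IsPrime], Δ ∈ p →
        ∀ (T : Type u) [CommRing T] [IsLocalRing T] [Algebra (Localization.AtPrime p) T]
          [IsLocalHom (algebraMap (Localization.AtPrime p) T)]
          [Hensel.IsStrictHenselization (Localization.AtPrime p) T],
          Prime (algebraMap (Localization.AtPrime p) T (algebraMap R (Localization.AtPrime p) Δ))) ↔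
    (∀ (R' : Type u) [CommRing R'] [Algebra R R'] [Algebra.Smooth R R'] (q : Ideal R') [q.IsPrime]
        (T : Type u) [CommRing T] [IsLocalRing T] [Algebra (Localization.AtPrime q) T]
          [IsLocalHom (algebraMap (Localization.AtPrime q) T)]
          [Hensel.IsStrictHenselization (Localization.AtPrime q) T],
        IsUnit (algebraMap (Localization.AtPrime q) T (algebraMap R' (Localization.AtPrime q) (algebraMap R R' Δ))) ∨
          Prime (algebraMap (Localization.AtPrime q) T (algebraMap R' (Localization.AtPrime q) (algebraMap R R' Δ)))) := by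
  refine ⟨fun h R' _ _ _ q _ T _ _ _ _ _ => ?_, fun h p _ hΔ T _ _ _ _ _ => ?_⟩
  · by_cases hΔ : algebraMap R R' Δ ∈ q
    · exact Or.inr (forward R Δ h R' q hΔ T)
    · exact Or.inl (((IsLocalization.AtPrime.isUnit_to_map_iff (Localization.AtPrime q) q _).mpr hΔ).map _)
  · rcases h R p T with hu | hpr
    · rw [Algebra.algebraMap_self, RingHom.id_apply] at hu
      exact absurd ((IsLocalization.AtPrime.isUnit_to_map_iff (Localization.AtPrime p) p _).mp
        (isUnit_of_map_unit _ _ hu)) (not_not.mpr hΔ)
    · exact hpr

end Groth.Agent.S13202
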