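import Groth.Statements.S13204
import Groth.Agent.DvrDom.Basic
import Mathlib

set_option autoImplicit false
universe u
open Neron

namespace Groth.Agent.S13204

/-- Let R be a strictly henselian Noetherian local unique factorization domain and Δ₁, Δ₂ two non-units
of R with no common prime factor. Then there are a discrete valuation ring A and an injective local
homomorphism f : R → A — so that Spec A → Spec R sends the closed point to the closed point and the
generic point to the generic point, which lies in every dense open subset — such that f(Δ₁) is a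
non-zero non-unit and f(Δ₁) = u · f(Δ₂) for some unit u of A congruent to 1 modulo the maximal
ideal. (The published statement asks for the images of Δ₁ and Δ₂ in A to be equal, with the generic
point of Spec A sent into a given dense open subset of Spec R; that cannot hold in general — for R =
ℂ[[a,b]], Δ₁ = a, Δ₂ = b and the dense open D(a − b), any local map to a discrete valuation ring
identifying a and b sends the generic point into V(a − b) — so this row asks instead for f(Δ₁) = u ·
f(Δ₂) with u a unit congruent to 1 modulo the maximal ideal.) -/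
theorem result
    (R : Type u) [CommRing R] [IsDomain R] [IsNoetherianRing R] [UniqueFactorizationMonoid R]
    [HenselianLocalRing R] [IsSepClosed (IsLocalRing.ResidueField R)]
    (Δ₁ Δ₂ : R) (h₁ : ¬ IsUnit Δ₁) (h₂ : ¬ IsUnit Δ₂) (hcop : IsRelPrime Δ₁ Δ₂) :
    ∃ (A : Type u) (_ : CommRing A) (_ : IsDomain A) (_ : IsDiscreteValuationRing A) (f : R →+* A),
      IsLocalHom f ∧ Function.Injective f ∧ ¬ IsUnit (f Δ₁) ∧
        ∃ u : Aˣ, (u : A) - 1 ∈ IsLocalRing.maximalIdeal A ∧ f Δ₁ = (u : A) * f Δ₂ := by
  classical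
  let K := FractionRing R
  have hΔ : Δ₁ ∈ IsLocalRing.maximalIdeal R ∧ Δ₂ ∈ IsLocalRing.maximalIdeal R := ⟨h₁, h₂⟩
  have hne₂ : Δ₂ ≠ 0 := fun h => h₁ (hcop (dvd_refl Δ₁) (h ▸ dvd_zero Δ₁))
  have hinj : Function.Injective (algebraMap R K) := IsFractionRing.injective R K
  set x : K := algebraMap R K Δ₁ / algebraMap R K Δ₂
  letI : Algebra (Polynomial R) K := (Polynomial.aeval x).toRingHom.toAlgebra
  let π : Polynomial R →+* IsLocalRing.ResidueField R :=
    Polynomial.eval₂RingHom (IsLocalRing.residue R) 1
  let P := RingHom.ker π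
  have : P.IsPrime := RingHom.ker_isPrime π
  set g : Polynomial R := Polynomial.C Δ₂ * Polynomial.X - Polynomial.C Δ₁
  have hgπ : π g = 0 := by
    simp [π, g, (IsLocalRing.residue_eq_zero_iff _).2 hΔ.1, (IsLocalRing.residue_eq_zero_iff _).2 hΔ.2]
  have hgprim : g.IsPrimitive := by
    intro r hr
    rw [Polynomial.C_dvd_iff_dvd_coeff] at hr
    exact hcop (by simpa [g] using hr 0) (by simpa [g] using hr 1)
  have hker : RingHom.ker (algebraMap (Polynomial R) K) ≤ P := fun p hp => by
    have hp' : Polynomial.aeval x p = 0 := hp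
    have hne : algebraMap R K Δ₂ ≠ 0 := fun h => hne₂ ((map_eq_zero_iff _ hinj).1 h)
    have hdvd : g.map (algebraMap R K) ∣ p.map (algebraMap R K) := by
      have h1 : g.map (algebraMap R K) = Polynomial.C (algebraMap R K Δ₂) * (Polynomial.X - Polynomial.C x) := by
        rw [mul_sub, ← Polynomial.C_mul, mul_div_cancel₀ _ hne]; simp [g]
      rw [h1, IsUnit.mul_left_dvd (Polynomial.isUnit_C.2 (isUnit_iff_ne_zero.2 hne)), Polynomial.dvd_iff_isRoot]
      rwa [Polynomial.IsRoot, Polynomial.eval_map, ← Polynomial.aeval_def]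
    obtain ⟨q, rfl⟩ := hgprim.dvd_of_fraction_map_dvd_fraction_map hdvd
    rw [RingHom.mem_ker, map_mul, hgπ, zero_mul]
  obtain ⟨W, hW, hmem, hlt⟩ := DvrDomLib.exists_dvr_dominating (L := K) P hker
    ⟨Polynomial.C Δ₂, by simp [P, π, (IsLocalRing.residue_eq_zero_iff _).2 hΔ.2], by
      show Polynomial.aeval x (Polynomial.C Δ₂) ≠ 0
      rw [Polynomial.aeval_C]; exact fun h => hne₂ ((map_eq_zero_iff _ hinj).1 h)⟩
    ∅ (by
      rw [eq_top_iff]
      rintro z -
      obtain ⟨a, b, -, rfl⟩ := IsFractionRing.div_surjective R z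
      exact div_mem (Subfield.subset_closure (Or.inl ⟨Polynomial.C a, Polynomial.aeval_C x a⟩))
        (Subfield.subset_closure (Or.inl ⟨Polynomial.C b, Polynomial.aeval_C x b⟩)))
  have hR : ∀ r : R, algebraMap R K r ∈ W := fun r => by
    rw [← Polynomial.aeval_C (A := K) x r]; exact hmem _
  let f : R →+* W := RingHom.codRestrict (algebraMap R K) W hR
  have hval : ∀ r : R, W.valuation (algebraMap R K r) < 1 ↔ r ∈ IsLocalRing.maximalIdeal R := fun r => by
    rw [← Polynomial.aeval_C (A := K) x r]
    exact (hlt (Polynomial.C r)).trans (by simp [P, π, IsLocalRing.residue_eq_zero_iff])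
  have hloc : IsLocalHom f := ⟨fun r hr => by
    by_contra h
    exact ((W.valuation_lt_one_iff (f r)).2 ((hval r).2 h)) hr⟩
  have hxW : x ∈ W := by
    have := hmem Polynomial.X
    rwa [show algebraMap (Polynomial R) K Polynomial.X = x from Polynomial.aeval_X x] at this
  have hx1 : W.valuation (x - 1) < 1 := by
    have h : Polynomial.aeval (A := K) x (Polynomial.X - Polynomial.C (1 : R)) = x - 1 := by simp
    rw [← h]
    exact (hlt _).2 (by simp [P, π])
  have hxm : (⟨x, hxW⟩ : W) - 1 ∈ IsLocalRing.maximalIdeal W := (W.valuation_lt_one_iff _).2 hx1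
  have hxu : IsUnit (⟨x, hxW⟩ : W) := by
    by_contra h
    exact (IsLocalRing.maximalIdeal.isMaximal W).ne_top ((Ideal.eq_top_iff_one _).2
      (by simpa using sub_mem (show (⟨x, hxW⟩ : W) ∈ IsLocalRing.maximalIdeal W from h) hxm))
  refine ⟨W, inferInstance, inferInstance, hW, f, hloc, fun a b h => hinj (congrArg Subtype.val h),
    fun h => h₁ (hloc.map_nonunit _ h), hxu.unit, hxm, Subtype.ext ?_⟩
  show algebraMap R K Δ₁ = x * algebraMap R K Δ₂
  rw [div_mul_cancel₀ _ fun h => hne₂ ((map_eq_zero_iff _ hinj).1 h)]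

end Groth.Agent.S13204
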