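import Groth.Statements.S13206


-- import your own Groth.Agent.* helpers here

set_option autoImplicit false
universe u
open CategoryTheory AlgebraicGeometry
open AlgGrp

namespace Groth.Agent.S13206

/-- Let X → S be a separated morphism of schemes and let a finite group G act on X through
S-automorphisms. Then the functor of G-fixed points is represented by a closed subscheme of X: there
are a scheme Z and a closed immersion i : Z → X with i ∘ g = i for all g ∈ G such that every
morphism x : T → X with g ∘ x = x for all g ∈ G factors uniquely through i. (The published statement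
is for an algebraic space X over S, also treats the locally separated case and notes compatibility
with base change; this row is the separated case for schemes.) -/
theorem result
    {X S : Scheme.{u}} (p : X ⟶ S) [IsSeparated p]
    (G : Type u) [Group G] [Finite G] (ρ : G →* Aut X) (hρ : ∀ g : G, (ρ g).hom ≫ p = p) :
    ∃ (Z : Scheme.{u}) (i : Z ⟶ X), IsClosedImmersion i ∧ (∀ g : G, i ≫ (ρ g).hom = i) ∧
      ∀ (T : Scheme.{u}) (x : T ⟶ X), (∀ g : G, x ≫ (ρ g).hom = x) → ∃! z : T ⟶ Z, z ≫ i = x := by
  classical
  haveI := Fintype.ofFinite G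
  have key : ∀ (l : List G), ∃ (Z : Scheme.{u}) (i : Z ⟶ X), IsClosedImmersion i ∧
      ∀ (T : Scheme.{u}) (x : T ⟶ X), (∀ g ∈ l, x ≫ (ρ g).hom = x) ↔ ∃ z : T ⟶ Z, z ≫ i = x := by
    intro l
    induction l with
    | nil => exact ⟨X, 𝟙 X, inferInstance, fun T x => ⟨fun _ => ⟨x, Category.comp_id x⟩, fun _ g hg => by simp at hg⟩⟩
    | cons g l ih =>
      obtain ⟨Z, i, hi, hZ⟩ := ih
      haveI := hi
      let c : X ⟶ Limits.pullback p p := Limits.pullback.lift (ρ g).hom (𝟙 X) (by rw [hρ, Category.id_comp])
      let y := Limits.pullback.fst (i ≫ c) (Limits.pullback.diagonal p)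
      haveI : IsClosedImmersion y := MorphismProperty.pullback_fst _ _ inferInstance
      refine ⟨_, y ≫ i, inferInstance, fun T x => ⟨fun h => ?_, ?_⟩⟩
      · obtain ⟨z, hz⟩ := (hZ T x).1 fun g' hg' => h g' (List.mem_cons_of_mem _ hg')
        refine ⟨Limits.pullback.lift z x ?_, by rw [Limits.pullback.lift_fst_assoc, hz]⟩
        rw [← Category.assoc, hz]
        apply Limits.pullback.hom_ext <;>
          simp only [c, Category.assoc, Limits.pullback.lift_fst, Limits.pullback.lift_snd, Limits.pullback.diagonal_fst, Limits.pullback.diagonal_snd, Category.comp_id, h g List.mem_cons_self]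
      · rintro ⟨w, rfl⟩ g' hg'
        rcases List.mem_cons.1 hg' with rfl | hg'
        · have e : (w ≫ y ≫ i) ≫ c = (w ≫ Limits.pullback.snd _ _) ≫ Limits.pullback.diagonal p := by
            simp only [y, Category.assoc, ← Limits.pullback.condition]
          have e1 := congrArg (· ≫ Limits.pullback.fst p p) e
          have e2 := congrArg (· ≫ Limits.pullback.snd p p) e
          simp only [c, Category.assoc, Limits.pullback.lift_fst, Limits.pullback.lift_snd,
            Limits.pullback.diagonal_fst, Limits.pullback.diagonal_snd, Category.comp_id] at e1 e2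
          simpa only [Category.assoc] using e1.trans e2.symm
        · exact (hZ T (w ≫ y ≫ i)).2 ⟨w ≫ y, Category.assoc _ _ _⟩ g' hg'
  obtain ⟨Z, i, hi, hZ⟩ := key Finset.univ.toList
  haveI := hi
  refine ⟨Z, i, hi, fun g => (hZ Z i).2 ⟨𝟙 Z, Category.id_comp i⟩ g (by simp), fun T x h => ?_⟩
  obtain ⟨z, hz⟩ := (hZ T x).1 fun g _ => h g
  exact ⟨z, hz, fun z' hz' => (cancel_mono i).1 (hz'.trans hz.symm)⟩

end Groth.Agent.S13206
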