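import Groth.Statements.S13207
import Groth.Agent.NeronExtLib.BaseChange
import Mathlib
-- import your own Groth.Agent.* helpers here

set_option autoImplicit false
universe u
open CategoryTheory CategoryTheory.Limits AlgebraicGeometry
open Neron

namespace Groth.Agent.S13207

open CategoryTheory CategoryTheory.Limits AlgebraicGeometry

variable {I : Type u} (B N : I → Scheme.{u}) (f : ∀ i, N i ⟶ B i)

theorem isPullback_sigma (i : I) :
    IsPullback (Limits.Sigma.ι N i) (f i) (Limits.Sigma.map f) (Limits.Sigma.ι B i) := by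
  refine (IsOpenImmersion.isPullback (f i) (Limits.Sigma.ι N i) (Limits.Sigma.ι B i) (Limits.Sigma.map f) (Limits.Sigma.ι_map _ _) ?_).flip
  ext x
  obtain ⟨⟨j, y⟩, rfl⟩ := (sigmaMk N).surjective x
  rw [sigmaMk_mk]
  constructor
  · rintro ⟨b, hb⟩
    have h2 : Limits.Sigma.map f (Limits.Sigma.ι N j y) = Limits.Sigma.ι B j (f j y) := by
      rw [← Scheme.Hom.comp_apply, Limits.Sigma.ι_map, Scheme.Hom.comp_apply]
    by_cases h : i = j
    · subst h; exact ⟨y, rfl⟩
    · exact absurd (disjoint_iff.mp (disjoint_opensRange_sigmaι B i j h))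
        (fun e => (TopologicalSpace.Opens.mem_bot).mp (e ▸ ⟨⟨b, hb⟩, ⟨f j y, h2.symm⟩⟩ :
          Limits.Sigma.map f (Limits.Sigma.ι N j y) ∈ (⊥ : (∐ B).Opens)))
  · rintro ⟨z, hz⟩
    exact ⟨f i z, by
      rw [← hz, ← Scheme.Hom.comp_apply, ← Scheme.Hom.comp_apply]
      exact congrArg (fun t : N i ⟶ ∐ B => t z) (Limits.Sigma.ι_map (fun i => f i) i).symm⟩

/-- Let (S_i)_{i ∈ I} be a family of schemes, (N_i → S_i)_{i ∈ I} morphisms of schemes, S = ∐ S_i and N
= ∐ N_i with the induced morphism N → S, and U ⊆ S a schematically dense open subscheme with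
preimages U_i ⊆ S_i. Then N → S is smooth with the Néron mapping property with respect to U — for
every smooth S-scheme Y, restriction to U is a bijection from S-morphisms Y → N onto U-morphisms Y
×_S U → N ×_S U — if and only if every N_i → S_i is smooth with the Néron mapping property with
respect to U_i. (The published statement is for algebraic spaces N_i tested against smooth algebraic
spaces, and has the same form for separated models; this row is the not-necessarily-separated case
for schemes tested against smooth schemes.) -/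
theorem result
    {I : Type u} (B N : I → Scheme.{u}) (f : ∀ i, N i ⟶ B i)
    (U : (∐ B).Opens) (hU : CInt.IsSchematicallyDense U) :
    (Smooth (Limits.Sigma.map f) ∧ ∀ Y : Over (∐ B), Smooth Y.hom →
        Function.Bijective (fun g : Y ⟶ Over.mk (Limits.Sigma.map f) => (Over.pullback U.ι).map g)) ↔
    ∀ i, Smooth (f i) ∧ ∀ Y : Over (B i), Smooth Y.hom →
        Function.Bijective (fun g : Y ⟶ Over.mk (f i) => (Over.pullback ((Limits.Sigma.ι B i) ⁻¹ᵁ U).ι).map g) := by
  have sqU := fun i => isPullback_morphismRestrict (Limits.Sigma.ι B i) U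
  let e : ∀ i, (Over.pullback (Limits.Sigma.ι B i)).obj (Over.mk (Limits.Sigma.map f)) ≅ Over.mk (f i) := fun i =>
    Over.isoMk (isPullback_sigma B N f i).isoPullback.symm (isPullback_sigma B N f i).isoPullback_inv_snd
  constructor
  · rintro ⟨hs, hN⟩ i
    refine ⟨MorphismProperty.of_isPullback (P := @Smooth) (isPullback_sigma B N f i) hs, fun Y hY => ?_⟩
    haveI := hY
    haveI : IsOpenImmersion (Limits.Sigma.ι B i) := inferInstance
    have h1 := hN (Over.mk (Y.hom ≫ Limits.Sigma.ι B i))
      (MorphismProperty.comp_mem @Smooth _ _ hY (inferInstance : Smooth (Limits.Sigma.ι B i)))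
    let F := Over.pullback ((Limits.Sigma.ι B i) ⁻¹ᵁ U).ι
    have hb : Function.Bijective (fun g : Y ⟶ (Over.pullback (Limits.Sigma.ι B i)).obj (Over.mk (Limits.Sigma.map f)) => F.map g) :=
      ⟨NeronExtLib.injective_baseChange (sqU i) _ Y h1.1, NeronExtLib.surjective_baseChange (sqU i) _ Y h1.2⟩
    refine ⟨fun g₁ g₂ h12 => ?_, fun φ => ?_⟩
    · rw [← cancel_mono (e i).inv]
      refine hb.1 ?_
      simp only at h12 ⊢
      rw [Functor.map_comp, Functor.map_comp, h12]
    · obtain ⟨g, hg⟩ := hb.2 (φ ≫ F.map (e i).inv)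
      refine ⟨g ≫ (e i).hom, ?_⟩
      simp only at hg ⊢
      rw [Functor.map_comp, hg, Category.assoc, ← Functor.map_comp, Iso.inv_hom_id, F.map_id, Category.comp_id]
  · intro h
    constructor
    · rw [IsZariskiLocalAtSource.iff_of_openCover (P := @Smooth) (sigmaOpenCover N)]
      intro i
      haveI := (h i).1
      show Smooth (Limits.Sigma.ι N i ≫ Limits.Sigma.map f)
      rw [show Limits.Sigma.ι N i ≫ Limits.Sigma.map f = f i ≫ Limits.Sigma.ι B i from Limits.Sigma.ι_map (fun i => f i) i]
      infer_instance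
    intro Y hY
    let P : I → Scheme.{u} := fun i => pullback Y.hom (Limits.Sigma.ι B i)
    let Z : ∀ i, Over (B i) := fun i => Over.mk (pullback.snd Y.hom (Limits.Sigma.ι B i))
    have hZ : ∀ i, Function.Bijective (fun g : Z i ⟶ Over.mk (f i) => (Over.pullback ((Limits.Sigma.ι B i) ⁻¹ᵁ U).ι).map g) :=
      fun i => (h i).2 (Z i) (MorphismProperty.pullback_snd (P := @Smooth) _ _ hY)
    let 𝒰 : Y.left.OpenCover := (sigmaOpenCover B).pullback₁ Y.hom
    let pr := fun i => pullback.fst Y.hom (Limits.Sigma.ι B i)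
    let c : ∀ i, pullback (Z i).hom ((Limits.Sigma.ι B i) ⁻¹ᵁ U).ι ⟶ pullback Y.hom U.ι := fun i =>
      pullback.map _ _ _ _ (pullback.fst Y.hom (Limits.Sigma.ι B i)) ((Limits.Sigma.ι B i) ∣_ U) (Limits.Sigma.ι B i)
        pullback.condition.symm (sqU i).w.symm
    have hc : ∀ i, c i ≫ pullback.fst Y.hom U.ι =
        pullback.fst (Z i).hom ((Limits.Sigma.ι B i) ⁻¹ᵁ U).ι ≫ pullback.fst Y.hom (Limits.Sigma.ι B i) :=
      fun i => pullback.lift_fst _ _ _
    have hlift : ∀ (i) (g : P i ⟶ ∐ N), g ≫ Limits.Sigma.map f = pullback.fst Y.hom (Limits.Sigma.ι B i) ≫ Y.hom →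
        ∃ g' : Z i ⟶ Over.mk (f i), g'.left ≫ Limits.Sigma.ι N i = g := fun i g hg => by
      have w : g ≫ Limits.Sigma.map f = pullback.snd Y.hom (Limits.Sigma.ι B i) ≫ Limits.Sigma.ι B i := hg.trans pullback.condition
      exact ⟨Over.homMk ((isPullback_sigma B N f i).lift g (pullback.snd Y.hom (Limits.Sigma.ι B i)) w)
        ((isPullback_sigma B N f i).lift_snd _ _ w), (isPullback_sigma B N f i).lift_fst _ _ w⟩
    constructor
    · rw [NeronExtLib.injective_iff]
      intro g₁ g₂ h12
      refine Over.OverMorphism.ext (Scheme.Cover.hom_ext 𝒰 _ _ fun i => ?_)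
      show pullback.fst Y.hom (Limits.Sigma.ι B i) ≫ g₁.left = pullback.fst Y.hom (Limits.Sigma.ι B i) ≫ g₂.left
      obtain ⟨a₁, ha₁⟩ := hlift i (pullback.fst Y.hom (Limits.Sigma.ι B i) ≫ g₁.left) (by
        rw [Category.assoc]; exact congrArg _ (Over.w g₁))
      obtain ⟨a₂, ha₂⟩ := hlift i (pullback.fst Y.hom (Limits.Sigma.ι B i) ≫ g₂.left) (by
        rw [Category.assoc]; exact congrArg _ (Over.w g₂))
      rw [← ha₁, ← ha₂, (NeronExtLib.injective_iff _ _ _).1 (hZ i).1 a₁ a₂ (by
        haveI : IsOpenImmersion (Limits.Sigma.ι N i) := inferInstance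
        refine (cancel_mono (Limits.Sigma.ι N i)).1 ?_
        rw [Category.assoc, Category.assoc, ha₁, ha₂, ← reassoc_of% hc, ← reassoc_of% hc, h12])]
    · rw [NeronExtLib.surjective_iff]
      intro a ha
      have hg : ∀ i, ∃ g : P i ⟶ ∐ N, g ≫ Limits.Sigma.map f = pullback.fst Y.hom (Limits.Sigma.ι B i) ≫ Y.hom ∧
          pullback.fst (Z i).hom ((Limits.Sigma.ι B i) ⁻¹ᵁ U).ι ≫ g = c i ≫ a := fun i => by
        have hca : (c i ≫ a) ≫ Limits.Sigma.map f =
            (pullback.fst (Z i).hom ((Limits.Sigma.ι B i) ⁻¹ᵁ U).ι ≫ (Z i).hom) ≫ Limits.Sigma.ι B i := by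
          rw [Category.assoc, show a ≫ Limits.Sigma.map f = _ from ha, reassoc_of% hc, Category.assoc]
          exact congrArg _ pullback.condition
        obtain ⟨g, hg⟩ := (NeronExtLib.surjective_iff _ _ _).1 (hZ i).2
          ((isPullback_sigma B N f i).lift _ _ hca) ((isPullback_sigma B N f i).lift_snd _ _ hca)
        refine ⟨g.left ≫ Limits.Sigma.ι N i, ?_, ?_⟩
        · rw [Category.assoc, show Limits.Sigma.ι N i ≫ Limits.Sigma.map f = f i ≫ Limits.Sigma.ι B i from Limits.Sigma.ι_map (fun i => f i) i,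
            ← Category.assoc, show g.left ≫ f i = pullback.snd Y.hom (Limits.Sigma.ι B i) from Over.w g]
          exact pullback.condition.symm
        · rw [← Category.assoc, hg]
          exact (isPullback_sigma B N f i).lift_fst _ _ hca
      choose g hgw hga using hg
      have hcomp : ∀ i j : I, pullback.fst (pr i) (pr j) ≫ g i = pullback.snd (pr i) (pr j) ≫ g j := by
        intro i j
        by_cases hij : i = j
        · subst hij
          haveI : IsOpenImmersion (pr i) := MorphismProperty.pullback_fst (P := @IsOpenImmersion) _ _ inferInstance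
          rw [(cancel_mono (pr i)).1 (pullback.condition (f := pr i) (g := pr i))]
        · haveI : IsEmpty ↑(pullback (pr i) (pr j)) := by
            refine isEmpty_of_commSq_sigmaι_of_ne (g := B)
              (a := pullback.fst (pr i) (pr j) ≫ pullback.snd Y.hom (Limits.Sigma.ι B i))
              (b := pullback.snd (pr i) (pr j) ≫ pullback.snd Y.hom (Limits.Sigma.ι B j)) ⟨?_⟩ hij
            rw [Category.assoc, Category.assoc, ← pullback.condition, ← pullback.condition, ← Category.assoc,
              ← Category.assoc]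
            exact congrArg (· ≫ Y.hom) pullback.condition
          exact (isInitialOfIsEmpty).hom_ext _ _
      let F := 𝒰.glueMorphisms g hcomp
      have hF : ∀ i, pullback.fst Y.hom (Limits.Sigma.ι B i) ≫ F = g i := fun i => 𝒰.ι_glueMorphisms g hcomp i
      refine ⟨Over.homMk F (Scheme.Cover.hom_ext 𝒰 _ _ fun i => ?_), ?_⟩
      · show pullback.fst Y.hom (Limits.Sigma.ι B i) ≫ F ≫ Limits.Sigma.map f = pullback.fst Y.hom (Limits.Sigma.ι B i) ≫ Y.hom
        rw [reassoc_of% hF, hgw]
      refine Scheme.Cover.hom_ext ((sigmaOpenCover B).pullback₁ (pullback.fst Y.hom U.ι ≫ Y.hom)) _ _ fun i => ?_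
      show pullback.fst (pullback.fst Y.hom U.ι ≫ Y.hom) (Limits.Sigma.ι B i) ≫ pullback.fst Y.hom U.ι ≫ F =
        pullback.fst (pullback.fst Y.hom U.ι ≫ Y.hom) (Limits.Sigma.ι B i) ≫ a
      let q := pullback.fst (pullback.fst Y.hom U.ι ≫ Y.hom) (Limits.Sigma.ι B i)
      have hq : q ≫ pullback.fst Y.hom U.ι ≫ Y.hom = pullback.snd _ (Limits.Sigma.ι B i) ≫ Limits.Sigma.ι B i := pullback.condition
      obtain ⟨l0, hl1, hl2⟩ : ∃ l0 : pullback (pullback.fst Y.hom U.ι ≫ Y.hom) (Limits.Sigma.ι B i) ⟶ P i,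
          l0 ≫ pullback.fst Y.hom (Limits.Sigma.ι B i) = q ≫ pullback.fst Y.hom U.ι ∧
          l0 ≫ pullback.snd Y.hom (Limits.Sigma.ι B i) = pullback.snd _ (Limits.Sigma.ι B i) :=
        ⟨pullback.lift _ _ (by rw [Category.assoc]; exact hq), pullback.lift_fst _ _ _, pullback.lift_snd _ _ _⟩
      let l := pullback.lift (f := (Z i).hom) (g := ((Limits.Sigma.ι B i) ⁻¹ᵁ U).ι) l0
        ((sqU i).lift (q ≫ pullback.snd Y.hom U.ι) (pullback.snd _ (Limits.Sigma.ι B i))
          (by rw [Category.assoc, ← pullback.condition]; exact hq))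
        (hl2.trans ((sqU i).lift_snd _ _ _).symm)
      have hl : l ≫ c i = q := by
        refine pullback.hom_ext ?_ ?_
        · rw [Category.assoc, hc, pullback.lift_fst_assoc, hl1]
        · rw [Category.assoc, pullback.lift_snd, pullback.lift_snd_assoc, IsPullback.lift_fst]
      calc q ≫ pullback.fst Y.hom U.ι ≫ F = l0 ≫ g i := by rw [← reassoc_of% hl1, hF]
        _ = l ≫ pullback.fst (Z i).hom ((Limits.Sigma.ι B i) ⁻¹ᵁ U).ι ≫ g i := (pullback.lift_fst_assoc _ _ _ _).symm
        _ = q ≫ a := by rw [hga i, reassoc_of% hl]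

end Groth.Agent.S13207
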