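import Groth.Statements.S13209
import Groth.Agent.AlgSpLib.Descend

set_option autoImplicit false
set_option backward.isDefEq.respectTransparency false
universe u
open CategoryTheory CategoryTheory.Limits AlgebraicGeometry
open AlgSp (yon RepWith)
open Neron

namespace Groth.Agent.S13209

/-- Let S be a scheme, U ⊆ S a schematically dense open subscheme and N → S a smooth S-scheme with the
Néron mapping property for schemes with respect to U: for every smooth S-scheme Y, composition with
the projection Y ×_S U → Y is a bijection from S-morphisms Y → N onto S-morphisms Y ×_S U → N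
(equivalently, onto U-morphisms Y ×_S U → N ×_S U). Then N also has the Néron mapping property with
respect to smooth algebraic spaces: for every algebraic space F over S (an fppf sheaf of sets on
S-schemes with representable diagonal and an étale surjective chart from a scheme) whose structure
map to h_S is smooth, composition with the first projection F × h_U → F is a bijection from
morphisms of sheaves F → h_N onto morphisms F × h_U → h_N. -/
theorem result
    {S : Scheme.{u}} (U : S.Opens) (hU : CInt.IsSchematicallyDense U) (N : Over S) [Smooth N.hom]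
    (hN : ∀ Y : Over S, Smooth Y.hom →
      Function.Bijective (fun g : Y ⟶ N => (Over.mapPullbackAdj U.ι).counit.app Y ≫ g))
    (F : AlgSp.Sp S) (hF : AlgSp.IsAlgSpace F)
    (sF : F ⟶ (AlgSp.yon S).obj (Over.mk (𝟙 S))) (hsm : AlgSp.LocP @Smooth sF) :
    Function.Bijective (fun φ : F ⟶ (AlgSp.yon S).obj N =>
      (Limits.prod.fst : F ⨯ (AlgSp.yon S).obj (Over.mk U.ι) ⟶ F) ≫ φ) := by
  let O : Over S := Over.mk U.ι
  let L := Over.map U.ι
  let P := Over.pullback U.ι
  let C := fun Y : Over S => L.obj (P.obj Y)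
  let ε : ∀ Y : Over S, C Y ⟶ Y := fun Y => (Over.mapPullbackAdj U.ι).counit.app Y
  let q : ∀ Y : Over S, C Y ⟶ O := fun Y => Over.homMk (P.obj Y).hom rfl
  let π : F ⨯ (yon S).obj O ⟶ F := Limits.prod.fst
  let lft : ∀ {Y : Over S}, ((yon S).obj Y ⟶ F) → ((yon S).obj (C Y) ⟶ F ⨯ (yon S).obj O) := fun {Y} b =>
    prod.lift ((yon S).map (ε Y) ≫ b) ((yon S).map (q Y))
  have hlft : ∀ {Y : Over S} (b : (yon S).obj Y ⟶ F), lft b ≫ π = (yon S).map (ε Y) ≫ b := fun b =>
    prod.lift_fst _ _
  have hlft2 : ∀ {Y : Over S} (b : (yon S).obj Y ⟶ F), lft b ≫ prod.snd = (yon S).map (q Y) := fun b =>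
    prod.lift_snd _ _
  obtain ⟨V, a, ha, has⟩ := hF.atlas
  -- charts of `F` are smooth over `S`
  have hsmooth : ∀ {Y : Over S} (b : (yon S).obj Y ⟶ F), RepWith @Etale b → Smooth Y.hom := fun {Y} b hb => by
    obtain ⟨h, hh⟩ := (yon S).map_surjective (b ≫ sF)
    have h0 : Smooth h.left := hsm b (𝟙 _) h hb (AlgSp.repWith_id _ _) (by rw [Category.comp_id, hh])
    rwa [show h.left = Y.hom from (Category.comp_id _).symm.trans (Over.w h)] at h0
  have hV := hsmooth a ha
  refine ⟨fun φ ψ e => ?_, fun ψ => ?_⟩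
  · have e' : π ≫ φ = π ≫ ψ := e
    refine AlgSpLib.hom_ext_of_atlas ha has ?_
    obtain ⟨g, hg⟩ := (yon S).map_surjective (a ≫ φ)
    obtain ⟨g', hg'⟩ := (yon S).map_surjective (a ≫ ψ)
    rw [← hg, ← hg', (hN V hV).injective (show ε V ≫ g = ε V ≫ g' from (yon S).map_injective (by
      rw [Functor.map_comp, Functor.map_comp, hg, hg', ← Category.assoc, ← Category.assoc, ← hlft, Category.assoc,
        e', Category.assoc]))]
  · obtain ⟨h, hh⟩ := (yon S).map_surjective (lft a ≫ ψ)
    obtain ⟨g, hg⟩ := (hN V hV).surjective h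
    change ε V ≫ g = h at hg
    -- the equivalence relation
    obtain ⟨R, p₁, p₂, sq⟩ : ∃ (R : Over S) (p₁ : R ⟶ V) (p₂ : R ⟶ V),
        IsPullback ((yon S).map p₁) ((yon S).map p₂) a a := AlgSpLib.exists_isPullback_yon a a ha.rep
    have hR : Smooth R.hom := hsmooth _ (AlgSpLib.repWith_comp (AlgSpLib.repWith_of_isPullback sq ha) ha)
    have hp : ∀ p : R ⟶ V, (yon S).map (ε R ≫ p ≫ g) = lft ((yon S).map p ≫ a) ≫ ψ := fun p => by
      have hnat : L.map (P.map p) ≫ ε V = ε R ≫ p := (Over.mapPullbackAdj U.ι).counit.naturality p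
      rw [← Category.assoc (ε R), ← hnat, Category.assoc, hg, Functor.map_comp, hh, ← Category.assoc]
      congr 1
      refine Limits.prod.hom_ext ?_ ?_
      · change ((yon S).map _ ≫ lft a) ≫ π = lft _ ≫ π
        rw [Category.assoc, hlft, hlft, ← Functor.map_comp_assoc, ← Functor.map_comp_assoc, hnat]
      · rw [Category.assoc, hlft2, hlft2, ← Functor.map_comp]
        congr 1
        ext
        exact Over.w (P.map p)
    have heq : p₁ ≫ g = p₂ ≫ g := (hN R hR).injective (show ε R ≫ p₁ ≫ g = ε R ≫ p₂ ≫ g from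
      (yon S).map_injective (by rw [hp, hp, sq.w]))
    obtain ⟨y, hy⟩ := AlgSpLib.exists_desc_of_atlas ha has ((yon S).map g) (fun Z z z' ez => by
      obtain ⟨r, hr⟩ := (yon S).map_surjective (sq.lift _ _ ez)
      have h1 : r ≫ p₁ = z := (yon S).map_injective (by rw [Functor.map_comp, hr, sq.lift_fst])
      have h2 : r ≫ p₂ = z' := (yon S).map_injective (by rw [Functor.map_comp, hr, sq.lift_snd])
      rw [← Functor.map_comp, ← Functor.map_comp, ← h1, ← h2, Category.assoc, Category.assoc, heq])
    refine ⟨y, ?_⟩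
    change π ≫ y = ψ
    refine GrothendieckTopology.hom_ext_uliftYoneda.{u + 1} (AlgSp.J S) fun T b => ?_
    obtain ⟨W, p, c, sqW⟩ : ∃ (W : Over S) (p : W ⟶ V) (c : W ⟶ T),
        IsPullback ((yon S).map p) ((yon S).map c) a (b ≫ π) := AlgSpLib.exists_isPullback_yon a _ ha.rep
    haveI : Etale c.left := AlgSpLib.etale_left (AlgSpLib.repWith_of_isPullback sqW ha)
    haveI : Surjective c.left := AlgSpLib.surjective_left (AlgSpLib.repWith_of_isPullback sqW has)
    obtain ⟨t, ht⟩ := (yon S).map_surjective (b ≫ prod.snd)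
    let k : W ⟶ C V := Over.homMk (pullback.lift p.left (c ≫ t).left ((Over.w p).trans (Over.w (c ≫ t)).symm))
      ((pullback.lift_snd_assoc _ _ _ _).trans (Over.w (c ≫ t)))
    have hk : k ≫ ε V = p := by
      ext
      simp [k, ε, C, L, P]
    have hkq : k ≫ q V = c ≫ t := by
      ext
      simp [k, q, C, L, P]
    have hb : (yon S).map c ≫ b = (yon S).map k ≫ lft a := by
      refine Limits.prod.hom_ext ?_ ?_
      · change ((yon S).map c ≫ b) ≫ π = ((yon S).map k ≫ lft a) ≫ π
        rw [Category.assoc, Category.assoc, ← sqW.w, hlft, ← Functor.map_comp_assoc, hk]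
      · rw [Category.assoc, Category.assoc, ← ht, hlft2, ← Functor.map_comp, ← Functor.map_comp, hkq]
    refine AlgSpLib.eq_of_comp_eq c ?_
    have e1 : (yon S).map c ≫ b ≫ ψ = (yon S).map k ≫ (yon S).map (ε V) ≫ (yon S).map g := by
      rw [← Category.assoc, hb, Category.assoc, ← hh, ← hg, Functor.map_comp]
    have e2 : (yon S).map c ≫ b ≫ π ≫ y = (yon S).map k ≫ (yon S).map (ε V) ≫ (yon S).map g := by
      rw [← Category.assoc, hb, Category.assoc, ← Category.assoc (lft a), hlft, Category.assoc, hy]
    exact e2.trans e1.symm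

end Groth.Agent.S13209
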