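import Groth.Statements.S13210
import Groth.Agent.AlgSpLib.Basic

set_option autoImplicit false
universe u
open CategoryTheory CategoryTheory.Limits AlgebraicGeometry
open AlgGrp

namespace Groth.Agent.S13210

/-- Let S be a scheme, F an algebraic space over S which is separated over S, and G a finite group
acting on F by S-automorphisms. If i : Z → F exhibits the fppf sheaf Z as the sub-sheaf of G-fixed
points of F (i is G-invariant and every G-invariant morphism W → F factors uniquely through i), then
Z is an algebraic space and i is a closed immersion (representable by closed immersions). (The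
published statement also treats a locally separated F, whose fixed points form a subspace, and
compatibility with base change; this row states only the separated case.) -/
theorem result
    {S : Scheme.{u}} (F : AlgSp.Sp S) (hF : AlgSp.IsAlgSpace F) (hsep : AlgSp.IsSeparatedSp F)
    (G : Type u) [Group G] [Finite G] (ρ : G →* Aut F)
    (Z : AlgSp.Sp S) (i : Z ⟶ F) (hi : ∀ g : G, i ≫ (ρ g).hom = i)
    (huniv : ∀ (W : AlgSp.Sp S) (x : W ⟶ F), (∀ g : G, x ≫ (ρ g).hom = x) → ∃! z : W ⟶ Z, z ≫ i = x) :
    AlgSp.IsAlgSpace Z ∧ AlgSp.RepWith @IsClosedImmersion i := by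
  classical
  haveI : MorphismProperty.IsStableUnderBaseChange (@IsClosedImmersion : MorphismProperty Scheme.{u}) :=
    inferInstance
  haveI : MorphismProperty.IsStableUnderComposition (@IsClosedImmersion : MorphismProperty Scheme.{u}) :=
    ⟨fun f g (_ : IsClosedImmersion f) (_ : IsClosedImmersion g) => (inferInstance : IsClosedImmersion (f ≫ g))⟩
  haveI : MorphismProperty.ContainsIdentities (@IsClosedImmersion : MorphismProperty Scheme.{u}) :=
    ⟨fun X => (inferInstance : IsClosedImmersion (𝟙 X))⟩
  haveI : MorphismProperty.IsMultiplicative (@IsClosedImmersion : MorphismProperty Scheme.{u}) := ⟨⟩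
  haveI : Fintype G := Fintype.ofFinite G
  have key : ∀ s : Finset G, ∃ (W : AlgSp.Sp S) (j : W ⟶ F), AlgSp.RepWith @IsClosedImmersion j ∧ Mono j ∧
      (∀ g ∈ s, j ≫ (ρ g).hom = j) ∧
      ∀ (W' : AlgSp.Sp S) (x : W' ⟶ F), (∀ g ∈ s, x ≫ (ρ g).hom = x) → ∃ z : W' ⟶ W, z ≫ j = x := by
    intro s
    induction s using Finset.induction with
    | empty =>
      refine ⟨F, 𝟙 F, ?_, inferInstance, by simp, fun W' x _ => ⟨x, by simp⟩⟩
      haveI : MorphismProperty.IsMultiplicative
          (MorphismProperty.inverseImage (@IsClosedImmersion : MorphismProperty Scheme.{u}) (Over.forget S)) :=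
        { id_mem := fun X => (inferInstance : IsClosedImmersion (𝟙 X.left))
          comp_mem := fun f g (_ : IsClosedImmersion f.left) (_ : IsClosedImmersion g.left) =>
            (inferInstance : IsClosedImmersion (f.left ≫ g.left)) }
      haveI : MorphismProperty.IsStableUnderBaseChange
          (MorphismProperty.inverseImage (@IsClosedImmersion : MorphismProperty Scheme.{u}) (Over.forget S)) :=
        AlgSp.inverseImage_forget_isStableUnderBaseChange _
      haveI : MorphismProperty.RespectsIso
          (MorphismProperty.inverseImage (@IsClosedImmersion : MorphismProperty Scheme.{u}) (Over.forget S)) :=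
        MorphismProperty.IsStableUnderBaseChange.respectsIso
      haveI := MorphismProperty.relative_isMultiplicative (F := AlgSp.yon S)
        (MorphismProperty.inverseImage (@IsClosedImmersion : MorphismProperty Scheme.{u}) (Over.forget S))
      exact MorphismProperty.id_mem _ _
    | insert g s hg ih =>
      obtain ⟨W, j, hj, hjm, hjinv, hju⟩ := ih
      let a : W ⟶ F ⨯ F := prod.lift j (j ≫ (ρ g).hom)
      have sq := IsPullback.of_hasPullback (Limits.diag F) a
      have e1 : pullback.fst (Limits.diag F) a = pullback.snd (Limits.diag F) a ≫ j := by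
        have h := congrArg (fun t => t ≫ (Limits.prod.fst : F ⨯ F ⟶ F)) sq.w
        simp only [a, Category.assoc] at h
        erw [Limits.prod.lift_fst, Limits.prod.lift_fst, Category.comp_id] at h
        exact h
      have e2 : pullback.fst (Limits.diag F) a = pullback.snd (Limits.diag F) a ≫ j ≫ (ρ g).hom := by
        have h := congrArg (fun t => t ≫ (Limits.prod.snd : F ⨯ F ⟶ F)) sq.w
        simp only [a, Category.assoc] at h
        erw [Limits.prod.lift_snd, Limits.prod.lift_snd, Category.comp_id] at h
        exact h
      have hc : AlgSp.RepWith @IsClosedImmersion (pullback.snd (Limits.diag F) a) :=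
        AlgSpLib.repWith_of_isPullback sq hsep
      refine ⟨_, pullback.snd (Limits.diag F) a ≫ j, AlgSpLib.repWith_comp hc hj, inferInstance, ?_, ?_⟩
      · intro g' hg'
        rcases Finset.mem_insert.1 hg' with h | h
        · subst h
          rw [Category.assoc, ← e2, e1]
        · rw [Category.assoc, hjinv g' h]
      · intro W' x hx
        obtain ⟨z, hz⟩ := hju W' x (fun g' h => hx g' (Finset.mem_insert_of_mem h))
        have hxg := hx g (Finset.mem_insert_self g s)
        refine ⟨pullback.lift x z ?_, ?_⟩
        · apply Limits.prod.hom_ext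
          · simp only [a, Category.assoc]
            erw [Limits.prod.lift_fst, Limits.prod.lift_fst, Category.comp_id, hz]
          · simp only [a, Category.assoc]
            erw [Limits.prod.lift_snd, Limits.prod.lift_snd, Category.comp_id, ← Category.assoc z, hz, hxg]
        · rw [pullback.lift_snd_assoc, hz]
  obtain ⟨W, j, hj, hjm, hjinv, hju⟩ := key Finset.univ
  obtain ⟨z, hz, -⟩ := huniv W j (fun g => hjinv g (Finset.mem_univ g))
  obtain ⟨z', hz'⟩ := hju Z i (fun g _ => hi g)
  have hzz' : z ≫ z' = 𝟙 W := by
    rw [← cancel_mono j, Category.assoc, hz', hz, Category.id_comp]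
  have hz'z : z' ≫ z = 𝟙 Z := by
    obtain ⟨y, -, hy⟩ := huniv Z i hi
    rw [hy (z' ≫ z) (by simp [hz, hz']), hy (𝟙 Z) (by simp)]
  let e : W ≅ Z := ⟨z, z', hzz', hz'z⟩
  refine ⟨(AlgSpLib.isAlgSpace_of_representable hF j hj.rep).of_iso e, ?_⟩
  rw [← hz']
  haveI : IsIso z' := ⟨z, hz'z, hzz'⟩
  exact (MorphismProperty.cancel_left_of_respectsIso (AlgSp.RepWith @IsClosedImmersion) z' j).2 hj

end Groth.Agent.S13210
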