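import Groth.Statements.S1323
import Groth.Agent.ThickFlatLib.Apps
import Groth.Agent.S1305
-- import your own Groth.Agent.* helpers here

set_option autoImplicit false
universe u
open FlatMor

namespace Groth.Agent.S1323

open AlgebraicGeometry CategoryTheory Limits in
/-- Let S ⟶ S' be a finite order thickening, let X' ⟶ Y' be a morphism of schemes over S' with X' flat
over S', and let X ⟶ Y be its base change to S. Then X ⟶ Y is finite locally free of rank d if and
only if X' ⟶ Y' is. -/
theorem result (d : ℕ) {X X' Y Y' S S' : Scheme.{u}} (iX : X ⟶ X') (iY : Y ⟶ Y') (iS : S ⟶ S')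
    (f : X ⟶ Y) (f' : X' ⟶ Y') (g : Y ⟶ S) (g' : Y' ⟶ S')
    (hS : MoreMor.IsFiniteOrderThickening iS) (hcX : IsPullback iX (f ≫ g) (f' ≫ g') iS) (hcY : IsPullback iY g g' iS)
    (w : iX ≫ f' = f ≫ iY) [Flat (f' ≫ g')] :
    Mor2.IsFinLocFreeOfDeg d f ↔ Mor2.IsFinLocFreeOfDeg d f' := by
  have hc := ThickFlatLib.isPullback_top hcX hcY w
  have hY := ThickFlatLib.isThickening_base hS.1 hcY
  constructor
  · intro h
    obtain ⟨⟨h1, h2, h3⟩, hd⟩ := h
    haveI := h1; haveI := h2; haveI := h3
    have hX : MoreMor.IsThickening iX :=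
      ⟨MorphismProperty.of_isPullback hc.flip hY.1, MorphismProperty.of_isPullback hc.flip hY.2⟩
    haveI : LocallyOfFinitePresentation f' := ThickFlatLib.lfp_of_finiteOrder hS hcX hcY w
    haveI : Flat f' := ThickFlatLib.flat_of_finiteOrder hS hcX hcY w
    haveI : IsFinite f' := (IsFinite.iff_isIntegralHom_and_locallyOfFiniteType _).2
      ⟨(Groth.Agent.S1305.result iX iY f f' hX hY hc.w).1 inferInstance, inferInstance⟩
    refine ⟨⟨inferInstance, inferInstance, inferInstance⟩, fun y => ?_⟩
    haveI := hY.2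
    obtain ⟨y₀, rfl⟩ := iY.surjective y
    rw [← hd y₀]
    exact (Scheme.Hom.finrank_of_isPullback _ _ _ _ hc y₀).symm
  · intro h
    obtain ⟨⟨h1, h2, h3⟩, hd⟩ := h
    haveI := h1; haveI := h2; haveI := h3
    refine ⟨⟨MorphismProperty.of_isPullback hc h1, MorphismProperty.of_isPullback hc h2,
      MorphismProperty.of_isPullback hc h3⟩, fun y => ?_⟩
    rw [Scheme.Hom.finrank_of_isPullback _ _ _ _ hc y]
    exact hd _

end Groth.Agent.S1323
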