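import Groth.Statements.S1325
import Mathlib
import Groth.Agent.GISpreadLib.SectNhd

set_option autoImplicit false
universe u
open FlatMor

namespace Groth.Agent.S1325

open AlgebraicGeometry CategoryTheory Limits in
/-- Let f be of finite type with a section s and let y be a point of the target. Then there is a subset
V of the closure of y, open in that closure and containing y (equivalently nonempty), such that the
trace of the section components of (f, s) on the preimage of V is open and closed in that preimage
(with the subspace topology, which is the topology of the base change to the locally closed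
subscheme V). -/
theorem result {X Y : Scheme.{u}} (f : X ⟶ Y) (s : Y ⟶ X) (hs : s ≫ f = 𝟙 Y)
    [LocallyOfFiniteType f] [QuasiCompact f] (y : Y) :
    ∃ V : Set ↑Y, V ⊆ closure {y} ∧ y ∈ V ∧ IsOpen (Subtype.val ⁻¹' V : Set ↑(closure ({y} : Set ↑Y))) ∧
      IsClopen (Subtype.val ⁻¹' MoreMor.sectionComponents f s : Set ↑(f ⁻¹' V)) := by
  obtain ⟨W, hW, H⟩ := GISpreadLib.exists_nhd_isClopen_sectionComponents f s hs y
  refine ⟨closure {y} ∩ W, Set.inter_subset_left, ⟨subset_closure rfl, hW⟩, ?_, H⟩
  rw [Set.preimage_inter, show (Subtype.val ⁻¹' closure {y} : Set ↑(closure ({y} : Set ↑Y))) = Set.univ from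
    Set.eq_univ_of_forall fun z => z.2, Set.univ_inter]
  exact W.isOpen.preimage continuous_subtype_val

end Groth.Agent.S1325
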