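import Groth.Statements.S13341
import Groth.Agent.FComplLib.Levels

set_option autoImplicit false
open CategoryTheory
universe u
open FCompl

namespace Groth.Agent.S13341

open AlgebraicGeometry CategoryTheory CategoryTheory.Limits in
theorem graph_adic {𝔛 𝔜 𝔖 : FSch.Sys.{u}} (h𝔛 : 𝔛.IsLocNoethFormal) (h𝔜 : 𝔜.IsLocNoethFormal)
    (p : 𝔛 ⟶ 𝔖) (q : 𝔜 ⟶ 𝔖) (f : 𝔛 ⟶ 𝔜) (w : f ≫ q = p) :
    FSch.IsAdicHom (FSch.graph f p q w) := fun n => by
  have := (h𝔛.1 n).1
  have := (h𝔜.1 n).1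
  let Γ (m : ℕ) : 𝔛.X m ⟶ pullback ((p : FSch.Hom _ _).app m) ((q : FSch.Hom _ _).app m) :=
    (FSch.graph f p q w : FSch.Hom _ _).app m
  let ι' : pullback ((p : FSch.Hom _ _).app n) ((q : FSch.Hom _ _).app n) ⟶
      pullback ((p : FSch.Hom _ _).app (n + 1)) ((q : FSch.Hom _ _).app (n + 1)) :=
    (FSch.pullbackSys p q).ι n
  have g1 : ∀ m, Γ m ≫ pullback.fst _ _ = 𝟙 _ := fun m => pullback.lift_fst _ _ _
  have g2 : ∀ m, Γ m ≫ pullback.snd _ _ = (f : FSch.Hom 𝔛 𝔜).app m :=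
    fun m => pullback.lift_snd _ _ _
  have i1 : ι' ≫ pullback.fst _ _ = pullback.fst _ _ ≫ 𝔛.ι n := pullback.lift_fst _ _ _
  have i2 : ι' ≫ pullback.snd _ _ = pullback.snd _ _ ≫ 𝔜.ι n := pullback.lift_snd _ _ _
  have key : ∀ {T : Scheme.{u}} (a : T ⟶ 𝔛.X (n + 1))
      (b : T ⟶ pullback ((p : FSch.Hom _ _).app n) ((q : FSch.Hom _ _).app n)),
      a ≫ Γ (n + 1) = b ≫ ι' →
      (b ≫ pullback.fst _ _) ≫ 𝔛.ι n = a ∧ (b ≫ pullback.fst _ _) ≫ Γ n = b := by
    intro T a b hab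
    have hfst : (b ≫ pullback.fst _ _) ≫ 𝔛.ι n = a := by
      rw [Category.assoc, ← i1, ← Category.assoc, ← hab, Category.assoc, g1, Category.comp_id]
    refine ⟨hfst, ?_⟩
    apply pullback.hom_ext
    · rw [Category.assoc, g1, Category.comp_id]
    · rw [Category.assoc, g2, ← cancel_mono (𝔜.ι n)]
      conv_rhs => rw [Category.assoc, ← i2, ← Category.assoc, ← hab, Category.assoc, g2, ← hfst]
      rw [Category.assoc, Category.assoc, (f : FSch.Hom 𝔛 𝔜).comm n]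
      simp only [Category.assoc]
  refine ⟨⟨((FSch.graph f p q w : FSch.Hom _ _).comm n).symm⟩,
    ⟨PullbackCone.IsLimit.mk _
      (fun s => (show s.pt ⟶ pullback ((p : FSch.Hom _ _).app n) ((q : FSch.Hom _ _).app n) from s.snd) ≫
        pullback.fst _ _)
      (fun s => (key s.fst s.snd s.condition).1) (fun s => (key s.fst s.snd s.condition).2) ?_⟩⟩
  intro s m _ hm
  show m = _
  have : (m ≫ Γ n) ≫ pullback.fst _ _ = m := by rw [Category.assoc, g1, Category.comp_id]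
  refine this.symm.trans ?_
  exact congrArg (· ≫ pullback.fst _ _) hm

open AlgebraicGeometry in
/-- Formal schemes are presented as locally Noetherian adic systems of thickenings and the fibre product
is taken levelwise (it presents the fibre product of formal schemes since one factor is adic over
the base). Let 𝔖 be a locally Noetherian formal system, 𝔛 and 𝔜 locally Noetherian formal systems
over 𝔖 such that 𝔛 or 𝔜 is of finite type over 𝔖, and 𝔜 separated over 𝔖 at level 0. Then for every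
𝔖-morphism f : 𝔛 → 𝔜 the graph morphism 𝔛 → 𝔛 ×_𝔖 𝔜 is a closed immersion: adic, with level 0 a
closed immersion. -/
theorem result {𝔛 𝔜 𝔖 : FSch.Sys.{u}} (h𝔖 : 𝔖.IsLocNoethFormal) (h𝔛 : 𝔛.IsLocNoethFormal)
    (h𝔜 : 𝔜.IsLocNoethFormal) (p : 𝔛 ⟶ 𝔖) (q : 𝔜 ⟶ 𝔖) (hpq : FSch.IsFiniteTypeHom p ∨ FSch.IsFiniteTypeHom q)
    (hq : IsSeparated ((q : FSch.Hom 𝔜 𝔖).app 0)) (f : 𝔛 ⟶ 𝔜) (w : f ≫ q = p) :
    FSch.IsClosedImmHom (FSch.graph f p q w) := by
  refine ⟨graph_adic h𝔛 h𝔜 p q f w, ?_⟩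
  have := hq
  let i := (FSch.graph f p q w : FSch.Hom _ _).app 0
  let r : (FSch.pullbackSys p q).X 0 ⟶ 𝔛.X 0 := CategoryTheory.Limits.pullback.fst _ _
  have : IsSeparated r := MorphismProperty.pullback_fst _ _ hq
  have : IsClosedImmersion (i ≫ r) := by
    rw [show i ≫ r = 𝟙 _ from CategoryTheory.Limits.pullback.lift_fst _ _ _]
    infer_instance
  exact IsClosedImmersion.of_comp i r
end Groth.Agent.S13341
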