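import Groth.Statements.S13347
import Groth.Agent.ChevLib.Main
import Groth.Agent.FComplLib.Levels

set_option autoImplicit false
open CategoryTheory CategoryTheory.Limits
universe u
open Opposite
open FCompl

namespace Groth.Agent.S13347

open CategoryTheory CategoryTheory.Limits Opposite in
theorem surjective_π {F : ℕᵒᵖ ⥤ Type u} {c : Cone F} (hc : IsLimit c)
    (hF : ∀ n, Function.Surjective (F.map (homOfLE (Nat.le_succ n)).op)) (i : ℕ) :
    Function.Surjective (c.π.app (op i)) := by
  intro a
  choose p hp using hF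
  let g : ∀ k, F.obj (op (i + k)) := fun k => Nat.rec (motive := fun k => F.obj (op (i + k))) a
    (fun k x => p (i + k) x) k
  have hg : ∀ (m n : ℕ) (h : m ≤ n), F.map (homOfLE (Nat.add_le_add_left h i)).op (g n) = g m := by
    intro m n h
    induction h with
    | refl =>
      exact (congrArg (fun φ => F.map φ (g m)) (Subsingleton.elim _ (𝟙 _))).trans (by rw [F.map_id]; rfl)
    | @step q h ih =>
      refine Eq.trans ?_ ih
      refine Eq.trans ?_ (congrArg (F.map (homOfLE (Nat.add_le_add_left (show m ≤ q from h) i)).op)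
        (hp (i + q) (g q)))
      rw [← Functor.map_comp_apply]
      exact congrArg (fun φ => F.map φ _) (Subsingleton.elim _ _)
  let y : F.sections := ⟨fun k => F.map (homOfLE (Nat.le_add_left k.unop i)).op (g k.unop), by
    rintro ⟨n⟩ ⟨m⟩ ⟨⟨⟨(h : m ≤ n)⟩⟩⟩
    change F.map _ (F.map _ (g n)) = F.map _ (g m)
    rw [← hg m n h, ← Functor.map_comp_apply, ← Functor.map_comp_apply]
    exact congrArg (fun φ => F.map φ (g n)) (Subsingleton.elim _ _)⟩
  refine ⟨(Types.isLimitEquivSections hc).symm y, ?_⟩
  rw [Types.isLimitEquivSections_symm_apply]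
  change F.map _ (g i) = a
  exact (congrArg (fun φ => F.map φ (g i)) (Subsingleton.elim _ _)).trans (hg 0 i (Nat.zero_le i))


open AlgebraicGeometry in
/-- Let (X_i) be an inductive system of preschemes on one underlying space with surjective transition
homomorphisms whose kernels O_{X_i} → O_{X_0} are locally nilpotent — here a system of thickenings
(closed immersions surjective on points) with the kernel ideal of X_0 → X_i nilpotent on every
affine open of X_i — and O_𝔛 = lim O_{X_i} the structure sheaf of the formal prescheme it defines.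
Then the canonical homomorphisms O_𝔛 → O_{X_i} are surjective: over every affine open U of X_0 the
map on sections Γ(U, O_𝔛) → Γ(U_i, O_{X_i}) is onto. -/
theorem result (𝔛 : FSch.Sys.{u}) (h : 𝔛.IsFormal)
    (hb : ∀ (i : ℕ) (V : (𝔛.X i).affineOpens), IsNilpotent ((𝔛.toX i).ker.ideal V))
    (i : ℕ) (U : (𝔛.X 0).Opens) (hU : IsAffineOpen U) :
    Function.Surjective ((𝔛.OshProj h i).hom.app (op U)) := by
  have hlv : ∀ n, IsAffineOpen (𝔛.lvU h n U) := by
    intro n
    have : IsClosedImmersion (𝔛.toX n) := FComplLib.isClosedImmersion_toX h n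
    have : Surjective (𝔛.toX n) := FComplLib.surjective_toX h n
    have he : 𝔛.toX n ⁻¹ᵁ (𝔛.lvU h n U) = U := by
      change (TopologicalSpace.Opens.map ((𝔛.toX n).base ≫ 𝔛.gInv h n)).obj U = U
      rw [FSch.Sys.toX_base_gInv]
      rfl
    have : IsAffine ((𝔛.toX n ⁻¹ᵁ (𝔛.lvU h n U)).toScheme) := by rw [he]; exact hU
    have : Surjective (𝔛.toX n ∣_ 𝔛.lvU h n U) := IsZariskiLocalAtTarget.restrict ‹_› _
    exact ChevLib.isAffine_of_surjective_universallyClosed (𝔛.toX n ∣_ 𝔛.lvU h n U)
  let K := sheafToPresheaf (Opens.grothendieckTopology (𝔛.X 0)) CommRingCat.{u} ⋙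
    (evaluation _ CommRingCat.{u}).obj (op U) ⋙
    forget CommRingCat.{u}
  refine surjective_π (isLimitOfPreserves K (limit.isLimit (𝔛.levelRing h))) (fun n => ?_) i
  have e := congrArg K.map (𝔛.levelRing_map_succ h n)
  change Function.Surjective (K.map ((𝔛.levelRing h).map (homOfLE (Nat.le_add_right n 1)).op))
  rw [e]
  have := (h n).1
  change Function.Surjective ((𝔛.levelMap h n).hom.app (op U))
  rw [FSch.Sys.levelMap_app]
  exact FComplLib.surjective_appLE (𝔛.ι n) _ (hlv (n + 1)) _ _ (𝔛.lvU_succ h n U).symm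
end Groth.Agent.S13347
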