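import Groth.Statements.S13352
import Groth.Agent.AdicRingLib.RigFinite

set_option autoImplicit false
universe u
open scoped TensorProduct
open AdicRing

namespace Groth.Agent.S13352

/-- Let R be a complete valuation ring of height one with t a nonzero element generating an ideal of
definition and K its field of fractions, A an admissible R-algebra, and f_1, ..., f_n elements of A
⊗_R K that are integral over A. Then A' = A[f_1, ..., f_n], a subalgebra of A ⊗_R K, is an
admissible R-algebra which is finite over A. (The published hypothesis is that each f_i has supremum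
seminorm at most 1 on the affinoid algebra A ⊗_R K; integrality of the f_i over A is what is derived
from it and used, and is the hypothesis taken here.) -/
theorem result
    (R : Type u) [CommRing R] [IsDomain R] [ValuationRing R] [Ring.KrullDimLE 1 R]
    (t : R) (ht : t ≠ 0) [IsAdicComplete (Ideal.span {t}) R]
    (A : Type u) [CommRing A] [Algebra R A] (hA : AdicRing.Admissible R (Ideal.span {t}) A)
    (n : ℕ) (f : Fin n → A ⊗[R] FractionRing R) (hf : ∀ i, IsIntegral A (f i)) :
    AdicRing.Admissible R (Ideal.span {t}) ↥(Algebra.adjoin A (Set.range f)) ∧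
      Module.Finite A ↥(Algebra.adjoin A (Set.range f)) := by
  have h := AdicRingLib.isHeightOne R t ht
  let K := FractionRing R
  let A' := Algebra.adjoin A (Set.range f)
  have hfin : Module.Finite A A' := Module.Finite.iff_fg.2
    (fg_adjoin_of_finite (Set.finite_range f) (by rintro _ ⟨i, rfl⟩; exact hf i))
  have hft := AdicRingLib.topFiniteType_of_topFinitePresentation hA.1
  have hA'ft : AdicRing.TopFiniteType R (Ideal.span {t}) A' :=
    AdicRingLib.topFiniteType_of_finite h.isBase hft A'
  have hT : AdicRing.NoPowTorsion (Ideal.span {t}) A' := fun x n hx => by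
    refine Subtype.ext ?_
    have h1 := congrArg Subtype.val (hx (t ^ n) (Ideal.pow_mem_pow (Ideal.mem_span_singleton_self t) n))
    have h2 : algebraMap A (A ⊗[R] K) (algebraMap R A (t ^ n)) * (x : A ⊗[R] K) = 0 := by
      rw [← IsScalarTower.algebraMap_apply, ← Algebra.smul_def]
      exact h1
    exact (h.isUnit_tensor_fractionRing (pow_ne_zero n ht)).mul_right_eq_zero.1 h2
  exact ⟨⟨AdicRingLib.topFinitePresentation_of_noPowTorsion h.isBase hA'ft hT, hT⟩, hfin⟩

end Groth.Agent.S13352
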