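import Groth.Statements.S13353
import Groth.Agent.AdicRingLib.RigFinite

set_option autoImplicit false
universe u
open scoped TensorProduct
open AdicRing

namespace Groth.Agent.S13353

/-- Let R be a complete valuation ring of height one with t a nonzero element generating an ideal of
definition and K its field of fractions, A an admissible R-algebra, f_1, ..., f_n elements of A ⊗_R
K integral over A, c a nonzero element of R and g_1, ..., g_n elements of A with g_i = c f_i in A
⊗_R K; put 𝔞 = (c, g_1, ..., g_n) and A' = A[f_1, ..., f_n] ⊂ A ⊗_R K. If D is an admissible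
R-algebra and φ : A → D an R-algebra homomorphism such that the ideal 𝔞D is generated by the image
of c, or by the image of some g_i, then 𝔞D is generated by c and φ extends to exactly one R-algebra
homomorphism A' → D. (This is the universal property through which Spf A' → Spf A is identified with
the formal blowing-up of 𝔞 on Spf A; the published hypothesis on the f_i is a supremum-seminorm
bound, from which their integrality over A is derived.) -/
theorem result
    (R : Type u) [CommRing R] [IsDomain R] [ValuationRing R] [Ring.KrullDimLE 1 R]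
    (t : R) (ht : t ≠ 0) [IsAdicComplete (Ideal.span {t}) R]
    (A : Type u) [CommRing A] [Algebra R A] (hA : AdicRing.Admissible R (Ideal.span {t}) A)
    (n : ℕ) (f : Fin n → A ⊗[R] FractionRing R) (hf : ∀ i, IsIntegral A (f i))
    (c : R) (hc : c ≠ 0) (g : Fin n → A)
    (hg : ∀ i, algebraMap A (A ⊗[R] FractionRing R) (g i) = c • f i)
    (D : Type u) [CommRing D] [Algebra R D] (hD : AdicRing.Admissible R (Ideal.span {t}) D)
    (φ : A →ₐ[R] D)
    (hgen : (Ideal.span (insert (algebraMap R A c) (Set.range g))).map φ =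
          Ideal.span {algebraMap R D c} ∨
      ∃ i, (Ideal.span (insert (algebraMap R A c) (Set.range g))).map φ = Ideal.span {φ (g i)}) :
    (Ideal.span (insert (algebraMap R A c) (Set.range g))).map φ = Ideal.span {algebraMap R D c} ∧
      ∃! ψ : ↥(Algebra.adjoin A (Set.range f)) →ₐ[R] D,
        ψ.comp (IsScalarTower.toAlgHom R A ↥(Algebra.adjoin A (Set.range f))) = φ := by
  have h := AdicRingLib.isHeightOne R t ht
  let K := FractionRing R
  let AK := A ⊗[R] K
  let DK := D ⊗[R] K
  have hregD : ∀ x : D, algebraMap R D c * x = 0 → x = 0 := fun x hx => by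
    obtain ⟨m, d, hd⟩ := h.exists_dvd_pow hc
    refine hD.2 x m fun a ha => ?_
    rw [Ideal.span_singleton_pow, Ideal.mem_span_singleton'] at ha
    obtain ⟨e, rfl⟩ := ha
    rw [hd, show e * (c * d) = e * d * c by ring, Algebra.smul_def, map_mul, mul_assoc, hx, mul_zero]
  have hinj : ∀ (B : Type u) [CommRing B] [Algebra R B], AdicRing.NoPowTorsion (Ideal.span {t}) B →
      Function.Injective (algebraMap B (B ⊗[R] K)) := by
    intro B _ _ hT
    refine (injective_iff_map_eq_zero _).2 fun x hx => ?_
    obtain ⟨⟨_, r, hr, rfl⟩, hrx⟩ :=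
      (IsLocalization.map_eq_zero_iff (Algebra.algebraMapSubmonoid B (nonZeroDivisors R)) (B ⊗[R] K) x).1 hx
    obtain ⟨m, d, hd⟩ := h.exists_dvd_pow (nonZeroDivisors.ne_zero hr)
    refine hT x m fun a ha => ?_
    rw [Ideal.span_singleton_pow, Ideal.mem_span_singleton'] at ha
    obtain ⟨e, rfl⟩ := ha
    rw [hd, show e * (r * d) = e * d * r by ring, Algebra.smul_def, map_mul, mul_assoc, hrx, mul_zero]
  let Φ : AK →ₐ[R] DK := Algebra.TensorProduct.map φ (AlgHom.id R K)
  have hΦ : ∀ x : A, Φ (algebraMap A AK x) = algebraMap D DK (φ x) := fun x => rfl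
  let cD := algebraMap R D c
  have hcφ : φ (algebraMap R A c) = cD := φ.commutes c
  let 𝔞 := Ideal.span (insert (algebraMap R A c) (Set.range g))
  have hmem : ∀ j, φ (g j) ∈ 𝔞.map φ := fun j =>
    Ideal.mem_map_of_mem _ (Ideal.subset_span (Set.mem_insert_of_mem _ ⟨j, rfl⟩))
  have heq : 𝔞.map φ = Ideal.span {cD} := by
    rcases hgen with h1 | ⟨i, h1⟩
    · exact h1
    have hcmem : cD ∈ 𝔞.map φ := hcφ ▸ Ideal.mem_map_of_mem _ (Ideal.subset_span (Set.mem_insert _ _))
    rw [h1] at hcmem
    obtain ⟨u, hu⟩ := Ideal.mem_span_singleton'.1 hcmem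
    obtain ⟨P, hP, hPf⟩ := hf i
    have hgc : algebraMap A AK (g i) = algebraMap A AK (algebraMap R A c) * f i := by
      rw [hg i, ← IsScalarTower.algebraMap_apply R A AK, ← algebraMap_smul AK c (f i), smul_eq_mul]
    have hA0 : (P.scaleRoots (algebraMap R A c)).eval (g i) = 0 := by
      refine hinj A hA.2 ?_
      rw [map_zero, ← Polynomial.eval₂_at_apply, hgc]
      exact Polynomial.scaleRoots_eval₂_eq_zero _ hPf
    have hreg : φ (g i) ∈ nonZeroDivisors D := mem_nonZeroDivisors_iff_right.2 fun x hx => hregD x (by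
      show cD * x = 0
      rw [← hu, mul_assoc, mul_comm (φ (g i)) x, hx, mul_zero])
    have hD0 : φ (g i) ^ P.natDegree *
        (∑ k ∈ Finset.range (P.natDegree + 1), φ (P.coeff k) * u ^ (P.natDegree - k)) = 0 := by
      have h3 := congrArg φ hA0
      rw [Polynomial.eval_eq_sum_range, Polynomial.natDegree_scaleRoots, map_zero, map_sum] at h3
      rw [Finset.mul_sum, ← h3]
      refine Finset.sum_congr rfl fun k hk => ?_
      rw [Finset.mem_range] at hk
      rw [Polynomial.coeff_scaleRoots, map_mul, map_mul, map_pow, map_pow, hcφ, ← hu, mul_pow,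
        show φ (g i) ^ P.natDegree = φ (g i) ^ (P.natDegree - k) * φ (g i) ^ k by
          rw [← pow_add, Nat.sub_add_cancel (by omega)]]
      ring
    have hsum := (mem_nonZeroDivisors_iff_right.1 (pow_mem hreg P.natDegree)) _ ((mul_comm _ _).trans hD0)
    rw [Finset.sum_range_succ, Nat.sub_self, pow_zero, mul_one, hP.coeff_natDegree, map_one] at hsum
    have huu : IsUnit u := by
      refine IsUnit.of_mul_eq_one
        (-(∑ k ∈ Finset.range P.natDegree, φ (P.coeff k) * u ^ (P.natDegree - k - 1))) ?_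
      have h4 : ∑ k ∈ Finset.range P.natDegree, φ (P.coeff k) * u ^ (P.natDegree - k) =
          u * ∑ k ∈ Finset.range P.natDegree, φ (P.coeff k) * u ^ (P.natDegree - k - 1) := by
        rw [Finset.mul_sum]
        refine Finset.sum_congr rfl fun k hk => ?_
        rw [Finset.mem_range] at hk
        conv_lhs => rw [show P.natDegree - k = P.natDegree - k - 1 + 1 by omega, pow_succ]
        ring
      linear_combination h4 - hsum
    refine h1.trans ?_
    rw [← hu, mul_comm]
    exact (Ideal.span_singleton_mul_right_unit huu _).symm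
  refine ⟨heq, ?_⟩
  have hd : ∀ j, ∃ d : D, φ (g j) = cD * d := fun j => by
    obtain ⟨d, hd⟩ := Ideal.mem_span_singleton'.1 (heq ▸ hmem j)
    exact ⟨d, by rw [← hd, mul_comm]⟩
  choose d hd using hd
  let S := (IsScalarTower.toAlgHom R D DK).range
  have hA' : ∀ x : Algebra.adjoin A (Set.range f), Φ x.1 ∈ S := fun x => by
    have hx := x.2
    generalize x.1 = y at hx ⊢
    induction hx using Algebra.adjoin_induction with
    | mem y hy =>
      obtain ⟨j, rfl⟩ := hy
      refine ⟨d j, (h.isUnit_tensor_fractionRing (A := D) hc).mul_left_cancel ?_⟩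
      show algebraMap D DK cD * algebraMap D DK (d j) = algebraMap D DK cD * Φ (f j)
      rw [← map_mul, ← hd, ← hΦ, hg j, map_smul, ← IsScalarTower.algebraMap_apply R D DK, ← algebraMap_smul DK c (Φ (f j)), smul_eq_mul]
    | algebraMap r => exact ⟨φ r, (hΦ r).symm⟩
    | add u v _ _ hu hv => rw [map_add]; exact add_mem hu hv
    | mul u v _ _ hu hv => rw [map_mul]; exact mul_mem hu hv
  let eD := AlgEquiv.ofInjective (IsScalarTower.toAlgHom R D DK) (hinj D hD.2)
  let Φ' : ↥(Algebra.adjoin A (Set.range f)) →ₐ[R] DK := Φ.comp ((Algebra.adjoin A (Set.range f)).val.restrictScalars R)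
  let ψ : ↥(Algebra.adjoin A (Set.range f)) →ₐ[R] D := eD.symm.toAlgHom.comp (Φ'.codRestrict S hA')
  have hψ : ∀ x, algebraMap D DK (ψ x) = Φ' x := fun x =>
    congrArg Subtype.val (eD.apply_symm_apply (Φ'.codRestrict S hA' x))
  refine ⟨ψ, AlgHom.ext fun x => hinj D hD.2 ((hψ _).trans (hΦ x)), fun ψ' hψ' => ?_⟩
  refine AlgHom.ext fun x => hinj D hD.2 ?_
  rw [hψ]
  obtain ⟨y, hy⟩ := x
  show algebraMap D DK (ψ' ⟨y, hy⟩) = Φ y
  induction hy using Algebra.adjoin_induction with
  | mem y hy =>
    obtain ⟨j, rfl⟩ := hy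
    refine (h.isUnit_tensor_fractionRing (A := D) hc).mul_left_cancel ?_
    have h1 : cD * ψ' ⟨f j, Algebra.subset_adjoin ⟨j, rfl⟩⟩ = φ (g j) := by
      rw [← AlgHom.congr_fun hψ' (g j)]
      show cD * _ = ψ' (algebraMap A _ (g j))
      rw [show algebraMap A _ (g j) = c • (⟨f j, Algebra.subset_adjoin ⟨j, rfl⟩⟩ : ↥(Algebra.adjoin A (Set.range f)))
        from Subtype.ext (hg j), map_smul, Algebra.smul_def]
    show algebraMap D DK cD * _ = algebraMap D DK cD * _
    rw [← map_mul, h1, ← hΦ, hg j, map_smul, ← IsScalarTower.algebraMap_apply R D DK, ← algebraMap_smul DK c (Φ (f j)), smul_eq_mul]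
  | algebraMap r =>
    exact (congrArg _ (AlgHom.congr_fun hψ' r)).trans (hΦ r).symm
  | add u v hu hv hu' hv' =>
    rw [show (⟨u + v, add_mem hu hv⟩ : ↥(Algebra.adjoin A (Set.range f))) = ⟨u, hu⟩ + ⟨v, hv⟩ from rfl, map_add,
      map_add, map_add, hu', hv']
  | mul u v hu hv hu' hv' =>
    rw [show (⟨u * v, mul_mem hu hv⟩ : ↥(Algebra.adjoin A (Set.range f))) = ⟨u, hu⟩ * ⟨v, hv⟩ from rfl, map_mul,
      map_mul, map_mul, hu', hv']

end Groth.Agent.S13353
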