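import Groth.Statements.S13354
import Groth.Agent.AdicRingLib.RigFinite

set_option autoImplicit false
universe u
open AdicRing

namespace Groth.Agent.S13354

/-- Let R be a complete valuation ring of height one with t a nonzero element generating an ideal of
definition, B an admissible R-algebra which is a local integral domain of Krull dimension one (the
algebra of a rig-point), and b_1, ..., b_n elements of B, not all zero. Then there is a B-subalgebra
B' of the field of fractions of B which is finite over B, is again a local ring of Krull dimension
one, and in which the ideal generated by b_1, ..., b_n is generated by one of the b_i alone (hence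
is invertible). (This is the algebraic step by which a rig-point is lifted along the formal
blowing-up of a finitely generated open ideal; the resulting bijection between rig-points of the
blowing-up and of the base is not stated here.) -/
theorem result
    (R : Type u) [CommRing R] [IsDomain R] [ValuationRing R] [Ring.KrullDimLE 1 R]
    (t : R) (ht : t ≠ 0) [IsAdicComplete (Ideal.span {t}) R]
    (B : Type u) [CommRing B] [Algebra R B] [IsDomain B] [IsLocalRing B]
    (hB : AdicRing.Admissible R (Ideal.span {t}) B) (hdim : ringKrullDim B = 1)
    (n : ℕ) (b : Fin n → B) (hb : ∃ i, b i ≠ 0) :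
    ∃ B' : Subalgebra B (FractionRing B), Module.Finite B ↥B' ∧ IsLocalRing ↥B' ∧ ringKrullDim ↥B' = 1 ∧
      ∃ i, Ideal.span (Set.range (fun j => algebraMap B ↥B' (b j))) =
        Ideal.span {algebraMap B ↥B' (b i)} := by
  classical
  have h := AdicRingLib.isHeightOne R t ht
  have hft := AdicRingLib.topFiniteType_of_topFinitePresentation hB.1
  have htB := h.algebraMap_t_ne_zero hB.2
  have hfin := h.finite_of_ringKrullDim_le_one hft htB hdim.le
  let L := FractionRing B
  have hinjB := h.injective_algebraMap htB
  have hinjL : Function.Injective (algebraMap R L) := by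
    rw [IsScalarTower.algebraMap_eq R B L]
    exact (IsFractionRing.injective B L).comp hinjB
  have : Module.IsTorsionFree R L := Module.isTorsionFree_iff_algebraMap_injective.2 hinjL
  have : Algebra.IsAlgebraic R B := Algebra.IsIntegral.isAlgebraic
  have halg : Algebra.IsAlgebraic R L := (IsFractionRing.isAlgebraic_iff' R B L).1 inferInstance
  let β : Fin n → L := fun j => algebraMap B L (b j)
  have hpick : ∀ s : Finset (Fin n), (∃ i ∈ s, b i ≠ 0) →
      ∃ i ∈ s, b i ≠ 0 ∧ ∀ j ∈ s, IsIntegral R (β j / β i) := by
    intro s
    induction s using Finset.induction_on with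
    | empty => rintro ⟨i, hi, -⟩; exact absurd hi (Finset.notMem_empty i)
    | insert a s ha ih =>
      rintro ⟨i₀, hi₀, hb₀⟩
      by_cases hs : ∃ i ∈ s, b i ≠ 0
      · obtain ⟨i, hi, hbi, hall⟩ := ih hs
        have hβi : β i ≠ 0 := fun h0 => hbi (IsFractionRing.injective B L (h0.trans (map_zero _).symm))
        rcases h.isIntegral_or_isIntegral_inv hinjL (halg.isAlgebraic (β a / β i)) with h1 | h1
        · refine ⟨i, Finset.mem_insert_of_mem hi, hbi, fun j hj => ?_⟩
          rcases Finset.mem_insert.1 hj with rfl | hj
          exacts [h1, hall j hj]
        · by_cases hba : b a = 0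
          · refine ⟨i, Finset.mem_insert_of_mem hi, hbi, fun j hj => ?_⟩
            rcases Finset.mem_insert.1 hj with rfl | hj
            · rw [show β j = 0 from (congrArg (algebraMap B L) hba).trans (map_zero _), zero_div]
              exact isIntegral_zero
            · exact hall j hj
          refine ⟨a, Finset.mem_insert_self a s, hba, fun j hj => ?_⟩
          rw [inv_div] at h1
          rcases Finset.mem_insert.1 hj with rfl | hj
          · rw [div_self fun h0 => hba (IsFractionRing.injective B L (h0.trans (map_zero _).symm))]
            exact isIntegral_one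
          · rw [show β j / β a = β j / β i * (β i / β a) from (div_mul_div_cancel₀ hβi).symm]
            exact (hall j hj).mul h1
      · have ha0 : i₀ = a := by
          rcases Finset.mem_insert.1 hi₀ with rfl | hj
          · rfl
          · exact absurd ⟨i₀, hj, hb₀⟩ hs
        subst ha0
        refine ⟨i₀, Finset.mem_insert_self _ _, hb₀, fun j hj => ?_⟩
        rcases Finset.mem_insert.1 hj with rfl | hj
        · rw [div_self fun h0 => hb₀ (IsFractionRing.injective B L (h0.trans (map_zero _).symm))]
          exact isIntegral_one
        · rw [show β j = 0 from (congrArg (algebraMap B L) (by_contra fun hne => hs ⟨j, hj, hne⟩)).trans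
            (map_zero _), zero_div]
          exact isIntegral_zero
  obtain ⟨i, -, hbi, hall⟩ := hpick Finset.univ (let ⟨i, hi⟩ := hb; ⟨i, Finset.mem_univ i, hi⟩)
  let B' := Algebra.adjoin B (Set.range fun j => β j / β i)
  have hB' : Module.Finite B B' := Module.Finite.iff_fg.2 (fg_adjoin_of_finite (Set.finite_range _) (by
    rintro _ ⟨j, rfl⟩; exact (hall j (Finset.mem_univ j)).tower_top))
  have : Module.Finite R B' := Module.Finite.trans B B'
  have : Algebra.IsIntegral R B' := Algebra.IsIntegral.of_finite R B'
  have hinjB' : Function.Injective (algebraMap R B') := fun x y hxy => hinjL (congrArg Subtype.val hxy)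
  refine ⟨B', hB', h.isLocalRing_of_isIntegral hinjB', h.ringKrullDim_of_isIntegral hinjB', i, ?_⟩
  refine le_antisymm (Ideal.span_le.2 ?_) (Ideal.span_le.2 ?_)
  · rintro _ ⟨j, rfl⟩
    refine Ideal.mem_span_singleton'.2 ⟨⟨β j / β i, Algebra.subset_adjoin ⟨j, rfl⟩⟩, Subtype.ext ?_⟩
    exact div_mul_cancel₀ _ fun h0 => hbi (IsFractionRing.injective B L (h0.trans (map_zero _).symm))
  · rintro _ rfl
    exact Ideal.subset_span ⟨i, rfl⟩

end Groth.Agent.S13354
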