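import Groth.Statements.S13359
import Mathlib


-- import your own Groth.Agent.* helpers here

set_option autoImplicit false
universe u
open UltraProd

namespace Groth.Agent.S13359

/-- If (R_i) is a nonempty family of integrally closed domains, then the localization of the product
ring ∏ R_i at any prime ideal is an integrally closed domain. -/
theorem result {ι : Type u} [Nonempty ι] (R : ι → Type u)
    [∀ i, CommRing (R i)] [∀ i, IsDomain (R i)] [∀ i, IsIntegrallyClosed (R i)]
    (P : Ideal (∀ i, R i)) [P.IsPrime] :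
    IsDomain (Localization.AtPrime P) ∧ IsIntegrallyClosed (Localization.AtPrime P) := by
  set_option synthInstance.maxHeartbeats 400000 in
  focus
    classical
    set L := Localization.AtPrime P
    have hzero : ∀ a : ∀ i, R i, algebraMap (∀ i, R i) L a = 0 ↔ ∃ t, t ∉ P ∧ t * a = 0 := fun a =>
      ⟨fun h => by obtain ⟨t, e⟩ := (IsLocalization.map_eq_zero_iff P.primeCompl L a).1 h; exact ⟨t.1, t.2, e⟩,
        fun ⟨t, ht, e⟩ => (IsLocalization.map_eq_zero_iff P.primeCompl L a).2 ⟨⟨t, ht⟩, e⟩⟩
    have hidem : ∀ (s : Set ι) [DecidablePred (· ∈ s)], (fun i => if i ∈ s then (1 : R i) else 0) ∈ P → (fun i => if i ∈ s then (0 : R i) else 1) ∉ P := by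
      intro s _ h h'
      exact ‹P.IsPrime›.ne_top ((Ideal.eq_top_iff_one _).2 (by convert P.add_mem h h' using 1; ext i; by_cases hi : i ∈ s <;> simp [hi]))
    haveI hdom : IsDomain L := by
      have : NoZeroDivisors L := by
        constructor
        intro u v huv
        obtain ⟨⟨a, s⟩, rfl⟩ := IsLocalization.mk'_surjective P.primeCompl u
        obtain ⟨⟨b, r⟩, rfl⟩ := IsLocalization.mk'_surjective P.primeCompl v
        rw [← IsLocalization.mk'_mul, IsLocalization.mk'_eq_zero_iff] at huv
        obtain ⟨⟨t, ht⟩, e⟩ := huv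
        rw [IsLocalization.mk'_eq_zero_iff, IsLocalization.mk'_eq_zero_iff]
        let s' : Set ι := {i | a i = 0}
        by_cases h : (fun i => if i ∈ s' then (1 : R i) else 0) ∈ P
        · refine Or.inr ⟨⟨_, P.primeCompl.mul_mem ht (hidem s' h)⟩, ?_⟩
          ext i
          have := congrFun e i
          by_cases hi : i ∈ s'
          · simp [hi]
          · simp only [Pi.mul_apply, Pi.zero_apply, hi, if_false, mul_one] at this ⊢
            rcases mul_eq_zero.1 this with h0 | h0
            · simp [h0]
            · rcases mul_eq_zero.1 h0 with h1 | h1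
              · exact absurd h1 hi
              · simp [h1]
        · refine Or.inl ⟨⟨_, h⟩, ?_⟩
          ext i
          by_cases hi : i ∈ s'
          · simp [hi, show a i = 0 from hi]
          · simp [hi]
      exact NoZeroDivisors.to_isDomain L
    refine ⟨hdom, (isIntegrallyClosed_iff (FractionRing L)).2 fun {x} hx => ?_⟩
    obtain ⟨⟨m, hm⟩, q, hq, hqx⟩ := IsIntegral.exists_multiple_integral_of_isLocalization P.primeCompl x hx
    obtain ⟨⟨u, ⟨v, hv⟩⟩, rfl⟩ := IsLocalization.mk'_surjective (nonZeroDivisors L) x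
    obtain ⟨⟨a, s⟩, rfl⟩ := IsLocalization.mk'_surjective P.primeCompl u
    obtain ⟨⟨b, r⟩, rfl⟩ := IsLocalization.mk'_surjective P.primeCompl v
    have hb0 : algebraMap (∀ i, R i) L b ≠ 0 := fun h => nonZeroDivisors.ne_zero hv (show IsLocalization.mk' L b r = 0 by rw [IsLocalization.mk'_eq_mul_mk'_one, h, zero_mul])
    set F := FractionRing L
    set x := IsLocalization.mk' F (IsLocalization.mk' L a s) ⟨IsLocalization.mk' L b r, hv⟩
    have hxv : x * algebraMap L F (algebraMap _ L (b * s.1)) = algebraMap L F (algebraMap _ L (a * r.1)) := by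
      have h1 := IsLocalization.mk'_spec F (IsLocalization.mk' L a s) (⟨IsLocalization.mk' L b r, hv⟩ : nonZeroDivisors L)
      have h2 := IsLocalization.mk'_spec L a s
      have h3 := IsLocalization.mk'_spec L b r
      change x * algebraMap L F (IsLocalization.mk' L b r) = algebraMap L F (IsLocalization.mk' L a s) at h1
      simp only [map_mul]
      rw [← h2, ← h3]
      simp only [map_mul]
      rw [← h1]
      ring
    have hF : ∀ z, algebraMap (∀ i, R i) F z = algebraMap L F (algebraMap _ L z) := fun z => IsScalarTower.algebraMap_apply _ L F z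
    have hL : algebraMap (∀ i, R i) L ((q.scaleRoots (b * s.1)).eval (m * (a * r.1))) = 0 := by
      apply IsFractionRing.injective L F
      rw [map_zero, ← hF, ← Polynomial.eval₂_at_apply]
      have h4 : algebraMap (∀ i, R i) F (m * (a * r.1)) = algebraMap (∀ i, R i) F (b * s.1) * ((⟨m, hm⟩ : P.primeCompl) • x) := by
        rw [Submonoid.smul_def, Algebra.smul_def, map_mul, hF (a * r.1), ← hxv, ← hF]
        ring
      rw [h4, Polynomial.scaleRoots_eval₂_mul, hqx, mul_zero]
    obtain ⟨t, ht, e⟩ := (hzero _).1 hL
    let S' : Set ι := {i | (b * s.1) i ≠ 0 ∧ t i ≠ 0}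
    have hS' : (fun i => if i ∈ S' then (1 : R i) else 0) ∉ P := by
      intro h
      refine hb0 ((hzero b).2 ⟨_, P.primeCompl.mul_mem s.2 (P.primeCompl.mul_mem ht (hidem S' h)), ?_⟩)
      ext i
      by_cases hi : i ∈ S'
      · simp [hi]
      · simp only [Pi.mul_apply, hi, if_false, Pi.zero_apply, mul_one]
        simp only [S', Set.mem_ofPred_eq, Pi.mul_apply, ne_eq, not_and_or, not_not, mul_eq_zero] at hi
        rcases hi with (h0 | h0) | h0 <;> simp [h0]
    have hy : ∀ i, i ∈ S' → ∃ y : R i, (b * s.1) i * y = (m * (a * r.1)) i := by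
      intro i hi
      have he : (Polynomial.map (Pi.evalRingHom R i) (q.scaleRoots (b * s.1))).eval ((m * (a * r.1)) i) = 0 := by
        have h1 := congrFun e i
        rw [Pi.mul_apply, Pi.zero_apply, mul_eq_zero] at h1
        rw [Polynomial.eval_map, show (m * (a * r.1)) i = Pi.evalRingHom R i (m * (a * r.1)) from rfl, Polynomial.eval₂_at_apply]
        exact h1.resolve_left hi.2
      rw [Polynomial.map_scaleRoots _ _ _ (by rw [hq.leadingCoeff, map_one]; exact one_ne_zero)] at he
      change Polynomial.eval _ ((q.map (Pi.evalRingHom R i)).scaleRoots ((b * s.1) i)) = 0 at he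
      set K := FractionRing (R i)
      have hbK : algebraMap (R i) K ((b * s.1) i) ≠ 0 := (map_ne_zero_iff _ (IsFractionRing.injective _ K)).2 hi.1
      have hint : IsIntegral (R i) (algebraMap (R i) K ((m * (a * r.1)) i) / algebraMap (R i) K ((b * s.1) i)) := by
        refine ⟨q.map (Pi.evalRingHom R i), hq.map _, ?_⟩
        have h2 := congrArg (algebraMap (R i) K) he
        rw [map_zero, ← Polynomial.eval₂_at_apply, ← mul_div_cancel₀ (algebraMap (R i) K ((m * (a * r.1)) i)) hbK, Polynomial.scaleRoots_eval₂_mul] at h2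
        exact (mul_eq_zero.1 h2).resolve_left (pow_ne_zero _ hbK)
      obtain ⟨y, hy⟩ := IsIntegrallyClosed.isIntegral_iff.1 hint
      exact ⟨y, IsFractionRing.injective (R i) K (by rw [map_mul, hy, mul_div_cancel₀ _ hbK])⟩
    choose y hy using hy
    let Y : ∀ i, R i := fun i => if hi : i ∈ S' then y i hi else 0
    have hu : IsUnit (algebraMap (∀ i, R i) L (m * fun i => if i ∈ S' then (1 : R i) else 0)) :=
      IsLocalization.map_units L ⟨_, P.primeCompl.mul_mem hm hS'⟩
    obtain ⟨w, hw⟩ := hu.exists_left_inv
    refine ⟨algebraMap _ L Y * w, ?_⟩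
    have hbs : algebraMap L F (algebraMap _ L (b * s.1)) ≠ 0 := by
      rw [map_ne_zero_iff _ (IsFractionRing.injective L F), map_mul]
      exact mul_ne_zero hb0 (IsLocalization.map_units L s).ne_zero
    apply mul_right_cancel₀ hbs
    rw [hxv, ← map_mul]
    congr 1
    have hYb : (b * s.1) * Y = (a * r.1) * (m * fun i => if i ∈ S' then (1 : R i) else 0) := by
      ext i
      by_cases hi : i ∈ S'
      · have := hy i hi
        simp only [Pi.mul_apply, Y, dif_pos hi, if_pos hi, mul_one] at this ⊢
        rw [this]; ring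
      · simp [Y, hi]
    have h5 := congrArg (algebraMap (∀ i, R i) L) hYb
    rw [map_mul, map_mul _ (a * r.1)] at h5
    calc algebraMap _ L Y * w * algebraMap _ L (b * s.1) = (algebraMap _ L (b * s.1) * algebraMap _ L Y) * w := by ring
      _ = _ := by rw [h5, mul_assoc, mul_comm _ w, hw, mul_one]

end Groth.Agent.S13359
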