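import Groth.Statements.S13360
import Mathlib


-- import your own Groth.Agent.* helpers here

set_option autoImplicit false
universe u
open UltraProd

namespace Groth.Agent.S13360

/-- If (R_i) is a nonempty family of valuation rings, then the localization of the product ring ∏ R_i at
any prime ideal is a valuation ring: a domain in which, of any two elements, one divides the other. -/
theorem result {ι : Type u} [Nonempty ι] (R : ι → Type u)
    [∀ i, CommRing (R i)] [∀ i, IsDomain (R i)] [∀ i, ValuationRing (R i)]
    (P : Ideal (∀ i, R i)) [P.IsPrime] :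
    IsDomain (Localization.AtPrime P) ∧ PreValuationRing (Localization.AtPrime P) := by
  classical
  have hidem : ∀ S : Set ι, (fun i => if i ∈ S then (1 : R i) else 0) ∉ P ∨ (fun i => if i ∈ Sᶜ then (1 : R i) else 0) ∉ P := by
    intro S
    by_contra h
    push Not at h
    refine ‹P.IsPrime›.ne_top ((Ideal.eq_top_iff_one P).mpr ?_)
    have := P.add_mem h.1 h.2
    convert this using 1
    funext i
    by_cases hi : i ∈ S <;> simp [hi]
  let L := Localization.AtPrime P
  let alg := algebraMap (∀ i, R i) L
  have hunit : ∀ e : ∀ i, R i, e ∉ P → IsUnit (alg e) := fun e he => IsLocalization.map_units L (⟨e, he⟩ : P.primeCompl)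
  haveI : NoZeroDivisors L := by
    refine ⟨fun {x y} hxy => ?_⟩
    obtain ⟨⟨a, s⟩, ha⟩ := IsLocalization.surj P.primeCompl x
    obtain ⟨⟨b, t⟩, hb⟩ := IsLocalization.surj P.primeCompl y
    have hab : alg (a * b) = 0 := by
      rw [map_mul, show alg a = x * alg s from ha.symm, show alg b = y * alg t from hb.symm]
      linear_combination (alg s * alg t) * hxy
    obtain ⟨⟨u, hu⟩, hu0⟩ := (IsLocalization.map_eq_zero_iff P.primeCompl L _).mp hab
    rcases hidem {i | a i = 0} with he | he
    · left
      rw [← (hunit s.1 s.2).mul_left_eq_zero, show x * alg s.1 = alg a from ha]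
      exact (IsLocalization.map_eq_zero_iff P.primeCompl L a).mpr ⟨⟨_, he⟩, funext fun i => by
        by_cases hi : a i = 0 <;> simp [hi]⟩
    · right
      rw [← (hunit t.1 t.2).mul_left_eq_zero, show y * alg t.1 = alg b from hb]
      refine (IsLocalization.map_eq_zero_iff P.primeCompl L b).mpr ⟨⟨_, Ideal.IsPrime.mul_notMem ‹_› hu he⟩, funext fun i => ?_⟩
      have h := congrFun hu0 i
      by_cases hi : a i = 0
      · simp [hi]
      · simp only [Pi.mul_apply, Pi.zero_apply, mul_eq_zero] at h
        simp only [Pi.mul_apply, Pi.zero_apply, Set.mem_compl_iff, Set.mem_setOf_eq, hi, not_false_iff, if_true, mul_one]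
        rcases h with h | h | h
        · rw [h, zero_mul]
        · exact absurd h hi
        · rw [h, mul_zero]
  haveI : IsDomain L := NoZeroDivisors.to_isDomain L
  refine ⟨this, ⟨fun x y => ?_⟩⟩
  obtain ⟨⟨a, s⟩, ha⟩ := IsLocalization.surj P.primeCompl x
  obtain ⟨⟨b, t⟩, hb⟩ := IsLocalization.surj P.primeCompl y
  choose c hc using fun i => ValuationRing.cond (a i) (b i)
  obtain ⟨s', hs'⟩ := (hunit s.1 s.2).exists_left_inv
  obtain ⟨t', ht'⟩ := (hunit t.1 t.2).exists_left_inv
  rcases hidem {i | a i * c i = b i} with he | he
  · obtain ⟨e', he'⟩ := (hunit _ he).exists_left_inv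
    refine ⟨alg s * alg c * t', Or.inl ?_⟩
    have : (fun i => if i ∈ {i | a i * c i = b i} then (1 : R i) else 0) * (a * c) =
        (fun i => if i ∈ {i | a i * c i = b i} then (1 : R i) else 0) * b := funext fun i => by
      by_cases hi : a i * c i = b i <;> simp [hi]
    have h := congrArg alg this
    simp only [map_mul] at h
    rw [show alg a = x * alg s from ha.symm, show alg b = y * alg t from hb.symm] at h
    linear_combination (e' * t') * h + (y * alg t * t' - x * alg s * alg c * t') * he' + y * ht'
  · obtain ⟨e', he'⟩ := (hunit _ he).exists_left_inv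
    refine ⟨alg t * alg c * s', Or.inr ?_⟩
    have : (fun i => if i ∈ {i | a i * c i = b i}ᶜ then (1 : R i) else 0) * (b * c) =
        (fun i => if i ∈ {i | a i * c i = b i}ᶜ then (1 : R i) else 0) * a := funext fun i => by
      by_cases hi : a i * c i = b i
      · simp [hi]
      · simp [hi, (hc i).resolve_left hi]
    have h := congrArg alg this
    simp only [map_mul] at h
    rw [show alg a = x * alg s from ha.symm, show alg b = y * alg t from hb.symm] at h
    linear_combination (e' * s') * h + (x * alg s * s' - y * alg t * alg c * s') * he' + x * hs'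

end Groth.Agent.S13360
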