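import Groth.Statements.S13370
import Mathlib
-- import your own Groth.Agent.* helpers here

set_option autoImplicit false
universe u
open GaDual

namespace Groth.Agent.S13370

open AlgebraicGeometry CategoryTheory CategoryTheory.Limits MvPolynomial in
theorem key_aux (n : Type u) (X : Scheme.{u}) (w : Γ(𝔸(n; X), ⊤)) (hw : IsUnit w)
    (A : CommRingCat.{u}) [_root_.IsReduced A] (u : Spec A ⟶ X) :
    ((AffineSpace.SpecIso n A).inv ≫ AffineSpace.map n u).appTop
        ((𝔸(n; X) ↘ X).appTop ((AffineSpace.homOfVector (𝟙 X) fun _ => (0 : Γ(X, ⊤))).appTop w)) =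
      ((AffineSpace.SpecIso n A).inv ≫ AffineSpace.map n u).appTop w := by
  set j := (AffineSpace.SpecIso n A).inv ≫ AffineSpace.map n u with hj
  let ev : MvPolynomial n A →+* A := MvPolynomial.eval fun _ => 0
  have hσ : Spec.map (CommRingCat.ofHom ev) ≫ j = u ≫ AffineSpace.homOfVector (𝟙 X) fun _ => (0 : Γ(X, ⊤)) := by
    apply AffineSpace.hom_ext
    · simp only [hj, Category.assoc, AffineSpace.homOfVector_over, Category.comp_id, AffineSpace.map_over,
        AffineSpace.SpecIso_inv_over_assoc]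
      rw [← Category.assoc, ← Spec.map_comp]
      have : CommRingCat.ofHom (C : A →+* MvPolynomial n A) ≫ CommRingCat.ofHom ev = 𝟙 A := by
        ext x; exact MvPolynomial.eval_C x
      rw [this]
      erw [Spec.map_id, Category.id_comp]
    · intro i
      simp only [hj, Scheme.Hom.comp_appTop, CommRingCat.comp_apply, AffineSpace.homOfVector_appTop_coord,
        AffineSpace.map_appTop_coord, AffineSpace.SpecIso_inv_appTop_coord, map_zero]
      rw [← CommRingCat.comp_apply, ← Scheme.ΓSpecIso_inv_naturality, CommRingCat.comp_apply]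
      simp [ev]
  obtain ⟨P, hP⟩ : ∃ P : MvPolynomial n A, (Scheme.ΓSpecIso (.of (MvPolynomial n A))).inv P = j.appTop w :=
    ⟨(Scheme.ΓSpecIso (.of (MvPolynomial n A))).hom (j.appTop w), by
      rw [← CommRingCat.comp_apply, Iso.hom_inv_id]; rfl⟩
  have hPu : IsUnit P := by
    have h1 : IsUnit (j.appTop w) := hw.map _
    have h2 := h1.map (Scheme.ΓSpecIso (.of (MvPolynomial n A))).hom.hom
    rwa [← hP, ← CommRingCat.comp_apply, Iso.inv_hom_id] at h2
  have hPC : P = C (ev P) := by
    classical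
    obtain ⟨-, hn⟩ := MvPolynomial.isUnit_iff.1 hPu
    have hc : P = C (P.coeff 0) := by
      ext m
      rw [MvPolynomial.coeff_C]
      split_ifs with h
      · rw [← h]
      · exact (hn m (Ne.symm h)).eq_zero
    rw [hc]
    simp [ev]
  rw [← hP]
  have h1 : u.appTop ((AffineSpace.homOfVector (𝟙 X) fun _ => (0 : Γ(X, ⊤))).appTop w) =
      (Scheme.ΓSpecIso A).inv (ev P) := by
    rw [← CommRingCat.comp_apply, ← Scheme.Hom.comp_appTop, ← hσ, Scheme.Hom.comp_appTop,
      CommRingCat.comp_apply, ← hP, ← CommRingCat.comp_apply, ← Scheme.ΓSpecIso_inv_naturality]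
    rfl
  rw [← CommRingCat.comp_apply, ← Scheme.Hom.comp_appTop, hj, Category.assoc, AffineSpace.map_over,
    AffineSpace.SpecIso_inv_over_assoc, Scheme.Hom.comp_appTop, CommRingCat.comp_apply, h1,
    ← CommRingCat.comp_apply, ← Scheme.ΓSpecIso_inv_naturality, CommRingCat.comp_apply]
  congr 1
  exact hPC.symm

open AlgebraicGeometry CategoryTheory CategoryTheory.Limits in
theorem key (n : Type u) (X : Scheme.{u}) [IsReduced X] (w : Γ(𝔸(n; X), ⊤)) (hw : IsUnit w)
    {Y P : Scheme.{u}} [IsAffine Y] (u : Y ⟶ X) [IsOpenImmersion u] (a : P ⟶ 𝔸(n; X)) (b : P ⟶ Y)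
    (h : IsPullback a b (𝔸(n; X) ↘ X) u) :
    a.appTop ((𝔸(n; X) ↘ X).appTop ((AffineSpace.homOfVector (𝟙 X) fun _ => (0 : Γ(X, ⊤))).appTop w)) =
      a.appTop w := by
  let u' : Spec Γ(Y, ⊤) ⟶ X := Y.isoSpec.inv ≫ u
  haveI : IsReduced Y := isReduced_of_isOpenImmersion u
  haveI : _root_.IsReduced Γ(Y, ⊤) := IsReduced.component_reduced ⊤
  have hk := key_aux n X w hw Γ(Y, ⊤) u'
  let i2 : 𝔸(n; Spec Γ(Y, ⊤)) ≅ P := (AffineSpace.isPullback_map u').isoPullback ≪≫
    asIso (pullback.map _ _ _ _ (𝟙 _) Y.isoSpec.inv (𝟙 X) (by simp) (by simp [u'])) ≪≫ h.isoPullback.symm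
  have hi2 : i2.hom ≫ a = AffineSpace.map n u' := by
    simp only [i2, Iso.trans_hom, Iso.symm_hom, asIso_hom, Category.assoc, IsPullback.isoPullback_inv_fst]
    erw [pullback.lift_fst]
    simp
  have ha : a = (i2.inv ≫ (AffineSpace.SpecIso n Γ(Y, ⊤)).hom) ≫
      ((AffineSpace.SpecIso n Γ(Y, ⊤)).inv ≫ AffineSpace.map n u') := by
    rw [← hi2]; simp
  rw [ha, Scheme.Hom.comp_appTop, CommRingCat.comp_apply, CommRingCat.comp_apply, hk]

open AlgebraicGeometry in
/-- Over a reduced scheme X, each invertible global function on 𝔸ⁿ_X comes, by pullback along the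
projection to X, from an invertible global function on X. -/
theorem result (n : Type u) [Finite n] (X : Scheme.{u}) [IsReduced X]
    (w : Γ(𝔸(n; X), ⊤)) (hw : IsUnit w) :
    ∃ v : Γ(X, ⊤), IsUnit v ∧ (𝔸(n; X) ↘ X).appTop v = w := by
  classical
  let σ : X ⟶ 𝔸(n; X) := AffineSpace.homOfVector (CategoryTheory.CategoryStruct.id X) fun _ => 0
  refine ⟨σ.appTop w, hw.map _, ?_⟩
  refine Scheme.OpenCover.ext_elem _ _ (X.affineCover.pullback₁ (𝔸(n; X) ↘ X)) fun i => ?_
  haveI : IsAffine (X.affineCover.X i) := inferInstanceAs (IsAffine (Spec _))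
  haveI : IsOpenImmersion (X.affineCover.f i) := X.affineCover.map_prop i
  exact key n X w hw (X.affineCover.f i) (CategoryTheory.Limits.pullback.fst _ _) (CategoryTheory.Limits.pullback.snd _ _)
    (CategoryTheory.IsPullback.of_hasPullback _ _)

end Groth.Agent.S13370
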