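import Groth.Statements.S13371
import Mathlib
import Groth.Prelude.Def_GmPts
import Groth.Agent.GaGmKerLib.GaPts
-- import your own Groth.Agent.* helpers here

set_option autoImplicit false
set_option backward.isDefEq.respectTransparency false
set_option maxHeartbeats 400000
set_option synthInstance.maxHeartbeats 200000
universe u
open GaDual

namespace Groth.Agent.S13371

section
open CategoryTheory AlgebraicGeometry MonObj CartesianMonoidalCategory

/-- A homomorphism from the additive group to the multiplicative group is trivial over a reduced ring. -/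
theorem comp_eq_one {S : Scheme.{u}} (φ : Red.Ga S ⟶ Red.Gm S) [IsMonHom φ] (R A : CommRingCat.{u})
    [_root_.IsReduced R] (s : Spec R ⟶ S) (f : R ⟶ A) (x : Over.mk (Spec.map f ≫ s) ⟶ Red.Ga S) :
    x ≫ φ = 1 := by
  let T' : Over S := Over.mk (Spec.map (CommRingCat.ofHom (Polynomial.C (R := R))) ≫ s)
  let X₁ : Γ(T'.left, ⊤) := (Scheme.ΓSpecIso (CommRingCat.of (Polynomial R))).inv Polynomial.X
  let P : T' ⟶ Red.Ga S := GaPts.ptOf X₁
  have hev : ∀ (B : CommRingCat.{u}) (g : R ⟶ B) (b : B), ∃ e : Over.mk (Spec.map g ≫ s) ⟶ T',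
      e.left = Spec.map (CommRingCat.ofHom (Polynomial.eval₂RingHom g.hom b)) := fun B g b => by
    refine ⟨Over.homMk (Spec.map (CommRingCat.ofHom (Polynomial.eval₂RingHom g.hom b))) ?_, rfl⟩
    show Spec.map _ ≫ Spec.map _ ≫ s = Spec.map g ≫ s
    rw [← Category.assoc, ← Spec.map_comp]
    congr 2
    ext r
    simp
  have hnat : ∀ (B : CommRingCat.{u}) (g : CommRingCat.of (Polynomial R) ⟶ B) (p : Polynomial R),
      (Spec.map g).appTop ((Scheme.ΓSpecIso (CommRingCat.of (Polynomial R))).inv p) =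
        (Scheme.ΓSpecIso B).inv (g p) := fun B g p =>
    (congr($(Scheme.ΓSpecIso_inv_naturality g) p)).symm
  let q : Polynomial R := (Scheme.ΓSpecIso (CommRingCat.of (Polynomial R))).hom (Red.gmFn (P ≫ φ))
  have hq : Red.gmFn (P ≫ φ) = (Scheme.ΓSpecIso (CommRingCat.of (Polynomial R))).inv q := by
    simp only [q, Iso.hom_inv_id_apply]
  have hu : IsUnit q := (GmPts.isUnit_gmFn (P ≫ φ)).map _
  have hqc : q = Polynomial.C (q.coeff 0) := Polynomial.eq_C_of_natDegree_eq_zero (by
    by_contra hd
    exact Polynomial.not_isUnit_of_natDegree_pos_of_isReduced q (Nat.pos_of_ne_zero hd) hu)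
  -- evaluate at the origin
  obtain ⟨e₀, he₀⟩ := hev R (𝟙 R) 0
  have h0 : e₀ ≫ P = 1 := by
    refine GaPts.gaFn_injective ?_
    show Red.gaFn _ = Red.gaFn _
    rw [GaPts.gaFn_comp, GaPts.gaFn_ptOf, GaPts.gaFn_one, he₀]
    refine (hnat _ _ _).trans ?_
    simp
  have h0' : q.coeff 0 = 1 := by
    have h1 : e₀ ≫ P ≫ φ = 1 :=
      ((Category.assoc _ _ _).symm.trans (congrArg (· ≫ φ) h0)).trans (MonObj.one_comp φ)
    have h : Red.gmFn (e₀ ≫ P ≫ φ) = 1 := (congrArg Red.gmFn h1).trans GmPts.gmFn_one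
    rw [GmPts.gmFn_comp, hq, he₀] at h
    have h' := congrArg (Scheme.ΓSpecIso R).hom ((hnat _ _ q).symm.trans h)
    simpa [Polynomial.coeff_zero_eq_eval_zero] using h'
  have hP : P ≫ φ = 1 := by
    refine GmPts.gmFn_injective ?_
    show Red.gmFn _ = Red.gmFn _
    rw [GmPts.gmFn_one, hq, hqc, h0', map_one, map_one]
  -- evaluate at the given point
  obtain ⟨e, he⟩ := hev A f ((Scheme.ΓSpecIso A).hom (Red.gaFn x))
  have hx : x = e ≫ P := by
    refine GaPts.gaFn_injective ?_
    show Red.gaFn _ = Red.gaFn _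
    rw [GaPts.gaFn_comp, GaPts.gaFn_ptOf, he]
    refine Eq.trans ?_ (hnat _ _ _).symm
    simp
  rw [hx, Category.assoc, hP, MonObj.comp_one]

end

open CategoryTheory AlgebraicGeometry MonObj CartesianMonoidalCategory in
/-- If S is a reduced scheme, every homomorphism of S-group schemes from the additive group to the
multiplicative group over S is the trivial homomorphism. -/
theorem result (S : Scheme.{u}) [IsReduced S] (φ : Red.Ga S ⟶ Red.Gm S)
    [IsMonHom φ] : φ = 1 := by
  refine Over.OverMorphism.ext (Scheme.Cover.hom_ext ((S.affineOpenCover.openCover).pullback₁ (Red.Ga S).hom) _ _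
    fun i => Scheme.Cover.hom_ext (Scheme.affineOpenCover _).openCover _ _ fun j => ?_)
  let R := S.affineOpenCover.X i
  haveI : AlgebraicGeometry.IsReduced (Spec R) := isReduced_of_isOpenImmersion (S.affineOpenCover.f i)
  haveI : _root_.IsReduced R := (affine_isReduced_iff R).1 inferInstance
  let w := (Scheme.affineOpenCover (Limits.pullback (Red.Ga S).hom (S.affineOpenCover.f i))).f j
  let A := (Scheme.affineOpenCover (Limits.pullback (Red.Ga S).hom (S.affineOpenCover.f i))).X j
  let g : Spec A ⟶ Spec R := w ≫ Limits.pullback.snd (Red.Ga S).hom (S.affineOpenCover.f i)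
  let x : Over.mk (Spec.map (Spec.preimage g) ≫ S.affineOpenCover.f i) ⟶ Red.Ga S :=
    Over.homMk (w ≫ Limits.pullback.fst (Red.Ga S).hom (S.affineOpenCover.f i)) (by
      show (w ≫ _) ≫ _ = Spec.map _ ≫ _
      rw [Spec.map_preimage, Category.assoc, Category.assoc, Limits.pullback.condition])
  have h : x.left ≫ φ.left = x.left ≫ (1 : Red.Ga S ⟶ Red.Gm S).left :=
    congrArg CommaMorphism.left ((comp_eq_one φ R A _ _ x).trans (MonObj.comp_one x).symm)
  exact ((Category.assoc _ _ _).symm.trans h).trans (Category.assoc _ _ _)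

end Groth.Agent.S13371
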